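import Groth.Statements.S13455
import Mathlib.RingTheory.MvPolynomial.Ideal
-- import your own Groth.Agent.* helpers here

set_option autoImplicit false
universe u
open W4c1hilbpn

namespace Groth.Agent.S13455

/-- Let k be an algebraically closed field of characteristic different from 2, k0 ≥ 1 and n ≥ 2k0 - 1
natural numbers, S = k[x_0, ..., x_n], and e1 ≤ e2 ≤ k0 - 1. The ideal generated by all products x_p
x_q with e1 ≤ p, q ≤ e2 together with the products x_p x_{n-k0+1+q} for e1 ≤ p < q ≤ e2 is the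
intersection, over j from e1 to e2, of the ideals generated by the variables x_i with e1 ≤ i ≤ e2
and i ≠ j, the square x_j^2, and the variables x_{n-k0+1+q} for j < q ≤ e2 (a primary decomposition
of this monomial ideal). -/
theorem result (k : Type u) [Field k] [IsAlgClosed k] (hchar : ringChar k ≠ 2)
    (n k0 e1 e2 : ℕ) (hk : 1 ≤ k0) (hn : 2 * k0 ≤ n + 1) (he : e1 ≤ e2) (he2 : e2 + 1 ≤ k0) :
    Ideal.span ({f : MvPolynomial (Fin (n + 1)) k | ∃ p q : Fin (n + 1), e1 ≤ p.val ∧ p.val ≤ e2 ∧ e1 ≤ q.val ∧ q.val ≤ e2 ∧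
        f = MvPolynomial.X p * MvPolynomial.X q} ∪
      {f : MvPolynomial (Fin (n + 1)) k | ∃ p q m : Fin (n + 1), e1 ≤ p.val ∧ p.val < q.val ∧ q.val ≤ e2 ∧
        m.val + k0 = n + 1 + q.val ∧ f = MvPolynomial.X p * MvPolynomial.X m}) =
    ⨅ j : Fin (n + 1), ⨅ (_ : e1 ≤ j.val ∧ j.val ≤ e2),
      Ideal.span ({f : MvPolynomial (Fin (n + 1)) k | ∃ i : Fin (n + 1), e1 ≤ i.val ∧ i.val ≤ e2 ∧ i ≠ j ∧ f = MvPolynomial.X i} ∪
        {MvPolynomial.X j ^ 2} ∪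
        {f : MvPolynomial (Fin (n + 1)) k | ∃ q m : Fin (n + 1), j.val < q.val ∧ q.val ≤ e2 ∧ m.val + k0 = n + 1 + q.val ∧
          f = MvPolynomial.X m}) := by
  classical
  let N := Fin (n + 1) →₀ ℕ
  let SL : Set N := {s | ∃ p q : Fin (n + 1), e1 ≤ p.val ∧ p.val ≤ e2 ∧ e1 ≤ q.val ∧ q.val ≤ e2 ∧
      s = Finsupp.single p 1 + Finsupp.single q 1} ∪
    {s | ∃ p q m : Fin (n + 1), e1 ≤ p.val ∧ p.val < q.val ∧ q.val ≤ e2 ∧ m.val + k0 = n + 1 + q.val ∧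
      s = Finsupp.single p 1 + Finsupp.single m 1}
  let SJ : Fin (n + 1) → Set N := fun j =>
    {s | ∃ i : Fin (n + 1), e1 ≤ i.val ∧ i.val ≤ e2 ∧ i ≠ j ∧ s = Finsupp.single i 1} ∪ {Finsupp.single j 2} ∪
    {s | ∃ q m : Fin (n + 1), j.val < q.val ∧ q.val ≤ e2 ∧ m.val + k0 = n + 1 + q.val ∧ s = Finsupp.single m 1}
  let mon : N → MvPolynomial (Fin (n + 1)) k := fun s => MvPolynomial.monomial s 1
  have hX : ∀ p q : Fin (n + 1), (MvPolynomial.X p * MvPolynomial.X q : MvPolynomial (Fin (n + 1)) k) =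
      mon (Finsupp.single p 1 + Finsupp.single q 1) := fun p q => by
    simp [mon, MvPolynomial.X, MvPolynomial.monomial_mul]
  have hX2 : ∀ j : Fin (n + 1), (MvPolynomial.X j ^ 2 : MvPolynomial (Fin (n + 1)) k) = mon (Finsupp.single j 2) :=
    fun j => MvPolynomial.X_pow_eq_monomial
  have hL : ({f : MvPolynomial (Fin (n + 1)) k | ∃ p q : Fin (n + 1), e1 ≤ p.val ∧ p.val ≤ e2 ∧ e1 ≤ q.val ∧ q.val ≤ e2 ∧
        f = MvPolynomial.X p * MvPolynomial.X q} ∪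
      {f : MvPolynomial (Fin (n + 1)) k | ∃ p q m : Fin (n + 1), e1 ≤ p.val ∧ p.val < q.val ∧ q.val ≤ e2 ∧
        m.val + k0 = n + 1 + q.val ∧ f = MvPolynomial.X p * MvPolynomial.X m}) = mon '' SL := by
    ext f
    constructor
    · rintro (⟨p, q, a, b, c, d, rfl⟩ | ⟨p, q, m, a, b, c, d, rfl⟩)
      · exact ⟨_, Or.inl ⟨p, q, a, b, c, d, rfl⟩, (hX p q).symm⟩
      · exact ⟨_, Or.inr ⟨p, q, m, a, b, c, d, rfl⟩, (hX p m).symm⟩
    · rintro ⟨_, (⟨p, q, a, b, c, d, rfl⟩ | ⟨p, q, m, a, b, c, d, rfl⟩), rfl⟩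
      · exact Or.inl ⟨p, q, a, b, c, d, (hX p q).symm⟩
      · exact Or.inr ⟨p, q, m, a, b, c, d, (hX p m).symm⟩
  have hJ : ∀ j : Fin (n + 1), ({f : MvPolynomial (Fin (n + 1)) k | ∃ i : Fin (n + 1), e1 ≤ i.val ∧ i.val ≤ e2 ∧ i ≠ j ∧ f = MvPolynomial.X i} ∪
        {MvPolynomial.X j ^ 2} ∪
        {f : MvPolynomial (Fin (n + 1)) k | ∃ q m : Fin (n + 1), j.val < q.val ∧ q.val ≤ e2 ∧ m.val + k0 = n + 1 + q.val ∧
          f = MvPolynomial.X m}) = mon '' SJ j := by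
    intro j
    ext f
    constructor
    · rintro ((⟨i, a, b, c, rfl⟩ | rfl) | ⟨q, m, a, b, c, rfl⟩)
      · exact ⟨_, Or.inl (Or.inl ⟨i, a, b, c, rfl⟩), rfl⟩
      · exact ⟨_, Or.inl (Or.inr rfl), (hX2 j).symm⟩
      · exact ⟨_, Or.inr ⟨q, m, a, b, c, rfl⟩, rfl⟩
    · rintro ⟨_, ((⟨i, a, b, c, rfl⟩ | rfl) | ⟨q, m, a, b, c, rfl⟩), rfl⟩
      · exact Or.inl (Or.inl ⟨i, a, b, c, rfl⟩)
      · exact Or.inl (Or.inr (hX2 j).symm)
      · exact Or.inr ⟨q, m, a, b, c, rfl⟩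
  rw [hL]
  simp only [hJ]
  ext x
  simp only [Submodule.mem_iInf, mon]
  constructor
  · intro h j hj
    rw [MvPolynomial.mem_ideal_span_monomial_image] at h ⊢
    intro xi hxi
    obtain ⟨s, hs, hle⟩ := h xi hxi
    rcases hs with ⟨p, q, a, b, c, d, rfl⟩ | ⟨p, q, m, a, b, c, d, rfl⟩
    · rcases eq_or_ne p j with rfl | hp
      · rcases eq_or_ne q p with rfl | hq
        · exact ⟨_, Or.inl (Or.inr rfl), le_trans (le_of_eq (by rw [← Finsupp.single_add])) hle⟩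
        · exact ⟨_, Or.inl (Or.inl ⟨q, c, d, hq, rfl⟩), le_trans le_add_self hle⟩
      · exact ⟨_, Or.inl (Or.inl ⟨p, a, b, hp, rfl⟩), le_trans le_self_add hle⟩
    · rcases eq_or_ne p j with rfl | hp
      · exact ⟨_, Or.inr ⟨q, m, b, c, d, rfl⟩, le_trans le_add_self hle⟩
      · exact ⟨_, Or.inl (Or.inl ⟨p, a, by omega, hp, rfl⟩), le_trans le_self_add hle⟩
  · intro h
    rw [MvPolynomial.mem_ideal_span_monomial_image]
    intro xi hxi
    have key : ∀ j : Fin (n + 1), e1 ≤ j.val → j.val ≤ e2 →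
        (∃ i : Fin (n + 1), e1 ≤ i.val ∧ i.val ≤ e2 ∧ i ≠ j ∧ 1 ≤ xi i) ∨ 2 ≤ xi j ∨
          ∃ q m : Fin (n + 1), j.val < q.val ∧ q.val ≤ e2 ∧ m.val + k0 = n + 1 + q.val ∧ 1 ≤ xi m := by
      intro j h1 h2
      obtain ⟨s, hs, hle⟩ := (MvPolynomial.mem_ideal_span_monomial_image.mp (h j ⟨h1, h2⟩)) xi hxi
      rcases hs with (⟨i, a, b, c, rfl⟩ | rfl) | ⟨q, m, a, b, c, rfl⟩
      · exact Or.inl ⟨i, a, b, c, Finsupp.single_le_iff.mp hle⟩
      · exact Or.inr (Or.inl (Finsupp.single_le_iff.mp hle))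
      · exact Or.inr (Or.inr ⟨q, m, a, b, c, Finsupp.single_le_iff.mp hle⟩)
    have hpair : ∀ a b : Fin (n + 1), a ≠ b → 1 ≤ xi a → 1 ≤ xi b → Finsupp.single a 1 + Finsupp.single b 1 ≤ xi := by
      intro a b hab ha hb i
      simp only [Finsupp.add_apply, Finsupp.single_apply]
      split_ifs with h1 h2 h2
      · exact absurd (h1.trans h2.symm) hab
      · subst h1; simpa using ha
      · subst h2; simpa using hb
      · simp
    have hdouble : ∀ j : Fin (n + 1), e1 ≤ j.val → j.val ≤ e2 → 2 ≤ xi j → ∃ s ∈ SL, s ≤ xi := fun j h1 h2 hj =>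
      ⟨_, Or.inl ⟨j, j, h1, h2, h1, h2, rfl⟩, by rw [← Finsupp.single_add]; exact Finsupp.single_le_iff.mpr hj⟩
    have hone : ∀ j : Fin (n + 1), e1 ≤ j.val → j.val ≤ e2 → 1 ≤ xi j → ∃ s ∈ SL, s ≤ xi := by
      intro j h1 h2 hj
      rcases key j h1 h2 with ⟨i, a, b, c, hi⟩ | hd | ⟨q, m, a, b, c, hm⟩
      · exact ⟨_, Or.inl ⟨i, j, a, b, h1, h2, rfl⟩, hpair i j c hi hj⟩
      · exact hdouble j h1 h2 hd
      · refine ⟨_, Or.inr ⟨j, q, m, h1, a, b, c, rfl⟩, hpair j m ?_ hj hm⟩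
        intro e; subst e; omega
    let j : Fin (n + 1) := ⟨e2, by omega⟩
    rcases key j he le_rfl with ⟨i, a, b, -, hi⟩ | hd | ⟨q, m, a, b, -, -⟩
    · exact hone i a b hi
    · exact hdouble j he le_rfl hd
    · exact absurd b (not_le.mpr a)

end Groth.Agent.S13455
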