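import Groth.Statements.S13456
import Groth.Agent.H1CAlg.FittProj
import Groth.Agent.H7Flat.GenericFreeness
import Mathlib.Algebra.DirectSum.Decomposition
import Mathlib.RingTheory.TensorProduct.Quotient

set_option autoImplicit false
universe u
open W4c1hilbpn

namespace Groth.Agent.S13456

open TensorProduct

variable {A : Type u} [CommRing A] {M : Type u} [AddCommGroup M] [Module A M]

/-- After localising a quotient domain, a module finite over a finite type algebra becomes free. -/
theorem exists_free_localization (R : Type u) [CommRing R] [Algebra A R] [Algebra.FiniteType A R] [Module R M]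
    [IsScalarTower A R M] [Module.Finite R M] (P : Ideal A) [P.IsPrime] :
    ∃ f : A ⧸ P, f ≠ 0 ∧ Module.Free (Localization.Away f) (Localization.Away f ⊗[A] M) := by
  let PR : Ideal R := P.map (algebraMap A R)
  let S := R ⧸ PR
  let M' := M ⧸ (PR • ⊤ : Submodule R M)
  haveI : Algebra.FiniteType A S := Algebra.FiniteType.of_surjective (Ideal.Quotient.mkₐ A PR) Ideal.Quotient.mk_surjective
  haveI : Algebra.FiniteType (A ⧸ P) S := Algebra.FiniteType.of_restrictScalars_finiteType A (A ⧸ P) S
  letI : Module (A ⧸ P) M' := Module.compHom M' (algebraMap (A ⧸ P) S)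
  haveI : IsScalarTower (A ⧸ P) S M' := IsScalarTower.of_algebraMap_smul fun _ _ => rfl
  haveI : IsScalarTower A (A ⧸ P) M' := IsScalarTower.of_algebraMap_smul fun a x => by
    obtain ⟨x, rfl⟩ := Submodule.Quotient.mk_surjective _ x
    show algebraMap (A ⧸ P) S (algebraMap A (A ⧸ P) a) • (Submodule.Quotient.mk x : M') = _
    rw [← IsScalarTower.algebraMap_apply, IsScalarTower.algebraMap_apply A R S]
    show algebraMap R S (algebraMap A R a) • (Submodule.Quotient.mk x : M') = _
    rw [IsScalarTower.algebraMap_smul, IsScalarTower.algebraMap_smul]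
  haveI : Module.Finite R M' := Module.Finite.of_surjective (Submodule.mkQ _) (Submodule.mkQ_surjective _)
  haveI : Module.Finite S M' := Module.Finite.of_restrictScalars_finite R S M'
  obtain ⟨f, hf, haf⟩ := Groth.Agent.H7Flat.exists_isAwayFree_of_finiteType (R := A ⧸ P) S M'
  haveI := haf.free_baseChange
  have hQ : (PR • ⊤ : Submodule R M).restrictScalars A = P • ⊤ := by
    rw [Ideal.smul_restrictScalars, Submodule.restrictScalars_top]
  let e₀ : M' ≃ₗ[A] (A ⧸ P) ⊗[A] M :=
    (Submodule.Quotient.restrictScalarsEquiv A (PR • ⊤ : Submodule R M)).symm ≪≫ₗ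
      Submodule.quotEquivOfEq _ _ hQ ≪≫ₗ (TensorProduct.quotTensorEquivQuotSMul M P).symm
  let e₁ : M' ≃ₗ[A ⧸ P] (A ⧸ P) ⊗[A] M :=
    { e₀ with
      map_smul' := fun a x => by
        obtain ⟨a, rfl⟩ := Ideal.Quotient.mk_surjective a
        show e₀ (algebraMap A (A ⧸ P) a • x) = algebraMap A (A ⧸ P) a • e₀ x
        rw [algebraMap_smul, algebraMap_smul, e₀.map_smul] }
  refine ⟨f, hf, Module.Free.of_equiv ((LinearEquiv.baseChange (A ⧸ P) (Localization.Away f) _ _ e₁).trans
    (TensorProduct.AlgebraTensorModule.cancelBaseChange A (A ⧸ P) (Localization.Away f) (Localization.Away f) M))⟩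

variable [IsNoetherianRing A] (ℳ : ℤ → Submodule A M) [DirectSum.Decomposition ℳ]

/-- The sets of degrees where the Fitting ideals vanish take finitely many values. -/
theorem finite_types (R : Type u) [CommRing R] [Algebra A R] [Algebra.FiniteType A R] [Module R M]
    [IsScalarTower A R M] [Module.Finite R M] (hfg : ∀ v : ℤ, Module.Finite A ↥(ℳ v)) (h : ℤ → ℕ) (I : Ideal A) :
    ((fun p : PrimeSpectrum A => {v : ℤ | Fitt.ideal A ↥(ℳ v) (h v) ≤ p.asIdeal}) ''
      PrimeSpectrum.zeroLocus (I : Set A)).Finite := by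
  haveI := hfg
  classical
  induction I using WellFoundedGT.induction with
  | _ I ih => ?_
  by_cases htop : I = ⊤
  · rw [htop]
    simp
  by_cases hI : I.IsPrime
  · haveI := hI
    obtain ⟨f, hf, hfree⟩ := exists_free_localization (M := M) R I
    obtain ⟨f₀, rfl⟩ := Ideal.Quotient.mk_surjective f
    have hlt : I < I ⊔ Ideal.span {f₀} := lt_of_le_of_ne le_sup_left fun heq => hf
      (Ideal.Quotient.eq_zero_iff_mem.2 (heq.ge (Ideal.mem_sup_right (Ideal.mem_span_singleton_self f₀))))
    let L := Localization.Away (Ideal.Quotient.mk I f₀)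
    haveI : IsDomain L := IsLocalization.isDomain_localization (powers_le_nonZeroDivisors_of_noZeroDivisors hf)
    haveI : PreconnectedSpace (PrimeSpectrum L) := inferInstance
    have hconst : ∀ v : ℤ, (Fitt.ideal A ↥(ℳ v) (h v)).map (algebraMap A L) = ⊤ ∨
        (Fitt.ideal A ↥(ℳ v) (h v)).map (algebraMap A L) = ⊥ := fun v => by
      let π : M →ₗ[A] ↥(ℳ v) :=
        (DirectSum.component A ℤ (fun i => ↥(ℳ i)) v).comp (DirectSum.decomposeLinearEquiv ℳ).toLinearMap
      have hπ : π.comp (ℳ v).subtype = LinearMap.id := LinearMap.ext fun x => by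
        show DirectSum.decompose ℳ (x : M) v = x
        rw [DirectSum.decompose_coe, DirectSum.of_eq_same]
      haveI : Module.Projective L (L ⊗[A] ↥(ℳ v)) :=
        Module.Projective.of_split ((ℳ v).subtype.baseChange L) (π.baseChange L) (by
          rw [← LinearMap.baseChange_comp, hπ, LinearMap.baseChange_id])
      haveI : Module.FinitePresentation A ↥(ℳ v) := Module.finitePresentation_of_finite A _
      have hloc := Module.isLocallyConstant_rankAtStalk (R := L) (M := L ⊗[A] ↥(ℳ v))
      let p₀ : PrimeSpectrum L := Classical.arbitrary _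
      rw [← H29Fitt.ideal_baseChange (h v), H1CAlg.FittProj.ideal_of_projective
        (r := Module.rankAtStalk (L ⊗[A] ↥(ℳ v)) p₀) fun p => hloc.apply_eq_of_preconnectedSpace p p₀]
      split_ifs
      · exact Or.inl rfl
      · exact Or.inr rfl
    refine ((Set.finite_singleton {v : ℤ | (Fitt.ideal A ↥(ℳ v) (h v)).map (algebraMap A L) = ⊥}).union
      (ih _ hlt)).subset ?_
    rintro _ ⟨p, hp, rfl⟩
    by_cases hfp : f₀ ∈ p.asIdeal
    · exact Or.inr ⟨p, sup_le (α := Ideal A) hp ((Ideal.span_singleton_le_iff_mem _).2 hfp), rfl⟩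
    refine Or.inl (Set.ext fun v => ?_)
    obtain ⟨q, hq, hqp⟩ : ∃ q : Ideal L, q.IsPrime ∧ q.comap (algebraMap A L) = p.asIdeal := by
      let p' := p.asIdeal.map (Ideal.Quotient.mk I)
      haveI : p'.IsPrime := Ideal.map_isPrime_of_surjective Ideal.Quotient.mk_surjective
        (by rw [Ideal.mk_ker]; exact hp)
      have hc : p'.comap (Ideal.Quotient.mk I) = p.asIdeal := by
        rw [Ideal.comap_map_of_surjective' _ Ideal.Quotient.mk_surjective, Ideal.mk_ker]
        exact sup_eq_left.2 hp
      have hd : Disjoint (Submonoid.powers (Ideal.Quotient.mk I f₀) : Set (A ⧸ I)) p' :=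
        Set.disjoint_left.2 fun x hx hx' => by
          obtain ⟨n, rfl⟩ := hx
          have h1 : f₀ ∈ p'.comap (Ideal.Quotient.mk I) :=
            Ideal.IsPrime.mem_of_pow_mem (inferInstance : p'.IsPrime) n hx'
          exact hfp (hc.le h1)
      refine ⟨p'.map (algebraMap (A ⧸ I) L), IsLocalization.isPrime_of_isPrime_disjoint _ L p' inferInstance hd, ?_⟩
      rw [IsScalarTower.algebraMap_eq A (A ⧸ I) L, ← Ideal.comap_comap,
        ← Ideal.under_def (A := A ⧸ I), IsLocalization.under_map_of_isPrime_disjoint _ L inferInstance hd]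
      exact hc
    show Fitt.ideal A ↥(ℳ v) (h v) ≤ p.asIdeal ↔ _
    rw [Set.mem_setOf_eq, ← hqp, ← Ideal.map_le_iff_le_comap]
    rcases hconst v with h1 | h1
    · rw [h1, top_le_iff]
      exact iff_of_false hq.ne_top fun h2 => hq.ne_top (top_le_iff.1 (h2.le.trans bot_le))
    · rw [h1]
      simp
  · obtain ⟨x, hx, y, hy, hxy⟩ := (Ideal.not_isPrime_iff.1 hI).resolve_left htop
    refine ((ih (I ⊔ Ideal.span {x}) (lt_of_le_of_ne le_sup_left fun heq => hx
      (heq.ge (Ideal.mem_sup_right (Ideal.mem_span_singleton_self x))))).union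
      (ih (I ⊔ Ideal.span {y}) (lt_of_le_of_ne le_sup_left fun heq => hy
      (heq.ge (Ideal.mem_sup_right (Ideal.mem_span_singleton_self y)))))).subset ?_
    rintro _ ⟨p, hp, rfl⟩
    rcases p.isPrime.mem_or_mem (hp hxy) with h1 | h1
    · exact Or.inl ⟨p, sup_le (α := Ideal A) hp ((Ideal.span_singleton_le_iff_mem _).2 h1), rfl⟩
    · exact Or.inr ⟨p, sup_le (α := Ideal A) hp ((Ideal.span_singleton_le_iff_mem _).2 h1), rfl⟩

open TensorProduct in
/-- Let A be a Noetherian ring, R a finitely generated graded A-algebra (graded by the integers), M a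
finitely generated graded R-module and h a function from the integers to the natural numbers. Then
the functor sending an A-algebra B to the condition 'every graded piece of M ⊗_A B is a finitely
generated locally free B-module of rank h(v)' is represented by a locally closed subscheme of Spec
A: there are ideals a and b of A such that, for every A-algebra B, all B ⊗_A M_v are finitely
generated projective of constant rank h(v) if and only if a generates the zero ideal of B and b
generates the unit ideal of B. (The graded pieces M_v are assumed finitely generated over A, as they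
are when R is positively graded with degree-zero part finite over A; the published setup allows any
finitely generated graded algebra, where graded pieces need not be finitely generated over A. Test
algebras B range over one universe.) -/
theorem result
    (A : Type u) [CommRing A] [IsNoetherianRing A]
    (R : Type u) [CommRing R] [Algebra A R] [Algebra.FiniteType A R]
    (𝒜 : ℤ → Submodule A R) [GradedAlgebra 𝒜]
    (M : Type u) [AddCommGroup M] [Module A M] [Module R M] [IsScalarTower A R M] [Module.Finite R M]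
    (ℳ : ℤ → Submodule A M) [DirectSum.Decomposition ℳ] [SetLike.GradedSMul 𝒜 ℳ]
    (hfg : ∀ v : ℤ, Module.Finite A ↥(ℳ v)) (h : ℤ → ℕ) :
    ∃ a b : Ideal A, ∀ (B : Type u) [CommRing B] [Algebra A B],
      ((∀ v : ℤ, Module.Finite B (B ⊗[A] ↥(ℳ v)) ∧ Module.Projective B (B ⊗[A] ↥(ℳ v)) ∧
          ∀ p : PrimeSpectrum B, Module.rankAtStalk (B ⊗[A] ↥(ℳ v)) p = h v) ↔
        (Ideal.map (algebraMap A B) a = ⊥ ∧ Ideal.map (algebraMap A B) b = ⊤)) := by
  classical
  haveI := hfg
  have hfin := finite_types ℳ R hfg h (⊥ : Ideal A)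
  let c : Set ℤ → ℤ := fun T => if hT : T.Nonempty then hT.some else 0
  let F : Finset ℤ := hfin.toFinset.image c
  have hF : ∀ p : PrimeSpectrum A, ∀ v, Fitt.ideal A ↥(ℳ v) (h v) ≤ p.asIdeal →
      ∃ w ∈ F, Fitt.ideal A ↥(ℳ w) (h w) ≤ p.asIdeal := fun p v hv => by
    have hne : ({w : ℤ | Fitt.ideal A ↥(ℳ w) (h w) ≤ p.asIdeal}).Nonempty := ⟨v, hv⟩
    refine ⟨c {w : ℤ | Fitt.ideal A ↥(ℳ w) (h w) ≤ p.asIdeal}, Finset.mem_image_of_mem c
      (hfin.mem_toFinset.2 ⟨p, bot_le (α := Ideal A), rfl⟩), ?_⟩
    have hc : ∀ T : Set ℤ, T.Nonempty → c T ∈ T := fun T hT => by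
      simp only [c, dif_pos hT]
      exact hT.some_mem
    exact hc _ hne
  let a : Ideal A := ⨆ v, ⨆ k, ⨆ _ : k < h v, Fitt.ideal A ↥(ℳ v) k
  let b : Ideal A := ∏ v ∈ F, Fitt.ideal A ↥(ℳ v) (h v)
  refine ⟨a, b, fun B _ _ => ?_⟩
  have hfp : ∀ v, Module.FinitePresentation B (B ⊗[A] ↥(ℳ v)) := fun v => by
    haveI : Module.FinitePresentation A ↥(ℳ v) := Module.finitePresentation_of_finite A _
    infer_instance
  have key : ∀ v, (Module.Finite B (B ⊗[A] ↥(ℳ v)) ∧ Module.Projective B (B ⊗[A] ↥(ℳ v)) ∧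
        ∀ p : PrimeSpectrum B, Module.rankAtStalk (B ⊗[A] ↥(ℳ v)) p = h v) ↔
      ((∀ k < h v, (Fitt.ideal A ↥(ℳ v) k).map (algebraMap A B) = ⊥) ∧
        (Fitt.ideal A ↥(ℳ v) (h v)).map (algebraMap A B) = ⊤) := fun v => by
    haveI := hfp v
    simp only [← H29Fitt.ideal_baseChange]
    exact ⟨fun ⟨_, h2, h3⟩ => (H1CAlg.FittProj.projective_iff _).1 ⟨h2, h3⟩,
      fun h1 => ⟨inferInstance, (H1CAlg.FittProj.projective_iff _).2 h1⟩⟩
  simp only [key]
  constructor
  · refine fun hall => ⟨?_, ?_⟩
    · rw [eq_bot_iff, Ideal.map_le_iff_le_comap]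
      refine iSup_le fun v => iSup_le fun k => iSup_le fun hk => ?_
      rw [← Ideal.map_le_iff_le_comap, (hall v).1 k hk]
    · rw [show Ideal.map (algebraMap A B) b = ∏ v ∈ F, (Fitt.ideal A ↥(ℳ v) (h v)).map (algebraMap A B) from map_prod (Ideal.mapHom (algebraMap A B)) _ _, Finset.prod_eq_one fun v _ => (hall v).2.trans Ideal.one_eq_top.symm]
      exact Ideal.one_eq_top
  · rintro ⟨ha, hb⟩ v
    refine ⟨fun k hk => eq_bot_iff.2 ((Ideal.map_mono ?_).trans ha.le), ?_⟩
    · exact le_iSup_of_le v (le_iSup_of_le k (le_iSup_of_le hk le_rfl))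
    by_contra hne
    obtain ⟨m, hm, hle⟩ := Ideal.exists_le_maximal _ hne
    obtain ⟨w, hw, hwle⟩ := hF ⟨m.comap (algebraMap A B), Ideal.comap_isPrime _ _⟩ v
      (Ideal.map_le_iff_le_comap.1 hle)
    have hb' : b ≤ m.comap (algebraMap A B) :=
      (Ideal.prod_le_inf.trans (Finset.inf_le hw)).trans hwle
    exact hm.ne_top (top_le_iff.1 (hb.ge.trans (Ideal.map_le_iff_le_comap.2 hb')))

end Groth.Agent.S13456
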