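import Groth.Statements.S13458
import Groth.Agent.H29Omega.StalkCompat
import Groth.Agent.H29Omega.ConormalStalk
import Groth.Agent.H06Unram.OmegaLocFree
import Groth.Agent.H8Props.FormallySmoothScheme
import Groth.Agent.H25Par.CurveLocFree
import Groth.Agent.H26TF1.Basic
import Groth.Agent.H16Derived.KFlat.PerfNoeth
open Groth.Agent Groth.Agent.H06Mod Groth.Agent.H29Omega


set_option autoImplicit false
set_option linter.style.haveILetI false
set_option backward.isDefEq.respectTransparency false
set_option maxHeartbeats 1000000
set_option linter.style.haveILetI false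
set_option backward.isDefEq.respectTransparency false
set_option synthInstance.maxHeartbeats 200000
universe u
open CategoryTheory CategoryTheory.Limits AlgebraicGeometry TopologicalSpace
open SmVar

namespace Groth.Agent.S13458

attribute [local instance] Groth.Agent.H06Mod.stalkAlgebra

theorem isBaseChange_map_of_surjective {R S A B : Type u} [CommRing R] [CommRing S] [CommRing A] [CommRing B]
    [Algebra R S] [Algebra R A] [Algebra R B] [Algebra A B] [Algebra S B] [IsScalarTower R A B]
    [IsScalarTower R S B] [Algebra.FormallyEtale A B] (hs : Function.Surjective (algebraMap R S)) :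
    IsBaseChange B (KaehlerDifferential.map R S A B) := by
  rw [isBaseChange_iff_bijective]
  have h1 := (isBaseChange_iff_bijective (KaehlerDifferential.map R R A B)).1
    (KaehlerDifferential.isBaseChange_of_formallyEtale R A B)
  have hsc : ∀ s : S, KaehlerDifferential.D R B (algebraMap S B s) = 0 := fun s => by
    obtain ⟨r, rfl⟩ := hs s
    rw [← IsScalarTower.algebraMap_apply R S B, Derivation.map_algebraMap]
  let D' : Derivation S B (KaehlerDifferential R B) :=
    { toFun := KaehlerDifferential.D R B
      map_add' := map_add _
      map_smul' := fun s b => by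
        rw [Algebra.smul_def, Derivation.leibniz, hsc, smul_zero, add_zero]
        exact algebraMap_smul B s _
      map_one_eq_zero' := Derivation.map_one_eq_zero _
      leibniz' := Derivation.leibniz _ }
  have h2 : Function.Bijective (KaehlerDifferential.map R S B B) := by
    refine ⟨Function.LeftInverse.injective (g := D'.liftKaehlerDifferential) fun ω => ?_,
      KaehlerDifferential.map_surjective R S B⟩
    have hω : ω ∈ Submodule.span B (Set.range (KaehlerDifferential.D R B)) := by
      rw [KaehlerDifferential.span_range_derivation]; trivial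
    induction hω using Submodule.span_induction with
    | zero => simp
    | add a b _ _ ha hb => simp only [map_add, ha, hb]
    | smul r a _ ha => simp only [map_smul, ha]
    | mem a ha =>
      obtain ⟨t, rfl⟩ := ha
      rw [KaehlerDifferential.map_D, Derivation.liftKaehlerDifferential_comp_D]
      rfl
  have h3 : ((KaehlerDifferential.map R S A B).liftBaseChange B : _ → _) =
      (KaehlerDifferential.map R S B B) ∘ ((KaehlerDifferential.map R R A B).liftBaseChange B) := funext fun z => by
    induction z using TensorProduct.induction_on with
    | zero => simp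
    | add a b ha hb => simp only [map_add, ha, hb, Function.comp_apply]
    | tmul b ω =>
      simp only [Function.comp_apply, LinearMap.liftBaseChange_tmul, map_smul]
      congr 1
      have hω : ω ∈ Submodule.span A (Set.range (KaehlerDifferential.D R A)) := by
        rw [KaehlerDifferential.span_range_derivation]; trivial
      induction hω using Submodule.span_induction with
      | zero => simp
      | add a b _ _ ha hb => simp only [map_add, ha, hb]
      | smul r a _ ha =>
        rw [map_smul, map_smul, ha]
        exact (LinearMap.map_smul_of_tower _ r _).symm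
      | mem a ha =>
        obtain ⟨t, rfl⟩ := ha
        rw [KaehlerDifferential.map_D, KaehlerDifferential.map_D, KaehlerDifferential.map_D]
        rfl
  rw [h3]
  exact h2.comp h1

theorem isFormallySmoothHom_of_smooth {X Y : Scheme.{u}} (f : X ⟶ Y) [Smooth f] :
    MoreMor.IsFormallySmoothHom f :=
  (H8Props.FormallySmoothScheme.isFormallySmoothHom_iff f).2 fun U V hU hV hUV => by
    letI := (f.appLE V U hUV).hom.toAlgebra
    have h := HasRingHomProperty.appLE @Smooth f inferInstance ⟨V, hV⟩ ⟨U, hU⟩ hUV
    haveI : Algebra.Smooth Γ(Y, V) Γ(X, U) := h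
    infer_instance

theorem residue_bijective {R : Type u} [CommRing R] [IsLocalRing R] (h : IsField R) :
    Function.Bijective (IsLocalRing.residue R) :=
  ⟨(injective_iff_map_eq_zero _).2 fun a ha => by
    rw [IsLocalRing.residue_eq_zero_iff, IsLocalRing.isField_iff_maximalIdeal_eq.1 h, Ideal.mem_bot] at ha
    exact ha, IsLocalRing.residue_surjective⟩

theorem formallyEtale_generic {X Y : Scheme.{u}} [IsIntegral X] [IsIntegral Y] (φ : X ⟶ Y)
    (hη : φ.base (genericPoint X) = genericPoint Y)
    (hsep : letI := (φ.residueFieldMap (genericPoint X)).hom.toAlgebra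
      Algebra.IsSeparable (Y.residueField (φ.base (genericPoint X))) (X.residueField (genericPoint X))) :
    letI := (φ.stalkMap (genericPoint X)).hom.toAlgebra
    Algebra.FormallyEtale (Y.presheaf.stalk (φ.base (genericPoint X))) (X.presheaf.stalk (genericPoint X)) := by
  letI := (φ.stalkMap (genericPoint X)).hom.toAlgebra
  letI := (φ.residueFieldMap (genericPoint X)).hom.toAlgebra
  haveI := hsep
  have hX : IsField (X.presheaf.stalk (genericPoint X)) := Field.toIsField X.functionField
  have hY : IsField (Y.presheaf.stalk (φ.base (genericPoint X))) := by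
    rw [hη]; exact Field.toIsField Y.functionField
  letI := hX.toField
  letI := hY.toField
  let eY := RingEquiv.ofBijective (IsLocalRing.residue (Y.presheaf.stalk (φ.base (genericPoint X))))
    (residue_bijective hY)
  let eX := RingEquiv.ofBijective (IsLocalRing.residue (X.presheaf.stalk (genericPoint X))) (residue_bijective hX)
  haveI : Algebra.IsSeparable (Y.presheaf.stalk (φ.base (genericPoint X))) (X.presheaf.stalk (genericPoint X)) := by
    let eY' : Y.residueField (φ.base (genericPoint X)) ≃+* Y.presheaf.stalk (φ.base (genericPoint X)) := eY.symm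
    let eX' : X.residueField (genericPoint X) ≃+* X.presheaf.stalk (genericPoint X) := eX.symm
    refine Algebra.IsSeparable.of_equiv_equiv eY' eX' (RingHom.ext fun a => ?_)
    obtain ⟨b, rfl⟩ := eY.surjective a
    refine eX.injective ?_
    simp only [eX', eY', RingHom.comp_apply, RingHom.coe_coe]
    erw [RingEquiv.symm_apply_apply, RingEquiv.apply_symm_apply]
    rfl
  exact Algebra.FormallyEtale.of_isSeparable _ _


/-- Let k be a field, X and Y integral schemes each smooth over Spec k and of the same dimension, and φ
: X → Y a morphism over k which is dominant and separable: the residue field of X at its generic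
point is a separable algebraic extension of the residue field of Y at the image point (the function
field of Y, as φ is dominant). Let Ω_Y and Ω_X be sheaves of differentials of Y and of X over k,
given as universal derivations, and c : φ^*Ω_Y → Ω_X the compatible map (it sends the pullback of
d_Y s to d_X(φ^♯ s)). Then c is a monomorphism of O_X-modules, so the relative cotangent sequence of
φ is exact on the left as well. (The injectivity is what is stated here; the identification of the
cokernel with Ω_{X/Y} is the general cotangent sequence.) -/
theorem result (k : Type u) [Field k] {X Y : Scheme.{u}}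
    (pX : X ⟶ Spec (CommRingCat.of k)) (pY : Y ⟶ Spec (CommRingCat.of k)) (φ : X ⟶ Y) (w : φ ≫ pY = pX)
    [IsIntegral X] [IsIntegral Y] [Smooth pX] [Smooth pY]
    (hdim : topologicalKrullDim X = topologicalKrullDim Y) (hdom : DenseRange φ.base)
    (hsep : letI := (φ.residueFieldMap (genericPoint X)).hom.toAlgebra
      Algebra.IsSeparable (Y.residueField (φ.base (genericPoint X))) (X.residueField (genericPoint X)))
    (ΩY : Y.Modules) (dY : OmegaSh.Der pY ΩY) (hY : OmegaSh.IsUniversal dY)
    (ΩX : X.Modules) (dX : OmegaSh.Der pX ΩX) (hX : OmegaSh.IsUniversal dX)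
    (c : (Scheme.Modules.pullback φ).obj ΩY ⟶ ΩX) (hc : OmegaSh.IsDiffCompat φ dY dX c) :
    Mono c := by
  haveI : IsLocallyNoetherian X := LocallyOfFiniteType.isLocallyNoetherian pX
  have hfs : MoreMor.IsFormallySmoothHom pY := isFormallySmoothHom_of_smooth pY
  have hflY : FlatMod.IsFinLocFree ΩY := H06Unram.OmegaLocFree.isFinLocFree hfs hY
  have hfl : FlatMod.IsFinLocFree ((Scheme.Modules.pullback φ).obj ΩY) := H16Derived.KFlat.Stalk.isFinLocFree_pullback φ hflY
  set ξ := genericPoint X with hξ
  have hη : φ.base ξ = genericPoint Y := by
    refine ((genericPoint_specializes _).antisymm ?_).eq.symm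
    rw [specializes_iff_mem_closure]
    have h1 : Set.range φ.base ⊆ closure {φ.base ξ} := by
      rintro _ ⟨x, rfl⟩
      exact specializes_iff_mem_closure.1 ((genericPoint_specializes x).map φ.continuous)
    exact (closure_minimal h1 isClosed_closure) (hdom _)
  have hbij : Function.Bijective (stalkLin c ξ) := by
    refine (bijective_stalk_diffCompat_iff (𝟙 _) φ (by rw [w, Category.comp_id]) dY hY dX hX c hc ξ).2 ?_
    letI := (φ.stalkMap ξ).hom.toAlgebra
    haveI : Algebra.FormallyEtale (Y.presheaf.stalk (φ.base ξ)) (X.presheaf.stalk ξ) :=
      formallyEtale_generic φ hη hsep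
    letI : Algebra ((Spec (CommRingCat.of k)).presheaf.stalk (pY.base (φ.base ξ)))
        ((Spec (CommRingCat.of k)).presheaf.stalk (pX.base ξ)) :=
      (baseStalkMap pY pX (𝟙 _) φ (by rw [w, Category.comp_id]) ξ).hom.toAlgebra
    letI : Algebra ((Spec (CommRingCat.of k)).presheaf.stalk (pY.base (φ.base ξ))) (X.presheaf.stalk ξ) :=
      ((φ.stalkMap ξ).hom.comp (pY.stalkMap (φ.base ξ)).hom).toAlgebra
    haveI : IsScalarTower ((Spec (CommRingCat.of k)).presheaf.stalk (pY.base (φ.base ξ)))
      (Y.presheaf.stalk (φ.base ξ)) (X.presheaf.stalk ξ) := .of_algebraMap_eq fun _ => rfl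
    haveI : IsScalarTower ((Spec (CommRingCat.of k)).presheaf.stalk (pY.base (φ.base ξ)))
      ((Spec (CommRingCat.of k)).presheaf.stalk (pX.base ξ)) (X.presheaf.stalk ξ) := .of_algebraMap_eq fun r =>
        (congr($(congrArg CommRingCat.Hom.hom
          (baseStalkMap_comp pY pX (𝟙 _) φ (by rw [w, Category.comp_id]) ξ)) r)).symm
    refine isBaseChange_map_of_surjective ?_
    haveI : IsIso (baseStalkMap pY pX (𝟙 _) φ (by rw [w, Category.comp_id]) ξ) := by
      refine @IsIso.comp_isIso _ _ _ _ _ _ _ ?_ ?_
      · exact ((Spec (CommRingCat.of k)).presheaf.stalkCongr (Inseparable.of_eq (by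
          show pX.base ξ = pY.base (φ.base ξ)
          rw [← w]; rfl))).symm.isIso_hom
      · rw [Scheme.Hom.stalkMap_id]
        exact (Iso.refl ((Spec (CommRingCat.of k)).presheaf.stalk (pX.base ξ))).isIso_hom
    exact (ConcreteCategory.bijective_of_isIso (baseStalkMap pY pX (𝟙 _) φ _ ξ)).2
  have hker : kernel.ι c = 0 := by
    refine H26TF1.eq_zero_of_generic (H16Derived.KFlat.Stalk.isCoh_of_isFinLocFree hfl)
      (H25Par.isTorsionFree_of_locFree hfl) _ fun y hy a => ?_
    rw [genericPoints_eq_singleton, Set.mem_singleton_iff] at hy
    subst hy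
    refine hbij.1 ?_
    rw [← H29Omega.stalkLin_comp, kernel.condition, map_zero]
    obtain ⟨U, hU, t, rfl⟩ := (kernel c).presheaf.exists_germ_eq a
    rw [stalkLin_germ]
    exact map_zero _
  exact Preadditive.mono_of_kernel_zero hker

end Groth.Agent.S13458
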