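-- statement FlatMor.GrothFrozen.S1346 (Groth/Statements/S1346.lean; the theorem FlatMor.isCMAt_of_baseChange_of_flatAt);
import Groth.Statements.S1346
import Groth.Agent.H7Flat.CMFieldExt
import Groth.Agent.H8Props.FibreCriterion

set_option autoImplicit false
universe u
open FlatMor

namespace Groth.Agent.S1346
set_option backward.isDefEq.respectTransparency false

open AlgebraicGeometry CategoryTheory Limits in
/-- Let f have locally Noetherian fibres and let f' be its base change along a morphism locally of
finite type. Given a point x' with image x, flatness of f at x together with the Cohen–Macaulay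
property of f' at x' implies that f is Cohen–Macaulay at x. -/
theorem result {X Y X' Y' : Scheme.{u}} (f : X ⟶ Y) (hN : ∀ y : Y, IsLocallyNoetherian (f.fiber y))
    (f' : X' ⟶ Y') (g' : X' ⟶ X) (g : Y' ⟶ Y) [LocallyOfFiniteType g] (hc : IsPullback g' f' f g) (x' : X')
    (hflat : (f.stalkMap (g' x')).hom.Flat) (h : MoreMor.IsCMAt f' x') : MoreMor.IsCMAt f (g' x') := by
  exact ⟨hflat, (Groth.Agent.H7Flat.CMBC.fibre_cm_baseChange hc x' hN (Or.inr inferInstance)).mp h.2⟩

end Groth.Agent.S1346
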