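import Groth.Statements.S13460
import Mathlib
import Groth.Agent.S3841

set_option autoImplicit false
universe u
open CategoryTheory CategoryTheory.Limits AlgebraicGeometry TopologicalSpace
open WDiv

namespace Groth.Agent.S13460

/-- Let A be a Noetherian integral domain which is a unique factorization domain, and X = Spec A. Then
the divisor class group of X vanishes: every Weil divisor D on X, an integer-valued function on the
points of X with finite support inside the points of coheight 1 (codimension one), is the divisor of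
a nonzero rational function f on X, i.e. the order of vanishing of f at every point x of coheight 1
is D(x). (The published statement assumes only that A is a unique factorization domain; this row
also assumes A Noetherian.) -/
theorem result (A : Type u) [CommRing A] [IsDomain A] [IsNoetherianRing A]
    [UniqueFactorizationMonoid A]
    (D : ↥(Spec (CommRingCat.of A)) → ℤ) (hD : ∀ x, Order.coheight x ≠ 1 → D x = 0) (hfin : {x | D x ≠ 0}.Finite) :
    ∃ f : ↑(Spec (CommRingCat.of A)).functionField, f ≠ 0 ∧
      ∀ x : ↥(Spec (CommRingCat.of A)), Order.coheight x = 1 → Scheme.ord f x = D x := by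
  classical
  refine S3841.fun_of_prime_cycles (X := Spec (CommRingCat.of A)) (fun x₀ hx₀ => ?_) hfin.toFinset D
    (fun x _ hx => hfin.mem_toFinset.2 hx)
  let R := CommRingCat.of A
  let X := Spec R
  let p : Ideal A := x₀.asIdeal
  haveI : p.IsPrime := x₀.2
  have hp0 : p ≠ ⊥ := fun h => by
    have hmax : ∀ y : X, x₀ ≤ y → y ≤ x₀ := fun y hy => by
      refine (?_ : x₀ ⤳ y)
      refine (PrimeSpectrum.le_iff_specializes x₀ y).1 ?_
      show p ≤ _
      rw [h]
      exact bot_le
    rw [Order.coheight_eq_zero.2 hmax] at hx₀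
    exact zero_ne_one hx₀
  obtain ⟨π, hπp, hπ⟩ := (inferInstance : p.IsPrime).exists_mem_prime_of_ne_bot hp0
  haveI : (Ideal.span {π}).IsPrime := (Ideal.span_singleton_prime hπ.ne_zero).2 hπ
  have huniq : ∀ x : X, Order.coheight x = 1 → π ∈ x.asIdeal → x.asIdeal = Ideal.span {π} := fun x hx hmem => by
    by_contra hne
    let q : X := ⟨Ideal.span {π}, inferInstance⟩
    have hqx : q.asIdeal ≤ x.asIdeal := (Ideal.span_singleton_le_iff_mem _).2 hmem
    have hsp : q ⤳ x := (PrimeSpectrum.le_iff_specializes q x).1 hqx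
    have hlt : x < q := lt_of_le_not_ge hsp fun h' =>
      hne (le_antisymm ((PrimeSpectrum.le_iff_specializes x q).2 h') hqx)
    have h0 := Order.coheight_strictAnti hlt (lt_of_le_of_lt (Order.coheight_anti hlt.le) (by rw [hx]; exact ENat.one_lt_top))
    rw [hx, Order.lt_one_iff, Order.coheight_eq_zero] at h0
    have h1 := (PrimeSpectrum.le_iff_specializes q ⟨⊥, Ideal.isPrime_bot⟩).2 (h0
      (show q ≤ (⟨⊥, Ideal.isPrime_bot⟩ : X) from (PrimeSpectrum.le_iff_specializes ⟨⊥, Ideal.isPrime_bot⟩ q).1 bot_le))
    exact hπ.ne_zero (by simpa using h1 (Ideal.mem_span_singleton_self π))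
  let s : Γ(X, ⊤) := (Scheme.ΓSpecIso R).inv π
  haveI : Nonempty ((⊤ : X.Opens) : Scheme.{u}) := ⟨⟨x₀, trivial⟩⟩
  let a : ∀ x : X, X.presheaf.stalk x := fun x => X.presheaf.germ ⊤ x trivial s
  let f : X.functionField := X.germToFunctionField ⊤ s
  have haf : ∀ x, algebraMap (X.presheaf.stalk x) X.functionField (a x) = f := fun x =>
    X.algebraMap_germ_eq_germToFunctionField (U := ⊤) trivial s
  have ha : ∀ x : X, a x ∈ IsLocalRing.maximalIdeal (X.presheaf.stalk x) ↔ π ∈ x.asIdeal := fun x => by
    rw [IsLocalRing.mem_maximalIdeal, mem_nonunits_iff, ← X.mem_basicOpen s x trivial,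
      show X.basicOpen s = PrimeSpectrum.basicOpen π from basicOpen_eq_of_affine (R := R) π]
    exact not_not
  have hf0 : f ≠ 0 := fun h => hπ.ne_zero ((ConcreteCategory.bijective_of_isIso (Scheme.ΓSpecIso R).inv).1
    (by rw [map_zero]; exact Scheme.germToFunctionField_injective (X := X) ⊤ (h.trans (map_zero _).symm)))
  have ha0 : ∀ x, a x ≠ 0 := fun x h => hf0 (by rw [← haf x, h, map_zero])
  have hord : ∀ (x : X) (_ : Order.coheight x = 1) (n : ℕ), Ring.ord (X.presheaf.stalk x) (a x) = n →
      Scheme.ord f x = n := fun x hx n hn => by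
    rw [Scheme.ord_eq_iff hx hf0, ← haf x]
    haveI : Ring.KrullDimLE 1 (X.presheaf.stalk x) := krullDimLE_of_coheight_le hx.le
    exact (Ring.ordFrac_eq_ord _ (ha0 x)).trans
      (Ring.ordMonoidWithZeroHom_eq_coe _ (mem_nonZeroDivisors_of_ne_zero (ha0 x)) hn)
  refine ⟨f, hf0, ?_, fun x hne hx => ?_⟩
  · refine hord x₀ hx₀ 1 ?_
    letI : Algebra A (X.presheaf.stalk x₀) := StructureSheaf.stalkAlgebra A x₀
    haveI : IsLocalization.AtPrime (X.presheaf.stalk x₀) p := StructureSheaf.IsLocalization.to_stalk A x₀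
    have hp : p = Ideal.span {π} := huniq x₀ hx₀ hπp
    have hm := IsLocalization.AtPrime.map_eq_maximalIdeal p (X.presheaf.stalk x₀)
    conv_lhs at hm => rw [hp, Ideal.map_span, Set.image_singleton]
    rw [Ring.ord, show Ideal.span {a x₀} = IsLocalRing.maximalIdeal _ from hm, Nat.cast_one, Module.length_eq_one_iff]
    exact isSimpleModule_iff_isCoatom.2 (IsLocalRing.maximalIdeal.isMaximal _).out
  · refine hord x hx 0 ((Ring.ord_of_isUnit ?_).trans Nat.cast_zero.symm)
    by_contra hu
    have hmem : π ∈ x.asIdeal := (ha x).1 ((IsLocalRing.mem_maximalIdeal _).2 hu)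
    exact hne (PrimeSpectrum.ext ((huniq x hx hmem).trans (huniq x₀ hx₀ hπp).symm))

end Groth.Agent.S13460
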