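import Groth.Statements.S13461
import Groth.Agent.H23Canon4.Quadric

set_option autoImplicit false
universe u
open CategoryTheory CategoryTheory.Limits AlgebraicGeometry TopologicalSpace
open Curves

namespace Groth.Agent.S13461

/-- Let k be a field and X a smooth proper geometrically connected curve over k (proper, smooth and
geometrically connected over k, of dimension one) of genus dim_k H^1(X, O_X) = 4, and let i : X →
P^3_k be a closed immersion over k whose pullback of O(1) is isomorphic to the sheaf of
differentials Ω_{X/k} (X is canonically embedded, hence not hyperelliptic). Then X lies on a quadric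
surface: there is a nonzero global section Q of O_{P^3_k}(2) whose pullback along i is the zero
section of i^*O(2). (The published statement goes on to assert that X is the complete intersection
of such a quadric with a cubic surface; this row states only the existence of the quadric.) -/
theorem result (k : Type u) [Field k] (X : Scheme.{u}) [X.Over (Spec (CommRingCat.of k))]
    [IsProper (X ↘ (Spec (CommRingCat.of k)))] [Smooth (X ↘ (Spec (CommRingCat.of k)))] [GeometricallyConnected (X ↘ (Spec (CommRingCat.of k)))]
    (hdim : topologicalKrullDim X = 1) (hg : Curv2.genus k X = 4)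
    (i : X ⟶ CohB1.ProjSpace 3 k) [IsClosedImmersion i] (hi : i ≫ CohB1.ProjSpace.toSpec 3 k = X ↘ (Spec (CommRingCat.of k)))
    (hcan : Nonempty ((Scheme.Modules.pullback i).obj (Twist.twistProjSpace 3 k 1) ≅ Omega.sheaf (X ↘ (Spec (CommRingCat.of k))))) :
    ∃ Q : Γ(Twist.twistProjSpace 3 k 2, ⊤), Q ≠ 0 ∧
      OmegaSh.pullSect i (Twist.twistProjSpace 3 k 2) ⊤ Q = 0 := by
  exact H23Canon4.exists_quadric k X hdim hg i hi hcan

end Groth.Agent.S13461
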