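import Groth.Statements.S13469
import Groth.Agent.H23Char.Main

set_option autoImplicit false
universe u
open GmDual

namespace Groth.Agent.S13469

open CategoryTheory AlgebraicGeometry MonObj in
/-- Let k be a field and i : H → G a homomorphism of affine commutative k-group schemes of finite type
which is a closed immersion. Then the restriction map Ĝ(k) → Ĥ(k) on characters defined over k
(morphisms of abelian sheaves on the big fppf site of Spec k from the sheaf of points to the
multiplicative group, restricted along i) has finite cokernel: its image is a subgroup of finite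
index. -/
theorem result (k : Type u) [Field k]
    (H G : Over (Spec (CommRingCat.of k))) [GrpObj H] [IsCommMonObj H] [GrpObj G] [IsCommMonObj G]
    [IsAffine H.left] [LocallyOfFiniteType H.hom] [IsAffine G.left] [LocallyOfFiniteType G.hom]
    (i : H ⟶ G) [IsMonHom i] [IsClosedImmersion i.left] :
    (Preadditive.leftComp (CGrpSh2.Gm Scheme.fppfPrecoverage (Spec (CommRingCat.of k)))
      (CGrpSh.ptsMap Scheme.fppfPrecoverage i)).range.FiniteIndex := by
  haveI := H23Char.fg_characters (H := H)
  let U := (Preadditive.leftComp (CGrpSh2.Gm Scheme.fppfPrecoverage (Spec (CommRingCat.of k)))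
    (CGrpSh.ptsMap Scheme.fppfPrecoverage i)).range
  haveI : AddGroup.FG ((CGrpSh.pts Scheme.fppfPrecoverage H ⟶
      CGrpSh2.Gm Scheme.fppfPrecoverage (Spec (CommRingCat.of k))) ⧸ U) :=
    AddGroup.fg_of_surjective (f := QuotientAddGroup.mk' U) (QuotientAddGroup.mk'_surjective U)
  have ht : AddMonoid.IsTorsion ((CGrpSh.pts Scheme.fppfPrecoverage H ⟶
      CGrpSh2.Gm Scheme.fppfPrecoverage (Spec (CommRingCat.of k))) ⧸ U) := fun z => by
    obtain ⟨φ, rfl⟩ := QuotientAddGroup.mk'_surjective U z
    obtain ⟨n, hn, -, ψ, hψ⟩ := H23Char.exists_nsmul_mem_range i φ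
    refine isOfFinAddOrder_iff_nsmul_eq_zero.2 ⟨n, Nat.pos_of_ne_zero hn, ?_⟩
    rw [← map_nsmul, QuotientAddGroup.mk'_apply, QuotientAddGroup.eq_zero_iff]
    exact ⟨ψ, hψ⟩
  haveI := AddCommGroup.finite_of_fg_torsion _ ht
  exact AddSubgroup.finiteIndex_of_finite_quotient

end Groth.Agent.S13469
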