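import Groth.Statements.S1348
import Groth.Agent.H29Slice.Scheme
import Mathlib

set_option autoImplicit false
universe u
open FlatMor

namespace Groth.Agent.S1348

open AlgebraicGeometry CategoryTheory Limits in
/-- Let f be locally of finite presentation and flat at a point x with image s, and let h be an element
of the maximal ideal of the local ring at x whose image in the local ring of the fibre (the local
ring at x modulo the ideal generated by the maximal ideal at s) is a nonzerodivisor. Then there is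
an affine open neighbourhood U of x and a nonzerodivisor of its coordinate ring with germ h at x (so
its zero locus is an effective Cartier divisor of U through x) whose zero scheme is flat and locally
of finite presentation over the base. -/
theorem result {X S : Scheme.{u}} (f : X ⟶ S) [LocallyOfFinitePresentation f] (x : X)
    (hflat : (f.stalkMap x).hom.Flat) (h : X.presheaf.stalk x) (hm : h ∈ IsLocalRing.maximalIdeal (X.presheaf.stalk x))
    (hreg : Ideal.Quotient.mk (Ideal.map (f.stalkMap x).hom (IsLocalRing.maximalIdeal (S.presheaf.stalk (f x)))) h ∈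
      nonZeroDivisors (X.presheaf.stalk x ⧸ Ideal.map (f.stalkMap x).hom (IsLocalRing.maximalIdeal (S.presheaf.stalk (f x))))) :
    ∃ (U : X.Opens) (hU : IsAffineOpen U) (hx : x ∈ U) (h' : Γ(X, U)), X.presheaf.germ U x hx h' = h ∧ h' ∈ nonZeroDivisors Γ(X, U) ∧
      Flat (Spec.map (CommRingCat.ofHom (Ideal.Quotient.mk (Ideal.span {h'}))) ≫ hU.fromSpec ≫ f) ∧
      LocallyOfFinitePresentation (Spec.map (CommRingCat.ofHom (Ideal.Quotient.mk (Ideal.span {h'}))) ≫ hU.fromSpec ≫ f) := by
  obtain ⟨W, hxW, s₀, hs₀⟩ := X.presheaf.exists_germ_eq h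
  obtain ⟨_, ⟨V, hV, rfl⟩, hxV, -⟩ :=
    S.isBasis_affineOpens.exists_subset_of_mem_open (Set.mem_univ (f x)) isOpen_univ
  obtain ⟨_, ⟨U, hU, rfl⟩, hxU, hUle⟩ :=
    X.isBasis_affineOpens.exists_subset_of_mem_open
      (show x ∈ ((f ⁻¹ᵁ V : X.Opens) : Set X) ∩ W ∩ {y : X | (f.stalkMap y).hom.Flat} from ⟨⟨hxV, hxW⟩, hflat⟩)
      (((f ⁻¹ᵁ V).2.inter W.2).inter (H8Props.FlatLocus.isOpen_setOf_flat_stalkMap f))
  have e : U ≤ f ⁻¹ᵁ V := fun y hy => (hUle hy).1.1
  have eW : U ≤ W := fun y hy => (hUle hy).1.2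
  have hfl := H29Slice.flat_appLE_of_flat_stalkMap f hV hU e (fun y hy => (hUle hy).2)
  let s := X.presheaf.map (homOfLE eW).op s₀
  have hs : X.presheaf.germ U x hxU s = h := by
    rw [← hs₀]; exact X.presheaf.germ_res_apply (homOfLE eW) x hxU s₀
  obtain ⟨b, hxb, hnzd, hflq⟩ := H29Slice.exists_slice_scheme f hV hU e hfl x hxU s
    (hs.symm ▸ hm) (hs.symm ▸ hreg)
  let h' := X.presheaf.map (homOfLE (X.basicOpen_le b)).op s
  let eb : X.basicOpen b ≤ f ⁻¹ᵁ V := (X.basicOpen_le b).trans e
  have heq : Spec.map (CommRingCat.ofHom (Ideal.Quotient.mk (Ideal.span {h'}))) ≫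
      (hU.basicOpen b).fromSpec ≫ f =
      Spec.map (CommRingCat.ofHom ((Ideal.Quotient.mk (Ideal.span {h'})).comp
        (f.appLE V (X.basicOpen b) eb).hom)) ≫ hV.fromSpec := by
    rw [← IsAffineOpen.SpecMap_appLE_fromSpec f hV (hU.basicOpen b) eb, ← Spec.map_comp_assoc]
    rfl
  haveI := hV.isOpenImmersion_fromSpec
  refine ⟨X.basicOpen b, hU.basicOpen b, hxb, h', ?_, hnzd, ?_, ?_⟩
  · rw [← hs]; exact X.presheaf.germ_res_apply (homOfLE (X.basicOpen_le b)) x hxb s
  · rw [heq]
    haveI : Flat (Spec.map (CommRingCat.ofHom ((Ideal.Quotient.mk (Ideal.span {h'})).comp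
        (f.appLE V (X.basicOpen b) eb).hom))) := (HasRingHomProperty.Spec_iff (P := @Flat)).mpr hflq
    exact inferInstance
  · rw [heq]
    haveI : LocallyOfFinitePresentation (Spec.map (CommRingCat.ofHom
        ((Ideal.Quotient.mk (Ideal.span {h'})).comp (f.appLE V (X.basicOpen b) eb).hom))) :=
      (HasRingHomProperty.Spec_iff (P := @LocallyOfFinitePresentation)).mpr
        (RingHom.FinitePresentation.comp
          (RingHom.FinitePresentation.of_surjective _ Ideal.Quotient.mk_surjective
            (by rw [Ideal.mk_ker]; exact ⟨{h'}, by simp⟩))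
          (LocallyOfFinitePresentation.finitePresentation_appLE f hV (hU.basicOpen b) eb))
    exact inferInstance

end Groth.Agent.S1348
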