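import Groth.Statements.S13489
import Groth.Agent.H16Derived.DerComp.Scalars

set_option autoImplicit false
universe u
open CategoryTheory CategoryTheory.Limits Opposite
attribute [local instance] HasDerivedCategory.standard
open DerComp

namespace Groth.Agent.S13489

/-- Let phi : O -> O' be a homomorphism of sheaves of rings on a site, I a sheaf of ideals of O and I' =
I O' the sheaf of ideals of O' generated by its image. Then K' in D(O') is derived complete with
respect to I O' if and only if its image under the restriction functor D(O') -> D(O) is derived
complete with respect to I. The restriction functor is the one induced on derived categories by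
restriction of scalars, whose exactness is taken as instance hypotheses. -/
theorem result {C : Type u} [SmallCategory C] {J : GrothendieckTopology C} {O O' : Sheaf J CommRingCat.{u}} (φ : O ⟶ O') (I : DerComp.IdealSh O) (I' : DerComp.IdealSh O') (hI' : DerComp.IsIdealExt φ I I') [PreservesFiniteLimits (SheafOfModules.restrictScalars.{u} ((sheafCompose J (forget₂ CommRingCat.{u} RingCat.{u})).map φ))] [PreservesFiniteColimits (SheafOfModules.restrictScalars.{u} ((sheafCompose J (forget₂ CommRingCat.{u} RingCat.{u})).map φ))] (K' : DerivedCategory (ModSite.Mod O')) : DerComp.IsDerComp O' I' K' ↔ DerComp.IsDerComp O I ((SheafOfModules.restrictScalars.{u} ((sheafCompose J (forget₂ CommRingCat.{u} RingCat.{u})).map φ)).mapDerivedCategory.obj K') := by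
  exact Groth.Agent.H16Derived.DerCompLib.isDerComp_restrictScalars φ I I' hI' K'

end Groth.Agent.S13489
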