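import Groth.Statements.S1349
import Groth.Agent.H7Flat.CMSlice

set_option backward.isDefEq.respectTransparency false

set_option autoImplicit false
universe u
open FlatMor

namespace Groth.Agent.S1349

open AlgebraicGeometry CategoryTheory Limits in
/-- Let f be locally of finite presentation and Cohen–Macaulay at a point x which is closed in its
fibre. Then there are an open neighbourhood V of x and a regular closed immersion i into V whose
image contains x, such that the composite Z ⟶ V ⟶ X ⟶ S is flat, locally of finite presentation and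
locally quasi-finite, and x is the only point of (the image of) Z lying over the image of x. -/
theorem result {X S : Scheme.{u}} (f : X ⟶ S) [LocallyOfFinitePresentation f] (x : X)
    (hcm : MoreMor.IsCMAt f x) (hcl : IsClosed ({f.asFiber x} : Set ↑(f.fiber (f x)))) :
    ∃ (V : X.Opens) (Z : Scheme.{u}) (i : Z ⟶ (V : Scheme.{u})), Mor2.IsRegularClosedImmersion i ∧ x ∈ Set.range ⇑(i ≫ V.ι) ∧
      Flat (i ≫ V.ι ≫ f) ∧ LocallyOfFinitePresentation (i ≫ V.ι ≫ f) ∧ LocallyQuasiFinite (i ≫ V.ι ≫ f) ∧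
      ∀ z : Z, f (V.ι (i z)) = f x → V.ι (i z) = x := by
  let I := Ideal.map (f.stalkMap x).hom (IsLocalRing.maximalIdeal (S.presheaf.stalk (f x)))
  let e := Groth.Agent.H8Props.FibreStalk.asFiberStalkEquiv f x
  haveI hB : LocCoh.IsCohenMacaulayLocalRing (X.presheaf.stalk x ⧸ I) :=
    @Groth.Agent.H8Props.CMAt.isCohenMacaulayLocalRing_of_ringEquiv _ _ _ _ e.symm hcm.2
  obtain ⟨ys, hys, hysm, hysp⟩ := Groth.Agent.H7Flat.CMSlice.exists_regular_sop (X.presheaf.stalk x ⧸ I)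
  obtain ⟨hs, hhs⟩ : ∃ hs : List (X.presheaf.stalk x), hs.map (Ideal.Quotient.mk I) = ys :=
    List.map_surjective_iff.2 Ideal.Quotient.mk_surjective ys
  obtain ⟨U, hU, hxU, hs', hgerm, hrange, hflat, hfp, htr⟩ := Groth.Agent.H8Props.SliceTools.main f x hcm.1 hs (by
    rw [show hs.map (Ideal.Quotient.mk (Ideal.map (f.stalkMap x).hom
      (IsLocalRing.maximalIdeal (S.presheaf.stalk (f x))))) = ys from hhs]
    refine ⟨hys, fun h => ?_⟩
    rw [smul_eq_mul, Ideal.mul_top] at h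
    exact (IsLocalRing.maximalIdeal.isMaximal (X.presheaf.stalk x ⧸ I)).ne_top
      (top_le_iff.1 (h.le.trans (Ideal.span_le.2 hysm))))
  let sp := Spec.map (CommRingCat.ofHom (Ideal.Quotient.mk (Ideal.ofList hs')))
  haveI : IsClosedImmersion sp := IsClosedImmersion.spec_of_surjective _ Ideal.Quotient.mk_surjective
  let i₀ := sp ≫ hU.isoSpec.inv
  have hi₀ : Mor2.IsRegularClosedImmersion i₀ := by
    have h := Groth.Agent.H8Props.SliceTools.isRegularClosedImmersion_of (Iso.refl _) i₀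
      (fun z => Groth.Agent.H29Slice.isRegularImmersionAt_of_transReg (U.ι ≫ f) _ z (htr z))
    rwa [Iso.refl_hom, Category.id_comp] at h
  haveI : IsClosedImmersion i₀ := hi₀.1
  have hio : i₀ ≫ U.ι = sp ≫ hU.fromSpec := by
    show (sp ≫ hU.isoSpec.inv) ≫ U.ι = _
    rw [Category.assoc, hU.isoSpec_inv_ι]
  let g := i₀ ≫ U.ι ≫ f
  have hg : g = sp ≫ hU.fromSpec ≫ f := by
    show i₀ ≫ U.ι ≫ f = _
    rw [← Category.assoc, hio, Category.assoc]
  haveI : Flat g := hg ▸ hflat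
  haveI : LocallyOfFinitePresentation g := hg ▸ hfp
  obtain ⟨z₀, hz₀⟩ : ∃ z₀, U.ι (i₀ z₀) = x := by
    obtain ⟨z₀, h⟩ := hrange
    exact ⟨z₀, by rw [← Scheme.Hom.comp_apply, hio]; exact h⟩
  have hgz : g z₀ = f x := by
    show f (U.ι (i₀ z₀)) = f x
    rw [hz₀]
  -- only the centre lies over the base point near it
  have hP : ∀ P : Ideal (X.presheaf.stalk x), P.IsPrime → I ≤ P →
      (∀ a ∈ hs', X.presheaf.germ U x hxU a ∈ P) → P = IsLocalRing.maximalIdeal _ := by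
    intro P hPp hIP hmem
    haveI := hPp
    have hh : P.map (Ideal.Quotient.mk I) = IsLocalRing.maximalIdeal _ := by
      refine hysp _ (Ideal.map_isPrime_of_surjective Ideal.Quotient.mk_surjective (by rw [Ideal.mk_ker]; exact hIP))
        (Ideal.span_le.2 fun b hb => ?_)
      rw [← hhs, ← hgerm] at hb
      simp only [List.mem_map, List.map_map] at hb
      obtain ⟨a, ha, rfl⟩ := hb
      exact Ideal.mem_map_of_mem _ (hmem a ha)
    have h2 := congrArg (Ideal.comap (Ideal.Quotient.mk I)) hh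
    rw [Ideal.comap_map_of_surjective _ Ideal.Quotient.mk_surjective, ← RingHom.ker_eq_comap_bot, Ideal.mk_ker,
      sup_eq_left.2 hIP] at h2
    haveI := Ideal.comap_isMaximal_of_surjective (Ideal.Quotient.mk I) Ideal.Quotient.mk_surjective
      (K := IsLocalRing.maximalIdeal (X.presheaf.stalk x ⧸ I))
    exact h2.trans (IsLocalRing.eq_maximalIdeal inferInstance)
  have hspec : ∀ z, g z = f x → U.ι (i₀ z) ⤳ x → z = z₀ := by
    intro z hz hsp
    refine (i₀ ≫ U.ι).isEmbedding.injective ?_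
    show U.ι (i₀ z) = U.ι (i₀ z₀)
    rw [hz₀]
    have hzi : U.ι (i₀ z) = hU.fromSpec (sp z) := by
      rw [← Scheme.Hom.comp_apply, hio, Scheme.Hom.comp_apply]
      rfl
    rw [hzi] at hsp ⊢
    refine Groth.Agent.H7Flat.CMSlice.eq_of_specializes f x hU hxU hs' hP _ (fun a ha => ?_) hsp
      (by rw [← hzi]; exact hz)
    show Ideal.Quotient.mk (Ideal.ofList hs') a ∈ z.asIdeal
    rw [Ideal.Quotient.eq_zero_iff_mem.2 (Ideal.subset_span (s := {r | r ∈ hs'}) ha)]
    exact zero_mem _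
  -- the centre is isolated in its fibre
  have hxc : IsClosed (Subtype.val ⁻¹' {x} : Set ↥(f ⁻¹' {f x})) := by
    have h := hcl.preimage (f.fiberHomeo (f x)).symm.continuous
    convert h using 1
    ext a
    simp only [Set.mem_preimage, Set.mem_singleton_iff, Scheme.Hom.asFiber, (f.fiberHomeo (f x)).symm.injective.eq_iff,
      Subtype.ext_iff]
  let ψ : ↥(g ⁻¹' {g z₀}) → ↥(f ⁻¹' {f x}) := fun a => ⟨U.ι (i₀ a.1), (show g a.1 = f x from a.2.trans hgz)⟩
  have hψ : Continuous ψ := by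
    exact ((U.ι.continuous.comp i₀.continuous).comp continuous_subtype_val).subtype_mk _
  have hqf : g.QuasiFiniteAt z₀ := by
    rw [Groth.Agent.H17.quasiFiniteAt_iff_isClosed_and_max]
    constructor
    · have h := (hxc.preimage hψ).preimage (g.fiberHomeo (g z₀)).continuous
      convert h using 1
      ext a
      simp only [Set.mem_preimage, Set.mem_singleton_iff, ψ]
      constructor
      · rintro rfl
        simp [Scheme.Hom.asFiber, hz₀]
      · intro ha
        refine (g.fiberHomeo (g z₀)).injective (Subtype.ext ?_)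
        simp only [Scheme.Hom.asFiber, Homeomorph.apply_symm_apply]
        refine hspec _ ((g.fiberHomeo (g z₀) a).2.trans hgz) ?_
        exact (show U.ι (i₀ _) = x from ha) ▸ specializes_rfl
    · intro a ha
      refine (g.fiberHomeo (g z₀)).injective (Subtype.ext ?_)
      simp only [Scheme.Hom.asFiber, Homeomorph.apply_symm_apply]
      refine hspec _ ((g.fiberHomeo (g z₀) a).2.trans hgz) ?_
      have h1 := ((ha.map (g.fiberHomeo (g z₀)).continuous).map continuous_subtype_val).map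
        (i₀ ≫ U.ι).continuous
      simp only [Scheme.Hom.asFiber, Homeomorph.apply_symm_apply, Scheme.Hom.comp_apply, hz₀] at h1
      exact h1
  have hiso : IsOpen (Subtype.val ⁻¹' {z₀} : Set ↥(g ⁻¹' {g z₀})) := by
    have h := (Scheme.Hom.quasiFiniteAt_iff_isOpen_singleton_asFiber.1 hqf).preimage
      (g.fiberHomeo (g z₀)).symm.continuous
    convert h using 1
    ext a
    simp only [Set.mem_preimage, Set.mem_singleton_iff, Scheme.Hom.asFiber,
      (g.fiberHomeo (g z₀)).symm.injective.eq_iff, Subtype.ext_iff]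
  obtain ⟨O, hO, hOeq⟩ := isOpen_induced_iff.1 hiso
  obtain ⟨T, hT, hTeq⟩ := i₀.isEmbedding.isInducing.isOpen_iff.1 (hO.inter g.quasiFiniteLocus.2)
  have hz₀T : i₀ z₀ ∈ T := by
    show z₀ ∈ i₀ ⁻¹' T
    rw [hTeq]
    exact ⟨(Set.ext_iff.1 hOeq ⟨z₀, rfl⟩).2 rfl, hqf⟩
  let V : X.Opens := U.ι ''ᵁ ⟨T, hT⟩
  have hVU : V ≤ U := by
    rintro y ⟨a, -, rfl⟩
    exact a.2
  have hpre : U.ι ⁻¹ᵁ V = ⟨T, hT⟩ := U.ι.preimage_image_eq _
  let e' : ((U.ι ⁻¹ᵁ V : U.toScheme.Opens) : Scheme.{u}) ≅ (V : Scheme.{u}) :=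
    U.ι.isoImage _ ≪≫ X.isoOfEq (by rw [hpre])
  have he' : e'.hom ≫ V.ι = (U.ι ⁻¹ᵁ V).ι ≫ U.ι := by simp [e']
  let W := i₀ ⁻¹ᵁ (U.ι ⁻¹ᵁ V)
  let i := (i₀ ∣_ (U.ι ⁻¹ᵁ V)) ≫ e'.hom
  have hi : i ≫ V.ι = W.ι ≫ i₀ ≫ U.ι := by
    show ((i₀ ∣_ (U.ι ⁻¹ᵁ V)) ≫ e'.hom) ≫ V.ι = _
    rw [Category.assoc, he', morphismRestrict_ι_assoc]
  have hW : ∀ w : W.toScheme, W.ι w ∈ O ∩ (g.quasiFiniteLocus : Set _) := by
    intro w
    show W.ι w ∈ O ∩ g.quasiFiniteLocus.carrier
    rw [← hTeq]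
    have h : i₀ w.1 ∈ U.ι ⁻¹ᵁ V := w.2
    rw [hpre] at h
    exact h
  have hif : i ≫ V.ι ≫ f = W.ι ≫ g := by
    rw [reassoc_of% hi]
  refine ⟨V, W.toScheme, i, ?_, ?_, ?_, ?_, ?_, fun z hz => ?_⟩
  · have h := Groth.Agent.H7Flat.CMSlice.isRegularClosedImmersion_restrict i₀ hi₀ (U.ι ⁻¹ᵁ V)
    have h' := Groth.Agent.H11Div.isRegularClosedImmersion_comp (i₀ ∣_ (U.ι ⁻¹ᵁ V)) e'.hom h
      (Groth.Agent.H7Flat.CMSlice.isRegularClosedImmersion_of_isIso e'.hom)
    exact h'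
  · refine ⟨⟨z₀, by show i₀ z₀ ∈ U.ι ⁻¹ᵁ V; rw [hpre]; exact hz₀T⟩, ?_⟩
    rw [hi]
    exact hz₀
  · rw [hif]; infer_instance
  · rw [hif]; infer_instance
  · rw [hif]
    exact (W.ι ≫ g).quasiFiniteLocus_eq_top_iff.1 (eq_top_iff.2 fun w _ =>
      Scheme.Hom.quasiFiniteAt_comp_iff_of_isOpenImmersion.2 (hW w).2)
  · have h1 : g (W.ι z) = g z₀ := by
      rw [hgz, ← Scheme.Hom.comp_apply, ← hif]
      exact hz
    have h2 : W.ι z = z₀ := (Set.ext_iff.1 hOeq ⟨W.ι z, h1⟩).1 (hW z).1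
    show V.ι (i z) = x
    rw [← Scheme.Hom.comp_apply, hi, Scheme.Hom.comp_apply, Scheme.Hom.comp_apply, h2, hz₀]

end Groth.Agent.S1349
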