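import Groth.Statements.S13499
import Groth.Agent.H9GalCoh.Killing
import Mathlib
-- import your own Groth.Agent.* helpers here

set_option autoImplicit false
universe u
open CategoryTheory CategoryTheory.Limits AlgebraicGeometry Opposite
open GalCoh

namespace Groth.Agent.S13499

theorem isIso_nsmul_constQ (X : Scheme.{u}) (n : ℕ) (hn : 0 < n) : IsIso (n • 𝟙 (EtCoh.const X ℚ)) := by
  let C := constantSheaf X.smallEtaleTopology AddCommGrpCat.{u + 1}
  let Q := AddCommGrpCat.of (ULift.{u + 1} ℚ)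
  haveI : IsIso (n • 𝟙 Q) := by
    rw [ConcreteCategory.isIso_iff_bijective]
    have h : ∀ x : ULift.{u + 1} ℚ, (n • 𝟙 Q) x = n • x := fun x => rfl
    refine ⟨fun x y hxy => ULift.ext _ _ ?_, fun y => ⟨ULift.up (y.down / n), (h _).trans (ULift.ext _ _ ?_)⟩⟩
    · rw [h, h] at hxy
      have := congrArg ULift.down hxy
      simpa [hn.ne'] using this
    · have hn' : (n : ℚ) ≠ 0 := Nat.cast_ne_zero.2 hn.ne'
      show n • (y.down / n) = y.down
      rw [nsmul_eq_mul]
      field_simp
  have : C.map (n • 𝟙 Q) = n • 𝟙 (EtCoh.const X ℚ) := by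
    rw [Functor.map_nsmul, CategoryTheory.Functor.map_id]
  rw [← this]
  infer_instance

/-- For a field k and i ≥ 2 there is an isomorphism between H^i(Spec k, Z) and H^{i-1}(Spec k, Q/Z),
étale cohomology of Spec k with coefficients in the constant sheaves Z and Q/Z (existence of an
additive isomorphism only; the published statement is for an arbitrary profinite group with trivial
action and identifies the two groups through the boundary map of 0 → Z → Q → Q/Z → 0). -/
theorem result (k : Type u) [Field k] (i : ℕ) (hi : 2 ≤ i) :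
    Nonempty (EtCoh.H (Spec (CommRingCat.of k)) (EtCoh.const (Spec (CommRingCat.of k)) ℤ) i ≃+
      EtCoh.H (Spec (CommRingCat.of k))
        (EtCoh.const (Spec (CommRingCat.of k)) (ℚ ⧸ AddSubgroup.zmultiples (1 : ℚ))) (i - 1)) := by
  classical
  haveI : PreservesFiniteLimits (constantSheaf (Spec (CommRingCat.of k)).smallEtaleTopology AddCommGrpCat.{u + 1}) :=
    inferInstanceAs (PreservesFiniteLimits (Functor.const _ ⋙ presheafToSheaf _ _))
  haveI : PreservesFiniteColimits (constantSheaf (Spec (CommRingCat.of k)).smallEtaleTopology AddCommGrpCat.{u + 1}) :=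
    inferInstanceAs (PreservesFiniteColimits (Functor.const _ ⋙ presheafToSheaf _ _))
  let π : ℚ →+ ℚ ⧸ AddSubgroup.zmultiples (1 : ℚ) := QuotientAddGroup.mk' _
  let f : AddCommGrpCat.of (ULift.{u + 1} ℤ) ⟶ AddCommGrpCat.of (ULift.{u + 1} ℚ) :=
    AddCommGrpCat.ofHom (AddEquiv.ulift.symm.toAddMonoidHom.comp ((Int.castAddHom ℚ).comp AddEquiv.ulift.toAddMonoidHom))
  let g : AddCommGrpCat.of (ULift.{u + 1} ℚ) ⟶ AddCommGrpCat.of (ULift.{u + 1} (ℚ ⧸ AddSubgroup.zmultiples (1 : ℚ))) :=
    AddCommGrpCat.ofHom (AddEquiv.ulift.symm.toAddMonoidHom.comp (π.comp AddEquiv.ulift.toAddMonoidHom))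
  have hfg : f ≫ g = 0 := AddCommGrpCat.hom_ext (AddMonoidHom.ext fun x => ULift.ext _ _
    ((QuotientAddGroup.eq_zero_iff _).2 (AddSubgroup.mem_zmultiples_iff.2 ⟨x.down, zsmul_one _⟩)))
  let S₀ := ShortComplex.mk f g hfg
  have hS₀ : S₀.ShortExact :=
    { exact := by
        rw [ShortComplex.ab_exact_iff]
        intro y hy
        obtain ⟨n, hn⟩ := AddSubgroup.mem_zmultiples_iff.1 ((QuotientAddGroup.eq_zero_iff _).1 (congrArg ULift.down hy))
        exact ⟨ULift.up n, ULift.ext _ _ ((zsmul_one n).symm.trans hn)⟩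
      mono_f := (AddCommGrpCat.mono_iff_injective _).2 fun x y h => ULift.ext _ _ (Int.cast_injective (congrArg ULift.down h))
      epi_g := (AddCommGrpCat.epi_iff_surjective _).2 fun y => by
        obtain ⟨q, hq⟩ := QuotientAddGroup.mk'_surjective _ y.down
        exact ⟨ULift.up q, ULift.ext _ _ hq⟩ }
  have hS := hS₀.map_of_exact (constantSheaf (Spec (CommRingCat.of k)).smallEtaleTopology AddCommGrpCat.{u + 1})
  have hvan : ∀ j, 0 < j → Subsingleton (EtCoh.H (Spec (CommRingCat.of k)) (EtCoh.const (Spec (CommRingCat.of k)) ℚ) j) :=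
    fun j hj => Groth.Agent.H9GalCoh.Killing.subsingleton_of_uniquelyDivisible _ (isIso_nsmul_constQ _) j hj
  let δ : EtCoh.H (Spec (CommRingCat.of k)) (EtCoh.const (Spec (CommRingCat.of k)) (ℚ ⧸ AddSubgroup.zmultiples (1 : ℚ))) (i - 1) →+
      EtCoh.H (Spec (CommRingCat.of k)) (EtCoh.const (Spec (CommRingCat.of k)) ℤ) i :=
    AddMonoidHom.mk' (fun e => e.comp hS.extClass (by omega)) fun a b => Abelian.Ext.add_comp _ _ _ _
  refine ⟨(AddEquiv.ofBijective δ ⟨(injective_iff_map_eq_zero δ).2 fun x hx => ?_, fun y => ?_⟩).symm⟩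
  · obtain ⟨z, rfl⟩ := Abelian.Ext.covariant_sequence_exact₃ _ hS x (by omega) hx
    haveI : Subsingleton (Abelian.Ext _ (S₀.map (constantSheaf (Spec (CommRingCat.of k)).smallEtaleTopology AddCommGrpCat.{u + 1})).X₂ (i - 1)) := hvan (i - 1) (by omega)
    exact (congrArg (fun t => Abelian.Ext.comp t (Abelian.Ext.mk₀ _) (add_zero (i - 1))) (Subsingleton.elim z 0)).trans
      (Abelian.Ext.zero_comp _ _ _ _ _)
  · haveI : Subsingleton (Abelian.Ext _ (S₀.map (constantSheaf (Spec (CommRingCat.of k)).smallEtaleTopology AddCommGrpCat.{u + 1})).X₂ i) := hvan i (by omega)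
    obtain ⟨x, hx⟩ := Abelian.Ext.covariant_sequence_exact₁ _ hS y (Subsingleton.elim _ _) (show (i - 1) + 1 = i by omega)
    exact ⟨x, hx⟩

end Groth.Agent.S13499
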