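import Groth.Statements.S13501
import Groth.Agent.H18Et.Cons.TorsionColim
import Groth.Agent.S0134

set_option autoImplicit false
universe u
open CategoryTheory CategoryTheory.Limits AlgebraicGeometry Opposite
open EtPBC

namespace Groth.Agent.S13501

/-- Let X be a quasi-compact and quasi-separated scheme and F a torsion abelian sheaf on X_et. If Hom(F,
-) commutes with filtered colimits (of shape any small filtered category in the universe of the
sheaf category's morphisms), then F is constructible. This is the converse of the compactness of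
constructible sheaves. -/
theorem result (X : Scheme.{u}) [CompactSpace X]
    [QuasiSeparatedSpace X] (F : EtCoh.Ab X) (hF : EtCoh.IsTorsion F)
    (hc : ∀ (J : Type (u + 1)) [SmallCategory J] [IsFiltered J],
      PreservesColimitsOfShape J (coyoneda.obj (op F))) :
    EtPBC.IsConstructible F := by
  obtain ⟨J, _, _, D, c, hcol, hD, ⟨e⟩⟩ := Groth.Agent.S0134.result X F hF
  haveI := hc J
  obtain ⟨j, s, hs⟩ := Types.jointly_surjective_of_isColimit
    (isColimitOfPreserves (coyoneda.obj (op F)) hcol) e.inv
  change s ≫ c.ι.app j = e.inv at hs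
  have hr : s ≫ (c.ι.app j ≫ e.hom) = 𝟙 F :=
    (Category.assoc _ _ _).symm.trans ((congrArg (· ≫ e.hom) hs).trans e.inv_hom_id)
  let r : D.obj j ⟶ F := c.ι.app j ≫ e.hom
  let φ : D.obj j ⟶ D.obj j := 𝟙 _ - r ≫ s
  have hsφ : s ≫ φ = 0 := by
    rw [Preadditive.comp_sub, Category.comp_id, ← Category.assoc, hr, Category.id_comp, sub_self]
  refine Groth.Agent.H18Et.Cons.isConstructible_of_iso
    { hom := kernel.ι φ ≫ r
      inv := kernel.lift φ s hsφ
      hom_inv_id := ?_
      inv_hom_id := by rw [kernel.lift_ι_assoc, hr] }
    (Groth.Agent.H18Et.Cons.isConstructible_kernel_cokernel φ (hD j) (hD j)).1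
  rw [← cancel_mono (kernel.ι φ), Category.assoc, Category.assoc, kernel.lift_ι, Category.id_comp]
  have h := kernel.condition φ
  rw [Preadditive.comp_sub, Category.comp_id, sub_eq_zero] at h
  exact h.symm

end Groth.Agent.S13501
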