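import Groth.Statements.S13504
import Groth.Agent.S0134
import Groth.Agent.H18Et.Coh.SkyEmbed
import Groth.Agent.H18Et.Cons.Compact

set_option autoImplicit false
universe u
open CategoryTheory CategoryTheory.Limits AlgebraicGeometry
open EtPBC

namespace Groth.Agent.S13504

/-- Let X be a quasi-compact and quasi-separated scheme. For every constructible abelian sheaf F on the
small étale site of X, every q > 0 and every class α in H^q(X, F) there are a constructible abelian
sheaf G and a monomorphism u : F → G such that H^q(u) sends α to 0. -/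
theorem result (X : Scheme.{u}) [CompactSpace X] [QuasiSeparatedSpace X]
    (F : EtCoh.Ab X) (hF : EtPBC.IsConstructible F) (q : ℕ) (hq : 0 < q) (α : EtCoh.H X F q) :
    ∃ (G : EtCoh.Ab X) (u : F ⟶ G), EtPBC.IsConstructible G ∧ Mono u ∧
      (EtCoh.HF X q).map u α = 0 := by
  obtain ⟨n, hn0, hn⟩ := Groth.Agent.H18Et.Cons.exists_killedBy F hF
  obtain ⟨K, a, _, hK, hacyc⟩ := Groth.Agent.H18Et.SkyEmbed.exists_mono_killed_acyclic F hn
  have hKt : EtCoh.IsTorsion K := fun U s x => ⟨U, 𝟙 U, ⟨x, rfl⟩,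
    isOfFinAddOrder_iff_nsmul_eq_zero.2 ⟨n, Nat.pos_of_ne_zero hn0.out, hK U _⟩⟩
  obtain ⟨J, _, _, D, c, hc, hD, ⟨e⟩⟩ := Groth.Agent.S0134.result X K hKt
  haveI := Groth.Agent.H18Et.Cons.preservesColimitsOfShape_coyoneda (J := J) F hF
  obtain ⟨j, v, hv⟩ := Types.jointly_surjective_of_isColimit
    (isColimitOfPreserves (coyoneda.obj (Opposite.op F)) hc) (a ≫ e.inv)
  change v ≫ c.ι.app j = a ≫ e.inv at hv
  haveI := Groth.Agent.H18Et.CohColim.preservesColimitsOfShape_HF (X := X) (J := J) q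
  let G := EtCoh.HF X q
  let α' : G.obj F := α
  obtain ⟨q, rfl⟩ := Nat.exists_eq_succ_of_ne_zero hq.ne'
  have h0 : G.map a α' = 0 := (hacyc q).elim _ _
  have h1 : (G.mapCocone c).ι.app j (G.map v α') = (G.mapCocone c).ι.app j (G.map (0 : F ⟶ D.obj j) α') := by
    refine Eq.trans (b := 0) ?_ ?_
    · refine (ConcreteCategory.comp_apply (G.map v) (G.map (c.ι.app j)) α').symm.trans ?_
      rw [← Functor.map_comp, hv, Functor.map_comp, ConcreteCategory.comp_apply, h0, map_zero]
    · refine Eq.symm ?_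
      refine (congrArg _ ?_).trans (map_zero _)
      change Sheaf.H.map (0 : F ⟶ D.obj j) (q + 1) α = 0
      rw [Sheaf.H.map_apply, Abelian.Ext.mk₀_zero, Abelian.Ext.comp_zero]
  obtain ⟨k, f, g, hfg⟩ := Concrete.isColimit_exists_of_rep_eq _ (isColimitOfPreserves G hc) _ _ h1
  refine ⟨D.obj k, v ≫ D.map f, hD k, ?_, ?_⟩
  · haveI : Mono ((v ≫ D.map f) ≫ c.ι.app k) := by
      rw [Category.assoc, c.w, hv]
      infer_instance
    exact mono_of_mono _ (c.ι.app k)
  · change G.map (v ≫ D.map f) α' = 0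
    rw [Functor.map_comp, ConcreteCategory.comp_apply]
    refine hfg.trans ((congrArg _ ?_).trans (map_zero _))
    change Sheaf.H.map (0 : F ⟶ D.obj j) (q + 1) α = 0
    rw [Sheaf.H.map_apply, Abelian.Ext.mk₀_zero, Abelian.Ext.comp_zero]

end Groth.Agent.S13504
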