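import Groth.Statements.S13506
import Groth.Agent.H9Hens.ProperPairApps
-- import your own Groth.Agent.* helpers here

set_option autoImplicit false
universe u
open CategoryTheory CategoryTheory.Limits AlgebraicGeometry
open Hensel

namespace Groth.Agent.S13506

/-- Let A be a Noetherian ring which is complete for the adic topology of an ideal I, f : X → Spec A
proper and X_0 = X ×_{Spec A} Spec (A/I). Then the projection X_0 → X induces a bijection from the
connected components of X_0 to the connected components of X. -/
theorem result (A : Type u) [CommRing A]
    [IsNoetherianRing A] (I : Ideal A) [IsAdicComplete I A] {X : Scheme.{u}}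
    (f : X ⟶ Spec (CommRingCat.of A)) [IsProper f] :
    Function.Bijective
      (Continuous.connectedComponentsMap
        (pullback.fst f (Spec.map (CommRingCat.ofHom (Ideal.Quotient.mk I)))).continuous) := by
  haveI : IsClosedImmersion (Spec.map (CommRingCat.ofHom (Ideal.Quotient.mk I))) :=
    IsClosedImmersion.spec_of_surjective _ Ideal.Quotient.mk_surjective
  haveI : IsLocallyNoetherian X := LocallyOfFiniteType.isLocallyNoetherian f
  haveI : CompactSpace X := QuasiCompact.compactSpace_of_compactSpace f
  haveI : IsNoetherian X := { }
  haveI : TopologicalSpace.NoetherianSpace ↥(pullback f (Spec.map (CommRingCat.ofHom (Ideal.Quotient.mk I)))) :=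
    (pullback.fst f (Spec.map (CommRingCat.ofHom (Ideal.Quotient.mk I)))).isEmbedding.isInducing.noetherianSpace
  exact Groth.Agent.H9Hens.ProperPairApps.bijective_connectedComponentsMap _
    (Groth.Agent.H9Hens.ProperPairApps.uniqueLift_fibre I f)

end Groth.Agent.S13506
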