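import Groth.Statements.S13511
import Groth.Agent.H14FibSite.Basic

set_option autoImplicit false
set_option backward.isDefEq.respectTransparency false
set_option backward.isDefEq.respectTransparency.types false
universe v₁ u₁ v₂ u₂ v₃ u₃
open CategoryTheory Opposite Pseudofunctor.CoGrothendieck
open FibSite

namespace Groth.Agent.S13511

/-- For a fibred category `F` over `𝒮` with topologies `J` on its fibres all of whose inverse-image
functors are continuous, a presheaf `P` on the total category, with values in a category `A`, is a
sheaf for the total topology (the topology generated by the coverings of the fibres) if and only if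
for every object `S` of the base its restriction along the fibre inclusion `ι F S` is a sheaf for `J
S`. (The published statement is for presheaves of sets on a fibred site over a small category;
neither the smallness nor the exactness of the inverse images is used, and the case of values in `A`
reduces to presheaves of sets.) -/
theorem result {𝒮 : Type u₁} [Category.{v₁} 𝒮]
    (F : Pseudofunctor (LocallyDiscrete 𝒮ᵒᵖ) Cat.{v₂, u₂}) (J : FibSite.Topologies F)
    (hF : FibSite.IsPreFibSite F J) {A : Type u₃} [Category.{v₃} A] (P : (∫ᶜ F)ᵒᵖ ⥤ A) :
    Presheaf.IsSheaf (FibSite.totalTopology F J) P ↔
      ∀ S : 𝒮, Presheaf.IsSheaf (J S) ((ι F S).op ⋙ P) := by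
  exact Groth.Agent.H14FibSite.isSheaf_total_iff hF P

end Groth.Agent.S13511
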