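import Groth.Statements.S13513
import Groth.Agent.H14FibSite.Extend
import Groth.Agent.S13510

set_option autoImplicit false
set_option backward.isDefEq.respectTransparency false
set_option backward.isDefEq.respectTransparency.types false
universe u
open CategoryTheory CategoryTheory.Limits Opposite Pseudofunctor.CoGrothendieck
open FibSite

namespace Groth.Agent.S13513

/-- Let `F` be a fibred site over a small category `𝒮` with small fibres (every inverse-image functor is
a morphism of sites) and let `i` be a final object of `𝒮`. Then the left adjoint `α_{i!}` of the
restriction of sheaves of sets from the total site to the fibre over `i` is full and faithful;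
equivalently the composite "extend from the fibre over `i`, then restrict back" is isomorphic to the
identity through the unit of the adjunction. The continuity of the fibre inclusion and the existence
of the left adjoint are carried as instance hypotheses. -/
theorem result {𝒮 : Type u} [SmallCategory 𝒮]
    (F : Pseudofunctor (LocallyDiscrete 𝒮ᵒᵖ) Cat.{u, u}) (J : FibSite.Topologies F)
    (hF : FibSite.IsFibSite F J) (i : 𝒮) (hi : IsTerminal i)
    [(ι F i).IsContinuous (J i) (FibSite.totalTopology F J)]
    [((ι F i).sheafPushforwardContinuous (Type u) (J i) (FibSite.totalTopology F J)).IsRightAdjoint] :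
    (FibSite.extend F J (Type u) i).Full ∧ (FibSite.extend F J (Type u) i).Faithful := by
  have hp := hF.isPreFibSite
  have : ∀ S : 𝒮, (ι F S).IsContinuous (J S) (FibSite.totalTopology F J) :=
    Groth.Agent.H14FibSite.isContinuous_ι hp
  have : ∀ (R S : 𝒮) (f : R ⟶ S), (FibSite.invImage F f).IsContinuous (J S) (J R) := fun R S f => hp f
  have : (ι F i).IsCocontinuous (J i) (FibSite.totalTopology F J) := Groth.Agent.S13510.result F J hp i
  exact Groth.Agent.H14FibSite.extend_fullyFaithful hi

end Groth.Agent.S13513
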