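import Groth.Statements.S13515
import Groth.Agent.H14FibSite.Map
import Groth.Agent.S13510

set_option autoImplicit false
set_option backward.isDefEq.respectTransparency false
set_option backward.isDefEq.respectTransparency.types false
universe u
open CategoryTheory CategoryTheory.Limits Opposite Pseudofunctor.CoGrothendieck
open scoped CategoryTheory.Pseudofunctor.StrongTrans
open FibSite

namespace Groth.Agent.S13515

/-- Let `F` and `G` be fibred sites over a small category `𝒮` with small fibres and let `α : G ⟶ F` be a
strong transformation of pseudofunctors, i.e. a cartesian functor `∫ᶜ G ⥤ ∫ᶜ F` over `𝒮`, which is a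
morphism of fibred sites: on each fibre the functor `α_S : G(S) ⥤ F(S)` is a morphism of sites from
`(F(S), J S)` to `(G(S), K S)` (continuous, with left exact inverse image on sheaves of sets). Then
the induced functor between the total categories is a morphism of sites from the total site of `F`
to the total site of `G`: it is continuous for the total topologies and the inverse image of sheaves
of sets along it exists and is left exact. -/
theorem result {𝒮 : Type u} [SmallCategory 𝒮]
    (F G : Pseudofunctor (LocallyDiscrete 𝒮ᵒᵖ) Cat.{u, u}) (J : FibSite.Topologies F) (K : FibSite.Topologies G)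
    (hF : FibSite.IsFibSite F J) (hG : FibSite.IsFibSite G K) (α : G ⟶ F)
    (hα : ∀ S : 𝒮, ∃ (_ : (α.app ⟨op S⟩).toFunctor.IsContinuous (K S) (J S))
      (_ : ((α.app ⟨op S⟩).toFunctor.sheafPushforwardContinuous (Type u) (K S) (J S)).IsRightAdjoint),
      PreservesFiniteLimits ((α.app ⟨op S⟩).toFunctor.sheafPullback (Type u) (K S) (J S))) :
    ∃ (_ : (Pseudofunctor.CoGrothendieck.map α).IsContinuous
        (FibSite.totalTopology G K) (FibSite.totalTopology F J))
      (_ : ((Pseudofunctor.CoGrothendieck.map α).sheafPushforwardContinuous (Type u)
        (FibSite.totalTopology G K) (FibSite.totalTopology F J)).IsRightAdjoint),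
      PreservesFiniteLimits ((Pseudofunctor.CoGrothendieck.map α).sheafPullback (Type u)
        (FibSite.totalTopology G K) (FibSite.totalTopology F J)) := by
  have hp := hF.isPreFibSite
  have hq := hG.isPreFibSite
  have : ∀ S : 𝒮, (ι F S).IsContinuous (J S) (FibSite.totalTopology F J) :=
    Groth.Agent.H14FibSite.isContinuous_ι hp
  have : ∀ S : 𝒮, (ι G S).IsContinuous (K S) (FibSite.totalTopology G K) :=
    Groth.Agent.H14FibSite.isContinuous_ι hq
  have hc : ∀ S : 𝒮, (Groth.Agent.H14FibSite.fibFun α S).IsContinuous (K S) (J S) := fun S => (hα S).1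
  have : (Pseudofunctor.CoGrothendieck.map α).IsContinuous
      (FibSite.totalTopology G K) (FibSite.totalTopology F J) :=
    Groth.Agent.H14FibSite.isContinuous_map α hp hq hc
  refine ⟨this, inferInstance, Groth.Agent.H14FibSite.preservesFiniteLimits_of_restr _ fun S => ?_⟩
  have : (ι F S).IsCocontinuous (J S) (FibSite.totalTopology F J) := Groth.Agent.S13510.result F J hp S
  have : (ι G S).IsCocontinuous (K S) (FibSite.totalTopology G K) := Groth.Agent.S13510.result G K hq S
  obtain ⟨_, _, hS⟩ := hα S
  have : ((ι G S).sheafPushforwardContinuous (Type u) (K S) (FibSite.totalTopology G K)).IsRightAdjoint :=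
    inferInstance
  have : PreservesLimitsOfSize.{0, 0} (FibSite.restr G K (Type u) S) :=
    ((ι G S).sheafAdjunctionContinuous (Type u) (K S) (FibSite.totalTopology G K)).rightAdjoint_preservesLimits
  have : PreservesFiniteLimits (FibSite.restr G K (Type u) S ⋙
      (Groth.Agent.H14FibSite.fibFun α S).sheafPullback (Type u) (K S) (J S)) := by
    have : PreservesFiniteLimits (FibSite.restr G K (Type u) S) :=
      ⟨fun L _ _ => inferInstance⟩
    exact comp_preservesFiniteLimits _ _
  exact preservesFiniteLimits_of_natIso (Groth.Agent.H14FibSite.pullRestrIso α S)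

end Groth.Agent.S13515
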