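import Groth.Statements.S13516
import Groth.Agent.H14FibSite.Converse
import Groth.Agent.S13510

set_option autoImplicit false
set_option backward.isDefEq.respectTransparency false
set_option backward.isDefEq.respectTransparency.types false
universe u
open CategoryTheory CategoryTheory.Limits Opposite Pseudofunctor.CoGrothendieck
open scoped CategoryTheory.Pseudofunctor.StrongTrans
open FibSite

namespace Groth.Agent.S13516

/-- Let `F` and `G` be fibred sites over a small category `𝒮` with small fibres and let `α : G ⟶ F` be a
strong transformation of pseudofunctors, i.e. a cartesian functor `∫ᶜ G ⥤ ∫ᶜ F` over `𝒮`. If the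
induced functor between the total categories is a morphism of sites from the total site of `F` to
the total site of `G` (continuous, with left exact inverse image on sheaves of sets), then `α` is a
morphism of fibred sites: for every `S` the fibre functor `α_S : G(S) ⥤ F(S)` is a morphism of sites
from `(F(S), J S)` to `(G(S), K S)`. (The published statement is for an arbitrary functor over `𝒮`
between the total categories; this row takes a cartesian one.) -/
theorem result {𝒮 : Type u} [SmallCategory 𝒮]
    (F G : Pseudofunctor (LocallyDiscrete 𝒮ᵒᵖ) Cat.{u, u}) (J : FibSite.Topologies F) (K : FibSite.Topologies G)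
    (hF : FibSite.IsFibSite F J) (hG : FibSite.IsFibSite G K) (α : G ⟶ F)
    (hα : ∃ (_ : (Pseudofunctor.CoGrothendieck.map α).IsContinuous
        (FibSite.totalTopology G K) (FibSite.totalTopology F J))
      (_ : ((Pseudofunctor.CoGrothendieck.map α).sheafPushforwardContinuous (Type u)
        (FibSite.totalTopology G K) (FibSite.totalTopology F J)).IsRightAdjoint),
      PreservesFiniteLimits ((Pseudofunctor.CoGrothendieck.map α).sheafPullback (Type u)
        (FibSite.totalTopology G K) (FibSite.totalTopology F J))) (S : 𝒮) :
    ∃ (_ : (α.app ⟨op S⟩).toFunctor.IsContinuous (K S) (J S))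
      (_ : ((α.app ⟨op S⟩).toFunctor.sheafPushforwardContinuous (Type u) (K S) (J S)).IsRightAdjoint),
      PreservesFiniteLimits ((α.app ⟨op S⟩).toFunctor.sheafPullback (Type u) (K S) (J S)) := by
  obtain ⟨_, _, hm⟩ := hα
  have hp := hF.isPreFibSite
  have hq := hG.isPreFibSite
  have : ∀ R : 𝒮, (ι F R).IsContinuous (J R) (FibSite.totalTopology F J) :=
    Groth.Agent.H14FibSite.isContinuous_ι hp
  have : ∀ R : 𝒮, (ι G R).IsContinuous (K R) (FibSite.totalTopology G K) :=
    Groth.Agent.H14FibSite.isContinuous_ι hq
  have : ∀ (R T : 𝒮) (f : R ⟶ T), (FibSite.invImage G f).IsContinuous (K T) (K R) := fun _ _ f => hq f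
  have hc : ∀ R : 𝒮, (Groth.Agent.H14FibSite.fibFun α R).IsContinuous (K R) (J R) :=
    Groth.Agent.H14FibSite.isContinuous_fibFun α hp hq
  refine ⟨hc S, inferInstance, ?_⟩
  have : (ι F S).IsCocontinuous (J S) (FibSite.totalTopology F J) := Groth.Agent.S13510.result F J hp S
  have : (ι G S).IsCocontinuous (K S) (FibSite.totalTopology G K) := Groth.Agent.S13510.result G K hq S
  have : PreservesFiniteLimits (FibSite.restr G K (Type u) S) := by
    have : PreservesLimitsOfSize.{0, 0} (FibSite.restr G K (Type u) S) :=
      ((ι G S).sheafAdjunctionContinuous (Type u) (K S) (FibSite.totalTopology G K)).rightAdjoint_preservesLimits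
    exact ⟨fun _ _ _ => inferInstance⟩
  have : PreservesFiniteLimits (FibSite.restr F J (Type u) S) := by
    have : PreservesLimitsOfSize.{0, 0} (FibSite.restr F J (Type u) S) :=
      ((ι F S).sheafAdjunctionContinuous (Type u) (J S) (FibSite.totalTopology F J)).rightAdjoint_preservesLimits
    exact ⟨fun _ _ _ => inferInstance⟩
  have hRP : PreservesFiniteLimits (FibSite.restr G K (Type u) S ⋙
      (Groth.Agent.H14FibSite.fibFun α S).sheafPullback (Type u) (K S) (J S)) := by
    have : PreservesFiniteLimits ((Pseudofunctor.CoGrothendieck.map α).sheafPullback (Type u)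
        (FibSite.totalTopology G K) (FibSite.totalTopology F J) ⋙ FibSite.restr F J (Type u) S) :=
      comp_preservesFiniteLimits _ _
    exact preservesFiniteLimits_of_natIso (Groth.Agent.H14FibSite.pullRestrIso α S).symm
  have : PreservesColimitsOfSize.{0, 0}
      ((Groth.Agent.H14FibSite.fibFun α S).sheafPullback (Type u) (K S) (J S)) :=
    ((Groth.Agent.H14FibSite.fibFun α S).sheafAdjunctionContinuous (Type u) (K S) (J S)).leftAdjoint_preservesColimits
  refine Groth.Agent.H14FibSite.preservesFiniteLimits_of_extraction (FibSite.extend G K (Type u) S)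
    (FibSite.restr G K (Type u) S) _ (Groth.Agent.H14FibSite.extAdj S).unit ?_
    (fun a => Groth.Agent.H14FibSite.unit_sq a _ _)
    (fun i p h => Groth.Agent.H14FibSite.isPullback_map_inl
      ((Groth.Agent.H14FibSite.fibFun α S).sheafPullback (Type u) (K S) (J S))
      (c := Groth.Agent.H14FibSite.unitCofan (⊤_ Sheaf (K S) (Type u)))
      (Groth.Agent.H14FibSite.isColimitUnitCofan.{u} (G := G) (K := K) (S := S) (⊤_ Sheaf (K S) (Type u))) h)
  have : PreservesLimit (Functor.empty.{0} _) (FibSite.restr G K (Type u) S ⋙
      (Groth.Agent.H14FibSite.fibFun α S).sheafPullback (Type u) (K S) (J S)) :=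
    (hRP.preservesFiniteLimits (Discrete PEmpty.{1})).preservesLimit
  have : PreservesLimit (Functor.empty.{0} _) (FibSite.restr G K (Type u) S) :=
    ((inferInstance : PreservesFiniteLimits (FibSite.restr G K (Type u) S)).preservesFiniteLimits
      (Discrete PEmpty.{1})).preservesLimit
  exact IsTerminal.ofIso (IsTerminal.isTerminalObj (FibSite.restr G K (Type u) S ⋙
      (Groth.Agent.H14FibSite.fibFun α S).sheafPullback (Type u) (K S) (J S)) _ terminalIsTerminal)
    (((Groth.Agent.H14FibSite.fibFun α S).sheafPullback (Type u) (K S) (J S)).mapIso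
      ((IsTerminal.isTerminalObj (FibSite.restr G K (Type u) S) _ terminalIsTerminal).uniqueUpToIso terminalIsTerminal))

end Groth.Agent.S13516
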