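import Groth.Statements.S13520
import Groth.Agent.H15Site.DescTri.Univ

set_option autoImplicit false
universe u
open CategoryTheory CategoryTheory.Limits Opposite TopologicalSpace
open FibDesc

namespace Groth.Agent.S13520

/-- In the category of topological spaces with all abelian sheaves as coefficients, the composite of two
continuous maps that are universally of cohomological 1-descent is universally of cohomological
1-descent. -/
theorem result {X Y S : TopCat.{u}} (f : X ⟶ Y) (g : Y ⟶ S)
    (hf : FibDesc.IsUnivCohDescentMap f) (hg : FibDesc.IsUnivCohDescentMap g) :
    FibDesc.IsUnivCohDescentMap (f ≫ g) := by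
  exact Groth.Agent.H15Site.DescTri.isUnivCohDescentMap_comp hf hg

end Groth.Agent.S13520
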