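import Groth.Statements.S13523
import Groth.Agent.H15Site.DescentLocal

set_option autoImplicit false
universe u
open CategoryTheory CategoryTheory.Limits Opposite TopologicalSpace
open FibDesc

namespace Groth.Agent.S13523

/-- A surjective local homeomorphism `f : X ⟶ S` of topological spaces is universally of cohomological
1-descent for abelian sheaves. -/
theorem result {X S : TopCat.{u}} (f : X ⟶ S)
    (hf : IsLocalHomeomorph f) (hsurj : Function.Surjective f) : FibDesc.IsUnivCohDescentMap f := by
  intro S' g
  have hU : ∀ x : X, ∃ U : Opens X, x ∈ U ∧ Topology.IsOpenEmbedding ((U : Set X).restrict f) := fun x => by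
    obtain ⟨U, hU, he⟩ := isLocalHomeomorph_iff_isOpenEmbedding_restrict.1 hf x
    obtain ⟨W, hWU, hW, hxW⟩ := mem_nhds_iff.1 hU
    exact ⟨⟨W, hW⟩, hxW, he.comp (Topology.IsOpenEmbedding.inclusion hWU (hW.preimage continuous_subtype_val))⟩
  choose U hxU hUe using hU
  let i : ∀ x, TopCat.of (U x) ⟶ X := fun x => TopCat.ofHom ⟨Subtype.val, continuous_subtype_val⟩
  refine Groth.Agent.H15Site.DescentLocal.isCohDescentMap_of_cover (pullback.snd f g)
    (fun x => pullback.snd (i x ≫ f) g) (fun x => TopCat.snd_isOpenEmbedding_of_left (hUe x) g)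
    (fun s => ?_) (fun x => ?_)
  · obtain ⟨x, hx⟩ := hsurj (g s)
    refine ⟨x, ?_⟩
    rw [TopCat.pullback_snd_range]
    exact ⟨⟨x, hxU x⟩, hx⟩
  · exact Groth.Agent.H15Site.CechSplit.isCohDescentMap_of_section _
      (pullback.lift
        (pullback.lift (pullback.fst (i x ≫ f) g ≫ i x) (pullback.snd (i x ≫ f) g)
          (by rw [Category.assoc, pullback.condition]))
        (𝟙 _) (by rw [pullback.lift_snd, Category.id_comp]))
      (pullback.lift_snd _ _ _)

end Groth.Agent.S13523
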