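import Groth.Statements.S13524
import Groth.Agent.H15Site.DescTri.Univ

set_option autoImplicit false
universe u
open CategoryTheory CategoryTheory.Limits Opposite TopologicalSpace
open FibDesc

namespace Groth.Agent.S13524

/-- In the category of topological spaces with all abelian sheaves as coefficients, let `v : Y ⟶ S` be a
continuous map which is universally of cohomological 1-descent and `u : X ⟶ S` a continuous map. If
`u` becomes of cohomological 1-descent after base change along each of the maps `Y_n ⟶ S`, `Y_n` the
`(n+1)`-fold fibre product of `Y` over `S`, then `u` is of cohomological 1-descent. (The published
statement is for arbitrary flat augmented simplicial objects `X` and `Y` over `S` in place of the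
Cech augmentations of `u` and `v`, and asks only that `Y` be of cohomological descent; the
comparison of double simplicial objects in its proof uses that the base changes of `Y` along the
components `X_m ⟶ S` of `X` are again of cohomological descent, so `v` is taken universally of
cohomological descent here, and this row is the case of the Cech augmentations of `u` and `v`.) -/
theorem result {X Y S : TopCat.{u}} (u : X ⟶ S) (v : Y ⟶ S)
    (hv : FibDesc.IsUnivCohDescentMap v)
    (h : ∀ n : ℕ, FibDesc.IsCohDescentMap
      (pullback.snd u (WidePullback.base (fun _ : Fin (n + 1) => v) :
        widePullback S (fun _ : Fin (n + 1) => Y) (fun _ => v) ⟶ S))) :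
    FibDesc.IsCohDescentMap u := by
  exact Groth.Agent.H15Site.DescTri.isCohDescentMap_of_baseChange u v hv h

end Groth.Agent.S13524
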