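import Groth.Statements.S13525
import Groth.Agent.H15Site.DescentLocal

set_option autoImplicit false
universe u
open CategoryTheory CategoryTheory.Limits Opposite TopologicalSpace
open FibDesc

namespace Groth.Agent.S13525

/-- In the category of topological spaces with all abelian sheaves as coefficients, cohomological
descent of a continuous map `u : X ⟶ S` is local on the base: if `(V i)` is an open covering of `S`
and the base change of `u` to each `V i` is of cohomological 1-descent, then `u` is of cohomological
1-descent. (The published criterion allows any conservative family of flat base changes `S' ⟶ S`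
whose cartesian squares with the `X_n ⟶ S` satisfy the base-change isomorphism for higher direct
images; the inclusions of the members of an open covering form such a family, and this row is that
case.) -/
theorem result {X S : TopCat.{u}} (u : X ⟶ S) {ι : Type u} (V : ι → Opens S)
    (hV : iSup V = ⊤)
    (h : ∀ i, FibDesc.IsCohDescentMap
      (pullback.snd u (TopCat.ofHom ⟨Subtype.val, continuous_subtype_val⟩ : TopCat.of (V i) ⟶ S))) :
    FibDesc.IsCohDescentMap u := by
  exact Groth.Agent.H15Site.DescentLocal.isCohDescentMap_of_cover u
    (fun i => (TopCat.ofHom ⟨Subtype.val, continuous_subtype_val⟩ : TopCat.of (V i) ⟶ S))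
    (fun i => (V i).isOpenEmbedding)
    (fun x => by
      obtain ⟨i, hi⟩ := Opens.mem_iSup.1 (show x ∈ iSup V by rw [hV]; trivial)
      exact ⟨i, ⟨x, hi⟩, rfl⟩) h

end Groth.Agent.S13525
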