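import Groth.Statements.S13527
import Groth.Agent.H14FibSite.Coextend

set_option autoImplicit false
set_option backward.isDefEq.respectTransparency false
set_option backward.isDefEq.respectTransparency.types false
universe u
open CategoryTheory CategoryTheory.Limits Opposite Pseudofunctor.CoGrothendieck
open FibSite

namespace Groth.Agent.S13527

/-- Let `F` be a fibred site over a small category `𝒮` with small fibres and fibre topologies `J`,
viewed as an indexed family of sites, and let `i`, `j` be objects of `𝒮`. For a sheaf of sets `a` on
the fibre over `i`, the value over `j` of the right adjoint `e_{i*}` of evaluation at `i` (right Kan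
extension along the fibre inclusion), applied to `a`, is a product, indexed by the morphisms `f : i
⟶ j`, of the direct images of `a` along the morphisms of sites `f^* : F(j) ⥤ F(i)` (precomposition
with `f^*`): there is a limit fan on that family whose vertex is isomorphic to it. (Existence of
such an isomorphism only; the published statement names the canonical one. The topos of sections of
the indexed topos is rendered as the topos of sheaves on the total site.) -/
theorem result {𝒮 : Type u} [SmallCategory 𝒮]
    (F : Pseudofunctor (LocallyDiscrete 𝒮ᵒᵖ) Cat.{u, u}) (J : FibSite.Topologies F)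
    (hF : FibSite.IsFibSite F J) (i j : 𝒮)
    [∀ S : 𝒮, (ι F S).IsContinuous (J S) (FibSite.totalTopology F J)]
    [(ι F i).IsCocontinuous (J i) (FibSite.totalTopology F J)]
    [∀ (P : (F.obj ⟨op i⟩)ᵒᵖ ⥤ Type u), (ι F i).op.HasPointwiseRightKanExtension P]
    [∀ (R S : 𝒮) (f : R ⟶ S), (FibSite.invImage F f).IsContinuous (J S) (J R)]
    (a : Sheaf (J i) (Type u)) :
    ∃ c : Fan fun f : i ⟶ j => ((FibSite.invImage F f).sheafPushforwardContinuous (Type u) (J j) (J i)).obj a,
      Nonempty (IsLimit c) ∧
        Nonempty (c.pt ≅ (FibSite.restr F J (Type u) j).obj ((FibSite.coextend F J (Type u) i).obj a)) := by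
  exact ⟨_, ⟨Groth.Agent.H14FibSite.isLimitProj a j⟩, ⟨Iso.refl _⟩⟩

end Groth.Agent.S13527
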