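import Groth.Statements.S13528
import Groth.Agent.H14FibSite.Lan

set_option autoImplicit false
set_option backward.isDefEq.respectTransparency false
set_option backward.isDefEq.respectTransparency.types false
universe u
open CategoryTheory CategoryTheory.Limits Opposite Pseudofunctor.CoGrothendieck
open FibSite

namespace Groth.Agent.S13528

/-- Let `F` be a fibred category over a small category `𝒮` with small fibres and topologies `J` on the
fibres all of whose inverse-image functors are continuous, let `i` be an object of `𝒮`, `U` an
object of the fibre over `i`, and `u : R ⟶ h_U` a morphism of presheaves of sets on that fibre into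
the presheaf represented by `U`. Then `u` is bicovering for `J i` (inverted by every `J i`-sheaf) if
and only if its left Kan extension along the fibre inclusion `ι F i` is bicovering for the topology
on the total category generated by the coverings of the fibres. (The published statement is for
fibred sites; its proof uses only the continuity of the inverse-image functors.) -/
theorem result {𝒮 : Type u} [SmallCategory 𝒮]
    (F : Pseudofunctor (LocallyDiscrete 𝒮ᵒᵖ) Cat.{u, u}) (J : FibSite.Topologies F)
    (hF : FibSite.IsPreFibSite F J) (i : 𝒮) {R : (F.obj ⟨op i⟩)ᵒᵖ ⥤ Type u} {U : F.obj ⟨op i⟩}
    (u : R ⟶ yoneda.obj U) :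
    (J i).W u ↔ (FibSite.totalTopology F J).W (((ι F i).op.lan (H := Type u)).map u) := by
  exact ⟨Groth.Agent.H14FibSite.W_lan_map R hF u, Groth.Agent.H14FibSite.W_of_W_lan_map R hF u⟩

end Groth.Agent.S13528
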