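import Groth.Statements.S13529
import Groth.Agent.H15Site.DescHyper.Main

set_option autoImplicit false
universe u
open CategoryTheory CategoryTheory.Limits Opposite TopologicalSpace
open FibDesc

namespace Groth.Agent.S13529

/-- In the category of topological spaces with all abelian sheaves as coefficients (every continuous map
being flat), let `S` be a space and `K` a simplicial space over `S` whose coskeleta over `S` exist,
and assume `K` is a hypercovering of `S` for the topology of universal cohomological descent: the
structure map `K_0 ⟶ S` and, for every `n`, the canonical map `K_{n+1} ⟶ (cosk_n K)_{n+1}`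
(coskeleton computed over `S`) are universally of cohomological 1-descent. Then the augmented
simplicial space `K ⟶ S` is an augmentation of cohomological 1-descent for abelian sheaves. (The
published statement concludes universal cohomological descent of the augmentation, i.e. the same
after every base change `S' ⟶ S`; this row states it over `S` itself.) -/
theorem result {S : TopCat.{u}}
    [∀ (n : ℕ) (G : (SimplexCategory.Truncated n)ᵒᵖ ⥤ Over S),
      (SimplexCategory.Truncated.inclusion n).op.HasRightKanExtension G]
    (K : SimplicialObject (Over S))
    (h0 : FibDesc.IsUnivCohDescentMap (K.obj (op (SimplexCategory.mk 0))).hom)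
    (hn : ∀ n : ℕ, FibDesc.IsUnivCohDescentMap
      (((SimplicialObject.coskAdj n).unit.app K).app (op (SimplexCategory.mk (n + 1)))).left) :
    FibDesc.IsCohDescentTop
      (AugmentedSimplexCategory.equivAugmentedSimplicialObject.inverse.obj
        (SimplicialObject.augment (K ⋙ Over.forget S) S (K.obj (op (SimplexCategory.mk 0))).hom
          (fun i g₁ g₂ => (Over.w (K.map g₁.op)).trans (Over.w (K.map g₂.op)).symm))) := by
  exact Groth.Agent.H15Site.DescHyper.isCohDescentTop_augSpace K h0 hn

end Groth.Agent.S13529
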