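import Groth.Statements.S13532
import Groth.Agent.H17.DimIneqScheme
import Groth.Agent.H12AlgSp.Codim
import Groth.Agent.H22Alg.RatFunBasic
import Groth.Agent.H3Cyc.SpFun
import Groth.Agent.H8Props.FieldDimFibre

set_option autoImplicit false
set_option backward.isDefEq.respectTransparency false
set_option linter.style.haveILetI false
universe u
open CategoryTheory CategoryTheory.Limits AlgebraicGeometry TopologicalSpace
open ResProp

namespace Groth.Agent.S13532

/-- A morphism of finite type between locally Noetherian schemes which is birational (an isomorphism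
over a dense open of the target whose preimage is dense in the source) has finite fibres over all
points of the target of codimension at most 1, i.e. whose local ring has Krull dimension at most 1. -/
theorem result {X Y : Scheme.{u}}
    [IsLocallyNoetherian X] [IsLocallyNoetherian Y] (f : Y ⟶ X) [LocallyOfFiniteType f] [QuasiCompact f]
    (U : X.Opens) (hU : Dense (U : Set X)) (hU' : Dense ((f ⁻¹ᵁ U : Y.Opens) : Set Y)) (hiso : IsIso (f ∣_ U))
    (x : X) (hx : ringKrullDim (X.presheaf.stalk x) ≤ 1) :
    (f.base ⁻¹' {x}).Finite := by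
  have hsurj : ∀ ξ : Y, f ξ ∈ U → Function.Surjective (f.residueFieldMap ξ) := by
    intro ξ hξ
    haveI : IsIso (f ∣_ U) := hiso
    haveI : IsOpenImmersion ((f ⁻¹ᵁ U).ι ≫ f) := by
      rw [← morphismRestrict_ι]; infer_instance
    have h1 := H3Cyc.SpFun.surjective_residueFieldMap ((f ⁻¹ᵁ U).ι ≫ f) ⟨ξ, hξ⟩
    rw [Scheme.residueFieldMap_comp] at h1
    intro c
    obtain ⟨b, hb⟩ := h1 (((f ⁻¹ᵁ U).ι.residueFieldMap ⟨ξ, hξ⟩) c)
    exact ⟨b, ((f ⁻¹ᵁ U).ι.residueFieldMap ⟨ξ, hξ⟩).hom.injective hb⟩
  by_cases hxU : x ∈ U
  · haveI : IsIso (f ∣_ U) := hiso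
    refine Set.Subsingleton.finite fun a ha b hb => ?_
    have haU : a ∈ f ⁻¹ᵁ U := by show f a ∈ U; rw [show f a = x from ha]; exact hxU
    have hbU : b ∈ f ⁻¹ᵁ U := by show f b ∈ U; rw [show f b = x from hb]; exact hxU
    have hab : f ((f ⁻¹ᵁ U).ι ⟨a, haU⟩) = f ((f ⁻¹ᵁ U).ι ⟨b, hbU⟩) := by
      exact (show f a = x from ha).trans (show f b = x from hb).symm
    exact congrArg Subtype.val ((f ∣_ U).isOpenEmbedding.injective (Subtype.ext (by
      simpa [morphismRestrict_base] using hab) : (f ∣_ U) ⟨a, haU⟩ = (f ∣_ U) ⟨b, hbU⟩))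
  · have hgen : ∀ ξ : Y, ξ ∈ genericPoints Y → f ξ ∈ U := fun ξ hξ =>
      H8Props.genericPoints_subset_of_dense (f ⁻¹ᵁ U).2 hU' hξ
    have key : ∀ y : Y, f y = x →
        (letI := (f.residueFieldMap y).hom.toAlgebra
         Algebra.trdeg (X.residueField (f.base y)) (Y.residueField y)) = 0 := by
      intro y hy
      obtain ⟨b, hb, hl⟩ := H17.DimIneq.scheme_ineq f y 0 fun ξ hξ _ => by
        have := H3Cyc.SpFun.trdeg_zero_of_surjective f ξ (hsurj ξ (hgen ξ hξ))
        exact le_of_eq (this.trans Nat.cast_zero.symm)
      have hb1 : b ≤ 1 := by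
        have := (show ringKrullDim (X.presheaf.stalk (f y)) ≤ 1 by rw [hy]; exact hx)
        rw [hb] at this
        exact WithBot.coe_le_coe.1 this
      have h1 : ((1 : ℕ) : WithBot ℕ∞) ≤ ringKrullDim (Y.presheaf.stalk y) := by
        have hne : ringKrullDim (Y.presheaf.stalk y) ≠ 0 := fun h0 =>
          hxU (hy ▸ hgen y ((H12AlgSp.ringKrullDim_stalk_eq_zero_iff y).1 h0))
        rw [ringKrullDim_stalk_eq_coheight] at hne ⊢
        rw [Nat.cast_one, ← WithBot.coe_one, WithBot.coe_le_coe]
        exact ENat.one_le_iff_ne_zero.2 fun h => hne (by rw [h]; rfl)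
      have h := hl 1 h1
      rw [Nat.cast_zero, add_zero, Nat.cast_one] at h
      have h' := OrderHomClass.mono Cardinal.toENat h
      rw [map_add, map_one, Cardinal.toENat_ofENat] at h'
      have h2 := h'.trans hb1
      have h3 := (ENat.add_le_add_iff_left (k := 1) (by simp)).1 (h2.trans_eq (add_zero 1).symm)
      exact Cardinal.toENat_eq_zero.1 (le_antisymm h3 zero_le)
    haveI := H8Props.FieldDim.locallyOfFiniteType_fiberToSpec f x
    haveI : LocallyOfFiniteType (f.fiberToSpecResidueField x) := inferInstance
    have hcd : ∀ u : f.fiber x, H8Props.FieldDim.cdim u = 0 := by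
      intro u
      obtain ⟨s, hs, ht⟩ := H8Props.FieldDim.exists_trdeg_fiber f u
      have := key (f.fiberι x u) ((f.range_fiberι x).subset (Set.mem_range_self u))
      rw [this] at ht
      rw [hs, show s = 0 by exact_mod_cast ht.symm]
      rfl
    haveI : IsLocallyNoetherian (f.fiber x) :=
      LocallyOfFiniteType.isLocallyNoetherian (f.fiberToSpecResidueField x)
    haveI : CompactSpace (f.fiber x) := QuasiCompact.compactSpace_of_compactSpace (f.fiberToSpecResidueField x)
    haveI : IsNoetherian (f.fiber x) := ⟨⟩
    have hclosed : ∀ u : f.fiber x, IsClosed ({u} : Set (f.fiber x)) := by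
      intro u
      refine isClosed_of_closure_subset fun v hv => ?_
      by_contra hne
      have := H8Props.FieldDim.cdim_lt (k := X.residueField x) (f.fiberToSpecResidueField x)
        (specializes_iff_mem_closure.2 hv) (fun h => hne h.symm)
      rw [hcd, hcd] at this
      exact lt_irrefl _ this
    have hfin : (Set.univ : Set (f.fiber x)).Finite := by
      have hg : (genericPoints (f.fiber x)).Finite := by
        haveI : NoetherianSpace (f.fiber x) := inferInstance
        refine Set.Finite.of_finite_image (f := fun η => closure ({η} : Set (f.fiber x)))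
          ((NoetherianSpace.finite_irreducibleComponents (α := f.fiber x)).subset ?_) ?_
        · rintro _ ⟨η, hη, rfl⟩; exact hη
        · intro a _ b _ hab
          have : b ∈ closure ({a} : Set (f.fiber x)) := by
            rw [show closure ({a} : Set (f.fiber x)) = closure {b} from hab]; exact subset_closure rfl
          rw [(hclosed a).closure_eq] at this
          exact (Set.mem_singleton_iff.1 this).symm
      refine hg.subset fun u _ => ?_
      refine H8Props.mem_genericPoints_iff.2 fun v hv => ?_
      have : u ∈ closure ({v} : Set (f.fiber x)) := specializes_iff_mem_closure.1 hv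
      rw [(hclosed v).closure_eq] at this
      exact (Set.mem_singleton_iff.1 this).symm
    refine (hfin.image (f.fiberι x)).subset ?_
    rw [Set.image_univ, f.range_fiberι]

end Groth.Agent.S13532
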