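import Groth.Statements.S13536
import Groth.Agent.S2250
import Groth.Agent.H10Inj.IdealPow
import Groth.Agent.H10Coh.OpenSpec
import Groth.Agent.H10Coh.HHSeq
import Groth.Agent.H7Flat.CohDim.AffineStrat
import Groth.Agent.H17.PullSectLocal

set_option autoImplicit false
set_option backward.isDefEq.respectTransparency false
set_option backward.isDefEq.respectTransparency.types false
set_option linter.style.haveILetI false
universe u
open CategoryTheory CategoryTheory.Limits AlgebraicGeometry
open ResProp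

namespace Groth.Agent.S13536

open Groth.Agent.H10Coh Groth.Agent.LeadFF

attribute [local instance 10000] H10Coh.hasSheafifyAb H10Coh.hasWeakSheafifyAb H10Coh.hasExtAb H10Coh.enoughInjAb

variable {X : Scheme.{u}}

theorem epi_unit_closed {Z : Scheme.{u}} (i : Z ⟶ X) [IsClosedImmersion i] {G : X.Modules} (hG : Coh.IsQCoh G) :
    Epi ((Scheme.Modules.pullbackPushforwardAdjunction i).unit.app G) := by
  haveI : ((Scheme.Modules.pullback i).obj G).IsQuasicoherent := H29Fitt.isQCoh_pullback i G hG
  refine H10Coh.epi_of_surjective_on_cover _ (H10Coh.isQuasicoherent_pushforward i _) (fun U : X.affineOpens => U.1)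
    (fun U => U.2) (fun x => ?_) fun U => ⟨Set.univ, Submodule.span_univ, fun σ _ =>
      (H17.PullSect.isQuotOn_of_isAffineOpen i G hG U.2).1 σ⟩
  obtain ⟨U, hU, hxU, -⟩ := exists_isAffineOpen_mem_and_subset (TopologicalSpace.Opens.mem_top x)
  exact ⟨⟨U, hU⟩, hxU⟩

theorem isQCoh_of_iso' {A B : X.Modules} (e : A ≅ B) (h : Coh.IsQCoh A) : Coh.IsQCoh B := by
  haveI : A.IsQuasicoherent := h
  exact H10Coh.isQuasicoherent_of_iso e

variable [IsNoetherian X] {Z : Scheme.{u}} (ι : Z ⟶ X) [IsClosedImmersion ι] (k : ℕ)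
  (hcd : ∀ G : Z.Modules, Coh.IsQCoh G → ∀ i : ℕ, k + 1 ≤ i → Subsingleton (Coh.HH Z G i))

include hcd in
theorem vanishing : ∀ (n : ℕ) (G : X.Modules), Coh.IsCoh G → H10Inj.IdealPow.Kills (ι.ker ^ n) G →
    ∀ p : ℕ, k + 1 ≤ p → Subsingleton (Coh.HH X G p)
  | 0, G, hG, hk, p, _ => by
    refine H7Flat.CohDim.subsingleton_HH_of_isZero
      (H10Inj.IdealPow.isZero_of_cover hG.1 (fun U : X.affineOpens => U) (fun x => ?_) fun V t => ?_) p
    · obtain ⟨U, hU, hxU, -⟩ := exists_isAffineOpen_mem_and_subset (TopologicalSpace.Opens.mem_top x)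
      exact ⟨⟨U, hU⟩, hxU⟩
    · have := hk V 1 (by simp [Scheme.IdealSheafData.ideal_pow]) t
      rwa [one_smul] at this
  | n + 1, G, hG, hk, p, hp => by
    let I := ι.ker
    let η := (Scheme.Modules.pullbackPushforwardAdjunction I.subschemeι).unit.app G
    haveI : Epi η := epi_unit_closed I.subschemeι hG.1
    let S : ShortComplex X.Modules := ShortComplex.mk (kernel.ι η) η (kernel.condition η)
    have hS : S.ShortExact :=
      { exact := ShortComplex.exact_kernel η
        mono_f := inferInstanceAs (Mono (kernel.ι η))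
        epi_g := inferInstanceAs (Epi η) }
    refine H10Coh.HHSeq.subsingleton₂ hS ?_ ?_
    · refine vanishing n ((Dual3.idealMul I).obj G) (LeadDev.isCoh_idealMul I G hG) (fun V a ha s => ?_) p hp
      refine H10Inj.IdealPow.idealMulι_app_injective I G V.1 ?_
      rw [map_zero, Scheme.Modules.Hom.app_smul]
      refine Submodule.smul_induction_on (LeadDev.idealMulι_app_mem I G hG V s)
        (p := fun y => a • y = 0) (fun c hc y _ => ?_) (fun x y hx hy => by rw [smul_add, hx, hy, add_zero])
      rw [smul_smul]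
      refine hk V _ ?_ y
      rw [Scheme.IdealSheafData.ideal_pow, Pi.pow_apply] at ha ⊢
      rw [pow_succ]
      exact Ideal.mul_mem_mul ha hc
    · haveI : ((Scheme.Modules.pullback I.subschemeι).obj G).IsQuasicoherent := H29Fitt.isQCoh_pullback _ _ hG.1
      refine H7Flat.CohDim.subsingleton_HH_push_closed I.subschemeι _ p ?_
      let N := (Scheme.Modules.pullback I.subschemeι).obj G
      haveI : IsIso ι.toImage := inferInstance
      haveI : IsAffineHom (inv ι.toImage) := inferInstance
      have hq : Coh.IsQCoh ((Coh.push (inv ι.toImage)).obj N) :=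
        H10Coh.isQuasicoherent_pushforward_of_isAffineHom (inv ι.toImage) N
      exact @Equiv.subsingleton _ _ (H7Flat.CohDim.lerayHH (inv ι.toImage) N p).symm.toEquiv (hcd _ hq p hp)

include hcd in
theorem vanishing_of_restrict (U : X.Opens) (hU : (U : Set X) = (Set.range ι.base)ᶜ) (G : X.Modules)
    (hG : Coh.IsCoh G) (h : IsZero ((Scheme.Modules.restrictFunctor U.ι).obj G)) (p : ℕ) (hp : k + 1 ≤ p) :
    Subsingleton (Coh.HH X G p) := by
  have hU' : (U : Set X) = (ι.ker.support : Set X)ᶜ := by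
    rw [hU, Scheme.Hom.support_ker]
    simp [ι.isClosedEmbedding.isClosed_range.closure_eq]
  obtain ⟨n, hn⟩ := H10Inj.IdealPow.exists_kills ι.ker G hG
    (H10Inj.IdealPow.support_subset_of_isZero_restrict ι.ker U hU' h)
  exact vanishing ι k hcd n G hG hn p hp

include hcd in
theorem nonempty_equiv (U : X.Opens) (hU : (U : Set X) = (Set.range ι.base)ᶜ) {A B : X.Modules}
    (hA : Coh.IsCoh A) (hB : Coh.IsCoh B) (a : A ⟶ B)
    (ha : IsIso ((Scheme.Modules.restrictFunctor U.ι).map a)) (i : ℕ) (hi : k + 2 ≤ i) :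
    Nonempty (Coh.HH X A i ≃+ Coh.HH X B i) := by
  let R := Scheme.Modules.restrictFunctor U.ι
  haveI : PreservesFiniteLimits R := inferInstance
  have hK : Coh.IsCoh (kernel a) := H10Coh.isCoh_kernel a hA hB.1
  have hI : Coh.IsCoh (Abelian.coimage a) := H10Coh.isCoh_cokernel (kernel.ι a) hK.1 hA
  have hC : Coh.IsCoh (cokernel a) := H10Coh.isCoh_cokernel a hA.1 hB
  have hKz : IsZero (R.obj (kernel a)) := by
    haveI : IsIso (R.map a) := ha
    refine IsZero.of_mono_eq_zero (R.map (kernel.ι a)) ?_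
    rw [← cancel_mono (R.map a), ← R.map_comp, kernel.condition, R.map_zero, zero_comp]
  have hCz : IsZero (R.obj (cokernel a)) := by
    haveI : IsIso (R.map a) := ha
    refine IsZero.of_epi_eq_zero (R.map (cokernel.π a)) ?_
    rw [← cancel_epi (R.map a), ← R.map_comp, cokernel.condition, R.map_zero, comp_zero]
  have vK := fun p hp => vanishing_of_restrict ι k hcd U hU _ hK hKz p hp
  have vC := fun p hp => vanishing_of_restrict ι k hcd U hU _ hC hCz p hp
  let S₁ : ShortComplex X.Modules := ShortComplex.mk (kernel.ι a) (Abelian.coimage.π a) (cokernel.condition _)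
  have hS₁ : S₁.ShortExact :=
    { exact := ShortComplex.exact_cokernel (kernel.ι a)
      mono_f := inferInstanceAs (Mono (kernel.ι a))
      epi_g := inferInstanceAs (Epi (Abelian.coimage.π a)) }
  let S₂ : ShortComplex X.Modules := ShortComplex.mk (Abelian.factorThruCoimage a) (cokernel.π a) (by
    rw [← cancel_epi (Abelian.coimage.π a), comp_zero]
    refine ((Category.assoc _ _ _).symm.trans ?_)
    rw [Abelian.coimage.fac, cokernel.condition])
  have hS₂ : S₂.ShortExact :=
    { exact := by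
        let φ : ShortComplex.mk a (cokernel.π a) (cokernel.condition a) ⟶ S₂ :=
          ShortComplex.homMk (Abelian.coimage.π a) (𝟙 _) (𝟙 _) (by simp [S₂]) (by simp [S₂])
        haveI : Epi φ.τ₁ := inferInstanceAs (Epi (Abelian.coimage.π a))
        haveI : IsIso φ.τ₂ := inferInstanceAs (IsIso (𝟙 B))
        haveI : Mono φ.τ₃ := inferInstanceAs (Mono (𝟙 (cokernel a)))
        exact (ShortComplex.exact_iff_of_epi_of_isIso_of_mono φ).1 (ShortComplex.exact_cokernel a)
      mono_f := inferInstanceAs (Mono (Abelian.factorThruCoimage a))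
      epi_g := inferInstanceAs (Epi (cokernel.π a)) }
  have b₁ : Function.Bijective (Hm S₁.g i) := by
    refine ⟨(injective_iff_map_eq_zero _).2 fun x hx => ?_, fun y => ?_⟩
    · obtain ⟨z, rfl⟩ := exists_Hm_f hS₁ i x hx
      rw [(vK i (by omega)).elim z 0]
      exact map_zero _
    · exact exists_Hm_g hS₁ i y ((vK (i + 1) (by omega)).elim _ _)
  obtain ⟨q, rfl⟩ : ∃ q, i = q + 1 := ⟨i - 1, by omega⟩
  have b₂ : Function.Bijective (Hm S₂.f (q + 1)) := by
    refine ⟨(injective_iff_map_eq_zero _).2 fun x hx => ?_, fun y => ?_⟩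
    · obtain ⟨z, rfl⟩ := H10Coh.HHSeq.exists_dl hS₂ q x hx
      rw [(vC q (by omega)).elim z 0]
      exact map_zero _
    · exact exists_Hm_f hS₂ (q + 1) y ((vC (q + 1) (by omega)).elim _ _)
  exact ⟨(AddEquiv.ofBijective (Hm S₁.g (q + 1)) b₁).trans (AddEquiv.ofBijective (Hm S₂.f (q + 1)) b₂)⟩

/-- On a Noetherian scheme X let Z be a closed subscheme of cohomological dimension at most k (every
quasi-coherent module on Z has zero cohomology in degrees ≥ k + 1) and let F, F' be coherent modules
which are isomorphic on the open complement of Z. Then H^i(X, F) and H^i(X, F') are isomorphic for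
all i ≥ k + 2 (existence of an additive isomorphism only; the identification depends on choices). -/
theorem result (X : Scheme.{u}) [IsNoetherian X]
    {Z : Scheme.{u}} (ι : Z ⟶ X) [IsClosedImmersion ι] (k : ℕ)
    (hcd : ∀ G : Z.Modules, Coh.IsQCoh G → ∀ i : ℕ, k + 1 ≤ i → Subsingleton (Coh.HH Z G i))
    (U : X.Opens) (hU : (U : Set X) = (Set.range ι.base)ᶜ)
    (F F' : X.Modules) (hF : Coh.IsCoh F) (hF' : Coh.IsCoh F')
    (hiso : Nonempty (F.restrict U.ι ≅ F'.restrict U.ι)) (i : ℕ) (hi : k + 2 ≤ i) :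
    Nonempty (Coh.HH X F i ≃+ Coh.HH X F' i) := by
  obtain ⟨φ⟩ := hiso
  let R := Scheme.Modules.restrictFunctor U.ι
  haveI : PreservesFiniteLimits R := inferInstance
  haveI : Coh.IsQCoh (F ⊞ F') := by
    haveI : F.IsQuasicoherent := hF.1
    haveI : F'.IsQuasicoherent := hF'.1
    exact H10Coh.isQuasicoherent_biprod F F'
  have hFU : Coh.IsCoh (F.restrict U.ι) := H10Coh.isCoh_restrict U.ι F hF
  let j : F.restrict U.ι ⟶ (F ⊞ F').restrict U.ι := R.map biprod.inl + φ.hom ≫ R.map biprod.inr
  have hj : j ≫ R.map biprod.fst = 𝟙 _ ∧ j ≫ R.map biprod.snd = φ.hom := by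
    constructor <;>
      simp only [j, Preadditive.add_comp, Category.assoc, ← R.map_comp, biprod.inl_fst, biprod.inr_fst,
        biprod.inl_snd, biprod.inr_snd, Functor.map_zero, comp_zero, add_zero, zero_add, R.map_id] <;>
      simp [R]
  haveI : Mono j := SplitMono.mono ⟨R.map biprod.fst, hj.1⟩
  haveI : Coh.IsQCoh (F.restrict U.ι) := hFU.1
  obtain ⟨H, i', e, -, hHq, hHft, he⟩ := Groth.Agent.S2250.result (X := X)
    (fun x => ⟨⊤, trivial, inferInstance⟩) U (F ⊞ F') (F.restrict U.ι) j hFU.2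
  have ha : IsIso (R.map (i' ≫ biprod.fst)) := by
    rw [R.map_comp, ← he, Category.assoc, hj.1, Category.comp_id]
    infer_instance
  have hb : IsIso (R.map (i' ≫ biprod.snd)) := by
    rw [R.map_comp, ← he, Category.assoc, hj.2]
    infer_instance
  obtain ⟨e₁⟩ := nonempty_equiv ι k hcd U hU ⟨hHq, hHft⟩ hF (i' ≫ biprod.fst) ha i hi
  obtain ⟨e₂⟩ := nonempty_equiv ι k hcd U hU ⟨hHq, hHft⟩ hF' (i' ≫ biprod.snd) hb i hi
  exact ⟨e₁.symm.trans e₂⟩

end Groth.Agent.S13536
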