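import Groth.Statements.S8268
import Groth.Agent.H11Sym.VBundle
import Groth.Agent.H10Coh.QCohOps

set_option autoImplicit false
universe u
open CategoryTheory CategoryTheory.Limits AlgebraicGeometry Opposite TopologicalSpace
open EGA2

namespace Groth.Agent.S8268

/-- A surjective homomorphism E → F of quasi-coherent O_S-modules induces a closed immersion V(F) → V(E)
of the associated vector bundles (relative spectra of the symmetric algebras; the algebra map A → B
is the one extending E → F). -/
theorem result {S : Scheme.{u}} (E F : S.Modules) (hE : Coh.IsQCoh E)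
    (hF : Coh.IsQCoh F) (u : E ⟶ F) [Epi u]
    (A B : RelSpec.QCAlg S) (j : E ⟶ A.toModule) (k : F ⟶ B.toModule)
    (hA : RelSpec.IsSymAlg E A j) (hB : RelSpec.IsSymAlg F B k)
    (ψ : A ⟶ B) (hψ : j ≫ RelSpec.QCAlg.Hom.toModuleMap ψ = u ≫ k) :
    IsClosedImmersion (RelSpec.QCAlg.specMap ψ) := by
  refine H11Sym.isClosedImmersion_specMap ψ fun U hU b => ?_
  haveI : E.IsQuasicoherent := hE
  haveI : F.IsQuasicoherent := hF
  have hu := H10Coh.surjective_app_of_epi u hU
  letI := H11Sym.algOn B U
  induction b using ((hB.isAffSym hF) U hU).induction with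
  | algebraMap r => exact ⟨(A.str.app (op U)).hom r, ConcreteCategory.congr_hom (NatTrans.congr_app ψ.comm (op U)) r⟩
  | ι m =>
    obtain ⟨n, rfl⟩ := hu m
    exact ⟨(j.app U).hom n, congrArg (fun q : E ⟶ B.toModule => H11Sym.japp q U n) hψ⟩
  | mul a b ha hb =>
    obtain ⟨x, rfl⟩ := ha
    obtain ⟨y, rfl⟩ := hb
    exact ⟨x * y, map_mul _ x y⟩
  | add a b ha hb =>
    obtain ⟨x, rfl⟩ := ha
    obtain ⟨y, rfl⟩ := hb
    exact ⟨x + y, map_add _ x y⟩

end Groth.Agent.S8268
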