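import Groth.Statements.S8269
import Groth.Agent.H17.QCAlgGen
import Groth.Agent.H11Aff.AlgOf
import Groth.Agent.H11Aff.RelSpecUniv
import Groth.Agent.H11Sym.VBundle
import Groth.Agent.S8270

set_option autoImplicit false
universe u
open CategoryTheory CategoryTheory.Limits AlgebraicGeometry Opposite TopologicalSpace
open EGA2

namespace Groth.Agent.S8269

/-- Let Y be either a quasi-compact separated scheme or a scheme with Noetherian underlying space, and X
affine and of finite type over Y. Then X is Y-isomorphic to a closed subscheme of a vector bundle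
V(E) with E a quasi-coherent O_Y-module of finite type: there are such an E, its symmetric algebra
A, and a closed immersion X → Spec(A) over Y. -/
theorem result {X Y : Scheme.{u}}
    (hY : (CompactSpace Y ∧ Y.IsSeparated) ∨ NoetherianSpace Y) (f : X ⟶ Y) [IsAffineHom f]
    [LocallyOfFiniteType f] :
    ∃ (E : Y.Modules) (_ : Coh.IsCoh E) (A : RelSpec.QCAlg Y) (j : E ⟶ A.toModule)
      (_ : RelSpec.IsSymAlg E A j) (i : X ⟶ A.spec), IsClosedImmersion i ∧ i ≫ A.π = f := by
  obtain ⟨_, _⟩ : CompactSpace Y ∧ QuasiSeparatedSpace Y := by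
    rcases hY with ⟨hc, hs⟩ | hN
    · haveI := hc
      haveI := hs
      exact ⟨inferInstance, inferInstance⟩
    · haveI := hN
      exact ⟨inferInstance, inferInstance⟩
  let B := RelSpec.QCAlg.directImage f
  obtain ⟨E, φ, -, hEq, hEt, hgen⟩ := Groth.Agent.H17.QCAlgSub.exists_generating_submodule B fun U => by
    have h := HasRingHomProperty.appLE (P := @LocallyOfFiniteType) f inferInstance U ⟨f ⁻¹ᵁ U.1, U.2.preimage f⟩ le_rfl
    rwa [Scheme.Hom.appLE_eq_app] at h
  obtain ⟨A, j, hj⟩ := Groth.Agent.S8270.result E hEq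
  obtain ⟨ψ, hψ, -⟩ := hj B φ
  have hsurj : ∀ U : Y.affineOpens, Function.Surjective (ψ.hom.app (op U.1)).hom := by
    intro U b
    have hle : Groth.Agent.H17.QCAlgSub.genSub B φ U.1 ≤ (ψ.hom.app (op U.1)).hom.range := by
      refine Subring.closure_le.2 ?_
      rintro x (⟨r, rfl⟩ | ⟨e, rfl⟩)
      · refine ⟨(A.str.app (op U.1)).hom r, ?_⟩
        exact congrArg (fun t => t.app (op U.1) r) ψ.comm
      · exact ⟨(show A.presheaf.obj (op U.1) from j.app U.1 e), congrArg (fun t => t.app U.1 e) hψ⟩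
    exact hle ((hgen U).ge (Subring.mem_top b))
  let ω : AffAlg.algHoms A.π f := ⟨A.gammaMap ≫ ψ.hom, by
    refine (Category.assoc _ _ _).symm.trans ?_
    refine (congrArg (· ≫ ψ.hom) A.π_c_gammaMap).trans ?_
    exact ψ.comm⟩
  obtain ⟨⟨i, hi⟩, hω⟩ := Groth.Agent.H11Aff.algOf_surjective A.π f ω
  refine ⟨E, ⟨hEq, hEt⟩, A, j, hj, i, ?_, hi⟩
  refine IsZariskiLocalAtTarget.of_iSup_eq_top (fun U : Y.affineOpens => A.π ⁻¹ᵁ U.1)
    (Groth.Agent.H11Sym.iSup_preimage_π A) fun U => ?_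
  haveI : IsAffine (A.π ⁻¹ᵁ U.1 : Scheme.{u}) := U.2.preimage A.π
  have hpre : i ⁻¹ᵁ (A.π ⁻¹ᵁ U.1) = f ⁻¹ᵁ U.1 := by rw [← Scheme.Hom.comp_preimage, hi]
  haveI : IsAffine ((i ⁻¹ᵁ (A.π ⁻¹ᵁ U.1) : X.Opens) : Scheme.{u}) := by
    rw [hpre]; exact U.2.preimage f
  refine IsClosedImmersion.of_surjective_of_isAffine _ ?_
  haveI := Groth.Agent.H11Aff.RelSpecUniv.gammaMap_isIso A
  haveI : IsIso (A.gammaMap.app (op U.1)) := inferInstance
  have hs : Function.Surjective (i.appLE (A.π ⁻¹ᵁ U.1) (f ⁻¹ᵁ U.1) hpre.ge).hom := by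
    rw [← Groth.Agent.H11Aff.algHom_app_eq_appLE A.π f i hi U.1,
      show AffAlg.algHom A.π f i hi = ω.1 from congrArg Subtype.val hω]
    exact (hsurj U).comp (ConcreteCategory.bijective_of_isIso (A.gammaMap.app (op U.1))).2
  have key : ∀ (W : X.Opens) (h : i ⁻¹ᵁ (A.π ⁻¹ᵁ U.1) = W),
      Function.Surjective (i.appLE (A.π ⁻¹ᵁ U.1) W h.ge).hom →
        Function.Surjective (i.app (A.π ⁻¹ᵁ U.1)).hom := by
    rintro _ rfl h
    rwa [Scheme.Hom.appLE_eq_app] at h
  have happ := key _ hpre hs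
  have happ' : ∀ (V : A.spec.Opens), V = A.π ⁻¹ᵁ U.1 → Function.Surjective (i.app V).hom := by
    rintro _ rfl; exact happ
  rw [morphismRestrict_appTop]
  show Function.Surjective ((X.presheaf.map _).hom ∘ (i.app _).hom)
  refine Function.Surjective.comp ?_ (happ' _ (Scheme.Opens.ι_image_top _))
  have key3 : ∀ {V W : X.Opens} (h : W = V) (m : op V ⟶ op W), Function.Surjective (X.presheaf.map m).hom := by
    intro V W h m
    subst h
    obtain rfl : m = 𝟙 _ := Subsingleton.elim _ _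
    intro z
    exact ⟨z, by rw [X.presheaf.map_id]; rfl⟩
  exact key3 ((Scheme.Opens.ι_image_top _).trans (congrArg (i ⁻¹ᵁ ·) (Scheme.Opens.ι_image_top (A.π ⁻¹ᵁ U.1)).symm)) _

end Groth.Agent.S8269
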