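import Groth.Statements.S13541
import Groth.Agent.H14ResProp.VBCrit
import Groth.Agent.S8267
import Groth.Agent.S8268
import Groth.Agent.S8269
import Groth.Agent.S8270
import Groth.Agent.H16Derived.KFlat.LocFreeOps
import Groth.Agent.H8Props.FinLocFree.Sheaf

set_option linter.style.haveILetI false

set_option autoImplicit false
set_option backward.isDefEq.respectTransparency false
set_option backward.isDefEq.respectTransparency.types false
universe u
open CategoryTheory CategoryTheory.Limits AlgebraicGeometry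
open ResProp

namespace Groth.Agent.S13541

/-- In the case of schemes, a Noetherian scheme S has the resolution property exactly when each affine
finite-type morphism X ⟶ S factors over S through a closed immersion of X into a vector bundle V(E)
= Spec Sym(E), E a finite locally free module on S (V(E) is given as the relative spectrum of a
quasi-coherent algebra A with a map E ⟶ A making A the symmetric algebra of E). (The published
statement is for Noetherian algebraic stacks; this row is the case of schemes.) -/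
theorem result (S : Scheme.{u}) [IsNoetherian S] :
    PerfAux.HasResolutionProperty S ↔
      ∀ (X : Scheme.{u}) (f : X ⟶ S) [IsAffineHom f] [LocallyOfFiniteType f],
        ∃ (E : S.Modules) (A : RelSpec.QCAlg S) (j : E ⟶ A.toModule) (i : X ⟶ A.spec),
          Coh.IsQCoh E ∧ FlatMod.IsFinLocFree E ∧ RelSpec.IsSymAlg E A j ∧ IsClosedImmersion i ∧ i ≫ A.π = f := by
  classical
  constructor
  · intro h X f _ _
    obtain ⟨E₀, hE₀, A₀, j₀, hA₀, i₀, hi₀, hif⟩ := S8269.result (Or.inr inferInstance) f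
    obtain ⟨E, u, hEf, hu⟩ := h E₀ hE₀.1 hE₀.2
    have hEq : Coh.IsQCoh E := H8Props.FinLocFree.isQCoh_of_isFinLocFree E hEf
    obtain ⟨A, j, hA⟩ := S8270.result E hEq
    obtain ⟨ψ, hψ, -⟩ := hA A₀ (u ≫ j₀)
    haveI := hu
    haveI := S8268.result E E₀ hEq hE₀.1 u A A₀ j j₀ hA hA₀ ψ hψ
    haveI := hi₀
    exact ⟨E, A, j, i₀ ≫ RelSpec.QCAlg.specMap ψ, hEq, hEf, hA, inferInstance,
      by rw [Category.assoc, RelSpec.QCAlg.specMap_π, hif]⟩
  · intro h M hM hMFT
    obtain ⟨B, jM, hjM⟩ := H11Sym.exists_affSym M hM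
    haveI := S8267.result M ⟨hM, hMFT⟩ B jM hjM.isSymAlg
    obtain ⟨E, A, φ, c, hEq, hEf, hA, hc, hcf⟩ := h B.spec B.π
    haveI := hc
    obtain ⟨ψ, hψ⟩ := H14ResProp.VBCrit.exists_surjective_algHom A B c hcf
    obtain ⟨p, hp1, hp⟩ := H14ResProp.DegOne.exists_degOne hjM
    let F : PUnit.{u + 1} → S.Modules := fun _ => E
    let σ : (∐ F) ≅ E := coproductUniqueIso F
    let φ₁ : (∐ F) ⟶ A.toModule := σ.hom ≫ φ
    have hA₁ : RelSpec.IsSymAlg (∐ F) A φ₁ := by
      intro C χ
      obtain ⟨θ, hθ, huniq⟩ := hA C (σ.inv ≫ χ)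
      refine ⟨θ, ?_, fun θ' hθ' => huniq θ' ?_⟩
      · show (σ.hom ≫ φ) ≫ _ = χ
        rw [Category.assoc, hθ, Iso.hom_inv_id_assoc]
      · rw [← hθ']
        exact (by simp [φ₁] : φ ≫ RelSpec.QCAlg.Hom.toModuleMap θ' =
          σ.inv ≫ φ₁ ≫ RelSpec.QCAlg.Hom.toModuleMap θ')
    let φ' : ∀ k, F k ⟶ B.toModule := fun k => Sigma.ι F k ≫ φ₁ ≫ RelSpec.QCAlg.Hom.toModuleMap ψ
    obtain ⟨n, w, hw⟩ := H14ResProp.VBWords.exists_finite_epi F φ' hM p
      (fun U hU => ((H10Coh.isCoh_iff_finite_sections M).1 ⟨hM, hMFT⟩).2 U hU)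
      (fun U hU => H14ResProp.VBCrit.generates_of_surjective F (fun _ => hEq) A φ₁ hA₁ ψ hU (hψ U hU)) hp1 hp
    have hfree : ∀ (k : PUnit.{u + 1}) (ls : List PUnit.{u + 1}),
        FlatMod.IsFinLocFree (H14ResProp.VBWords.wMod F k ls) := by
      intro k ls
      induction ls with
      | nil => exact hEf
      | cons l ls ih => exact H16Derived.KFlat.Stalk.isFinLocFree_tensor ih hEf
    exact ⟨_, _, H16Derived.KFlat.Stalk.isFinLocFree_sigma _ fun i => hfree _ _, hw⟩

end Groth.Agent.S13541
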