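import Groth.Statements.S13543
import Groth.Agent.H14ResProp.VBCrit
import Groth.Agent.H29Fitt.Sheaf

set_option linter.style.haveILetI false

set_option autoImplicit false
set_option backward.isDefEq.respectTransparency false
set_option backward.isDefEq.respectTransparency.types false
universe u
open CategoryTheory CategoryTheory.Limits AlgebraicGeometry
open ResProp

namespace Groth.Agent.S13543

/-- In the case of schemes, on a quasi-compact quasi-separated scheme X let (E_i) be a family of
finitely presented quasi-coherent modules closed (up to isomorphism) under binary tensor products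
and binary direct sums. Then (E_i) is a generating family, i.e. every quasi-coherent module is a
quotient of a direct sum of copies of the E_i, if and only if every affine morphism Y ⟶ X factors
over X through a closed immersion of Y into the vector bundle V(E) = Spec Sym(E) of a direct sum E
of copies of members of the family, with finitely many summands whenever Y ⟶ X is of finite type
(V(E) is given as the relative spectrum of a quasi-coherent algebra that is the symmetric algebra of
E). (The published statement is for quasi-compact quasi-separated algebraic stacks and takes E to be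
the direct sum of a subfamily without repeated members; this row is the case of schemes and allows
repetitions, as the printed argument produces: for the generating family of free modules k, k^2,
k^3, … on a point and the affine morphism from the spectrum of a polynomial ring in uncountably many
variables, no direct sum of distinct members works.) -/
theorem result (X : Scheme.{u}) [CompactSpace X] [QuasiSeparatedSpace X]
    {ι : Type u} (E : ι → X.Modules) (hE : ∀ i, Coh.IsQCoh (E i) ∧ CohB1.IsFP (E i))
    (htens : ∀ i i' : ι, ∃ i'' : ι, Nonempty (E i'' ≅ CohB1.tensorMod (E i) (E i')))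
    (hsum : ∀ i i' : ι, ∃ i'' : ι, Nonempty (E i'' ≅ E i ⊞ E i')) :
    (∀ M : X.Modules, Coh.IsQCoh M → ∃ (κ : Type u) (j : κ → ι) (π : (∐ fun k : κ => E (j k)) ⟶ M), Epi π) ↔
    (∀ (Y : Scheme.{u}) (f : Y ⟶ X) [IsAffineHom f],
      ∃ (κ : Type u) (j : κ → ι) (B : RelSpec.QCAlg X) (φ : (∐ fun k : κ => E (j k)) ⟶ B.toModule) (c : Y ⟶ B.spec),
        RelSpec.IsSymAlg (∐ fun k : κ => E (j k)) B φ ∧ IsClosedImmersion c ∧ c ≫ B.π = f ∧
        (LocallyOfFiniteType f → Finite κ)) := by
  classical
  constructor
  · intro h Y f _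
    let B := RelSpec.QCAlg.directImage f
    haveI hBq := H17.QCAlgSub.isQCoh_toModule B
    obtain ⟨κ, j, π, hπ⟩ := h B.toModule hBq
    have hq : ∀ k, Coh.IsQCoh (E (j k)) := fun k => (hE _).1
    by_cases hft : LocallyOfFiniteType f
    · obtain ⟨K, t, ht, hK⟩ := H14ResProp.VBCrit.exists_finite_generating B (fun k => E (j k)) hq π fun U => by
        haveI := hft
        have h := HasRingHomProperty.appLE (P := @LocallyOfFiniteType) f inferInstance U
          ⟨f ⁻¹ᵁ U.1, U.2.preimage f⟩ le_rfl
        rwa [Scheme.Hom.appLE_eq_app] at h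
      have hEq : Coh.IsQCoh (∐ fun k : K => E (j k.1)) :=
        H10Coh.isQuasicoherent_coproduct (fun k : K => E (j k.1)) fun k => hq _
      obtain ⟨A, φ, c, hA, hc, hcf⟩ := H14ResProp.VBCrit.exists_embedding f hEq _ t ht hK
      exact ⟨K, fun k => j k.1, A, φ, c, hA, hc, hcf, fun _ => inferInstance⟩
    · have hEq : Coh.IsQCoh (∐ fun k => E (j k)) := H10Coh.isQuasicoherent_coproduct _ hq
      haveI : (∐ fun k => E (j k)).IsQuasicoherent := hEq
      haveI : B.toModule.IsQuasicoherent := hBq
      obtain ⟨A, φ, c, hA, hc, hcf⟩ := H14ResProp.VBCrit.exists_embedding f hEq π Set.univ (fun x => by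
        obtain ⟨U, hU, hxU, -⟩ := exists_isAffineOpen_mem_and_subset (TopologicalSpace.Opens.mem_top x)
        exact ⟨⟨U, hU⟩, trivial, hxU⟩) fun U _ => eq_top_iff.2 fun b _ => by
          obtain ⟨e, he⟩ := H10Coh.surjective_app_of_epi π U.2 b
          exact Subring.subset_closure (Or.inr ⟨e, he⟩)
      exact ⟨κ, j, A, φ, c, hA, hc, hcf, fun h' => absurd h' hft⟩
  · intro h M hM
    obtain ⟨B, jM, hjM⟩ := H11Sym.exists_affSym M hM
    obtain ⟨κ, j, A, φ, c, hA, hc, hcf, -⟩ := h B.spec B.π
    haveI := hc
    obtain ⟨ψ, hψ⟩ := H14ResProp.VBCrit.exists_surjective_algHom A B c hcf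
    obtain ⟨p, hp1, hp⟩ := H14ResProp.DegOne.exists_degOne hjM
    let φ' : ∀ k, E (j k) ⟶ B.toModule := fun k =>
      Sigma.ι (fun k => E (j k)) k ≫ φ ≫ RelSpec.QCAlg.Hom.toModuleMap ψ
    have hw : ∀ (k : κ) (ls : List κ), ∃ i : ι,
        Nonempty (E i ≅ H14ResProp.VBWords.wMod (fun k => E (j k)) k ls) := by
      intro k ls
      induction ls with
      | nil => exact ⟨j k, ⟨Iso.refl _⟩⟩
      | cons l ls ih =>
        obtain ⟨i, ⟨e⟩⟩ := ih
        obtain ⟨i', ⟨e'⟩⟩ := htens i (j l)
        exact ⟨i', ⟨e' ≪≫ PicGrp.tensorModIso e (Iso.refl _)⟩⟩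
    choose iw ew using hw
    let e : ∀ w : κ × List κ, E (iw w.1 w.2) ≅ H14ResProp.VBWords.wMod (fun k => E (j k)) w.1 w.2 :=
      fun w => (ew w.1 w.2).some
    haveI := H14ResProp.VBWords.exists_epi (fun k => E (j k)) φ' hM p
      (fun U hU => H14ResProp.VBCrit.generates_of_surjective _ (fun k => (hE _).1) A φ hA ψ hU (hψ U hU)) hp1 hp
    exact ⟨κ × List κ, fun w => iw w.1 w.2, (Sigma.mapIso e).hom ≫
      Sigma.desc (fun w : κ × List κ => H14ResProp.VBWords.wMap (fun k => E (j k)) φ' w.1 w.2 ≫ p), epi_comp _ _⟩

end Groth.Agent.S13543
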