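import Groth.Statements.S13547
import Groth.Agent.H02CA.FMConv.Conv

set_option autoImplicit false
universe u
open CategoryTheory AlgebraicGeometry
attribute [local instance] HasDerivedCategory.standard
open DEquiv

namespace Groth.Agent.S13547

/-- Let X → S and Y → S be smooth proper morphisms and let K, a complex of modules on X ×_S Y, be a
Fourier–Mukai kernel giving a relative equivalence over S from X to Y. The derived functors involved
are assumed to exist (instance binders), and the Fourier–Mukai functor Φ_K = Rpr_{2,*}(Lpr_1^*(−)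
⊗^L K) is assumed to send perfect objects to perfect objects (hypothesis h). Then Φ_K : D_perf(O_X)
⥤ D_perf(O_Y) is an equivalence of categories. -/
theorem result {S X Y : Scheme.{u}} (a : X ⟶ S) (b : Y ⟶ S)
    [Smooth a] [IsProper a] [Smooth b] [IsProper b]
    (K : CochainComplex (Limits.pullback a b).Modules ℤ)
    [DCoh.HasLpull (Limits.pullback.fst a b)] [DCoh.HasLTensorCx K] [DCoh.HasRpush (Limits.pullback.snd a b)]
    [DCoh.HasLpull (FMK.p12 a b a)] [DCoh.HasRpush (FMK.p13 a b a)]
    [∀ L : CochainComplex (FMK.T a b a).Modules ℤ, DCoh.HasLTensorCx L]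
    [DCoh.HasLpull (FMK.p12 b a b)] [DCoh.HasRpush (FMK.p13 b a b)]
    [∀ L : CochainComplex (FMK.T b a b).Modules ℤ, DCoh.HasLTensorCx L]
    (hK : FMK.IsRelEquivKernel a b K)
    (h : ∀ M : DCoh.D X, SGA6.perfP X M → SGA6.perfP Y ((FMK.phi a b K).obj M)) :
    (FMK.phiOn a b K (SGA6.perfP X) (SGA6.perfP Y) h).IsEquivalence := by
  open Groth.Agent.H02CA.FMConv Groth.Agent.H16Derived in
  open Groth.Agent.H16Derived.KFlat.Stalk in
  obtain ⟨hKp, K', hK', h₁, h₂⟩ := hK
  have hKq := Dual.isQCohD_of_isPerfect hKp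
  have hK'q := Dual.isQCohD_of_isPerfect hK'
  haveI := hasLTensorCx K'
  haveI := hasLpull (Limits.pullback.fst b a)
  haveI := QCohD.hasRpush (Limits.pullback.snd b a)
  obtain ⟨u⟩ := nonempty_comp_id a b K K' hKq hK'q h₁
  obtain ⟨v⟩ := nonempty_comp_id b a K' K hK'q hKq h₂
  let u' := restrictPerf u
  let v' := restrictPerf v
  let G := FMK.phiOn b a K' (SGA6.perfP Y) (SGA6.perfP X) fun M hM => isPerfect_phi b a K' hK' hM
  refine (CategoryTheory.Equivalence.mk (FMK.phiOn a b K _ _ h) G ?_ ?_).isEquivalence_functor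
  · exact NatIso.ofComponents (fun M => ObjectProperty.isoMk _ (u'.symm.app M))
      (fun f => ObjectProperty.hom_ext _ (u'.inv.naturality f))
  · exact NatIso.ofComponents (fun M => ObjectProperty.isoMk _ (v'.app M))
      (fun f => ObjectProperty.hom_ext _ (v'.hom.naturality f))

end Groth.Agent.S13547
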