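import Groth.Statements.S7591
import Mathlib
import Groth.Agent.H22Alg.FieldComponents
import Groth.Agent.H22Alg.VarGeom

set_option autoImplicit false
universe u
open CategoryTheory CategoryTheory.Limits AlgebraicGeometry
open Variety

namespace Groth.Agent.S7591

/-- For a scheme X over a field k, geometric connectedness of X over k holds exactly when, for each
finite separable extension field k' of k, the base change X_{k'} is a connected (so nonempty)
scheme. -/
theorem result (k : Type u) [Field k] (X : Scheme.{u}) [X.Over (Spec (CommRingCat.of k))] :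
    GeometricallyConnected (X ↘ (Spec (CommRingCat.of k))) ↔
      ∀ (k' : Type u) [Field k'] [Algebra k k'] [FiniteDimensional k k'] [Algebra.IsSeparable k k'],
        ConnectedSpace ↥(Curv2.bc k X k') := by
  refine ⟨fun h k' _ _ _ _ => GeometricallyConnected.geometrically_connectedSpace _ _ _
    (.of_hasPullback _ (Spec.map (CommRingCat.ofHom (algebraMap k k')))), fun h => ?_⟩
  haveI : ConnectedSpace X := by
    haveI := h k
    haveI : Surjective (Curv2.bcFst k X k) :=
      ⟨Groth.Agent.H22Alg.GaloisFibres.surjective_bcπ (X ↘ Spec (CommRingCat.of k)) k⟩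
    exact Groth.Agent.H06Desc.connectedSpace_of_surjective (Curv2.bcFst k X k)
  haveI : ConnectedSpace ↥(FBase.bc (X ↘ Spec (CommRingCat.of k)) (SeparableClosure k)) :=
    Groth.Agent.H22Alg.GaloisFibres.connectedSpace_of_forall_finite (X ↘ Spec (CommRingCat.of k)) (SeparableClosure k) fun L _ => h L
  exact (Groth.Agent.H06Desc.geometricallyConnected_iff_bcStr (K := SeparableClosure k) (X ↘ Spec (CommRingCat.of k))).mpr
    (Groth.Agent.H22Alg.VarGeom.geometricallyConnected_of_isSepClosed _)

end Groth.Agent.S7591
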