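import Groth.Statements.S1355
import Groth.Agent.S7591
import Groth.Agent.S9734
-- import your own Groth.Agent.* helpers here

set_option autoImplicit false
universe u
open FlatMor

namespace Groth.Agent.S1355

open AlgebraicGeometry CategoryTheory Limits in
/-- Let f : X → S and s a point of S. The fibre of f over s is geometrically connected if and only if
for every étale morphism U → S and every point u over s, the fibre over u of the base change of f to
U is connected. -/
theorem result {X S : Scheme.{u}} (f : X ⟶ S) (s : S) :
    GeometricallyConnected (f.fiberToSpecResidueField s) ↔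
      ∀ (U : Scheme.{u}) (g : U ⟶ S) (u : U), Etale g → g u = s → ConnectedSpace ↑((pullback.snd f g).fiber u) := by
  have homeo : ∀ {A B : Scheme.{u}}, (A ≅ B) → ConnectedSpace ↑A → ConnectedSpace ↑B := fun e h =>
    (Scheme.homeoOfIso e).surjective.connectedSpace (Scheme.homeoOfIso e).continuous
  have key : ∀ (U : Scheme.{u}) (g : U ⟶ S) (u : U) (hu : g u = s),
      Nonempty (((pullback.snd f g).fiber u) ≅ pullback (f.fiberToSpecResidueField s)
        (Spec.map ((S.residueFieldCongr hu).inv ≫ g.residueFieldMap u))) := by
    intro U g u hu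
    subst hu
    have e1 : Spec.map ((S.residueFieldCongr rfl).inv ≫ g.residueFieldMap u) ≫ S.fromSpecResidueField (g u) =
        U.fromSpecResidueField u ≫ g := by
      simp [Scheme.Hom.SpecMap_residueFieldMap_fromSpecResidueField]
    exact ⟨(pullbackLeftPullbackSndIso f g (U.fromSpecResidueField u)) ≪≫
      pullback.congrHom rfl e1.symm ≪≫
      (pullbackLeftPullbackSndIso f (S.fromSpecResidueField (g u))
        (Spec.map ((S.residueFieldCongr rfl).inv ≫ g.residueFieldMap u))).symm⟩
  constructor
  · intro h U g u hg hu
    obtain ⟨e⟩ := key U g u hu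
    exact homeo e.symm (geometrically_iff_of_isClosedUnderIsomorphisms.1 h.geometrically_connectedSpace _ _)
  · intro h
    let : (f.fiber s).Over (Spec (CommRingCat.of (S.residueField s))) := ⟨f.fiberToSpecResidueField s⟩
    refine (S7591.result (S.residueField s) (f.fiber s)).2 fun k' _ _ _ _ => ?_
    obtain ⟨U, g, u, hu, hg, ⟨σ⟩⟩ := S9734.result S s k'
    obtain ⟨e⟩ := key U g u hu
    have hcu := homeo e (h U g u hg hu)
    let _ := ((S.residueFieldCongr hu).inv ≫ g.residueFieldMap u).hom.toAlgebra
    let σc : CommRingCat.of k' ⟶ U.residueField u := CommRingCat.ofHom σ.toRingEquiv.toRingHom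
    have hσ : CommRingCat.ofHom (algebraMap (S.residueField s) k') ≫ σc =
        (S.residueFieldCongr hu).inv ≫ g.residueFieldMap u := by
      ext a
      exact σ.commutes a
    have hi : IsIso σc :=
      (ConcreteCategory.isIso_iff_bijective _).2 σ.bijective
    let m : pullback (f.fiberToSpecResidueField s) (Spec.map ((S.residueFieldCongr hu).inv ≫ g.residueFieldMap u)) ⟶
        pullback (f.fiberToSpecResidueField s) (Spec.map (CommRingCat.ofHom (algebraMap (S.residueField s) k'))) :=
      pullback.map _ _ _ _ (𝟙 _) (Spec.map σc) (𝟙 _)
        (by simp) ((Category.comp_id _).trans ((congrArg Spec.map hσ).symm.trans (Spec.map_comp _ _)))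
    have : IsIso (Spec.map σc) := by
      have := hi
      exact (Scheme.Spec.map_isIso σc.op)
    have hm : IsIso m := pullback.map_isIso _ _ _ _ _ _ _ _ _
    exact homeo (@asIso _ _ _ _ m hm) hcu

end Groth.Agent.S1355
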