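import Groth.Statements.S13555
import Groth.Agent.H02CA.FMConv.Adj

set_option autoImplicit false
universe u
open CategoryTheory AlgebraicGeometry
attribute [local instance] HasDerivedCategory.standard
open DEquiv

namespace Groth.Agent.S13555

/-- Let S, X and Y be quasi-compact quasi-separated schemes, X → S proper, flat and of finite
presentation, Y → S a morphism, and K a complex of modules on X ×_S Y defining a perfect object with
quasi-coherent cohomology sheaves. Let a denote the right adjoint of Rpr_{2,*} : D_QCoh(O_{X ×_S Y})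
→ D_QCoh(O_Y) (assumed to exist, instance binder), a(O_Y) its value on the structure sheaf in degree
0, and let K' be a complex of modules on Y ×_S X whose image in the derived category is isomorphic
to the derived pullback, along the symmetry Y ×_S X → X ×_S Y, of RHom(K, a(O_Y)). The derived
functors involved are assumed to exist and the two Fourier–Mukai functors are assumed to preserve
objects with quasi-coherent cohomology sheaves (hypotheses h, h'). Then Φ_{K'} : D_QCoh(O_Y) ⥤
D_QCoh(O_X) is right adjoint to Φ_K : D_QCoh(O_X) ⥤ D_QCoh(O_Y) (existence of an adjunction; the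
published statement names the comparison map Hom(M, Φ_{K'} N) → Hom(Φ_K M, N), which is not
constructed here). -/
theorem result {S X Y : Scheme.{u}} (a : X ⟶ S) (b : Y ⟶ S)
    [CompactSpace S] [QuasiSeparatedSpace S] [CompactSpace X] [QuasiSeparatedSpace X]
    [CompactSpace Y] [QuasiSeparatedSpace Y]
    [IsProper a] [Flat a] [LocallyOfFinitePresentation a]
    (K : CochainComplex (Limits.pullback a b).Modules ℤ) (hK : DCoh.IsPerfect (DCoh.toD _ K))
    (hKq : DCoh.IsQCohD (DCoh.toD _ K))
    [DCoh.HasLpull (Limits.pullback.fst a b)] [DCoh.HasLTensorCx K] [DCoh.HasRpush (Limits.pullback.snd a b)]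
    [DCoh.HasRSheafHom K]
    (hR : DCoh.RpushPreservesQCoh (Limits.pullback.snd a b)) [DCoh.HasShriek (Limits.pullback.snd a b) hR]
    (OY : DCoh.DQCoh Y) (hOY : OY.obj ≅ DCoh.inD Y (Coh.structureModule Y))
    [DCoh.HasLpull (Limits.pullbackSymmetry b a).hom]
    (K' : CochainComplex (Limits.pullback b a).Modules ℤ)
    (hK' : Nonempty (DCoh.toD _ K' ≅ (DCoh.Lpull (Limits.pullbackSymmetry b a).hom).obj
      ((DCoh.RSheafHom K).obj (DCoh.dualizingCx (Limits.pullback.snd a b) hR OY))))
    [DCoh.HasLpull (Limits.pullback.fst b a)] [DCoh.HasLTensorCx K'] [DCoh.HasRpush (Limits.pullback.snd b a)]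
    (h : ∀ M : DCoh.D X, DCoh.IsQCohD M → DCoh.IsQCohD ((FMK.phi a b K).obj M))
    (h' : ∀ N : DCoh.D Y, DCoh.IsQCohD N → DCoh.IsQCohD ((FMK.phi b a K').obj N)) :
    Nonempty (FMK.phiOn a b K DCoh.IsQCohD DCoh.IsQCohD h ⊣ FMK.phiOn b a K' DCoh.IsQCohD DCoh.IsQCohD h') := by
  open Groth.Agent.H02CA.FMConv Groth.Agent.H16Derived in
  open Groth.Agent.H16Derived.KFlat.Stalk in
  haveI := hasLpull (Limits.pullback.snd a b)
  haveI : QuasiSeparated b :=
    haveI : QuasiSeparatedSpace S := inferInstance
    (quasiSeparated_iff_quasiSeparatedSpace b).2 inferInstance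
  haveI : QuasiCompact b := (quasiCompact_iff_compactSpace b).2 inferInstance
  haveI := QCohD.hasRpush (Limits.pullback.fst a b)
  obtain ⟨eR⟩ := Groth.Agent.LeadBrown.nonempty_R_iso hK
  obtain ⟨e'⟩ := hK'
  let D := DCoh.dualizingCx (Limits.pullback.snd a b) hR OY
  let eκ : (DCoh.RSheafHom K).obj D ≅ ((Dual.T _).obj D).obj (Dual.ro (DerivedCategory.Q.obj K)) :=
    (Dual.rsheafHomIso K).app D ≪≫ (eR.app D).symm
  obtain ⟨p⟩ := nonempty_phi_symm a b (((Dual.T _).obj D).obj (Dual.ro (DerivedCategory.Q.obj K))) K'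
    ⟨e' ≪≫ (DCoh.Lpull (Limits.pullbackSymmetry b a).hom).mapIso eκ⟩
  exact nonempty_adj_general (Limits.pullback.fst a b) (Limits.pullback.snd a b) hK
    (Adjunction.ofIsLeftAdjoint (DCoh.RpushQ (Limits.pullback.snd a b) hR)) OY ⟨hOY⟩ _
    ⟨Functor.isoWhiskerLeft (ObjectProperty.ι _) (Functor.isoWhiskerLeft _
      (Functor.isoWhiskerRight (Dual.ltensorCxIsoT K).symm _))⟩ _
    ⟨Functor.isoWhiskerLeft (ObjectProperty.ι _) p⟩

end Groth.Agent.S13555
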