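import Groth.Statements.S13559
import Groth.Agent.H02CA.FMConv.Gor

set_option autoImplicit false
set_option backward.isDefEq.respectTransparency false
set_option maxHeartbeats 1000000
universe u
open CategoryTheory AlgebraicGeometry
attribute [local instance] HasDerivedCategory.standard
open DEquiv

namespace Groth.Agent.S13559

/-- Let S be a Noetherian scheme, X → S and Y → S proper flat morphisms with X → S a Gorenstein
morphism, and K a complex of modules on X ×_S Y defining a perfect object, with dual K^∨ = RHom(K,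
O). Let ω_{X/S} = a(O_S) be the relative dualizing complex of X over S, a being the right adjoint of
R(X → S)_* on D_QCoh (assumed to exist) and O_S the structure sheaf in degree 0. The derived
functors involved are assumed to exist (instance binders). Then for every complex W on X ×_S Y
representing Lpr_1^* ω_{X/S} and every complex K' on Y ×_S X whose image in the derived category is
isomorphic to the derived pullback, along the symmetry Y ×_S X → X ×_S Y, of K^∨ ⊗^L W: K' defines a
perfect object, and, assuming the two Fourier–Mukai functors preserve perfect objects (hypotheses h,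
h'), Φ_{K'} : D_perf(O_Y) ⥤ D_perf(O_X) is right adjoint to Φ_K : D_perf(O_X) ⥤ D_perf(O_Y)
(existence of an adjunction). -/
theorem result {S X Y : Scheme.{u}} [IsNoetherian S] (a : X ⟶ S) (b : Y ⟶ S)
    [IsProper a] [Flat a] [IsProper b] [Flat b]
    (K : CochainComplex (Limits.pullback a b).Modules ℤ) (hK : DCoh.IsPerfect (DCoh.toD _ K))
    [DCoh.HasLpull (Limits.pullback.fst a b)] [DCoh.HasLTensorCx K] [DCoh.HasRpush (Limits.pullback.snd a b)]
    [DCoh.HasRSheafHom K]
    (hG : Dual3.IsGorensteinMor a)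
    [DCoh.HasRpush a] (hRa : DCoh.RpushPreservesQCoh a) [DCoh.HasShriek a hRa]
    (OS : DCoh.DQCoh S) (hOS : OS.obj ≅ DCoh.inD S (Coh.structureModule S))
    (W : CochainComplex (Limits.pullback a b).Modules ℤ) [DCoh.HasLTensorCx W]
    (hW : Nonempty (DCoh.toD _ W ≅ (DCoh.Lpull (Limits.pullback.fst a b)).obj (DCoh.dualizingCx a hRa OS)))
    [DCoh.HasLpull (Limits.pullbackSymmetry b a).hom]
    (K' : CochainComplex (Limits.pullback b a).Modules ℤ)
    (hK' : Nonempty (DCoh.toD _ K' ≅ (DCoh.Lpull (Limits.pullbackSymmetry b a).hom).obj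
      ((DCoh.LTensorCx W).obj ((DCoh.RSheafHom K).obj (DCoh.inD _ (Coh.structureModule (Limits.pullback a b)))))))
    [DCoh.HasLpull (Limits.pullback.fst b a)] [DCoh.HasLTensorCx K'] [DCoh.HasRpush (Limits.pullback.snd b a)]
    (h : ∀ M : DCoh.D X, SGA6.perfP X M → SGA6.perfP Y ((FMK.phi a b K).obj M))
    (h' : ∀ N : DCoh.D Y, SGA6.perfP Y N → SGA6.perfP X ((FMK.phi b a K').obj N)) :
    DCoh.IsPerfect (DCoh.toD _ K') ∧
      Nonempty (FMK.phiOn a b K (SGA6.perfP X) (SGA6.perfP Y) h ⊣ FMK.phiOn b a K' (SGA6.perfP Y) (SGA6.perfP X) h') := by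
  open Groth.Agent.H02CA.FMConv Groth.Agent.H16Derived in
  open Groth.Agent.H16Derived.KFlat.Stalk in
  haveI := hasLpull (Limits.pullback.snd a b)
  haveI := QCohD.hasRpush (Limits.pullback.fst a b)
  haveI : IsLocallyNoetherian Y := LocallyOfFiniteType.isLocallyNoetherian b
  haveI : CompactSpace Y := QuasiCompact.compactSpace_of_compactSpace b
  haveI : IsNoetherian Y := { }
  haveI : LocallyOfFinitePresentation a := inferInstance
  obtain ⟨hr, a', adj', O', eO', ⟨eω⟩, hω, -⟩ := exists_gorenstein_baseChange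
    (f' := Limits.pullback.snd a b) (IsPullback.of_hasPullback a b) hG
    (Adjunction.ofIsLeftAdjoint (DCoh.RpushQ a hRa)) OS hOS
  obtain ⟨eW⟩ := hW
  obtain ⟨eκ₀⟩ := nonempty_twistKernel K W (eW ≪≫ eω)
  let eκ := eκ₀ ≪≫ Dual.σ _ _
  obtain ⟨e'⟩ := hK'
  have hκ : DCoh.IsPerfect (((Dual.T _).obj (a'.obj O').obj).obj (Dual.ro (DCoh.toD _ K))) :=
    isPerfect_T' hω (Dual.isPerfect_ro hK)
  have hK'p : DCoh.IsPerfect (DCoh.toD _ K') :=
    isPerfect_of_iso (e' ≪≫ (DCoh.Lpull _).mapIso eκ).symm (isPerfect_lpull _ hκ)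
  refine ⟨hK'p, ?_⟩
  obtain ⟨p⟩ := nonempty_phi_symm a b _ K' ⟨e' ≪≫ (DCoh.Lpull _).mapIso eκ⟩
  have hF : ∀ M : DCoh.D X, DCoh.IsQCohD M → DCoh.IsQCohD ((FMK.phi a b K).obj M) := fun M hM =>
    isQCohD_phi a b K (Dual.isQCohD_of_isPerfect hK) hM
  have hF' : ∀ N : DCoh.D Y, DCoh.IsQCohD N → DCoh.IsQCohD ((FMK.phi b a K').obj N) := fun N hN =>
    isQCohD_phi b a K' (Dual.isQCohD_of_isPerfect hK'p) hN
  obtain ⟨adjF⟩ := nonempty_adj_general (Limits.pullback.fst a b) (Limits.pullback.snd a b) hK adj' O' ⟨eO'⟩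
    (FMK.phiOn a b K DCoh.IsQCohD DCoh.IsQCohD hF)
    ⟨Functor.isoWhiskerLeft (ObjectProperty.ι _) (Functor.isoWhiskerLeft _
      (Functor.isoWhiskerRight (Dual.ltensorCxIsoT K).symm _))⟩
    (FMK.phiOn b a K' DCoh.IsQCohD DCoh.IsQCohD hF')
    ⟨Functor.isoWhiskerLeft (ObjectProperty.ι _) p⟩
  exact nonempty_restrict_perf adjF _ _ ⟨Iso.refl _⟩ ⟨Iso.refl _⟩

end Groth.Agent.S13559
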