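import Groth.Statements.S13560
import Groth.Agent.H02CA.FMConv.Gor

set_option autoImplicit false
set_option backward.isDefEq.respectTransparency false
set_option maxHeartbeats 1000000
universe u
open CategoryTheory AlgebraicGeometry
attribute [local instance] HasDerivedCategory.standard
open DEquiv

namespace Groth.Agent.S13560

/-- Let S be a Noetherian scheme, X → S and Y → S proper flat morphisms with Y → S a Gorenstein
morphism, and K a complex of modules on X ×_S Y defining a perfect object, with dual K^∨ = RHom(K,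
O). Let ω_{Y/S} = a(O_S) be the relative dualizing complex of Y over S, a being the right adjoint of
R(Y → S)_* on D_QCoh (assumed to exist) and O_S the structure sheaf in degree 0. The derived
functors involved are assumed to exist (instance binders). Then for every complex W on X ×_S Y
representing Lpr_2^* ω_{Y/S} and every complex K'' on Y ×_S X whose image in the derived category is
isomorphic to the derived pullback, along the symmetry Y ×_S X → X ×_S Y, of K^∨ ⊗^L W: K'' defines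
a perfect object, and, assuming the two Fourier–Mukai functors preserve perfect objects (hypotheses
h, h''), Φ_{K''} : D_perf(O_Y) ⥤ D_perf(O_X) is left adjoint to Φ_K : D_perf(O_X) ⥤ D_perf(O_Y)
(existence of an adjunction). -/
theorem result {S X Y : Scheme.{u}} [IsNoetherian S] (a : X ⟶ S) (b : Y ⟶ S)
    [IsProper a] [Flat a] [IsProper b] [Flat b]
    (K : CochainComplex (Limits.pullback a b).Modules ℤ) (hK : DCoh.IsPerfect (DCoh.toD _ K))
    [DCoh.HasLpull (Limits.pullback.fst a b)] [DCoh.HasLTensorCx K] [DCoh.HasRpush (Limits.pullback.snd a b)]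
    [DCoh.HasRSheafHom K]
    (hG : Dual3.IsGorensteinMor b)
    [DCoh.HasRpush b] (hRb : DCoh.RpushPreservesQCoh b) [DCoh.HasShriek b hRb]
    (OS : DCoh.DQCoh S) (hOS : OS.obj ≅ DCoh.inD S (Coh.structureModule S))
    [DCoh.HasLpull (Limits.pullback.snd a b)]
    (W : CochainComplex (Limits.pullback a b).Modules ℤ) [DCoh.HasLTensorCx W]
    (hW : Nonempty (DCoh.toD _ W ≅ (DCoh.Lpull (Limits.pullback.snd a b)).obj (DCoh.dualizingCx b hRb OS)))
    [DCoh.HasLpull (Limits.pullbackSymmetry b a).hom]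
    (K'' : CochainComplex (Limits.pullback b a).Modules ℤ)
    (hK'' : Nonempty (DCoh.toD _ K'' ≅ (DCoh.Lpull (Limits.pullbackSymmetry b a).hom).obj
      ((DCoh.LTensorCx W).obj ((DCoh.RSheafHom K).obj (DCoh.inD _ (Coh.structureModule (Limits.pullback a b)))))))
    [DCoh.HasLpull (Limits.pullback.fst b a)] [DCoh.HasLTensorCx K''] [DCoh.HasRpush (Limits.pullback.snd b a)]
    (h : ∀ M : DCoh.D X, SGA6.perfP X M → SGA6.perfP Y ((FMK.phi a b K).obj M))
    (h'' : ∀ N : DCoh.D Y, SGA6.perfP Y N → SGA6.perfP X ((FMK.phi b a K'').obj N)) :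
    DCoh.IsPerfect (DCoh.toD _ K'') ∧
      Nonempty (FMK.phiOn b a K'' (SGA6.perfP Y) (SGA6.perfP X) h'' ⊣ FMK.phiOn a b K (SGA6.perfP X) (SGA6.perfP Y) h) := by
  open Groth.Agent.H02CA.FMConv Groth.Agent.H16Derived in
  open Groth.Agent.H16Derived.KFlat.Stalk in
  haveI := QCohD.hasRpush (Limits.pullback.fst a b)
  haveI : IsLocallyNoetherian X := LocallyOfFiniteType.isLocallyNoetherian a
  haveI : CompactSpace X := QuasiCompact.compactSpace_of_compactSpace a
  haveI : IsNoetherian X := { }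
  haveI : LocallyOfFinitePresentation b := inferInstance
  obtain ⟨hr, a', adj', O', eO', ⟨eω⟩, hω, ⟨einv⟩⟩ := exists_gorenstein_baseChange
    (f' := Limits.pullback.fst a b) (IsPullback.of_hasPullback a b).flip hG
    (Adjunction.ofIsLeftAdjoint (DCoh.RpushQ b hRb)) OS hOS
  obtain ⟨eW⟩ := hW
  obtain ⟨eκ⟩ := nonempty_twistKernel K W (eW ≪≫ eω)
  obtain ⟨e'⟩ := hK''
  obtain ⟨ek⟩ := nonempty_dual_twist hK einv
  have hκ := isPerfect_T' (Dual.isPerfect_ro hK) hω
  have hKp : DCoh.IsPerfect (DCoh.toD _ K'') :=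
    isPerfect_of_iso (e' ≪≫ (DCoh.Lpull _).mapIso eκ).symm (isPerfect_lpull _ hκ)
  refine ⟨hKp, ?_⟩
  have hF : ∀ M : DCoh.D X, DCoh.IsQCohD M → DCoh.IsQCohD ((FMK.phi a b K).obj M) := fun M hM =>
    isQCohD_phi a b K (Dual.isQCohD_of_isPerfect hK) hM
  have hF' : ∀ N : DCoh.D Y, DCoh.IsQCohD N → DCoh.IsQCohD ((FMK.phi b a K'').obj N) := fun N hN =>
    isQCohD_phi b a K'' (Dual.isQCohD_of_isPerfect hKp) hN
  obtain ⟨p⟩ := nonempty_phi_symm a b _ K'' ⟨e' ≪≫ (DCoh.Lpull _).mapIso eκ⟩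
  obtain ⟨adjF⟩ := nonempty_adj_general (Limits.pullback.snd a b) (Limits.pullback.fst a b)
    hκ adj' O' ⟨eO'⟩
    (FMK.phiOn b a K'' DCoh.IsQCohD DCoh.IsQCohD hF')
    ⟨Functor.isoWhiskerLeft (ObjectProperty.ι _) p⟩
    (FMK.phiOn a b K DCoh.IsQCohD DCoh.IsQCohD hF)
    ⟨Functor.isoWhiskerLeft (ObjectProperty.ι _) (Functor.isoWhiskerLeft _
      (Functor.isoWhiskerRight ((Dual.ltensorCxIsoT K).symm ≪≫ (Dual.T _).flip.mapIso ek.symm) _))⟩
  exact nonempty_restrict_perf adjF _ _ ⟨Iso.refl _⟩ ⟨Iso.refl _⟩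

end Groth.Agent.S13560
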