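import Groth.Statements.S13563
import Groth.Agent.H4DR.BC.Cmp

set_option autoImplicit false
universe u
open CategoryTheory
attribute [local instance] HasDerivedCategory.standard
open DRing

namespace Groth.Agent.S13563

/-- Let R → A and R → R' be ring maps and A' = A ⊗_R R' (a cocartesian square of commutative rings),
with A and R' tor independent over R (Tor_p^R(A, R') = 0 for p ≥ 1). The derived base-change
functors − ⊗^L_R R' and − ⊗^L_A A' are given together with adjunctions making them left adjoint to
restriction of scalars. Then for every K in D(A) the comparison map (K|_R) ⊗^L_R R' → (K ⊗^L_A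
A')|_{R'} is an isomorphism. (Both hypotheses are needed: for a square that is not cocartesian tor
independence alone does not suffice.) -/
theorem result (R A R' A' : Type u) [CommRing R] [CommRing A] [CommRing R'] [CommRing A']
    [Algebra R A] [Algebra R R'] [Algebra A A'] [Algebra R' A'] [Algebra R A'] [IsScalarTower R A A'] [IsScalarTower R R' A']
    [Algebra.IsPushout R A R' A']
    (htor : ∀ p : ℕ, 1 ≤ p → Subsingleton (DRing.Tor R p A R'))
    [DRing.HasLBaseChange (algebraMap R R')] [DRing.HasLBaseChange (algebraMap A A')]
    (adjρ : DRing.LBaseChange (algebraMap R R') ⊣ DRing.restrictD (algebraMap R R'))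
    (adjα : DRing.LBaseChange (algebraMap A A') ⊣ DRing.restrictD (algebraMap A A'))
    (h : (algebraMap A A').comp (algebraMap R A) = (algebraMap R' A').comp (algebraMap R R'))
    (K : Dual.D A) : IsIso (TrivBC.cmp adjρ adjα h K) := by
  exact Groth.Agent.H4DR.BC.isIso_cmp h adjρ adjα (fun p hp => htor p hp) K

end Groth.Agent.S13563
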