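import Groth.Statements.S13569
import Groth.Agent.H14AlgSt.PointsMor

set_option autoImplicit false
set_option backward.isDefEq.respectTransparency false
set_option backward.isDefEq.respectTransparency.types false
universe u
open CategoryTheory AlgebraicGeometry
open AlgSt

namespace Groth.Agent.S13569

/-- (2) ⇒ (1): let `f : 𝒳 ⟶ 𝒴` be a morphism of algebraic stacks over `S`. If for every affine scheme
`Z` over `S` and every `Z ⟶ 𝒴` the projection `Z ×_𝒴 𝒳 ⟶ Z` is universally injective, then `f` is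
universally injective (every base change to an algebraic stack is injective on points). The converse
implication is the base-change property. -/
theorem result {S : Scheme.{u}} {𝒳 𝒴 : AlgSt.Cat S}
    (h𝒳 : AlgSt.IsAlgStack Scheme.fppfPrecoverage 𝒳) (h𝒴 : AlgSt.IsAlgStack Scheme.fppfPrecoverage 𝒴) (f : 𝒳 ⥤ᵇ 𝒴)
    (h : ∀ (Z : Over S) [IsAffine Z.left] (z : FibCat.overCat Z ⥤ᵇ 𝒴),
      AlgSt.IsUnivInjective Scheme.fppfPrecoverage (FibCat.fpFst z f)) :
    AlgSt.IsUnivInjective Scheme.fppfPrecoverage f := by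
  refine Groth.Agent.H14AlgSt.isUnivInjective_of_surjective_diag h𝒳.isStack.1 h𝒴.isStack.1
    (Groth.Agent.H14AlgSt.surjective_diag_of_cover h𝒳 h𝒴 fun y => ?_)
  obtain ⟨p, rfl⟩ := AlgSt.Points.mk_surjective y
  have := Groth.Agent.H14Fib.isFibered_of_fibGrpd h𝒴.isStack.1
  obtain ⟨ξ, i, -, -⟩ := Groth.Agent.H14Fib.exists_fromOver (U := CategoryTheory.Over.mk p.str) p.lies
  refine ⟨_, (Groth.Agent.H14AlgSt.isDM_of_repByAlgSp
    (Groth.Agent.H14AlgSt.repByAlgSp_overCat (CategoryTheory.Over.mk p.str))).1, ξ, ?_, ?_⟩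
  · let r : AlgSt.FPt (FibCat.overCat (CategoryTheory.Over.mk p.str)) :=
      ⟨p.K, p.str, Groth.Agent.H14Fib.topObj _, rfl⟩
    exact ⟨AlgSt.Points.mk r, Groth.Agent.H14AlgSt.mk_eq_of_hom (p := r.map ξ) i.hom⟩
  · have : IsAffine (CategoryTheory.Over.mk p.str).left :=
      inferInstanceAs (IsAffine (Spec (CommRingCat.of p.K)))
    exact h _ ξ

end Groth.Agent.S13569
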