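import Groth.Statements.S13571
import Groth.Agent.H14Atlas.QuotAlg

set_option autoImplicit false
universe u
open CategoryTheory AlgebraicGeometry MonoidalCategory
open AlgSt

namespace Groth.Agent.S13571

/-- For a group action: let `G` be a group scheme over `S` that is flat, locally of finite presentation
and affine over `S`, acting on a scheme `X` over `S`. Then the quotient stack `[X/G]`, whose objects
over `T` are the fppf `G_T`-torsors (schemes) with a `G`-equivariant morphism to `X`, is an
algebraic stack over `S`. (The published statement is for a groupoid in algebraic spaces with flat,
locally finitely presented source and target maps; this row is the case of the action groupoid of an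
affine group scheme, for which every fppf torsor is a scheme.) -/
theorem result {S : Scheme.{u}} (G : Over S) [GrpObj G]
    [Flat G.hom] [LocallyOfFinitePresentation G.hom] [IsAffineHom G.hom] (X : Over S) (aX : AlgGrp.Action G X) :
    AlgSt.IsAlgStack Scheme.fppfPrecoverage (AlgSt.QuotSt Scheme.fppfPrecoverage G aX) := by
  exact H14Atlas.isAlgStack_quot G aX

end Groth.Agent.S13571
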