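import Groth.Statements.S13575
import Groth.Agent.H14Quot.Basic
import Groth.Agent.H14Fib.Equiv
import Groth.Agent.H14Fib.Fp
import Groth.Agent.H14AlgSt.Basic

set_option autoImplicit false
set_option backward.isDefEq.respectTransparency false
set_option backward.isDefEq.respectTransparency.types false
universe u
open CategoryTheory AlgebraicGeometry MonoidalCategory
open AlgSt

namespace Groth.Agent.S13575

open CartesianMonoidalCategory MonObj Limits H14Quot H14Fib

noncomputable section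

variable {S : Scheme.{u}} {G : Over S} [GrpObj G] {X : Over S} (aX : AlgGrp.Action G X)

abbrev qm : AlgSt.ofSch X ⥤ᵇ AlgSt.QuotSt Scheme.fppfPrecoverage G aX :=
  AlgSt.quotMap Scheme.fppfPrecoverage G aX

abbrev actMap : AlgSt.ofSch (G ⊗ X) ⥤ᵇ AlgSt.ofSch X :=
  AlgSt.ofSpMap ((AlgSp.yon S).map aX.act)

abbrev sndMapX : AlgSt.ofSch (G ⊗ X) ⥤ᵇ AlgSt.ofSch X :=
  AlgSt.ofSpMap ((AlgSp.yon S).map (snd G X))

/-- The group element of a point of `G × X`. -/
abbrev pt (a : (AlgSt.ofSch (G ⊗ X)).obj) : a.base ⟶ G ⊗ X := a.sec.down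

/-- The group element of a point of `G × X`. -/
abbrev gOf (a : (AlgSt.ofSch (G ⊗ X)).obj) : a.base ⟶ G := pt a ≫ fst G X

omit [GrpObj G] in
lemma lift_gOf (a : (AlgSt.ofSch (G ⊗ X)).obj) : lift (gOf a) (pt a ≫ snd G X) = pt a := by
  apply CartesianMonoidalCategory.hom_ext <;> simp [gOf]

lemma unit_nat {T T' : Over S} (m : T ⟶ T') (k : T' ⟶ G) :
    unitSec G T ≫ ((G ◁ m) ≫ lift (fst G T' * (snd G T' ≫ k)) (snd G T')) ≫ fst G T' = m ≫ k := by
  simp [comp_mul]

lemma unit_nat' {T T' : Over S} (m : T ⟶ T') (k : T ⟶ G) :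
    unitSec G T ≫ (lift (fst G T * (snd G T ≫ k)) (snd G T) ≫ (G ◁ m)) ≫ fst G T' = k := by
  simp [comp_mul]

lemma act_sec {T : Over S} (σ : T ⟶ G ⊗ T) (h : σ ≫ snd G T = 𝟙 T) :
    (G ◁ σ) ≫ (leftMul G T).act = lift (fst G T * (snd G T ≫ σ ≫ fst G T)) (snd G T) := by
  apply CartesianMonoidalCategory.hom_ext <;> simp [leftMul, comp_mul, h]

lemma top_w {T : Over S} (g : T ⟶ G) (x : T ⟶ X) :
    lift (fst G T * (snd G T ≫ g)) (snd G T) ≫ (G ◁ x) ≫ aX.act =
      (G ◁ (lift g x ≫ aX.act)) ≫ aX.act := by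
  have h1 : lift (fst G T * (snd G T ≫ g)) (snd G T) ≫ (G ◁ x) =
      lift (fst G T) (lift (snd G T ≫ g) (snd G T ≫ x)) ≫ (α_ G G X).inv ≫ (μ[G] ▷ X) := by
    apply CartesianMonoidalCategory.hom_ext <;> simp [Hom.mul_def]
  have hm : (G ◁ aX.act) ≫ aX.act = (α_ G G X).inv ≫ (μ[G] ▷ X) ≫ aX.act := by
    rw [aX.mul_act, Iso.inv_hom_id_assoc]
  rw [← Category.assoc, h1, Category.assoc, Category.assoc, ← hm, lift_whiskerLeft_assoc]
  congr 1
  apply CartesianMonoidalCategory.hom_ext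
  · simp
  · simp [← comp_lift_assoc]

/-- Right translation by the group element. -/
noncomputable def cell (a : (AlgSt.ofSch (G ⊗ X)).obj) :
    (qm aX).obj ((actMap aX).obj a) ⟶ (qm aX).obj ((sndMapX (G := G) (X := X)).obj a) where
  base := 𝟙 a.base
  top := lift (fst G a.base * (snd G a.base ≫ gOf a)) (snd G a.base)
  eqv := by
    change (leftMul G a.base).act ≫ lift (fst G a.base * (snd G a.base ≫ gOf a)) (snd G a.base) =
      (G ◁ lift (fst G a.base * (snd G a.base ≫ gOf a)) (snd G a.base)) ≫ (leftMul G a.base).act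
    apply CartesianMonoidalCategory.hom_ext <;> simp [leftMul, comp_mul, _root_.mul_assoc]
  cart := by
    let τ : G ⊗ a.base ⟶ G ⊗ a.base :=
      lift (fst G a.base * (snd G a.base ≫ (gOf a)⁻¹)) (snd G a.base)
    have : IsIso (lift (fst G a.base * (snd G a.base ≫ gOf a)) (snd G a.base)) := ⟨τ, by
      constructor <;> apply CartesianMonoidalCategory.hom_ext <;>
        simp [τ, comp_mul, GrpObj.comp_inv]⟩
    have i2 : IsIso (𝟙 a.base) := inferInstance
    exact @IsPullback.of_horiz_isIso _ _ _ _ _ _ _ _ _ _ this i2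
      ⟨by change lift _ _ ≫ snd G a.base = snd G a.base ≫ 𝟙 _; simp⟩
  wφ := by
    change lift (fst G a.base * (snd G a.base ≫ gOf a)) (snd G a.base) ≫
      (G ◁ (pt a ≫ snd G X)) ≫ aX.act = (G ◁ (pt a ≫ aX.act)) ≫ aX.act
    rw [top_w, reassoc_of% (lift_gOf a)]

instance (a : (AlgSt.ofSch (G ⊗ X)).obj) : IsIso (cell aX a) :=
  have : IsIso ((AlgSt.QuotSt Scheme.fppfPrecoverage G aX).p.map (cell aX a)) :=
    inferInstanceAs (IsIso (𝟙 a.base))
  isIso_of_map_isIso quotSt_fibGrpd (cell aX a)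

lemma cell_nat {a b : (AlgSt.ofSch (G ⊗ X)).obj} (m : a ⟶ b) :
    (qm aX).map ((actMap aX).map m) ≫ cell aX b =
      cell aX a ≫ (qm aX).map ((sndMapX (G := G) (X := X)).map m) := by
  have hm : m.hom ≫ b.sec.down = a.sec.down := congrArg ULift.down m.map_sec
  refine QuotObj.hom_ext ?_ ?_
  · change m.hom ≫ 𝟙 _ = 𝟙 _ ≫ m.hom
    simp
  · change (G ◁ m.hom) ≫ lift (fst G b.base * (snd G b.base ≫ gOf b)) (snd G b.base) =
      lift (fst G a.base * (snd G a.base ≫ gOf a)) (snd G a.base) ≫ (G ◁ m.hom)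
    apply CartesianMonoidalCategory.hom_ext <;> simp [comp_mul, gOf, ← hm]

/-- The 2-isomorphism. -/
noncomputable def twoCell :
    BasedFunctor.comp (actMap aX) (qm aX) ≅ BasedFunctor.comp (sndMapX (G := G) (X := X)) (qm aX) :=
  BasedNatIso.mkNatIso (NatIso.ofComponents (fun a => asIso (cell aX a)) (fun m => cell_nat aX m))
    (fun a => IsHomLift.of_fac (AlgSt.QuotSt Scheme.fppfPrecoverage G aX).p _ (cell aX a) rfl rfl
      (by simp; rfl))

lemma eq_cell {T : Over S} {x x' : T ⟶ X}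
    (h : (qm aX).obj ⟨T, ⟨x⟩⟩ ⟶ (qm aX).obj ⟨T, ⟨x'⟩⟩) (hb : h.base = 𝟙 T) :
    ∃ g : T ⟶ G, lift g x' ≫ aX.act = x ∧
      h.top = lift (fst G T * (snd G T ≫ g)) (snd G T) := by
  let h' : triv Scheme.fppfPrecoverage G aX x ⟶ (qm aX).obj ⟨T, ⟨x'⟩⟩ := h
  have hs : secOfHom h' ≫ snd G T = 𝟙 T := (secOfHom_π h').trans hb
  refine ⟨secOfHom h' ≫ fst G T, ?_, ?_⟩
  · have := secOfHom_φ h'
    change secOfHom h' ≫ (G ◁ x') ≫ aX.act = x at this
    rw [← Category.assoc] at this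
    refine Eq.trans (congrArg (· ≫ aX.act) ?_) this
    apply CartesianMonoidalCategory.hom_ext <;> simp [reassoc_of% hs]
  · have := congrArg QuotObj.Hom.top (homOfSec_secOfHom h')
    change (G ◁ secOfHom h') ≫ (leftMul G T).act = h.top at this
    exact this.symm.trans (act_sec (secOfHom h') hs)

end

open H14Quot H14Fib in
theorem aux {S : Scheme.{u}} {G : Over S} [GrpObj G] {X : Over S} (aX : AlgGrp.Action G X) :
    FibCat.IsTwoCartOver (actMap aX) (sndMapX (G := G) (X := X)) (twoCell aX) := by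
  refine (isEquivOver_iff _).2 ⟨⟨⟨fun {a b} φ => ?_⟩, ⟨fun {a b} {m m'} h => ?_⟩⟩, fun ξ => ?_⟩
  · let p : (actMap aX).obj a ⟶ (actMap aX).obj b := φ.hom.fst
    let q : (sndMapX (G := G) (X := X)).obj a ⟶ (sndMapX (G := G) (X := X)).obj b := φ.hom.snd
    have hw : (qm aX).map p ≫ cell aX b = cell aX a ≫ (qm aX).map q := φ.hom.w
    have hpq : p.hom = q.hom := by
      have := congrArg QuotObj.Hom.base hw
      change p.hom ≫ 𝟙 _ = 𝟙 _ ≫ q.hom at this
      simpa using this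
    have hg : p.hom ≫ gOf b = gOf a := by
      have h1 := congrArg (fun k => unitSec G a.base ≫ k ≫ fst G b.base)
        (congrArg QuotObj.Hom.top hw)
      exact (unit_nat p.hom (gOf b)).symm.trans (h1.trans (unit_nat' q.hom (gOf a)))
    have hx : q.hom ≫ b.sec.down ≫ snd G X = a.sec.down ≫ snd G X :=
      congrArg ULift.down q.map_sec
    refine ⟨⟨p.hom, ULift.ext _ _ ?_⟩, H14Fib.fp_hom_ext (Stk.EltObj.hom_ext rfl)
      (Stk.EltObj.hom_ext hpq)⟩
    change p.hom ≫ b.sec.down = a.sec.down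
    apply CartesianMonoidalCategory.hom_ext
    · simpa [gOf] using hg
    · simpa [hpq] using hx
  · exact Stk.EltObj.hom_ext (congrArg (fun ψ => Stk.EltObj.Hom.hom ψ.hom.fst) h)
  · obtain ⟨⟨⟨T, ⟨x⟩⟩, ⟨T', ⟨x'⟩⟩, α⟩, hp⟩ := ξ
    have hp' : (AlgSt.QuotSt Scheme.fppfPrecoverage G aX).p.IsHomLift (𝟙 T) α.hom := hp
    have hT : T' = T :=
      IsHomLift.codomain_eq (AlgSt.QuotSt Scheme.fppfPrecoverage G aX).p (𝟙 T) α.hom
    subst hT
    have hb : α.hom.base = 𝟙 T' := by
      have := IsHomLift.fac' (AlgSt.QuotSt Scheme.fppfPrecoverage G aX).p (𝟙 T') α.hom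
      change α.hom.base = _ at this
      simp at this
      exact this
    obtain ⟨g, hg, ht⟩ := eq_cell aX α.hom hb
    let a : (AlgSt.ofSch (G ⊗ X)).obj := ⟨T', ⟨lift g x'⟩⟩
    let i₁ : (actMap aX).obj a ≅ ⟨_, ⟨x⟩⟩ :=
      eqToIso (congrArg (fun z => (⟨_, ⟨z⟩⟩ : (AlgSt.ofSch X).obj)) hg)
    let i₂ : (sndMapX (G := G) (X := X)).obj a ≅ ⟨_, ⟨x'⟩⟩ :=
      eqToIso (congrArg (fun z => (⟨_, ⟨z⟩⟩ : (AlgSt.ofSch X).obj)) (lift_snd g x'))
    have h1 : i₁.hom.hom = 𝟙 T' := by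
      rw [eqToIso.hom, show ∀ {u v : (AlgSt.ofSch X).obj} (e : u = v),
        (eqToHom e).hom = eqToHom (congrArg Stk.EltObj.base e) from fun e => by subst e; rfl]
      rfl
    have h2 : i₂.hom.hom = 𝟙 T' := by
      rw [eqToIso.hom, show ∀ {u v : (AlgSt.ofSch X).obj} (e : u = v),
        (eqToHom e).hom = eqToHom (congrArg Stk.EltObj.base e) from fun e => by subst e; rfl]
      rfl
    have hw : (qm aX).map i₁.hom ≫ α.hom = cell aX a ≫ (qm aX).map i₂.hom := by
      refine QuotObj.hom_ext ?_ ?_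
      · change i₁.hom.hom ≫ α.hom.base = 𝟙 T' ≫ i₂.hom.hom
        rw [h1, h2, hb]
      · have hga : gOf a = g := lift_fst g x'
        change (G ◁ i₁.hom.hom) ≫ α.hom.top =
          lift (fst G _ * (snd G _ ≫ gOf a)) (snd G _) ≫ (G ◁ i₂.hom.hom)
        rw [h1, h2, ht, hga]
        change (G ◁ 𝟙 T') ≫ lift (fst G T' * (snd G T' ≫ g)) (snd G T') =
          lift (fst G T' * (snd G T' ≫ g)) (snd G T') ≫ (G ◁ 𝟙 T')
        simp
    refine ⟨a, ObjectProperty.isoMk _ (CategoricalPullback.mkIso i₁ i₂ hw), ?_⟩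
    rw [H14Fib.fp_isHomLift_iff]
    exact IsHomLift.of_fac (AlgSt.ofSch X).p _ i₁.hom rfl rfl (by
      change 𝟙 T' = 𝟙 T' ≫ i₁.hom.hom ≫ 𝟙 T'
      simp [h1])

/-- For a group action: let a group scheme `G` over `S` act on a scheme `X` over `S` and let `π : X ⟶
[X/G]` be the canonical morphism to the quotient stack. Then the square with vertices `G ×_S X`,
`X`, `X`, `[X/G]`, whose sides are the action and the projection `G ×_S X ⟶ X` followed by `π`, is
2-cartesian for some 2-isomorphism `π ∘ a ≅ π ∘ pr₂`: the induced functor from `G ×_S X` to the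
2-fibre product `X ×_{[X/G]} X` is an equivalence over `(Sch/S)`. Existence of the 2-isomorphism
only; the canonical one is right multiplication by the group element. (The published statement is
for a groupoid in algebraic spaces; this row is the action groupoid of a group scheme, with torsors
given as schemes.) -/
theorem result {S : Scheme.{u}} (G : Over S) [GrpObj G]
    (X : Over S) (aX : AlgGrp.Action G X) :
    ∃ e : BasedFunctor.comp (AlgSt.ofSpMap ((AlgSp.yon S).map aX.act)) (AlgSt.quotMap Scheme.fppfPrecoverage G aX) ≅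
        BasedFunctor.comp (AlgSt.ofSpMap ((AlgSp.yon S).map (CartesianMonoidalCategory.snd G X)))
          (AlgSt.quotMap Scheme.fppfPrecoverage G aX),
      FibCat.IsTwoCartOver (AlgSt.ofSpMap ((AlgSp.yon S).map aX.act))
        (AlgSt.ofSpMap ((AlgSp.yon S).map (CartesianMonoidalCategory.snd G X))) e := by
  exact ⟨twoCell aX, aux aX⟩

end Groth.Agent.S13575
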