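import Groth.Statements.S13578
import Groth.Agent.H25DTen.ProTor

set_option autoImplicit false
universe u
open CategoryTheory CategoryTheory.Limits MonoidalCategory
attribute [local instance] HasDerivedCategory.standard
open DTen

namespace Groth.Agent.S13578

/-- Let `A` be a Noetherian commutative ring (the derived tensor product on `D(A)` being assumed to
exist and to be computed by K-flat complexes), `I` an ideal and `M` a finite `A`-module. Then there
is an integer `n > 0` such that the inclusion `I^n M ⟶ M`, viewed in `D(A)` in degree `0`, factors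
through the canonical morphism `I ⊗^L M ⟶ M` (the map `I ⊗^L M ⟶ A ⊗^L M` induced by `I ⊆ A`,
followed by the unit isomorphism). -/
theorem result (A : Type u) [CommRing A] [IsNoetherianRing A]
    [DTen.HasLTen A] [DTen.KFlatComputes A] (I : Ideal A) (M : Type u) [AddCommGroup M] [Module A M]
    [Module.Finite A M] :
    ∃ (n : ℕ) (_ : 0 < n)
      (g : DerivedCategory.Q.obj ((HomologicalComplex.single (ModuleCat.{u} A) (ComplexShape.up ℤ) 0).obj
              (ModuleCat.of A ↥(I ^ n • (⊤ : Submodule A M)))) ⟶
            (DTen.LTen₂ A).obj (DerivedCategory.Q.obj ((HomologicalComplex.single (ModuleCat.{u} A) (ComplexShape.up ℤ) 0).obj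
              (ModuleCat.of A ↥I)),
              DerivedCategory.Q.obj ((HomologicalComplex.single (ModuleCat.{u} A) (ComplexShape.up ℤ) 0).obj
              (ModuleCat.of A M)))),
      g ≫ (DTen.LTen₂ A).map (Prod.mkHom
              (DerivedCategory.Q.map ((HomologicalComplex.single (ModuleCat.{u} A) (ComplexShape.up ℤ) 0).map
                (ModuleCat.ofHom I.subtype)))
              (𝟙 _)) ≫
          (DTen.unitL A).app (DerivedCategory.Q.obj ((HomologicalComplex.single (ModuleCat.{u} A) (ComplexShape.up ℤ) 0).obj
              (ModuleCat.of A M))) =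
        DerivedCategory.Q.map ((HomologicalComplex.single (ModuleCat.{u} A) (ComplexShape.up ℤ) 0).map
          (ModuleCat.ofHom (I ^ n • (⊤ : Submodule A M)).subtype)) := by
  haveI : DTen.HasLTen₃ A := Groth.Agent.H25DTen.hasLTen₃
  haveI : DTen.IsSymMonoidal A := Groth.Agent.H25DTen.isSymMonoidal
  haveI : DTen.HasRHom A := Groth.Agent.H25DTen.hasRHom
  exact Groth.Agent.H25DTen.exists_pow_factor I (ModuleCat.of A M)

end Groth.Agent.S13578
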