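import Groth.Statements.S13585
import Groth.Agent.H17.FLI.AdjunctionGen
import Groth.Agent.H19AbSch.OmegaGrp
import Groth.Agent.H22Alg.ExtPowSES
import Groth.Agent.H29Fitt.PullbackQCoh
-- import your own Groth.Agent.* helpers here

set_option autoImplicit false
universe u
open CategoryTheory CategoryTheory.Limits AlgebraicGeometry
open Canon

namespace Groth.Agent.S13585

/-- Let `f : X ⟶ Y` and `g : Y ⟶ Z` be morphisms of schemes with `g` smooth of relative dimension `n`,
and let `Γ : X ⟶ X ×_Z Y` be the graph of `f`. Then `Γ` is a regular immersion of codimension `n`,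
and the top exterior power of its conormal sheaf is `f^* ω_{Y/Z}`, where `ω_{Y/Z} = Λ^n Ω_{Y/Z}`;
that is, the canonical sheaf of the immersion `Γ` is the dual of `f^* ω_{Y/Z}`. (This row takes `X`
locally Noetherian and `g` separated, so that the graph is a closed immersion and the criterion for
sections of smooth morphisms over a locally Noetherian base, through which the published proof goes,
applies; the published statement has arbitrary preschemes.) -/
theorem result {X Y Z : Scheme.{u}} [IsLocallyNoetherian X]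
    (f : X ⟶ Y) (g : Y ⟶ Z) (n : ℕ) [SmoothOfRelativeDimension n g] [IsSeparated g]
    (ωY : Y.Modules) (hω : Canon.IsTopDiff g n ωY) :
    RegImm.IsRegularImmersionOfCodim .regular n (pullback.lift (𝟙 X) f (Category.id_comp (f ≫ g))) ∧
      ExtPow.IsExtPow n (Omega.conormal (pullback.lift (𝟙 X) f (Category.id_comp (f ≫ g))))
        ((Scheme.Modules.pullback f).obj ωY) := by
  let Γ := pullback.lift (𝟙 X) f (Category.id_comp (f ≫ g))
  have hΓ : Γ ≫ pullback.fst (f ≫ g) g = 𝟙 X := pullback.lift_fst _ _ _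
  haveI : IsClosedImmersion (Γ ≫ pullback.fst (f ≫ g) g) := by rw [hΓ]; infer_instance
  haveI : IsClosedImmersion Γ := IsClosedImmersion.of_comp Γ (pullback.fst (f ≫ g) g)
  haveI := smoothOfRelativeDimension_isStableUnderBaseChange (n := n)
  haveI : SmoothOfRelativeDimension n (pullback.fst (f ≫ g) g) := MorphismProperty.pullback_fst _ _ ‹_›
  obtain ⟨hreg, -, -⟩ := H17.FLI.regImm_of_smooth_gen (pullback.fst (f ≫ g) g) (𝟙 X) Γ hΓ n 0
  refine ⟨by simpa using hreg, ?_⟩
  obtain ⟨φ, c, w, hS⟩ := H17.FLI.exists_conormal_ses_gen (pullback.fst (f ≫ g) g) (𝟙 X) Γ hΓ 0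
  haveI : IsIso φ := hS.isIso_f_iff.2 (H19AbSch.OmegaGrp.isZero_omega_of_isIso (𝟙 X))
  obtain ⟨e₁⟩ := H19AbSch.OmegaGrp.nonempty_omega_baseChange g (f ≫ g) (pullback.snd (f ≫ g) g) (pullback.fst (f ≫ g) g)
    (IsPullback.of_hasPullback (f ≫ g) g).flip
  let e : (Scheme.Modules.pullback f).obj (Omega.sheaf g) ≅ Omega.conormal Γ :=
    (Scheme.Modules.pullbackCongr (pullback.lift_snd (𝟙 X) f (Category.id_comp (f ≫ g))).symm).app _ ≪≫
      ((Scheme.Modules.pullbackComp Γ (pullback.snd (f ≫ g) g)).app _).symm ≪≫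
      (Scheme.Modules.pullback Γ).mapIso e₁ ≪≫ (asIso φ).symm
  exact H22Alg.ExtPowSES.isExtPow_of_iso e (H22Alg.ExtPowHom.isExtPow_pullback f (H29Omega.isQCoh_sheaf g) hω)

end Groth.Agent.S13585
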