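import Groth.Statements.S13587
import Groth.Agent.H02CA.SpAcyclic
import Groth.Agent.H02CA.ModUnitAcyclic
import Groth.Agent.H02CA.ModNullHom
import Groth.Agent.S6150
import Groth.Agent.S6165

set_option autoImplicit false
universe u
open CategoryTheory CategoryTheory.Limits
open ExtSupp

namespace Groth.Agent.S13587
attribute [local instance 10000] H15Site.SiteInst.hasSheafifySite H15Site.SiteInst.hasWeakSheafifySite


/-- On a ringed site, for an object `U` with closed complement `Z` and sheaves of modules `M`, `N`,
there is a bounded `E_2` spectral sequence of abelian groups with `E_2^{p,q}` isomorphic to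
`H^p(ℰxt^q_{O,Z}(M, N))` (cohomology of the site) for `p, q ≥ 0` and zero otherwise, together with
abutment data whose filtrations are finite on `Ext^n_Z(M, N)` (`n ≥ 0`; zero for `n < 0`). The `E_2`
identifications and the abutment isomorphisms are asserted to exist only and are not pinned to the
canonical maps, so edge maps are not part of this statement; the internal hom out of `M`, the right
adjoint of restriction to `U` and injective resolutions of sheaves of modules are assumed to exist.
(The published statement, on a ringed topos and likewise on a ringed space, is functorial in `M`,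
`N` and in an object `X` of the topos; this row is the case of the final object.) -/
theorem result {C : Type u} [SmallCategory C]
    {J : GrothendieckTopology C} {O : Sheaf J CommRingCat.{u}} [HasExt.{u} (ModSite.Mod O)]
    (U : C) [ModSite.HasPushOver O U] (M N : ModSite.Mod O) [ModSite.HasSheafHom M]
    [HasInjectiveResolutions (ModSite.Mod O)] :
    ∃ (E : E₂CohomologicalSpectralSequence AddCommGrpCat.{u})
      (a : SpSeq.Abutment E (fun n : ℤ =>
        if 0 ≤ n then AddCommGrpCat.of (ExtSupp.ExtZ U M N n.toNat) else AddCommGrpCat.of PUnit.{u + 1})),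
      (∀ n, a.IsFinite n) ∧ SpSeq.IsBounded E ∧
      ∀ p q : ℤ, Nonempty ((E.page 2 le_rfl).X (p, q) ≅
        (if 0 ≤ p ∧ 0 ≤ q then AddCommGrpCat.of (ModSite.HC O ((ModSite.extZSh U M q.toNat).obj N) p.toNat)
         else AddCommGrpCat.of PUnit.{u + 1})) := by
  have := H02CA.ModNull.enoughInjectives_mod O
  have hM' : ModSite.HasSheafHom ((ModSite.quotOn O U).obj M) :=
    S6165.result O ((ModSite.quotOn O U).obj M)
  obtain ⟨e⟩ := H02CA.ModNull.nonempty_sheafHom_sectOn_iso O U M
  obtain ⟨θ, hθ⟩ := H02CA.ModNull.exists_unit_hom_addEquiv O U M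
  refine H02CA.SpAcyclic.exists_spectralSequence (ModSite.sheafHom M ⋙ ModSite.sectOn O U)
    (ModSite.unit O) ((ModSite.quotOn O U).obj M) θ (fun I _ j => ?_) hθ N _ _ ?_ ?_ ?_ ?_
  · have := H02CA.ModUnitAcyclic.subsingleton_ext_unit O
      (S6150.result O ((ModSite.quotOn O U).obj M) I) j
    exact @Equiv.subsingleton _ _ (((Abelian.extFunctorObj (ModSite.unit O) (j + 1)).mapIso
      (e.app I)).addCommGroupIsoToAddEquiv).toEquiv this
  · intro p q hp hq
    rw [if_pos ⟨hp, hq⟩]
    exact H15Site.ModExtH.nonempty_ext_unit_addEquiv (ModSite.ringSh O) _ _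
  · intro p q hpq
    rw [if_neg hpq]
    exact AddCommGrpCat.isZero_of_subsingleton _
  · intro n hn
    rw [if_pos hn]
    exact ⟨AddEquiv.refl _⟩
  · intro n hn
    rw [if_neg (by omega)]
    exact AddCommGrpCat.isZero_of_subsingleton _

end Groth.Agent.S13587
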