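import Groth.Statements.S13591
import Groth.Agent.H14SpQuot.Stack

set_option autoImplicit false
set_option backward.isDefEq.respectTransparency false
set_option backward.isDefEq.respectTransparency.types false
universe u
open CategoryTheory AlgebraicGeometry MonoidalCategory
open AlgSt

namespace Groth.Agent.S13591

/-- For a sheaf `ℬ` on `(Sch/S)_{fppf}` and a group object `𝒢` over `ℬ`, the category of `𝒢/ℬ`-torsors —
objects over `T` are pairs of a section `b ∈ ℬ(T)` and an fppf `T ×_{b,ℬ} 𝒢`-torsor given as a sheaf
— is a stack in groupoids over `(Sch/S)_{fppf}`. (When `ℬ` is the final sheaf this is the statement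
that fppf torsors, given as sheaves, under a sheaf of groups form a stack in groupoids.) -/
theorem result (S : Scheme.{u}) (B : AlgSp.Sp S) (G : Over B) [GrpObj G] :
    Stk.IsStack (AlgSp.J S) (AlgSt.SpBG Scheme.fppfPrecoverage G) := by
  exact H14SpQuot.isStack_spQuot

end Groth.Agent.S13591
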