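import Groth.Statements.S13592
import Groth.Agent.H14SpQuot.AlgTorsor

set_option autoImplicit false
set_option backward.isDefEq.respectTransparency false
set_option backward.isDefEq.respectTransparency.types false
universe u
open CategoryTheory AlgebraicGeometry MonoidalCategory
open AlgSt

namespace Groth.Agent.S13592

/-- Let `B` be an algebraic space over `S`, `G` a group algebraic space over `B` and `X` an algebraic
space over `B` with a `G`-action. Then the quotient category `[[X/G]]` — objects over `T` are
triples of `b : T ⟶ B`, an fppf `G_T`-torsor `P` that is an ALGEBRAIC SPACE, and a `G`-equivariant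
`P ⟶ X` — is a stack in groupoids over `(Sch/S)_{fppf}`. It is written as the full subcategory, on
the objects whose torsor is an algebraic space, of the analogous category with sheaf torsors. -/
theorem result (S : Scheme.{u}) (B : AlgSp.Sp S) (hB : AlgSp.IsAlgSpace B)
    (G : Over B) [GrpObj G] (hG : AlgSp.IsAlgSpace G.left) (X : Over B) (hX : AlgSp.IsAlgSpace X.left)
    (aX : AlgSp.GAction G X) :
    Stk.IsStack (AlgSp.J S)
      (AlgSt.fullSub (AlgSt.SpQuotSt Scheme.fppfPrecoverage G aX) (fun A => AlgSp.IsAlgSpace A.P.left)) := by
  exact H14SpQuot.isStack_algTorsor hB hG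

end Groth.Agent.S13592
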