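import Groth.Statements.S13599
import Groth.Agent.H22Alg.GaloisFibres
import Groth.Agent.H22Alg.FiniteDegree
import Groth.Agent.H7Weight.FlatLQF
import Groth.Agent.H9GalCoh.Transfer
-- import your own Groth.Agent.* helpers here

set_option autoImplicit false
set_option linter.style.haveILetI false
set_option backward.isDefEq.respectTransparency.types false
universe u
open CategoryTheory AlgebraicGeometry
open CategoryTheory.Limits
open Cyc

namespace Groth.Agent.S13599
open Groth.Agent
open CategoryTheory.Limits

theorem isPurelyInseparable_fixed (k K : Type u) [Field k] [Field K] [Algebra k K] [FiniteDimensional k K]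
    [Normal k K] : IsPurelyInseparable k (IntermediateField.fixedField (⊤ : Subgroup (K ≃ₐ[k] K))) := by
  classical
  rw [isPurelyInseparable_iff_natSepDegree_eq_one]
  intro x
  rw [← minpoly.algebraMap_eq (algebraMap (IntermediateField.fixedField (⊤ : Subgroup (K ≃ₐ[k] K))) K).injective (x := x),
    Polynomial.natSepDegree_eq_of_splits _ (Normal.splits inferInstance (algebraMap _ K x))]
  refine Finset.card_eq_one.2 ⟨algebraMap _ K x, Finset.eq_singleton_iff_unique_mem.2 ⟨?_, fun y hy => ?_⟩⟩
  · rw [Multiset.mem_toFinset, Polynomial.mem_aroots]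
    exact ⟨minpoly.ne_zero (Algebra.IsIntegral.isIntegral _), minpoly.aeval k _⟩
  · rw [Multiset.mem_toFinset, Polynomial.mem_aroots] at hy
    have he : minpoly k (algebraMap _ K x) = minpoly k y :=
      minpoly.eq_of_irreducible_of_monic (minpoly.irreducible (Algebra.IsIntegral.isIntegral _)) hy.2
        (minpoly.monic (Algebra.IsIntegral.isIntegral _))
    obtain ⟨σ, rfl⟩ := (Normal.minpoly_eq_iff_mem_orbit K).1 he.symm
    exact x.2 ⟨σ, Subgroup.mem_top σ⟩

theorem finrank_fixed (k K : Type u) [Field k] [Field K] [Algebra k K] [FiniteDimensional k K] [Normal k K] :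
    Module.finrank k (IntermediateField.fixedField (⊤ : Subgroup (K ≃ₐ[k] K))) = Field.finInsepDegree k K := by
  let L := IntermediateField.fixedField (⊤ : Subgroup (K ≃ₐ[k] K))
  haveI : IsGalois L K := IsGalois.of_fixed_field K _
  haveI := isPurelyInseparable_fixed k K
  rw [← Field.finInsepDegree_mul_finInsepDegree_of_isAlgebraic k L K, IsPurelyInseparable.finInsepDegree_eq,
    Algebra.IsSeparable.finInsepDegree_eq, mul_one]

theorem mult_mul_eq {X X' Xi : Scheme.{u}} (m : X' ⟶ Xi) [Etale m] (g : Xi ⟶ X) [IsFinite g] [Flat g]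
    [UniversallyInjective g] (q : ℕ) (hq : ∀ y, g.finrank y = q) (x' : X') :
    H22Alg.FiniteDegree.mult (m ≫ g) x' = H22Alg.FiniteDegree.mult g (m x') ∧
      H22Alg.FiniteDegree.mult g (m x') * g.residueDegree (m x') = q := by
  refine ⟨?_, ?_⟩
  · obtain ⟨h1, h2, h3⟩ := H7Weight.FlatLQF.unram_stalk m x'
    show H7Weight.LocalMult.len ((m ≫ g).stalkMap x').hom = H7Weight.LocalMult.len (g.stalkMap (m x')).hom
    simp only [Scheme.Hom.stalkMap_comp]
    change H7Weight.LocalMult.len ((m.stalkMap x').hom.comp (g.stalkMap (m x')).hom) = _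
    haveI : IsLocalHom (m.stalkMap x').hom := inferInstanceAs (IsLocalHom (m.toLRSHom.stalkMap x').hom)
    exact H7Weight.LocalMult.len_comp_left _ _ h3 (H7Weight.LocalMult.map_maximalIdeal_of_unramified _ h1 h2)
  · have hfib : g ⁻¹' {g (m x')} = {m x'} := Set.ext fun z =>
      ⟨fun h => g.injective h, fun h => by rw [Set.mem_singleton_iff.mp h]; rfl⟩
    have h := H22Alg.FiniteDegree.finsum_fibre_eq_finrank g (g (m x'))
    rw [hq, hfib, finsum_mem_singleton] at h
    exact h

theorem exists_mult {k : Type u} [Field k] {K : Type u} [Field K] [Algebra k K] [FiniteDimensional k K] [Normal k K]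
    {X : Scheme.{u}} (f : X ⟶ Spec (CommRingCat.of k)) :
    ∃ e : ↥(pullback f (Spec.map (CommRingCat.ofHom (algebraMap k K)))) → ℕ,
      (∀ z, H22Alg.FiniteDegree.mult (pullback.fst f (Spec.map (CommRingCat.ofHom (algebraMap k K)))) z = e z) ∧
      (∀ z, e z ≠ 0 ∧ e z ∣ Field.finInsepDegree k K) ∧
      (∀ z z', pullback.fst f (Spec.map (CommRingCat.ofHom (algebraMap k K))) z =
        pullback.fst f (Spec.map (CommRingCat.ofHom (algebraMap k K))) z' → e z = e z') := by
  let L := IntermediateField.fixedField (⊤ : Subgroup (K ≃ₐ[k] K))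
  haveI : IsGalois L K := IsGalois.of_fixed_field K _
  haveI := isPurelyInseparable_fixed k K
  haveI : FiniteDimensional L K := Module.Finite.right k L K
  haveI : Algebra.IsSeparable L K := IsGalois.to_isSeparable
  let j : Spec (CommRingCat.of L) ⟶ Spec (CommRingCat.of k) := Spec.map (CommRingCat.ofHom (algebraMap k L))
  haveI : IsFinite j := (IsFinite.SpecMap_iff _).mpr (RingHom.finite_algebraMap.mpr inferInstance)
  haveI : Flat j := Flat.SpecMap_iff.mpr (RingHom.flat_algebraMap_iff.mpr inferInstance)
  haveI : UniversallyInjective j := by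
    refine ((tfae_universallyInjective j).out 0 1).mpr ?_
    intro F hF g₁ g₂ hg
    obtain ⟨φ₁, rfl⟩ := Spec.map_surjective g₁
    obtain ⟨φ₂, rfl⟩ := Spec.map_surjective g₂
    have h2 : Spec.map (CommRingCat.ofHom (algebraMap k L) ≫ φ₁) = Spec.map (CommRingCat.ofHom (algebraMap k L) ≫ φ₂) := by
      rw [Spec.map_comp, Spec.map_comp]; exact hg
    have h3 := Spec.map_injective h2
    rw [show φ₁ = φ₂ from CommRingCat.hom_ext (IsPurelyInseparable.injective_comp_algebraMap k L F
      (by simpa [CommRingCat.hom_ext_iff] using h3))]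
  haveI := H9GalCoh.Transfer.etale_str L K
  let g := FBase.bcπ f L
  haveI hgf : IsFinite g := MorphismProperty.pullback_fst (P := @IsFinite) f j inferInstance
  haveI : Flat g := MorphismProperty.pullback_fst (P := @Flat) f j inferInstance
  haveI : UniversallyInjective g := MorphismProperty.pullback_fst (P := @UniversallyInjective) f j inferInstance
  let m := H06Geom.bcMap f L.val
  haveI : Etale m := MorphismProperty.of_isPullback (P := @Etale) (H06Geom.isPullback_bcMap f L.val).flip
    (show Etale (H9GalCoh.Transfer.str L K) from inferInstance)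
  have hq : ∀ y, g.finrank y = Field.finInsepDegree k K := fun y => by
    rw [show g.finrank y = (pullback.fst f j).finrank y from rfl,
      Scheme.Hom.finrank_of_isPullback (pullback.snd f j) (pullback.fst f j) j f (IsPullback.of_hasPullback f j).flip y,
      show (Spec.map (CommRingCat.ofHom (algebraMap k L))).finrank (f y) = _ from
        Scheme.Hom.finrank_SpecMap_algebraMap k L _, Module.rankAtStalk_eq_finrank_of_free]
    exact finrank_fixed k K
  refine ⟨fun z => H22Alg.FiniteDegree.mult g (m z), fun z => ?_, fun z => ?_, fun z z' h => ?_⟩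
  · show _ = H22Alg.FiniteDegree.mult g (m z)
    rw [← (mult_mul_eq m g _ hq z).1, H06Geom.bcMap_bcπ]
    rfl
  · have h := (mult_mul_eq m g _ hq z).2
    refine ⟨fun h0 => ?_, Dvd.intro _ h⟩
    rw [show H22Alg.FiniteDegree.mult g (m z) = 0 from h0, zero_mul] at h
    exact (NeZero.ne (Field.finInsepDegree k K)) h.symm
  · refine congrArg _ (g.injective ?_)
    show (m ≫ g) z = (m ≫ g) z'
    rw [H06Geom.bcMap_bcπ]
    exact h


/-- Let k be a field, X a separated k-scheme of finite type, and k' a finite normal extension field of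
k, with G the group of k-automorphisms of k'; put X' = X ×_k Spec k' with first projection p. The
group G acts on X' over X (σ acts through Spec σ on the second factor). If Z' is a cycle on X' (an
integer-valued function on the points of X' with locally finite support) invariant under every σ ∈
G, then there is exactly one cycle Z on X with [k' : k]_insep · Z' = p^*Z, where [k' : k]_insep is
the inseparable degree and p^*Z is the flat pullback of cycles along p: its coefficient at x' is Z(p
x') times the length of the Artinian local ring O_{X',x'}/𝔪_{p x'}O_{X',x'} (p has discrete fibres,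
so there is no dimension condition; the two auxiliary dimension functions are taken to be zero). -/
theorem result
    {k : Type u} [Field k] {k' : Type u} [Field k'] [Algebra k k'] [FiniteDimensional k k'] [Normal k k']
    {X : Scheme.{u}} (f : X ⟶ Spec (CommRingCat.of k)) [LocallyOfFiniteType f] [QuasiCompact f]
    [IsSeparated f]
    (Z' : AlgebraicCycle (pullback f (Spec.map (CommRingCat.ofHom (algebraMap k k')))) ℤ)
    (hZ' : ∀ (σ : k' ≃ₐ[k] k')
      (t : pullback f (Spec.map (CommRingCat.ofHom (algebraMap k k'))) ⟶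
        pullback f (Spec.map (CommRingCat.ofHom (algebraMap k k')))),
      t ≫ pullback.fst f _ = pullback.fst f _ →
      t ≫ pullback.snd f _ = pullback.snd f _ ≫ Spec.map (CommRingCat.ofHom σ.toAlgHom.toRingHom) →
      ∀ x', Z' (t.base x') = Z' x') :
    ∃! Z : AlgebraicCycle X ℤ, ∀ x' : ↥(pullback f (Spec.map (CommRingCat.ofHom (algebraMap k k')))),
      (Field.finInsepDegree k k' : ℤ) * Z' x' =
        Cyc.pullFun (pullback.fst f (Spec.map (CommRingCat.ofHom (algebraMap k k'))))
          (fun _ => 0) (fun _ => 0) 0 ⇑Z x' := by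
    classical
  obtain ⟨e, he, hdiv, hfib⟩ := exists_mult (K := k') f
  haveI : IsFinite (Spec.map (CommRingCat.ofHom (algebraMap k k'))) :=
    (IsFinite.SpecMap_iff _).mpr (RingHom.finite_algebraMap.mpr inferInstance)
  set π := pullback.fst f (Spec.map (CommRingCat.ofHom (algebraMap k k'))) with hπ
  have hsurj : Function.Surjective π := H22Alg.GaloisFibres.surjective_bcπ f k'
  have hconst : ∀ z z', π z = π z' → Z' z = Z' z' := fun z z' h => by
    obtain ⟨σ, rfl⟩ := H22Alg.GaloisFibres.exists_smul_eq f k' h
    rw [H22Alg.GaloisFibres.smul_eq]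
    exact hZ' σ⁻¹ _ (H22Alg.GaloisFibres.act_fst f k' _) (H22Alg.GaloisFibres.act_snd f k' _) z'
  have hpull : ∀ (Z : X → ℤ) z, Cyc.pullFun π (fun _ => 0) (fun _ => 0) 0 Z z = Z (π z) * (e z : ℤ) := fun Z z => by
    rw [Cyc.pullFun, if_pos (add_zero (0 : ℤ)).symm, ← he z]
    rfl
  let q := Field.finInsepDegree k k'
  let s := Function.surjInv hsurj
  let Zf : X → ℤ := fun x => ((q / e (s x) : ℕ) : ℤ) * Z' (s x)
  haveI : CompactSpace X := QuasiCompact.compactSpace_of_compactSpace f
  haveI : CompactSpace ↥(pullback f (Spec.map (CommRingCat.ofHom (algebraMap k k')))) :=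
    QuasiCompact.compactSpace_of_compactSpace π
  have hfin : (Function.support Zf).Finite := by
    have h1 : (Function.support Z').Finite := by
      choose T hT hTfin using fun z => Z'.supportLocallyFiniteWithinDomain' z trivial
      obtain ⟨w, -, hw⟩ := isCompact_univ.elim_nhds_subcover T (fun z _ => hT z)
      refine (w.finite_toSet.biUnion fun z _ => hTfin z).subset fun y hy => ?_
      obtain ⟨z, hz, hyz⟩ := Set.mem_iUnion₂.1 (hw (Set.mem_univ y))
      exact Set.mem_iUnion₂.2 ⟨z, hz, hyz, hy⟩
    refine (h1.image π).subset fun x hx => ⟨s x, fun h0 => hx ?_, Function.surjInv_eq hsurj x⟩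
    show _ * Z' (s x) = 0
    rw [h0, mul_zero]
  refine ⟨⟨Zf, Set.subset_univ _, fun x _ => ⟨Set.univ, Filter.univ_mem, by simpa using hfin⟩⟩, fun z => ?_,
    fun Z hZ => ?_⟩
  · rw [hpull]
    show _ = ((q / e (s (π z)) : ℕ) : ℤ) * Z' (s (π z)) * _
    have h := Function.surjInv_eq hsurj (π z)
    rw [hconst (s (π z)) z h, hfib (s (π z)) z h]
    calc (q : ℤ) * Z' z = ((q / e z * e z : ℕ) : ℤ) * Z' z := by rw [Nat.div_mul_cancel (hdiv z).2]
      _ = _ := by push_cast; ring
  · refine DFunLike.ext _ _ fun x => ?_
    obtain ⟨z, rfl⟩ := hsurj x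
    have h := hZ z
    rw [hpull] at h
    show Z (π z) = ((q / e (s (π z)) : ℕ) : ℤ) * Z' (s (π z))
    have h' := Function.surjInv_eq hsurj (π z)
    rw [hconst (s (π z)) z h', hfib (s (π z)) z h']
    refine mul_right_cancel₀ (Int.natCast_ne_zero.2 (hdiv z).1) (h.symm.trans ?_)
    calc (q : ℤ) * Z' z = ((q / e z * e z : ℕ) : ℤ) * Z' z := by rw [Nat.div_mul_cancel (hdiv z).2]
      _ = _ := by push_cast; ring


end Groth.Agent.S13599
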