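-- statement FlatMor.GrothFrozen.S1360 (Groth/Statements/S1360.lean; the theorem FlatMor.etaleAt_of_etale_on_infinitesimal_nbhds);
import Groth.Statements.S1360
import Groth.Agent.H7Flat.InfinitesimalSmooth

set_option autoImplicit false
universe u
open FlatMor

namespace Groth.Agent.S1360

open AlgebraicGeometry CategoryTheory Limits in
/-- Let S be locally Noetherian, f : X → S of finite type, and Z the closed subscheme of S cut out by an
ideal sheaf I. If the base change of f to every infinitesimal neighbourhood of Z is étale, then
every point of X over Z has an open neighbourhood on which f is étale. -/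
theorem result {X S : Scheme.{u}} (f : X ⟶ S) [IsLocallyNoetherian S] [LocallyOfFinitePresentation f] [QuasiCompact f]
    (I : S.IdealSheafData) (h : ∀ n : ℕ, Etale (pullback.snd f (I ^ (n + 1)).subschemeι)) (x : X) (hx : f x ∈ I.support) :
    ∃ U : X.Opens, x ∈ U ∧ Etale (U.ι ≫ f) := by
  exact Groth.Agent.H7Flat.Infinitesimal.exists_etale f I h x hx

end Groth.Agent.S1360
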