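import Groth.Statements.S13600
import Groth.Agent.H17.KerStalk
import Mathlib
-- import your own Groth.Agent.* helpers here

set_option autoImplicit false
set_option linter.style.haveILetI false
set_option backward.isDefEq.respectTransparency.types false
universe u
open CategoryTheory AlgebraicGeometry
open Cyc

namespace Groth.Agent.S13600

open Opposite TopologicalSpace

theorem dvr_eq_pow {R : Type u} [CommRing R] [IsDomain R] [IsDiscreteValuationRing R] (K : Ideal R) (n : ℕ)
    (h : Module.length R (R ⧸ K) = n) : K = IsLocalRing.maximalIdeal R ^ n := by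
  obtain ⟨ϖ, hϖ⟩ := IsDiscreteValuationRing.exists_irreducible R
  by_cases hK : K = ⊥
  · exfalso
    have h2 : ((n + 1 : ℕ) : ℕ∞) ≤ n := by
      rw [← h, ← IsDiscreteValuationRing.length_quotient_pow_maximalIdeal R (n + 1)]
      refine Module.length_le_of_surjective (Submodule.factor (show K ≤ _ from hK ▸ bot_le))
        (Submodule.factor_surjective _)
    exact absurd (by exact_mod_cast h2) (Nat.not_succ_le_self n)
  · obtain ⟨j, rfl⟩ := IsDiscreteValuationRing.ideal_eq_span_pow_irreducible hK hϖ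
    rw [← Ideal.span_singleton_pow, ← hϖ.maximalIdeal_eq] at h ⊢
    rw [IsDiscreteValuationRing.length_quotient_pow_maximalIdeal] at h
    rw [show j = n by exact_mod_cast h]

variable {X : Scheme.{u}}

theorem isUnit_spec_germ {U : X.Opens} {x y : X} (h : x ⤳ y) (hy : y ∈ U) (a : Γ(X, U)) :
    (X.presheaf.stalkSpecializes h).hom (X.presheaf.germ U y hy a) = X.presheaf.germ U x (h.mem_open U.2 hy) a :=
  TopCat.Presheaf.germ_stalkSpecializes_apply X.presheaf hy h a

/-- Non-specialisation is witnessed by a section. -/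
theorem exists_sep {U : X.Opens} (hU : IsAffineOpen U) {x y : X} (hy : y ∈ U) (h : ¬ x ⤳ y) :
    ∃ f : Γ(X, U), y ∈ X.basicOpen f ∧ x ∉ X.basicOpen f := by
  obtain ⟨O, hO, hyO, hxO⟩ : ∃ O, IsOpen O ∧ y ∈ O ∧ x ∉ O := by
    simpa [specializes_iff_forall_open] using h
  obtain ⟨f, hf, hyf⟩ := hU.exists_basicOpen_le (V := ⟨O, hO⟩) ⟨y, hyO⟩ hy
  exact ⟨f, hyf, fun h' => hxO (hf h')⟩

theorem germ_mem_maximalIdeal {U : X.Opens} {x : X} (hx : x ∈ U) {f : Γ(X, U)} (h : x ∉ X.basicOpen f) :
    X.presheaf.germ U x hx f ∈ IsLocalRing.maximalIdeal (X.presheaf.stalk x) := by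
  rw [IsLocalRing.mem_maximalIdeal, mem_nonunits_iff, ← X.mem_basicOpen f x hx]
  exact h

theorem exists_frac {U : X.Opens} (hU : IsAffineOpen U) {y : X} (hy : y ∈ U) (s : X.presheaf.stalk y) :
    ∃ a t : Γ(X, U), IsUnit (X.presheaf.germ U y hy t) ∧ s * X.presheaf.germ U y hy t = X.presheaf.germ U y hy a := by
  letI := TopCat.Presheaf.algebra_section_stalk X.presheaf (⟨y, hy⟩ : U)
  haveI := hU.isLocalization_stalk ⟨y, hy⟩
  obtain ⟨⟨a, t⟩, h⟩ := IsLocalization.surj (hU.primeIdealOf ⟨y, hy⟩).asIdeal.primeCompl s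
  exact ⟨a, t.1, IsLocalization.map_units (X.presheaf.stalk y) t, h⟩

/-- Two points with discrete valuation stalks do not specialise to one another. -/
theorem eq_of_dvr {x y : X} (h : x ⤳ y) [IsDomain (X.presheaf.stalk y)] [IsDiscreteValuationRing (X.presheaf.stalk y)]
    [IsDomain (X.presheaf.stalk x)] [IsDiscreteValuationRing (X.presheaf.stalk x)] : x = y := by
  by_contra hne
  obtain ⟨U, hU, hyU, -⟩ := exists_isAffineOpen_mem_and_subset (x := y) (U := (⊤ : X.Opens)) trivial
  have hxU : x ∈ U := h.mem_open U.2 hyU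
  have hyx : ¬ y ⤳ x := fun h' => hne (h.antisymm h').eq
  obtain ⟨f, hxf, hyf⟩ := exists_sep hU hxU hyx
  let φ := (X.presheaf.stalkSpecializes h).hom
  haveI : ((IsLocalRing.maximalIdeal (X.presheaf.stalk x)).comap φ).IsPrime := Ideal.IsPrime.comap φ
  have hbot : (IsLocalRing.maximalIdeal (X.presheaf.stalk x)).comap φ = ⊥ := by
    by_contra hb
    have hmax := IsPrime.to_maximal_ideal hb
    have hm : X.presheaf.germ U y hyU f ∈ (IsLocalRing.maximalIdeal (X.presheaf.stalk x)).comap φ := by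
      rw [IsLocalRing.eq_maximalIdeal hmax]
      exact germ_mem_maximalIdeal hyU hyf
    rw [Ideal.mem_comap, isUnit_spec_germ h hyU, IsLocalRing.mem_maximalIdeal, mem_nonunits_iff] at hm
    exact hm ((X.mem_basicOpen f x hxU).1 hxf)
  refine IsDiscreteValuationRing.not_isField (X.presheaf.stalk x) ?_
  rw [IsLocalRing.isField_iff_maximalIdeal_eq, eq_bot_iff]
  intro u hu
  obtain ⟨a, t, ht, hat⟩ := exists_frac hU hxU u
  have h1 : X.presheaf.germ U y hyU a ∈ (IsLocalRing.maximalIdeal (X.presheaf.stalk x)).comap φ := by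
    rw [Ideal.mem_comap, isUnit_spec_germ h hyU, ← hat]
    exact Ideal.mul_mem_right _ _ hu
  rw [hbot, Ideal.mem_bot] at h1
  have h2 := congrArg φ h1
  rw [isUnit_spec_germ h hyU, map_zero, ← hat] at h2
  exact Ideal.mem_bot.2 (ht.mul_left_eq_zero.1 h2)

/-- The stalk of a closed subscheme. -/
theorem stalk_data (J : X.IdealSheafData) (z : J.subscheme) (U : X.affineOpens) (hU : J.subschemeι z ∈ U.1) :
    Function.Surjective (J.subschemeι.stalkMap z).hom ∧
      RingHom.ker (J.subschemeι.stalkMap z).hom = (J.ideal U).map (X.presheaf.germ U.1 (J.subschemeι z) hU).hom := by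
  haveI : IsClosedImmersion (J.subschemeι ∣_ U.1) := inferInstance
  refine ⟨J.subschemeι.stalkMap_surjective z, ?_⟩
  rw [Groth.Agent.H17.ker_stalkMap_eq_map J.subschemeι U.2 z hU, Scheme.IdealSheafData.ker_subschemeι_app]

theorem length_stalk (J : X.IdealSheafData) (z : J.subscheme) (U : X.affineOpens) (hU : J.subschemeι z ∈ U.1) :
    Module.length (J.subscheme.presheaf.stalk z) (J.subscheme.presheaf.stalk z) =
      Module.length (X.presheaf.stalk (J.subschemeι z)) (X.presheaf.stalk (J.subschemeι z) ⧸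
        (J.ideal U).map (X.presheaf.germ U.1 (J.subschemeι z) hU).hom) := by
  obtain ⟨hs, hk⟩ := stalk_data J z U hU
  letI := (J.subschemeι.stalkMap z).hom.toAlgebra
  rw [← Module.length_eq_of_surjective (S := X.presheaf.stalk (J.subschemeι z)) (R := J.subscheme.presheaf.stalk z)
    (M := J.subscheme.presheaf.stalk z) hs]
  let l := Algebra.linearMap (X.presheaf.stalk (J.subschemeι z)) (J.subscheme.presheaf.stalk z)
  refine ((Submodule.quotEquivOfEq _ _ ?_).trans (l.quotKerEquivOfSurjective hs)).length_eq.symm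
  rw [← hk]
  rfl

theorem assoc_iff [IsLocallyNoetherian X] (J : X.IdealSheafData) (z : J.subscheme) (U : X.affineOpens)
    (hU : J.subschemeι z ∈ U.1) :
    IsAssociatedPrime (IsLocalRing.maximalIdeal (J.subscheme.presheaf.stalk z)) (J.subscheme.presheaf.stalk z) ↔
      ∃ s : X.presheaf.stalk (J.subschemeι z), s ∉ (J.ideal U).map (X.presheaf.germ U.1 (J.subschemeι z) hU).hom ∧
        ∀ r ∈ IsLocalRing.maximalIdeal (X.presheaf.stalk (J.subschemeι z)),
          r * s ∈ (J.ideal U).map (X.presheaf.germ U.1 (J.subschemeι z) hU).hom := by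
  obtain ⟨hs, hk⟩ := stalk_data J z U hU
  haveI : IsLocallyNoetherian J.subscheme := LocallyOfFiniteType.isLocallyNoetherian J.subschemeι
  simp only [← hk, RingHom.mem_ker, map_mul]
  rw [isAssociatedPrime_iff]
  constructor
  · rintro ⟨-, t, ht⟩
    obtain ⟨s, rfl⟩ := hs t
    refine ⟨s, fun h0 => (IsLocalRing.maximalIdeal.isMaximal _).ne_top (ht.trans ?_), fun r hr => ?_⟩
    · refine (Ideal.eq_top_iff_one _).2 ?_
      rw [Submodule.mem_colon_singleton, h0, smul_zero]
      exact zero_mem _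
    · have hr' : (J.subschemeι.stalkMap z).hom r ∈ IsLocalRing.maximalIdeal (J.subscheme.presheaf.stalk z) :=
        IsLocalRing.map_maximalIdeal_le (J.subschemeι.stalkMap z).hom (Ideal.mem_map_of_mem _ hr)
      rw [ht, Submodule.mem_colon_singleton] at hr'
      simpa using hr'
  · rintro ⟨s, hs0, hsm⟩
    refine ⟨(IsLocalRing.maximalIdeal.isMaximal _).isPrime, (J.subschemeι.stalkMap z).hom s, ?_⟩
    refine (IsLocalRing.maximalIdeal.isMaximal _).eq_of_le (fun he => hs0 ?_) fun t ht => ?_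
    · have h1 := (Ideal.eq_top_iff_one _).1 he
      rw [Submodule.mem_colon_singleton] at h1
      simpa using h1
    · obtain ⟨r, rfl⟩ := hs t
      rw [Submodule.mem_colon_singleton]
      have hr : r ∈ IsLocalRing.maximalIdeal (X.presheaf.stalk (J.subschemeι z)) := by
        rw [IsLocalRing.mem_maximalIdeal, mem_nonunits_iff] at ht ⊢
        exact fun h' => ht (h'.map _)
      simpa using hsm r hr

theorem exists_point (J : X.IdealSheafData) {y : X} (hy : y ∈ J.support) : ∃ z : J.subscheme, J.subschemeι z = y := by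
  have h : y ∈ Set.range J.subschemeι := by
    rw [Scheme.IdealSheafData.range_subschemeι]; exact hy
  exact h

variable (n : X → ℕ)

/-- Membership in the symbolic powers at the marked points. -/
noncomputable def symbIdeal (U : X.Opens) : Ideal Γ(X, U) :=
  ⨅ (x : X) (_ : n x ≠ 0) (hx : x ∈ U),
    ((IsLocalRing.maximalIdeal (X.presheaf.stalk x)) ^ n x).comap (X.presheaf.germ U x hx).hom

theorem mem_symbIdeal {U : X.Opens} {a : Γ(X, U)} :
    a ∈ symbIdeal n U ↔ ∀ x, n x ≠ 0 → ∀ hx : x ∈ U,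
      X.presheaf.germ U x hx a ∈ IsLocalRing.maximalIdeal (X.presheaf.stalk x) ^ n x := by
  simp [symbIdeal, Ideal.mem_iInf]

theorem germ_res' {U V : X.Opens} (h : V ≤ U) {x : X} (hx : x ∈ V) (a : Γ(X, U)) :
    X.presheaf.germ V x hx ((X.presheaf.map (homOfLE h).op).hom a) = X.presheaf.germ U x (h hx) a :=
  TopCat.Presheaf.germ_res_apply X.presheaf (homOfLE h) x hx a

theorem symb_map (hfin : {x | n x ≠ 0}.Finite) (U : X.affineOpens) (f : Γ(X, U.1)) :
    (symbIdeal n U.1).map (X.presheaf.map (homOfLE <| X.basicOpen_le f).op).hom = symbIdeal n (X.basicOpen f) := by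
  refine le_antisymm (Ideal.map_le_iff_le_comap.2 fun a ha => ?_) fun c hc => ?_
  · rw [Ideal.mem_comap, mem_symbIdeal]
    intro x hx hxV
    rw [germ_res']
    exact (mem_symbIdeal n).1 ha x hx _
  · letI : Algebra Γ(X, U.1) Γ(X, X.basicOpen f) := (X.presheaf.map (homOfLE (X.basicOpen_le f)).op).hom.toAlgebra
    haveI : IsLocalization.Away f Γ(X, X.basicOpen f) := U.2.isLocalization_basicOpen f
    obtain ⟨⟨a, t⟩, h⟩ := IsLocalization.surj (Submonoid.powers f) c
    obtain ⟨k, hk⟩ := t.2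
    let N := hfin.toFinset.sup n
    have hb : a * f ^ N ∈ symbIdeal n U.1 := by
      rw [mem_symbIdeal]
      intro x hx hxU
      rw [map_mul, map_pow]
      by_cases hxf : x ∈ X.basicOpen f
      · refine Ideal.mul_mem_right _ _ ?_
        rw [← germ_res' (X.basicOpen_le f) hxf, show (X.presheaf.map (homOfLE (X.basicOpen_le f)).op).hom a = _ from h.symm,
          map_mul]
        exact Ideal.mul_mem_right _ _ ((mem_symbIdeal n).1 hc x hx hxf)
      · exact Ideal.mul_mem_left _ _ (Ideal.pow_le_pow_right (Finset.le_sup (f := n) (hfin.mem_toFinset.2 hx))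
          (Ideal.pow_mem_pow (germ_mem_maximalIdeal hxU hxf) N))
    have h1 := Ideal.mem_map_of_mem (algebraMap Γ(X, U.1) Γ(X, X.basicOpen f)) hb
    rw [map_mul, ← h, mul_assoc, map_pow, ← map_pow, ← map_mul, show (t : Γ(X, U.1)) = f ^ k from hk.symm,
      ← pow_add, map_pow] at h1
    exact ((Ideal.map _ _).mul_unit_mem_iff_mem ((IsLocalization.Away.algebraMap_isUnit f).pow _)).1 h1

/-- The ideal sheaf of the symbolic powers. -/
noncomputable def symb (hfin : {x | n x ≠ 0}.Finite) : X.IdealSheafData where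
  ideal U := symbIdeal n U.1
  map_ideal_basicOpen U f := symb_map n hfin U f

theorem stalk_mem (hfin : {x | n x ≠ 0}.Finite) (U : X.affineOpens) {y : X} (hy : y ∈ U.1) (s : X.presheaf.stalk y) :
    s ∈ ((symb n hfin).ideal U).map (X.presheaf.germ U.1 y hy).hom ↔
      ∀ x, n x ≠ 0 → ∀ h : x ⤳ y,
        (X.presheaf.stalkSpecializes h).hom s ∈ IsLocalRing.maximalIdeal (X.presheaf.stalk x) ^ n x := by
  classical
  refine ⟨fun hs => ?_, fun hs => ?_⟩
  · intro x hx h
    have hle : ((symb n hfin).ideal U).map (X.presheaf.germ U.1 y hy).hom ≤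
        (IsLocalRing.maximalIdeal (X.presheaf.stalk x) ^ n x).comap (X.presheaf.stalkSpecializes h).hom := by
      rw [Ideal.map_le_iff_le_comap]
      intro a ha
      rw [Ideal.mem_comap, Ideal.mem_comap, isUnit_spec_germ h hy]
      exact (mem_symbIdeal n).1 ha x hx _
    exact hle hs
  · obtain ⟨a, t, ht, hat⟩ := exists_frac U.2 hy s
    let S := hfin.toFinset.filter fun x => ¬ x ⤳ y
    have hsep : ∀ x : S, ∃ f : Γ(X, U.1), y ∈ X.basicOpen f ∧ x.1 ∉ X.basicOpen f := fun x =>
      exists_sep U.2 hy (Finset.mem_filter.1 x.2).2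
    choose f hf hf' using hsep
    let g := ∏ x : S, f x ^ n x.1
    have hg : IsUnit (X.presheaf.germ U.1 y hy g) := by
      rw [map_prod]
      refine IsUnit.prod_univ_iff.2 fun x => ?_
      rw [map_pow]
      exact ((X.mem_basicOpen (f x) y hy).1 (hf x)).pow _
    have hag : a * g ∈ (symb n hfin).ideal U := by
      refine (mem_symbIdeal n).2 fun x hx hxU => ?_
      rw [map_mul]
      by_cases h : x ⤳ y
      · refine Ideal.mul_mem_right _ _ ?_
        rw [← isUnit_spec_germ h hy, ← hat, map_mul]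
        exact Ideal.mul_mem_right _ _ (hs x hx h)
      · refine Ideal.mul_mem_left _ _ ?_
        have hxS : x ∈ S := Finset.mem_filter.2 ⟨hfin.mem_toFinset.2 hx, h⟩
        rw [map_prod]
        refine Ideal.mem_of_dvd _ (Finset.dvd_prod_of_mem _ (Finset.mem_univ (⟨x, hxS⟩ : S))) ?_
        rw [map_pow]
        exact Ideal.pow_mem_pow (germ_mem_maximalIdeal hxU (hf' ⟨x, hxS⟩)) _
    have h1 := Ideal.mem_map_of_mem (X.presheaf.germ U.1 y hy).hom hag
    rw [map_mul, ← hat] at h1
    exact ((Ideal.map _ _).mul_unit_mem_iff_mem ht).1 (((Ideal.map _ _).mul_unit_mem_iff_mem hg).1 h1)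

theorem mem_support_symb (hfin : {x | n x ≠ 0}.Finite) (y : X) :
    y ∈ (symb n hfin).support ↔ ∃ x, n x ≠ 0 ∧ x ⤳ y := by
  obtain ⟨U, hU, hyU, -⟩ := exists_isAffineOpen_mem_and_subset (x := y) (U := (⊤ : X.Opens)) trivial
  rw [Scheme.IdealSheafData.mem_support_iff_of_mem (U := ⟨U, hU⟩) hyU, Scheme.mem_zeroLocus_iff]
  constructor
  · intro h
    by_contra hne
    push_neg at hne
    have h1 : (1 : X.presheaf.stalk y) ∈ ((symb n hfin).ideal ⟨U, hU⟩).map (X.presheaf.germ U y hyU).hom :=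
      (stalk_mem n hfin ⟨U, hU⟩ hyU 1).2 fun x hx h' => absurd h' (hne x hx)
    have hle : ((symb n hfin).ideal ⟨U, hU⟩).map (X.presheaf.germ U y hyU).hom ≤
        IsLocalRing.maximalIdeal (X.presheaf.stalk y) := by
      rw [Ideal.map_le_iff_le_comap]
      exact fun a ha => germ_mem_maximalIdeal hyU (h a ha)
    exact (IsLocalRing.maximalIdeal.isMaximal _).ne_top ((Ideal.eq_top_iff_one _).2 (hle h1))
  · rintro ⟨x, hx, h⟩ a ha hya
    have hu : IsUnit (X.presheaf.germ U x (h.mem_open U.2 hyU) a) := by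
      rw [← isUnit_spec_germ h hyU]
      exact ((X.mem_basicOpen a y hyU).1 hya).map _
    exact (IsLocalRing.maximalIdeal.isMaximal _).ne_top
      (Ideal.eq_top_of_isUnit_mem _ (Ideal.pow_le_self hx ((mem_symbIdeal n).1 ha x hx _)) hu)

theorem spec_refl (x : X) (s : X.presheaf.stalk x) :
    (X.presheaf.stalkSpecializes (specializes_refl x)).hom s = s := by
  rw [TopCat.Presheaf.stalkSpecializes_refl]
  rfl

/-- The three conditions. -/
def Cond (J : X.IdealSheafData) : Prop :=
  (∀ z : ↥J.subscheme,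
    IsAssociatedPrime (IsLocalRing.maximalIdeal ↑(J.subscheme.presheaf.stalk z))
      ↑(J.subscheme.presheaf.stalk z) → ∀ z' : ↥J.subscheme, z' ⤳ z → z' = z) ∧
  (∀ z : ↥J.subscheme, (∀ z' : ↥J.subscheme, z' ⤳ z → z' = z) →
    Module.length ↑(J.subscheme.presheaf.stalk z) ↑(J.subscheme.presheaf.stalk z) =
      ((n (J.subschemeι.base z) : ℕ) : ℕ∞)) ∧
  (∀ x : X, n x ≠ 0 → ∃ z : ↥J.subscheme, J.subschemeι.base z = x ∧ ∀ z' : ↥J.subscheme, z' ⤳ z → z' = z)

theorem dvr_stalk_eq_pow [IsLocallyNoetherian X] (J : X.IdealSheafData) (hJ : Cond n J)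
    (hreg : ∀ x, n x ≠ 0 → ∃ _ : IsDomain (X.presheaf.stalk x), IsDiscreteValuationRing (X.presheaf.stalk x))
    (x : X) (hx : n x ≠ 0) (U : X.affineOpens) (hxU : x ∈ U.1) :
    (J.ideal U).map (X.presheaf.germ U.1 x hxU).hom = IsLocalRing.maximalIdeal (X.presheaf.stalk x) ^ n x := by
  obtain ⟨z, rfl, hz⟩ := hJ.2.2 x hx
  obtain ⟨_, hd⟩ := hreg _ hx
  exact dvr_eq_pow _ _ ((length_stalk J z U hxU).symm.trans (hJ.2.1 z hz))

theorem cond_symb [IsLocallyNoetherian X] (hfin : {x | n x ≠ 0}.Finite)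
    (hreg : ∀ x, n x ≠ 0 → ∃ _ : IsDomain (X.presheaf.stalk x), IsDiscreteValuationRing (X.presheaf.stalk x)) :
    Cond n (symb n hfin) := by
  set I := symb n hfin
  have hinc : ∀ x y, n x ≠ 0 → n y ≠ 0 → x ⤳ y → x = y := fun x y hx hy h => by
    obtain ⟨_, _⟩ := hreg x hx
    obtain ⟨_, _⟩ := hreg y hy
    exact eq_of_dvr h
  have hrange : ∀ z : I.subscheme, I.subschemeι z ∈ I.support := fun z =>
    Set.ext_iff.1 I.range_subschemeι _ |>.1 ⟨z, rfl⟩
  have hgen : ∀ z : I.subscheme, (∀ z', z' ⤳ z → z' = z) ↔ n (I.subschemeι z) ≠ 0 := by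
    intro z
    refine ⟨fun h => ?_, fun hz z' hz' => ?_⟩
    · obtain ⟨x, hx, hxz⟩ := (mem_support_symb n hfin _).1 (hrange z)
      obtain ⟨z', hz'⟩ := exists_point I ((mem_support_symb n hfin x).2 ⟨x, hx, specializes_rfl⟩)
      rw [← hz'] at hx hxz
      rwa [h z' (I.subschemeι.isEmbedding.isInducing.specializes_iff.1 hxz)] at hx
    · obtain ⟨x, hx, hxz⟩ := (mem_support_symb n hfin _).1 (hrange z')
      have h1 := hz'.map I.subschemeι.continuous
      have h2 : x = I.subschemeι z := hinc x _ hx hz (hxz.trans h1)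
      rw [h2] at hxz
      exact I.subschemeι.isEmbedding.injective (h1.antisymm hxz).eq
  refine ⟨fun z hz => (hgen z).2 ?_, fun z hz => ?_, fun x hx => ?_⟩
  · obtain ⟨U, hU, hyU, -⟩ := exists_isAffineOpen_mem_and_subset (x := I.subschemeι z) (U := (⊤ : X.Opens)) trivial
    obtain ⟨s, hs, hsm⟩ := (assoc_iff I z ⟨U, hU⟩ hyU).1 hz
    rw [stalk_mem n hfin ⟨U, hU⟩ hyU] at hs
    push_neg at hs
    obtain ⟨x, hx, hxy, hxs⟩ := hs
    by_contra h0
    have hne : ¬ I.subschemeι z ⤳ x := fun h => hx ((congrArg n (h.antisymm hxy).eq).symm.trans h0)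
    obtain ⟨t, hxt, hyt⟩ := exists_sep hU (hxy.mem_open U.2 hyU) hne
    have h1 := (stalk_mem n hfin ⟨U, hU⟩ hyU _).1 (hsm _ (germ_mem_maximalIdeal hyU hyt)) x hx hxy
    rw [map_mul, isUnit_spec_germ hxy hyU] at h1
    exact hxs (((IsLocalRing.maximalIdeal _ ^ n x).unit_mul_mem_iff_mem ((X.mem_basicOpen t x _).1 hxt)).1 h1)
  · have hx := (hgen z).1 hz
    obtain ⟨_, _⟩ := hreg _ hx
    obtain ⟨U, hU, hyU, -⟩ := exists_isAffineOpen_mem_and_subset (x := I.subschemeι z) (U := (⊤ : X.Opens)) trivial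
    rw [length_stalk I z ⟨U, hU⟩ hyU,
      show (I.ideal ⟨U, hU⟩).map (X.presheaf.germ U (I.subschemeι z) hyU).hom =
        IsLocalRing.maximalIdeal _ ^ n (I.subschemeι z) from Ideal.ext fun s => by
          rw [stalk_mem n hfin ⟨U, hU⟩ hyU]
          refine ⟨fun h => by have := h _ hx specializes_rfl; rwa [spec_refl] at this, fun h x hx' hxy => ?_⟩
          obtain rfl := hinc x _ hx' hx hxy
          rwa [spec_refl],
      IsDiscreteValuationRing.length_quotient_pow_maximalIdeal]
  · obtain ⟨z, rfl⟩ := exists_point I ((mem_support_symb n hfin x).2 ⟨x, hx, specializes_rfl⟩)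
    exact ⟨z, rfl, (hgen z).2 hx⟩

theorem eq_symb [IsLocallyNoetherian X] (hfin : {x | n x ≠ 0}.Finite)
    (hreg : ∀ x, n x ≠ 0 → ∃ _ : IsDomain (X.presheaf.stalk x), IsDiscreteValuationRing (X.presheaf.stalk x))
    (J : X.IdealSheafData) (hJ : Cond n J) : J = symb n hfin := by
  refine Scheme.IdealSheafData.ext (funext fun U => le_antisymm (fun a ha => ?_) fun a ha => ?_)
  · refine (mem_symbIdeal n).2 fun x hx hxU => ?_
    rw [← dvr_stalk_eq_pow n J hJ hreg x hx U hxU]
    exact Ideal.mem_map_of_mem _ ha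
  · by_contra haJ
    haveI : IsNoetherianRing Γ(X, U.1) := IsLocallyNoetherian.component_noetherian U
    obtain ⟨P, hP, hle⟩ := exists_le_isAssociatedPrime_of_isNoetherianRing Γ(X, U.1)
      (Ideal.Quotient.mk (J.ideal U) a) (by rwa [Ne, Ideal.Quotient.eq_zero_iff_mem])
    rw [isAssociatedPrime_iff] at hP
    obtain ⟨hPp, q, hq⟩ := hP
    obtain ⟨b, rfl⟩ := Ideal.Quotient.mk_surjective q
    have hcol : ∀ r b' : Γ(X, U.1), r ∈ (⊥ : Submodule Γ(X, U.1) (Γ(X, U.1) ⧸ J.ideal U)).colon
        {Ideal.Quotient.mk (J.ideal U) b'} ↔ r * b' ∈ J.ideal U := fun r b' => by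
      rw [Submodule.mem_colon_singleton, Submodule.mem_bot, ← Ideal.Quotient.eq_zero_iff_mem]
      rfl
    let y := U.2.fromSpec ⟨P, hPp⟩
    have hyU : y ∈ U.1 := by
      show y ∈ (U.1 : Set X)
      rw [← U.2.range_fromSpec]; exact ⟨_, rfl⟩
    have hprime : U.2.primeIdealOf ⟨y, hyU⟩ = ⟨P, hPp⟩ :=
      U.2.fromSpec.isOpenEmbedding.injective (U.2.fromSpec_primeIdealOf _)
    letI := TopCat.Presheaf.algebra_section_stalk X.presheaf (⟨y, hyU⟩ : U.1)
    haveI : IsLocalization.AtPrime (X.presheaf.stalk y) P := by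
      have := U.2.isLocalization_stalk ⟨y, hyU⟩
      rwa [hprime] at this
    have hJP : J.ideal U ≤ P := fun r hr => by
      rw [hq, hcol]; exact Ideal.mul_mem_right _ _ hr
    have hys : y ∈ J.support := by
      rw [Scheme.IdealSheafData.mem_support_iff_of_mem hyU, Scheme.mem_zeroLocus_iff]
      intro r hr h'
      rw [X.mem_basicOpen r y hyU] at h'
      exact (IsLocalization.AtPrime.isUnit_to_map_iff (X.presheaf.stalk y) P r).1 h' (hJP hr)
    obtain ⟨z, hz⟩ := exists_point J hys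
    have key : ∀ r : Γ(X, U.1), X.presheaf.germ U.1 y hyU r ∈ (J.ideal U).map (X.presheaf.germ U.1 y hyU).hom →
        ∃ t, t ∉ P ∧ t * r ∈ J.ideal U := fun r hr => by
      obtain ⟨t, ht, htr⟩ := (IsLocalization.algebraMap_mem_map_algebraMap_iff P.primeCompl (X.presheaf.stalk y) _ _).1 hr
      exact ⟨t, ht, htr⟩
    have hgz : ∀ z'', z'' ⤳ z → z'' = z := by
      refine hJ.1 z ?_
      have main : ∀ w (_ : w = y) (hwU : w ∈ U.1), ∃ s : X.presheaf.stalk w,
          s ∉ (J.ideal U).map (X.presheaf.germ U.1 w hwU).hom ∧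
          ∀ r ∈ IsLocalRing.maximalIdeal (X.presheaf.stalk w),
            r * s ∈ (J.ideal U).map (X.presheaf.germ U.1 w hwU).hom := by
        rintro w rfl hwU
        refine ⟨X.presheaf.germ U.1 y hyU b, fun hb => ?_, ?_⟩
        · obtain ⟨t, ht, htb⟩ := key b hb
          exact ht (by rw [hq, hcol]; exact htb)
        · intro r hr
          rw [← IsLocalization.AtPrime.map_eq_maximalIdeal P (X.presheaf.stalk y)] at hr
          have hle' : P.map (algebraMap Γ(X, U.1) (X.presheaf.stalk y)) ≤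
              ((J.ideal U).map (X.presheaf.germ U.1 y hyU).hom).colon {X.presheaf.germ U.1 y hyU b} := by
            rw [Ideal.map_le_iff_le_comap]
            intro p hp
            rw [Ideal.mem_comap, Submodule.mem_colon_singleton, smul_eq_mul]
            show X.presheaf.germ U.1 y hyU p * _ ∈ _
            rw [← map_mul]
            rw [hq, hcol] at hp
            exact Ideal.mem_map_of_mem _ hp
          simpa using Submodule.mem_colon_singleton.1 (hle' hr)
      exact (assoc_iff J z U (hz ▸ hyU)).2 (main _ hz _)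
    have hlen := hJ.2.1 z hgz
    have hny : n y ≠ 0 := fun h0 => by
      rw [show n (J.subschemeι z) = 0 from hz.symm ▸ h0, Nat.cast_zero, Module.length_eq_zero_iff] at hlen
      exact not_subsingleton (J.subscheme.presheaf.stalk z) hlen
    have hag := (mem_symbIdeal n).1 ha y hny hyU
    rw [← dvr_stalk_eq_pow n J hJ hreg y hny U hyU] at hag
    obtain ⟨t, ht, hta⟩ := key a hag
    exact ht (hle ((hcol t a).2 hta))


/-- Let X be a separated Noetherian scheme and W = Σ a_i z_i an effective cycle on X (a function from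
the points of X to the integers, non-negative and with finite support) whose points z_i (those with
a_i ≠ 0) have codimension 1 with X regular there, i.e. O_{X,z_i} is a discrete valuation ring. Then
X has a unique closed subscheme Z (a quasi-coherent ideal sheaf) such that (1) Z has no embedded
components (every point of Z at which the maximal ideal of the local ring of Z is an associated
prime is a maximal point of Z) and (2) the cycle of Z is W: every maximal point z of Z has O_{Z,z}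
of length W(z), and every point with W ≠ 0 is a maximal point of Z. -/
theorem result (X : Scheme.{u}) [IsNoetherian X]
    [X.IsSeparated] (W : X → ℤ) (hfin : {x | W x ≠ 0}.Finite) (hpos : ∀ x, 0 ≤ W x)
    (hreg : ∀ x, W x ≠ 0 → ∃ _ : IsDomain ↑(X.presheaf.stalk x), IsDiscreteValuationRing ↑(X.presheaf.stalk x)) :
    ∃! 𝓘 : X.IdealSheafData,
      (∀ z : ↥𝓘.subscheme,
        IsAssociatedPrime (IsLocalRing.maximalIdeal ↑(𝓘.subscheme.presheaf.stalk z))
          ↑(𝓘.subscheme.presheaf.stalk z) → ∀ z' : ↥𝓘.subscheme, z' ⤳ z → z' = z) ∧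
      (∀ z : ↥𝓘.subscheme, (∀ z' : ↥𝓘.subscheme, z' ⤳ z → z' = z) →
        Module.length ↑(𝓘.subscheme.presheaf.stalk z) ↑(𝓘.subscheme.presheaf.stalk z) =
          ((W (𝓘.subschemeι.base z)).toNat : ℕ∞)) ∧
      (∀ x : X, W x ≠ 0 → ∃ z : ↥𝓘.subscheme, 𝓘.subschemeι.base z = x ∧
        ∀ z' : ↥𝓘.subscheme, z' ⤳ z → z' = z) := by
  let n : X → ℕ := fun x => (W x).toNat
  have hiff : ∀ x, n x ≠ 0 ↔ W x ≠ 0 := fun x => by
    have := hpos x
    show (W x).toNat ≠ 0 ↔ _
    omega
  have hfin' : {x | n x ≠ 0}.Finite := hfin.subset fun x hx => (hiff x).1 hx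
  have hreg' : ∀ x, n x ≠ 0 → ∃ _ : IsDomain (X.presheaf.stalk x), IsDiscreteValuationRing (X.presheaf.stalk x) :=
    fun x hx => hreg x ((hiff x).1 hx)
  obtain ⟨h1, h2, h3⟩ := cond_symb n hfin' hreg'
  refine ⟨symb n hfin', ⟨h1, h2, fun x hx => h3 x ((hiff x).2 hx)⟩, fun J hJ => ?_⟩
  exact eq_symb n hfin' hreg' J ⟨hJ.1, hJ.2.1, fun x hx => hJ.2.2 x ((hiff x).1 hx)⟩


end Groth.Agent.S13600
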