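import Groth.Statements.S13601
import Groth.Agent.H26Sym.BoxRing
import Groth.Agent.S14671

set_option autoImplicit false
universe u
open CategoryTheory AlgebraicGeometry
open SymProd

namespace Groth.Agent.S13601

open scoped TensorProduct
open CategoryTheory.Limits in

/-- Let f : X ⟶ S be a flat morphism of schemes such that every finite set of points of X lying over a
single point of S is contained in an affine open of X, let n ≥ 0, and let (Y, q, g) be an n-th
symmetric power of X over S: q : X ×_S ⋯ ×_S X ⟶ Y (n factors) is a quotient by the symmetric group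
on n letters permuting the factors (affine, invariant, identifying sections of O_Y with invariant
sections) and g : Y ⟶ S satisfies q ≫ g = the structure map of the fibre power. Then g is flat. -/
theorem result {X S Y : Scheme.{u}} (f : X ⟶ S) [Flat f]
    (hAF : SymProd.IsAF f) (n : ℕ) (q : SymProd.fibPow f n ⟶ Y) (g : Y ⟶ S)
    (hq : SymProd.IsSymProd f n q g) : Flat g := by
  rw [HasRingHomProperty.iff_exists_appLE (P := @Flat) (Q := RingHom.Flat)
    (RingHom.Flat.stableUnderComposition.stableUnderCompositionWithLocalizationAway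
      RingHom.Flat.holdsForLocalizationAway).left]
  intro y
  obtain ⟨x, hx⟩ := Groth.Agent.H27Quot.surjective hq.isQuot y
  obtain ⟨V, hV, hxV, -⟩ := exists_isAffineOpen_mem_and_subset (X := S)
    (x := (WidePullback.base (fun _ : Fin n => f)).base x) (U := ⊤) trivial
  obtain ⟨U, hU, hUV, hxW⟩ := H26Sym.exists_box_of_isAF f n hAF hV x hxV
  obtain ⟨W', hW', hpre⟩ := H26Sym.exists_descend hq
    (H26Sym.isAffineOpen_box hV hU hUV) (H26Sym.preimage_box V U)
  letI : Algebra Γ(S, V) Γ(X, U) := (f.appLE V U hUV).hom.toAlgebra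
  haveI : Module.Flat Γ(S, V) Γ(X, U) := f.flat_appLE hV hU hUV
  obtain ⟨e, ι, hι, hinj, hran⟩ := H26Sym.exists_chartEquiv hq hV hU hUV rfl hpre
  refine ⟨⟨V, hV⟩, ⟨W', hW'⟩, ?_, e, ?_⟩
  · show y ∈ W'
    rw [← hx]
    exact (hpre.symm ▸ hxW : x ∈ q ⁻¹ᵁ W')
  letI : Algebra Γ(S, V) Γ(Y, W') := (g.appLE V W' e).hom.toAlgebra
  show Module.Flat Γ(S, V) Γ(Y, W')
  let ia : Γ(Y, W') →ₐ[Γ(S, V)] (⨂[Γ(S, V)] _ : Fin n, Γ(X, U)) :=
    { ι with commutes' := fun a => RingHom.congr_fun hι a }
  set N := ⨅ σ : Equiv.Perm (Fin n),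
    LinearMap.eqLocus (PiTensorProduct.reindex Γ(S, V) (fun _ : Fin n => Γ(X, U)) σ).toLinearMap LinearMap.id with hN
  have hmem : ∀ t : ⨂[Γ(S, V)] _ : Fin n, Γ(X, U), t ∈ N ↔ t ∈ Set.range ι := fun t => by
    rw [hran, SetLike.mem_coe, SymTen.mem_TS_iff]
    simp [hN, Submodule.mem_iInf]
  let L : Γ(Y, W') →ₗ[Γ(S, V)] N := ia.toLinearMap.codRestrict N fun s => (hmem _).mpr ⟨s, rfl⟩
  have hL : Function.Bijective L := by
    refine ⟨fun a b h => hinj (congrArg Subtype.val h), fun t => ?_⟩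
    obtain ⟨s, hs⟩ := (hmem _).mp t.2
    exact ⟨s, Subtype.ext hs⟩
  haveI := Groth.Agent.S14671.result Γ(S, V) Γ(X, U) n
  exact Module.Flat.of_linearEquiv (LinearEquiv.ofBijective L hL)

end Groth.Agent.S13601
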