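import Groth.Statements.S13602
import Groth.Agent.H13Grpd.InvariantAffine

set_option autoImplicit false
universe u
open CategoryTheory AlgebraicGeometry
open SymProd

namespace Groth.Agent.S13602

open CategoryTheory CategoryTheory.Limits AlgebraicGeometry

/-- Let f : X ⟶ S be a morphism of schemes satisfying (AF): every finite set of points of X over a
single point of S lies in an affine open of X. Then for every d ≥ 0 and every point x of the d-fold
fibre power X ×_S ⋯ ×_S X, some affine open of the fibre power contains the whole orbit of x under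
the symmetric group on d letters permuting the factors. (With the existence of a quotient by a
finite group whose orbits lie in affine opens, this is the existence of the symmetric power
Sym^d(X/S) for X/S satisfying (AF).) -/
theorem result {X S : Scheme.{u}} (f : X ⟶ S) (hAF : SymProd.IsAF f)
    (d : ℕ) (x : ↥(SymProd.fibPow f d)) :
    ∃ U : (SymProd.fibPow f d).Opens, IsAffineOpen U ∧
      ∀ σ : Equiv.Perm (Fin d), (SymProd.permHom f d σ).base x ∈ U := by
  classical
  let s : S := (WidePullback.base (fun _ : Fin d => f)).base x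
  let T : Finset X := Finset.univ.image fun i : Fin d => (WidePullback.π (fun _ : Fin d => f) i).base x
  have hTs : ∀ z ∈ T, f.base z = s := fun z hz => by
    obtain ⟨i, -, rfl⟩ := Finset.mem_image.1 hz
    rw [← Scheme.Hom.comp_apply, WidePullback.π_arrow]
  obtain ⟨U, hU, hTU⟩ := hAF s T hTs
  obtain ⟨V, hV, hsV⟩ : ∃ V : S.Opens, IsAffineOpen V ∧ s ∈ V := by
    obtain ⟨_, ⟨V, hV, rfl⟩, hsV, -⟩ := S.isBasis_affineOpens.exists_subset_of_mem_open (Set.mem_univ s) isOpen_univ
    exact ⟨V, hV, hsV⟩
  obtain ⟨h, hTh, hhO⟩ := Groth.Agent.H13Grpd.exists_basicOpen_finite hU (E := (T : Set X)) T.finite_toSet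
    (O := U ⊓ f ⁻¹ᵁ V) (fun z hz => ⟨hTU z hz, by show f.base z ∈ V; rw [hTs z hz]; exact hsV⟩) inf_le_left
  obtain ⟨U', hU'⟩ : ∃ U' : X.Opens, U' = X.basicOpen h := ⟨_, rfl⟩
  haveI : IsAffine (U' : Scheme.{u}) := hU' ▸ hU.basicOpen h
  haveI : IsAffine (V : Scheme.{u}) := hV
  have hU'V : U' ≤ f ⁻¹ᵁ V := hU' ▸ hhO.trans inf_le_right
  let W : (SymProd.fibPow f d).Opens :=
    (WidePullback.base (fun _ : Fin d => f)) ⁻¹ᵁ V ⊓
      ⟨⋂ i, (WidePullback.π (fun _ : Fin d => f) i).base ⁻¹' (U' : Set X),
        isOpen_iInter_of_finite fun i => U'.2.preimage (WidePullback.π (fun _ : Fin d => f) i).continuous⟩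
  have hmem : ∀ σ : Equiv.Perm (Fin d), (SymProd.permHom f d σ).base x ∈ W := fun σ => by
    refine ⟨?_, Set.mem_iInter.2 fun i => ?_⟩
    · show (WidePullback.base (fun _ : Fin d => f)).base ((SymProd.permHom f d σ).base x) ∈ V
      rw [← Scheme.Hom.comp_apply, SymProd.permHom_base]
      exact hsV
    · show (WidePullback.π (fun _ : Fin d => f) i).base ((SymProd.permHom f d σ).base x) ∈ U'
      rw [← Scheme.Hom.comp_apply, SymProd.permHom_π, hU']
      exact hTh (Finset.mem_image.2 ⟨σ.symm i, Finset.mem_univ _, rfl⟩)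
  refine ⟨W, ?_, hmem⟩
  let φ : (U' : Scheme.{u}) ⟶ V := f.resLE V U' hU'V
  let D := WidePullbackShape.wideCospan (V : Scheme.{u}) (fun _ : Fin d => (U' : Scheme.{u})) (fun _ => φ)
  haveI : ∀ i, IsAffine (D.obj i) := by
    rintro (_ | i)
    · exact inferInstanceAs (IsAffine (V : Scheme.{u}))
    · exact inferInstanceAs (IsAffine (U' : Scheme.{u}))
  haveI : IsAffine (widePullback (V : Scheme.{u}) (fun _ : Fin d => (U' : Scheme.{u})) (fun _ => φ)) :=
    Scheme.isAffine_of_isLimit (limit.cone D) (limit.isLimit D)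
  have hWV : Set.range (W.ι ≫ WidePullback.base (fun _ : Fin d => f)).base ⊆ Set.range V.ι.base := by
    rintro _ ⟨w, rfl⟩
    rw [Scheme.Opens.range_ι]
    exact w.2.1
  have hWU : ∀ i, Set.range (W.ι ≫ WidePullback.π (fun _ : Fin d => f) i).base ⊆ Set.range U'.ι.base := fun i => by
    rintro _ ⟨w, rfl⟩
    rw [Scheme.Opens.range_ι]
    exact Set.mem_iInter.1 w.2.2 i
  let a : (W : Scheme.{u}) ⟶ widePullback (V : Scheme.{u}) (fun _ : Fin d => (U' : Scheme.{u})) (fun _ => φ) :=
    WidePullback.lift (IsOpenImmersion.lift V.ι _ hWV) (fun i => IsOpenImmersion.lift U'.ι _ (hWU i)) (fun i => by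
      rw [← cancel_mono V.ι, Category.assoc, Scheme.Hom.resLE_comp_ι, IsOpenImmersion.lift_fac_assoc,
        IsOpenImmersion.lift_fac, Category.assoc, WidePullback.π_arrow])
  let b' : widePullback (V : Scheme.{u}) (fun _ : Fin d => (U' : Scheme.{u})) (fun _ => φ) ⟶ SymProd.fibPow f d :=
    WidePullback.lift (WidePullback.base (fun _ : Fin d => φ) ≫ V.ι)
      (fun i => WidePullback.π (fun _ : Fin d => φ) i ≫ U'.ι) (fun i => by
        rw [Category.assoc, ← Scheme.Hom.resLE_comp_ι f hU'V, ← Category.assoc, WidePullback.π_arrow (fun _ : Fin d => φ)])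
  have hb : Set.range b'.base ⊆ Set.range W.ι.base := by
    rintro _ ⟨p, rfl⟩
    rw [Scheme.Opens.range_ι]
    refine ⟨?_, Set.mem_iInter.2 fun i => ?_⟩
    · show (WidePullback.base (fun _ : Fin d => f)).base (b'.base p) ∈ V
      rw [← Scheme.Hom.comp_apply, WidePullback.lift_base, Scheme.Hom.comp_apply]
      exact ((WidePullback.base (fun _ : Fin d => φ)).base p).2
    · show (WidePullback.π (fun _ : Fin d => f) i).base (b'.base p) ∈ U'
      rw [← Scheme.Hom.comp_apply, WidePullback.lift_π, Scheme.Hom.comp_apply]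
      exact ((WidePullback.π (fun _ : Fin d => φ) i).base p).2
  let b := IsOpenImmersion.lift W.ι b' hb
  have hba : b ≫ a = 𝟙 _ := by
    apply WidePullback.hom_ext
    · intro i
      rw [Category.assoc, WidePullback.lift_π, ← cancel_mono U'.ι, Category.assoc, IsOpenImmersion.lift_fac,
        IsOpenImmersion.lift_fac_assoc, WidePullback.lift_π, Category.id_comp]
    · rw [Category.assoc, WidePullback.lift_base, ← cancel_mono V.ι, Category.assoc, IsOpenImmersion.lift_fac,
        IsOpenImmersion.lift_fac_assoc, WidePullback.lift_base, Category.id_comp]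
  have hab : a ≫ b = 𝟙 _ := by
    rw [← cancel_mono W.ι, Category.assoc, IsOpenImmersion.lift_fac, Category.id_comp]
    apply WidePullback.hom_ext
    · intro i
      rw [Category.assoc, WidePullback.lift_π, WidePullback.lift_π_assoc, IsOpenImmersion.lift_fac]
    · rw [Category.assoc, WidePullback.lift_base, WidePullback.lift_base_assoc, IsOpenImmersion.lift_fac]
  haveI : IsIso a := ⟨b, hab, hba⟩
  exact IsAffine.of_isIso a

end Groth.Agent.S13602
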