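import Groth.Statements.S13603
import Mathlib.Algebra.Order.Ring.Star
import Mathlib.Algebra.TrivSqZeroExt.Basic
import Mathlib.Order.CompletePartialOrder
import Mathlib.RingTheory.Flat.TorsionFree
import Mathlib.RingTheory.Henselian
import Mathlib.RingTheory.MvPolynomial.IrreducibleQuadratic
import Mathlib.RingTheory.PicardGroup
import Mathlib.RingTheory.RegularLocalRing.Defs
import Mathlib.RingTheory.SimpleRing.Principal
import Mathlib.RingTheory.TotallySplit

set_option autoImplicit false
universe u v
open CAlg

namespace Groth.Agent.S13603

/-- Let a group G act on a commutative ring B by ring automorphisms so that every element of B has a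
finite orbit, and let S ⊆ B be a multiplicative set of G-fixed elements (so each g ∈ G induces an
endomorphism of the localization S⁻¹B; the hypothesis that g maps S into S is implied by the
previous one and is only carried to name that endomorphism). Then an element of S⁻¹B is fixed by all
of G if and only if it is a fraction b/s with b fixed by G and s ∈ S: the canonical map S⁻¹(B^G) →
(S⁻¹B)^G is onto. -/
theorem result {B : Type u} [CommRing B]
    {G : Type v} [Group G] [MulSemiringAction G B] (hfin : ∀ b : B, (MulAction.orbit G b).Finite)
    (S : Submonoid B) (hS : ∀ (g : G) (s : B), s ∈ S → g • s = s)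
    (hS' : ∀ g : G, S ≤ S.comap (MulSemiringAction.toRingHom G B g)) (x : Localization S) :
    (∀ g : G, IsLocalization.map (Localization S) (MulSemiringAction.toRingHom G B g) (hS' g) x = x) ↔
      ∃ (b : B) (s : S), (∀ g : G, g • b = b) ∧ x = IsLocalization.mk' (Localization S) b s := by
  classical
  constructor
  · intro h
    obtain ⟨b, s, rfl⟩ := IsLocalization.exists_mk'_eq S x
    have hg : ∀ g : G, ∃ t : S, (t : B) * (g • b) = t * b := by
      intro g
      have h1 := h g
      rw [IsLocalization.map_mk', IsLocalization.mk'_eq_iff_eq, IsLocalization.eq_iff_exists S] at h1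
      obtain ⟨c, hc⟩ := h1
      have hgs : g • (s : B) = s := hS g s s.2
      simp only [MulSemiringAction.toRingHom_apply, hgs] at hc
      exact ⟨c * s, by simpa [mul_assoc] using hc⟩
    choose t ht using hg
    have hF := (hfin b).toFinset
    have hsel : ∀ y ∈ (hfin b).toFinset, ∃ g : G, g • b = y := fun y hy => by simpa [MulAction.mem_orbit_iff] using hy
    choose! sel hsel' using hsel
    let T : S := ∏ y ∈ (hfin b).toFinset, t (sel y)
    have hT : ∀ g : G, (T : B) * (g • b) = T * b := by
      intro g
      have hy : g • b ∈ (hfin b).toFinset := by simp [MulAction.mem_orbit]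
      simp only [T, ← Finset.mul_prod_erase _ _ hy, Submonoid.coe_mul]
      rw [mul_comm (t (sel (g • b)) : B), mul_assoc, mul_assoc]
      congr 1
      have := ht (sel (g • b))
      rwa [hsel' _ hy] at this
    refine ⟨T * b, T * s, fun g => by rw [smul_mul', hS g T T.2, hT], ?_⟩
    rw [IsLocalization.mk'_eq_iff_eq, IsLocalization.eq_iff_exists S]
    exact ⟨1, by simp; ring⟩
  · rintro ⟨b, s, hb, rfl⟩ g
    rw [IsLocalization.map_mk']
    congr 1
    · exact hb g
    · exact Subtype.ext (hS g s s.2)

end Groth.Agent.S13603
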