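import Groth.Statements.S13607
import Groth.Agent.H3CAlg.ARS.Linear

set_option autoImplicit false
open CategoryTheory CategoryTheory.Limits Opposite
universe w v u
open ARSys

namespace Groth.Agent.S13607

/-- In an abelian category linear over a commutative ring A with an ideal J, let X be a J-adic
projective system indexed by the natural numbers and Y a projective system whose n-th term is killed
by J^(n+1) for every n. Then for every r, every morphism from the translate X[r] to Y factors
uniquely through the canonical translation map X[r] ⟶ X: there is exactly one morphism g : X ⟶ Y
whose n-th component, precomposed with the transition map X_(n+r) ⟶ X_n, is the n-th component of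
the given morphism. In particular morphisms X ⟶ Y up to translation are the same as morphisms X ⟶ Y.
(The published statement is for systems of finitely generated modules over a Noetherian ring, and
for systems of sheaves of modules on the small etale site; this row states it in any linear abelian
category, which is all the argument uses.) -/
theorem result {C : Type u} [Category.{v} C] [Abelian C] {A : Type w} [CommRing A] [Linear A C]
    (J : Ideal A) (X Y : ARSys.PS C) (hX : ARSys.IsAdic J X) (hY : ARSys.TermKilled J Y) (r : ℕ)
    (f : (ARSys.shift C r).obj X ⟶ Y) :
    ∃! g : X ⟶ Y, ∀ n : ℕ, f.app (op n) = ARSys.shiftMap X r n ≫ g.app (op n) := by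
  exact Groth.Agent.H3CAlg.ARS.existsUnique_desc hX hY (fun n => f.app (op n))
    (fun n m h => f.naturality (homOfLE h).op)

end Groth.Agent.S13607
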