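import Groth.Statements.S13608
import Mathlib.Algebra.Order.Ring.Star
import Mathlib.Algebra.TrivSqZeroExt.Basic
import Mathlib.Order.CompletePartialOrder
import Mathlib.RingTheory.Flat.TorsionFree
import Mathlib.RingTheory.Henselian
import Mathlib.RingTheory.MvPolynomial.IrreducibleQuadratic
import Mathlib.RingTheory.PicardGroup
import Mathlib.RingTheory.RegularLocalRing.Defs
import Mathlib.RingTheory.SimpleRing.Principal
import Mathlib.RingTheory.TotallySplit

set_option autoImplicit false
universe u v
open CAlg

namespace Groth.Agent.S13608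

/-- Let A be a commutative ring, I a finitely generated ideal of A and (M_n) an inverse system of
A-modules with transition maps f_n : M_(n+1) → M_n such that I^(n+1) M_n = 0 for every n. If L is an
inverse limit of the system (projections π_n compatible with the f_n, jointly injective, and such
that every compatible family of elements lifts to L), then L is complete and separated for the
I-adic topology. No surjectivity of the transition maps is assumed. -/
theorem result
    (A : Type u) [CommRing A] (I : Ideal A) (hI : I.FG)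
    (M : ℕ → Type v) [∀ n, AddCommGroup (M n)] [∀ n, Module A (M n)]
    (f : ∀ n, M (n + 1) →ₗ[A] M n)
    (hkill : ∀ n, I ^ (n + 1) • (⊤ : Submodule A (M n)) = ⊥)
    (L : Type v) [AddCommGroup L] [Module A L] (π : ∀ n, L →ₗ[A] M n)
    (hπ : ∀ n, f n ∘ₗ π (n + 1) = π n)
    (hinj : ∀ x : L, (∀ n, π n x = 0) → x = 0)
    (hlift : ∀ y : (∀ n, M n), (∀ n, f n (y (n + 1)) = y n) → ∃ x : L, ∀ n, π n x = y n) :
    IsAdicComplete I L := by
  classical
  have hcomp : ∀ x n, f n (π (n + 1) x) = π n x := fun x n => LinearMap.congr_fun (hπ n) x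
  have hker : ∀ n, ∀ x ∈ (I ^ (n + 1) • ⊤ : Submodule A L), π n x = 0 := by
    intro n x hx
    have h2 := Submodule.mem_map_of_mem (f := π n) hx
    rw [Submodule.map_smul''] at h2
    have h3 : π n x ∈ (I ^ (n + 1) • ⊤ : Submodule A (M n)) := Submodule.smul_mono le_rfl le_top h2
    simpa [hkill n] using h3
  have haus : IsHausdorff I L := ⟨fun x hx => hinj x fun n => hker n x (SModEq.zero.mp (hx (n + 1)))⟩
  have hprec : IsPrecomplete I L := ⟨fun u hu => by
    have hd : ∀ k j, k ≤ j → u j - u k ∈ (I ^ k • ⊤ : Submodule A L) := fun k j hkj =>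
      SModEq.sub_mem.mp (hu hkj).symm
    obtain ⟨x, hx⟩ := hlift (fun n => π n (u (n + 1))) fun n => by
      rw [hcomp, ← sub_eq_zero, ← map_sub]
      exact hker n _ (hd _ _ (by omega))
    refine ⟨x, fun k => SModEq.sub_mem.mpr ?_⟩
    obtain ⟨G, hG⟩ := Submodule.FG.pow hI k
    have hrep : ∀ j, ∀ d ∈ (I ^ (k + j) • ⊤ : Submodule A L), ∃ z : G → L,
        (∀ g, z g ∈ (I ^ j • ⊤ : Submodule A L)) ∧ d = ∑ g : G, (g : A) • z g := by
      intro j d hd
      rw [pow_add, Submodule.mul_smul, ← hG] at hd
      induction hd using Submodule.smul_induction_on' with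
      | smul a ha y hy =>
        obtain ⟨c, rfl⟩ := Submodule.mem_span_finset'.mp ha
        exact ⟨fun g => c g • y, fun g => Submodule.smul_mem _ _ hy, by
          rw [Finset.sum_smul]; exact Finset.sum_congr rfl fun g _ => by rw [smul_eq_mul, mul_comm, mul_smul]⟩
      | add a _ b _ ha hb =>
        obtain ⟨z, hz, rfl⟩ := ha; obtain ⟨w, hw, rfl⟩ := hb
        exact ⟨z + w, fun g => add_mem (hz g) (hw g), by simp [smul_add, Finset.sum_add_distrib]⟩
    choose z hz hzd using fun j => hrep j (u (k + (j + 1)) - u (k + j)) (hd _ _ (by omega))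
    choose S hS using fun g => hlift (fun n => π n (∑ j ∈ Finset.range (n + 1), z j g)) fun n => by
      rw [hcomp, Finset.sum_range_succ _ (n + 1), map_add, hker n _ (hz (n + 1) g), add_zero]
    have hkey : x - u k = ∑ g : G, (g : A) • S g := by
      refine sub_eq_zero.mp (hinj _ fun n => ?_)
      rw [map_sub, map_sub, hx, map_sum]
      simp only [map_smul, hS]
      simp only [← map_smul, ← map_sum, ← map_sub]
      rw [show (∑ g : G, (g : A) • ∑ j ∈ Finset.range (n + 1), z j g) = u (k + (n + 1)) - u k by
        simp only [Finset.smul_sum]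
        rw [Finset.sum_comm]
        simp only [← hzd]
        rw [Finset.sum_range_sub (fun j => u (k + j))]
        rfl]
      rw [sub_sub_sub_cancel_right, ← neg_sub, map_neg, hker n _ (hd _ _ (by omega)), neg_zero]
    rw [show u k - x = -(x - u k) by abel, hkey]
    exact neg_mem (Submodule.sum_mem _ fun g _ => Submodule.smul_mem_smul (hG ▸ Submodule.subset_span g.2) trivial)⟩
  exact { toIsHausdorff := haus, toIsPrecomplete := hprec }

end Groth.Agent.S13608
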