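import Groth.Statements.S13609
import Mathlib.RingTheory.Derivation.Basic
import Mathlib.RingTheory.Flat.Equalizer
import Mathlib.RingTheory.Henselian
import Mathlib.RingTheory.Regular.RegularSequence
import Mathlib.RingTheory.RegularLocalRing.Defs
import Mathlib.RingTheory.SimpleRing.Principal

set_option autoImplicit false
universe u v
open CAlg

namespace Groth.Agent.S13609

/-- A direct summand of a module that is complete and separated for the I-adic topology is again
complete and separated: for a commutative ring A, an ideal I and A-modules M₁, M₂, if M₁ × M₂ is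
I-adically complete then so is M₁. -/
theorem result (A : Type u) [CommRing A] (I : Ideal A)
    (M₁ M₂ : Type v) [AddCommGroup M₁] [Module A M₁] [AddCommGroup M₂] [Module A M₂]
    [IsAdicComplete I (M₁ × M₂)] : IsAdicComplete I M₁ := by
  have hl : ∀ n : ℕ, ∀ x ∈ (I ^ n • ⊤ : Submodule A M₁), LinearMap.inl A M₁ M₂ x ∈ (I ^ n • ⊤ : Submodule A (M₁ × M₂)) := by
    intro n x hx
    have := Submodule.mem_map_of_mem (f := LinearMap.inl A M₁ M₂) hx
    rw [Submodule.map_smul''] at this
    exact Submodule.smul_mono le_rfl le_top this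
  have hr : ∀ n : ℕ, ∀ x ∈ (I ^ n • ⊤ : Submodule A (M₁ × M₂)), LinearMap.fst A M₁ M₂ x ∈ (I ^ n • ⊤ : Submodule A M₁) := by
    intro n x hx
    have := Submodule.mem_map_of_mem (f := LinearMap.fst A M₁ M₂) hx
    rw [Submodule.map_smul''] at this
    exact Submodule.smul_mono le_rfl le_top this
  have hH : IsHausdorff I M₁ := ⟨fun x hx => by
    have := IsHausdorff.haus' (I := I) (LinearMap.inl A M₁ M₂ x) fun n => SModEq.zero.mpr (hl n x (SModEq.zero.mp (hx n)))
    simpa using congrArg Prod.fst this⟩
  have hP : IsPrecomplete I M₁ := ⟨fun f hf => by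
    obtain ⟨L, hL⟩ := IsPrecomplete.prec' (I := I) (M := M₁ × M₂) (fun n => (f n, 0)) fun {m n} hmn => by
      rw [SModEq.sub_mem]
      have := hl m _ (SModEq.sub_mem.mp (hf hmn))
      simpa using this
    refine ⟨L.1, fun n => SModEq.sub_mem.mpr ?_⟩
    simpa using hr n _ (SModEq.sub_mem.mp (hL n))⟩
  exact { }

end Groth.Agent.S13609
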