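import Groth.Statements.S13614
import Groth.Agent.H18Et.Cons.ARMap
import Groth.Agent.H18Et.Cons.ModBasic

set_option autoImplicit false
open CategoryTheory CategoryTheory.Limits AlgebraicGeometry Opposite
universe u
open EtModW Groth.Agent.H18Et
open scoped Groth.Agent.H18Et

namespace Groth.Agent.S13614

/-- Let f : X' → X be a morphism of Noetherian schemes, Λ a Noetherian ring, I an ideal of Λ and F =
(F_n) an inverse system of constructible sheaves of Λ-modules on the small etale site of X which is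
AR I-adic: I^(n+1) F_n = 0 for all n and F receives a morphism with kernel and cokernel null up to
translation from an I-adic system of constructible sheaves. Then the system of pullbacks (f^* F_n)_n
on X' is AR I-adic in the same sense. -/
theorem result
    (Λ : Type (u + 1)) [CommRing Λ] [IsNoetherianRing Λ] (I : Ideal Λ)
    {X X' : Scheme.{u}} [IsNoetherian X] [IsNoetherian X'] (f : X' ⟶ X)
    (F : ARSys.PS (EtModW.Mod Λ X)) (hc : ∀ n : ℕ, EtModW.IsConstructible Λ (F.obj (op n)))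
    (hF : (ARSys.TermKilled I F ∧ ∃ (Y : ARSys.PS (EtModW.Mod Λ X)) (v : Y ⟶ F), ARSys.IsAdic I Y ∧ (∀ n : ℕ, EtModW.IsConstructible Λ (Y.obj (op n))) ∧ ARSys.IsARIso v)) :
    (ARSys.TermKilled I (F ⋙ EtModW.pull Λ f) ∧ ∃ (Y : ARSys.PS (EtModW.Mod Λ X')) (v : Y ⟶ (F ⋙ EtModW.pull Λ f)), ARSys.IsAdic I Y ∧ (∀ n : ℕ, EtModW.IsConstructible Λ (Y.obj (op n))) ∧ ARSys.IsARIso v) := by
  obtain ⟨hk, Y, v, hY, hYc, hv⟩ := hF
  have hL : ∀ {A B : EtModW.Mod Λ X} (a : Λ) (φ : A ⟶ B),
      (EtModW.pull Λ f).map (a • φ) = a • (EtModW.pull Λ f).map φ :=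
    fun a φ => Cons.pull_map_smul Λ f a φ
  exact ⟨Adic.termKilled_map _ hL hk, Y ⋙ EtModW.pull Λ f, Functor.whiskerRight v _,
    Adic.isAdic_map _ hL (EtSix.pullPushModAdj Λ f) hY,
    fun n => Cons.isConstructible_pull_mod Λ f _ (hYc n), Cons.isARIso_pull Λ f hv⟩

end Groth.Agent.S13614
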