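import Groth.Statements.S13615
import Groth.Agent.H18Et.Cons.ModARLocal

set_option autoImplicit false
open CategoryTheory CategoryTheory.Limits AlgebraicGeometry Opposite
universe u
open EtModW Groth.Agent.H18Et
open scoped Groth.Agent.H18Et

namespace Groth.Agent.S13615

/-- Let X be a Noetherian scheme, i : A → X a closed immersion and j : U → X an open immersion whose
images are complementary, Λ a Noetherian ring, I an ideal of Λ and F = (F_n) an inverse system of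
constructible sheaves of Λ-modules on the small etale site of X with I^(n+1) F_n = 0 for all n. Then
F is AR I-adic (receives a morphism with kernel and cokernel null up to translation from an I-adic
system of constructible sheaves) if and only if both restricted systems (j^* F_n)_n on U and (i^*
F_n)_n on A are AR I-adic in the same sense. -/
theorem result
    (Λ : Type (u + 1)) [CommRing Λ] [IsNoetherianRing Λ] (I : Ideal Λ)
    {X A U : Scheme.{u}} [IsNoetherian X] (i : A ⟶ X) [IsClosedImmersion i] (j : U ⟶ X) [IsOpenImmersion j]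
    (hAU : Set.range (fun a => i.base a) = (Set.range (fun t => j.base t))ᶜ)
    (F : ARSys.PS (EtModW.Mod Λ X)) (hc : ∀ n : ℕ, EtModW.IsConstructible Λ (F.obj (op n)))
    (hk : ARSys.TermKilled I F) :
    (ARSys.TermKilled I F ∧ ∃ (Y : ARSys.PS (EtModW.Mod Λ X)) (v : Y ⟶ F), ARSys.IsAdic I Y ∧ (∀ n : ℕ, EtModW.IsConstructible Λ (Y.obj (op n))) ∧ ARSys.IsARIso v) ↔
      ((ARSys.TermKilled I (F ⋙ EtModW.pull Λ j) ∧ ∃ (Y : ARSys.PS (EtModW.Mod Λ U)) (v : Y ⟶ (F ⋙ EtModW.pull Λ j)), ARSys.IsAdic I Y ∧ (∀ n : ℕ, EtModW.IsConstructible Λ (Y.obj (op n))) ∧ ARSys.IsARIso v) ∧ (ARSys.TermKilled I (F ⋙ EtModW.pull Λ i) ∧ ∃ (Y : ARSys.PS (EtModW.Mod Λ A)) (v : Y ⟶ (F ⋙ EtModW.pull Λ i)), ARSys.IsAdic I Y ∧ (∀ n : ℕ, EtModW.IsConstructible Λ (Y.obj (op n))) ∧ ARSys.IsARIso v)) := by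
  refine ⟨fun h => ?_, fun h => ?_⟩
  · obtain ⟨-, Y, v, hY, hYc, hv⟩ := h
    exact ⟨⟨Adic.termKilled_map _ (fun a φ => Cons.pull_map_smul Λ j a φ) hk, Y ⋙ EtModW.pull Λ j,
        Functor.whiskerRight v _, Adic.isAdic_map _ (fun a φ => Cons.pull_map_smul Λ j a φ)
          (EtSix.pullPushModAdj Λ j) hY, fun n => Cons.isConstructible_pull_mod Λ j _ (hYc n),
        Cons.isARIso_pull Λ j hv⟩,
      ⟨Adic.termKilled_map _ (fun a φ => Cons.pull_map_smul Λ i a φ) hk, Y ⋙ EtModW.pull Λ i,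
        Functor.whiskerRight v _, Adic.isAdic_map _ (fun a φ => Cons.pull_map_smul Λ i a φ)
          (EtSix.pullPushModAdj Λ i) hY, fun n => Cons.isConstructible_pull_mod Λ i _ (hYc n),
        Cons.isARIso_pull Λ i hv⟩⟩
  · obtain ⟨⟨hkj, Yj, vj, hYj, -, hvj⟩, hki, Yi, vi, hYi, -, hvi⟩ := h
    obtain ⟨Rj, hRj⟩ := Cons.exists_shiftCond_stalks Λ I ⟨hkj, Yj, vj, hYj, hvj⟩
    obtain ⟨Ri, hRi⟩ := Cons.exists_shiftCond_stalks Λ I ⟨hki, Yi, vi, hYi, hvi⟩
    refine Cons.exists_rep_of_shiftCond Λ I hk hc (max Rj Ri) fun Ω _ _ ξ => ?_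
    by_cases hmem : ξ.base default ∈ Set.range (fun t => j.base t)
    · obtain ⟨t, ht⟩ := hmem
      obtain ⟨a, rfl, -⟩ := LC.exists_lift_geom j ξ t ht
      exact (Cons.shiftCond_pull_iff Λ I j F a).1 (hRj _ (le_max_left _ _) Ω a)
    · obtain ⟨t, ht⟩ : ξ.base default ∈ Set.range (fun a => i.base a) := hAU ▸ hmem
      obtain ⟨a, rfl, -⟩ := LC.exists_lift_geom i ξ t ht
      exact (Cons.shiftCond_pull_iff Λ I i F a).1 (hRi _ (le_max_right _ _) Ω a)

end Groth.Agent.S13615
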