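import Groth.Statements.S13617
import Groth.Agent.H18Et.Cons.ModARLocal

set_option autoImplicit false
open CategoryTheory CategoryTheory.Limits AlgebraicGeometry Opposite
universe u
open EtModW Groth.Agent.H18Et
open scoped Groth.Agent.H18Et

namespace Groth.Agent.S13617

/-- Let X be a connected Noetherian scheme, Λ a Noetherian ring, I an ideal of Λ and F = (F_n) an
inverse system of sheaves of Λ-modules on the small etale site of X with every F_n constructible and
locally constant of finite type and with I^(n+1) F_n = 0 for all n. Then F is AR I-adic (receives a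
morphism with kernel and cokernel null up to translation from an I-adic system of constructible
sheaves) if and only if there is at least one geometric point s of X whose stalk system (F_n,s)_n is
an AR I-adic system of Λ-modules (termwise killed by I^(n+1) and receiving a morphism with null
kernel and cokernel from an I-adic system of finitely generated Λ-modules). -/
theorem result
    (Λ : Type (u + 1)) [CommRing Λ] [IsNoetherianRing Λ] (I : Ideal Λ)
    {X : Scheme.{u}} [IsNoetherian X] [ConnectedSpace X]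
    (F : ARSys.PS (EtModW.Mod Λ X)) (hc : ∀ n : ℕ, EtModW.IsConstructible Λ (F.obj (op n)))
    (hl : ∀ n : ℕ, EtModW.IsFTLocConst Λ (F.obj (op n))) (hk : ARSys.TermKilled I F) :
    (ARSys.TermKilled I F ∧ ∃ (Y : ARSys.PS (EtModW.Mod Λ X)) (v : Y ⟶ F), ARSys.IsAdic I Y ∧ (∀ n : ℕ, EtModW.IsConstructible Λ (Y.obj (op n))) ∧ ARSys.IsARIso v) ↔
      ∃ (Ω : Type u) (_ : Field Ω) (_ : IsSepClosed Ω) (s : Spec (CommRingCat.of Ω) ⟶ X),
        (ARSys.TermKilled I (F ⋙ EtModW.stalk Λ s) ∧ ∃ (Y : ARSys.PS (ModuleCat.{u + 1} Λ)) (v : Y ⟶ F ⋙ EtModW.stalk Λ s), ARSys.IsAdic I Y ∧ (∀ n : ℕ, Module.Finite Λ (Y.obj (op n))) ∧ ARSys.IsARIso v) := by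
  refine ⟨fun h => ?_, ?_⟩
  · obtain ⟨-, Y, v, hY, hYc, hv⟩ := h
    obtain ⟨x⟩ := (inferInstance : Nonempty X)
    have hL : ∀ {A B : EtModW.Mod Λ X} (a : Λ) (f : A ⟶ B),
        (EtModW.stalk Λ (geomPt x)).map (a • f) = a • (EtModW.stalk Λ (geomPt x)).map f :=
      fun a f => Cons.stalk_map_smul Λ _ a f
    exact ⟨_, inferInstance, inferInstance, geomPt x, Adic.termKilled_map _ hL hk,
      Y ⋙ EtModW.stalk Λ _, Functor.whiskerRight v _,
      Adic.isAdic_map _ hL (Scheme.pointSmallEtale (geomPt x)).skyscraperSheafAdjunction hY,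
      fun n => Cons.finite_stalk_of_isConstructible_mod Λ (hYc n) _, Cons.isARIso_stalk Λ _ hv⟩
  · rintro ⟨Ω₀, _, _, s, hks, Y, v, hY, -, hv⟩
    obtain ⟨R, w, hw₁, hw₂, -⟩ := Groth.Agent.H3CAlg.ARS.exists_inverse_of_isARIso v hv
    refine Cons.exists_rep_of_shiftCond Λ I hk hc R fun Ω _ _ ξ => ?_
    obtain ⟨e⟩ := LC.nonempty_iso_stalkSystems Λ F (fun j => hl j.unop) s ξ
    exact (Adic.shiftCond_of_inverse hY v w hw₁ hw₂).of_iso e

end Groth.Agent.S13617
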