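import Groth.Statements.S1362
import Groth.Agent.H7Lim.Perturb.WeakNoether
-- import your own Groth.Agent.* helpers here

set_option autoImplicit false
universe u
open FlatMor

namespace Groth.Agent.S1362

/-- For a finite type ring map R → S whose fibre rings have dimensions with maximum exactly d: there is
an R-algebra map from the polynomial ring R[t_1, ..., t_d] to S which is quasi-finite (here: every
fibre ring is finite over the residue field; S is of finite type over the polynomial ring
automatically). -/
theorem result {R S : Type u} [CommRing R] [CommRing S] [Algebra R S] [Algebra.FiniteType R S] (d : ℕ)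
    (hd : ⨆ p : PrimeSpectrum R, ringKrullDim (p.asIdeal.Fiber S) = (d : WithBot ℕ∞)) :
    ∃ φ : MvPolynomial (Fin d) R →ₐ[R] S, φ.toRingHom.QuasiFinite := by
  obtain ⟨φ, hφ, hqf⟩ := H7Lim.Perturb.exists_quasiFinite d (R := R) (S := S) fun p =>
    (le_iSup (fun p : PrimeSpectrum R => ringKrullDim (p.asIdeal.Fiber S)) p).trans hd.le
  exact ⟨{ φ with commutes' := fun r => RingHom.congr_fun hφ r }, hqf⟩

end Groth.Agent.S1362
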