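import Groth.Statements.S13620
import Groth.Agent.H18Et.Cons.ARMap

set_option autoImplicit false
open CategoryTheory CategoryTheory.Limits AlgebraicGeometry Opposite
universe u
open EtModW Groth.Agent.H18Et
open scoped Groth.Agent.H18Et

namespace Groth.Agent.S13620

/-- For a Noetherian scheme X, a Noetherian coefficient ring Λ and an ideal I of Λ, let F = (F_n) be an
inverse system of sheaves of Λ-modules on the small etale site of X which is AR I-adic (I^(n+1) F_n
= 0 for all n, and F receives a morphism with kernel and cokernel null up to translation from an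
I-adic system of constructible sheaves). Then F is null up to translation if and only if for every
geometric point x of X the limit of the stalk system, lim_n F_n,x, is the zero module. (The
published lemma assumes Λ I-adically complete, which only its first assertion uses; this row states
the second assertion without it.) -/
theorem result
    (Λ : Type (u + 1)) [CommRing Λ] [IsNoetherianRing Λ] (I : Ideal Λ)
    {X : Scheme.{u}} [IsNoetherian X]
    (F : ARSys.PS (EtModW.Mod Λ X))
    (hF : (ARSys.TermKilled I F ∧ ∃ (Y : ARSys.PS (EtModW.Mod Λ X)) (v : Y ⟶ F), ARSys.IsAdic I Y ∧ (∀ n : ℕ, EtModW.IsConstructible Λ (Y.obj (op n))) ∧ ARSys.IsARIso v)) :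
    ARSys.IsARNull F ↔
      ∀ (Ω : Type u) [Field Ω] [IsSepClosed Ω] (x : Spec (CommRingCat.of Ω) ⟶ X),
        IsZero (limit (F ⋙ EtModW.stalk Λ x)) := by
  refine ⟨fun h Ω _ _ x => ?_, fun h => ?_⟩
  · obtain ⟨r, hr⟩ := h
    rw [IsZero.iff_id_eq_zero]
    refine limit.hom_ext fun ⟨n⟩ => ?_
    rw [Category.id_comp, zero_comp, ← limit.w (F ⋙ EtModW.stalk Λ x) (homOfLE (Nat.le_add_right n r)).op]
    have h0 : (EtModW.stalk Λ x).map (ARSys.shiftMap F r n) = 0 := by
      haveI : (EtModW.stalk Λ x).PreservesZeroMorphisms := LC.sheafFiber_preservesZero _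
      rw [hr n, Functor.map_zero]
    exact (congrArg (_ ≫ ·) h0).trans comp_zero
  · obtain ⟨-, Y, v, hY, -, hv⟩ := hF
    have hz : IsZero Y := by
      refine Functor.isZero _ fun ⟨n⟩ => Cons.isZero_of_stalk Λ fun Ω _ _ x => ?_
      have hl : IsZero (limit (Y ⋙ EtModW.stalk Λ x)) := by
        haveI := Groth.Agent.H3CAlg.ARS.isIso_limMap (Cons.isARIso_stalk Λ x hv)
        exact (h Ω x).of_iso (asIso (limMap (Functor.whiskerRight v (EtModW.stalk Λ x))))
      exact Cons.isZero_stalk_of_isZero_limit Λ I Y hY x hl n
    haveI : IsIso (cokernel.π v) := by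
      rw [show v = 0 from hz.eq_of_src _ _]; infer_instance
    exact Adic.isARNull_of_iso (asIso (cokernel.π v)).symm hv.2

end Groth.Agent.S13620
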