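import Groth.Statements.S13621
import Groth.Agent.H3CAlg.ARS.ARIso

set_option autoImplicit false
open CategoryTheory CategoryTheory.Limits Opposite
universe v u
open ARSys

namespace Groth.Agent.S13621

/-- The inverse limit is a well-defined functor on projective systems up to translation. Concretely: in
an abelian category with limits of shape ℕᵒᵖ, a morphism u : X ⟶ Y of projective systems indexed by
the natural numbers whose kernel and cokernel are null up to translation induces an isomorphism lim
X ⟶ lim Y. (The published statement is the functoriality of lim on the category of systems up to
translation; combined with the description of isomorphisms there as the morphisms with null kernel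
and cokernel, this is the form stated.) -/
theorem result {C : Type u} [Category.{v} C] [Abelian C] [HasLimitsOfShape ℕᵒᵖ C]
    {X Y : ARSys.PS C} (u : X ⟶ Y) (hu : ARSys.IsARIso u) : IsIso (limMap u) := by
  exact Groth.Agent.H3CAlg.ARS.isIso_limMap hu

end Groth.Agent.S13621
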