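import Groth.Statements.S13622
import Mathlib.RingTheory.AdicCompletion.Completeness

set_option autoImplicit false
universe u v
open CAlg

namespace Groth.Agent.S13622

/-- Let A be a commutative ring, I a finitely generated ideal and (M_n) an inverse system of finitely
generated A-modules whose transition maps f_n : M_(n+1) → M_n are surjective with kernel I^(n+1)
M_(n+1), and with I^(n+1) M_n = 0 for all n. If L is an inverse limit of the system (projections π_n
compatible with the f_n, jointly injective, every compatible family lifting to L), endowed with a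
module structure over the I-adic completion A^ of A that is compatible with its A-module structure,
then L is finitely generated as an A^-module. No completeness of A is assumed. -/
theorem result
    (A : Type u) [CommRing A] (I : Ideal A) (hI : I.FG)
    (M : ℕ → Type v) [∀ n, AddCommGroup (M n)] [∀ n, Module A (M n)] [∀ n, Module.Finite A (M n)]
    (f : ∀ n, M (n + 1) →ₗ[A] M n) (hf : ∀ n, Function.Surjective (f n))
    (hker : ∀ n, LinearMap.ker (f n) = I ^ (n + 1) • (⊤ : Submodule A (M (n + 1))))
    (hkill : ∀ n, I ^ (n + 1) • (⊤ : Submodule A (M n)) = ⊥)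
    (L : Type v) [AddCommGroup L] [Module A L] (π : ∀ n, L →ₗ[A] M n)
    (hπ : ∀ n, f n ∘ₗ π (n + 1) = π n)
    (hinj : ∀ x : L, (∀ n, π n x = 0) → x = 0)
    (hlift : ∀ y : (∀ n, M n), (∀ n, f n (y (n + 1)) = y n) → ∃ x : L, ∀ n, π n x = y n)
    [Module (AdicCompletion I A) L] [IsScalarTower A (AdicCompletion I A) L] :
    Module.Finite (AdicCompletion I A) L := by
  classical
  let Ahat := AdicCompletion I A
  -- generators
  obtain ⟨k, g, hg⟩ := Module.Finite.exists_fin (R := A) (M := M 0)
  have hlift0 : ∀ y : M 0, ∃ x : L, π 0 x = y := by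
    intro y
    choose s hs using hf
    let Y : ∀ n, M n := fun n => Nat.rec (motive := M) y (fun n z => s n z) n
    obtain ⟨x, hx⟩ := hlift Y (fun n => hs n _)
    exact ⟨x, hx 0⟩
  choose x hx using fun i => hlift0 (g i)
  have hπa : ∀ n (z : L), f n (π (n + 1) z) = π n z := fun n z => LinearMap.congr_fun (hπ n) z
  have hspan : ∀ n, Submodule.span A (Set.range fun i => π n (x i)) = ⊤ := by
    intro n
    induction n with
    | zero => simp only [hx]; exact hg
    | succ n ih =>
      let N := Submodule.span A (Set.range fun i => π (n + 1) (x i))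
      have hN : N ⊔ I ^ (n + 1) • (⊤ : Submodule A (M (n + 1))) = ⊤ := by
        rw [eq_top_iff]
        intro m _
        have hmap : N.map (f n) = ⊤ := by
          rw [Submodule.map_span, ← Set.range_comp, ← ih]
          exact congrArg _ (congrArg Set.range (funext fun i => hπa n (x i)))
        obtain ⟨m', hm', hfm⟩ := (hmap.symm ▸ Submodule.mem_top : f n m ∈ N.map (f n))
        refine Submodule.mem_sup.mpr ⟨m', hm', m - m', ?_, add_sub_cancel _ _⟩
        rw [← hker, LinearMap.mem_ker, map_sub, hfm, sub_self]
      refine eq_top_iff.mpr (le_trans hN.ge (sup_le le_rfl ?_))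
      refine le_trans (le_of_eq (congrArg (I ^ (n + 1) • ·) hN.symm)) ?_
      rw [Submodule.smul_sup]
      refine sup_le Submodule.smul_le_right ?_
      rw [← Submodule.smul_assoc, smul_eq_mul, ← pow_add]
      refine le_trans (Submodule.smul_mono_left (Ideal.pow_le_pow_right (by omega : n + 1 + 1 ≤ n + 1 + (n + 1)))) ?_
      rw [hkill (n + 1)]
      exact bot_le
  refine ⟨⟨Finset.univ.image x, eq_top_iff.mpr fun l _ => ?_⟩⟩
  -- successive approximation of `l`
  have hstep : ∀ n (a : Fin k → A), π n (l - ∑ i, a i • x i) = 0 →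
      ∃ b : Fin k → A, π (n + 1) (l - ∑ i, b i • x i) = 0 ∧ ∀ i, b i - a i ∈ I ^ (n + 1) := by
    intro n a ha
    have hr : π (n + 1) (l - ∑ i, a i • x i) ∈
        I ^ (n + 1) • Submodule.span A (Set.range fun i => π (n + 1) (x i)) := by
      rw [hspan, ← hker, LinearMap.mem_ker, hπa, ha]
    obtain ⟨c, hc, hcs⟩ := (Submodule.mem_ideal_smul_span_iff_exists_sum _ _ _).mp hr
    refine ⟨fun i => a i + c i, ?_, fun i => by simpa using hc i⟩
    simp only [add_smul, Finset.sum_add_distrib]
    rw [← sub_sub, map_sub, ← hcs, map_sum, Finsupp.sum_fintype]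
    · simp
    · simp
  obtain ⟨a₀, ha₀⟩ : ∃ a : Fin k → A, π 0 (l - ∑ i, a i • x i) = 0 := by
    obtain ⟨c, hc⟩ := (Submodule.mem_span_range_iff_exists_fun A).mp
      ((hspan 0).symm ▸ Submodule.mem_top : π 0 l ∈ _)
    exact ⟨c, by rw [map_sub, map_sum, ← hc]; simp⟩
  choose! b hb hba using hstep
  let a : ℕ → Fin k → A := fun n => Nat.rec a₀ (fun n z => b n z) n
  have ha : ∀ n, π n (l - ∑ i, a n i • x i) = 0 := by
    intro n
    induction n with
    | zero => exact ha₀
    | succ n ih => exact hb n _ ih
  let c : Fin k → Ahat := fun i => AdicCompletion.mk I A (AdicCompletion.AdicCauchySequence.mk I A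
    (fun n => a n i) fun n => by
      rw [SModEq.sub_mem, ← neg_mem_iff, neg_sub, smul_eq_mul, Ideal.mul_top]
      exact Ideal.pow_le_pow_right n.le_succ (hba n _ (ha n) i))
  have hc : ∀ n i, π n (c i • x i) = π n (a (n + 1) i • x i) := by
    intro n i
    rw [← sub_eq_zero, ← map_sub, ← algebraMap_smul Ahat (a (n + 1) i), ← sub_smul]
    have hmem : c i - algebraMap A Ahat (a (n + 1) i) ∈ I ^ (n + 1) • (⊤ : Submodule A Ahat) := by
      rw [AdicCompletion.pow_smul_top_eq_ker_eval hI, LinearMap.mem_ker, map_sub, sub_eq_zero]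
      rfl
    refine Submodule.smul_induction_on hmem (fun r hr z _ => ?_)
      (fun y z hy hz => by rw [add_smul, map_add, hy, hz, add_zero])
    rw [smul_assoc, map_smul]
    exact (Submodule.eq_bot_iff _).mp (hkill n) _ (Submodule.smul_mem_smul hr Submodule.mem_top)
  have hl : l = ∑ i, c i • x i := by
    rw [← sub_eq_zero]
    refine hinj _ fun n => ?_
    rw [map_sub, map_sum, Finset.sum_congr rfl fun i _ => hc n i, ← map_sum, ← map_sub,
      ← hπa, ha (n + 1), map_zero]
  rw [hl]
  exact Submodule.sum_mem _ fun i _ => Submodule.smul_mem _ _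
    (Submodule.subset_span (Finset.mem_coe.mpr (Finset.mem_image_of_mem x (Finset.mem_univ i))))

end Groth.Agent.S13622
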