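import Groth.Statements.S13623
import Mathlib

set_option autoImplicit false
universe u
open TensorProduct
open CAlg

namespace Groth.Agent.S13623

/-- Let A be a commutative ring and B a commutative A-algebra, graded by A-submodules B_m (m ≥ 0)
forming a graded-algebra structure, such that every B_m is a finitely generated A-module. If for
every algebraically closed field k and every A-algebra structure on k the k-algebra k ⊗_A B is
generated by the image of B_1 under b ↦ 1 ⊗ b, then its degree-one part B_1 generates the A-algebra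
B. (Algebraically closed fields are taken in the universe of A.) -/
theorem result
    (A : Type u) [CommRing A] (B : Type u) [CommRing B] [Algebra A B]
    (𝒜 : ℕ → Submodule A B) [GradedAlgebra 𝒜]
    (hfin : ∀ m : ℕ, Module.Finite A (𝒜 m))
    (hgen : ∀ (k : Type u) [Field k] [IsAlgClosed k] [Algebra A k],
      Algebra.adjoin k ((Algebra.TensorProduct.includeRight : B →ₐ[A] k ⊗[A] B) '' (𝒜 1 : Set B)) = ⊤) :
    Algebra.adjoin A (𝒜 1 : Set B) = ⊤ := by
  classical
  let S := Algebra.adjoin A (𝒜 1 : Set B)
  let π : ∀ m, B →ₗ[A] 𝒜 m := fun m =>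
    (DirectSum.component A ℕ (fun i => 𝒜 i) m).comp (DirectSum.decomposeLinearEquiv 𝒜).toLinearMap
  have hhom : ∀ x ∈ Submonoid.closure (𝒜 1 : Set B), ∃ i, x ∈ 𝒜 i := by
    intro x hx
    induction hx using Submonoid.closure_induction with
    | mem y hy => exact ⟨1, hy⟩
    | one => exact ⟨0, SetLike.one_mem_graded 𝒜⟩
    | mul a b _ _ iha ihb =>
      obtain ⟨i, hi⟩ := iha
      obtain ⟨j, hj⟩ := ihb
      exact ⟨i + j, SetLike.mul_mem_graded hi hj⟩
  have hπ : ∀ m, ∀ s ∈ S, (π m s : B) ∈ S := by
    intro m s hs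
    have hs' : s ∈ Submodule.span A (Submonoid.closure (𝒜 1 : Set B) : Set B) := by
      rw [← Algebra.adjoin_eq_span]; exact hs
    induction hs' using Submodule.span_induction with
    | mem x hx =>
      obtain ⟨i, hi⟩ : ∃ i, x ∈ 𝒜 i := hhom x hx
      change ((DirectSum.decompose 𝒜 x m : 𝒜 m) : B) ∈ S
      by_cases h : i = m
      · subst h
        rw [DirectSum.decompose_of_mem_same 𝒜 hi]; exact hs
      · rw [DirectSum.decompose_of_mem_ne 𝒜 hi h]; exact S.zero_mem
    | zero => simp
    | add x y hx hy ihx ihy =>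
      have hx' : x ∈ S := by rw [← Subalgebra.mem_toSubmodule, Algebra.adjoin_eq_span]; exact hx
      have hy' : y ∈ S := by rw [← Subalgebra.mem_toSubmodule, Algebra.adjoin_eq_span]; exact hy
      rw [map_add, Submodule.coe_add]; exact S.add_mem (ihx hx') (ihy hy')
    | smul a x hx ih =>
      have hx' : x ∈ S := by rw [← Subalgebra.mem_toSubmodule, Algebra.adjoin_eq_span]; exact hx
      rw [map_smul, Submodule.coe_smul]; exact S.smul_mem (ih hx') a
  have htens : ∀ (K k : Type u) [Field K] [Field k] [Algebra K k] (V : Type u) [AddCommGroup V]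
      [Module K V] [Nontrivial V], Nontrivial (k ⊗[K] V) := fun K k _ _ _ V _ _ _ => inferInstance
  have key : ∀ m, ∀ x ∈ 𝒜 m, x ∈ S := by
    intro m
    let N : Submodule A (𝒜 m) := (Subalgebra.toSubmodule S).comap (𝒜 m).subtype
    let φ : B →ₗ[A] (𝒜 m) ⧸ N := N.mkQ.comp (π m)
    have hφS : ∀ s ∈ S, φ s = 0 := fun s hs => by
      simp only [φ, LinearMap.comp_apply, Submodule.mkQ_apply, Submodule.Quotient.mk_eq_zero]
      exact hπ m s hs
    have hφ : Function.Surjective φ := by
      intro y
      obtain ⟨⟨z, hz⟩, rfl⟩ := N.mkQ_surjective y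
      refine ⟨z, congrArg N.mkQ (Subtype.ext ?_)⟩
      exact DirectSum.decompose_of_mem_same 𝒜 hz
    have hsub : Subsingleton ((𝒜 m) ⧸ N) := by
      rw [← Module.support_eq_empty_iff (R := A), Set.eq_empty_iff_forall_notMem]
      intro p
      rw [Module.mem_support_iff_nontrivial_residueField_tensorProduct, not_nontrivial_iff_subsingleton]
      let K := p.asIdeal.ResidueField
      let k := AlgebraicClosure K
      have h0 : ∀ z : k ⊗[A] B, φ.baseChange k z = 0 := by
        intro z
        obtain ⟨y, rfl⟩ : z ∈ (Algebra.TensorProduct.map (AlgHom.id k k) S.val).range := by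
          refine Algebra.adjoin_le ?_ (hgen k ▸ Algebra.mem_top)
          rintro _ ⟨x, hx, rfl⟩
          exact ⟨1 ⊗ₜ ⟨x, Algebra.subset_adjoin hx⟩, by simp⟩
        induction y using TensorProduct.induction_on with
        | zero => simp
        | tmul a b =>
          simp [hφS b.1 b.2]
        | add a b ha hb => rw [map_add, map_add, ha, hb, add_zero]
      have hs1 : Subsingleton (k ⊗[A] ((𝒜 m) ⧸ N)) := by
        refine subsingleton_of_forall_eq 0 fun z => ?_
        obtain ⟨y, rfl⟩ := LinearMap.lTensor_surjective k hφ z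
        rw [← LinearMap.baseChange_eq_ltensor]
        exact h0 y
      by_contra hc
      rw [not_subsingleton_iff_nontrivial] at hc
      have hk : Nontrivial (k ⊗[K] (K ⊗[A] ((𝒜 m) ⧸ N))) :=
        htens K k (K ⊗[A] ((𝒜 m) ⧸ N))
      exact not_nontrivial_iff_subsingleton.mpr hs1
        (TensorProduct.AlgebraTensorModule.cancelBaseChange A K k k ((𝒜 m) ⧸ N)).symm.toEquiv.nontrivial
    intro x hx
    have h := Subsingleton.elim (N.mkQ ⟨x, hx⟩) 0
    rwa [Submodule.mkQ_apply, Submodule.Quotient.mk_eq_zero] at h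
  rw [eq_top_iff]
  intro x _
  rw [← DirectSum.sum_support_decompose 𝒜 x]
  exact Subalgebra.sum_mem _ fun m _ => key m _ (DirectSum.decompose 𝒜 x m).2

end Groth.Agent.S13623
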