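import Groth.Statements.S13625
import Groth.Agent.H7Lim.SurfaceModel
-- import your own Groth.Agent.* helpers here

set_option autoImplicit false
universe u
open CategoryTheory CategoryTheory.Limits AlgebraicGeometry Opposite
open Lim

namespace Groth.Agent.S13625

/-- Let R be a commutative ring and f : X → Spec R a proper, flat morphism of schemes, locally of finite
presentation, whose geometric fibres (fibres over Spec k → Spec R, k an algebraically closed field)
are integral, normal schemes of Krull dimension 2 with Gorenstein local rings. Then f is the base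
change, along Spec R → Spec R₀ for some ring map R₀ → R with R₀ Noetherian, of a proper, flat
morphism f₀ : X₀ → Spec R₀ locally of finite presentation whose geometric fibres are again integral,
normal, of Krull dimension 2 and with Gorenstein local rings. (Algebraically closed fields are taken
in the universe of R.) -/
theorem result
    (R : Type u) [CommRing R] (X : Scheme.{u}) (f : X ⟶ Spec (CommRingCat.of R))
    [IsProper f] [Flat f] [LocallyOfFinitePresentation f]
    (hfib : (∀ (k : Type u) [Field k] [IsAlgClosed k] (σ : Spec (CommRingCat.of k) ⟶ Spec (CommRingCat.of R)),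
      IsIntegral (pullback f σ) ∧ Pi1.IsNormalScheme (pullback f σ) ∧
        topologicalKrullDim ↥(pullback f σ) = 2 ∧
        ∀ x : ↥(pullback f σ), LocCoh.IsGorensteinLocalRing ((pullback f σ).presheaf.stalk x))) :
    ∃ (R₀ : CommRingCat.{u}) (φ : R₀ ⟶ CommRingCat.of R) (X₀ : Scheme.{u}) (f₀ : X₀ ⟶ Spec R₀) (g : X ⟶ X₀),
      IsNoetherianRing ↥R₀ ∧ IsPullback g f f₀ (Spec.map φ) ∧
      IsProper f₀ ∧ Flat f₀ ∧ LocallyOfFinitePresentation f₀ ∧
      (∀ (k : Type u) [Field k] [IsAlgClosed k] (σ : Spec (CommRingCat.of k) ⟶ Spec R₀),
      IsIntegral (pullback f₀ σ) ∧ Pi1.IsNormalScheme (pullback f₀ σ) ∧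
        topologicalKrullDim ↥(pullback f₀ σ) = 2 ∧
        ∀ x : ↥(pullback f₀ σ), LocCoh.IsGorensteinLocalRing ((pullback f₀ σ).presheaf.stalk x)) := by
  exact H7Lim.SurfaceModel.exists_model R X f hfib

end Groth.Agent.S13625
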