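import Groth.Statements.S13626
import Groth.Agent.H10Coh.PushEdge
import Groth.Agent.H23Para.Restrict
-- import your own Groth.Agent.* helpers here

set_option autoImplicit false
set_option linter.style.haveILetI false
universe u
open CategoryTheory CategoryTheory.Limits AlgebraicGeometry
open Coh

namespace Groth.Agent.S13626

attribute [local instance 10000] Groth.Agent.H10Coh.hasSheafifyAb Groth.Agent.H10Coh.hasWeakSheafifyAb Groth.Agent.H10Coh.hasExtAb Groth.Agent.H10Coh.enoughInjAb


/-- Let f : X → Y be a morphism of schemes with R^i f_* O_X = 0 for every i ≥ 1 and f_* O_X ≅ O_Y. Then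
for every invertible O_Y-module L and every p ≥ 0 the groups H^p(X, f^* L) and H^p(Y, L) are
isomorphic (existence of a group isomorphism; the higher direct images are the right derived
functors of f_* on O_X-modules, under the instance argument recording that O_X-modules have
injective resolutions). -/
theorem result
    {X Y : Scheme.{u}} (f : X ⟶ Y) [HasInjectiveResolutions X.Modules]
    (hR : ∀ i : ℕ, IsZero ((Coh.Rpush f (i + 1)).obj (Coh.structureModule X)))
    (h0 : Nonempty ((Coh.push f).obj (Coh.structureModule X) ≅ Coh.structureModule Y))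
    (L : Y.Modules) (hL : PicF.IsInvertible L) (p : ℕ) :
    Nonempty (Coh.HH X ((Scheme.Modules.pullback f).obj L) p ≃+ Coh.HH Y L p) := by
  obtain ⟨e0⟩ := h0
  have hLf := Groth.Agent.H23Para.isFinLocFree_of_isInvertible hL
  let P := (Scheme.Modules.pullback f).obj L
  have hP : Groth.Agent.H16Derived.AcyclicLES.IsAcyclic (Scheme.Modules.pushforward f) P := fun i hi => by
    obtain ⟨m, rfl⟩ := Nat.exists_eq_succ_of_ne_zero hi.ne'
    obtain ⟨e⟩ := Groth.Agent.H10Coh.PF.nonempty_projectionFormula' f (Coh.structureModule X) hLf (m + 1)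
    exact (((Groth.Agent.H10Coh.PF.TR L).map_isZero (hR m)).of_iso (Groth.Agent.H10Coh.Tw.commIso _ _)).of_iso
      (e ≪≫ (Coh.Rpush f (m + 1)).mapIso (Groth.Agent.H10Coh.Tw.rightUnitIso P)).symm
  obtain ⟨e⟩ := Groth.Agent.H10Coh.PF.nonempty_projectionFormula' f (Coh.structureModule X) hLf 0
  haveI : (Scheme.Modules.pushforward f).IsRightAdjoint :=
    (Scheme.Modules.pullbackPushforwardAdjunction f).isRightAdjoint
  haveI : PreservesFiniteLimits (Scheme.Modules.pushforward f) := inferInstance
  let z := (Scheme.Modules.pushforward f).rightDerivedZeroIsoSelf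
  let eP : (Scheme.Modules.pushforward f).obj P ≅ L :=
    (Scheme.Modules.pushforward f).mapIso (Groth.Agent.H10Coh.Tw.rightUnitIso P).symm ≪≫ (z.app _).symm ≪≫ e.symm ≪≫
      Groth.Agent.H10Coh.Tw.commIso _ _ ≪≫ (Groth.Agent.H10Coh.PF.TR L).mapIso (z.app (Coh.structureModule X) ≪≫ e0) ≪≫
      Groth.Agent.H10Coh.Tw.leftUnitIso L
  exact ⟨((AddEquiv.ofBijective _ (Groth.Agent.H10Coh.bijective_pushEdge f P hP p)).symm).trans
    (((Abelian.extFunctor p).obj (Opposite.op _)).mapIso
      ((Groth.Agent.H10Coh.shF Y).mapIso eP)).addCommGroupIsoToAddEquiv⟩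

end Groth.Agent.S13626
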