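import Groth.Statements.S13627
import Groth.Agent.H06RadPt.Points

set_option autoImplicit false
universe u
open CategoryTheory CategoryTheory.Limits AlgebraicGeometry Opposite
open FBase

namespace Groth.Agent.S13627

/-- Let P be a property of schemes over fields, invariant under isomorphisms of schemes over the base
field and ascending along every field extension k → K (if Z over k has P then Z ×_k Spec K over K
has P). For a morphism of schemes f : X → T, these conditions are equivalent: (1) for every
algebraically closed field k and every morphism Spec k → T the fibre X ×_T Spec k has P over k; (2)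
for every point t of T the fibre of f over Spec of an algebraic closure of the residue field κ(t)
has P. (Fields are taken in the universe of the schemes. The published statement also treats a
morphism from an algebraic space X to a scheme T; this row treats morphisms of schemes.) -/
theorem result
    (P : ∀ (k : Type u) [Field k] (Z : Scheme.{u}), (Z ⟶ Spec (CommRingCat.of k)) → Prop)
    (hiso : ∀ (k : Type u) [Field k] (Z Z' : Scheme.{u}) (e : Z ≅ Z') (g : Z' ⟶ Spec (CommRingCat.of k)),
      P k Z' g → P k Z (e.hom ≫ g))
    (hext : ∀ (k K : Type u) [Field k] [Field K] (i : k →+* K) (Z : Scheme.{u}) (g : Z ⟶ Spec (CommRingCat.of k)),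
      P k Z g → P K (pullback g (Spec.map (CommRingCat.ofHom i))) (pullback.snd g (Spec.map (CommRingCat.ofHom i))))
    {X T : Scheme.{u}} (f : X ⟶ T) :
    (∀ (k : Type u) [Field k] [IsAlgClosed k] (σ : Spec (CommRingCat.of k) ⟶ T),
        P k (pullback f σ) (pullback.snd f σ)) ↔
      ∀ t : T, P (AlgebraicClosure ↥(T.residueField t))
        (pullback f (Spec.map (CommRingCat.ofHom (algebraMap ↥(T.residueField t) (AlgebraicClosure ↥(T.residueField t)))) ≫
          T.fromSpecResidueField t))
        (pullback.snd f (Spec.map (CommRingCat.ofHom (algebraMap ↥(T.residueField t) (AlgebraicClosure ↥(T.residueField t)))) ≫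
          T.fromSpecResidueField t)) := by
  constructor
  · intro H t
    exact H (AlgebraicClosure ↥(T.residueField t)) _
  · intro H k _ _ σ
    obtain ⟨⟨t, φ⟩, rfl⟩ := (T.SpecToEquivOfField k).symm.surjective σ
    letI := φ.hom.toAlgebra
    let i : AlgebraicClosure ↥(T.residueField t) →ₐ[↥(T.residueField t)] k := IsAlgClosed.lift
    have h := hext (AlgebraicClosure ↥(T.residueField t)) k i.toRingHom _ _ (H t)
    rw [H06RadPt.ext_iff_comp P hiso f] at h
    refine (H06RadPt.congr_pt P hiso f ?_).1 h
    show Spec.map _ ≫ Spec.map _ ≫ _ = Spec.map φ ≫ _
    rw [← Spec.map_comp_assoc, ← CommRingCat.ofHom_comp]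
    congr 2
    ext a
    exact i.commutes a

end Groth.Agent.S13627
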