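import Groth.Statements.S13629
import Groth.Agent.H17.InvertibleTensor
import Groth.Agent.H28Bc.EulerConst
import Groth.Agent.S11747
import Groth.Agent.H28Int.Positive
import Groth.Agent.H8Props.FinLocFree.Sheaf
import Groth.Agent.H22Alg.KAmple
import Groth.Agent.H8Props.FunDescent.GenericFree
import Groth.Agent.H11Ample.Tensor

set_option autoImplicit false
universe u
open CategoryTheory CategoryTheory.Limits AlgebraicGeometry Opposite
open FGA

namespace Groth.Agent.S13629

/-- Let f : X → Y be a proper, flat morphism of schemes, locally of finite presentation, whose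
scheme-theoretic fibres X_y all have Krull dimension at most 2, and let L be an invertible
O_X-module with a tensor inverse M (M ⊗ L ≅ O_X). Then the self-intersection number (L_y · L_y) of
the restriction of L to the fibre X_y over κ(y), namely the alternating sum χ(O_{X_y}) − 2χ(M_y) +
χ(M_y ⊗ M_y) of Euler characteristics in degrees ≤ 2, is a locally constant function of y: every
point y₀ of Y has an open neighbourhood on which it equals its value at y₀. (The published statement
is the case where the fibres are integral normal Gorenstein surfaces and L is the relative dualizing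
sheaf, so that the number is the self-intersection K² of the canonical class of the fibre; the fibre
X_y is regarded as a scheme over Spec κ(y) through the second projection.) -/
theorem result
    {X Y : Scheme.{u}} (f : X ⟶ Y) [IsProper f] [Flat f] [LocallyOfFinitePresentation f]
    (hdim : ∀ y : Y, topologicalKrullDim ↥(f.fiber y) ≤ 2)
    (L M : X.Modules) (hL : PicF.IsInvertible L) (hM : ClSub.IsInverseOf M L) (y₀ : Y) :
    ∃ U : Y.Opens, y₀ ∈ U ∧ ∀ y : Y, y ∈ U →
      @FGA.intNum ↥(Y.residueField y) _ (f.fiber y) ⟨f.fiberToSpecResidueField y⟩ 2 2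
            ![(Scheme.Modules.pullback (f.fiberι y)).obj M, (Scheme.Modules.pullback (f.fiberι y)).obj M]
            (Coh.structureModule (f.fiber y)) =
        @FGA.intNum ↥(Y.residueField y₀) _ (f.fiber y₀) ⟨f.fiberToSpecResidueField y₀⟩ 2 2
            ![(Scheme.Modules.pullback (f.fiberι y₀)).obj M, (Scheme.Modules.pullback (f.fiberι y₀)).obj M]
            (Coh.structureModule (f.fiber y₀)) := by
  classical
  have hMinv : PicF.IsInvertible M := by
    obtain ⟨e⟩ := hM
    exact H17.InvertibleTensor.isInvertible_of_tensor_iso M L e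
  let l : Finset (Fin 2) → List X.Modules := fun I => (I.sort (· ≤ ·)).map ![M, M]
  have hl : ∀ I, ∀ A ∈ l I, PicF.IsInvertible A := fun I A hA => by
    simp only [l, List.mem_map] at hA
    obtain ⟨i, -, rfl⟩ := hA
    fin_cases i <;> exact hMinv
  let G : Finset (Fin 2) → X.Modules := fun I =>
    CohB1.tensorMod (FGA.tensorList (l I)) (Coh.structureModule X)
  have hG : ∀ I, PicF.IsInvertible (G I) := fun I =>
    H11Ample.isInvertible_tensor (H28Int.isInvertible_tensorList _ (hl I)) (H28Int.isInvertible_structureModule X)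
  haveI : ∀ I, (G I).IsQuasicoherent := fun I => H28Mero.isQCoh_of_isInvertible (hG I)
  have hfp : ∀ I, CohB1.IsFP (G I) := fun I =>
    H8Props.FinLocFree.isFP_of_isFinLocFree _ (H22Alg.KModel.finLocFree_invertible (hG I))
  have hfl : ∀ I, FlatMod.IsFlatOver f (G I) := fun I x => by
    obtain ⟨U, hxU, ⟨e⟩⟩ := hG I x
    obtain ⟨b⟩ := H8Props.FunDescent.stalkFree_of_isFreeOfRankNear (G I) (H28Mero.isQCoh_of_isInvertible (hG I))
      (p := 1) (x := x) ⟨U, hxU, ⟨e ≪≫ (coproductUniqueIso fun _ : Fin 1 => Coh.structureModule (↑U)).symm⟩⟩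
    letI := FlatMod.moduleStalkOver f (G I) x
    letI := (f.stalkMap x).hom.toAlgebra
    haveI : IsScalarTower (Y.presheaf.stalk (f.base x)) (X.presheaf.stalk x) ((G I).presheaf.stalk x) :=
      .of_algebraMap_smul fun _ _ => rfl
    haveI := Module.Free.of_basis b
    haveI : Module.Flat (Y.presheaf.stalk (f.base x)) (X.presheaf.stalk x) := Flat.stalkMap f x
    exact Module.Flat.trans (Y.presheaf.stalk (f.base x)) (X.presheaf.stalk x) ((G I).presheaf.stalk x)
  have hc : ∀ I, ∀ᶠ y in nhds y₀, PerfAux.eulerChar f (G I) y = PerfAux.eulerChar f (G I) y₀ := fun I =>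
    (IsLocallyConstant.iff_eventually_eq _).1 (H28Bc.isLocallyConstant_eulerChar f (G I) (hfp I) (hfl I)) y₀
  obtain ⟨U, hUsub, hUo, hy₀⟩ := mem_nhds_iff.1 (Filter.eventually_all.2 hc)
  refine ⟨⟨U, hUo⟩, hy₀, fun y hy => ?_⟩
  have key : ∀ y : Y, @FGA.intNum ↥(Y.residueField y) _ (f.fiber y) ⟨f.fiberToSpecResidueField y⟩ 2 2
      ![(Scheme.Modules.pullback (f.fiberι y)).obj M, (Scheme.Modules.pullback (f.fiberι y)).obj M]
      (Coh.structureModule (f.fiber y)) =
      ∑ I : Finset (Fin 2), (-1 : ℤ) ^ I.card * PerfAux.eulerChar f (G I) y := by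
    intro y
    letI : (f.fiber y).Over (Spec (CommRingCat.of (Y.residueField y))) := ⟨f.fiberToSpecResidueField y⟩
    haveI : IsProper (f.fiber y ↘ Spec (CommRingCat.of (Y.residueField y))) :=
      inferInstanceAs (IsProper (pullback.snd f (Y.fromSpecResidueField y)))
    refine Finset.sum_congr rfl fun I _ => congrArg ((-1 : ℤ) ^ I.card * ·) ?_
    let q := f.fiberι y
    let e : (Scheme.Modules.pullback q).obj (G I) ≅ CohB1.tensorMod (FGA.tensorList ((I.sort (· ≤ ·)).map
        ![(Scheme.Modules.pullback q).obj M, (Scheme.Modules.pullback q).obj M])) (Coh.structureModule (f.fiber y)) :=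
      S11747.pullTensor q _ _ ≪≫ PicGrp.tensorModIso
        (S11747.pullList q _ ≪≫ eqToIso (by
          simp only [l, List.map_map]
          refine congrArg FGA.tensorList (List.map_congr_left fun i _ => ?_)
          fin_cases i <;> rfl))
        (H16Derived.KFlat.Stalk.structurePullbackIso q)
    have hq : ((Scheme.Modules.pullback q).obj (G I)).IsQuasicoherent :=
      H28Mero.isQCoh_of_isInvertible (H11Ample.isInvertible_pullback _ (hG I))
    refine Eq.trans ?_ (H28Int.eulerCharLE_eq (Y.residueField y) (X := f.fiber y) (d := 2)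
      (by exact_mod_cast hdim y) hq)
    exact Finset.sum_congr rfl fun p _ => congrArg (fun n : ℕ => (-1 : ℤ) ^ p * (n : ℤ))
      (((LeadBC.HMod (Y.residueField y) p).mapIso e).toLinearEquiv.finrank_eq).symm
  rw [key y, key y₀]
  exact Finset.sum_congr rfl fun I _ => by rw [hUsub hy I]

end Groth.Agent.S13629
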