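import Groth.Statements.S13631
import Groth.Agent.H3CAlg.TorFlat
import Mathlib.Algebra.Algebra.ZMod
import Mathlib.Algebra.Order.Star.Basic
import Mathlib.LinearAlgebra.Matrix.ToLinearEquiv
import Mathlib.RingTheory.Henselian
import Mathlib.RingTheory.MvPolynomial.IrreducibleQuadratic
import Mathlib.RingTheory.RegularLocalRing.Defs
import Mathlib.RingTheory.SimpleRing.Principal

set_option autoImplicit false
universe u v w
open CAlg

namespace Groth.Agent.S13631

/-- Let k be a field, R an integral domain which is a k-algebra of infinite dimension over k, M a finite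
free R-module, σ a ring automorphism of R mapping the image of k onto itself, and φ : M → M a
σ-semilinear map. If the cokernel of φ is finite-dimensional over k, in the sense that some finitely
generated k-subspace N of M satisfies M = N + φ(M), then φ is injective. -/
theorem result
    {k : Type u} {R : Type v} {M : Type w} [Field k] [CommRing R] [IsDomain R] [Algebra k R]
    (hR : ¬ Module.Finite k R)
    [AddCommGroup M] [Module R M] [Module k M] [IsScalarTower k R M]
    [Module.Finite R M] [Module.Free R M]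
    (σ : R ≃+* R)
    (hσ : ∀ x : k, ∃ y : k, σ (algebraMap k R x) = algebraMap k R y)
    (hσ' : ∀ y : k, ∃ x : k, σ (algebraMap k R x) = algebraMap k R y)
    (φ : M →ₛₗ[(σ : R →+* R)] M)
    (hcoker : ∃ N : Submodule k M, N.FG ∧ ∀ m : M, ∃ n ∈ N, ∃ m' : M, m = n + φ m') :
    Function.Injective φ := by
  classical
  obtain ⟨N, hN, hcov⟩ := hcoker
  rw [injective_iff_map_eq_zero]
  intro x hx
  by_contra hx0
  let b := Module.Free.chooseBasis R M
  let c : Module.Free.ChooseBasisIndex R M → R := fun i ↦ σ (b.repr x i)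
  have hc0 : c ≠ 0 := by
    intro h
    exact hx0 (b.repr.map_eq_zero_iff.mp (Finsupp.ext fun i ↦
      σ.map_eq_zero_iff.mp (congrFun h i)))
  let T : Matrix (Module.Free.ChooseBasisIndex R M) (Module.Free.ChooseBasisIndex R M) R :=
    Matrix.of fun j i ↦ b.repr (φ (b i)) j
  have hφ : ∀ m, ∀ j, b.repr (φ m) j = ∑ i, T j i * σ (b.repr m i) := by
    intro m j
    conv_lhs => rw [← b.sum_repr m]
    rw [map_sum, map_sum, Finsupp.finsetSum_apply]
    refine Finset.sum_congr rfl fun i _ ↦ ?_
    rw [LinearMap.map_smulₛₗ, map_smul, Finsupp.smul_apply, smul_eq_mul, mul_comm]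
    rfl
  have hdet : T.det = 0 := Matrix.exists_mulVec_eq_zero_iff.mp ⟨c, hc0, funext fun j ↦ by
    show ∑ i, T j i * σ (b.repr x i) = 0
    rw [← hφ, hx, map_zero, Finsupp.zero_apply]⟩
  obtain ⟨v, hv0, hv⟩ := Matrix.exists_vecMul_eq_zero_iff.mpr hdet
  let ℓ : M →ₗ[R] R := ∑ j, v j • b.coord j
  have hℓ : ∀ m, ℓ (φ m) = 0 := by
    intro m
    simp only [ℓ, LinearMap.sum_apply, LinearMap.smul_apply, Module.Basis.coord_apply, hφ, smul_eq_mul,
      Finset.mul_sum]
    rw [Finset.sum_comm]
    refine Finset.sum_eq_zero fun i _ ↦ ?_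
    simp only [← mul_assoc]
    rw [← Finset.sum_mul, show ∑ j, v j * T j i = 0 from congrFun hv i, zero_mul]
  obtain ⟨j₀, hj₀⟩ := Function.ne_iff.mp hv0
  have hne : ℓ (b j₀) ≠ 0 := by
    simp only [ℓ, LinearMap.sum_apply, LinearMap.smul_apply, Module.Basis.coord_apply, b.repr_self,
      Finsupp.single_apply, smul_eq_mul, mul_ite, mul_one, mul_zero, Finset.sum_ite_eq,
      Finset.mem_univ, if_true]
    exact hj₀
  let W : Submodule k R := N.map (ℓ.restrictScalars k)
  have : Module.Finite k W := Module.Finite.iff_fg.mpr (hN.map _)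
  let g : R →ₗ[k] W := LinearMap.codRestrict W (LinearMap.mulRight k (ℓ (b j₀))) fun r ↦ by
    obtain ⟨n, hn, m', hm'⟩ := hcov (r • b j₀)
    refine ⟨n, hn, ?_⟩
    show ℓ n = r * ℓ (b j₀)
    rw [← smul_eq_mul, ← map_smul, hm', map_add, hℓ, add_zero]
  refine hR (Module.Finite.of_injective g fun r r' h ↦ mul_right_cancel₀ hne ?_)
  exact congrArg Subtype.val h

end Groth.Agent.S13631
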