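import Groth.Statements.S13632
import Mathlib.Algebra.Module.StablyFree.Basic
import Mathlib.Order.CompletePartialOrder
import Mathlib.RingTheory.Finiteness.ModuleFinitePresentation
import Mathlib.RingTheory.Flat.Equalizer
import Mathlib.RingTheory.Henselian
import Mathlib.RingTheory.QuasiFinite.Basic
import Mathlib.RingTheory.RegularLocalRing.Defs
import Mathlib.RingTheory.SimpleRing.Principal
import Mathlib.RingTheory.TotallySplit

set_option autoImplicit false
universe u
open TensorProduct
open CAlg

namespace Groth.Agent.S13632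

/-- Let S = Spec R, X = Spec A finite and flat over S, Y = Spec B of finite type over S, and φ : X → Y
an S-morphism given by f : B → A. If for every point s of S the fibres X_s and Y_s have the same
order (the κ(s)-dimension of their rings of global sections κ(s) ⊗ A and κ(s) ⊗ B; equivalently at
every geometric point) and φ is an isomorphism over every closed point of S (κ(m) ⊗ f bijective for
every maximal ideal m), then φ is an isomorphism, i.e. f is bijective. (The published statement
allows an arbitrary base scheme S and Y separated of finite type over S; this row is the case of an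
affine base with X and Y affine, the case its proof treats directly. Over a base with no closed
points the general statement fails: the hypothesis at closed points is then empty.) -/
theorem result
    {R A B : Type u} [CommRing R] [CommRing A] [CommRing B] [Algebra R A] [Algebra R B]
    [Module.Finite R A] [Module.Flat R A] [Algebra.FiniteType R B]
    (f : B →ₐ[R] A)
    (hrank : ∀ p : PrimeSpectrum R,
      Module.rank p.asIdeal.ResidueField (p.asIdeal.ResidueField ⊗[R] B) =
        Module.rank p.asIdeal.ResidueField (p.asIdeal.ResidueField ⊗[R] A))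
    (hmax : ∀ (m : Ideal R) [m.IsMaximal],
      Function.Bijective (LinearMap.lTensor m.ResidueField f.toLinearMap)) :
    Function.Bijective f := by
  classical
  -- surjectivity, by Nakayama
  have hsurj : Function.Surjective f := by
    have hann : Module.annihilator R (A ⧸ LinearMap.range f.toLinearMap) = ⊤ := by
      by_contra hne
      obtain ⟨m, hm, hle⟩ := Ideal.exists_le_maximal _ hne
      haveI := hm
      let N := LinearMap.range f.toLinearMap
      have h0 : ∀ y : m.ResidueField ⊗[R] (A ⧸ N), y = 0 := by
        intro y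
        obtain ⟨z, rfl⟩ := LinearMap.lTensor_surjective m.ResidueField N.mkQ_surjective y
        obtain ⟨w, rfl⟩ := (hmax m).2 z
        rw [← LinearMap.comp_apply, ← LinearMap.lTensor_comp,
          show N.mkQ ∘ₗ f.toLinearMap = 0 from LinearMap.ext fun b =>
            (Submodule.Quotient.mk_eq_zero _).mpr ⟨b, rfl⟩]
        simp
      haveI : Subsingleton (m.ResidueField ⊗[R] (A ⧸ N)) := ⟨fun a b => by rw [h0 a, h0 b]⟩
      have h2 : (⊤ : Submodule R (A ⧸ N)) ≤ m • ⊤ := by
        intro x _
        have e : (R ⧸ m) ≃ₗ[R] m.ResidueField :=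
          LinearEquiv.ofBijective (IsScalarTower.toAlgHom R (R ⧸ m) m.ResidueField).toLinearMap
            m.bijective_algebraMap_quotient_residueField
        haveI : Subsingleton ((R ⧸ m) ⊗[R] (A ⧸ N)) :=
          (LinearEquiv.rTensor (A ⧸ N) e).toEquiv.subsingleton
        rw [← Submodule.Quotient.mk_eq_zero]
        exact (TensorProduct.quotTensorEquivQuotSMul (A ⧸ N) m).symm.injective (Subsingleton.elim _ _)
      obtain ⟨r, hr, hr0⟩ :=
        Submodule.exists_sub_one_mem_and_smul_eq_zero_of_fg_of_le_smul m ⊤ Module.Finite.fg_top h2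
      have hrm : r ∈ m := hle (Module.mem_annihilator.mpr fun x => hr0 x trivial)
      exact hm.ne_top ((Ideal.eq_top_iff_one _).mpr (by simpa using sub_mem hrm hr))
    intro a
    have := Module.mem_annihilator.mp (hann.symm ▸ Submodule.mem_top : (1 : R) ∈ _)
      (Submodule.Quotient.mk (p := LinearMap.range f.toLinearMap) a)
    rw [one_smul, Submodule.Quotient.mk_eq_zero] at this
    exact this
  refine ⟨?_, hsurj⟩
  rw [injective_iff_map_eq_zero]
  intro k hk
  -- the kernel vanishes on every fibre
  have hfib : ∀ (p : Ideal R) [p.IsPrime] (k : B), f k = 0 →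
      ∃ s ∉ p, s • k ∈ p • LinearMap.ker f.toLinearMap := by
    intro p _ k hk
    let K := LinearMap.ker f.toLinearMap
    have hinj : Function.Injective (K.subtype.lTensor p.ResidueField) :=
      LinearMap.lTensor_injective_of_exact_of_flat f.toLinearMap hsurj _ Subtype.val_injective
        (LinearMap.exact_subtype_ker_map f.toLinearMap) _
    let g : p.ResidueField ⊗[R] B →ₗ[p.ResidueField] p.ResidueField ⊗[R] A :=
      f.toLinearMap.baseChange p.ResidueField
    have hg : Function.Surjective g := LinearMap.lTensor_surjective p.ResidueField (g := f.toLinearMap) hsurj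
    haveI : Module.Finite p.ResidueField (p.ResidueField ⊗[R] B) :=
      Module.rank_lt_aleph0_iff.mp (hrank ⟨p, ‹_›⟩ ▸ Module.rank_lt_aleph0 _ _)
    have hgi : Function.Injective g :=
      (LinearMap.injective_iff_surjective_of_finrank_eq_finrank
        (congrArg Cardinal.toNat (hrank ⟨p, ‹_›⟩))).mpr hg
    have h1 : (1 : p.ResidueField) ⊗ₜ[R] (⟨k, hk⟩ : K) = 0 := by
      refine hinj (hgi ?_)
      rw [map_zero, map_zero, LinearMap.lTensor_tmul]
      show g ((1 : p.ResidueField) ⊗ₜ[R] k) = 0
      rw [LinearMap.baseChange_tmul, AlgHom.toLinearMap_apply, hk, TensorProduct.tmul_zero]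
    have h2 : (1 : p.ResidueField) ⊗ₜ[R ⧸ p] ((1 : R ⧸ p) ⊗ₜ[R] (⟨k, hk⟩ : K)) = 0 := by
      apply (TensorProduct.AlgebraTensorModule.cancelBaseChange R (R ⧸ p) p.ResidueField
        p.ResidueField K).injective
      rw [TensorProduct.AlgebraTensorModule.cancelBaseChange_tmul, one_smul, map_zero, h1]
    obtain ⟨t, ht⟩ := (IsLocalizedModule.eq_zero_iff (nonZeroDivisors (R ⧸ p))
      (TensorProduct.mk (R ⧸ p) p.ResidueField ((R ⧸ p) ⊗[R] K) 1)).mp h2
    obtain ⟨s, hs⟩ := Ideal.Quotient.mk_surjective (t : R ⧸ p)
    refine ⟨s, fun hsp => nonZeroDivisors.coe_ne_zero t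
      (hs ▸ Ideal.Quotient.eq_zero_iff_mem.mpr hsp), ?_⟩
    have h3 : (1 : R ⧸ p) ⊗ₜ[R] (s • (⟨k, hk⟩ : K)) = 0 := by
      rw [TensorProduct.tmul_smul, ← ht, Submonoid.smul_def, ← hs, ← Ideal.Quotient.algebraMap_eq,
        algebraMap_smul]
    have h4 := congrArg (TensorProduct.quotTensorEquivQuotSMul K p) h3
    rw [map_zero] at h4
    erw [TensorProduct.quotTensorEquivQuotSMul_mk_tmul p 1, one_smul,
      Submodule.Quotient.mk_eq_zero] at h4
    have h5 := Submodule.mem_map_of_mem (f := K.subtype) h4
    rwa [Submodule.map_smul'', Submodule.map_top, Submodule.range_subtype] at h5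
  -- it suffices to kill `k` near every maximal ideal
  suffices h : (⊥ : Submodule R B).colon {k} = ⊤ by
    have h1 := Submodule.mem_colon_singleton.mp ((Ideal.eq_top_iff_one _).mp h)
    rwa [one_smul, Submodule.mem_bot] at h1
  by_contra hne
  obtain ⟨m, hm, hle⟩ := Ideal.exists_le_maximal _ hne
  haveI := hm
  let L := Localization.AtPrime m
  haveI : Module.Free L (L ⊗[R] A) := Module.free_of_flat_of_isLocalRing
  let f' : L ⊗[R] B →ₐ[L] L ⊗[R] A := Algebra.TensorProduct.map (AlgHom.id L L) f
  have hf' : ∀ x, f' x = f.toLinearMap.lTensor L x := fun x => by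
    induction x using TensorProduct.induction_on with
    | zero => simp
    | tmul a b => simp [f']
    | add x y hx hy => simp [hx, hy]
  have hf's : Function.Surjective f' := fun y => by
    obtain ⟨x, hx⟩ := LinearMap.lTensor_surjective L (g := f.toLinearMap) hsurj y
    exact ⟨x, (hf' x).trans hx⟩
  obtain ⟨gens, hgens⟩ : (RingHom.ker f'.toRingHom).FG := by
    haveI : Module.FinitePresentation L (L ⊗[R] A) := Module.finitePresentation_of_projective L _
    haveI : Algebra.FinitePresentation L (L ⊗[R] A) := inferInstance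
    have h := RingHom.FinitePresentation.of_comp_finiteType (algebraMap L (L ⊗[R] B)) (g := f'.toRingHom)
      (by rw [AlgHom.toRingHom_eq_coe, AlgHom.comp_algebraMap]
          exact RingHom.finitePresentation_algebraMap.mpr inferInstance)
      (RingHom.finiteType_algebraMap.mpr inferInstance)
    letI := f'.toRingHom.toAlgebra
    haveI : Algebra.FinitePresentation (L ⊗[R] B) (L ⊗[R] A) := h
    exact Algebra.FinitePresentation.ker_fG_of_surjective (Algebra.ofId (L ⊗[R] B) (L ⊗[R] A)) hf's
  let ι : B →ₗ[R] L ⊗[R] B := TensorProduct.mk R L B 1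
  have hι : ∀ x ∈ RingHom.ker f'.toRingHom, ∃ (t : m.primeCompl) (b : B), f b = 0 ∧ t • x = ι b := by
    intro x hx
    obtain ⟨z, hz⟩ := ((lTensor_exact L (LinearMap.exact_subtype_ker_map f.toLinearMap)
      (g := f.toLinearMap) hsurj) x).mp ((hf' x).symm.trans hx)
    obtain ⟨⟨b, t⟩, hb⟩ := IsLocalizedModule.surj m.primeCompl
      (TensorProduct.mk R L (LinearMap.ker f.toLinearMap) 1) z
    refine ⟨t, b.1, b.2, ?_⟩
    rw [← hz]
    exact (LinearMap.map_smul_of_tower _ t z).symm.trans (by rw [hb]; rfl)
  choose τ β hβ hτ using hι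
  let K₀ : Ideal B := Ideal.span (Set.range fun x : gens =>
    β x.1 (hgens ▸ Submodule.subset_span x.2))
  have hK₀ : ∀ x ∈ RingHom.ker f'.toRingHom, ∃ (u : m.primeCompl), ∃ b ∈ K₀, u • x = ι b := by
    intro x hx
    rw [← hgens] at hx
    induction hx using Submodule.span_induction with
    | mem x hx => exact ⟨_, _, Ideal.subset_span ⟨⟨x, hx⟩, rfl⟩, hτ x (hgens ▸ Submodule.subset_span hx)⟩
    | zero => exact ⟨1, 0, zero_mem _, by simp⟩
    | add x y _ _ hx hy =>
      obtain ⟨u, b, hb, hu⟩ := hx
      obtain ⟨v, c, hc, hv⟩ := hy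
      refine ⟨u * v, (v : R) • b + (u : R) • c, add_mem (Submodule.smul_of_tower_mem _ _ hb)
        (Submodule.smul_of_tower_mem _ _ hc), ?_⟩
      rw [map_add, map_smul, map_smul, ← hu, ← hv]
      simp only [Submonoid.smul_def, Submonoid.coe_mul, smul_smul, smul_add, mul_comm (v : R)]
    | smul a x _ hx =>
      obtain ⟨u, b, hb, hu⟩ := hx
      obtain ⟨⟨a', v⟩, hv⟩ := IsLocalizedModule.surj m.primeCompl ι a
      refine ⟨v * u, a' * b, Ideal.mul_mem_left _ _ hb, ?_⟩
      calc (v * u) • (a • x) = (v • a) * (u • x) := by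
            simp only [Submonoid.smul_def, Submonoid.coe_mul, smul_eq_mul, smul_mul_smul_comm]
        _ = ι (a' * b) := by
            rw [hv, hu]
            simp [ι, Algebra.TensorProduct.tmul_mul_tmul]
  have hloc : ∀ b : B, f b = 0 → ∃ t : R, t ∉ m ∧ t • b ∈ K₀ := by
    intro b hb
    obtain ⟨u, c, hc, hu⟩ := hK₀ (ι b) (by
      show f' _ = 0
      simp [ι, f', hb])
    rw [← LinearMap.map_smul_of_tower] at hu
    obtain ⟨v, hv⟩ := IsLocalizedModule.exists_of_eq (S := m.primeCompl) hu
    refine ⟨(v : R) * u, (v * u).2, ?_⟩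
    simp only [Submonoid.smul_def] at hv
    rw [mul_smul, hv]
    exact Submodule.smul_of_tower_mem K₀ _ hc
  -- `ann k` meets the image of the complement of `m`
  let J : Ideal B := (⊥ : Ideal B).colon {k}
  by_cases hdis : Disjoint (J : Set B) (Algebra.algebraMapSubmonoid B m.primeCompl : Set B)
  swap
  · obtain ⟨x, hxJ, t, ht, rfl⟩ := Set.not_disjoint_iff.mp hdis
    refine ht (hle (Submodule.mem_colon_singleton.mpr ?_))
    rw [Submodule.mem_bot, Algebra.smul_def]
    exact (Submodule.mem_bot B).mp (Submodule.mem_colon_singleton.mp hxJ)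
  obtain ⟨Q, hQ, hJQ, hQm⟩ := Ideal.exists_le_prime_disjoint _ _ hdis
  haveI := hQ
  let p := Q.comap (algebraMap R B)
  have hpm : ∀ t : R, t ∉ m → t ∉ p := fun t ht htp =>
    Set.disjoint_left.mp hQm htp ⟨t, ht, rfl⟩
  let M := LocalizedModule Q.primeCompl K₀
  haveI : Module.Finite B K₀ := Module.Finite.iff_fg.mpr (Submodule.fg_span (Set.finite_range _))
  -- Nakayama at `Q`
  have hQK : K₀ ≤ Submodule.comap (LocalizedModule.mkLinearMap Q.primeCompl B)
      (⊥ : Submodule B (LocalizedModule Q.primeCompl B)) := by
    let N : Submodule B (LocalizedModule Q.primeCompl B) :=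
      Submodule.map (LocalizedModule.mkLinearMap Q.primeCompl B) K₀
    let N' : Submodule (Localization.AtPrime Q) (LocalizedModule Q.primeCompl B) :=
      Submodule.span _ (N : Set _)
    have hN : N'.FG := by
      obtain ⟨T, hT⟩ := (Submodule.fg_span (Set.finite_range _) : K₀.FG).map
        (LocalizedModule.mkLinearMap Q.primeCompl B)
      refine ⟨T, le_antisymm (Submodule.span_mono fun x hx => hT.le (Submodule.subset_span hx))
        (Submodule.span_le.mpr fun x hx => ?_)⟩
      have hx' : x ∈ Submodule.span B (T : Set (LocalizedModule Q.primeCompl B)) := hT.symm ▸ hx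
      exact Submodule.span_le_restrictScalars B (Localization.AtPrime Q) _ hx'
    have hN' : N' ≤ IsLocalRing.maximalIdeal (Localization.AtPrime Q) • N' := by
      refine Submodule.span_le.mpr ?_
      rintro _ ⟨c, hc, rfl⟩
      have hck : f c = 0 := by
        refine (Ideal.span_le (I := RingHom.ker f.toRingHom)).mpr ?_ hc
        rintro _ ⟨x, rfl⟩
        exact hβ _ _
      obtain ⟨s, hs, hsc⟩ := hfib p c hck
      suffices h : ∀ y ∈ p • LinearMap.ker f.toLinearMap, ∃ t : R, t ∉ p ∧
          LocalizedModule.mkLinearMap Q.primeCompl B (t • y) ∈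
            IsLocalRing.maximalIdeal (Localization.AtPrime Q) • N' by
        obtain ⟨t, ht, hty⟩ := h _ hsc
        rw [smul_smul, ← algebraMap_smul B (t * s) c, map_smul,
          ← algebraMap_smul (Localization.AtPrime Q) (algebraMap R B (t * s))] at hty
        exact (Submodule.smul_mem_iff_of_isUnit _ (IsLocalization.map_units (Localization.AtPrime Q)
          (⟨algebraMap R B (t * s), (mul_mem ht hs : t * s ∈ p.primeCompl)⟩ : Q.primeCompl))).mp hty
      intro y hy
      induction hy using Submodule.smul_induction_on' with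
      | smul π hπ z hz =>
        obtain ⟨t, ht, htz⟩ := hloc z hz
        refine ⟨t, hpm t ht, ?_⟩
        rw [smul_comm, ← algebraMap_smul B π, map_smul,
          ← algebraMap_smul (Localization.AtPrime Q) (algebraMap R B π)]
        refine Submodule.smul_mem_smul ?_ (Submodule.subset_span ⟨_, htz, rfl⟩)
        rw [← Localization.AtPrime.map_eq_maximalIdeal]
        exact Ideal.mem_map_of_mem _ hπ
      | add y _ z _ hy hz =>
        obtain ⟨t, ht, hty⟩ := hy
        obtain ⟨u, hu, huz⟩ := hz
        refine ⟨u * t, (mul_mem hu ht : u * t ∈ p.primeCompl), ?_⟩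
        rw [smul_add, map_add]
        refine add_mem ?_ ?_
        · rw [mul_smul, LinearMap.map_smul_of_tower]
          exact Submodule.smul_of_tower_mem _ _ hty
        · rw [mul_comm, mul_smul, LinearMap.map_smul_of_tower]
          exact Submodule.smul_of_tower_mem _ _ huz
    have := Submodule.eq_bot_of_le_smul_of_le_jacobson_bot _ N' hN hN'
      (IsLocalRing.maximalIdeal_le_jacobson _)
    intro c hc
    rw [Submodule.mem_comap, Submodule.mem_bot]
    exact (Submodule.eq_bot_iff _).mp this _ (Submodule.subset_span ⟨c, hc, rfl⟩)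
  obtain ⟨t, ht, htk⟩ := hloc k hk
  obtain ⟨w, hw⟩ := (IsLocalizedModule.eq_zero_iff Q.primeCompl _).mp ((Submodule.mem_bot B).mp (hQK htk))
  refine (mul_mem w.2 (hpm t ht : algebraMap R B t ∈ Q.primeCompl) : _ ∈ Q.primeCompl) (hJQ ?_)
  refine Submodule.mem_colon_singleton.mpr ((Submodule.mem_bot B).mpr ?_)
  rw [mul_smul, algebraMap_smul]
  exact hw

end Groth.Agent.S13632
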