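import Groth.Statements.S13633
import Groth.Agent.H02CA.HomIso.Main

set_option autoImplicit false
universe u
open CategoryTheory CategoryTheory.Limits MonoidalCategory CartesianMonoidalCategory MonObj AlgebraicGeometry
open GrpSch

namespace Groth.Agent.S13633

/-- Let k be a field, K an algebraic closure of k, and ψ : G → H a homomorphism of commutative affine
group schemes of finite type over k. Assume that for every finite commutative group scheme I over k
the map Hom(I, G) → Hom(I, H), f ↦ f ≫ ψ, on group-scheme homomorphisms is bijective, and that ψ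
induces a bijection G(K) → H(K) on K-valued points. Then ψ is an isomorphism. (All group schemes are
commutative by the standing convention.) -/
theorem result
    {k : Type u} [Field k] (K : Type u) [Field K] [Algebra k K] [IsAlgClosure k K]
    (G H : Over (Spec (CommRingCat.of k)))
    [GrpObj G] [IsCommMonObj G] [GrpObj H] [IsCommMonObj H]
    [IsAffine G.left] [IsAffine H.left] [LocallyOfFiniteType G.hom] [LocallyOfFiniteType H.hom]
    (ψ : G ⟶ H) [IsMonHom ψ]
    (hinj : ∀ (I : Over (Spec (CommRingCat.of k))) [GrpObj I] [IsCommMonObj I] [IsFinite I.hom]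
      (f g : I ⟶ G) [IsMonHom f] [IsMonHom g], f ≫ ψ = g ≫ ψ → f = g)
    (hsurj : ∀ (I : Over (Spec (CommRingCat.of k))) [GrpObj I] [IsCommMonObj I] [IsFinite I.hom]
      (h : I ⟶ H) [IsMonHom h], ∃ f : I ⟶ G, IsMonHom f ∧ f ≫ ψ = h)
    (hpts : Function.Bijective fun x : Over.mk (Spec.map (CommRingCat.ofHom (algebraMap k K))) ⟶ G => x ≫ ψ) :
    IsIso ψ := by
  haveI := IsAlgClosure.isAlgClosed (K := K) k
  haveI hfin := Groth.Agent.H02CA.HomIso.isFinite_ker_hom (K := K) ψ hpts
  have hker := Groth.Agent.H19Grp.KernelGrp.isKernel ψ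
  haveI := Groth.Agent.H19Grp.kernel_mono hker
  obtain ⟨gN, hN⟩ := Groth.Agent.H19Grp.KernelGrp.exists_grpObj ψ
  haveI := Groth.Agent.H19Grp.KernelGrp.isCommMonObj ψ
  haveI : IsMonHom (1 : Groth.Agent.H19Grp.KernelGrp.ker ψ ⟶ G) := by
    refine ⟨by rw [MonObj.comp_one, Hom.one_def, toUnit_unique (toUnit (𝟙_ (Over (Spec (CommRingCat.of k))))) (𝟙 _), Category.id_comp], ?_⟩
    rw [MonObj.comp_one, ← lift_fst_comp_snd_comp, ← Hom.mul_def, MonObj.comp_one, MonObj.comp_one, _root_.mul_one]
  have hone : Groth.Agent.H19Grp.KernelGrp.incl ψ = 1 :=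
    hinj _ _ _ (by rw [Groth.Agent.H19Grp.kernel_comp_eq_one hker, MonObj.one_comp])
  haveI : Mono ψ := ⟨fun {T} a b hab => by
    have h : (a * b⁻¹) ≫ ψ = 1 := by rw [MonObj.mul_comp, GrpObj.inv_comp, hab, mul_inv_cancel]
    obtain ⟨l, hl⟩ := Groth.Agent.H19Grp.kernel_lift hker _ h
    rw [hone, MonObj.comp_one] at hl
    exact mul_inv_eq_one.1 hl.symm⟩
  haveI : IsClosedImmersion ψ.left := Groth.Agent.H06GenSub.MonoAffine.main ψ
  haveI : Surjective ψ.left := Groth.Agent.H02CA.HomIso.surjective_left (K := K) ψ hpts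
  haveI : IsIso ψ.left := by
    obtain ⟨p, hp⟩ := CharP.exists k
    rcases CharP.char_is_prime_or_zero k p with hprime | rfl
    · haveI : Fact p.Prime := ⟨hprime⟩
      haveI : Flat ψ.left := Groth.Agent.H02CA.HomIso.flat_of_ker_le_pow ψ p hprime.one_lt
        fun r => Groth.Agent.H02CA.HomIso.ker_le_pow ψ p r hsurj
      haveI : IsLocallyNoetherian H.left := LocallyOfFiniteType.isLocallyNoetherian H.hom
      haveI : LocallyOfFinitePresentation ψ.left := LocallyOfFinitePresentation.iff_locallyOfFiniteType.2 inferInstance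
      haveI : IsOpenImmersion ψ.left := IsOpenImmersion.of_flat_of_mono _
      exact (isIso_iff_isOpenImmersion_and_surjective ψ.left).2 ⟨inferInstance, inferInstance⟩
    · haveI : CharZero k := CharP.charP_to_charZero k
      haveI : IsReduced H.left := by
        haveI := Groth.Agent.H19Grp.geometricallyReduced_of_charZero H
        exact GeometricallyReduced.isReduced_of_flat_of_finite_irreducibleComponents H.hom
      exact isIso_of_isClosedImmersion_of_surjective ψ.left
  haveI : IsIso ((Over.forget _).map ψ) := ‹IsIso ψ.left›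
  exact isIso_of_reflects_iso ψ (Over.forget _)

end Groth.Agent.S13633
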