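import Groth.Statements.S13634
import Mathlib


set_option autoImplicit false
universe u
open CategoryTheory CategoryTheory.Limits MonoidalCategory CartesianMonoidalCategory MonObj AlgebraicGeometry
open MultSch

namespace Groth.Agent.S13634

/-- Let π : M → M'' be a homomorphism of commutative group schemes over a scheme S which is an
epimorphism of fppf sheaves, H a commutative group scheme over S and φ : (M'')^r → H a multilinear
morphism. If the composite of φ with π^r : M^r → (M'')^r is alternating, then φ is alternating. (The
published statement is for module schemes over a ring R and an R-multilinear φ; the ring action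
plays no role, so this row states it for commutative group schemes, which contains that case.) -/
theorem result
    {S : Scheme.{u}} {M M'' H : Over S}
    [GrpObj M] [IsCommMonObj M] [GrpObj M''] [IsCommMonObj M''] [GrpObj H] [IsCommMonObj H]
    (π : M ⟶ M'') [IsMonHom π] (hπ : Epi (CGrpSh.ptsMap Scheme.fppfPrecoverage π))
    {r : ℕ} (φ : MultSch.pow M'' r ⟶ H) (hφ : MultSch.IsMultilinear φ)
    (halt : ∀ (T : Over S) (x : Fin r → (T ⟶ M)) (i j : Fin r), i ≠ j → x i = x j →
      MultSch.tuple (fun l => x l ≫ π) ≫ φ = 1) :
    MultSch.IsAlternating φ := by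
  haveI := hπ
  haveI hls : Sheaf.IsLocallySurjective (CGrpSh.ptsMap Scheme.fppfPrecoverage π) :=
    (CategoryTheory.Sheaf.isLocallySurjective_iff_epi' (A := AddCommGrpCat.{u + 1}) _).2 hπ
  intro T y i j hij hy
  have hsheaf : Presieve.IsSheaf (QuotSh.J Scheme.fppfPrecoverage S) (yoneda.obj H) :=
    GrothendieckTopology.Subcanonical.isSheaf_of_isRepresentable (J := QuotSh.J Scheme.fppfPrecoverage S) (yoneda.obj H)
  classical
  -- covering sieve on which every coordinate lifts
  let P := (CGrpSh.ptsMap Scheme.fppfPrecoverage π).hom
  let L : Fin r → Sieve T := fun l => Presheaf.imageSieve P (U := T) (ULift.up (Additive.ofMul (y l)))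
  have hL : (Finset.univ.inf L) ∈ QuotSh.J Scheme.fppfPrecoverage S T := by
    refine Finset.inf_induction (p := fun s => s ∈ QuotSh.J Scheme.fppfPrecoverage S T) (GrothendieckTopology.top_mem _ T)
      (fun a ha b hb => GrothendieckTopology.intersection_covering _ ha hb) fun l _ => ?_
    exact hls.imageSieve_mem _
  refine (hsheaf.isSeparated _ hL).ext fun T' f hf => ?_
  have hf' : ∀ l, L l f := fun l => show (L l).arrows f from (Finset.inf_le (f := L) (Finset.mem_univ l)) _ hf
  simp only [L, Presheaf.imageSieve_apply] at hf'
  choose x hx using hf'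
  let X : Fin r → (T' ⟶ M) := fun l => if l = j then (x i).down.toMul else (x l).down.toMul
  have hX : ∀ l, X l ≫ π = f ≫ y l := by
    intro l
    simp only [X]
    split_ifs with h
    · rw [h, ← hy]; exact congrArg (fun z => z.down.toMul) (hx i)
    · exact congrArg (fun z => z.down.toMul) (hx l)
  have h1 := halt T' X i j hij (by simp [X, hij])
  have h2 : ∀ {n : ℕ} (z : Fin n → (T ⟶ M'')), f ≫ MultSch.tuple z = MultSch.tuple fun l => f ≫ z l := by
    intro n
    induction n with
    | zero => intro z; exact toUnit_unique _ _
    | succ n ih => intro z; simp only [MultSch.tuple]; exact (comp_lift _ _ _).trans (congrArg₂ _ rfl (ih _))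
  show f ≫ (MultSch.tuple y ≫ φ) = f ≫ (1 : T ⟶ H)
  rw [← Category.assoc, h2, MonObj.comp_one, ← h1]
  simp only [hX]

end Groth.Agent.S13634
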