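import Groth.Statements.S13635
import Groth.Agent.H19Grp.PtsDescend

set_option autoImplicit false
universe u w
open CategoryTheory CategoryTheory.Limits MonoidalCategory CartesianMonoidalCategory MonObj AlgebraicGeometry
open MultSch

namespace Groth.Agent.S13635

private noncomputable def powMap {S : Scheme.{u}} {M M'' : Over S} (π : M ⟶ M'') : (n : ℕ) → (MultSch.pow M n ⟶ MultSch.pow M'' n)
  | 0 => 𝟙 _
  | n + 1 => π ⊗ₘ powMap π n

private noncomputable def proj {S : Scheme.{u}} (M : Over S) : {n : ℕ} → Fin n → (MultSch.pow M n ⟶ M)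
  | n + 1, i => Fin.cases (fst M (MultSch.pow M n)) (fun l => snd M (MultSch.pow M n) ≫ proj M l) i

private theorem tuple_proj {S : Scheme.{u}} {M T : Over S} :
    ∀ {n : ℕ} (a : T ⟶ MultSch.pow M n), MultSch.tuple (fun l => a ≫ proj M l) = a
  | 0, a => toUnit_unique _ _
  | n + 1, a => by
    have h := tuple_proj (a ≫ snd M (MultSch.pow M n))
    show lift (a ≫ fst M (MultSch.pow M n))
      (MultSch.tuple fun i => a ≫ snd M (MultSch.pow M n) ≫ proj M i) = a
    refine Eq.trans (congrArg (fun m => lift (a ≫ fst M (MultSch.pow M n)) m) ?_)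
      (CartesianMonoidalCategory.hom_ext _ a (lift_fst _ _) (lift_snd _ _))
    exact (congrArg MultSch.tuple (funext fun i => (Category.assoc _ _ _).symm)).trans h

private theorem tuple_comp_proj {S : Scheme.{u}} {M T : Over S} :
    ∀ {n : ℕ} (x : Fin n → (T ⟶ M)) (l : Fin n), MultSch.tuple x ≫ proj M l = x l
  | n + 1, x, l => by
    refine Fin.cases ?_ (fun l => ?_) l
    · exact lift_fst _ _
    · show lift (x 0) _ ≫ snd M (MultSch.pow M n) ≫ proj M l = _
      exact (lift_snd_assoc _ _ _).trans (tuple_comp_proj (fun i => x i.succ) l)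

private theorem comp_tuple {S : Scheme.{u}} {M T T' : Over S} (f : T' ⟶ T) :
    ∀ {n : ℕ} (z : Fin n → (T ⟶ M)), f ≫ MultSch.tuple z = MultSch.tuple fun l => f ≫ z l
  | 0, _ => toUnit_unique _ _
  | _ + 1, z => (comp_lift _ _ _).trans (congrArg₂ _ rfl (comp_tuple f _))

private theorem tuple_powMap {S : Scheme.{u}} {M M'' T : Over S} (π : M ⟶ M'') :
    ∀ {n : ℕ} (x : Fin n → (T ⟶ M)), MultSch.tuple x ≫ powMap π n = MultSch.tuple fun l => x l ≫ π
  | 0, _ => toUnit_unique _ _
  | _ + 1, x => (lift_map _ _ _ _).trans (congrArg₂ _ rfl (tuple_powMap π _))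


/-- Let M₁ → M₂ → M₃ → 0 be a sequence of R-module schemes over a scheme S, with R-linear homomorphisms
j : M₁ → M₂ and π : M₂ → M₃, exact as a sequence of fppf sheaves. For n ≥ 1 and an R-module scheme
N, the sequence 0 → Alt(M₃^n, N) → Alt(M₂^n, N) → Alt(M₁ × M₂^(n-1), N) of R-multilinear alternating
morphisms is exact: an R-multilinear alternating φ : M₂^n → N which is trivial on all points with
first coordinate in the image of j is of the form φ' ∘ π^n for a unique morphism φ' : M₃^n → N
(unique among all morphisms), and this φ' is R-multilinear and alternating. -/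
theorem result
    {S : Scheme.{u}} {R : Type w} [CommRing R] {M₁ M₂ M₃ N : Over S}
    [GrpObj M₁] [IsCommMonObj M₁] [GrpObj M₂] [IsCommMonObj M₂] [GrpObj M₃] [IsCommMonObj M₃]
    [GrpObj N] [IsCommMonObj N]
    (ρ₁ : MultSch.RMod R M₁) (ρ₂ : MultSch.RMod R M₂) (ρ₃ : MultSch.RMod R M₃) (ρN : MultSch.RMod R N)
    (j : M₁ ⟶ M₂) (π : M₂ ⟶ M₃) [IsMonHom j] [IsMonHom π]
    (hj : ∀ a : R, j ≫ ρ₂.act a = ρ₁.act a ≫ j) (hπ : ∀ a : R, π ≫ ρ₃.act a = ρ₂.act a ≫ π)
    (w : j ≫ π = 1) (hex : (CGrpSh.seq Scheme.fppfPrecoverage j π w).Exact)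
    (hepi : Epi (CGrpSh.ptsMap Scheme.fppfPrecoverage π))
    {n : ℕ} (hn : 1 ≤ n) (φ : MultSch.pow M₂ n ⟶ N)
    (hmult : MultSch.IsMultilinear φ) (hlin : MultSch.IsRLinear ρ₂ ρN φ) (halt : MultSch.IsAlternating φ)
    (hvan : ∀ (T : Over S) (y : T ⟶ M₁) (x : Fin n → (T ⟶ M₂)), x ⟨0, hn⟩ = y ≫ j →
      MultSch.tuple x ≫ φ = 1) :
    ∃ φ' : MultSch.pow M₃ n ⟶ N,
      (∀ (T : Over S) (x : Fin n → (T ⟶ M₂)), MultSch.tuple x ≫ φ = MultSch.tuple (fun l => x l ≫ π) ≫ φ') ∧
      MultSch.IsMultilinear φ' ∧ MultSch.IsRLinear ρ₃ ρN φ' ∧ MultSch.IsAlternating φ' ∧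
      ∀ φ'' : MultSch.pow M₃ n ⟶ N,
        (∀ (T : Over S) (x : Fin n → (T ⟶ M₂)), MultSch.tuple x ≫ φ = MultSch.tuple (fun l => x l ≫ π) ≫ φ'') →
          φ'' = φ' := by
  classical
  obtain ⟨n, rfl⟩ : ∃ m, n = m + 1 := ⟨n - 1, by omega⟩
  let q := powMap π (n + 1)
  have hlift : ∀ {T : Over S} (b : Fin (n + 1) → (T ⟶ M₃)), ∃ R ∈ H19Grp.fppfJ S T,
      ∀ ⦃T' : Over S⦄ (t : T' ⟶ T), R t → ∀ l, ∃ a, a ≫ π = t ≫ b l := by
    intro T b
    choose L hL hL' using fun l => H19Grp.exists_local_lift_pt π hepi (b l)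
    refine ⟨Finset.univ.inf L, Finset.inf_induction (p := fun s => s ∈ H19Grp.fppfJ S T)
      (GrothendieckTopology.top_mem _ T) (fun a ha b hb => GrothendieckTopology.intersection_covering _ ha hb)
      fun l _ => hL l, fun T' t ht l => hL' l t ?_⟩
    exact (Finset.inf_le (f := L) (Finset.mem_univ l)) _ ht
  have hq : ∀ {T : Over S} (b : T ⟶ MultSch.pow M₃ (n + 1)), ∃ R ∈ H19Grp.fppfJ S T,
      ∀ ⦃T' : Over S⦄ (t : T' ⟶ T), R t → ∃ a, a ≫ q = t ≫ b := by
    intro T b
    obtain ⟨R, hR, h⟩ := hlift (fun l => b ≫ proj M₃ l)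
    refine ⟨R, hR, fun T' t ht => ?_⟩
    choose a ha using h t ht
    exact ⟨MultSch.tuple a, by rw [tuple_powMap, funext ha, ← comp_tuple, tuple_proj]⟩
  have hj0 : ∀ {T : Over S} (w : Fin (n + 1) → (T ⟶ M₂)) (i : Fin (n + 1)) (y : T ⟶ M₁),
      w i = y ≫ j → MultSch.tuple w ≫ φ = 1 := by
    intro T w i y hy
    by_cases hi : i = 0
    · subst hi
      exact hvan T y w hy
    · have key : ∀ a b : T ⟶ M₂,
          (MultSch.tuple (Function.update (Function.update w i a) 0 b) ≫ φ) *
            (MultSch.tuple (Function.update (Function.update w i b) 0 a) ≫ φ) = 1 := by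
        intro a b
        have hd : ∀ c : T ⟶ M₂, MultSch.tuple (Function.update (Function.update w i c) 0 c) ≫ φ = 1 :=
          fun c => halt T _ i 0 hi (by simp [hi])
        have h := hd (a * b)
        rw [hmult T (Function.update w i (a * b)) 0 a b, Function.update_comm hi, Function.update_comm hi,
          hmult T (Function.update w 0 a) i a b, hmult T (Function.update w 0 b) i a b,
          Function.update_comm (Ne.symm hi), Function.update_comm (Ne.symm hi), Function.update_comm (Ne.symm hi),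
          Function.update_comm (Ne.symm hi), hd, hd, _root_.one_mul, _root_.mul_one] at h
        rw [_root_.mul_comm]
        exact h
      have h := key (y ≫ j) (w 0)
      rw [hvan T y (Function.update (Function.update w i (w 0)) 0 (y ≫ j)) (Function.update_self _ _ _),
        _root_.mul_one] at h
      rwa [← hy, Function.update_eq_self, Function.update_eq_self] at h
  have hψ' : ∀ {T : Over S} (x x' : Fin (n + 1) → (T ⟶ M₂)), (∀ l, x l ≫ π = x' l ≫ π) →
      MultSch.tuple x ≫ φ = MultSch.tuple x' ≫ φ := by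
    intro T x x' e
    have key : ∀ s : Finset (Fin (n + 1)),
        MultSch.tuple x ≫ φ = MultSch.tuple (fun l => if l ∈ s then x' l else x l) ≫ φ := by
      intro s
      induction s using Finset.induction_on with
      | empty => simp
      | insert i s his ih =>
        rw [ih]
        let z := fun l => if l ∈ s then x' l else x l
        have hz : (fun l => if l ∈ insert i s then x' l else x l) = Function.update z i (x' i) := by
          funext l
          by_cases hl : l = i
          · subst hl; simp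
          · simp [z, hl]
        rw [hz]
        conv_lhs => rw [show (fun l => if l ∈ s then x' l else x l) = Function.update z i (x i * (x' i)⁻¹ * x' i) by
          funext l
          by_cases hl : l = i
          · subst hl; simp [his, inv_mul_cancel_right]
          · simp [z, hl]]
        rw [hmult T z i _ _]
        suffices h : MultSch.tuple (Function.update z i (x i * (x' i)⁻¹)) ≫ φ = 1 by rw [h, _root_.one_mul]
        have hd : (x i * (x' i)⁻¹) ≫ π = 1 := by
          rw [MonObj.mul_comp, GrpObj.inv_comp, e, mul_inv_cancel]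
        obtain ⟨R, hR, h⟩ := H19Grp.exists_local_lift_of_exact j π w hex _ hd
        refine H19Grp.hom_ext_of_cover hR fun T' t ht => ?_
        obtain ⟨y, hy⟩ := h t ht
        rw [← Category.assoc, comp_tuple, MonObj.comp_one]
        exact hj0 _ i y (by simp [hy])
    simpa using key Finset.univ
  have hψ : ∀ {T : Over S} (a a' : T ⟶ MultSch.pow M₂ (n + 1)), a ≫ q = a' ≫ q → a ≫ φ = a' ≫ φ := by
    intro T a a' e
    rw [← tuple_proj a, ← tuple_proj a'] at e ⊢
    refine hψ' _ _ fun l => ?_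
    have := congrArg (· ≫ proj M₃ l) e
    simpa only [q, tuple_powMap, tuple_comp_proj] using this
  obtain ⟨φ', hφ', huniq⟩ := H19Grp.exists_unique_factor q hq φ hψ
  have hval : ∀ (T : Over S) (x : Fin (n + 1) → (T ⟶ M₂)),
      MultSch.tuple x ≫ φ = MultSch.tuple (fun l => x l ≫ π) ≫ φ' := fun T x => by
    rw [← tuple_powMap, Category.assoc, hφ']
  have hupd : ∀ {T : Over S} (x : Fin (n + 1) → (T ⟶ M₂)) (i : Fin (n + 1)) (y : T ⟶ M₂),
      Function.update (fun l => x l ≫ π) i (y ≫ π) = fun l => Function.update x i y l ≫ π := fun x i y => by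
    funext l; by_cases hl : l = i
    · subst hl; simp
    · simp [hl]
  have hupd' : ∀ {T T' : Over S} (t : T' ⟶ T) (x : Fin (n + 1) → (T ⟶ M₃)) (i : Fin (n + 1)) (y : T ⟶ M₃),
      (fun l => t ≫ Function.update x i y l) = Function.update (fun l => t ≫ x l) i (t ≫ y) := fun t x i y => by
    funext l; by_cases hl : l = i
    · subst hl; simp
    · simp [hl]
  refine ⟨φ', hval, ?_, ?_, ?_, fun φ'' h'' => huniq φ'' ?_⟩
  · intro T x i y z
    obtain ⟨R₁, hR₁, h₁⟩ := hlift x
    obtain ⟨R₂, hR₂, h₂⟩ := H19Grp.exists_local_lift_pt π hepi y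
    obtain ⟨R₃, hR₃, h₃⟩ := H19Grp.exists_local_lift_pt π hepi z
    refine H19Grp.hom_ext_of_cover ((H19Grp.fppfJ S).intersection_covering hR₁
      ((H19Grp.fppfJ S).intersection_covering hR₂ hR₃)) fun T' t ht => ?_
    choose a ha using h₁ t ht.1
    obtain ⟨b, hb⟩ := h₂ t ht.2.1
    obtain ⟨c, hc⟩ := h₃ t ht.2.2
    simp only [MonObj.comp_mul, ← Category.assoc, comp_tuple, hupd', ← ha, ← hb, ← hc, ← MonObj.mul_comp, hupd,
      ← hval]
    exact hmult T' a i b c
  · intro T x i r
    obtain ⟨R₁, hR₁, h₁⟩ := hlift x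
    refine H19Grp.hom_ext_of_cover hR₁ fun T' t ht => ?_
    choose a ha using h₁ t ht
    simp only [← Category.assoc, comp_tuple, hupd', ← ha]
    rw [Category.assoc (a i), hπ, ← Category.assoc (a i), hupd, ← hval, ← hval]
    exact hlin T' a i r
  · intro T x i k hik hxk
    obtain ⟨R₁, hR₁, h₁⟩ := hlift x
    refine H19Grp.hom_ext_of_cover hR₁ fun T' t ht => ?_
    choose a ha using h₁ t ht
    have e : (fun l => t ≫ x l) = fun l => Function.update a i (a k) l ≫ π := by
      funext l; by_cases hl : l = i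
      · subst hl; simp [ha, hxk]
      · simp [hl, ha]
    rw [← Category.assoc, comp_tuple, e, ← hval, MonObj.comp_one]
    exact halt T' _ i k hik (by simp [Ne.symm hik])
  · rw [← tuple_proj q]
    have h := h'' _ (fun l => proj M₂ l)
    have hid : MultSch.tuple (fun l => proj M₂ l) = 𝟙 (MultSch.pow M₂ (n + 1)) := by
      simpa using tuple_proj (𝟙 (MultSch.pow M₂ (n + 1)))
    have e : MultSch.tuple (fun l => proj M₂ l ≫ π) = q := by
      rw [← tuple_powMap, hid, Category.id_comp]
    rw [tuple_proj, ← e]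
    show _ ≫ φ'' = φ
    rw [← h, hid, Category.id_comp]

end Groth.Agent.S13635
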