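import Groth.Statements.S13636
import Groth.Agent.H19Grp.PtsDescend

set_option autoImplicit false
universe u w
open CategoryTheory CategoryTheory.Limits MonoidalCategory CartesianMonoidalCategory MonObj AlgebraicGeometry
open MultSch

namespace Groth.Agent.S13636

/-- Let M' → M → M'' → 0 be a sequence of R-module schemes over a scheme S, with R-linear homomorphisms
j and π, exact as fppf sheaves, and let ψ : P × M × Q → N be a morphism to an R-module scheme N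
which is additive and R-linear in the coordinate M (on T-valued points) and trivial on all points
whose M-coordinate lies in the image of j. Then ψ = ψ' ∘ (id × π × id) for a unique morphism ψ' : P
× M'' × Q → N, and ψ' is additive and R-linear in the coordinate M''. (The published statement has a
product M₁ × ⋯ × M_r of R-module schemes with the exact sequence in the i-th factor and ψ
R-multilinear; here the factors before and after the i-th are collected into single S-schemes P and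
Q, and only linearity in the i-th coordinate, the one the statement is about, is carried; linearity
in the other coordinates passes between ψ and ψ' formally.) -/
theorem result
    {S : Scheme.{u}} {R : Type w} [CommRing R] {P Q M' M M'' N : Over S}
    [GrpObj M'] [IsCommMonObj M'] [GrpObj M] [IsCommMonObj M] [GrpObj M''] [IsCommMonObj M'']
    [GrpObj N] [IsCommMonObj N]
    (ρ' : MultSch.RMod R M') (ρ : MultSch.RMod R M) (ρ'' : MultSch.RMod R M'') (ρN : MultSch.RMod R N)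
    (j : M' ⟶ M) (π : M ⟶ M'') [IsMonHom j] [IsMonHom π]
    (hj : ∀ a : R, j ≫ ρ.act a = ρ'.act a ≫ j) (hπ : ∀ a : R, π ≫ ρ''.act a = ρ.act a ≫ π)
    (w : j ≫ π = 1) (hex : (CGrpSh.seq Scheme.fppfPrecoverage j π w).Exact)
    (hepi : Epi (CGrpSh.ptsMap Scheme.fppfPrecoverage π))
    (ψ : P ⊗ (M ⊗ Q) ⟶ N)
    (hadd : ∀ (T : Over S) (p : T ⟶ P) (q : T ⟶ Q) (y z : T ⟶ M),
      lift p (lift (y * z) q) ≫ ψ = (lift p (lift y q) ≫ ψ) * (lift p (lift z q) ≫ ψ))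
    (hlin : ∀ (T : Over S) (p : T ⟶ P) (q : T ⟶ Q) (y : T ⟶ M) (a : R),
      lift p (lift (y ≫ ρ.act a) q) ≫ ψ = (lift p (lift y q) ≫ ψ) ≫ ρN.act a)
    (hvan : ∀ (T : Over S) (p : T ⟶ P) (q : T ⟶ Q) (y' : T ⟶ M'), lift p (lift (y' ≫ j) q) ≫ ψ = 1) :
    ∃ ψ' : P ⊗ (M'' ⊗ Q) ⟶ N,
      (P ◁ (π ▷ Q)) ≫ ψ' = ψ ∧
      (∀ (T : Over S) (p : T ⟶ P) (q : T ⟶ Q) (y z : T ⟶ M''),
        lift p (lift (y * z) q) ≫ ψ' = (lift p (lift y q) ≫ ψ') * (lift p (lift z q) ≫ ψ')) ∧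
      (∀ (T : Over S) (p : T ⟶ P) (q : T ⟶ Q) (y : T ⟶ M'') (a : R),
        lift p (lift (y ≫ ρ''.act a) q) ≫ ψ' = (lift p (lift y q) ≫ ψ') ≫ ρN.act a) ∧
      ∀ ψ'' : P ⊗ (M'' ⊗ Q) ⟶ N, (P ◁ (π ▷ Q)) ≫ ψ'' = ψ → ψ'' = ψ' := by
  let q : P ⊗ (M ⊗ Q) ⟶ P ⊗ (M'' ⊗ Q) := P ◁ (π ▷ Q)
  have hq0 : ∀ {T : Over S} (p : T ⟶ P) (y : T ⟶ M) (r : T ⟶ Q), lift p (lift y r) ≫ q = lift p (lift (y ≫ π) r) := by
    intro T p y r; simp [q]
  have hdec : ∀ {T : Over S} {A : Over S} (b : T ⟶ P ⊗ (A ⊗ Q)),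
      lift (b ≫ fst _ _) (lift (b ≫ snd _ _ ≫ fst _ _) (b ≫ snd _ _ ≫ snd _ _)) = b := by
    intro T A b
    apply CartesianMonoidalCategory.hom_ext
    · simp
    · apply CartesianMonoidalCategory.hom_ext <;> simp
  have hq : ∀ {T : Over S} (b : T ⟶ P ⊗ (M'' ⊗ Q)),
      ∃ R ∈ H19Grp.fppfJ S T, ∀ ⦃T' : Over S⦄ (t : T' ⟶ T), R t → ∃ a, a ≫ q = t ≫ b := by
    intro T b
    obtain ⟨R, hR, h⟩ := H19Grp.exists_local_lift_pt π hepi (b ≫ snd _ _ ≫ fst _ _)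
    refine ⟨R, hR, fun T' t ht => ?_⟩
    obtain ⟨y, hy⟩ := h t ht
    refine ⟨lift (t ≫ b ≫ fst _ _) (lift y (t ≫ b ≫ snd _ _ ≫ snd _ _)), ?_⟩
    rw [hq0, hy]
    conv_rhs => rw [← hdec (A := M'') b, comp_lift, comp_lift]
  have hψ : ∀ {T : Over S} (a a' : T ⟶ P ⊗ (M ⊗ Q)), a ≫ q = a' ≫ q → a ≫ ψ = a' ≫ ψ := by
    intro T a a' e
    rw [← hdec (A := M) a, ← hdec (A := M) a', hq0, hq0] at e
    have ep := congrArg (· ≫ fst _ _) e
    have ey := congrArg (· ≫ snd _ _ ≫ fst _ _) e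
    have er := congrArg (· ≫ snd _ _ ≫ snd _ _) e
    simp only [lift_fst, lift_snd_assoc, lift_snd] at ep ey er
    rw [← hdec (A := M) a, ← hdec (A := M) a', ← ep, ← er]
    generalize a ≫ fst P (M ⊗ Q) = p, a ≫ snd _ _ ≫ snd M Q = r,
      a ≫ snd _ _ ≫ fst M Q = y, a' ≫ snd _ _ ≫ fst M Q = y' at *
    have hd : (y * y'⁻¹) ≫ π = 1 := by
      rw [MonObj.mul_comp, GrpObj.inv_comp, ey, mul_inv_cancel]
    obtain ⟨R, hR, h⟩ := H19Grp.exists_local_lift_of_exact j π w hex (y * y'⁻¹) hd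
    refine H19Grp.hom_ext_of_cover hR fun T' t ht => ?_
    obtain ⟨z, hz⟩ := h t ht
    have e2 : t ≫ y = (z ≫ j) * (t ≫ y') := by
      rw [hz, ← MonObj.comp_mul, inv_mul_cancel_right]
    simp only [← Category.assoc, comp_lift, e2, hadd, hvan, _root_.one_mul]
  obtain ⟨ψ', hψ', huniq⟩ := H19Grp.exists_unique_factor q hq ψ hψ
  have hval : ∀ {T : Over S} (p : T ⟶ P) (y : T ⟶ M) (r : T ⟶ Q),
      lift p (lift (y ≫ π) r) ≫ ψ' = lift p (lift y r) ≫ ψ := fun p y r => by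
    rw [← hq0, Category.assoc, hψ']
  refine ⟨ψ', hψ', ?_, ?_, huniq⟩
  · intro T p r y z
    obtain ⟨R₁, hR₁, h₁⟩ := H19Grp.exists_local_lift_pt π hepi y
    obtain ⟨R₂, hR₂, h₂⟩ := H19Grp.exists_local_lift_pt π hepi z
    refine H19Grp.hom_ext_of_cover ((H19Grp.fppfJ S).intersection_covering hR₁ hR₂) fun T' t ht => ?_
    obtain ⟨y₀, hy⟩ := h₁ t ht.1
    obtain ⟨z₀, hz⟩ := h₂ t ht.2
    simp only [MonObj.comp_mul, ← Category.assoc, comp_lift, ← hy, ← hz, ← MonObj.mul_comp, hval, hadd]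
  · intro T p r y b
    obtain ⟨R₁, hR₁, h₁⟩ := H19Grp.exists_local_lift_pt π hepi y
    refine H19Grp.hom_ext_of_cover hR₁ fun T' t ht => ?_
    obtain ⟨y₀, hy⟩ := h₁ t ht
    simp only [← Category.assoc, comp_lift, ← hy]
    rw [Category.assoc y₀, hπ, ← Category.assoc, hval, hval, hlin]

end Groth.Agent.S13636
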