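import Groth.Statements.S13642
import Groth.Agent.H24FSch.Fibre

set_option autoImplicit false
set_option linter.style.haveILetI false
open CategoryTheory
universe u
open FSch

open CategoryTheory CategoryTheory.Limits AlgebraicGeometry

namespace Groth.Agent.S13642

/-- Let f : 𝔛 ⟶ 𝔜 be a finite morphism of locally Noetherian formal schemes (adic, with finite morphism
of smallest levels). Then for every open U of 𝔜 the restriction f⁻¹(U) ⟶ U of f to the induced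
formal schemes on U and on its inverse image is a finite morphism. -/
theorem result (𝔛 𝔜 : FSch.Sys.{u}) (h𝔛 : 𝔛.IsLocNoethFormal) (h𝔜 : 𝔜.IsLocNoethFormal)
    (f : 𝔛 ⟶ 𝔜) (hf : FSch.IsFiniteHom f) (U : (𝔜.X 0).Opens) :
    FSch.IsFiniteHom (FSch.Hom.restrictOpen f h𝔛.1 h𝔜.1 U) := by
  refine ⟨fun n => ?_, ?_⟩
  · refine IsPullback.of_bot ?_ ((FSch.Hom.restrictOpen f h𝔛.1 h𝔜.1 U : FSch.Hom _ _).comm n).symm
      (Groth.Agent.H24FSch.isAdicHom_restrictOpenι 𝔜 h𝔜.1 U n)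
    have h1 := (Groth.Agent.H24FSch.isAdicHom_restrictOpenι 𝔛 h𝔛.1 ((f : FSch.Hom 𝔛 𝔜).app 0 ⁻¹ᵁ U) n).paste_vert (hf.1 n)
    have e : ∀ k, ((FSch.Hom.restrictOpen f h𝔛.1 h𝔜.1 U : FSch.Hom _ _).app k) ≫
        ((𝔜.restrictOpenι h𝔜.1 U : FSch.Hom _ _).app k) =
        ((𝔛.restrictOpenι h𝔛.1 ((f : FSch.Hom 𝔛 𝔜).app 0 ⁻¹ᵁ U) : FSch.Hom _ _).app k) ≫ (f : FSch.Hom 𝔛 𝔜).app k :=
      fun k => congrArg (fun φ : FSch.Hom _ _ => φ.app k) (FSch.Hom.restrictOpen_ι f h𝔛.1 h𝔜.1 U)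
    rw [← e n, ← e (n + 1)] at h1
    exact h1
  · haveI := hf.2
    exact (MorphismProperty.of_isPullback
      (Groth.Agent.H24FSch.isPullback_resLE_of_eq ((f : FSch.Hom 𝔛 𝔜).app 0) (𝔜.lvU h𝔜.1 0 U) _
        (FSch.Hom.lvU_preimage f h𝔛.1 h𝔜.1 0 U)) hf.2 :)

end Groth.Agent.S13642
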