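import Groth.Statements.S13643
import Groth.Agent.H24Formal3.CohRpush

set_option autoImplicit false
set_option linter.style.haveILetI false
open CategoryTheory
universe u
open FSch

attribute [-instance] CategoryTheory.catToReflQuiver
open AlgebraicGeometry Groth.Agent CategoryTheory.Limits Opposite TopologicalSpace
namespace Groth.Agent.S13643

/-- Let f : 𝔛 ⟶ 𝔜 be a finite morphism of locally Noetherian formal schemes (adic, with finite morphism
of smallest levels). Then f_* O_𝔛 is a coherent O_𝔜-module. (The published statement says that f_*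
O_𝔛 is a coherent O_𝔜-algebra; this row asserts coherence of the underlying O_𝔜-module only.) -/
theorem result (𝔛 𝔜 : FSch.Sys.{u}) (h𝔛 : 𝔛.IsLocNoethFormal) (h𝔜 : 𝔜.IsLocNoethFormal)
    (f : 𝔛 ⟶ 𝔜) (hf : FSch.IsFiniteHom f) :
    FSch.IsCohF 𝔜 h𝔜.1 ((FSch.pushF f h𝔛.1 h𝔜.1).obj (FSch.unitF 𝔛 h𝔛.1)) := by
    have hu : FSch.IsCohF 𝔛 h𝔛.1 (FSch.unitF 𝔛 h𝔛.1) := by
      refine H15Site.LocPres.isFinitePresentation_of_lh fun Y => ⟨⊤, GrothendieckTopology.top_mem _ _, fun W _ _ => ?_⟩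
      let s : PUnit.{u+1} → ((H15Site.ModTensor.forg (𝔛.Osh h𝔛.1)).obj (ModSite.unit (𝔛.Osh h𝔛.1))).obj (op W) :=
        fun _ => (1 : (𝔛.Osh h𝔛.1).obj.obj (op W))
      have hs : ∀ {V : (𝔛.X 0).Opens} (g : V ⟶ W), H15Site.ModTensor.rs ((H15Site.ModTensor.forg (𝔛.Osh h𝔛.1)).obj
          (ModSite.unit (𝔛.Osh h𝔛.1))) g.op (s PUnit.unit) = (1 : (𝔛.Osh h𝔛.1).obj.obj (op V)) :=
        fun g => map_one ((𝔛.Osh h𝔛.1).obj.map g.op).hom
      refine ⟨PUnit, PEmpty, inferInstance, inferInstance, s, fun k => k.elim, fun V g t => ?_, fun k => k.elim,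
        fun V g c hc => ?_⟩
      · refine ⟨⊤, GrothendieckTopology.top_mem _ _, fun Z k _ => ?_⟩
        let t' : (𝔛.Osh h𝔛.1).obj.obj (op Z) := H15Site.ModTensor.rs
          ((H15Site.ModTensor.forg (𝔛.Osh h𝔛.1)).obj (ModSite.unit (𝔛.Osh h𝔛.1))) k.op t
        refine ⟨fun _ => t', Eq.trans ?_ (Fintype.sum_unique _).symm⟩
        rw [hs]
        exact (mul_one t').symm
      · refine ⟨⊤, GrothendieckTopology.top_mem _ _, fun Z k _ => ⟨fun j => j.elim, fun i => ?_⟩⟩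
        have h0 : c PUnit.unit * (1 : (𝔛.Osh h𝔛.1).obj.obj (op V)) = 0 := by
          refine Eq.trans ?_ hc
          rw [Fintype.sum_unique]
          exact congrArg (c PUnit.unit * ·) (hs g).symm
        rw [mul_one] at h0
        obtain ⟨⟩ := i
        rw [h0, Fintype.sum_empty]
        exact map_zero ((𝔛.Osh h𝔛.1).obj.map k.op).hom
    haveI : EnoughInjectives (FSch.ModF 𝔛 h𝔛.1) := H10Coh.enoughInjectives_sheafOfModules _
    haveI : HasInjectiveResolutions (FSch.ModF 𝔛 h𝔛.1) := inferInstance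
    haveI : (FSch.pushF f h𝔛.1 h𝔜.1).IsRightAdjoint := (FSch.homMor f h𝔛.1 h𝔜.1).adj.isRightAdjoint
    haveI : PreservesFiniteLimits (FSch.pushF f h𝔛.1 h𝔜.1) := inferInstance
    haveI := hf.2
    exact H24FMod.isCohF_of_iso ((FSch.pushF f h𝔛.1 h𝔜.1).rightDerivedZeroIsoSelf.app (FSch.unitF 𝔛 h𝔛.1))
      (H24Formal3.CohRpush.isCohF_rpushF h𝔛 h𝔜 f _ 0 ⟨hf.1, inferInstance⟩ hu)

end Groth.Agent.S13643
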