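import Groth.Statements.S13644
import Groth.Agent.H24FMod.AlgPred
import Groth.Agent.H24FMod.Kernel

set_option autoImplicit false
set_option linter.style.haveILetI false
open CategoryTheory CategoryTheory.Limits AlgebraicGeometry
universe u
open FSch

attribute [-instance] CategoryTheory.catToReflQuiver
open AlgebraicGeometry Groth.Agent
namespace Groth.Agent.S13644

/-- Suppose A is a Noetherian ring that is adic with J as an ideal of definition, put Y = Spec A, and
take f : X ⟶ Y separated of finite type, with X̂ the completion of X along f⁻¹(V(J)). Say an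
O_X̂-module is algebraizable if it is isomorphic to the completion of some coherent O_X-module
having support proper over Y. Then, given any morphism u : 𝔉 ⟶ 𝔊 between algebraizable O_X̂-modules,
each of Ker(u), Im(u) and Coker(u) is again algebraizable. -/
theorem result (A : Type u) [CommRing A] [IsNoetherianRing A] (J : Ideal A) [IsAdicComplete J A]
    {X : Scheme.{u}} (f : X ⟶ Spec (CommRingCat.of A)) [IsSeparated f] [LocallyOfFiniteType f] [QuasiCompact f]
    (𝓘 : X.IdealSheafData) (h𝓘 : 𝓘 = (FSch.idealSpec A J).comap f)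
    (hX : (FSch.completionAlong X 𝓘).IsFormal)
    (𝔉 𝔊 : FSch.ModF (FSch.completionAlong X 𝓘) hX)
    (h𝔉 : (∃ G : X.Modules, Coh.IsCoh G ∧ ClSub.IsProperOver f (CohB1.support G) ∧
        Nonempty (𝔉 ≅ (FSch.complMod 𝓘 G).realMod hX)))
    (h𝔊 : (∃ G : X.Modules, Coh.IsCoh G ∧ ClSub.IsProperOver f (CohB1.support G) ∧
        Nonempty (𝔊 ≅ (FSch.complMod 𝓘 G).realMod hX))) (u : 𝔉 ⟶ 𝔊) :
    (∃ G : X.Modules, Coh.IsCoh G ∧ ClSub.IsProperOver f (CohB1.support G) ∧
        Nonempty (kernel u ≅ (FSch.complMod 𝓘 G).realMod hX)) ∧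
    (∃ G : X.Modules, Coh.IsCoh G ∧ ClSub.IsProperOver f (CohB1.support G) ∧
        Nonempty (Abelian.image u ≅ (FSch.complMod 𝓘 G).realMod hX)) ∧
    (∃ G : X.Modules, Coh.IsCoh G ∧ ClSub.IsProperOver f (CohB1.support G) ∧
        Nonempty (cokernel u ≅ (FSch.complMod 𝓘 G).realMod hX)) := by
  haveI : IsLocallyNoetherian X := LocallyOfFiniteType.isLocallyNoetherian f
  let hL := H24FSch.isLocNoethFormal_completionAlong X 𝓘
  have hF := H24FMod.Alg.cohProper A f hX (h𝔉 : H24FMod.Alg A f hX 𝔉)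
  have hG := H24FMod.Alg.cohProper A f hX (h𝔊 : H24FMod.Alg A f hX 𝔊)
  have hC := H24FMod.isCohF_cokernel u hF.1 hG.1
  exact ⟨H24FMod.Alg.of_mono h𝓘 (kernel.ι u) (H24FMod.isCohF_kernel hL hF.1 hG.1 u) h𝔉,
    H24FMod.Alg.of_mono h𝓘 (Abelian.image.ι u) (H24FMod.isCohF_kernel hL hG.1 hC (cokernel.π u)) h𝔊,
    H24FMod.Alg.of_epi h𝓘 (cokernel.π u) hC h𝔊⟩

end Groth.Agent.S13644
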