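import Groth.Statements.S13647
import Groth.Agent.H24FMod.PushIso
import Groth.Agent.H24FMod.AlgPred

set_option autoImplicit false
set_option linter.style.haveILetI false
open CategoryTheory CategoryTheory.Limits AlgebraicGeometry
universe u
open FSch

attribute [-instance] CategoryTheory.catToReflQuiver
open AlgebraicGeometry TopologicalSpace Groth.Agent
namespace Groth.Agent.S13647

/-- Suppose A is a Noetherian ring that is adic with J as an ideal of definition, and put Y = Spec A.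
Consider finite-type morphisms f : X ⟶ Y and h : Z ⟶ Y together with a proper Y-morphism g : Z ⟶ X.
Write X̂ and Ẑ for the completions along the preimages of V(J), and ĝ : Ẑ ⟶ X̂ for the map on
completions induced by g. A module on X̂ (resp. Ẑ) is termed algebraizable if it is isomorphic to
the completion of some coherent module on X (resp. Z) having support proper over Y. Under these
assumptions, whenever 𝔉 is an algebraizable O_Ẑ-module, its direct image ĝ_* 𝔉 is again an
algebraizable O_X̂-module. -/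
theorem result (A : Type u) [CommRing A] [IsNoetherianRing A]
    (J : Ideal A) [IsAdicComplete J A] {X Z : Scheme.{u}} (f : X ⟶ Spec (CommRingCat.of A))
    [LocallyOfFiniteType f] [QuasiCompact f] (h : Z ⟶ Spec (CommRingCat.of A)) [LocallyOfFiniteType h]
    [QuasiCompact h] (g : Z ⟶ X) (hg : g ≫ f = h) [IsProper g]
    (𝓘 : X.IdealSheafData) (h𝓘 : 𝓘 = (FSch.idealSpec A J).comap f)
    (𝓚 : Z.IdealSheafData) (h𝓚 : 𝓚 = (FSch.idealSpec A J).comap h)
    (hX : (FSch.completionAlong X 𝓘).IsFormal) (hZ : (FSch.completionAlong Z 𝓚).IsFormal)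
    (hpc : FSch.PowCompat g 𝓚 𝓘) (𝔉 : FSch.ModF (FSch.completionAlong Z 𝓚) hZ)
    (a𝔉 : (∃ G : Z.Modules, Coh.IsCoh G ∧ ClSub.IsProperOver h (CohB1.support G) ∧
        Nonempty (𝔉 ≅ (FSch.complMod 𝓚 G).realMod hZ))) :
    (∃ G : X.Modules, Coh.IsCoh G ∧ ClSub.IsProperOver f (CohB1.support G) ∧
        Nonempty ((FSch.pushF (FSch.completionMap g 𝓚 𝓘 hpc) hZ hX).obj 𝔉 ≅ (FSch.complMod 𝓘 G).realMod hX)) := by
  letI : X.Over (Spec (CommRingCat.of A)) := ⟨f⟩
  letI : Z.Over (Spec (CommRingCat.of A)) := ⟨h⟩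
  haveI : IsLocallyNoetherian X := LocallyOfFiniteType.isLocallyNoetherian f
  haveI : IsLocallyNoetherian Z := LocallyOfFiniteType.isLocallyNoetherian h
  haveI := H24FMod.isClosedImmersion_completionToX (𝓘 := 𝓘)
  haveI := H24FMod.isClosedImmersion_completionToX (𝓘 := 𝓚)
  obtain ⟨G, hG, hs, ⟨e⟩⟩ := a𝔉
  have hcl : IsClosed (g '' CohB1.support G) := g.isClosedMap _ (LeadProper.isClosed_support G hG.1 hG.2)
  have hP := LeadProper.isProperOver_image f g hg hs fun T i hi _ => inferInstance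
  have hC := H24GE.isCoh_pushforward g hG
  have hsub : CohB1.support ((Scheme.Modules.pushforward g).obj G) ⊆ g '' CohB1.support G := fun x hx => by
    by_contra hx'
    refine hx (subsingleton_of_forall_eq 0 fun a => ?_)
    obtain ⟨U, hxU, s, rfl⟩ := TopCat.Presheaf.exists_germ_eq ((Scheme.Modules.pushforward g).obj G).presheaf a
    let V : X.Opens := U ⊓ ⟨(g '' CohB1.support G)ᶜ, hcl.isOpen_compl⟩
    haveI : Subsingleton Γ(G, g ⁻¹ᵁ V) := H24FMod.subsingleton_sections_of_disjoint G _ fun y hy hy' => hy.2 ⟨y, hy', rfl⟩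
    rw [← TopCat.Presheaf.germ_res_apply _ (homOfLE (inf_le_left : V ≤ U)) x ⟨hxU, hx'⟩,
      Subsingleton.elim (α := Γ(G, g ⁻¹ᵁ V)) (((Scheme.Modules.pushforward g).obj G).presheaf.map (homOfLE (inf_le_left : V ≤ U)).op s) 0]
    exact map_zero _
  obtain ⟨e'⟩ := H24FMod.nonempty_pushF_iso (A := A) g (show g ≫ (X ↘ Spec (CommRingCat.of A)) = (Z ↘ Spec (CommRingCat.of A)) from hg) J (FSch.completionToX X 𝓘) (FSch.completionToX_comm X 𝓘)
    (FSch.complTransIso 𝓘) (fun _ => rfl) (H24FMod.ker_completionToX A J f h𝓘 rfl)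
    (FSch.completionToX Z 𝓚) (FSch.completionToX_comm Z 𝓚) (FSch.complTransIso 𝓚) (fun _ => rfl)
    (H24FMod.ker_completionToX A J h h𝓚 rfl) (FSch.completionMap g 𝓚 𝓘 hpc)
    (fun n => (Scheme.IdealSheafData.subschemeMap_subschemeι (𝓚 ^ (n + 1)) (𝓘 ^ (n + 1)) g (Scheme.IdealSheafData.le_map_iff_comap_le.mpr (hpc n))).symm)
    hX hZ G (IsNoetherian.noetherian J) hG
  exact ⟨_, hC, LeadProper.isProperOver_mono hP (LeadProper.isClosed_support _ hC.1 hC.2) hsub,
    ⟨(FSch.pushF (FSch.completionMap g 𝓚 𝓘 hpc) hZ hX).mapIso e ≪≫ e'⟩⟩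

end Groth.Agent.S13647
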