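import Groth.Statements.S13648
import Groth.Agent.H24Formal3.BaseChangeFF
import Groth.Agent.H24FSch.Sub
import Groth.Agent.H29Blow.Basic

set_option autoImplicit false
set_option linter.style.haveILetI false
open CategoryTheory CategoryTheory.Limits AlgebraicGeometry
universe u
open FSch

attribute [-instance] CategoryTheory.catToReflQuiver
open AlgebraicGeometry Groth.Agent
namespace Groth.Agent.S13648

/-- Let f : X ⟶ Y be a proper morphism of Noetherian schemes, 𝓘 an ideal of O_Y defining a closed subset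
Y', 𝓚 = 𝓘 O_X its inverse image, Ŷ and X̂ the completions along Y' and f⁻¹(Y'), f̂ : X̂ ⟶ Ŷ the
extension of f, j : Ŷ ⟶ Y and i : X̂ ⟶ X the canonical morphisms of ringed spaces, and F a coherent
O_X-module, so that F̂ = i^* F. Then for every n the completion (R^n f_* F)^ = j^*(R^n f_* F) is
isomorphic to R^n f̂_*(F̂) as an O_Ŷ-module. Only the existence of an isomorphism is asserted; the
published statement asserts that the canonical base-change morphism ρ_n of the square is an
isomorphism, moreover a homeomorphism. -/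
theorem result (X Y : Scheme.{u}) [IsNoetherian X]
    [IsNoetherian Y] (f : X ⟶ Y) [IsProper f] (𝓘 : Y.IdealSheafData) (𝓚 : X.IdealSheafData)
    (h𝓚 : 𝓚 = 𝓘.comap f) (hpc : FSch.PowCompat f 𝓚 𝓘) (hX : (FSch.completionAlong X 𝓚).IsFormal)
    (hY : (FSch.completionAlong Y 𝓘).IsFormal) [HasInjectiveResolutions X.Modules]
    [HasInjectiveResolutions (FSch.ModF (FSch.completionAlong X 𝓚) hX)] (F : X.Modules) (hF : Coh.IsCoh F)
    (n : ℕ) :
    Nonempty ((FSch.toSchemeMor (FSch.completionAlong Y 𝓘) hY (FSch.completionToX Y 𝓘) (FSch.completionToX_comm Y 𝓘)).pull.obj ((Coh.Rpush f n).obj F) ≅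
      (FSch.RpushF (FSch.completionMap f 𝓚 𝓘 hpc) hX hY n).obj ((FSch.toSchemeMor (FSch.completionAlong X 𝓚) hX (FSch.completionToX X 𝓚) (FSch.completionToX_comm X 𝓚)).pull.obj F)) := by
    subst h𝓚
    haveI : ∀ n, IsClosedImmersion (FSch.completionToX X (𝓘.comap f) n) := fun n =>
      inferInstanceAs (IsClosedImmersion ((𝓘.comap f) ^ (n + 1)).subschemeι)
    haveI : ∀ n, IsClosedImmersion (FSch.completionToX Y 𝓘 n) := fun n =>
      inferInstanceAs (IsClosedImmersion (𝓘 ^ (n + 1)).subschemeι)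
    have hker : ∀ {Z : Scheme.{u}} (J : Z.IdealSheafData) n (W : Z.Opens) (hW : IsAffineOpen W),
        RingHom.ker ((FSch.completionToX Z J n).app W).hom = (J.ideal ⟨W, hW⟩) ^ (n + 1) := fun J n W hW =>
      ((J ^ (n + 1)).ker_subschemeι_app ⟨W, hW⟩).trans (by rw [Scheme.IdealSheafData.ideal_pow, Pi.pow_apply])
    exact H24Formal3.BaseChangeFF.nonempty_bcIso (H24FSch.isLocNoethFormal_completionAlong X (𝓘.comap f))
      (FSch.completionToX X (𝓘.comap f)) (FSch.completionToX_comm X (𝓘.comap f)) (FSch.complTransIso (𝓘.comap f))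
      (fun _ => rfl) F hF (𝓘.comap f) (hker _) (H24FSch.isLocNoethFormal_completionAlong Y 𝓘) (FSch.completionToX Y 𝓘)
      (FSch.completionToX_comm Y 𝓘) (FSch.complTransIso 𝓘) (fun _ => rfl) 𝓘 (hker _) f
      (fun V hV W hW l => H29Blow.ideal_comap 𝓘 f ⟨V, hV⟩ ⟨W, hW⟩ l) (FSch.completionMap f (𝓘.comap f) 𝓘 hpc)
      ⟨H24FSch.isAdicHom_completionMap f 𝓘 hpc,
        MorphismProperty.of_isPullback (P := @IsProper) (H24FSch.isPullback_completionMap f 𝓘 hpc 0) inferInstance⟩
      (FSch.completionMap_sq f (𝓘.comap f) 𝓘 hpc) n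

end Groth.Agent.S13648
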