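import Groth.Statements.S13649
import Groth.Agent.H24Formal3.GlobalKill
import Groth.Agent.H24FSch.Sub
import Groth.Agent.H24FSch.Kernels

set_option autoImplicit false
set_option linter.style.haveILetI false
open CategoryTheory CategoryTheory.Limits AlgebraicGeometry Opposite TopologicalSpace
universe u
open FSch

attribute [-instance] CategoryTheory.catToReflQuiver
open AlgebraicGeometry Groth.Agent
namespace Groth.Agent.S13649

/-- Suppose X is a Noetherian (separated) scheme and 𝓘 is an ideal cutting out a closed subset X'. Take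
a proper morphism f : Z ⟶ X, write X̂ and Ẑ for the completions of X along X' and of Z along
f⁻¹(X'), and let f̂ : Ẑ ⟶ X̂ be the morphism extending f. Let 𝓜 be an ideal of O_X (automatically
coherent, since X is Noetherian), and write U for the open complement of the support of O_X/𝓜;
assume that over U the morphism f restricts to an isomorphism f⁻¹(U) ⟶ U. Given any coherent
O_X̂-module 𝔉, one can find n > 0 for which 𝓜̂^n = (𝓜^n) O_X̂ kills both the kernel and the cokernel
of the canonical map ρ_𝔉 : 𝔉 ⟶ f̂_* f̂^* 𝔉. The statement is phrased on the base of opens X̂ ∩ U'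
with U' an affine open of X: whenever s is a section of 𝓜^n over U', its image in Γ(X̂ ∩ U', O_X̂)
multiplies every section of Ker ρ_𝔉 and of Coker ρ_𝔉 over X̂ ∩ U' to zero. -/
theorem result (X Z : Scheme.{u}) [IsNoetherian X] [X.IsSeparated] (f : Z ⟶ X) [IsProper f]
    (𝓘 : X.IdealSheafData) (𝓚 : Z.IdealSheafData) (h𝓚 : 𝓚 = 𝓘.comap f) (hpc : FSch.PowCompat f 𝓚 𝓘)
    (hX : (FSch.completionAlong X 𝓘).IsFormal) (hZ : (FSch.completionAlong Z 𝓚).IsFormal)
    (𝓜 : X.IdealSheafData) (hU : IsIso (f ∣_ 𝓜.support.compl))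
    (𝔉 : FSch.ModF (FSch.completionAlong X 𝓘) hX) (h𝔉 : FSch.IsCohF _ hX 𝔉) :
    ∃ n : ℕ, 0 < n ∧
      ∀ (U : X.affineOpens) (s : Γ(X, ↑U)), s ∈ (𝓜 ^ n).ideal U →
        ∀ r : ((FSch.completionAlong X 𝓘).Osh hX).obj.obj (op ((FSch.completionToX X 𝓘 0) ⁻¹ᵁ (U : X.Opens))),
          r = (FSch.schSharp (FSch.completionAlong X 𝓘) hX (FSch.completionToX X 𝓘) (FSch.completionToX_comm X 𝓘)).hom.app (op (U : X.Opens)) s →
          (∀ x : ModSite.sect (kernel ((FSch.homMor (FSch.completionMap f 𝓚 𝓘 hpc) hZ hX).adj.unit.app 𝔉)) ((FSch.completionToX X 𝓘 0) ⁻¹ᵁ (U : X.Opens)), r • x = 0) ∧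
          (∀ x : ModSite.sect (cokernel ((FSch.homMor (FSch.completionMap f 𝓚 𝓘 hpc) hZ hX).adj.unit.app 𝔉)) ((FSch.completionToX X 𝓘 0) ⁻¹ᵁ (U : X.Opens)), r • x = 0) := by
    subst h𝓚
    haveI := LocallyOfFiniteType.isLocallyNoetherian f
    have hXh := H24FSch.isLocNoethFormal_completionAlong X 𝓘
    have hZh := H24FSch.isLocNoethFormal_completionAlong Z (𝓘.comap f)
    haveI : ∀ n, IsClosedImmersion (FSch.completionToX X 𝓘 n) := fun n =>
      inferInstanceAs (IsClosedImmersion ((𝓘 ^ (n + 1)).subschemeι))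
    let fh := FSch.completionMap f (𝓘.comap f) 𝓘 hpc
    have hcart := H24FSch.isPullback_completionMap f 𝓘 hpc
    have had : FSch.IsAdicHom fh := H24FSch.isAdicHom_completionMap f 𝓘 hpc
    haveI : IsProper ((fh : FSch.Hom _ _).app 0) := MorphismProperty.of_isPullback (hcart 0) ‹IsProper f›
    choose n hn using H24Formal3.AffineKill.exists_pow_kills hZ hX hZh hXh f (FSch.completionToX X 𝓘)
      (FSch.completionToX_comm X 𝓘) (FSch.completionToX Z (𝓘.comap f)) (FSch.completionToX_comm Z _) fh had hcart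
      𝓜 hU 𝔉 h𝔉
    obtain ⟨T, hT⟩ := isCompact_univ.elim_finite_subcover (fun A : X.affineOpens => (A.1 : Set X))
      (fun A => A.1.isOpen) (fun x _ => by
        obtain ⟨A, hA, hxA, -⟩ := exists_isAffineOpen_mem_and_subset (x := x) (U := (⊤ : X.Opens)) trivial
        exact Set.mem_iUnion.2 ⟨⟨A, hA⟩, hxA⟩)
    haveI : SheafOfModules.IsFinitePresentation (R := ModSite.ringSh ((FSch.completionAlong X 𝓘).Osh hX)) 𝔉 := h𝔉
    have hN : FSch.IsCohF _ hX ((FSch.pushF fh hZ hX).obj ((FSch.pullF fh hZ hX).obj 𝔉)) := by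
      haveI : EnoughInjectives (FSch.ModF (FSch.completionAlong Z (𝓘.comap f)) hZ) :=
        H10Coh.enoughInjectives_sheafOfModules _
      haveI : HasInjectiveResolutions (FSch.ModF (FSch.completionAlong Z (𝓘.comap f)) hZ) := inferInstance
      haveI : (FSch.pushF fh hZ hX).IsRightAdjoint := (FSch.homMor fh hZ hX).adj.isRightAdjoint
      haveI : PreservesFiniteLimits (FSch.pushF fh hZ hX) := inferInstance
      exact H24FMod.isCohF_of_iso ((FSch.pushF fh hZ hX).rightDerivedZeroIsoSelf.app _)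
        (H24Formal3.CohRpush.isCohF_rpushF hZh hXh fh _ 0 ⟨had, inferInstance⟩
          (H15Site.PullLocPres.isFinitePresentation_pull _ 𝔉))
    refine ⟨T.sup n + 1, Nat.succ_pos _, fun U s hs r hr => ?_⟩
    obtain ⟨h1, h2⟩ := H24Formal3.GlobalKill.smul_eq_zero hXh
      ((FSch.homMor fh hZ hX).adj.unit.app 𝔉) (FSch.completionToX X 𝓘) (FSch.completionToX_comm X 𝓘) h𝔉 hN
      (fun A : T => A.1) (fun x => by
        obtain ⟨A, hA, hxA⟩ := Set.mem_iUnion₂.1 (hT (Set.mem_univ x))
        exact ⟨⟨A, hA⟩, hxA⟩) (𝓜 ^ (T.sup n + 1))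
      (fun A a ha => hn A.1 a (Ideal.pow_le_pow_right ((Finset.le_sup A.2).trans (Nat.le_succ _))
        (by rwa [Scheme.IdealSheafData.ideal_pow] at ha))) U s hs
    subst hr
    exact ⟨h1, h2⟩

end Groth.Agent.S13649
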