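import Groth.Statements.S13651
import Groth.Agent.H24FMod.MonoEpi

set_option autoImplicit false
set_option linter.style.haveILetI false
open CategoryTheory CategoryTheory.Limits AlgebraicGeometry
universe u
open FSch

attribute [-instance] CategoryTheory.catToReflQuiver
open AlgebraicGeometry Groth.Agent
namespace Groth.Agent.S13651

/-- Let A be an adic Noetherian ring with ideal of definition J, Y = Spec A, f : X ⟶ Y of finite type
and closed (a closed map on underlying spaces), X̂ the completion of X along f⁻¹(V(J)), F and G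
coherent O_X-modules whose supports have intersection proper over Y, and u : F ⟶ G a homomorphism
with completion û : F̂ ⟶ Ĝ. Then û is injective (a monomorphism of O_X̂-modules) if and only if u is
injective, and û is surjective if and only if u is surjective. -/
theorem result (A : Type u) [CommRing A] [IsNoetherianRing A]
    (J : Ideal A) [IsAdicComplete J A] {X : Scheme.{u}} (f : X ⟶ Spec (CommRingCat.of A)) [LocallyOfFiniteType f]
    [QuasiCompact f] (hf : IsClosedMap f.base) (𝓘 : X.IdealSheafData) (h𝓘 : 𝓘 = (FSch.idealSpec A J).comap f)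
    (hX : (FSch.completionAlong X 𝓘).IsFormal) (F G : X.Modules) (hF : Coh.IsCoh F) (hG : Coh.IsCoh G)
    (hs : ClSub.IsProperOver f (CohB1.support F ∩ CohB1.support G)) (u : F ⟶ G) :
    (Mono (FSch.ModSys.realModMap hX (FSch.complModMap 𝓘 u)) ↔ Mono u) ∧
    (Epi (FSch.ModSys.realModMap hX (FSch.complModMap 𝓘 u)) ↔ Epi u) := by
  haveI : IsLocallyNoetherian X := LocallyOfFiniteType.isLocallyNoetherian f
  haveI := H24FMod.isClosedImmersion_completionToX (𝓘 := 𝓘)
  let hL := H24FSch.isLocNoethFormal_completionAlong X 𝓘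
  let c := FSch.completionToX X 𝓘
  let T := FSch.complTransIso 𝓘
  have hI : ∀ n (V : X.Opens) (hV : IsAffineOpen V), RingHom.ker ((c n).app V).hom = (𝓘.ideal ⟨V, hV⟩) ^ (n + 1) :=
    fun n V hV => ((𝓘 ^ (n + 1)).ker_subschemeι_app ⟨V, hV⟩).trans (by rw [Scheme.IdealSheafData.ideal_pow, Pi.pow_apply])
  have hme := H24FMod.mono_epi_cplM c T hL.1 (FSch.completionToX_comm X 𝓘) (fun _ => rfl) hI hF hG u
  have hz := H24FMod.isZero_of_mono_epi c T (FSch.completionToX_comm X 𝓘) (fun _ => rfl) hI hF hG u hL
  have key : ∀ (M : X.Modules), Coh.IsCoh M → IsZero ((H24FMod.pbSys c T M).realMod hL.1) → IsZero M := fun M hM hM0 =>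
    H24FMod.isZero_of_disjoint J f hf M hM fun x hx => by
      have hx' : x ∈ Set.range (c 0).base := by
        show x ∈ Set.range (𝓘 ^ (0 + 1)).subschemeι.base
        erw [Scheme.IdealSheafData.range_subschemeι]
        rw [zero_add, pow_one, h𝓘, Scheme.IdealSheafData.support_comap]
        exact hx
      obtain ⟨z, rfl⟩ := hx'
      exact H24FMod.disjoint_support_of_isZero c T hL hM hM0 z
  refine ⟨⟨fun hm => ?_, fun hm => hme.1 hm⟩, ⟨fun he => ?_, fun he => hme.2 he⟩⟩
  · exact Preadditive.mono_of_isZero_kernel u (key _ (H10Coh.isCoh_kernel u hF hG.1) (hz.1 hm))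
  · exact Preadditive.epi_of_isZero_cokernel u (key _ (H10Coh.isCoh_cokernel u hF.1 hG) (hz.2 he))

end Groth.Agent.S13651
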