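import Groth.Statements.S13663
import Groth.Agent.H11Misc.GrRingPieces

set_option autoImplicit false
universe u
open GrRing

namespace Groth.Agent.S13663

/-- Let A be a commutative ring graded by the integers whose ideal generated by the homogeneous elements
of positive degree has homogeneous generators f_1, …, f_p, of positive degrees d_1, …, d_p, and let
d be a positive integer divisible by each d_i. Then A_N = A_d · A_{N-d} for every integer N > dp -
(d_1 + ⋯ + d_p). -/
theorem result {R A : Type u} [CommRing R] [CommRing A] [Algebra R A]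
    (𝒜 : ℤ → Submodule R A) [GradedAlgebra 𝒜]
    {p : ℕ} (f : Fin p → A) (deg : Fin p → ℤ) (hdeg : ∀ i, 0 < deg i) (hf : ∀ i, f i ∈ 𝒜 (deg i))
    (hgen : Ideal.span {a : A | ∃ n : ℤ, 0 < n ∧ a ∈ 𝒜 n} = Ideal.span (Set.range f))
    (d : ℤ) (hd : 0 < d) (hdvd : ∀ i, deg i ∣ d) (N : ℤ) (hN : d * p - ∑ i, deg i < N) :
    𝒜 N = 𝒜 d * 𝒜 (N - d) := by
  exact Groth.Agent.H11Misc.GrRingPieces.piece_eq 𝒜 f deg hdeg hf hgen d hd hdvd N hN

end Groth.Agent.S13663
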