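import Groth.Statements.S13664
import Groth.Agent.H11Misc.GrRingPieces

set_option autoImplicit false
universe u
open GrRing

namespace Groth.Agent.S13664

/-- Let A be a commutative ring graded by the integers whose ideal I generated by the homogeneous
elements of positive degree has homogeneous generators f_1, …, f_p, of positive degrees d_1, …, d_p,
let d be a positive integer divisible by each d_i, and let x be an element of an A-module M. The
following are equivalent: x is annihilated by some power of I; x is annihilated by (A_d)^n for all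
sufficiently large n; there is an integer s such that A_n x = 0 for all n ≥ s. (The published
statement is for a homogeneous element of a graded module; this row drops both the grading of M and
the homogeneity of x, which play no role.) -/
theorem result {R A : Type u} [CommRing R] [CommRing A] [Algebra R A]
    (𝒜 : ℤ → Submodule R A) [GradedAlgebra 𝒜]
    {p : ℕ} (f : Fin p → A) (deg : Fin p → ℤ) (hdeg : ∀ i, 0 < deg i) (hf : ∀ i, f i ∈ 𝒜 (deg i))
    (hgen : Ideal.span {a : A | ∃ n : ℤ, 0 < n ∧ a ∈ 𝒜 n} = Ideal.span (Set.range f))
    (d : ℤ) (hd : 0 < d) (hdvd : ∀ i, deg i ∣ d)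
    {M : Type u} [AddCommGroup M] [Module A M] (x : M) :
    [x ∈ GrLC.gam (Ideal.span (Set.range f)) M,
     ∃ n₀ : ℕ, ∀ n : ℕ, n₀ ≤ n → ∀ r ∈ (𝒜 d) ^ n, r • x = 0,
     ∃ s : ℤ, ∀ n : ℤ, s ≤ n → ∀ r ∈ 𝒜 n, r • x = 0].TFAE := by
  exact Groth.Agent.H11Misc.GrRingPieces.tfae 𝒜 f deg hdeg hf hgen d hd hdvd x

end Groth.Agent.S13664
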