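import Groth.Statements.S13665
import Mathlib.RingTheory.GradedAlgebra.Homogeneous.Ideal
import Mathlib.RingTheory.FiniteType

set_option autoImplicit false
universe u
open GrRing

namespace Groth.Agent.S13665

/-- For a commutative ring A graded by the integers, with degree-zero subring A_0, the following are
equivalent: A is Noetherian; each homogeneous ideal of A has a finite generating set; A_0 is
Noetherian and the subalgebras A_{≥0}, A_{≤0} are each of finite type over A_0; A_0 is Noetherian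
and A is an A_0-algebra of finite type. -/
theorem result {R A : Type u} [CommRing R] [CommRing A] [Algebra R A]
    (𝒜 : ℤ → Submodule R A) [GradedAlgebra 𝒜] :
    [IsNoetherianRing A,
     ∀ I : Ideal A, I.IsHomogeneous 𝒜 → I.FG,
     IsNoetherianRing (𝒜 0) ∧ (Algebra.adjoin (𝒜 0) {a : A | ∃ n : ℤ, 0 ≤ n ∧ a ∈ 𝒜 n}).FG ∧
       (Algebra.adjoin (𝒜 0) {a : A | ∃ n : ℤ, n ≤ 0 ∧ a ∈ 𝒜 n}).FG,
     IsNoetherianRing (𝒜 0) ∧ Algebra.FiniteType (𝒜 0) A].TFAE := by
  classical
  tfae_have 1 → 2 := fun h I _ => (isNoetherianRing_iff_ideal_fg A).1 h I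
  tfae_have 4 → 1 := fun ⟨h0, hft⟩ => Algebra.FiniteType.isNoetherianRing (𝒜 0) A
  tfae_have 2 → 3 := by
    intro h
    -- each piece is finitely generated over degree zero
    have hpiece : ∀ n : ℤ, ∀ s : Set A, s ⊆ 𝒜 n → ∃ t : Finset A, (t : Set A) ⊆ s ∧
        ∀ a ∈ 𝒜 n, a ∈ Ideal.span s → ∃ c : A → A, (∀ x, c x ∈ 𝒜 0) ∧ a = ∑ x ∈ t, c x * x := by
      intro n s hs
      obtain ⟨t, hts, he⟩ := (Submodule.fg_span_iff_fg_span_finset_subset (R := A) s).1
        (h _ (Ideal.homogeneous_span 𝒜 s fun x hx => ⟨n, hs hx⟩))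
      refine ⟨t, hts, fun a ha has => ?_⟩
      have hat : a ∈ Ideal.span (t : Set A) := by
        change a ∈ Submodule.span A (t : Set A)
        rw [← he]
        exact has
      obtain ⟨c, -, hc⟩ := Submodule.mem_span_finset.1 hat
      refine ⟨fun x => (DirectSum.decompose 𝒜 (c x) 0 : A), fun x => (DirectSum.decompose 𝒜 (c x) 0).2, ?_⟩
      have := congrArg (GradedAlgebra.proj 𝒜 n) hc
      simp only [smul_eq_mul, map_sum, GradedAlgebra.proj_apply,
        DirectSum.decompose_of_mem_same 𝒜 ha] at this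
      rw [← this]
      refine Finset.sum_congr rfl fun x hx => ?_
      conv_lhs => rw [show n = 0 + n from (zero_add n).symm]
      rw [DirectSum.coe_decompose_mul_add_of_right_mem 𝒜 (hs (hts hx))]
    have h0 : IsNoetherianRing (𝒜 0) := by
      refine (isNoetherianRing_iff_ideal_fg _).2 fun J => ?_
      let s : Set A := Subtype.val '' (J : Set (𝒜 0))
      obtain ⟨t, hts, ht⟩ := hpiece 0 s (by rintro _ ⟨x, -, rfl⟩; exact x.2)
      choose u huJ hu using fun x : t => hts x.2
      refine ⟨Finset.univ.image u, le_antisymm ?_ ?_⟩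
      · rw [Submodule.span_le]
        intro z hz
        simp only [Finset.coe_image, Finset.coe_univ, Set.image_univ, Set.mem_range] at hz
        obtain ⟨x, rfl⟩ := hz
        exact huJ x
      · intro z hz
        obtain ⟨c, hc, he⟩ := ht z.1 z.2 (Ideal.subset_span ⟨z, hz, rfl⟩)
        have : z = ∑ x : t, (⟨c x.1, hc _⟩ : 𝒜 0) * u x := by
          apply Subtype.ext
          rw [he]
          rw [AddSubmonoidClass.coe_finsetSum]
          simp only [SetLike.GradeZero.coe_mul, hu]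
          exact (Finset.sum_coe_sort t fun x => c x * x).symm
        rw [this]
        exact sum_mem fun x _ => Ideal.mul_mem_left _ _ (Submodule.subset_span (by simp))
    have hmod : ∀ n : ℤ, ∃ t : Finset A, (∀ x ∈ t, x ∈ 𝒜 n) ∧
        ∀ a ∈ 𝒜 n, ∃ c : A → A, (∀ x, c x ∈ 𝒜 0) ∧ a = ∑ x ∈ t, c x * x := fun n => by
      obtain ⟨t, hts, ht⟩ := hpiece n (𝒜 n : Set A) subset_rfl
      exact ⟨t, hts, fun a ha => ht a ha (Ideal.subset_span ha)⟩
    have hside : ∀ e : ℤ, e ≠ 0 → (Algebra.adjoin (𝒜 0) {a : A | ∃ k : ℕ, a ∈ 𝒜 (e * k)}).FG := by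
      intro e he
      let P : Set A := {a : A | ∃ k : ℕ, 0 < k ∧ a ∈ 𝒜 (e * k)}
      obtain ⟨G, hGP, hG⟩ := (Submodule.fg_span_iff_fg_span_finset_subset (R := A) P).1
        (h _ (Ideal.homogeneous_span 𝒜 P fun x ⟨k, _, hx⟩ => ⟨e * k, hx⟩))
      choose dg hdg hgmem using fun g : G => hGP g.2
      obtain ⟨D, hD⟩ : ∃ D, ∀ g : G, dg g ≤ D := ⟨Finset.univ.sup dg, fun g => Finset.le_sup (Finset.mem_univ g)⟩
      choose T hTmem hT using fun k : ℕ => hmod (e * k)
      let gens : Finset A := G ∪ (Finset.range (D + 1)).biUnion T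
      refine ⟨gens, le_antisymm (Algebra.adjoin_le ?_) (Algebra.adjoin_le ?_)⟩
      · intro x hx
        simp only [gens, Finset.coe_union, Finset.coe_biUnion, Set.mem_union, Set.mem_iUnion] at hx
        rcases hx with hx | ⟨k, -, hx⟩
        · obtain ⟨k, -, hk⟩ := hGP hx
          exact Algebra.subset_adjoin ⟨k, hk⟩
        · exact Algebra.subset_adjoin ⟨k, hTmem k x hx⟩
      · rintro a ⟨k, ha⟩
        induction k using Nat.strong_induction_on generalizing a with
        | _ k ih =>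
          rcases Nat.lt_or_ge D k with hk | hk
          · have haG : a ∈ Ideal.span (G : Set A) := by
              change a ∈ Submodule.span A (G : Set A)
              rw [← hG]
              exact Ideal.subset_span ⟨k, lt_of_le_of_lt (Nat.zero_le D) hk, ha⟩
            obtain ⟨c, -, hc⟩ := Submodule.mem_span_finset.1 haG
            have := congrArg (GradedAlgebra.proj 𝒜 (e * k)) hc
            simp only [smul_eq_mul, map_sum, GradedAlgebra.proj_apply,
              DirectSum.decompose_of_mem_same 𝒜 ha] at this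
            rw [← this]
            refine sum_mem fun g hg => ?_
            have hlt : dg ⟨g, hg⟩ < k + 1 := by have := hD ⟨g, hg⟩; omega
            have hsplit : e * (k : ℤ) = e * ((k - dg ⟨g, hg⟩ : ℕ) : ℤ) + e * (dg ⟨g, hg⟩ : ℤ) := by
              rw [Nat.cast_sub (by omega)]; ring
            rw [hsplit, DirectSum.coe_decompose_mul_add_of_right_mem 𝒜 (hgmem ⟨g, hg⟩)]
            refine mul_mem (ih (k - dg ⟨g, hg⟩) ?_ (DirectSum.decompose 𝒜 (c g) _).2) (Algebra.subset_adjoin ?_)
            · have := hdg ⟨g, hg⟩; omega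
            · simp [gens, hg]
          · obtain ⟨c, hc, rfl⟩ := hT k a ha
            refine sum_mem fun x hx => mul_mem ?_ (Algebra.subset_adjoin ?_)
            · exact Subalgebra.algebraMap_mem _ (⟨c x, hc x⟩ : 𝒜 0)
            · simp only [gens, Finset.coe_union, Finset.coe_biUnion, Set.mem_union, Set.mem_iUnion]
              exact Or.inr ⟨k, by simpa using Nat.lt_succ_of_le hk, hx⟩
    refine ⟨h0, ?_, ?_⟩
    · convert hside 1 one_ne_zero using 3
      ext a
      exact ⟨fun ⟨n, hn, ha⟩ => ⟨n.toNat, by rwa [one_mul, Int.toNat_of_nonneg hn]⟩,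
        fun ⟨k, ha⟩ => ⟨k, Int.natCast_nonneg k, by rwa [one_mul] at ha⟩⟩
    · convert hside (-1) (by norm_num) using 3
      ext a
      exact ⟨fun ⟨n, hn, ha⟩ => ⟨(-n).toNat, by rwa [Int.toNat_of_nonneg (by omega), neg_one_mul, neg_neg]⟩,
        fun ⟨k, ha⟩ => ⟨-k, by omega, by rwa [neg_one_mul] at ha⟩⟩
  tfae_have 3 → 4 := by
    rintro ⟨h0, h1, h2⟩
    refine ⟨h0, ⟨?_⟩⟩
    have htop : (⊤ : Subalgebra (𝒜 0) A) = Algebra.adjoin (𝒜 0) {a : A | ∃ n : ℤ, 0 ≤ n ∧ a ∈ 𝒜 n} ⊔
        Algebra.adjoin (𝒜 0) {a : A | ∃ n : ℤ, n ≤ 0 ∧ a ∈ 𝒜 n} := by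
      refine (eq_top_iff.2 fun a _ => ?_).symm
      rw [← DirectSum.sum_support_decompose 𝒜 a]
      refine sum_mem fun i _ => ?_
      rcases le_total 0 i with hi | hi
      · exact (le_sup_left (α := Subalgebra (𝒜 0) A)) (Algebra.subset_adjoin ⟨i, hi, (DirectSum.decompose 𝒜 a i).2⟩)
      · exact (le_sup_right (α := Subalgebra (𝒜 0) A)) (Algebra.subset_adjoin ⟨i, hi, (DirectSum.decompose 𝒜 a i).2⟩)
    rw [htop]
    exact h1.sup h2
  tfae_finish

end Groth.Agent.S13665
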