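import Groth.Statements.S1368
import Groth.Agent.H7Flat.Chain.RelAssScheme
import Mathlib

set_option autoImplicit false
universe u
open FlatMor

namespace Groth.Agent.S1368

set_option backward.isDefEq.respectTransparency false
set_option maxHeartbeats 1000000

open AlgebraicGeometry CategoryTheory Limits in
/-- Let f be of finite type with irreducible target, F a quasi-coherent module of finite type on the
source and U an open of the source. If the associated points of F restricted to the generic fibre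
all lie in U, then over some nonempty open of the target the associated points of F restricted to
every fibre lie in U. -/
theorem result {X Y : Scheme.{u}} (f : X ⟶ Y) [IrreducibleSpace ↑Y] [LocallyOfFiniteType f] [QuasiCompact f]
    (F : X.Modules) (hF : Coh.IsCoh F) (U : X.Opens)
    (h : ∀ x ∈ MoreMor.relAss f F, f x = genericPoint ↑Y → x ∈ U) :
    ∃ V : Y.Opens, (V : Set ↑Y).Nonempty ∧ ∀ x ∈ MoreMor.relAss f F, f x ∈ V → x ∈ U := by
  classical
  obtain ⟨V, hV, hyV, -⟩ := exists_isAffineOpen_mem_and_subset (X := Y) (x := genericPoint ↑Y) (U := ⊤) trivial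
  let t₀ := hV.primeIdealOf ⟨genericPoint ↑Y, hyV⟩
  have ht₀ : ∀ t : PrimeSpectrum Γ(Y, V), t₀.asIdeal ≤ t.asIdeal := fun t => by
    show t₀ ≤ t
    refine (PrimeSpectrum.le_iff_specializes _ _).mpr (hV.fromSpec.isOpenEmbedding.isEmbedding.specializes_iff.mp ?_)
    rw [hV.fromSpec_primeIdealOf]
    exact (genericPoint_spec ↑Y).specializes (Set.mem_univ _)
  obtain ⟨s, hs, hW⟩ := (isCompact_and_isOpen_iff_finite_and_eq_biUnion_affineOpens
    (X := X) (U := f ⁻¹ᵁ V)).mp ⟨f.isCompact_preimage hV.isCompact, (f ⁻¹ᵁ V).2⟩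
  have hle : ∀ W ∈ s, (W : X.Opens) ≤ f ⁻¹ᵁ V := fun W hW' x hx ↦
    hW.ge (Set.mem_biUnion hW' hx)
  haveI : Finite s := hs
  have hcov : ∀ x : X, f x ∈ V → ∃ W : s, x ∈ (W.1 : X.Opens) := fun x hx => by
    obtain ⟨W, hW', hxW⟩ := Set.mem_iUnion₂.mp (hW.le (show x ∈ (f ⁻¹ᵁ V : Set X) from hx))
    exact ⟨⟨W, hW'⟩, hxW⟩
  have hloc : ∀ W : s, ∃ a : Γ(Y, V), a ∉ t₀.asIdeal ∧ ∀ z : V, a ∉ (hV.primeIdealOf z).asIdeal →
      ∀ x ∈ MoreMor.relAss f F, f x = z.1 → x ∈ (W.1 : X.Opens) → x ∈ U := by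
    intro W
    letI : Algebra Γ(Y, V) Γ(X, W.1.1) := (f.appLE V W.1.1 (hle W.1 W.2)).hom.toAlgebra
    letI : Module Γ(Y, V) Γ(F, W.1.1) := Module.compHom _ (algebraMap Γ(Y, V) Γ(X, W.1.1))
    haveI : IsScalarTower Γ(Y, V) Γ(X, W.1.1) Γ(F, W.1.1) := IsScalarTower.of_algebraMap_smul fun _ _ => rfl
    haveI : Algebra.FiniteType Γ(Y, V) Γ(X, W.1.1) := f.finiteType_appLE hV W.1.2 (hle W.1 W.2)
    haveI : Module.Finite Γ(X, W.1.1) Γ(F, W.1.1) := @H10Coh.finite_sections _ F hF.1 hF.2 _ W.1.2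
    have hG := fun x : W.1.1 => H7Flat.Chain.RelAss.mem_iff_exists_basicOpen_le U W.1.2 x
    have h0 := (H7Flat.Chain.RelAss.forall_mem_open_iff f F hF.1 hV W.1.2 (hle W.1 W.2) U _ hG rfl
      ⟨genericPoint ↑Y, hyV⟩).mp fun x hx hxe _ => h x hx hxe
    obtain ⟨a, ha, hnear⟩ := H7Flat.Chain.exists_avoid_near Γ(F, W.1.1) _ t₀ ht₀ h0
    exact ⟨a, ha, fun z hz => (H7Flat.Chain.RelAss.forall_mem_open_iff f F hF.1 hV W.1.2 (hle W.1 W.2) U _ hG rfl z).mpr
      (hnear _ hz)⟩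
  choose a ha hagood using hloc
  haveI : Fintype s := Fintype.ofFinite s
  let b := ∏ W, a W
  have hb : b ∉ t₀.asIdeal := fun hm => by
    obtain ⟨W, -, hW'⟩ := Ideal.IsPrime.prod_mem_iff.mp hm
    exact ha W hW'
  refine ⟨Y.basicOpen b, ⟨genericPoint ↑Y, (H7Flat.Chain.RelAss.exists_mem_iff hV b ⟨_, hyV⟩).mpr hb⟩,
    fun x hx hxb => ?_⟩
  have hxV : f x ∈ V := Y.basicOpen_le b hxb
  obtain ⟨W, hxW⟩ := hcov x hxV
  refine hagood W ⟨f x, hxV⟩ (fun hm => ?_) x hx rfl hxW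
  exact (H7Flat.Chain.RelAss.exists_mem_iff hV b ⟨_, hxV⟩).mp hxb
    (Ideal.IsPrime.prod_mem_iff.mpr ⟨W, Finset.mem_univ _, hm⟩)

end Groth.Agent.S1368
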