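import Groth.Statements.S13682
import Mathlib.Algebra.BigOperators.Fin
import Mathlib.Algebra.Module.BigOperators
import Mathlib.Algebra.Ring.NonZeroDivisors
import Mathlib.Tactic.Ring


set_option autoImplicit false
universe u v w
open scoped BigOperators
open BTGrp

namespace Groth.Agent.S13682

theorem telescope {A : Type u} [CommRing A] : ∀ {r : ℕ} (a b : Fin r → A),
    (∑ i : Fin r, ∏ k, if k < i then b k else if k = i then b k - a k else a k) =
      ∏ k, b k - ∏ k, a k
  | 0, a, b => by simp
  | r + 1, a, b => by
    have := telescope (fun k : Fin r => a k.succ) (fun k => b k.succ)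
    rw [Fin.sum_univ_succ]
    simp only [Fin.prod_univ_succ, Fin.succ_pos, if_true, Fin.not_lt_zero, if_false,
      Fin.succ_lt_succ_iff, Fin.succ_inj, Fin.succ_ne_zero, ← Finset.mul_sum, this]
    ring

theorem scalar {A : Type u} [CommRing A] (α : A) (hα : α ∈ nonZeroDivisors A) {r : ℕ} (n : ℕ)
    (y w : Fin r → ℕ → A) (hw : ∀ i, ∀ j < n, w i (j + 1) = w i j + α * y i j) :
    (∑ i : Fin r, ∑ j ∈ Finset.range n,
        ∏ k, if k < i then w k (j + 1) else if k = i then y k j else w k j) =
      ∑ i : Fin r, ∑ j ∈ Finset.range n,
        ∏ k, if k < i then w k n else if k = i then y k j else w k 0 := by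
  apply isLeftRegular_iff_mem_nonZeroDivisorsLeft.mpr (mem_nonZeroDivisors_iff.mp hα).1
  show α * _ = α * _
  have hsplit : ∀ (i : Fin r) (u v c : Fin r → A),
      α * (∏ k, if k < i then u k else if k = i then c k else v k) =
        ∏ k, if k < i then u k else if k = i then α * c k else v k := by
    intro i u v c
    rw [← Finset.mul_prod_erase Finset.univ _ (Finset.mem_univ i),
      ← Finset.mul_prod_erase Finset.univ _ (Finset.mem_univ i), ← mul_assoc]
    simp only [lt_irrefl, if_false, if_true]
    congr 1
    refine Finset.prod_congr rfl fun k hk => ?_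
    simp [Finset.ne_of_mem_erase hk]
  simp only [Finset.mul_sum, hsplit]
  rw [Finset.sum_comm]
  have h1 : ∀ j ∈ Finset.range n, (∑ i : Fin r,
      ∏ k, if k < i then w k (j + 1) else if k = i then α * y k j else w k j) =
      ∏ k, w k (j + 1) - ∏ k, w k j := by
    intro j hj
    rw [← telescope (fun k => w k j) (fun k => w k (j + 1))]
    refine Finset.sum_congr rfl fun i _ => Finset.prod_congr rfl fun k _ => ?_
    simp [hw k j (Finset.mem_range.mp hj)]
  rw [Finset.sum_congr rfl h1, Finset.sum_range_sub (fun j => ∏ k, w k j),
    ← telescope (fun k => w k 0) (fun k => w k n)]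
  refine Finset.sum_congr rfl fun i _ => ?_
  have h2 : ∀ c : A, (∏ k, if k < i then w k n else if k = i then c else w k 0) =
      c * ∏ k ∈ Finset.univ.erase i, if k < i then w k n else w k 0 := by
    intro c
    rw [← Finset.mul_prod_erase Finset.univ _ (Finset.mem_univ i)]
    simp only [lt_irrefl, if_false, if_true]
    congr 1
    refine Finset.prod_congr rfl fun k hk => ?_
    simp [Finset.ne_of_mem_erase hk]
  have h3 : ∀ (c : Fin r → A), (∏ k, if k < i then w k n else if k = i then c k else w k 0) =
      ∏ k, if k < i then w k n else if k = i then c i else w k 0 := by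
    intro c
    refine Finset.prod_congr rfl fun k _ => ?_
    split_ifs with _ h <;> simp_all
  rw [h3]
  simp only [fun j => h3 (fun k => α * y k j), h2, ← Finset.sum_mul]
  congr 1
  have : ∀ j ∈ Finset.range n, α * y i j = w i (j + 1) - w i j := fun j hj => by
    rw [hw i j (Finset.mem_range.mp hj)]; ring
  rw [Finset.sum_congr rfl this, Finset.sum_range_sub (w i)]


/-- Let A be a commutative ring, α ∈ A a non-zero-divisor, M_1, …, M_r and N modules over A and φ : M_1
× ⋯ × M_r → N an A-multilinear map. Let n be a natural number and let y_{i,j} (j < n) and w_{i,j} (j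
≤ n) be elements of M_i with w_{i,j+1} = w_{i,j} + α y_{i,j} for all i and all j < n. Then Σ_i
Σ_{j<n} φ(w_{1,j+1}, …, w_{i-1,j+1}, y_{i,j}, w_{i+1,j}, …, w_{r,j}) = Σ_i Σ_{j<n} φ(w_{1,n}, …,
w_{i-1,n}, y_{i,j}, w_{i+1,0}, …, w_{r,0}). (The published statement takes n ≥ 1; for n = 0 both
sides are empty sums. The families y, w are indexed by all natural numbers here and only the indices
named above enter.) -/
theorem result {A : Type u} [CommRing A] (α : A) (hα : α ∈ nonZeroDivisors A)
    {r : ℕ} (M : Fin r → Type v) (N : Type w) [∀ i, AddCommGroup (M i)] [∀ i, Module A (M i)]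
    [AddCommGroup N] [Module A N] (φ : MultilinearMap A M N) (n : ℕ)
    (y w : ∀ i, ℕ → M i) (hw : ∀ i, ∀ j < n, w i (j + 1) = w i j + α • y i j) :
    (∑ i : Fin r, ∑ j ∈ Finset.range n,
        φ (fun k => if k < i then w k (j + 1) else if k = i then y k j else w k j)) =
      ∑ i : Fin r, ∑ j ∈ Finset.range n,
        φ (fun k => if k < i then w k n else if k = i then y k j else w k 0) := by
  classical
  let v : ∀ i, Option (Fin n) → M i := fun i o => o.elim (w i 0) (fun l => y i l.1)
  let Y : Fin r → ℕ → Option (Fin n) → A := fun i j o => o.elim 0 (fun l => if l.1 = j then 1 else 0)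
  let W : Fin r → ℕ → Option (Fin n) → A :=
    fun i j o => o.elim 1 (fun l => if l.1 < j then α else 0)
  have hy : ∀ i, ∀ j < n, y i j = ∑ o, Y i j o • v i o := by
    intro i j hj
    simp [Y, v, Fintype.sum_option]
    rw [Finset.sum_eq_single (⟨j, hj⟩ : Fin n)] <;> simp
    intro b hb h
    exact absurd (Fin.ext h) hb
  have hW : ∀ i, ∀ j ≤ n, w i j = ∑ o, W i j o • v i o := by
    intro i j
    induction j with
    | zero => simp [W, v, Fintype.sum_option]
    | succ j ih =>
      intro hj
      rw [hw i j (by omega), ih (by omega), hy i j (by omega), Finset.smul_sum,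
        ← Finset.sum_add_distrib]
      refine Finset.sum_congr rfl fun o _ => ?_
      rw [smul_smul, ← add_smul]
      congr 1
      rcases o with _ | l
      · simp [W, Y]
      · simp only [W, Y, Option.elim]
        split_ifs <;> first | omega | simp_all
  have expand : ∀ c : Fin r → Option (Fin n) → A,
      φ (fun i => ∑ o, c i o • v i o) =
        ∑ K : Fin r → Option (Fin n), (∏ i, c i (K i)) • φ (fun i => v i (K i)) := by
    intro c
    rw [φ.map_sum]
    exact Finset.sum_congr rfl fun K _ => φ.map_smul_univ _ _
  have hL : ∀ (i : Fin r) (a b c : ℕ), a ≤ n → b ≤ n → c < n →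
      φ (fun k => if k < i then w k a else if k = i then y k c else w k b) =
        ∑ K : Fin r → Option (Fin n),
          (∏ k, if k < i then W k a (K k) else if k = i then Y k c (K k) else W k b (K k)) •
            φ (fun k => v k (K k)) := by
    intro i a b c ha hb hc
    have := expand (fun k o => if k < i then W k a o else if k = i then Y k c o else W k b o)
    rw [← this]
    congr 1
    funext k
    split_ifs
    · exact hW k a ha
    · exact hy k c hc
    · exact hW k b hb
  rw [Finset.sum_congr rfl fun i _ => Finset.sum_congr rfl fun j hj =>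
      hL i (j + 1) j j (Finset.mem_range.mp hj) (Finset.mem_range.mp hj).le (Finset.mem_range.mp hj),
    Finset.sum_congr rfl fun i _ => Finset.sum_congr rfl fun j hj =>
      hL i n 0 j le_rfl (Nat.zero_le n) (Finset.mem_range.mp hj)]
  simp only [Finset.sum_comm (s := Finset.range n) (t := Finset.univ (α := Fin r → Option (Fin n)))]
  rw [Finset.sum_comm]
  conv_rhs => rw [Finset.sum_comm]
  refine Finset.sum_congr rfl fun K _ => ?_
  simp only [← Finset.sum_smul]
  congr 1
  refine scalar α hα n (fun k j => Y k j (K k)) (fun k j => W k j (K k)) ?_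
  intro i j hj
  rcases K i with _ | l
  · simp [W, Y]
  · simp only [W, Y, Option.elim]
    split_ifs <;> first | omega | simp_all

end Groth.Agent.S13682
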