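import Groth.Statements.S13683


set_option autoImplicit false
universe u v
open BTGrp

namespace Groth.Agent.S13683

theorem VFiter {A : Type u} [AddCommGroup A] (p : ℕ) (F V : A →+ A) (h : ∀ x, V (F x) = p • x) :
    ∀ (n : ℕ) (x : A), (⇑V)^[n] ((⇑F)^[n] x) = p ^ n • x
  | 0, x => by simp
  | n + 1, x => by
    rw [Function.iterate_succ_apply' F, Function.iterate_succ_apply, h, iterate_map_nsmul,
      VFiter p F V h n x, ← mul_nsmul', pow_succ, Nat.mul_comm]


/-- Let p be a natural number and r ≥ 1; let M_1, …, M_r and N be abelian groups carrying additive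
endomorphisms F_i, V_i (on M_i) and F_0, V_0 (on N) with V_i ∘ F_i and V_0 ∘ F_0 equal to
multiplication by p and V_0 injective; let φ : M_1 × ⋯ × M_r → N be additive in each variable with
φ(V_1 x_1, …, V_r x_r) = V_0 φ(x_1, …, x_r). If y_i, z_i ∈ M_i satisfy F_i^N z_i = V_i^M y_i for all
i, then for every d ∈ N^r one has F_0^N (p^{(r-1)N} φ(V_1^{d_1} z_1, …, V_r^{d_r} z_r)) = V_0^M
φ(V_1^{d_1} y_1, …, V_r^{d_r} y_r). (The published statement is the case of Dieudonné modules over a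
perfect field of characteristic p, with F and V the Frobenius and Verschiebung and φ a multilinear
morphism of the associated displays; only the structure listed here enters its proof. For r = 0 the
assertion fails, so r ≥ 1 is required.) -/
theorem result (p : ℕ) {r : ℕ} (hr : 0 < r)
    (M : Fin r → Type u) (N : Type v) [∀ i, AddCommGroup (M i)] [AddCommGroup N]
    (F V : ∀ i, M i →+ M i) (F₀ V₀ : N →+ N)
    (hVF : ∀ i (x : M i), V i (F i x) = p • x) (hVF₀ : ∀ x : N, V₀ (F₀ x) = p • x)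
    (hV₀ : Function.Injective V₀)
    (φ : MultilinearMap ℤ M N) (hφ : ∀ x : ∀ i, M i, φ (fun i => V i (x i)) = V₀ (φ x))
    (Nn Mm : ℕ) (d : Fin r → ℕ) (y z : ∀ i, M i)
    (hyz : ∀ i, (⇑(F i))^[Nn] (z i) = (⇑(V i))^[Mm] (y i)) :
    (⇑F₀)^[Nn] (p ^ ((r - 1) * Nn) • φ (fun i => (⇑(V i))^[d i] (z i))) =
      (⇑V₀)^[Mm] (φ (fun i => (⇑(V i))^[d i] (y i))) := by
  apply hV₀.iterate Nn
  have hiter : ∀ (k : ℕ) (x : ∀ i, M i),
      φ (fun i => (⇑(V i))^[k] (x i)) = (⇑V₀)^[k] (φ x) := by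
    intro k
    induction k with
    | zero => simp
    | succ k ih =>
      intro x
      simp only [Function.iterate_succ_apply']
      rw [hφ, ih]
  rw [VFiter p F₀ V₀ hVF₀ Nn]
  have h1 : ((⇑V₀)^[Nn] ((⇑V₀)^[Mm] (φ fun i => (⇑(V i))^[d i] (y i)))) =
      φ (fun i => p ^ Nn • (⇑(V i))^[d i] (z i)) := by
    rw [← hiter, ← hiter]
    congr 1
    funext i
    rw [← Function.iterate_add_apply, ← Function.iterate_add_apply,
      show Nn + Mm + d i = d i + (Nn + Mm) by omega, Function.iterate_add_apply,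
      Function.iterate_add_apply (⇑(V i)) Nn Mm, ← hyz,
      VFiter p (F i) (V i) (hVF i) Nn, iterate_map_nsmul]
  rw [h1]
  have h2 := φ.map_smul_univ (fun _ => (p : ℤ) ^ Nn) (fun i => (⇑(V i))^[d i] (z i))
  simp only [Finset.prod_const, Finset.card_univ, Fintype.card_fin, ← pow_mul, ← Nat.cast_pow,
    natCast_zsmul] at h2
  rw [h2, ← mul_nsmul', ← pow_add]
  congr 2
  obtain ⟨r, rfl⟩ := Nat.exists_eq_succ_of_ne_zero hr.ne'
  simp [Nat.succ_eq_add_one, Nat.mul_comm, Nat.succ_mul, Nat.mul_succ, Nat.add_comm]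

end Groth.Agent.S13683
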