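import Groth.Statements.S13685
import Mathlib

set_option autoImplicit false
universe u v w
open Disp

namespace Groth.Agent.S13685

/-- Let p be a prime, R a commutative ring, W its ring of p-typical Witt vectors, D = (P, Q, F, V⁻¹) a
3n-display over R with a normal decomposition P = L ⊕ T, Q = L + I_R T in which T is free of rank
one over W, and E the 3n-display structure on ⋀^r P whose distinguished submodule is spanned by the
wedges of elements of Q and whose V⁻¹ sends q_1 ∧ ⋯ ∧ q_r to V⁻¹q_1 ∧ ⋯ ∧ V⁻¹q_r. Then the wedge map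
λ : P^r → ⋀^r P is an alternating multilinear morphism of 3n-displays from D to E, and for every
3n-display D' = (P', Q', F', V'⁻¹) and every alternating multilinear morphism of 3n-displays φ : P^r
→ P' (W-multilinear alternating, φ(Q^r) ⊆ Q', V'⁻¹(φ(q)) = φ(V⁻¹q_1, …, V⁻¹q_r), F'(φ(q_1, …, x_i,
…, q_r)) = φ(V⁻¹q_1, …, F x_i, …, V⁻¹q_r)) there is a unique W-linear ψ : ⋀^r P → P' that is a
morphism of 3n-displays from E to D' (ψ maps E's submodule into Q' and commutes with F and V⁻¹) with
ψ ∘ λ = φ. (The published statement has T projective of rank one; this row takes T free of rank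
one.) -/
theorem result (p : ℕ) [Fact p.Prime] (R : Type u) [CommRing R]
    (P : Type v) [AddCommGroup P] [Module (WittVector p R) P] (D : W4c1extbt610.Display3n p R P)
    (hT : ∃ L T : Submodule (WittVector p R) P, IsCompl L T ∧ D.Q = L ⊔ W4c1extbt610.IV p R • T ∧
      Nonempty (T ≃ₗ[WittVector p R] WittVector p R))
    (r : ℕ) (E : W4c1extbt610.Display3n p R (⋀[WittVector p R]^r P)) (hE : W4c1extbt610.IsExtPow D r E) :
    W4c1extbt610.IsAltMult D E (exteriorPower.ιMulti (WittVector p R) r) ∧
      ∀ (P' : Type w) [AddCommGroup P'] [Module (WittVector p R) P'] (D' : W4c1extbt610.Display3n p R P')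
        (φ : P [⋀^Fin r]→ₗ[WittVector p R] P'), W4c1extbt610.IsAltMult D D' φ →
        ∃! ψ : ⋀[WittVector p R]^r P →ₗ[WittVector p R] P',
          W4c1extbt610.IsHom E D' ψ ∧ ψ.compAlternatingMap (exteriorPower.ιMulti (WittVector p R) r) = φ := by
  classical
  have hV : ∀ {M : Type max u v} [AddCommGroup M] [Module (WittVector p R) M] (G : W4c1extbt610.Display3n p R M)
      (x : M) (h : WittVector.verschiebung (1 : WittVector p R) • x ∈ G.Q), G.Vinv ⟨_, h⟩ = G.F x :=
    fun G x h => (G.Vinv_verschiebung_smul 1 x).trans (one_smul _ _)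
  have hVD : ∀ (x : P) (h : WittVector.verschiebung (1 : WittVector p R) • x ∈ D.Q), D.Vinv ⟨_, h⟩ = D.F x :=
    fun x h => (D.Vinv_verschiebung_smul 1 x).trans (one_smul _ _)
  have hmem : ∀ q : Fin r → D.Q, exteriorPower.ιMulti (WittVector p R) r (fun i => (q i : P)) ∈ E.Q :=
    fun q => hE.1 ▸ Submodule.subset_span ⟨q, rfl⟩
  refine ⟨⟨hmem, fun q => hE.2 q (hmem q), fun i x q => ?_⟩, ?_⟩
  · have hx : WittVector.verschiebung (1 : WittVector p R) • x ∈ D.Q :=
      D.IV_smul_le (Submodule.smul_mem_smul (W4c1extbt610.verschiebung_mem_IV p R 1) Submodule.mem_top)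
    let q' : Fin r → D.Q := Function.update q i ⟨_, hx⟩
    have e1 : (fun j => (q' j : P)) =
        Function.update (fun j => (q j : P)) i (WittVector.verschiebung (1 : WittVector p R) • x) := by
      funext j; by_cases hj : j = i <;> simp [q', hj]
    have e2 : (fun j => D.Vinv (q' j)) = Function.update (fun j => D.Vinv (q j)) i (D.F x) := by
      funext j; by_cases hj : j = i <;> simp [q', hj, hVD x hx]
    have h1 := hE.2 q' (hmem q')
    rw [e2] at h1
    rw [← h1, ← hV E _ (E.IV_smul_le (Submodule.smul_mem_smul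
      (W4c1extbt610.verschiebung_mem_IV p R 1) Submodule.mem_top))]
    congr 1
    refine Subtype.ext ?_
    show _ = exteriorPower.ιMulti (WittVector p R) r fun j => (q' j : P)
    rw [e1, AlternatingMap.map_update_smul]
  · intro P' _ _ D' φ hφ
    let ψ := exteriorPower.alternatingMapLinearEquiv φ
    have hψ : ∀ a, ψ (exteriorPower.ιMulti (WittVector p R) r a) = φ a := fun a =>
      exteriorPower.alternatingMapLinearEquiv_apply_ιMulti φ a
    have maps : ∀ z : ⋀[WittVector p R]^r P, z ∈ E.Q → ψ z ∈ D'.Q := by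
      intro z hz
      rw [hE.1] at hz
      induction hz using Submodule.span_induction with
      | mem x hx => obtain ⟨q, rfl⟩ := hx; rw [hψ]; exact hφ.mapsTo q
      | zero => rw [map_zero]; exact zero_mem _
      | add a b _ _ ha hb => rw [map_add]; exact add_mem ha hb
      | smul c a _ ha => rw [map_smul]; exact Submodule.smul_mem _ _ ha
    have commV : ∀ z : E.Q, ψ (E.Vinv z) = D'.Vinv ⟨ψ z, maps z z.2⟩ := by
      rintro ⟨z, hz⟩
      have hz' := hz
      rw [hE.1] at hz'
      induction hz' using Submodule.span_induction with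
      | mem x hx =>
        obtain ⟨q, rfl⟩ := hx
        rw [hE.2 q hz, hψ, ← hφ.vCond q]
        congr 1
        exact Subtype.ext (hψ _).symm
      | zero =>
        rw [show (⟨0, hz⟩ : E.Q) = 0 from rfl, map_zero, map_zero]
        exact ((congrArg D'.Vinv (Subtype.ext (map_zero ψ))).trans (map_zero D'.Vinv)).symm
      | add a b ha hb iha ihb =>
        have ha' : a ∈ E.Q := hE.1 ▸ ha
        have hb' : b ∈ E.Q := hE.1 ▸ hb
        rw [show (⟨a + b, hz⟩ : E.Q) = ⟨a, ha'⟩ + ⟨b, hb'⟩ from rfl, map_add, map_add, iha ha', ihb hb',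
          ← map_add D'.Vinv]
        exact congrArg D'.Vinv (Subtype.ext (map_add ψ a b).symm)
      | smul c a ha iha =>
        have ha' : a ∈ E.Q := hE.1 ▸ ha
        rw [show (⟨c • a, hz⟩ : E.Q) = c • ⟨a, ha'⟩ from rfl, LinearMap.map_smulₛₗ, map_smul, iha ha',
          ← LinearMap.map_smulₛₗ D'.Vinv]
        exact congrArg D'.Vinv (Subtype.ext (map_smul ψ c a).symm)
    have commF : ∀ x, ψ (E.F x) = D'.F (ψ x) := by
      intro x
      have hx := E.IV_smul_le (Submodule.smul_mem_smul
        (W4c1extbt610.verschiebung_mem_IV p R 1) (Submodule.mem_top (x := x)))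
      have hx' := D'.IV_smul_le (Submodule.smul_mem_smul
        (W4c1extbt610.verschiebung_mem_IV p R 1) (Submodule.mem_top (x := ψ x)))
      rw [← hV E x hx, commV, ← (D'.Vinv_verschiebung_smul 1 (ψ x)).trans (one_smul _ _)]
      exact congrArg D'.Vinv (Subtype.ext (map_smul ψ _ x))
    refine ⟨ψ, ⟨⟨maps, commF, commV⟩, AlternatingMap.ext fun a => hψ a⟩, ?_⟩
    rintro ψ' ⟨-, hψ'⟩
    refine exteriorPower.linearMap_ext (hψ'.trans (AlternatingMap.ext fun a => (hψ a).symm))

end Groth.Agent.S13685
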