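import Groth.Statements.S13686
import Mathlib
import Groth.Agent.H27Disp.ExtPow

set_option autoImplicit false
universe u v
open Disp

namespace Groth.Agent.S13686

/-- Let p be a prime, R a nontrivial commutative ring, W its ring of p-typical Witt vectors and D = (P,
Q, F, V⁻¹) a 3n-display over R with a normal decomposition P = L ⊕ T, Q = L + I_R T in which L is
free of rank m and T is free of rank one over W (so P is free of rank m + 1, the height). For r ≥ 1
let E be the 3n-display structure on ⋀^r P whose distinguished submodule is spanned by the wedges of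
elements of Q and whose V⁻¹ acts factorwise on them. Then E admits a normal decomposition ⋀^r P = L'
⊕ T', with distinguished submodule L' + I_R T', in which T' is free of rank (m choose r−1) over W:
with h = m + 1 the height, the tangent module of the exterior power has rank (h−1 choose r−1). (The
published statement has T projective of rank one and P of height h; this row takes L and T free, R
nontrivial and r ≥ 1.) -/
theorem result (p : ℕ) [Fact p.Prime] (R : Type u) [CommRing R] [Nontrivial R]
    (P : Type v) [AddCommGroup P] [Module (WittVector p R) P] (D : W4c1extbt610.Display3n p R P) (m : ℕ)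
    (L T : Submodule (WittVector p R) P) (hLT : IsCompl L T) (hQ : D.Q = L ⊔ W4c1extbt610.IV p R • T)
    (hL : Module.Free (WittVector p R) L) (hLr : Module.finrank (WittVector p R) L = m)
    (hT : Nonempty (T ≃ₗ[WittVector p R] WittVector p R))
    (r : ℕ) (hr : 1 ≤ r) (E : W4c1extbt610.Display3n p R (⋀[WittVector p R]^r P)) (hE : W4c1extbt610.IsExtPow D r E) :
    ∃ L' T' : Submodule (WittVector p R) (⋀[WittVector p R]^r P), IsCompl L' T' ∧
      E.Q = L' ⊔ W4c1extbt610.IV p R • T' ∧ Module.Free (WittVector p R) T' ∧
      Module.finrank (WittVector p R) T' = m.choose (r - 1) := by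
  classical
  obtain ⟨eT⟩ := hT
  haveI := D.finite
  obtain ⟨E', hE', hEQ⟩ := Groth.Agent.H27Disp.exists_isExtPow D L T hLT hQ eT r
  obtain rfl : E = E' := Groth.Agent.H27Disp.isExtPow_unique D r hE' hE
  set πL : P →ₗ[WittVector p R] P := L.subtype ∘ₗ L.projectionOnto T hLT with hπL
  set Λ := exteriorPower.map r πL with hΛdef
  haveI : Module.Finite (WittVector p R) L :=
    Module.Finite.of_surjective (L.projectionOnto T hLT) (Submodule.projectionOnto_surjective hLT)
  let bL : Module.Basis (Fin m) (WittVector p R) L := Module.finBasisOfFinrankEq (WittVector p R) L hLr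
  let bT : Module.Basis (Fin 1) (WittVector p R) T := (Module.Basis.singleton (Fin 1) _).map eT.symm
  let b : Module.Basis (Fin (m + 1)) (WittVector p R) P :=
    ((bL.prod bT).map (L.prodEquivOfIsCompl T hLT)).reindex finSumFinEquiv
  have hblast : b (Fin.last m) ∈ T := by
    have : finSumFinEquiv.symm (Fin.last m) = Sum.inr (0 : Fin 1) := by
      rw [Equiv.symm_apply_eq]; ext; simp
    simp [b, this]
  have hbcast : ∀ i : Fin (m + 1), i ≠ Fin.last m → b i ∈ L := by
    intro i hi
    obtain ⟨j, rfl⟩ := Fin.exists_castSucc_eq.mpr hi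
    have : finSumFinEquiv.symm (Fin.castSucc j) = Sum.inl j := by
      rw [Equiv.symm_apply_eq]; ext; simp
    simp [b, this]
  let B := b.exteriorPower r
  have hΛB : ∀ s, Λ (B s) = if Fin.last m ∈ (s : Finset (Fin (m + 1))) then 0 else B s := by
    intro s
    have hB : B s = exteriorPower.ιMulti (WittVector p R) r (⇑b ∘ Set.powersetCard.ofFinEmbEquiv.symm s) := by
      rw [exteriorPower.basis_apply]; rfl
    rw [hB, hΛdef, exteriorPower.map_apply_ιMulti]
    split_ifs with hs
    · obtain ⟨i, hi⟩ := (Set.powersetCard.mem_range_ofFinEmbEquiv_symm_iff_mem s (Fin.last m)).mpr hs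
      refine AlternatingMap.map_coord_zero _ i ?_
      show πL (b (Set.powersetCard.ofFinEmbEquiv.symm s i)) = 0
      rw [hi]
      exact congrArg Subtype.val (Submodule.projectionOnto_apply_right hLT ⟨_, hblast⟩)
    · refine congrArg _ (funext fun i => ?_)
      have hne : Set.powersetCard.ofFinEmbEquiv.symm s i ≠ Fin.last m := fun h =>
        hs (h ▸ (Set.powersetCard.mem_range_ofFinEmbEquiv_symm_iff_mem s _).mp ⟨i, rfl⟩)
      exact congrArg Subtype.val (Submodule.projectionOnto_apply_left hLT ⟨_, hbcast _ hne⟩)
  let K := {s : Set.powersetCard (Fin (m + 1)) r // Fin.last m ∈ (s : Finset (Fin (m + 1)))}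
  have hker : LinearMap.ker Λ = Submodule.span (WittVector p R) (Set.range fun s : K => B s.1) := by
    refine le_antisymm (fun x hx => ?_) (Submodule.span_le.mpr ?_)
    · rw [LinearMap.mem_ker, ← B.sum_repr x, map_sum] at hx
      simp only [map_smul, hΛB, smul_ite, smul_zero] at hx
      rw [← B.sum_repr x]
      refine sum_mem fun s _ => ?_
      by_cases hs : Fin.last m ∈ (s : Finset (Fin (m + 1)))
      · exact Submodule.smul_mem _ _ (Submodule.subset_span ⟨⟨s, hs⟩, rfl⟩)
      · have h := congrArg (fun y => B.repr y s) hx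
        have h0 : B.repr x s = 0 := by
          simp only [map_sum, map_zero, Finsupp.finsetSum_apply, Finsupp.coe_finset_sum, Finset.sum_apply, Finsupp.zero_apply] at h
          rw [Finset.sum_eq_single s] at h
          · simpa [hs] using h
          · intro t _ ht
            split_ifs <;> simp [ht]
          · simp
        simp [h0]
    · rintro _ ⟨s, rfl⟩
      simp [hΛB, s.2]
  have hΛ : ∀ x, Λ (Λ x) = Λ x := fun x => by
    show (Λ ∘ₗ Λ) x = Λ x
    rw [hΛdef, ← exteriorPower.map_comp]
    congr 2
    exact LinearMap.ext fun y => congrArg Subtype.val (Submodule.projectionOnto_apply_left hLT ⟨_, (L.projectionOnto T hLT y).2⟩)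
  have hli : LinearIndependent (WittVector p R) (fun s : K => B s.1) :=
    B.linearIndependent.comp _ Subtype.val_injective
  refine ⟨LinearMap.range Λ, LinearMap.ker Λ, IsCompl.of_eq ?_ ?_, hEQ, ?_, ?_⟩
  · refine eq_bot_iff.mpr ?_
    rintro _ ⟨⟨y, rfl⟩, h⟩
    rw [Submodule.mem_bot, ← hΛ]
    exact LinearMap.mem_ker.mp h
  · exact eq_top_iff.mpr fun x _ => Submodule.mem_sup.mpr ⟨Λ x, ⟨x, rfl⟩, x - Λ x, by simp [hΛ], add_sub_cancel _ _⟩
  · rw [hker]
    exact Module.Free.of_basis (Module.Basis.span hli)
  · rw [hker, finrank_span_eq_card hli]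
    obtain ⟨k, rfl⟩ : ∃ k, r = k + 1 := ⟨r - 1, by omega⟩
    have hcompl : Fintype.card {s : Set.powersetCard (Fin (m + 1)) (k + 1) // ¬ Fin.last m ∈ (s : Finset (Fin (m + 1)))} =
        m.choose (k + 1) := by
      rw [Fintype.card_congr (β := ↥(((Finset.univ : Finset (Fin (m + 1))).erase (Fin.last m)).powersetCard (k + 1)))
        { toFun := fun s => ⟨(s.1 : Finset (Fin (m + 1))), Finset.mem_powersetCard.mpr
            ⟨fun x hx => Finset.mem_erase.mpr ⟨fun h => s.2 (h ▸ hx), Finset.mem_univ x⟩, Set.powersetCard.card_eq s.1⟩⟩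
          invFun := fun t => ⟨⟨t.1, (Finset.mem_powersetCard.mp t.2).2⟩, fun h =>
            (Finset.mem_erase.mp ((Finset.mem_powersetCard.mp t.2).1 h)).1 rfl⟩
          left_inv := fun s => rfl
          right_inv := fun t => rfl },
        Fintype.card_coe, Finset.card_powersetCard, Finset.card_erase_of_mem (Finset.mem_univ _), Finset.card_univ,
        Fintype.card_fin, Nat.add_sub_cancel]
    have htot : Fintype.card (Set.powersetCard (Fin (m + 1)) (k + 1)) = (m + 1).choose (k + 1) := by
      rw [Fintype.card_eq_nat_card, Set.powersetCard.card, Nat.card_fin]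
    rw [Fintype.card_subtype_compl, htot, Nat.choose_succ_succ] at hcompl
    have hle : Fintype.card K ≤ (m + 1).choose (k + 1) := htot ▸ Fintype.card_subtype_le _
    rw [Nat.choose_succ_succ] at hle
    simp only [Nat.add_sub_cancel, Nat.succ_eq_add_one] at *
    show Fintype.card K = _
    change m.choose k + m.choose (k + 1) - Fintype.card K = m.choose (k + 1) at hcompl
    omega

end Groth.Agent.S13686
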