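import Groth.Statements.S13688
import Groth.Agent.H23KS.Isotypical
import Mathlib

set_option autoImplicit false
universe u
open CategoryTheory CategoryTheory.Limits AlgebraicGeometry
open ASBun

namespace Groth.Agent.S13688

open W4c1astiltbs12 in
/-- Let X be proper over a field k, K an algebraic field extension of k with projection π : X_K → X, and
W an O_{X_K}-module. Two indecomposable finite locally free O_X-modules E and E' (nonzero, and in
any decomposition as a direct sum one summand is zero) with π^*E ≅ W^{⊕r} and π^*E' ≅ W^{⊕s} for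
some r and s are isomorphic (existence of an isomorphism). (The published statements take K a
separable or an algebraic closure and the type W an indecomposable, or invertible, finite locally
free module; the uniqueness argument uses only that K is algebraic over k.) -/
theorem result (k : Type u) [Field k] {X : Scheme.{u}}
    (p : X ⟶ Spec (CommRingCat.of k)) [IsProper p] (K : Type u) [Field K] [Algebra k K]
    [Algebra.IsAlgebraic k K] (W : (W4bk4gw11416.baseChange p K).Modules) (E E' : X.Modules)
    (hE : FlatMod.IsFinLocFree E) (hE' : FlatMod.IsFinLocFree E')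
    (hEi : (¬ IsZero E ∧ ∀ A B : X.Modules, Nonempty (E ≅ A ⊞ B) → IsZero A ∨ IsZero B))
    (hE'i : (¬ IsZero E' ∧ ∀ A B : X.Modules, Nonempty (E' ≅ A ⊞ B) → IsZero A ∨ IsZero B))
    (r s : ℕ) (eE : Nonempty (bcMod p K E ≅ pow W r)) (eE' : Nonempty (bcMod p K E' ≅ pow W s)) :
    Nonempty (E ≅ E') := by
  letI : X.Over (Spec (CommRingCat.of k)) := ⟨p⟩
  letI : (W4bk4gw11416.baseChange p K).Over (Spec (CommRingCat.of K)) :=
    ⟨pullback.snd p (Spec.map (CommRingCat.ofHom (algebraMap k K)))⟩
  haveI : IsProper (X ↘ Spec (CommRingCat.of k)) := ‹IsProper p›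
  haveI : IsProper ((W4bk4gw11416.baseChange p K) ↘ Spec (CommRingCat.of K)) :=
    inferInstanceAs (IsProper (pullback.snd p (Spec.map (CommRingCat.ofHom (algebraMap k K)))))
  obtain ⟨a⟩ := eE
  obtain ⟨b⟩ := eE'
  exact Groth.Agent.H23KS.eq_of_isotypical (k := k) (K := K) (IsPullback.of_hasPullback p (Spec.map (CommRingCat.ofHom (algebraMap k K))))
    (Groth.Agent.H16Derived.KFlat.Stalk.isCoh_of_isFinLocFree hE) (Groth.Agent.H16Derived.KFlat.Stalk.isCoh_of_isFinLocFree hE')
    hEi hE'i W r s a b

end Groth.Agent.S13688
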