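import Groth.Statements.S1369
import Groth.Agent.H7Flat.Chain.RelAssScheme
import Mathlib

set_option autoImplicit false
universe u
open FlatMor

namespace Groth.Agent.S1369

set_option backward.isDefEq.respectTransparency false
set_option maxHeartbeats 1000000

open AlgebraicGeometry CategoryTheory Limits in
/-- Let f be of finite type with irreducible target, F a quasi-coherent module of finite type on the
source and U an open of the source. If some associated point of F restricted to the generic fibre is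
not in U, then over some nonempty open of the target every fibre carries an associated point of F
(restricted to that fibre) outside U. -/
theorem result {X Y : Scheme.{u}} (f : X ⟶ Y) [IrreducibleSpace ↑Y] [LocallyOfFiniteType f] [QuasiCompact f]
    (F : X.Modules) (hF : Coh.IsCoh F) (U : X.Opens)
    (h : ∃ x ∈ MoreMor.relAss f F, f x = genericPoint ↑Y ∧ x ∉ U) :
    ∃ V : Y.Opens, (V : Set ↑Y).Nonempty ∧ ∀ y ∈ V, ∃ x ∈ MoreMor.relAss f F, f x = y ∧ x ∉ U := by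
  classical
  obtain ⟨V, hV, hyV, -⟩ := exists_isAffineOpen_mem_and_subset (X := Y) (x := genericPoint ↑Y) (U := ⊤) trivial
  let t₀ := hV.primeIdealOf ⟨genericPoint ↑Y, hyV⟩
  have ht₀ : ∀ t : PrimeSpectrum Γ(Y, V), t₀.asIdeal ≤ t.asIdeal := fun t => by
    show t₀ ≤ t
    refine (PrimeSpectrum.le_iff_specializes _ _).mpr (hV.fromSpec.isOpenEmbedding.isEmbedding.specializes_iff.mp ?_)
    rw [hV.fromSpec_primeIdealOf]
    exact (genericPoint_spec ↑Y).specializes (Set.mem_univ _)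
  obtain ⟨ξ, hξ, hξe, hξU⟩ := h
  obtain ⟨W, hW, hξW, hWV⟩ := exists_isAffineOpen_mem_and_subset (X := X) (x := ξ) (U := f ⁻¹ᵁ V)
    (show f ξ ∈ V from hξe ▸ hyV)
  letI : Algebra Γ(Y, V) Γ(X, W) := (f.appLE V W hWV).hom.toAlgebra
  letI : Module Γ(Y, V) Γ(F, W) := Module.compHom _ (algebraMap Γ(Y, V) Γ(X, W))
  haveI : IsScalarTower Γ(Y, V) Γ(X, W) Γ(F, W) := IsScalarTower.of_algebraMap_smul fun _ _ => rfl
  haveI : Algebra.FiniteType Γ(Y, V) Γ(X, W) := f.finiteType_appLE hV hW hWV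
  haveI : Module.Finite Γ(X, W) Γ(F, W) := @H10Coh.finite_sections _ F hF.1 hF.2 _ hW
  let P := hW.primeIdealOf ⟨ξ, hξW⟩
  have he : (⟨f ξ, hWV hξW⟩ : V) = ⟨genericPoint ↑Y, hyV⟩ := Subtype.ext hξe
  haveI : P.asIdeal.LiesOver t₀.asIdeal := ⟨by
    show (hV.primeIdealOf ⟨genericPoint ↑Y, hyV⟩).asIdeal = _
    rw [← he]
    exact (congrArg PrimeSpectrum.asIdeal
      (IsAffineOpen.comap_primeIdealOf_appLE (f := f) V hV W hW hWV hξW)).symm⟩
  have hP := (H7Flat.Chain.RelAss.mem_relAss_iff f F hF.1 hV hW hWV ⟨ξ, hξW⟩ rfl).mp hξ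
  rw [he] at hP
  obtain ⟨a, ha, hnear⟩ := H7Flat.Chain.exists_ass_above_near Γ(F, W) t₀ ht₀ P.asIdeal hP
  refine ⟨Y.basicOpen a, ⟨genericPoint ↑Y, (H7Flat.Chain.RelAss.exists_mem_iff hV a ⟨_, hyV⟩).mpr ha⟩,
    fun y hy => ?_⟩
  have hy' : y ∈ V := Y.basicOpen_le a hy
  obtain ⟨Q, hQ, hPQ, hQt, hass⟩ :=
    hnear (hV.primeIdealOf ⟨y, hy'⟩) ((H7Flat.Chain.RelAss.exists_mem_iff hV a ⟨_, hy'⟩).mp hy)
  let x : W := ⟨hW.fromSpec ⟨Q, hQ⟩, by
    have : hW.fromSpec ⟨Q, hQ⟩ ∈ Set.range hW.fromSpec := ⟨_, rfl⟩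
    rwa [hW.range_fromSpec] at this⟩
  have hx : hW.primeIdealOf x = ⟨Q, hQ⟩ :=
    hW.fromSpec.isOpenEmbedding.injective (hW.fromSpec_primeIdealOf x)
  have hxy : (⟨f x.1, hWV x.2⟩ : V) = ⟨y, hy'⟩ := by
    have h1 : hV.primeIdealOf ⟨f x.1, hWV x.2⟩ = hV.primeIdealOf ⟨y, hy'⟩ := by
      rw [← IsAffineOpen.comap_primeIdealOf_appLE (f := f) V hV W hW hWV x.2, hx]
      exact PrimeSpectrum.ext hQt.over.symm
    exact Subtype.ext (by rw [← hV.fromSpec_primeIdealOf ⟨f x.1, hWV x.2⟩, h1, hV.fromSpec_primeIdealOf])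
  have hsp : ξ ⤳ x.1 := by
    rw [show ξ = hW.fromSpec P from (hW.fromSpec_primeIdealOf ⟨ξ, hξW⟩).symm]
    exact Specializes.map ((PrimeSpectrum.le_iff_specializes P ⟨Q, hQ⟩).mp hPQ) hW.fromSpec.continuous
  refine ⟨x.1, (H7Flat.Chain.RelAss.mem_relAss_iff f F hF.1 hV hW hWV x rfl).mpr ?_,
    congrArg Subtype.val hxy, fun hU => hξU (hsp.mem_open U.2 hU)⟩
  rw [hxy, hx]
  exact hass

end Groth.Agent.S1369
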