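import Groth.Statements.S13691
import Groth.Agent.H23KS.GalInvariant
import Groth.Agent.H23KS.Types

set_option autoImplicit false
universe u
open CategoryTheory CategoryTheory.Limits AlgebraicGeometry
open ASBun

namespace Groth.Agent.S13691

open W4c1astiltbs12 in
/-- Let X be proper over a field k and K a separable closure of k such that X_K is connected, with
projection π : X_K → X, and write σ_X for the automorphism of X_K induced by a k-automorphism σ of
K. Let M be an indecomposable finite locally free O_X-module (nonzero, and in any decomposition as a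
direct sum one summand is zero) which splits over K into invertible modules with Galois-invariant
classes: π^*M ≅ L_1 ⊕ ⋯ ⊕ L_n with each L_i invertible and σ_X^*L_i ≅ L_i for all σ and i. Then M is
isotypical of invertible type: π^*M ≅ L^{⊕r} for some invertible O_{X_K}-module L and some r ≥ 1,
and L is unique up to isomorphism with this property. (The published statement omits the invariance
of the summands L_i, and is then contradicted by the direct image on an elliptic curve of the
invertible module of a point defined over a quadratic extension but not over k; its argument also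
treats invertible modules on X_K as indecomposable, whence the connectedness hypothesis.) -/
theorem result (k : Type u) [Field k]
    {X : Scheme.{u}} (p : X ⟶ Spec (CommRingCat.of k)) [IsProper p] (K : Type u) [Field K]
    [Algebra k K] [IsSepClosure k K] [ConnectedSpace ↥(W4bk4gw11416.baseChange p K)]
    (M : X.Modules) (hM : FlatMod.IsFinLocFree M)
    (hMi : (¬ IsZero M ∧ ∀ A B : X.Modules, Nonempty (M ≅ A ⊞ B) → IsZero A ∨ IsZero B))
    (n : ℕ) (Ls : Fin n → (W4bk4gw11416.baseChange p K).Modules) (hLs : ∀ i, PicF.IsInvertible (Ls i))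
    (hinv : ∀ (σ : K ≃ₐ[k] K) (i : Fin n),
      Nonempty ((Scheme.Modules.pullback (galAct p K σ)).obj (Ls i) ≅ Ls i))
    (e : Nonempty (bcMod p K M ≅ ∐ Ls)) :
    ∃ (L : (W4bk4gw11416.baseChange p K).Modules) (r : ℕ), PicF.IsInvertible L ∧ 0 < r ∧
      Nonempty (bcMod p K M ≅ pow L r) ∧
      ∀ (L' : (W4bk4gw11416.baseChange p K).Modules) (r' : ℕ), PicF.IsInvertible L' →
        Nonempty (bcMod p K M ≅ pow L' r') → Nonempty (L' ≅ L) := by
  haveI : IsSepClosed K := IsSepClosure.sep_closed k
  haveI : IsGalois k K := IsSepClosure.isGalois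
  letI : X.Over (Spec (CommRingCat.of k)) := ⟨p⟩
  letI : (W4bk4gw11416.baseChange p K).Over (Spec (CommRingCat.of K)) :=
    ⟨pullback.snd p (Spec.map (CommRingCat.ofHom (algebraMap k K)))⟩
  haveI : IsProper (X ↘ Spec (CommRingCat.of k)) := ‹IsProper p›
  haveI : IsProper ((W4bk4gw11416.baseChange p K) ↘ Spec (CommRingCat.of K)) :=
    inferInstanceAs (IsProper (pullback.snd p (Spec.map (CommRingCat.ofHom (algebraMap k K)))))
  have hsq := IsPullback.of_hasPullback p (Spec.map (CommRingCat.ofHom (algebraMap k K)))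
  have hind : ∀ {L : (W4bk4gw11416.baseChange p K).Modules}, PicF.IsInvertible L → Groth.Agent.H23KS.Indec L :=
    fun h => Groth.Agent.H23KS.indec_invertible h
  have hP : ∀ i, ∃ (P : X.Modules) (r : ℕ), FlatMod.IsFinLocFree P ∧ Groth.Agent.H23KS.Indec P ∧ 0 < r ∧
      Nonempty ((Scheme.Modules.pullback (BrSev.proj p K)).obj P ≅ ∐ fun _ : Fin r => Ls i) := fun i =>
    Groth.Agent.H23KS.GalInvariant.exists_indec_model (Ls i) (Groth.Agent.H23Para.isFinLocFree_of_isInvertible (hLs i))
      (hind (hLs i)) fun τ g h1 h2 => by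
        have hg : g = galAct p K τ := pullback.hom_ext
          (h1.trans ((pullback.lift_fst _ _ _).trans (Category.comp_id _)).symm) (h2.trans (pullback.lift_snd _ _ _).symm)
        exact hg ▸ hinv τ i
  choose P d hP hPi hd eP using hP
  have hMc := Groth.Agent.H16Derived.KFlat.Stalk.isCoh_of_isFinLocFree hM
  haveI : IsLocallyNoetherian X := LocallyOfFiniteType.isLocallyNoetherian p
  obtain ⟨e⟩ := e
  obtain ⟨i, ⟨u⟩⟩ := Groth.Agent.H23KS.exists_iso_of_types (k := k) (K := K) hsq hMc hMi Ls e P
    (fun i => Groth.Agent.H16Derived.KFlat.Stalk.isCoh_of_isFinLocFree (hP i)) hPi d hd (fun i => (eP i).some)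
  let a : bcMod p K M ≅ pow (Ls i) (d i) := (Scheme.Modules.pullback _).mapIso u ≪≫ (eP i).some
  refine ⟨Ls i, d i, hLs i, hd i, ⟨a⟩, ?_⟩
  rintro L' r' hL' ⟨a'⟩
  letI := Groth.Agent.H23KS.endAlgebra K (bcMod p K M)
  haveI := Groth.Agent.H23KS.finite_end K (bcMod p K M)
    (⟨Groth.Agent.H29Fitt.isQCoh_pullback _ M hMc.1, Groth.Agent.H29Fitt.isFT_pullback _ M hMc.1 hMc.2⟩)
  obtain ⟨σ, hσ⟩ := Groth.Agent.H23KS.uniqueness K (bcMod p K M) (fun _ : Fin r' => L') (fun _ : Fin (d i) => Ls i)
    (fun _ => hind hL') (fun _ => hind (hLs i))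
    (a' ≪≫ (biproduct.isoCoproduct _).symm) (a ≪≫ (biproduct.isoCoproduct _).symm)
  exact hσ (σ.symm ⟨0, hd i⟩)
end Groth.Agent.S13691
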