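import Groth.Statements.S13694
import Groth.Agent.H23KS.RankOne
import Mathlib

set_option autoImplicit false
universe u
open CategoryTheory CategoryTheory.Limits AlgebraicGeometry
open ASBun

namespace Groth.Agent.S13694

open W4c1astiltbs12 in
/-- Let X be a proper, geometrically integral scheme over a field k, K an algebraic closure of k with
projection π : X_K → X, and E an indecomposable finite locally free O_X-module (nonzero, and in any
decomposition as a direct sum one summand is zero) which is absolutely rank-one-isotypical: π^*E ≅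
L^{⊕r} for some invertible O_{X_K}-module L and some r. Then the endomorphism ring of E is a
division ring: every nonzero endomorphism of E is an isomorphism. (The published statement says more
precisely that this ring is a central division algebra over k; only the division-ring property is
stated here.) -/
theorem result (k : Type u) [Field k]
    {X : Scheme.{u}} (p : X ⟶ Spec (CommRingCat.of k)) [IsProper p] [GeometricallyIntegral p]
    (K : Type u) [Field K] [Algebra k K] [IsAlgClosure k K]
    (E : X.Modules) (hE : FlatMod.IsFinLocFree E)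
    (hEi : (¬ IsZero E ∧ ∀ A B : X.Modules, Nonempty (E ≅ A ⊞ B) → IsZero A ∨ IsZero B))
    (L : (W4bk4gw11416.baseChange p K).Modules) (hL : PicF.IsInvertible L) (r : ℕ)
    (e : Nonempty (bcMod p K E ≅ pow L r)) (f : E ⟶ E) (hf : f ≠ 0) : IsIso f := by
  letI : X.Over (Spec (CommRingCat.of k)) := ⟨p⟩
  letI : (W4bk4gw11416.baseChange p K).Over (Spec (CommRingCat.of K)) :=
    ⟨pullback.snd p (Spec.map (CommRingCat.ofHom (algebraMap k K)))⟩
  haveI : IsProper (X ↘ Spec (CommRingCat.of k)) := ‹IsProper p›
  haveI : IsProper ((W4bk4gw11416.baseChange p K) ↘ Spec (CommRingCat.of K)) :=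
    inferInstanceAs (IsProper (pullback.snd p (Spec.map (CommRingCat.ofHom (algebraMap k K)))))
  haveI : IsAlgClosed K := IsAlgClosure.isAlgClosed k
  haveI : IsIntegral (W4bk4gw11416.baseChange p K) :=
    GeometricallyIntegral.geometrically_isIntegral _ _ _ (IsPullback.of_hasPullback _ _)
  have hsq := IsPullback.of_hasPullback p (Spec.map (CommRingCat.ofHom (algebraMap k K)))
  have hEc := Groth.Agent.H16Derived.KFlat.Stalk.isCoh_of_isFinLocFree hE
  obtain ⟨a⟩ := e
  letI := Groth.Agent.H23KS.endAlgebra k E
  haveI := Groth.Agent.H23KS.finite_end k E hEc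
  have hP := Groth.Agent.H23KS.piReg_of_finite k E
  refine (isUnit_iff_isIso f).1 (by_contra fun hnu => ?_)
  exact (TwoSidedIdeal.mem_mk' _ _ _ _ _ _ _).1 (Groth.Agent.H23KS.one_mem_of_mem (k := k) (K := K) hsq hEc L hL r a
    (Groth.Agent.H23KS.nonunitsIdeal hEi hP) f ((TwoSidedIdeal.mem_mk' _ _ _ _ _ _ _).2 hnu) hf) isUnit_one

end Groth.Agent.S13694
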