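import Groth.Statements.S13696
import Groth.Agent.H22Alg.MulLawPoly

set_option autoImplicit false
universe u
open scoped TensorProduct
open ZeroCyc

namespace Groth.Agent.S13696

/-- Let F : B → A be a multiplicative polynomial law homogeneous of degree d, where B is a commutative
algebra over the commutative ring A. For b ∈ B the characteristic polynomial of b with respect to F
is χ_b = F_{A[X]}(1 ⊗ b − X ⊗ 1) ∈ A[X] ⊗_A A = A[X], and the Cayley–Hamilton ideal of F is the
ideal of B generated by the elements χ_b(b), b ∈ B. Then the Cayley–Hamilton ideal is contained in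
the kernel of F, and the kernel of F is contained in the radical of the Cayley–Hamilton ideal. -/
theorem result {A : Type u} [CommRing A] {B : Type u} [CommRing B] [Algebra A B]
    {d : ℕ} (F : PolLaw.MulLaw A B A d) (χ : B → Polynomial A)
    (hχ : ∀ b : B, χ b = TensorProduct.rid A (Polynomial A)
      (F.law.toFun' (Polynomial A) ((1 : Polynomial A) ⊗ₜ[A] b - Polynomial.X ⊗ₜ[A] (1 : B)))) :
    Ideal.span (Set.range fun b : B => Polynomial.aeval b (χ b)) ≤ PolLaw.ker F.law ∧
      PolLaw.ker F.law ≤ (Ideal.span (Set.range fun b : B => Polynomial.aeval b (χ b))).radical := by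
  have h : ∀ b, χ b = Groth.Agent.H22Alg.PL.chi F ((1 : A) ⊗ₜ[A] b) := fun b =>
    (hχ b).trans (Groth.Agent.H22Alg.PL.chi_one_tmul F b).symm
  refine ⟨Ideal.span_le.mpr ?_, fun b hb => ?_⟩
  · rintro _ ⟨b, rfl⟩
    rw [SetLike.mem_coe]
    show Polynomial.aeval b (χ b) ∈ _
    rw [h]
    exact Groth.Agent.H22Alg.PL.ch_mem_ker F b
  · refine Groth.Agent.H22Alg.PL.pow_mem_ch F hb ?_
    rw [← h]
    exact Ideal.subset_span ⟨b, rfl⟩

end Groth.Agent.S13696
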