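import Groth.Statements.S13698
import Groth.Agent.H22Alg.MulLawGeneric
import Groth.Agent.H22Alg.MulLawPoly

set_option autoImplicit false
universe u
open scoped TensorProduct
open ZeroCyc

namespace Groth.Agent.S13698

/-- Let F : B → A be a multiplicative polynomial law homogeneous of degree d over the commutative ring
A, on a commutative A-algebra B which is finite as an A-module, and let A' be a localization of A at
a submonoid M. Then the kernel of the base change of F to A' is the ideal of A' ⊗_A B generated by
the kernel of F: the kernel (hence the image of a family of zero-cycles) commutes with localization.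
(The published statement has no finiteness hypothesis on B and is false without one: for a suitable
algebra B that is not finitely generated the conditions cutting out the kernel at an element are
infinitely many elements of A annihilated by elements of M but by no single one, and the kernel of
the localised law is then strictly larger than the localised kernel; the published proof's reduction
to finite B does not go through. This row assumes B finite over A, the case that proof establishes.) -/
theorem result {A : Type u} [CommRing A] {B : Type u} [CommRing B] [Algebra A B]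
    [Module.Finite A B] {d : ℕ} (F : PolLaw.MulLaw A B A d) (M : Submonoid A) (A' : Type u) [CommRing A'] [Algebra A A']
    [IsLocalization M A'] :
    (PolLaw.ker F.law).map (Algebra.TensorProduct.includeRight : B →ₐ[A] A' ⊗[A] B) =
      PolLaw.kerBC F.law A' := by
  classical
  obtain ⟨n, g, hg⟩ := Module.Finite.exists_fin (R := A) (M := B)
  let e : ULift.{u} (Fin n) → B := fun k => g k.down
  have he : Submodule.span A (Set.range e) = ⊤ := by
    rw [← hg]; congr 1; ext y; simp [e]
  refine le_antisymm (Groth.Agent.H22Alg.PL.map_ker_le_kerBC F A') fun b' hb' => ?_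
  have hrep : ∀ y : A' ⊗[A] B, ∃ (m : M) (b : B), (algebraMap A A' m) • y = (1 : A') ⊗ₜ[A] b := by
    intro y
    induction y using TensorProduct.induction_on with
    | zero => exact ⟨1, 0, by simp⟩
    | tmul a b =>
      obtain ⟨⟨r, m⟩, hr⟩ := IsLocalization.surj M a
      refine ⟨m, r • b, ?_⟩
      rw [TensorProduct.smul_tmul', smul_eq_mul, mul_comm, hr, TensorProduct.tmul_smul, TensorProduct.smul_tmul',
        Algebra.smul_def, mul_one]
    | add y z hy hz =>
      obtain ⟨m, b, hb⟩ := hy
      obtain ⟨m', b₂, hb₂⟩ := hz
      refine ⟨m * m', (m' : A) • b + (m : A) • b₂, ?_⟩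
      rw [Submonoid.coe_mul, map_mul, smul_add, mul_comm, mul_smul, hb, mul_comm, mul_smul, hb₂,
        TensorProduct.tmul_add, TensorProduct.tmul_smul, TensorProduct.tmul_smul, algebraMap_smul, algebraMap_smul]
  obtain ⟨m, b, hb⟩ := hrep b'
  have h1 : (1 : A') ⊗ₜ[A] b ∈ PolLaw.kerBC F.law A' := by
    rw [← hb, Algebra.smul_def]
    exact Ideal.mul_mem_left _ _ hb'
  have h2 := (Groth.Agent.H22Alg.PL.mem_kerBC_iff_obs F e he _).mp h1
  rw [← Groth.Agent.H22Alg.PL.bc_one_tmul, Groth.Agent.H22Alg.PL.obs_map] at h2
  set P := Groth.Agent.H22Alg.PL.obs F e ((1 : A) ⊗ₜ[A] b)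
  have hk : ∀ ν : (ULift.{u} (Fin n) ⊕ ULift.{u} (Fin n)) →₀ ℕ, ∃ k : M, (k : A) * P.coeff ν = 0 := fun ν => by
    have h3 := congrArg (fun p => MvPolynomial.coeff ν p) h2
    simp only [MvPolynomial.coeff_map, MvPolynomial.coeff_zero] at h3
    exact (IsLocalization.map_eq_zero_iff M A' _).mp h3
  choose k hk using hk
  let c : M := ∏ ν ∈ P.support, k ν
  have hc : (c : A) • P = 0 := by
    ext ν
    rw [MvPolynomial.coeff_smul, MvPolynomial.coeff_zero, smul_eq_mul]
    by_cases hν : ν ∈ P.support
    · simp only [c, Submonoid.coe_finsetProd]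
      rw [← Finset.prod_erase_mul _ _ hν, mul_assoc, hk, mul_zero]
    · rw [MvPolynomial.notMem_support_iff.mp hν, mul_zero]
  have h4 : (c : A) • b ∈ PolLaw.ker F.law :=
    (Groth.Agent.H22Alg.PL.mem_ker_iff_obs F e he _).mpr (Groth.Agent.H22Alg.PL.obs_smul_eq_zero F e b _ hc)
  have h5 : (algebraMap A A' (c * m : M)) • b' ∈
      (PolLaw.ker F.law).map (Algebra.TensorProduct.includeRight : B →ₐ[A] A' ⊗[A] B) := by
    rw [Submonoid.coe_mul, map_mul, mul_smul, hb, algebraMap_smul, ← TensorProduct.tmul_smul]
    exact Ideal.mem_map_of_mem _ h4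
  rw [Algebra.smul_def] at h5
  exact (Ideal.unit_mul_mem_iff_mem _ ((IsLocalization.map_units A' (c * m)).map
    (algebraMap A' (A' ⊗[A] B)))).mp h5

end Groth.Agent.S13698
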