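import Groth.Statements.S13700
import Groth.Agent.H22Alg.MulLawGeneric
import Groth.Agent.H22Alg.MulLawPoly
import Groth.Agent.H22Alg.Splitting

set_option autoImplicit false
universe u
open scoped TensorProduct
open ZeroCyc

namespace Groth.Agent.S13700

/-- Let F : B → A be a multiplicative polynomial law homogeneous of degree d over the commutative ring
A, and let g ∈ A[X] be a monic polynomial which is separable (g and its derivative generate the unit
ideal), so that A' = A[X]/(g) is étale over A. Then the kernel of the base change of F to A' is the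
ideal of A' ⊗_A B generated by the kernel of F. -/
theorem result {A : Type u} [CommRing A] {B : Type u} [CommRing B] [Algebra A B]
    {d : ℕ} (F : PolLaw.MulLaw A B A d) (g : Polynomial A) (hg : g.Monic) (hsep : g.Separable) :
    (PolLaw.ker F.law).map (Algebra.TensorProduct.includeRight : B →ₐ[A] AdjoinRoot g ⊗[A] B) =
      PolLaw.kerBC F.law (AdjoinRoot g) := by
  classical
  obtain ⟨A'', hR, hAlg, r, hr, rt, hfac⟩ := Groth.Agent.H22Alg.exists_splitting g hg
  refine le_antisymm (Groth.Agent.H22Alg.PL.map_ker_le_kerBC F _) fun b' hb' => ?_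
  let pb := AdjoinRoot.powerBasis' hg
  obtain ⟨s, v, hv⟩ := Groth.Agent.H22Alg.PL.exists_sum_eq (b := (id : B → B)) (by simp) b'
  let b : Fin pb.dim → B := fun i => ∑ j ∈ s, pb.basis.repr (v j) i • j
  have hb : b' = ∑ i, pb.basis i ⊗ₜ[A] b i := by
    simp only [b, TensorProduct.tmul_sum, ← TensorProduct.smul_tmul, TensorProduct.tmul_smul]
    rw [Finset.sum_comm, hv]
    refine Finset.sum_congr rfl fun j _ => ?_
    conv_lhs => rw [← pb.basis.sum_repr (v j), TensorProduct.sum_tmul]
    exact Finset.sum_congr rfl fun i _ => by simp [TensorProduct.smul_tmul']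
  have hmn : pb.dim = g.natDegree := AdjoinRoot.powerBasis'_dim hg
  have hroot : ∀ j, Polynomial.aeval (rt j) g = 0 := fun j => by
    rw [Polynomial.aeval_def, Polynomial.eval₂_eq_eval_map, hfac, Polynomial.eval_prod]
    exact Finset.prod_eq_zero (Finset.mem_univ j) (by simp)
  have hbi : ∀ i, b i ∈ PolLaw.ker F.law := by
    intro i
    rw [Groth.Agent.H22Alg.PL.mem_ker_iff]
    intro S _ _ x w
    let S' := S ⊗[A] A''
    let inS : S →ₐ[A] S' := Algebra.TensorProduct.includeLeft
    have hdet : IsUnit (Matrix.vandermonde fun j : Fin pb.dim =>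
        ((1 : S) ⊗ₜ[A] rt (Fin.cast hmn j) : S')).det := by
      rw [Matrix.det_vandermonde]
      refine IsUnit.prod_iff.mpr fun p _ => IsUnit.prod_iff.mpr fun q hq => ?_
      rw [← TensorProduct.tmul_sub]
      exact (Groth.Agent.H22Alg.isUnit_sub_of_separable hfac hsep
        (fun e => (Finset.mem_Ioi.mp hq).ne' (Fin.cast_injective hmn e))).map
        (Algebra.TensorProduct.includeRight : A'' →ₐ[A] S')
    set V := Matrix.vandermonde fun j : Fin pb.dim => ((1 : S) ⊗ₜ[A] rt (Fin.cast hmn j) : S') with hV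
    let ψ : Fin pb.dim → (AdjoinRoot g →ₐ[A] S') := fun j =>
      (Algebra.TensorProduct.includeRight : A'' →ₐ[A] S').comp
        (AdjoinRoot.liftAlgHom g (Algebra.ofId A A'') (rt (Fin.cast hmn j)) (hroot _))
    have hψ : ∀ j k, ψ j (pb.basis k) = V j k := fun j k => by
      simp only [ψ, pb, hV, Matrix.vandermonde_apply, AlgHom.comp_apply, PowerBasis.basis_eq_pow, AdjoinRoot.powerBasis'_gen, map_pow, Algebra.TensorProduct.includeRight_apply]
      erw [AdjoinRoot.liftAlgHom_root]
    have hmem : (1 : S') ⊗ₜ[A] b i ∈ Groth.Agent.H22Alg.PL.invIdeal F S' := by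
      have key : (1 : S') ⊗ₜ[A] b i =
          ∑ j, V⁻¹ i j • Groth.Agent.H22Alg.PL.bc (ψ j) b' := by
        simp only [hb, map_sum, Groth.Agent.H22Alg.PL.bc_tmul, Finset.smul_sum, TensorProduct.smul_tmul',
          smul_eq_mul, hψ]
        rw [Finset.sum_comm]
        simp only [← TensorProduct.sum_tmul, ← Matrix.mul_apply, Matrix.nonsing_inv_mul _ hdet]
        rw [Finset.sum_eq_single i (fun k _ hk => by rw [Matrix.one_apply_ne hk.symm, TensorProduct.zero_tmul])
          (fun h => absurd (Finset.mem_univ i) h), Matrix.one_apply_eq]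
      rw [key]
      exact sum_mem fun j _ => Submodule.smul_of_tower_mem _ _
        (Groth.Agent.H22Alg.PL.bc_mem_invIdeal F hb' (ψ j))
    have h1 := hmem (Groth.Agent.H22Alg.PL.bc inS x) (Groth.Agent.H22Alg.PL.bc inS w)
    have h2 : Groth.Agent.H22Alg.PL.bc inS x + Groth.Agent.H22Alg.PL.bc inS w * ((1 : S') ⊗ₜ[A] b i) =
        Groth.Agent.H22Alg.PL.bc inS (x + w * ((1 : S) ⊗ₜ[A] b i)) := by
      rw [map_add, map_mul, Groth.Agent.H22Alg.PL.bc_tmul, map_one]
    rw [h2, Groth.Agent.H22Alg.PL.nm_bc, Groth.Agent.H22Alg.PL.nm_bc] at h1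
    have hret : ∀ s : S, TensorProduct.rid A S (r.lTensor S (inS s)) = s := fun s => by
      show TensorProduct.rid A S (r.lTensor S (s ⊗ₜ 1)) = s
      have : r 1 = 1 := by simpa using hr 1
      simp [this]
    rw [← hret (Groth.Agent.H22Alg.PL.nm F S _), h1, hret]
  rw [hb]
  refine sum_mem fun i _ => ?_
  rw [← mul_one (pb.basis i), ← one_mul (b i), ← Algebra.TensorProduct.tmul_mul_tmul]
  exact Ideal.mul_mem_left _ _ (Ideal.mem_map_of_mem _ (hbi i))

end Groth.Agent.S13700
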