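import Groth.Statements.S13701
import Groth.Agent.H22Alg.MulLawFlatKer

set_option autoImplicit false
universe u
open scoped TensorProduct
open ZeroCyc

namespace Groth.Agent.S13701

/-- Let A be a commutative ℚ-algebra, F : B → A a multiplicative polynomial law homogeneous of degree d
on a commutative A-algebra B which is finite as an A-module, and A' a commutative A-algebra which is
flat as an A-module. Then the kernel of the base change of F to A' is the ideal of A' ⊗_A B
generated by the kernel of F. (In positive characteristic this fails even for finite free base
change. The published statement has no finiteness hypothesis on B and is false without one: a
localisation of A is flat, and for a suitable algebra B that is not finitely generated the kernel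
does not commute with it; the published proof's reduction to finite B does not go through. This row
assumes B finite over A, the case that proof establishes: there the kernel is the intersection of
finitely many kernels of A-linear maps on B, which commutes with flat base change.) -/
theorem result {A : Type u} [CommRing A] [Algebra ℚ A] {B : Type u} [CommRing B] [Algebra A B]
    [Module.Finite A B] {d : ℕ} (F : PolLaw.MulLaw A B A d) (A' : Type u) [CommRing A'] [Algebra A A'] [Module.Flat A A'] :
    (PolLaw.ker F.law).map (Algebra.TensorProduct.includeRight : B →ₐ[A] A' ⊗[A] B) =
      PolLaw.kerBC F.law A' := by
  exact Groth.Agent.H22Alg.PL.map_ker_eq_kerBC_of_flat F A'

end Groth.Agent.S13701
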