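import Groth.Statements.S13702
import Mathlib
-- import your own Groth.Agent.* helpers here

set_option autoImplicit false
universe u
open ZeroCyc

namespace Groth.Agent.S13702

/-- Let A be a local ring with residue field of characteristic p > 0, let g ∈ A[X] be monic and
separable of degree n, so that A' = A[X]/(g) is an étale A-algebra, and let q = p^s with s ≥ 0. Then
the powers 1, t^q, t^{2q}, …, t^{(n-1)q} of the class t of X form a basis of A' as an A-module. -/
theorem result {A : Type u} [CommRing A] [IsLocalRing A] (p : ℕ) [Fact p.Prime]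
    [CharP (IsLocalRing.ResidueField A) p] (g : Polynomial A) (hg : g.Monic) (hsep : g.Separable) (s : ℕ) :
    ∃ b : Module.Basis (Fin g.natDegree) A (AdjoinRoot g),
      ∀ i : Fin g.natDegree, b i = AdjoinRoot.root g ^ (p ^ s * (i : ℕ)) := by
  classical
  let k := IsLocalRing.ResidueField A
  let K := AlgebraicClosure k
  let φ : A →+* K := (algebraMap k K).comp (IsLocalRing.residue A)
  have hp : p.Prime := Fact.out
  have : CharP K p := charP_of_injective_algebraMap (algebraMap k K).injective p
  have hsepK : (g.map φ).Separable := hsep.map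
  have hcard : Fintype.card ((g.map φ).rootSet K) = g.natDegree := by
    rw [Polynomial.card_rootSet_eq_natDegree hsepK (by simpa using IsAlgClosed.splits (g.map φ)),
      hg.natDegree_map]
  let α : Fin g.natDegree → K := fun l => (((Fintype.equivFin _).trans (finCongr hcard)).symm l : K)
  have hα : Function.Injective α := Subtype.val_injective.comp (Equiv.injective _)
  have hroot : ∀ l, g.eval₂ φ (α l) = 0 := fun l => by
    have h := (((Fintype.equivFin _).trans (finCongr hcard)).symm l).2
    rw [Polynomial.mem_rootSet_of_ne (hg.map φ).ne_zero] at h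
    simpa [α, Polynomial.eval_map] using h
  let e := (AdjoinRoot.powerBasis' hg).basis
  let v : Fin g.natDegree → AdjoinRoot g := fun i => AdjoinRoot.root g ^ (p ^ s * (i : ℕ))
  let M : Matrix (Fin g.natDegree) (Fin g.natDegree) A := e.toMatrix v
  have key : M.transpose.map φ * (Matrix.vandermonde α).transpose =
      (Matrix.vandermonde fun l => α l ^ p ^ s).transpose := by
    ext i l
    have h := congrArg (AdjoinRoot.lift φ (α l) (hroot l)) (e.sum_toMatrix_smul_self v i)
    simp only [map_sum, Algebra.smul_def, map_mul, AdjoinRoot.algebraMap_eq, AdjoinRoot.lift_of,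
      map_pow, v, AdjoinRoot.lift_root] at h
    simp only [Matrix.mul_apply, Matrix.map_apply, Matrix.transpose_apply, Matrix.vandermonde_apply,
      ← pow_mul]
    rw [← h]
    refine Finset.sum_congr rfl fun j _ => ?_
    show φ (M j i) * α l ^ (j : ℕ) = φ (M j i) * AdjoinRoot.lift φ (α l) (hroot l) (e j)
    rw [show e j = AdjoinRoot.root g ^ (j : ℕ) from
      (AdjoinRoot.powerBasis' hg).basis_eq_pow j, map_pow, AdjoinRoot.lift_root]
  have hu : IsUnit (e.det v) := by
    rw [← IsLocalRing.residue_ne_zero_iff_isUnit]
    intro h0
    have h1 := congrArg Matrix.det key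
    have hdet : (M.transpose.map φ).det = 0 := by
      show (φ.mapMatrix M.transpose).det = 0
      rw [← RingHom.map_det, Matrix.det_transpose]
      show algebraMap k K (IsLocalRing.residue A M.det) = 0
      rw [show M.det = e.det v from (e.det_apply v).symm, h0, map_zero]
    rw [Matrix.det_mul, hdet, zero_mul, Matrix.det_transpose, eq_comm,
      Matrix.det_vandermonde_eq_zero_iff] at h1
    obtain ⟨i, j, hij, hne⟩ := h1
    exact hne (hα ((iterateFrobenius K p s).injective hij))
  obtain ⟨hli, hsp⟩ := e.is_basis_iff_det.mpr hu
  exact ⟨Module.Basis.mk hli hsp.ge, fun i => Module.Basis.mk_apply hli hsp.ge i⟩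

end Groth.Agent.S13702
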