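import Groth.Statements.S13703
import Groth.Agent.H22Alg.MulLawFibre

set_option autoImplicit false
universe u
open scoped TensorProduct
open ZeroCyc

namespace Groth.Agent.S13703

/-- Let A be an integral domain, B a commutative A-algebra and F : B → A a multiplicative polynomial law
homogeneous of degree d. For every prime ideal P of B minimal among those containing the kernel of
F, the contraction of P to A is zero and every prime of A is the contraction of a prime of B
containing P. Geometrically: every irreducible component of the support of the family of zero-cycles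
on Spec B defined by F maps onto Spec A. (The published statement is over an arbitrary algebraic
space S, every irreducible component of the support mapping onto an irreducible component of S, and
its proof reduces to an integral affine base; this row is that case.) -/
theorem result {A : Type u} [CommRing A] [IsDomain A] {B : Type u} [CommRing B] [Algebra A B]
    {d : ℕ} (F : PolLaw.MulLaw A B A d) {P : Ideal B} (hP : P ∈ (PolLaw.ker F.law).minimalPrimes) :
    P.comap (algebraMap A B) = ⊥ ∧
      ∀ q : Ideal A, q.IsPrime → ∃ Q : Ideal B, Q.IsPrime ∧ P ≤ Q ∧ Q.comap (algebraMap A B) = q := by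
  haveI := hP.1.1
  haveI := Groth.Agent.H22Alg.PL.isIntegral_image F
  have hbot : P.comap (algebraMap A B) = ⊥ := by
    rw [eq_bot_iff]
    intro a ha
    by_contra ha0
    rw [Ideal.mem_bot] at ha0
    rw [← Ideal.radical_minimalPrimes] at hP
    obtain ⟨y, hy, n, hn⟩ := Ideal.exists_mul_mem_of_mem_minimalPrimes hP (Ideal.mem_comap.mp ha)
    let φ : A →ₐ[A] FractionRing A := Algebra.ofId A _
    have h1 := Groth.Agent.H22Alg.PL.map_ker_le_kerBC F (FractionRing A) (Ideal.mem_map_of_mem _ hn)
    have h2 : ((1 : FractionRing A) ⊗ₜ[A] y) ^ (n + 1) ∈ PolLaw.kerBC F.law (FractionRing A) := by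
      suffices (φ a ⊗ₜ[A] (1 : B)) ^ (n + 1) * ((1 : FractionRing A) ⊗ₜ[A] y) ^ (n + 1) ∈
          PolLaw.kerBC F.law (FractionRing A) by
        refine (Ideal.unit_mul_mem_iff_mem _ ?_).mp this
        exact ((IsUnit.mk0 (φ a) (by
          simpa [φ] using (map_ne_zero_iff _ (IsFractionRing.injective A (FractionRing A))).mpr ha0)).map
          (algebraMap (FractionRing A) (FractionRing A ⊗[A] B))).pow _
      rw [← mul_pow, pow_succ]
      refine Ideal.mul_mem_right _ _ ?_
      convert h1 using 1
      rw [Algebra.TensorProduct.includeRight_apply, Algebra.TensorProduct.tmul_mul_tmul, mul_one, one_mul,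
          Algebra.TensorProduct.tmul_pow]
      simp [φ, Algebra.algebraMap_eq_smul_one, TensorProduct.smul_tmul, mul_pow, smul_pow]
    have h3 := Groth.Agent.H22Alg.PL.chi_of_pow_mem F (Nat.succ_ne_zero n) h2
    rw [← Groth.Agent.H22Alg.PL.bc_one_tmul, ← Groth.Agent.H22Alg.PL.chi_bc] at h3
    have h4 : Groth.Agent.H22Alg.PL.chi F ((1 : A) ⊗ₜ[A] y) = (-Polynomial.X) ^ d :=
      Polynomial.map_injective _ (IsFractionRing.injective A (FractionRing A))
        (h3.trans (by simp))
    have h5 := Groth.Agent.H22Alg.PL.ch_mem_ker F y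
    rw [h4, map_pow, map_neg, Polynomial.aeval_X, neg_pow] at h5
    exact hy ⟨d, (Ideal.unit_mul_mem_iff_mem _ (isUnit_one.neg.pow d)).mp h5⟩
  refine ⟨hbot, fun q hq => ?_⟩
  let π := Ideal.Quotient.mkₐ A (PolLaw.ker F.law)
  have hker : RingHom.ker π.toRingHom ≤ P := (Ideal.mk_ker (I := PolLaw.ker F.law)).le.trans hP.1.2
  have hcm : (P.map π).comap π = P := by
    rw [Ideal.comap_map_of_surjective' π Ideal.Quotient.mk_surjective]
    exact sup_eq_left.mpr hker
  obtain ⟨Q, hQP, hQ, hQq⟩ := Ideal.exists_ideal_over_prime_of_isIntegral q (P.map π) (by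
    have : (P.map π).comap (algebraMap A (PolLaw.image F.law)) = P.comap (algebraMap A B) := by
      conv_rhs => rw [← hcm]
      rw [← π.comp_algebraMap]
      rfl
    rw [this, hbot]
    exact bot_le)
  refine ⟨Q.comap π, Ideal.IsPrime.comap _, hcm.symm.le.trans (Ideal.comap_mono hQP), ?_⟩
  rw [← hQq, ← π.comp_algebraMap]
  rfl

end Groth.Agent.S13703
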