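import Groth.Statements.S13704
import Groth.Agent.H22Alg.MulLawFibre

set_option autoImplicit false
universe u
open scoped TensorProduct
open ZeroCyc

namespace Groth.Agent.S13704

/-- Let F : B → A be a multiplicative polynomial law homogeneous of degree d over the commutative ring A
and let Z = Spec(B/ker F) be the image of the corresponding family of zero-cycles on Spec B over
Spec A. Then Z → Spec A is universally generizing: for every commutative A-algebra A', along the map
Spec(A' ⊗_A (B/ker F)) → Spec A' every generization of the image of a point lifts to a generization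
of the point. (The published statement is for X affine over an algebraic space S and for the support
of the family; this row is the case of an affine base, stated for the image, which has the same
underlying space as the support since generizing is a topological property.) -/
theorem result {A : Type u} [CommRing A] {B : Type u} [CommRing B] [Algebra A B]
    {d : ℕ} (F : PolLaw.MulLaw A B A d) (A' : Type u) [CommRing A'] [Algebra A A'] :
    GeneralizingMap (PrimeSpectrum.comap (algebraMap A' (A' ⊗[A] PolLaw.image F.law))) := by
  haveI := Groth.Agent.H22Alg.PL.isIntegral_image F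
  set f := PrimeSpectrum.comap (algebraMap A' (A' ⊗[A] PolLaw.image F.law))
  intro x y h
  by_contra hcon
  push_neg at hcon
  let e := (Algebra.TensorProduct.cancelBaseChange A A' A' y.asIdeal.ResidueField (PolLaw.image F.law)).toRingEquiv
  haveI := (Groth.Agent.H22Alg.PL.finite_primeSpectrum_fibre F y.asIdeal.ResidueField).1
  haveI : Finite (PrimeSpectrum (y.asIdeal.ResidueField ⊗[A'] (A' ⊗[A] PolLaw.image F.law))) :=
    (PrimeSpectrum.comapEquiv e).toEquiv.finite_iff.mpr inferInstance
  haveI : Finite (f ⁻¹' {y} : Set _) :=
    (PrimeSpectrum.preimageEquivFiber A' (A' ⊗[A] PolLaw.image F.law) y).finite_iff.mpr inferInstance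
  have hex : ∀ x' : (f ⁻¹' {y} : Set _), ∃ r, r ∈ x'.1.asIdeal ∧ r ∉ x.asIdeal := fun x' => by
    by_contra hc
    push_neg at hc
    exact hcon x'.1 ((PrimeSpectrum.le_iff_specializes _ _).mp fun r hr => hc r hr) x'.2
  choose r hr hrx using hex
  haveI := Fintype.ofFinite (f ⁻¹' {y} : Set _)
  have hmem : x ∈ PrimeSpectrum.basicOpen (∏ x', r x') :=
    fun hc => by
      obtain ⟨x', -, hx'⟩ := (x.isPrime.prod_mem_iff).mp hc
      exact hrx x' hx'
  have hopen := Groth.Agent.H22Alg.PL.isOpenMap_image F A' _ (PrimeSpectrum.basicOpen (∏ x', r x')).isOpen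
  obtain ⟨x', hx', rfl⟩ := h.mem_open hopen ⟨x, hmem, rfl⟩
  exact hx' ((Ideal.IsPrime.prod_mem_iff).mpr ⟨⟨x', rfl⟩, Finset.mem_univ _, hr ⟨x', rfl⟩⟩)

end Groth.Agent.S13704
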