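import Groth.Statements.S13705
import Groth.Agent.H22Alg.MulLawFibre
import Groth.Agent.H22Alg.UnivOpen

set_option autoImplicit false
universe u
open scoped TensorProduct
open ZeroCyc

namespace Groth.Agent.S13705

/-- Let F : B → A be a multiplicative polynomial law homogeneous of degree d over the commutative ring
A, with no finiteness assumption on B. Then the morphism Spec(B/ker F) → Spec A, the image of the
family of zero-cycles on Spec B defined by F, is universally open. (The published statement is for X
affine over an algebraic space S and for the support; this row is the case of an affine base, stated
for the image, which has the same underlying space as the support, the property being étale-local on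
the base and topological.) -/
theorem result {A : Type u} [CommRing A] {B : Type u} [CommRing B] [Algebra A B]
    {d : ℕ} (F : PolLaw.MulLaw A B A d) :
    AlgebraicGeometry.UniversallyOpen
      (AlgebraicGeometry.Spec.map (CommRingCat.ofHom (algebraMap A (PolLaw.image F.law)))) := by
  exact Groth.Agent.H22Alg.universallyOpen_specMap fun R _ _ =>
    Groth.Agent.H22Alg.PL.isOpenMap_image F R

end Groth.Agent.S13705
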