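import Groth.Statements.S13706
import Groth.Agent.H22Alg.MulLawFibre

set_option autoImplicit false
universe u
open scoped TensorProduct
open ZeroCyc

namespace Groth.Agent.S13706

/-- Let A be a commutative ring, B an A-algebra of finite type and F : B → A a multiplicative polynomial
law homogeneous of degree d. Then there is a finitely generated ideal J of B, contained in the
kernel of F and with the same radical; thus the support of the family of zero-cycles defined by F is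
carried by a bijective closed immersion into Spec(B/J), a scheme of finite presentation over A. -/
theorem result {A : Type u} [CommRing A] {B : Type u} [CommRing B] [Algebra A B]
    [Algebra.FiniteType A B] {d : ℕ} (F : PolLaw.MulLaw A B A d) :
    ∃ J : Ideal B, J.FG ∧ J ≤ PolLaw.ker F.law ∧ J.radical = (PolLaw.ker F.law).radical := by
  classical
  obtain ⟨s, hs⟩ := (Algebra.FiniteType.out : (⊤ : Subalgebra A B).FG)
  let J₀ : Ideal B := Ideal.span ((fun b => Polynomial.aeval b (Groth.Agent.H22Alg.PL.chi F ((1 : A) ⊗ₜ[A] b))) '' s)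
  have hJ₀ : J₀ ≤ PolLaw.ker F.law := Ideal.span_le.mpr (by
    rintro _ ⟨b, -, rfl⟩
    exact Groth.Agent.H22Alg.PL.ch_mem_ker F b)
  have hadj : Algebra.adjoin A ((Ideal.Quotient.mkₐ A J₀) '' s) = ⊤ := by
    rw [← AlgHom.map_adjoin, hs, Algebra.map_top, AlgHom.range_eq_top]
    exact Ideal.Quotient.mk_surjective
  have hfin : Module.Finite A (B ⧸ J₀) := by
    refine ⟨?_⟩
    rw [← Algebra.top_toSubmodule, ← hadj]
    refine fg_adjoin_of_finite (s.finite_toSet.image _) ?_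
    rintro _ ⟨b, hb, rfl⟩
    refine ⟨_, Groth.Agent.H22Alg.PL.monic_chi F ((1 : A) ⊗ₜ[A] b), ?_⟩
    show Polynomial.aeval (Ideal.Quotient.mkₐ A J₀ b) _ = 0
    rw [map_mul, Polynomial.aeval_algHom_apply (Ideal.Quotient.mkₐ A J₀) b (Groth.Agent.H22Alg.PL.chi F _),
      Ideal.Quotient.mkₐ_eq_mk, Ideal.Quotient.eq_zero_iff_mem.mpr (show _ ∈ J₀ from Ideal.subset_span (Set.mem_image_of_mem _ hb)), mul_zero]
  obtain ⟨t, ht⟩ := Module.finite_def.mp hfin
  choose lift hlift using (Ideal.Quotient.mk_surjective (I := J₀))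
  let m : {x // x ∈ t} → B := fun x => lift x.1
  let z : MvPolynomial {x // x ∈ t} A ⊗[A] B := ∑ x, MvPolynomial.X x ⊗ₜ[A] m x
  let c := Polynomial.aeval z (Groth.Agent.H22Alg.PL.chi F z)
  let J₁ : Ideal B := Ideal.span ((Groth.Agent.H22Alg.PL.cd c) '' (Groth.Agent.H22Alg.PL.cd c).support)
  have hJ₁ : J₁ ≤ PolLaw.ker F.law := Ideal.span_le.mpr (by
    rintro _ ⟨ν, hν, rfl⟩
    exact Groth.Agent.H22Alg.PL.cd_mem_ker F (Groth.Agent.H22Alg.PL.ch_mem_kerBC F z) ν)
  refine ⟨J₀ ⊔ J₁, Submodule.FG.sup (Submodule.fg_span (s.finite_toSet.image _))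
    (Submodule.fg_span ((Finset.finite_toSet _).image _)), sup_le hJ₀ hJ₁,
    le_antisymm (Ideal.radical_mono (sup_le hJ₀ hJ₁)) (Ideal.radical_le_radical_iff.mpr fun b hb => ?_)⟩
  obtain ⟨a, ha⟩ := (Submodule.mem_span_finset').mp
    (ht ▸ Submodule.mem_top : Ideal.Quotient.mk J₀ b ∈ Submodule.span A (t : Set (B ⧸ J₀)))
  set b' := ∑ x, a x • m x with hb'
  have hbb : b - b' ∈ J₀ := by
    rw [← Ideal.Quotient.eq, ← ha, ← Ideal.Quotient.mkₐ_eq_mk A, map_sum]
    refine Finset.sum_congr rfl fun x _ => ?_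
    rw [map_smul, Ideal.Quotient.mkₐ_eq_mk, hlift]
  let φ : MvPolynomial {x // x ∈ t} A →ₐ[A] A := MvPolynomial.aeval a
  have hz : Groth.Agent.H22Alg.PL.bc φ z = (1 : A) ⊗ₜ[A] b' := by
    simp only [z, map_sum, Groth.Agent.H22Alg.PL.bc_tmul, φ, MvPolynomial.aeval_X, hb', TensorProduct.tmul_sum]
    exact Finset.sum_congr rfl fun x _ => by rw [TensorProduct.tmul_smul, TensorProduct.smul_tmul', smul_eq_mul, mul_one]
  have hb'ker : b' ∈ PolLaw.ker F.law := by
    simpa using sub_mem hb (hJ₀ hbb)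
  have h1 : Polynomial.aeval b' (Groth.Agent.H22Alg.PL.chi F ((1 : A) ⊗ₜ[A] b')) ∈ J₁ := by
    have h3 := congrArg (Algebra.TensorProduct.lid A B) (congrArg (Groth.Agent.H22Alg.PL.bc (B := B) φ)
      (Groth.Agent.H22Alg.PL.sum_monomial_cd c))
    rw [show Groth.Agent.H22Alg.PL.bc φ c = Polynomial.aeval ((1 : A) ⊗ₜ[A] b')
      (Groth.Agent.H22Alg.PL.chi F ((1 : A) ⊗ₜ[A] b')) by
        rw [Groth.Agent.H22Alg.PL.bc_aeval, hz, Groth.Agent.H22Alg.PL.chi_bc, hz],
      show Polynomial.aeval ((1 : A) ⊗ₜ[A] b') (Groth.Agent.H22Alg.PL.chi F ((1 : A) ⊗ₜ[A] b')) =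
        (1 : A) ⊗ₜ[A] Polynomial.aeval b' (Groth.Agent.H22Alg.PL.chi F ((1 : A) ⊗ₜ[A] b')) by
          simpa using Groth.Agent.H22Alg.PL.aeval_one_tmul (S := A) b' (Groth.Agent.H22Alg.PL.chi F ((1 : A) ⊗ₜ[A] b')),
      Algebra.TensorProduct.lid_tmul, one_smul] at h3
    rw [← h3, map_sum, map_sum]
    refine sum_mem fun ν hν => ?_
    rw [Groth.Agent.H22Alg.PL.bc_tmul, Algebra.TensorProduct.lid_tmul]
    exact Submodule.smul_of_tower_mem J₁ _ (Ideal.subset_span ⟨ν, hν, rfl⟩)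
  have h2 : b' ∈ (J₀ ⊔ J₁).radical :=
    Groth.Agent.H22Alg.PL.pow_mem_ch F hb'ker (Ideal.mem_sup_right h1)
  simpa using add_mem h2 (Ideal.le_radical (Ideal.mem_sup_left hbb : b - b' ∈ J₀ ⊔ J₁))

end Groth.Agent.S13706
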