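import Groth.Statements.S13707
import Groth.Agent.H22Alg.MulLawFibre

set_option autoImplicit false
universe u
open scoped TensorProduct
open ZeroCyc

namespace Groth.Agent.S13707

/-- Let k be a field, B a commutative k-algebra and F : B → k a multiplicative polynomial law
homogeneous of degree d. Then the spectrum of B/ker F (the image of the family of zero-cycles of
degree d on Spec B defined by F) is a finite set of at most d closed points, and the residue field
at each of them has finite separable degree over k. -/
theorem result {k : Type u} [Field k] {B : Type u} [CommRing B] [Algebra k B]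
    {d : ℕ} (F : PolLaw.MulLaw k B k d) :
    Finite (PrimeSpectrum (PolLaw.image F.law)) ∧ Nat.card (PrimeSpectrum (PolLaw.image F.law)) ≤ d ∧
      ∀ P : PrimeSpectrum (PolLaw.image F.law), P.asIdeal.IsMaximal ∧
        Finite (Field.Emb k P.asIdeal.ResidueField) := by
  have hint := Groth.Agent.H22Alg.PL.isIntegral_image F
  obtain ⟨hfin, hcard⟩ := Groth.Agent.H22Alg.PL.finite_algHom_image F (AlgebraicClosure k)
  choose f hf using fun P : PrimeSpectrum (PolLaw.image F.law) =>
    Groth.Agent.H22Alg.PL.exists_algHom_ker (K := k) P
  have hr : Function.Injective f := fun P Q h => PrimeSpectrum.ext (by rw [← hf P, ← hf Q, h])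
  refine ⟨Finite.of_injective f hr, (Nat.card_le_card_of_injective f hr).trans hcard, fun P => ⟨?_, ?_⟩⟩
  · have h0 : P.asIdeal.comap (algebraMap k (PolLaw.image F.law)) = ⊥ :=
      (Ideal.eq_bot_or_top _).resolve_right (Ideal.IsPrime.ne_top (Ideal.IsPrime.comap _))
    exact Ideal.isMaximal_of_isIntegral_of_isMaximal_comap (R := k) P.asIdeal
      (h0.symm ▸ (Ideal.bot_isMaximal : (⊥ : Ideal k).IsMaximal))
  · haveI := (Groth.Agent.H22Alg.PL.finite_algHom_image F (AlgebraicClosure P.asIdeal.ResidueField)).1
    refine Finite.of_injective (fun e : Field.Emb k P.asIdeal.ResidueField =>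
      (e : P.asIdeal.ResidueField →ₐ[k] AlgebraicClosure P.asIdeal.ResidueField).comp
        (IsScalarTower.toAlgHom k (PolLaw.image F.law) P.asIdeal.ResidueField)) fun e e' h => ?_
    apply AlgHom.coe_ringHom_injective
    refine IsLocalization.ringHom_ext (nonZeroDivisors (PolLaw.image F.law ⧸ P.asIdeal)) ?_
    refine Ideal.Quotient.ringHom_ext (RingHom.ext fun x => ?_)
    exact DFunLike.congr_fun h x

end Groth.Agent.S13707
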