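import Groth.Statements.S13708
import Mathlib
-- import your own Groth.Agent.* helpers here

set_option autoImplicit false
universe u
open CategoryTheory CategoryTheory.Limits AlgebraicGeometry
open ZeroCyc

namespace Groth.Agent.S13708

/-- Let X be a scheme over S such that every finite set of points of X over a common point of S lies in
some affine open subscheme of X (the condition (AF)). Then X is separated over S. (The published
condition (AF) asks for an open U with U → S quasi-affine rather than U affine; with U affine, as
here, the same argument applies verbatim, and the two conditions agree over a quasi-separated base.) -/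
theorem result {X S : Scheme.{u}} (f : X ⟶ S) (hX : SymProd.IsAF f) :
    IsSeparated f := by
  rw [isSeparated_iff]
  let J := { U : X.Opens // IsAffineOpen U }
  let g : ∀ U : J, U.1.toScheme ⟶ S := fun U => U.1.ι ≫ f
  let e : ∀ U : J, pullback (g U) (g U) ⟶ pullback f f := fun U =>
    pullback.map (g U) (g U) f f U.1.ι U.1.ι (𝟙 S) (by simp [g]) (by simp [g])
  let 𝒰 : (pullback.diagonalObj f).OpenCover := Scheme.Cover.mkOfCovers J _ e (fun z => by
    classical
    obtain ⟨U, hU, hT⟩ := hX (f.base ((pullback.fst f f).base z))
      {(pullback.fst f f).base z, (pullback.snd f f).base z} (by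
        intro x hx
        rcases Finset.mem_insert.mp hx with rfl | hx
        · rfl
        · rw [Finset.mem_singleton.mp hx, ← Scheme.Hom.comp_apply, ← Scheme.Hom.comp_apply,
            pullback.condition])
    have h : z ∈ Set.range (e ⟨U, hU⟩).base := by
      rw [Scheme.Pullback.range_map]
      exact ⟨by simpa using hT _ (by simp), by simpa using hT _ (by simp)⟩
    obtain ⟨y, hy⟩ := h
    exact ⟨⟨U, hU⟩, y, hy⟩) (fun U => inferInstance)
  refine IsZariskiLocalAtTarget.of_openCover (P := @IsClosedImmersion) 𝒰 (fun (U : J) => ?_)
  have : IsAffine U.1.toScheme := U.2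
  have e1 : e U ≫ pullback.fst f f = pullback.fst _ _ ≫ U.1.ι := pullback.lift_fst _ _ _
  have e2 : e U ≫ pullback.snd f f = pullback.snd _ _ ≫ U.1.ι := pullback.lift_snd _ _ _
  have sq : IsPullback U.1.ι (pullback.diagonal (g U)) (pullback.diagonal f) (e U) := by
    refine IsPullback.of_isLimit' ⟨pullback.hom_ext ?_ ?_⟩
      (PullbackCone.IsLimit.mk _ (fun c => c.snd ≫ pullback.fst _ _) (fun c => ?_) (fun c => ?_)
        (fun c m h₁ h₂ => ?_))
    · erw [Category.assoc, Category.assoc, e1, pullback.diagonal_fst, pullback.diagonal_fst_assoc]
      exact Category.comp_id _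
    · erw [Category.assoc, Category.assoc, e2, pullback.diagonal_snd, pullback.diagonal_snd_assoc]
      exact Category.comp_id _
    · have h1 := congrArg (· ≫ pullback.fst f f) c.condition
      simp only [Category.assoc, pullback.diagonal_fst, Category.comp_id, e1] at h1
      exact (Category.assoc _ _ _).trans h1.symm
    · have h1 := congrArg (· ≫ pullback.fst f f) c.condition
      have h2 := congrArg (· ≫ pullback.snd f f) c.condition
      simp only [Category.assoc, pullback.diagonal_fst, pullback.diagonal_snd, Category.comp_id, e1, e2] at h1 h2
      refine pullback.hom_ext ?_ ?_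
      · erw [Category.assoc, Category.assoc, pullback.diagonal_fst, Category.comp_id]
      · erw [Category.assoc, Category.assoc, pullback.diagonal_snd, Category.comp_id]
        rw [← cancel_mono U.1.ι, Category.assoc, ← h1, h2, Category.assoc]
    · rw [← h₂]
      erw [Category.assoc, pullback.diagonal_fst, Category.comp_id]
  show IsClosedImmersion (pullback.snd (pullback.diagonal f) (e U))
  rw [← sq.isoPullback_inv_snd]
  infer_instance

end Groth.Agent.S13708
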