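import Groth.Statements.S13712
import Mathlib
import Groth.Agent.H22Alg.IntegralImage

set_option autoImplicit false
universe u
open CategoryTheory CategoryTheory.Limits AlgebraicGeometry
open ZeroCyc

namespace Groth.Agent.S13712

/-- Let f : X → Y and g : Y → S be morphisms of schemes with g separated, such that the composite X → S
is integral with topologically finite fibres (every fibre is a finite set). Then the
scheme-theoretic image Y' of f, with its closed immersion Y' → Y, is integral over S, and Y' → S
again has topologically finite fibres. (The published statement is for algebraic spaces; this row is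
the case of schemes.) -/
theorem result {X Y S : Scheme.{u}} (f : X ⟶ Y) (g : Y ⟶ S)
    [IsSeparated g] [IsIntegralHom (f ≫ g)] (hfin : ∀ s : S, Set.Finite ((f ≫ g).base ⁻¹' {s})) :
    IsIntegralHom (f.imageι ≫ g) ∧ ∀ s : S, Set.Finite ((f.imageι ≫ g).base ⁻¹' {s}) := by
  haveI : UniversallyClosed f := UniversallyClosed.of_comp_of_isSeparated f g
  have hh : f.toImage ≫ f.imageι ≫ g = f ≫ g := by rw [Scheme.Hom.toImage_imageι_assoc]
  haveI : IsIntegralHom (f.toImage ≫ f.imageι ≫ g) := hh.symm ▸ inferInstance
  haveI : UniversallyClosed f.toImage := UniversallyClosed.of_comp_of_isSeparated f.toImage (f.imageι ≫ g)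
  haveI : Surjective f.toImage := ⟨fun y => by
    have h1 := f.toImage.denseRange.closure_range
    rw [f.toImage.isClosedMap.isClosed_range.closure_eq] at h1
    exact (Set.eq_univ_iff_forall.mp h1 y)⟩
  have hfin' : ∀ s : S, Set.Finite ((f.toImage ≫ f.imageι ≫ g) ⁻¹' {s}) := fun s => by
    rw [hh]; exact hfin s
  refine ⟨Groth.Agent.H22Alg.IntegralImage.isIntegralHom_of_surjective f.toImage (f.imageι ≫ g) hfin', fun s => ?_⟩
  refine ((hfin' s).image f.toImage).subset fun y hy => ?_
  obtain ⟨x, rfl⟩ := f.toImage.surjective y
  exact ⟨x, hy, rfl⟩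

end Groth.Agent.S13712
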