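import Groth.Statements.S13714
import Groth.Agent.H22Alg.GammaFinPres

set_option autoImplicit false
universe u
open scoped TensorProduct
open ZeroCyc

namespace Groth.Agent.S13714

/-- Let (C, γ) be the algebra of divided powers Γ^d_A(B) of a commutative A-algebra B with its universal
multiplicative law γ : B → C homogeneous of degree d (every multiplicative law B → C' homogeneous of
degree d factors uniquely through γ by an algebra map C → C'). If B is of finite presentation over A
then so is C = Γ^d_A(B). -/
theorem result {A : Type u} [CommRing A] {B : Type u} [CommRing B] [Algebra A B] {C : Type u} [CommRing C] [Algebra A C]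
    {d : ℕ} (γ : PolLaw.MulLaw A B C d) (hγ : PolLaw.IsGammaD γ) [Algebra.FinitePresentation A B] :
    Algebra.FinitePresentation A C := by
  exact Groth.Agent.H22Alg.PL.finitePresentation_gammaD hγ

end Groth.Agent.S13714
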