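import Groth.Statements.S13715
import Groth.Agent.H22Alg.PolLawGamma

set_option autoImplicit false
universe u
open scoped TensorProduct
open ZeroCyc

namespace Groth.Agent.S13715

/-- Let (C, γ) be the algebra of divided powers Γ^d_A(B) of a commutative A-algebra B with its universal
multiplicative law γ : B → C homogeneous of degree d (every multiplicative law B → C' homogeneous of
degree d factors uniquely through γ by an algebra map C → C'). If B is finite (as a module) over A
then so is C = Γ^d_A(B). -/
theorem result {A : Type u} [CommRing A] {B : Type u} [CommRing B] [Algebra A B] {C : Type u} [CommRing C] [Algebra A C]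
    {d : ℕ} (γ : PolLaw.MulLaw A B C d) (hγ : PolLaw.IsGammaD γ) [Module.Finite A B] :
    Module.Finite A C := by
  classical
  obtain ⟨s, hs⟩ := (Module.Finite.fg_top (R := A) (M := B))
  have he : Submodule.span A (Set.range (Subtype.val : (↥s) → B)) = ⊤ := by simpa using hs
  have hsp := H22Alg.PL.span_co_eq_top hγ he
  refine ⟨⟨((Finset.univ : Finset ↥s).finsuppAntidiag d).image (H22Alg.PL.co γ.law (Subtype.val : (↥s) → B)), ?_⟩⟩
  refine eq_top_iff.mpr (hsp.ge.trans (Submodule.span_le.mpr ?_))
  rintro _ ⟨ν, rfl⟩
  by_cases hν : (ν.sum fun _ k => k) = d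
  · exact Submodule.subset_span (Finset.mem_coe.mpr (Finset.mem_image_of_mem _
      (Finset.mem_finsuppAntidiag'.mpr ⟨hν, Finset.subset_univ _⟩)))
  · rw [H22Alg.PL.co_eq_zero_of_degree_ne γ.homog _ hν]
    exact zero_mem _

end Groth.Agent.S13715
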