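import Groth.Statements.S13716
import Groth.Agent.H22Alg.PolLawGamma

set_option autoImplicit false
universe u
open scoped TensorProduct
open ZeroCyc

namespace Groth.Agent.S13716

/-- Let (C, γ) be the algebra of divided powers Γ^d_A(B) of a commutative A-algebra B with its universal
multiplicative law γ : B → C homogeneous of degree d (every multiplicative law B → C' homogeneous of
degree d factors uniquely through γ by an algebra map C → C'). If B is integral over A then so is C
= Γ^d_A(B). -/
theorem result {A : Type u} [CommRing A] {B : Type u} [CommRing B] [Algebra A B] {C : Type u} [CommRing C] [Algebra A C]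
    {d : ℕ} (γ : PolLaw.MulLaw A B C d) (hγ : PolLaw.IsGammaD γ) [Algebra.IsIntegral A B] :
    Algebra.IsIntegral A C := by
  classical
  have hsp := H22Alg.PL.span_co_eq_top hγ (e := (id : B → B)) (by simp)
  refine ⟨fun c => ?_⟩
  have hc : c ∈ Submodule.span A (Set.range (H22Alg.PL.co γ.law (id : B → B))) := hsp ▸ Submodule.mem_top
  induction hc using Submodule.span_induction with
  | mem x hx =>
    obtain ⟨ν, rfl⟩ := hx
    set B₀ := Algebra.adjoin A (ν.support : Set B)
    have hB₀ : Subalgebra.toSubmodule B₀ |>.FG :=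
      fg_adjoin_of_finite ν.support.finite_toSet fun b _ => Algebra.IsIntegral.isIntegral b
    have hfin : Module.Finite A B₀ := Module.Finite.iff_fg.mpr hB₀
    obtain ⟨s, hs⟩ := (Module.Finite.fg_top (R := A) (M := B₀))
    have he : Submodule.span A (Set.range (Subtype.val : (↥s) → B₀)) = ⊤ := by simpa using hs
    let γ₀ := γ.precomp B₀.val
    let D := H22Alg.PL.coSubalgebra γ₀
    have hD : (Subalgebra.toSubmodule D).FG := by
      refine ⟨((Finset.univ : Finset ↥s).finsuppAntidiag d).image (H22Alg.PL.co γ₀.law (Subtype.val : (↥s) → B₀)), ?_⟩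
      refine le_antisymm (Submodule.span_le.mpr ?_) ?_
      · intro x hx
        obtain ⟨μ, -, rfl⟩ := Finset.mem_image.mp hx
        exact H22Alg.PL.co_mem_coSubalgebra γ₀ _ μ
      · intro x hx
        refine (Submodule.span_le.mpr ?_ : Submodule.span A (Set.range (H22Alg.PL.co γ₀.law (id : B₀ → B₀))) ≤ _) hx
        rintro _ ⟨μ, rfl⟩
        refine (Submodule.span_le.mpr ?_ : Submodule.span A (Set.range (H22Alg.PL.co γ₀.law (Subtype.val : (↥s) → B₀))) ≤ _)
          (H22Alg.PL.co_mem_span γ₀.homog he id μ)
        rintro _ ⟨ρ, rfl⟩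
        by_cases hρ : (ρ.sum fun _ k => k) = d
        · exact Submodule.subset_span (Finset.mem_coe.mpr (Finset.mem_image_of_mem _
            (Finset.mem_finsuppAntidiag'.mpr ⟨hρ, Finset.subset_univ _⟩)))
        · rw [SetLike.mem_coe, H22Alg.PL.co_eq_zero_of_degree_ne γ₀.homog _ hρ]
          exact zero_mem _
    refine IsIntegral.of_mem_of_fg D hD _ ?_
    let b₀ : B → B₀ := fun b => if h : b ∈ B₀ then ⟨b, h⟩ else 0
    have h1 : H22Alg.PL.co γ₀.law b₀ ν ∈ D := H22Alg.PL.co_mem_coSubalgebra γ₀ b₀ ν
    rw [show γ₀.law = PolLaw.precomp γ.law B₀.val.toLinearMap from rfl, H22Alg.PL.co_precomp] at h1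
    convert h1 using 1
    show H22Alg.PL.cd (γ.law.toFun' _ (H22Alg.PL.gen id ν.support)) ν = H22Alg.PL.cd (γ.law.toFun' _ (H22Alg.PL.gen _ ν.support)) ν
    congr 2
    refine congrArg (γ.law.toFun' _) (Finset.sum_congr rfl fun b hb => ?_)
    refine congrArg _ ?_
    have hb' : b ∈ B₀ := Algebra.subset_adjoin hb
    show b = ((b₀ b : B₀) : B)
    simp only [b₀, hb', dif_pos]
  | zero => exact isIntegral_zero
  | add a b _ _ ha hb => exact ha.add hb
  | smul r a _ ha => exact ha.smul r

end Groth.Agent.S13716
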