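import Groth.Statements.S13718
import Groth.Agent.H22Alg.MulLawPoly

set_option autoImplicit false
universe u
open scoped TensorProduct
open ZeroCyc

namespace Groth.Agent.S13718

/-- Let φ : B' → B be a map of commutative algebras over the commutative ring A and F : B → A a
multiplicative polynomial law homogeneous of degree d, with push-forward the law F ∘ φ : B' → A.
Then the radical of the kernel of F ∘ φ equals the radical of the inverse image under φ of the
kernel of F: the support of the pushed-forward family of zero-cycles on Spec B' is the image of the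
support of the family on Spec B. (The published statement is for affine morphisms X → Y → S of
algebraic spaces; this row is the case of an affine base.) -/
theorem result {A : Type u} [CommRing A] {B : Type u} [CommRing B] [Algebra A B]
    {B' : Type u} [CommRing B'] [Algebra A B'] {d : ℕ} (F : PolLaw.MulLaw A B A d) (φ : B' →ₐ[A] B) :
    (PolLaw.ker (F.precomp φ).law).radical = ((PolLaw.ker F.law).comap φ).radical := by
  refine le_antisymm (Ideal.radical_le_radical_iff.mpr fun b hb => ⟨d, ?_⟩) (Ideal.radical_mono fun b hb => ?_)
  · rw [Ideal.mem_comap, map_pow]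
    have h1 := Groth.Agent.H22Alg.PL.ch_mem_ker F (φ b)
    have h2 : Groth.Agent.H22Alg.PL.chi F ((1 : A) ⊗ₜ[A] φ b) = (-Polynomial.X) ^ d := by
      have := Groth.Agent.H22Alg.PL.chi_of_mem_ker (F.precomp φ) hb (S := A)
      rwa [Groth.Agent.H22Alg.PL.chi_precomp, Algebra.TensorProduct.map_tmul] at this
    rw [h2, map_pow, map_neg, Polynomial.aeval_X, neg_pow] at h1
    exact (Ideal.unit_mul_mem_iff_mem _ (isUnit_one.neg.pow d)).mp h1
  · intro S _ _ x w
    rw [Groth.Agent.H22Alg.PL.law_precomp_apply, Groth.Agent.H22Alg.PL.law_precomp_apply, map_add, map_mul,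
      Algebra.TensorProduct.map_tmul]
    exact Ideal.mem_comap.mp hb S _ _

end Groth.Agent.S13718
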