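import Groth.Statements.S1372
import Groth.Agent.H7Flat.UnivOpen
import Mathlib.AlgebraicGeometry.Morphisms.UniversallyOpen
import Mathlib.AlgebraicGeometry.Pullbacks
import Mathlib.RingTheory.IsTensorProduct
import Mathlib.RingTheory.TensorProduct.MvPolynomial

set_option autoImplicit false
set_option backward.isDefEq.respectTransparency false
set_option linter.style.haveILetI false
universe u
open FlatMor
open AlgebraicGeometry CategoryTheory Limits
open scoped TensorProduct
open Groth.Agent.H7Flat (exists_common_extension)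

namespace Groth.Agent.S1372

/-- If all `Spec C[X_1..X_n] → Spec A[X_1..X_n]` are open then `Spec (B ⊗ C) → Spec B` is open. -/
theorem isOpenMap_comap_baseChange_of_span {A C : Type u} [CommRing A] [CommRing C] [Algebra A C] {d : ℕ}
    (c : Fin d → C) (hc : Submodule.span A (Set.range c) = ⊤)
    (H : IsOpen (PrimeSpectrum.comap (MvPolynomial.map (σ := Fin d) (algebraMap A C)) ''
        (PrimeSpectrum.basicOpen (∑ i : Fin d, MvPolynomial.X i * MvPolynomial.C (c i)) : Set (PrimeSpectrum (MvPolynomial (Fin d) C)))))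
    (B : Type u) [CommRing B] [Algebra A B] :
    IsOpenMap (PrimeSpectrum.comap (algebraMap B (B ⊗[A] C))) := by
  rw [PrimeSpectrum.isTopologicalBasis_basic_opens.isOpenMap_iff]
  rintro _ ⟨z, rfl⟩
  obtain ⟨b, rfl⟩ : ∃ b : Fin d → B, z = ∑ i, b i ⊗ₜ[A] c i := by
    induction z with
    | zero => exact ⟨0, by simp⟩
    | tmul x y =>
      obtain ⟨a, ha⟩ := (Submodule.mem_span_range_iff_exists_fun A).1 (hc ▸ Submodule.mem_top : y ∈ Submodule.span A (Set.range c))
      refine ⟨fun i => a i • x, ?_⟩
      rw [← ha, TensorProduct.tmul_sum]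
      simp only [TensorProduct.tmul_smul, TensorProduct.smul_tmul']
    | add x y hx hy =>
      obtain ⟨a, ha⟩ := hx
      obtain ⟨a', ha'⟩ := hy
      refine ⟨a + a', ?_⟩
      rw [ha, ha', ← Finset.sum_add_distrib]
      exact Finset.sum_congr rfl fun i _ => by rw [Pi.add_apply, TensorProduct.add_tmul]
  let σ := Fin d
  let φ : MvPolynomial σ A →+* MvPolynomial σ C := MvPolynomial.map (algebraMap A C)
  let ψ : MvPolynomial σ A →+* B := MvPolynomial.eval₂Hom (algebraMap A B) (fun i => b i)
  let g : MvPolynomial σ C →+* B ⊗[A] C :=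
    MvPolynomial.eval₂Hom Algebra.TensorProduct.includeRight.toRingHom (fun i => b i ⊗ₜ 1)
  let z' : MvPolynomial σ C := ∑ i : Fin d, MvPolynomial.X i * MvPolynomial.C (c i)
  have hgz : g z' = ∑ i, b i ⊗ₜ[A] c i := by
    simp only [z', g, map_sum, map_mul, MvPolynomial.coe_eval₂Hom, MvPolynomial.eval₂_X]
    refine Finset.sum_congr rfl fun i _ => ?_
    rw [MvPolynomial.eval₂_C]
    simp
  have hgφ : g.comp φ = (algebraMap B (B ⊗[A] C)).comp ψ := by
    refine MvPolynomial.ringHom_ext (fun a => ?_) (fun i => ?_)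
    · simp [g, φ, ψ]
    · simp [g, φ, ψ]
  have himg : PrimeSpectrum.comap (algebraMap B (B ⊗[A] C)) '' (PrimeSpectrum.basicOpen (∑ i, b i ⊗ₜ[A] c i) : Set _) =
      PrimeSpectrum.comap ψ ⁻¹' (PrimeSpectrum.comap φ '' (PrimeSpectrum.basicOpen z' : Set _)) := by
    ext q
    constructor
    · rintro ⟨s, hs, rfl⟩
      refine ⟨PrimeSpectrum.comap g s, ?_, ?_⟩
      · show g z' ∉ s.asIdeal
        rw [hgz]; exact hs
      · ext x
        show g (φ x) ∈ s.asIdeal ↔ algebraMap B (B ⊗[A] C) (ψ x) ∈ s.asIdeal
        rw [show g (φ x) = algebraMap B (B ⊗[A] C) (ψ x) from RingHom.congr_fun hgφ x]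
    · rintro ⟨w, hw, hwq⟩
      let p := PrimeSpectrum.comap ψ q
      have hpw : p.asIdeal = w.asIdeal.comap φ := congrArg PrimeSpectrum.asIdeal hwq.symm
      letI : Algebra p.asIdeal.ResidueField q.asIdeal.ResidueField :=
        (Ideal.ResidueField.map p.asIdeal q.asIdeal ψ rfl).toAlgebra
      letI : Algebra p.asIdeal.ResidueField w.asIdeal.ResidueField :=
        (Ideal.ResidueField.map p.asIdeal w.asIdeal φ hpw).toAlgebra
      obtain ⟨Ω, _, β₀, δ₀, hcomm⟩ :=
        exists_common_extension p.asIdeal.ResidueField q.asIdeal.ResidueField w.asIdeal.ResidueField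
      let β : B →+* Ω := β₀.comp (algebraMap B _)
      let δ : MvPolynomial σ C →+* Ω := δ₀.comp (algebraMap _ _)
      have hβδ : ∀ x, β (ψ x) = δ (φ x) := by
        intro x
        simp only [β, δ, RingHom.comp_apply]
        have h1 : algebraMap B q.asIdeal.ResidueField (ψ x) =
            algebraMap p.asIdeal.ResidueField q.asIdeal.ResidueField (algebraMap _ _ x) :=
          (Ideal.ResidueField.map_algebraMap p.asIdeal q.asIdeal ψ rfl x).symm
        have h2 : algebraMap (MvPolynomial σ C) w.asIdeal.ResidueField (φ x) =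
            algebraMap p.asIdeal.ResidueField w.asIdeal.ResidueField (algebraMap _ _ x) :=
          (Ideal.ResidueField.map_algebraMap p.asIdeal w.asIdeal φ hpw x).symm
        rw [h1, h2]
        exact hcomm _
      letI : Algebra A (Ω) := (β.comp (algebraMap A B)).toAlgebra
      let h : B ⊗[A] C →ₐ[A] Ω := Algebra.TensorProduct.lift ⟨β, fun a => rfl⟩
        ⟨δ.comp MvPolynomial.C, fun a => by
          have h3 := hβδ (MvPolynomial.C a)
          simp only [ψ, φ, MvPolynomial.eval₂Hom_C, MvPolynomial.map_C] at h3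
          exact h3.symm⟩ (fun _ _ => Commute.all _ _)
      refine ⟨⟨RingHom.ker h.toRingHom, RingHom.ker_isPrime _⟩, ?_, ?_⟩
      · show h (∑ i, b i ⊗ₜ[A] c i) ≠ 0
        have hz : h (∑ i, b i ⊗ₜ[A] c i) = δ z' := by
          simp only [z', map_sum, map_mul, h, Algebra.TensorProduct.lift_tmul]
          refine Finset.sum_congr rfl fun i _ => ?_
          have h3 := hβδ (MvPolynomial.X i)
          simp only [ψ, φ, MvPolynomial.eval₂Hom_X', MvPolynomial.map_X] at h3
          show β (b i) * δ (MvPolynomial.C (c i)) = _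
          rw [h3]
        rw [hz]
        intro h0
        apply hw
        rw [← Ideal.algebraMap_residueField_eq_zero]
        exact δ₀.injective (h0.trans (map_zero δ₀).symm)
      · ext x
        show h (algebraMap B (B ⊗[A] C) x) = 0 ↔ x ∈ q.asIdeal
        rw [show h (algebraMap B (B ⊗[A] C) x) = β₀ (algebraMap B _ x) by
          simp [h, Algebra.TensorProduct.algebraMap_apply, β], map_eq_zero_iff β₀ β₀.injective,
          Ideal.algebraMap_residueField_eq_zero]
  show IsOpen (PrimeSpectrum.comap (algebraMap B (B ⊗[A] C)) '' (PrimeSpectrum.basicOpen (∑ i, b i ⊗ₜ[A] c i) : Set _))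
  rw [himg]
  exact H.preimage (PrimeSpectrum.continuous_comap ψ)

theorem universallyOpen_specMap {R C : Type u} [CommRing R] [CommRing C] [Algebra R C]
    (hBC : ∀ (B : Type u) [CommRing B] [Algebra R B],
      IsOpenMap (PrimeSpectrum.comap (algebraMap B (B ⊗[R] C)))) :
    UniversallyOpen (Spec.map (CommRingCat.ofHom (algebraMap R C))) := by
  have hkey : ∀ (B : CommRingCat.{u}) (ψ : CommRingCat.of R ⟶ B),
      topologically @IsOpenMap (pullback.fst (Spec.map ψ) (Spec.map (CommRingCat.ofHom (algebraMap R C)))) := by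
    intro B ψ
    letI : Algebra R B := ψ.hom.toAlgebra
    have h2 : topologically @IsOpenMap ((pullbackSpecIso R B C).inv ≫
        pullback.fst (Spec.map (CommRingCat.ofHom (algebraMap R B))) (Spec.map (CommRingCat.ofHom (algebraMap R C)))) := by
      rw [pullbackSpecIso_inv_fst']
      exact hBC B
    exact (MorphismProperty.cancel_left_of_respectsIso (P := topologically @IsOpenMap)
      (pullbackSpecIso R B C).inv _).1 h2
  refine ⟨fun T' T i₁ i₂ f' hsq => ?_⟩
  show topologically @IsOpenMap f'
  rw [IsZariskiLocalAtTarget.iff_of_openCover (P := topologically @IsOpenMap) T.affineCover]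
  intro j
  have sq : IsPullback (pullback.snd f' (T.affineCover.f j)) (pullback.fst f' (T.affineCover.f j) ≫ i₁)
      (T.affineCover.f j ≫ i₂) (Spec.map (CommRingCat.ofHom (algebraMap R C))) :=
    (IsPullback.of_hasPullback f' (T.affineCover.f j)).flip.paste_vert hsq
  obtain ⟨ψ, hψ⟩ := Spec.homEquiv.symm.surjective (T.affineCover.f j ≫ i₂)
  replace hψ : Spec.map ψ = T.affineCover.f j ≫ i₂ := hψ
  rw [← hψ] at sq
  show topologically @IsOpenMap (pullback.snd f' (T.affineCover.f j))
  rw [← sq.isoPullback_hom_fst]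
  exact (MorphismProperty.cancel_left_of_respectsIso (P := topologically @IsOpenMap) _ _).2 (hkey _ ψ)


open AlgebraicGeometry CategoryTheory Limits in
/-- Let A → B be a ring map and b_1, ..., b_d elements generating B as an A-module. Let h = Σ x_i b_i in
the polynomial ring B[x_1, ..., x_d]. Then universal openness of Spec B → Spec A is equivalent to
openness of the image in Spec A[x_1, ..., x_d] of the basic open D(h). -/
theorem result {A B : Type u} [CommRing A] [CommRing B] [Algebra A B] {d : ℕ} (b : Fin d → B)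
    (hb : Submodule.span A (Set.range b) = ⊤) :
    UniversallyOpen (Spec.map (CommRingCat.ofHom (algebraMap A B))) ↔
      IsOpen (PrimeSpectrum.comap (MvPolynomial.map (σ := Fin d) (algebraMap A B)) ''
        (PrimeSpectrum.basicOpen (∑ i : Fin d, MvPolynomial.X i * MvPolynomial.C (b i)) : Set (PrimeSpectrum (MvPolynomial (Fin d) B)))) := by
  constructor
  · intro h
    have h' : IsOpenMap (PrimeSpectrum.comap (MvPolynomial.map (σ := Fin d) (algebraMap A B))) := by
      letI := MvPolynomial.algebraMvPolynomial (σ := Fin d) (R := A) (S := B)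
      have hp := CategoryTheory.IsPushout.flip (CommRingCat.isPushout_of_isPushout A B (MvPolynomial (Fin d) A) (MvPolynomial (Fin d) B))
      exact h.universally_isOpenMap _ _ _ (isPullback_SpecMap_of_isPushout _ _ _ _ hp)
    exact h' _ (PrimeSpectrum.basicOpen _).isOpen
  · intro H
    exact universallyOpen_specMap fun B' _ _ => isOpenMap_comap_baseChange_of_span b hb H B'

end Groth.Agent.S1372
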