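import Groth.Statements.S13720
import Groth.Agent.H22Alg.MulLawPoly

set_option autoImplicit false
universe u
open scoped TensorProduct
open ZeroCyc

namespace Groth.Agent.S13720

/-- Let B be the filtered direct limit of a directed system (B_i, t_ij : B_i → B_j) of commutative
algebras over the commutative ring A, with structure maps φ_i : B_i → B (jointly surjective, and an
element of B_i vanishing in B already vanishes in some B_j), and let F : B → C be a multiplicative
polynomial law homogeneous of degree d, with restrictions F_i = F ∘ φ_i. Then an element b of B lies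
in the kernel of F if and only if it is the image of some x ∈ B_i whose images in B_j lie in the
kernel of F_j for every j ≥ i; that is, the kernel of F is the direct limit of the kernels of the
F_i. -/
theorem result {A : Type u} [CommRing A] {B : Type u} [CommRing B] [Algebra A B]
    {C : Type u} [CommRing C] [Algebra A C] {ι : Type u} [Preorder ι] [IsDirected ι (fun i j => i ≤ j)] [Nonempty ι]
    (Bi : ι → Type u) [∀ i, CommRing (Bi i)] [∀ i, Algebra A (Bi i)]
    (t : ∀ i j : ι, i ≤ j → (Bi i →ₐ[A] Bi j)) (φ : ∀ i : ι, Bi i →ₐ[A] B)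
    (hcomp : ∀ (i j : ι) (h : i ≤ j), (φ j).comp (t i j h) = φ i)
    (hsurj : ∀ b : B, ∃ (i : ι) (x : Bi i), φ i x = b)
    (hzero : ∀ (i : ι) (x : Bi i), φ i x = 0 → ∃ (j : ι) (h : i ≤ j), t i j h x = 0)
    {d : ℕ} (F : PolLaw.MulLaw A B C d) (b : B) :
    b ∈ PolLaw.ker F.law ↔ ∃ (i : ι) (x : Bi i), φ i x = b ∧
      ∀ (j : ι) (h : i ≤ j), t i j h x ∈ PolLaw.ker (F.precomp (φ j)).law := by
  constructor
  · intro hb
    obtain ⟨i, x, rfl⟩ := hsurj b
    refine ⟨i, x, rfl, fun j h S _ _ y w => ?_⟩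
    rw [Groth.Agent.H22Alg.PL.law_precomp_apply, Groth.Agent.H22Alg.PL.law_precomp_apply, map_add, map_mul,
      Algebra.TensorProduct.map_tmul, map_one, show φ j (t i j h x) = φ i x from DFunLike.congr_fun (hcomp i j h) x]
    exact hb S _ _
  · rintro ⟨i, x, rfl, hx⟩ S _ _ y w
    have hlift : ∀ z : S ⊗[A] B, ∃ (j : ι) (z' : S ⊗[A] Bi j),
        Algebra.TensorProduct.map (AlgHom.id S S) (φ j) z' = z := by
      intro z
      induction z using TensorProduct.induction_on with
      | zero => exact ⟨i, 0, map_zero _⟩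
      | tmul s b =>
        obtain ⟨j, b', rfl⟩ := hsurj b
        exact ⟨j, s ⊗ₜ b', by simp⟩
      | add z₁ z₂ h₁ h₂ =>
        obtain ⟨j₁, z₁', rfl⟩ := h₁
        obtain ⟨j₂, z₂', rfl⟩ := h₂
        obtain ⟨j, hj₁, hj₂⟩ := exists_ge_ge j₁ j₂
        refine ⟨j, Algebra.TensorProduct.map (AlgHom.id S S) (t j₁ j hj₁) z₁' +
          Algebra.TensorProduct.map (AlgHom.id S S) (t j₂ j hj₂) z₂', ?_⟩
        rw [map_add, ← AlgHom.comp_apply, ← AlgHom.comp_apply, ← Algebra.TensorProduct.map_comp,
          ← Algebra.TensorProduct.map_comp, hcomp, hcomp]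
        rfl
    obtain ⟨j₁, y', rfl⟩ := hlift y
    obtain ⟨j₂, w', rfl⟩ := hlift w
    obtain ⟨j₀, hj₁, hj₂⟩ := exists_ge_ge j₁ j₂
    obtain ⟨j, h₀, hi⟩ := exists_ge_ge j₀ i
    have h := hx j hi S (Algebra.TensorProduct.map (AlgHom.id S S) (t j₁ j (hj₁.trans h₀)) y')
      (Algebra.TensorProduct.map (AlgHom.id S S) (t j₂ j (hj₂.trans h₀)) w')
    rw [Groth.Agent.H22Alg.PL.law_precomp_apply, Groth.Agent.H22Alg.PL.law_precomp_apply, map_add, map_mul,
      Algebra.TensorProduct.map_tmul, map_one, ← AlgHom.comp_apply, ← AlgHom.comp_apply,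
      ← Algebra.TensorProduct.map_comp, ← Algebra.TensorProduct.map_comp, hcomp, hcomp,
      show φ j (t i j hi x) = φ i x from DFunLike.congr_fun (hcomp i j hi) x] at h
    exact h

end Groth.Agent.S13720
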