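import Groth.Statements.S13721
import Groth.Agent.H22Alg.MulLawGeneric
import Groth.Agent.H22Alg.MulLawPoly

set_option autoImplicit false
universe u
open scoped TensorProduct
open ZeroCyc

namespace Groth.Agent.S13721

/-- Let F : B → A be a multiplicative polynomial law homogeneous of degree d over the commutative ring
A, on a commutative A-algebra B which is finite as an A-module, and let A' be the filtered direct
limit of a directed system (A'_i, t_ij) of commutative A-algebras (t_ii the identity, t_jk ∘ t_ij =
t_ik) with structure maps φ_i : A'_i → A' (compatible with the t_ij, jointly surjective, and an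
element of A'_i vanishing in A' already vanishes in some A'_j). Then the kernel of the base change
of F to A', an ideal of A' ⊗_A B, is the supremum over i of the extensions along φ_i ⊗ B of the
kernels of the base changes of F to the A'_i: the kernel of the base-changed law is the direct limit
of the kernels. (The published statement has no finiteness hypothesis on B and is false without one:
for a suitable algebra B that is not finitely generated and a suitable directed system of quotients
of A, an element of A' ⊗_A B lies in the kernel over the limit although it comes from the kernel at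
no finite stage, because the conditions cutting out the kernel at an element are infinitely many and
die one at a time along the system; the published proof's reduction to finite B does not go through.
This row assumes B finite over A, the case that proof establishes.) -/
theorem result {A : Type u} [CommRing A] {B : Type u} [CommRing B] [Algebra A B]
    [Module.Finite A B] {A' : Type u} [CommRing A'] [Algebra A A'] {ι : Type u} [Preorder ι] [IsDirected ι (fun i j => i ≤ j)] [Nonempty ι]
    (Ai : ι → Type u) [∀ i, CommRing (Ai i)] [∀ i, Algebra A (Ai i)]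
    (t : ∀ i j : ι, i ≤ j → (Ai i →ₐ[A] Ai j)) (φ : ∀ i : ι, Ai i →ₐ[A] A')
    (hcomp : ∀ (i j : ι) (h : i ≤ j), (φ j).comp (t i j h) = φ i)
    (hsurj : ∀ a : A', ∃ (i : ι) (x : Ai i), φ i x = a)
    (hzero : ∀ (i : ι) (x : Ai i), φ i x = 0 → ∃ (j : ι) (h : i ≤ j), t i j h x = 0)
    (hid : ∀ (i : ι) (h : i ≤ i), t i i h = AlgHom.id A (Ai i))
    (htrans : ∀ (i j k : ι) (hij : i ≤ j) (hjk : j ≤ k), (t j k hjk).comp (t i j hij) = t i k (hij.trans hjk))
    {d : ℕ} (F : PolLaw.MulLaw A B A d) :
    PolLaw.kerBC F.law A' =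
      ⨆ i : ι, (PolLaw.kerBC F.law (Ai i)).map (Algebra.TensorProduct.map (φ i) (AlgHom.id A B)) := by
  classical
  obtain ⟨n, g, hg⟩ := Module.Finite.exists_fin (R := A) (M := B)
  let e : ULift.{u} (Fin n) → B := fun k => g k.down
  have he : Submodule.span A (Set.range e) = ⊤ := by
    rw [← hg]; congr 1; ext y; simp [e]
  refine le_antisymm (fun b' hb' => ?_) (iSup_le fun i => Ideal.map_le_iff_le_comap.mpr fun y hy =>
    Groth.Agent.H22Alg.PL.bc_mem_kerBC F (φ i) hy)
  have hlift : ∀ z : A' ⊗[A] B, ∃ (i : ι) (y : Ai i ⊗[A] B), Groth.Agent.H22Alg.PL.bc (φ i) y = z := by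
    intro z
    induction z using TensorProduct.induction_on with
    | zero => exact ⟨Classical.arbitrary ι, 0, map_zero _⟩
    | tmul a b =>
      obtain ⟨i, x, rfl⟩ := hsurj a
      exact ⟨i, x ⊗ₜ b, rfl⟩
    | add u v hu hv =>
      obtain ⟨i, y, rfl⟩ := hu
      obtain ⟨j, z, rfl⟩ := hv
      obtain ⟨k, hik, hjk⟩ := exists_ge_ge i j
      refine ⟨k, Groth.Agent.H22Alg.PL.bc (t i k hik) y + Groth.Agent.H22Alg.PL.bc (t j k hjk) z, ?_⟩
      rw [map_add, Groth.Agent.H22Alg.PL.bc_bc, Groth.Agent.H22Alg.PL.bc_bc, hcomp, hcomp]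
  obtain ⟨i, y, rfl⟩ := hlift b'
  rw [Groth.Agent.H22Alg.PL.mem_kerBC_iff_obs F e he, Groth.Agent.H22Alg.PL.obs_map] at hb'
  set P := Groth.Agent.H22Alg.PL.obs F e y with hP
  have hex : ∀ ν : (ULift.{u} (Fin n) ⊕ ULift.{u} (Fin n)) →₀ ℕ, ∃ (j : ι) (h : i ≤ j), t i j h (P.coeff ν) = 0 :=
    fun ν => hzero i _ (by
      have := congrArg (fun p => MvPolynomial.coeff ν p) hb'
      simp only [MvPolynomial.coeff_map, MvPolynomial.coeff_zero] at this
      exact this)
  choose j hij hj using hex
  obtain ⟨K, hK⟩ := Finset.exists_le (insert i (P.support.image j))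
  have hiK : i ≤ K := hK i (Finset.mem_insert_self _ _)
  have hmem : Groth.Agent.H22Alg.PL.bc (t i K hiK) y ∈ PolLaw.kerBC F.law (Ai K) := by
    rw [Groth.Agent.H22Alg.PL.mem_kerBC_iff_obs F e he, Groth.Agent.H22Alg.PL.obs_map, ← hP]
    ext ν
    rw [MvPolynomial.coeff_map, MvPolynomial.coeff_zero]
    by_cases hν : ν ∈ P.support
    · show t i K hiK (P.coeff ν) = 0
      have hjK : j ν ≤ K := hK _ (Finset.mem_insert_of_mem (Finset.mem_image_of_mem j hν))
      rw [← htrans i (j ν) K (hij ν) hjK, AlgHom.comp_apply, hj ν, map_zero]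
    · rw [MvPolynomial.notMem_support_iff.mp hν, map_zero]
  refine le_iSup (fun i => (PolLaw.kerBC F.law (Ai i)).map (Algebra.TensorProduct.map (φ i) (AlgHom.id A B))) K ?_
  have : Groth.Agent.H22Alg.PL.bc (φ i) y = Groth.Agent.H22Alg.PL.bc (φ K) (Groth.Agent.H22Alg.PL.bc (t i K hiK) y) := by
    rw [Groth.Agent.H22Alg.PL.bc_bc, hcomp]
  rw [this]
  exact Ideal.mem_map_of_mem _ hmem

end Groth.Agent.S13721
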