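import Groth.Statements.S13724
import Groth.Agent.H22Alg.MulLawFibre

set_option autoImplicit false
universe u
open scoped TensorProduct
open ZeroCyc

namespace Groth.Agent.S13724

/-- Let A be a commutative ring with finitely many maximal ideals, B a commutative A-algebra and F : B →
A a multiplicative polynomial law homogeneous of degree d. Then B/ker F, the coordinate ring of the
image of the family of zero-cycles defined by F, has finitely many maximal ideals. -/
theorem result {A : Type u} [CommRing A] [Finite (MaximalSpectrum A)] {B : Type u} [CommRing B] [Algebra A B]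
    {d : ℕ} (F : PolLaw.MulLaw A B A d) :
    Finite (MaximalSpectrum (PolLaw.image F.law)) := by
  haveI := Groth.Agent.H22Alg.PL.isIntegral_image F
  let f : MaximalSpectrum (PolLaw.image F.law) → MaximalSpectrum A := fun P =>
    ⟨P.asIdeal.comap (algebraMap A _), Ideal.isMaximal_comap_of_isIntegral_of_isMaximal P.asIdeal⟩
  suffices h : ∀ m, Finite {P // f P = m} from Finite.of_equiv _ (Equiv.sigmaFiberEquiv f)
  intro m
  let q : PrimeSpectrum A := m.toPrimeSpectrum
  haveI := (Groth.Agent.H22Alg.PL.finite_primeSpectrum_fibre F q.asIdeal.ResidueField).1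
  haveI := (PrimeSpectrum.preimageEquivFiber A (PolLaw.image F.law) q).finite_iff.mpr inferInstance
  refine Finite.of_injective (fun P : {P // f P = m} =>
    (⟨P.1.toPrimeSpectrum, PrimeSpectrum.ext (congrArg MaximalSpectrum.asIdeal P.2)⟩ :
      PrimeSpectrum.comap (algebraMap A (PolLaw.image F.law)) ⁻¹' {q})) fun P Q h => ?_
  exact Subtype.ext (MaximalSpectrum.ext (congrArg PrimeSpectrum.asIdeal (congrArg Subtype.val h)))

end Groth.Agent.S13724
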