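import Groth.Statements.S13725
import Mathlib
-- import your own Groth.Agent.* helpers here

set_option autoImplicit false
universe u
open scoped TensorProduct
open ZeroCyc

namespace Groth.Agent.S13725

/-- Let k be a field of characteristic p > 0 and let F : k → k be the law x ↦ x^p, multiplicative and
homogeneous of degree p over k. The kernel of F is the zero ideal, but after the flat base change k
→ A' = k[X]/(X^p) the kernel of the base-changed law on A' ⊗_k k is not zero (the class of X lies in
it). So in characteristic p, forming the kernel of a multiplicative law is not compatible with flat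
base change. -/
theorem result {k : Type u} [Field k] (p : ℕ) [Fact p.Prime] [CharP k p] :
    PolLaw.ker (PolLaw.MulLaw.pow k k p).law = ⊥ ∧
      PolLaw.kerBC (PolLaw.MulLaw.pow k k p).law (AdjoinRoot ((Polynomial.X : Polynomial k) ^ p)) ≠ ⊥ := by
  have hp : p.Prime := Fact.out
  refine ⟨?_, ?_⟩
  · rw [eq_bot_iff]
    intro b hb
    have h := congrArg (TensorProduct.lid k k)
      (show ((0 : k ⊗[k] k) + 1 * (1 ⊗ₜ[k] b)) ^ p = 0 ^ p from hb k 0 1)
    rw [zero_add, one_mul, Algebra.TensorProduct.tmul_pow, zero_pow hp.ne_zero, map_zero,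
      TensorProduct.lid_tmul, one_pow, one_smul] at h
    exact pow_eq_zero_iff hp.ne_zero |>.mp h
  · let A' := AdjoinRoot ((Polynomial.X : Polynomial k) ^ p)
    rw [Submodule.ne_bot_iff]
    refine ⟨AdjoinRoot.root ((Polynomial.X : Polynomial k) ^ p) ⊗ₜ[k] 1, ?_, ?_⟩
    · intro R _ _ _ _ x w
      show (x + w * _) ^ p = x ^ p
      have hc : ((p : ℕ) : R ⊗[k] k) = 0 := by
        rw [← map_natCast (algebraMap k (R ⊗[k] k)), CharP.cast_eq_zero, map_zero]
      obtain ⟨r, hr⟩ := exists_add_pow_prime_eq hp x
        (w * Algebra.TensorProduct.map (IsScalarTower.toAlgHom k A' R) (AlgHom.id k k)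
          (AdjoinRoot.root ((Polynomial.X : Polynomial k) ^ p) ⊗ₜ[k] 1))
      rw [hr, hc, zero_mul, zero_mul, zero_mul, add_zero, mul_pow, ← map_pow,
        Algebra.TensorProduct.tmul_pow, ← AdjoinRoot.mk_X, ← map_pow, AdjoinRoot.mk_self,
        TensorProduct.zero_tmul, map_zero, mul_zero, add_zero]
    · intro h
      have h' := congrArg (TensorProduct.rid k A') h
      rw [TensorProduct.rid_tmul, one_smul, map_zero, ← AdjoinRoot.mk_X, AdjoinRoot.mk_eq_zero,
        Polynomial.X_pow_dvd_iff] at h'
      simpa using h' 1 hp.one_lt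

end Groth.Agent.S13725
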