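import Groth.Statements.S13726
import Mathlib
-- import your own Groth.Agent.* helpers here

set_option autoImplicit false
universe u
open scoped TensorProduct
open ZeroCyc

namespace Groth.Agent.S13726

/-- Let k be a field of characteristic p > 0 and A = k[t_i : i ∈ ℕ]/(t_i^p : i ∈ ℕ). The law x ↦ x^p
from A to A is multiplicative and homogeneous of degree p over A; its kernel is the ideal generated
by the classes of the variables t_i, and this ideal is not finitely generated. Hence the image of a
family of zero-cycles need not be of finite presentation over the base even when X → S is. -/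
theorem result {k : Type u} [Field k] (p : ℕ) [Fact p.Prime] [CharP k p] :
    PolLaw.ker (PolLaw.MulLaw.pow
        (MvPolynomial ℕ k ⧸ Ideal.span (Set.range fun i : ℕ => (MvPolynomial.X i : MvPolynomial ℕ k) ^ p))
        (MvPolynomial ℕ k ⧸ Ideal.span (Set.range fun i : ℕ => (MvPolynomial.X i : MvPolynomial ℕ k) ^ p)) p).law =
      (Ideal.span (Set.range fun i : ℕ => (MvPolynomial.X i : MvPolynomial ℕ k))).map
        (Ideal.Quotient.mk (Ideal.span (Set.range fun i : ℕ => (MvPolynomial.X i : MvPolynomial ℕ k) ^ p))) ∧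
    ¬ (PolLaw.ker (PolLaw.MulLaw.pow
        (MvPolynomial ℕ k ⧸ Ideal.span (Set.range fun i : ℕ => (MvPolynomial.X i : MvPolynomial ℕ k) ^ p))
        (MvPolynomial ℕ k ⧸ Ideal.span (Set.range fun i : ℕ => (MvPolynomial.X i : MvPolynomial ℕ k) ^ p)) p).law).FG := by
  have hp : p.Prime := Fact.out
  let P := MvPolynomial ℕ k
  let I : Ideal P := Ideal.span (Set.range fun i : ℕ => (MvPolynomial.X i : P) ^ p)
  let A := P ⧸ I
  let t : ℕ → A := fun i => Ideal.Quotient.mk I (MvPolynomial.X i)
  have hm : (Ideal.span (Set.range fun i : ℕ => (MvPolynomial.X i : P))).map (Ideal.Quotient.mk I) =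
      Ideal.span (Set.range t) := by
    rw [Ideal.map_span, ← Set.range_comp]; rfl
  have ht : ∀ i, t i ^ p = 0 := fun i => by
    rw [← map_pow, Ideal.Quotient.eq_zero_iff_mem]
    exact Ideal.subset_span ⟨i, rfl⟩
  have hpA : ((p : ℕ) : A) = 0 := by
    rw [← map_natCast (algebraMap k A), CharP.cast_eq_zero, map_zero]
  have hker : PolLaw.ker (PolLaw.MulLaw.pow A A p).law = Ideal.span (Set.range t) := by
    refine le_antisymm (fun b hb => ?_) (Ideal.span_le.mpr ?_)
    · have h := congrArg (Algebra.TensorProduct.lid A A)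
        (show ((0 : A ⊗[A] A) + ((1 : A) ⊗ₜ[A] (1 : A)) * (1 ⊗ₜ[A] b)) ^ p = 0 ^ p from hb A 0 _)
      simp only [map_pow, map_add, map_mul, map_zero, Algebra.TensorProduct.lid_tmul] at h
      have h' : b ^ p = 0 := by simpa [zero_pow hp.ne_zero] using h
      obtain ⟨q, rfl⟩ := Ideal.Quotient.mk_surjective b
      rw [← hm]
      refine Ideal.mem_map_of_mem _ ?_
      rw [← Set.image_univ, MvPolynomial.mem_ideal_span_X_image]
      intro m hm'
      by_contra hne
      push Not at hne
      obtain rfl : m = 0 := Finsupp.ext fun i => hne i trivial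
      rw [← map_pow, Ideal.Quotient.eq_zero_iff_mem] at h'
      have hI : I ≤ RingHom.ker (MvPolynomial.constantCoeff : P →+* k) :=
        Ideal.span_le.mpr fun _ ⟨i, hi⟩ => by
          subst hi
          show MvPolynomial.constantCoeff ((MvPolynomial.X i : P) ^ p) = 0
          exact (map_pow _ _ _).trans (by erw [MvPolynomial.constantCoeff_X]; exact zero_pow hp.ne_zero)
      have h2 := hI h'
      rw [RingHom.mem_ker, map_pow, pow_eq_zero_iff hp.ne_zero] at h2
      rw [MvPolynomial.mem_support_iff] at hm'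
      exact hm' h2
    · rintro _ ⟨i, rfl⟩ S i₁ i₂ x w
      letI : CommRing S := { Algebra.semiringToRing A, i₁ with }
      show (x + w * (1 ⊗ₜ[A] t i)) ^ p = x ^ p
      obtain ⟨r, hr⟩ := exists_add_pow_prime_eq hp x (w * (1 ⊗ₜ[A] t i))
      rw [hr, ← map_natCast (algebraMap A (S ⊗[A] A)) p, hpA, map_zero, zero_mul, zero_mul, zero_mul,
        add_zero, mul_pow, Algebra.TensorProduct.tmul_pow, ht, TensorProduct.tmul_zero, mul_zero,
        add_zero]
  refine ⟨hker.trans hm.symm, fun hfg => ?_⟩
  change (PolLaw.ker (PolLaw.MulLaw.pow A A p).law).FG at hfg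
  rw [hker] at hfg
  obtain ⟨T, hT, hT'⟩ := (Submodule.fg_span_iff_fg_span_finset_subset _).mp hfg
  classical
  rw [← Set.image_univ] at hT
  obtain ⟨F, -, rfl⟩ := Finset.subset_set_image_iff.mp hT
  obtain ⟨N, hN⟩ := Infinite.exists_notMem_finset F
  let ev : P →ₐ[k] DualNumber k := MvPolynomial.aeval fun i => if i = N then DualNumber.eps else 0
  have hI : I ≤ RingHom.ker ev.toRingHom := Ideal.span_le.mpr fun _ ⟨i, hi⟩ => by
    subst hi
    show ev (MvPolynomial.X i ^ p) = 0
    rw [map_pow, show ev (MvPolynomial.X i) = if i = N then DualNumber.eps else 0 from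
      MvPolynomial.aeval_X _ _]
    obtain ⟨m, hm⟩ := Nat.exists_eq_add_of_le hp.two_le
    split_ifs
    · rw [hm, pow_add, pow_two, DualNumber.eps_mul_eps, zero_mul]
    · exact zero_pow hp.ne_zero
  let ψ : A →+* DualNumber k := Ideal.Quotient.lift I ev.toRingHom hI
  have hψ : ∀ i, ψ (t i) = if i = N then DualNumber.eps else 0 := fun i => MvPolynomial.aeval_X _ _
  have hle : Ideal.span (Set.range t) ≤ RingHom.ker ψ := by
    refine hT'.le.trans (Ideal.span_le.mpr ?_)
    intro x hx
    rw [Finset.coe_image] at hx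
    obtain ⟨i, hi, rfl⟩ := hx
    rw [SetLike.mem_coe, RingHom.mem_ker, hψ, if_neg (fun h => hN (by rwa [← h]))]
  have h := hle (Ideal.subset_span ⟨N, rfl⟩)
  rw [RingHom.mem_ker, hψ, if_pos rfl] at h
  have h1 := congrArg TrivSqZeroExt.snd h
  rw [DualNumber.snd_eps, TrivSqZeroExt.snd_zero] at h1
  exact one_ne_zero h1

end Groth.Agent.S13726
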