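import Groth.Statements.S13727
import Groth.Agent.H22Alg.MulLawFibre
import Groth.Agent.H22Alg.ClopenCount
import Groth.Agent.S13705

set_option autoImplicit false
universe u
open scoped TensorProduct
open ZeroCyc

namespace Groth.Agent.S13727

/-- Let A be a commutative ring whose prime spectrum is connected, B a commutative A-algebra and F : B →
A a multiplicative polynomial law homogeneous of degree d. Then Spec(B/ker F), the support of the
family of zero-cycles of degree d defined by F, has at most d connected components (in particular
finitely many). -/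
theorem result {A : Type u} [CommRing A] [ConnectedSpace (PrimeSpectrum A)]
    {B : Type u} [CommRing B] [Algebra A B] {d : ℕ} (F : PolLaw.MulLaw A B A d) :
    Finite (ConnectedComponents (PrimeSpectrum (PolLaw.image F.law))) ∧
      Nat.card (ConnectedComponents (PrimeSpectrum (PolLaw.image F.law))) ≤ d := by
  classical
  haveI := Groth.Agent.H22Alg.PL.isIntegral_image F
  let g := PrimeSpectrum.comap (algebraMap A (PolLaw.image F.law))
  obtain ⟨q⟩ := (inferInstance : Nonempty (PrimeSpectrum A))
  obtain ⟨hfin, hcard⟩ := Groth.Agent.H22Alg.PL.finite_primeSpectrum_fibre F q.asIdeal.ResidueField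
  have e := PrimeSpectrum.preimageEquivFiber A (PolLaw.image F.law) q
  haveI : Finite (g ⁻¹' {q} : Set _) := e.finite_iff.mpr hfin
  have hcard' : Nat.card (g ⁻¹' {q} : Set _) ≤ d := (Nat.card_congr e).trans_le hcard
  have hopen : IsOpenMap g :=
    (Groth.Agent.S13705.result F).universally_isOpenMap _ _ _ CategoryTheory.IsPullback.of_id_snd
  have hclosed : IsClosedMap g :=
    PrimeSpectrum.isClosedMap_comap_of_isIntegral _ (Algebra.IsIntegral.isIntegral (R := A))
  have hmeet : ∀ C : Set (PrimeSpectrum (PolLaw.image F.law)), IsClopen C → C.Nonempty →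
      ∃ p ∈ C, g p = q := fun C hC hne => by
    have hq : q ∈ g '' C := by
      rw [IsClopen.eq_univ ⟨hclosed _ hC.1, hopen _ hC.2⟩ (hne.image g)]
      trivial
    exact hq
  refine Groth.Agent.H22Alg.connectedComponents_card_le fun m C hC hdisj hne => ?_
  choose p hp hpq using fun i => hmeet (C i) (hC i) (hne i)
  have hinj : Function.Injective (fun i => (⟨p i, hpq i⟩ : (g ⁻¹' {q} : Set _))) := by
    intro i j h
    by_contra hij
    refine Set.disjoint_left.mp (hdisj hij) (hp i) ?_
    rw [show p i = p j from congrArg Subtype.val h]
    exact hp j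
  exact ((Nat.card_fin m).symm.trans_le (Nat.card_le_card_of_injective _ hinj)).trans hcard'

end Groth.Agent.S13727
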