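import Groth.Statements.S13730
import Mathlib
import Groth.Agent.H06Red.Algebra
import Groth.Agent.H22Alg.GammaFinPres
import Groth.Agent.H22Alg.PolLawFree

set_option autoImplicit false
universe u
open scoped TensorProduct
open ZeroCyc

namespace Groth.Agent.S13730

/-- Let (C, γ) be the algebra of divided powers Γ^d_A(B) of a commutative A-algebra B with its universal
multiplicative law γ : B → C homogeneous of degree d (every multiplicative law B → C' homogeneous of
degree d factors uniquely through γ by an algebra map C → C'). If B is flat over A and K ⊗_A B is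
reduced for every field K receiving a ring map from A (X = Spec B → S = Spec A is flat with
geometrically reduced fibres), then K ⊗_A C is reduced for every such K: Γ^d_A(B) again has
geometrically reduced fibres over A. (The published statement is for a flat morphism of algebraic
spaces X → S with geometrically reduced fibres and also records that Γ^d(X/S) → S is flat; this row
is the affine case and states only the reducedness of the fibres, flatness of Γ^d_A(B) for flat B
being a separate statement.) -/
theorem result {A : Type u} [CommRing A] {B : Type u} [CommRing B] [Algebra A B] {C : Type u} [CommRing C] [Algebra A C]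
    {d : ℕ} (γ : PolLaw.MulLaw A B C d) (hγ : PolLaw.IsGammaD γ) [Module.Flat A B]
    (hred : ∀ (K : Type u) [Field K] [Algebra A K], IsReduced (K ⊗[A] B)) :
    ∀ (K : Type u) [Field K] [Algebra A K], IsReduced (K ⊗[A] C) := by
  intro K _ _
  open Groth.Agent.H22Alg.PL in
  have hgeo : Algebra.IsGeometricallyReduced K (K ⊗[A] B) := by
    rw [Algebra.isGeometricallyReduced_field_iff]
    have := hred (AlgebraicClosure K)
    exact isReduced_of_injective
      (Algebra.TensorProduct.cancelBaseChange A K K (AlgebraicClosure K) B).toRingEquiv.toRingHom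
      (Algebra.TensorProduct.cancelBaseChange A K K (AlgebraicClosure K) B).injective
  have hpow : ∀ n : ℕ, IsReduced (⨂[K] _ : Fin n, (K ⊗[A] B)) := by
    intro n
    induction n with
    | zero =>
      let ψ : (⨂[K] _ : Fin 0, (K ⊗[A] B)) →ₐ[K] K :=
        PiTensorProduct.liftAlgHom (MultilinearMap.constOfIsEmpty K _ 1) rfl fun _ _ => (mul_one _).symm
      refine isReduced_of_injective ψ.toRingHom ?_
      have : ∀ z, ψ z = PiTensorProduct.isEmptyEquiv (Fin 0) z := fun z => rfl
      intro x y h
      exact (PiTensorProduct.isEmptyEquiv (Fin 0)).injective (((this x).symm.trans h).trans (this y))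
    | succ n ih =>
      let V := K ⊗[A] B
      let W := ⨂[K] _ : Fin n, V
      have : IsScalarTower K W W := IsScalarTower.right (R := K) (A := W)
      have : SMulCommClass K W W := Algebra.to_smulCommClass (R := K) (A := W)
      let L : V →ₗ[K] MultilinearMap K (fun _ : Fin n => V) (V ⊗[K] W) :=
        { toFun := fun v => (TensorProduct.mk K V W v).compMultilinearMap (PiTensorProduct.tprod K)
          map_add' := fun a b => by ext x; simp [TensorProduct.add_tmul]
          map_smul' := fun c a => by ext x; simp [TensorProduct.smul_tmul'] }
      let M : MultilinearMap K (fun _ : Fin (n + 1) => V) (V ⊗[K] W) := LinearMap.uncurryLeft L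
      have hM : ∀ x, M x = x 0 ⊗ₜ[K] PiTensorProduct.tprod K (Fin.tail x) := fun x => rfl
      let g : (⨂[K] _ : Fin (n + 1), V) →ₐ[K] V ⊗[K] W := PiTensorProduct.liftAlgHom M
        (by rw [hM]; rfl)
        (fun x y => by rw [hM, hM, hM, Algebra.TensorProduct.tmul_mul_tmul, PiTensorProduct.tprod_mul_tprod]; rfl)
      let h : V ⊗[K] W →ₗ[K] (⨂[K] _ : Fin (n + 1), V) := TensorProduct.lift
        ((PiTensorProduct.lift (R := K) (s := fun _ : Fin n => V)).toLinearMap ∘ₗ
          (PiTensorProduct.tprod K (s := fun _ : Fin (n + 1) => V)).curryLeft)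
      have hl : h ∘ₗ g.toLinearMap = LinearMap.id := by
        refine PiTensorProduct.ext (MultilinearMap.ext fun x => ?_)
        simp [g, h, hM]
        rw [PiTensorProduct.lift.tprod, MultilinearMap.curryLeft_apply, Fin.cons_self_tail]
      have : IsReduced (V ⊗[K] W) := Groth.Agent.H06Red.isReduced_tensor K V W
      exact isReduced_of_injective g.toRingHom fun x y hxy =>
        (LinearMap.congr_fun hl x).symm.trans ((congrArg h hxy).trans (LinearMap.congr_fun hl y))
  let e := Module.Free.chooseBasis K (K ⊗[A] B)
  obtain ⟨τ, hτ⟩ := Groth.Agent.H22Alg.PL.exists_tsLaw_of_free (d := d) e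
  obtain ⟨eqv⟩ := Groth.Agent.H22Alg.PL.nonempty_algEquiv_of_isGammaD
    (Groth.Agent.H22Alg.PL.isGammaD_extLaw K hγ) (Groth.Agent.H22Alg.PL.isGammaD_of_free e τ hτ)
  have := hpow d
  have : IsReduced (SymTen.TS K (K ⊗[A] B) d) :=
    isReduced_of_injective (SymTen.TS K (K ⊗[A] B) d).val Subtype.val_injective
  exact isReduced_of_injective eqv.toRingEquiv.toRingHom eqv.injective

end Groth.Agent.S13730
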