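import Groth.Statements.S13731
import Groth.Agent.H18HTop.VCoverCrit

set_option autoImplicit false
universe u
open HTop

namespace Groth.Agent.S13731

open CategoryTheory CategoryTheory.Limits AlgebraicGeometry in
/-- Let X be a separated Noetherian scheme and {p_i : U_i → X} a finite family of separated morphisms of
finite type whose induced morphism from the disjoint union of the U_i to X is universally submersive
(an h-covering). Then every point x of X is p_i(u) for some i and some point u of U_i admitting a
generization ξ in U_i whose image p_i(ξ) is a generic point of an irreducible component of X.
Equivalently, the irreducible components of the U_i dominating an irreducible component of X jointly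
cover X. -/
theorem result {X : Scheme.{u}} [IsNoetherian X] [X.IsSeparated] (E : PreZeroHypercover.{u} X) [Finite E.I₀] [∀ i, LocallyOfFiniteType (E.f i)] [∀ i, QuasiCompact (E.f i)] [∀ i, IsSeparated (E.f i)] (hE : SGA1.UnivSubmersive (Sigma.desc E.f)) (x : X) : ∃ (i : E.I₀) (ξ u : E.X i), ξ ⤳ u ∧ E.f i u = x ∧ closure {E.f i ξ} ∈ irreducibleComponents ↥X := by
  exact H18HTop.exists_specializes_over_maximal_point E hE x

end Groth.Agent.S13731
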