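import Groth.Statements.S13733
import Groth.Agent.H18Qfh.Refine

set_option autoImplicit false
universe u
open HTop

namespace Groth.Agent.S13733

open CategoryTheory CategoryTheory.Limits AlgebraicGeometry in
/-- Let Y be a separated Noetherian scheme and {p_j : Y_j → Y} a finite family of separated morphisms of
finite type whose induced morphism from the disjoint union of the Y_j to Y is universally submersive
(an h-covering). Then there are: a reduced scheme Y_red with a surjective closed immersion ι : Y_red
→ Y, a surjective blow-up b : Y'' → Y_red of Y_red in some quasi-coherent sheaf of ideals (b has the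
universal property of the blowing up), a finite surjective morphism q : Y' → Y'', and finitely many
open subschemes V_1, …, V_n covering Y', such that the composite p = q ≫ b ≫ ι is proper and
surjective and every composite V_i → Y' → Y factors through some member of the family. -/
theorem result {Y : Scheme.{u}} [IsNoetherian Y] [Y.IsSeparated] (E : PreZeroHypercover.{u} Y) [Finite E.I₀] [∀ j, LocallyOfFiniteType (E.f j)] [∀ j, QuasiCompact (E.f j)] [∀ j, IsSeparated (E.f j)] (hE : SGA1.UnivSubmersive (Sigma.desc E.f)) : ∃ (Yr Y'' Y' : Scheme.{u}) (ι : Yr ⟶ Y) (𝓘 : Yr.IdealSheafData) (b : Y'' ⟶ Yr) (q : Y' ⟶ Y'') (n : ℕ) (V : Fin n → Y'.Opens), IsClosedImmersion ι ∧ Surjective ι ∧ IsReduced Yr ∧ BlowUp.IsBlowUp b 𝓘 ∧ Surjective b ∧ IsFinite q ∧ Surjective q ∧ IsProper (q ≫ b ≫ ι) ∧ Surjective (q ≫ b ≫ ι) ∧ ⨆ i, V i = ⊤ ∧ ∀ i, ∃ (j : E.I₀) (h : (↑(V i) : Scheme.{u}) ⟶ E.X j), h ≫ E.f j = (V i).ι ≫ q ≫ b ≫ ι := by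
  exact Groth.Agent.H18Qfh.exists_blowUp_refinement E hE

end Groth.Agent.S13733
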