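import Groth.Statements.S13735
import Groth.Agent.H06FlatVal.Global
import Groth.Agent.H18HTop.SpecLiftDVR

set_option autoImplicit false
universe u
open HTop

namespace Groth.Agent.S13735

open TensorProduct in
open CategoryTheory CategoryTheory.Limits AlgebraicGeometry in
/-- Let S be a separated reduced Noetherian scheme, f : X → S a separated morphism locally of finite
type and g : S' → S a separated morphism of finite type which is universally submersive (an
h-covering). If the base change of f along g is flat, then f is flat. -/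
theorem result {X S S' : Scheme.{u}} [IsNoetherian S] [IsReduced S] [S.IsSeparated] (f : X ⟶ S) [LocallyOfFiniteType f] [IsSeparated f] (g : S' ⟶ S) [LocallyOfFiniteType g] [QuasiCompact g] [IsSeparated g] (hg : SGA1.UnivSubmersive g) (hflat : Flat (pullback.snd f g)) : Flat f := by
  have hd := (Groth.Agent.H18HTop.univSubmersive_iff_dvrLifts g).1 hg
  rw [HasRingHomProperty.iff_appLE (P := @Flat)]
  intro V U e
  haveI : IsNoetherianRing Γ(S, V.1) := IsLocallyNoetherian.component_noetherian V
  have hft : (f.appLE V.1 U.1 e).hom.FiniteType :=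
    (HasRingHomProperty.iff_appLE (P := @LocallyOfFiniteType)).1 inferInstance V U e
  letI : Algebra Γ(S, V.1) Γ(X, U.1) := (f.appLE V.1 U.1 e).hom.toAlgebra
  haveI : Algebra.FiniteType Γ(S, V.1) Γ(X, U.1) := hft
  change Module.Flat Γ(S, V.1) Γ(X, U.1)
  haveI : _root_.IsReduced Γ(S, V.1) := inferInstance
  refine Groth.Agent.H06FlatVal.flat_of_forall_dvr_global Γ(S, V.1) Γ(X, U.1) Γ(X, U.1) fun R _ _ _ _ => ?_
  let φA : Spec (CommRingCat.of R) ⟶ Spec Γ(S, V.1) := Spec.map (CommRingCat.ofHom (algebraMap Γ(S, V.1) R))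
  obtain ⟨R', _, _, _, φ, h, hsurj, hh⟩ := hd R (φA ≫ V.2.fromSpec)
  obtain ⟨ψ, rfl⟩ := Spec.map_surjective φ
  letI : Algebra R R' := ψ.hom.toAlgebra
  letI : Algebra Γ(S, V.1) R' := (ψ.hom.comp (algebraMap Γ(S, V.1) R)).toAlgebra
  haveI : IsScalarTower Γ(S, V.1) R R' := IsScalarTower.of_algebraMap_eq fun _ => rfl
  have hinj : Function.Injective ψ.hom := by
    obtain ⟨hbot, -⟩ := Groth.Agent.H18HTop.map_bot_and_closed_of_surjective (Spec.map ψ)
    have : RingHom.ker ψ.hom = ⊥ := congrArg PrimeSpectrum.asIdeal hbot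
    exact (RingHom.injective_iff_ker_eq_bot _).2 this
  haveI : FaithfulSMul R R' := (faithfulSMul_iff_algebraMap_injective R R').2 hinj
  haveI : Module.IsTorsionFree R R' := inferInstance
  haveI : Module.Flat R R' := inferInstance
  haveI : Module.FaithfullyFlat R R' := Module.FaithfullyFlat.of_comap_surjective (Spec.map ψ).surjective
  -- the flat base change over `R'`
  let j : Spec Γ(X, U.1) ⟶ X := U.2.fromSpec
  let f₁ : Spec Γ(X, U.1) ⟶ Spec Γ(S, V.1) := Spec.map (f.appLE V.1 U.1 e)
  have hj : j ≫ f = f₁ ≫ V.2.fromSpec := (IsAffineOpen.SpecMap_appLE_fromSpec f V.2 U.2 e).symm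
  let q : Spec (CommRingCat.of R') ⟶ Spec Γ(S, V.1) := Spec.map ψ ≫ φA
  have hq : h ≫ g = q ≫ V.2.fromSpec := hh.trans (Category.assoc _ _ _).symm
  have hflat' : Flat (pullback.snd f (q ≫ V.2.fromSpec)) := by
    rw [← hq]
    let e₁ := pullbackLeftPullbackSndIso f g h
    haveI : Flat (pullback.snd (pullback.snd f g) h) := MorphismProperty.pullback_snd _ _ hflat
    rw [← pullbackLeftPullbackSndIso_inv_snd_snd f g h]
    infer_instance
  have hflat₁ : Flat (pullback.snd f₁ q) := by
    haveI := hflat'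
    have sq := (IsPullback.of_hasPullback f₁ q)
    let m : pullback f₁ q ⟶ pullback f (q ≫ V.2.fromSpec) :=
      pullback.map f₁ q f (q ≫ V.2.fromSpec) j (𝟙 _) V.2.fromSpec hj.symm (by rw [Category.id_comp])
    have hm : m ≫ pullback.snd f (q ≫ V.2.fromSpec) = pullback.snd f₁ q :=
      (pullback.lift_snd _ _ _).trans (Category.comp_id _)
    haveI : Flat m := by
      have hp : IsPullback m (pullback.fst f₁ q) (pullback.fst f (q ≫ V.2.fromSpec)) j := by
        refine IsPullback.of_right ?_ (pullback.lift_fst _ _ _)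
          (IsPullback.of_hasPullback f (q ≫ V.2.fromSpec)).flip
        rw [hm, hj]
        exact (IsPullback.of_isLimit' ⟨by rw [pullback.condition_assoc]⟩
          (pullbackIsPullbackOfCompMono f₁ q V.2.fromSpec)).flip
      exact MorphismProperty.of_isPullback hp.flip (inferInstance : Flat j)
    rw [← hm]
    infer_instance
  have hq' : q = Spec.map (CommRingCat.ofHom (algebraMap Γ(S, V.1) R')) := (Spec.map_comp _ _).symm
  have hflat₂ : Flat (Spec.map (CommRingCat.ofHom
      (algebraMap R' (R' ⊗[Γ(S, V.1)] Γ(X, U.1))))) := by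
    have hsn : pullback.fst q f₁ = (pullbackSymmetry q f₁).hom ≫ pullback.snd f₁ q :=
      (pullbackSymmetry_hom_comp_snd q f₁).symm
    haveI := hflat₁
    have h1 : Flat (pullback.fst q f₁) := by rw [hsn]; infer_instance
    rw [hq'] at h1
    haveI : Flat (pullback.fst (Spec.map (CommRingCat.ofHom (algebraMap Γ(S, V.1) R')))
        (Spec.map (CommRingCat.ofHom (algebraMap Γ(S, V.1) Γ(X, U.1))))) := h1
    have := pullbackSpecIso_inv_fst Γ(S, V.1) R' Γ(X, U.1)
    exact this ▸ (inferInstance : Flat ((pullbackSpecIso Γ(S, V.1) R' Γ(X, U.1)).inv ≫ _))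
  haveI : Module.Flat R' (R' ⊗[Γ(S, V.1)] Γ(X, U.1)) :=
    RingHom.flat_algebraMap_iff.1 (HasRingHomProperty.Spec_iff.1 hflat₂)
  haveI : Module.Flat R' (R' ⊗[R] (R ⊗[Γ(S, V.1)] Γ(X, U.1))) :=
    Module.Flat.of_linearEquiv (TensorProduct.AlgebraTensorModule.cancelBaseChange Γ(S, V.1) R R' R' Γ(X, U.1))
  exact Module.Flat.of_flat_tensorProduct R _ R'

end Groth.Agent.S13735
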