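import Groth.Statements.S13736
import Groth.Agent.H15Subtr.UnivSub
import Groth.Agent.H06EGA14.Chevalley4
import Groth.Agent.H18HTop.VCoverCrit
import Groth.Agent.H8Props.FieldDimSmooth
import Groth.Agent.H22Alg.FibreCount

set_option autoImplicit false
universe u
open HTop

namespace Groth.Agent.S13736

open CategoryTheory CategoryTheory.Limits AlgebraicGeometry in
/-- Let X be a separated irreducible Noetherian scheme whose local rings are all geometrically
unibranch, and {p_i : U_i → X} a finite family of separated quasi-finite morphisms of finite type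
with every U_i irreducible. Then the induced morphism from the disjoint union of the U_i to X is
universally submersive (a qfh-covering) if and only if the dominant members p_i are jointly
surjective onto X; in that case the induced morphism from the disjoint union of the dominant members
alone is already universally submersive. (The published statement does not require the U_i
irreducible; for the affine line X over a field and the single member U = (X minus a closed point) ⊔
(that point) → X, which is dominant and surjective, the quotient property fails, and the published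
proof uses that every irreducible component of a dominant member dominates X, so the members are
taken irreducible here.) -/
theorem result {X : Scheme.{u}} [IsNoetherian X] [X.IsSeparated] [IrreducibleSpace ↥X] (hX : ∀ x : X, CAlg2.IsGeomUnibranch (X.presheaf.stalk x)) (E : PreZeroHypercover.{u} X) [Finite E.I₀] [∀ i, LocallyOfFiniteType (E.f i)] [∀ i, QuasiCompact (E.f i)] [∀ i, LocallyQuasiFinite (E.f i)] [∀ i, IsSeparated (E.f i)] [∀ i, IrreducibleSpace ↥(E.X i)] : (SGA1.UnivSubmersive (Sigma.desc E.f) ↔ ∀ x : X, ∃ (i : E.I₀) (u : E.X i), IsDominant (E.f i) ∧ E.f i u = x) ∧ ((∀ x : X, ∃ (i : E.I₀) (u : E.X i), IsDominant (E.f i) ∧ E.f i u = x) → SGA1.UnivSubmersive (Sigma.desc fun j : {i : E.I₀ // IsDominant (E.f i)} => E.f j.1)) := by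
  have hdom : ∀ i, AlgebraicGeometry.IsDominant (E.f i) → UniversallyOpen (E.f i) := by
    intro i hi
    have hgen : (E.f i) (genericPoint (E.X i)) = genericPoint X := by
      have h1 := ((genericPoint_spec (E.X i)).image (E.f i).continuous)
      rw [Set.image_univ, (E.f i).denseRange.closure_range] at h1
      exact IsGenericPoint.eq h1 (genericPoint_spec X)
    refine Groth.Agent.H06EGA14.universallyOpen_of_irreducible hX (E.f i) ?_ ?_
    · intro w hw
      rw [hgen] at hw ⊢
      exact (hw.antisymm (genericPoint_specializes w)).eq
    · intro u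
      rw [Groth.Agent.H8Props.FieldDim.fibreDimAt_eq_zero_of_lqf]
      exact Groth.Agent.H22Alg.FibreCount.cdim_nonneg _
  have back : (∀ x : X, ∃ (i : E.I₀) (u : E.X i), AlgebraicGeometry.IsDominant (E.f i) ∧ E.f i u = x) →
      SGA1.UnivSubmersive (Sigma.desc fun j : {i : E.I₀ // AlgebraicGeometry.IsDominant (E.f i)} => E.f j.1) := by
    intro h
    haveI : UniversallyOpen
        (Sigma.desc fun j : {i : E.I₀ // AlgebraicGeometry.IsDominant (E.f i)} => E.f j.1) :=
      IsZariskiLocalAtSource.sigmaDesc fun j => hdom j.1 j.2
    haveI : Surjective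
        (Sigma.desc fun j : {i : E.I₀ // AlgebraicGeometry.IsDominant (E.f i)} => E.f j.1) := ⟨fun x => by
      obtain ⟨i, v, hi, hv⟩ := h x
      refine ⟨Sigma.ι (fun j : {i : E.I₀ // AlgebraicGeometry.IsDominant (E.f i)} => E.X j.1) ⟨i, hi⟩ v, ?_⟩
      rw [← Scheme.Hom.comp_apply, Sigma.ι_desc]
      exact hv⟩
    exact Groth.Agent.H15Subtr.univSubmersive_of_universallyOpen _
  refine ⟨⟨fun hE x => ?_, fun h => ?_⟩, back⟩
  · obtain ⟨i, ξ, v, -, hξ, hv⟩ := Groth.Agent.H18HTop.exists_specializes_of_univSubmersive E hE
      (genericPoint_specializes x)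
    refine ⟨i, v, ⟨?_⟩, hv⟩
    intro y
    exact closure_mono (Set.singleton_subset_iff.2 (Set.mem_range.2 ⟨ξ, hξ⟩))
      ((genericPoint_spec X).def.ge (Set.mem_univ y))
  · intro A B i₁ i₂ f' hP
    have hd : SGA1.UnivSubmersive
        ((Sigma.desc fun j : {i : E.I₀ // AlgebraicGeometry.IsDominant (E.f i)} => Sigma.ι E.X j.1) ≫
          Sigma.desc E.f) := by
      convert back h using 1
      exact Sigma.hom_ext _ _ fun j => by simp
    let c := Sigma.desc fun j : {i : E.I₀ // AlgebraicGeometry.IsDominant (E.f i)} => Sigma.ι E.X j.1
    have hP₂ : IsPullback (pullback.fst c i₁) (pullback.snd c i₁ ≫ f') (c ≫ Sigma.desc E.f) i₂ :=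
      (IsPullback.of_hasPullback c i₁).paste_vert hP.flip
    have hq := hd _ _ _ hP₂.flip
    exact Topology.IsQuotientMap.of_comp (pullback.snd c i₁).continuous f'.continuous hq

end Groth.Agent.S13736
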