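import Groth.Statements.S13737
import Groth.Agent.H18HTop.SpecLiftDVR
import Groth.Agent.H29Blow.MaxPoints

set_option autoImplicit false
universe u
open HTop

namespace Groth.Agent.S13737

set_option backward.isDefEq.respectTransparency false

open CategoryTheory CategoryTheory.Limits AlgebraicGeometry in
/-- Let X be a separated integral Noetherian scheme, b : X' → X a blow-up of X in a quasi-coherent sheaf
of ideals (characterised by the universal property of blowing up), with X' separated and b of finite
type, and let U be an open subscheme of X' whose composite U → X' → X is universally submersive (an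
h-covering). Then U = X'. (The published statement takes X only integral; its proof applies the
surjectivity of dominating components for Noetherian schemes, so this row takes X Noetherian.) -/
theorem result {X X' : Scheme.{u}} [IsNoetherian X] [X.IsSeparated] [IsIntegral X] [X'.IsSeparated] (𝓘 : X.IdealSheafData) (b : X' ⟶ X) [LocallyOfFiniteType b] [QuasiCompact b] (hb : BlowUp.IsBlowUp b 𝓘) (U : X'.Opens) (hU : SGA1.UnivSubmersive (U.ι ≫ b)) : U = ⊤ := by
  haveI : LocallyOfFiniteType (U.ι ≫ b) := inferInstance
  haveI : IsLocallyNoetherian X' := LocallyOfFiniteType.isLocallyNoetherian b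
  haveI : CompactSpace X' := QuasiCompact.compactSpace_of_compactSpace b
  haveI : IsNoetherian X' := { }
  haveI : QuasiCompact (U.ι ≫ b) := inferInstance
  have hd := (H18HTop.univSubmersive_iff_dvrLifts (U.ι ≫ b)).1 hU
  refine eq_top_iff.2 fun x _ => ?_
  obtain ⟨η, hη⟩ := QuasiSober.sober (irreducibleComponent_mem_irreducibleComponents x).1
    isClosed_irreducibleComponent
  have hηx : η ⤳ x := hη.specializes mem_irreducibleComponent
  have hηmax : ∀ y : X', y ⤳ η → y = η := fun y hy => by
    have h1 : closure {η} ⊆ closure {y} := specializes_iff_closure_subset.mp hy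
    have h2 := (irreducibleComponent_mem_irreducibleComponents x).2 isIrreducible_singleton.closure
      (hη.def.symm ▸ h1)
    exact (hy.antisymm (specializes_iff_closure_subset.mpr
      (hη.def.symm ▸ h2))).eq
  have hηE := H29Blow.not_mem_support_of_maximal hb.1 η hηmax
  have key : ∀ (Y : Scheme.{u}) [IsReduced Y] (k : Y ⟶ X') (h : Y ⟶ (U : Scheme.{u})) ,
      (∀ ξ : Y, (∀ y : Y, y ⤳ ξ → y = ξ) → k ξ = η) → h ≫ U.ι ≫ b = k ≫ b → h ≫ U.ι = k := by
    intro Y _ k h hk e
    have := H29Blow.isEffCartierIdeal_comap_of_maximal_avoid k hb.1 (fun ξ hξ => by rw [hk ξ hξ]; exact hηE)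
    rw [← Scheme.IdealSheafData.comap_comp] at this
    obtain ⟨l, -, hl⟩ := hb.2 Y (k ≫ b) this
    exact (hl _ ((Category.assoc _ _ _).trans e)).trans (hl _ rfl).symm
  rcases eq_or_ne x η with rfl | hne
  · obtain ⟨z, hz⟩ := H18HTop.exists_preimage_of_dvrLifts hd (b x)
    let Y : Scheme.{u} := Spec ((U : Scheme.{u}).residueField z)
    obtain ⟨w, hw1, hw2⟩ := Scheme.Pullback.exists_preimage_pullback (f := U.ι ≫ b) (g := b) z x hz
    let P := pullback (U.ι ≫ b) b
    have := key (Spec (P.residueField w)) (P.fromSpecResidueField w ≫ pullback.snd _ _)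
      (P.fromSpecResidueField w ≫ pullback.fst _ _)
      (fun ξ _ => by rw [Scheme.Hom.comp_apply, Scheme.fromSpecResidueField_apply, hw2])
      (by rw [Category.assoc, Category.assoc, pullback.condition])
    have e := congrArg (fun m : Spec (P.residueField w) ⟶ X' => m (IsLocalRing.closedPoint _)) this
    simp only [Scheme.Hom.comp_apply, Scheme.fromSpecResidueField_apply, hw1, hw2] at e
    rw [← hw2, ← e]
    exact ((pullback.fst (U.ι ≫ b) b) w).2
  obtain ⟨A, g, hA, hgc, hgen⟩ := H11Val.exists_dvr_hom_through (𝟙 X') η x hηx hne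
  haveI := hA
  have hg0 : g (⊥ : PrimeSpectrum A) = η := by
    have e : Spec.map (CommRingCat.ofHom A.subtype) (IsLocalRing.closedPoint (X'.residueField η)) =
        (⊥ : PrimeSpectrum A) := by
      refine PrimeSpectrum.ext ?_
      show Ideal.comap A.subtype (IsLocalRing.maximalIdeal (X'.residueField η)) = ⊥
      rw [IsLocalRing.maximalIdeal_eq_bot]
      exact Ideal.comap_bot_of_injective _ A.subtype_injective
    rw [← e, ← Scheme.Hom.comp_apply, hgen, Category.comp_id]
    exact Scheme.fromSpecResidueField_apply η _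
  obtain ⟨R', _, _, _, φ, h, hφ, hh⟩ := hd A (g ≫ b)
  haveI := hφ
  obtain ⟨hb0, hb1⟩ := H18HTop.map_bot_and_closed_of_surjective φ
  have := key (Spec (CommRingCat.of R')) (φ ≫ g) h (fun ξ hξ => by
    have : ξ = (⊥ : PrimeSpectrum R') := (hξ _
      ((PrimeSpectrum.le_iff_specializes (⊥ : PrimeSpectrum R') ξ).1 bot_le)).symm
    rw [this, Scheme.Hom.comp_apply, hb0, hg0]) (by rw [hh, Category.assoc])
  have e := congrArg (fun m : Spec (CommRingCat.of R') ⟶ X' => m (IsLocalRing.closedPoint R')) this
  simp only [Scheme.Hom.comp_apply, hb1, hgc] at e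
  exact e ▸ (h (IsLocalRing.closedPoint R')).2

end Groth.Agent.S13737
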