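import Groth.Statements.S13738
import Groth.Agent.H9Gal.QfhBasics
-- import your own Groth.Agent.* helpers here

set_option autoImplicit false
universe u
open SGA1

namespace Groth.Agent.S13738

open CategoryTheory CategoryTheory.Limits AlgebraicGeometry in
/-- Let S be a separated irreducible Noetherian scheme, q : X → S finite and surjective with X
separated, and G a finite group acting on X by S-automorphisms, transitively on the geometric points
of X over every geometric point of S. Then every irreducible component of X maps onto S and G acts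
transitively on the set of irreducible components of X. -/
theorem result {X S : Scheme.{u}} [IsNoetherian S] [S.IsSeparated] [X.IsSeparated] [IrreducibleSpace ↥S] (q : X ⟶ S) [IsFinite q] [Surjective q] {G : Type u} [Group G] [Finite G] (ρ : G →* Aut X) (hρ : ∀ g : G, (ρ g).hom ≫ q = q) (htrans : ∀ (Ω : Type u) [Field Ω] [IsAlgClosed Ω] (τ₁ τ₂ : Spec (CommRingCat.of Ω) ⟶ X), τ₁ ≫ q = τ₂ ≫ q → ∃ g : G, τ₁ ≫ (ρ g).hom = τ₂) : (∀ T ∈ irreducibleComponents ↥X, Set.image (fun x => q x) T = Set.univ) ∧ ∀ T₁ ∈ irreducibleComponents ↥X, ∀ T₂ ∈ irreducibleComponents ↥X, ∃ g : G, Set.image (fun x => (ρ g).hom x) T₁ = T₂ := by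
  classical
  have hmove := Groth.Agent.H9Gal.QfhBasics.exists_move q ρ htrans
  haveI : IsLocallyNoetherian X := LocallyOfFiniteType.isLocallyNoetherian q
  haveI : CompactSpace X := QuasiCompact.compactSpace_of_compactSpace q
  haveI : IsNoetherian X := { }
  have hfin : (irreducibleComponents ↥X).Finite := TopologicalSpace.NoetherianSpace.finite_irreducibleComponents
  obtain ⟨z, hz⟩ := q.surjective (genericPoint ↥S)
  let T₀ := irreducibleComponent z
  have hT₀ : Set.image (fun x => q x) T₀ = Set.univ := by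
    refine Set.univ_subset_iff.1 ?_
    rw [← (genericPoint_spec ↥S).def]
    exact closure_minimal (Set.singleton_subset_iff.2 ⟨z, mem_irreducibleComponent, hz⟩)
      (q.isClosedMap _ isClosed_irreducibleComponent)
  have hinv : ∀ (g : G) (x : X), q ((ρ g).hom x) = q x := fun g x => by rw [← Scheme.Hom.comp_apply, hρ]
  have hT : ∀ T ∈ irreducibleComponents ↥X, ∃ g : G, Set.image (fun x => (ρ g).hom x) T₀ = T := by
    intro T hT
    obtain ⟨η, hη⟩ := QuasiSober.sober hT.1 (isClosed_of_mem_irreducibleComponents T hT)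
    obtain ⟨x, hxT₀, hx⟩ := hT₀.ge (Set.mem_univ (q η))
    obtain ⟨g, hg⟩ := hmove x η hx
    let e := Scheme.Hom.homeomorph (ρ g).hom
    have hmem : Set.image (fun x => (ρ g).hom x) T₀ ∈ irreducibleComponents ↥X := by
      refine ⟨(irreducibleComponent_mem_irreducibleComponents z).1.image _ (ρ g).hom.continuous.continuousOn, fun Z hZ hle => ?_⟩
      have h1 : T₀ ⊆ e ⁻¹' Z := fun y hy => hle ⟨y, hy, rfl⟩
      have h2 := (irreducibleComponent_mem_irreducibleComponents z).2 (show IsIrreducible (e ⁻¹' Z) by rw [← e.image_symm]; exact hZ.image _ e.symm.continuous.continuousOn) h1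
      intro y hy
      exact ⟨e.symm y, h2 (show e (e.symm y) ∈ Z by rw [e.apply_symm_apply]; exact hy), e.apply_symm_apply y⟩
    have hTle : T ⊆ Set.image (fun x => (ρ g).hom x) T₀ := by
      rw [← hη.def]
      exact closure_minimal (Set.singleton_subset_iff.2 ⟨x, hxT₀, hg⟩) (isClosed_of_mem_irreducibleComponents _ hmem)
    exact ⟨g, le_antisymm (hT.2 hmem.1 hTle) hTle⟩
  refine ⟨fun T hTm => ?_, fun T₁ h₁ T₂ h₂ => ?_⟩
  · obtain ⟨g, rfl⟩ := hT T hTm
    rw [Set.image_image]
    simp only [hinv]
    exact hT₀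
  · obtain ⟨g₁, rfl⟩ := hT T₁ h₁
    obtain ⟨g₂, rfl⟩ := hT T₂ h₂
    refine ⟨g₂ * g₁⁻¹, ?_⟩
    rw [Set.image_image]
    refine Set.image_congr' fun x => ?_
    rw [← Scheme.Hom.comp_apply]
    have e : (ρ g₁).hom ≫ (ρ (g₂ * g₁⁻¹)).hom = (ρ g₂).hom := by
      have h := map_mul ρ (g₂ * g₁⁻¹) g₁
      rw [inv_mul_cancel_right] at h
      rw [h]
      rfl
    rw [e]

end Groth.Agent.S13738
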