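import Groth.Statements.S13739
import Groth.Agent.H9Gal.QfhBasics
-- import your own Groth.Agent.* helpers here

set_option autoImplicit false
universe u
open SGA1

namespace Groth.Agent.S13739

open CategoryTheory CategoryTheory.Limits AlgebraicGeometry in
/-- Let S be a separated Noetherian scheme, q : X → S finite surjective with X separated, G a finite
group acting on X by S-automorphisms and transitively on the geometric points of X over every
geometric point of S, and r : Y → X a morphism with Y separated. If υ is the morphism from the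
disjoint union of G copies of Y to Y ×_S X (Y over S through r ≫ q) whose σ-th component is (id_Y, r
≫ σ), then υ is finite and surjective. -/
theorem result {X S Y : Scheme.{u}} [IsNoetherian S] [S.IsSeparated] [X.IsSeparated] [Y.IsSeparated] (q : X ⟶ S) [IsFinite q] [Surjective q] {G : Type u} [Group G] [Finite G] (ρ : G →* Aut X) (hρ : ∀ g : G, (ρ g).hom ≫ q = q) (htrans : ∀ (Ω : Type u) [Field Ω] [IsAlgClosed Ω] (τ₁ τ₂ : Spec (CommRingCat.of Ω) ⟶ X), τ₁ ≫ q = τ₂ ≫ q → ∃ g : G, τ₁ ≫ (ρ g).hom = τ₂) (r : Y ⟶ X) (υ : (∐ fun _ : G => Y) ⟶ pullback (r ≫ q) q) (hυ₁ : ∀ σ : G, Sigma.ι (fun _ : G => Y) σ ≫ υ ≫ pullback.fst (r ≫ q) q = 𝟙 Y) (hυ₂ : ∀ σ : G, Sigma.ι (fun _ : G => Y) σ ≫ υ ≫ pullback.snd (r ≫ q) q = r ≫ (ρ σ).hom) : IsFinite υ ∧ Surjective υ := by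
  haveI : IsSeparated (pullback.fst (r ≫ q) q) := inferInstance
  have hfst : υ ≫ pullback.fst (r ≫ q) q = Sigma.desc fun _ : G => 𝟙 Y :=
    Sigma.hom_ext _ _ fun σ => (hυ₁ σ).trans (Sigma.ι_desc (fun _ : G => 𝟙 Y) σ).symm
  haveI : IsFinite (υ ≫ pullback.fst (r ≫ q) q) := by
    rw [hfst]
    exact Groth.Agent.H9Gal.QfhBasics.isFinite_sigmaDesc G (fun _ => Y) (fun _ => 𝟙 Y) fun _ => inferInstance
  refine ⟨MorphismProperty.of_postcomp (W := @IsFinite) (W' := @IsSeparated) υ (pullback.fst (r ≫ q) q) inferInstance inferInstance,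
    ⟨fun w => ?_⟩⟩
  let P := pullback (r ≫ q) q
  let Ω : Type u := AlgebraicClosure (P.residueField w)
  let t : Spec (CommRingCat.of Ω) ⟶ P :=
    Spec.map (CommRingCat.ofHom (algebraMap (P.residueField w) Ω)) ≫ P.fromSpecResidueField w
  obtain ⟨σ, hσ⟩ := htrans Ω ((t ≫ pullback.fst _ _) ≫ r) (t ≫ pullback.snd _ _)
    (by simp only [Category.assoc, pullback.condition])
  refine ⟨((t ≫ pullback.fst _ _) ≫ Sigma.ι (fun _ : G => Y) σ) (IsLocalRing.closedPoint Ω), ?_⟩
  have e : ((t ≫ pullback.fst (r ≫ q) q) ≫ Sigma.ι (fun _ : G => Y) σ) ≫ υ = t := by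
    apply pullback.hom_ext
    · simp only [Category.assoc, hυ₁, Category.comp_id]
    · simp only [Category.assoc, hυ₂] at hσ ⊢
      exact hσ
  rw [← Scheme.Hom.comp_apply, e, Scheme.Hom.comp_apply, Scheme.fromSpecResidueField_apply]

end Groth.Agent.S13739
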