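-- statement FlatMor.GrothFrozen.S1374 (Groth/Statements/S1374.lean; the theorem FlatMor.closed_points_of_fibre_between_specialization_dense);
import Groth.Statements.S1374
import Groth.Agent.H7Flat.SpecializationClosed
import Mathlib.Topology.JacobsonSpace

set_option autoImplicit false
universe u
open FlatMor

namespace Groth.Agent.S1374

open AlgebraicGeometry CategoryTheory Limits in
/-- Let f : X ⟶ S be locally of finite type and x ⤳ x' a specialization of points of X, with x' a closed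
point of its fibre f⁻¹(f(x')) and f(x) ≠ f(x'). Then the points x₁ with f(x₁) = f(x) which are
closed in the fibre f⁻¹(f(x)) and satisfy x ⤳ x₁ ⤳ x' are dense in the closure of {x} intersected
with the fibre f⁻¹(f(x)) (fibres taken as subspaces of X). (The published statement omits the
condition f(x) ≠ f(x'), but the claim fails without it; it is stated here with that condition.) -/
theorem result {X S : Scheme.{u}} (f : X ⟶ S) [LocallyOfFiniteType f] (x x' : X) (hsp : x ⤳ x') (hne : f x ≠ f x')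
    (hcl : IsClosed (Subtype.val ⁻¹' {x'} : Set ↑(f ⁻¹' {f x'}))) :
    Dense (Subtype.val ⁻¹' {x₁ : ↑X | f x₁ = f x ∧ IsClosed (Subtype.val ⁻¹' {x₁} : Set ↑(f ⁻¹' {f x})) ∧ x ⤳ x₁ ∧ x₁ ⤳ x'} :
      Set ↑(closure {x} ∩ f ⁻¹' {f x})) := by
  classical
  rw [dense_iff_inter_open]
  rintro O hO ⟨⟨y, hyx, hyf⟩, hyO⟩
  obtain ⟨U, hU, rfl⟩ := isOpen_induced_iff.1 hO
  have hxU : x ∈ U := (specializes_iff_mem_closure.2 hyx).mem_open hU hyO
  obtain ⟨Wt, hWt, hfx', -⟩ := exists_isAffineOpen_mem_and_subset (Set.mem_univ (f x')) (U := (⊤ : S.Opens))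
  obtain ⟨W, hW, hx'W, hWle⟩ := exists_isAffineOpen_mem_and_subset (U := f ⁻¹ᵁ Wt)
    (show x' ∈ f ⁻¹ᵁ Wt from hfx')
  have hxW : x ∈ W := hsp.mem_open W.2 hx'W
  have hle : W ≤ f ⁻¹ᵁ Wt := hWle
  let φ : Γ(S, Wt) →+* Γ(X, W) := (f.appLE Wt W hle).hom
  have hφ : ∀ P : PrimeSpectrum Γ(X, W), f (hW.fromSpec P) = hWt.fromSpec (PrimeSpectrum.comap φ P) := by
    intro P
    exact (congrArg (fun m : Spec Γ(X, W) ⟶ S => m P)
      (hWt.SpecMap_appLE_fromSpec f hW hle)).symm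
  obtain ⟨px, hpx⟩ : ∃ P, hW.fromSpec P = x := hW.range_fromSpec.ge hxW
  obtain ⟨px', hpx'⟩ : ∃ P, hW.fromSpec P = x' := hW.range_fromSpec.ge hx'W
  have hspec : ∀ {P Q : PrimeSpectrum Γ(X, W)}, hW.fromSpec P ⤳ hW.fromSpec Q ↔ P.asIdeal ≤ Q.asIdeal := by
    intro P Q
    rw [hW.fromSpec.isOpenEmbedding.isInducing.specializes_iff]
    exact (PrimeSpectrum.le_iff_specializes P Q).symm
  have hle0 : px.asIdeal ≤ px'.asIdeal := hspec.1 (by rw [hpx, hpx']; exact hsp)
  letI : Algebra Γ(S, Wt) Γ(X, W) := φ.toAlgebra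
  let A := Γ(X, W) ⧸ px.asIdeal
  haveI : IsDomain A := Ideal.Quotient.isDomain px.asIdeal
  haveI : Algebra.FiniteType Γ(S, Wt) Γ(X, W) := f.finiteType_appLE hWt hW hle
  haveI : Algebra.FiniteType Γ(S, Wt) A :=
    Algebra.FiniteType.of_surjective (Ideal.Quotient.mkₐ _ px.asIdeal) (Ideal.Quotient.mkₐ_surjective _ _)
  let π : Γ(X, W) →+* A := Ideal.Quotient.mk px.asIdeal
  let P' : Ideal A := px'.asIdeal.map π
  have hP'c : P'.comap π = px'.asIdeal := Ideal.comap_map_mk hle0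
  haveI : P'.IsPrime := Ideal.map_isPrime_of_surjective Ideal.Quotient.mk_surjective (by rw [Ideal.mk_ker]; exact hle0)
  have hfib : ∀ Q : PrimeSpectrum Γ(X, W), px'.asIdeal ≤ Q.asIdeal →
      Q.asIdeal.comap φ = px'.asIdeal.comap φ → Q = px' := by
    intro Q hQ hQφ
    have h1 : f (hW.fromSpec Q) = f x' := by
      rw [← hpx', hφ, hφ]
      exact congrArg _ (PrimeSpectrum.ext hQφ)
    have h2 : x' ⤳ hW.fromSpec Q := by rw [← hpx']; exact hspec.2 hQ
    have h3 : (⟨x', rfl⟩ : ↑(f ⁻¹' {f x'})) ⤳ ⟨hW.fromSpec Q, h1⟩ := (subtype_specializes_iff _ _).2 h2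
    have h4 := h3.mem_closed hcl (show x' ∈ ({x'} : Set X) from rfl)
    exact hW.fromSpec.isOpenEmbedding.injective ((show hW.fromSpec Q = x' from h4).trans hpx'.symm)
  obtain ⟨c, hc, hcU⟩ : ∃ c, px ∈ PrimeSpectrum.basicOpen c ∧
      ∀ P : PrimeSpectrum Γ(X, W), P ∈ PrimeSpectrum.basicOpen c → hW.fromSpec P ∈ U := by
    obtain ⟨_, ⟨c, rfl⟩, hc, hcU⟩ := PrimeSpectrum.isTopologicalBasis_basic_opens.exists_subset_of_mem_open
      (show px ∈ hW.fromSpec ⁻¹' U from by show hW.fromSpec px ∈ U; rw [hpx]; exact hxU)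
      (hU.preimage hW.fromSpec.continuous)
    exact ⟨c, hc, fun P hP => hcU hP⟩
  obtain ⟨p, hp, hpP', hcp, hpR, hpmax⟩ := Groth.Agent.H7Flat.exists_closed_generic_point_le
    (R := Γ(S, Wt)) P' (fun Q hQ hQP hQR => by
      have h1 : px'.asIdeal ≤ Q.comap π := hP'c ▸ Ideal.comap_mono hQP
      have h2 := congrArg PrimeSpectrum.asIdeal (hfib ⟨Q.comap π, Ideal.IsPrime.comap π⟩ h1 (by
        show (Q.comap π).comap φ = _
        rw [← hP'c]
        exact hQR))
      calc Q = (Q.comap π).map π := (Ideal.map_comap_of_surjective _ Ideal.Quotient.mk_surjective Q).symm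
        _ = P' := congrArg (Ideal.map π) h2) (by
      have hlt : ¬ px'.asIdeal.comap φ ≤ px.asIdeal.comap φ := fun h => hne (by
        rw [← hpx, ← hpx', hφ, hφ]
        exact congrArg _ (PrimeSpectrum.ext (le_antisymm (Ideal.comap_mono hle0) h)))
      obtain ⟨r, hr, hr'⟩ := SetLike.not_le_iff_exists.1 hlt
      refine ⟨r, fun h => hr' ?_, ?_⟩
      · exact (Ideal.Quotient.eq_zero_iff_mem (I := px.asIdeal) (a := φ r)).1 h
      · show φ r ∈ P'.comap π
        rw [hP'c]; exact hr) (π c) (fun h => hc (Ideal.Quotient.eq_zero_iff_mem.1 h))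
  let p₁ : PrimeSpectrum Γ(X, W) := ⟨p.comap π, Ideal.IsPrime.comap π⟩
  have hfp : p₁.asIdeal.comap φ = px.asIdeal.comap φ := by
    refine (show (p.comap π).comap φ = RingHom.ker (algebraMap Γ(S, Wt) A) from hpR).trans ?_
    ext r
    exact Ideal.Quotient.eq_zero_iff_mem
  have hfx₁ : f (hW.fromSpec p₁) = f x := by
    rw [← hpx, hφ, hφ]; exact congrArg _ (PrimeSpectrum.ext hfp)
  have hxx₁ : x ⤳ hW.fromSpec p₁ := by
    rw [← hpx]
    exact hspec.2 fun a ha => by
      show π a ∈ p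
      rw [show π a = 0 from Ideal.Quotient.eq_zero_iff_mem.2 ha]; exact zero_mem _
  have hx₁x' : hW.fromSpec p₁ ⤳ x' := by
    rw [← hpx']
    exact hspec.2 (hP'c ▸ Ideal.comap_mono hpP')
  have hclosed : IsClosed (Subtype.val ⁻¹' {hW.fromSpec p₁} : Set ↑(f ⁻¹' {f x})) := by
    haveI : JacobsonSpace ↑(f ⁻¹' {f x}) :=
      JacobsonSpace.of_isOpenEmbedding (f.fiberHomeo (f x)).symm.isOpenEmbedding
    let z : ↑(f ⁻¹' {f x}) := ⟨hW.fromSpec p₁, hfx₁⟩
    have he : (Subtype.val ⁻¹' {hW.fromSpec p₁} : Set ↑(f ⁻¹' {f x})) = {z} := by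
      ext w; simp [z, Subtype.ext_iff]
    rw [he]
    apply isClosed_singleton_of_isLocallyClosed_singleton
    refine ⟨Subtype.val ⁻¹' (W : Set X), closure {z}, W.2.preimage continuous_subtype_val, isClosed_closure, ?_⟩
    refine Set.Subset.antisymm (Set.singleton_subset_iff.2 ⟨hW.range_fromSpec.le ⟨p₁, rfl⟩, subset_closure rfl⟩) ?_
    rintro w ⟨hwW, hwz⟩
    obtain ⟨Q, hQ⟩ : ∃ Q, hW.fromSpec Q = w.1 := hW.range_fromSpec.ge hwW
    have h5 : p₁.asIdeal ≤ Q.asIdeal := hspec.1 (by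
      rw [hQ]; exact (subtype_specializes_iff _ _).1 (specializes_iff_mem_closure.2 hwz))
    have h6 : Q.asIdeal.comap φ = p₁.asIdeal.comap φ := by
      have := hφ Q
      rw [hQ, show f w.1 = f x from w.2, ← hfx₁, hφ] at this
      exact (congrArg PrimeSpectrum.asIdeal (hWt.fromSpec.isOpenEmbedding.injective this)).symm
    have hker : RingHom.ker π ≤ Q.asIdeal := fun a ha => h5 (show π a ∈ p by rw [RingHom.mem_ker.1 ha]; exact zero_mem _)
    haveI : (Q.asIdeal.map π).IsPrime := Ideal.map_isPrime_of_surjective Ideal.Quotient.mk_surjective hker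
    have hQc : (Q.asIdeal.map π).comap π = Q.asIdeal := Ideal.comap_map_mk (by rwa [Ideal.mk_ker] at hker)
    have h7 : Q.asIdeal.map π = p := hpmax _ inferInstance
      (calc p = (p.comap π).map π := (Ideal.map_comap_of_surjective _ Ideal.Quotient.mk_surjective p).symm
        _ ≤ Q.asIdeal.map π := Ideal.map_mono h5) (by
      refine Eq.trans ?_ hpR
      show ((Q.asIdeal.map π).comap π).comap φ = (p.comap π).comap φ
      rw [hQc]; exact h6)
    refine Set.mem_singleton_iff.2 (Subtype.ext ?_)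
    rw [← hQ]
    refine congrArg hW.fromSpec (PrimeSpectrum.ext ?_)
    rw [← hQc, h7]
  exact ⟨⟨hW.fromSpec p₁, specializes_iff_mem_closure.1 hxx₁, hfx₁⟩, hcU p₁ (fun h => hcp h),
    hfx₁, hclosed, hxx₁, hx₁x'⟩

end Groth.Agent.S1374
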