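import Groth.Statements.S13740
import Groth.Agent.H9Gal.QfhBasics
import Groth.Agent.S13739
import Mathlib.CategoryTheory.Sites.EqualizerSheafCondition
-- import your own Groth.Agent.* helpers here

set_option autoImplicit false
universe w u
open SGA1

namespace Groth.Agent.S13740

open CategoryTheory CategoryTheory.Limits AlgebraicGeometry in
theorem univSubmersive_of_finite_surjective {A B : Scheme.{u}} (f : A ⟶ B) [IsFinite f] [Surjective f] :
    SGA1.UnivSubmersive f := by
  intro A' B' i₁ i₂ f' hsq
  haveI : Surjective f' := MorphismProperty.of_isPullback hsq.flip inferInstance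
  haveI : IsFinite f' := MorphismProperty.of_isPullback hsq.flip inferInstance
  exact f'.isClosedMap.isQuotientMap f'.continuous f'.surjective

open CategoryTheory CategoryTheory.Limits AlgebraicGeometry in
/-- Let S be a separated Noetherian scheme, π : X → S finite and surjective with X separated, G a finite
group acting on X by S-automorphisms and transitively on the geometric points of X over every
geometric point of S, and F a presheaf of sets on schemes satisfying the sheaf condition for every
finite family of quasi-finite morphisms of finite type whose induced morphism from the disjoint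
union is universally submersive (a qfh-sheaf). Then pulling back along π identifies F(S) with the
G-invariant elements of F(X): F(π) is injective with image the invariants. (The published statement
takes F a qfh-sheaf on Noetherian schemes over S; this row takes a presheaf on all schemes with the
sheaf property for every such family, a stronger hypothesis.) -/
theorem result {X S : Scheme.{u}} [IsNoetherian S] [S.IsSeparated] [X.IsSeparated] (q : X ⟶ S) [IsFinite q] [Surjective q] {G : Type u} [Group G] [Finite G] (ρ : G →* Aut X) (hρ : ∀ g : G, (ρ g).hom ≫ q = q) (htrans : ∀ (Ω : Type u) [Field Ω] [IsAlgClosed Ω] (τ₁ τ₂ : Spec (CommRingCat.of Ω) ⟶ X), τ₁ ≫ q = τ₂ ≫ q → ∃ g : G, τ₁ ≫ (ρ g).hom = τ₂) (F : Scheme.{u}ᵒᵖ ⥤ Type w) (hF : ∀ ⦃T : Scheme.{u}⦄ (E : PreZeroHypercover.{u} T), Finite E.I₀ → (∀ i, LocallyOfFiniteType (E.f i)) → (∀ i, QuasiCompact (E.f i)) → (∀ i, LocallyQuasiFinite (E.f i)) → SGA1.UnivSubmersive (Sigma.desc E.f) → Presieve.IsSheafFor F E.presieve₀) : Function.Injective (F.map q.op) ∧ Set.range (F.map q.op) = {f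 : F.obj (Opposite.op X) | ∀ g : G, F.map (ρ g).hom.op f = f} := by
  classical
  haveI : IsClosedImmersion (𝟙 X) := inferInstance
  let E₀ : PreZeroHypercover.{u} S := ⟨PUnit.{u + 1}, fun _ => X, fun _ => q⟩
  have hd₀ : SGA1.UnivSubmersive (Sigma.desc E₀.f) := by
    haveI : IsFinite (Sigma.desc E₀.f) :=
      Groth.Agent.H9Gal.QfhBasics.isFinite_sigmaDesc PUnit E₀.X E₀.f fun _ => ‹IsFinite q›
    haveI : Surjective (Sigma.desc E₀.f) := ⟨fun s => by
      obtain ⟨x, rfl⟩ := q.surjective s
      exact ⟨Sigma.ι E₀.X PUnit.unit x, by rw [← Scheme.Hom.comp_apply, Sigma.ι_desc]⟩⟩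
    exact univSubmersive_of_finite_surjective _
  have h₀ : Presieve.IsSheafFor F E₀.presieve₀ := hF E₀ (inferInstanceAs (Finite PUnit))
    (fun _ => inferInstanceAs (LocallyOfFiniteType q)) (fun _ => inferInstanceAs (QuasiCompact q))
    (fun _ => inferInstanceAs (LocallyQuasiFinite q)) hd₀
  let v : G → (X ⟶ pullback q q) := fun σ => pullback.lift (𝟙 X) (ρ σ).hom (by rw [Category.id_comp, hρ])
  have hv1 : ∀ σ, v σ ≫ pullback.fst q q = 𝟙 X := fun σ => pullback.lift_fst _ _ _
  have hv2 : ∀ σ, v σ ≫ pullback.snd q q = (ρ σ).hom := fun σ => pullback.lift_snd _ _ _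
  haveI hvc : ∀ σ, IsClosedImmersion (v σ) := fun σ => by
    haveI : IsClosedImmersion (v σ ≫ pullback.fst q q) := by rw [hv1]; infer_instance
    exact IsClosedImmersion.of_comp (v σ) (pullback.fst q q)
  let E₁ : PreZeroHypercover.{u} (pullback q q) := ⟨G, fun _ => X, v⟩
  have hd₁ : SGA1.UnivSubmersive (Sigma.desc E₁.f) := by
    obtain ⟨h1, h2⟩ := Groth.Agent.S13739.result q ρ hρ htrans (𝟙 X)
      (Sigma.desc (fun σ => v σ ≫ pullback.map q q (𝟙 X ≫ q) q (𝟙 X) (𝟙 X) (𝟙 S) (by simp) (by simp)))
      (fun σ => by rw [← Category.assoc, Sigma.ι_desc, Category.assoc, pullback.lift_fst, Category.comp_id, hv1])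
      (fun σ => by rw [← Category.assoc, Sigma.ι_desc, Category.assoc, pullback.lift_snd, Category.comp_id, hv2, Category.id_comp])
    haveI := h1
    haveI := h2
    let m := pullback.map q q (𝟙 X ≫ q) q (𝟙 X) (𝟙 X) (𝟙 S) (by simp) (by simp)
    have e : Sigma.desc E₁.f = (Sigma.desc fun σ => v σ ≫ m) ≫ inv m :=
      Sigma.hom_ext _ _ fun σ => by
        rw [← Category.assoc, Sigma.ι_desc, Sigma.ι_desc, Category.assoc, IsIso.hom_inv_id, Category.comp_id]
    rw [e]
    exact univSubmersive_of_finite_surjective _
  have h₁ : Presieve.IsSheafFor F E₁.presieve₀ := hF E₁ (inferInstanceAs (Finite G))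
    (fun σ => inferInstanceAs (LocallyOfFiniteType (v σ))) (fun σ => inferInstanceAs (QuasiCompact (v σ)))
    (fun σ => inferInstanceAs (LocallyQuasiFinite (v σ))) hd₁
  have h₀' := (Presieve.isSheafFor_arrows_iff F E₀.f).1 h₀
  refine ⟨fun a b hab => ?_, Set.ext fun f => ⟨?_, fun hf => ?_⟩⟩
  · exact h₀.isSeparatedFor.ext fun Z g hg => by
      obtain ⟨i⟩ := hg
      exact hab
  · rintro ⟨a, rfl⟩ g
    have e : F.map (ρ g).hom.op (F.map q.op a) = F.map ((ρ g).hom ≫ q).op a := by
      rw [op_comp, Functor.map_comp]
      rfl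
    rw [e, hρ]
  · have hcomp : F.map (pullback.fst q q).op f = F.map (pullback.snd q q).op f :=
      h₁.isSeparatedFor.ext fun Z g hg => by
        obtain ⟨σ⟩ := hg
        show F.map (v σ).op (F.map (pullback.fst q q).op f) = F.map (v σ).op (F.map (pullback.snd q q).op f)
        have e : ∀ p : pullback q q ⟶ X, F.map (v σ).op (F.map p.op f) = F.map (v σ ≫ p).op f := fun p => by
          rw [op_comp, Functor.map_comp]
          rfl
        rw [e, e, hv1, hv2]
        have e2 : F.map (𝟙 X).op f = f := by
          show (F.map (𝟙 (Opposite.op X))) f = f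
          simp
        exact e2.trans (hf σ).symm
    obtain ⟨a, ha, -⟩ := h₀' (fun _ => f) (fun i j Z gi gj h => by
      have e : ∀ p : pullback q q ⟶ X, F.map (pullback.lift gi gj h).op (F.map p.op f) = F.map (pullback.lift gi gj h ≫ p).op f := fun p => by
        rw [op_comp, Functor.map_comp]
        rfl
      have := congrArg (F.map (pullback.lift gi gj h).op) hcomp
      rw [e, e, pullback.lift_fst, pullback.lift_snd] at this
      exact this)
    exact ⟨a, ha PUnit.unit⟩

end Groth.Agent.S13740
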