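import Groth.Statements.S13741
import Mathlib.FieldTheory.Normal.Basic
import Mathlib.AlgebraicGeometry.ResidueField
-- import your own Groth.Agent.* helpers here

set_option autoImplicit false
universe u
open SGA1

namespace Groth.Agent.S13741

theorem exists_aut {k L Ω : Type u} [Field k] [Field L] [Field Ω] [Algebra k L] [Algebra k Ω] [Normal k L]
    (a b : L →ₐ[k] Ω) : ∃ σ : L ≃ₐ[k] L, ∀ l, a (σ l) = b l := by
  letI := a.toRingHom.toAlgebra
  haveI : IsScalarTower k L Ω := IsScalarTower.of_algebraMap_eq fun r => (a.commutes r).symm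
  exact ⟨AlgEquiv.ofBijective (b.restrictNormal' L).toAlgHom (b.restrictNormal' L).bijective, fun l =>
    b.restrictNormal_commutes L l⟩

open CategoryTheory CategoryTheory.Limits AlgebraicGeometry in
/-- Let S be a separated Noetherian scheme, q : X → S finite and surjective with X separated, and G a
finite group acting on X by S-automorphisms. Assume that G acts transitively on every fibre of q,
that each residue field extension k(x)/k(q x) is normal, and that for each x every k(q
x)-automorphism of k(x) is induced by an element of G fixing x. Then for every algebraically closed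
field Ω, any two Ω-points of X with the same composite to S are conjugate under G. -/
theorem result {X S : Scheme.{u}} [IsNoetherian S] [S.IsSeparated] [X.IsSeparated] (q : X ⟶ S) [IsFinite q] [Surjective q] {G : Type u} [Group G] [Finite G] (ρ : G →* Aut X) (hρ : ∀ g : G, (ρ g).hom ≫ q = q) (h1 : ∀ x y : X, q x = q y → ∃ g : G, (ρ g).hom x = y) (h2 : ∀ x : X, @Normal (S.residueField (q x)) (X.residueField x) _ _ (q.residueFieldMap x).hom.toAlgebra) (h3 : ∀ (x : X) (σ : X.residueField x ≅ X.residueField x), q.residueFieldMap x ≫ σ.hom = q.residueFieldMap x → ∃ g : G, X.fromSpecResidueField x ≫ (ρ g).hom = Spec.map σ.hom ≫ X.fromSpecResidueField x) (Ω : Type u) [Field Ω] [IsAlgClosed Ω] (τ₁ τ₂ : Spec (CommRingCat.of Ω) ⟶ X) (hτ : τ₁ ≫ q = τ₂ ≫ q) : ∃ g : G, τ₁ ≫ (ρ g).hom = τ₂ := by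
  obtain ⟨⟨x, a⟩, rfl⟩ := (Scheme.SpecToEquivOfField Ω X).symm.surjective τ₁
  obtain ⟨⟨y, b⟩, rfl⟩ := (Scheme.SpecToEquivOfField Ω X).symm.surjective τ₂
  simp only [Scheme.SpecToEquivOfField_symm_apply] at hτ ⊢
  have hpt : ∀ (z : X) (c : X.residueField z ⟶ CommRingCat.of Ω) (p : Spec (CommRingCat.of Ω)),
      (Spec.map c ≫ X.fromSpecResidueField z) p = z := fun z c p => by
    rw [Scheme.Hom.comp_apply, Scheme.fromSpecResidueField_apply]
  have hxy : q x = q y := by
    have h := congrArg (fun φ : Spec (CommRingCat.of Ω) ⟶ S => φ (IsLocalRing.closedPoint Ω)) hτ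
    simp only [Scheme.Hom.comp_apply, Scheme.fromSpecResidueField_apply] at h
    exact h
  obtain ⟨g, hg⟩ := h1 x y hxy
  obtain ⟨⟨y', a'⟩, ha'⟩ := (Scheme.SpecToEquivOfField Ω X).symm.surjective
    ((Spec.map a ≫ X.fromSpecResidueField x) ≫ (ρ g).hom)
  rw [Scheme.SpecToEquivOfField_symm_apply] at ha'
  obtain rfl : y' = y := by
    have h := congrArg (fun φ : Spec (CommRingCat.of Ω) ⟶ X => φ (IsLocalRing.closedPoint Ω)) ha'
    simp only [Scheme.Hom.comp_apply, Scheme.fromSpecResidueField_apply] at h
    exact h.trans hg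
  have hab : q.residueFieldMap y' ≫ a' = q.residueFieldMap y' ≫ b := by
    have h : (Spec.map a' ≫ X.fromSpecResidueField y') ≫ q = (Spec.map b ≫ X.fromSpecResidueField y') ≫ q := by
      rw [ha', Category.assoc, hρ, hτ]
    simp only [Category.assoc, ← Scheme.Hom.SpecMap_residueFieldMap_fromSpecResidueField] at h
    rw [← Spec.map_comp_assoc, ← Spec.map_comp_assoc, cancel_mono] at h
    exact Spec.map_injective h
  letI := (q.residueFieldMap y').hom.toAlgebra
  letI := (q.residueFieldMap y' ≫ a').hom.toAlgebra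
  haveI : Normal (S.residueField (q y')) (X.residueField y') := h2 y'
  let A : X.residueField y' →ₐ[S.residueField (q y')] Ω := { a'.hom with commutes' := fun r => rfl }
  let B : X.residueField y' →ₐ[S.residueField (q y')] Ω :=
    { b.hom with commutes' := fun r => (ConcreteCategory.congr_hom hab r).symm }
  obtain ⟨σ, hσ⟩ := exists_aut A B
  obtain ⟨g', hg'⟩ := h3 y' σ.toRingEquiv.toCommRingCatIso (by ext r; exact σ.commutes r)
  refine ⟨g' * g, ?_⟩
  have hb : σ.toRingEquiv.toCommRingCatIso.hom ≫ a' = b := by ext l; exact hσ l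
  rw [map_mul]
  show _ ≫ ((ρ g).hom ≫ (ρ g').hom) = _
  rw [← Category.assoc, ← ha', Category.assoc, hg', ← hb, Spec.map_comp, Category.assoc]

end Groth.Agent.S13741
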