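import Groth.Statements.S13742
import Mathlib
-- import your own Groth.Agent.* helpers here

set_option autoImplicit false
universe u
open Cyc

namespace Groth.Agent.S13742

open CategoryTheory CategoryTheory.Limits AlgebraicGeometry in
/-- Let S be a separated Noetherian scheme, f : X → S separated of finite type, z a point of X mapping
to a generic point of an irreducible component of S, and ι : Z → X a closed immersion from a reduced
scheme with image the closure of z (the closure of z with its reduced structure). Then Z ×_S Spec
k(f z) is an integral scheme, and its image in the fibre X ×_S Spec k(f z) is the closure of the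
unique point w of that fibre lying over z: Z ×_S Spec k(f z) is the closure of z in its fibre, with
reduced structure. -/
theorem result {X S Z : Scheme.{u}} [IsNoetherian S] [S.IsSeparated] [X.IsSeparated] (f : X ⟶ S) [LocallyOfFiniteType f] [QuasiCompact f] (z : X) (hz : closure {f z} ∈ irreducibleComponents ↥S) (ι : Z ⟶ X) [IsClosedImmersion ι] [IsReduced Z] (hZ : Set.range ι = closure {z}) : IsIntegral (pullback (ι ≫ f) (S.fromSpecResidueField (f z))) ∧ ∃ w : ↥(pullback f (S.fromSpecResidueField (f z))), pullback.fst f (S.fromSpecResidueField (f z)) w = z ∧ Set.range (pullback.map (ι ≫ f) (S.fromSpecResidueField (f z)) f (S.fromSpecResidueField (f z)) ι (𝟙 _) (𝟙 S) (Category.comp_id _) ((Category.comp_id _).trans (Category.id_comp _).symm)) = closure {w} := by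
  classical
have hzr : z ∈ Set.range ι := by rw [hZ]; exact subset_closure rfl
obtain ⟨γ, hγ⟩ := hzr
have hgen : ∀ y : Z, γ ⤳ y := fun y => by
  rw [← ι.isEmbedding.isInducing.specializes_iff, hγ, specializes_iff_mem_closure, ← hZ]
  exact ⟨y, rfl⟩
haveI : IrreducibleSpace Z := by
  have : closure ({γ} : Set Z) = Set.univ := Set.eq_univ_of_forall fun y => specializes_iff_mem_closure.mp (hgen y)
  exact (irreducibleSpace_def _).mpr (by rw [Set.top_eq_univ, ← this]; exact isIrreducible_singleton.closure)
haveI : IsIntegral Z := isIntegral_of_irreducibleSpace_of_isReduced Z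
let j := pullback.fst (ι ≫ f) (S.fromSpecResidueField (f z))
have hjr : γ ∈ Set.range j := by
  rw [Scheme.Pullback.range_fst, Set.mem_preimage, Scheme.range_fromSpecResidueField, Set.mem_singleton_iff, Scheme.Hom.comp_apply, hγ]
obtain ⟨w₀, hw₀⟩ := hjr
have hw₀gen : ∀ y, w₀ ⤳ y := fun y => by
  rw [← j.isEmbedding.isInducing.specializes_iff, hw₀]; exact hgen _
haveI : IrreducibleSpace ↥(pullback (ι ≫ f) (S.fromSpecResidueField (f z))) := by
  have : closure ({w₀} : Set ↥(pullback (ι ≫ f) (S.fromSpecResidueField (f z)))) = Set.univ :=
    Set.eq_univ_of_forall fun y => specializes_iff_mem_closure.mp (hw₀gen y)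
  exact (irreducibleSpace_def _).mpr (by rw [Set.top_eq_univ, ← this]; exact isIrreducible_singleton.closure)
haveI : ∀ w, _root_.IsReduced ((pullback (ι ≫ f) (S.fromSpecResidueField (f z))).presheaf.stalk w) := fun w => by
  have hinj : Function.Injective (j.stalkMap w) := by
    intro a b hab
    have h1 := congrArg (fun t => ((pullback (ι ≫ f) (S.fromSpecResidueField (f z))).presheaf.stalkSpecializes (hw₀gen w)) t) hab
    beta_reduce at h1
    rw [← Scheme.Hom.stalkSpecializes_stalkMap_apply, ← Scheme.Hom.stalkSpecializes_stalkMap_apply] at h1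
    have hp : j w₀ = genericPoint Z := by
      rw [hw₀]
      exact ((genericPoint_specializes γ).antisymm (hgen (genericPoint Z))).eq.symm
    have key : ∀ {p x : Z} (h : p ⤳ x), p = genericPoint Z →
        Function.Injective (Z.presheaf.stalkSpecializes h) ∧ IsField (Z.presheaf.stalk p) := by
      rintro p x h rfl
      exact ⟨IsFractionRing.injective (Z.presheaf.stalk x) Z.functionField, Field.toIsField Z.functionField⟩
    obtain ⟨k1, k2⟩ := key (j.base.hom.map_specializes (hw₀gen w)) hp
    letI := k2.toField
    exact k1 ((j.stalkMap w₀).hom.injective h1)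
  exact isReduced_of_injective (RingEquiv.ofBijective (j.stalkMap w).hom ⟨hinj, j.stalkMap_surjective w⟩).symm
    (RingEquiv.injective _)
haveI : IsReduced (pullback (ι ≫ f) (S.fromSpecResidueField (f z))) := isReduced_of_isReduced_stalk _
refine ⟨isIntegral_of_irreducibleSpace_of_isReduced _,
  pullback.map (ι ≫ f) (S.fromSpecResidueField (f z)) f (S.fromSpecResidueField (f z)) ι (𝟙 _) (𝟙 S) (Category.comp_id _) ((Category.comp_id _).trans (Category.id_comp _).symm) w₀, ?_, ?_⟩
· rw [← Scheme.Hom.comp_apply, pullback.lift_fst, Scheme.Hom.comp_apply, hw₀, hγ]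
· refine Set.Subset.antisymm ?_ (closure_minimal (Set.singleton_subset_iff.mpr ⟨w₀, rfl⟩) ?_)
  · rintro _ ⟨y, rfl⟩
    exact specializes_iff_mem_closure.mp ((hw₀gen y).map (Scheme.Hom.continuous _))
  · rw [Scheme.Pullback.range_map]
    refine (ι.isClosedEmbedding.isClosed_range.preimage (Scheme.Hom.continuous _)).inter ?_
    simp

end Groth.Agent.S13742
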