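import Groth.Statements.S13744
import Mathlib
import Groth.Agent.H28Vert.TrivGeneric
-- import your own Groth.Agent.* helpers here

set_option autoImplicit false
universe u
open Cyc
open Groth.Agent

namespace Groth.Agent.S13744

set_option backward.isDefEq.respectTransparency.types false in
set_option backward.isDefEq.respectTransparency false in
open CategoryTheory CategoryTheory.Limits AlgebraicGeometry in
/-- Let S be a separated Noetherian scheme, p : X → S separated of finite type, ι : Z → X a closed
immersion with Z integral, R a discrete valuation ring with fraction field K and x : Spec R → S. Let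
φ be the scheme-theoretic image in Z ×_S Spec R of Z ×_S Spec K (the flat closure of the generic
fibre), regarded as a closed subscheme of X ×_S Spec R. Then the cycle of φ (coefficient at t =
length of the local ring of φ above t, an infinite length read as 0) equals the cycle of Z ×_S Spec
K pushed forward along the inclusion X ×_S Spec K → X ×_S Spec R. -/
theorem result {X S Z : Scheme.{u}} [IsNoetherian S] [S.IsSeparated] [X.IsSeparated] (p : X ⟶ S) [LocallyOfFiniteType p] [QuasiCompact p] (ι : Z ⟶ X) [IsClosedImmersion ι] [IsIntegral Z] (R : Type u) [CommRing R] [IsDomain R] [IsDiscreteValuationRing R] (x : Spec (CommRingCat.of R) ⟶ S) (t : ↥(pullback p x)) : Cyc.subschemeFun (fun _ => (0 : ℤ)) 0 ((pullback.map (ι ≫ p) (Spec.map (CommRingCat.ofHom (algebraMap R (FractionRing R))) ≫ x) (ι ≫ p) x (𝟙 Z) (Spec.map (CommRingCat.ofHom (algebraMap R (FractionRing R)))) (𝟙 S) ((Category.comp_id _).trans (Category.id_comp _).symm) (Category.comp_id _)).ker.subschemeι ≫ pullback.map (ι ≫ p) x p x ι (𝟙 _) (𝟙 S) (Category.comp_id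 _) ((Category.comp_id _).trans (Category.id_comp _).symm)) t = ∑ᶠ t' ∈ {t' : ↥(pullback p (Spec.map (CommRingCat.ofHom (algebraMap R (FractionRing R))) ≫ x)) | (pullback.map p (Spec.map (CommRingCat.ofHom (algebraMap R (FractionRing R))) ≫ x) p x (𝟙 X) (Spec.map (CommRingCat.ofHom (algebraMap R (FractionRing R)))) (𝟙 S) ((Category.comp_id _).trans (Category.id_comp _).symm) (Category.comp_id _)) t' = t}, Cyc.subschemeFun (fun _ => (0 : ℤ)) 0 (pullback.map (ι ≫ p) (Spec.map (CommRingCat.ofHom (algebraMap R (FractionRing R))) ≫ x) p (Spec.map (CommRingCat.ofHom (algebraMap R (FractionRing R))) ≫ x) ι (𝟙 _) (𝟙 S) (Category.comp_id _) ((Category.comp_id _).trans (Category.id_comp _).symm)) t' := by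
  classical
haveI : IsNoetherianRing R := inferInstance
set sK := Spec.map (CommRingCat.ofHom (algebraMap R (FractionRing R))) with hsK
haveI : IsOpenImmersion sK := H28Vert.isOpenImmersion_generic R
let j := pullback.map (ι ≫ p) (sK ≫ x) (ι ≫ p) x (𝟙 Z) sK (𝟙 S) ((Category.comp_id _).trans (Category.id_comp _).symm) (Category.comp_id _)
let μ := pullback.map (ι ≫ p) x p x ι (𝟙 _) (𝟙 S) (Category.comp_id _) ((Category.comp_id _).trans (Category.id_comp _).symm)
let ν := pullback.map (ι ≫ p) (sK ≫ x) p (sK ≫ x) ι (𝟙 _) (𝟙 S) (Category.comp_id _) ((Category.comp_id _).trans (Category.id_comp _).symm)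
let m := pullback.map p (sK ≫ x) p x (𝟙 X) sK (𝟙 S) ((Category.comp_id _).trans (Category.id_comp _).symm) (Category.comp_id _)
haveI : IsClosedImmersion μ := MorphismProperty.pullbackMap (P := @IsClosedImmersion) inferInstance inferInstance rfl (Category.id_comp x).symm
haveI : IsClosedImmersion ν := MorphismProperty.pullbackMap (P := @IsClosedImmersion) inferInstance inferInstance rfl (Category.id_comp _).symm
haveI : IsOpenImmersion j := inferInstanceAs (IsOpenImmersion (pullback.map _ _ _ _ _ _ _ _ _))
haveI : IsOpenImmersion m := inferInstanceAs (IsOpenImmersion (pullback.map _ _ _ _ _ _ _ _ _))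
haveI : LocallyOfFiniteType (pullback.snd (ι ≫ p) x) := MorphismProperty.pullback_snd _ _ inferInstance
haveI : QuasiCompact (pullback.snd (ι ≫ p) x) := MorphismProperty.pullback_snd _ _ inferInstance
haveI : IsLocallyNoetherian (pullback (ι ≫ p) x) := LocallyOfFiniteType.isLocallyNoetherian (pullback.snd (ι ≫ p) x)
haveI : CompactSpace ↥(pullback (ι ≫ p) x) := QuasiCompact.compactSpace_of_compactSpace (pullback.snd (ι ≫ p) x)
haveI : IsNoetherian (pullback (ι ≫ p) x) := ⟨⟩
haveI : QuasiCompact j := inferInstance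
haveI : IsLocallyNoetherian j.ker.subscheme := LocallyOfFiniteType.isLocallyNoetherian j.ker.subschemeι
haveI : CompactSpace ↥j.ker.subscheme := QuasiCompact.compactSpace_of_compactSpace j.ker.subschemeι
haveI : IsNoetherian j.ker.subscheme := ⟨⟩
let g : pullback (ι ≫ p) (sK ≫ x) ⟶ j.ker.subscheme := j.toImage
haveI : IsOpenImmersion g := inferInstanceAs (IsOpenImmersion j.toImage)
haveI : IsDominant g := inferInstanceAs (IsDominant j.toImage)
have hsq : ν ≫ m = g ≫ j.ker.subschemeι ≫ μ := by
  rw [← Category.assoc, show g ≫ j.ker.subschemeι = j from j.toImage_imageι]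
  apply pullback.hom_ext <;> simp [ν, m, j, μ]
have hzero : ∀ w, w ∉ Set.range g → (Module.length (j.ker.subscheme.presheaf.stalk w) (j.ker.subscheme.presheaf.stalk w)).toNat = 0 := by
  intro w hw
  by_contra hne
  have hlt : Module.length (j.ker.subscheme.presheaf.stalk w) (j.ker.subscheme.presheaf.stalk w) ≠ ⊤ := fun h => hne (by rw [h]; rfl)
  rw [Module.length_ne_top_iff, isFiniteLength_iff_isNoetherian_isArtinian] at hlt
  haveI : IsArtinianRing (j.ker.subscheme.presheaf.stalk w) := hlt.2
  have hgen : ∀ γ, γ ⤳ w → γ = w := fun γ hγ => by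
    have h1 : γ ∈ Set.range (j.ker.subscheme.fromSpecStalk w) := by rw [Scheme.range_fromSpecStalk]; exact hγ
    obtain ⟨q, rfl⟩ := h1
    rw [show q = IsLocalRing.closedPoint (j.ker.subscheme.presheaf.stalk w) from PrimeSpectrum.ext (IsLocalRing.eq_maximalIdeal (IsArtinianRing.isMaximal_of_isPrime q.asIdeal))]
    exact Scheme.fromSpecStalk_closedPoint
  have hfin := TopologicalSpace.NoetherianSpace.finite_irreducibleComponents (α := ↥j.ker.subscheme)
  have hwc : closure {w} ∈ irreducibleComponents ↥j.ker.subscheme := by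
    refine ⟨isIrreducible_singleton.closure, fun C hC hle => ?_⟩
    have h1 : hC.genericPoint ⤳ w := hC.isGenericPoint_genericPoint_closure.specializes (subset_closure (hle (subset_closure rfl)))
    have h2 := hC.isGenericPoint_genericPoint_closure.def
    rw [hgen _ h1] at h2
    exact subset_closure.trans h2.ge
  let T : Set ↥j.ker.subscheme := ⋃ C ∈ irreducibleComponents ↥j.ker.subscheme \ {closure {w}}, C
  have hT : IsClosed T := (hfin.subset Set.sdiff_subset).isClosed_biUnion fun C hC => isClosed_of_mem_irreducibleComponents C hC.1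
  have hwT : w ∉ T := by
    intro h
    obtain ⟨C, ⟨hC, hne'⟩, hwC⟩ := Set.mem_iUnion₂.mp h
    exact hne' (Set.mem_singleton_iff.mpr ((hwc.eq_of_le hC.1 (closure_minimal (Set.singleton_subset_iff.mpr hwC) (isClosed_of_mem_irreducibleComponents C hC))).symm))
  obtain ⟨_, hyT, q, rfl⟩ := g.denseRange.inter_open_nonempty Tᶜ hT.isOpen_compl ⟨w, hwT⟩
  have hq : g q ∈ closure {w} := by
    by_contra hn
    refine hyT (Set.mem_iUnion₂.mpr ⟨irreducibleComponent (g q), ⟨irreducibleComponent_mem_irreducibleComponents _, fun h => hn ?_⟩, mem_irreducibleComponent⟩)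
    rw [← Set.mem_singleton_iff.mp h]; exact mem_irreducibleComponent
  exact hw ((specializes_iff_mem_closure.mpr hq).mem_open g.isOpenEmbedding.isOpen_range ⟨q, rfl⟩)
simp only [Cyc.subschemeFun, if_true]
show ∑ᶠ w ∈ {w | (j.ker.subschemeι ≫ μ) w = t}, _ = ∑ᶠ t' ∈ {t' | m t' = t}, ∑ᶠ z ∈ {z | ν z = t'}, _
have hinj : Function.Injective (j.ker.subschemeι ≫ μ) := (j.ker.subschemeι ≫ μ).isEmbedding.injective
by_cases ht : ∃ z, m (ν z) = t
· obtain ⟨z, rfl⟩ := ht
  have hz : (j.ker.subschemeι ≫ μ) (g z) = m (ν z) := by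
    rw [← Scheme.Hom.comp_apply, ← Scheme.Hom.comp_apply, hsq]
  have hL : {w | (j.ker.subschemeι ≫ μ) w = m (ν z)} = {g z} := Set.ext fun w => ⟨fun h => hinj (h.trans hz.symm), fun h => h ▸ hz⟩
  have hR : {t' | m t' = m (ν z)} = {ν z} := Set.ext fun w => ⟨fun h => m.isOpenEmbedding.injective h, fun h => h ▸ rfl⟩
  have hR2 : {z' | ν z' = ν z} = {z} := Set.ext fun w => ⟨fun h => ν.isEmbedding.injective h, fun h => h ▸ rfl⟩
  rw [hL, hR, finsum_mem_singleton, finsum_mem_singleton, hR2, finsum_mem_singleton]
  let e := (asIso (g.stalkMap z)).commRingCatIsoToRingEquiv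
  congr 2
  letI := e.toRingHom.toAlgebra
  exact (LinearEquiv.ofBijective (Algebra.linearMap _ _) e.bijective).length_eq.trans (Module.length_eq_of_surjective e.surjective)
· rw [finsum_mem_eq_zero_of_forall_eq_zero, finsum_mem_eq_zero_of_forall_eq_zero]
  · intro t' ht'
    exact finsum_mem_eq_zero_of_forall_eq_zero fun z hz => (ht ⟨z, by rw [hz]; exact ht'⟩).elim
  · intro w hw
    rw [hzero w, Nat.cast_zero]
    rintro ⟨z, rfl⟩
    exact ht ⟨z, by rw [← Scheme.Hom.comp_apply, hsq]; exact hw⟩

end Groth.Agent.S13744
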