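import Groth.Statements.S17018
import Groth.Agent.H8Props.FibreStalk

set_option autoImplicit false
universe u
open CategoryTheory CategoryTheory.Limits AlgebraicGeometry
open Models

namespace Groth.Agent.S17018

theorem isReduced_fiber {R : Type u} [CommRing R] [IsLocalRing R] {X : Scheme.{u}}
    (f : X ⟶ Spec (CommRingCat.of R))
    {Xs : Scheme.{u}} (gs : Xs ⟶ X) (fs : Xs ⟶ Spec (CommRingCat.of (IsLocalRing.ResidueField R)))
    (hs : IsPullback gs fs f (Spec.map (CommRingCat.ofHom (IsLocalRing.residue R))))
    [IsReduced Xs] : IsReduced (f.fiber (IsLocalRing.closedPoint R)) := by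
  let r := Spec.map (CommRingCat.ofHom (IsLocalRing.residue R))
  have hpt : r (IsLocalRing.closedPoint (IsLocalRing.ResidueField R)) = IsLocalRing.closedPoint R :=
    IsLocalRing.comap_closedPoint (IsLocalRing.residue R)
  haveI : IsClosedImmersion r := IsClosedImmersion.spec_of_surjective _ IsLocalRing.residue_surjective
  let j := Spec.map (Scheme.descResidueField (Scheme.stalkClosedPointTo r))
  have hj : j ≫ (Spec (CommRingCat.of R)).fromSpecResidueField (r (IsLocalRing.closedPoint _)) = r :=
    Scheme.descResidueField_stalkClosedPointTo_fromSpecResidueField _ _ r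
  haveI : IsClosedImmersion (j ≫ (Spec (CommRingCat.of R)).fromSpecResidueField (r (IsLocalRing.closedPoint _))) :=
    hj.symm ▸ inferInstance
  haveI : IsClosedImmersion j := IsClosedImmersion.of_comp j
    ((Spec (CommRingCat.of R)).fromSpecResidueField (r (IsLocalRing.closedPoint _)))
  haveI : Subsingleton (Spec ((Spec (CommRingCat.of R)).residueField (r (IsLocalRing.closedPoint _)))) :=
    inferInstanceAs (Subsingleton (PrimeSpectrum _))
  haveI : Surjective j := ⟨fun y => ⟨IsLocalRing.closedPoint _, Subsingleton.elim _ _⟩⟩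
  haveI : IsIso j := isIso_of_isClosedImmersion_of_surjective j
  have h1 : IsPullback gs (fs ≫ j) f
      ((Spec (CommRingCat.of R)).fromSpecResidueField (r (IsLocalRing.closedPoint _))) := by
    refine hs.of_iso (Iso.refl _) (Iso.refl _) (asIso j) (Iso.refl _) (by simp) (by simp) (by simp) ?_
    simp only [Iso.refl_hom, Category.comp_id, asIso_hom]
    exact hj.symm
  rw [← hpt]
  exact @isReduced_of_isOpenImmersion _ _ h1.isoPullback.inv (@IsOpenImmersion.of_isIso _ _ _ (Iso.isIso_inv h1.isoPullback)) _

theorem map_maximalIdeal_le {R : Type u} [CommRing R] [IsLocalRing R] (y : Spec (CommRingCat.of R))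
    (hy : y = IsLocalRing.closedPoint R) :
    IsLocalRing.maximalIdeal ((Spec (CommRingCat.of R)).presheaf.stalk y) =
      (IsLocalRing.maximalIdeal R).map
        (((Spec (CommRingCat.of R)).presheaf.germ ⊤ y trivial).hom.comp
          (Scheme.ΓSpecIso (CommRingCat.of R)).inv.hom) := by
  subst hy
  letI : Algebra R ((Spec (CommRingCat.of R)).presheaf.stalk (IsLocalRing.closedPoint R)) :=
    (((Spec (CommRingCat.of R)).presheaf.germ ⊤ (IsLocalRing.closedPoint R) trivial).hom.comp
      (Scheme.ΓSpecIso (CommRingCat.of R)).inv.hom).toAlgebra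
  haveI : IsLocalization.AtPrime ((Spec (CommRingCat.of R)).presheaf.stalk (IsLocalRing.closedPoint R))
      (IsLocalRing.maximalIdeal R) := StructureSheaf.IsLocalization.to_stalk R (IsLocalRing.closedPoint R)
  haveI : IsLocalRing ((Spec (CommRingCat.of R)).presheaf.stalk (IsLocalRing.closedPoint R)) :=
    (Spec (CommRingCat.of R)).toLocallyRingedSpace.isLocalRing _
  exact (IsLocalization.AtPrime.map_eq_maximalIdeal (IsLocalRing.maximalIdeal R)
    ((Spec (CommRingCat.of R)).presheaf.stalk (IsLocalRing.closedPoint R))).symm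

/-- Let R be a discrete valuation ring with algebraically closed residue field and f : X → Spec R a
proper flat morphism whose generic fibre (base change to the fraction field of R) is smooth of
relative dimension 1 and connected and whose special fibre (base change to the residue field) is
connected and reduced; let ξ be the generic point of an irreducible component of the special fibre
and B a discrete valuation ring given with an isomorphism from the local ring of X at ξ under which
R → B is the map induced by f. Then the maximal ideal of B is the extension of the maximal ideal of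
R: a uniformizer of R maps to a uniformizer of B. (The published setting takes everything
essentially of finite type over a field of characteristic zero; the printed argument does not use
this and it is not imposed here.) -/
theorem result
    (R : Type u) [CommRing R] [IsDomain R] [IsDiscreteValuationRing R]
    [IsAlgClosed (IsLocalRing.ResidueField R)]
    (X : Scheme.{u}) (f : X ⟶ Spec (CommRingCat.of R)) [IsProper f] [Flat f]
    (XK : Scheme.{u}) (gK : XK ⟶ X) (fK : XK ⟶ Spec (CommRingCat.of (FractionRing R)))
    (hK : IsPullback gK fK f (Spec.map (CommRingCat.ofHom (algebraMap R (FractionRing R)))))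
    [SmoothOfRelativeDimension 1 fK] [ConnectedSpace XK]
    (Xs : Scheme.{u}) (gs : Xs ⟶ X) (fs : Xs ⟶ Spec (CommRingCat.of (IsLocalRing.ResidueField R)))
    (hs : IsPullback gs fs f (Spec.map (CommRingCat.ofHom (IsLocalRing.residue R))))
    [ConnectedSpace Xs] [IsReduced Xs]
    (ξ : Xs) (hξ : closure ({ξ} : Set Xs) ∈ irreducibleComponents Xs)
    (B : Type u) [CommRing B] [IsDomain B] [IsDiscreteValuationRing B] [Algebra R B]
    (e : X.presheaf.stalk (gs.base ξ) ≅ CommRingCat.of B)
    (he : e.hom.hom.comp ((X.presheaf.germ ⊤ (gs.base ξ) trivial).hom.comp (Coh.toGlobal f)) =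
      algebraMap R B) :
    IsLocalRing.maximalIdeal B = Ideal.map (algebraMap R B) (IsLocalRing.maximalIdeal R) := by
  let x := gs.base ξ
  have hfx : f x = IsLocalRing.closedPoint R := by
    have h1 : f x = Spec.map (CommRingCat.ofHom (IsLocalRing.residue R)) (fs ξ) := congr($(hs.w).base ξ)
    rw [h1]
    haveI : Subsingleton (Spec (CommRingCat.of (IsLocalRing.ResidueField R))) :=
      inferInstanceAs (Subsingleton (PrimeSpectrum _))
    rw [Subsingleton.elim (fs ξ) (IsLocalRing.closedPoint _)]
    exact IsLocalRing.comap_closedPoint (IsLocalRing.residue R)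
  haveI : AlgebraicGeometry.IsReduced (f.fiber (f x)) := hfx ▸ isReduced_fiber f gs fs hs
  let J := (IsLocalRing.maximalIdeal ((Spec (CommRingCat.of R)).presheaf.stalk (f x))).map (f.stalkMap x).hom
  have hJ : J.IsRadical := (Ideal.isRadical_iff_quotient_reduced J).2
    (isReduced_of_injective _ (H8Props.FibreStalk.asFiberStalkEquiv f x).injective)
  have hcomp : (f.stalkMap x).hom.comp (((Spec (CommRingCat.of R)).presheaf.germ ⊤ (f x) trivial).hom.comp
      (Scheme.ΓSpecIso (CommRingCat.of R)).inv.hom) =
      (X.presheaf.germ ⊤ x trivial).hom.comp (Coh.toGlobal f) := by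
    refine RingHom.ext fun r => ?_
    exact Scheme.Hom.germ_stalkMap_apply f ⊤ x trivial ((Scheme.ΓSpecIso (CommRingCat.of R)).inv r)
  let ee := e.commRingCatIsoToRingEquiv
  have hB : J.map (ee.toRingHom) = (IsLocalRing.maximalIdeal R).map (algebraMap R B) := by
    rw [show J = ((IsLocalRing.maximalIdeal R).map (((Spec (CommRingCat.of R)).presheaf.germ ⊤ (f x) trivial).hom.comp
      (Scheme.ΓSpecIso (CommRingCat.of R)).inv.hom)).map (f.stalkMap x).hom from
        congrArg (Ideal.map _) (map_maximalIdeal_le (f x) hfx), Ideal.map_map, Ideal.map_map, ← he, ← hcomp]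
    rfl
  have hrad : ((IsLocalRing.maximalIdeal R).map (algebraMap R B)).IsRadical := by
    rw [← hB]
    have h := hJ.comap ee.symm.toRingHom
    exact (Ideal.map_comap_of_equiv (f := ee) (I := J)).symm ▸ h
  have hne : (IsLocalRing.maximalIdeal R).map (algebraMap R B) ≠ ⊤ := by
    intro htop
    rw [← hB] at htop
    have hle : J ≤ IsLocalRing.maximalIdeal (X.presheaf.stalk x) :=
      IsLocalRing.map_maximalIdeal_le (f.stalkMap x).hom
    obtain ⟨a, ha, ha1⟩ := (Ideal.mem_map_iff_of_surjective ee.toRingHom ee.surjective).1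
      (show (1 : B) ∈ J.map ee.toRingHom by rw [htop]; trivial)
    have : a = 1 := ee.injective (ha1.trans (map_one ee).symm)
    exact (IsLocalRing.maximalIdeal.isMaximal _).ne_top ((Ideal.eq_top_iff_one _).2 (hle (this ▸ ha)))
  obtain ⟨ϖ, hϖ⟩ := IsDiscreteValuationRing.exists_irreducible R
  have hinj : algebraMap R B ϖ ≠ 0 := by
    rw [← he]
    intro h0
    have h1 : X.presheaf.germ ⊤ x trivial (Coh.toGlobal f ϖ) = 0 := ee.injective (h0.trans (map_zero ee).symm)
    have h2 : (f.stalkMap x).hom.Flat := Flat.stalkMap f x
    letI := (f.stalkMap x).hom.toAlgebra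
    haveI : Module.Flat ((Spec (CommRingCat.of R)).presheaf.stalk (f x)) (X.presheaf.stalk x) := h2
    haveI : IsLocalHom (algebraMap ((Spec (CommRingCat.of R)).presheaf.stalk (f x)) (X.presheaf.stalk x)) :=
      inferInstanceAs (IsLocalHom (f.stalkMap x).hom)
    haveI : Module.FaithfullyFlat ((Spec (CommRingCat.of R)).presheaf.stalk (f x)) (X.presheaf.stalk x) :=
      Module.FaithfullyFlat.of_flat_of_isLocalHom
    have h3 : Function.Injective (f.stalkMap x).hom :=
      FaithfulSMul.algebraMap_injective ((Spec (CommRingCat.of R)).presheaf.stalk (f x)) (X.presheaf.stalk x)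
    have h5 := congr($hcomp ϖ)
    have h4 := h3 ((h5.trans h1).trans (map_zero (f.stalkMap x).hom).symm)
    letI : Algebra R ((Spec (CommRingCat.of R)).presheaf.stalk (f x)) :=
      (((Spec (CommRingCat.of R)).presheaf.germ ⊤ (f x) trivial).hom.comp
        (Scheme.ΓSpecIso (CommRingCat.of R)).inv.hom).toAlgebra
    haveI : (PrimeSpectrum.asIdeal (f x)).IsPrime := (show PrimeSpectrum R from f x).2
    haveI : IsLocalization ((PrimeSpectrum.asIdeal (f x)).primeCompl) ((Spec (CommRingCat.of R)).presheaf.stalk (f x)) :=
      StructureSheaf.IsLocalization.to_stalk R (f x)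
    exact hϖ.ne_zero (IsLocalization.injective _
      ((PrimeSpectrum.asIdeal (f x)).primeCompl_le_nonZeroDivisors) (h4.trans (map_zero _).symm))
  have hbot : (IsLocalRing.maximalIdeal R).map (algebraMap R B) ≠ ⊥ := fun h =>
    hinj (by simpa [h] using Ideal.mem_map_of_mem (algebraMap R B) (show ϖ ∈ IsLocalRing.maximalIdeal R from hϖ.1))
  obtain ⟨β, hβ⟩ := IsDiscreteValuationRing.exists_irreducible B
  obtain ⟨n, hn⟩ := IsDiscreteValuationRing.ideal_eq_span_pow_irreducible hbot hβ
  rw [← Ideal.span_singleton_pow, ← hβ.maximalIdeal_eq] at hn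
  rw [hn] at hrad hne ⊢
  refine le_antisymm (fun b hb => hrad ⟨n, Ideal.pow_mem_pow hb n⟩) (Ideal.pow_le_self ?_)
  rintro rfl
  exact hne (by simp)

end Groth.Agent.S17018
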