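import Groth.Statements.S13746
import Groth.Agent.H10ZMT.Basic
import Groth.Agent.S17018
import Mathlib.RingTheory.Polynomial.ScaleRoots
import Mathlib.RingTheory.Flat.TorsionFree

set_option autoImplicit false
set_option linter.style.haveILetI false
universe u
open CategoryTheory CategoryTheory.Limits AlgebraicGeometry TopologicalSpace
open SemiFact

namespace Groth.Agent.S13746

theorem bijective_app_of_pullback_iso {X Y P : Scheme.{u}} (π : Y ⟶ X) (j : P ⟶ X) [IsOpenImmersion j]
    {Q : Scheme.{u}} (j' : Q ⟶ Y) (π' : Q ⟶ P) (h : IsPullback j' π' π j) [IsIso π'] (W : X.Opens)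
    (hW : W ≤ j.opensRange) : Function.Bijective (π.app W) := by
  have hle : Set.range W.ι ⊆ Set.range j := by rw [Scheme.Opens.range_ι]; exact hW
  let k := IsOpenImmersion.lift j W.ι hle
  have hk : k ≫ j = W.ι := IsOpenImmersion.lift_fac j W.ι hle
  have h2 : IsPullback (π ⁻¹ᵁ W).ι (π ∣_ W) π (k ≫ j) := hk.symm ▸ (isPullback_morphismRestrict π W).flip
  let l : (π ⁻¹ᵁ W).toScheme ⟶ Q := h.lift (π ⁻¹ᵁ W).ι ((π ∣_ W) ≫ k) (by rw [Category.assoc]; exact h2.w)
  have h3 : IsPullback l (π ∣_ W) π' k :=
    IsPullback.of_right (by rwa [h.lift_fst]) (h.lift_snd _ _ _) h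
  haveI : IsIso (π ∣_ W) := MorphismProperty.of_isPullback (P := MorphismProperty.isomorphisms Scheme) h3 ‹IsIso π'›
  have : IsIso ((π ∣_ W).appTop) := inferInstanceAs (IsIso (Scheme.Γ.map (π ∣_ W).op))
  rw [morphismRestrict_appTop] at this
  haveI : IsIso (π.app (W.ι ''ᵁ ⊤)) := @IsIso.of_isIso_comp_right _ _ _ _ _ (π.app (W.ι ''ᵁ ⊤))
    (Y.presheaf.map (eqToHom (image_morphismRestrict_preimage π W ⊤)).op) inferInstance this
  have key : ∀ W', W.ι ''ᵁ ⊤ = W' → IsIso (π.app W') := by rintro _ rfl; assumption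
  haveI := key W W.ι_image_top
  exact ConcreteCategory.bijective_of_isIso _

variable {R : Type u} [CommRing R]

/-- The value of an element of the base ring on an open set. -/
noncomputable def el {X : Scheme.{u}} (f : X ⟶ Spec (CommRingCat.of R)) (U : X.Opens) : R →+* Γ(X, U) :=
  (X.presheaf.map (homOfLE (le_top : U ≤ ⊤)).op).hom.comp (Coh.toGlobal f)

theorem el_res {X : Scheme.{u}} (f : X ⟶ Spec (CommRingCat.of R)) {U V : X.Opens} (h : V ≤ U) (r : R) :
    X.presheaf.map (homOfLE h).op (el f U r) = el f V r := by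
  show X.presheaf.map _ (X.presheaf.map _ (Coh.toGlobal f r)) = X.presheaf.map _ (Coh.toGlobal f r)
  rw [← ConcreteCategory.comp_apply, ← Functor.map_comp]
  rfl

theorem el_app {X Y : Scheme.{u}} (π : Y ⟶ X) (f : X ⟶ Spec (CommRingCat.of R)) (g : Y ⟶ Spec (CommRingCat.of R))
    (w : π ≫ f = g) (U : X.Opens) (r : R) : π.app U (el f U r) = el g (π ⁻¹ᵁ U) r := by
  subst w
  exact ConcreteCategory.congr_hom (π.naturality (homOfLE (le_top : U ≤ ⊤)).op) (Coh.toGlobal f r)

/-- Multiplication by a nonzero element of a domain is injective on a flat scheme. -/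
theorem eq_zero_of_el_mul [IsDomain R] {X : Scheme.{u}} (f : X ⟶ Spec (CommRingCat.of R)) [Flat f]
    {r : R} (hr : r ≠ 0) (U : X.Opens) (y : Γ(X, U)) (h : el f U r * y = 0) : y = 0 := by
  refine X.IsSheaf.section_ext fun x hxU => ?_
  obtain ⟨W, hW, hxW, hWU⟩ := exists_isAffineOpen_mem_and_subset hxU
  refine ⟨W, hWU, hxW, ?_⟩
  have h1 : (el f W).Flat := by
    have := (Flat.flat_appLE f (isAffineOpen_top (Spec (CommRingCat.of R))) hW le_top)
    exact (RingHom.Flat.of_bijective (ConcreteCategory.bijective_of_isIso (Scheme.ΓSpecIso (CommRingCat.of R)).inv)).comp this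
  letI := (el f W).toAlgebra
  haveI : Module.Flat R Γ(X, W) := h1
  have h2 := Module.Flat.isSMulRegular_of_nonZeroDivisors (M := Γ(X, W)) (mem_nonZeroDivisors_of_ne_zero hr)
  rw [map_zero]
  refine h2 (show r • X.presheaf.map (homOfLE hWU).op y = r • (0 : Γ(X, W)) from ?_)
  rw [smul_zero, Algebra.smul_def]
  show el f W r * _ = 0
  rw [← el_res f hWU]
  exact ((X.presheaf.map (homOfLE hWU).op).hom.map_mul _ _).symm.trans ((congrArg _ h).trans (X.presheaf.map (homOfLE hWU).op).hom.map_zero)

/-- Let R be a discrete valuation ring with fraction field K, let X and Y be schemes flat over Spec R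
and let π : Y → X be a proper morphism over Spec R whose base change along Spec K → Spec R is an
isomorphism. If the fibre of X over the closed point of Spec R is reduced, then the canonical map
O_X → π_* O_Y is an isomorphism: for every open V ⊆ X the ring map O_X(V) → O_Y(π⁻¹ V) is bijective. -/
theorem result
    (R : Type u) [CommRing R] [IsDomain R] [IsDiscreteValuationRing R]
    (X Y : Over (Spec (CommRingCat.of R))) [Flat X.hom] [Flat Y.hom]
    (π : Y ⟶ X) [IsProper π.left]
    (hgen : IsIso ((Neron.genericFibre R).map π))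
    [IsReduced (X.hom.fiber (IsLocalRing.closedPoint R))] :
    ∀ V : X.left.Opens, IsIso (π.left.app V) := by
  refine H10ZMT.isIso_app_of_affine π.left fun V hV => ?_
  obtain ⟨t, ht⟩ := IsDiscreteValuationRing.exists_irreducible R
  have ht0 : t ≠ 0 := ht.ne_zero
  have hw : π.left ≫ X.hom = Y.hom := Over.w π
  let φ := (π.left.app V).hom
  let a₀ := el X.hom V t
  have ha₀ : φ a₀ = el Y.hom (π.left ⁻¹ᵁ V) t := el_app π.left X.hom Y.hom hw V t
  -- off the closed fibre
  haveI : IsLocalization.Away t (FractionRing R) := by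
    refine IsLocalization.iff_of_le_of_exists_dvd (Submonoid.powers t) (nonZeroDivisors R)
      (Submonoid.powers_le.2 (mem_nonZeroDivisors_of_ne_zero ht0)) (fun n hn => ?_) |>.2 inferInstance
    obtain ⟨k, hk⟩ := IsDiscreteValuationRing.associated_pow_irreducible (nonZeroDivisors.ne_zero hn) ht
    exact ⟨t ^ k, ⟨k, rfl⟩, hk.dvd⟩
  haveI : IsOpenImmersion (Neron.genPt R) := IsOpenImmersion.of_isLocalization t
  let j := pullback.fst X.hom (Neron.genPt R)
  let j' := pullback.fst Y.hom (Neron.genPt R)
  let π' := ((Neron.genericFibre R).map π).left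
  haveI : IsIso π' := inferInstanceAs (IsIso ((Over.forget _).map ((Neron.genericFibre R).map π)))
  have hsq : IsPullback j' π' π.left j := by
    refine IsPullback.of_bot ?_ ?_ (IsPullback.of_hasPullback X.hom (Neron.genPt R))
    · rw [show π' ≫ pullback.snd X.hom (Neron.genPt R) = pullback.snd Y.hom (Neron.genPt R) from
        Over.w ((Neron.genericFibre R).map π), hw]
      exact IsPullback.of_hasPullback Y.hom (Neron.genPt R)
    · exact (pullback.lift_fst _ _ _).symm
  have hrange : ∀ x : X.left, x ∈ X.left.basicOpen (Coh.toGlobal X.hom t) ↔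
      t ∉ (show PrimeSpectrum R from X.hom x).asIdeal := by
    intro x
    have h : X.hom ⁻¹ᵁ ((Spec (CommRingCat.of R)).basicOpen ((Scheme.ΓSpecIso (CommRingCat.of R)).inv t)) =
        X.left.basicOpen (Coh.toGlobal X.hom t) := Scheme.preimage_basicOpen X.hom _
    rw [← h, basicOpen_eq_of_affine]
    rfl
  have hbij : Function.Bijective (π.left.app (X.left.basicOpen a₀)) := by
    refine bijective_app_of_pullback_iso π.left j j' π' hsq _ fun x hx => ?_
    rw [show a₀ = X.left.presheaf.map (homOfLE (le_top : V ≤ ⊤)).op (Coh.toGlobal X.hom t) from rfl,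
      Scheme.basicOpen_res] at hx
    have h1 := (hrange x).1 hx.2
    show x ∈ Set.range j
    rw [Scheme.Pullback.range_fst]
    have : Set.range (Neron.genPt R) = (PrimeSpectrum.basicOpen t : Set (PrimeSpectrum R)) :=
      PrimeSpectrum.localization_away_comap_range (FractionRing R) t
    rw [Set.mem_preimage, this]
    exact h1
  haveI := hV.isLocalization_basicOpen a₀
  -- restriction to the generic part is injective upstairs
  have hres : ∀ y : Γ(Y.left, π.left ⁻¹ᵁ V),
      Y.left.presheaf.map ((Opens.map π.left.base).map (homOfLE (X.left.basicOpen_le a₀))).op y = 0 → y = 0 := by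
    intro y hy
    refine Y.left.IsSheaf.section_ext fun x hxU => ?_
    obtain ⟨W, hW, hxW, hWU⟩ := exists_isAffineOpen_mem_and_subset hxU
    refine ⟨W, hWU, hxW, ?_⟩
    rw [map_zero]
    let bW := el Y.hom W t
    have hb : Y.left.basicOpen bW ≤ π.left ⁻¹ᵁ X.left.basicOpen a₀ := by
      rw [Scheme.preimage_basicOpen, show π.left.app V a₀ = el Y.hom (π.left ⁻¹ᵁ V) t from ha₀,
        show bW = Y.left.presheaf.map (homOfLE hWU).op (el Y.hom (π.left ⁻¹ᵁ V) t) from (el_res Y.hom hWU t).symm,
        Scheme.basicOpen_res]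
      exact inf_le_right
    have h0 : Y.left.presheaf.map (homOfLE (Y.left.basicOpen_le bW)).op (Y.left.presheaf.map (homOfLE hWU).op y) = 0 := by
      have := congrArg (Y.left.presheaf.map (homOfLE hb).op) hy
      rw [map_zero, ← ConcreteCategory.comp_apply, ← Functor.map_comp] at this
      rw [← ConcreteCategory.comp_apply, ← Functor.map_comp]
      exact this
    haveI := hW.isLocalization_basicOpen bW
    obtain ⟨⟨_, k, rfl⟩, hk⟩ := (IsLocalization.map_eq_zero_iff (Submonoid.powers bW) Γ(Y.left, Y.left.basicOpen bW) _).1 h0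
    refine eq_zero_of_el_mul Y.hom (pow_ne_zero k ht0) W _ ?_
    rw [map_pow]
    exact hk
  have hinj : Function.Injective φ := by
    refine (injective_iff_map_eq_zero φ).2 fun a ha => ?_
    have h1 : π.left.app (X.left.basicOpen a₀) (X.left.presheaf.map (homOfLE (X.left.basicOpen_le a₀)).op a) = 0 :=
      (ConcreteCategory.congr_hom (π.left.naturality (homOfLE (X.left.basicOpen_le a₀)).op) a).trans
        ((congrArg _ ha).trans (RingHom.map_zero _))
    obtain ⟨⟨_, k, rfl⟩, hk⟩ := (IsLocalization.map_eq_zero_iff (Submonoid.powers a₀) Γ(X.left, X.left.basicOpen a₀) a).1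
      (hbij.1 (h1.trans (map_zero _).symm))
    refine eq_zero_of_el_mul X.hom (pow_ne_zero k ht0) V _ ?_
    rw [map_pow]
    exact hk
  -- elements upstairs become downstairs after multiplying by a power of the uniformizer
  have hgenB : ∀ b : Γ(Y.left, π.left ⁻¹ᵁ V), ∃ m a, φ a = φ a₀ ^ m * b := by
    intro b
    obtain ⟨z, hz⟩ := hbij.2 (Y.left.presheaf.map ((Opens.map π.left.base).map (homOfLE (X.left.basicOpen_le a₀))).op b)
    obtain ⟨⟨a, ⟨_, m, rfl⟩⟩, ha⟩ := IsLocalization.surj (Submonoid.powers a₀) z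
    refine ⟨m, a, sub_eq_zero.1 (hres _ ?_)⟩
    have hn : ∀ c, Y.left.presheaf.map ((Opens.map π.left.base).map (homOfLE (X.left.basicOpen_le a₀))).op (φ c) =
        π.left.app (X.left.basicOpen a₀) (X.left.presheaf.map (homOfLE (X.left.basicOpen_le a₀)).op c) := fun c =>
      (ConcreteCategory.congr_hom (π.left.naturality (homOfLE (X.left.basicOpen_le a₀)).op) c).symm
    rw [map_sub, map_mul, ← map_pow, hn, hn, sub_eq_zero, ← hz, ← map_mul, mul_comm]
    exact congrArg _ ha.symm
  -- reducedness of the closed fibre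
  have hred : ∀ (a : Γ(X.left, V)) (n : ℕ), a ^ n ∈ Ideal.span {a₀} → a ∈ Ideal.span {a₀} := by
    intro a n han
    refine Ideal.mem_of_localization_maximal fun p hp => ?_
    let y : PrimeSpectrum Γ(X.left, V) := ⟨p, hp.isPrime⟩
    have hxV : hV.fromSpec y ∈ V := hV.range_fromSpec.le (Set.mem_range_self y)
    letI := TopCat.Presheaf.algebra_section_stalk X.left.presheaf ⟨hV.fromSpec y, hxV⟩
    haveI : IsLocalization.AtPrime (X.left.presheaf.stalk (hV.fromSpec y)) y.asIdeal :=
      hV.isLocalization_stalk' y hxV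
    suffices h : X.left.presheaf.germ V (hV.fromSpec y) hxV a ∈
        (Ideal.span {a₀}).map (X.left.presheaf.germ V (hV.fromSpec y) hxV).hom by
      rw [IsLocalization.algebraMap_mem_map_algebraMap_iff p.primeCompl]
      exact (IsLocalization.algebraMap_mem_map_algebraMap_iff y.asIdeal.primeCompl
        (X.left.presheaf.stalk (hV.fromSpec y)) _ _).1 h
    rw [Ideal.map_span, Set.image_singleton]
    set x := hV.fromSpec y
    have hg : X.left.presheaf.germ V x hxV a₀ = X.left.presheaf.germ ⊤ x trivial (Coh.toGlobal X.hom t) :=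
      X.left.presheaf.germ_res_apply _ _ _ _
    have han' : (X.left.presheaf.germ V x hxV a) ^ n ∈ Ideal.span {X.left.presheaf.germ V x hxV a₀} := by
      have := Ideal.mem_map_of_mem (X.left.presheaf.germ V x hxV).hom han
      rw [Ideal.map_span, Set.image_singleton, map_pow] at this
      exact this
    by_cases hx : (X.hom x : Spec (CommRingCat.of R)) = IsLocalRing.closedPoint R
    · haveI : AlgebraicGeometry.IsReduced (X.hom.fiber (X.hom x)) := by rw [hx]; infer_instance
      let J := (IsLocalRing.maximalIdeal ((Spec (CommRingCat.of R)).presheaf.stalk (X.hom x))).map (X.hom.stalkMap x).hom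
      have hJ : J.IsRadical := (Ideal.isRadical_iff_quotient_reduced J).2
        (isReduced_of_injective _ (H8Props.FibreStalk.asFiberStalkEquiv X.hom x).injective)
      have hJ' : J = Ideal.span {X.left.presheaf.germ V x hxV a₀} := by
        show Ideal.map _ _ = _
        rw [S17018.map_maximalIdeal_le (X.hom x) hx, ht.maximalIdeal_eq, Ideal.map_map, Ideal.map_span,
          Set.image_singleton, hg]
        exact congrArg (fun z => Ideal.span {z})
          (Scheme.Hom.germ_stalkMap_apply X.hom ⊤ x trivial ((Scheme.ΓSpecIso (CommRingCat.of R)).inv t))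
      rw [← hJ'] at han' ⊢
      exact hJ ⟨n, han'⟩
    · have hu : IsUnit (X.left.presheaf.germ V x hxV a₀) := by
        rw [hg]
        refine (X.left.mem_basicOpen (U := ⊤) _ x trivial).1 ((hrange x).2 fun h => hx ?_)
        refine PrimeSpectrum.ext (((IsLocalRing.maximalIdeal.isMaximal R).eq_of_le ?_ ?_).symm)
        · exact (show PrimeSpectrum R from X.hom x).2.ne_top
        · rw [ht.maximalIdeal_eq, Ideal.span_singleton_le_iff_mem]; exact h
      rw [Ideal.span_singleton_eq_top.2 hu]
      trivial
  -- integrality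
  have hint : φ.IsIntegral := by
    haveI : IsAffine V.toScheme := hV
    have h := isIntegral_appTop_of_universallyClosed (π.left ∣_ V)
    rw [morphismRestrict_appTop] at h
    have key : ∀ W', V.ι ''ᵁ ⊤ = W' → (π.left.app W').hom.IsIntegral := by
      rintro _ rfl
      intro b
      obtain ⟨q, hq, hq0⟩ := h ((Y.left.presheaf.map (eqToHom (image_morphismRestrict_preimage π.left V ⊤)).op) b)
      refine ⟨q, hq, (ConcreteCategory.bijective_of_isIso
        (Y.left.presheaf.map (eqToHom (image_morphismRestrict_preimage π.left V ⊤)).op)).1 ?_⟩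
      exact ((Polynomial.hom_eval₂ _ _ _ _).trans hq0).trans (RingHom.map_zero _).symm
    exact key V V.ι_image_top
  refine ⟨hinj, fun b => ?_⟩
  obtain ⟨m, a, ha⟩ := hgenB b
  induction m generalizing a with
  | zero => exact ⟨a, by rw [pow_zero, one_mul] at ha; exact ha⟩
  | succ m ih =>
    obtain ⟨q, hq, hq0⟩ := hint b
    have h1 : (q.scaleRoots (a₀ ^ (m + 1))).eval a = 0 := by
      apply hinj
      rw [map_zero, ← Polynomial.eval₂_at_apply, ha, ← map_pow]
      exact Polynomial.scaleRoots_eval₂_eq_zero φ hq0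
    have h2 : a ^ q.natDegree ∈ Ideal.span {a₀} := by
      rw [← Ideal.Quotient.eq_zero_iff_mem, map_pow]
      have h3 := congrArg (Ideal.Quotient.mk (Ideal.span {a₀})) h1
      rw [map_zero, ← Polynomial.eval_map_apply] at h3
      rcases subsingleton_or_nontrivial (Γ(X.left, V) ⧸ Ideal.span {a₀}) with hs | hs
      · exact Subsingleton.elim _ _
      rw [Polynomial.map_scaleRoots _ _ _ (by rw [hq.leadingCoeff, map_one]; exact one_ne_zero), map_pow,
        (Ideal.Quotient.eq_zero_iff_mem.2 (Ideal.mem_span_singleton_self a₀)), zero_pow (Nat.succ_ne_zero m),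
        Polynomial.scaleRoots_zero, (hq.map _).leadingCoeff, one_smul, hq.natDegree_map, Polynomial.eval_pow,
        Polynomial.eval_X] at h3
      exact h3
    obtain ⟨a₁, rfl⟩ := Ideal.mem_span_singleton'.1 (hred a _ h2)
    refine ih a₁ ?_
    refine sub_eq_zero.1 (eq_zero_of_el_mul Y.hom ht0 _ _ ?_)
    rw [← ha₀, mul_sub, sub_eq_zero, ← mul_assoc, ← pow_succ', ← ha, map_mul, mul_comm]

end Groth.Agent.S13746
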