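import Groth.Statements.S13749
import Groth.Agent.H13NeronDesc.Basic
-- import your own Groth.Agent.* helpers here

set_option autoImplicit false
set_option backward.isDefEq.respectTransparency false
universe u
open CategoryTheory AlgebraicGeometry
open Neron

open CategoryTheory CategoryTheory.Limits AlgebraicGeometry

namespace Groth.Agent.S13749

/-- Let S be a locally Noetherian scheme, U ⊆ S a schematically dense open subscheme, N → S a smooth
separated morphism of finite type and g : S' → S a flat surjective morphism, and put U' = g⁻¹(U).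
Suppose the base change N ×_S S' → S' has the Néron mapping property with respect to U': for every
smooth S'-scheme Y', sending an S'-morphism Y' → N ×_S S' to its restriction over U' is a bijection
onto the U'-morphisms Y' ×_{S'} U' → (N ×_S S') ×_{S'} U'. Then N → S has the Néron mapping property
with respect to U: for every smooth S-scheme Y, restriction to U is a bijection from S-morphisms Y →
N onto U-morphisms Y ×_S U → N ×_S U. (The published statement is for an arbitrary base S and open
U, with N an algebraic space which is a model of an abelian scheme over U, tested against smooth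
schemes; this row takes N a scheme, drops the abelian-scheme hypothesis, and assumes S locally
Noetherian with U schematically dense, the setting in which schematic closures of U-sections commute
with flat base change and fill S'.) -/
theorem result
    {S S' : Scheme.{u}} [IsLocallyNoetherian S] (g : S' ⟶ S) [Flat g] [Surjective g]
    (U : S.Opens) (hU : CInt.IsSchematicallyDense U)
    (N : Over S) [Smooth N.hom] [IsSeparated N.hom] [QuasiCompact N.hom]
    (hN' : ∀ Y' : Over S', Smooth Y'.hom →
      Function.Bijective (fun f : Y' ⟶ (Over.pullback g).obj N => (Over.pullback (g ⁻¹ᵁ U).ι).map f))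
    (Y : Over S) [Smooth Y.hom] :
    Function.Bijective (fun f : Y ⟶ N => (Over.pullback U.ι).map f) := by
  haveI : IsLocallyNoetherian Y.left := LocallyOfFiniteType.isLocallyNoetherian Y.hom
  let O := Y.hom ⁻¹ᵁ U
  let e := pullbackRestrictIsoRestrict Y.hom U
  constructor
  · intro f f' hff'
    refine Over.OverMorphism.ext (Groth.Agent.H13NeronDesc.ext_on hU Y.hom (𝟙 _) N.hom
      ((Over.w f).trans (Over.w f').symm) ?_)
    have h1 : pullback.fst Y.hom U.ι ≫ f.left = pullback.fst Y.hom U.ι ≫ f'.left := by
      have := congrArg (fun m => m.left ≫ pullback.fst N.hom U.ι) hff'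
      simpa using this
    have h2 : O.ι = e.inv ≫ pullback.fst Y.hom U.ι := (pullbackRestrictIsoRestrict_inv_fst Y.hom U).symm
    show O.ι ≫ f.left = O.ι ≫ f'.left
    rw [h2, Category.assoc, Category.assoc, h1]
  · intro k
    let U' := g ⁻¹ᵁ U
    let Y' := (Over.pullback g).obj Y
    haveI : Smooth Y'.hom := inferInstanceAs (Smooth (pullback.snd Y.hom g))
    let α : pullback Y'.hom U'.ι ⟶ pullback Y.hom U.ι :=
      pullback.lift (pullback.fst _ _ ≫ pullback.fst Y.hom g) (pullback.snd _ _ ≫ g ∣_ U) (by
        rw [Category.assoc, Category.assoc, morphismRestrict_ι, ← Category.assoc (pullback.snd _ _),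
          ← pullback.condition, Category.assoc, pullback.condition]
        rfl)
    have hkw : k.left ≫ pullback.snd N.hom U.ι = pullback.snd Y.hom U.ι := Over.w k
    let k' : (Over.pullback U'.ι).obj Y' ⟶ (Over.pullback U'.ι).obj ((Over.pullback g).obj N) :=
      Over.homMk (pullback.lift
        (pullback.lift (α ≫ k.left ≫ pullback.fst N.hom U.ι) (pullback.fst Y'.hom U'.ι ≫ Y'.hom) (by
          rw [Category.assoc, Category.assoc, pullback.condition, reassoc_of% hkw, ← pullback.condition]
          simp only [α, pullback.lift_fst_assoc, Category.assoc]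
          rw [pullback.condition]
          rfl))
        (pullback.snd _ _) (by
          show pullback.lift _ _ _ ≫ pullback.snd N.hom g = _
          rw [pullback.lift_snd]
          exact pullback.condition))
        (pullback.lift_snd _ _ _)
    obtain ⟨f', hf'⟩ := (hN' Y' inferInstance).2 k'
    let p : Y'.left ⟶ Y.left := pullback.fst Y.hom g
    haveI : Flat p := inferInstanceAs (Flat (pullback.fst Y.hom g))
    haveI : Surjective p := inferInstanceAs (Surjective (pullback.fst Y.hom g))
    let φ : Y'.left ⟶ N.left := f'.left ≫ pullback.fst N.hom g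
    have hφ : φ ≫ N.hom = p ≫ Y.hom := by
      have hw : f'.left ≫ pullback.snd N.hom g = pullback.snd Y.hom g := Over.w f'
      show (f'.left ≫ pullback.fst N.hom g) ≫ N.hom = pullback.fst Y.hom g ≫ Y.hom
      rw [Category.assoc, pullback.condition, reassoc_of% hw, pullback.condition]
    let h : O.toScheme ⟶ N.left := e.inv ≫ k.left ≫ pullback.fst N.hom U.ι
    have hh : h ≫ N.hom = O.ι ≫ Y.hom := by
      simp only [h, Category.assoc]
      rw [pullback.condition, reassoc_of% hkw, ← pullback.condition]
      exact pullbackRestrictIsoRestrict_inv_fst_assoc Y.hom U Y.hom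
    have hsub : Set.range ((p ⁻¹ᵁ O).ι ≫ Y'.hom) ⊆ Set.range U'.ι := by
      rintro _ ⟨t, rfl⟩
      rw [Scheme.Opens.range_ι]
      show g (((p ⁻¹ᵁ O).ι ≫ pullback.snd Y.hom g) t) ∈ U
      rw [← Scheme.Hom.comp_apply, Category.assoc, ← pullback.condition]
      exact t.2
    let β : (p ⁻¹ᵁ O).toScheme ⟶ pullback Y'.hom U'.ι :=
      pullback.lift (p ⁻¹ᵁ O).ι (IsOpenImmersion.lift U'.ι _ hsub) (IsOpenImmersion.lift_fac _ _ _).symm
    have hφh : (p ⁻¹ᵁ O).ι ≫ φ = (p ∣_ O) ≫ h := by
      have h1 : pullback.fst Y'.hom U'.ι ≫ φ = α ≫ k.left ≫ pullback.fst N.hom U.ι := by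
        have := congrArg (fun m => m.left ≫ pullback.fst _ _ ≫ pullback.fst N.hom g) hf'
        simp [k', φ] at this
        refine this.trans ?_
        erw [pullback.lift_fst_assoc, pullback.lift_fst]
      have h2 : β ≫ α = (p ∣_ O) ≫ e.inv := by
        rw [← cancel_mono (pullback.fst Y.hom U.ι), Category.assoc, Category.assoc,
          pullbackRestrictIsoRestrict_inv_fst, morphismRestrict_ι]
        simp only [α, β, pullback.lift_fst, pullback.lift_fst_assoc]
        rfl
      conv_lhs => rw [show (p ⁻¹ᵁ O).ι = β ≫ pullback.fst Y'.hom U'.ι from (pullback.lift_fst _ _ _).symm]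
      rw [Category.assoc, h1, reassoc_of% h2]
    obtain ⟨f, hfS, hfh⟩ := Groth.Agent.H13NeronDesc.exists_extension hU Y.hom N.hom p φ hφ h hh hφh
    refine ⟨Over.homMk f hfS, Over.OverMorphism.ext ?_⟩
    rw [← cancel_epi e.inv]
    apply pullback.hom_ext
    · have : O.ι ≫ f = e.inv ≫ k.left ≫ pullback.fst N.hom U.ι := hfh
      rw [← pullbackRestrictIsoRestrict_inv_fst Y.hom U, Category.assoc] at this
      have := (cancel_epi e.inv).1 this
      simpa using this
    · have := hkw
      simp only [Category.assoc]
      rw [this]
      simp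

end Groth.Agent.S13749
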