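import Groth.Statements.S13750
import Groth.Agent.H13NeronLoc.Mapping
-- import your own Groth.Agent.* helpers here

set_option autoImplicit false
set_option backward.isDefEq.respectTransparency false
universe u
open CategoryTheory AlgebraicGeometry
open Neron

namespace Groth.Agent.S13750

/-- Let S be a locally Noetherian scheme, U ⊆ S an open subscheme and N → S a smooth separated morphism
of finite type having the Néron mapping property with respect to U: for every smooth S-scheme Y,
restriction to U is a bijection from S-morphisms Y → N onto U-morphisms Y ×_S U → N ×_S U. Let s be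
a point of S and S̃ = Spec O_{S,s} → S the canonical morphism. Then N ×_S S̃ → S̃ has the Néron
mapping property with respect to the preimage Ũ of U: for every smooth S̃-scheme Ỹ, restriction to Ũ
is a bijection from S̃-morphisms Ỹ → N ×_S S̃ onto Ũ-morphisms. (The published statement is for N an
algebraic space which is a Néron model of an abelian scheme over U and also covers the strict
henselisation at a geometric point; this row is the localisation case for a scheme N, with no
abelian-scheme hypothesis.) -/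
theorem result
    {S : Scheme.{u}} [IsLocallyNoetherian S] (U : S.Opens)
    (N : Over S) [Smooth N.hom] [IsSeparated N.hom] [QuasiCompact N.hom]
    (hN : ∀ Y : Over S, Smooth Y.hom →
      Function.Bijective (fun f : Y ⟶ N => (Over.pullback U.ι).map f))
    (s : S) (Y' : Over (Spec (S.presheaf.stalk s))) [Smooth Y'.hom] :
    Function.Bijective (fun f : Y' ⟶ (Over.pullback (S.fromSpecStalk s)).obj N =>
      (Over.pullback ((S.fromSpecStalk s) ⁻¹ᵁ U).ι).map f) := by
  haveI : LocallyOfFiniteType N.hom := inferInstance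
  have hfst : ∀ {T T' : Scheme.{u}} (W : T.Opens) (p : T' ⟶ T),
      (p ⁻¹ᵁ W).ι = (pullbackRestrictIsoRestrict p W).inv ≫ Limits.pullback.fst p W.ι :=
    fun W p => (pullbackRestrictIsoRestrict_inv_fst p W).symm
  have hext : ∀ {Y : Scheme.{u}} (π : Y ⟶ S), Smooth π → ∀ a b : Y ⟶ N.left, a ≫ N.hom = π → b ≫ N.hom = π →
      (π ⁻¹ᵁ U).ι ≫ a = (π ⁻¹ᵁ U).ι ≫ b → a = b := by
    intro Y π hπ a b ha hb hab
    have := (hN (Over.mk π) hπ).1 (a₁ := Over.homMk a ha) (a₂ := Over.homMk b hb) (Over.OverMorphism.ext (by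
      apply Limits.pullback.hom_ext
      · have h1 := hab
        rw [hfst, Category.assoc, Category.assoc, cancel_epi] at h1
        simpa using h1
      · simp))
    exact congrArg (fun m => m.left) this
  have hext' : ∀ {Y : Scheme.{u}} (π : Y ⟶ S), Smooth π → ∀ h : (π ⁻¹ᵁ U).toScheme ⟶ N.left,
      h ≫ N.hom = (π ⁻¹ᵁ U).ι ≫ π → ∃ f : Y ⟶ N.left, f ≫ N.hom = π ∧ (π ⁻¹ᵁ U).ι ≫ f = h := by
    intro Y π hπ h hh
    let e := pullbackRestrictIsoRestrict π U
    obtain ⟨f, hf⟩ := (hN (Over.mk π) hπ).2 (Over.homMk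
      (Limits.pullback.lift (e.hom ≫ h) (Limits.pullback.snd π U.ι) (by
        rw [Category.assoc, hh, pullbackRestrictIsoRestrict_hom_ι_assoc]
        exact Limits.pullback.condition))
      (Limits.pullback.lift_snd _ _ _))
    refine ⟨f.left, Over.w f, ?_⟩
    have h1 := congrArg (fun m => m.left ≫ Limits.pullback.fst N.hom U.ι) hf
    simp at h1
    rw [hfst, Category.assoc]
    erw [h1]
    rw [Iso.inv_hom_id_assoc]
  let g := S.fromSpecStalk s
  let π := Y'.hom ≫ g
  let e := pullbackRestrictIsoRestrict Y'.hom (g ⁻¹ᵁ U)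
  have hkey : ∀ f : Y' ⟶ (Over.pullback g).obj N,
      (π ⁻¹ᵁ U).ι ≫ f.left ≫ Limits.pullback.fst N.hom g =
        e.inv ≫ ((Over.pullback (g ⁻¹ᵁ U).ι).map f).left ≫
          Limits.pullback.fst _ (g ⁻¹ᵁ U).ι ≫ Limits.pullback.fst N.hom g := by
    intro f
    show (Y'.hom ⁻¹ᵁ (g ⁻¹ᵁ U)).ι ≫ _ = _
    rw [hfst, Category.assoc]
    congr 1
    simp
  have hw : ∀ f : Y' ⟶ (Over.pullback g).obj N, (f.left ≫ Limits.pullback.fst N.hom g) ≫ N.hom = π := by
    intro f
    rw [Category.assoc, Limits.pullback.condition, ← Category.assoc]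
    exact congrArg (· ≫ g) (Over.w f)
  constructor
  · intro f f' hff'
    refine Over.OverMorphism.ext (Limits.pullback.hom_ext ?_ ((Over.w f).trans (Over.w f').symm))
    refine Groth.Agent.H13NeronLoc.ext s U N.hom hext Y'.hom π rfl _ _ (hw f) (hw f') ?_
    rw [hkey, hkey]
    exact congrArg (fun m => e.inv ≫ m.left ≫ Limits.pullback.fst _ (g ⁻¹ᵁ U).ι ≫ Limits.pullback.fst N.hom g) hff'
  · intro k
    have hkw : k.left ≫ Limits.pullback.snd _ (g ⁻¹ᵁ U).ι = Limits.pullback.snd Y'.hom (g ⁻¹ᵁ U).ι := Over.w k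
    let h : (π ⁻¹ᵁ U).toScheme ⟶ N.left :=
      e.inv ≫ k.left ≫ Limits.pullback.fst _ (g ⁻¹ᵁ U).ι ≫ Limits.pullback.fst N.hom g
    have hh : h ≫ N.hom = (π ⁻¹ᵁ U).ι ≫ π := by
      have h2 : Limits.pullback.fst ((Over.pullback g).obj N).hom (g ⁻¹ᵁ U).ι ≫ Limits.pullback.snd N.hom g =
          Limits.pullback.snd _ (g ⁻¹ᵁ U).ι ≫ (g ⁻¹ᵁ U).ι := Limits.pullback.condition
      simp only [h, Category.assoc]
      rw [Limits.pullback.condition, reassoc_of% h2, reassoc_of% hkw, ← Limits.pullback.condition_assoc]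
      exact pullbackRestrictIsoRestrict_inv_fst_assoc _ _ _
    obtain ⟨f, hf, hfh⟩ := Groth.Agent.H13NeronLoc.exists_ext s U N.hom hext hext' Y'.hom π rfl h hh
    let F : Y' ⟶ (Over.pullback g).obj N := Over.homMk (Limits.pullback.lift f Y'.hom hf) (Limits.pullback.lift_snd _ _ _)
    refine ⟨F, Over.OverMorphism.ext (Limits.pullback.hom_ext (Limits.pullback.hom_ext ?_ ?_) ?_)⟩
    · have h1 := hkey F
      rw [show F.left ≫ Limits.pullback.fst N.hom g = f from Limits.pullback.lift_fst _ _ _, hfh] at h1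
      simp only [h, cancel_epi] at h1
      simp only [Category.assoc]
      exact h1.symm
    · simp only [Category.assoc]
      have h2 : Limits.pullback.fst ((Over.pullback g).obj N).hom (g ⁻¹ᵁ U).ι ≫ Limits.pullback.snd N.hom g =
          Limits.pullback.snd _ (g ⁻¹ᵁ U).ι ≫ (g ⁻¹ᵁ U).ι := Limits.pullback.condition
      erw [h2, reassoc_of% hkw]
      exact (reassoc_of% (Over.w ((Over.pullback (g ⁻¹ᵁ U).ι).map F))) (g ⁻¹ᵁ U).ι
    · exact (Over.w ((Over.pullback (g ⁻¹ᵁ U).ι).map F)).trans hkw.symm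

end Groth.Agent.S13750
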