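import Groth.Statements.S13751
import Groth.Agent.H28AbExt.Main
import Groth.Agent.H28Neron.Mapping
import Groth.Agent.H28Neron.LocalGlobal

set_option autoImplicit false
set_option linter.style.haveILetI false
set_option backward.isDefEq.respectTransparency false
set_option backward.isDefEq.respectTransparency.types false
universe u
open Groth.Agent
open CategoryTheory CategoryTheory.Limits AlgebraicGeometry MonObj
open Neron

namespace Groth.Agent.S13751

/-- Let S be a locally Noetherian scheme all of whose local rings are regular, let U ⊆ S be a dense open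
subscheme and let A → S be an abelian scheme: a proper smooth group scheme over S whose geometric
fibres are connected. Then A is a Néron model of its restriction A ×_S U over S, in the sense that
for every smooth S-scheme Y the restriction map from S-morphisms Y → A to U-morphisms Y ×_S U → A
×_S U is a bijection. (The published statement is for an abelian algebraic space over a regular base
and does not ask U to be dense; for U empty and A of positive relative dimension the identity and
the zero map of A both restrict to the empty morphism, so uniqueness fails, and the published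
uniqueness argument uses density — this row takes A a scheme and U dense.) -/
theorem result
    {S : Scheme.{u}} [IsLocallyNoetherian S] (hreg : ∀ s : S, IsRegularLocalRing (S.presheaf.stalk s))
    (U : S.Opens) (hU : Dense (U : Set S))
    (A : Over S) [GrpObj A] [IsProper A.hom] [Smooth A.hom]
    (hconn : ∀ (L : Type u) [Field L] (t : Spec (CommRingCat.of L) ⟶ S), ConnectedSpace ↑(pullback A.hom t))
    (Y : Over S) [Smooth Y.hom] :
    Function.Bijective (fun f : Y ⟶ A => (Over.pullback U.ι).map f) := by
  haveI : GeometricallyConnected A.hom :=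
    ⟨fun K _ y Z fst snd h => by
      haveI := hconn K y
      exact h.isoPullback.hom.homeomorph.symm.surjective.connectedSpace h.isoPullback.hom.homeomorph.symm.continuous⟩
  haveI : IsLocallyNoetherian Y.left := LocallyOfFiniteType.isLocallyNoetherian Y.hom
  have hY : ∀ y : Y.left, IsRegularLocalRing (Y.left.presheaf.stalk y) := fun y =>
    H28Neron.isRegularLocalRing_stalk_of_smooth' hreg Y.hom y
  haveI : IsReduced Y.left := by
    haveI : ∀ x : Y.left, IsDomain (Y.left.presheaf.stalk x) := fun x => by
      haveI := hY x
      exact H4Depth.isDomain_of_isRegularLocalRing _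
    haveI : ∀ x : Y.left, _root_.IsReduced (Y.left.presheaf.stalk x) := fun x => inferInstance
    exact isReduced_of_isReduced_stalk Y.left
  have hd : Dense ((Y.hom ⁻¹ᵁ U : Y.left.Opens) : Set Y.left) := hU.preimage Y.hom.isOpenMap
  let e := (isPullback_morphismRestrict Y.hom U).flip.isoPullback
  have he : e.hom ≫ pullback.fst Y.hom U.ι = (Y.hom ⁻¹ᵁ U).ι :=
    (isPullback_morphismRestrict Y.hom U).flip.isoPullback_hom_fst
  refine ⟨H28Neron.injective_iff.2 fun g g' h => Over.OverMorphism.ext ?_, H28Neron.surjective_iff.2 fun h hh => ?_⟩
  · haveI : IsDominant (Y.hom ⁻¹ᵁ U).ι := ⟨by rw [DenseRange, Scheme.Opens.range_ι]; exact hd⟩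
    refine ext_of_isDominant_of_isSeparated A.hom (by rw [Over.w g, Over.w g']) (Y.hom ⁻¹ᵁ U).ι ?_
    rw [← he, Category.assoc, Category.assoc, h]
  · have hp := (H28AbExt.noP1_abScheme A).of_isPullback (IsPullback.of_hasPullback A.hom Y.hom)
    obtain ⟨g₀, hg₀, hUg⟩ := H28AbExt.exists_extension hY (pullback.snd A.hom Y.hom) hp (Y.hom ⁻¹ᵁ U) hd
      (pullback.lift (e.hom ≫ h) (Y.hom ⁻¹ᵁ U).ι (by rw [Category.assoc, hh, reassoc_of% he]))
      (pullback.lift_snd _ _ _)
    refine ⟨Over.homMk (g₀ ≫ pullback.fst A.hom Y.hom)
      (by rw [Category.assoc, pullback.condition, reassoc_of% hg₀]), ?_⟩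
    rw [← cancel_epi e.hom, reassoc_of% he]
    show (Y.hom ⁻¹ᵁ U).ι ≫ g₀ ≫ pullback.fst A.hom Y.hom = _
    rw [reassoc_of% hUg, pullback.lift_fst]

end Groth.Agent.S13751
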