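import Groth.Statements.S13760
import Groth.Agent.H25Graph.Cartier

set_option autoImplicit false
universe u
open LabGraph

namespace Groth.Agent.S13760

/-- Let G be a finite connected multigraph with vertex set V, edge set E, endpoint map E → V × V and
positive integer edge labels l, let G̃ be its total blow-up graph (every edge e replaced by a path
of l(e) edges through l(e) − 1 new vertices, all labelled 1), and let ε : H → H̃ be the map from the
cokernel of the multidegree operator on Cartier vertex labellings of G to the cokernel of the
multidegree operator on vertex labellings of G̃ induced by extension by zero. Then ε is surjective —
every vertex labelling β of G̃ can be corrected by the multidegree of a vertex labelling of G̃ so as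
to vanish at all new vertices — if and only if G is circuit-coprime (the labels along every circuit
have greatest common divisor 1). (The published statement is 'ε is an isomorphism if and only if the
labelled graph is circuit-coprime'; injectivity of ε holds for every labelled graph, so the content
is the equivalence for surjectivity, stated here with the cokernels unpacked.) -/
theorem result
    {V E : Type u} [Fintype V] [Fintype E] [DecidableEq V] [DecidableEq E]
    (ends : E → V × V) (l : E → ℕ) (hl : ∀ e, 0 < l e) (hconn : LabGraph.Connected ends) :
    (∀ β : LabGraph.BlVert V E l → ℤ, ∃ (ψ : LabGraph.BlVert V E l → ℤ) (α : V → ℤ),
        ∀ w : LabGraph.BlVert V E l,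
          LabGraph.mdeg (LabGraph.blEnds ends l) (fun _ => 1) ψ w + β w = Sum.elim α (fun _ => (0 : ℤ)) w) ↔
      LabGraph.IsCircuitCoprime ends l := by
  exact Groth.Agent.H25Graph.blowup_surjective_iff ends hl

end Groth.Agent.S13760
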