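-- statement FlatMor.GrothFrozen.S1377 (Groth/Statements/S1377.lean; the theorem FlatMor.integral_surjective_extends_from_open);
import Groth.Statements.S1377
import Mathlib.AlgebraicGeometry.Normalization
import Mathlib.AlgebraicGeometry.Morphisms.ClosedImmersion
import Mathlib.AlgebraicGeometry.Morphisms.Integral
import Mathlib.AlgebraicGeometry.Limits
import Mathlib.AlgebraicGeometry.IdealSheaf.Subscheme

set_option autoImplicit false
set_option backward.isDefEq.respectTransparency false
universe u
open FlatMor

namespace Groth.Agent.S1377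

open AlgebraicGeometry CategoryTheory Limits in
/-- Let S be a scheme, U ⊆ S an open subscheme whose inclusion U → S is quasi-compact (U retrocompact in
S), and V → U a surjective integral morphism. Then there are a scheme V' and a surjective integral
morphism V' → S whose base change to U is V → U. (The published statement puts no condition on U,
and in that generality it is false: e.g. S = Spec ∏_i ℤ/4^i with U = D(2) ∪ ⋃_i D(e_i), e_i the
idempotents, and V equal to U except that over D(2) it is cut out by x = (2^i)_i. Stated here with U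
→ S quasi-compact, under which hypothesis the published argument applies.) -/
theorem result {S V : Scheme.{u}} (U : S.Opens) [QuasiCompact U.ι]
    (v : V ⟶ (U : Scheme.{u})) [IsIntegralHom v] [Surjective v] :
    ∃ (V' : Scheme.{u}) (π : V' ⟶ S) (i : V ⟶ V'), Surjective π ∧ IsIntegralHom π ∧ IsPullback i v π U.ι := by
  let h : V ⟶ S := v ≫ U.ι
  have hV : IsPullback (𝟙 V) v h U.ι := by
    simpa [h] using (IsPullback.of_horiz_isIso (fst := 𝟙 V) (snd := v) (f := v) (g := 𝟙 _)
      ⟨by simp⟩).paste_vert (IsKernelPair.id_of_mono U.ι)
  let e := hV.isoPullback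
  have : IsIntegralHom (pullback.snd h U.ι) := by
    rw [← MorphismProperty.cancel_left_of_respectsIso @IsIntegralHom e.hom, hV.isoPullback_hom_snd]
    infer_instance
  have hN : IsPullback h.toNormalization v h.fromNormalization U.ι := by
    let k : pullback h U.ι ⟶ pullback h.fromNormalization U.ι :=
      (pullback.snd h U.ι).toNormalization ≫ h.normalizationPullback U.ι
    have : IsIso k := inferInstanceAs (IsIso (_ ≫ _))
    refine IsPullback.of_iso_pullback ⟨by rw [h.toNormalization_fromNormalization]⟩
      (e ≪≫ asIso k) ?_ ?_
    · simp [e, k]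
    · simp [e, k]
  let C : TopologicalSpace.Closeds S := ⟨(U : Set S)ᶜ, U.2.isClosed_compl⟩
  let I := Scheme.IdealSheafData.vanishingIdeal C
  have hI : Set.range I.subschemeι = (U : Set S)ᶜ := by
    rw [Scheme.IdealSheafData.range_subschemeι, Scheme.IdealSheafData.coe_support_vanishingIdeal]; rfl
  let π := coprod.desc h.fromNormalization I.subschemeι
  let i : V ⟶ h.normalization ⨿ I.subscheme := h.toNormalization ≫ coprod.inl
  have : IsOpenImmersion h.toNormalization :=
    MorphismProperty.of_isPullback (P := @IsOpenImmersion) hN.flip inferInstance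
  refine ⟨_, π, i, ⟨fun s ↦ ?_⟩, inferInstanceAs (IsIntegralHom (coprod.desc _ _)), ?_⟩
  · by_cases hs : s ∈ U
    · obtain ⟨w, hw⟩ := Surjective.surj (f := v) ⟨s, hs⟩
      refine ⟨i w, ?_⟩
      have : (i ≫ π) w = s := by
        simp only [i, π, Category.assoc, coprod.inl_desc, h.toNormalization_fromNormalization]
        exact congrArg Subtype.val hw
      exact this
    · obtain ⟨z, hz⟩ := (hI ▸ hs : s ∈ Set.range I.subschemeι)
      exact ⟨(coprod.inr : _ ⟶ h.normalization ⨿ I.subscheme) z,
        (show (coprod.inr ≫ π) z = s by simpa [π] using hz)⟩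
  · refine (IsOpenImmersion.isPullback v i U.ι π (by simp [i, π, h]) ?_).flip
    ext x
    simp only [Scheme.Opens.opensRange_ι]
    obtain ⟨n, rfl⟩ | ⟨z, rfl⟩ := (isCompl_range_inl_inr h.normalization I.subscheme).codisjoint.eq_top.ge
      (Set.mem_univ x)
    · change (coprod.inl ≫ π) n ∈ U ↔ _ ∈ Set.range i
      simp only [π, coprod.inl_desc]
      constructor
      · intro hn
        obtain ⟨w, hw, -⟩ := Scheme.Pullback.exists_preimage_pullback (f := h.fromNormalization)
          (g := U.ι) n ⟨_, hn⟩ rfl
        refine ⟨hN.isoPullback.inv w, ?_⟩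
        change ((hN.isoPullback.inv ≫ h.toNormalization) ≫ coprod.inl) w = _
        rw [hN.isoPullback_inv_fst]
        exact congrArg _ hw
      · rintro ⟨w, hw⟩
        have hn : h.toNormalization w = n :=
          (coprod.inl : _ ⟶ h.normalization ⨿ I.subscheme).isOpenEmbedding.injective hw
        rw [← hn]
        change (h.toNormalization ≫ h.fromNormalization) w ∈ U
        rw [h.toNormalization_fromNormalization]
        exact (v w).2
    · change (coprod.inr ≫ π) z ∈ U ↔ _ ∈ Set.range i
      simp only [π, coprod.inr_desc]
      refine iff_of_false (fun hz ↦ (hI.le ⟨z, rfl⟩) hz) ?_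
      rintro ⟨w, hw⟩
      exact Set.disjoint_iff_forall_ne.mp (isCompl_range_inl_inr h.normalization I.subscheme).disjoint
        ⟨h.toNormalization w, rfl⟩ ⟨z, rfl⟩ hw

end Groth.Agent.S1377
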