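import Groth.Statements.S13771


set_option autoImplicit false
universe u v w
open PLie

namespace Groth.Agent.S13771

/-- Let R be a commutative ring of prime characteristic p, L₁ and L₂ Lie algebras over R, φ a p-mapping
on L₁ and f : L₁ → L₂ a morphism of Lie algebras whose kernel is stable under φ (a p-ideal). Then
the image f(L₁), a Lie subalgebra of L₂, carries exactly one p-mapping ψ for which the corestriction
of f to its image is a morphism of p-Lie algebras, i.e. ψ (f x) = f (φ x) for all x. -/
theorem result (R : Type u) [CommRing R] (p : ℕ) [Fact p.Prime] [CharP R p]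
    (L₁ : Type v) [LieRing L₁] [LieAlgebra R L₁] (L₂ : Type w) [LieRing L₂] [LieAlgebra R L₂]
    (φ : PLie.PMap R p L₁) (f : L₁ →ₗ⁅R⁆ L₂) (hker : ∀ x : L₁, f x = 0 → f (φ x) = 0) :
    ∃! ψ : PLie.PMap R p f.range, PLie.IsPHom φ ψ f.rangeRestrict := by
  classical
  have hword : ∀ (a b : L₁) (w : List Bool),
      f (bracketWord (pair a b) b w) = bracketWord (pair (f a) (f b)) (f b) w := by
    intro a b w
    induction w with
    | nil => rfl
    | cons i w ih => rw [bracketWord_cons, bracketWord_cons, LieHom.map_lie, ih]; cases i <;> rfl
  have hword0 : ∀ (a : L₂) (w : List Bool), bracketWord (pair a 0) (0 : L₂) w = 0 := by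
    intro a w
    induction w with
    | nil => rfl
    | cons i w ih => rw [bracketWord_cons, ih, lie_zero]
  have hjac : ∀ a b : L₁, f (jacobson R p a b) = jacobson R p (f a) (f b) := fun a b => by
    simp only [jacobson, map_sum, map_smul, hword]
  have hwd : ∀ a b : L₁, f a = f b → f (φ a) = f (φ b) := by
    intro a b hab
    have hz : f (a - b) = 0 := by rw [map_sub, hab, sub_self]
    have h := congrArg f (φ.map_add b (a - b))
    rw [add_sub_cancel, map_sub, map_add, hker _ hz, add_zero, hjac, hz] at h
    rw [h]
    simp [jacobson, hword0]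
  have hs : ∀ z : f.range, ∃ a, f.rangeRestrict a = z := LieHom.surjective_rangeRestrict f
  choose σ hσ using hs
  have hval : ∀ a, f (φ (σ (f.rangeRestrict a))) = f (φ a) := fun a =>
    hwd _ _ (congrArg Subtype.val (hσ (f.rangeRestrict a)))
  have hrr : ∀ a, ((f.rangeRestrict a : f.range) : L₂) = f a := fun a => rfl
  let ψ : PMap R p f.range :=
    { toFun := fun z => f.rangeRestrict (φ (σ z))
      map_smul := fun c z => by
        obtain ⟨a, rfl⟩ := LieHom.surjective_rangeRestrict f z
        rw [← map_smul]
        refine Subtype.ext ?_
        rw [hrr, SetLike.val_smul, hrr, hval, hval, φ.map_smul, map_smul]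
      ad_map := fun z => by
        obtain ⟨a, rfl⟩ := LieHom.surjective_rangeRestrict f z
        refine LinearMap.ext fun w => ?_
        obtain ⟨b, rfl⟩ := LieHom.surjective_rangeRestrict f w
        have hpow : ∀ n : ℕ, f.rangeRestrict ((LieAlgebra.ad R L₁ a ^ n) b) =
            (LieAlgebra.ad R f.range (f.rangeRestrict a) ^ n) (f.rangeRestrict b) := by
          intro n
          induction n with
          | zero => rfl
          | succ n ih => rw [pow_succ', pow_succ', Module.End.mul_apply, Module.End.mul_apply, ← ih,
              LieAlgebra.ad_apply, LieAlgebra.ad_apply, LieHom.map_lie]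
        rw [← hpow, ← φ.ad_map, LieAlgebra.ad_apply, LieAlgebra.ad_apply, LieHom.map_lie,
          show f.rangeRestrict (φ (σ (f.rangeRestrict a))) = f.rangeRestrict (φ a) from Subtype.ext (hval a)]
      map_add := fun z w => by
        obtain ⟨a, rfl⟩ := LieHom.surjective_rangeRestrict f z
        obtain ⟨b, rfl⟩ := LieHom.surjective_rangeRestrict f w
        rw [← map_add]
        have hj : f.rangeRestrict (jacobson R p a b) = jacobson R p (f.rangeRestrict a) (f.rangeRestrict b) := by
          have hw : ∀ w : List Bool, f.rangeRestrict (bracketWord (pair a b) b w) =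
              bracketWord (pair (f.rangeRestrict a) (f.rangeRestrict b)) (f.rangeRestrict b) w := by
            intro w
            induction w with
            | nil => rfl
            | cons i w ih => rw [bracketWord_cons, bracketWord_cons, LieHom.map_lie, ih]; cases i <;> rfl
          simp only [jacobson, map_sum, map_smul, hw]
        have he : ∀ c, f.rangeRestrict (φ (σ (f.rangeRestrict c))) = f.rangeRestrict (φ c) :=
          fun c => Subtype.ext (hval c)
        rw [he, he, he, φ.map_add, map_sub, map_add, hj] }
  refine ⟨ψ, fun a => (Subtype.ext (hval a)).symm, fun ψ' h' => ?_⟩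
  obtain ⟨g, h1, h2, h3⟩ := ψ'
  have : g = ψ.toFun := funext fun z => by
    obtain ⟨a, rfl⟩ := LieHom.surjective_rangeRestrict f z
    exact (h' a).symm.trans (Subtype.ext (hval a)).symm
  subst this
  rfl

end Groth.Agent.S13771
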