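import Groth.Statements.S13772


set_option autoImplicit false
universe u v
open PLie

namespace Groth.Agent.S13772

/-- Let R be a commutative ring of prime characteristic p and L a Lie algebra over R with a p-mapping γ.
For a map g : L → L, there is a p-mapping γ' on L with γ' x = γ x + g x for every x if and only if g
is additive, g (c • x) = c ^ p • g x for all scalars c, and every value g x lies in the centre of L.
(Both parts of the published statement at once: the difference of two p-mappings is a
Frobenius-semilinear map into the centre, and adding such a map to a p-mapping gives a p-mapping.) -/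
theorem result (R : Type u) [CommRing R] (p : ℕ) [Fact p.Prime] [CharP R p]
    (L : Type v) [LieRing L] [LieAlgebra R L] (γ : PLie.PMap R p L) (g : L → L) :
    (∃ γ' : PLie.PMap R p L, ∀ x : L, γ' x = γ x + g x) ↔
      ((∀ x y : L, g (x + y) = g x + g y) ∧ (∀ (c : R) (x : L), g (c • x) = c ^ p • g x) ∧
        ∀ x : L, g x ∈ LieAlgebra.center R L) := by
  constructor
  · rintro ⟨γ', h⟩
    refine ⟨fun x y => ?_, fun c x => ?_, fun x => ?_⟩
    · have h1 := γ'.map_add x y
      rw [h, h, h, γ.map_add] at h1
      calc g (x + y) = (γ x + γ y - jacobson R p x y + g (x + y)) - (γ x + γ y - jacobson R p x y) := by abel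
        _ = g x + g y := by rw [h1]; abel
    · have h1 := γ'.map_smul c x
      rw [h, h, γ.map_smul, smul_add] at h1
      exact add_left_cancel h1
    · rw [LieModule.mem_maxTrivSubmodule]
      intro y
      have h1 := LinearMap.congr_fun ((γ'.ad_map x).trans (γ.ad_map x).symm) y
      rw [LieAlgebra.ad_apply, LieAlgebra.ad_apply, h, add_lie, add_eq_left] at h1
      rw [← lie_skew, h1, neg_zero]
  · rintro ⟨h1, h2, h3⟩
    refine ⟨⟨fun x => γ x + g x, fun c x => by rw [γ.map_smul, h2, smul_add], fun x => ?_, fun x y => ?_⟩,
      fun x => rfl⟩
    · refine LinearMap.ext fun y => ?_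
      have h4 := LinearMap.congr_fun (γ.ad_map x) y
      rw [LieAlgebra.ad_apply, add_lie, ← h4, LieAlgebra.ad_apply, add_eq_left, ← lie_skew,
        (LieModule.mem_maxTrivSubmodule R L L _).mp (h3 x) y, neg_zero]
    · rw [γ.map_add, h1]; abel

end Groth.Agent.S13772
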