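import Groth.Statements.S13775


set_option autoImplicit false
universe u v
open PLie

namespace Groth.Agent.S13775

/-- Let R be a commutative ring of prime characteristic p and L a Lie algebra over R, free as a module
with basis x = bs 0, y = bs 1, z = bs 2 and brackets [x,y] = y, [x,z] = y + z, [y,z] = 0. Then L
carries no p-mapping. (The published statement is the corresponding entry of the classification
table of three-dimensional Lie algebras over an algebraically closed field of characteristic p; this
row states it over every commutative ring of characteristic p.) -/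
theorem result (R : Type u) [CommRing R] (p : ℕ) [Fact p.Prime] [CharP R p]
    (L : Type v) [LieRing L] [LieAlgebra R L] (bs : Module.Basis (Fin 3) R L)
    (hxy : ⁅bs 0, bs 1⁆ = bs 1) (hxz : ⁅bs 0, bs 2⁆ = bs 1 + bs 2) (hyz : ⁅bs 1, bs 2⁆ = 0) :
    IsEmpty (PLie.PMap R p L) := by
  refine ⟨fun φ => ?_⟩
  have h1 := LinearMap.congr_fun (φ.ad_map (bs 0))
  have hy : ∀ n : ℕ, (LieAlgebra.ad R L (bs 0) ^ n) (bs 1) = bs 1 ∧
      (LieAlgebra.ad R L (bs 0) ^ n) (bs 2) = (n : R) • bs 1 + bs 2 := by
    intro n
    induction n with
    | zero => simp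
    | succ n ih =>
      rw [pow_succ', Module.End.mul_apply, Module.End.mul_apply, ih.1, ih.2, map_add, map_smul]
      simp only [LieAlgebra.ad_apply, hxy, hxz, Nat.cast_succ, add_smul, one_smul]
      exact ⟨trivial, by abel⟩
  have ha := h1 (bs 1)
  have hb := h1 (bs 2)
  rw [(hy p).1] at ha
  rw [(hy p).2, CharP.cast_eq_zero, zero_smul, zero_add] at hb
  rw [LieAlgebra.ad_apply, ← bs.sum_repr (φ (bs 0))] at ha hb
  simp only [Fin.sum_univ_three, add_lie, smul_lie, hxy, hxz, hyz, lie_self, smul_zero, add_zero,
    ← lie_skew (bs 2) (bs 1), neg_zero] at ha hb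
  have hA := congrArg (fun z => bs.repr z 1) ha
  have hB := congrArg (fun z => bs.repr z 1) hb
  simp at hA hB
  haveI := CharP.nontrivial_of_char_ne_one (R := R) (Fact.out : p.Prime).ne_one
  exact one_ne_zero (hA.symm.trans hB)

end Groth.Agent.S13775
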