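import Groth.Statements.S13776
import Groth.Agent.H20PLie.Dim3
import Mathlib.Algebra.CharP.Lemmas

set_option autoImplicit false
universe u v
open PLie

namespace Groth.Agent.S13776

/-- Let R be a commutative ring of prime characteristic p, t ∈ R, and L a Lie algebra over R, free as a
module with basis x = bs 0, y = bs 1, z = bs 2 and brackets [x,y] = y, [x,z] = t • z, [y,z] = 0.
Then L carries a p-mapping if and only if t ^ p = t. (The published statement is the corresponding
entry of the classification table over an algebraically closed field of characteristic p, where the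
condition reads: t lies in the prime field; this row states it over every commutative ring of
characteristic p.) -/
theorem result (R : Type u) [CommRing R] (p : ℕ) [Fact p.Prime] [CharP R p] (t : R)
    (L : Type v) [LieRing L] [LieAlgebra R L] (bs : Module.Basis (Fin 3) R L)
    (hxy : ⁅bs 0, bs 1⁆ = bs 1) (hxz : ⁅bs 0, bs 2⁆ = t • bs 2) (hyz : ⁅bs 1, bs 2⁆ = 0) :
    Nonempty (PLie.PMap R p L) ↔ t ^ p = t := by
  have hb : ∀ a b c a' b' c', ⁅H20PLie.vec bs a b c, H20PLie.vec bs a' b' c'⁆ =
      H20PLie.vec bs 0 (a * b' - b * a') ((a * c' - c * a') * t) := by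
    intro a b c a' b' c'
    rw [H20PLie.lie_vec bs (P0 := 0) (P1 := 1) (P2 := 0) (Q0 := 0) (Q1 := 0) (Q2 := t) (S0 := 0) (S1 := 0) (S2 := 0)
      (by rw [hxy]; simp [H20PLie.vec]) (by rw [hxz]; simp [H20PLie.vec]) (by rw [hyz]; simp [H20PLie.vec])]
    congr 1 <;> ring
  obtain ⟨h0, h1, h2⟩ := H20PLie.basis_eq_vec bs
  have hX : ∀ n a b c, (LieAlgebra.ad R L (bs 0) ^ (n + 1)) (H20PLie.vec bs a b c) = H20PLie.vec bs 0 b (t ^ (n + 1) * c) := by
    intro n a b c
    induction n with
    | zero =>
      rw [pow_one, LieAlgebra.ad_apply, h0, hb]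
      congr 1 <;> ring
    | succ n ih =>
      rw [pow_succ', Module.End.mul_apply, ih, LieAlgebra.ad_apply, h0, hb]
      congr 1 <;> ring
  rw [H20PLie.nonempty_pmap_iff bs]
  constructor
  · intro h
    obtain ⟨y, hy⟩ := h 0
    obtain ⟨α, β, γ, rfl⟩ := H20PLie.exists_vec bs y
    have ey := LinearMap.congr_fun hy (H20PLie.vec bs 0 1 0)
    have ez := LinearMap.congr_fun hy (H20PLie.vec bs 0 0 1)
    rw [← Nat.sub_add_cancel (Fact.out : p.Prime).pos, hX, LieAlgebra.ad_apply, hb, H20PLie.vec_inj] at ey ez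
    rw [Nat.sub_add_cancel (Fact.out : p.Prime).pos] at ez
    linear_combination ez.2.2 - t * ey.2.1
  · intro ht i
    have hp2 : p = p - 2 + 2 := by have := (Fact.out : p.Prime).two_le; omega
    fin_cases i
    · refine ⟨bs 0, H20PLie.ext_vec bs fun a b c => ?_⟩
      show (LieAlgebra.ad R L (bs 0) ^ p) _ = _
      rw [← Nat.sub_add_cancel (Fact.out : p.Prime).pos, hX, LieAlgebra.ad_apply, h0, hb,
        Nat.sub_add_cancel (Fact.out : p.Prime).pos, ht]
      congr 1 <;> ring
    · refine ⟨0, H20PLie.ext_vec bs fun a b c => ?_⟩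
      show (LieAlgebra.ad R L (bs 1) ^ p) _ = _
      rw [hp2, pow_add, Module.End.mul_apply, pow_two, Module.End.mul_apply, LieAlgebra.ad_apply, LieAlgebra.ad_apply,
        h1, hb, hb]
      simp [H20PLie.vec]
    · refine ⟨0, H20PLie.ext_vec bs fun a b c => ?_⟩
      show (LieAlgebra.ad R L (bs 2) ^ p) _ = _
      rw [hp2, pow_add, Module.End.mul_apply, pow_two, Module.End.mul_apply, LieAlgebra.ad_apply, LieAlgebra.ad_apply,
        h2, hb, hb]
      simp [H20PLie.vec]

end Groth.Agent.S13776
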