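import Groth.Statements.S13778
import Groth.Agent.H20PLie.Deform

set_option autoImplicit false
universe u v
open PLie

namespace Groth.Agent.S13778

open DualNumber in
/-- Let K be a field of prime characteristic p, K[ε] the ring of dual numbers (taken with its
characteristic-p structure), t ∈ K with t ^ p = t (an element of the prime field), and a, …, i ∈ K.
Let L be a Lie algebra over K[ε], free as a module with basis x = bs 0, y = bs 1, z = bs 2 and
brackets [x,y] = aε x + (1 + bε) y + cε z, [x,z] = dε x + eε y + (t + fε) z, [y,z] = gε x + hε y +
iε z. Then L carries a p-mapping over K[ε] if and only if b t = f, c = e = 0 when t = 1, and g = 0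
when p = 2. (The published statement determines the singular locus of the restrictable locus in the
centreless stratum of the moduli scheme of based three-dimensional Lie algebras, for t non-zero, and
the rank-one-centre stratum treats t = 0; this row states the restrictability criterion for the
first-order deformations of l_t that the proofs compute, over any field of characteristic p in place
of the prime field and for every t in the prime field.) -/
theorem result (K : Type u) [Field K] (p : ℕ) [Fact p.Prime] [CharP K p]
    [CharP (DualNumber K) p] (t a b c d e f g h i : K) (ht : t ^ p = t)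
    (L : Type v) [LieRing L] [LieAlgebra (DualNumber K) L] (bs : Module.Basis (Fin 3) (DualNumber K) L)
    (hxy : ⁅bs 0, bs 1⁆ = (a • ε : DualNumber K) • bs 0 + (1 + b • ε : DualNumber K) • bs 1 + (c • ε : DualNumber K) • bs 2)
    (hxz : ⁅bs 0, bs 2⁆ = (d • ε : DualNumber K) • bs 0 + (e • ε : DualNumber K) • bs 1 +
      (algebraMap K (DualNumber K) t + f • ε) • bs 2)
    (hyz : ⁅bs 1, bs 2⁆ = (g • ε : DualNumber K) • bs 0 + (h • ε : DualNumber K) • bs 1 + (i • ε : DualNumber K) • bs 2) :
    Nonempty (PLie.PMap (DualNumber K) p L) ↔ (b * t = f ∧ (t = 1 → c = 0 ∧ e = 0) ∧ (p = 2 → g = 0)) := by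
  exact H20PLie.l3_deformation bs t a b c d e f g h i ht hxy hxz hyz

end Groth.Agent.S13778
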