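import Groth.Statements.S13779
import Groth.Agent.H20PLie.Dim3

set_option autoImplicit false
universe u v
open PLie

namespace Groth.Agent.S13779

/-- Let p be an odd prime, R a commutative ring of characteristic p, t ∈ R, and L a Lie algebra over R,
free as a module with basis x = bs 0, y = bs 1, z = bs 2 and brackets [x,y] = z, [x,z] = t • y,
[y,z] = 0. Then L carries a p-mapping φ with φ x = t ^ ((p - 1) / 2) • x, φ y = 0 and φ z = 0. (The
published statement concerns the Lie algebra with these brackets over a field of Laurent series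
k((t)), k algebraically closed of odd characteristic, t the variable; this row states its
restrictability over every commutative ring of odd prime characteristic and every t.) -/
theorem result (R : Type u) [CommRing R] (p : ℕ) [Fact p.Prime] [CharP R p] (hp : p ≠ 2)
    (t : R) (L : Type v) [LieRing L] [LieAlgebra R L] (bs : Module.Basis (Fin 3) R L)
    (hxy : ⁅bs 0, bs 1⁆ = bs 2) (hxz : ⁅bs 0, bs 2⁆ = t • bs 1) (hyz : ⁅bs 1, bs 2⁆ = 0) :
    ∃ φ : PLie.PMap R p L, φ (bs 0) = t ^ ((p - 1) / 2) • bs 0 ∧ φ (bs 1) = 0 ∧ φ (bs 2) = 0 := by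
  have hb : ∀ a b c a' b' c', ⁅H20PLie.vec bs a b c, H20PLie.vec bs a' b' c'⁆ =
      H20PLie.vec bs 0 ((a * c' - c * a') * t) (a * b' - b * a') := by
    intro a b c a' b' c'
    rw [H20PLie.lie_vec bs (P0 := 0) (P1 := 0) (P2 := 1) (Q0 := 0) (Q1 := t) (Q2 := 0) (S0 := 0) (S1 := 0) (S2 := 0)
      (by rw [hxy]; simp [H20PLie.vec]) (by rw [hxz]; simp [H20PLie.vec]) (by rw [hyz]; simp [H20PLie.vec])]
    congr 1 <;> ring
  obtain ⟨h0, h1, h2⟩ := H20PLie.basis_eq_vec bs
  obtain ⟨m, hm⟩ := (Fact.out : p.Prime).odd_of_ne_two hp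
  have h3 : LieAlgebra.ad R L (bs 0) ^ 3 = t • LieAlgebra.ad R L (bs 0) := H20PLie.ext_vec bs fun a b c => by
    rw [pow_succ, pow_two, Module.End.mul_apply, Module.End.mul_apply, LinearMap.smul_apply, LieAlgebra.ad_apply,
      LieAlgebra.ad_apply, LieAlgebra.ad_apply, h0, hb, hb, hb, H20PLie.smul_vec]
    congr 1 <;> ring
  have hX : ∀ n, LieAlgebra.ad R L (bs 0) ^ (2 * n + 1) = t ^ n • LieAlgebra.ad R L (bs 0) := by
    intro n
    induction n with
    | zero => simp
    | succ n ih =>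
      rw [show 2 * (n + 1) + 1 = 2 * n + 1 + 2 by ring, pow_add, ih, smul_mul_assoc, ← pow_succ', h3, smul_smul,
        ← pow_succ]
  have hp2 : p = p - 2 + 2 := by have := (Fact.out : p.Prime).two_le; omega
  obtain ⟨φ, hφ⟩ := H20PLie.exists_pmap (p := p) bs ![t ^ ((p - 1) / 2) • bs 0, 0, 0] (fun i => by
    fin_cases i
    · show LieAlgebra.ad R L (bs 0) ^ p = LieAlgebra.ad R L (t ^ ((p - 1) / 2) • bs 0)
      rw [map_smul, hm, hX, show (2 * m + 1 - 1) / 2 = m by omega]
    · show LieAlgebra.ad R L (bs 1) ^ p = LieAlgebra.ad R L 0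
      refine H20PLie.ext_vec bs fun a b c => ?_
      rw [hp2, pow_add, Module.End.mul_apply, pow_two, Module.End.mul_apply, LieAlgebra.ad_apply, LieAlgebra.ad_apply,
        h1, hb, hb]
      simp [H20PLie.vec]
    · show LieAlgebra.ad R L (bs 2) ^ p = LieAlgebra.ad R L 0
      refine H20PLie.ext_vec bs fun a b c => ?_
      rw [hp2, pow_add, Module.End.mul_apply, pow_two, Module.End.mul_apply, LieAlgebra.ad_apply, LieAlgebra.ad_apply,
        h2, hb, hb]
      simp [H20PLie.vec])
  exact ⟨φ, hφ 0, hφ 1, hφ 2⟩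

end Groth.Agent.S13779
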