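import Groth.Statements.S13781
import Groth.Agent.H02CA.SmoothRegular
import Groth.Agent.S0560

set_option autoImplicit false
universe u
open CAlg

namespace Groth.Agent.S13781

/-- Let A be a regular local ring, s a non-zero element of A such that A/(s) is regular, and e a
positive integer invertible in A. Then A[t]/(t^e - s) is regular. (Regularity of a ring is taken
throughout as: Noetherian, with every localization at a prime ideal a regular local ring; the
hypotheses on A and on A/(s) and the conclusion on A[t]/(t^e - s) are all read this way, which for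
the local rings A and A/(s) is the usual notion once localizations of regular local rings are known
to be regular.) -/
theorem result (A : Type u) [CommRing A] [IsLocalRing A]
    [IsRegularRing A] (s : A) (hs : s ≠ 0) (hreg : IsRegularRing (A ⧸ Ideal.span {s}))
    (e : ℕ) (he : 0 < e) (heu : IsUnit (e : A)) :
    IsRegularRing (AdjoinRoot (Polynomial.X ^ e - Polynomial.C s)) := by
  classical
  haveI : IsRegularLocalRing A := IsRegularLocalRing.of_isRegularRing_of_isLocalRing A
  haveI : IsDomain A := Groth.Agent.H4Depth.isDomain_of_isRegularLocalRing A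
  set f : Polynomial A := Polynomial.X ^ e - Polynomial.C s with hfdef
  have hf : f.Monic := Polynomial.monic_X_pow_sub_C s he.ne'
  haveI : Module.Free A (AdjoinRoot f) := hf.free_adjoinRoot
  haveI : Module.Finite A (AdjoinRoot f) := hf.finite_adjoinRoot
  haveI : IsNoetherianRing (AdjoinRoot f) := IsNoetherianRing.of_finite A _
  let T : AdjoinRoot f := AdjoinRoot.root f
  have hT : T ^ e = algebraMap A (AdjoinRoot f) s := by
    have h1 := AdjoinRoot.eval₂_root f
    have h2 : T ^ e - algebraMap A (AdjoinRoot f) s = 0 := by
      rw [hfdef] at h1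
      simpa [T, AdjoinRoot.algebraMap_eq, hfdef] using h1
    exact sub_eq_zero.mp h2
  have hTnzd : T ∈ nonZeroDivisors (AdjoinRoot f) := by
    rw [mem_nonZeroDivisors_iff_right]
    intro z hz
    have h1 : s • z = 0 := by
      rw [Algebra.smul_def, ← hT, ← Nat.sub_add_cancel he, pow_succ', mul_comm T, mul_assoc,
        mul_comm T z, hz, mul_zero]
    exact (smul_eq_zero.mp h1).resolve_left hs
  obtain ⟨u, hu⟩ := heu
  let SP : StandardEtalePair A :=
    { f := f
      monic_f := hf
      g := Polynomial.X
      cond := ⟨Polynomial.C ((u⁻¹ : Aˣ) : A), 0, e - 1, by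
        rw [mul_zero, add_zero, hfdef, Polynomial.derivative_sub, Polynomial.derivative_C, sub_zero,
          Polynomial.derivative_X_pow, ← hu, mul_right_comm, ← map_mul, Units.mul_inv, map_one,
          one_mul]⟩ }
  have hsm : IsRegularRing (Localization.Away T) := by
    haveI : IsRegularRing SP.Ring := Groth.Agent.H02CA.isRegularRing_of_smooth A SP.Ring
    have h2 : IsRegularRing (Localization.Away (AdjoinRoot.mk SP.f SP.g)) :=
      IsRegularRing.of_ringEquiv SP.equivAwayAdjoinRoot.toRingEquiv
    have : AdjoinRoot.mk SP.f SP.g = T := AdjoinRoot.mk_X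
    exact this ▸ h2
  rw [isRegularRing_iff]
  intro P hP
  by_cases hTP : T ∈ P
  · let I : Ideal (AdjoinRoot f) := Ideal.span {T}
    have hIP : I ≤ P := (Ideal.span_singleton_le_iff_mem _).mpr hTP
    haveI hQ : IsRegularRing (AdjoinRoot f ⧸ I) := by
      let φ : AdjoinRoot f →ₐ[A] A ⧸ Ideal.span {s} :=
        AdjoinRoot.liftAlgHom f (Algebra.ofId A _) 0 (by
          simp [hfdef, Ideal.Quotient.eq_zero_iff_mem, he.ne', Ideal.mem_span_singleton_self])
      have hker : RingHom.ker φ.toRingHom = I := by
        apply le_antisymm
        · intro z hz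
          obtain ⟨p, rfl⟩ := AdjoinRoot.mk_surjective z
          rw [RingHom.mem_ker] at hz
          have hp0 : p.coeff 0 ∈ Ideal.span {s} := by
            rw [← Ideal.Quotient.eq_zero_iff_mem]
            have h3 : φ (AdjoinRoot.mk f p) = Polynomial.eval₂ (Algebra.ofId A (A ⧸ Ideal.span {s}) : A →+* A ⧸ Ideal.span {s}) 0 p :=
              AdjoinRoot.liftAlgHom_mk _ _ _ _ _
            have h4 : φ (AdjoinRoot.mk f p) = 0 := hz
            rw [h3, Polynomial.eval₂_at_zero] at h4
            exact h4
          obtain ⟨c, hc⟩ := Ideal.mem_span_singleton'.mp hp0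
          rw [← Polynomial.X_mul_divX_add p, map_add, map_mul, AdjoinRoot.mk_X, AdjoinRoot.mk_C]
          refine add_mem (Ideal.mul_mem_right _ _ (Ideal.mem_span_singleton_self _)) ?_
          rw [← hc, map_mul]
          refine Ideal.mul_mem_left _ _ ?_
          rw [← AdjoinRoot.algebraMap_eq, ← hT]
          exact Ideal.pow_mem_of_mem _ (Ideal.mem_span_singleton_self _) e he
        · rw [Ideal.span_singleton_le_iff_mem, RingHom.mem_ker]
          exact AdjoinRoot.liftAlgHom_root _ _ _ _
      have hsurj : Function.Surjective φ.toRingHom := by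
        intro z
        obtain ⟨a, rfl⟩ := Ideal.Quotient.mk_surjective z
        exact ⟨algebraMap A _ a, φ.commutes a⟩
      exact IsRegularRing.of_ringEquiv
        ((Ideal.quotEquivOfEq hker.symm).trans (RingHom.quotientKerEquivOfSurjective hsurj)).symm
    haveI hP' : (P.map (Ideal.Quotient.mk I)).IsPrime :=
      Ideal.map_isPrime_of_surjective Ideal.Quotient.mk_surjective (by rw [Ideal.mk_ker]; exact hIP)
    have hsub : Algebra.algebraMapSubmonoid (AdjoinRoot f ⧸ I) P.primeCompl
        = (P.map (Ideal.Quotient.mk I)).primeCompl := by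
      ext z
      obtain ⟨z, rfl⟩ := Ideal.Quotient.mk_surjective z
      have hmem : (Ideal.Quotient.mk I z ∈ P.map (Ideal.Quotient.mk I)) ↔ z ∈ P := by
        rw [← Ideal.mem_comap, Ideal.comap_map_of_surjective _ Ideal.Quotient.mk_surjective,
          ← RingHom.ker_eq_comap_bot, Ideal.mk_ker, sup_eq_left.mpr hIP]
      constructor
      · rintro ⟨w, hw, hwz⟩ hz
        apply hw
        have h1 : w - z ∈ P := hIP (Ideal.Quotient.eq.mp hwz)
        have h2 := P.add_mem h1 (hmem.mp hz)
        rwa [sub_add_cancel] at h2
      · intro hz
        exact ⟨z, fun h => hz (hmem.mpr h), rfl⟩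
    haveI hloc : IsLocalization (P.map (Ideal.Quotient.mk I)).primeCompl
        (Localization.AtPrime P ⧸ I.map (algebraMap (AdjoinRoot f) (Localization.AtPrime P))) := by
      rw [← hsub]
      infer_instance
    have h1 : IsRegularLocalRing (Localization.AtPrime P ⧸
        I.map (algebraMap (AdjoinRoot f) (Localization.AtPrime P))) :=
      IsRegularLocalRing.of_ringEquiv (IsLocalization.algEquiv (P.map (Ideal.Quotient.mk I)).primeCompl
        (Localization.AtPrime (P.map (Ideal.Quotient.mk I))) _).toRingEquiv
    rw [Ideal.map_span, Set.image_singleton] at h1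
    haveI := h1
    refine Groth.Agent.S0560.result (Localization.AtPrime P)
      (algebraMap (AdjoinRoot f) (Localization.AtPrime P) T) ?_ ?_
    · exact (IsLocalization.AtPrime.to_map_mem_maximal_iff (Localization.AtPrime P) P T).mpr hTP
    · exact IsLocalization.map_nonZeroDivisors_le P.primeCompl (Localization.AtPrime P)
        (Submonoid.mem_map_of_mem _ hTnzd)
  · have hdisj : Disjoint (Submonoid.powers T : Set (AdjoinRoot f)) P :=
      (Ideal.disjoint_powers_iff_notMem_of_isPrime _).mpr hTP
    have hQ' := IsLocalization.isPrime_of_isPrime_disjoint (Submonoid.powers T) (Localization.Away T) P hP hdisj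
    have hc := IsLocalization.under_map_of_isPrime_disjoint (Submonoid.powers T) (Localization.Away T) (I := P) hP hdisj
    haveI := hQ'
    haveI := hsm
    have h := IsRegularLocalRing.of_ringEquiv
      (IsLocalization.localizationLocalizationAtPrimeIsoLocalization (Submonoid.powers T)
        (P.map (algebraMap (AdjoinRoot f) (Localization.Away T)))).symm.toRingEquiv
    have aux : ∀ (r : Ideal (AdjoinRoot f)) [r.IsPrime], r = P → IsRegularLocalRing (Localization.AtPrime r) →
        IsRegularLocalRing (Localization.AtPrime P) := by
      intro r _ hr H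
      subst hr
      exact H
    exact aux _ hc h

end Groth.Agent.S13781
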