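import Groth.Statements.S13782
import Groth.Agent.H3CAlg.PrincipalSmooth

set_option autoImplicit false
universe u
open CAlg

namespace Groth.Agent.S13782

/-- Let k be a field, A a smooth k-algebra, s an irreducible element of A and e an integer, at least 2,
that is invertible in k. Then the k-algebra A[t]/(t^e - s) is smooth exactly when the quotient ring
A/(s) is a smooth k-algebra. (Smooth over k means formally smooth and of finite presentation over
k.) -/
theorem result (k A : Type u) [Field k] [CommRing A] [Algebra k A]
    [Algebra.Smooth k A] (s : A) (hs : Irreducible s) (e : ℕ) (he : 2 ≤ e) (hek : (e : k) ≠ 0) :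
    Algebra.Smooth k (AdjoinRoot (Polynomial.X ^ e - Polynomial.C s)) ↔
      Algebra.Smooth k (A ⧸ Ideal.span {s}) := by
  classical
  set f : Polynomial A := Polynomial.X ^ e - Polynomial.C s with hf
  have hsA : s ∈ nonZeroDivisors A :=
    Groth.Agent.H3CAlg.PrincipalSmooth.mem_nonZeroDivisors_of_irreducible k A hs
  have hmonic : f.Monic := Polynomial.monic_X_pow_sub_C s (by omega)
  have hfA : f ∈ nonZeroDivisors (Polynomial A) := by
    rw [mem_nonZeroDivisors_iff_right]
    exact fun q hq => hmonic.mul_left_eq_zero_iff.mp hq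
  have hAfp : Algebra.FinitePresentation k A := Algebra.Smooth.finitePresentation
  have hAfs : Algebra.FormallySmooth k A := Algebra.Smooth.formallySmooth
  have hPfs : Algebra.FormallySmooth k (Polynomial A) := Algebra.FormallySmooth.comp k A (Polynomial A)
  let q : Polynomial A →ₐ[A] A ⧸ Ideal.span {s} := Polynomial.aeval (0 : A ⧸ Ideal.span {s})
  have hqf : q f = 0 := by
    simp [q, hf, zero_pow (show e ≠ 0 by omega)]
  -- the two surjections
  have hkerC : RingHom.ker (algebraMap A (A ⧸ Ideal.span {s})) = Ideal.span {s} := Ideal.mk_ker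
  have hCsurj : Function.Surjective (algebraMap A (A ⧸ Ideal.span {s})) := Ideal.Quotient.mk_surjective
  let : Algebra (Polynomial A) (AdjoinRoot f) := (AdjoinRoot.mk f).toAlgebra
  have : IsScalarTower A (Polynomial A) (AdjoinRoot f) := IsScalarTower.of_algebraMap_eq fun _ => rfl
  have : IsScalarTower k (Polynomial A) (AdjoinRoot f) := IsScalarTower.of_algebraMap_eq fun _ => rfl
  have hkerB : RingHom.ker (algebraMap (Polynomial A) (AdjoinRoot f)) = Ideal.span {f} := Ideal.mk_ker
  have hBsurj : Function.Surjective (algebraMap (Polynomial A) (AdjoinRoot f)) :=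
    Ideal.Quotient.mk_surjective
  constructor
  · intro hB
    have hBfs : Algebra.FormallySmooth k (AdjoinRoot f) := Algebra.Smooth.formallySmooth
    obtain ⟨D, hD⟩ := Groth.Agent.H3CAlg.PrincipalSmooth.exists_derivation k (Polynomial A)
      (AdjoinRoot f) hBsurj f hkerB hfA
    let π : AdjoinRoot f →ₐ[A] A ⧸ Ideal.span {s} :=
      Ideal.Quotient.liftₐ (Ideal.span {f}) q (by
        intro a ha
        obtain ⟨c, rfl⟩ := Ideal.mem_span_singleton'.mp ha
        rw [map_mul, hqf, mul_zero])
    have hπ : ∀ p : Polynomial A, π (algebraMap (Polynomial A) (AdjoinRoot f) p) = q p := fun p => rfl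
    let D' : Derivation k A (A ⧸ Ideal.span {s}) :=
      Derivation.mk' ((π.toLinearMap.restrictScalars k) ∘ₗ
          (-(D : Polynomial A →ₗ[k] AdjoinRoot f)) ∘ₗ
          ((IsScalarTower.toAlgHom k A (Polynomial A)).toLinearMap)) fun a b => by
        simp only [LinearMap.comp_apply, LinearMap.neg_apply, AlgHom.toLinearMap_apply,
          IsScalarTower.coe_toAlgHom', LinearMap.restrictScalars_apply, Derivation.coeFn_coe,
          map_mul, D.leibniz, neg_add, map_add, map_neg]
        rw [IsScalarTower.algebraMap_smul, IsScalarTower.algebraMap_smul, map_smul, map_smul,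
          smul_neg, smul_neg]
    have hD' : D' s = 1 := by
      change π (-(D (Polynomial.C s))) = 1
      have h1 := congrArg π hD
      change π (D (Polynomial.X ^ e - Polynomial.C s)) = π 1 at h1
      rw [map_one, map_sub, D.leibniz_pow, map_sub, map_nsmul] at h1
      rw [map_neg, ← h1, sub_eq_add_neg, right_eq_add]
      rw [show Polynomial.X ^ (e - 1) • D Polynomial.X = algebraMap (Polynomial A) (AdjoinRoot f)
        (Polynomial.X ^ (e - 1)) * D Polynomial.X from Algebra.smul_def _ _, map_mul, hπ]
      simp [q, zero_pow (show e - 1 ≠ 0 by omega)]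
    have := Groth.Agent.H3CAlg.PrincipalSmooth.formallySmooth_of_derivation k A _ hCsurj s hkerC D' hD'
    have := Algebra.FinitePresentation.quotient (R := k) (A := A)
      (I := Ideal.span {s}) ⟨{s}, by simp⟩
    exact ⟨inferInstance, inferInstance⟩
  · intro hC
    have hCfs : Algebra.FormallySmooth k (A ⧸ Ideal.span {s}) := Algebra.Smooth.formallySmooth
    obtain ⟨D', hD'⟩ := Groth.Agent.H3CAlg.PrincipalSmooth.exists_derivation k A
      (A ⧸ Ideal.span {s}) hCsurj s hkerC hsA
    obtain ⟨L, hL⟩ := Module.projective_lifting_property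
      (Algebra.linearMap A (A ⧸ Ideal.span {s})) D'.liftKaehlerDifferential hCsurj
    obtain ⟨a, ha⟩ : ∃ a, a * s = L (KaehlerDifferential.D k A s) - 1 := by
      rw [← Ideal.mem_span_singleton', ← Ideal.Quotient.eq, map_one]
      have := LinearMap.congr_fun hL (KaehlerDifferential.D k A s)
      rw [LinearMap.comp_apply, Derivation.liftKaehlerDifferential_comp_D, hD'] at this
      exact this
    let δ : Derivation k A (AdjoinRoot f) :=
      ((Algebra.linearMap A (AdjoinRoot f)) ∘ₗ (-L)).compDer (KaehlerDifferential.D k A)
    obtain ⟨einv, heinv⟩ : ∃ c : k, (e : k) * c = 1 := ⟨(e : k)⁻¹, mul_inv_cancel₀ hek⟩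
    let φ : A →ₐ[k] TrivSqZeroExt (AdjoinRoot f) (AdjoinRoot f) :=
      AlgHom.ofLinearMap
        (((TrivSqZeroExt.inlAlgHom k (AdjoinRoot f) (AdjoinRoot f)).toLinearMap ∘ₗ
            (IsScalarTower.toAlgHom k A (AdjoinRoot f)).toLinearMap) +
          ((TrivSqZeroExt.inrHom (AdjoinRoot f) (AdjoinRoot f)).restrictScalars k) ∘ₗ
            (δ : A →ₗ[k] AdjoinRoot f))
        (by
          refine TrivSqZeroExt.ext ?_ ?_ <;> simp)
        (fun x y => by
          refine TrivSqZeroExt.ext ?_ ?_
          · simp
          · simp [δ.leibniz, Algebra.smul_def,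
              show ∀ b, algebraMap (AdjoinRoot f) (DualNumber (AdjoinRoot f)) b = TrivSqZeroExt.inl b
                from fun _ => rfl]
            ring)
    let ev : Polynomial A →+* TrivSqZeroExt (AdjoinRoot f) (AdjoinRoot f) :=
      Polynomial.eval₂RingHom φ.toRingHom
        (TrivSqZeroExt.inl (AdjoinRoot.root f) +
          TrivSqZeroExt.inr (-(algebraMap A (AdjoinRoot f) a * algebraMap k (AdjoinRoot f) einv *
            AdjoinRoot.root f)))
    have hevX : ev Polynomial.X = TrivSqZeroExt.inl (AdjoinRoot.root f) +
        TrivSqZeroExt.inr (-(algebraMap A (AdjoinRoot f) a * algebraMap k (AdjoinRoot f) einv *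
          AdjoinRoot.root f)) := Polynomial.eval₂_X _ _
    have hevC : ∀ b, ev (Polynomial.C b) = φ b := fun b => Polynomial.eval₂_C _ _
    have hfst : ∀ p, (ev p).fst = algebraMap (Polynomial A) (AdjoinRoot f) p := by
      intro p
      induction p using Polynomial.induction_on' with
      | add p q hp hq => rw [map_add, TrivSqZeroExt.fst_add, hp, hq, map_add]
      | monomial i b =>
        rw [← Polynomial.C_mul_X_pow_eq_monomial, map_mul, map_pow, TrivSqZeroExt.fst_mul,
          TrivSqZeroExt.fst_pow, hevX, hevC, map_mul, map_pow]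
        simp [φ, TrivSqZeroExt.fst_add]
        rfl
    let D : Derivation k (Polynomial A) (AdjoinRoot f) :=
      Derivation.mk'
        { toFun := fun p => (ev p).snd
          map_add' := fun p q => by simp
          map_smul' := fun c p => by
            rw [RingHom.id_apply, Algebra.smul_def, map_mul,
              IsScalarTower.algebraMap_apply k A (Polynomial A), Polynomial.algebraMap_eq, hevC,
              φ.commutes, TrivSqZeroExt.snd_mul]
            simp [TrivSqZeroExt.algebraMap_eq_inl', Algebra.smul_def] }
        fun p q => by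
          change (ev (p * q)).snd = p • (ev q).snd + q • (ev p).snd
          rw [map_mul, TrivSqZeroExt.snd_mul, hfst, hfst]
          simp [Algebra.smul_def]
          ring
    have hDX : D Polynomial.X = -(algebraMap A (AdjoinRoot f) a * algebraMap k (AdjoinRoot f) einv *
        AdjoinRoot.root f) := by
      change (ev Polynomial.X).snd = _
      rw [hevX]
      simp
    have hDC : D (Polynomial.C s) = - algebraMap A (AdjoinRoot f) (L (KaehlerDifferential.D k A s)) := by
      change (ev (Polynomial.C s)).snd = _
      rw [hevC]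
      simp [φ, δ]
    have hroot : AdjoinRoot.root f ^ e = algebraMap A (AdjoinRoot f) s := by
      have h := AdjoinRoot.mk_self (f := f)
      change AdjoinRoot.mk f (Polynomial.X ^ e - Polynomial.C s) = 0 at h
      rw [map_sub, map_pow, AdjoinRoot.mk_X, AdjoinRoot.mk_C, sub_eq_zero] at h
      exact h
    have hD : D f = 1 := by
      change D (Polynomial.X ^ e - Polynomial.C s) = 1
      rw [map_sub, D.leibniz_pow, hDX, hDC]
      have hee : (e : AdjoinRoot f) * algebraMap k (AdjoinRoot f) einv = 1 := by
        rw [← map_natCast (algebraMap k (AdjoinRoot f)), ← map_mul, heinv, map_one]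
      rw [nsmul_eq_mul, Algebra.smul_def, map_pow,
        show algebraMap (Polynomial A) (AdjoinRoot f) Polynomial.X = AdjoinRoot.root f from rfl]
      have hr : AdjoinRoot.root f ^ (e - 1) * AdjoinRoot.root f = algebraMap A (AdjoinRoot f) s := by
        rw [← pow_succ, Nat.sub_add_cancel (by omega : 1 ≤ e), hroot]
      calc (e : AdjoinRoot f) * (AdjoinRoot.root f ^ (e - 1) *
            -(algebraMap A (AdjoinRoot f) a * algebraMap k (AdjoinRoot f) einv * AdjoinRoot.root f)) -
            -algebraMap A (AdjoinRoot f) (L (KaehlerDifferential.D k A s))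
          = algebraMap A (AdjoinRoot f) (L (KaehlerDifferential.D k A s)) -
            ((e : AdjoinRoot f) * algebraMap k (AdjoinRoot f) einv) * algebraMap A (AdjoinRoot f) a *
              (AdjoinRoot.root f ^ (e - 1) * AdjoinRoot.root f) := by ring
        _ = 1 := by
            rw [hee, hr, one_mul, ← map_mul, ← map_sub, ha, sub_sub_cancel, map_one]
    have := Groth.Agent.H3CAlg.PrincipalSmooth.formallySmooth_of_derivation k (Polynomial A) _
      hBsurj f hkerB D hD
    have h1 : Algebra.FinitePresentation k (Polynomial A) :=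
      Algebra.FinitePresentation.trans k A (Polynomial A)
    have : Algebra.FinitePresentation k (AdjoinRoot f) :=
      Algebra.FinitePresentation.quotient (R := k) (A := Polynomial A)
        (I := Ideal.span {f}) ⟨{f}, by simp⟩
    exact ⟨inferInstance, inferInstance⟩

end Groth.Agent.S13782
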