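import Groth.Statements.S13783
import Groth.Agent.H29GalP1.ThreePoints

set_option autoImplicit false
universe u
open Curves

namespace Groth.Agent.S13783

/-- Let k be a field and K a finite Galois extension of k. Let S be a finite set of at most three
K-points of the projective line that is stable under the Galois group of K over k, and let b be a
Galois-equivariant bijection from S onto another set S' of K-points. Then some element of GL_2(k)
maps S onto S'. (This is the statement that two closed subschemes of the projective line over k
which are etale over k of the same degree at most 3 and have isomorphic k-algebras of functions are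
exchanged by a k-automorphism of the line, written for their sets of points over a finite Galois
extension K of k splitting both; an isomorphism of the function algebras is the same as a
Galois-equivariant bijection of these point sets.) -/
theorem result (k K : Type u) [Field k] [Field K]
    [Algebra k K] [FiniteDimensional k K] [IsGalois k K]
    (S S' : Set (Projectivization K (Fin 2 → K))) (hfin : S.Finite) (h3 : S.ncard ≤ 3)
    (hS : ∀ (σ : K ≃ₐ[k] K) (x : Projectivization K (Fin 2 → K)), x ∈ S → W4c1stackycurves.galP σ x ∈ S)
    (b : S ≃ S')
    (hb : ∀ (σ : K ≃ₐ[k] K) (x : S),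
      (b ⟨W4c1stackycurves.galP σ x.1, hS σ x.1 x.2⟩ : Projectivization K (Fin 2 → K)) =
        W4c1stackycurves.galP σ (b x).1) :
    ∃ g : Matrix.GeneralLinearGroup (Fin 2) k,
      (fun x => (Matrix.GeneralLinearGroup.toLin ((Matrix.GeneralLinearGroup.map (algebraMap k K)) g)) • x) '' S = S' := by
  classical
  let f : Projectivization K (Fin 2 → K) → Projectivization K (Fin 2 → K) := fun x => if h : x ∈ S then (b ⟨x, h⟩).1 else x
  have hf : ∀ x (h : x ∈ S), f x = (b ⟨x, h⟩).1 := fun x h => dif_pos h
  obtain ⟨G, hG, hGS⟩ := H29GalP1.exists_base (3 - S.ncard) S f hfin (by omega) hS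
    (fun x hx y hy e => by
      rw [hf x hx, hf y hy] at e
      exact congrArg Subtype.val (b.injective (Subtype.ext e)))
    (fun σ x hx => by rw [hf x hx, hf _ (hS σ x hx)]; exact hb σ ⟨x, hx⟩)
  refine ⟨Matrix.GeneralLinearGroup.mkOfDetNeZero G hG, ?_⟩
  have key : ∀ x ∈ S, (Matrix.GeneralLinearGroup.toLin
      ((Matrix.GeneralLinearGroup.map (algebraMap k K)) (Matrix.GeneralLinearGroup.mkOfDetNeZero G hG))) • x = f x := by
    intro x hx
    induction x using Projectivization.ind with
    | h v hv =>
      obtain ⟨h, e⟩ := hGS _ hx v hv rfl
      rw [← e]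
      rfl
  ext y
  constructor
  · rintro ⟨x, hx, rfl⟩
    refine (congrArg (· ∈ S') ((key x hx).trans (hf x hx))).mpr ?_
    exact (b ⟨x, hx⟩).2
  · intro hy
    obtain ⟨⟨x, hx⟩, e⟩ := b.surjective ⟨y, hy⟩
    exact ⟨x, hx, (key x hx).trans ((hf x hx).trans (congrArg Subtype.val e))⟩

end Groth.Agent.S13783
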