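import Groth.Statements.S13784
import Mathlib.NumberTheory.Padics.PadicIntegers
import Mathlib.Order.CompletePartialOrder
import Mathlib.RingTheory.Flat.FaithfullyFlat.Algebra
import Mathlib.RingTheory.HopkinsLevitzki
import Mathlib.RingTheory.Noetherian.OfPrime
import Mathlib.RingTheory.SimpleRing.Principal
import Mathlib.RingTheory.Support
import Mathlib.RingTheory.WittVector.Domain
import Mathlib.RingTheory.WittVector.Teichmuller

set_option autoImplicit false
universe u
open CAlg

namespace Groth.Agent.S13784

/-- Let A be a commutative local ring and G a finite subgroup of Aˣ. If the order of G is invertible in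
A, then G is cyclic. -/
theorem result {A : Type u} [CommRing A] [IsLocalRing A]
    (G : Subgroup Aˣ) [Finite G] (hG : IsUnit ((Nat.card G : ℕ) : A)) : IsCyclic G := by
  let f : G →* IsLocalRing.ResidueField A :=
    (IsLocalRing.residue A).toMonoidHom.comp ((Units.coeHom A).comp G.subtype)
  apply isCyclic_of_injective_ringHom f
  rw [injective_iff_map_eq_one]
  intro g hg
  set x : A := ((g : Aˣ) : A) - 1
  have hx : x ∈ IsLocalRing.maximalIdeal A := by
    rw [← IsLocalRing.residue_eq_zero_iff, map_sub, map_one]
    simpa [f, sub_eq_zero] using hg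
  have hpow : (1 + x) ^ Nat.card G = 1 := by
    have h1 := congrArg (fun z : G => ((z : Aˣ) : A)) (pow_card_eq_one' (G := G) (x := g))
    simp only [SubgroupClass.coe_pow, Units.val_pow_eq_pow_val, OneMemClass.coe_one, Units.val_one] at h1
    rw [show (1 + x) = ((g : Aˣ) : A) by simp [x]]
    exact h1
  have hgeom : x * (∑ i ∈ Finset.range (Nat.card G), (1 + x) ^ i) = 0 := by
    have := geom_sum_mul (1 + x) (Nat.card G)
    rw [hpow] at this
    rw [mul_comm]; simpa using this
  have hu : IsUnit (∑ i ∈ Finset.range (Nat.card G), (1 + x) ^ i) := by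
    rw [← IsLocalRing.residue_ne_zero_iff_isUnit] at hG ⊢
    simpa [(IsLocalRing.residue_eq_zero_iff x).mpr hx] using hG
  have : x = 0 := hu.mul_left_eq_zero.mp hgeom
  exact Subtype.ext (Units.ext (by simpa [x, sub_eq_zero] using this))

end Groth.Agent.S13784
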