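import Groth.Statements.S13785
import Mathlib.NumberTheory.Padics.PadicIntegers
import Mathlib.Order.CompletePartialOrder
import Mathlib.RingTheory.Flat.FaithfullyFlat.Algebra
import Mathlib.RingTheory.HopkinsLevitzki
import Mathlib.RingTheory.Noetherian.OfPrime
import Mathlib.RingTheory.SimpleRing.Principal
import Mathlib.RingTheory.Support
import Mathlib.RingTheory.WittVector.Domain
import Mathlib.RingTheory.WittVector.Teichmuller

set_option autoImplicit false
universe u
open CAlg

namespace Groth.Agent.S13785

/-- For any commutative ring A, the determinant of the generic n × n matrix is a nonzerodivisor of the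
polynomial ring over A in the n² matrix entries. -/
theorem result (A : Type u) [CommRing A] (n : ℕ) :
    (Matrix.mvPolynomialX (Fin n) (Fin n) A).det ∈ nonZeroDivisors (MvPolynomial (Fin n × Fin n) A) := by
  let R := MvPolynomial (Fin n × Fin n) A
  let φ : R →+* (Polynomial R) := MvPolynomial.eval₂Hom ((Polynomial.C).comp MvPolynomial.C)
    (fun ij => Polynomial.C (MvPolynomial.X ij) + if ij.1 = ij.2 then (Polynomial.X : (Polynomial R)) else 0)
  have hφ : (Polynomial.evalRingHom (0 : R)).comp φ = RingHom.id R := by
    apply MvPolynomial.ringHom_ext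
    · intro r; simp [φ, R]
    · intro ij; simp [φ, R]; split_ifs <;> simp
  set d := (Matrix.mvPolynomialX (Fin n) (Fin n) A).det
  have hd : φ d = (-(Matrix.mvPolynomialX (Fin n) (Fin n) A)).charpoly := by
    rw [Matrix.charpoly, RingHom.map_det]
    congr 1
    ext i j
    by_cases h : i = j
    · subst h; simp [φ, R, Matrix.charmatrix, Matrix.mvPolynomialX]; ring
    · simp [φ, R, Matrix.charmatrix, Matrix.mvPolynomialX, h]
  have hreg : φ d ∈ nonZeroDivisors (Polynomial R) := by
    rw [hd]; exact (Matrix.charpoly_monic _).mem_nonZeroDivisors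
  rw [mem_nonZeroDivisors_iff_right]
  intro x hx
  have : φ x = 0 := (mem_nonZeroDivisors_iff_right.mp hreg) _ (by rw [← map_mul, hx, map_zero])
  have := congrArg (Polynomial.evalRingHom (0:R)) this
  rw [← RingHom.comp_apply, hφ, map_zero] at this
  simpa using this

end Groth.Agent.S13785
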