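import Groth.Statements.S13786
import Groth.Agent.H3CAlg.GenericDet
import Groth.Agent.S15706
import Mathlib.Data.Int.ConditionallyCompleteOrder
import Mathlib.Data.Int.Star
import Mathlib.RingTheory.LocalProperties.FinitePresentation
import Mathlib.RingTheory.LocalProperties.Projective
import Mathlib.RingTheory.MvPolynomial.IrreducibleQuadratic
import Mathlib.RingTheory.PicardGroup

set_option autoImplicit false
universe u
open CAlg

namespace Groth.Agent.S13786

/-- For a commutative ring A and n ≥ 1, with det the determinant of the generic n × n matrix in the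
polynomial ring A[X] in n² indeterminates, the A-algebra A[X]/(det) is faithfully flat over A. (For
n = 0 the determinant is 1 and the quotient is the zero ring, so n ≥ 1 is required.) -/
theorem result (A : Type u) [CommRing A] (n : ℕ) (hn : 0 < n) :
    Module.FaithfullyFlat A
      (MvPolynomial (Fin n × Fin n) A ⧸ Ideal.span {(Matrix.mvPolynomialX (Fin n) (Fin n) A).det}) := by
  have := Groth.Agent.H3CAlg.free_quotient_det A (⟨0, hn⟩ : Fin n)
  let ev : MvPolynomial (Fin n × Fin n) A →ₐ[A] A := MvPolynomial.aeval fun _ => (0 : A)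
  have hev : ev (Matrix.mvPolynomialX (Fin n) (Fin n) A).det = 0 := by
    rw [AlgHom.map_det]
    have : ev.mapMatrix (Matrix.mvPolynomialX (Fin n) (Fin n) A) = 0 := by ext i j; simp [ev]
    rw [this]
    have : Nonempty (Fin n) := ⟨⟨0, hn⟩⟩
    exact Matrix.det_zero
  let q : (MvPolynomial (Fin n × Fin n) A ⧸ Ideal.span {(Matrix.mvPolynomialX (Fin n) (Fin n) A).det}) →ₐ[A] A :=
    Ideal.Quotient.liftₐ _ ev (fun a ha => by
      obtain ⟨c, rfl⟩ := Ideal.mem_span_singleton'.mp ha
      rw [map_mul, hev, mul_zero])
  refine Module.FaithfullyFlat.of_comap_surjective fun p => ⟨PrimeSpectrum.comap q.toRingHom p, ?_⟩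
  ext x
  have hx := q.commutes x
  simp only [PrimeSpectrum.comap_asIdeal, Ideal.mem_comap, AlgHom.toRingHom_eq_coe, RingHom.coe_coe, hx]
  rfl

end Groth.Agent.S13786
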