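import Groth.Statements.S13787
import Groth.Agent.H3CAlg.GenericDet
import Groth.Agent.S15706
import Mathlib.Data.Int.ConditionallyCompleteOrder
import Mathlib.Data.Int.Star
import Mathlib.RingTheory.LocalProperties.FinitePresentation
import Mathlib.RingTheory.LocalProperties.Projective
import Mathlib.RingTheory.MvPolynomial.IrreducibleQuadratic
import Mathlib.RingTheory.PicardGroup

set_option autoImplicit false
universe u
open CAlg

namespace Groth.Agent.S13787

/-- Let A be a nonzero commutative ring and n ≥ 1, let det be the determinant of the generic n × n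
matrix in the polynomial ring A[X] in its n² entries, and let A[X, 1/det] be the localization at det
(the coordinate ring of GL_n over A). The homomorphism Aˣ × ℤ → (A[X, 1/det])ˣ sending (a, e) to a ·
det^e is injective. (The published statement takes the exponent in the group of locally constant
ℤ-valued functions on Spec A, which also covers A = 0; with integer exponents as here, A must be
nonzero and n ≥ 1.) -/
theorem result (A : Type u) [CommRing A] [Nontrivial A] (n : ℕ) (hn : 0 < n) :
    Function.Injective (fun p : Aˣ × ℤ =>
        Units.map (algebraMap A (Localization.Away (Matrix.mvPolynomialX (Fin n) (Fin n) A).det)).toMonoidHom p.1 *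
          (IsLocalization.Away.algebraMap_isUnit (S := Localization.Away (Matrix.mvPolynomialX (Fin n) (Fin n) A).det)
            (Matrix.mvPolynomialX (Fin n) (Fin n) A).det).unit ^ p.2) := by
  set d := (Matrix.mvPolynomialX (Fin n) (Fin n) A).det with hdef
  let S := Localization.Away d
  change Function.Injective (fun p : Aˣ × ℤ => Units.map (algebraMap A S).toMonoidHom p.1 * (IsLocalization.Away.algebraMap_isUnit (S := S) d).unit ^ p.2)
  have hreg : d ∈ nonZeroDivisors (MvPolynomial (Fin n × Fin n) A) := by
    let z : Fin n := ⟨0, hn⟩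
    have h1 := (Matrix.charpoly_monic (-Groth.Agent.H3CAlg.gMat A z)).mem_nonZeroDivisors
    rw [← Groth.Agent.H3CAlg.gEquiv_det A z] at h1
    rw [mem_nonZeroDivisors_iff_right] at h1 ⊢
    intro x hx
    apply (Groth.Agent.H3CAlg.gEquiv A z).injective
    rw [map_zero]
    exact h1 _ (by rw [← map_mul, hx, map_zero])
  have hinj : Function.Injective (algebraMap (MvPolynomial (Fin n × Fin n) A) S) :=
    IsLocalization.injective S (Submonoid.powers_le.mpr hreg)
  set D := (IsLocalization.Away.algebraMap_isUnit (S := S) d).unit
  set ι := Units.map (algebraMap A S).toMonoidHom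
  have key : ∀ (u v : Aˣ) (k : ℕ), 0 < k → ι u * D ^ k ≠ ι v := by
    intro u v k hk h
    have h1 : algebraMap (MvPolynomial (Fin n × Fin n) A) S (MvPolynomial.C (u : A) * d ^ k) =
        algebraMap (MvPolynomial (Fin n × Fin n) A) S (MvPolynomial.C (v : A)) := by
      have := congrArg Units.val h
      simpa [ι, D, IsScalarTower.algebraMap_apply A (MvPolynomial (Fin n × Fin n) A) S] using this
    have h2 := congrArg (MvPolynomial.eval fun _ => (0 : A)) (hinj h1)
    have hev : MvPolynomial.eval (fun _ => (0 : A)) d = 0 := by
      rw [hdef, RingHom.map_det]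
      have : (MvPolynomial.eval fun _ => (0 : A)).mapMatrix (Matrix.mvPolynomialX (Fin n) (Fin n) A) = 0 := by
        ext i j; simp
      rw [this]
      have : Nonempty (Fin n) := ⟨⟨0, hn⟩⟩
      exact Matrix.det_zero
    rw [map_mul, map_pow, hev, zero_pow hk.ne', mul_zero, MvPolynomial.eval_C] at h2
    exact v.ne_zero h2.symm
  have inj0 : ∀ u v : Aˣ, ι u = ι v → u = v := by
    intro u v h
    have h1 : algebraMap (MvPolynomial (Fin n × Fin n) A) S (MvPolynomial.C (u : A)) = algebraMap (MvPolynomial (Fin n × Fin n) A) S (MvPolynomial.C (v : A)) := by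
      have := congrArg Units.val h
      simpa [ι, IsScalarTower.algebraMap_apply A (MvPolynomial (Fin n × Fin n) A) S] using this
    exact Units.ext (MvPolynomial.C_injective _ _ (hinj h1))
  rintro ⟨u, p⟩ ⟨v, q⟩ h
  change ι u * D ^ p = ι v * D ^ q at h
  rcases lt_trichotomy p q with hpq | hpq | hpq
  · obtain ⟨k, hk⟩ := Int.le.dest hpq.le
    refine absurd ?_ (key v u k (by omega))
    rw [← hk, zpow_add, zpow_natCast, ← mul_assoc, mul_comm (ι v), mul_assoc, mul_comm (ι u)] at h
    exact (mul_left_cancel h).symm
  · subst hpq
    rw [inj0 u v (mul_right_cancel h)]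
  · obtain ⟨k, hk⟩ := Int.le.dest hpq.le
    refine absurd ?_ (key u v k (by omega))
    rw [← hk, zpow_add, zpow_natCast, ← mul_assoc, mul_comm (ι u), mul_assoc, mul_comm (ι v)] at h
    exact mul_left_cancel h

end Groth.Agent.S13787
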