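import Groth.Statements.S13788
import Groth.Agent.H3CAlg.DetUnits

set_option autoImplicit false
universe u
open CAlg

namespace Groth.Agent.S13788

/-- Units of GL_n: let A be a nonzero commutative ring whose only idempotents are 0 and 1, let n ≥ 1,
let det be the determinant of the generic n × n matrix in the polynomial ring A[X] in its n²
entries, and let A[X, 1/det] be the coordinate ring of GL_n over A. The homomorphism Aˣ × ℤ → (A[X,
1/det])ˣ, (a, e) ↦ a · det^e, is bijective if and only if A is reduced. (The published statement
allows Spec A disconnected, with exponents locally constant ℤ-valued functions on Spec A; this row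
is the connected case, to which the published proof reduces.) -/
theorem result (A : Type u) [CommRing A] [Nontrivial A]
    (hconn : ∀ e : A, IsIdempotentElem e → e = 0 ∨ e = 1) (n : ℕ) (hn : 0 < n) :
    Function.Bijective (fun p : Aˣ × ℤ =>
        Units.map (algebraMap A (Localization.Away (Matrix.mvPolynomialX (Fin n) (Fin n) A).det)).toMonoidHom p.1 *
          (IsLocalization.Away.algebraMap_isUnit (S := Localization.Away (Matrix.mvPolynomialX (Fin n) (Fin n) A).det)
            (Matrix.mvPolynomialX (Fin n) (Fin n) A).det).unit ^ p.2) ↔ IsReduced A := by
  exact Groth.Agent.H3CAlg.DetUnits.bijective_iff hn hconn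

end Groth.Agent.S13788
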