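import Groth.Statements.S13789
import Mathlib.NumberTheory.Padics.PadicIntegers
import Mathlib.Order.CompletePartialOrder
import Mathlib.RingTheory.Flat.FaithfullyFlat.Algebra
import Mathlib.RingTheory.HopkinsLevitzki
import Mathlib.RingTheory.Noetherian.OfPrime
import Mathlib.RingTheory.SimpleRing.Principal
import Mathlib.RingTheory.Support
import Mathlib.RingTheory.WittVector.Domain
import Mathlib.RingTheory.WittVector.Teichmuller

set_option autoImplicit false
universe u
open CAlg

namespace Groth.Agent.S13789

/-- Let A be a commutative ring with total ring of fractions Q and let B be a ring with A ⊆ B ⊆ Q. Then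
the inclusion A ⊆ B carries nonzerodivisors of A to nonzerodivisors of B, and every nonzerodivisor
of B has the form r/u with r and u nonzerodivisors of A. -/
theorem result {A Q : Type u} [CommRing A] [CommRing Q] [Algebra A Q] [IsFractionRing A Q] (B : Subalgebra A Q) :
    (∀ a : A, a ∈ nonZeroDivisors A → algebraMap A B a ∈ nonZeroDivisors B) ∧
    (∀ b : B, b ∈ nonZeroDivisors B → ∃ r u : A, r ∈ nonZeroDivisors A ∧ u ∈ nonZeroDivisors A ∧
      (b : Q) * algebraMap A Q u = algebraMap A Q r) := by
  refine ⟨fun a ha => ?_, fun b hb => ?_⟩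
  · rw [mem_nonZeroDivisors_iff_right]
    intro x hx
    apply Subtype.ext
    have hu := IsLocalization.map_units Q (⟨a, ha⟩ : nonZeroDivisors A)
    have := congrArg Subtype.val hx
    simp at this
    exact hu.mul_left_eq_zero.mp this
  · obtain ⟨⟨r, u⟩, hru⟩ := IsLocalization.surj (nonZeroDivisors A) (b : Q)
    refine ⟨r, u, ?_, u.2, hru⟩
    rw [mem_nonZeroDivisors_iff_right]
    intro x hx
    apply IsFractionRing.injective A Q
    have h1 : ((algebraMap A B x * algebraMap A B u) * b : B) = 0 := by
      apply Subtype.ext
      simp only [MulMemClass.coe_mul, Subalgebra.coe_algebraMap, ZeroMemClass.coe_zero]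
      calc algebraMap A Q x * algebraMap A Q u * (b : Q) = algebraMap A Q x * algebraMap A Q r := by rw [← hru]; ring
        _ = 0 := by rw [← map_mul, hx, map_zero]
    have h2 := congrArg Subtype.val ((mem_nonZeroDivisors_iff_right.mp hb) _ h1)
    simp only [MulMemClass.coe_mul, Subalgebra.coe_algebraMap, ZeroMemClass.coe_zero] at h2
    rw [map_zero]
    exact (IsLocalization.map_units Q u).mul_left_eq_zero.mp h2

end Groth.Agent.S13789
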