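import Groth.Statements.S13790
import Mathlib.NumberTheory.Padics.PadicIntegers
import Mathlib.Order.CompletePartialOrder
import Mathlib.RingTheory.Flat.FaithfullyFlat.Algebra
import Mathlib.RingTheory.HopkinsLevitzki
import Mathlib.RingTheory.Noetherian.OfPrime
import Mathlib.RingTheory.SimpleRing.Principal
import Mathlib.RingTheory.Support
import Mathlib.RingTheory.WittVector.Domain
import Mathlib.RingTheory.WittVector.Teichmuller
import Groth.Agent.S13789

set_option autoImplicit false
universe u
open CAlg

namespace Groth.Agent.S13790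

/-- Let A be a commutative ring with total ring of fractions Q and let B be a ring with A ⊆ B ⊆ Q. Then
Q, with the inclusion B ⊆ Q, is the total ring of fractions of B. -/
theorem result {A Q : Type u} [CommRing A] [CommRing Q] [Algebra A Q] [IsFractionRing A Q] (B : Subalgebra A Q) :
    IsFractionRing B Q := by
  obtain ⟨h1, h2⟩ := Groth.Agent.S13789.result B
  refine (isLocalization_iff (nonZeroDivisors B) Q).mpr ⟨?_, ?_, ?_⟩
  · rintro ⟨b, hb⟩
    obtain ⟨r, u, hr, hu, h⟩ := h2 b hb
    exact isUnit_of_mul_isUnit_left (y := algebraMap A Q u) (h ▸ IsLocalization.map_units Q (⟨r, hr⟩ : nonZeroDivisors A))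
  · intro z
    obtain ⟨⟨r, u⟩, hru⟩ := IsLocalization.surj (nonZeroDivisors A) z
    exact ⟨⟨algebraMap A B r, ⟨algebraMap A B u, h1 u u.2⟩⟩, hru⟩
  · intro x y h
    exact ⟨1, by simp [Subtype.ext h]⟩

end Groth.Agent.S13790
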