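import Groth.Statements.S13791
import Groth.Agent.H15Site.ConstSplit
import Groth.Agent.H15Site.HUBasic
import Mathlib.CategoryTheory.Sites.CoverLifting
import Mathlib.CategoryTheory.Adjunction.Triple
import Mathlib.CategoryTheory.Sites.Pullback
import Mathlib.CategoryTheory.Limits.Types.Limits

open Groth.Agent.H15Site

set_option linter.style.haveILetI false
open CategoryTheory CategoryTheory.Limits Opposite

set_option autoImplicit false
universe u
open CategoryTheory
open CohSite

namespace Groth.Agent.S13791

/-- On a site, for a short exact sequence 0 → A → B → C → 0 of abelian groups the map H¹(A) → H¹(B) on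
the first cohomology of the associated constant sheaves is injective. Stated for an injective
homomorphism f : A → B (C being its cokernel), with H¹ the Ext-based sheaf cohomology of the site. -/
theorem result {C : Type u} [SmallCategory C] (J : GrothendieckTopology C)
    {A B : Type u} [AddCommGroup A] [AddCommGroup B] (f : A →+ B) (hf : Function.Injective f) :
    Function.Injective
      (Sheaf.H.map ((constantSheaf J AddCommGrpCat.{u}).map (AddCommGrpCat.ofHom f)) 1) := by
  haveI : Mono (AddCommGrpCat.ofHom f) := (AddCommGrpCat.mono_iff_injective _).2 hf
  exact ConstSplit.injective_H1_map J (AddCommGrpCat.ofHom f)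

end Groth.Agent.S13791
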