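import Groth.Statements.S13792
import Groth.Agent.H29Curve.Topology
import Mathlib.AlgebraicGeometry.Morphisms.QuasiFinite
import Mathlib.AlgebraicGeometry.Noetherian
import Mathlib.AlgebraicGeometry.Morphisms.ClosedImmersion

set_option autoImplicit false
universe u
open CategoryTheory AlgebraicGeometry
open Curves

namespace Groth.Agent.S13792

/-- Let k be a field and E an integral k-scheme of finite type whose underlying space has dimension 1,
and let ι : G → E be a closed immersion. Then either ι is an isomorphism or G is finite over k. (The
published statement is about a closed subgroup scheme of an elliptic curve and its proof states this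
fact for E geometrically integral; this row assumes only that E is integral.) -/
theorem result {k : Type u} [Field k]
    {E G : Scheme.{u}} (f : E ⟶ Spec (CommRingCat.of k)) [LocallyOfFiniteType f] [QuasiCompact f]
    [IsIntegral E] (hdim : topologicalKrullDim ↥E = 1) (ι : G ⟶ E) [IsClosedImmersion ι] :
    IsIso ι ∨ IsFinite (ι ≫ f) := by
  by_cases hs : Set.range ι = Set.univ
  · left
    haveI : Surjective ι := ⟨Set.range_eq_univ.mp hs⟩
    exact isIso_of_isClosedImmersion_of_surjective ι
  · right
    haveI : IsNoetherian E :=
      { toIsLocallyNoetherian := LocallyOfFiniteType.isLocallyNoetherian f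
        toCompactSpace := QuasiCompact.compactSpace_of_compactSpace f }
    have hfin : (Set.range ι).Finite := H29Curve.finite_of_isClosed_ne_univ hdim.le
      ι.isClosedEmbedding.isClosed_range hs
    haveI : Finite G := Set.finite_univ_iff.mp
      ((hfin.preimage ι.isClosedEmbedding.injective.injOn).subset (by intro x _; exact ⟨x, rfl⟩))
    haveI : LocallyQuasiFinite (ι ≫ f) :=
      LocallyQuasiFinite.of_finite_preimage_singleton _ fun x => Set.toFinite _
    exact IsFinite.of_locallyQuasiFinite (ι ≫ f)

end Groth.Agent.S13792
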