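import Groth.Statements.S13793
import Groth.Agent.H3CAlg.LaurentCocycle

set_option autoImplicit false
universe u
open CAlg

namespace Groth.Agent.S13793

/-- For any commutative ring A, the second cohomology of the complex of unit groups A[t₁^±]ˣ → A[t₁^±,
t₂^±]ˣ → A[t₁^±, t₂^±, t₃^±]ˣ → ⋯ attached to the cosimplicial ring of Laurent polynomial rings
(coface maps (t₁, t₂) ↦ (t₂, t₃), (t₁t₂, t₃), (t₁, t₂t₃), (t₁, t₂) and t₁ ↦ t₂, t₁t₂, t₁) vanishes:
every unit ξ of A[t₁^±, t₂^±] with ξ(t₂,t₃) ξ(t₁t₂,t₃)⁻¹ ξ(t₁,t₂t₃) ξ(t₁,t₂)⁻¹ = 1 is of the form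
η(t₂) η(t₁t₂)⁻¹ η(t₁) for a unit η of A[t^±]. Laurent polynomial rings are written as group algebras
of ℤ^p and the coface maps as the maps induced by the corresponding additive maps ℤ^p → ℤ^(p+1). -/
theorem result (A : Type u) [CommRing A] (ξ : (AddMonoidAlgebra A (Fin 2 → ℤ))ˣ)
    (hξ : Units.map (AddMonoidAlgebra.mapDomainRingHom A
          (Matrix.mulVecLin (!![0, 0; 1, 0; 0, 1] : Matrix (Fin 3) (Fin 2) ℤ)).toAddMonoidHom).toMonoidHom ξ *
        (Units.map (AddMonoidAlgebra.mapDomainRingHom A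
          (Matrix.mulVecLin (!![1, 0; 1, 0; 0, 1] : Matrix (Fin 3) (Fin 2) ℤ)).toAddMonoidHom).toMonoidHom ξ)⁻¹ *
        Units.map (AddMonoidAlgebra.mapDomainRingHom A
          (Matrix.mulVecLin (!![1, 0; 0, 1; 0, 1] : Matrix (Fin 3) (Fin 2) ℤ)).toAddMonoidHom).toMonoidHom ξ *
        (Units.map (AddMonoidAlgebra.mapDomainRingHom A
          (Matrix.mulVecLin (!![1, 0; 0, 1; 0, 0] : Matrix (Fin 3) (Fin 2) ℤ)).toAddMonoidHom).toMonoidHom ξ)⁻¹ = 1) :
    ∃ η : (AddMonoidAlgebra A (Fin 1 → ℤ))ˣ,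
      ξ = Units.map (AddMonoidAlgebra.mapDomainRingHom A
          (Matrix.mulVecLin (!![0; 1] : Matrix (Fin 2) (Fin 1) ℤ)).toAddMonoidHom).toMonoidHom η *
        (Units.map (AddMonoidAlgebra.mapDomainRingHom A
          (Matrix.mulVecLin (!![1; 1] : Matrix (Fin 2) (Fin 1) ℤ)).toAddMonoidHom).toMonoidHom η)⁻¹ *
        Units.map (AddMonoidAlgebra.mapDomainRingHom A
          (Matrix.mulVecLin (!![1; 0] : Matrix (Fin 2) (Fin 1) ℤ)).toAddMonoidHom).toMonoidHom η := by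
  exact Groth.Agent.H3CAlg.LaurentCocycle.main ξ hξ

end Groth.Agent.S13793
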