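import Groth.Statements.S13794
import Mathlib.Algebra.Polynomial.Coeff
import Mathlib.Tactic.FieldSimp
import Mathlib.Tactic.LinearCombination
import Mathlib.Algebra.Field.Basic

set_option autoImplicit false
universe u
open Polynomial
open Curves

namespace Groth.Agent.S13794

/-- Let k be a field of characteristic not 3 and β ∈ k. If a line ax + by + c = 0 with a³ ≠ b³ is the
tangent line at a flex point of the affine cubic x³ + y³ + β = 3xy, then β is a cube in k. Here the
line is normalised to b ≠ 0 (the roles of x and y are symmetric) and the flex-tangency is expressed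
by the restriction of the cubic to the line being λ (x − x₀)³. -/
theorem result {k : Type u} [Field k] (h3 : (3 : k) ≠ 0)
    (β a b c : k) (hb : b ≠ 0) (hab : a ^ 3 ≠ b ^ 3) (lam x₀ : k)
    (hflex : (X : k[X]) ^ 3 + (C (-a / b) * X + C (-c / b)) ^ 3 + C β - 3 * X * (C (-a / b) * X + C (-c / b)) =
      C lam * (X - C x₀) ^ 3) :
    ∃ γ : k, β = γ ^ 3 := by
  have e := fun n => congrArg (fun p : k[X] => p.coeff n) hflex
  set m : k := -a / b with hm
  set n : k := -c / b with hn
  have L : (X : k[X]) ^ 3 + (C m * X + C n) ^ 3 + C β - 3 * X * (C m * X + C n) =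
      C (1 + m ^ 3) * X ^ 3 + C (3 * m ^ 2 * n - 3 * m) * X ^ 2 + C (3 * m * n ^ 2 - 3 * n) * X +
        C (n ^ 3 + β) := by
    simp only [map_add, map_sub, map_mul, map_pow, map_one, map_ofNat]; ring
  have R : C lam * ((X : k[X]) - C x₀) ^ 3 =
      C lam * X ^ 3 + C (-3 * lam * x₀) * X ^ 2 + C (3 * lam * x₀ ^ 2) * X +
        C (-(lam * x₀ ^ 3)) := by
    simp only [map_neg, map_mul, map_pow, map_ofNat]; ring
  rw [L, R] at e
  simp only [coeff_add, coeff_C_mul, coeff_X_pow, coeff_X, coeff_C] at e
  have e3 : 1 + m ^ 3 = lam := by simpa using e 3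
  have e2 : 3 * m ^ 2 * n - 3 * m = -3 * lam * x₀ := by simpa using e 2
  have e1 : 3 * m * n ^ 2 - 3 * n = 3 * lam * x₀ ^ 2 := by simpa using e 1
  have e0 : n ^ 3 + β = -(lam * x₀ ^ 3) := by simpa using e 0
  have hlam : lam ≠ 0 := by
    rw [← e3, hm]; intro h
    apply hab
    field_simp at h
    linear_combination -h
  have f2 : m * (m * n - 1) = -(lam * x₀) := mul_left_cancel₀ h3 (by linear_combination e2)
  have f1 : n * (m * n - 1) = lam * x₀ ^ 2 := mul_left_cancel₀ h3 (by linear_combination e1)
  by_cases hw : m * n - 1 = 0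
  · have hx : x₀ = 0 := by
      rw [hw, mul_zero] at f2
      rcases mul_eq_zero.mp (neg_eq_zero.mp f2.symm) with h | h
      · exact absurd h hlam
      · exact h
    exact ⟨-n, by rw [hx] at e0; linear_combination e0⟩
  · refine ⟨-x₀, ?_⟩
    set w := m * n - 1 with hwdef
    have g : (w + 1) * w ^ 2 = -(lam ^ 2 * x₀ ^ 3) := by
      linear_combination (n * w) * f2 + (-(lam * x₀)) * f1 + (w ^ 2) * hwdef
    have hm3 : m * w = -(lam * x₀) := f2
    have gl : lam = -w := by
      have h : (lam + w) * w ^ 2 = 0 := by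
        have hc : (m * w) ^ 3 = (-(lam * x₀)) ^ 3 := by rw [hm3]
        linear_combination (w ^ 3) * e3 - hc + lam * g
      rcases mul_eq_zero.mp h with h | h
      · linear_combination h
      · exact absurd (pow_eq_zero_iff two_ne_zero |>.mp h) hw
    have hn3 : n ^ 3 * w ^ 3 = lam ^ 3 * x₀ ^ 6 := by
      have : (n * w) ^ 3 = (lam * x₀ ^ 2) ^ 3 := by rw [f1]
      linear_combination this
    apply mul_right_cancel₀ (pow_ne_zero 3 hw)
    subst gl
    linear_combination (w ^ 3) * e0 - hn3 + (w * x₀^3) * g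

end Groth.Agent.S13794
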