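import Groth.Statements.S13797
import Groth.Agent.H23Morita.EndEquiv
import Mathlib.RingTheory.PicardGroup
import Mathlib.LinearAlgebra.TensorPower.Basic
import Mathlib.LinearAlgebra.Matrix.NonsingularInverse

set_option autoImplicit false
universe u
open scoped TensorProduct
open Brauer

namespace Groth.Agent.S13797

/-- In the case of an affine scheme — let A be a commutative ring, n ≥ 1 and α an A-algebra automorphism
of the n × n matrix algebra over A. The A-module L of matrices M with M N = α(N) M for every matrix
N (the module of sections of the line bundle attached to the torsor of liftings of α to GL_n) is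
invertible, and its class in the Picard group of A is n-torsion: the n-fold tensor power of L is
isomorphic to A (existence of an isomorphism only). (The published statement is for an automorphism
of End(O^n) on any locally ringed site, in the form: the sheaf of liftings is a 𝔾_m-torsor whose
class in Pic is n-torsion; this row is the affine case.) -/
theorem result (A : Type u) [CommRing A] (n : ℕ) (hn : 0 < n)
    (α : Matrix (Fin n) (Fin n) A ≃ₐ[A] Matrix (Fin n) (Fin n) A) :
    Module.Invertible A
        (LinearMap.ker (LinearMap.mul A (Matrix (Fin n) (Fin n) A) -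
          (LinearMap.lcomp A (Matrix (Fin n) (Fin n) A) α.toLinearMap).comp (LinearMap.mul A (Matrix (Fin n) (Fin n) A)).flip)) ∧
      Nonempty ((⨂[A] _ : Fin n,
          LinearMap.ker (LinearMap.mul A (Matrix (Fin n) (Fin n) A) -
            (LinearMap.lcomp A (Matrix (Fin n) (Fin n) A) α.toLinearMap).comp (LinearMap.mul A (Matrix (Fin n) (Fin n) A)).flip)) ≃ₗ[A] A) := by
  classical
  set L := LinearMap.ker (LinearMap.mul A (Matrix (Fin n) (Fin n) A) -
      (LinearMap.lcomp A (Matrix (Fin n) (Fin n) A) α.toLinearMap).comp
        (LinearMap.mul A (Matrix (Fin n) (Fin n) A)).flip) with hLdef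
  have hmem : ∀ M, M ∈ L ↔ ∀ N, M * N = α N * M := fun M => by
    simp [hLdef, LinearMap.ext_iff, sub_eq_zero]
  haveI : Nonempty (Fin n) := ⟨⟨0, hn⟩⟩
  haveI : Module.FaithfullyFlat A (Fin n → A) :=
    Module.FaithfullyFlat.of_linearEquiv _ _
      (Finsupp.linearEquivFunOnFinite A A (Fin n)).symm
  let T := Matrix.toLinAlgEquiv' (R := A) (n := Fin n)
  let φ : Module.End A (Fin n → A) ≃ₐ[A] Module.End A (Fin n → A) := (T.symm.trans α).trans T
  obtain ⟨hinv, -⟩ := H23Morita.exists_invertible φ
  let e : L ≃ₗ[A] H23Morita.hom φ.toAlgHom :=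
    { toFun := fun M => ⟨T M.1, fun f x => by
        obtain ⟨N, rfl⟩ := T.surjective f
        have := congr(T $((hmem M.1).mp M.2 N) x)
        simp only [map_mul, Module.End.mul_apply] at this
        simpa [φ] using this.symm⟩
      map_add' := fun a b => Subtype.ext (map_add T a.1 b.1)
      map_smul' := fun c a => Subtype.ext (map_smul T c a.1)
      invFun := fun l => ⟨T.symm l.1, (hmem _).mpr fun N => T.injective <| LinearMap.ext fun x => by
        simp only [map_mul, AlgEquiv.apply_symm_apply, Module.End.mul_apply]
        simpa [φ] using (l.2 (T N) x).symm⟩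
      left_inv := fun a => Subtype.ext (T.symm_apply_apply a.1)
      right_inv := fun l => Subtype.ext (T.apply_symm_apply l.1) }
  haveI : Module.Invertible A L := Module.Invertible.congr e.symm
  refine ⟨inferInstance, ?_⟩
  haveI hpow : ∀ k : ℕ, Module.Invertible A (⨂[A] _ : Fin k, L) := by
    intro k
    induction k with
    | zero => exact Module.Invertible.congr (PiTensorProduct.isEmptyEquiv (Fin 0)).symm
    | succ k ih =>
      haveI : Module.Invertible A (⨂[A] _ : Fin 1, L) :=
        Module.Invertible.congr (PiTensorProduct.subsingletonEquiv (0 : Fin 1)).symm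
      exact Module.Invertible.congr (TensorPower.mulEquiv (R := A) (M := L) (n := k) (m := 1))
  let col : Fin n → L →ₗ[A] (Fin n → A) := fun j =>
    LinearMap.pi fun i => (Matrix.entryLinearMap A A i j).comp L.subtype
  let f : (⨂[A] _ : Fin n, L) →ₗ[A] A :=
    PiTensorProduct.lift ((Matrix.detRowAlternating (R := A) (n := Fin n)).toMultilinearMap.compLinearMap col)
  have hf : Function.Surjective f := by
    rw [← LinearMap.range_eq_top]
    by_contra h
    obtain ⟨m, hm, hle⟩ := Ideal.exists_le_maximal (LinearMap.range f) h
    letI := Ideal.Quotient.field m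
    let π := Ideal.Quotient.mk m
    have hsym : ∀ (l l' : L) (a b i j : Fin n),
        l.1 a b * l'.1 i j = l'.1 a b * l.1 i j := fun l l' a b i j => by
      let B : L →ₗ[A] L →ₗ[A] A := (LinearMap.mul A A).compl₁₂
        ((Matrix.entryLinearMap A A a b).comp L.subtype) ((Matrix.entryLinearMap A A i j).comp L.subtype)
      simpa [B] using congrArg (TensorProduct.lift B)
        (Module.Invertible.tmul_comm (R := A) (M := L) (m₁ := l) (m₂ := l'))
    have hsurj : ∀ x : Fin n → A,
        ∃ t : (Fin n → A) ⊗[A] L, TensorProduct.lift
          ((LinearMap.flip (T.toLinearMap.comp L.subtype))) t = x := fun x => by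
      obtain ⟨s, rfl⟩ := (H23Morita.ev_bijective φ.toAlgHom).2 x
      obtain ⟨t, rfl⟩ := (LinearEquiv.lTensor (Fin n → A) e).surjective s
      refine ⟨t, ?_⟩
      induction t using TensorProduct.induction_on with
      | zero => simp
      | add a b ha hb => simp only [map_add, ha, hb]
      | tmul y l => simp [e]
    -- a member of L with a nonzero entry modulo m
    obtain ⟨l₀, a, b, hab⟩ : ∃ (l : L) (a b : Fin n), π (l.1 a b) ≠ 0 := by
      by_contra h0
      push Not at h0
      obtain ⟨t, ht⟩ := hsurj 1
      have h2 : ∀ s : (Fin n → A) ⊗[A] L, ∀ i, π (TensorProduct.lift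
          (LinearMap.flip (T.toLinearMap.comp L.subtype)) s i) = 0 := fun s i => by
        induction s using TensorProduct.induction_on with
        | zero => simp
        | add a b ha hb => simp [map_add, ha, hb]
        | tmul y l =>
          simp [T, Matrix.toLinAlgEquiv'_apply, Matrix.mulVec, dotProduct, map_sum, h0]
      have := h2 t ⟨0, hn⟩
      rw [ht, Pi.one_apply, map_one] at this
      exact one_ne_zero this
    have hprop : ∀ (l : L) (i j : Fin n),
        π (l.1 i j) = π (l.1 a b) * (π (l₀.1 a b))⁻¹ * π (l₀.1 i j) := fun l i j => by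
      have := congrArg π (hsym l l₀ a b i j)
      rw [map_mul, map_mul] at this
      rw [mul_comm (π (l.1 a b)), mul_assoc, this, inv_mul_cancel_left₀ hab]
    have hu : IsUnit (l₀.1.map π) := by
      rw [← Matrix.mulVec_surjective_iff_isUnit]
      intro y
      obtain ⟨x, hx⟩ : ∃ x : Fin n → A, y = π ∘ x :=
        ⟨fun i => (Ideal.Quotient.mk_surjective (y i)).choose,
          funext fun i => ((Ideal.Quotient.mk_surjective (y i)).choose_spec).symm⟩
      obtain ⟨t, rfl⟩ := hsurj x
      have h2 : ∀ s : (Fin n → A) ⊗[A] L, ∃ z, (l₀.1.map π).mulVec z = π ∘ (TensorProduct.lift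
          (LinearMap.flip (T.toLinearMap.comp L.subtype)) s) := fun s => by
        induction s using TensorProduct.induction_on with
        | zero => exact ⟨0, by ext i; simp⟩
        | add p q hp hq =>
          obtain ⟨z, hz⟩ := hp; obtain ⟨w, hw⟩ := hq
          exact ⟨z + w, by rw [Matrix.mulVec_add, hz, hw]; ext i; simp⟩
        | tmul z l =>
          refine ⟨(π (l.1 a b) * (π (l₀.1 a b))⁻¹) • (π ∘ z), ?_⟩
          ext i
          simp only [Matrix.mulVec, dotProduct, Matrix.map_apply, Pi.smul_apply, Function.comp_apply,
            smul_eq_mul, TensorProduct.lift.tmul, LinearMap.flip_apply, LinearMap.comp_apply,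
            Submodule.subtype_apply, T, AlgEquiv.toLinearMap_apply, Matrix.toLinAlgEquiv'_apply,
            map_sum, map_mul]
          exact Finset.sum_congr rfl fun k _ => by rw [hprop l i k]; ring
      obtain ⟨z, hz⟩ := h2 t
      exact ⟨z, hz.trans hx.symm⟩
    have hd : (Matrix.detRowAlternating (R := A) (n := Fin n)).toMultilinearMap
        (fun j => col j l₀) = l₀.1.det := by
      rw [← Matrix.det_transpose]; rfl
    have hdm : π l₀.1.det = 0 := by
      refine Ideal.Quotient.eq_zero_iff_mem.mpr (hle ⟨PiTensorProduct.tprod A fun _ => l₀, ?_⟩)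
      simpa [f] using hd
    rw [RingHom.map_det] at hdm
    exact not_isUnit_zero (hdm ▸ (Matrix.isUnit_iff_isUnit_det _).mp hu)
  exact ⟨LinearEquiv.ofBijective f (Module.Invertible.bijective_of_surjective hf)⟩

end Groth.Agent.S13797
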