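import Groth.Statements.S13798
import Groth.Agent.H23TorusUnits.Basic

set_option autoImplicit false
universe u
open CategoryTheory CategoryTheory.Limits AlgebraicGeometry Opposite
open Curves

namespace Groth.Agent.S13798

/-- Units on tori: let X be an integral scheme and P = X × 𝔾_mⁿ, the product with the n-dimensional
split torus Spec ℤ[ℤⁿ] = Spec ℤ[t₁^±, …, t_n^±]. The canonical map Γ(X, O_X)ˣ × ℤⁿ → Γ(P, O_P)ˣ, (u,
e) ↦ pr₁^*(u) · pr₂^*(t^e), is an isomorphism: every invertible global function on P is uniquely of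
this form. -/
theorem result (X : Scheme.{u}) [IsIntegral X] (n : ℕ)
    (v : Γ(X ⨯ Spec (CommRingCat.of (ULift.{u} (AddMonoidAlgebra ℤ (Fin n → ℤ)))), ⊤)) (hv : IsUnit v) :
    ∃! p : (Γ(X, ⊤))ˣ × (Fin n → ℤ),
      v = (prod.fst : X ⨯ Spec (CommRingCat.of (ULift.{u} (AddMonoidAlgebra ℤ (Fin n → ℤ)))) ⟶ X).appTop (p.1 : Γ(X, ⊤)) *
        (prod.snd : X ⨯ Spec (CommRingCat.of (ULift.{u} (AddMonoidAlgebra ℤ (Fin n → ℤ)))) ⟶ Spec (CommRingCat.of (ULift.{u} (AddMonoidAlgebra ℤ (Fin n → ℤ))))).appTop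
          ((Scheme.ΓSpecIso (CommRingCat.of (ULift.{u} (AddMonoidAlgebra ℤ (Fin n → ℤ))))).inv (ULift.up (AddMonoidAlgebra.single p.2 1))) := by
  exact Groth.Agent.H23TorusUnits.existsUnique_unit (Fin n → ℤ) v hv

end Groth.Agent.S13798
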