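import Groth.Statements.S13801
-- import your own Groth.Agent.* helpers here

set_option autoImplicit false
open ChowMon

namespace Groth.Agent.S13801

/-- For a prime p and positive natural numbers a_1, ..., a_k with sum n one has v_p(a_1!) + ... +
v_p(a_k!) ≤ v_p(n!), and the inequality is strict whenever some a_i is not divisible by p^(v_p(n)). -/
theorem result {k : ℕ} (p : ℕ) [Fact p.Prime]
    (a : Fin k → ℕ) (ha : ∀ i, 0 < a i) :
    (∑ i, padicValNat p (a i).factorial ≤ padicValNat p (∑ i, a i).factorial) ∧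
      ((∃ i, ¬ p ^ padicValNat p (∑ j, a j) ∣ a i) →
        ∑ i, padicValNat p (a i).factorial < padicValNat p (∑ i, a i).factorial) := by
  have hp := Fact.out (p := p.Prime)
  set n := ∑ i, a i with hn
  set b := Nat.log p n + 1 with hb
  have hle : ∀ i, a i ≤ n := fun i => Finset.single_le_sum (fun j _ => Nat.zero_le _) (Finset.mem_univ i)
  have hfn : padicValNat p n.factorial = ∑ j ∈ Finset.Ico 1 b, n / p ^ j :=
    padicValNat_factorial (Nat.lt_succ_self _)
  have hfa : ∀ i, padicValNat p (a i).factorial = ∑ j ∈ Finset.Ico 1 b, a i / p ^ j := fun i =>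
    padicValNat_factorial (Nat.lt_succ_of_le (Nat.log_mono_right (hle i)))
  have hfl : ∀ q : ℕ, ∑ i, a i / q ≤ n / q := fun q => by
    rcases Nat.eq_zero_or_pos q with rfl | hq
    · simp
    rw [Nat.le_div_iff_mul_le hq, Finset.sum_mul]
    exact Finset.sum_le_sum fun i _ => Nat.div_mul_le_self _ _
  rw [hfn, Finset.sum_congr rfl (fun i _ => hfa i), Finset.sum_comm]
  refine ⟨Finset.sum_le_sum fun j _ => hfl _, ?_⟩
  rintro ⟨i, hi⟩
  set v := padicValNat p n with hv
  have hv1 : 1 ≤ v := by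
    by_contra h
    exact hi (by simp [Nat.lt_one_iff.mp (not_le.mp h)])
  have hvb : v < b := Nat.lt_succ_of_le (padicValNat_le_nat_log _)
  refine Finset.sum_lt_sum (fun j _ => hfl _) ⟨v, Finset.mem_Ico.mpr ⟨hv1, hvb⟩, ?_⟩
  rw [Nat.lt_div_iff_mul_lt_of_dvd (pow_ne_zero _ hp.ne_zero) pow_padicValNat_dvd, Finset.sum_mul]
  refine Finset.sum_lt_sum (fun j _ => Nat.div_mul_le_self _ _) ⟨i, Finset.mem_univ i, ?_⟩
  exact lt_of_le_of_ne (Nat.div_mul_le_self _ _) fun h => hi ⟨_, by rw [mul_comm]; exact h.symm⟩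

end Groth.Agent.S13801
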