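import Groth.Statements.S13805
import Groth.Agent.H23EtaPt.Extra

set_option autoImplicit false
universe u
open EtaPt

namespace Groth.Agent.S13805

/-- For a commutative ring A with finitely many minimal prime ideals, every integral ring map f from
M_η(A) to a reduced ring B with N_η(f) bijective is itself bijective. Here η is a natural
transformation from the identity of the category of fields to an endofunctor F with F(η_K) bijective
and η_K purely inseparable for every field K, N_η(A) is the product of the F(k(p)) over the primes p
of A with diagonal map t_A, and M_η(A) ⊆ N_η(A) is the subring of elements sent into the range of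
t_R by every ring map from A to a valuation ring R at whose fraction field η is bijective; q_A : A →
M_η(A) is the corestriction of t_A. -/
theorem result (η : EtaPt.FieldEndo.{u}) (A : Type u) [CommRing A]
    (hA : (minimalPrimes A).Finite) (B : Type u) [CommRing B] [IsReduced B] (f : η.M A →+* B)
    (hf : f.IsIntegral) (hN : Function.Bijective (η.Nmap f)) : Function.Bijective f := by
  open Groth.Agent.H23EtaPt in
  obtain ⟨g', hg', hg''⟩ := exists_descent η f hf hN
  open Groth.Agent.H23EtaPt in
  have hq := bijective_q_M η hA
  refine ⟨fun x y h => hq.1 ?_, fun b => ?_⟩
  · rw [← RingHom.congr_fun hg' x, ← RingHom.congr_fun hg' y]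
    exact congrArg g' h
  · obtain ⟨x, hx⟩ := hq.2 (g' b)
    refine ⟨x, sub_eq_zero.mp (isReduced_iff _ |>.mp inferInstance _
      (Groth.Agent.H23EtaPt.isNilpotent_of_t_eq_zero η ?_))⟩
    have h1 := hg'' b
    rw [← hx] at h1
    have h2 : η.Nmap f (η.t (η.M A) x) = η.t B b := h1
    rw [η.Nmap_t_apply] at h2
    rw [map_sub, h2, sub_self]

end Groth.Agent.S13805
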