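import Groth.Statements.S13807
import Groth.Agent.H23EtaPt.Extra

set_option autoImplicit false
universe u
open EtaPt

namespace Groth.Agent.S13807

/-- For a field K the pointwise ring M_η(K) is all of N_η(K) = F(k((0))). Here η is a natural
transformation from the identity of the category of fields to an endofunctor F with F(η_K) bijective
and η_K purely inseparable for every field K, N_η(A) is the product of the F(k(p)) over the primes p
of A with diagonal map t_A, and M_η(A) ⊆ N_η(A) is the subring of elements sent into the range of
t_R by every ring map from A to a valuation ring R at whose fraction field η is bijective; q_A : A →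
M_η(A) is the corestriction of t_A. -/
theorem result (η : EtaPt.FieldEndo.{u}) (K : Type u) [Field K] : η.M K = ⊤ := by
  refine eq_top_iff.mpr fun x _ => ?_
  let p₀ : PrimeSpectrum K := ⟨⊥, Ideal.isPrime_bot⟩
  haveI : Subsingleton (PrimeSpectrum K) := ⟨fun a b => PrimeSpectrum.ext
    ((Ideal.eq_bot_of_prime a.asIdeal).trans (Ideal.eq_bot_of_prime b.asIdeal).symm)⟩
  obtain ⟨n, c, hc⟩ := η.exists_pow_mem_range_eta _ (x p₀)
  haveI : p₀.asIdeal.IsMaximal := Ideal.bot_isMaximal
  obtain ⟨a, rfl⟩ := Ideal.algebraMap_residueField_surjective p₀.asIdeal c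
  refine Groth.Agent.H23EtaPt.mem_M_of_pow η (c := a) (ringExpChar p₀.asIdeal.ResidueField) n (fun p => ?_) ?_
  · obtain rfl : p = p₀ := Subsingleton.elim _ _
    infer_instance
  · funext p
    obtain rfl : p = p₀ := Subsingleton.elim _ _
    exact hc.symm

end Groth.Agent.S13807
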