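import Groth.Statements.S13808
import Groth.Agent.H23EtaPt.Extra

set_option autoImplicit false
universe u
open EtaPt

namespace Groth.Agent.S13808

/-- For an integral domain A such that η is bijective at the fraction field of A, the projection of
N_η(A) onto its factor F(k((0))) at the generic point is injective on M_η(A). Here η is a natural
transformation from the identity of the category of fields to an endofunctor F with F(η_K) bijective
and η_K purely inseparable for every field K, N_η(A) is the product of the F(k(p)) over the primes p
of A with diagonal map t_A, and M_η(A) ⊆ N_η(A) is the subring of elements sent into the range of
t_R by every ring map from A to a valuation ring R at whose fraction field η is bijective; q_A : A →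
M_η(A) is the corestriction of t_A. -/
theorem result (η : EtaPt.FieldEndo.{u}) (A : Type u) [CommRing A] [IsDomain A] (hA : η.InV A) :
    Set.InjOn (fun x : η.N A => x ⟨⊥, Ideal.isPrime_bot⟩) (η.M A) := by
  exact Groth.Agent.H23EtaPt.injOn_generic η

end Groth.Agent.S13808
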