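import Groth.Statements.S13809
import Groth.Agent.H23EtaPt.Extra

set_option autoImplicit false
universe u
open EtaPt

namespace Groth.Agent.S13809

/-- For an integrally closed domain A such that η is bijective at the fraction field of A, the map q_A :
A → M_η(A) is bijective. Here η is a natural transformation from the identity of the category of
fields to an endofunctor F with F(η_K) bijective and η_K purely inseparable for every field K,
N_η(A) is the product of the F(k(p)) over the primes p of A with diagonal map t_A, and M_η(A) ⊆
N_η(A) is the subring of elements sent into the range of t_R by every ring map from A to a valuation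
ring R at whose fraction field η is bijective; q_A : A → M_η(A) is the corestriction of t_A. -/
theorem result (η : EtaPt.FieldEndo.{u}) (A : Type u) [CommRing A] [IsDomain A] [IsIntegrallyClosed A]
    (hA : η.InV A) : Function.Bijective (η.q A) := by
  open Groth.Agent.H23EtaPt in
  haveI := isFractionRing_residueField_bot (A := A)
  let p₀ : PrimeSpectrum A := ⟨⊥, Ideal.isPrime_bot⟩
  refine ⟨fun a b h => ?_, fun x => ?_⟩
  · have h1 : η.eta _ (algebraMap A p₀.asIdeal.ResidueField a) = η.eta _ (algebraMap A p₀.asIdeal.ResidueField b) :=
      congrFun (congrArg Subtype.val h) p₀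
    exact IsFractionRing.injective A (⊥ : Ideal A).ResidueField ((η.eta _).injective h1)
  · have hK : Groth.Agent.H23EtaPt.Closed η p₀.asIdeal.ResidueField :=
      (Groth.Agent.H23EtaPt.inV_iff η (⊥ : Ideal A).ResidueField).mp hA
    obtain ⟨a, ha⟩ := IsIntegrallyClosed.isIntegral_iff.mp
      (Groth.Agent.H23EtaPt.isIntegralElem_val η x.2 hK (algebraMap A p₀.asIdeal.ResidueField))
    refine ⟨a, Subtype.ext (Groth.Agent.H23EtaPt.injOn_generic η (η.t_mem_M A a) x.2 ?_)⟩
    show η.eta p₀.asIdeal.ResidueField (algebraMap A _ a) = (x : η.N A) p₀
    rw [ha, Groth.Agent.H23EtaPt.eta_val, Groth.Agent.H23EtaPt.ev_algebraMap]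

end Groth.Agent.S13809
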