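import Groth.Statements.S13810
import Groth.Agent.H23EtaPt.Basic

set_option autoImplicit false
universe u
open EtaPt

namespace Groth.Agent.S13810

/-- For commutative rings A and B, the pair of maps N_η of the two projections restricts to a bijection
from M_η(A × B) onto M_η(A) × M_η(B). Here η is a natural transformation from the identity of the
category of fields to an endofunctor F with F(η_K) bijective and η_K purely inseparable for every
field K, N_η(A) is the product of the F(k(p)) over the primes p of A with diagonal map t_A, and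
M_η(A) ⊆ N_η(A) is the subring of elements sent into the range of t_R by every ring map from A to a
valuation ring R at whose fraction field η is bijective; q_A : A → M_η(A) is the corestriction of
t_A. -/
theorem result (η : EtaPt.FieldEndo.{u}) (A B : Type u) [CommRing A] [CommRing B] :
    Set.BijOn (fun x : η.N (A × B) => (η.Nmap (RingHom.fst A B) x, η.Nmap (RingHom.snd A B) x))
      (η.M (A × B)) ((η.M A : Set (η.N A)) ×ˢ (η.M B : Set (η.N B))) := by
  classical
  have hα : ∀ P : PrimeSpectrum (A × B), (∃ α : A →+* P.asIdeal.ResidueField,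
      α.comp (RingHom.fst A B) = algebraMap (A × B) _) ∨ ∃ β : B →+* P.asIdeal.ResidueField,
      β.comp (RingHom.snd A B) = algebraMap (A × B) _ := fun P => by
    set j := algebraMap (A × B) P.asIdeal.ResidueField
    have h10 : j (1, 0) * j (0, 1) = 0 := by
      rw [← map_mul, Prod.mk_mul_mk, one_mul, zero_mul]; exact map_zero j
    rcases mul_eq_zero.mp h10 with h | h
    · refine Or.inr ⟨RingHom.liftOfSurjective (RingHom.snd A B) Prod.snd_surjective ⟨j, fun x hx => ?_⟩,
        RingHom.liftOfRightInverse_comp _ _ _ ⟨j, _⟩⟩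
      rw [RingHom.mem_ker] at hx ⊢
      rw [show x = x * (1, 0) from Prod.ext (by simp) (by simpa using hx), map_mul, h, mul_zero]
    · refine Or.inl ⟨RingHom.liftOfSurjective (RingHom.fst A B) Prod.fst_surjective ⟨j, fun x hx => ?_⟩,
        RingHom.liftOfRightInverse_comp _ _ _ ⟨j, _⟩⟩
      rw [RingHom.mem_ker] at hx ⊢
      rw [show x = x * (0, 1) from Prod.ext (by simpa using hx) (by simp), map_mul, h, mul_zero]
  refine ⟨fun x hx => ⟨Groth.Agent.H23EtaPt.Nmap_mem_M η hx _, Groth.Agent.H23EtaPt.Nmap_mem_M η hx _⟩,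
    fun x _ y _ hxy => ?_, ?_⟩
  · refine Groth.Agent.H23EtaPt.N_ext η fun P => ?_
    rcases hα P with ⟨α, hP⟩ | ⟨β, hP⟩ <;>
      rw [← hP, ← Groth.Agent.H23EtaPt.ev_Nmap, ← Groth.Agent.H23EtaPt.ev_Nmap]
    · exact congrArg _ (Prod.ext_iff.mp hxy).1
    · exact congrArg _ (Prod.ext_iff.mp hxy).2
  rintro ⟨a, b⟩ ⟨ha, hb⟩
  have hx : ∀ P : PrimeSpectrum (A × B), ∃ z : η.obj P.asIdeal.ResidueField,
      (∀ α : A →+* P.asIdeal.ResidueField, α.comp (RingHom.fst A B) = algebraMap (A × B) _ →
        z = Groth.Agent.H23EtaPt.ev η α a) ∧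
      (∀ β : B →+* P.asIdeal.ResidueField, β.comp (RingHom.snd A B) = algebraMap (A × B) _ →
        z = Groth.Agent.H23EtaPt.ev η β b) := fun P => by
    have not_both : ∀ (α : A →+* P.asIdeal.ResidueField) (β : B →+* P.asIdeal.ResidueField),
        α.comp (RingHom.fst A B) = algebraMap (A × B) _ → β.comp (RingHom.snd A B) = algebraMap (A × B) _ → False :=
      fun α β hα' hβ' => by
        have := (RingHom.congr_fun hα' (0, 1)).trans (RingHom.congr_fun hβ' (0, 1)).symm
        simp at this
    rcases hα P with ⟨α, hP⟩ | ⟨β, hP⟩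
    · exact ⟨Groth.Agent.H23EtaPt.ev η α a, fun α' h' => by
        rw [show α' = α from (RingHom.cancel_right (f := RingHom.fst A B) Prod.fst_surjective).mp (h'.trans hP.symm)],
        fun β h' => (not_both α β hP h').elim⟩
    · exact ⟨Groth.Agent.H23EtaPt.ev η β b, fun α h' => (not_both α β h' hP).elim, fun β' h' => by
        rw [show β' = β from (RingHom.cancel_right (f := RingHom.snd A B) Prod.snd_surjective).mp (h'.trans hP.symm)]⟩
  choose x hxa hxb using hx
  have kA : ∀ {L : Type u} [Field L] (ψ : A →+* L),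
      Groth.Agent.H23EtaPt.ev η (ψ.comp (RingHom.fst A B)) x = Groth.Agent.H23EtaPt.ev η ψ a := fun {L} _ ψ => by
    have hφ : (Groth.Agent.H23EtaPt.ptHom (ψ.comp (RingHom.fst A B))).comp (algebraMap (A × B) _) = ψ.comp (RingHom.fst A B) :=
      RingHom.ext (Groth.Agent.H23EtaPt.ptHom_algebraMap (ψ.comp (RingHom.fst A B)))
    rcases hα (Groth.Agent.H23EtaPt.pt (ψ.comp (RingHom.fst A B))) with ⟨α, hP⟩ | ⟨β, hP⟩
    · show η.map _ (x _) = _
      rw [hxa _ α hP, Groth.Agent.H23EtaPt.map_ev]
      congr 2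
      rw [← RingHom.cancel_right (f := RingHom.fst A B) Prod.fst_surjective, RingHom.comp_assoc, hP]
      exact hφ
    · have := RingHom.congr_fun hφ (1, 0)
      rw [← hP] at this
      simp at this
  have kB : ∀ {L : Type u} [Field L] (ψ : B →+* L),
      Groth.Agent.H23EtaPt.ev η (ψ.comp (RingHom.snd A B)) x = Groth.Agent.H23EtaPt.ev η ψ b := fun {L} _ ψ => by
    have hφ : (Groth.Agent.H23EtaPt.ptHom (ψ.comp (RingHom.snd A B))).comp (algebraMap (A × B) _) = ψ.comp (RingHom.snd A B) :=
      RingHom.ext (Groth.Agent.H23EtaPt.ptHom_algebraMap (ψ.comp (RingHom.snd A B)))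
    rcases hα (Groth.Agent.H23EtaPt.pt (ψ.comp (RingHom.snd A B))) with ⟨α, hP⟩ | ⟨β, hP⟩
    · have := RingHom.congr_fun hφ (0, 1)
      rw [← hP] at this
      simp at this
    · show η.map _ (x _) = _
      rw [hxb _ β hP, Groth.Agent.H23EtaPt.map_ev]
      congr 2
      rw [← RingHom.cancel_right (f := RingHom.snd A B) Prod.snd_surjective, RingHom.comp_assoc, hP]
      exact hφ
  refine ⟨x, Groth.Agent.H23EtaPt.mem_M_of η fun R _ _ _ hR g => ?_, Prod.ext
    (Groth.Agent.H23EtaPt.N_ext η fun p => by rw [Groth.Agent.H23EtaPt.ev_Nmap, kA])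
    (Groth.Agent.H23EtaPt.N_ext η fun p => by rw [Groth.Agent.H23EtaPt.ev_Nmap, kB])⟩
  have h10 : g (1, 0) * g (0, 1) = 0 := by
    rw [← map_mul, Prod.mk_mul_mk, one_mul, zero_mul]; exact map_zero g
  rcases mul_eq_zero.mp h10 with h | h
  · obtain ⟨g', rfl⟩ : ∃ g', g = RingHom.comp g' (RingHom.snd A B) :=
      ⟨RingHom.liftOfSurjective (RingHom.snd A B) Prod.snd_surjective ⟨g, fun y hy => by
        rw [RingHom.mem_ker] at hy ⊢
        rw [show y = y * (1, 0) from Prod.ext (by simp) (by simpa using hy), map_mul, h, mul_zero]⟩,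
        (RingHom.liftOfRightInverse_comp _ _ _ ⟨g, _⟩).symm⟩
    obtain ⟨r, hr⟩ := Groth.Agent.H23EtaPt.exists_of_mem_M η hb hR g'
    exact ⟨r, fun P => by rw [← RingHom.comp_assoc, kB, hr]⟩
  · obtain ⟨g', rfl⟩ : ∃ g', g = RingHom.comp g' (RingHom.fst A B) :=
      ⟨RingHom.liftOfSurjective (RingHom.fst A B) Prod.fst_surjective ⟨g, fun y hy => by
        rw [RingHom.mem_ker] at hy ⊢
        rw [show y = y * (0, 1) from Prod.ext (by simpa using hy) (by simp), map_mul, h, mul_zero]⟩,
        (RingHom.liftOfRightInverse_comp _ _ _ ⟨g, _⟩).symm⟩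
    obtain ⟨r, hr⟩ := Groth.Agent.H23EtaPt.exists_of_mem_M η ha hR g'
    exact ⟨r, fun P => by rw [← RingHom.comp_assoc, kA, hr]⟩

end Groth.Agent.S13810
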