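import Groth.Statements.S13814
import Groth.Agent.H23EtaPt.Val

set_option autoImplicit false
universe u
open EtaPt

namespace Groth.Agent.S13814

/-- Let R be a valuation ring with fraction field K = k((0)) such that η is bijective at K, or such that
every field of the same characteristic as R at which η is bijective is perfect. Then the ring M_η(R)
is again a valuation ring, every element of F(K) is a quotient of generic components of elements of
M_η(R), and an element of F(K) that is both the generic component of an element of M_η(R) and in the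
image of K comes from R. (The published statement assumes nothing about η beyond the standing
conditions, and then fails: for the endofunctor equal to the perfect closure on the fields of
characteristic 2 and transcendence degree at least 2 over the prime field and to the identity on
every other field, and R = F_2(s)[t] localised at (t), neither of the elements (s^(1/2) t, 0) and
(t, 0) of M_η(R) ⊆ F(K) × F_2(s) divides the other, so M_η(R) is not a valuation ring. This row
assumes that η is bijective at Frac R, or that every field of the same characteristic as R at which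
η is bijective is perfect; both the identity and the perfect closure satisfy this.) Here η is a
natural transformation from the identity of the category of fields to an endofunctor F with F(η_K)
bijective and η_K purely inseparable for every field K, N_η(A) is the product of the F(k(p)) over
the primes p of A with diagonal map t_A, and M_η(A) ⊆ N_η(A) is the subring of elements sent into
the range of t_R by every ring map from A to a valuation ring R at whose fraction field η is
bijective; q_A : A → M_η(A) is the corestriction of t_A. -/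
theorem result (η : EtaPt.FieldEndo.{u}) (R : Type u) [CommRing R] [IsDomain R] [ValuationRing R]
    (hη : η.InV R ∨ ∀ (k : Type u) [Field k], ringChar k = ringChar R →
      Function.Bijective (η.eta k) → PerfectField k) :
    IsDomain (η.M R) ∧ PreValuationRing (η.M R) ∧
      (∀ y : η.obj (⊥ : Ideal R).ResidueField, ∃ a b : η.M R,
        (b : η.N R) ⟨⊥, Ideal.isPrime_bot⟩ ≠ 0 ∧
          y * (b : η.N R) ⟨⊥, Ideal.isPrime_bot⟩ = (a : η.N R) ⟨⊥, Ideal.isPrime_bot⟩) ∧
      (fun x : η.N R => x ⟨⊥, Ideal.isPrime_bot⟩) '' (η.M R : Set (η.N R)) ∩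
          Set.range (η.eta (⊥ : Ideal R).ResidueField) =
        Set.range ((η.eta (⊥ : Ideal R).ResidueField).comp (algebraMap R (⊥ : Ideal R).ResidueField)) := by
  haveI := Groth.Agent.H23EtaPt.isFractionRing_residueField_bot (A := R)
  let o : PrimeSpectrum R := ⟨⊥, Ideal.isPrime_bot⟩
  let i : R →+* η.obj (⊥ : Ideal R).ResidueField := (η.eta _).comp (algebraMap R _)
  let E : η.M R →+* η.obj (⊥ : Ideal R).ResidueField := Groth.Agent.H23EtaPt.evM η o
  have hE : Function.Injective E := fun a b h => Subtype.ext (Groth.Agent.H23EtaPt.injOn_generic η a.2 b.2 h)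
  have hint : ∀ y, i.IsIntegralElem y → ∃ a : η.M R, E a = y := fun y hy => by
    obtain ⟨x, hx, hxy⟩ := Groth.Agent.H23EtaPt.exists_mem_M_of_integral η hη hy
    exact ⟨⟨x, hx⟩, hxy⟩
  letI := i.toAlgebra
  have hQ : ∀ y : η.obj (⊥ : Ideal R).ResidueField, ∃ Q : ℕ, 0 < Q ∧ ∃ z, η.eta _ z = y ^ Q := fun y => by
    obtain ⟨n, hn⟩ := η.exists_pow_mem_range_eta _ y
    exact ⟨_, pow_pos (expChar_pos (⊥ : Ideal R).ResidueField (ringExpChar _)) n, hn⟩
  haveI hdom : IsDomain (η.M R) := hE.isDomain E
  refine ⟨hdom, ⟨fun a b => ?_⟩, fun y => ?_, ?_⟩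
  · by_cases ha : E a = 0
    · exact ⟨0, Or.inr (by rw [mul_zero]; exact (hE (ha.trans (map_zero E).symm)).symm)⟩
    by_cases hb : E b = 0
    · exact ⟨0, Or.inl (by rw [mul_zero]; exact (hE (hb.trans (map_zero E).symm)).symm)⟩
    have key : ∀ (u v : η.M R) (Q : ℕ), 0 < Q → E u ≠ 0 → ∀ r : R, (E v / E u) ^ Q = i r → ∃ c, u * c = v :=
      fun u v Q hQ0 hu r hr => by
        obtain ⟨c, hc⟩ := hint (E v / E u) (IsIntegral.of_pow (R := R) hQ0 (hr ▸ isIntegral_algebraMap))
        exact ⟨c, hE (by rw [map_mul, hc, mul_div_cancel₀ _ hu])⟩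
    obtain ⟨Q, hQ0, z, hz⟩ := hQ (E b / E a)
    rcases ValuationRing.isInteger_or_isInteger R z with ⟨r, hr⟩ | ⟨r, hr⟩
    · obtain ⟨c, hc⟩ := key a b Q hQ0 ha r (by rw [← hz, ← hr]; rfl)
      exact ⟨c, Or.inl hc⟩
    · obtain ⟨c, hc⟩ := key b a Q hQ0 hb r (by
        rw [← inv_div, inv_pow, ← hz, ← map_inv₀, ← hr]; rfl)
      exact ⟨c, Or.inr hc⟩
  · obtain ⟨Q, hQ0, z, hz⟩ := hQ y
    obtain ⟨a₀, b₀, hb₀, rfl⟩ := IsFractionRing.div_surjective R z
    have hb' : algebraMap R (⊥ : Ideal R).ResidueField b₀ ≠ 0 := by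
      simpa using nonZeroDivisors.ne_zero hb₀
    obtain ⟨Q', rfl⟩ := Nat.exists_eq_succ_of_ne_zero hQ0.ne'
    obtain ⟨a, ha⟩ := hint (y * i b₀) (IsIntegral.of_pow (R := R) hQ0 (by
      have h : (y * i b₀) ^ (Q' + 1) = i (a₀ * b₀ ^ Q') := by
        show (y * η.eta _ (algebraMap R (⊥ : Ideal R).ResidueField b₀)) ^ (Q' + 1) = η.eta _ (algebraMap R (⊥ : Ideal R).ResidueField (a₀ * b₀ ^ Q'))
        rw [mul_pow, ← hz, ← map_pow, ← map_mul, map_mul (algebraMap _ _), map_pow (algebraMap _ _), pow_succ',
          ← mul_assoc, div_mul_cancel₀ _ hb']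
      rw [h]; exact isIntegral_algebraMap))
    exact ⟨a, η.q R b₀, (map_ne_zero (η.eta _)).mpr hb', ha.symm⟩
  · refine Set.Subset.antisymm ?_ ?_
    · rintro y ⟨hy, z, rfl⟩
      rw [Groth.Agent.H23EtaPt.image_generic η hη] at hy
      obtain ⟨r, rfl⟩ := Groth.Agent.H23EtaPt.exists_eq_of_isIntegralElem _ hy
      exact ⟨r, rfl⟩
    · rintro _ ⟨r, rfl⟩
      exact ⟨⟨η.t R r, η.t_mem_M R r, rfl⟩, ⟨algebraMap R _ r, rfl⟩⟩

end Groth.Agent.S13814
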