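import Groth.Statements.S13816
import Groth.Agent.H23EtaPt.Loc
import Mathlib.FieldTheory.IsAlgClosed.AlgebraicClosure

set_option autoImplicit false
universe u
open EtaPt

namespace Groth.Agent.S13816

/-- If f : A → B is an integral ring map with Spec(f) surjective, then an element of N_η(A) lies in
M_η(A) if and only if its image under N_η(f) lies in M_η(B). Here η is a natural transformation from
the identity of the category of fields to an endofunctor F with F(η_K) bijective and η_K purely
inseparable for every field K, N_η(A) is the product of the F(k(p)) over the primes p of A with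
diagonal map t_A, and M_η(A) ⊆ N_η(A) is the subring of elements sent into the range of t_R by every
ring map from A to a valuation ring R at whose fraction field η is bijective; q_A : A → M_η(A) is
the corestriction of t_A. -/
theorem result (η : EtaPt.FieldEndo.{u}) {A B : Type u} [CommRing A] [CommRing B] (f : A →+* B)
    (hf : f.IsIntegral) (hs : Function.Surjective (PrimeSpectrum.comap f)) (x : η.N A) :
    x ∈ η.M A ↔ η.Nmap f x ∈ η.M B := by
  refine ⟨fun hx => Groth.Agent.H23EtaPt.Nmap_mem_M η hx f, fun hx =>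
    Groth.Agent.H23EtaPt.mem_M_of η fun R _ _ _ hR g => ?_⟩
  let K := FractionRing R
  let L := AlgebraicClosure K
  have hL : Groth.Agent.H23EtaPt.Closed η L := by
    refine ⟨(η.eta L).injective, fun y => ?_⟩
    obtain ⟨n, c, hc⟩ := η.exists_pow_mem_range_eta L y
    obtain ⟨d, hd⟩ := IsAlgClosed.exists_pow_nat_eq c (pow_pos (expChar_pos L (ringExpChar L)) n)
    haveI : ExpChar (η.obj L) (ringExpChar L) := expChar_of_injective_ringHom (η.eta L).injective _
    exact ⟨d, Groth.Agent.H23EtaPt.pow_inj (ringExpChar L) (n := n) (by rw [← map_pow, hd, hc])⟩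
  have hK : Groth.Agent.H23EtaPt.Closed η K := hR
  let i : K →+* L := algebraMap K L
  obtain ⟨φ', hφ'⟩ := Groth.Agent.H23EtaPt.exists_point_of_integral f hf hs ((i.comp (algebraMap R K)).comp g)
  set φ : A →+* K := (algebraMap R K).comp g
  have hi : Groth.Agent.H23EtaPt.val η hL φ' (η.Nmap f x) = i (Groth.Agent.H23EtaPt.val η hK φ x) := by
    apply (η.eta L).injective
    rw [Groth.Agent.H23EtaPt.eta_val, ← Groth.Agent.H23EtaPt.map_eta, Groth.Agent.H23EtaPt.eta_val,
      Groth.Agent.H23EtaPt.ev_Nmap, Groth.Agent.H23EtaPt.map_ev, hφ', RingHom.comp_assoc]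
  obtain ⟨r, hr⟩ : ∃ r, algebraMap R K r = Groth.Agent.H23EtaPt.val η hK φ x := by
    have h := Groth.Agent.H23EtaPt.isIntegralElem_val η hx hL φ'
    letI := f.toAlgebra
    haveI : Algebra.IsIntegral A B := ⟨hf⟩
    letI := φ'.toAlgebra
    letI := (φ'.comp f).toAlgebra
    haveI : IsScalarTower A B L := IsScalarTower.of_algebraMap_eq' rfl
    obtain ⟨P, hP, h0⟩ := isIntegral_trans (R := A) _ h
    refine Groth.Agent.H23EtaPt.mem_of_isIntegralElem (g := g) ⟨P, hP, i.injective ?_⟩
    change Polynomial.eval₂ (φ'.comp f) _ P = 0 at h0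
    rwa [Polynomial.hom_eval₂, map_zero, ← RingHom.comp_assoc, ← hφ', ← hi]
  refine ⟨r, fun P => ?_⟩
  obtain ⟨V, hV, hh, hker, hhh⟩ := Groth.Agent.H23EtaPt.exists_residue_hom (i.comp (algebraMap R K)) P
    (by rw [(RingHom.injective_iff_ker_eq_bot (i.comp (algebraMap R K))).mp
      (show Function.Injective (i.comp (algebraMap R K)) from i.injective.comp (IsFractionRing.injective R K))]; exact bot_le)
  have hVφ : ∀ b, φ' b ∈ V := fun b => by
    obtain ⟨Q, hQ, h0⟩ := hf b
    have hint : IsIntegral V (φ' b) := ⟨Q.map (((i.comp (algebraMap R K)).codRestrict V hV).comp g), hQ.map _, by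
      rw [Polynomial.eval₂_map]
      have : (algebraMap V L).comp (((i.comp (algebraMap R K)).codRestrict V hV).comp g) = φ'.comp f := by
        rw [hφ']; rfl
      rw [this, ← Polynomial.hom_eval₂, h0, map_zero]⟩
    obtain ⟨v, hv⟩ := Groth.Agent.H23EtaPt.mem_of_isIntegralElem (g := RingHom.id V) hint
    exact hv ▸ v.2
  obtain ⟨hm, hres⟩ := Groth.Agent.H23EtaPt.val_mem η hx hL φ' V hVφ
  apply Groth.Agent.H23EtaPt.map_injective η hh
  rw [Groth.Agent.H23EtaPt.map_ev, Groth.Agent.H23EtaPt.map_eta, ← RingHom.comp_assoc, ← RingHom.comp_apply hh, hhh]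
  have h := hres _ (IsLocalRing.residue V)
  rw [Groth.Agent.H23EtaPt.ev_Nmap] at h
  refine (Eq.trans ?_ h).trans (congrArg (η.eta _) ?_)
  · congr 2
    rw [RingHom.comp_assoc, RingHom.comp_assoc]
    congr 1
    exact RingHom.ext fun a => Subtype.ext (RingHom.congr_fun hφ' a).symm
  · refine congrArg (IsLocalRing.residue V) (Subtype.ext ?_)
    show Groth.Agent.H23EtaPt.val η hL φ' (η.Nmap f x) = i (algebraMap R K r)
    rw [hi, hr]

end Groth.Agent.S13816
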