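import Groth.Statements.S13820
import Groth.Agent.H23EtaPt.Extra

set_option autoImplicit false
universe u
open EtaPt

namespace Groth.Agent.S13820

/-- Let A have finitely many minimal prime ideals and let B be an A-algebra with Spec B → Spec A
surjective, C the integral closure of A in B; then the inclusion C ⊆ B carries (C/A)_η onto (B/A)_η.
Here η is a natural transformation from the identity of the category of fields to an endofunctor F
with F(η_K) bijective and η_K purely inseparable for every field K, N_η(A) is the product of the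
F(k(p)) over the primes p of A with diagonal map t_A, and M_η(A) ⊆ N_η(A) is the subring of elements
sent into the range of t_R by every ring map from A to a valuation ring R at whose fraction field η
is bijective; q_A : A → M_η(A) is the corestriction of t_A. For a ring map f : A → B, (B/A)_η ⊆ B
denotes the subring of elements b with t_B(b) in N_η(f)(M_η(A)) (the image in B of the fibre product
of M_η(A) and B over M_η(B)), and q_{B/A} : A → (B/A)_η the corestriction of f. -/
theorem result (η : EtaPt.FieldEndo.{u}) (A B : Type u) [CommRing A] [CommRing B] [Algebra A B]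
    (hA : (minimalPrimes A).Finite) (hs : Function.Surjective (PrimeSpectrum.comap (algebraMap A B))) :
    (η.rel (algebraMap A (integralClosure A B))).map (integralClosure A B).val.toRingHom =
      η.rel (algebraMap A B) := by
  let C := integralClosure A B
  have hcomp : C.val.toRingHom.comp (algebraMap A C) = algebraMap A B := rfl
  refine le_antisymm ?_ ?_
  · rintro _ ⟨c, hc, rfl⟩
    obtain ⟨x, hx, h⟩ := hc
    refine ⟨x, hx, ?_⟩
    rw [← hcomp, ← Groth.Agent.H23EtaPt.Nmap_Nmap, h, η.Nmap_t_apply]
  · intro b hb
    have hint := Groth.Agent.H23EtaPt.isIntegral_qRel η hA (algebraMap A B) hs ⟨b, hb⟩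
    obtain ⟨P, hP, h0⟩ := hint
    have hbC : b ∈ C := ⟨P, hP, by
      have := congrArg (η.rel (algebraMap A B)).subtype h0
      rw [Polynomial.hom_eval₂, map_zero] at this
      exact this⟩
    refine ⟨⟨b, hbC⟩, ?_, rfl⟩
    obtain ⟨x, hx, h⟩ := hb
    refine ⟨x, hx, Groth.Agent.H23EtaPt.ext_minimal η (Groth.Agent.H23EtaPt.Nmap_mem_M η hx _)
      (η.t_mem_M _ _) fun p hp => ?_⟩
    obtain ⟨Q, hQ, hQp⟩ := Ideal.exists_comap_eq_of_mem_minimalPrimes_of_injective
      (f := C.val.toRingHom) Subtype.val_injective p.asIdeal hp
    obtain rfl : p = PrimeSpectrum.comap C.val.toRingHom ⟨Q, hQ⟩ := PrimeSpectrum.ext hQp.symm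
    have h1 : η.Nmap C.val.toRingHom (η.Nmap (algebraMap A C) x) = η.Nmap C.val.toRingHom (η.t C ⟨b, hbC⟩) := by
      rw [Groth.Agent.H23EtaPt.Nmap_Nmap, hcomp, h, η.Nmap_t_apply]; rfl
    exact Groth.Agent.H23EtaPt.map_injective η _ (congrFun h1 ⟨Q, hQ⟩)

end Groth.Agent.S13820
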