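import Groth.Statements.S13822
import Groth.Agent.H23EtaPt.Extra
import Mathlib.RingTheory.Flat.FaithfullyFlat.Algebra

set_option autoImplicit false
universe u
open scoped TensorProduct
open EtaPt

namespace Groth.Agent.S13822

/-- Let A → A' be faithfully flat with A and A' having finitely many minimal prime ideals, and B an
A-algebra with Spec B → Spec A surjective; if q_{(A' ⊗ B)/A'} is bijective then q_{B/A} is
bijective. Here η is a natural transformation from the identity of the category of fields to an
endofunctor F with F(η_K) bijective and η_K purely inseparable for every field K, N_η(A) is the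
product of the F(k(p)) over the primes p of A with diagonal map t_A, and M_η(A) ⊆ N_η(A) is the
subring of elements sent into the range of t_R by every ring map from A to a valuation ring R at
whose fraction field η is bijective; q_A : A → M_η(A) is the corestriction of t_A. For a ring map f
: A → B, (B/A)_η ⊆ B denotes the subring of elements b with t_B(b) in N_η(f)(M_η(A)) (the image in B
of the fibre product of M_η(A) and B over M_η(B)), and q_{B/A} : A → (B/A)_η the corestriction of f. -/
theorem result (η : EtaPt.FieldEndo.{u}) (A A' B : Type u) [CommRing A] [CommRing A'] [CommRing B]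
    [Algebra A A'] [Algebra A B] [Module.FaithfullyFlat A A']
    (hA : (minimalPrimes A).Finite) (hA' : (minimalPrimes A').Finite)
    (hs : Function.Surjective (PrimeSpectrum.comap (algebraMap A B)))
    (h : Function.Bijective (η.qRel (Algebra.TensorProduct.includeLeftRingHom : A' →+* A' ⊗[A] B))) :
    Function.Bijective (η.qRel (algebraMap A B)) := by
  let j' : A' →+* A' ⊗[A] B := Algebra.TensorProduct.includeLeftRingHom
  let g : B →+* A' ⊗[A] B := (Algebra.TensorProduct.includeRight (R := A)).toRingHom
  have hcomm : j'.comp (algebraMap A A') = g.comp (algebraMap A B) := RingHom.ext fun a => by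
    simp [j', g, Algebra.TensorProduct.algebraMap_apply, ← Algebra.TensorProduct.tmul_one_eq_one_tmul]
  refine ⟨fun a a' he => ?_, fun b => ?_⟩
  · have he' : algebraMap A B a = algebraMap A B a' := congrArg Subtype.val he
    refine FaithfulSMul.algebraMap_injective A A' (h.1 (Subtype.ext ?_))
    show j' (algebraMap A A' a) = j' (algebraMap A A' a')
    rw [← RingHom.comp_apply, ← RingHom.comp_apply j' (algebraMap A A'), hcomm]
    exact congrArg g he'
  · obtain ⟨x, hx, hb⟩ := b.2
    have hgb : g b ∈ η.rel j' := ⟨η.Nmap (algebraMap A A') x, Groth.Agent.H23EtaPt.Nmap_mem_M η hx _, by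
      rw [Groth.Agent.H23EtaPt.Nmap_Nmap, hcomm, ← Groth.Agent.H23EtaPt.Nmap_Nmap, hb, η.Nmap_t_apply]⟩
    obtain ⟨a', ha'⟩ := h.2 ⟨g b, hgb⟩
    have ha : j' a' = g b := congrArg Subtype.val ha'
    let R := LinearMap.range (Algebra.linearMap A B)
    have h0 : TensorProduct.mk A A' (B ⧸ R) 1 (R.mkQ (b : B)) = 0 := by
      have := congrArg (LinearMap.lTensor A' R.mkQ) ha
      simp only [j', g, Algebra.TensorProduct.includeLeftRingHom_apply, AlgHom.toRingHom_eq_coe, RingHom.coe_coe,
        Algebra.TensorProduct.includeRight_apply, LinearMap.lTensor_tmul] at this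
      rw [TensorProduct.mk_apply, ← this, show R.mkQ (1 : B) = 0 from (Submodule.Quotient.mk_eq_zero R).mpr ⟨1, by simp⟩,
        TensorProduct.tmul_zero]
    have h1 := Module.FaithfullyFlat.tensorProduct_mk_injective (A := A) (B := A') (B ⧸ R) (h0.trans (map_zero _).symm)
    obtain ⟨a, ha⟩ := (Submodule.Quotient.mk_eq_zero R).mp h1
    exact ⟨a, Subtype.ext ha⟩

end Groth.Agent.S13822
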