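import Groth.Statements.S13823
import Groth.Agent.H23EtaPt.Universal
import Mathlib.RingTheory.Flat.FaithfullyFlat.Algebra

set_option autoImplicit false
universe u
open EtaPt

namespace Groth.Agent.S13823

/-- Let A → A' be faithfully flat with A and A' having finitely many minimal prime ideals, and let Ā, Ā'
be the integral closures of A, A' in their total rings of fractions; if q_{Ā'/A'} is bijective then
q_{Ā/A} is bijective. Here η is a natural transformation from the identity of the category of fields
to an endofunctor F with F(η_K) bijective and η_K purely inseparable for every field K, N_η(A) is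
the product of the F(k(p)) over the primes p of A with diagonal map t_A, and M_η(A) ⊆ N_η(A) is the
subring of elements sent into the range of t_R by every ring map from A to a valuation ring R at
whose fraction field η is bijective; q_A : A → M_η(A) is the corestriction of t_A. For a ring map f
: A → B, (B/A)_η ⊆ B denotes the subring of elements b with t_B(b) in N_η(f)(M_η(A)) (the image in B
of the fibre product of M_η(A) and B over M_η(B)), and q_{B/A} : A → (B/A)_η the corestriction of f. -/
theorem result (η : EtaPt.FieldEndo.{u}) (A A' : Type u) [CommRing A] [CommRing A'] [Algebra A A'] [Module.FaithfullyFlat A A']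
    (hA : (minimalPrimes A).Finite) (hA' : (minimalPrimes A').Finite)
    (h : Function.Bijective (η.qRel (algebraMap A' (integralClosure A' (FractionRing A'))))) :
    Function.Bijective (η.qRel (algebraMap A (integralClosure A (FractionRing A)))) := by
  have hnz : ∀ s : A, s ∈ nonZeroDivisors A → algebraMap A A' s ∈ nonZeroDivisors A' := fun s hs => by
    have h1 : IsSMulRegular A' (algebraMap A A' s) :=
      IsSMulRegular.of_flat (show IsSMulRegular A s from fun y z e => (mem_nonZeroDivisors_iff_right.mp hs |>
        fun H => sub_eq_zero.mp (H (y - z) (by rw [mul_comm, mul_sub]; exact sub_eq_zero.mpr e))))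
    exact mem_nonZeroDivisors_iff_right.mpr fun y hy => h1 (show algebraMap A A' s * y = algebraMap A A' s * 0 by
      rw [mul_zero, mul_comm]; exact hy)
  let g : FractionRing A →+* FractionRing A' := IsLocalization.map _ (algebraMap A A')
    (T := nonZeroDivisors A') fun s hs => hnz s hs
  have hg : ∀ a, g (algebraMap A _ a) = algebraMap A' _ (algebraMap A A' a) := fun a => IsLocalization.map_eq _ a
  have hmem : ∀ b : integralClosure A (FractionRing A), g b ∈ integralClosure A' (FractionRing A') := fun b => by
    obtain ⟨P, hP, h0⟩ := b.2
    exact ⟨P.map (algebraMap A A'), hP.map _, by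
      rw [Polynomial.eval₂_map, show (algebraMap A' (FractionRing A')).comp (algebraMap A A') = g.comp (algebraMap A _)
        from (RingHom.ext hg).symm, ← Polynomial.hom_eval₂, h0, map_zero]⟩
  let gb : integralClosure A (FractionRing A) →+* integralClosure A' (FractionRing A') :=
    (g.comp (integralClosure A (FractionRing A)).val.toRingHom).codRestrict _ hmem
  have hcomm : gb.comp (algebraMap A _) = (algebraMap A' _).comp (algebraMap A A') :=
    RingHom.ext fun a => Subtype.ext (hg a)
  refine ⟨fun a a' e => IsFractionRing.injective A (FractionRing A)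
    (congrArg (fun z : η.rel (algebraMap A (integralClosure A (FractionRing A))) => ((z : integralClosure A (FractionRing A)) : FractionRing A)) e),
    fun b => ?_⟩
  obtain ⟨x, hx, hb⟩ := b.2
  have hb' : gb b ∈ η.rel (algebraMap A' (integralClosure A' (FractionRing A'))) :=
    ⟨η.Nmap (algebraMap A A') x, Groth.Agent.H23EtaPt.Nmap_mem_M η hx _, by
      rw [Groth.Agent.H23EtaPt.Nmap_Nmap, ← hcomm, ← Groth.Agent.H23EtaPt.Nmap_Nmap, hb, η.Nmap_t_apply]⟩
  obtain ⟨a', ha'⟩ := h.2 ⟨gb b, hb'⟩
  have ha : algebraMap A' (FractionRing A') a' = g (b.1 : FractionRing A) := congrArg (fun z :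
    η.rel (algebraMap A' (integralClosure A' (FractionRing A'))) => ((z : integralClosure A' (FractionRing A')) : FractionRing A')) ha'
  obtain ⟨⟨a, s⟩, hs⟩ := IsLocalization.surj (nonZeroDivisors A) (b.1 : FractionRing A)
  have h1 : a' * algebraMap A A' s = algebraMap A A' a := IsFractionRing.injective A' (FractionRing A') (by
    rw [map_mul, ha, ← hg, ← map_mul, hs, hg])
  have h2 : algebraMap A A' a ∈ Ideal.map (algebraMap A A') (Ideal.span {(s : A)}) := by
    rw [← h1]
    exact Ideal.mul_mem_left _ _ (Ideal.mem_map_of_mem _ (Ideal.mem_span_singleton_self _))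
  have h3 : a ∈ Ideal.span {(s : A)} := by
    rw [← Ideal.comap_map_eq_self_of_faithfullyFlat (B := A') (Ideal.span {(s : A)})]
    exact h2
  obtain ⟨c, rfl⟩ := Ideal.mem_span_singleton'.mp h3
  refine ⟨c, Subtype.ext (Subtype.ext ((IsLocalization.map_units (FractionRing A) s).mul_right_cancel ?_))⟩
  rw [hs, map_mul]
  rfl

end Groth.Agent.S13823
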