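import Groth.Statements.S13824
import Groth.Agent.H23EtaPt.Loc

set_option autoImplicit false
universe u
open EtaPt

namespace Groth.Agent.S13824

/-- For a commutative ring A and f ∈ A, N_η(A)[1/t_A(f)] → N_η(A_f) is bijective: every element of
N_η(A_f) times a power of the image of f comes from N_η(A), and an element of N_η(A) dies in
N_η(A_f) only if a power of t_A(f) kills it. Here η is a natural transformation from the identity of
the category of fields to an endofunctor F with F(η_K) bijective and η_K purely inseparable for
every field K, N_η(A) is the product of the F(k(p)) over the primes p of A with diagonal map t_A,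
and M_η(A) ⊆ N_η(A) is the subring of elements sent into the range of t_R by every ring map from A
to a valuation ring R at whose fraction field η is bijective; q_A : A → M_η(A) is the corestriction
of t_A. -/
theorem result (η : EtaPt.FieldEndo.{u}) (A : Type u) [CommRing A] (f : A) :
    (∀ y : η.N (Localization.Away f), ∃ (x : η.N A) (n : ℕ),
        y * η.t (Localization.Away f) (algebraMap A (Localization.Away f) f) ^ n =
          η.Nmap (algebraMap A (Localization.Away f)) x) ∧
      ∀ x : η.N A, η.Nmap (algebraMap A (Localization.Away f)) x = 0 → ∃ n : ℕ, η.t A f ^ n * x = 0 := by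
  refine ⟨fun y => ?_, fun x hx => ⟨1, by rw [pow_one]; exact Groth.Agent.H23EtaPt.t_mul_eq_zero η f hx⟩⟩
  obtain ⟨x, hx, -⟩ := Groth.Agent.H23EtaPt.exists_ext0 η f y
  exact ⟨x, 0, by rw [pow_zero, mul_one, hx]⟩

end Groth.Agent.S13824
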