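import Groth.Statements.S13826
import Groth.Agent.H23EtaPt.Ident

set_option autoImplicit false
universe u
open EtaPt

namespace Groth.Agent.S13826

/-- For the identity endofunctor and a commutative ring A with finitely many minimal prime ideals, q_A :
A → M(A) is a seminormalization of A: Spec(q_A) is a universal homeomorphism with trivial residue
field extensions, final among ring maps out of A with these properties. Here M(A) ⊆ ∏_p k(p) is the
subring of families whose image in ∏_q k(q), for every ring map from A to a valuation ring R, is the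
diagonal image of an element of R. -/
theorem result (A : Type u) [CommRing A] (hA : (minimalPrimes A).Finite) :
    HTop.IsRingSN (EtaPt.FieldEndo.ident.{u}.q A) := by
  refine ⟨Groth.Agent.H23EtaPt.subintegral_of_Nmap_bijective _ (Groth.Agent.H23EtaPt.isIntegral_q _ hA)
    (fun a ha => Groth.Agent.H23EtaPt.isNilpotent_of_t_eq_zero _ (congrArg Subtype.val ha))
    (Groth.Agent.H23EtaPt.q_points _ hA).2, fun C _ ψ h₁ h₂ => ?_⟩
  obtain ⟨hi, hN⟩ := Groth.Agent.H23EtaPt.Nmap_bijective_of_subintegral ψ h₁ h₂
  obtain ⟨χ, hχ, -⟩ := Groth.Agent.H23EtaPt.exists_descent _ ψ hi hN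
  exact ⟨χ, hχ, fun χ' h' => Groth.Agent.H23EtaPt.descent_unique _ ψ hN (h'.trans hχ.symm)⟩

end Groth.Agent.S13826
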