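import Groth.Statements.S13827
import Groth.Agent.H23EtaPt.Loc
import Mathlib.RingTheory.LocalProperties.Reduced

set_option autoImplicit false
universe u
open EtaPt

namespace Groth.Agent.S13827

/-- For a normal ring A (every localization at a prime is an integrally closed domain) with finitely
many minimal prime ideals such that η is bijective at the residue field of every minimal prime, q_A
: A → M_η(A) is bijective. Here η is a natural transformation from the identity of the category of
fields to an endofunctor F with F(η_K) bijective and η_K purely inseparable for every field K,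
N_η(A) is the product of the F(k(p)) over the primes p of A with diagonal map t_A, and M_η(A) ⊆
N_η(A) is the subring of elements sent into the range of t_R by every ring map from A to a valuation
ring R at whose fraction field η is bijective; q_A : A → M_η(A) is the corestriction of t_A. -/
theorem result (η : EtaPt.FieldEndo.{u}) (A : Type u) [CommRing A] (hn : EGA4.IsNormalRing A)
    (hA : (minimalPrimes A).Finite)
    (hη : ∀ p : PrimeSpectrum A, p.asIdeal ∈ minimalPrimes A → Function.Bijective (η.eta p.asIdeal.ResidueField)) :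
    Function.Bijective (η.q A) := by
  classical
  have hred : IsReduced A := ⟨fun a ⟨n, ha⟩ => by
    refine eq_zero_of_localization _ fun J hJ => ?_
    haveI := (hn J).1
    exact IsReduced.eq_zero _ ⟨n, by rw [← map_pow, ha, map_zero]⟩⟩
  refine ⟨fun a a' h => sub_eq_zero.mp (IsReduced.eq_zero _ (Groth.Agent.H23EtaPt.isNilpotent_of_t_eq_zero η
    (by rw [map_sub, sub_eq_zero]; exact congrArg Subtype.val h))), fun x => ?_⟩
  let I : Ideal A :=
    { carrier := {s | η.t A s * (x : η.N A) ∈ Set.range (η.t A)}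
      add_mem' := fun {s s'} ⟨a, ha⟩ ⟨a', ha'⟩ => ⟨a + a', by rw [map_add, map_add, ha, ha', add_mul]⟩
      zero_mem' := ⟨0, by rw [map_zero, zero_mul]⟩
      smul_mem' := fun c {s} ⟨a, ha⟩ => ⟨c * a, by rw [smul_eq_mul, map_mul, map_mul, ha, mul_assoc]⟩ }
  suffices hI : I = ⊤ by
    obtain ⟨a, ha⟩ : (1 : A) ∈ I := hI ▸ Submodule.mem_top
    exact ⟨a, Subtype.ext (show η.t A a = x by rw [ha, map_one, one_mul])⟩
  by_contra hne
  obtain ⟨J, hJ, hIJ⟩ := Ideal.exists_le_maximal I hne
  haveI := (hn J).1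
  haveI := (hn J).2
  let l := algebraMap A (Localization.AtPrime J)
  let q : PrimeSpectrum A := ⟨RingHom.ker l, RingHom.ker_isPrime l⟩
  haveI : q.asIdeal.IsPrime := q.isPrime
  have hann : ∀ a ∈ q.asIdeal, ∃ u ∉ J, u * a = 0 := fun a ha => by
    obtain ⟨⟨u, hu⟩, h⟩ := (IsLocalization.map_eq_zero_iff J.primeCompl (Localization.AtPrime J) a).mp ha
    exact ⟨u, hu, h⟩
  have hqJ : q.asIdeal ≤ J := fun a ha => by
    obtain ⟨u, hu, h⟩ := hann a ha
    exact (Ideal.IsPrime.mem_or_mem inferInstance (h ▸ zero_mem J)).resolve_left hu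
  have hle : ∀ q' : Ideal A, q'.IsPrime → q' ≤ J → q.asIdeal ≤ q' := fun q' hq' hle a ha => by
    obtain ⟨u, hu, h⟩ := hann a ha
    exact (hq'.mem_or_mem (h ▸ zero_mem q')).resolve_left fun h' => hu (hle h')
  have hqmin : q.asIdeal ∈ minimalPrimes A :=
    ⟨⟨q.2, bot_le⟩, fun q' hq' h => hle q' hq'.1 (h.trans hqJ)⟩
  obtain ⟨z, hz⟩ := (hη q hqmin).2 ((x : η.N A) q)
  let lr : Localization.AtPrime J →+* q.asIdeal.ResidueField :=
    IsLocalization.lift (M := J.primeCompl) (g := algebraMap A q.asIdeal.ResidueField) fun ⟨u, hu⟩ =>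
      isUnit_iff_ne_zero.mpr fun h => hu (hqJ (Ideal.algebraMap_residueField_eq_zero.mp h))
  letI := lr.toAlgebra
  have hlr : ∀ a, lr (l a) = algebraMap A q.asIdeal.ResidueField a := fun a => IsLocalization.lift_eq _ a
  haveI : IsFractionRing (Localization.AtPrime J) q.asIdeal.ResidueField := by
    haveI : FaithfulSMul (Localization.AtPrime J) q.asIdeal.ResidueField := (faithfulSMul_iff_algebraMap_injective _ _).mpr
      ((injective_iff_map_eq_zero lr).mpr fun c hc => by
        obtain ⟨a, s, rfl⟩ := IsLocalization.exists_mk'_eq J.primeCompl c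
        rw [IsLocalization.lift_mk', Units.mul_left_eq_zero, Ideal.algebraMap_residueField_eq_zero] at hc
        rw [IsLocalization.mk'_eq_zero_iff]
        obtain ⟨u, hu, h⟩ := hann a hc
        exact ⟨⟨u, hu⟩, h⟩)
    exact IsFractionRing.of_field _ _ fun w => by
      obtain ⟨a, b, -, h⟩ := Groth.Agent.H23EtaPt.exists_div_eq q w
      exact ⟨l a, l b, by rw [h, ← hlr, ← hlr]; rfl⟩
  obtain ⟨P, hP, hP0⟩ := Groth.Agent.H23EtaPt.isIntegralElem_val η x.2 (Groth.Agent.H23EtaPt.closed_obj η _)
    (Groth.Agent.H23EtaPt.gpt η q)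
  rw [Groth.Agent.H23EtaPt.val_gpt, ← hz, Groth.Agent.H23EtaPt.gpt, ← Polynomial.hom_eval₂, map_eq_zero] at hP0
  obtain ⟨w, hw⟩ := IsIntegrallyClosed.isIntegral_iff.mp (show IsIntegral (Localization.AtPrime J) z from
    ⟨P.map l, hP.map l, by rw [Polynomial.eval₂_map, show (algebraMap (Localization.AtPrime J) q.asIdeal.ResidueField).comp l
      = algebraMap A q.asIdeal.ResidueField from RingHom.ext hlr, hP0]⟩)
  obtain ⟨a, ⟨s, hs⟩, rfl⟩ := IsLocalization.exists_mk'_eq J.primeCompl w
  change lr (IsLocalization.mk' _ a _) = z at hw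
  rw [IsLocalization.lift_mk'_spec] at hw
  let T := hA.toFinset.erase q.asIdeal
  have hnot : ¬ T.inf id ≤ J := fun h => by
    obtain ⟨q', hq', h'⟩ := (Ideal.IsPrime.inf_le' inferInstance).mp h
    obtain ⟨hne', hq'm⟩ := Finset.mem_erase.mp hq'
    have hm := hA.mem_toFinset.mp hq'm
    exact hne' (le_antisymm (hm.2 ⟨q.2, bot_le⟩ (hle q' hm.1.1 h')) (hle q' hm.1.1 h'))
  obtain ⟨u, huT, huJ⟩ := SetLike.not_le_iff_exists.mp hnot
  refine (Ideal.IsPrime.mem_or_mem inferInstance (hIJ (show u * s ∈ I from ⟨u * a, ?_⟩))).elim huJ hs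
  refine Groth.Agent.H23EtaPt.ext_minimal η (η.t_mem_M A _) (mul_mem (η.t_mem_M A _) x.2) fun p hp => ?_
  rw [map_mul, map_mul, mul_assoc, Pi.mul_apply, Pi.mul_apply, Pi.mul_apply]
  by_cases hpq : p.asIdeal = q.asIdeal
  · obtain rfl : p = q := PrimeSpectrum.ext hpq
    rw [← hz]
    show η.eta _ _ * η.eta _ _ = η.eta _ _ * (η.eta _ _ * η.eta _ z)
    rw [hw, map_mul]
  · have : η.t A u p = 0 := by
      show η.eta _ _ = 0
      have hu' : u ∈ p.asIdeal := Finset.inf_le (f := id) (Finset.mem_erase.mpr ⟨hpq, hA.mem_toFinset.mpr hp⟩) huT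
      rw [Ideal.algebraMap_residueField_eq_zero.mpr hu', map_zero]
    rw [this, zero_mul, zero_mul]

end Groth.Agent.S13827
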