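import Groth.Statements.S13831
import Mathlib

set_option autoImplicit false
universe u
open AlgebraicGeometry
open ChowMon

namespace Groth.Agent.S13831

/-- For a finite universal homeomorphism p : T' → T of Noetherian schemes there is an integer d ≥ 1 such
that for every point t' of T' over t the residue field degree [k(t') : k(t)] is a power of the
exponential characteristic of k(t) dividing d. -/
theorem result {T' T : Scheme.{u}} (p : T' ⟶ T) [IsFinite p] (hp : FlatMor.IsUnivHomeo p)
    [IsNoetherian T] [IsNoetherian T'] [T.IsSeparated] [T'.IsSeparated] :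
    ∃ d : ℕ, 0 < d ∧ ∀ t' : T', ∃ e : ℕ,
      @Module.finrank (T.residueField (p t')) (T'.residueField t') _ _
          (p.residueFieldMap t').hom.toAlgebra.toModule =
        ringExpChar (T.residueField (p t')) ^ e ∧
      ringExpChar (T.residueField (p t')) ^ e ∣ d := by
  classical
  haveI : UniversallyInjective p := by
    rw [universallyInjective_eq]
    exact CategoryTheory.MorphismProperty.universally_mono (fun _ _ f (hf : topologically (fun g => IsHomeomorph g) f) =>
      IsHomeomorph.injective hf) _ hp
  have hpi : ∀ t', (p.residueFieldMap t').hom.IsPurelyInseparable :=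
    (((tfae_universallyInjective (f := p)).out 0 2 rfl rfl).mp inferInstance).2
  have hU : ∀ t : T, ∃ U : T.Opens, IsAffineOpen U ∧ t ∈ U := fun t => by
    obtain ⟨U, hU, ht, -⟩ := exists_isAffineOpen_mem_and_subset (x := t) (U := ⊤) trivial
    exact ⟨U, hU, ht⟩
  choose U hUa hUm using hU
  obtain ⟨F, hF⟩ := isCompact_univ.elim_finite_subcover (fun t => (U t : Set T)) (fun t => (U t).2)
    (fun t _ => Set.mem_iUnion.mpr ⟨t, hUm t⟩)
  have hb : ∀ t : T, ∃ N : ℕ, ∀ t' : T', ∀ _ : p t' ∈ U t,
      @Module.finrank (T.residueField (p t')) (T'.residueField t') _ _ (p.residueFieldMap t').hom.toAlgebra.toModule ≤ N ∧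
      (p.residueFieldMap t').hom.Finite := by
    intro t
    letI : Algebra Γ(T, U t) Γ(T', p ⁻¹ᵁ U t) := (p.app (U t)).hom.toAlgebra
    haveI : Module.Finite Γ(T, U t) Γ(T', p ⁻¹ᵁ U t) := p.finite_app (U t) (hUa t)
    obtain ⟨S, hS⟩ := Module.Finite.fg_top (R := Γ(T, U t)) (M := Γ(T', p ⁻¹ᵁ U t))
    refine ⟨S.card, fun t' ht' => ?_⟩
    let K := T.residueField (p t')
    letI : Algebra K (T'.residueField t') := (p.residueFieldMap t').hom.toAlgebra
    let ev := (T'.evaluation (p ⁻¹ᵁ U t) t' ht').hom
    let W : Submodule K (T'.residueField t') := Submodule.span K (ev '' S)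
    have hev : ∀ b, ev b ∈ W := by
      intro b
      have hb : b ∈ Submodule.span Γ(T, U t) (S : Set Γ(T', p ⁻¹ᵁ U t)) := hS ▸ Submodule.mem_top
      induction hb using Submodule.span_induction with
      | mem x hx => exact Submodule.subset_span ⟨x, hx, rfl⟩
      | zero => rw [map_zero]; exact zero_mem _
      | add x y _ _ hx hy => rw [map_add]; exact add_mem hx hy
      | smul a x _ hx =>
        rw [Algebra.smul_def, map_mul]
        have : ev (p.app (U t) a) = algebraMap K (T'.residueField t') (T.evaluation (U t) (p t') ht' a) :=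
          (Scheme.evaluation_naturality_apply p t' ht' a).symm
        show ev (p.app (U t) a) * ev x ∈ W
        rw [this, ← Algebra.smul_def]
        exact W.smul_mem _ hx
    let Wa : Subalgebra K (T'.residueField t') := Algebra.adjoin K (Set.range ev)
    have hWa : Subalgebra.toSubmodule Wa ≤ W := by
      rw [Algebra.adjoin_eq_span, Submodule.span_le]
      intro z hz
      have hle : Submonoid.closure (Set.range ev) ≤ MonoidHom.mrange (ev : Γ(T', p ⁻¹ᵁ U t) →* T'.residueField t') :=
        Submonoid.closure_le.mpr (by rintro _ ⟨b, rfl⟩; exact ⟨b, rfl⟩)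
      obtain ⟨b, rfl⟩ := hle hz
      exact hev b
    haveI : FiniteDimensional K W := FiniteDimensional.span_of_finite K (S.finite_toSet.image _)
    haveI : FiniteDimensional K Wa := Submodule.finiteDimensional_of_le hWa
    letI : Field Wa := (isField_of_isIntegral_of_isField' (Field.toIsField K) : IsField Wa).toField
    have htop : ∀ z : T'.residueField t', z ∈ Wa := by
      intro z
      obtain ⟨z, rfl⟩ := T'.residue_surjective t' z
      have hV : IsAffineOpen (p ⁻¹ᵁ U t) := (hUa t).preimage p
      letI := T'.presheaf.algebra_section_stalk (U := p ⁻¹ᵁ U t) ⟨t', ht'⟩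
      haveI := hV.isLocalization_stalk ⟨t', ht'⟩
      obtain ⟨b, s, rfl⟩ := IsLocalization.exists_mk'_eq (hV.primeIdealOf ⟨t', ht'⟩).asIdeal.primeCompl z
      have h1 : (T'.residue t').hom (IsLocalization.mk' (T'.presheaf.stalk t') b s) * ev s = ev b := by
        show _ * (T'.residue t').hom (T'.presheaf.germ (p ⁻¹ᵁ U t) t' ht' (s : Γ(T', p ⁻¹ᵁ U t))) = (T'.residue t').hom (T'.presheaf.germ (p ⁻¹ᵁ U t) t' ht' b)
        rw [← map_mul]
        exact congrArg _ (IsLocalization.mk'_spec _ b s)
      have hs0 : ev s ≠ 0 := by
        have hu := IsLocalization.map_units (T'.presheaf.stalk t') s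
        exact (hu.map (T'.residue t').hom).ne_zero
      have hbmem : ev b ∈ Wa := Algebra.subset_adjoin ⟨b, rfl⟩
      have hsmem : ev s ∈ Wa := Algebra.subset_adjoin ⟨s, rfl⟩
      obtain ⟨i, hi⟩ : ∃ i : Wa, (⟨ev s, hsmem⟩ : Wa) * i = 1 :=
        (isField_of_isIntegral_of_isField' (Field.toIsField K) : IsField Wa).mul_inv_cancel
          (fun h => hs0 (congrArg Subtype.val h))
      have hi' : ev s * (i : T'.residueField t') = 1 := congrArg Subtype.val hi
      have : (T'.residue t').hom (IsLocalization.mk' (T'.presheaf.stalk t') b s) = ev b * i := by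
        rw [← h1, mul_assoc, hi', mul_one]
      exact this ▸ Wa.mul_mem hbmem i.2
    have hW : W = ⊤ := eq_top_iff.mpr fun z _ => hWa (htop z)
    haveI : FiniteDimensional K (T'.residueField t') := LinearEquiv.finiteDimensional (LinearEquiv.ofTop W hW)
    refine ⟨?_, show (algebraMap K (T'.residueField t')).Finite from RingHom.finite_algebraMap.mpr inferInstance⟩
    show Module.finrank K (T'.residueField t') ≤ S.card
    rw [← finrank_top, ← hW]
    have e : (ev '' S) = ((S.image ev : Finset _) : Set (T'.residueField t')) := by rw [Finset.coe_image]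
    show Module.finrank K (Submodule.span K (ev '' S)) ≤ _
    rw [e]
    exact (finrank_span_finset_le_card _).trans Finset.card_image_le
  choose N hN using hb
  refine ⟨(F.sup N).factorial, Nat.factorial_pos _, fun t' => ?_⟩
  obtain ⟨t, ht, hmem⟩ : ∃ t ∈ F, p t' ∈ U t := by
    have := hF (Set.mem_univ (p t'))
    simpa using this
  obtain ⟨hle, hfin⟩ := hN t t' hmem
  letI : Algebra (T.residueField (p t')) (T'.residueField t') := (p.residueFieldMap t').hom.toAlgebra
  haveI : IsPurelyInseparable (T.residueField (p t')) (T'.residueField t') := hpi t'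
  haveI : FiniteDimensional (T.residueField (p t')) (T'.residueField t') := hfin
  obtain ⟨e, he⟩ := IsPurelyInseparable.finrank_eq_pow (F := T.residueField (p t')) (E := T'.residueField t')
    (ringExpChar (T.residueField (p t')))
  refine ⟨e, he, ?_⟩
  rw [← he]
  exact Nat.dvd_factorial Module.finrank_pos (hle.trans (Finset.le_sup ht))

end Groth.Agent.S13831
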