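import Groth.Statements.S13834
import Mathlib
import Groth.Agent.H23Comp.Flat

set_option autoImplicit false
universe u
open AlgebraicGeometry
open EtaPt

namespace Groth.Agent.S13834

/-- If f : Y → X is faithfully flat and locally of finite presentation and each quasi-compact open
subset of X has only finitely many irreducible components, the same is true of each quasi-compact
open subset of Y. -/
theorem result {Y X : Scheme.{u}} (f : Y ⟶ X) [Flat f] [LocallyOfFinitePresentation f] [Surjective f]
    (hX : ∀ U : X.Opens, IsCompact (U : Set X) → (irreducibleComponents (U : Type u)).Finite)
    (V : Y.Opens) (hV : IsCompact (V : Set Y)) : (irreducibleComponents (V : Type u)).Finite := by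
  exact Groth.Agent.H23Comp.finite_of_flat f hX V hV

end Groth.Agent.S13834
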