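import Groth.Statements.S13835
import Mathlib

set_option autoImplicit false
universe u
open AlgebraicGeometry CategoryTheory
open ChowMon

namespace Groth.Agent.S13835

/-- Let p : T' → T be a universal homeomorphism of separated schemes with T reduced and f' : T' → Y a
morphism (Y separated); if T has an open cover by affine opens U_i such that each restriction of f'
to p⁻¹(U_i) factors through p⁻¹(U_i) → U_i, then f' factors through p. -/
theorem result {T' T Y : Scheme.{u}} (p : T' ⟶ T) (hp : FlatMor.IsUnivHomeo p) [IsReduced T]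
    [T.IsSeparated] [T'.IsSeparated] [Y.IsSeparated] (f' : T' ⟶ Y)
    {ι : Type u} (U : ι → T.affineOpens) (hU : ⨆ i, (U i : T.Opens) = ⊤)
    (hloc : ∀ i, ∃ fi : ((U i : T.Opens) : Scheme.{u}) ⟶ Y, (p ⁻¹ᵁ (U i : T.Opens)).ι ≫ f' = (p ∣_ (U i : T.Opens)) ≫ fi) :
    ∃ f : T ⟶ Y, p ≫ f = f' := by
  open CategoryTheory.Limits in
  haveI : Surjective p := ⟨(MorphismProperty.universally_le _ p hp : IsHomeomorph p).surjective⟩
  choose fi hfi using hloc
  let 𝒰 := T.openCoverOfIsOpenCover (fun i => (U i : T.Opens)) hU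
  have hlift : ∀ (P : Scheme.{u}) (a : P ⟶ T') (i : ι) (b : P ⟶ ((U i : T.Opens) : Scheme.{u})),
      a ≫ p = b ≫ (U i : T.Opens).ι → b ≫ fi i = a ≫ f' := by
    intro P a i b e
    have hr : Set.range a ⊆ Set.range (p ⁻¹ᵁ (U i : T.Opens)).ι := by
      rintro _ ⟨z, rfl⟩
      rw [Scheme.Opens.range_ι]
      show (a ≫ p) z ∈ (U i : T.Opens)
      rw [e]
      exact (b z).2
    obtain ⟨c, rfl⟩ : ∃ c, c ≫ (p ⁻¹ᵁ (U i : T.Opens)).ι = a := ⟨_, IsOpenImmersion.lift_fac _ a hr⟩
    have hb : b = c ≫ p ∣_ (U i : T.Opens) := by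
      rw [← cancel_mono (U i : T.Opens).ι, ← e, Category.assoc, Category.assoc, morphismRestrict_ι]
    rw [hb, Category.assoc, ← hfi, Category.assoc]
  have hcompat : ∀ i j, pullback.fst (𝒰.f i) (𝒰.f j) ≫ fi i = pullback.snd (𝒰.f i) (𝒰.f j) ≫ fi j := by
    intro i j
    haveI : IsReduced (pullback (𝒰.f i) (𝒰.f j)) := isReduced_of_isOpenImmersion (pullback.fst (𝒰.f i) (𝒰.f j) ≫ 𝒰.f i)
    let e := pullback.fst (𝒰.f i) (𝒰.f j) ≫ 𝒰.f i
    haveI : Surjective (pullback.snd p e) := inferInstance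
    refine ext_of_isDominant (pullback.snd p e) ?_
    have h1 := hlift _ (pullback.fst p e) i (pullback.snd p e ≫ pullback.fst (𝒰.f i) (𝒰.f j))
      (pullback.condition.trans (Category.assoc _ _ _).symm)
    have h2 := hlift _ (pullback.fst p e) j (pullback.snd p e ≫ pullback.snd (𝒰.f i) (𝒰.f j))
      (pullback.condition.trans ((congrArg (pullback.snd p e ≫ ·) pullback.condition).trans (Category.assoc _ _ _).symm))
    exact (Category.assoc _ _ _).symm.trans ((h1.trans h2.symm).trans (Category.assoc _ _ _))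
  refine ⟨𝒰.glueMorphisms fi hcompat, ?_⟩
  refine Scheme.Cover.hom_ext (𝒰.pullback₁ p) _ _ fun i => ?_
  show pullback.fst p (𝒰.f i) ≫ p ≫ _ = pullback.fst p (𝒰.f i) ≫ f'
  rw [← Category.assoc, pullback.condition, Category.assoc, Scheme.Cover.ι_glueMorphisms]
  exact hlift _ _ i _ pullback.condition

end Groth.Agent.S13835
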