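import Groth.Statements.S13838
import Groth.Agent.H18Subint.WeakClosure

set_option autoImplicit false
universe u
open AlgebraicGeometry
open HTop

namespace Groth.Agent.S13838

/-- Let A ⊆ B be an integral ring extension where A and B have finitely many minimal prime ideals, such
that every prime p of A has a prime q of B above it for which k(p) is closed under extracting
p-power roots inside k(q) (the purely inseparable closure of k(p) in k(q) is k(p)); then the semi-
and weak normalizations of A in B coincide: every A-subalgebra C of B with Spec C → Spec A a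
universal homeomorphism already induces isomorphisms on residue fields. -/
theorem result (A B : Type u) [CommRing A] [CommRing B] [Algebra A B] (hinj : Function.Injective (algebraMap A B))
    [Algebra.IsIntegral A B] (hA : (minimalPrimes A).Finite) (hB : (minimalPrimes B).Finite)
    (hpi : ∀ p : PrimeSpectrum A, ∃ q : PrimeSpectrum B, ∃ hq : p.asIdeal = Ideal.comap (algebraMap A B) q.asIdeal,
      ∀ x : q.asIdeal.ResidueField,
        (∃ n : ℕ, x ^ ringExpChar p.asIdeal.ResidueField ^ n ∈
            Set.range (Ideal.ResidueField.map p.asIdeal q.asIdeal (algebraMap A B) hq)) →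
        x ∈ Set.range (Ideal.ResidueField.map p.asIdeal q.asIdeal (algebraMap A B) hq)) :
    ∀ C : Subalgebra A B, FlatMor.IsUnivHomeo (Spec.map (CommRingCat.ofHom (algebraMap A C))) →
      HTop.ResidueFieldsIso (Spec.map (CommRingCat.ofHom (algebraMap A C))) := by
  intro C hC
  obtain ⟨hCi, hu, -⟩ := Groth.Agent.H17.UnivHomeoAlg.isUnivHomeo_iff.mp hC
  haveI := hCi
  have hrg : Groth.Agent.H17.UnivHomeoAlg.Rg A C := by
    intro L _ ψ F hF c
    let p : PrimeSpectrum A := ⟨RingHom.ker (ψ.comp (algebraMap A C)), RingHom.ker_isPrime _⟩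
    haveI : p.asIdeal.IsPrime := p.isPrime
    obtain ⟨q, hq, hcl⟩ := hpi p
    let χ : C →+* q.asIdeal.ResidueField := (algebraMap B q.asIdeal.ResidueField).comp C.val.toRingHom
    let μ := Ideal.ResidueField.map p.asIdeal q.asIdeal (algebraMap A B) hq
    have hμ : ∀ a, χ (algebraMap A C a) = μ (algebraMap A p.asIdeal.ResidueField a) := fun a =>
      (Ideal.ResidueField.map_algebraMap _ _ _ hq a).symm
    obtain ⟨e, n, he, hmem⟩ := Groth.Agent.H17.UnivHomeoAlg.exists_pow_mem hu χ c
    haveI := ringExpChar.expChar p.asIdeal.ResidueField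
    haveI := he
    have hee : e = ringExpChar p.asIdeal.ResidueField :=
      ExpChar.eq he (expChar_of_injective_ringHom μ.injective _)
    subst hee
    obtain ⟨z, hz⟩ := hcl (χ c) ⟨n, (Subfield.closure_le (t := μ.fieldRange)).mpr (by
      rintro _ ⟨a, rfl⟩; exact ⟨_, (hμ a).symm⟩) hmem⟩
    obtain ⟨a, s, hs, rfl⟩ := IsFractionRing.div_surjective (A ⧸ p.asIdeal) z
    obtain ⟨a, rfl⟩ := Ideal.Quotient.mk_surjective a
    obtain ⟨s, rfl⟩ := Ideal.Quotient.mk_surjective s
    have hs' : ψ (algebraMap A C s) ≠ 0 := fun h0 =>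
      nonZeroDivisors.ne_zero hs (Ideal.Quotient.eq_zero_iff_mem.mpr h0)
    have hsκ : χ (algebraMap A C s) ≠ 0 := by
      rw [hμ]
      exact fun h0 => hs' (Ideal.algebraMap_residueField_eq_zero.mp (μ.injective (h0.trans (map_zero μ).symm)))
    simp only [← Ideal.Quotient.algebraMap_eq, ← IsScalarTower.algebraMap_apply, map_div₀] at hz
    change μ _ / μ _ = _ at hz
    rw [← hμ, ← hμ, div_eq_iff hsκ, ← map_mul] at hz
    haveI := Groth.Agent.H17.UnivHomeoAlg.universallyInjective_of_uq hu
    have hker : RingHom.ker χ = RingHom.ker ψ := by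
      haveI := RingHom.ker_isPrime χ
      haveI := RingHom.ker_isPrime ψ
      refine congrArg PrimeSpectrum.asIdeal (Scheme.Hom.injective
        (Spec.map (CommRingCat.ofHom (algebraMap A C)))
        (a₁ := ⟨RingHom.ker χ, inferInstance⟩) (a₂ := ⟨RingHom.ker ψ, inferInstance⟩) ?_)
      refine PrimeSpectrum.ext ?_
      show (RingHom.ker χ).comap (algebraMap A C) = (RingHom.ker ψ).comap (algebraMap A C)
      rw [RingHom.comap_ker]
      refine Eq.trans ?_ (RingHom.comap_ker ψ (algebraMap A C)).symm
      refine Ideal.ext fun x => ?_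
      rw [RingHom.mem_ker, RingHom.comp_apply, hμ, map_eq_zero, Ideal.algebraMap_residueField_eq_zero]
    have hd : c * algebraMap A C s - algebraMap A C a ∈ RingHom.ker ψ := by
      rw [← hker, RingHom.mem_ker, map_sub, sub_eq_zero]
      exact hz.symm
    rw [RingHom.mem_ker, map_sub, sub_eq_zero, map_mul] at hd
    rw [eq_div_of_mul_eq hs' hd]
    exact div_mem (hF a) (hF s)
  intro y
  exact (CategoryTheory.ConcreteCategory.isIso_iff_bijective _).mpr
    ⟨RingHom.injective _, Groth.Agent.H17.UnivHomeoAlg.rg_iff.mpr hrg y⟩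

end Groth.Agent.S13838
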