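import Groth.Statements.S13839
import Groth.Agent.H7SymTen.Basic
-- import your own Groth.Agent.* helpers here

set_option autoImplicit false
universe u
open AlgebraicGeometry
open scoped TensorProduct
open ChowMon

namespace Groth.Agent.S13839

/-- Let C be a Noetherian seminormal A-algebra, g : C → C' an A-algebra map with C' reduced such that
Spec C' → Spec C is a finite universal homeomorphism, and d ≥ 1 an integer divisible by every
residue degree [k(q) : k(g⁻¹q)]; let B be a flat A-algebra and φ : B → C' an A-algebra map. Then for
every symmetric tensor x ∈ TS^d_A(B) the element φ(m_d(x)) of C', m_d : B^{⊗d} → B the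
multiplication, lies in the image of C. (The published statement does not assume C' reduced and is
false without it: take A = C = k a field, C' = k[ε]/(ε²), d = 1, B = k[t] and φ(t) = ε; then ε is
not in k.) -/
theorem result (A C C' B : Type u) [CommRing A] [CommRing C] [CommRing C'] [CommRing B]
    [Algebra A C] [Algebra A C'] [Algebra A B] [IsNoetherianRing C] (hC : HTop.IsSeminormalRing C)
    (g : C →ₐ[A] C') [IsReduced C'] (hfin : g.toRingHom.Finite)
    (hg : FlatMor.IsUnivHomeo (Spec.map (CommRingCat.ofHom g.toRingHom)))
    (d : ℕ) (hd : 0 < d)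
    (hdeg : ∀ q : PrimeSpectrum C',
      @Module.finrank (PrimeSpectrum.comap g.toRingHom q).asIdeal.ResidueField q.asIdeal.ResidueField _ _
          (Ideal.ResidueField.map (PrimeSpectrum.comap g.toRingHom q).asIdeal q.asIdeal g.toRingHom
            rfl).toAlgebra.toModule ∣ d)
    [Module.Flat A B] (φ : B →ₐ[A] C') (x : ⨂[A] _ : Fin d, B) (hx : x ∈ SymTen.TS A B d) :
    φ (PiTensorProduct.lift (MultilinearMap.mkPiAlgebra A (Fin d) B) x) ∈ g.range := by
  exact Groth.Agent.H7SymTen.lift_mem_algHom_range hC g hfin hg d hd hdeg φ x hx

end Groth.Agent.S13839
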