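import Groth.Statements.S13843
import Groth.Agent.H9GalCoh.Transfer
import Groth.Agent.H9GalCoh.Tower
import Mathlib
-- import your own Groth.Agent.* helpers here

set_option autoImplicit false
universe u
open CategoryTheory CategoryTheory.Limits AlgebraicGeometry
open GalCoh

namespace Groth.Agent.S13843

theorem eq_zero_of_nsmul {A : Type*} [AddCommGroup A] {a b : ℕ} (h : Nat.Coprime a b) {y : A}
    (ha : a • y = 0) (hb : b • y = 0) : y = 0 :=
  AddMonoid.addOrderOf_eq_one_iff.1 (Nat.eq_one_of_dvd_coprimes h
    (addOrderOf_dvd_of_nsmul_eq_zero ha) (addOrderOf_dvd_of_nsmul_eq_zero hb))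

/-- Let K be a field, F an abelian sheaf on the small étale site of Spec K, i > 0 and α a class in
H^i(Spec K, F) which pulls back to zero over some finite separable field extension L of K. If p is a
prime not dividing the order of α, then there is a finite separable field extension L' of K whose
degree is not divisible by p and over which α pulls back to zero. Hence the period and the index of
α have the same prime factors. (Exactness of pullback of abelian sheaves, which always holds, is
carried as an instance hypothesis, in the conclusion for every such instance.) -/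
theorem result (K : Type u) [Field K] (F : EtCoh.Ab (Spec (CommRingCat.of K))) (i : ℕ)
    (hi : 0 < i) (α : EtCoh.H (Spec (CommRingCat.of K)) F i) (L : Type u) [Field L] [Algebra K L] [FiniteDimensional K L]
    [Algebra.IsSeparable K L] [PreservesFiniteLimits (EtCoh.pull (Spec.map (CommRingCat.ofHom (algebraMap K L))))]
    (hα : EtCore.Hpull (Spec.map (CommRingCat.ofHom (algebraMap K L))) F i α = 0) (p : ℕ) (hp : p.Prime) (hpα : ¬ p ∣ addOrderOf α) :
    ∃ (L' : Type u) (_ : Field L') (_ : Algebra K L') (_ : FiniteDimensional K L') (_ : Algebra.IsSeparable K L'),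
      ¬ p ∣ Module.finrank K L' ∧
        ∀ [PreservesFiniteLimits (EtCoh.pull (Spec.map (CommRingCat.ofHom (algebraMap K L'))))],
          EtCore.Hpull (Spec.map (CommRingCat.ofHom (algebraMap K L'))) F i α = 0 := by
  classical
  haveI : Fact p.Prime := ⟨hp⟩
  let Ω := SeparableClosure K
  let φ₀ : L →ₐ[K] Ω := IsSepClosed.lift
  letI : Algebra L Ω := φ₀.toRingHom.toAlgebra
  haveI : IsScalarTower K L Ω := IsScalarTower.of_algebraMap_eq fun x => (φ₀.commutes x).symm
  let M := IntermediateField.normalClosure K L Ω
  haveI : IsGalois K M := IsGalois.normalClosure K L Ω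
  let P : Sylow p (M ≃ₐ[K] M) := default
  let L' := IntermediateField.fixedField (P : Subgroup (M ≃ₐ[K] M))
  haveI : Algebra.IsSeparable K L' := inferInstance
  refine ⟨L', inferInstance, inferInstance, inferInstance, inferInstance, ?_, ?_⟩
  · have h1 := Module.finrank_mul_finrank K L' M
    rw [IntermediateField.finrank_fixedField_eq_card, ← IsGalois.card_aut_eq_finrank K M,
      ← (P : Subgroup (M ≃ₐ[K] M)).index_mul_card] at h1
    rw [Nat.eq_of_mul_eq_mul_right Nat.card_pos h1]
    exact P.not_dvd_index
  intro _
  haveI := H9GalCoh.Transfer.etale_str K L'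
  haveI := H9GalCoh.Transfer.etale_str K L
  haveI := H9GalCoh.Transfer.etale_str K M
  haveI := H18Et.pull_preservesFiniteLimits (H9GalCoh.Transfer.str L M)
  haveI := H18Et.pull_preservesFiniteLimits (H9GalCoh.Transfer.str L' M)
  haveI := H18Et.pull_preservesFiniteLimits (H9GalCoh.Transfer.str K M)
  have hw : H9GalCoh.Transfer.str L M ≫ H9GalCoh.Transfer.str K L = H9GalCoh.Transfer.str K M := by
    rw [← Spec.map_comp, ← CommRingCat.ofHom_comp, ← IsScalarTower.algebraMap_eq]
  have hw' : H9GalCoh.Transfer.str L' M ≫ H9GalCoh.Transfer.str K L' = H9GalCoh.Transfer.str K M := by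
    rw [← Spec.map_comp, ← CommRingCat.ofHom_comp, ← IsScalarTower.algebraMap_eq]
  have hM : EtCore.Hpull (H9GalCoh.Transfer.str K M) F i α = 0 := by
    rw [← H9GalCoh.Tower.HpullVia_Hpull (H9GalCoh.Transfer.str K L) (H9GalCoh.Transfer.str L M) (H9GalCoh.Transfer.str K M) hw F i α]
    exact (congrArg _ hα).trans (map_zero _)
  haveI : IsGalois L' M := inferInstance
  have h2 := H9GalCoh.Transfer.finrank_nsmul_eq_zero L' M _ i _
    (H9GalCoh.Tower.Hpull_Hpull_eq_zero (H9GalCoh.Transfer.str K L') (H9GalCoh.Transfer.str L' M) (H9GalCoh.Transfer.str K M) hw' F i α hM)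
  rw [IntermediateField.finrank_fixedField_eq_card] at h2
  obtain ⟨k, hk⟩ := IsPGroup.iff_card.1 P.isPGroup'
  rw [hk] at h2
  exact eq_zero_of_nsmul ((hp.coprime_iff_not_dvd.2 hpα).pow_left k) h2
    (by rw [← map_nsmul, addOrderOf_nsmul_eq_zero, map_zero])

end Groth.Agent.S13843
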