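import Groth.Statements.S1556
import Mathlib
import Groth.Agent.H22Alg.GeomRegularAt
import Groth.Agent.H05EGA4.FSCriteria
import Groth.Agent.H05EGA4.CompleteNormalization
import Groth.Agent.H22Alg.FibreCount

set_option autoImplicit false
universe u
open CategoryTheory CategoryTheory.Limits AlgebraicGeometry
attribute [local instance] Curv2.resAlgebra
open Variety

namespace Groth.Agent.S1556

/-- Let X be a curve over k (integral, separated, of finite type, of dimension one) and x a closed point
whose residue field is separable over k. Then the local ring at x is a discrete valuation ring if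
and only if x lies in the smooth locus of X → Spec k. -/
theorem result (k : Type u) [Field k] (X : Scheme.{u}) [X.Over (Spec (CommRingCat.of k))] [IsIntegral X]
    [IsSeparated (X ↘ (Spec (CommRingCat.of k)))] [LocallyOfFinitePresentation (X ↘ (Spec (CommRingCat.of k)))] [QuasiCompact (X ↘ (Spec (CommRingCat.of k)))]
    (hdim : topologicalKrullDim X = 1) (x : X) (hx : IsClosed ({x} : Set X))
    [Algebra.IsSeparable k (X.residueField x)] :
    IsDiscreteValuationRing (X.presheaf.stalk x) ↔ x ∈ (X ↘ (Spec (CommRingCat.of k))).smoothLocus := by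
  haveI : IsLocallyNoetherian X := LocallyOfFiniteType.isLocallyNoetherian (X ↘ Spec (CommRingCat.of k))
  have hd : ringKrullDim (X.presheaf.stalk x) = 1 := by
    have h1 := Groth.Agent.H8Props.FieldDim.localDim_eq_stalk_add_cdim (k := k) (X ↘ Spec (CommRingCat.of k)) x
    rw [(Groth.Agent.H22Alg.FibreCount.isClosed_iff_cdim_eq_zero (k := k) (X ↘ Spec (CommRingCat.of k)) x).mp hx, add_zero] at h1
    rw [← h1]
    refine Groth.Agent.H8Props.FieldDim.localDim_eq_of_pure (k := k) (X ↘ Spec (CommRingCat.of k)) x 1 fun T hT => ?_
    rw [irreducibleComponents_eq_singleton, Set.mem_singleton_iff] at hT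
    subst hT
    exact (IsHomeomorph.topologicalKrullDim_eq _ (Homeomorph.Set.univ X).isHomeomorph).trans hdim
  constructor
  · intro h
    letI := Curv2.stalkAlgebra k X x
    haveI : IsRegularRing (X.presheaf.stalk x) := inferInstance
    haveI : IsRegularLocalRing (X.presheaf.stalk x) := IsRegularLocalRing.of_isRegularRing_of_isLocalRing _
    let e : X.residueField x ≃ₐ[k] IsLocalRing.ResidueField (X.presheaf.stalk x) :=
      AlgEquiv.ofRingEquiv (f := RingEquiv.refl (X.residueField x)) fun c => rfl
    haveI : Algebra.IsSeparable k (IsLocalRing.ResidueField (X.presheaf.stalk x)) := AlgEquiv.Algebra.isSeparable e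
    haveI : Algebra.FormallyEtale k (IsLocalRing.ResidueField (X.presheaf.stalk x)) := Algebra.FormallyEtale.of_isSeparable _ _
    exact Groth.Agent.H22Alg.GeomRegularAt.mem_smoothLocus_of_isAdicFormallySmooth k X x
      Groth.Agent.H05EGA4.isAdicFormallySmooth_of_residue_formallySmooth
  · intro h
    haveI := Groth.Agent.H22Alg.GeomRegularAt.regular_of_mem_smoothLocus k X x h
    have hnf : ¬ IsField (X.presheaf.stalk x) := fun hF => by
      rw [ringKrullDim_eq_zero_of_isField hF] at hd
      exact absurd hd (by norm_num)
    haveI : Ring.KrullDimLE 1 (X.presheaf.stalk x) := Ring.krullDimLE_iff.mpr hd.le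
    haveI := Groth.Agent.H05EGA4.isIntegrallyClosed_of_isRegularLocalRing (X.presheaf.stalk x)
    refine ((IsDiscreteValuationRing.TFAE _ hnf).out 0 3 rfl rfl).2
      ⟨inferInstance, IsLocalRing.maximalIdeal _, ⟨?_, inferInstance⟩, fun P hP => ?_⟩
    · exact fun h => hnf (IsLocalRing.isField_iff_maximalIdeal_eq.2 h)
    · haveI := hP.2
      exact IsLocalRing.eq_maximalIdeal (((Ring.krullDimLE_one_iff_of_isPrime_bot).1 ‹_›) P hP.1 hP.2)

end Groth.Agent.S1556
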