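import Groth.Statements.S13844
import Groth.Agent.S1556
import Groth.Agent.H8Props.FlatDimOneBase
-- import your own Groth.Agent.* helpers here

set_option autoImplicit false
universe u
open CategoryTheory CategoryTheory.Limits AlgebraicGeometry
attribute [local instance] Curv2.resAlgebra
open Curves

namespace Groth.Agent.S13844

/-- Let K be a field and C a normal curve over K, namely an integral normal separated K-scheme of finite
type of dimension one, and let S be a set of closed points of C whose residue fields are separable
over K. If the structure morphism of C is smooth at every point outside S, then it is smooth. (The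
published statement takes S to be a closed subscheme finite étale over K, that is finitely many such
points; this row allows any set of closed points with separable residue fields.) -/
theorem result (K : Type u) [Field K] (C : Scheme.{u}) [C.Over (Spec (CommRingCat.of K))]
    [IsIntegral C] [IsSeparated (C ↘ (Spec (CommRingCat.of K)))] [LocallyOfFinitePresentation (C ↘ (Spec (CommRingCat.of K)))]
    [QuasiCompact (C ↘ (Spec (CommRingCat.of K)))] (hN : ∀ x : C, IsIntegrallyClosed (C.presheaf.stalk x))
    (hdim : topologicalKrullDim C = 1) (S : Set C)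
    (hS : ∀ x ∈ S, IsClosed ({x} : Set C) ∧ Algebra.IsSeparable K (C.residueField x))
    (hsm : ∀ x : C, x ∉ S → x ∈ (C ↘ (Spec (CommRingCat.of K))).smoothLocus) :
    AlgebraicGeometry.Smooth (C ↘ (Spec (CommRingCat.of K))) := by
  haveI : LocallyOfFiniteType (C ↘ (Spec (CommRingCat.of K))) := inferInstance
  haveI : IsLocallyNoetherian C := LocallyOfFiniteType.isLocallyNoetherian (C ↘ (Spec (CommRingCat.of K)))
  rw [← Scheme.Hom.smoothLocus_eq_top_iff, eq_top_iff]
  intro x _
  by_cases hx : x ∈ S
  swap
  · exact hsm x hx
  obtain ⟨hcl, hsep⟩ := hS x hx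
  haveI := hsep
  refine (Groth.Agent.S1556.result K C hdim x hcl).1 ?_
  haveI := hN x
  have hle : ringKrullDim (C.presheaf.stalk x) ≤ 1 :=
    hdim ▸ Groth.Agent.H8Props.FlatDimOneBase.ringKrullDim_stalk_le C x
  haveI : Ring.KrullDimLE 1 (C.presheaf.stalk x) := Ring.krullDimLE_iff.2 hle
  haveI : Ring.DimensionLEOne (C.presheaf.stalk x) :=
    ⟨fun {p} hp hp' => Ring.krullDimLE_one_iff_of_noZeroDivisors.1 ‹_› p hp hp'⟩
  haveI : IsDedekindDomain (C.presheaf.stalk x) := { }
  have hnf : ¬ IsField (C.presheaf.stalk x) := by
    intro hF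
    have h0 : IsLocalRing.maximalIdeal (C.presheaf.stalk x) = ⊥ := IsLocalRing.isField_iff_maximalIdeal_eq.1 hF
    have hcp : IsLocalRing.closedPoint (C.presheaf.stalk x) =
        (⟨⊥, Ideal.isPrime_bot⟩ : PrimeSpectrum (C.presheaf.stalk x)) := PrimeSpectrum.ext h0
    have hxg : x = genericPoint C := by
      rw [← Groth.Agent.H8Props.FlatDimOneBase.fromSpecStalk_bot (Y := C) x, ← hcp]
      exact Scheme.fromSpecStalk_closedPoint.symm
    have huniv : ({x} : Set C) = Set.univ := by
      rw [← hcl.closure_eq, hxg]
      exact genericPoint_spec C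
    haveI : Subsingleton C := ⟨fun a b => by
      have ha : a ∈ ({x} : Set C) := huniv.ge trivial
      have hb : b ∈ ({x} : Set C) := huniv.ge trivial
      exact (Set.mem_singleton_iff.1 ha).trans (Set.mem_singleton_iff.1 hb).symm⟩
    haveI : Subsingleton (TopologicalSpace.IrreducibleCloseds C) := ⟨fun a b => by
      obtain ⟨y, hy⟩ := a.isIrreducible.nonempty
      obtain ⟨z, hz⟩ := b.isIrreducible.nonempty
      exact TopologicalSpace.IrreducibleCloseds.ext (Set.ext fun w =>
        ⟨fun _ => Subsingleton.elim z w ▸ hz, fun _ => Subsingleton.elim y w ▸ hy⟩)⟩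
    have h : topologicalKrullDim C ≤ 0 := Order.krullDim_nonpos_of_subsingleton
    rw [hdim] at h
    exact absurd h (by decide)
  exact ((IsDiscreteValuationRing.TFAE (C.presheaf.stalk x) hnf).out 0 2 (by rfl) (by rfl)).2 ‹IsDedekindDomain (C.presheaf.stalk x)›

end Groth.Agent.S13844
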