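import Groth.Statements.S13846
import Mathlib.LinearAlgebra.GeneralLinearGroup.AlgEquiv
import Mathlib.LinearAlgebra.Dual.Lemmas
import Mathlib.Algebra.DirectSum.Module

set_option autoImplicit false
set_option backward.isDefEq.respectTransparency false
set_option backward.isDefEq.respectTransparency.types false
universe u v
open TwSh

namespace Groth.Agent.S13846

/-- Let k be a field and V, W finite-dimensional ℤ-graded k-vector spaces, V = ⊕ V_i with V ≠ 0 and W =
⊕ W_i. Let φ : End_k(V) ≃ End_k(W) be a k-algebra isomorphism which sends every endomorphism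
homogeneous of degree d (one mapping V_i into V_{i+d} for all i) to an endomorphism homogeneous of
degree d. Then there are an integer n and a k-linear isomorphism g : V ≅ W with g(V_i) = W_{i+n} for
every i such that φ(f) = g ∘ f ∘ g⁻¹ for all f; moreover n is unique and g is unique up to a nonzero
scalar: if g' : V ≅ W satisfies g'(V_i) = W_{i+n'} for all i and φ(f) = g' ∘ f ∘ g'⁻¹ for all f,
then n' = n and g' = c·g for some c ∈ kˣ. (The published statement is about non-zero perfect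
complexes over k: an isomorphism of their derived endomorphism algebras, as algebra objects of the
derived category, is induced by an isomorphism from the first complex to a shift of the second, for
a unique shift and up to a unit; this row is its form for finite-dimensional ℤ-graded vector spaces,
to which the bounded derived category of a field is equivalent by taking cohomology.) -/
theorem result (k : Type u) [Field k] (V W : Type v) [AddCommGroup V] [Module k V] [FiniteDimensional k V] [Nontrivial V] [AddCommGroup W] [Module k W] [FiniteDimensional k W] (𝒱 : ℤ → Submodule k V) (h𝒱 : DirectSum.IsInternal 𝒱) (𝒲 : ℤ → Submodule k W) (h𝒲 : DirectSum.IsInternal 𝒲) (φ : Module.End k V ≃ₐ[k] Module.End k W) (hφ : ∀ (d : ℤ) (f : Module.End k V), (∀ (i : ℤ) (x : V), x ∈ 𝒱 i → f x ∈ 𝒱 (i + d)) → ∀ (i : ℤ) (y : W), y ∈ 𝒲 i → φ f y ∈ 𝒲 (i + d)) : ∃ (n : ℤ) (g : V ≃ₗ[k] W), (∀ i : ℤ, Submodule.map (g : V →ₗ[k] W) (𝒱 i) = 𝒲 (i + n)) ∧ (∀ f : Module.End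 k V, φ f = (g : V →ₗ[k] W) ∘ₗ f ∘ₗ (g.symm : W →ₗ[k] V)) ∧ ∀ (n' : ℤ) (g' : V ≃ₗ[k] W), (∀ i : ℤ, Submodule.map (g' : V →ₗ[k] W) (𝒱 i) = 𝒲 (i + n')) → (∀ f : Module.End k V, φ f = (g' : V →ₗ[k] W) ∘ₗ f ∘ₗ (g'.symm : W →ₗ[k] V)) → n' = n ∧ ∃ c : kˣ, ∀ x : V, g' x = c • g x := by
  classical
  obtain ⟨g, hg⟩ := φ.eq_linearEquivConjAlgEquiv
  have hconj : ∀ f : Module.End k V, φ f = (g : V →ₗ[k] W) ∘ₗ f ∘ₗ (g.symm : W →ₗ[k] V) := fun f => by
    rw [hg]; ext; simp [LinearEquiv.conjAlgEquiv_apply]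
  obtain ⟨i₀, hi₀⟩ : ∃ i, 𝒱 i ≠ ⊥ := by
    by_contra h
    push Not at h
    have h1 : (⨆ i, 𝒱 i) = ⊤ := h𝒱.submodule_iSup_eq_top
    simp [h] at h1
  obtain ⟨x, hx, hx0⟩ := Submodule.exists_mem_ne_zero_of_ne_bot hi₀
  let c𝒱 : V ≃ₗ[k] DirectSum ℤ fun i => 𝒱 i :=
    (LinearEquiv.ofBijective (DirectSum.coeLinearMap 𝒱) h𝒱).symm
  let p : V →ₗ[k] 𝒱 i₀ := (DirectSum.component k ℤ (fun i => 𝒱 i) i₀).comp c𝒱.toLinearMap
  have hp : ∀ i (y : V) (hy : y ∈ 𝒱 i), (p y : V) = if i = i₀ then y else 0 := fun i y hy => by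
    have h1 : c𝒱 y = DirectSum.lof k ℤ (fun i => 𝒱 i) i ⟨y, hy⟩ := by
      rw [LinearEquiv.symm_apply_eq]
      simp
    change ((DirectSum.component k ℤ (fun i => 𝒱 i) i₀ (c𝒱 y) : 𝒱 i₀) : V) = _
    rw [h1, DirectSum.component.of]
    split_ifs with h
    · subst h; rfl
    · rfl
  obtain ⟨ℓ, hℓ⟩ := Module.Projective.exists_dual_ne_zero k (V := 𝒱 i₀) (x := (⟨x, hx⟩ : 𝒱 i₀)) (fun h => hx0 (congrArg Subtype.val h))
  let L : V →ₗ[k] k := ℓ.comp p
  have hL0 : L ≠ 0 := fun h => hℓ (by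
    have h1 : p x = ⟨x, hx⟩ := Subtype.ext (by rw [hp i₀ x hx, if_pos rfl])
    have := LinearMap.congr_fun h x
    simpa [L, h1] using this)
  have hL : ∀ i (y : V), y ∈ 𝒱 i → i ≠ i₀ → L y = 0 := fun i y hy hne => by
    have h1 : p y = 0 := Subtype.ext (by rw [hp i y hy, if_neg hne]; rfl)
    simp [L, h1]
  obtain ⟨m, w, hw, hc⟩ : ∃ m, ∃ w ∈ 𝒲 m, L (g.symm w) ≠ 0 := by
    by_contra h
    push Not at h
    refine hL0 (LinearMap.ext fun v => ?_)
    have h1 : g v ∈ ⨆ i, 𝒲 i := by rw [h𝒲.submodule_iSup_eq_top]; trivial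
    have h2 : (L.comp g.symm.toLinearMap) (g v) = 0 := by
      refine Submodule.iSup_induction 𝒲 (motive := fun y => (L.comp g.symm.toLinearMap) y = 0) h1
        (fun i y hy => h i y hy) (map_zero _) fun a b ha hb => by rw [map_add, ha, hb, add_zero]
    simpa using h2
  let n : ℤ := m - i₀
  have hle : ∀ j, Submodule.map (g : V →ₗ[k] W) (𝒱 j) ≤ 𝒲 (j + n) := fun j => by
    rintro _ ⟨y, hy, rfl⟩
    let f : Module.End k V := (LinearMap.toSpanSingleton k V y).comp L
    have hf := hφ (j - i₀) f (fun i z hz => by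
      by_cases h : i = i₀
      · have e : i + (j - i₀) = j := by omega
        rw [e]; exact Submodule.smul_mem _ _ hy
      · have : f z = 0 := by simp [f, hL i z hz h]
        rw [this]; exact Submodule.zero_mem _) m w hw
    rw [show m + (j - i₀) = j + n by omega, hconj] at hf
    have h2 : L (g.symm w) • g y ∈ 𝒲 (j + n) := by simpa [f] using hf
    have h3 := Submodule.smul_mem (𝒲 (j + n)) (L (g.symm w))⁻¹ h2
    rwa [smul_smul, inv_mul_cancel₀ hc, one_smul] at h3
  have heq : ∀ j, Submodule.map (g : V →ₗ[k] W) (𝒱 j) = 𝒲 (j + n) := fun j => by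
    refine le_antisymm (hle j) fun y hy => ?_
    let T : Submodule k W := ⨆ i ∈ {i : ℤ | i ≠ j}, Submodule.map (g : V →ₗ[k] W) (𝒱 i)
    have h1 : y ∈ Submodule.map (g : V →ₗ[k] W) (𝒱 j) ⊔ T := by
      have h2 : (⨆ i, Submodule.map (g : V →ₗ[k] W) (𝒱 i)) = ⊤ := by
        rw [← Submodule.map_iSup, h𝒱.submodule_iSup_eq_top, Submodule.map_top]
        exact LinearEquiv.range g
      have h3 : (⊤ : Submodule k W) ≤ Submodule.map (g : V →ₗ[k] W) (𝒱 j) ⊔ T := by
        rw [← h2]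
        refine iSup_le fun i => ?_
        by_cases h : i = j
        · subst h; exact le_sup_left
        · exact le_sup_of_le_right (le_biSup (fun i => Submodule.map (g : V →ₗ[k] W) (𝒱 i)) h)
      exact h3 trivial
    obtain ⟨a, ha, b, hb, rfl⟩ := Submodule.mem_sup.1 h1
    have hb' : b ∈ 𝒲 (j + n) := by simpa using Submodule.sub_mem _ hy (hle j ha)
    have hT : T ≤ ⨆ i, ⨆ (_ : i ≠ j + n), 𝒲 i := iSup₂_le fun i hi => (hle i).trans
      (le_iSup₂_of_le (i + n) (fun h => hi (by omega)) le_rfl)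
    have hb0 : b = 0 := Submodule.disjoint_def.1 (h𝒲.submodule_iSupIndep (j + n)) b hb' (hT hb)
    rw [hb0, add_zero]; exact ha
  refine ⟨n, g, heq, hconj, fun n' g' hn' hg' => ⟨?_, ?_⟩⟩
  all_goals
    obtain ⟨ℓ', hℓ'⟩ := Module.Projective.exists_dual_ne_zero k hx0
    have hcomm : ∀ (f : Module.End k V) (z : V), g.symm (g' (f z)) = f (g.symm (g' z)) := fun f z => by
      have h := LinearMap.congr_fun ((hconj f).symm.trans (hg' f)) (g' z)
      simp at h
      rw [← h, LinearEquiv.symm_apply_apply]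
    have hs : ∀ z : V, g' z = ((ℓ' x)⁻¹ * ℓ' (g.symm (g' x))) • g z := fun z => by
      have h := hcomm ((LinearMap.toSpanSingleton k V z).comp ℓ') x
      simp at h
      apply g.symm.injective
      rw [map_smul, g.symm_apply_apply, ← smul_smul, ← h, smul_smul, inv_mul_cancel₀ hℓ', one_smul]
    have hne : (ℓ' x)⁻¹ * ℓ' (g.symm (g' x)) ≠ 0 := fun h0 => hx0 (g'.injective (by rw [hs x, h0, zero_smul, map_zero]))
  · by_contra hne'
    have h1 : g' x ∈ 𝒲 (i₀ + n') := hn' i₀ ▸ ⟨x, hx, rfl⟩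
    have h2 : g' x ∈ 𝒲 (i₀ + n) := by
      rw [hs x]; exact Submodule.smul_mem _ _ (heq i₀ ▸ ⟨x, hx, rfl⟩)
    have h3 := Submodule.disjoint_def.1 (h𝒲.submodule_iSupIndep.pairwiseDisjoint
      (fun h => hne' (by omega) : i₀ + n' ≠ i₀ + n)) (g' x) h1 h2
    exact hx0 (g'.injective (h3.trans (map_zero g').symm))
  · exact ⟨Units.mk0 _ hne, fun z => hs z⟩

end Groth.Agent.S13846
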