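import Groth.Statements.S13847
import Mathlib

set_option autoImplicit false
universe u v
open TwSh

namespace Groth.Agent.S13847

variable {A : Type u} [Ring A] {M N L : Type v} [AddCommGroup M] [Module A M] [AddCommGroup N] [Module A N]
  [AddCommGroup L] [Module A L]

/-- `M / J M` for the Jacobson radical `J`. -/
abbrev Bar (A : Type u) [Ring A] (M : Type v) [AddCommGroup M] [Module A M] : Type v :=
  M ⧸ (Ring.jacobson A) • (⊤ : Submodule A M)

theorem smul_top_le_comap (f : M →ₗ[A] N) :
    (Ring.jacobson A) • (⊤ : Submodule A M) ≤ ((Ring.jacobson A) • (⊤ : Submodule A N)).comap f :=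
  Submodule.smul_le.2 fun r hr m _ => by
    rw [Submodule.mem_comap, map_smul]
    exact Submodule.smul_mem_smul hr Submodule.mem_top

/-- Reduction of a linear map. -/
def red (f : M →ₗ[A] N) : Bar A M →ₗ[A ⧸ Ring.jacobson A] Bar A N where
  toFun := Submodule.mapQ _ _ f (smul_top_le_comap f)
  map_add' := map_add _
  map_smul' b x := by
    obtain ⟨a, rfl⟩ := Ideal.Quotient.mk_surjective b
    exact map_smul (Submodule.mapQ _ _ f (smul_top_le_comap f)) a x

theorem red_mk (f : M →ₗ[A] N) (m : M) : red f (Submodule.Quotient.mk m) = Submodule.Quotient.mk (f m) := rfl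

theorem red_comp (g : N →ₗ[A] L) (f : M →ₗ[A] N) : red (g ∘ₗ f) = red g ∘ₗ red f := by
  ext x
  obtain ⟨m, rfl⟩ := Submodule.Quotient.mk_surjective _ x
  rfl

theorem red_id : red (LinearMap.id : M →ₗ[A] M) = LinearMap.id := by
  ext x
  obtain ⟨m, rfl⟩ := Submodule.Quotient.mk_surjective _ x
  rfl

theorem red_surjective [Module.Projective A M] (ψ : Bar A M →ₗ[A ⧸ Ring.jacobson A] Bar A N) :
    ∃ f : M →ₗ[A] N, red f = ψ := by
  let φ : M →ₗ[A] Bar A N :=
    { toFun := fun m => ψ (Submodule.Quotient.mk m)
      map_add' := fun a b => by rw [Submodule.Quotient.mk_add, map_add]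
      map_smul' := fun a m => map_smul ψ (Ideal.Quotient.mk (Ring.jacobson A) a) (Submodule.Quotient.mk m) }
  obtain ⟨f, hf⟩ := Module.projective_lifting_property (Submodule.mkQ _) φ (Submodule.mkQ_surjective _)
  refine ⟨f, LinearMap.ext fun x => ?_⟩
  obtain ⟨m, rfl⟩ := Submodule.Quotient.mk_surjective _ x
  exact congr($hf m)

theorem surjective_of_red [Module.Finite A N] (g : M →ₗ[A] N) (h : Function.Surjective (red g)) :
    Function.Surjective g := by
  have htop : (⊤ : Submodule A (N ⧸ LinearMap.range g)) ≤
      Ring.jacobson A • (⊤ : Submodule A (N ⧸ LinearMap.range g)) := by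
    rintro q -
    obtain ⟨n, rfl⟩ := Submodule.Quotient.mk_surjective _ q
    obtain ⟨x, hx⟩ := h (Submodule.Quotient.mk n)
    obtain ⟨m, rfl⟩ := Submodule.Quotient.mk_surjective _ x
    rw [red_mk, Submodule.Quotient.eq] at hx
    have h2 := smul_top_le_comap (LinearMap.range g).mkQ hx
    rw [Submodule.mem_comap, map_sub] at h2
    have h0 : (LinearMap.range g).mkQ (g m) = 0 :=
      (Submodule.Quotient.mk_eq_zero _).2 (LinearMap.mem_range_self g m)
    rw [h0, zero_sub] at h2
    exact neg_mem_iff.1 h2
  have := Submodule.FG.eq_bot_of_le_jacobson_smul Module.Finite.fg_top htop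
  rw [← LinearMap.range_eq_top, eq_top_iff]
  intro n _
  have hn : (Submodule.Quotient.mk n : N ⧸ LinearMap.range g) ∈ (⊤ : Submodule A _) := Submodule.mem_top
  rw [this] at hn
  exact (Submodule.Quotient.mk_eq_zero _).1 hn

theorem bijective_of_red [Module.Finite A M] [Module.Finite A N] [Module.Projective A N] (g : M →ₗ[A] N)
    (h : Function.Bijective (red g)) : Function.Bijective g := by
  have hs := surjective_of_red g h.2
  obtain ⟨s, hs'⟩ := Module.projective_lifting_property g LinearMap.id hs
  have hr : ∀ x, red g (red s x) = x := fun x => by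
    rw [← LinearMap.comp_apply, ← red_comp, hs', red_id]; rfl
  have hsurj : Function.Surjective s := surjective_of_red s fun y =>
    ⟨red g y, h.1 (by rw [hr])⟩
  refine ⟨fun a b hab => ?_, hs⟩
  obtain ⟨a', rfl⟩ := hsurj a
  obtain ⟨b', rfl⟩ := hsurj b
  have ha := congr($hs' a')
  have hb := congr($hs' b')
  simp only [LinearMap.comp_apply, LinearMap.id_apply] at ha hb
  rw [← ha, ← hb, hab]

variable (A M) in
/-- Reduction of endomorphisms. -/
def redEnd : Module.End A M →+* Module.End (A ⧸ Ring.jacobson A) (Bar A M) where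
  toFun := red
  map_one' := red_id
  map_mul' g f := red_comp g f
  map_zero' := by
    ext x
    obtain ⟨m, rfl⟩ := Submodule.Quotient.mk_surjective _ x
    rfl
  map_add' f g := by
    ext x
    obtain ⟨m, rfl⟩ := Submodule.Quotient.mk_surjective _ x
    rfl

theorem redEnd_apply (f : Module.End A M) : redEnd A M f = red f := rfl

theorem isUnit_redEnd [Module.Finite A M] [Module.Projective A M] (g : Module.End A M) :
    IsUnit (redEnd A M g) ↔ IsUnit g := by
  refine ⟨fun h => ?_, fun h => h.map _⟩
  rw [Module.End.isUnit_iff] at h ⊢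
  exact bijective_of_red g h

/-- The kernel of the reduction is intrinsic to the ring of endomorphisms. -/
theorem redEnd_eq_zero_iff [IsSemisimpleRing (A ⧸ Ring.jacobson A)] [Module.Finite A M] [Module.Projective A M]
    (g : Module.End A M) : redEnd A M g = 0 ↔ ∀ h : Module.End A M, IsUnit (1 + h * g) := by
  refine ⟨fun h0 h => (isUnit_redEnd _).1 (by rw [map_add, map_mul, map_one, h0, mul_zero, add_zero]; exact isUnit_one),
    fun H => ?_⟩
  by_contra hne
  let R' := A ⧸ Ring.jacobson A
  -- a lift of a partial inverse of `g` makes `1 + h g` non-injective modulo the radical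
  obtain ⟨W, hW⟩ := exists_isCompl (LinearMap.ker (redEnd A M g))
  obtain ⟨W', hW'⟩ := exists_isCompl (W.map (redEnd A M g))
  let pr' := (W.map (redEnd A M g)).projectionOnto _ hW'
  have hinj : Function.Injective ((redEnd A M g).comp W.subtype) := by
    rw [← LinearMap.ker_eq_bot, eq_bot_iff]
    intro w hw
    have : (w : Bar A M) ∈ LinearMap.ker (redEnd A M g) ⊓ W := ⟨hw, w.2⟩
    rw [hW.inf_eq_bot] at this
    exact Subtype.ext this
  let eW : W ≃ₗ[R'] W.map (redEnd A M g) :=
    LinearEquiv.ofBijective (((redEnd A M g).comp W.subtype).codRestrict (W.map (redEnd A M g)) fun w => ⟨w, w.2, rfl⟩)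
      ⟨fun a b hab => hinj (congrArg Subtype.val hab), fun ⟨_, w, hw, rfl⟩ => ⟨⟨w, hw⟩, rfl⟩⟩
  let ψ : Bar A M →ₗ[R'] Bar A M := W.subtype ∘ₗ eW.symm.toLinearMap ∘ₗ pr'
  obtain ⟨w, hw⟩ : ∃ w : W, (w : Bar A M) ≠ 0 := by
    by_contra hh
    push Not at hh
    have : W = ⊥ := (Submodule.eq_bot_iff _).2 fun w hw => hh ⟨w, hw⟩
    have htop := hW.sup_eq_top
    rw [this, sup_bot_eq] at htop
    exact hne (LinearMap.ker_eq_top.1 htop)
  have hψ : ψ (redEnd A M g w) = w := by
    have : pr' (redEnd A M g w) = eW w :=
      Submodule.projectionOnto_apply_left hW' (eW w)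
    show W.subtype (eW.symm (pr' (redEnd A M g w))) = _
    rw [this, LinearEquiv.symm_apply_apply]
    rfl
  obtain ⟨h, hh⟩ := red_surjective (-ψ)
  have hu := (isUnit_redEnd _).2 (H h)
  rw [Module.End.isUnit_iff] at hu
  refine hw (hu.1 ?_)
  rw [map_zero, map_add, map_mul, map_one, redEnd_apply h, hh]
  show (w : Bar A M) + -(ψ (redEnd A M g w)) = 0
  rw [hψ, add_neg_cancel]

/-- Orthogonal nonzero idempotent endomorphisms are at most as many as the length. -/
theorem card_le_length {B : Type u} [Ring B] {V : Type v} [AddCommGroup V] [Module B V] {k : ℕ}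
    (f : Fin k → Module.End B V) (h : ∀ i j, f i * f j = if i = j then f i else 0) (h0 : ∀ i, f i ≠ 0) :
    (k : ℕ∞) ≤ Module.length B V := by
  let W : Fin k → Submodule B V := fun i => LinearMap.range (f i)
  let φ : (∀ i, W i) →ₗ[B] V := ∑ i, (W i).subtype ∘ₗ LinearMap.proj i
  have hφ : ∀ (w : ∀ i, W i) (j : Fin k), f j (φ w) = w j := by
    intro w j
    simp only [φ, LinearMap.sum_apply, LinearMap.comp_apply, LinearMap.proj_apply, Submodule.subtype_apply, map_sum]
    rw [Finset.sum_eq_single j]
    · obtain ⟨v, hv⟩ := (w j).2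
      rw [← hv, ← Module.End.mul_apply, h, if_pos rfl]
    · intro i _ hij
      obtain ⟨v, hv⟩ := (w i).2
      rw [← hv, ← Module.End.mul_apply, h, if_neg (Ne.symm hij), LinearMap.zero_apply]
    · exact fun hh => absurd (Finset.mem_univ j) hh
  have hinj : Function.Injective φ := fun a b hab => funext fun j => Subtype.ext (by rw [← hφ a j, ← hφ b j, hab])
  refine le_trans ?_ (Module.length_le_of_injective φ hinj)
  rw [Module.length_pi_of_fintype]
  have h1 : ∀ i, 1 ≤ Module.length B (W i) := fun i => by
    haveI : Nontrivial (W i) :=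
      Submodule.nontrivial_iff_ne_bot.2 (fun hb => h0 i (LinearMap.range_eq_bot.1 hb))
    exact ENat.one_le_iff_ne_zero.2 Module.length_pos.ne'
  exact le_trans (by simp) (Finset.sum_le_sum fun i _ => h1 i)

theorem exists_simple [IsSimpleRing (A ⧸ Ring.jacobson A)] [IsArtinianRing (A ⧸ Ring.jacobson A)] :
    ∃ S : Submodule (A ⧸ Ring.jacobson A) (A ⧸ Ring.jacobson A), IsSimpleModule (A ⧸ Ring.jacobson A) S ∧
      ∀ (M : Type v) [AddCommGroup M] [Module A M] [Module.Finite A M],
        ∃ n : ℕ, Nonempty (Bar A M ≃ₗ[A ⧸ Ring.jacobson A] Fin n → S) := by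
  let B := A ⧸ Ring.jacobson A
  haveI : IsSemisimpleRing B := inferInstance
  obtain ⟨S, hS⟩ := IsSemisimpleModule.exists_simple_submodule B B
  refine ⟨S, hS, fun M _ _ _ => ?_⟩
  haveI : Module.Finite B (Bar A M) := by
    obtain ⟨s, hs⟩ := (Module.Finite.fg_top : (⊤ : Submodule A (Bar A M)).FG)
    refine ⟨⟨s, eq_top_iff.2 fun x hxt => ?_⟩⟩
    clear hxt
    have hx : x ∈ Submodule.span A (s : Set (Bar A M)) := hs ▸ Submodule.mem_top
    clear hs
    induction hx using Submodule.span_induction with
    | mem y hy => exact Submodule.subset_span hy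
    | zero => exact zero_mem _
    | add a b _ _ ha hb => exact add_mem ha hb
    | smul a y _ hy => exact Submodule.smul_mem _ (Ideal.Quotient.mk _ a) hy
  have ht : IsIsotypicOfType B (Bar A M) S := fun m _ => by
    let i₁ : Bar A M →ₗ[B] Bar A M × S := LinearMap.inl B _ _
    let i₂ : S →ₗ[B] Bar A M × S := LinearMap.inr B _ _
    let e₁ := Submodule.equivMapOfInjective i₁ LinearMap.inl_injective m
    let e₂ := LinearEquiv.ofInjective i₂ LinearMap.inr_injective
    haveI : IsSimpleModule B (m.map i₁) := IsSimpleModule.congr e₁.symm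
    haveI : IsSimpleModule B (LinearMap.range i₂) := IsSimpleModule.congr e₂.symm
    obtain ⟨e⟩ := IsSimpleRing.isIsotypic B (Bar A M × S) (LinearMap.range i₂) (m.map i₁)
    exact ⟨e₁ ≪≫ₗ e ≪≫ₗ e₂.symm⟩
  exact ht.linearEquiv_fun

/-- Let A be a ring which is strongly local, that is, the quotient of A by its Jacobson radical J is a
simple left-Artinian ring, and let P and Q be finitely generated projective left A-modules. If
End_A(P) and End_A(Q) are isomorphic as rings, then P ≅ Q as A-modules. (The published assertion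
says more, that every ring isomorphism End_A(P) ≅ End_A(Q) is induced by an isomorphism P ≅ Q; that
is not correct for isomorphisms which are not linear over the centre — complex conjugation is a ring
automorphism of End_ℂ(ℂ) = ℂ induced by no ℂ-linear map — and this row keeps the existence of an
isomorphism P ≅ Q, which is what the first part of the printed proof establishes.) -/
theorem result (A : Type u) [Ring A] [IsSimpleRing (A ⧸ Ring.jacobson A)] [IsArtinianRing (A ⧸ Ring.jacobson A)] (P Q : Type v) [AddCommGroup P] [Module A P] [Module.Finite A P] [Module.Projective A P] [AddCommGroup Q] [Module A Q] [Module.Finite A Q] [Module.Projective A Q] (e : Module.End A P ≃+* Module.End A Q) : Nonempty (P ≃ₗ[A] Q) := by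
  obtain ⟨S, hS, hM⟩ := exists_simple (A := A)
  obtain ⟨n, ⟨eP⟩⟩ := hM P
  obtain ⟨m, ⟨eQ⟩⟩ := hM Q
  let B := A ⧸ Ring.jacobson A
  have key : ∀ (X Y : Type v) [AddCommGroup X] [Module A X] [Module.Finite A X] [Module.Projective A X]
      [AddCommGroup Y] [Module A Y] [Module.Finite A Y] [Module.Projective A Y]
      (e : Module.End A X ≃+* Module.End A Y) (a b : ℕ) (_ : Bar A X ≃ₗ[B] Fin a → S)
      (_ : Bar A Y ≃ₗ[B] Fin b → S), a ≤ b := by
    intro X Y _ _ _ _ _ _ _ _ e a b eX eY
    let π : Fin a → Module.End B (Bar A X) := fun i =>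
      eX.symm.toLinearMap ∘ₗ (LinearMap.single B (fun _ => S) i ∘ₗ LinearMap.proj i) ∘ₗ eX.toLinearMap
    have hlift : ∀ i, ∃ f : Module.End A X, redEnd A X f = π i := fun i => red_surjective _
    choose f hf using hlift
    have hzero : ∀ g : Module.End A X, redEnd A X g = 0 → redEnd A Y (e g) = 0 := by
      intro g hg
      rw [redEnd_eq_zero_iff] at hg ⊢
      intro h
      have := (hg (e.symm h)).map e
      rwa [map_add, map_mul, map_one, RingEquiv.apply_symm_apply] at this
    have hne : ∀ g : Module.End A X, redEnd A Y (e g) = 0 → redEnd A X g = 0 := by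
      intro g hg
      rw [redEnd_eq_zero_iff] at hg ⊢
      intro h
      have := (hg (e h)).map e.symm
      rwa [map_add, map_mul, map_one, RingEquiv.symm_apply_apply, RingEquiv.symm_apply_apply] at this
    have hπ : ∀ i j, π i * π j = if i = j then π i else 0 := by
      intro i j
      refine LinearMap.ext fun x => eX.injective ?_
      rw [Module.End.mul_apply]
      split_ifs with hij
      · subst hij
        simp [π]
      · simp [π, Pi.single_apply, hij]
    have hπ0 : ∀ i, π i ≠ 0 := by
      intro i h0
      haveI := IsSimpleModule.nontrivial B S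
      obtain ⟨s, hs⟩ := exists_ne (0 : S)
      have := congr(eX ($h0 (eX.symm (Pi.single i s))) i)
      simp [π] at this
      exact hs this
    have h1 : (a : ℕ∞) ≤ Module.length B (Bar A Y) := by
      refine card_le_length (fun i => redEnd A Y (e (f i))) (fun i j => ?_) fun i h0 => ?_
      · rw [← map_mul, ← map_mul, ← sub_eq_zero]
        split_ifs with hij
        · rw [← map_sub, ← map_sub]
          refine hzero _ ?_
          rw [map_sub, map_mul, hf, hf, hπ, if_pos hij, sub_self]
        · rw [sub_zero]
          refine hzero _ ?_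
          rw [map_mul, hf, hf, hπ, if_neg hij]
      · exact hπ0 i ((hf i).symm.trans (hne _ h0))
    rw [eY.length_eq, Module.length_pi_of_fintype] at h1
    simp only [Module.length_eq_one, Finset.sum_const, Finset.card_univ, Fintype.card_fin, nsmul_eq_mul,
      mul_one] at h1
    exact_mod_cast h1
  obtain rfl : n = m := le_antisymm (key P Q e n m eP eQ) (key Q P e.symm m n eQ eP)
  obtain ⟨g, hg⟩ := red_surjective (eP ≪≫ₗ eQ.symm).toLinearMap
  exact ⟨LinearEquiv.ofBijective g (bijective_of_red g (by rw [hg]; exact (eP ≪≫ₗ eQ.symm).bijective))⟩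

end Groth.Agent.S13847
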