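import Groth.Statements.S13858
import Groth.Agent.H27Mul.Restrict
import Groth.Agent.H28Int.Vanishing

set_option backward.isDefEq.respectTransparency.types false

set_option autoImplicit false
open CategoryTheory CategoryTheory.Limits AlgebraicGeometry
open AdjLin

namespace Groth.Agent.S13858

/-- Let X be a regular projective variety over the complex numbers (an integral scheme, proper over ℂ,
with H^1(X, O_X) = 0), E a finite locally free O_X-module, I a quasi-coherent ideal of O_X with
closed subscheme D and O_D its structure sheaf viewed on X, and L an invertible module generated by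
its global sections with L ⊗ I ≅ O_X (so that L = O_X(D)) and H^1(E ⊗ I) = 0 (that is, H^1(E ⊗
L^{-1}) = 0). If the multiplication map H^0(E ⊗ O_D) ⊗ H^0(L ⊗ O_D) → H^0(E ⊗ O_D ⊗ L ⊗ O_D) on the
restrictions to D is surjective, then the multiplication map H^0(E) ⊗ H^0(L) → H^0(E ⊗ L) is
surjective (such a multiplication map is written as the map from the global sections of the
sectionwise tensor product presheaf to the global sections of its sheafification). -/
theorem result
    (X : Scheme.{0}) [X.Over (Spec (CommRingCat.of ℂ))] [IsIntegral X] [IsProper (X ↘ Spec (CommRingCat.of ℂ))]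
    (hreg : Subsingleton (Coh.HH X (Coh.structureModule X) 1))
    (E : X.Modules) (hE : FlatMod.IsFinLocFree E)
    (I : X.IdealSheafData) (L : X.Modules) (hLi : PicF.IsInvertible L) (hLg : Curv2.IsGloballyGenerated L)
    (hLI : ClSub.IsInverseOf L (ClSub.idealMod I))
    (h1 : Subsingleton (Coh.HH X (CohB1.tensorMod E (ClSub.idealMod I)) 1))
    (hD : Function.Surjective
      ((toSheafify (Opens.grothendieckTopology X) (CohB1.tensorPre (CohB1.tensorMod E (ClSub.quotMod I)) (CohB1.tensorMod L (ClSub.quotMod I))).presheaf).app (Opposite.op ⊤))) :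
    Function.Surjective
      ((toSheafify (Opens.grothendieckTopology X) (CohB1.tensorPre E L).presheaf).app (Opposite.op ⊤)) := by
  haveI := Groth.Agent.H28Int.isNoetherian ℂ (X := X)
  obtain ⟨e⟩ := hLI
  let eI : CohB1.tensorMod (ClSub.idealMod I) L ≅ Coh.structureModule X :=
    Groth.Agent.H10Coh.Tw.commIso (ClSub.idealMod I) L ≪≫ e
  exact Groth.Agent.H22Alg.CMField.surjective_toSheafify (Groth.Agent.H27Mul.spanned_of_restrict I hE hLi
    ((Groth.Agent.H22Alg.CMField.spanned_structure _).of_iso_right eI.symm)
    (Groth.Agent.H10Coh.Tw.subsingleton_of_iso (Groth.Agent.H10Coh.Tw.commIso _ E).symm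
      ((Groth.Agent.H10Coh.HHEquiv _ 1).toEquiv.subsingleton_congr.1 h1) |> fun h =>
        (Groth.Agent.H10Coh.HHEquiv _ 1).toEquiv.subsingleton_congr.2 h)
    (Groth.Agent.H10Coh.Tw.subsingleton_of_iso eI.symm
      ((Groth.Agent.H10Coh.HHEquiv _ 1).toEquiv.subsingleton_congr.1 hreg) |> fun h =>
        (Groth.Agent.H10Coh.HHEquiv _ 1).toEquiv.subsingleton_congr.2 h)
    (((Groth.Agent.H27Mul.spanned_of_surjective hD).of_iso_left (Groth.Agent.H10Coh.Tw.commIso E _)).of_iso_right
      (Groth.Agent.H10Coh.Tw.commIso L _)))

end Groth.Agent.S13858
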