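import Groth.Statements.S13860
import Mathlib.GroupTheory.Index
import Mathlib.Tactic

set_option autoImplicit false
universe u v w
open ModRep

namespace Groth.Agent.S13860

/-- For k a field of characteristic p > 0, G a finite group and P a Sylow p-subgroup of G, a short exact
sequence of k[G]-modules has a k[G]-linear splitting exactly when it has a k[P]-linear one. Stated
here for the surjection of the sequence: a G-equivariant k-linear map g : B → C between k-linear
representations of G admits a G-equivariant k-linear section if and only if it admits a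
P-equivariant k-linear section. -/
theorem result {k : Type u} [Field k] (p : ℕ) [Fact p.Prime]
    [CharP k p] {G : Type v} [Group G] [Finite G] (P : Sylow p G)
    {B C : Type w} [AddCommGroup B] [Module k B] [AddCommGroup C] [Module k C]
    (ρB : Representation k G B) (ρC : Representation k G C)
    (g : B →ₗ[k] C) (hg : ∀ x : G, g ∘ₗ ρB x = ρC x ∘ₗ g) :
    (∃ s : C →ₗ[k] B, g ∘ₗ s = LinearMap.id ∧ ∀ x : G, s ∘ₗ ρC x = ρB x ∘ₗ s) ↔
      (∃ s : C →ₗ[k] B, g ∘ₗ s = LinearMap.id ∧ ∀ x : G, x ∈ P → s ∘ₗ ρC x = ρB x ∘ₗ s) := by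
  constructor
  · rintro ⟨s, h1, h2⟩; exact ⟨s, h1, fun x _ => h2 x⟩
  rintro ⟨s, h1, h2⟩
  classical
  let H : Subgroup G := P
  have : Fintype (G ⧸ H) := Fintype.ofFinite _
  have hidx : ((Fintype.card (G ⧸ H) : ℕ) : k) ≠ 0 := by
    rw [Ne, CharP.cast_eq_zero_iff k p, ← Nat.card_eq_fintype_card]
    exact P.not_dvd_index
  let F : G → (C →ₗ[k] B) := fun g => ρB g ∘ₗ s ∘ₗ ρC g⁻¹
  have hF : ∀ g h : G, (g⁻¹ * h) ∈ H → F g = F h := by
    intro g h hgh
    have hh : h = g * (g⁻¹ * h) := by group
    generalize g⁻¹ * h = x at hgh hh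
    subst hh
    refine LinearMap.ext fun c => ?_
    have e := LinearMap.congr_fun (h2 x hgh) (ρC (g * x)⁻¹ c)
    simp only [LinearMap.comp_apply] at e
    simp only [F, LinearMap.comp_apply, map_mul, Module.End.mul_apply]
    rw [← e, ← Module.End.mul_apply, ← map_mul, mul_inv_rev, mul_inv_cancel_left]
  let Fq : G ⧸ H → (C →ₗ[k] B) := Quotient.lift F (fun a b hab => hF a b (QuotientGroup.leftRel_apply.mp hab))
  have hFg : ∀ a : G, ∀ c, g (F a c) = c := by
    intro a c
    simp only [F, LinearMap.comp_apply]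
    have := LinearMap.congr_fun (hg a) (s (ρC a⁻¹ c))
    simp only [LinearMap.comp_apply] at this
    rw [this, show g (s (ρC a⁻¹ c)) = ρC a⁻¹ c from LinearMap.congr_fun h1 _, ← Module.End.mul_apply, ← map_mul, mul_inv_cancel, map_one, Module.End.one_apply]
  refine ⟨((Fintype.card (G ⧸ H) : ℕ) : k)⁻¹ • ∑ q : G ⧸ H, Fq q, ?_, ?_⟩
  · ext c
    have : ∀ q : G ⧸ H, g (Fq q c) = c := fun q => Quotient.inductionOn q fun a => hFg a c
    simp only [LinearMap.comp_apply, LinearMap.smul_apply, map_smul, LinearMap.sum_apply, map_sum, this, Finset.sum_const, Finset.card_univ, LinearMap.id_apply]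
    rw [← Nat.cast_smul_eq_nsmul k, smul_smul, inv_mul_cancel₀ hidx, one_smul]
  · intro x
    ext c
    simp only [LinearMap.comp_apply, LinearMap.smul_apply, map_smul, LinearMap.sum_apply, map_sum]
    congr 1
    refine Fintype.sum_equiv (MulAction.toPerm x⁻¹) _ _ fun q => ?_
    induction q using QuotientGroup.induction_on with
    | _ a =>
      show F a (ρC x c) = ρB x (F (x⁻¹ * a) c)
      simp only [F, LinearMap.comp_apply]
      rw [← Module.End.mul_apply, ← map_mul, ← Module.End.mul_apply (ρB x), ← map_mul, mul_inv_cancel_left, mul_inv_rev, inv_inv]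

end Groth.Agent.S13860
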