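import Groth.Statements.S13863
import Groth.Agent.H26Misc.AS

set_option autoImplicit false
universe u
open ASCover

namespace Groth.Agent.S13863

open Groth.Agent.H26AS

/-- For k an algebraically closed field of characteristic p > 0, n ≥ 1 an integer prime to p, and u ∈
k[[t]] the power series with constant term 1 and u^n · (1 + t^n) = 1, the substitution σ(t) = t·u is
a k-automorphism of k((t)) of order p and, for an integer a, σ acts on the fractional ideal I =
t^a·k[[t]]; transported to B = k[[t]] along h ↦ t^a·h this action is h ↦ u^a · h(t·u). For an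
integer i with a − n ≤ i ≤ a − 1 the element σ(t^i) − t^i lies in I, so t^i defines a class in
H^1(⟨σ⟩, I); the classes with p ∤ i form a basis of this H^1, and when p divides i the class
vanishes, i.e. σ(t^i) − t^i = σ(w) − w for some w ∈ I. (The published statement of this vanishing is
printed with the condition p ∤ i, which contradicts the basis assertion of the same lemma; its proof
treats p | i, and this row states that case.) In transported form, with m = a − i ∈ [1, n] and c ∈
k[[t]] defined by t^m · c = u^i − 1: there is h ∈ k[[t]] with u^a · h(t·u) − h = c. -/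
theorem result {k : Type u} [Field k] [IsAlgClosed k] (p : ℕ)
    [Fact p.Prime] [CharP k p] (n : ℕ) (hn : 0 < n) (hpn : ¬ p ∣ n)
    (u : PowerSeries k) (hu1 : PowerSeries.constantCoeff u = 1)
    (hun : u ^ n * (1 + PowerSeries.X ^ n) = 1) (hu : IsUnit u) (a : ℤ) (m : ℕ)
    (hm1 : 1 ≤ m) (hmn : m ≤ n) (hdvd : (p : ℤ) ∣ a - m) (c : PowerSeries k)
    (hc : PowerSeries.X ^ m * c = ((hu.unit ^ (a - m) : (PowerSeries k)ˣ) : PowerSeries k) - 1) :
    ∃ h : PowerSeries k,
      ((hu.unit ^ a : (PowerSeries k)ˣ) : PowerSeries k) * PowerSeries.subst (PowerSeries.X * u) h - h = c := by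
  have hp := (Fact.out : p.Prime)
  have hnk : (n : k) ≠ 0 := fun h => hpn ((CharP.cast_eq_zero_iff k p n).1 h)
  obtain ⟨v, hv1, hvfix, hvd⟩ := exists_invariant p hn hnk hu1 hun
  obtain ⟨V, hV⟩ := PowerSeries.isUnit_iff_constantCoeff.2 (show IsUnit (PowerSeries.constantCoeff v) by rw [hv1]; exact isUnit_one)
  obtain ⟨q, hq⟩ := hdvd
  have hmd : m ≤ n * (p - 1) := hmn.trans (Nat.le_mul_of_pos_right n (by have := hp.two_le; omega))
  obtain ⟨s, hs⟩ := zpow_sub_one_dvd V (by rwa [hV]) q
  obtain ⟨h, hh⟩ : ∃ h, 1 - ((V ^ q : (PowerSeries k)ˣ) : PowerSeries k) = PowerSeries.X ^ m * h :=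
    ⟨-(PowerSeries.X ^ (n * (p - 1) - m) * s), by
      have e : (PowerSeries.X : PowerSeries k) ^ (n * (p - 1)) = PowerSeries.X ^ m * PowerSeries.X ^ (n * (p - 1) - m) := by
        rw [← pow_add]; congr 1; omega
      linear_combination -hs - s * e⟩
  refine ⟨h, ?_⟩
  rw [← sig_apply]
  refine mul_left_cancel₀ (pow_ne_zero m PowerSeries.X_ne_zero) ?_
  -- invariance of `(X ^ p v) ^ q`
  let σ : (PowerSeries k)ˣ →* (PowerSeries k)ˣ := Units.map (sig u : PowerSeries k →* PowerSeries k)
  have hVfix : hu.unit ^ p * σ V = V := Units.ext (by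
    simpa [σ, hV, Units.val_mul] using hvfix)
  have hqfix : hu.unit ^ ((p : ℤ) * q) * σ (V ^ q) = V ^ q := by
    rw [map_zpow, zpow_mul, zpow_natCast, ← mul_zpow, hVfix]
  have hσV : ((hu.unit ^ (a - m) : (PowerSeries k)ˣ) : PowerSeries k) * sig u ((V ^ q : (PowerSeries k)ˣ) : PowerSeries k) =
      ((V ^ q : (PowerSeries k)ˣ) : PowerSeries k) := by
    rw [hq]
    exact congrArg Units.val hqfix
  have hsh := congrArg (sig u) hh
  rw [map_sub, map_one, map_mul, map_pow, sig_X, mul_pow] at hsh
  have ha : ((hu.unit ^ a : (PowerSeries k)ˣ) : PowerSeries k) =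
      ((hu.unit ^ (a - m) : (PowerSeries k)ˣ) : PowerSeries k) * u ^ m := by
    conv_lhs => rw [show a = a - m + (m : ℤ) by ring, zpow_add, zpow_natCast, Units.val_mul, Units.val_pow_eq_pow_val, IsUnit.unit_spec]
  rw [hc, ha]
  linear_combination -((hu.unit ^ (a - m) : (PowerSeries k)ˣ) : PowerSeries k) * hsh + hh - hσV

end Groth.Agent.S13863
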