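import Groth.Statements.S13864
import Groth.Agent.H26Misc.AS

set_option autoImplicit false
universe u
open ASCover

namespace Groth.Agent.S13864

open Groth.Agent.H26AS

/-- Let k be an algebraically closed field of characteristic p > 0, n ≥ 1 an integer prime to p, u ∈
k[[t]] the power series with constant term 1 and u^n · (1 + t^n) = 1 (so σ(t) = t·u is a
k-automorphism of k((t)) of order p), and a an integer; σ acts on I = t^a·k[[t]], and transported to
B = k[[t]] along h ↦ t^a·h the action is h ↦ u^a · h(t·u). For 1 ≤ m ≤ n let c_m ∈ B be determined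
by t^m · c_m = u^(a−m) − 1; this is the cocycle value σ(t^i) − t^i ∈ I of the element t^i, i = a −
m, divided by t^a. The published lemma says that the classes of the t^i with a − n ≤ i ≤ a − 1 and p
∤ i form a basis of H^1(⟨σ⟩, I); this row states their linear independence: if Σ λ_m c_m, summed
over 1 ≤ m ≤ n with p ∤ a − m, equals u^a · h(t·u) − h for some h ∈ B, then every such λ_m is 0.
(Together with the dimension of this H^1, namely n − ⌊(a−1)/p⌋ + ⌊(a−1−n)/p⌋, this gives the basis
statement.) -/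
theorem result {k : Type u} [Field k] [IsAlgClosed k] (p : ℕ)
    [Fact p.Prime] [CharP k p] (n : ℕ) (hn : 0 < n) (hpn : ¬ p ∣ n)
    (u : PowerSeries k) (hu1 : PowerSeries.constantCoeff u = 1)
    (hun : u ^ n * (1 + PowerSeries.X ^ n) = 1) (hu : IsUnit u) (a : ℤ)
    (c : ℕ → PowerSeries k)
    (hc : ∀ m : ℕ, 1 ≤ m → m ≤ n →
      PowerSeries.X ^ m * c m = ((hu.unit ^ (a - m) : (PowerSeries k)ˣ) : PowerSeries k) - 1)
    (coef : ℕ → k) (h : PowerSeries k)
    (hh : ((hu.unit ^ a : (PowerSeries k)ˣ) : PowerSeries k) * PowerSeries.subst (PowerSeries.X * u) h - h =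
      ∑ m ∈ (Finset.Icc 1 n).filter (fun m : ℕ => ¬ (p : ℤ) ∣ a - (m : ℤ)), coef m • c m) :
    ∀ m ∈ (Finset.Icc 1 n).filter (fun m : ℕ => ¬ (p : ℤ) ∣ a - (m : ℤ)), coef m = 0 := by
  classical
  have hnk : (n : k) ≠ 0 := fun h => hpn ((CharP.cast_eq_zero_iff k p n).1 h)
  set T := (Finset.Icc 1 n).filter (fun m : ℕ => ¬ (p : ℤ) ∣ a - (m : ℤ))
  have hT : ∀ m ∈ T, 1 ≤ m ∧ m ≤ n ∧ ¬ (p : ℤ) ∣ a - (m : ℤ) := fun m hm => by
    simp only [T, Finset.mem_filter, Finset.mem_Icc] at hm
    exact ⟨hm.1.1, hm.1.2, hm.2⟩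
  let L : PowerSeries k := ∑ m ∈ T, PowerSeries.C (coef m) * PowerSeries.X ^ (n - m)
  let H : PowerSeries k := PowerSeries.X ^ n * h - L
  have key : ∀ j : ℕ, j ≤ n → ((hu.unit ^ (a - n) : (PowerSeries k)ˣ) : PowerSeries k) * (PowerSeries.X * u) ^ j =
      PowerSeries.X ^ j * ((hu.unit ^ (a - (n - j : ℕ)) : (PowerSeries k)ˣ) : PowerSeries k) := fun j hj => by
    rw [show a - ((n - j : ℕ) : ℤ) = a - n + (j : ℤ) by push_cast [Nat.cast_sub hj]; ring, zpow_add, zpow_natCast,
      Units.val_mul, Units.val_pow_eq_pow_val, IsUnit.unit_spec, mul_pow]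
    ring
  have hfix : ((hu.unit ^ (a - n) : (PowerSeries k)ˣ) : PowerSeries k) * sig u H = H := by
    have hL : ((hu.unit ^ (a - n) : (PowerSeries k)ˣ) : PowerSeries k) * sig u L =
        L + PowerSeries.X ^ n * ∑ m ∈ T, coef m • c m := by
      simp only [L, map_sum, Finset.mul_sum, ← Finset.sum_add_distrib]
      refine Finset.sum_congr rfl fun m hm => ?_
      obtain ⟨h1, h2, -⟩ := hT m hm
      have e := key (n - m) (Nat.sub_le _ _)
      rw [show n - (n - m) = m by omega] at e
      rw [map_mul, map_pow, sig_X, show sig u (PowerSeries.C (coef m)) = PowerSeries.C (coef m) from (sig u).commutes _,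
        mul_left_comm, e, PowerSeries.smul_eq_C_mul, show (PowerSeries.X : PowerSeries k) ^ n = PowerSeries.X ^ (n - m) * PowerSeries.X ^ m by
          rw [← pow_add]; congr 1; omega]
      linear_combination -(PowerSeries.C (coef m) * PowerSeries.X ^ (n - m)) * hc m h1 h2
    have hX := key n le_rfl
    rw [Nat.sub_self, Nat.cast_zero, sub_zero] at hX
    rw [← sig_apply] at hh
    show _ * sig u (PowerSeries.X ^ n * h - L) = PowerSeries.X ^ n * h - L
    rw [map_sub, mul_sub, hL, map_mul, map_pow, sig_X, ← mul_assoc, hX]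
    linear_combination PowerSeries.X ^ n * hh
  by_contra hne
  push Not at hne
  obtain ⟨m₁, hm₁, hm₁0⟩ := hne
  set M := T.filter fun m => coef m ≠ 0
  have hMne : M.Nonempty := ⟨m₁, Finset.mem_filter.2 ⟨hm₁, hm₁0⟩⟩
  obtain ⟨hmT, hm0⟩ := Finset.mem_filter.1 (M.max'_mem hMne)
  set m := M.max' hMne
  obtain ⟨h1, h2, h3⟩ := hT m hmT
  have hcoef : ∀ i < n, PowerSeries.coeff i H = -∑ x ∈ T, if i = n - x then coef x else 0 := fun i hi => by
    simp only [H, L, map_sub, map_sum, PowerSeries.coeff_X_pow_mul', PowerSeries.coeff_C_mul, PowerSeries.coeff_X_pow,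
      mul_ite, mul_one, mul_zero, if_neg (not_le.2 hi), zero_sub]
  have hz := of_invariant hn hnk hu1 hun hu (a - n) H hfix (n - m) (fun i hi => by
    rw [hcoef i (by omega), neg_eq_zero]
    refine Finset.sum_eq_zero fun x hx => ?_
    split_ifs with e
    · by_contra hx0
      have := M.le_max' x (Finset.mem_filter.2 ⟨hx, hx0⟩)
      omega
    · rfl) (by
    rw [hcoef _ (by omega), neg_ne_zero, Finset.sum_eq_single m]
    · simpa using hm0
    · intro x hx hxm
      rw [if_neg]
      have := hT x hx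
      omega
    · exact fun hh => absurd hmT hh)
  rw [show a - (n : ℤ) + ((n - m : ℕ) : ℤ) = a - m by push_cast [Nat.cast_sub h2]; ring] at hz
  exact h3 ((CharP.intCast_eq_zero_iff k p _).1 hz)

end Groth.Agent.S13864
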