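import Groth.Statements.S1404
import Groth.Agent.H7Flat.Horizontal.Injective

set_option maxHeartbeats 1000000
set_option backward.isDefEq.respectTransparency false

set_option autoImplicit false
universe u
open FlatMor

namespace Groth.Agent.S1404

/-- Let A → B be an injective local homomorphism of local domains with B essentially of finite type over
A, and g an element of the maximal ideal of B lying in no minimal prime over m_A B. Assume dim(B /
m_A B) + trdeg_{κ(A)} κ(B) = trdeg_A B (with all three finite). Then A → B/gB is injective. -/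
theorem result {A B : Type u} [CommRing A] [CommRing B] [IsDomain A] [IsDomain B] [IsLocalRing A] [IsLocalRing B]
    [Algebra A B] [IsLocalHom (algebraMap A B)] [FaithfulSMul A B] [Algebra.EssFiniteType A B]
    (g : B) (hg : g ∈ IsLocalRing.maximalIdeal B)
    (hmin : ∀ q ∈ (Ideal.map (algebraMap A B) (IsLocalRing.maximalIdeal A)).minimalPrimes, g ∉ q)
    (d e : ℕ) (hd : ringKrullDim (B ⧸ Ideal.map (algebraMap A B) (IsLocalRing.maximalIdeal A)) = d)
    (he : Algebra.trdeg (IsLocalRing.ResidueField A) (IsLocalRing.ResidueField B) = e) (hsum : Algebra.trdeg A B = (d + e : ℕ)) :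
    Function.Injective (algebraMap A (B ⧸ Ideal.span {g})) := by
  classical
  let B0 := Algebra.EssFiniteType.subalgebra A B
  have hsub : (Algebra.EssFiniteType.submonoid A B) =
      ((IsLocalRing.maximalIdeal B).comap (algebraMap B0 B)).primeCompl := by
    ext x
    show IsUnit (algebraMap B0 B x) ↔ ¬ (algebraMap B0 B x ∈ IsLocalRing.maximalIdeal B)
    rw [IsLocalRing.mem_maximalIdeal, mem_nonunits_iff, not_not]
  haveI : IsLocalization.AtPrime B ((IsLocalRing.maximalIdeal B).comap (algebraMap B0 B)) := by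
    show IsLocalization _ B
    rw [← hsub]
    infer_instance
  haveI : FaithfulSMul B0 B := (faithfulSMul_iff_algebraMap_injective _ _).mpr Subtype.val_injective
  haveI : FaithfulSMul A B0 := (faithfulSMul_iff_algebraMap_injective _ _).mpr fun a b h =>
    FaithfulSMul.algebraMap_injective A B (congrArg (algebraMap B0 B) h)
  let q : PrimeSpectrum B0 := ⟨(IsLocalRing.maximalIdeal B).comap (algebraMap B0 B), inferInstance⟩
  haveI : IsLocalization q.asIdeal.primeCompl B :=
    ‹IsLocalization.AtPrime B ((IsLocalRing.maximalIdeal B).comap (algebraMap B0 B))›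
  have hq : q.asIdeal.under A = IsLocalRing.maximalIdeal A := by
    show ((IsLocalRing.maximalIdeal B).comap (algebraMap B0 B)).comap (algebraMap A B0) = _
    rw [Ideal.comap_comap, ← IsScalarTower.algebraMap_eq]
    exact IsLocalRing.maximalIdeal_comap (algebraMap A B)
  obtain ⟨Qc, hQc, -⟩ := H7Flat.Horizontal.fibreDimAt_eq_iSup q hq
  let C := H7Flat.Horizontal.CFib A B0
  let k := IsLocalRing.ResidueField A
  haveI : Algebra.FiniteType k (C ⧸ Qc.asIdeal) :=
    Algebra.FiniteType.trans (R := k) (S := C) inferInstance inferInstance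
  obtain ⟨e', he', he''⟩ := H8Props.FieldDim.exists_dim_trdeg k (C ⧸ Qc.asIdeal)
  rw [H7Flat.Horizontal.trdeg_residueField_eq Qc hQc, he''] at he
  obtain rfl : e' = e := by exact_mod_cast he
  rw [H7Flat.Horizontal.dim_cfib_eq_height Qc hQc] at hd
  have hn : ∀ P : PrimeSpectrum C, P ≤ Qc → ringKrullDim (C ⧸ P.asIdeal) ≤ (d + e' : ℕ) := by
    intro P hP
    refine (le_iSup (fun P : {P : PrimeSpectrum C // P ≤ Qc} => ringKrullDim (C ⧸ P.1.asIdeal)) ⟨P, hP⟩).trans
      (le_of_eq ?_)
    rw [← H8Props.FieldDim.height_add_dim_quotient_eq_iSup (k := k) C Qc, he', hd]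
    norm_cast
  -- `g` up to a unit comes from the model
  obtain ⟨⟨g0, s0⟩, hg0⟩ := IsLocalization.surj q.asIdeal.primeCompl g
  simp only at hg0
  have hs0 : IsUnit (algebraMap B0 B s0) := IsLocalization.map_units B s0
  have hg0q : g0 ∈ q.asIdeal := by
    show algebraMap B0 B g0 ∈ IsLocalRing.maximalIdeal B
    rw [← hg0]
    exact Ideal.mul_mem_right _ _ hg
  let I := (IsLocalRing.maximalIdeal A).map (algebraMap A B0)
  have hI : (IsLocalRing.maximalIdeal A).map (algebraMap A B) = I.map (algebraMap B0 B) := by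
    rw [Ideal.map_map, IsScalarTower.algebraMap_eq A B0 B]
  have hminC : ∀ P0 : PrimeSpectrum C, P0 ≤ Qc → IsMin P0 → Ideal.Quotient.mk _ g0 ∉ P0.asIdeal := by
    intro P0 hP0 hmin0 hgP
    let P0' := P0.asIdeal.comap (Ideal.Quotient.mk I)
    have hP0q : P0' ≤ q.asIdeal := (Ideal.comap_mono hP0).trans hQc.le
    have hdis : Disjoint (q.asIdeal.primeCompl : Set B0) P0' :=
      Set.disjoint_left.mpr fun x hx hx' => hx (hP0q hx')
    have hprime : (P0'.map (algebraMap B0 B)).IsPrime :=
      IsLocalization.isPrime_of_isPrime_disjoint q.asIdeal.primeCompl B P0' inferInstance hdis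
    have hcomap : (P0'.map (algebraMap B0 B)).comap (algebraMap B0 B) = P0' :=
      IsLocalization.comap_map_of_isPrime_disjoint q.asIdeal.primeCompl B inferInstance hdis
    have hIP : I ≤ P0' := fun x hx => Ideal.mem_comap.mpr (by
      rw [Ideal.Quotient.eq_zero_iff_mem.mpr hx]; exact zero_mem _)
    refine hmin (P0'.map (algebraMap B0 B)) ⟨⟨hprime, hI.le.trans (Ideal.map_mono hIP)⟩, ?_⟩ ?_
    · rintro J ⟨hJ, hIJ⟩ hJle
      haveI := hJ
      have h1 : I ≤ J.comap (algebraMap B0 B) :=
        Ideal.map_le_iff_le_comap.mp (hI.ge.trans hIJ)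
      have h2 : J.comap (algebraMap B0 B) ≤ P0' := (Ideal.comap_mono hJle).trans hcomap.le
      haveI hmp : ((J.comap (algebraMap B0 B)).map (Ideal.Quotient.mk I)).IsPrime :=
        Ideal.isPrime_map_quotientMk_of_isPrime h1
      have h3 := hmin0 (b := ⟨(J.comap (algebraMap B0 B)).map (Ideal.Quotient.mk I), hmp⟩)
        (Ideal.map_le_iff_le_comap.mpr h2)
      refine (Ideal.map_le_iff_le_comap).mpr fun x hx => ?_
      have h4 : Ideal.Quotient.mk I x ∈ (J.comap (algebraMap B0 B)).map (Ideal.Quotient.mk I) := h3 hx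
      obtain ⟨y, hy, hxy⟩ := (Ideal.mem_map_iff_of_surjective _ Ideal.Quotient.mk_surjective).mp h4
      have h5 : x - y ∈ J.comap (algebraMap B0 B) := h1 (Ideal.Quotient.eq.mp hxy.symm)
      simpa using add_mem h5 hy
    · refine (Ideal.mul_unit_mem_iff_mem _ hs0).mp ?_
      rw [hg0]
      exact Ideal.mem_map_of_mem _ hgP
  let B1 := B0 ⧸ Ideal.span {g0}
  haveI hq1p : (q.asIdeal.map (Ideal.Quotient.mk (Ideal.span {g0}))).IsPrime :=
    Ideal.isPrime_map_quotientMk_of_isPrime ((Ideal.span_singleton_le_iff_mem _).mpr hg0q)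
  let q1 : PrimeSpectrum B1 := ⟨q.asIdeal.map (Ideal.Quotient.mk _), hq1p⟩
  have hq1 : q1.asIdeal.comap (Ideal.Quotient.mk _) = q.asIdeal := by
    show (q.asIdeal.map (Ideal.Quotient.mk _)).comap (Ideal.Quotient.mk _) = _
    rw [Ideal.comap_map_of_surjective _ Ideal.Quotient.mk_surjective, ← RingHom.ker_eq_comap_bot, Ideal.mk_ker,
      sup_eq_left]
    exact (Ideal.span_singleton_le_iff_mem _).mpr hg0q
  have hq1A : q1.asIdeal.under A = IsLocalRing.maximalIdeal A := by
    rw [← hq, Ideal.under, Ideal.under, ← hq1, Ideal.comap_comap]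
    rfl
  haveI : Algebra.FiniteType A B1 := Algebra.FiniteType.trans (R := A) (S := B0) inferInstance inferInstance
  obtain ⟨hn1, hfd⟩ := H7Flat.Horizontal.fibreDimAt_quotient_lt g0 Qc hminC
    (Ideal.mem_comap.mp (hQc.ge hg0q)) (d + e') hn q1 (hq1.trans hQc.symm) hq1A
  obtain ⟨σ, _, δ, hcard, hqf⟩ := H8Props.FieldDim.exists_quasiFiniteAt_map q1 (d + e' - 1) hfd
  obtain ⟨γ, hγ0, r, hr, hx⟩ := H7Flat.Horizontal.exists_zmt_option g0 δ q q1 hq1 hqf
  haveI := H7Flat.Horizontal.isAlgebraic_of_zmt γ (r := r) (fun e => hr (e ▸ zero_mem _)) hx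
  have hind : AlgebraicIndependent A fun o => γ (MvPolynomial.X o) := by
    refine (Algebra.IsAlgebraic.isTranscendenceBasis_of_le_trdeg_of_finite A _ ?_).1
    rw [← H7Flat.Horizontal.trdeg_localization_eq (B := B), hsum, Cardinal.mk_fintype, Fintype.card_option]
    exact_mod_cast (by omega : Fintype.card σ + 1 ≤ d + e')
  rw [injective_iff_map_eq_zero]
  intro a ha
  by_contra ha0
  obtain ⟨c, hc⟩ := Ideal.mem_span_singleton'.mp (Ideal.Quotient.eq_zero_iff_mem.mp
    (show Ideal.Quotient.mk (Ideal.span {g}) (algebraMap A B a) = 0 from ha))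
  obtain ⟨⟨c0, sc⟩, hc0⟩ := IsLocalization.surj q.asIdeal.primeCompl c
  simp only at hc0
  refine H7Flat.Horizontal.not_smul_eq_mul γ hind (by rw [hγ0]; exact hg0q) r hr hx a ha0 c0
    ((s0 : B0) * (sc : B0)) ?_ ?_
  · intro h
    rw [map_mul] at h
    exact (IsLocalRing.mem_maximalIdeal _).mp h (hs0.mul (IsLocalization.map_units B sc))
  · apply FaithfulSMul.algebraMap_injective B0 B
    rw [hγ0, map_mul, map_mul, map_mul, ← hg0, ← hc0, ← IsScalarTower.algebraMap_apply A B0 B, ← hc]
    ring

end Groth.Agent.S1404
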