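import Groth.Statements.S1387
import Groth.Agent.S1404
import Groth.Agent.H7Flat.Horizontal.Dim
import Groth.Agent.H3Cyc.GenStalk
import Groth.Agent.H8Props.FunDescent.TrdegPoints
import Groth.Agent.H22Alg.FibreDimBound

set_option maxHeartbeats 2000000
set_option backward.isDefEq.respectTransparency false

set_option autoImplicit false
universe u
open FlatMor AlgebraicGeometry CategoryTheory TopologicalSpace Topology

namespace Groth.Agent.S1387

open AlgebraicGeometry CategoryTheory Limits in
/-- Let f : X → S be dominant and locally of finite type with X and S irreducible, let η be the generic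
point of S and s a point with dim X_s ≤ dim X_η, and let Z be a locally principal closed subscheme
of X (its ideal sheaf is generated by one section on an affine neighbourhood of each point) whose
generic fibre is empty. Then, set-theoretically, the fibre of Z over s is a union of irreducible
components of the fibre of X over s. -/
theorem result {X S : Scheme.{u}} (f : X ⟶ S) [IrreducibleSpace ↑S] [IrreducibleSpace ↑X] [IsDominant f] [LocallyOfFiniteType f]
    (s : S) (hdim : topologicalKrullDim ↑(f.fiber s) ≤ topologicalKrullDim ↑(f.fiber (genericPoint ↑S)))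
    (Z : X.IdealSheafData) (hZ : ∀ x : X, ∃ (U : X.Opens) (hU : IsAffineOpen U) (g : Γ(X, U)), x ∈ U ∧ Z.ideal ⟨U, hU⟩ = Ideal.span {g})
    (hη : ∀ x ∈ (Z.support : Set ↑X), f x ≠ genericPoint ↑S) :
    ∀ x : ↑(f ⁻¹' {s}), (x : ↑X) ∈ (Z.support : Set ↑X) →
      ∃ C ∈ irreducibleComponents ↑(f ⁻¹' {s}), x ∈ C ∧ Subtype.val '' C ⊆ (Z.support : Set ↑X) := by
  classical
  rintro ⟨x, hxs⟩ hxZ
  obtain rfl : f x = s := hxs
  -- generic points
  let ξ := genericPoint ↑X
  have hfξ : f ξ = genericPoint ↑S := by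
    refine IsGenericPoint.eq ?_ (genericPoint_spec ↑S)
    show closure ({f ξ} : Set ↑S) = Set.univ
    refine Set.eq_univ_of_univ_subset ?_
    rw [← (IsDominant.denseRange (f := f)).closure_range]
    refine closure_minimal ?_ isClosed_closure
    rintro _ ⟨z, rfl⟩
    exact ((genericPoint_specializes z).map f.continuous).mem_closure
  have hξx : ξ ⤳ x := genericPoint_specializes x
  have hfx : f ξ ⤳ f x := hξx.map f.continuous
  let Os := S.presheaf.stalk (f x)
  let Ox := X.presheaf.stalk x
  let IS := RingHom.ker (Cyc.specMap (f x) (f ξ) hfx)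
  let IX := RingHom.ker (Cyc.specMap x ξ hξx)
  haveI : IS.IsPrime := RingHom.ker_isPrime _
  haveI : IX.IsPrime := RingHom.ker_isPrime _
  have hnat : ∀ a, Cyc.specMap x ξ hξx (f.stalkMap x a) = f.residueFieldMap ξ (Cyc.specMap (f x) (f ξ) hfx a) := by
    intro a
    show (X.residue ξ) (X.presheaf.stalkSpecializes hξx (f.stalkMap x a)) =
      f.residueFieldMap ξ (S.residue (f ξ) (S.presheaf.stalkSpecializes hfx a))
    rw [← Scheme.Hom.stalkSpecializes_stalkMap_apply f ξ x hξx a]
    exact congrArg (fun ψ => ψ.hom (S.presheaf.stalkSpecializes hfx a)) (Scheme.residue_residueFieldMap f ξ).symm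
  have hIS : IX.comap (f.stalkMap x).hom = IS := by
    ext a
    rw [Ideal.mem_comap, RingHom.mem_ker, RingHom.mem_ker]
    exact (hnat a).symm ▸ map_eq_zero_iff _ (f.residueFieldMap ξ).hom.injective
  let A := Cyc.LocQuot (f x) (f ξ) hfx
  let B := Cyc.LocQuot x ξ hξx
  let φ : A →+* B := Ideal.quotientMap IX (f.stalkMap x).hom hIS.ge
  letI : Algebra A B := φ.toAlgebra
  haveI : IsDomain A := Ideal.Quotient.isDomain IS
  haveI : IsDomain B := Ideal.Quotient.isDomain IX
  haveI : IsLocalRing A := IsLocalRing.of_surjective' _ Ideal.Quotient.mk_surjective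
  haveI : IsLocalRing B := IsLocalRing.of_surjective' _ Ideal.Quotient.mk_surjective
  haveI hlA : IsLocalHom (Ideal.Quotient.mk IS) := .of_surjective _ Ideal.Quotient.mk_surjective
  haveI hlB : IsLocalHom (Ideal.Quotient.mk IX) := .of_surjective _ Ideal.Quotient.mk_surjective
  haveI : IsLocalHom (algebraMap A B) := ⟨fun a ha => by
    obtain ⟨a, rfl⟩ := Ideal.Quotient.mk_surjective a
    exact (isUnit_of_map_unit (f.stalkMap x).hom a (hlB.map_nonunit _ ha)).map _⟩
  haveI : FaithfulSMul A B := (faithfulSMul_iff_algebraMap_injective _ _).mpr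
    (Ideal.quotientMap_injective' hIS.le)
  haveI : Algebra.EssFiniteType A B := by
    letI := (f.stalkMap x).hom.toAlgebra
    haveI : Algebra.EssFiniteType Os Ox := LocallyOfFiniteType.stalkMap f x
    letI : Algebra Os B := ((Ideal.Quotient.mk IX).comp (f.stalkMap x).hom).toAlgebra
    haveI : IsScalarTower Os Ox B := IsScalarTower.of_algebraMap_eq fun _ => rfl
    haveI : IsScalarTower Os A B := IsScalarTower.of_algebraMap_eq fun _ => rfl
    haveI : Algebra.EssFiniteType Os B := Algebra.EssFiniteType.comp Os Ox B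
    exact Algebra.EssFiniteType.of_comp Os A B
  -- dimensions
  obtain ⟨d, e, hd, he, hle⟩ := H7Flat.Horizontal.exists_dim_trdeg_le (A := A) (B := B)
  have hcomp : Algebra.trdeg A B = H8Props.FunDescent.pointTrdeg f ξ := by
    letI := (f.residueFieldMap ξ).hom.toAlgebra
    letI : Algebra A (X.residueField ξ) :=
      ((f.residueFieldMap ξ).hom.comp (algebraMap A (S.residueField (f ξ)))).toAlgebra
    haveI : IsScalarTower A (S.residueField (f ξ)) (X.residueField ξ) := IsScalarTower.of_algebraMap_eq fun _ => rfl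
    haveI : IsScalarTower A B (X.residueField ξ) := IsScalarTower.of_algebraMap_eq fun a => by
      obtain ⟨a, rfl⟩ := Ideal.Quotient.mk_surjective a
      exact (hnat a).symm
    haveI : IsFractionRing A (S.residueField (f ξ)) := H3Cyc.GenStalk.isFractionRing_locQuot (f x) (f ξ) hfx
    haveI : IsFractionRing B (X.residueField ξ) := H3Cyc.GenStalk.isFractionRing_locQuot x ξ hξx
    exact H7Flat.Horizontal.trdeg_eq_fractionRings (K := S.residueField (f ξ)) (L := X.residueField ξ)
  have hgen : ∃ n : ℕ, topologicalKrullDim ↑(f.fiber (f ξ)) ≤ n ∧ Algebra.trdeg A B = n := by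
    obtain ⟨t, ht, ht'⟩ := H8Props.FunDescent.exists_cdim_pointTrdeg f (f.asFiber ξ) (f.fiberι_asFiber ξ)
    refine ⟨t, le_of_eq ?_, hcomp.trans ht'⟩
    rw [← ht, H8Props.FieldDim.cdim]
    have hcl : closure ({f.asFiber ξ} : Set ↑(f.fiber (f ξ))) = Set.univ := by
      refine Set.eq_univ_of_forall fun v => ?_
      rw [← specializes_iff_mem_closure]
      refine (f.fiberι (f ξ)).isEmbedding.isInducing.specializes_iff.mp ?_
      rw [f.fiberι_asFiber]
      exact genericPoint_specializes _
    rw [hcl]
    exact (IsHomeomorph.topologicalKrullDim_eq _ (Homeomorph.Set.univ _).isHomeomorph).symm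
  have hfib : ((d + e : ℕ) : WithBot ℕ∞) ≤ topologicalKrullDim ↑(f.fiber (f x)) := by
    obtain ⟨t, ht, ht'⟩ := H8Props.FieldDim.fibreDimAt_eq f x
    obtain rfl : e = t := by
      have hsq : Algebra.trdeg (IsLocalRing.ResidueField A) (IsLocalRing.ResidueField B) =
          H8Props.FunDescent.pointTrdeg f x := by
        letI := (f.residueFieldMap x).hom.toAlgebra
        refine (H7Flat.Horizontal.trdeg_congr (k := S.residueField (f x)) (K := X.residueField x)
          (k' := IsLocalRing.ResidueField A) (K' := IsLocalRing.ResidueField B)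
          (IsLocalRing.ResidueField.map (Ideal.Quotient.mk IS))
          (IsLocalRing.ResidueField.map (Ideal.Quotient.mk IX)) ?_ ?_ ?_).symm
        · refine ⟨RingHom.injective _, fun z => ?_⟩
          obtain ⟨z, rfl⟩ := IsLocalRing.residue_surjective z
          obtain ⟨z, rfl⟩ := Ideal.Quotient.mk_surjective z
          exact ⟨IsLocalRing.residue _ z, rfl⟩
        · refine ⟨RingHom.injective _, fun z => ?_⟩
          obtain ⟨z, rfl⟩ := IsLocalRing.residue_surjective z
          obtain ⟨z, rfl⟩ := Ideal.Quotient.mk_surjective z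
          exact ⟨IsLocalRing.residue _ z, rfl⟩
        · intro c
          obtain ⟨c, rfl⟩ := S.residue_surjective (f x) c
          rfl
      have := he.symm.trans (hsq.trans ht')
      exact_mod_cast this
    refine le_trans ?_ (H28Top.localDim_le_dim (f.asFiber x))
    show _ ≤ FlatMor.fibreDimAt f x
    rw [ht, Nat.cast_add, ← hd]
    gcongr
    let m := (IsLocalRing.maximalIdeal Os).map (f.stalkMap x).hom
    let π : Ox →+* B ⧸ Ideal.map (algebraMap A B) (IsLocalRing.maximalIdeal A) :=
      (Ideal.Quotient.mk _).comp (Ideal.Quotient.mk IX)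
    have hπ : ∀ z ∈ m, π z = 0 := fun z hz => (Ideal.map_le_iff_le_comap.mpr fun a ha => by
      show π (f.stalkMap x a) = 0
      refine Ideal.Quotient.eq_zero_iff_mem.mpr ?_
      exact Ideal.mem_map_of_mem (algebraMap A B) (show Ideal.Quotient.mk IS a ∈ IsLocalRing.maximalIdeal A from
        fun hu => ha (hlA.map_nonunit _ hu)) : m ≤ RingHom.ker π) hz
    exact ringKrullDim_le_of_surjective (Ideal.Quotient.lift m π hπ)
      (Ideal.Quotient.lift_surjective_of_surjective _ _
        (Ideal.Quotient.mk_surjective.comp Ideal.Quotient.mk_surjective))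
  have hsum : Algebra.trdeg A B = (d + e : ℕ) := by
    obtain ⟨n, hn, hn'⟩ := hgen
    rw [hn'] at hle ⊢
    have h1 : d + e ≤ n := by
      have h := hfib.trans (hdim.trans (show topologicalKrullDim ↑(f.fiber (genericPoint ↑S)) ≤ (n : WithBot ℕ∞) by
        rw [← hfξ]; exact hn))
      exact_mod_cast h
    have h2 : n ≤ d + e := by exact_mod_cast hle
    rw [le_antisymm h2 h1]
  -- the local equation
  obtain ⟨U, hU, g0, hxU, hZU⟩ := hZ x
  have hZiff : ∀ (w : X) (hw : w ∈ U), w ∈ (Z.support : Set ↑X) ↔ ¬ IsUnit (X.presheaf.germ U w hw g0) := by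
    intro w hw
    have h1 := Set.ext_iff.mp (Z.coe_support_inter ⟨U, hU⟩) w
    rw [Set.mem_inter_iff, Set.mem_inter_iff, hZU, Scheme.zeroLocus_span, Scheme.zeroLocus_singleton] at h1
    constructor
    · intro h hu
      exact (h1.mp ⟨h, hw⟩).1 ((Scheme.mem_basicOpen _ g0 w hw).mpr hu)
    · intro h
      exact (h1.mpr ⟨fun hb => h ((Scheme.mem_basicOpen _ g0 w hw).mp hb), hw⟩).1
  let g : B := Ideal.Quotient.mk IX (X.presheaf.germ U x hxU g0)
  have hg : g ∈ IsLocalRing.maximalIdeal B := fun hu => (hZiff x hxU).mp hxZ (hlB.map_nonunit _ hu)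
  -- points of the model as points of `X`
  have hpt : ∀ J : PrimeSpectrum Ox, X.fromSpecStalk x J ⤳ x ∧
      f (X.fromSpecStalk x J) = S.fromSpecStalk (f x) (PrimeSpectrum.comap (f.stalkMap x).hom J) ∧
      (X.presheaf.germ U x hxU g0 ∈ J.asIdeal → X.fromSpecStalk x J ∈ (Z.support : Set ↑X)) := by
    intro J
    obtain ⟨h, hJ⟩ := H3Cyc.GenStalk.ker_specMap_fromSpecStalk x J
    refine ⟨h, ?_, fun hJg => ?_⟩
    · show f (X.fromSpecStalk x J) = S.fromSpecStalk (f x) (Spec.map (f.stalkMap x) J)
      rw [← Scheme.Hom.comp_apply, ← Scheme.Hom.comp_apply, Scheme.SpecMap_stalkMap_fromSpecStalk]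
    · have hwU : X.fromSpecStalk x J ∈ U := h.mem_open U.2 hxU
      refine (hZiff _ hwU).mpr ?_
      rw [hJ, H3Cyc.GenStalk.mem_ker_iff, TopCat.Presheaf.germ_stalkSpecializes_apply] at hJg
      exact hJg
  by_cases hmin : ∀ q ∈ (Ideal.map (algebraMap A B) (IsLocalRing.maximalIdeal A)).minimalPrimes, g ∉ q
  · exfalso
    have hinj := S1404.result g hg hmin d e hd he hsum
    obtain ⟨P, hP, hP'⟩ := Ideal.exists_comap_eq_of_mem_minimalPrimes_of_injective hinj (⊥ : Ideal A)
      (by rw [IsDomain.minimalPrimes_eq_singleton_bot]; rfl)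
    let J : PrimeSpectrum Ox :=
      ⟨(P.comap (Ideal.Quotient.mk (Ideal.span {g}))).comap (Ideal.Quotient.mk IX), inferInstance⟩
    obtain ⟨-, hfJ, hJZ⟩ := hpt J
    refine hη _ (hJZ ?_) ?_
    · show Ideal.Quotient.mk _ g ∈ P
      rw [Ideal.Quotient.eq_zero_iff_mem.mpr (Ideal.mem_span_singleton_self g)]
      exact zero_mem _
    · rw [hfJ, ← hfξ]
      conv_rhs => rw [← H3Cyc.GenStalk.fromSpecStalk_eq (f x) (f ξ) hfx]
      congr 1
      refine PrimeSpectrum.ext ?_
      ext a
      show Ideal.Quotient.mk IS a ∈ P.comap (algebraMap A (B ⧸ Ideal.span {g})) ↔ a ∈ IS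
      rw [hP', Ideal.mem_bot, Ideal.Quotient.eq_zero_iff_mem]
  · push Not at hmin
    obtain ⟨q, hq, hgq⟩ := hmin
    haveI := hq.1.1
    let J : PrimeSpectrum Ox := ⟨q.comap (Ideal.Quotient.mk IX), inferInstance⟩
    obtain ⟨hwx, hfw, hwZ⟩ := hpt J
    let w := X.fromSpecStalk x J
    have hfw' : f w = f x := by
      rw [hfw]
      conv_rhs => rw [← Scheme.fromSpecStalk_closedPoint (X := S) (x := f x)]
      congr 1
      refine PrimeSpectrum.ext ?_
      show J.asIdeal.comap (f.stalkMap x).hom = IsLocalRing.maximalIdeal Os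
      refine le_antisymm (IsLocalRing.le_maximalIdeal (Ideal.comap_ne_top _ J.2.ne_top)) fun a ha => ?_
      exact hq.1.2 (Ideal.mem_map_of_mem (algebraMap A B) (show Ideal.Quotient.mk IS a ∈ IsLocalRing.maximalIdeal A
        from fun hu => ha (hlA.map_nonunit _ hu)))
    let F := ↑(f ⁻¹' {f x})
    let hom := f.fiberHomeo (f x)
    let uw : ↑(f.fiber (f x)) := hom.symm ⟨w, hfw'⟩
    have huw : f.fiberι (f x) uw = w := congrArg Subtype.val (hom.apply_symm_apply ⟨w, hfw'⟩)
    obtain ⟨v, hvw, hvmax⟩ := H22Alg.exists_max_generization uw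
    let z := f.fiberι (f x) v
    have hzw : z ⤳ w := by
      have := hvw.map (f.fiberι (f x)).continuous
      rwa [huw] at this
    have hzw' : z = w := by
      obtain ⟨J', hJ', hJ'k⟩ := H22Alg.DeltaDim.exists_prime (hzw.trans hwx)
      have hJle : J' ≤ J := by
        refine (PrimeSpectrum.le_iff_specializes _ _).mpr ((X.fromSpecStalk x).isEmbedding.isInducing.specializes_iff.mp ?_)
        rw [hJ']; exact hzw
      have hIXJ' : IX ≤ J'.asIdeal := by
        obtain ⟨Jξ, hJξ, hJξk⟩ := H22Alg.DeltaDim.exists_prime hξx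
        have : Jξ ≤ J' := by
          refine (PrimeSpectrum.le_iff_specializes _ _).mpr ((X.fromSpecStalk x).isEmbedding.isInducing.specializes_iff.mp ?_)
          rw [hJ', hJξ]; exact genericPoint_specializes z
        exact hJξk.ge.trans this
      haveI hJ'p : (J'.asIdeal.map (Ideal.Quotient.mk IX)).IsPrime := Ideal.isPrime_map_quotientMk_of_isPrime hIXJ'
      have hcm : (J'.asIdeal.map (Ideal.Quotient.mk IX)).comap (Ideal.Quotient.mk IX) = J'.asIdeal := by
        rw [Ideal.comap_map_of_surjective _ Ideal.Quotient.mk_surjective, ← RingHom.ker_eq_comap_bot, Ideal.mk_ker,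
          sup_eq_left.mpr hIXJ']
      have hfz : f z = f x := (f.range_fiberι (f x)).subset (Set.mem_range_self v)
      have hJ'm : (IsLocalRing.maximalIdeal Os) ≤ J'.asIdeal.comap (f.stalkMap x).hom := by
        have h2 : S.fromSpecStalk (f x) (PrimeSpectrum.comap (f.stalkMap x).hom J') =
            S.fromSpecStalk (f x) (IsLocalRing.closedPoint Os) := by
          rw [Scheme.fromSpecStalk_closedPoint, ← (hpt J').2.1, hJ', hfz]
        exact (congrArg PrimeSpectrum.asIdeal ((S.fromSpecStalk (f x)).isEmbedding.injective h2)).ge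
      have h3 : q ≤ J'.asIdeal.map (Ideal.Quotient.mk IX) := by
        refine hq.2 ⟨hJ'p, Ideal.map_le_iff_le_comap.mpr fun a ha => ?_⟩ ?_
        · obtain ⟨a, rfl⟩ := Ideal.Quotient.mk_surjective a
          exact Ideal.mem_map_of_mem (Ideal.Quotient.mk IX) (hJ'm (fun hu => ha (hu.map _)))
        · exact Ideal.map_le_iff_le_comap.mpr hJle
      have h4 : J' = J := le_antisymm hJle ((Ideal.comap_mono h3).trans hcm.le)
      show f.fiberι (f x) v = X.fromSpecStalk x J
      rw [← h4]; exact hJ'.symm
    have hv : v = uw := (f.fiberι (f x)).isEmbedding.injective (hzw'.trans huw.symm)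
    have hC := H22Alg.closure_mem_irreducibleComponents_of_max (η := uw) (hv ▸ hvmax)
    refine ⟨hom '' closure {uw}, ?_, ?_, ?_⟩
    · exact image_mem_irreducibleComponents_of_isPreirreducible_fiber hom hom.continuous hom.isOpenMap
        (fun _ => (Set.subsingleton_singleton.preimage hom.injective).isPreirreducible) hom.surjective hC
    · refine ⟨hom.symm ⟨x, rfl⟩, specializes_iff_mem_closure.mp ?_, hom.apply_symm_apply _⟩
      refine (f.fiberι (f x)).isEmbedding.isInducing.specializes_iff.mp ?_
      rw [huw, show f.fiberι (f x) (hom.symm ⟨x, rfl⟩) = x from congrArg Subtype.val (hom.apply_symm_apply ⟨x, rfl⟩)]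
      exact hwx
    · rintro _ ⟨_, ⟨v', hv', rfl⟩, rfl⟩
      have h5 : w ⤳ f.fiberι (f x) v' := by
        have := (specializes_iff_mem_closure.mpr hv').map (f.fiberι (f x)).continuous
        rwa [huw] at this
      exact h5.mem_closed Z.support.isClosed (hwZ hgq)

end Groth.Agent.S1387
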