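import Groth.Statements.S13872
import Groth.Agent.H22Alg.PolLawGamma

set_option autoImplicit false
universe u
open scoped TensorProduct
open ZeroCyc

namespace Groth.Agent.S13872

/-- Let A be a commutative ring, B an A-algebra and d ≥ 1; let (C, γ) be the degree-d divided power
algebra Γ^d_A(B) with its universal multiplicative law γ : B → C of degree d (every multiplicative
law of degree d out of B factors uniquely through γ), and let φ : Γ^d_A(B) → TS^d_A(B) be the
canonical homomorphism to the symmetric tensors, taken as data characterised by: after any base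
change S, φ ∘ γ sends Σ_j s_j ⊗ b_j to Σ_{c : [d] → [n]} (∏_i s_{c(i)}) ⊗ (b_{c(1)} ⊗ ⋯ ⊗ b_{c(d)}),
i.e. φ corresponds to the law x ↦ x ⊗ ⋯ ⊗ x. Then d!·x = 0 for every x in the kernel of φ, and d!·y
lies in the image of φ for every symmetric tensor y ∈ TS^d_A(B). (The published statement also
asserts x^{d!} = 0 and y^{d!} in the image of φ; those two halves are a separate result and are not
restated here.) -/
theorem result {A B C : Type u} [CommRing A] [CommRing B] [Algebra A B] [CommRing C] [Algebra A C] (d : ℕ) (hd : 0 < d)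
    (γ : PolLaw.MulLaw A B C d) (hγ : PolLaw.IsGammaD γ) (φ : C →ₐ[A] SymTen.TS A B d)
    (hφ : ∀ (S : Type u) [CommSemiring S] [Algebra A S] (n : ℕ) (s : Fin n → S) (b : Fin n → B),
      ((SymTen.TS A B d).val.comp φ).toLinearMap.lTensor S (γ.law.toFun' S (∑ j, s j ⊗ₜ[A] b j)) =
        ∑ c : Fin d → Fin n, (∏ i, s (c i)) ⊗ₜ[A] PiTensorProduct.tprod A (fun i => b (c i))) :
    (∀ x : C, φ x = 0 → d.factorial • x = 0) ∧
      (∀ y : SymTen.TS A B d, d.factorial • y ∈ φ.range) := by
  classical
  constructor
  · intro x hx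
    have hsp : Submodule.span A (Set.range (H22Alg.PL.co γ.law (id : B → B))) = ⊤ :=
      H22Alg.PL.span_co_eq_top hγ (by simp)
    have key : ∀ z : C, H22Alg.PL.polarT γ.homog ((φ z : SymTen.TS A B d) : ⨂[A] _ : Fin d, B) =
        d.factorial • z := by
      intro z
      have hz : z ∈ Submodule.span A (Set.range (H22Alg.PL.co γ.law (id : B → B))) := hsp ▸ Submodule.mem_top
      induction hz using Submodule.span_induction with
      | mem z hz =>
        obtain ⟨ν, rfl⟩ := hz
        rw [H22Alg.PL.val_co γ φ hφ]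
        by_cases hν : (ν.sum fun _ k => k) = d
        · exact H22Alg.PL.polarT_orbSum γ.homog id ν hν
        · have h0 : H22Alg.PL.orbSum (A := A) d (id : B → B) ν = 0 :=
            Finset.sum_eq_zero fun c hc =>
              absurd ((H22Alg.PL.mem_fib.mp hc) ▸ H22Alg.PL.degree_cnt c) hν
          rw [h0, map_zero, H22Alg.PL.co_eq_zero_of_degree_ne γ.homog id hν, smul_zero]
      | zero => simp
      | add a b _ _ ha hb => rw [map_add φ, Subalgebra.coe_add, map_add, ha, hb, nsmul_add]
      | smul r a _ ha => rw [map_smul φ, Subalgebra.coe_smul, map_smul, ha, smul_comm]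
    rw [← key, hx]
    simp
  · intro y
    refine ⟨H22Alg.PL.polarT γ.homog (y : ⨂[A] _ : Fin d, B), Subtype.ext ?_⟩
    show ((φ (H22Alg.PL.polarT γ.homog (y : ⨂[A] _ : Fin d, B)) : SymTen.TS A B d) : ⨂[A] _ : Fin d, B) = _
    rw [H22Alg.PL.val_polarT γ φ hφ, Finset.sum_congr rfl (fun σ _ => y.2 σ), Finset.sum_const,
      Finset.card_univ, Fintype.card_perm, Fintype.card_fin]
    rfl

end Groth.Agent.S13872
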