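import Groth.Statements.S13873
import Groth.Agent.H22Alg.PolLawFlat
import Groth.Agent.S13872

set_option autoImplicit false
universe u
open scoped TensorProduct
open ZeroCyc

namespace Groth.Agent.S13873

/-- Let A be a commutative ring, B an A-algebra and d ≥ 0, and assume that B is flat over A or that d!
is invertible in A. Then TS^d_A(B) with the law x ↦ x ⊗ ⋯ ⊗ x is the degree-d divided power algebra
of B: there is a multiplicative polynomial law τ : B → TS^d_A(B) over A, homogeneous of degree d,
which after any base change S sends Σ_j s_j ⊗ b_j to Σ_{c : [d] → [n]} (∏_i s_{c(i)}) ⊗ (b_{c(1)} ⊗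
⋯ ⊗ b_{c(d)}) inside S ⊗ T^d_A(B), and every multiplicative law of degree d out of B with values in
an A-algebra factors through τ by a unique algebra homomorphism. Equivalently, the canonical
homomorphism Γ^d_A(B) → TS^d_A(B) is an isomorphism. (The invertibility of d! is the hypothesis
printed for modules; for algebras the text names the case where A contains the rationals.) -/
theorem result {A B : Type u} [CommRing A] [CommRing B] [Algebra A B] (d : ℕ)
    (h : Module.Flat A B ∨ IsUnit ((d.factorial : ℕ) : A)) :
    ∃ τ : PolLaw.MulLaw A B (SymTen.TS A B d) d,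
      (∀ (S : Type u) [CommSemiring S] [Algebra A S] (n : ℕ) (s : Fin n → S) (b : Fin n → B),
        (SymTen.TS A B d).val.toLinearMap.lTensor S (τ.law.toFun' S (∑ j, s j ⊗ₜ[A] b j)) =
          ∑ c : Fin d → Fin n, (∏ i, s (c i)) ⊗ₜ[A] PiTensorProduct.tprod A (fun i => b (c i))) ∧
      PolLaw.IsGammaD τ := by
  obtain ⟨C, i1, i2, γ, φ, τ, hγ, hτ, hφ, hiff⟩ := H22Alg.PL.exists_comparison A B d
  refine ⟨τ, hτ, hiff ?_⟩
  rcases h with h | h
  · exact H22Alg.PL.bijective_of_flat hγ hφ
  rcases Nat.eq_zero_or_pos d with rfl | hd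
  · -- degree zero: the polarisation inverts the comparison map
    classical
    refine ⟨(injective_iff_map_eq_zero φ).mpr fun x hx => ?_, fun y => ?_⟩
    · have key : ∀ z : C, H22Alg.PL.polarT γ.homog ((φ z : SymTen.TS A B 0) : ⨂[A] _ : Fin 0, B) = z := by
        intro z
        have hz : z ∈ Submodule.span A (Set.range (H22Alg.PL.co γ.law (id : B → B))) :=
          (H22Alg.PL.span_co_eq_top hγ (by simp)).ge Submodule.mem_top
        induction hz using Submodule.span_induction with
        | mem z hz =>
          obtain ⟨ν, rfl⟩ := hz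
          rw [H22Alg.PL.val_co γ φ hφ]
          by_cases hν : (ν.sum fun _ k => k) = 0
          · rw [H22Alg.PL.polarT_orbSum γ.homog id ν hν, Nat.factorial_zero, one_smul]
          · have h0 : H22Alg.PL.orbSum (A := A) 0 (id : B → B) ν = 0 :=
              Finset.sum_eq_zero fun c hc =>
                absurd ((H22Alg.PL.mem_fib.mp hc) ▸ H22Alg.PL.degree_cnt c) hν
            rw [h0, map_zero, H22Alg.PL.co_eq_zero_of_degree_ne γ.homog id hν]
        | zero => simp
        | add a b _ _ ha hb => rw [map_add φ, Subalgebra.coe_add, map_add, ha, hb]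
        | smul r a _ ha => rw [map_smul φ, Subalgebra.coe_smul, map_smul, ha]
      rw [← key x, hx]
      simp
    · refine ⟨H22Alg.PL.polarT γ.homog (y : ⨂[A] _ : Fin 0, B), Subtype.ext ?_⟩
      rw [H22Alg.PL.val_polarT γ φ hφ, Finset.sum_congr rfl (fun σ _ => y.2 σ), Finset.sum_const,
        Finset.card_univ, Fintype.card_perm, Fintype.card_fin, Nat.factorial_zero, one_smul]
  · obtain ⟨h1, h2⟩ := Groth.Agent.S13872.result d hd γ hγ φ hφ
    obtain ⟨v, hv⟩ := h.exists_left_inv
    refine ⟨(injective_iff_map_eq_zero φ).mpr fun x hx => ?_, fun y => ?_⟩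
    · have h3 : (d.factorial : A) • x = 0 := by rw [Nat.cast_smul_eq_nsmul]; exact h1 x hx
      rw [← one_smul A x, ← hv, mul_smul, h3, smul_zero]
    · obtain ⟨c, hc⟩ := h2 y
      refine ⟨v • c, ?_⟩
      rw [map_smul, show φ c = d.factorial • y from hc, ← Nat.cast_smul_eq_nsmul A, smul_smul, hv, one_smul]

end Groth.Agent.S13873
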