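import Groth.Statements.S13874
import Groth.Agent.S13398
import Groth.Agent.H7Flat.UnivHomeo
import Groth.Agent.H22Alg.TSResidue
import Groth.Agent.H22Alg.SpecResidue

set_option autoImplicit false
universe u
open scoped TensorProduct
open AlgebraicGeometry
open ZeroCyc

namespace Groth.Agent.S13874

/-- Affine form. Let A be a commutative ring, B an A-algebra and d ≥ 1; let (C, γ) be the degree-d
divided power algebra Γ^d_A(B) with its universal multiplicative law γ : B → C of degree d (every
multiplicative law of degree d out of B factors uniquely through γ), and let φ : Γ^d_A(B) →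
TS^d_A(B) be the canonical homomorphism to the symmetric tensors, taken as data characterised by:
after any base change S, φ ∘ γ sends Σ_j s_j ⊗ b_j to Σ_{c : [d] → [n]} (∏_i s_{c(i)}) ⊗ (b_{c(1)} ⊗
⋯ ⊗ b_{c(d)}), i.e. φ corresponds to the law x ↦ x ⊗ ⋯ ⊗ x. Then the morphism Spec TS^d_A(B) → Spec
Γ^d_A(B) induced by φ (the comparison map from the d-th symmetric product of Spec B over Spec A to
the scheme of degree-d divided powers) is a universal homeomorphism inducing an isomorphism on every
residue field. (The published statement is for a separated algebraic space X over an algebraic space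
S; this row is its content for X = Spec B over S = Spec A. The second assertion of the published
statement, that the map is an isomorphism when B is flat over A or A contains the rationals, is not
part of this row.) -/
theorem result {A B C : Type u} [CommRing A] [CommRing B] [Algebra A B] [CommRing C] [Algebra A C] (d : ℕ) (hd : 0 < d)
    (γ : PolLaw.MulLaw A B C d) (hγ : PolLaw.IsGammaD γ) (φ : C →ₐ[A] SymTen.TS A B d)
    (hφ : ∀ (S : Type u) [CommSemiring S] [Algebra A S] (n : ℕ) (s : Fin n → S) (b : Fin n → B),
      ((SymTen.TS A B d).val.comp φ).toLinearMap.lTensor S (γ.law.toFun' S (∑ j, s j ⊗ₜ[A] b j)) =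
        ∑ c : Fin d → Fin n, (∏ i, s (c i)) ⊗ₜ[A] PiTensorProduct.tprod A (fun i => b (c i))) :
    FlatMor.IsUnivHomeo (Spec.map (CommRingCat.ofHom φ.toRingHom)) ∧
      ∀ x : ↥(Spec (CommRingCat.of (SymTen.TS A B d))),
        Function.Surjective ((Spec.map (CommRingCat.ofHom φ.toRingHom)).residueFieldMap x).hom := by
  classical
  obtain ⟨hker, hpow⟩ := Groth.Agent.S13398.result d γ hγ φ hφ
  have hN : d.factorial ≠ 0 := d.factorial_ne_zero
  have hint : φ.toRingHom.IsIntegral := fun y => by
    obtain ⟨c, hc⟩ := hpow y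
    exact ⟨Polynomial.X ^ d.factorial - Polynomial.C c, Polynomial.monic_X_pow_sub_C c hN, by
      rw [Polynomial.eval₂_sub, Polynomial.eval₂_X_pow, Polynomial.eval₂_C, sub_eq_zero, ← hc]⟩
  set f := Spec.map (CommRingCat.ofHom φ.toRingHom) with hf
  have hres : ∀ x : ↥(Spec (CommRingCat.of (SymTen.TS A B d))),
      Function.Surjective (f.residueFieldMap x).hom := fun x => by
    haveI : x.asIdeal.IsPrime := x.isPrime
    exact Groth.Agent.H22Alg.surjective_residueFieldMap (CommRingCat.ofHom φ.toRingHom) x fun y =>
      Groth.Agent.H22Alg.PL.exists_fraction γ φ hφ x.asIdeal y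
  refine ⟨(Groth.Agent.H7Flat.isUnivHomeo_iff f).mpr ⟨IsIntegralHom.SpecMap_iff.mpr hint, ?_, ⟨fun p => ?_⟩⟩, hres⟩
  · have h02 : UniversallyInjective f ↔
        Function.Injective f ∧ ∀ x, (f.residueFieldMap x).hom.IsPurelyInseparable :=
      (AlgebraicGeometry.tfae_universallyInjective f).out 0 2
    refine h02.mpr ⟨fun p q hpq => ?_, fun x => ?_⟩
    · have hcomap : p.asIdeal.comap φ.toRingHom = q.asIdeal.comap φ.toRingHom := congrArg PrimeSpectrum.asIdeal hpq
      refine PrimeSpectrum.ext (Ideal.ext fun y => ?_)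
      obtain ⟨c, hc⟩ := hpow y
      rw [← p.isPrime.pow_mem_iff_mem d.factorial (Nat.pos_of_ne_zero hN),
        ← q.isPrime.pow_mem_iff_mem d.factorial (Nat.pos_of_ne_zero hN), ← hc]
      exact ⟨fun h => (hcomap.le h : c ∈ q.asIdeal.comap φ.toRingHom),
        fun h => (hcomap.ge h : c ∈ p.asIdeal.comap φ.toRingHom)⟩
    · unfold RingHom.IsPurelyInseparable
      letI := (f.residueFieldMap x).hom.toAlgebra
      refine ⟨⟨fun z => ?_⟩, fun z _ => hres x z⟩
      obtain ⟨w, rfl⟩ := hres x z
      exact isIntegral_algebraMap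
  · letI := φ.toRingHom.toAlgebra
    haveI : Algebra.IsIntegral C (SymTen.TS A B d) := ⟨hint⟩
    haveI := p.isPrime
    obtain ⟨Q, -, hQ, hQp⟩ := Ideal.exists_ideal_over_prime_of_isIntegral p.asIdeal
      (⊥ : Ideal (SymTen.TS A B d)) (fun c hc => by
        rw [Ideal.mem_comap, Ideal.mem_bot] at hc
        exact p.isPrime.mem_of_pow_mem d.factorial (by rw [hker c hc]; exact zero_mem _))
    exact ⟨⟨Q, hQ⟩, PrimeSpectrum.ext hQp⟩

end Groth.Agent.S13874
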