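import Groth.Statements.S13876
import Groth.Agent.H22Alg.DetProjective

set_option autoImplicit false
universe u
open scoped TensorProduct
open ZeroCyc

namespace Groth.Agent.S13876

/-- Affine form of the determinant law of a locally free module. Let A be a commutative ring, B a
commutative A-algebra, d ≥ 0, and M a B-module which as an A-module is finitely generated projective
of constant rank d (its localisation at every prime of A has rank d). Then there is exactly one
multiplicative polynomial law N : B → A over A, homogeneous of degree d, such that for every local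
A-algebra S and every x ∈ S ⊗_A B the value N(x) ∈ S is the determinant of x acting on the free
S-module S ⊗_A M. (For M free of rank d over A it is the determinant law of M; the members over
arbitrary test algebras are determined by those over local ones.) -/
theorem result {A B M : Type u} [CommRing A] [CommRing B] [Algebra A B]
    [AddCommGroup M] [Module A M] [Module B M] [IsScalarTower A B M] [Module.Finite A M] [Module.Projective A M]
    (d : ℕ) (hd : ∀ p : PrimeSpectrum A, Module.rankAtStalk M p = d) :
    ∃! N : PolLaw.MulLaw A B A d, ∀ (S : Type u) [CommRing S] [IsLocalRing S] [Algebra A S] (x : S ⊗[A] B),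
      N.law.toFun' S x = PolLaw.detAct M S x ⊗ₜ[A] (1 : A) := by
  classical
  obtain ⟨N, ⟨hmul, hN⟩, huniq⟩ := Groth.Agent.H22Alg.PL.existsUnique_det B M (A := A)
  have hfin : ∀ (S : Type u) [CommRing S] [IsLocalRing S] [Algebra A S],
      Module.finrank S (S ⊗[A] M) = d := by
    intro S _ _ _
    haveI : Module.Free S (S ⊗[A] M) := Module.free_of_flat_of_isLocalRing
    have h := Module.rankAtStalk_baseChange (R := A) (M := M) (S := S) (IsLocalRing.closedPoint S)
    rw [hd, Module.rankAtStalk_eq_finrank_of_free] at h
    exact h
  have hhom : PolLaw.IsHomog N d := by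
    intro S i _ s x
    letI : CommRing S := { Algebra.semiringToRing A, i with }
    apply (Algebra.TensorProduct.rid A S S).injective
    refine Groth.Agent.H22Alg.PL.eq_of_local (A := A) fun m _ => ?_
    set φ := IsScalarTower.toAlgHom A S (Localization.AtPrime m)
    have key : ∀ y : S ⊗[A] B, φ (Algebra.TensorProduct.rid A S S (N.toFun' S y)) =
        PolLaw.detAct M (Localization.AtPrime m) (Groth.Agent.H22Alg.PL.bc φ y) := by
      intro y
      have h := congrFun (N.isCompat' φ) y
      simp only [Function.comp_apply] at h
      rw [hN _ (φ.toLinearMap.rTensor B y)] at h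
      generalize N.toFun' S y = w at h ⊢
      obtain ⟨t, rfl⟩ : ∃ t : S, w = t ⊗ₜ[A] (1 : A) :=
        ⟨_, ((Algebra.TensorProduct.rid A S S).symm_apply_apply w).symm⟩
      rw [LinearMap.rTensor_tmul, AlgHom.toLinearMap_apply] at h
      simp only [Groth.Agent.H22Alg.PL.rTensor_eq_map] at h
      simpa using congrArg (Algebra.TensorProduct.rid A (Localization.AtPrime m) (Localization.AtPrime m)) h
    haveI : Module.Free (Localization.AtPrime m) (Localization.AtPrime m ⊗[A] M) :=
      Module.free_of_flat_of_isLocalRing (R := Localization.AtPrime m) (P := Localization.AtPrime m ⊗[A] M)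
    rw [map_smul, smul_eq_mul, map_mul, map_pow, key, key, Groth.Agent.H22Alg.PL.bc_smul]
    unfold PolLaw.detAct
    rw [map_smul, LinearMap.det_smul, hfin]
  refine ⟨⟨N, hhom, hmul⟩, hN, fun G hG => PolLaw.MulLaw.ext ?_⟩
  exact huniq G.law ⟨G.mult, hG⟩

end Groth.Agent.S13876
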