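import Groth.Statements.S13877
import Groth.Agent.H23Crimp.Basic
import Groth.Agent.H22Alg.DetLengthGeneral
import Mathlib.Algebra.CharP.Algebra

set_option autoImplicit false
universe u v
open Crimp

namespace Groth.Agent.S13877

/-- Over R = k⟦t⟧ with k an algebraically closed field of characteristic zero, let S' be a commutative
R-algebra with an R-basis of size d whose discriminant generates the ideal (t ^ a) (a finite cover
of the formal disk of degree d, unramified over the punctured disk, with branch divisor (t ^ a)),
and let S be an R-subalgebra of S' with an R-basis of size d whose discriminant generates (t ^ b) (a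
crimp with branch divisor (t ^ b)). Then t ^ b annihilates S' / S and twice the R-length of S' / S
plus a equals b. (The published statement is for a family of such subalgebras over a k-scheme T and
also asserts T-flatness of the quotient; this row is its restriction to T a point.) -/
theorem result {k : Type u} [Field k] [IsAlgClosed k] [CharZero k]
    {St : Type v} [CommRing St] [Algebra (PowerSeries k) St] (d a b : ℕ)
    (bt : Module.Basis (Fin d) (PowerSeries k) St)
    (ha : Ideal.span {Algebra.discr (PowerSeries k) ⇑bt} = Ideal.span {(PowerSeries.X : PowerSeries k) ^ a})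
    (S : Subalgebra (PowerSeries k) St) (bS : Module.Basis (Fin d) (PowerSeries k) S)
    (hb : Ideal.span {Algebra.discr (PowerSeries k) ⇑bS} = Ideal.span {(PowerSeries.X : PowerSeries k) ^ b}) :
    (∀ q : St ⧸ Subalgebra.toSubmodule S, ((PowerSeries.X : PowerSeries k) ^ b) • q = 0) ∧
    2 * Module.length (PowerSeries k) (St ⧸ Subalgebra.toSubmodule S) + (a : ℕ∞) = (b : ℕ∞) := by
  classical
  set X : PowerSeries k := PowerSeries.X
  let v : Fin d → St := fun i => (bS i : St)
  set P := bt.toMatrix v with hP
  have hv : LinearIndependent (PowerSeries k) v :=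
    bS.linearIndependent.map' S.val.toLinearMap (LinearMap.ker_eq_bot.mpr Subtype.val_injective)
  have hdet : P.det ≠ 0 := Groth.Agent.H23Crimp.det_toMatrix_ne_zero bt hv
  -- the trace of `S` is the restriction of the trace of `St`
  have hcoe : ∀ y : S, (y : St) = ∑ j, bS.repr y j • v j := fun y => by
    have h := congrArg S.val (bS.sum_repr y).symm
    rw [map_sum] at h
    exact h.trans (Finset.sum_congr rfl fun j _ => map_smul S.val _ _)
  have htr : ∀ s : S, Algebra.trace (PowerSeries k) S s = Algebra.trace (PowerSeries k) St (s : St) := by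
    intro s
    have hM : Algebra.leftMulMatrix bt (s : St) * P = P * Algebra.leftMulMatrix bS s := by
      ext i j
      have e1 : (Algebra.leftMulMatrix bt (s : St) * P) i j = bt.repr ((s : St) * v j) i := by
        rw [← Algebra.leftMulMatrix_mulVec_repr]
        rfl
      have e2 : (P * Algebra.leftMulMatrix bS s) i j = bt.repr ((s * bS j : S) : St) i := by
        rw [hcoe (s * bS j)]
        simp [P, Matrix.mul_apply, Algebra.leftMulMatrix_eq_repr_mul, Module.Basis.toMatrix_apply, mul_comm]
      rw [e1, e2]
      rfl
    have h2 : P.adjugate * Algebra.leftMulMatrix bt (s : St) * P = P.det • Algebra.leftMulMatrix bS s := by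
      rw [Matrix.mul_assoc, hM, ← Matrix.mul_assoc, Matrix.adjugate_mul, Matrix.smul_mul, Matrix.one_mul]
    have h3 := congrArg Matrix.trace h2
    rw [Matrix.trace_mul_cycle, Matrix.mul_adjugate, Matrix.smul_mul, Matrix.one_mul, Matrix.trace_smul,
      Matrix.trace_smul, smul_eq_mul, smul_eq_mul] at h3
    rw [Algebra.trace_eq_matrix_trace bS, Algebra.trace_eq_matrix_trace bt]
    exact (mul_left_cancel₀ hdet h3).symm
  have hdisc : Algebra.discr (PowerSeries k) ⇑bS = P.det ^ 2 * Algebra.discr (PowerSeries k) ⇑bt := by
    have h1 : Algebra.discr (PowerSeries k) ⇑bS = Algebra.discr (PowerSeries k) v := by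
      rw [Algebra.discr_def, Algebra.discr_def]
      congr 1
      ext i j
      simp [Algebra.traceMatrix_apply, Algebra.traceForm_apply, htr, v]
    rw [h1, ← Algebra.discr_of_matrix_vecMul, hP, bt.toMatrix_map_vecMul v]
  obtain ⟨e, he⟩ := Groth.Agent.H23Crimp.exists_associated_pow hdet
  have hab : 2 * e + a = b := by
    apply Groth.Agent.H23Crimp.pow_eq_of_span_eq (k := k)
    rw [← hb, hdisc, Ideal.span_singleton_eq_span_singleton, pow_add, mul_comm 2 e, pow_mul]
    exact ((he.pow_pow (n := 2)).mul_mul (Ideal.span_singleton_eq_span_singleton.mp ha)).symm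
  refine ⟨fun q => ?_, ?_⟩
  · obtain ⟨z, rfl⟩ := Submodule.Quotient.mk_surjective _ q
    rw [← Submodule.Quotient.mk_smul, Submodule.Quotient.mk_eq_zero]
    obtain ⟨c, hc⟩ : P.det ∣ X ^ b := he.dvd.trans (pow_dvd_pow X (by omega))
    rw [hc, mul_comm, mul_smul]
    refine (Subalgebra.toSubmodule S).smul_mem _ ?_
    refine (Submodule.span_le.mpr ?_) (Groth.Agent.H23Crimp.det_smul_mem bt v z)
    rintro _ ⟨i, rfl⟩
    exact (bS i).2
  · have hmap : (Subalgebra.toSubmodule S).map (bt.equivFun : St →ₗ[PowerSeries k] (Fin d → PowerSeries k)) =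
        LinearMap.range P.mulVecLin := by
      ext w
      constructor
      · rintro ⟨y, hy, rfl⟩
        refine ⟨fun j => bS.repr ⟨y, hy⟩ j, ?_⟩
        have h := hcoe ⟨y, hy⟩
        change y = _ at h
        funext i
        conv_rhs => rw [h]
        simp [P, Matrix.mulVec, dotProduct, Module.Basis.toMatrix_apply, mul_comm, Finsupp.finset_sum_apply]
      · rintro ⟨c, rfl⟩
        refine ⟨∑ j, c j • v j, Submodule.sum_mem _ fun j _ => Submodule.smul_mem _ _ (bS j).2, ?_⟩
        funext i
        simp [P, Matrix.mulVec, dotProduct, Module.Basis.toMatrix_apply, mul_comm, Finsupp.finset_sum_apply]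
    have hlen : Module.length (PowerSeries k) (St ⧸ Subalgebra.toSubmodule S) = (e : ℕ∞) := by
      rw [(Submodule.Quotient.equiv _ _ bt.equivFun hmap).length_eq]
      change Groth.Agent.H22Alg.cokerLength P = _
      rw [Groth.Agent.H22Alg.cokerLength_eq_ord_det P (mem_nonZeroDivisors_of_ne_zero hdet),
        Ring.ord_eq_of_associated he, Ring.ord_pow (mem_nonZeroDivisors_of_ne_zero PowerSeries.X_ne_zero),
        Ring.ord_of_irreducible PowerSeries.X_prime.irreducible, nsmul_eq_mul, mul_one]
    rw [hlen, ← hab]
    push_cast
    rfl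

end Groth.Agent.S13877
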