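import Groth.Statements.S13878
import Mathlib

set_option autoImplicit false
universe u
open Crimp

namespace Groth.Agent.S13878

/-- Over R = k⟦t⟧ with k an algebraically closed field of characteristic zero, let S' = R × R × R (the
unramified triple cover of the formal disk) and let S be an R-submodule of S' containing 1 such that
S' / S is isomorphic to R / (t ^ m) ⊕ R / (t ^ n) with m ≤ n. Then t ^ n S' is contained in S, and
there is f in S', not lying in R·1 + t S', such that S = R·1 + R·(t ^ m f) + t ^ n S'. -/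
theorem result {k : Type u} [Field k] [IsAlgClosed k] [CharZero k] (m n : ℕ) (hmn : m ≤ n)
    (S : Submodule (PowerSeries k) (Fin 3 → PowerSeries k))
    (h1 : (1 : (Fin 3 → PowerSeries k)) ∈ S)
    (e : ((Fin 3 → PowerSeries k) ⧸ S) ≃ₗ[PowerSeries k]
      ((PowerSeries k ⧸ Ideal.span {(PowerSeries.X : PowerSeries k) ^ m}) × (PowerSeries k ⧸ Ideal.span {(PowerSeries.X : PowerSeries k) ^ n}))) :
    Ideal.span {(PowerSeries.X : PowerSeries k) ^ n} • (⊤ : Submodule (PowerSeries k) (Fin 3 → PowerSeries k)) ≤ S ∧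
    ∃ f : (Fin 3 → PowerSeries k),
      f ∉ Submodule.span (PowerSeries k) {(1 : (Fin 3 → PowerSeries k))} ⊔ Ideal.span {(PowerSeries.X : PowerSeries k)} • (⊤ : Submodule (PowerSeries k) (Fin 3 → PowerSeries k)) ∧
      S = Submodule.span (PowerSeries k) {(1 : (Fin 3 → PowerSeries k)), ((PowerSeries.X : PowerSeries k) ^ m) • f} ⊔
        Ideal.span {(PowerSeries.X : PowerSeries k) ^ n} • (⊤ : Submodule (PowerSeries k) (Fin 3 → PowerSeries k)) := by
  classical
  let X : PowerSeries k := PowerSeries.X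
  let q : (Fin 3 → PowerSeries k) →ₗ[PowerSeries k]
      ((PowerSeries k ⧸ Ideal.span {X ^ m}) × (PowerSeries k ⧸ Ideal.span {X ^ n})) :=
    e.toLinearMap.comp S.mkQ
  have hq : ∀ x, q x = 0 ↔ x ∈ S := fun x =>
    (LinearEquiv.map_eq_zero_iff e).trans (Submodule.Quotient.mk_eq_zero S)
  have hqs : Function.Surjective q := e.surjective.comp S.mkQ_surjective
  have hmk : ∀ (j : ℕ) (r : PowerSeries k) (a : PowerSeries k),
      r • Ideal.Quotient.mk (Ideal.span {X ^ j}) a = Ideal.Quotient.mk (Ideal.span {X ^ j}) (r * a) :=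
    fun j r a => rfl
  have hzero : ∀ (j : ℕ) (a : PowerSeries k),
      Ideal.Quotient.mk (Ideal.span {X ^ j}) a = 0 ↔ X ^ j ∣ a :=
    fun j a => Ideal.Quotient.eq_zero_iff_dvd _ _
  have hle : Ideal.span {X ^ n} • (⊤ : Submodule (PowerSeries k) (Fin 3 → PowerSeries k)) ≤ S := by
    rw [Submodule.ideal_span_singleton_smul]
    rintro _ ⟨z, -, rfl⟩
    refine (hq _).mp ?_
    obtain ⟨a, b⟩ : ∃ a b, q z = (Ideal.Quotient.mk _ a, Ideal.Quotient.mk _ b) := by
      obtain ⟨a, ha⟩ := Ideal.Quotient.mk_surjective (q z).1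
      obtain ⟨b, hb⟩ := Ideal.Quotient.mk_surjective (q z).2
      exact ⟨a, b, Prod.ext ha.symm hb.symm⟩
    rename_i b hb
    obtain ⟨b, hb⟩ := b
    change q (X ^ n • z) = 0
    rw [map_smul, hb, Prod.smul_mk, hmk, hmk, Prod.mk_eq_zero, hzero, hzero]
    exact ⟨(pow_dvd_pow X hmn).mul_right _, dvd_mul_right _ _⟩
  refine ⟨hle, ?_⟩
  have hc0 : ∀ (x : Fin 3 → PowerSeries k),
      x ∈ Submodule.span (PowerSeries k) {(1 : Fin 3 → PowerSeries k)} ⊔
        Ideal.span {X} • (⊤ : Submodule (PowerSeries k) (Fin 3 → PowerSeries k)) →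
      ∀ i j, PowerSeries.constantCoeff (x i) = PowerSeries.constantCoeff (x j) := by
    intro x hx i j
    obtain ⟨y, hy, z, hz, rfl⟩ := Submodule.mem_sup.mp hx
    obtain ⟨a, rfl⟩ := Submodule.mem_span_singleton.mp hy
    rw [Submodule.ideal_span_singleton_smul] at hz
    obtain ⟨z', -, rfl⟩ := hz
    simp [X]
  rcases Nat.eq_zero_or_pos n with rfl | hn
  · obtain rfl : m = 0 := Nat.le_zero.mp hmn
    have htop : S = ⊤ := by
      rw [eq_top_iff]
      refine le_trans ?_ hle
      rw [pow_zero, Ideal.span_singleton_one, Submodule.top_smul]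
    refine ⟨Pi.single 0 1, fun h => by simpa using hc0 _ h 0 1, ?_⟩
    rw [htop, pow_zero, Ideal.span_singleton_one, Submodule.top_smul, sup_top_eq]
  obtain ⟨v, hv⟩ := hqs (0, Ideal.Quotient.mk _ 1)
  have hvij : ∃ i j l : Fin 3, i ≠ j ∧ i ≠ l ∧ j ≠ l ∧
      PowerSeries.constantCoeff (v i) ≠ PowerSeries.constantCoeff (v j) := by
    by_contra hne
    push Not at hne
    have h01 := hne 0 1 2 (by decide) (by decide) (by decide)
    have h02 := hne 0 2 1 (by decide) (by decide) (by decide)
    have hd : ∀ i, X ∣ v i - v 0 := by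
      intro i
      rw [PowerSeries.X_dvd_iff, map_sub]
      fin_cases i <;> simp [← h01, ← h02]
    choose z hz using hd
    have hv' : v = v 0 • (1 : Fin 3 → PowerSeries k) + X • z := by
      funext i
      simp [← hz i]
    have h2 := congrArg (fun t => (q t).2) hv'
    simp only [map_add, map_smul, hv, (hq 1).mpr h1, smul_zero, zero_add, Prod.smul_snd] at h2
    obtain ⟨b, hb⟩ := Ideal.Quotient.mk_surjective (q z).2
    rw [← hb, hmk, ← sub_eq_zero, ← map_sub, hzero] at h2
    have := (dvd_pow_self X hn.ne').trans h2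
    rw [PowerSeries.X_dvd_iff] at this
    simp [X] at this
  obtain ⟨i, j, l, hij, hil, hjl, hne⟩ := hvij
  obtain ⟨α, hα⟩ := Ideal.Quotient.mk_surjective (q (Pi.single l 1)).1
  obtain ⟨β, hβ⟩ := Ideal.Quotient.mk_surjective (q (Pi.single l 1)).2
  let u : Fin 3 → PowerSeries k := Pi.single l 1 - β • v
  have hqu : q u = (Ideal.Quotient.mk _ α, 0) := by
    refine Prod.ext ?_ ?_
    · simp [u, map_sub, map_smul, hv, ← hα]
    · simp only [u, map_sub, map_smul, hv, Prod.snd_sub, Prod.smul_snd, hmk, mul_one, ← hβ, sub_self]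
  have hspan : ∀ z : Fin 3 → PowerSeries k,
      ∃ a b c : PowerSeries k, z = a • (1 : Fin 3 → PowerSeries k) + b • u + c • v := by
    intro z
    obtain ⟨d, hd⟩ : IsUnit (v i - v j) := by
      rw [PowerSeries.isUnit_iff_constantCoeff, map_sub]
      exact isUnit_iff_ne_zero.mpr (sub_ne_zero.mpr hne)
    set c := (z i - z j) * (↑d⁻¹ : PowerSeries k) with hc
    have hcd : c * (v i - v j) = z i - z j := by rw [hc, mul_assoc, ← hd, Units.inv_mul, mul_one]
    set a := z i - c * v i
    set b := z l - a - c * v l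
    refine ⟨a, b, c + b * β, ?_⟩
    funext t
    simp only [u, Pi.add_apply, Pi.smul_apply, Pi.one_apply, Pi.sub_apply, smul_eq_mul, mul_one]
    obtain rfl | rfl | rfl : t = i ∨ t = j ∨ t = l := by omega
    · rw [Pi.single_eq_of_ne hil]; ring
    · rw [Pi.single_eq_of_ne hjl]
      linear_combination hcd
    · rw [Pi.single_eq_same]; ring
  have hαu : ∀ b, X ^ m ∣ b * α → X ^ m ∣ b := by
    intro b hb
    obtain ⟨w, hw⟩ := hqs (Ideal.Quotient.mk _ 1, 0)
    obtain ⟨a', b', c', rfl⟩ := hspan w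
    have h2 := congrArg Prod.fst hw
    simp only [map_add, map_smul, (hq 1).mpr h1, hqu, hv, smul_zero, zero_add, Prod.fst_add,
      Prod.smul_fst, add_zero, hmk] at h2
    rw [← sub_eq_zero, ← map_sub, hzero] at h2
    have : b = b' * (b * α) - b * (b' * α - 1) := by ring
    rw [this]
    exact dvd_sub (hb.mul_left _) (h2.mul_left _)
  refine ⟨u, fun h => ?_, le_antisymm (fun x hx => ?_) (sup_le ?_ hle)⟩
  · have h3 := hc0 u h i j
    have h4 := hc0 u h i l
    simp only [u, Pi.sub_apply, Pi.single_eq_of_ne hil, Pi.single_eq_of_ne hjl, Pi.single_eq_same,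
      Pi.smul_apply, smul_eq_mul, map_sub, map_mul, map_zero, map_one] at h3 h4
    have hb0 : PowerSeries.constantCoeff β * (PowerSeries.constantCoeff (v i) -
        PowerSeries.constantCoeff (v j)) = 0 := by linear_combination -h3
    rw [(mul_eq_zero.mp hb0).resolve_right (sub_ne_zero.mpr hne)] at h4
    simp at h4
  · obtain ⟨a, b, c, rfl⟩ := hspan x
    have h2 := (hq _).mpr hx
    simp only [map_add, map_smul, (hq 1).mpr h1, hqu, hv, smul_zero, zero_add, Prod.smul_mk,
      smul_zero, Prod.mk_add_mk, add_zero, Prod.mk_eq_zero, hmk, hzero] at h2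
    obtain ⟨b', rfl⟩ := hαu b h2.1
    obtain ⟨c', hc'⟩ := h2.2
    rw [mul_one] at hc'
    subst hc'
    refine Submodule.add_mem_sup (Submodule.add_mem _ ?_ ?_) ?_
    · exact Submodule.smul_mem _ _ (Submodule.subset_span (by simp))
    · rw [mul_comm, ← smul_smul]
      exact Submodule.smul_mem _ _ (Submodule.subset_span (by simp [X]))
    · rw [← smul_smul]
      exact Submodule.smul_mem_smul (Ideal.mem_span_singleton_self _) Submodule.mem_top
  · rw [Submodule.span_le]
    rintro y (rfl | rfl)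
    · exact h1
    · refine (hq _).mp ?_
      change q (X ^ m • u) = 0
      rw [map_smul, hqu, Prod.smul_mk, smul_zero, hmk, Prod.mk_eq_zero, hzero]
      exact ⟨dvd_mul_right _ _, rfl⟩

end Groth.Agent.S13878
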