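import Groth.Statements.S13879
import Mathlib

set_option autoImplicit false
universe u
open Crimp

namespace Groth.Agent.S13879

/-- Over R = k⟦t⟧ with k an algebraically closed field of characteristic zero, let S' = R × R × R and
let S be the R-submodule R·1 + R·(t ^ m f) + t ^ n S' of S' for some f in S' and natural numbers m,
n. Then S is closed under multiplication (equivalently, is an R-subalgebra of S') if and only if t ^
(2m) f ^ 2 lies in S. (The published statement has m ≤ n and S' / S isomorphic to R / (t ^ m) ⊕ R /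
(t ^ n), under which S has this shape; this row states the criterion for every submodule of this
shape.) -/
theorem result {k : Type u} [Field k] [IsAlgClosed k] [CharZero k] (m n : ℕ) (f : (Fin 3 → PowerSeries k))
    (S : Submodule (PowerSeries k) (Fin 3 → PowerSeries k))
    (hS : S = Submodule.span (PowerSeries k) {(1 : (Fin 3 → PowerSeries k)), ((PowerSeries.X : PowerSeries k) ^ m) • f} ⊔
        Ideal.span {(PowerSeries.X : PowerSeries k) ^ n} • (⊤ : Submodule (PowerSeries k) (Fin 3 → PowerSeries k))) :
    (∀ x ∈ S, ∀ y ∈ S, x * y ∈ S) ↔ ((PowerSeries.X : PowerSeries k) ^ (2 * m)) • (f * f) ∈ S := by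
  set w := ((PowerSeries.X : PowerSeries k) ^ m) • f with hw
  have hww : w * w = ((PowerSeries.X : PowerSeries k) ^ (2 * m)) • (f * f) := by
    rw [hw, smul_mul_smul_comm, ← pow_add, two_mul]
  have hmem : ∀ x, x ∈ S ↔ ∃ (a b : PowerSeries k) (z : Fin 3 → PowerSeries k), x = a • (1 : Fin 3 → PowerSeries k) + b • w +
      ((PowerSeries.X : PowerSeries k) ^ n) • z := by
    intro x
    rw [hS, Submodule.mem_sup]
    constructor
    · rintro ⟨y, hy, z, hz, rfl⟩
      obtain ⟨a, b, rfl⟩ := Submodule.mem_span_pair.mp hy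
      rw [Submodule.ideal_span_singleton_smul] at hz
      obtain ⟨z', -, rfl⟩ := hz
      exact ⟨a, b, z', rfl⟩
    · rintro ⟨a, b, z, rfl⟩
      exact ⟨_, Submodule.mem_span_pair.mpr ⟨a, b, rfl⟩, _,
        Submodule.smul_mem_smul (Ideal.mem_span_singleton_self _) Submodule.mem_top, rfl⟩
  constructor
  · intro h
    have hwS : w ∈ S := (hmem w).mpr ⟨0, 1, 0, by simp⟩
    exact hww ▸ h w hwS w hwS
  · intro h x hx y hy
    obtain ⟨a, b, z, rfl⟩ := (hmem x).mp hx
    obtain ⟨a', b', z', rfl⟩ := (hmem y).mp hy
    obtain ⟨A, B, Z, hZ⟩ := (hmem _).mp (hww ▸ h)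
    refine (hmem _).mpr ⟨a * a' + b * b' * A, a * b' + b * a' + b * b' * B,
      (b * b') • Z + a • z' + a' • z + b • (w * z') + b' • (z * w) +
        ((PowerSeries.X : PowerSeries k) ^ n) • (z * z'), ?_⟩
    funext t
    have := congrFun hZ t
    simp only [Pi.add_apply, Pi.mul_apply, Pi.smul_apply, Pi.one_apply, smul_eq_mul, mul_one] at this ⊢
    linear_combination (b * b') * this

end Groth.Agent.S13879
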