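import Groth.Statements.S13880
import Groth.Agent.H23Crimp.Basic

set_option autoImplicit false
universe u
open Crimp

namespace Groth.Agent.S13880

/-- Over R = k⟦t⟧ with k an algebraically closed field of characteristic zero, let S' = R × R, the
trivial double cover of the formal disk (branch divisor (t ^ 0)). An R-subalgebra S of S' admits an
R-basis of size 2 whose discriminant generates (t ^ b), that is, S is a crimp with branch divisor (t
^ b), if and only if b = 2n for some n and S = R·1 + t ^ n S'. So there is exactly one such crimp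
when b is even and none when b is odd; moreover the subalgebra R·1 + t ^ n S' is isomorphic as an
R-algebra to R[y] / (y ^ 2 - t ^ (2n)) (existence of an isomorphism; y ↦ (t ^ n, -t ^ n)). (The
published statement also gives the space of crimps its reduced one-point scheme structure; this row
classifies its k-points.) -/
theorem result {k : Type u} [Field k] [IsAlgClosed k] [CharZero k] (b : ℕ) (S : Subalgebra (PowerSeries k) (Fin 2 → PowerSeries k)) :
    ((∃ bS : Module.Basis (Fin 2) (PowerSeries k) S,
      Ideal.span {Algebra.discr (PowerSeries k) ⇑bS} = Ideal.span {(PowerSeries.X : PowerSeries k) ^ b}) ↔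
    ∃ n : ℕ, b = 2 * n ∧
      Subalgebra.toSubmodule S = Submodule.span (PowerSeries k) {(1 : (Fin 2 → PowerSeries k))} ⊔
        Ideal.span {(PowerSeries.X : PowerSeries k) ^ n} • (⊤ : Submodule (PowerSeries k) (Fin 2 → PowerSeries k))) ∧
    (∀ n : ℕ, Subalgebra.toSubmodule S = Submodule.span (PowerSeries k) {(1 : (Fin 2 → PowerSeries k))} ⊔
        Ideal.span {(PowerSeries.X : PowerSeries k) ^ n} • (⊤ : Submodule (PowerSeries k) (Fin 2 → PowerSeries k)) →
      Nonempty (S ≃ₐ[PowerSeries k] AdjoinRoot (Polynomial.X ^ 2 - Polynomial.C ((PowerSeries.X : PowerSeries k) ^ (2 * n))))) := by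
  classical
  let B' : Fin 2 → (Fin 2 → PowerSeries k) := ![1, ![1, -1]]
  have h2 : IsUnit (2 : PowerSeries k) := by
    rw [PowerSeries.isUnit_iff_constantCoeff, map_ofNat]
    exact isUnit_iff_ne_zero.mpr (by norm_num)
  obtain ⟨u, hu⟩ := h2
  have hli : LinearIndependent (PowerSeries k) B' := by
    rw [Fintype.linearIndependent_iff]
    intro c hc
    have e0 := congrFun hc 0
    have e1 := congrFun hc 1
    simp [B', Fin.sum_univ_two] at e0 e1
    have h0 : (u : PowerSeries k) * c 0 = 0 := by rw [hu]; linear_combination e0 + e1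
    have hc0 : c 0 = 0 := (Units.mul_right_eq_zero u).mp h0
    intro i
    fin_cases i
    · exact hc0
    · simpa [hc0] using e0
  let B : Module.Basis (Fin 2) (PowerSeries k) (Fin 2 → PowerSeries k) := Module.Basis.mk hli fun z _ => by
    rw [Submodule.mem_span_range_iff_exists_fun]
    refine ⟨![(↑u⁻¹ : PowerSeries k) * (z 0 + z 1), (↑u⁻¹ : PowerSeries k) * (z 0 - z 1)], ?_⟩
    funext i
    have hinv : (↑u⁻¹ : PowerSeries k) * 2 = 1 := by rw [← hu, Units.inv_mul]
    fin_cases i <;> simp [B', Fin.sum_univ_two]
    · linear_combination (z 0) * hinv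
    · linear_combination (z 1) * hinv
  have h := Groth.Agent.H23Crimp.double_crimps B (a := 0) (by simp [B, B']) (by
    funext i; fin_cases i <;> simp [B, B']) b S
  exact ⟨by simpa using h.1, fun n hS => h.2 n hS⟩

end Groth.Agent.S13880
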