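import Groth.Statements.S13882
import Mathlib

set_option autoImplicit false
universe u
open FinCov

namespace Groth.Agent.S13882

open MvPolynomial in
/-- The variables: structure constants and coordinates of the unit. -/
abbrev Var (d : ℕ) : Type u := ULift.{u} ((Fin d × Fin d × Fin d) ⊕ Fin d)

noncomputable def cVar (K : Type u) [Field K] {d : ℕ} (i j k : Fin d) : MvPolynomial (Var.{u} d) K :=
  MvPolynomial.X ⟨Sum.inl (i, j, k)⟩

noncomputable def uVar (K : Type u) [Field K] {d : ℕ} (i : Fin d) : MvPolynomial (Var.{u} d) K :=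
  MvPolynomial.X ⟨Sum.inr i⟩

/-- The ideal of relations of based algebra structures. -/
noncomputable def rel (K : Type u) [Field K] (d : ℕ) : Ideal (MvPolynomial (Var.{u} d) K) :=
  Ideal.span ((Set.range fun p : Fin d × Fin d × Fin d => cVar K p.1 p.2.1 p.2.2 - cVar K p.2.1 p.1 p.2.2) ∪
    (Set.range fun p : Fin d × Fin d × Fin d × Fin d =>
      (∑ k, cVar K p.1 p.2.1 k * cVar K k p.2.2.1 p.2.2.2) - ∑ k, cVar K p.2.1 p.2.2.1 k * cVar K p.1 k p.2.2.2) ∪
    (Set.range fun p : Fin d × Fin d => (∑ i, uVar K i * cVar K i p.1 p.2) - if p.1 = p.2 then 1 else 0))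

section
variable {K : Type u} [Field K] {d : ℕ} {A : Type u} [CommRing A] [Algebra K A]

/-- The values of a based algebra structure. -/
def vals (s : W4c1hurwitzcpt.BasedAlg d A) : Var.{u} d → A :=
  fun x => Sum.elim (fun p => s.c p.1 p.2.1 p.2.2) s.u x.down

theorem rel_le_ker (s : W4c1hurwitzcpt.BasedAlg d A) :
    ∀ a ∈ rel K d, MvPolynomial.aeval (R := K) (vals s) a = 0 := by
  intro a ha
  refine RingHom.mem_ker.1 ((Ideal.span_le (I := RingHom.ker
    (MvPolynomial.aeval (R := K) (vals s)))).2 ?_ ha)
  rintro x ((⟨p, rfl⟩ | ⟨p, rfl⟩) | ⟨p, rfl⟩)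
  · simp [cVar, vals, s.comm p.1 p.2.1 p.2.2]
  · simp [cVar, vals, s.assoc p.1 p.2.1 p.2.2.1 p.2.2.2]
  · simp only [SetLike.mem_coe, RingHom.mem_ker, map_sub, map_sum, map_mul, uVar, cVar, MvPolynomial.aeval_X, vals]
    simp only [Sum.elim_inl, Sum.elim_inr, s.unit p.1 p.2]
    split <;> simp

/-- The based algebra structure of a point of the classifying algebra. -/
noncomputable def ofHom (g : (MvPolynomial (Var.{u} d) K ⧸ rel K d) →ₐ[K] A) : W4c1hurwitzcpt.BasedAlg d A where
  c i j k := g (Ideal.Quotient.mk _ (cVar K i j k))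
  u i := g (Ideal.Quotient.mk _ (uVar K i))
  comm i j k := congrArg g ((Ideal.Quotient.mk_eq_mk_iff_sub_mem _ _).2
    (Ideal.subset_span (.inl (.inl ⟨(i, j, k), rfl⟩))))
  assoc i j l m := by
    simp only [← map_mul, ← map_sum]
    exact congrArg g ((Ideal.Quotient.mk_eq_mk_iff_sub_mem _ _).2
      (Ideal.subset_span (.inl (.inr ⟨(i, j, l, m), rfl⟩))))
  unit j m := by
    simp only [← map_mul, ← map_sum]
    rw [(Ideal.Quotient.mk_eq_mk_iff_sub_mem (I := rel K d) _ (if j = m then 1 else 0)).2
      (Ideal.subset_span (.inr ⟨(j, m), rfl⟩))]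
    split <;> simp

end


/-- Over a field K of characteristic zero, the functor that sends a K-scheme S to the set of isomorphism
classes of pairs (A, τ) of an O_S-algebra A and an O_S-module isomorphism τ from A to the free
module of rank d, equivalently to the set of commutative unital algebra structures on the rank-d
free module with its standard basis, is represented by an affine K-scheme of finite type. Stated on
affine K-schemes in one universe: there is a finitely generated commutative K-algebra B with
bijections between K-algebra maps B → A and based algebra structures of rank d over A, natural in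
the commutative K-algebra A. -/
theorem result (K : Type u) [Field K] [CharZero K] (d : ℕ) :
    ∃ (B : Type u) (_ : CommRing B) (_ : Algebra K B) (_ : Algebra.FiniteType K B)
      (η : ∀ (A : Type u) [CommRing A] [Algebra K A], (B →ₐ[K] A) ≃ W4c1hurwitzcpt.BasedAlg d A),
      ∀ (A A' : Type u) [CommRing A] [Algebra K A] [CommRing A'] [Algebra K A']
        (f : A →ₐ[K] A') (g : B →ₐ[K] A),
        η A' (f.comp g) = (η A g).map f.toRingHom := by
  haveI : Algebra.FiniteType K (MvPolynomial (Var.{u} d) K ⧸ rel K d) :=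
    Algebra.FiniteType.of_surjective (Ideal.Quotient.mkₐ K _) (Ideal.Quotient.mkₐ_surjective K _)
  refine ⟨MvPolynomial (Var.{u} d) K ⧸ rel K d, inferInstance, inferInstance, inferInstance,
    fun A _ _ => { toFun := ofHom, invFun := fun s => Ideal.Quotient.liftₐ _ _ (rel_le_ker s),
                   left_inv := fun g => ?_, right_inv := fun s => ?_ },
    fun A A' _ _ _ _ f g => rfl⟩
  · refine Ideal.Quotient.algHom_ext _ (MvPolynomial.algHom_ext fun x => ?_)
    rcases x with ⟨p | i⟩ <;> simp [ofHom, vals, cVar, uVar]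
  · rcases s with ⟨c, v, h1, h2, h3⟩
    simp only [ofHom, W4c1hurwitzcpt.BasedAlg.mk.injEq]
    refine ⟨funext fun i => funext fun j => funext fun k => ?_, funext fun i => ?_⟩ <;>
      simp [vals, cVar, uVar]

end Groth.Agent.S13882
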