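import Groth.Statements.S13884
import Groth.Agent.H23Crimp.Disk
import Mathlib.LinearAlgebra.Dimension.OrzechProperty

set_option autoImplicit false
universe u
open Crimp

namespace Groth.Agent.S13884

/-- Over R = k⟦t⟧ with k an algebraically closed field of characteristic zero, let S' = k⟦x⟧ regarded as
an R-algebra through t ↦ x ^ 3, that is S' = R[x] / (x ^ 3 - t), the smooth totally ramified triple
cover of the formal disk. If M is an R-submodule of S' which is free of rank 3, then M has an
R-basis consisting of three power series whose x-adic valuations are pairwise distinct modulo 3.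
(Items (2) and (3) of the published proposition, on the base change of M to R[s] / (s ^ 3 - t), are
not restated.) -/
theorem result {k : Type u} [Field k] [IsAlgClosed k] [CharZero k]
    (M : Submodule (PowerSeries k) (W4c1hurwitzcpt.RootDisk 3 k))
    (bM : Module.Basis (Fin 3) (PowerSeries k) M) :
    ∃ g : Module.Basis (Fin 3) (PowerSeries k) M, ∀ i j : Fin 3, i ≠ j →
      ¬ Nat.ModEq 3 (PowerSeries.order (W4c1hurwitzcpt.RootDisk.val (((g i : M) : (W4c1hurwitzcpt.RootDisk 3 k)) : W4c1hurwitzcpt.RootDisk 3 k))).toNat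
        (PowerSeries.order (W4c1hurwitzcpt.RootDisk.val (((g j : M) : (W4c1hurwitzcpt.RootDisk 3 k)) : W4c1hurwitzcpt.RootDisk 3 k))).toNat := by
  classical
  obtain ⟨N, hN⟩ := Groth.Agent.H23Crimp.exists_pow_smul_mem (Groth.Agent.H23Crimp.diskBasis 3 k) M bM
  obtain ⟨g, e, hgM, hge, hspan⟩ := Groth.Agent.H23Crimp.exists_ordered_gens M N hN
  let v : Fin 3 → M := fun r => ⟨g r, hgM r⟩
  have hv : ⊤ ≤ Submodule.span (PowerSeries k) (Set.range v) := by
    intro x _
    have : (x : W4c1hurwitzcpt.RootDisk 3 k) ∈ Submodule.map M.subtype (Submodule.span (PowerSeries k) (Set.range v)) := by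
      rw [Submodule.map_span, ← Set.range_comp]
      exact hspan.ge x.2
    obtain ⟨y, hy, hyx⟩ := this
    rwa [Subtype.ext hyx] at hy
  haveI : Module.Free (PowerSeries k) M := Module.Free.of_basis bM
  haveI : Module.Finite (PowerSeries k) M := Module.Finite.of_basis bM
  refine ⟨basisOfTopLeSpanOfCardEqFinrank v hv (Module.finrank_eq_card_basis bM).symm, fun i j hij hmod => ?_⟩
  rw [coe_basisOfTopLeSpanOfCardEqFinrank] at hmod
  simp only [v, (hge i).1, (hge j).1, ENat.toNat_coe] at hmod
  have h1 : e i % 3 = e j % 3 := hmod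
  rw [(hge i).2, (hge j).2] at h1
  exact hij (Fin.ext h1)

end Groth.Agent.S13884
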