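import Groth.Statements.S13885
import Groth.Agent.H23Crimp.Disk

set_option autoImplicit false
universe u
open Crimp

namespace Groth.Agent.S13885

/-- Over R = k⟦t⟧ with k an algebraically closed field of characteristic zero, let S' = k⟦x⟧ × R, where
k⟦x⟧ is regarded as an R-algebra through t ↦ x ^ 2, that is S' = R[x] / (x ^ 2 - t) ⊕ R, the smooth
simply ramified triple cover of the formal disk, with R embedded diagonally. If M is an R-submodule
of S' containing 1 which is free of rank 3, then M is spanned by 1, (f₁, 0) and (f₂, 0) for some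
power series f₁, f₂ whose x-adic valuations are distinct modulo 2. (Items (2) and (3) of the
published proposition, on the base change of M to R[s] / (s ^ 2 - t), are not restated.) -/
theorem result {k : Type u} [Field k] [IsAlgClosed k] [CharZero k]
    (M : Submodule (PowerSeries k) (W4c1hurwitzcpt.RootDisk 2 k × PowerSeries k))
    (h1 : (1 : (W4c1hurwitzcpt.RootDisk 2 k × PowerSeries k)) ∈ M)
    (bM : Module.Basis (Fin 3) (PowerSeries k) M) :
    ∃ f₁ f₂ : W4c1hurwitzcpt.RootDisk 2 k,
      ¬ Nat.ModEq 2 (PowerSeries.order (W4c1hurwitzcpt.RootDisk.val (f₁ : W4c1hurwitzcpt.RootDisk 2 k))).toNat (PowerSeries.order (W4c1hurwitzcpt.RootDisk.val (f₂ : W4c1hurwitzcpt.RootDisk 2 k))).toNat ∧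
      M = Submodule.span (PowerSeries k) {(1 : (W4c1hurwitzcpt.RootDisk 2 k × PowerSeries k)), (f₁, 0), (f₂, 0)} := by
  classical
  obtain ⟨N, hN⟩ := Groth.Agent.H23Crimp.exists_pow_smul_mem
    (((Groth.Agent.H23Crimp.diskBasis 2 k).prod (Module.Basis.singleton (Fin 1) (PowerSeries k))).reindex finSumFinEquiv) M bM
  let M' := M.comap (LinearMap.inl (PowerSeries k) (W4c1hurwitzcpt.RootDisk 2 k) (PowerSeries k))
  obtain ⟨g, e, hgM, hge, hspan⟩ := Groth.Agent.H23Crimp.exists_ordered_gens M' N fun z => by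
    change ((PowerSeries.X : PowerSeries k) ^ N • z, (0 : PowerSeries k)) ∈ M
    simpa using hN (z, 0)
  refine ⟨g 0, g 1, ?_, le_antisymm (fun y hy => ?_) ?_⟩
  · simp only [(hge 0).1, (hge 1).1, ENat.toNat_coe]
    intro h
    have h1 : e 0 % 2 = e 1 % 2 := h
    rw [(hge 0).2, (hge 1).2] at h1
    simp at h1
  · have h2 : y - y.2 • (1 : W4c1hurwitzcpt.RootDisk 2 k × PowerSeries k) ∈ M := M.sub_mem hy (M.smul_mem _ h1)
    have h3 : y.1 - y.2 • (1 : W4c1hurwitzcpt.RootDisk 2 k) ∈ M' := by
      show ((_ : W4c1hurwitzcpt.RootDisk 2 k), (0 : PowerSeries k)) ∈ M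
      convert h2 using 1
      simp [Prod.ext_iff]
    rw [← hspan, Submodule.mem_span_range_iff_exists_fun, ] at h3
    obtain ⟨c, hc⟩ := h3
    rw [Fin.sum_univ_two] at hc
    refine Submodule.mem_span_triple.mpr ⟨y.2, c 0, c 1, ?_⟩
    refine Prod.ext ?_ (by simp)
    simp only [Prod.smul_mk, Prod.fst_add, Prod.smul_fst, Prod.fst_one]
    rw [add_assoc, hc]
    abel
  · rw [Submodule.span_le]
    rintro y (rfl | rfl | rfl)
    exacts [h1, hgM 0, hgM 1]

end Groth.Agent.S13885
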