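import Groth.Statements.S13886
import Groth.Agent.H23Crimp.Basic

set_option autoImplicit false
universe u
open Crimp

namespace Groth.Agent.S13886

/-- Over R = k⟦t⟧ with k an algebraically closed field of characteristic zero, let S' = R × R × R be the
unramified triple cover of the formal disk and let m ≤ n ≤ 2m be natural numbers. For every f in S'
not lying in R·1 + t S', the R-submodule S = R·1 + R·(t ^ m f) + t ^ n S' is closed under
multiplication, hence an R-subalgebra (a crimp), and S' / S is isomorphic to R / (t ^ m) ⊕ R / (t ^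
n) (so the crimp has μ-invariant n - m and branch divisor (t ^ (2(m+n)))). Together with the
structure result for submodules with this quotient, this identifies the k-points of the space of
crimps of splitting type (m, n), 2m ≥ n, with the submodules of this shape. (The published statement
moreover asserts that this stratum is an irreducible variety of dimension n - m; that part is not
restated.) -/
theorem result {k : Type u} [Field k] [IsAlgClosed k] [CharZero k]
    (m n : ℕ) (hmn : m ≤ n) (hn : n ≤ 2 * m)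
    (f : (Fin 3 → PowerSeries k)) (hf : f ∉ Submodule.span (PowerSeries k) {(1 : (Fin 3 → PowerSeries k))} ⊔ Ideal.span {(PowerSeries.X : PowerSeries k)} • (⊤ : Submodule (PowerSeries k) (Fin 3 → PowerSeries k)))
    (S : Submodule (PowerSeries k) (Fin 3 → PowerSeries k))
    (hS : S = Submodule.span (PowerSeries k) {(1 : (Fin 3 → PowerSeries k)), ((PowerSeries.X : PowerSeries k) ^ m) • f} ⊔
        Ideal.span {(PowerSeries.X : PowerSeries k) ^ n} • (⊤ : Submodule (PowerSeries k) (Fin 3 → PowerSeries k))) :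
    (∀ x ∈ S, ∀ y ∈ S, x * y ∈ S) ∧
    Nonempty (((Fin 3 → PowerSeries k) ⧸ S) ≃ₗ[PowerSeries k]
      ((PowerSeries k ⧸ Ideal.span {(PowerSeries.X : PowerSeries k) ^ m}) × (PowerSeries k ⧸ Ideal.span {(PowerSeries.X : PowerSeries k) ^ n}))) := by
  set X : PowerSeries k := PowerSeries.X
  have hsmulI : ∀ (j : ℕ) (z : Fin 3 → PowerSeries k),
      z ∈ Ideal.span {X ^ j} • (⊤ : Submodule (PowerSeries k) (Fin 3 → PowerSeries k)) ↔ ∃ w, z = X ^ j • w := by
    intro j z
    rw [Submodule.ideal_span_singleton_smul]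
    exact ⟨fun ⟨w, _, hw⟩ => ⟨w, hw.symm⟩, fun ⟨w, hw⟩ => ⟨w, Submodule.mem_top, hw.symm⟩⟩
  have hmem : ∀ z, z ∈ S ↔ ∃ (a b : PowerSeries k) (w : Fin 3 → PowerSeries k),
      z = a • (1 : Fin 3 → PowerSeries k) + b • X ^ m • f + X ^ n • w := by
    intro z
    rw [hS, Submodule.mem_sup]
    constructor
    · rintro ⟨y, hy, w', hw', rfl⟩
      obtain ⟨a, b, rfl⟩ := Submodule.mem_span_pair.mp hy
      obtain ⟨w, rfl⟩ := (hsmulI n w').mp hw'
      exact ⟨a, b, w, rfl⟩
    · rintro ⟨a, b, w, rfl⟩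
      exact ⟨_, Submodule.mem_span_pair.mpr ⟨a, b, rfl⟩, _, (hsmulI n _).mpr ⟨w, rfl⟩, rfl⟩
  refine ⟨fun x hx y hy => ?_, ?_⟩
  · obtain ⟨a, b, w, rfl⟩ := (hmem x).mp hx
    obtain ⟨a', b', w', rfl⟩ := (hmem y).mp hy
    obtain ⟨j, hj⟩ := Nat.exists_eq_add_of_le hn
    refine (hmem _).mpr ⟨a * a', a * b' + b * a', (b * b' * X ^ j) • (f * f) + a • w' + a' • w +
      (b * X ^ m) • (f * w') + (b' * X ^ m) • (w * f) + X ^ n • (w * w'), ?_⟩
    have hX : X ^ m * X ^ m = X ^ n * X ^ j := by rw [← pow_add, ← pow_add, ← two_mul, hj]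
    funext t
    simp only [Pi.add_apply, Pi.mul_apply, Pi.smul_apply, Pi.one_apply, smul_eq_mul, mul_one]
    linear_combination (b * b' * f t * f t) * hX
  · obtain ⟨i, j, l, hij, hil, hjl, hne⟩ : ∃ i j l : Fin 3, i ≠ j ∧ i ≠ l ∧ j ≠ l ∧
        PowerSeries.constantCoeff (f i) ≠ PowerSeries.constantCoeff (f j) := by
      by_contra hne
      push Not at hne
      have h01 := hne 0 1 2 (by decide) (by decide) (by decide)
      have h02 := hne 0 2 1 (by decide) (by decide) (by decide)
      have hd : ∀ i, X ∣ f i - f 0 := by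
        intro i
        rw [PowerSeries.X_dvd_iff, map_sub]
        fin_cases i <;> simp [← h01, ← h02]
      choose z hz using hd
      apply hf
      refine Submodule.mem_sup.mpr ⟨f 0 • (1 : Fin 3 → PowerSeries k),
        Submodule.smul_mem _ _ (Submodule.mem_span_singleton_self _), X • z,
        Submodule.smul_mem_smul (Ideal.mem_span_singleton_self _) Submodule.mem_top, ?_⟩
      funext i
      simp [← hz i]
    obtain ⟨d, hd⟩ : IsUnit (f i - f j) := by
      rw [PowerSeries.isUnit_iff_constantCoeff, map_sub]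
      exact isUnit_iff_ne_zero.mpr (sub_ne_zero.mpr hne)
    have hdi : (↑d⁻¹ : PowerSeries k) * (f i - f j) = 1 := by rw [← hd, Units.inv_mul]
    let P : Fin 3 → ((Fin 3 → PowerSeries k) →ₗ[PowerSeries k] PowerSeries k) := LinearMap.proj
    let Bf := (↑d⁻¹ : PowerSeries k) • (P i - P j)
    let Af := P i - f i • Bf
    let Cf := P l - Af - f l • Bf
    have hdec : ∀ z, z = Af z • (1 : Fin 3 → PowerSeries k) + Bf z • f + Cf z • Pi.single l 1 := by
      intro z
      funext t
      obtain rfl | rfl | rfl : t = i ∨ t = j ∨ t = l := by omega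
      · simp [Af, P, Pi.single_eq_of_ne hil, mul_comm]
      · simp [Af, Bf, P, Pi.single_eq_of_ne hjl]
        linear_combination (z t - z i) * (-1 : PowerSeries k) * hdi
      · simp [Cf, P, mul_comm]
    let Φ : (Fin 3 → PowerSeries k) →ₗ[PowerSeries k]
        ((PowerSeries k ⧸ Ideal.span {X ^ m}) × (PowerSeries k ⧸ Ideal.span {X ^ n})) :=
      ((Ideal.span {X ^ m}).mkQ ∘ₗ Bf).prod ((Ideal.span {X ^ n}).mkQ ∘ₗ Cf)
    have hB1 : Bf 1 = 0 := by simp [Bf, P]
    have hBf : Bf f = 1 := by simp [Bf, P, hdi]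
    have hC1 : Cf 1 = 0 := by simp [Cf, Af, hB1, P]
    have hCf : Cf f = 0 := by simp [Cf, Af, hBf, P]
    have hBl : Bf (Pi.single l 1) = 0 := by simp [Bf, P, Pi.single_eq_of_ne hil, Pi.single_eq_of_ne hjl]
    have hCl : Cf (Pi.single l 1) = 1 := by simp [Cf, Af, hBl, P, Pi.single_eq_of_ne hil]
    have hker : LinearMap.ker Φ = S := by
      ext z
      rw [hmem, LinearMap.mem_ker]
      change ((Ideal.Quotient.mk (Ideal.span {X ^ m}) (Bf z), Ideal.Quotient.mk (Ideal.span {X ^ n}) (Cf z)) = 0) ↔ _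
      rw [Prod.mk_eq_zero, Ideal.Quotient.eq_zero_iff_dvd, Ideal.Quotient.eq_zero_iff_dvd]
      constructor
      · rintro ⟨⟨b, hb⟩, ⟨c, hc⟩⟩
        refine ⟨Af z, b, c • Pi.single l 1, ?_⟩
        conv_lhs => rw [hdec z, hb, hc]
        simp [smul_smul, mul_comm]
      · rintro ⟨a, b, w, rfl⟩
        simp only [map_add, map_smul, hB1, hBf, hC1, hCf, smul_eq_mul, mul_zero, zero_add, mul_one]
        exact ⟨dvd_add (dvd_mul_left _ _) ((pow_dvd_pow X hmn).trans (dvd_mul_right _ _)), dvd_mul_right _ _⟩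
    have hsurj : Function.Surjective Φ := by
      rintro ⟨x, y⟩
      obtain ⟨b, rfl⟩ := Submodule.mkQ_surjective _ x
      obtain ⟨c, rfl⟩ := Submodule.mkQ_surjective _ y
      exact ⟨b • f + c • Pi.single l 1, by simp [Φ, hBf, hBl, hCf, hCl]⟩
    exact ⟨(Submodule.quotEquivOfEq _ _ hker.symm).trans (Φ.quotKerEquivOfSurjective hsurj)⟩

end Groth.Agent.S13886
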