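-- statement FlatMor.GrothFrozen.S1390 (Groth/Statements/S1390.lean; the theorem FlatMor.etale_nbhd_dominated_by_finite_locally_free_zariski_locally);
import Groth.Statements.S1390
import Groth.Agent.H02CA.EtaleCover

set_option autoImplicit false
universe u
open FlatMor

namespace Groth.Agent.S1390
set_option backward.isDefEq.respectTransparency false

open AlgebraicGeometry CategoryTheory Limits in
/-- Let (U, u) be an étale neighbourhood of (S, s), i.e. U → S étale with u over s. Then there are an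
affine open neighbourhood V of s and a surjective, finite, flat morphism of finite presentation π :
T → V such that every point t of T over s has an open neighbourhood W_t with an S-morphism W_t → U
sending t to u. -/
theorem result {U S : Scheme.{u}} (e : U ⟶ S) [Etale e] (u : U) (s : S) (hu : e u = s) :
    ∃ (V : S.Opens) (T : Scheme.{u}) (π : T ⟶ (V : Scheme.{u})), s ∈ V ∧ IsAffineOpen V ∧ Surjective π ∧ IsFinite π ∧ Flat π ∧ LocallyOfFinitePresentation π ∧
      ∀ t : T, V.ι (π t) = s → ∃ (W : T.Opens) (h : (W : Scheme.{u}) ⟶ U), t ∈ W ∧ h ≫ e = W.ι ≫ π ≫ V.ι ∧ ∀ ht : t ∈ W, h ⟨t, ht⟩ = u := by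
  obtain ⟨_, ⟨U₀, hU₀, rfl⟩, hsU, -⟩ := S.isBasis_affineOpens.exists_subset_of_mem_open
    (Set.mem_univ s) isOpen_univ
  obtain ⟨_, ⟨W, hW, rfl⟩, huW, hle : W ≤ e ⁻¹ᵁ U₀⟩ :=
    U.isBasis_affineOpens.exists_subset_of_mem_open (show u ∈ ((e ⁻¹ᵁ U₀ : U.Opens) : Set U) from (congrArg (· ∈ U₀) hu).mpr hsU) (e ⁻¹ᵁ U₀).2
  have het : (e.appLE U₀ W hle).hom.Etale :=
    HasRingHomProperty.appLE (P := @Etale) e inferInstance ⟨U₀, hU₀⟩ ⟨W, hW⟩ hle
  algebraize [(e.appLE U₀ W hle).hom]
  let A := Γ(S, U₀)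
  let B := Γ(U, W)
  let q := hW.primeIdealOf ⟨u, huW⟩
  obtain ⟨f₀, hf₀, hst⟩ := Algebra.IsEtaleAt.exists_isStandardEtale (R := A) q.asIdeal
  let B₁ := Localization.Away f₀
  let q₁ : Ideal B₁ := q.asIdeal.map (algebraMap B B₁)
  have hdisj : Disjoint (Submonoid.powers f₀ : Set B) (q.asIdeal : Set B) :=
    (Ideal.disjoint_powers_iff_notMem_of_isPrime _).mpr hf₀
  have : q₁.IsPrime := IsLocalization.isPrime_of_isPrime_disjoint _ _ _ q.2 hdisj
  have hq₁ : q₁.comap (algebraMap B B₁) = q.asIdeal :=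
    IsLocalization.under_map_of_isPrime_disjoint _ _ q.2 hdisj
  obtain ⟨C, _, _, hfin, hfp, hff, hcov⟩ := Groth.Agent.H02CA.EtaleCover.exists_cover (R := A) B₁
  let ψ := Spec.map (CommRingCat.ofHom (algebraMap A C))
  have wW : Spec.map (e.appLE U₀ W hle) ≫ hU₀.fromSpec = hW.fromSpec ≫ e :=
    IsAffineOpen.SpecMap_appLE_fromSpec e hU₀ hW hle
  have : IsFinite ψ := (IsFinite.SpecMap_iff _).mpr (RingHom.finite_algebraMap.mpr hfin)
  have : LocallyOfFinitePresentation ψ :=
    HasRingHomProperty.Spec_iff.mpr (RingHom.finitePresentation_algebraMap.mpr hfp)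
  have : Flat ψ :=
    HasRingHomProperty.Spec_iff.mpr (RingHom.flat_algebraMap_iff.mpr inferInstance)
  have : Surjective ψ := ⟨PrimeSpectrum.comap_surjective_of_faithfullyFlat (A := A) (B := C)⟩
  refine ⟨U₀, Spec (.of C), ψ ≫ hU₀.isoSpec.inv, hsU, hU₀, inferInstance, inferInstance, inferInstance,
    inferInstance, fun t ht => ?_⟩
  have ht' : hU₀.fromSpec (ψ t) = s := ht
  have hqs : hU₀.fromSpec (Spec.map (e.appLE U₀ W hle) q) = s := by
    rw [← Scheme.Hom.comp_apply, wW, Scheme.Hom.comp_apply, hW.fromSpec_primeIdealOf]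
    exact hu
  have hunder : (t : PrimeSpectrum C).asIdeal.under A = q₁.under A := by
    have : IsOpenImmersion hU₀.fromSpec := hU₀.isOpenImmersion_fromSpec
    have h1 := congrArg PrimeSpectrum.asIdeal
      (hU₀.fromSpec.isOpenEmbedding.injective (ht'.trans hqs.symm))
    refine (show (t : PrimeSpectrum C).asIdeal.comap (algebraMap A C) = _ from h1).trans ?_
    show q.asIdeal.comap (algebraMap A B) = q₁.comap (algebraMap A B₁)
    rw [IsScalarTower.algebraMap_eq A B B₁, ← Ideal.comap_comap, hq₁]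
  obtain ⟨g', hg', φ, hφ⟩ := hcov q₁ (t : PrimeSpectrum C).asIdeal hunder
  let L := Localization.Away g'
  let jL : Spec (.of L) ⟶ Spec (.of C) := Spec.map (CommRingCat.ofHom (algebraMap C L))
  let φB : CommRingCat.of B ⟶ CommRingCat.of L :=
    CommRingCat.ofHom (φ.toRingHom.comp (algebraMap B B₁))
  let k : Spec (.of L) ⟶ U := Spec.map φB ≫ hW.fromSpec
  have : IsOpenImmersion jL := IsOpenImmersion.of_isLocalization g'
  have hrange : jL.opensRange = PrimeSpectrum.basicOpen g' :=
    TopologicalSpace.Opens.ext (PrimeSpectrum.localization_away_comap_range L g')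
  have hke : k ≫ e = jL ≫ ψ ≫ hU₀.isoSpec.inv ≫ Scheme.Opens.ι U₀ := by
    rw [Category.assoc, ← wW, ← Category.assoc, ← Spec.map_comp, IsAffineOpen.isoSpec_inv_ι,
      ← Category.assoc jL, ← Spec.map_comp]
    congr 2
    apply CommRingCat.hom_ext
    refine RingHom.ext fun a => ?_
    show φ (algebraMap B B₁ (algebraMap A B a)) = algebraMap C L (algebraMap A C a)
    rw [← IsScalarTower.algebraMap_apply A B B₁, φ.commutes, ← IsScalarTower.algebraMap_apply A C L]
  obtain ⟨r, hr⟩ : t ∈ jL.opensRange := hrange ▸ hg'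
  refine ⟨jL.opensRange, jL.isoOpensRange.inv ≫ k, ⟨r, hr⟩, ?_, fun h' => ?_⟩
  · have hι : jL.opensRange.ι = jL.isoOpensRange.inv ≫ jL := by
      rw [Iso.eq_inv_comp]; exact Scheme.Hom.isoOpensRange_hom_ι jL
    rw [Category.assoc, hke, hι]
    simp only [Category.assoc]
  · have hinv : jL.isoOpensRange.inv ⟨t, h'⟩ = r := by
      apply jL.isOpenEmbedding.injective
      rw [← Scheme.Hom.comp_apply,
        show jL.isoOpensRange.inv ≫ jL = jL.opensRange.ι from by
          rw [Iso.inv_comp_eq]; exact (Scheme.Hom.isoOpensRange_hom_ι jL).symm]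
      exact hr.symm
    rw [Scheme.Hom.comp_apply, hinv]
    have hrmap : (r : PrimeSpectrum L).asIdeal = (t : PrimeSpectrum C).asIdeal.map (algebraMap C L) := by
      rw [← (show (r : PrimeSpectrum L).asIdeal.comap (algebraMap C L) = (t : PrimeSpectrum C).asIdeal from
        congrArg PrimeSpectrum.asIdeal hr)]
      exact (IsLocalization.map_comap (Submonoid.powers g') L _).symm
    show hW.fromSpec (Spec.map φB r) = u
    refine (congrArg hW.fromSpec (PrimeSpectrum.ext ?_)).trans (hW.fromSpec_primeIdealOf ⟨u, huW⟩)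
    show (r : PrimeSpectrum L).asIdeal.comap (φ.toRingHom.comp (algebraMap B B₁)) = q.asIdeal
    rw [← Ideal.comap_comap, hrmap]
    exact (congrArg (Ideal.comap (algebraMap B B₁)) hφ).trans hq₁

end Groth.Agent.S1390
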