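import Groth.Statements.S13903
import Mathlib.FieldTheory.PrimitiveElement
import Mathlib.FieldTheory.IsAlgClosed.AlgebraicClosure
import Mathlib.RingTheory.Artinian.Module
-- import your own Groth.Agent.* helpers here

set_option autoImplicit false
universe u
open EtAlg

namespace Groth.Agent.S13903

/-- Let K be a field and L a finite-dimensional reduced commutative K-algebra of dimension d all of
whose elements are separable over K, generated as a K-algebra by z and t. In any finite set of at
least d^(4d) elements of K there is an element c such that c • z + t generates L as a K-algebra.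
(The published statement does not require separability; for K of characteristic p and L obtained by
adjoining p-th roots of two independent indeterminates, L is a reduced finite K-algebra generated by
two elements with no single generator, so separability over K is assumed here, as the counting in
the published proof requires.) -/
theorem result (K L : Type u) [Field K] [CommRing L]
    [Algebra K L] [Module.Finite K L] [IsReduced L] [Algebra.IsSeparable K L] (z t : L)
    (hgen : Algebra.adjoin K ({z, t} : Set L) = ⊤) (S : Finset K)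
    (hS : Module.finrank K L ^ (4 * Module.finrank K L) ≤ S.card) :
    ∃ c ∈ S, Algebra.adjoin K ({c • z + t} : Set L) = ⊤ := by
  classical
  set d := Module.finrank K L with hd
  let E := AlgebraicClosure K
  haveI : IsArtinianRing L := IsArtinianRing.of_finite K L
  haveI : Fintype (MaximalSpectrum L) := Fintype.ofFinite _
  haveI : ∀ m : MaximalSpectrum L, Algebra.IsSeparable K (L ⧸ m.asIdeal) := fun m => ⟨fun x => by
    obtain ⟨x, rfl⟩ := Ideal.Quotient.mk_surjective x
    exact Polynomial.Separable.of_dvd (Algebra.IsSeparable.isSeparable K x)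
      (minpoly.dvd K _ (show Polynomial.aeval (Ideal.Quotient.mkₐ K m.asIdeal x) (minpoly K x) = 0 by
        rw [Polynomial.aeval_algHom_apply, minpoly.aeval, map_zero]))⟩
  have hsum : d = ∑ m : MaximalSpectrum L, Fintype.card ((L ⧸ m.asIdeal) →ₐ[K] E) := by
    rw [hd, ((IsArtinianRing.equivPi L).toLinearEquiv.restrictScalars K).finrank_eq, Module.finrank_pi_fintype]
    refine Finset.sum_congr rfl fun m _ => ?_
    letI := Ideal.Quotient.field m.asIdeal
    exact (AlgHom.card K (L ⧸ m.asIdeal) E).symm
  have hcard : d ≤ Fintype.card (L →ₐ[K] E) := by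
    rw [hsum, ← Fintype.card_sigma]
    refine Fintype.card_le_of_injective (fun p => p.2.comp (Ideal.Quotient.mkₐ K p.1.asIdeal)) ?_
    rintro ⟨m, φ⟩ ⟨m', φ'⟩ h
    have hker : ∀ (m : MaximalSpectrum L) (φ : (L ⧸ m.asIdeal) →ₐ[K] E),
        RingHom.ker (φ.comp (Ideal.Quotient.mkₐ K m.asIdeal)) = m.asIdeal := fun m φ => by
      refine (m.isMaximal.eq_of_le (RingHom.ker_ne_top _) fun x hx => ?_).symm
      rw [RingHom.mem_ker, AlgHom.comp_apply, Ideal.Quotient.mkₐ_eq_mk, Ideal.Quotient.eq_zero_iff_mem.2 hx, map_zero]
    obtain rfl : m = m' := MaximalSpectrum.ext (by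
      rw [← hker m φ, ← hker m' φ']
      exact congrArg RingHom.ker h)
    rw [Sigma.mk.inj_iff]
    refine ⟨rfl, heq_of_eq (AlgHom.ext fun x => ?_)⟩
    obtain ⟨x, rfl⟩ := Ideal.Quotient.mk_surjective x
    exact AlgHom.congr_fun h x
  -- separating elements generate
  have hgen' : ∀ w : L, (∀ φ φ' : L →ₐ[K] E, φ w = φ' w → φ = φ') → Algebra.adjoin K ({w} : Set L) = ⊤ := by
    intro w hw
    have hint : IsIntegral K w := Algebra.IsIntegral.isIntegral w
    have hdeg : d ≤ (minpoly K w).natDegree := by
      refine hcard.trans ?_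
      have hinj : Function.Injective (fun φ : L →ₐ[K] E => (⟨φ w, by
          rw [Multiset.mem_toFinset, Polynomial.mem_roots', Polynomial.IsRoot, Polynomial.eval_map, ← Polynomial.aeval_def,
            Polynomial.aeval_algHom_apply, minpoly.aeval, map_zero]
          exact ⟨Polynomial.map_ne_zero (minpoly.ne_zero hint), rfl⟩⟩ :
          {e : E // e ∈ ((minpoly K w).map (algebraMap K E)).roots.toFinset})) :=
        fun φ φ' h => hw φ φ' (congrArg Subtype.val h)
      refine (Fintype.card_le_of_injective _ hinj).trans ?_
      rw [Fintype.card_coe]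
      exact ((Multiset.toFinset_card_le _).trans (Polynomial.card_roots' _)).trans Polynomial.natDegree_map_le
    have hli := linearIndependent_pow (K := K) w
    have h1 : Submodule.span K (Set.range fun i : Fin (minpoly K w).natDegree => w ^ (i : ℕ)) = ⊤ := by
      refine Submodule.eq_top_of_finrank_eq (le_antisymm (Submodule.finrank_le _) ?_)
      rw [finrank_span_eq_card hli, Fintype.card_fin]
      exact hdeg
    rw [eq_top_iff]
    intro x _
    have hx : x ∈ Submodule.span K (Set.range fun i : Fin (minpoly K w).natDegree => w ^ (i : ℕ)) := h1 ▸ Submodule.mem_top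
    refine (Submodule.span_le.2 ?_ : _ ≤ Subalgebra.toSubmodule (Algebra.adjoin K ({w} : Set L))) hx
    rintro _ ⟨i, rfl⟩
    exact pow_mem (Algebra.subset_adjoin (R := K) (Set.mem_singleton w)) _
  have hext : ∀ φ φ' : L →ₐ[K] E, φ z = φ' z → φ t = φ' t → φ = φ' := fun φ φ' h1 h2 =>
    AlgHom.ext fun x => AlgHom.adjoin_le_equalizer φ φ' (s := ({z, t} : Set L))
      (fun y hy => by rcases hy with rfl | rfl <;> assumption) (hgen ▸ Algebra.mem_top : x ∈ _)
  let bad : (L →ₐ[K] E) × (L →ₐ[K] E) → Finset K := fun p => S.filter fun c =>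
    p.1 ≠ p.2 ∧ p.1 (c • z + t) = p.2 (c • z + t)
  have hbad : ∀ p, (bad p).card ≤ 1 := fun p => Finset.card_le_one.2 fun c hc c' hc' => by
    simp only [bad, Finset.mem_filter, map_add, map_smul] at hc hc'
    by_contra hne
    refine hc.2.1 (hext _ _ ?_ ?_)
    · have h : (c - c') • (p.1 z - p.2 z) = 0 := by
        linear_combination (norm := module) hc.2.2 - hc'.2.2
      rcases smul_eq_zero.1 h with h | h
      · exact absurd (sub_eq_zero.1 h) hne
      · exact sub_eq_zero.1 h
    · have h : (c - c') • (p.1 z - p.2 z) = 0 := by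
        linear_combination (norm := module) hc.2.2 - hc'.2.2
      rcases smul_eq_zero.1 h with h | h
      · exact absurd (sub_eq_zero.1 h) hne
      · have h2 := hc.2.2
        rw [sub_eq_zero.1 h] at h2
        exact add_left_cancel h2
  have hn : Fintype.card (L →ₐ[K] E) ≤ d := by
    rw [hd, ← Nat.card_eq_fintype_card]
    exact card_algHom_le_finrank K L E
  have hlt : (((Finset.univ.filter fun p : (L →ₐ[K] E) × (L →ₐ[K] E) => p.1 ≠ p.2)).biUnion bad).card < S.card := by
    refine lt_of_lt_of_le ?_ hS
    refine (Finset.card_biUnion_le_card_mul _ _ 1 fun p _ => hbad p).trans_lt ?_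
    rw [mul_one]
    have h2 : (Finset.univ.filter fun p : (L →ₐ[K] E) × (L →ₐ[K] E) => p.1 ≠ p.2).card ≤ d * d - d := by
      rw [show (Finset.univ.filter fun p : (L →ₐ[K] E) × (L →ₐ[K] E) => p.1 ≠ p.2) = Finset.univ.offDiag by
        ext; simp, Finset.offDiag_card, Finset.card_univ, le_antisymm hn hcard]
    refine h2.trans_lt ?_
    rcases Nat.eq_zero_or_pos d with h0 | h0
    · simp [h0]
    · calc d * d - d < d * d := Nat.sub_lt (Nat.mul_pos h0 h0) h0
        _ = d ^ 2 := (sq d).symm
        _ ≤ d ^ (4 * d) := Nat.pow_le_pow_right h0 (by omega)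
  obtain ⟨c, hcS, hc⟩ := Finset.exists_mem_notMem_of_card_lt_card hlt
  refine ⟨c, hcS, hgen' _ fun φ φ' h => ?_⟩
  by_contra hne
  exact hc (Finset.mem_biUnion.2 ⟨(φ, φ'), by simp [hne], by simp [bad, hcS, hne, -map_add, -map_smul, h]⟩)

end Groth.Agent.S13903
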