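import Groth.Statements.S13904
import Groth.Agent.H3CAlg.C2
import Groth.Agent.H3CAlg.GorMCM
import Groth.Agent.H3CAlg.GorOne
import Groth.Agent.S0561
import Mathlib.Tactic.Push

set_option autoImplicit false
universe u
open CAlg

namespace Groth.Agent.S13904

/-- Let k be a field, A a commutative k-algebra and φ : k[x_1, …, x_r] → A a finite k-algebra map such
that A/p has Krull dimension r for every minimal prime p of A (an equidimensional affine scheme of
dimension r, finite over affine r-space). Then for every minimal prime p of A and every prime q of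
k[x_1, …, x_r] there is a prime P ⊇ p of A with φ⁻¹(P) = q: the finite map restricted to each
irreducible component of Spec A is surjective onto affine r-space. (The published statement is over
an algebraically closed field with φ a Noether normalisation; this row allows any field and any
finite k-algebra map φ.) -/
theorem result (k : Type u) [Field k] (r : ℕ)
    (A : Type u) [CommRing A] [Algebra k A] (φ : MvPolynomial (Fin r) k →ₐ[k] A)
    (hφ : φ.toRingHom.Finite)
    (hdim : ∀ p ∈ minimalPrimes A, ringKrullDim (A ⧸ p) = r)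
    (p : Ideal A) (hp : p ∈ minimalPrimes A)
    (q : Ideal (MvPolynomial (Fin r) k)) [q.IsPrime] :
    ∃ P : Ideal A, P.IsPrime ∧ p ≤ P ∧ P.comap φ.toRingHom = q := by
  classical
  haveI := hp.isPrime
  letI : Algebra (MvPolynomial (Fin r) k) (A ⧸ p) := ((Ideal.Quotient.mk p).comp φ.toRingHom).toAlgebra
  haveI : Module.Finite (MvPolynomial (Fin r) k) (A ⧸ p) :=
    (RingHom.finite_algebraMap).mp ((RingHom.Finite.of_surjective _ Ideal.Quotient.mk_surjective).comp hφ)
  have hinj : RingHom.ker (algebraMap (MvPolynomial (Fin r) k) (A ⧸ p)) = ⊥ := by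
    by_contra hne
    obtain ⟨g, hg, hg0⟩ := Submodule.exists_mem_ne_zero_of_ne_bot hne
    have h1 : ringKrullDim (A ⧸ p) ≤
        ringKrullDim (MvPolynomial (Fin r) k ⧸ RingHom.ker (algebraMap (MvPolynomial (Fin r) k) (A ⧸ p))) := by
      have h := Groth.Agent.H3CAlg.C2.ringKrullDim_quotient_le_of_integral (R := MvPolynomial (Fin r) k) (⊥ : Ideal (A ⧸ p))
      rwa [ringKrullDim_eq_of_ringEquiv (RingEquiv.quotientBot (A ⧸ p)), ← RingHom.ker_eq_comap_bot] at h
    have h2 := ringKrullDim_quotient_succ_le_of_nonZeroDivisor (r := g) (mem_nonZeroDivisors_of_ne_zero hg0)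
    have h3 : ringKrullDim (MvPolynomial (Fin r) k ⧸ RingHom.ker (algebraMap (MvPolynomial (Fin r) k) (A ⧸ p))) ≤
        ringKrullDim (MvPolynomial (Fin r) k ⧸ Ideal.span {g}) :=
      ringKrullDim_le_of_surjective (Ideal.Quotient.factor ((Ideal.span_singleton_le_iff_mem _).mpr hg))
        (Ideal.Quotient.factor_surjective _)
    have h4 : ringKrullDim (MvPolynomial (Fin r) k) = r := by
      rw [MvPolynomial.ringKrullDim_of_isNoetherianRing, ringKrullDim_eq_zero_of_field, zero_add]
      simp
    rw [hdim p hp] at h1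
    have h5 := (add_le_add_left (h1.trans h3) 1).trans (h2.trans h4.le)
    have h6 : ((r + 1 : ℕ) : WithBot ℕ∞) ≤ (r : ℕ) := by push_cast; simpa [add_comm] using h5
    exact absurd ((Nat.cast_le (α := WithBot ℕ∞)).mp h6) (by omega)
  obtain ⟨P, -, hP, hPq⟩ := Ideal.exists_ideal_over_prime_of_isIntegral q (⊥ : Ideal (A ⧸ p)) (by
    rw [← RingHom.ker_eq_comap_bot, hinj]; exact bot_le)
  refine ⟨P.comap (Ideal.Quotient.mk p), inferInstance, ?_, ?_⟩
  · intro z hz
    rw [Ideal.mem_comap, Ideal.Quotient.eq_zero_iff_mem.mpr hz]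
    exact zero_mem _
  · rw [Ideal.comap_comap]
    exact hPq

end Groth.Agent.S13904
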