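import Groth.Statements.S13905
import Mathlib

set_option autoImplicit false
universe u
open ProjGeom

namespace Groth.Agent.S13905

open W4c1etcurveeff3b in
/-- Hyperplanes of projective n-space in general position, in linear-algebra form (V of dimension n + 1
over a field k, hyperplanes as n-dimensional subspaces, points as nonzero vectors): if S is a finite
set of hyperplanes in general position with at least n members and H is a hyperplane containing none
of the lines cut out by n members of S, then S with H added is again in general position. (The
published statement is for hyperplanes of P^n_k and closed points; a closed point lying on n + 1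
members is automatically one of the rational points cut out by n of them, so the condition on
nonzero vectors of V is the same condition.) -/
theorem result (k V : Type u) [Field k]
    [AddCommGroup V] [Module k V] [DecidableEq (Submodule k V)] (n : ℕ) (S : Finset (Submodule k V))
    (hS : InGeneralPosition k V n S) (hn : n ≤ S.card) (H : Submodule k V)
    (hH : Module.finrank k H = n)
    (havoid : ∀ T ⊆ S, T.card = n → ¬ (T.inf id ≤ H)) :
    InGeneralPosition k V n (insert H S) := by
  obtain ⟨hV, hrk, hinf, hpt⟩ := hS
  have hnot : ∀ T ⊆ S, T.card ≤ n → ¬ (T.inf id ≤ H) := fun T hT hTn h => by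
    obtain ⟨T', hTT', hT'S, hcard⟩ := Finset.exists_subsuperset_card_eq hT hTn hn
    exact havoid T' hT'S hcard ((Finset.inf_mono hTT').trans h)
  have : Module.Finite k V := Module.finite_of_finrank_pos (by omega)
  refine ⟨hV, ?_, fun T hT hTn => ?_, fun v hv T hT hvT => ?_⟩
  · intro H' hH'
    rcases Finset.mem_insert.1 hH' with rfl | h
    · exact hH
    · exact hrk _ h
  · by_cases hHT : H ∈ T
    · have hsub : T.erase H ⊆ S := fun X hX =>
        (Finset.mem_insert.1 (hT (Finset.mem_of_mem_erase hX))).resolve_left (Finset.ne_of_mem_erase hX)
      have hc : (T.erase H).card + 1 = T.card := Finset.card_erase_add_one hHT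
      have hW := hinf _ hsub (by omega)
      rw [show T.inf id = H ⊓ (T.erase H).inf id by
        conv_lhs => rw [← Finset.insert_erase hHT, Finset.inf_insert, id_eq]]
      have h1 := Submodule.finrank_sup_add_finrank_inf_eq H ((T.erase H).inf id)
      have h2 : H < H ⊔ (T.erase H).inf id :=
        left_lt_sup.2 (hnot _ hsub (by omega))
      have h3 := Submodule.finrank_lt_finrank_of_lt h2
      have h4 := Submodule.finrank_le (H ⊔ (T.erase H).inf id)
      omega
    · exact hinf T (fun X hX => (Finset.mem_insert.1 (hT hX)).resolve_left fun e => hHT (e ▸ hX)) hTn
  · by_cases hHT : H ∈ T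
    · by_contra hlt
      have hsub : T.erase H ⊆ S := fun X hX =>
        (Finset.mem_insert.1 (hT (Finset.mem_of_mem_erase hX))).resolve_left (Finset.ne_of_mem_erase hX)
      have hc : (T.erase H).card + 1 = T.card := Finset.card_erase_add_one hHT
      obtain ⟨T', hT', hcard⟩ := Finset.exists_subset_card_eq (show n ≤ (T.erase H).card by omega)
      have hW := hinf T' (hT'.trans hsub) hcard.le
      have hvW : v ∈ T'.inf id := (Submodule.mem_finsetInf).2 fun X hX =>
        hvT X (Finset.mem_of_mem_erase (hT' hX))
      refine hnot T' (hT'.trans hsub) hcard.le ?_
      have heq : Submodule.span k {v} = T'.inf id :=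
        Submodule.eq_of_le_of_finrank_le ((Submodule.span_singleton_le_iff_mem _ _).2 hvW)
          (by rw [finrank_span_singleton hv]; omega)
      rw [← heq, Submodule.span_singleton_le_iff_mem]
      exact hvT H hHT
    · exact hpt v hv T (fun X hX => (Finset.mem_insert.1 (hT hX)).resolve_left fun e => hHT (e ▸ hX)) hvT

end Groth.Agent.S13905
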