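import Groth.Statements.S13907
import Groth.Agent.H22Alg.ProjDim
import Groth.Agent.H11Misc.HilbertDeg

set_option autoImplicit false
universe u
open ProjGeom

namespace Groth.Agent.S13907

/-- Over an algebraically closed field k, let C be a nonempty irreducible closed subset of the
underlying space of projective n-space with homogeneous coordinates x_0, …, x_n, and for i ≤ n let
L_i be the linear subspace where x_1, …, x_i vanish. Then there is an index i ≤ n with C ∩ L_i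
nonempty and of topological Krull dimension zero. -/
theorem result (k : Type u) [Field k]
    [IsAlgClosed k] (n : ℕ) (C : Set (ProjectiveSpectrum (CohB1.polyGrading n k)))
    (hC : IsClosed C) (hirr : IsIrreducible C) :
    ∃ i : ℕ, i ≤ n ∧
      (C ∩ ProjectiveSpectrum.zeroLocus (CohB1.polyGrading n k)
          ((fun j : Fin (n + 1) => (MvPolynomial.X j : MvPolynomial (Fin (n + 1)) k)) ''
            {j : Fin (n + 1) | 1 ≤ j.val ∧ j.val ≤ i})).Nonempty ∧
      topologicalKrullDim ↥(C ∩ ProjectiveSpectrum.zeroLocus (CohB1.polyGrading n k)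
          ((fun j : Fin (n + 1) => (MvPolynomial.X j : MvPolynomial (Fin (n + 1)) k)) ''
            {j : Fin (n + 1) | 1 ≤ j.val ∧ j.val ≤ i})) = 0 := by
  classical
  let L : ℕ → Set (ProjectiveSpectrum (CohB1.polyGrading n k)) := fun i =>
    ProjectiveSpectrum.zeroLocus (CohB1.polyGrading n k)
      ((fun j : Fin (n + 1) => (MvPolynomial.X j : MvPolynomial (Fin (n + 1)) k)) ''
        {j : Fin (n + 1) | 1 ≤ j.val ∧ j.val ≤ i})
  have h0 : (C ∩ L 0).Nonempty := by
    obtain ⟨x, hx⟩ := hirr.nonempty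
    refine ⟨x, hx, ?_⟩
    rintro _ ⟨j, ⟨h1, h2⟩, rfl⟩
    exact absurd h1 (by omega)
  obtain ⟨i, hi, hne, hmax⟩ : ∃ i ≤ n, (C ∩ L i).Nonempty ∧ ∀ i', i < i' → i' ≤ n → ¬ (C ∩ L i').Nonempty :=
    ⟨Nat.findGreatest (fun i => (C ∩ L i).Nonempty) n, Nat.findGreatest_le n,
      Nat.findGreatest_spec (P := fun i => (C ∩ L i).Nonempty) (Nat.zero_le n) h0,
      fun i' h1 h2 => Nat.findGreatest_is_greatest h1 h2⟩
  refine ⟨i, hi, hne, ?_⟩
  have hclosed : IsClosed (C ∩ L i) := hC.inter (ProjectiveSpectrum.isClosed_zeroLocus _ _)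
  refine le_antisymm (H22Alg.ProjDim.dim_le k n hclosed fun x hx => ?_) ?_
  swap
  · obtain ⟨x, hx⟩ := hne
    exact H22Alg.ProjDim.le_dim k n hclosed hx (d := 0) (H22Alg.ProjDim.qdim_pos k n x)
  -- every point has a one-dimensional cone
  by_contra hgt
  let p := x.asHomogeneousIdeal.toIdeal
  have : p.IsPrime := x.isPrime
  obtain ⟨t, ht⟩ : ∃ t, H22Alg.ProjDim.qdim k n x = t + 2 := ⟨H22Alg.ProjDim.qdim k n x - 2, by omega⟩
  have hdim : ringKrullDim (MvPolynomial (Fin (n + 1)) k ⧸ p) = ((t + 1 + 1 : ℕ) : WithBot ℕ∞) :=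
    (H22Alg.ProjDim.qdim_spec k n x).trans (by rw [ht])
  obtain ⟨j, hj, hjp⟩ : ∃ j : Fin (n + 1), ((i < n → j.val = i + 1) ∧ (¬ i < n → j.val = 0)) ∧
      (MvPolynomial.X j : MvPolynomial (Fin (n + 1)) k) ∉ p := by
    by_cases hin : i < n
    · refine ⟨⟨i + 1, by omega⟩, ⟨fun _ => rfl, fun h => absurd hin h⟩, fun h => hmax (i + 1) i.lt_succ_self hin
        ⟨x, hx.1, ?_⟩⟩
      rintro _ ⟨l, ⟨h1, h2⟩, rfl⟩
      rcases Nat.lt_or_ge l.val (i + 1) with h3 | h3
      · exact hx.2 ⟨l, ⟨h1, by omega⟩, rfl⟩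
      · rw [show l = ⟨i + 1, by omega⟩ from Fin.ext (by simp only; omega)]
        exact h
    · refine ⟨0, ⟨fun h => absurd h hin, fun _ => rfl⟩, fun h => ?_⟩
      obtain ⟨l, hl⟩ := H11Misc.HilbertDeg.exists_var_notMem hdim
      rcases Nat.eq_zero_or_pos l.val with h1 | h1
      · exact hl ((show l = 0 from Fin.ext h1) ▸ h)
      · exact hl (hx.2 ⟨l, ⟨h1, by omega⟩, rfl⟩)
  have hph : p.IsHomogeneous (CohB1.polyGrading n k) := x.asHomogeneousIdeal.isHomogeneous
  have hX : (MvPolynomial.X j : MvPolynomial (Fin (n + 1)) k) ∈ CohB1.polyGrading n k 1 :=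
    MvPolynomial.isHomogeneous_X k j
  obtain ⟨q, hq⟩ := (Ideal.nonempty_minimalPrimes (H11Misc.HilbertDeg.sup_span_ne_top
    (Ideal.IsPrime.ne_top (show p.IsPrime from x.isPrime)) hph one_pos hX)).elim fun q =>
      (⟨q.1, q.2⟩ : ∃ q, q ∈ (p ⊔ Ideal.span {(MvPolynomial.X j : MvPolynomial (Fin (n + 1)) k)}).minimalPrimes)
  have hqd := H11Misc.HilbertDeg.dim_of_minimal_sup_span hjp hq hdim
  have := hq.1.1
  obtain ⟨y, hy⟩ := H22Alg.ProjDim.exists_point k n
    (H11Misc.HilbertDeg.homogeneous_minimalPrimes (H11Misc.HilbertDeg.isHomogeneous_sup_span hph hX) hq)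
    (by rw [hqd]; exact_mod_cast Nat.succ_pos t)
  have hxy : x ≤ y := fun z hz => hy.ge (hq.1.2 (Ideal.mem_sup_left hz))
  by_cases hin : i < n
  · refine hmax (i + 1) i.lt_succ_self hin ⟨y, H22Alg.ProjDim.mem_closed_of_le k n hC hx.1 hxy, ?_⟩
    rintro _ ⟨l, ⟨h1, h2⟩, rfl⟩
    rcases Nat.lt_or_ge l.val (i + 1) with h3 | h3
    · exact hxy (hx.2 ⟨l, ⟨h1, by omega⟩, rfl⟩)
    · rw [show l = j from Fin.ext (by have := hj.1 hin; omega)]
      exact hy.ge (hq.1.2 (Ideal.mem_sup_right (Ideal.mem_span_singleton_self _)))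
  · obtain ⟨l, hl⟩ := H11Misc.HilbertDeg.exists_var_notMem (p := q) (N := t) hqd
    rcases Nat.eq_zero_or_pos l.val with h1 | h1
    · exact hl (hq.1.2 (Ideal.mem_sup_right (by
        rw [show l = j from Fin.ext (by have := hj.2 hin; omega)]
        exact Ideal.mem_span_singleton_self _)))
    · exact hl (hq.1.2 (Ideal.mem_sup_left (hx.2 ⟨l, ⟨h1, by omega⟩, rfl⟩)))

end Groth.Agent.S13907
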