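import Groth.Statements.S13909
import Groth.Agent.H11Blow.Main

set_option autoImplicit false
universe u
open CategoryTheory CategoryTheory.Limits AlgebraicGeometry
open BlowUp

namespace Groth.Agent.S13909

/-- For the blowing up σ : X ⟶ Y of a smooth separated finite-type scheme over a characteristic-zero
algebraically closed field along a closed subscheme regularly immersed of constant codimension d ≥
2, and a finite locally free O_Y-module E, the unit E ⟶ σ_* σ^* E is an isomorphism and R^p σ_*(σ^*
E) = 0 for all p ≥ 1 (higher direct images of the underlying abelian sheaf). -/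
theorem result (k : Type u) [Field k] [IsAlgClosed k] [CharZero k]
    {S Y X : Scheme.{u}} [Y.Over (Spec (CommRingCat.of k))] [Smooth (Y ↘ Spec (CommRingCat.of k))]
    [IsSeparated (Y ↘ Spec (CommRingCat.of k))] [QuasiCompact (Y ↘ Spec (CommRingCat.of k))]
    (i : S ⟶ Y) [IsClosedImmersion i] (d : ℕ) (hd : 2 ≤ d) (hi : RegImm.IsRegularImmersionOfCodim .regular d i)
    (σ : X ⟶ Y) (hσ : BlowUp.IsBlowUp σ i.ker)
    (E : Y.Modules) (hE : FlatMod.IsFinLocFree E) :
    IsIso ((Scheme.Modules.pullbackPushforwardAdjunction σ).unit.app E) ∧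
    ∀ p : ℕ, 1 ≤ p → IsZero ((Coh.RpushAb σ p).obj (Coh.toAb ((Scheme.Modules.pullback σ).obj E))) := by
  obtain ⟨n, rfl⟩ : ∃ n, d = n + 1 := ⟨d - 1, by omega⟩
  obtain ⟨hY, hpr, hreg⟩ := H11Blow.setup k i hσ
  haveI := hY
  haveI := hpr
  exact ⟨H28Pinch.isIso_unit_of_isFinLocFree σ (H11Blow.bijective_app hreg i n hi hσ) E hE,
    fun p hp => H11Blow.isZero_pullback i n hi hσ hE hp⟩

end Groth.Agent.S13909
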