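import Groth.Statements.S13911
import Groth.Agent.H23Conic.Basic
import Mathlib.Algebra.MvPolynomial.NoZeroDivisors

set_option autoImplicit false
universe u
open PlaneConic

namespace Groth.Agent.S13911

/-- For an algebraically closed field k of characteristic zero, a nonzero symmetric 3 × 3 matrix Q over
k and the ternary quadratic form f = Σ Q_ij X_i X_j in k[X_0, X_1, X_2] (the equation of a plane
conic): (1) f is irreducible iff det Q ≠ 0; (2) the conic has a singular point, that is a nonzero
vector at which all partial derivatives of f vanish, iff det Q = 0 (so smooth conics are exactly the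
irreducible ones); (3) f is the product of two linearly independent linear forms (two distinct
lines) iff rank Q = 2; (4) f is the square of a linear form (a double line) iff rank Q = 1. -/
theorem result (k : Type u) [Field k] [IsAlgClosed k] [CharZero k]
    (Q : Matrix (Fin 3) (Fin 3) k) (hQ : Q.IsSymm) (hQ0 : Q ≠ 0) (f : MvPolynomial (Fin 3) k)
    (hf : f = ∑ i : Fin 3, ∑ j : Fin 3, Q i j • (MvPolynomial.X i * MvPolynomial.X j)) :
    (Irreducible f ↔ Q.det ≠ 0) ∧
    ((∃ u : Fin 3 → k, u ≠ 0 ∧ ∀ i : Fin 3, MvPolynomial.eval u (MvPolynomial.pderiv i f) = 0) ↔ Q.det = 0) ∧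
    ((∃ a b : Fin 3 → k, LinearIndependent k ![a, b] ∧
        f = (∑ i : Fin 3, a i • MvPolynomial.X i) * (∑ i : Fin 3, b i • MvPolynomial.X i)) ↔ Q.rank = 2) ∧
    ((∃ a : Fin 3 → k, f = (∑ i : Fin 3, a i • MvPolynomial.X i) ^ 2) ↔ Q.rank = 1) := by
  classical
  open Groth.Agent.H23Conic in
  have heval : ∀ x, MvPolynomial.eval x f = x ⬝ᵥ Q.mulVec x := fun x => by
    simp only [hf, map_sum, MvPolynomial.smul_eval, map_mul, MvPolynomial.eval_X, dotProduct, Matrix.mulVec,
      Finset.mul_sum]
    exact Finset.sum_congr rfl fun i _ => Finset.sum_congr rfl fun j _ => by ring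
  have hsym : ∀ i j, Q j i = Q i j := fun i j => hQ.apply i j
  have hQeq : ∀ a b : Fin 3 → k, (∀ x, MvPolynomial.eval x f = (a ⬝ᵥ x) * (b ⬝ᵥ x)) →
      ∀ x, Q.mulVec x = ((b ⬝ᵥ x) / 2) • a + ((a ⬝ᵥ x) / 2) • b := by
    intro a b h
    have hd : ∀ i, Q i i = a i * b i := fun i => by
      have := h (Pi.single i 1)
      rw [heval] at this
      simpa using this
    have hQij : ∀ i j, 2 * Q i j = a i * b j + a j * b i := fun i j => by
      have := h (Pi.single i 1 + Pi.single j 1)
      rw [heval, Matrix.mulVec_add, dotProduct_add, add_dotProduct, add_dotProduct] at this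
      simp [hsym j i, dotProduct_add, hd] at this
      linear_combination this - 2 * hsym i j
    intro x
    funext i
    simp only [Matrix.mulVec, dotProduct, Fin.sum_univ_three, Pi.add_apply, Pi.smul_apply, smul_eq_mul]
    linear_combination (x 0 / 2) * hQij i 0 + (x 1 / 2) * hQij i 1 + (x 2 / 2) * hQij i 2
  have hprod : Q.det = 0 → ∃ a b : Fin 3 → k, ∀ x, MvPolynomial.eval x f = (a ⬝ᵥ x) * (b ⬝ᵥ x) := by
    intro h
    obtain ⟨n, hn, hQn⟩ := Matrix.exists_mulVec_eq_zero_iff.mpr h
    obtain ⟨c, hc⟩ := Function.ne_iff.mp hn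
    obtain ⟨i, j, hij, hic, hjc⟩ : ∃ i j : Fin 3, i ≠ j ∧ i ≠ c ∧ j ≠ c :=
      ⟨c + 1, c + 2, by fin_cases c <;> decide, by fin_cases c <;> decide, by fin_cases c <;> decide⟩
    let yi : Fin 3 → k := Pi.single i 1 - (n i / n c) • Pi.single c 1
    let yj : Fin 3 → k := Pi.single j 1 - (n j / n c) • Pi.single c 1
    have key : ∀ x, MvPolynomial.eval x f = Q i i * (yi ⬝ᵥ x) ^ 2 + 2 * Q i j * (yi ⬝ᵥ x) * (yj ⬝ᵥ x) +
        Q j j * (yj ⬝ᵥ x) ^ 2 := by
      intro x
      set t := x c / n c
      have hx : x = (x - t • n) + t • n := by simp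
      have hsy : x - t • n = Pi.single i (yi ⬝ᵥ x) + Pi.single j (yj ⬝ᵥ x) := by
        funext l
        obtain rfl | rfl | rfl : l = i ∨ l = j ∨ l = c := by omega
        · simp [yi, t, Pi.single_eq_of_ne hij]; ring
        · simp [yj, t, Pi.single_eq_of_ne hij.symm]; ring
        · have hc' : n l ≠ 0 := hc
          simp [t, Pi.single_eq_of_ne hic.symm, Pi.single_eq_of_ne hjc.symm]
          field_simp
          ring
      have hz : n ⬝ᵥ Q.mulVec (x - t • n) = 0 := by
        rw [Matrix.dotProduct_mulVec, ← Matrix.mulVec_transpose, hQ.eq, hQn, zero_dotProduct]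
      rw [heval]
      conv_lhs => rw [hx]
      rw [Matrix.mulVec_add, Matrix.mulVec_smul, hQn, smul_zero, add_zero, add_dotProduct, smul_dotProduct, hz,
        smul_zero, add_zero, hsy, Matrix.mulVec_add, dotProduct_add, add_dotProduct, add_dotProduct]
      simp [hsym i j]
      ring
    by_cases hii : Q i i = 0
    · exact ⟨yj, (2 * Q i j) • yi + Q j j • yj, fun x => by
        rw [key, hii, add_dotProduct, smul_dotProduct, smul_dotProduct, smul_eq_mul, smul_eq_mul]; ring⟩
    · obtain ⟨d, hd⟩ := IsAlgClosed.exists_eq_mul_self (Q i j ^ 2 - Q i i * Q j j)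
      refine ⟨Q i i • yi + (Q i j + d) • yj, yi + ((Q i j - d) / Q i i) • yj, fun x => ?_⟩
      rw [key, add_dotProduct, add_dotProduct, smul_dotProduct, smul_dotProduct, smul_dotProduct, smul_eq_mul,
        smul_eq_mul, smul_eq_mul]
      field_simp
      linear_combination -(yj ⬝ᵥ x) ^ 2 * hd
  have hrle : ∀ a b : Fin 3 → k, (∀ x, MvPolynomial.eval x f = (a ⬝ᵥ x) * (b ⬝ᵥ x)) →
      Q.rank ≤ Module.finrank k (Submodule.span k (Set.range ![a, b])) := by
    intro a b h
    refine Submodule.finrank_mono ?_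
    rintro _ ⟨x, rfl⟩
    rw [Matrix.mulVecLin_apply, hQeq a b h]
    exact add_mem (Submodule.smul_mem _ _ (Submodule.subset_span ⟨0, rfl⟩))
      (Submodule.smul_mem _ _ (Submodule.subset_span ⟨1, rfl⟩))
  have hpos : Q.rank ≠ 0 := fun h => hQ0 (Matrix.ext fun i j => by
    have h0 : LinearMap.range Q.mulVecLin = ⊥ := Submodule.finrank_eq_zero.mp h
    have h1 : Q.mulVecLin (Pi.single j 1) ∈ LinearMap.range Q.mulVecLin := ⟨_, rfl⟩
    rw [h0, Submodule.mem_bot] at h1
    simpa using congrFun h1 i)
  have hdep : ∀ a b : Fin 3 → k, (∀ x, MvPolynomial.eval x f = (a ⬝ᵥ x) * (b ⬝ᵥ x)) →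
      ¬ LinearIndependent k ![a, b] → Q.rank = 1 ∧ ∃ c : Fin 3 → k, ∀ x, MvPolynomial.eval x f = (c ⬝ᵥ x) ^ 2 := by
    intro a b h hli
    have ha : a ≠ 0 := by
      rintro rfl
      exact hpos (le_antisymm ((hrle 0 0 fun x => by simpa using h x).trans (by
        rw [show Set.range ![(0 : Fin 3 → k), 0] = {0} by ext; simp [eq_comm]]
        simp)) (Nat.zero_le _))
    rw [LinearIndependent.pair_iff' ha] at hli
    push Not at hli
    obtain ⟨c, rfl⟩ := hli
    constructor
    · refine le_antisymm ((hrle a _ h).trans ((Submodule.finrank_mono (Submodule.span_le.mpr ?_)).trans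
        (finrank_span_singleton ha).le)) (Nat.one_le_iff_ne_zero.mpr hpos)
      rintro _ ⟨i, rfl⟩
      fin_cases i
      · exact Submodule.mem_span_singleton_self a
      · exact Submodule.smul_mem _ _ (Submodule.mem_span_singleton_self a)
    · obtain ⟨d, hd⟩ := IsAlgClosed.exists_eq_mul_self c
      exact ⟨d • a, fun x => by rw [h, smul_dotProduct, smul_dotProduct, smul_eq_mul, smul_eq_mul, hd]; ring⟩
  have hind : ∀ a b : Fin 3 → k, (∀ x, MvPolynomial.eval x f = (a ⬝ᵥ x) * (b ⬝ᵥ x)) →
      LinearIndependent k ![a, b] → Q.rank = 2 := by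
    intro a b h hli
    refine le_antisymm ((hrle a b h).trans (finrank_range_le_card _)) ?_
    have hspan : Submodule.span k (Set.range ![a, b]) ≤ LinearMap.range Q.mulVecLin := by
      have hr : (Matrix.of ![a, b]).rank = 2 := by
        rw [Matrix.rank_eq_finrank_span_row]
        exact (finrank_span_eq_card hli).trans (Fintype.card_fin 2)
      have hT : LinearMap.range (Matrix.of ![a, b]).mulVecLin = ⊤ :=
        Submodule.eq_top_of_finrank_eq (by rw [Module.finrank_fin_fun]; exact hr)
      rw [Submodule.span_le]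
      rintro _ ⟨i, rfl⟩
      obtain ⟨x, hx⟩ := LinearMap.range_eq_top.mp hT (Pi.single (1 - i) 2)
      have h0 : a ⬝ᵥ x = _ := congrFun hx 0
      have h1 : b ⬝ᵥ x = _ := congrFun hx 1
      refine ⟨x, ?_⟩
      rw [Matrix.mulVecLin_apply, hQeq a b h, h0, h1]
      fin_cases i <;> simp
    have := Submodule.finrank_mono hspan
    rw [finrank_span_eq_card hli] at this
    simpa [Matrix.rank] using this
  have hfun : ∀ a b : Fin 3 → k, f = Groth.Agent.H23Conic.form a * Groth.Agent.H23Conic.form b ↔
      ∀ x, MvPolynomial.eval x f = (a ⬝ᵥ x) * (b ⬝ᵥ x) := fun a b =>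
    ⟨fun h x => by rw [h, map_mul, Groth.Agent.H23Conic.eval_form, Groth.Agent.H23Conic.eval_form],
      fun h => MvPolynomial.funext fun x => by
        rw [h, map_mul, Groth.Agent.H23Conic.eval_form, Groth.Agent.H23Conic.eval_form]⟩
  have hdet3 : Q.det ≠ 0 → Q.rank = 3 := fun h => by
    simpa using Matrix.rank_of_isUnit Q ((Matrix.isUnit_iff_isUnit_det Q).mpr (isUnit_iff_ne_zero.mpr h))
  refine ⟨⟨fun hirr hdet => ?_, fun hdet => ?_⟩, ?_, ⟨?_, fun h2 => ?_⟩, ⟨?_, fun h1 => ?_⟩⟩
  · obtain ⟨a, b, h⟩ := hprod hdet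
    have hnu : ∀ c : Fin 3 → k, ¬ IsUnit (Groth.Agent.H23Conic.form c) := fun c hu => by
      have h2 := hu.map (MvPolynomial.eval (0 : Fin 3 → k))
      rw [Groth.Agent.H23Conic.eval_form, dotProduct_zero] at h2
      exact not_isUnit_zero h2
    exact (hirr.isUnit_or_isUnit ((hfun a b).mpr h)).elim (hnu a) (hnu b)
  · refine ⟨fun hu => ?_, fun g h hgh => ?_⟩
    · have h2 := hu.map (MvPolynomial.eval (0 : Fin 3 → k))
      rw [heval, zero_dotProduct] at h2
      exact not_isUnit_zero h2
    · by_contra hne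
      obtain ⟨hg, hh⟩ := not_or.mp hne
      have hfh : f.IsHomogeneous 2 := by
        rw [← MvPolynomial.mem_homogeneousSubmodule, hf]
        exact Submodule.sum_mem _ fun i _ => Submodule.sum_mem _ fun j _ => Submodule.smul_mem _ _
          ((MvPolynomial.isHomogeneous_X k i).mul (MvPolynomial.isHomogeneous_X k j))
      have hf0 : f ≠ 0 := fun h0 => hdet (by
        have hz : ∀ x, MvPolynomial.eval x f = ((0 : Fin 3 → k) ⬝ᵥ x) * ((0 : Fin 3 → k) ⬝ᵥ x) := fun x => by
          simp [h0]
        by_contra hd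
        have h3 := hdet3 hd
        have h4 := (hrle 0 0 hz).trans (finrank_range_le_card _)
        simp [h3] at h4)
      obtain ⟨hg0, hh0⟩ := mul_ne_zero_iff.mp (hgh ▸ hf0)
      have hdeg := hfh.totalDegree hf0
      rw [hgh, MvPolynomial.totalDegree_mul_of_isDomain hg0 hh0] at hdeg
      have hdeg0 : ∀ q : MvPolynomial (Fin 3) k, q ≠ 0 → q.totalDegree = 0 → IsUnit q := fun q hq h => by
        have hC := MvPolynomial.totalDegree_eq_zero_iff_eq_C.mp h
        rw [hC]
        exact (isUnit_iff_ne_zero.mpr fun h0 => hq (by rw [hC, h0, map_zero])).map MvPolynomial.C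
      have hg1 : g.totalDegree = 1 := by
        rcases Nat.eq_zero_or_pos g.totalDegree with h | h'
        · exact absurd (hdeg0 g hg0 h) hg
        · rcases Nat.eq_zero_or_pos h.totalDegree with h'' | h''
          · exact absurd (hdeg0 h hh0 h'') hh
          · omega
      have hh1 : h.totalDegree = 1 := by omega
      have hdec : ∀ q : MvPolynomial (Fin 3) k, q.totalDegree = 1 →
          ∃ (c : k) (a : Fin 3 → k), ∀ x, MvPolynomial.eval x q = c + a ⬝ᵥ x := by
        intro q hq
        have hs := MvPolynomial.sum_homogeneousComponent q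
        rw [hq] at hs
        obtain ⟨a, ha⟩ := Groth.Agent.H23Conic.exists_form (MvPolynomial.homogeneousComponent_isHomogeneous 1 q)
        refine ⟨MvPolynomial.coeff 0 q, a, fun x => ?_⟩
        conv_lhs => rw [← hs]
        simp [Finset.sum_range_succ, ha, Groth.Agent.H23Conic.eval_form]
      obtain ⟨g0, a, ha⟩ := hdec g hg1
      obtain ⟨h0, b, hb⟩ := hdec h hh1
      have hab : ∀ x, MvPolynomial.eval x f = (a ⬝ᵥ x) * (b ⬝ᵥ x) := fun x => by
        have e0 := congrArg (MvPolynomial.eval (0 : Fin 3 → k)) hgh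
        have e1 := congrArg (MvPolynomial.eval x) hgh
        have e2 := congrArg (MvPolynomial.eval (-x)) hgh
        rw [map_mul, heval, ha, hb] at e0 e1 e2
        simp only [zero_dotProduct, dotProduct_zero, add_zero] at e0
        rw [Matrix.mulVec_neg, neg_dotProduct_neg, dotProduct_neg, dotProduct_neg] at e2
        rw [heval]
        linear_combination (e1 + e2) / 2 - e0
      have h4 := (hrle a b hab).trans (finrank_range_le_card _)
      simp [hdet3 hdet] at h4
  · have hgrad : ∀ u i, MvPolynomial.eval u (MvPolynomial.pderiv i f) = 2 * Q.mulVec u i := fun u i => by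
      rw [hf]
      fin_cases i <;> simp [Fin.sum_univ_three, MvPolynomial.pderiv_mul, MvPolynomial.pderiv_X, Matrix.mulVec, dotProduct,
        hsym 0 1, hsym 0 2, hsym 1 2] <;> ring
    rw [← Matrix.exists_mulVec_eq_zero_iff]
    refine exists_congr fun u => and_congr_right fun _ => ?_
    simp [hgrad, funext_iff]
  · rintro ⟨a, b, hli, h⟩
    exact hind a b ((hfun a b).mp h) hli
  · have hdet : Q.det = 0 := by
      by_contra h
      have := hdet3 h
      omega
    obtain ⟨a, b, h⟩ := hprod hdet
    refine ⟨a, b, ?_, (hfun a b).mpr h⟩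
    by_contra hli
    have := (hdep a b h hli).1
    omega
  · rintro ⟨a, h⟩
    refine (hdep a a ((hfun a a).mp (by rw [h, sq]; rfl)) fun hli => ?_).1
    exact absurd (hli.injective (show (![a, a] : Fin 2 → Fin 3 → k) 0 = ![a, a] 1 from rfl)) (by decide)
  · have hdet : Q.det = 0 := by
      by_contra h
      have := hdet3 h
      omega
    obtain ⟨a, b, h⟩ := hprod hdet
    have hli : ¬ LinearIndependent k ![a, b] := fun hli => by
      have := hind a b h hli
      omega
    obtain ⟨-, c, hc⟩ := hdep a b h hli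
    exact ⟨c, ((hfun c c).mpr fun x => by rw [hc, sq]).trans (sq _).symm⟩

end Groth.Agent.S13911
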