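import Groth.Statements.S13912
import Groth.Agent.H23Conic.Basic

set_option autoImplicit false
universe u
open PlaneConic

namespace Groth.Agent.S13912

/-- Over an algebraically closed field k of characteristic zero, for a 2 × 2 matrix M of linear forms in
k[X_0, X_1, X_2] (entries homogeneous of degree 1, zero allowed), det M is a product of two linear
forms if and only if M can be brought by invertible scalar row and column operations g M h, with g,
h in GL_2(k), to a matrix with zero upper-right entry. (The published statement concerns matrices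
with nonzero determinant; this row also allows determinant zero, where both sides hold.) -/
theorem result (k : Type u) [Field k] [IsAlgClosed k] [CharZero k]
    (M : Matrix (Fin 2) (Fin 2) (MvPolynomial (Fin 3) k)) (hM : ∀ a b : Fin 2, (M a b).IsHomogeneous 1) :
    (∃ l₁ l₂ : MvPolynomial (Fin 3) k, l₁.IsHomogeneous 1 ∧ l₂.IsHomogeneous 1 ∧ M.det = l₁ * l₂) ↔
    ∃ g h : GL (Fin 2) k,
      ((MvPolynomial.C : k →+* MvPolynomial (Fin 3) k).mapMatrix g.val * M *
        (MvPolynomial.C : k →+* MvPolynomial (Fin 3) k).mapMatrix h.val) 0 1 = 0 := by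
  classical
  open Groth.Agent.H23Conic in
  choose A hA using fun a b => exists_form (hM a b)
  open Groth.Agent.H23Conic in
  constructor
  · rintro ⟨l₁, l₂, h₁, -, hdet⟩
    obtain ⟨c, rfl⟩ := exists_form h₁
    let F : (Fin 3 → k) → ((Fin 3 → k) →ₗ[k] k) := fun v => (dotProductBilin k k v)
    have hF : ∀ v x, F v x = v ⬝ᵥ x := fun v x => rfl
    obtain ⟨a₀, a₁, b₀, b₁, ha, hb, hz⟩ :=
      exists_isotropic (F c) (F (A 0 0)) (F (A 0 1)) (F (A 1 0)) (F (A 1 1)) (fun x hx => by
        rw [hF] at hx
        have h := congrArg (MvPolynomial.eval x) hdet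
        rw [Matrix.det_fin_two, hA 0 0, hA 0 1, hA 1 0, hA 1 1] at h
        simp only [map_sub, map_mul, eval_form, hx, zero_mul] at h
        exact h)
    obtain ⟨g, hg0, hg1⟩ := exists_GL ha
    obtain ⟨h₀, hh0, hh1⟩ := exists_GL (k := k) (a := b₁) (b := b₀) (by simpa [and_comm] using hb)
    let h : GL (Fin 2) k := Matrix.GeneralLinearGroup.mkOfDetNeZero !![h₀.val 1 1, b₀; h₀.val 1 0, b₁] (by
      have hd : h₀.val.det ≠ 0 := (Matrix.isUnit_iff_isUnit_det _).mp h₀.isUnit |>.ne_zero
      rw [Matrix.det_fin_two, hh0, hh1] at hd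
      rw [Matrix.det_fin_two]
      simp only [Matrix.of_apply, Matrix.cons_val_zero, Matrix.cons_val_one, Matrix.cons_val_fin_one, Matrix.cons_val']
      intro h0
      apply hd
      linear_combination h0)
    refine ⟨g, h, MvPolynomial.funext fun x => ?_⟩
    have := LinearMap.congr_fun hz x
    simp only [LinearMap.add_apply, LinearMap.smul_apply, hF, smul_eq_mul, LinearMap.zero_apply] at this
    rw [map_zero]
    simp [h, Matrix.mul_apply, Fin.sum_univ_two, hA, eval_form, hg0, hg1]
    linear_combination this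
  · rintro ⟨g, h, h01⟩
    obtain ⟨N, hN⟩ : ∃ N, N = (MvPolynomial.C : k →+* MvPolynomial (Fin 3) k).mapMatrix g.val * M *
        (MvPolynomial.C : k →+* MvPolynomial (Fin 3) k).mapMatrix h.val := ⟨_, rfl⟩
    rw [← hN] at h01
    have hh : ∀ i j, (N i j).IsHomogeneous 1 := fun i j => by
      rw [hN]
      simp only [Matrix.mul_apply, RingHom.mapMatrix_apply, Matrix.map_apply]
      refine MvPolynomial.IsHomogeneous.sum _ _ _ fun a _ => ?_
      rw [mul_comm]
      exact (MvPolynomial.IsHomogeneous.sum _ _ _ fun b _ => (hM b a).C_mul _).C_mul _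
    have hdet := congrArg Matrix.det hN
    rw [Matrix.det_mul, Matrix.det_mul, ← RingHom.map_det, ← RingHom.map_det, Matrix.det_fin_two N, h01, zero_mul,
      sub_zero] at hdet
    have hgh : g.val.det * h.val.det ≠ 0 := mul_ne_zero
      ((Matrix.isUnit_iff_isUnit_det _).mp g.isUnit).ne_zero ((Matrix.isUnit_iff_isUnit_det _).mp h.isUnit).ne_zero
    refine ⟨MvPolynomial.C (g.val.det * h.val.det)⁻¹ * N 0 0, N 1 1, (hh 0 0).C_mul _, hh 1 1, ?_⟩
    rw [mul_assoc, hdet]
    have h1 : (MvPolynomial.C (g.val.det * h.val.det)⁻¹ : MvPolynomial (Fin 3) k) *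
        (MvPolynomial.C g.val.det * MvPolynomial.C h.val.det) = 1 := by
      rw [← map_mul, ← map_mul, inv_mul_cancel₀ hgh, map_one]
    linear_combination (-M.det) * h1

end Groth.Agent.S13912
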