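import Groth.Statements.S13913
import Mathlib.RingTheory.MvPolynomial.EulerIdentity
import Mathlib.Tactic.LinearCombination

set_option autoImplicit false
universe u
open PlaneCubic

namespace Groth.Agent.S13913

/-- Over an algebraically closed field of characteristic zero, for linearly independent linear forms z₁,
z₂ and quadratic forms q₁, q₂ in three variables and a nonzero common zero p of z₁ and z₂, the point
p is a singular point of the plane cubic z₁q₂ − z₂q₁ = 0 (all three partial derivatives vanish at p)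
if and only if q₁ and q₂ both vanish at p. -/
theorem result (k : Type u) [Field k] [IsAlgClosed k] [CharZero k]
    (z₁ z₂ q₁ q₂ : MvPolynomial (Fin 3) k) (hz₁ : z₁.IsHomogeneous 1) (hz₂ : z₂.IsHomogeneous 1)
    (hq₁ : q₁.IsHomogeneous 2) (hq₂ : q₂.IsHomogeneous 2) (hind : LinearIndependent k ![z₁, z₂])
    (p : Fin 3 → k) (hp : p ≠ 0) (hp₁ : MvPolynomial.eval p z₁ = 0) (hp₂ : MvPolynomial.eval p z₂ = 0) :
    (∀ i : Fin 3, MvPolynomial.eval p (MvPolynomial.pderiv i (z₁ * q₂ - z₂ * q₁)) = 0) ↔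
      (MvPolynomial.eval p q₁ = 0 ∧ MvPolynomial.eval p q₂ = 0) := by
  classical
  have hconst : ∀ (z : MvPolynomial (Fin 3) k), z.IsHomogeneous 1 → ∀ i,
      MvPolynomial.pderiv i z = MvPolynomial.C (MvPolynomial.eval p (MvPolynomial.pderiv i z)) := by
    intro z hz i
    have h0 := (MvPolynomial.totalDegree_zero_iff_isHomogeneous (p := MvPolynomial.pderiv i z)).mpr hz.pderiv
    rw [MvPolynomial.totalDegree_eq_zero_iff_eq_C] at h0
    conv_rhs => rw [h0, MvPolynomial.eval_C]
    first | exact h0 | skip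
  have hd : ∀ i, MvPolynomial.eval p (MvPolynomial.pderiv i (z₁ * q₂ - z₂ * q₁)) =
      MvPolynomial.eval p q₂ * MvPolynomial.eval p (MvPolynomial.pderiv i z₁) -
        MvPolynomial.eval p q₁ * MvPolynomial.eval p (MvPolynomial.pderiv i z₂) := fun i => by
    simp [hp₁, hp₂]
  refine ⟨fun h => ?_, fun ⟨h1, h2⟩ i => by rw [hd, h1, h2, zero_mul, zero_mul, sub_zero]⟩
  have hz : MvPolynomial.eval p q₂ • z₁ + (-MvPolynomial.eval p q₁) • z₂ = 0 := by
    have e1 := hz₁.sum_X_mul_pderiv
    have e2 := hz₂.sum_X_mul_pderiv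
    rw [one_nsmul] at e1 e2
    rw [← e1, ← e2, Finset.smul_sum, Finset.smul_sum, ← Finset.sum_add_distrib]
    refine Finset.sum_eq_zero fun i _ => ?_
    rw [hconst z₁ hz₁ i, hconst z₂ hz₂ i, MvPolynomial.smul_eq_C_mul, MvPolynomial.smul_eq_C_mul, map_neg]
    have := h i
    rw [hd] at this
    have hC := congrArg (MvPolynomial.C (σ := Fin 3)) this
    rw [map_sub, map_mul, map_mul, map_zero] at hC
    linear_combination (MvPolynomial.X i) * hC
  obtain ⟨a, b⟩ := LinearIndependent.pair_iff.mp hind _ _ hz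
  exact ⟨neg_eq_zero.mp b, a⟩

end Groth.Agent.S13913
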