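import Groth.Statements.S13915
import Groth.Agent.H28RR.PlaneBlow
import Groth.Agent.H28RR.BlowSurf
import Groth.Agent.H28Reg.Basic

set_option autoImplicit false
universe u
open CategoryTheory CategoryTheory.Limits AlgebraicGeometry
open Groth.Agent
open BlowUp

namespace Groth.Agent.S13915

/-- On the blowing up σ : X ⟶ P²_k of the projective plane over an algebraically closed field k of
characteristic zero at a closed point, with E the ideal of the exceptional line and H the pull-back
of O(1), one has χ(X, σ^*O(a) ⊗ E^b) = (a² + 3a)/2 − (b² + b)/2 + 1 for all integers a and natural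
numbers b (the line bundle written aH − bL; the k-structure on X is the composite through σ). -/
theorem result (k : Type u) [Field k] [IsAlgClosed k] [CharZero k]
    (p : ↥(CohB1.ProjSpace 2 k)) (hp : IsClosed ({p} : Set ↥(CohB1.ProjSpace 2 k)))
    {X : Scheme.{u}} [X.Over (Spec (CommRingCat.of k))] (σ : X ⟶ CohB1.ProjSpace 2 k)
    (hσk : σ ≫ CohB1.ProjSpace.toSpec 2 k = X ↘ Spec (CommRingCat.of k))
    (hσ : BlowUp.IsBlowUp σ (Scheme.IdealSheafData.vanishingIdeal ⟨{p}, hp⟩)) (a : ℤ) (b : ℕ) :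
    Curv2.euler k X (CohB1.tensorMod ((Scheme.Modules.pullback σ).obj (Twist.twistProjSpace 2 k a))
      (ClSub.idealMod ((BlowUp.exceptional σ (Scheme.IdealSheafData.vanishingIdeal ⟨{p}, hp⟩)) ^ b))) =
      (a * a + 3 * a) / 2 - ((b : ℤ) * b + b) / 2 + 1 := by
  classical
  let Q := CohB1.ProjSpace 2 k
  haveI : IsIntegral Q := LeadPic.PnRel.isIntegral_projSpace (n := 2) k
  haveI : Smooth (Q ↘ Spec (CommRingCat.of k)) := H26Smooth.smooth_toSpec 2 k
  have hdQ : topologicalKrullDim Q = 2 := by exact_mod_cast S10829.result k 2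
  obtain ⟨hint, hdim, hprop, hsm⟩ := H28RR.isSurface_blowUp k hdQ hσ
  haveI := hint
  haveI : IsProper (X ↘ Spec (CommRingCat.of k)) := hσk ▸ hprop
  haveI : Smooth (X ↘ Spec (CommRingCat.of k)) := hσk ▸ hsm
  haveI := H28Int.isNoetherian k (X := X)
  set E := BlowUp.exceptional σ (Scheme.IdealSheafData.vanishingIdeal ⟨{p}, hp⟩) with hEdef
  have hreg : ∀ x : X, IsRegularLocalRing (X.presheaf.stalk x) :=
    fun x => H19Grp.isRegularLocalRing_stalk_of_smooth (X ↘ Spec (CommRingCat.of k)) x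
  have hE : H28Surf.IsCurve E := H28RR.exc_isCurve k hdQ hσ
  have hI := H28Surf.isInvertible_ideal k (H28Surf.isEffCartier_curve k hdim hE)
  have hrange : Set.range (fun _ : Fin 1 => p) = {p} := Set.range_const
  have hZ : IsClosed (Set.range fun _ : Fin 1 => p) := hrange ▸ hp
  have hσ' : BlowUp.IsBlowUp σ (Scheme.IdealSheafData.vanishingIdeal ⟨_, hZ⟩) := by
    have : (⟨_, hZ⟩ : TopologicalSpace.Closeds Q) = ⟨{p}, hp⟩ := TopologicalSpace.Closeds.ext hrange
    rw [this]; exact hσ
  obtain ⟨-, -, hχ, htw, -⟩ := H28RR.PlaneBlow.facts_all k 1 (fun _ => p) (fun _ => hp) hZ X σ hσk hσ' hdim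
  obtain ⟨W, hW⟩ := H28RR.exists_canonical k hdim
  have hWi := H28RR.isInvertible_canonical k hdim hW
  let A := (Scheme.Modules.pullback σ).obj (Twist.twistProjSpace 2 k a)
  have hT : PicF.IsInvertible (Twist.twistProjSpace 2 k a) := H22Alg.RegSheaf.isInvertible_twistProjSpace 2 k a
  have hA : PicF.IsInvertible A := H11Ample.isInvertible_pullback σ hT
  have hS : ∀ C ∈ Multiset.replicate b E, H28Surf.IsCurve C := fun C hC => Multiset.eq_of_mem_replicate hC ▸ hE
  have hpow : (Multiset.replicate b E).prod = E ^ b := Multiset.prod_replicate b E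
  have hP : PicF.IsInvertible (ClSub.idealMod (E ^ b)) :=
    hpow ▸ H28Surf.isInvertible_ideal k (H28Surf.isEffCartier_prod k hdim _ hS)
  have hlin : ∀ M : X.Modules, PicF.IsInvertible M →
      H28Surf.pr k (ClSub.idealMod (E ^ b)) M = b * H28Surf.pr k (ClSub.idealMod E) M := fun M hM => by
    rw [← hpow, H28Reg.pr_prod_left k hreg hdim _ hS hM, Multiset.map_replicate, Multiset.sum_replicate, nsmul_eq_mul]
  have hAE : H28Surf.pr k A (ClSub.idealMod E) = 0 := H28RR.pr_pullback_exc k hdQ hdim hσk hσ hT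
  have hEE := H28RR.pr_exc_self k hdQ hdim hσ
  rw [← hEdef] at hEE
  have hEW : H28Surf.pr k (ClSub.idealMod E) W = 1 := by
    have h1 := H28RR.euler_quot k hdim hW (H28Surf.isEffCartier_curve k hdim hE)
    obtain ⟨⟨-, K, _, e, -⟩, -⟩ := H28RR.exc_isExcCurve k hdQ hσ
    haveI : (Coh.structureModule E.subscheme).IsQuasicoherent := H10Coh.isQuasicoherent_unit
    obtain ⟨s'⟩ := H11Ample.nonempty_pullback_structureModule_iso e.hom
    have hg : Subsingleton (Coh.HH E.subscheme (Coh.structureModule E.subscheme) 1) :=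
      H28Vert.subsingleton_HH_of_pullback_iso e _ 1 (H10Coh.subsingleton_HH_of_iso s'.symm 1
        (H10Coh.Pn.subsingleton_HH_structureModule 1 K 1 one_pos))
    rw [(H28RR.subsingleton_h1_iff k hdim hE).1 hg, hEE] at h1
    omega
  have hrA := H28RR.riemann_roch' k hdim hW hA
  rw [htw a, hχ] at hrA
  have hr := H28RR.riemann_roch' k hdim hW (H11Ample.isInvertible_tensor hA hP)
  rw [H28Surf.pr_tensor_left k hdim hA hP (H11Ample.isInvertible_tensor hA hP),
    H28Surf.pr_tensor_left k hdim hA hP hWi,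
    H28Surf.pr_symm k A (CohB1.tensorMod A (ClSub.idealMod (E ^ b))),
    H28Surf.pr_symm k (ClSub.idealMod (E ^ b)) (CohB1.tensorMod A (ClSub.idealMod (E ^ b))),
    H28Surf.pr_tensor_left k hdim hA hP hA, H28Surf.pr_tensor_left k hdim hA hP hP,
    H28Surf.pr_symm k A (ClSub.idealMod (E ^ b)), hlin A hA, hlin W hWi, hlin _ hP,
    H28Surf.pr_symm k (ClSub.idealMod E) A, H28Surf.pr_symm k (ClSub.idealMod E) (ClSub.idealMod (E ^ b)),
    hlin _ hI, hAE, hEW, hEE, hχ] at hr
  have hch : 2 * Ring.choose (a + 2) 2 = a * a + 3 * a + 2 := by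
    have h := Ring.descPochhammer_eq_factorial_smul_choose (a + 2) 2
    simp [descPochhammer_succ_right, Polynomial.smeval_mul, Polynomial.smeval_sub, Polynomial.smeval_X, Polynomial.smeval_one, Nat.factorial] at h
    linarith
  set s : ℤ := (b : ℤ) * b + b with hs
  have hb2 : s = (b : ℤ) * b + b := hs
  have heA : 2 ∣ a * a + 3 * a := ⟨Ring.choose (a + 2) 2 - 1, by linarith⟩
  have heb : 2 ∣ s := by
    obtain ⟨c, hc⟩ := Int.even_mul_succ_self (b : ℤ)
    exact ⟨c, by rw [hs]; linarith⟩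
  have key : 2 * Curv2.euler k X (CohB1.tensorMod A (ClSub.idealMod (E ^ b))) = (a * a + 3 * a) - s + 2 := by
    rw [hs]
    linarith
  show Curv2.euler k X (CohB1.tensorMod A (ClSub.idealMod (E ^ b))) = _
  omega

end Groth.Agent.S13915
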