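import Groth.Statements.S13916
import Groth.Agent.H23Conic.Basic

set_option autoImplicit false
universe u
open PlaneConic

namespace Groth.Agent.S13916

/-- Over an algebraically closed field k of characteristic zero, with u_0, u_1, u_2 the coordinate
linear forms of k[X_0, X_1, X_2] and 2 × 2 matrices of linear forms compared up to M ↦ g M h with g,
h invertible scalar matrices: (1) the matrices with rows (u_1, 0), (u_0, u_2) and (u_2, 0), (u_0,
u_1) are not equivalent; (2) for α ≠ 0 the matrix with rows (u_1, 0), (αu_0 + βu_1 + γu_2, u_2) is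
equivalent to the one with rows (u_1, 0), (u_0, u_2). -/
theorem result (k : Type u) [Field k] [IsAlgClosed k] [CharZero k] :
    (¬ ∃ g h : GL (Fin 2) k,
      (MvPolynomial.C : k →+* MvPolynomial (Fin 3) k).mapMatrix g.val *
          !![MvPolynomial.X 1, 0; MvPolynomial.X 0, MvPolynomial.X 2] *
        (MvPolynomial.C : k →+* MvPolynomial (Fin 3) k).mapMatrix h.val =
      !![MvPolynomial.X 2, 0; MvPolynomial.X 0, MvPolynomial.X 1]) ∧
    (∀ α β γ : k, α ≠ 0 → ∃ g h : GL (Fin 2) k,
      (MvPolynomial.C : k →+* MvPolynomial (Fin 3) k).mapMatrix g.val *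
          !![MvPolynomial.X 1, 0;
             MvPolynomial.C α * MvPolynomial.X 0 + MvPolynomial.C β * MvPolynomial.X 1 + MvPolynomial.C γ * MvPolynomial.X 2,
             MvPolynomial.X 2] *
        (MvPolynomial.C : k →+* MvPolynomial (Fin 3) k).mapMatrix h.val =
      !![MvPolynomial.X 1, 0; MvPolynomial.X 0, MvPolynomial.X 2]) := by
  constructor
  · rintro ⟨g, h, hgh⟩
    have e0 := congrArg (fun M => fun i j => MvPolynomial.eval (![1, 0, 0] : Fin 3 → k) ((M : Matrix (Fin 2) (Fin 2) _) i j)) hgh
    have e2 := congrArg (fun M => fun i j => MvPolynomial.eval (![0, 0, 1] : Fin 3 → k) ((M : Matrix (Fin 2) (Fin 2) _) i j)) hgh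
    have h10 := congrFun (congrFun e0 1) 0
    have h00 := congrFun (congrFun e0 0) 0
    have k00 := congrFun (congrFun e2 0) 0
    simp [Matrix.mul_apply, Fin.sum_univ_two] at h10 h00 k00
    rcases h00 with h00 | h00
    · simp [h00] at k00
    · simp [h00] at h10
  · intro α β γ hα
    refine ⟨Matrix.GeneralLinearGroup.mkOfDetNeZero !![1, 0; -β / α, 1 / α] (by simp [Matrix.det_fin_two, hα]),
      Matrix.GeneralLinearGroup.mkOfDetNeZero !![1, 0; -γ, α] (by simp [Matrix.det_fin_two, hα]), ?_⟩
    refine Matrix.ext fun i j => MvPolynomial.funext fun x => ?_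
    fin_cases i <;> fin_cases j <;> simp [Matrix.mul_apply, Fin.sum_univ_two] <;> field_simp <;> ring

end Groth.Agent.S13916
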