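import Groth.Statements.S13919
import Groth.Agent.H23ThreePts.Basic

set_option autoImplicit false
universe u
open W4c1limliniiii Polynomial

namespace Groth.Agent.S13919

open Polynomial in
/-- Over an algebraically closed field of characteristic p (zero allowed), fix three distinct points of
the affine line and indices 2 ≤ e_i ≤ d prime to p with ∑ (e_i − 1) = 2d − 2, and encode self-maps
of the projective line up to automorphisms of the target as base-point-free separable pencils of
polynomials of degree at most d. If p is positive, the first two indices are less than p and p ≤ d,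
then there is no separable degree-d self-map of the projective line with ramification index exactly
e_i at the i-th point; if p = 0 or d < p there is exactly one up to automorphisms of the target.
(The first clause includes the case d = p; with it, when all e_i are less than p, the three-point
count is one map if p = 0 or p > d and none otherwise.) -/
theorem result (k : Type u) [Field k] [IsAlgClosed k]
    (p : ℕ) [CharP k p] (d : ℕ) (P : Fin 3 → k) (hP : Function.Injective P)
    (e : Fin 3 → ℕ) (he : W4c1limliniiii.Admissible p d e) :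
    (p ≠ 0 → e 0 < p → e 1 < p → p ≤ d → W4c1limliniiii.ramMaps d P e = ∅) ∧
      (p = 0 ∨ d < p → ∃ V : Submodule k k[X], W4c1limliniiii.ramMaps d P e = {V}) := by
  have hed : ∀ i, e i ≤ d := fun i => (he.1 i).2.1
  have he1 : ∀ i, 1 ≤ e i := fun i => le_trans one_le_two (he.1 i).1
  have hsum : e 0 + e 1 + e 2 = 2 * d + 1 := by
    have := he.2
    rw [Fin.sum_univ_three] at this
    omega
  have hd : 2 ≤ d := le_trans (he.1 0).1 (hed 0)
  constructor
  · intro hp h0 h1 hpd
    haveI : Fact p.Prime := ⟨(CharP.char_is_prime_or_zero k p).resolve_right hp⟩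
    haveI : ExpChar k p := ExpChar.prime Fact.out
    haveI : ExpChar k[X] p := expChar_of_injective_ringHom Polynomial.C_injective p
    refine Set.eq_empty_iff_forall_notMem.mpr fun V' hV' => ?_
    let h : k[X] := (X - C (P 2)) ^ (e 2 - p)
    let s : Fin 3 → k[X] := fun i => (X - C (P i)) ^ p * h
    have hs : ∀ i, s i = C (1 : k) * (X ^ p * h) - C (P i ^ p) * h := fun i => by
      simp only [s, sub_pow_expChar, map_one, map_pow, one_mul]
      ring
    have hne : ∀ i, s i ≠ 0 := fun i =>
      mul_ne_zero (pow_ne_zero _ (X_sub_C_ne_zero _)) (pow_ne_zero _ (X_sub_C_ne_zero _))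
    have hdeg : ∀ i, (s i).natDegree ≤ d := fun i => by
      rw [((monic_X_sub_C _).pow _).natDegree_mul ((monic_X_sub_C _).pow _), (monic_X_sub_C _).natDegree_pow,
        (monic_X_sub_C _).natDegree_pow, natDegree_X_sub_C, natDegree_X_sub_C]
      have := hed 2
      omega
    have hPp : P 0 ^ p ≠ P 1 ^ p := fun hh => absurd (hP (frobenius_inj k p hh)) (by decide)
    have hind : LinearIndependent k ![s 0, s 1] := by
      rw [LinearIndependent.pair_iff' (hne 0)]
      intro c hc
      simp only [s, smul_eq_C_mul, ← mul_assoc] at hc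
      have hc' := mul_right_cancel₀ (pow_ne_zero _ (X_sub_C_ne_zero _)) hc
      have e1 := congrArg (Polynomial.eval (P 0)) hc'
      simp only [eval_mul, eval_C, eval_pow, eval_sub, eval_X, sub_self,
        zero_pow (Fact.out : p.Prime).ne_zero, mul_zero] at e1
      exact absurd (hP (sub_eq_zero.mp ((pow_eq_zero_iff (Fact.out : p.Prime).ne_zero).mp e1.symm))) (by decide)
    let V : Submodule k k[X] := Submodule.span k (Set.range ![s 0, s 1])
    have hmem0 : s 0 ∈ V := Submodule.subset_span ⟨0, rfl⟩
    have hmem1 : s 1 ∈ V := Submodule.subset_span ⟨1, rfl⟩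
    have hmem : ∀ i, s i ∈ V := by
      intro i
      have hd0 : P 1 ^ p - P 0 ^ p ≠ 0 := sub_ne_zero.mpr hPp.symm
      let a := (P 1 ^ p - P i ^ p) / (P 1 ^ p - P 0 ^ p)
      have h1 : a * P 0 ^ p + (1 - a) * P 1 ^ p = P i ^ p := by
        simp only [a]; field_simp; ring
      have : s i = a • s 0 + (1 - a) • s 1 := by
        rw [hs i, hs 0, hs 1, smul_eq_C_mul, smul_eq_C_mul, ← h1]
        simp only [map_sub, map_one, map_add, map_mul]
        ring
      rw [this]
      exact add_mem (V.smul_mem _ hmem0) (V.smul_mem _ hmem1)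
    have hweak : Groth.Agent.H23ThreePts.Weak d P e V := by
      refine ⟨?_, ?_, fun i => ⟨s i, hmem i, hne i, ?_⟩⟩
      · rw [Submodule.span_le]
        rintro _ ⟨i, rfl⟩
        rw [SetLike.mem_coe, mem_degreeLE, ← natDegree_le_iff_degree_le]
        fin_cases i <;> exact hdeg _
      · rw [finrank_span_eq_card hind]; rfl
      · refine (le_rootMultiplicity_iff (hne i)).mpr ?_
        fin_cases i
        · exact (pow_dvd_pow _ h0.le).trans (dvd_mul_right _ _)
        · exact (pow_dvd_pow _ h1.le).trans (dvd_mul_right _ _)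
        · show (X - C (P 2)) ^ e 2 ∣ (X - C (P 2)) ^ p * (X - C (P 2)) ^ (e 2 - p)
          rw [← pow_add]
          exact pow_dvd_pow _ (by omega)
    have hVV := Groth.Agent.H23ThreePts.eq_of_weak hP he1 hsum hed hV' hweak
    obtain ⟨F, hF, G, hG, hW⟩ := hV'.2.1
    rw [← hVV] at hF hG
    obtain ⟨a, b, rfl⟩ := Groth.Agent.H23ThreePts.exists_eq_comb hweak.2.1 hmem0 hmem1 hind hF
    obtain ⟨c, f, rfl⟩ := Groth.Agent.H23ThreePts.exists_eq_comb hweak.2.1 hmem0 hmem1 hind hG
    refine hW ?_
    rw [Groth.Agent.H23ThreePts.wronskian_comb]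
    have hdp : ∀ x : k, derivative ((X - C x) ^ p) = 0 := fun x => by
      rw [derivative_pow, CharP.cast_eq_zero, map_zero, zero_mul, zero_mul]
    refine mul_eq_zero_of_right _ ?_
    simp only [wronskian, s, derivative_mul, hdp]
    ring
  · intro hp
    obtain ⟨V, hV⟩ := Groth.Agent.H23ThreePts.exists_weak hP hsum hed
    obtain ⟨s, hs, hs2, hind⟩ := Groth.Agent.H23ThreePts.exists_triple hP hsum hed hV
    have hsep : IsSeparable V := by
      refine ⟨s 0, (hs 0).1, s 1, (hs 1).1, fun hW => ?_⟩
      have hdep := Groth.Agent.S13929.dependent_of_wronskian hp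
        (Groth.Agent.H23ThreePts.natDegree_le_of_mem hV.1 (hs 0).1)
        (Groth.Agent.H23ThreePts.natDegree_le_of_mem hV.1 (hs 1).1) hW
      rw [LinearIndependent.pair_iff' (hs 0).2.1] at hind
      refine hind ((s 1).coeff (s 0).natDegree / (s 0).leadingCoeff) (Polynomial.ext fun n => ?_)
      have := hdep (s 0).natDegree n
      rw [coeff_smul, smul_eq_mul, leadingCoeff, div_mul_eq_mul_div, div_eq_iff (show (s 0).coeff (s 0).natDegree ≠ 0 from leadingCoeff_ne_zero.mpr (hs 0).2.1)]
      linear_combination -this
    have hmem := Groth.Agent.H23ThreePts.mem_ramMaps_of_isSeparable hP he1 hsum hd hV hsep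
    refine ⟨V, Set.eq_singleton_iff_unique_mem.mpr ⟨hmem, fun V' hV' => ?_⟩⟩
    exact Groth.Agent.H23ThreePts.eq_of_weak hP he1 hsum hed hmem (Groth.Agent.H23ThreePts.weak_of_mem_ramMaps hV')

end Groth.Agent.S13919
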