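import Groth.Statements.S13920
import Groth.Agent.H23ThreePts.Basic

set_option autoImplicit false
universe u
open W4c1limliniiii Polynomial

namespace Groth.Agent.S13920

open Polynomial in
/-- Over an algebraically closed field of prime characteristic p, fix n points of the affine line with
ramification indices e_i < p, and at infinity an index E with p < E and E prime to p, the datum (E,
e_1, …, e_n) being admissible for degree d (each index between 2 and d, ∑ (index − 1) = 2d − 2). If
one separable degree-d self-map of the projective line (up to automorphisms of the target, encoded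
as a base-point-free separable pencil of polynomials of degree at most d) has ramification index
exactly e_i at the i-th point and exactly E at infinity, then infinitely many do: the set of such
pencils is empty or infinite. (The consequence for general points, that no such map exists, is not
restated.) -/
theorem result
    (k : Type u) [Field k] [IsAlgClosed k] (p : ℕ) [Fact p.Prime] [CharP k p]
    (d n : ℕ) (P : Fin n → k) (e : Fin n → ℕ) (E : ℕ)
    (he : W4c1limliniiii.Admissible p d (Fin.cons E e : Fin (n + 1) → ℕ))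
    (hlt : ∀ i, e i < p) (hE : p < E) :
    {V : Submodule k k[X] | V ∈ W4c1limliniiii.ramMaps d P e ∧ W4c1limliniiii.HasRamIdxInf d V E} = ∅ ∨
      {V : Submodule k k[X] | V ∈ W4c1limliniiii.ramMaps d P e ∧
        W4c1limliniiii.HasRamIdxInf d V E}.Infinite := by
  rw [or_iff_not_imp_left, ← Ne, ← Set.nonempty_iff_ne_empty]
  rintro ⟨V, ⟨⟨hle, hfin, ⟨F, hF, hFd⟩, hbpf⟩, ⟨A, hA, B, hB, hW⟩, hram⟩, ⟨G, hG, hG0, hGE⟩, hlow⟩
  haveI : ExpChar k p := ExpChar.prime Fact.out
  haveI : ExpChar k[X] p := expChar_of_injective_ringHom Polynomial.C_injective p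
  have hEd : E ≤ d := by simpa using (he.1 0).2.1
  have hGd : G.natDegree + E = d := le_antisymm hGE (hlow G hG hG0)
  have hF0 : F ≠ 0 := fun h => by rw [h, natDegree_zero] at hFd; omega
  have hind : LinearIndependent k ![G, F] := by
    rw [LinearIndependent.pair_iff' hG0]
    intro a ha
    have := natDegree_smul_le a G
    rw [ha, hFd] at this
    omega
  let F' : k → k[X] := fun t => F + C t * (X ^ p * G)
  let V' : k → Submodule k k[X] := fun t => Submodule.span k (Set.range ![G, F' t])
  have hxG : ∀ t : k, (C t * (X ^ p * G)).natDegree < d := fun t => by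
    refine (natDegree_C_mul_le _ _).trans_lt ?_
    rw [natDegree_mul (pow_ne_zero _ X_ne_zero) hG0, natDegree_X_pow]
    omega
  have hF'd : ∀ t, (F' t).natDegree = d := fun t => by
    rw [natDegree_add_eq_left_of_natDegree_lt (by rw [hFd]; exact hxG t), hFd]
  have hmemV' : ∀ t s, s ∈ V' t ↔ ∃ a b : k, s = a • G + b • F' t := fun t s => by
    simp only [V', Matrix.range_cons, Matrix.range_empty, Set.union_empty, Set.union_singleton]
    rw [Submodule.mem_span_pair]
    constructor
    · rintro ⟨a, b, rfl⟩; exact ⟨b, a, add_comm _ _⟩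
    · rintro ⟨a, b, rfl⟩; exact ⟨b, a, add_comm _ _⟩
  have hdegb : ∀ t (a b : k), b ≠ 0 → (a • G + b • F' t).natDegree = d := fun t a b hb => by
    have h1 : (b • F' t).natDegree = d := by rw [natDegree_smul _ hb, hF'd]
    rw [add_comm, natDegree_add_eq_left_of_natDegree_lt (by
      rw [h1]; have := natDegree_smul_le a G; omega), h1]
  have hind' : ∀ t, LinearIndependent k ![G, F' t] := fun t => by
    rw [LinearIndependent.pair_iff' hG0]
    intro a ha
    have := natDegree_smul_le a G
    rw [ha, hF'd] at this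
    omega
  have hcomb : ∀ t, ∀ (i : Fin n) (a b : k), a • G + b • F' t =
      ((a + b * t * P i ^ p) • G + b • F) + C (b * t) * ((X - C (P i)) ^ p * G) := by
    intro t i a b
    simp only [F', smul_eq_C_mul, map_add, map_mul, map_pow, sub_pow_expChar]
    ring
  have hmult : ∀ t (i : Fin n) (m : ℕ), m ≤ p → ∀ a b : k,
      ((X - C (P i)) ^ m ∣ a • G + b • F' t ↔ (X - C (P i)) ^ m ∣ (a + b * t * P i ^ p) • G + b • F) := by
    intro t i m hm a b
    rw [hcomb t i a b]
    exact dvd_add_left (((pow_dvd_pow _ hm).mul_right G).mul_left _)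
  refine Set.infinite_of_injective_forall_mem (f := V') ?_ fun t => ?_
  · intro t₁ t₂ h
    have h1 : F' t₁ ∈ V' t₂ := h ▸ (hmemV' t₁ _).mpr ⟨0, 1, by simp⟩
    obtain ⟨a, b, hab⟩ := (hmemV' t₂ _).mp h1
    have hc := congrArg (fun q : k[X] => q.coeff d) hab
    have hG' : G.coeff d = 0 := coeff_eq_zero_of_natDegree_lt (by omega)
    have hx' : ∀ t : k, (C t * (X ^ p * G)).coeff d = 0 := fun t => coeff_eq_zero_of_natDegree_lt (hxG t)
    simp only [F', coeff_add, coeff_smul, hG', hx', smul_eq_mul, mul_zero, add_zero, zero_add] at hc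
    have hb : b = 1 := mul_right_cancel₀ (show F.coeff d ≠ 0 by rw [← hFd]; exact leadingCoeff_ne_zero.mpr hF0)
      (by rw [one_mul]; exact hc.symm)
    subst hb
    have h2 : C (t₁ - t₂) * (X ^ p * G) = a • G := by
      simp only [F', one_smul] at hab
      rw [map_sub]
      linear_combination hab
    by_contra hne
    have h3 := congrArg natDegree h2
    rw [natDegree_C_mul (sub_ne_zero.mpr hne), natDegree_mul (pow_ne_zero _ X_ne_zero) hG0, natDegree_X_pow] at h3
    have := natDegree_smul_le a G
    have := (Fact.out : p.Prime).pos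
    omega
  refine ⟨⟨⟨?_, ?_, ⟨F' t, (hmemV' t _).mpr ⟨0, 1, by simp⟩, hF'd t⟩, fun a => ?_⟩, ?_, fun i => ⟨?_, ?_⟩⟩,
    ⟨G, (hmemV' t _).mpr ⟨1, 0, by simp⟩, hG0, hGE⟩, ?_⟩
  · rw [Submodule.span_le]
    rintro _ ⟨j, rfl⟩
    rw [SetLike.mem_coe, mem_degreeLE, ← natDegree_le_iff_degree_le]
    fin_cases j
    · exact le_of_le_of_eq (le_of_eq rfl) rfl |>.trans (show G.natDegree ≤ d by omega)
    · exact (hF'd t).le
  · rw [finrank_span_eq_card (hind' t)]; rfl
  · obtain ⟨x, hx, hxa⟩ := hbpf a
    obtain ⟨α, β, rfl⟩ := Groth.Agent.H23ThreePts.exists_eq_comb hfin hG hF hind hx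
    by_contra h
    push Not at h
    have e1 := h G ((hmemV' t _).mpr ⟨1, 0, by simp⟩)
    have e2 := h (F' t) ((hmemV' t _).mpr ⟨0, 1, by simp⟩)
    simp only [F', eval_add, eval_mul, e1, mul_zero, add_zero] at e2
    exact hxa (by simp [e1, e2])
  · refine ⟨G, (hmemV' t _).mpr ⟨1, 0, by simp⟩, F' t, (hmemV' t _).mpr ⟨0, 1, by simp⟩, fun h => hW ?_⟩
    obtain ⟨a, b, rfl⟩ := Groth.Agent.H23ThreePts.exists_eq_comb hfin hG hF hind hA
    obtain ⟨c, e', rfl⟩ := Groth.Agent.H23ThreePts.exists_eq_comb hfin hG hF hind hB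
    have e1 : wronskian G (F' t) = wronskian G F := by
      simp only [F', wronskian, derivative_add, derivative_C_mul, derivative_mul, derivative_X_pow, derivative_C,
        CharP.cast_eq_zero, map_zero, zero_mul, zero_add]
      ring
    rw [Groth.Agent.H23ThreePts.wronskian_comb, ← e1, h, mul_zero]
  · obtain ⟨s, hs, hs0, hse⟩ := (hram i).1
    obtain ⟨a, b, rfl⟩ := Groth.Agent.H23ThreePts.exists_eq_comb hfin hG hF hind hs
    have hne : (a - b * t * P i ^ p) • G + b • F' t ≠ 0 := fun h0 => by
      obtain ⟨h1, rfl⟩ := LinearIndependent.pair_iff.mp (hind' t) _ _ h0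
      exact hs0 (by simp at h1; simp [h1])
    refine ⟨_, (hmemV' t _).mpr ⟨_, _, rfl⟩, hne, (le_rootMultiplicity_iff hne).mpr ?_⟩
    rw [hmult t i (e i) (hlt i).le, sub_add_cancel]
    exact (le_rootMultiplicity_iff hs0).mp hse
  · intro s hs hs0
    by_contra hlt'
    push Not at hlt'
    obtain ⟨a, b, rfl⟩ := (hmemV' t _).mp hs
    have h1 := (le_rootMultiplicity_iff hs0).mp (show e i + 1 ≤ rootMultiplicity (P i) (a • G + b • F' t) from hlt')
    rw [hmult t i (e i + 1) (hlt i)] at h1
    have hne : (a + b * t * P i ^ p) • G + b • F ≠ 0 := fun h0 => by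
      obtain ⟨h2, rfl⟩ := LinearIndependent.pair_iff.mp hind _ _ h0
      exact hs0 (by simp at h2; simp [h2])
    have h3 := (hram i).2 _ (add_mem (V.smul_mem _ hG) (V.smul_mem _ hF)) hne
    have h4 := (le_rootMultiplicity_iff hne).mpr h1
    omega
  · intro s hs hs0
    obtain ⟨a, b, rfl⟩ := (hmemV' t _).mp hs
    by_cases hb : b = 0
    · subst hb
      rw [zero_smul, add_zero] at hs0 ⊢
      exact hlow _ (V.smul_mem a hG) hs0
    · rw [hdegb t a b hb]
      omega

end Groth.Agent.S13920
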