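import Groth.Statements.S13926
import Mathlib.LinearAlgebra.FiniteDimensional.Lemmas
import Mathlib.Tactic

set_option autoImplicit false
universe u v w
open W4c1limliniiii

namespace Groth.Agent.S13926

/-- Let k be a field, E₁ and E₂ finite-dimensional vector spaces over k of the same dimension, f : E₁ →
E₂ and g : E₂ → E₁ linear maps whose composite g ∘ f is multiplication by a scalar s, and V₁ a
subspace of E₁. Then there is a subspace V₂ of E₂ of the same dimension as V₁ with f(V₁) ≤ V₂ and
g(V₂) ≤ V₁. (The published statement is the surjectivity of the truncation morphisms of a linked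
Grassmannian, with a further assertion on lifting families; this row is the lifting step over a
field — over a point the chain of linked subspaces V_1, …, V_{n'} extends one index at a time — and
assumes only g ∘ f = s.) -/
theorem result (k : Type u) [Field k]
    (E₁ : Type v) (E₂ : Type w) [AddCommGroup E₁] [Module k E₁] [FiniteDimensional k E₁]
    [AddCommGroup E₂] [Module k E₂] [FiniteDimensional k E₂]
    (hdim : Module.finrank k E₁ = Module.finrank k E₂)
    (f : E₁ →ₗ[k] E₂) (g : E₂ →ₗ[k] E₁) (s : k) (hgf : g.comp f = s • LinearMap.id)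
    (V₁ : Submodule k E₁) :
    ∃ V₂ : Submodule k E₂, Module.finrank k V₂ = Module.finrank k V₁ ∧
      Submodule.map f V₁ ≤ V₂ ∧ Submodule.map g V₂ ≤ V₁ := by
  have h1 : Submodule.map f V₁ ≤ Submodule.comap g V₁ := by
    rintro _ ⟨v, hv, rfl⟩
    have : g (f v) = s • v := by simpa using LinearMap.congr_fun hgf v
    rw [Submodule.mem_comap, this]; exact V₁.smul_mem s hv
  have hle : Module.finrank k ↥(Submodule.map f V₁) ≤ Module.finrank k V₁ := Submodule.finrank_map_le f V₁
  have hge : Module.finrank k V₁ ≤ Module.finrank k ↥(Submodule.comap g V₁) := by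
    have hq : Module.finrank k (E₂ ⧸ Submodule.comap g V₁) ≤ Module.finrank k (E₁ ⧸ V₁) :=
      LinearMap.finrank_le_finrank_of_injective (f := Submodule.mapQ _ V₁ g le_rfl) (by
        rw [← LinearMap.ker_eq_bot, Submodule.ker_mapQ, Submodule.mkQ_map_self])
    have a1 := Submodule.finrank_quotient_add_finrank (Submodule.comap g V₁)
    have a2 := Submodule.finrank_quotient_add_finrank V₁
    omega
  obtain ⟨W, hW1, hW2, hW3⟩ : ∃ W : Submodule k E₂, Submodule.map f V₁ ≤ W ∧ W ≤ Submodule.comap g V₁ ∧ Module.finrank k W = Module.finrank k V₁ := by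
    obtain ⟨d, hd⟩ := Nat.exists_eq_add_of_le hle
    rw [hd] at hge
    rw [hd]; clear hd
    induction d with
    | zero => exact ⟨_, le_rfl, h1, by simp⟩
    | succ d ihd =>
      obtain ⟨W, w1, w2, w3⟩ := ihd (le_trans (Nat.le_succ _) hge)
      have hne : W ≠ Submodule.comap g V₁ := fun he => by rw [← he, w3] at hge; omega
      obtain ⟨x, hx, hxW⟩ := SetLike.exists_of_lt (lt_of_le_of_ne w2 hne)
      refine ⟨W ⊔ Submodule.span k {x}, le_trans w1 le_sup_left, sup_le w2 ((Submodule.span_singleton_le_iff_mem _ _).mpr hx), ?_⟩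
      have hx0 : x ≠ 0 := fun h => hxW (h ▸ W.zero_mem)
      have hdisj : W ⊓ Submodule.span k {x} = ⊥ := disjoint_iff.mp ((Submodule.disjoint_span_singleton' hx0).mpr hxW)
      have := Submodule.finrank_sup_add_finrank_inf_eq W (Submodule.span k {x})
      rw [hdisj, finrank_bot, finrank_span_singleton hx0, w3] at this
      omega
  exact ⟨W, hW3, hW1, Submodule.map_le_iff_le_comap.mpr hW2⟩

end Groth.Agent.S13926
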