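-- statement FlatMor.GrothFrozen.S1393 (Groth/Statements/S1393.lean; the theorem FlatMor.finite_free_near_point_of_flat_and_fibrewise_flat);
import Groth.Statements.S1393
import Groth.Agent.H8Props.FreeLocus.Fibrewise

set_option autoImplicit false
universe u
open FlatMor

namespace Groth.Agent.S1393
set_option backward.isDefEq.respectTransparency false

open AlgebraicGeometry CategoryTheory Limits in
/-- Let f : X → S be of finite presentation, F a finitely presented quasi-coherent O_X-module and x a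
point with image s. If F is flat over S at x and the stalk at x of the restriction of F to the
fibre, namely F_x / m_s F_x, is flat over the local ring of the fibre at x, namely O_{X,x} / m_s
O_{X,x}, then F is free of finite rank on some open neighbourhood of x. -/
theorem result {X S : Scheme.{u}} (f : X ⟶ S) [LocallyOfFinitePresentation f] [QuasiCompact f] [QuasiSeparated f]
    (F : X.Modules) (hFq : Coh.IsQCoh F) (hFp : CohB1.IsFP F) (x : X) (h1 : FlatMod.IsFlatOverAt f F x)
    (h2 : Module.Flat (↑(X.presheaf.stalk x) ⧸ Ideal.map (f.stalkMap x).hom (IsLocalRing.maximalIdeal ↑(S.presheaf.stalk (f x))))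
      (↑(F.presheaf.stalk x) ⧸ (Ideal.map (f.stalkMap x).hom (IsLocalRing.maximalIdeal ↑(S.presheaf.stalk (f x))) • (⊤ : Submodule ↑(X.presheaf.stalk x) ↑(F.presheaf.stalk x))))) :
    ∃ (U : X.Opens) (n : ℕ), x ∈ U ∧ Nonempty (F.restrict U.ι ≅ FlatMod.freeMod (↑U) n) := by
  letI := FlatMod.moduleStalkOver f F x
  letI : Algebra (S.presheaf.stalk (f x)) (X.presheaf.stalk x) := (f.stalkMap x).hom.toAlgebra
  haveI : IsScalarTower (S.presheaf.stalk (f x)) (X.presheaf.stalk x) (F.presheaf.stalk x) :=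
    .of_algebraMap_smul fun _ _ => rfl
  haveI := H8Props.FreeLocus.finitePresentation_stalk F hFp x
  haveI : Module.Flat (S.presheaf.stalk (f x)) (F.presheaf.stalk x) := h1
  set I := IsLocalRing.maximalIdeal (S.presheaf.stalk (f x))
  let J := Ideal.map (f.stalkMap x).hom I
  have hJ : J ≤ IsLocalRing.maximalIdeal (X.presheaf.stalk x) := Ideal.map_le_iff_le_comap.2 fun a ha =>
    (IsLocalRing.mem_maximalIdeal _).2 (map_nonunit (f.stalkMap x).hom a ((IsLocalRing.mem_maximalIdeal _).1 ha))
  haveI : Nontrivial (↑(X.presheaf.stalk x) ⧸ J) := Ideal.Quotient.nontrivial_iff.2 (ne_top_of_le_ne_top Ideal.IsPrime.ne_top' hJ)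
  haveI : IsLocalRing (↑(X.presheaf.stalk x) ⧸ J) :=
    IsLocalRing.of_surjective' (Ideal.Quotient.mk J) Ideal.Quotient.mk_surjective
  haveI : Module.Flat (↑(X.presheaf.stalk x) ⧸ J)
      (↑(F.presheaf.stalk x) ⧸ (J • (⊤ : Submodule ↑(X.presheaf.stalk x) ↑(F.presheaf.stalk x)))) := h2
  haveI : Module.Finite (↑(X.presheaf.stalk x) ⧸ J)
      (↑(F.presheaf.stalk x) ⧸ (J • (⊤ : Submodule ↑(X.presheaf.stalk x) ↑(F.presheaf.stalk x)))) :=
    Module.Finite.of_restrictScalars_finite ↑(X.presheaf.stalk x) _ _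
  haveI : Module.Free (↑(X.presheaf.stalk x) ⧸ J)
      (↑(F.presheaf.stalk x) ⧸ (J • (⊤ : Submodule ↑(X.presheaf.stalk x) ↑(F.presheaf.stalk x)))) :=
    Module.free_of_flat_of_isLocalRing
  let b := Module.finBasis (↑(X.presheaf.stalk x) ⧸ J)
    (↑(F.presheaf.stalk x) ⧸ (J • (⊤ : Submodule ↑(X.presheaf.stalk x) ↑(F.presheaf.stalk x))))
  choose v hv using fun j => Submodule.Quotient.mk_surjective _ (b j)
  have hsub : ∀ n, n ∈ (J • (⊤ : Submodule ↑(X.presheaf.stalk x) ↑(F.presheaf.stalk x))) ↔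
      n ∈ I • (⊤ : Submodule ↑(S.presheaf.stalk (f x)) ↑(F.presheaf.stalk x)) := fun n => by
    rw [← Submodule.restrictScalars_mem (S.presheaf.stalk (f x)),
      show J = I.map (algebraMap (S.presheaf.stalk (f x)) (X.presheaf.stalk x)) from rfl,
      Ideal.smul_restrictScalars, Submodule.restrictScalars_top]
  have hq : ∀ c : Fin _ → X.presheaf.stalk x,
      (Submodule.Quotient.mk (∑ j, c j • v j) :
        ↑(F.presheaf.stalk x) ⧸ (J • (⊤ : Submodule ↑(X.presheaf.stalk x) ↑(F.presheaf.stalk x)))) =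
      ∑ j, Ideal.Quotient.mk J (c j) • b j := fun c => by
    rw [← Submodule.mkQ_apply, map_sum]
    refine Finset.sum_congr rfl fun j _ => ?_
    rw [map_smul, Submodule.mkQ_apply, hv]
    rfl
  have hB := H8Props.FreeLocus.nonempty_basis (R := X.presheaf.stalk x) I hJ v (fun n => ?_) (fun c hc j => ?_)
  · obtain ⟨U, hU, hiso⟩ := H8Props.FunDescent.isFreeOfRankNear_of_stalkFree_of_isFP F hFp hB
    exact ⟨U, _, hU, hiso⟩
  · choose c hc using fun j => Ideal.Quotient.mk_surjective (b.repr (Submodule.Quotient.mk n) j)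
    refine ⟨c, (hsub _).1 ((Submodule.Quotient.mk_eq_zero _).1 ?_)⟩
    rw [Submodule.Quotient.mk_sub, hq, Finset.sum_congr rfl fun j _ => by rw [hc j], b.sum_repr, sub_self]
  · have h0 := (Submodule.Quotient.mk_eq_zero _).2 ((hsub _).2 hc)
    rw [hq] at h0
    exact Ideal.Quotient.eq_zero_iff_mem.1 (Fintype.linearIndependent_iff.1 b.linearIndependent _ h0 j)

end Groth.Agent.S1393
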