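import Groth.Statements.S13931
import Groth.Agent.H7LGr.Locus
-- import your own Groth.Agent.* helpers here

set_option autoImplicit false
universe u
open W4c1limliniiii

namespace Groth.Agent.S13931

open AlgebraicGeometry CategoryTheory in
/-- Let k be a field, 0 < r < d, and f_i, g_i (i < n) linear maps forward and backward between the i-th
and (i+1)-st of n + 1 copies of k^d forming a linked Grassmannian over Spec k (one scalar s with
every f_i ∘ g_i and g_i ∘ f_i equal to multiplication by s; rank f_i + rank g_i ≥ d; for consecutive
indices im f_i ∩ ker f_{i+1} = 0 and im g_{i+1} ∩ ker g_i = 0), and let the k-scheme X represent the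
linked Grassmannian functor of rank-r sub-bundles (natural bijections between k-morphisms Spec A → X
and linked tuples of submodules of A^d with locally free quotients of rank d − r). Call a k-rational
point exact when its tuple (V_i) satisfies ker g_i ∩ V_{i+1} ⊆ f_i(V_i) and ker f_i ∩ V_i ⊆
g_i(V_{i+1}) for all i. Assume k algebraically closed. Then there is a dense open subset U of the
underlying space of X whose k-rational points are exactly the exact ones: the exact points form an
open subscheme of the linked Grassmannian which is dense in it. (Stated through rational points over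
an algebraically closed field; the published statement gives openness over any base and density in
every fibre.) -/
theorem result (k : Type u) [Field k] [IsAlgClosed k]
    (d r n : ℕ) (hr : 0 < r) (hrd : r < d) (f g : Fin n → ((Fin d → k) →ₗ[k] (Fin d → k)))
    (s : k) (hI : ∀ i, (f i).comp (g i) = s • LinearMap.id ∧ (g i).comp (f i) = s • LinearMap.id)
    (hII : ∀ i, d ≤ Module.finrank k (LinearMap.range (f i)) + Module.finrank k (LinearMap.range (g i)))
    (hIII : ∀ i j : Fin n, i.val + 1 = j.val →
      LinearMap.range (f i) ⊓ LinearMap.ker (f j) = ⊥ ∧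
        LinearMap.range (g j) ⊓ LinearMap.ker (g i) = ⊥)
    (X : Over (Spec (CommRingCat.of k)))
    (e : ∀ A : CommAlgCat.{u} k,
      (Over.mk (Spec.map (CommRingCat.ofHom (algebraMap k A))) ⟶ X) ≃
        W4c1limliniiii.LGPoints k d r n f g A)
    (he : ∀ (A B : CommAlgCat.{u} k) (φ : A ⟶ B)
      (x : Over.mk (Spec.map (CommRingCat.ofHom (algebraMap k A))) ⟶ X)
      (x' : Over.mk (Spec.map (CommRingCat.ofHom (algebraMap k B))) ⟶ X),
      x'.left = Spec.map (CommRingCat.ofHom φ.hom.toRingHom) ≫ x.left →
        ∀ i, (e B x').1 i = Module.Grassmannian.map φ.hom ((e A x).1 i)) :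
    ∃ U : Set ↥X.left, IsOpen U ∧ Dense U ∧
      ∀ x : Over.mk (Spec.map (CommRingCat.ofHom (algebraMap k (CommAlgCat.of k k)))) ⟶ X,
        (Set.range x.left.base ⊆ U ↔
          W4c1limliniiii.IsExact k d r n f g (CommAlgCat.of k k) (e (CommAlgCat.of k k) x).1) := by
  have hT := Groth.Agent.H7LGr.transversal_of_field hI hII hIII
  refine ⟨Groth.Agent.H7LGr.exactSet hrd.le e, Groth.Agent.H7LGr.isOpen_exactSet hrd.le he,
    Groth.Agent.H7LGr.dense_exactSet hrd.le he hI hT, fun x => ?_⟩
  rw [Groth.Agent.H7LGr.range_eq_ptOf (R := k) (K := k) x, Set.singleton_subset_iff]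
  exact Groth.Agent.H7LGr.ptOf_mem_exactSet_iff hrd.le he hI hT x

end Groth.Agent.S13931
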