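import Groth.Statements.S13933
import Groth.Agent.H7LGr.Irreducible
-- import your own Groth.Agent.* helpers here

set_option autoImplicit false
universe u
open W4c1limliniiii

namespace Groth.Agent.S13933

open AlgebraicGeometry CategoryTheory TensorProduct in
/-- Let R be a Cohen–Macaulay integral domain, 0 < r < d, and for i < n let f_i, g_i be R-linear maps
forward and backward between the i-th and (i+1)-st of n + 1 copies of R^d forming a linked
Grassmannian: there is one s ∈ R with every f_i ∘ g_i and g_i ∘ f_i equal to multiplication by s,
and at every prime P of R, after base change to the residue field κ(P), rank f_i + rank g_i ≥ d for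
each i and, for consecutive indices, the image of f_i meets the kernel of f_{i+1} only in 0 and the
image of g_{i+1} meets the kernel of g_i only in 0. Suppose the scheme X over Spec R represents the
linked Grassmannian functor of rank-r sub-bundles (bijections, compatible with base change on each
Grassmannian component, between Spec R-morphisms Spec A → X and tuples of submodules of A^d with
locally free quotients of rank d − r carried into one another by the f_i and g_i). Then every
irreducible component of the underlying space of X maps onto Spec R, and if s ≠ 0 then X is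
irreducible. (The published statement is over an integral Cohen–Macaulay base scheme with vector
bundles and also gives the codimension (n − 1) r (d − r) of every component inside the product of
Grassmannians; this row takes the base affine and the bundles trivial and does not restate the
codimension.) -/
theorem result (R : Type u)
    [CommRing R] [IsDomain R] [LocCoh.IsCohenMacaulayRing R]
    (d r n : ℕ) (hr : 0 < r) (hrd : r < d) (f g : Fin n → ((Fin d → R) →ₗ[R] (Fin d → R)))
    (s : R) (hI : ∀ i, (f i).comp (g i) = s • LinearMap.id ∧ (g i).comp (f i) = s • LinearMap.id)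
    (hII : ∀ (P : Ideal R) [P.IsPrime], ∀ i,
      d ≤ Module.finrank P.ResidueField (LinearMap.range ((f i).baseChange P.ResidueField)) +
        Module.finrank P.ResidueField (LinearMap.range ((g i).baseChange P.ResidueField)))
    (hIII : ∀ (P : Ideal R) [P.IsPrime], ∀ i j : Fin n, i.val + 1 = j.val →
      LinearMap.range ((f i).baseChange P.ResidueField) ⊓
          LinearMap.ker ((f j).baseChange P.ResidueField) = ⊥ ∧
        LinearMap.range ((g j).baseChange P.ResidueField) ⊓
          LinearMap.ker ((g i).baseChange P.ResidueField) = ⊥)
    (X : Over (Spec (CommRingCat.of R)))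
    (e : ∀ A : CommAlgCat.{u} R,
      (Over.mk (Spec.map (CommRingCat.ofHom (algebraMap R A))) ⟶ X) ≃
        W4c1limliniiii.LGPoints R d r n f g A)
    (he : ∀ (A B : CommAlgCat.{u} R) (φ : A ⟶ B)
      (x : Over.mk (Spec.map (CommRingCat.ofHom (algebraMap R A))) ⟶ X)
      (x' : Over.mk (Spec.map (CommRingCat.ofHom (algebraMap R B))) ⟶ X),
      x'.left = Spec.map (CommRingCat.ofHom φ.hom.toRingHom) ≫ x.left →
        ∀ i, (e B x').1 i = Module.Grassmannian.map φ.hom ((e A x).1 i)) :
    (∀ Z ∈ irreducibleComponents ↥X.left, X.hom.base '' Z = Set.univ) ∧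
      (s ≠ 0 → IrreducibleSpace ↥X.left) := by
  have hT := Groth.Agent.H7LGr.transversal_of_residueField hI hII hIII
  have hdom : ∀ η : X.left, (∀ y : X.left, y ⤳ η → y = η) →
      (X.hom η : PrimeSpectrum R).asIdeal = ⊥ := fun η hη => by
    obtain ⟨q, x₀, hx₀, hdomB, P, hP, rfl, -⟩ :=
      Groth.Agent.H7LGr.genericPoint_component hrd.le he hI hT hη
    have hpt : (X.hom (x₀.left P) : PrimeSpectrum R) =
        PrimeSpectrum.comap (algebraMap R (Groth.Agent.H7LGr.chartRing hrd.le f g q)) P :=
      congrArg (fun m : Spec (CommRingCat.of (Groth.Agent.H7LGr.chartRing hrd.le f g q)) ⟶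
        Spec (CommRingCat.of R) => (m P : PrimeSpectrum R)) (Over.w x₀)
    rw [hpt, PrimeSpectrum.comap_asIdeal, hP]
    refine (RingHom.injective_iff_ker_eq_bot _).1 ?_
    have hD : Groth.Agent.H7LGr.univD hrd.le f g q ≠ 0 := fun h0 => by
      have hu := IsLocalization.Away.algebraMap_isUnit
        (S := Localization.Away (Groth.Agent.H7LGr.univD hrd.le f g q))
        (Groth.Agent.H7LGr.univD hrd.le f g q)
      refine P.isPrime.ne_top (Ideal.eq_top_of_isUnit_mem _ ?_ hu)
      have e0 := congrArg (algebraMap _ (Localization.Away (Groth.Agent.H7LGr.univD hrd.le f g q))) h0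
      rw [map_zero] at e0
      exact e0.symm ▸ P.asIdeal.zero_mem
    show Function.Injective (algebraMap R (Localization.Away (Groth.Agent.H7LGr.univD hrd.le f g q)))
    rw [IsScalarTower.algebraMap_eq R (MvPolynomial (Fin r × Fin (d - r)) R)]
    exact (IsLocalization.injective (Localization.Away (Groth.Agent.H7LGr.univD hrd.le f g q))
      (M := Submonoid.powers (Groth.Agent.H7LGr.univD hrd.le f g q))
      (powers_le_nonZeroDivisors_of_noZeroDivisors hD)).comp (MvPolynomial.C_injective _ _)
  refine ⟨fun Z hZ => ?_, fun hs => ?_⟩
  · obtain ⟨η, rfl, hη⟩ := Groth.Agent.H7LGr.exists_maximal_genericPoint hZ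
    haveI := Groth.Agent.H7LGr.isProper_rep he
    refine Set.eq_univ_iff_forall.2 fun p => ?_
    have hsp : X.hom η ⤳ p := (PrimeSpectrum.le_iff_specializes (X.hom η : PrimeSpectrum R) p).1 (by
      show (X.hom η : PrimeSpectrum R).asIdeal ≤ _
      rw [hdom η hη]
      exact bot_le)
    exact hsp.mem_closed (X.hom.isClosedMap _ isClosed_closure) ⟨η, subset_closure rfl, rfl⟩
  · haveI := Groth.Agent.H7LGr.nonempty_of_ne_zero (e := e) hI hrd.le hs
    obtain ⟨η₀, -, hη₀⟩ := Groth.Agent.H7LGr.exists_maximal_genericPoint
      (irreducibleComponent_mem_irreducibleComponents (Classical.arbitrary X.left))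
    refine { isPreirreducible_univ := ?_, toNonempty := inferInstance }
    have huniv : closure ({η₀} : Set X.left) = Set.univ := Set.eq_univ_iff_forall.2 fun z => by
      obtain ⟨η, hz, hη⟩ := Groth.Agent.H7LGr.exists_maximal_genericPoint
        (irreducibleComponent_mem_irreducibleComponents z)
      obtain rfl : η = η₀ := Groth.Agent.H7LGr.eq_of_maximal he hI hrd.le hs hη hη₀
        (hdom η hη) (hdom η₀ hη₀)
      rw [hz]
      exact mem_irreducibleComponent
    exact huniv ▸ (isIrreducible_singleton.closure).isPreirreducible

end Groth.Agent.S13933
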