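import Groth.Statements.S13934
import Groth.Agent.H25RankTwo

set_option autoImplicit false
universe u
open CategoryTheory CategoryTheory.Limits AlgebraicGeometry
open W4c1limliniiii

namespace Groth.Agent.S13934

open Groth.Agent

/-- On a smooth proper integral curve over an algebraically closed field (any characteristic), let 0 → L
→ E → M → 0 be a short exact sequence of O_X-modules with E finite locally free of rank 2 and degree
0, L and M invertible and deg L > 0 (so M is det E ⊗ L⁻¹). Then: every invertible sheaf N admitting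
a non-zero map N → E has deg N ≤ deg L, so L is the line bundle of maximal degree in E; every
invertible subsheaf N of E of positive degree with invertible quotient E/N coincides with L (some
isomorphism N ≅ L commutes with the inclusions); and E is not an extension of two invertible sheaves
of degree 0. Degrees are χ(−) minus rank times χ(O_X). (The published lemma is stated on a curve of
genus 2 in characteristic p; its argument uses neither, and this row assumes neither.) -/
theorem result (k : Type u) [Field k] [IsAlgClosed k] (X : Scheme.{u}) [X.Over (Spec (CommRingCat.of k))]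
    [IsIntegral X] [IsProper (X ↘ Spec (CommRingCat.of k))] [Smooth (X ↘ Spec (CommRingCat.of k))]
    (hdim : topologicalKrullDim X = 1)
    (S : ShortComplex X.Modules) (hS : S.ShortExact)
    (hE : FlatMod.IsFinLocFreeOfRank 2 S.X₂) (hE0 : Curv2.deg k X S.X₂ 2 = 0)
    (hL : PicF.IsInvertible S.X₁) (hM : PicF.IsInvertible S.X₃) (hpos : 0 < Curv2.deg k X S.X₁ 1) :
    (∀ (N : X.Modules), PicF.IsInvertible N → ∀ j : N ⟶ S.X₂, j ≠ 0 →
        Curv2.deg k X N 1 ≤ Curv2.deg k X S.X₁ 1) ∧
    (∀ (N : X.Modules), PicF.IsInvertible N → ∀ (j : N ⟶ S.X₂), Mono j →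
        PicF.IsInvertible (cokernel j) → 0 < Curv2.deg k X N 1 → ∃ φ : N ≅ S.X₁, φ.hom ≫ S.f = j) ∧
    (∀ (N N' : X.Modules), PicF.IsInvertible N → PicF.IsInvertible N' →
        Curv2.deg k X N 1 = 0 → Curv2.deg k X N' 1 = 0 →
        ∀ (a : N ⟶ S.X₂) (b : S.X₂ ⟶ N') (w : a ≫ b = 0), ¬ (ShortComplex.mk a b w).ShortExact) := by
  haveI : IsLocallyNoetherian X := LocallyOfFiniteType.isLocallyNoetherian (X ↘ Spec (CommRingCat.of k))
  haveI := hS.mono_f
  have hadd := H25RankTwo.deg_add k hS hL hE hM
  have hM0 : Curv2.deg k X S.X₃ 1 < 0 := by omega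
  have hle := fun {N P : X.Modules} (hN : PicF.IsInvertible N) (hP : PicF.IsInvertible P) (φ : N ⟶ P) (hφ : φ ≠ 0) =>
    H25RankTwo.deg_le k hdim.le hN hP φ hφ
  have lift : ∀ (N : X.Modules) (j : N ⟶ S.X₂), j ≫ S.g = 0 → ∃ φ : N ⟶ S.X₁, φ ≫ S.f = j :=
    fun N j h => ⟨hS.exact.lift j h, hS.exact.lift_f j h⟩
  refine ⟨fun N hN j hj => ?_, fun N hN j hj hc hpos' => ?_, fun N N' hN hN' h0 h0' a b w hab => ?_⟩
  · by_cases hg : j ≫ S.g = 0
    · obtain ⟨φ, rfl⟩ := lift N j hg
      exact hle hN hL φ fun h => hj (by rw [h, zero_comp])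
    · have := hle hN hM _ hg
      omega
  · have hg : j ≫ S.g = 0 := by
      by_contra hg
      have := hle hN hM _ hg
      omega
    obtain ⟨φ, hφ⟩ := lift N j hg
    haveI := hj
    have hjne : j ≠ 0 := fun h => by
      have hN0 : Curv2.deg k X N 1 ≤ 0 := by
        have := (cancel_mono j).1 (show 𝟙 N ≫ j = 0 ≫ j by rw [h]; simp)
        have hz : IsZero N := (IsZero.iff_id_eq_zero N).2 this
        obtain ⟨hf, hfin, hr⟩ := H25Par.finrank_stalk (H25RankTwo.rankOne hN) (genericPoint X)
        haveI : Subsingleton ((DerSch.stalkFunctor X (genericPoint X)).obj N) :=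
          ModuleCat.isZero_iff_subsingleton.1 ((DerSch.stalkFunctor X (genericPoint X)).map_isZero hz)
        haveI : Subsingleton (N.presheaf.stalk (genericPoint X)) :=
          inferInstanceAs (Subsingleton ((DerSch.stalkFunctor X (genericPoint X)).obj N))
        rw [Module.finrank_zero_of_subsingleton] at hr
        omega
      omega
    have hf0 : S.f ≫ cokernel.π j = 0 := by
      refine (H25RankTwo.eq_zero_or_mono hL hc (S.f ≫ cokernel.π j)).resolve_right fun hm => ?_
      haveI := hm
      have : φ ≫ S.f ≫ cokernel.π j = 0 := by rw [reassoc_of% hφ, cokernel.condition]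
      have hφ0 : φ = 0 := zero_of_comp_mono _ this
      exact hjne (by rw [← hφ, hφ0, zero_comp])
    have hjex : (ShortComplex.mk j (cokernel.π j) (cokernel.condition j)).Exact := ShortComplex.exact_cokernel j
    let ψ : S.X₁ ⟶ N := hjex.lift S.f hf0
    have hψ : ψ ≫ j = S.f := hjex.lift_f S.f hf0
    refine ⟨⟨φ, ψ, ?_, ?_⟩, hφ⟩
    · rw [← cancel_mono j, Category.assoc, hψ, hφ, Category.id_comp]
    · rw [← cancel_mono S.f, Category.assoc, hφ, hψ, Category.id_comp]
  · haveI := hab.mono_f
    have hb : S.f ≫ b = 0 := by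
      by_contra hb
      have := hle hL hN' _ hb
      omega
    have hψ : hab.exact.lift S.f hb ≫ a = S.f := hab.exact.lift_f S.f hb
    by_cases h1 : hab.exact.lift S.f hb = 0
    · rw [h1, zero_comp] at hψ
      have hz : IsZero S.X₁ := (IsZero.iff_id_eq_zero _).2
        ((cancel_mono S.f).1 (show 𝟙 S.X₁ ≫ S.f = 0 ≫ S.f by rw [← hψ]; simp))
      obtain ⟨hf, hfin, hr⟩ := H25Par.finrank_stalk (H25RankTwo.rankOne hL) (genericPoint X)
      haveI : Subsingleton ((DerSch.stalkFunctor X (genericPoint X)).obj S.X₁) :=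
        ModuleCat.isZero_iff_subsingleton.1 ((DerSch.stalkFunctor X (genericPoint X)).map_isZero hz)
      haveI : Subsingleton (S.X₁.presheaf.stalk (genericPoint X)) :=
        inferInstanceAs (Subsingleton ((DerSch.stalkFunctor X (genericPoint X)).obj S.X₁))
      rw [Module.finrank_zero_of_subsingleton] at hr
      omega
    · have := hle hL hN _ h1
      omega

end Groth.Agent.S13934
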