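import Groth.Statements.S13936

set_option autoImplicit false
universe u
open W4c1limliniiii

namespace Groth.Agent.S13936

open scoped TensorProduct

section
variable {R SX : Type u} [CommRing R] [CommRing SX] [Algebra R SX] (σ : SX →ₐ[R] R)

noncomputable def ev : SX ⊗[R] SX →ₐ[R] SX :=
  Algebra.TensorProduct.lift ((Algebra.ofId R SX).comp σ) (AlgHom.id R SX) (fun _ _ => Commute.all _ _)

theorem ev_tmul (x y : SX) : ev σ (x ⊗ₜ y) = algebraMap R SX (σ x) * y := by
  simp [ev, Algebra.TensorProduct.lift_tmul]

theorem ev_surjective : Function.Surjective (ev σ) := fun y => ⟨1 ⊗ₜ y, by simp [ev_tmul]⟩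

theorem ker_ev_le : RingHom.ker (ev σ) ≤
    (RingHom.ker σ.toRingHom).map (Algebra.TensorProduct.includeLeft : SX →ₐ[R] SX ⊗[R] SX) := by
  intro u hu
  have key : ∀ u : SX ⊗[R] SX, u - (1 ⊗ₜ ev σ u) ∈
      (RingHom.ker σ.toRingHom).map (Algebra.TensorProduct.includeLeft : SX →ₐ[R] SX ⊗[R] SX) := by
    intro u
    induction u using TensorProduct.induction_on with
    | zero => simp
    | tmul x y =>
      have e : x ⊗ₜ[R] y - 1 ⊗ₜ[R] ev σ (x ⊗ₜ y) =
          ((x - algebraMap R SX (σ x)) ⊗ₜ[R] (1 : SX)) * ((1 : SX) ⊗ₜ[R] y) := by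
        rw [Algebra.TensorProduct.tmul_mul_tmul, mul_one, one_mul, TensorProduct.sub_tmul, ev_tmul,
          Algebra.algebraMap_eq_smul_one, smul_mul_assoc, one_mul, TensorProduct.tmul_smul, TensorProduct.smul_tmul']
      rw [e]
      refine Ideal.mul_mem_right _ _ (Ideal.mem_map_of_mem _ ?_)
      simp [RingHom.mem_ker]
    | add a b ha hb =>
      have : a + b - 1 ⊗ₜ[R] ev σ (a + b) = (a - 1 ⊗ₜ[R] ev σ a) + (b - 1 ⊗ₜ[R] ev σ b) := by
        rw [map_add, TensorProduct.tmul_add]; abel
      rw [this]
      exact add_mem ha hb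
  have := key u
  rwa [RingHom.mem_ker.mp hu, TensorProduct.tmul_zero, sub_zero] at this

theorem map_ev_ideal : (KaehlerDifferential.ideal R SX).map (ev σ) = RingHom.ker σ.toRingHom := by
  refine le_antisymm ?_ fun x hx => ?_
  · rw [← KaehlerDifferential.span_range_eq_ideal, Ideal.map_span, Ideal.span_le]
    rintro _ ⟨_, ⟨s, rfl⟩, rfl⟩
    simp [RingHom.mem_ker, map_sub, ev_tmul]
  · have := Ideal.mem_map_of_mem (ev σ) (KaehlerDifferential.one_smul_sub_smul_one_mem_ideal R x)
    simpa [map_sub, ev_tmul, show σ x = 0 from hx] using this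

theorem mem_smul_aug_iff (n : ℕ) (t : SX ⊗[R] SX) (ht : t ∈ KaehlerDifferential.ideal R SX) :
    Ideal.Quotient.mk (KaehlerDifferential.ideal R SX ^ (n + 1)) t ∈
        RingHom.ker σ.toRingHom • (PP16.augIdeal n R SX).restrictScalars SX ↔
      ev σ t ∈ RingHom.ker σ.toRingHom ^ (n + 1) := by
  let ψ : PP16.P n R SX →+* SX ⧸ RingHom.ker σ.toRingHom ^ (n + 1) :=
    Ideal.Quotient.lift _ ((Ideal.Quotient.mk _).comp (ev σ).toRingHom) fun x hx => by
      rw [RingHom.comp_apply, Ideal.Quotient.eq_zero_iff_mem, ← map_ev_ideal, ← Ideal.map_pow]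
      exact Ideal.mem_map_of_mem _ hx
  constructor
  · intro h
    rw [← Ideal.Quotient.eq_zero_iff_mem]
    show ψ (Ideal.Quotient.mk _ t) = 0
    refine Submodule.smul_induction_on h ?_ ?_
    · intro a ha y _
      obtain ⟨y, rfl⟩ := Ideal.Quotient.mk_surjective y
      rw [Algebra.smul_def, map_mul]
      have h0 : ψ (algebraMap SX (PP16.P n R SX) a) = 0 := by
        show Ideal.Quotient.mk _ (ev σ (a ⊗ₜ 1)) = 0
        rw [ev_tmul, show σ a = 0 from ha, map_zero, zero_mul]
        exact map_zero _
      rw [h0, zero_mul]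
    · intro a b ha hb
      rw [map_add, ha, hb, add_zero]
  · intro h
    rw [← map_ev_ideal, ← Ideal.map_pow, Ideal.mem_map_iff_of_surjective _ (ev_surjective σ)] at h
    obtain ⟨t', ht', htt⟩ := h
    have hu : t - t' ∈ (RingHom.ker σ.toRingHom).map (Algebra.TensorProduct.includeLeft : SX →ₐ[R] SX ⊗[R] SX) :=
      ker_ev_le σ (RingHom.mem_ker.mpr (by rw [map_sub, htt, sub_self]))
    have htm : Ideal.Quotient.mk (KaehlerDifferential.ideal R SX ^ (n + 1)) t = Ideal.Quotient.mk _ (t - t') := by
      rw [map_sub, Ideal.Quotient.eq_zero_iff_mem.mpr ht', sub_zero]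
    rw [htm]
    let μ := Algebra.TensorProduct.lmul' R (S := SX)
    have hμ : μ (t - t') = 0 := by
      rw [map_sub, RingHom.mem_ker.mp ht, RingHom.mem_ker.mp (Ideal.pow_le_self (by omega) ht'), sub_self]
    have hπ : ∀ w, w ∈ (RingHom.ker σ.toRingHom).map (Algebra.TensorProduct.includeLeft : SX →ₐ[R] SX ⊗[R] SX) →
        Ideal.Quotient.mk (KaehlerDifferential.ideal R SX ^ (n + 1)) (w - μ w ⊗ₜ 1) ∈
          RingHom.ker σ.toRingHom • (PP16.augIdeal n R SX).restrictScalars SX := by
      intro w hw
      rw [Ideal.map] at hw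
      induction hw using Submodule.span_induction with
      | mem w hw =>
        obtain ⟨a, ha, rfl⟩ := hw
        simp [μ]
      | zero => simp
      | add a b _ _ ha hb =>
        have : a + b - μ (a + b) ⊗ₜ[R] (1 : SX) = (a - μ a ⊗ₜ 1) + (b - μ b ⊗ₜ 1) := by
          rw [map_add, TensorProduct.add_tmul]; abel
        rw [this, map_add]
        exact add_mem ha hb
      | smul v w _ hw' =>
        induction v using TensorProduct.induction_on with
        | zero => simp
        | tmul x y =>
          have key : ∀ w, w ∈ (RingHom.ker σ.toRingHom).map (Algebra.TensorProduct.includeLeft : SX →ₐ[R] SX ⊗[R] SX) →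
              ∀ m ∈ KaehlerDifferential.ideal R SX, Ideal.Quotient.mk (KaehlerDifferential.ideal R SX ^ (n + 1)) (w * m) ∈
                RingHom.ker σ.toRingHom • (PP16.augIdeal n R SX).restrictScalars SX := by
            intro w hw
            rw [Ideal.map] at hw
            induction hw using Submodule.span_induction with
            | mem w hw =>
              intro m hm
              obtain ⟨a, ha, rfl⟩ := hw
              have : Ideal.Quotient.mk (KaehlerDifferential.ideal R SX ^ (n + 1)) ((Algebra.TensorProduct.includeLeft : SX →ₐ[R] SX ⊗[R] SX) a * m) =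
                  a • Ideal.Quotient.mk _ m := by rw [map_mul, Algebra.smul_def]; rfl
              rw [this]
              exact Submodule.smul_mem_smul ha (Ideal.mem_map_of_mem _ hm)
            | zero => simp
            | add a b _ _ ha hb =>
              intro m hm
              rw [add_mul, map_add]
              exact add_mem (ha m hm) (hb m hm)
            | smul r w _ hw =>
              intro m hm
              rw [smul_eq_mul, mul_comm r w, mul_assoc]
              exact hw (r * m) (Ideal.mul_mem_left _ r hm)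
          have e : (x ⊗ₜ[R] y) • w - μ ((x ⊗ₜ[R] y) • w) ⊗ₜ[R] (1 : SX) =
              ((x * y) ⊗ₜ[R] (1 : SX)) * (w - μ w ⊗ₜ 1) + w * (x ⊗ₜ[R] y - (x * y) ⊗ₜ[R] 1) := by
            have hm : μ (x ⊗ₜ[R] y * w) ⊗ₜ[R] (1 : SX) = ((x * y) ⊗ₜ[R] (1 : SX)) * (μ w ⊗ₜ[R] 1) := by
              rw [Algebra.TensorProduct.tmul_mul_tmul, map_mul, one_mul]
              simp [μ]
            rw [smul_eq_mul, hm]
            ring
          rw [e, map_add]
          refine add_mem ?_ (key w ‹_› _ ?_)
          · have h2 : ∀ (c : SX) (v : SX ⊗[R] SX), Ideal.Quotient.mk (KaehlerDifferential.ideal R SX ^ (n + 1)) ((c ⊗ₜ[R] (1 : SX)) * v) =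
                c • Ideal.Quotient.mk _ v := fun c v => by rw [map_mul, Algebra.smul_def]; rfl
            rw [h2]
            exact Submodule.smul_mem _ _ hw'
          · exact RingHom.mem_ker.mpr (by simp)
        | add a b ha hb =>
          have : (a + b) • w - μ ((a + b) • w) ⊗ₜ[R] (1 : SX) =
              (a • w - μ (a • w) ⊗ₜ 1) + (b • w - μ (b • w) ⊗ₜ 1) := by
            rw [add_smul, map_add, TensorProduct.add_tmul]; abel
          rw [this, map_add]
          exact add_mem ha hb
    have := hπ _ hu
    rwa [hμ, TensorProduct.zero_tmul, sub_zero] at this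

end

/-- Let R be a commutative ring, S_Y → S_X a homomorphism of R-algebras (an affine piece of a morphism f
: X → Y of schemes over Spec R) and σ : S_X → R an R-algebra retraction (a section of X over the
base) with kernel I. For e ≥ 1 write T^{e−1} for the augmentation ideal of the ring of principal
parts of order e − 1 (the kernel of P^{e−1} → the algebra; for e = 2 this is the module of
differentials). Then the natural map T^{e−1}(S_Y/R) → T^{e−1}(S_X/R) takes values in I ·
T^{e−1}(S_X/R) — that is, the induced map f^*T^{e−1}_Y → T^{e−1}_X vanishes at the section σ — if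
and only if every element of S_Y whose image in S_X lies in I has image in I^e, which says that the
fibre of f through σ contains the e-th order thickening of σ. (The published statement is for a
morphism of separated schemes over a base and sections over an arbitrary base change; this row is
the affine computation it reduces to.) -/
theorem result (R SY SX : Type u)
    [CommRing R] [CommRing SY] [CommRing SX] [Algebra R SY] [Algebra R SX] [Algebra SY SX]
    [IsScalarTower R SY SX] (σ : SX →ₐ[R] R) (e : ℕ) (he : 1 ≤ e) :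
    (∀ y ∈ PP16.augIdeal (e - 1) R SY,
        PP16.map (e - 1) R SY R SX y ∈
          RingHom.ker σ.toRingHom • (PP16.augIdeal (e - 1) R SX).restrictScalars SX) ↔
      (∀ b : SY, algebraMap SY SX b ∈ RingHom.ker σ.toRingHom →
        algebraMap SY SX b ∈ RingHom.ker σ.toRingHom ^ e) := by
  obtain ⟨n, rfl⟩ : ∃ n, e = n + 1 := ⟨e - 1, by omega⟩
  show (∀ y ∈ PP16.augIdeal n R SY, PP16.map n R SY R SX y ∈ RingHom.ker σ.toRingHom • (PP16.augIdeal n R SX).restrictScalars SX) ↔ _
  constructor
  · intro h b hb
    have h1 := h (Ideal.Quotient.mk _ (1 ⊗ₜ b - b ⊗ₜ 1))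
      (Ideal.mem_map_of_mem _ (KaehlerDifferential.one_smul_sub_smul_one_mem_ideal R b))
    rw [PP16.map_mk, mem_smul_aug_iff σ _ _ (PP16.ideal_map_tensorMap_le R SY R SX
      (Ideal.mem_map_of_mem _ (KaehlerDifferential.one_smul_sub_smul_one_mem_ideal R b))),
      map_sub, PP16.tensorMap_tmul, PP16.tensorMap_tmul, map_one, map_sub, ev_tmul, ev_tmul,
      show σ (algebraMap SY SX b) = 0 from hb] at h1
    simpa using h1
  · intro h y hy
    obtain ⟨t, ht, rfl⟩ := (Ideal.mem_map_iff_of_surjective _ Ideal.Quotient.mk_surjective).mp hy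
    rw [PP16.map_mk, mem_smul_aug_iff σ _ _ (PP16.ideal_map_tensorMap_le R SY R SX (Ideal.mem_map_of_mem _ ht))]
    have hle : KaehlerDifferential.ideal R SY ≤
        (RingHom.ker σ.toRingHom ^ (n + 1)).comap ((ev σ).toRingHom.comp (PP16.tensorMap R SY R SX).toRingHom) := by
      rw [← KaehlerDifferential.span_range_eq_ideal, Ideal.span_le]
      rintro _ ⟨b, rfl⟩
      have hb := h (b - algebraMap R SY (σ (algebraMap SY SX b))) (by
        simp [RingHom.mem_ker, ← IsScalarTower.algebraMap_apply])
      simp only [SetLike.mem_coe, Ideal.mem_comap, RingHom.comp_apply, AlgHom.toRingHom_eq_coe, RingHom.coe_coe,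
        map_sub, PP16.tensorMap_tmul, map_one, ev_tmul]
      simpa [← IsScalarTower.algebraMap_apply] using hb
    exact hle ht

end Groth.Agent.S13936
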