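import Groth.Statements.S13937


set_option autoImplicit false
universe u
open W4c1limliniiii

namespace Groth.Agent.S13937

open Polynomial in
/-- Over an algebraically closed field of characteristic p (zero allowed), fix three distinct points
P_1, P_2, P_3 of the affine line and admissible indices (2 ≤ e_i ≤ d, e_i prime to p, ∑ (e_i − 1) =
2d − 2). The two-dimensional spaces V of polynomials of degree at most d that contain, for each i, a
non-zero member vanishing to order at least e_i at P_i (the intersection of the three Schubert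
cycles in the Grassmannian of pencils) form a projective space of some dimension m ≥ 0: there is a
non-zero linear space L of pairs of polynomials such that sending a non-zero pair (F, G) ∈ L to the
span of F and G is a surjection onto that set of spaces under which two non-zero pairs have the same
image exactly when they are proportional. -/
theorem result (k : Type u) [Field k]
    [IsAlgClosed k] (p : ℕ) [CharP k p] (d : ℕ) (P : Fin 3 → k) (hP : Function.Injective P)
    (e : Fin 3 → ℕ) (he : W4c1limliniiii.Admissible p d e) :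
    ∃ L : Submodule k (k[X] × k[X]), L ≠ ⊥ ∧
      (∀ v ∈ L, v ≠ 0 →
        Submodule.span k {v.1, v.2} ≤ Polynomial.degreeLE k d ∧
          Module.finrank k (Submodule.span k {v.1, v.2}) = 2 ∧
          ∀ i, ∃ s ∈ Submodule.span k {v.1, v.2}, s ≠ 0 ∧
            e i ≤ Polynomial.rootMultiplicity (P i) s) ∧
      (∀ V : Submodule k k[X], V ≤ Polynomial.degreeLE k d → Module.finrank k V = 2 →
        (∀ i, ∃ s ∈ V, s ≠ 0 ∧ e i ≤ Polynomial.rootMultiplicity (P i) s) →
          ∃ v ∈ L, v ≠ 0 ∧ Submodule.span k {v.1, v.2} = V) ∧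
      (∀ v ∈ L, ∀ w ∈ L, v ≠ 0 → w ≠ 0 →
        Submodule.span k {v.1, v.2} = Submodule.span k {w.1, w.2} → ∃ c : k, w = c • v) := by
  classical
  obtain ⟨hei, hsum⟩ := he
  rw [Fin.sum_univ_three] at hsum
  have hpair : ∀ i j : Fin 3, i ≠ j → d < e i + e j := by
    intro i j hij
    have h0 := hei 0; have h1 := hei 1; have h2 := hei 2
    fin_cases i <;> fin_cases j <;> first | exact absurd rfl hij | (simp only [Fin.zero_eta, Fin.mk_one, Fin.reduceFinMk]; omega)
  -- a polynomial of degree at most `d` with two high-order zeros vanishes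
  have hzero : ∀ (f : k[X]) (i j : Fin 3), i ≠ j → f ∈ degreeLE k d →
      (X - C (P i)) ^ e i ∣ f → (X - C (P j)) ^ e j ∣ f → f = 0 := by
    intro f i j hij hf hi hj
    by_contra hne
    have hco : IsCoprime ((X - C (P i)) ^ e i) ((X - C (P j)) ^ e j) :=
      (pairwise_coprime_X_sub_C hP hij).pow
    have h := natDegree_le_of_dvd (hco.mul_dvd hi hj) hne
    rw [natDegree_mul (pow_ne_zero _ (X_sub_C_ne_zero _)) (pow_ne_zero _ (X_sub_C_ne_zero _)),
      natDegree_pow, natDegree_pow, natDegree_X_sub_C, natDegree_X_sub_C, mul_one, mul_one] at h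
    have := natDegree_le_iff_degree_le.2 (mem_degreeLE.1 hf)
    have := hpair i j hij
    omega
  have hds : ∀ (c : k) {a f : k[X]}, a ∣ f → a ∣ c • f := fun c a f h => by
    rw [smul_eq_C_mul]; exact h.mul_left _
  have hdvd : ∀ (s : k[X]) (i : Fin 3), s ≠ 0 → e i ≤ rootMultiplicity (P i) s → (X - C (P i)) ^ e i ∣ s :=
    fun s i hs h => (le_rootMultiplicity_iff hs).1 h
  let Mi : Fin 3 → Submodule k k[X] := fun i => (Ideal.span {(X - C (P i)) ^ e i}).restrictScalars k
  have hMi : ∀ i f, f ∈ Mi i ↔ (X - C (P i)) ^ e i ∣ f := fun i f => Ideal.mem_span_singleton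
  let L : Submodule k (k[X] × k[X]) :=
    ((degreeLE k d ⊓ Mi 0).prod (degreeLE k d ⊓ Mi 1)) ⊓
      (Mi 2).comap (LinearMap.fst k k[X] k[X] + LinearMap.snd k k[X] k[X])
  have hL : ∀ v, v ∈ L ↔ ((v.1 ∈ degreeLE k d ∧ (X - C (P 0)) ^ e 0 ∣ v.1) ∧
      (v.2 ∈ degreeLE k d ∧ (X - C (P 1)) ^ e 1 ∣ v.2)) ∧ (X - C (P 2)) ^ e 2 ∣ v.1 + v.2 := by
    intro v
    simp only [L, Submodule.mem_inf, Submodule.mem_prod, Submodule.mem_comap, hMi, LinearMap.add_apply,
      LinearMap.fst_apply, LinearMap.snd_apply]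
  have hne01 : (0 : Fin 3) ≠ 1 := by decide
  have hne02 : (0 : Fin 3) ≠ 2 := by decide
  have hne12 : (1 : Fin 3) ≠ 2 := by decide
  -- the two components of a non-zero member are independent
  have hind : ∀ v ∈ L, v ≠ 0 → LinearIndependent k ![v.1, v.2] := by
    intro v hv hv0
    obtain ⟨⟨⟨hF, hF0⟩, hG, hG1⟩, hFG⟩ := (hL v).1 hv
    rw [LinearIndependent.pair_iff]
    intro s t hst
    have hsF : s • v.1 = 0 := by
      refine hzero _ 0 1 hne01 (Submodule.smul_mem _ _ hF) (hds _ hF0) ?_
      rw [eq_neg_of_add_eq_zero_left hst, dvd_neg]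
      exact hds _ hG1
    rw [hsF, zero_add] at hst
    have hGne : v.2 ≠ 0 := by
      intro h
      refine hv0 (Prod.ext (hzero _ 0 2 hne02 hF hF0 ?_) h)
      simpa [h] using hFG
    have hFne : v.1 ≠ 0 := by
      intro h
      exact hGne (hzero _ 1 2 hne12 hG hG1 (by simpa [h] using hFG))
    exact ⟨(smul_eq_zero.1 hsF).resolve_right hFne, (smul_eq_zero.1 hst).resolve_right hGne⟩
  refine ⟨L, ?_, ?_, ?_, ?_⟩
  · -- existence of a non-zero member
    let φ : (degreeLT k (d + 1) × degreeLT k (d + 1)) →ₗ[k]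
        (degreeLT k (e 0) × degreeLT k (e 1) × degreeLT k (e 2)) :=
      { toFun := fun v =>
          (⟨(v.1 : k[X]) %ₘ (X - C (P 0)) ^ e 0, mem_degreeLT.2 (by
              simpa using degree_modByMonic_lt (v.1 : k[X]) ((monic_X_sub_C (P 0)).pow (e 0)))⟩,
           ⟨(v.2 : k[X]) %ₘ (X - C (P 1)) ^ e 1, mem_degreeLT.2 (by
              simpa using degree_modByMonic_lt (v.2 : k[X]) ((monic_X_sub_C (P 1)).pow (e 1)))⟩,
           ⟨((v.1 : k[X]) + (v.2 : k[X])) %ₘ (X - C (P 2)) ^ e 2, mem_degreeLT.2 (by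
              simpa using degree_modByMonic_lt ((v.1 : k[X]) + (v.2 : k[X])) ((monic_X_sub_C (P 2)).pow (e 2)))⟩)
        map_add' := fun v w => by
          refine Prod.ext (Subtype.ext ?_) (Prod.ext (Subtype.ext ?_) (Subtype.ext ?_))
          · exact add_modByMonic _ _
          · exact add_modByMonic _ _
          · show ((v.1 : k[X]) + (w.1 : k[X]) + ((v.2 : k[X]) + (w.2 : k[X]))) %ₘ _ = _
            rw [add_add_add_comm]
            exact add_modByMonic _ _
        map_smul' := fun c v => by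
          refine Prod.ext (Subtype.ext ?_) (Prod.ext (Subtype.ext ?_) (Subtype.ext ?_))
          · exact smul_modByMonic c _
          · exact smul_modByMonic c _
          · show (c • (v.1 : k[X]) + c • (v.2 : k[X])) %ₘ _ = _
            rw [← smul_add]
            exact smul_modByMonic c _ }
    have hker : LinearMap.ker φ ≠ ⊥ := by
      haveI : ∀ n, Module.Finite k (degreeLT k n) := fun n => Module.Finite.equiv (degreeLTEquiv k n).symm
      apply LinearMap.ker_ne_bot_of_finrank_lt
      simp only [Module.finrank_prod, LinearEquiv.finrank_eq (degreeLTEquiv k _), Module.finrank_fin_fun]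
      omega
    obtain ⟨v, hv, hv0⟩ := Submodule.exists_mem_ne_zero_of_ne_bot hker
    rw [Submodule.ne_bot_iff]
    refine ⟨((v.1 : k[X]), (v.2 : k[X])), (hL _).2 ⟨⟨⟨?_, ?_⟩, ?_, ?_⟩, ?_⟩, fun h => hv0 ?_⟩
    · exact (degreeLT_succ_eq_degreeLE (R := k) (n := d)) ▸ v.1.2
    · exact (modByMonic_eq_zero_iff_dvd ((monic_X_sub_C (P 0)).pow _)).1 (congrArg (fun w => ((w.1 : degreeLT k (e 0)) : k[X])) hv)
    · exact (degreeLT_succ_eq_degreeLE (R := k) (n := d)) ▸ v.2.2
    · exact (modByMonic_eq_zero_iff_dvd ((monic_X_sub_C (P 1)).pow _)).1 (congrArg (fun w => ((w.2.1 : degreeLT k (e 1)) : k[X])) hv)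
    · exact (modByMonic_eq_zero_iff_dvd ((monic_X_sub_C (P 2)).pow _)).1 (congrArg (fun w => ((w.2.2 : degreeLT k (e 2)) : k[X])) hv)
    · rw [Prod.mk_eq_zero] at h
      exact Prod.ext (Subtype.ext h.1) (Subtype.ext h.2)
  · intro v hv hv0
    obtain ⟨⟨⟨hF, hF0⟩, hG, hG1⟩, hFG⟩ := (hL v).1 hv
    have hli := hind v hv hv0
    refine ⟨?_, ?_, ?_⟩
    · rw [Submodule.span_le]
      exact Set.insert_subset hF (Set.singleton_subset_iff.2 hG)
    · rw [show ({v.1, v.2} : Set k[X]) = Set.range ![v.1, v.2] from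
        Set.ext fun z => by simp [Fin.exists_fin_two, eq_comm, or_comm]]
      simpa using finrank_span_eq_card hli
    · have hmem1 : v.1 ∈ Submodule.span k {v.1, v.2} := Submodule.subset_span (by simp)
      have hmem2 : v.2 ∈ Submodule.span k {v.1, v.2} := Submodule.subset_span (by simp)
      have hne1 : v.1 ≠ 0 := hli.ne_zero 0
      have hne2 : v.2 ≠ 0 := hli.ne_zero 1
      have hne3 : v.1 + v.2 ≠ 0 := by
        intro h
        have := (LinearIndependent.pair_iff.1 hli) 1 1 (by simpa using h)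
        exact one_ne_zero this.1
      intro i
      fin_cases i
      · exact ⟨v.1, hmem1, hne1, (le_rootMultiplicity_iff hne1).2 hF0⟩
      · exact ⟨v.2, hmem2, hne2, (le_rootMultiplicity_iff hne2).2 hG1⟩
      · exact ⟨v.1 + v.2, add_mem hmem1 hmem2, hne3, (le_rootMultiplicity_iff hne3).2 hFG⟩
  · intro V hV hrk hs
    choose s hsV hs0 hsm using hs
    have hsd := fun i => hdvd _ i (hs0 i) (hsm i)
    have hli : LinearIndependent k ![s 0, s 1] := by
      rw [LinearIndependent.pair_iff]
      intro a b hab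
      have ha : a • s 0 = 0 := by
        refine hzero _ 0 1 hne01 (hV (Submodule.smul_mem _ _ (hsV 0))) (hds _ (hsd 0)) ?_
        rw [eq_neg_of_add_eq_zero_left hab, dvd_neg]
        exact hds _ (hsd 1)
      rw [ha, zero_add] at hab
      exact ⟨(smul_eq_zero.1 ha).resolve_right (hs0 0), (smul_eq_zero.1 hab).resolve_right (hs0 1)⟩
    haveI : Module.Finite k V := Module.finite_of_finrank_eq_succ (n := 1) hrk
    have hspan : Submodule.span k {s 0, s 1} = V := by
      apply Submodule.eq_of_le_of_finrank_eq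
      · rw [Submodule.span_le]
        exact Set.insert_subset (hsV 0) (Set.singleton_subset_iff.2 (hsV 1))
      · rw [hrk]
        rw [show ({s 0, s 1} : Set k[X]) = Set.range ![s 0, s 1] from
          Set.ext fun z => by simp [Fin.exists_fin_two, eq_comm, or_comm]]
        simpa using finrank_span_eq_card hli
    obtain ⟨a, b, hab⟩ := Submodule.mem_span_pair.1 (hspan.symm ▸ hsV 2 : s 2 ∈ Submodule.span k {s 0, s 1})
    have ha : a ≠ 0 := by
      rintro rfl
      rw [zero_smul, zero_add] at hab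
      exact hs0 2 (hzero _ 1 2 hne12 (hV (hsV 2)) (hab ▸ hds _ (hsd 1)) (hsd 2))
    have hb : b ≠ 0 := by
      rintro rfl
      rw [zero_smul, add_zero] at hab
      exact hs0 2 (hzero _ 0 2 hne02 (hV (hsV 2)) (hab ▸ hds _ (hsd 0)) (hsd 2))
    refine ⟨(a • s 0, b • s 1), (hL _).2 ⟨⟨⟨hV (Submodule.smul_mem _ _ (hsV 0)), hds _ (hsd 0)⟩,
      hV (Submodule.smul_mem _ _ (hsV 1)), hds _ (hsd 1)⟩, by rw [hab]; exact hsd 2⟩,
      fun h => smul_ne_zero ha (hs0 0) (Prod.mk_eq_zero.1 h).1, ?_⟩
    rw [← hspan, Submodule.span_insert, Submodule.span_insert, Submodule.span_singleton_smul_eq (IsUnit.mk0 a ha),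
      Submodule.span_singleton_smul_eq (IsUnit.mk0 b hb)]
  · intro v hv w hw hv0 hw0 hspan
    obtain ⟨⟨⟨hF, hF0⟩, hG, hG1⟩, hFG⟩ := (hL v).1 hv
    obtain ⟨⟨⟨hF', hF0'⟩, hG', hG1'⟩, hFG'⟩ := (hL w).1 hw
    have hne1 : v.1 ≠ 0 := (hind v hv hv0).ne_zero 0
    have hne2 : v.2 ≠ 0 := (hind v hv hv0).ne_zero 1
    obtain ⟨a, b, hab⟩ := Submodule.mem_span_pair.1
      (hspan ▸ Submodule.subset_span (by simp) : w.1 ∈ Submodule.span k {v.1, v.2})
    obtain ⟨a', b', hab'⟩ := Submodule.mem_span_pair.1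
      (hspan ▸ Submodule.subset_span (by simp) : w.2 ∈ Submodule.span k {v.1, v.2})
    have hb : b • v.2 = 0 := by
      refine hzero _ 0 1 hne01 (Submodule.smul_mem _ _ hG) ?_ (hds _ hG1)
      rw [show b • v.2 = w.1 - a • v.1 from by rw [← hab]; abel]
      exact dvd_sub hF0' (hds _ hF0)
    have ha' : a' • v.1 = 0 := by
      refine hzero _ 0 1 hne01 (Submodule.smul_mem _ _ hF) (hds _ hF0) ?_
      rw [show a' • v.1 = w.2 - b' • v.2 from by rw [← hab']; abel]
      exact dvd_sub hG1' (hds _ hG1)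
    rw [hb, add_zero] at hab
    rw [ha', zero_add] at hab'
    have hdiff : (a - b') • v.2 = 0 := by
      refine hzero _ 1 2 hne12 (Submodule.smul_mem _ _ hG) (hds _ hG1) ?_
      rw [show (a - b') • v.2 = a • (v.1 + v.2) - (w.1 + w.2) from by rw [← hab, ← hab', sub_smul, smul_add]; abel]
      exact dvd_sub (hds _ hFG) hFG'
    obtain rfl : a = b' := sub_eq_zero.1 ((smul_eq_zero.1 hdiff).resolve_right hne2)
    exact ⟨a, Prod.ext hab.symm hab'.symm⟩

end Groth.Agent.S13937
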