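import Groth.Statements.S9137
import Mathlib.RingTheory.ZariskisMainTheorem
import Mathlib.RingTheory.EssentialFiniteness
import Mathlib.RingTheory.LocalRing.ResidueField.Basic
import Mathlib.RingTheory.Finiteness.Nilpotent
import Mathlib.RingTheory.KrullDimension.Zero

set_option autoImplicit false
universe u
open CAlg

namespace Groth.Agent.S9137

open IsLocalRing in
lemma finite_quot (R S : Type u) [CommRing R] [CommRing S]
    [IsLocalRing R] [IsLocalRing S] [Algebra R S] [IsLocalHom (algebraMap R S)]
    [Algebra.EssFiniteType R S] (hres : Module.Finite (ResidueField R) (ResidueField S))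
    (hdim : ringKrullDim (S ⧸ (maximalIdeal R).map (algebraMap R S)) = 0) :
    Module.Finite R (S ⧸ (maximalIdeal R).map (algebraMap R S)) := by
  set I := (maximalIdeal R).map (algebraMap R S)
  let A := S ⧸ I
  have hI : I ≤ maximalIdeal S := (((local_hom_TFAE (algebraMap R S)).out 0 2 :).mp ‹_›)
  have hIne : I ≠ ⊤ := fun h ↦ (maximalIdeal.isMaximal S).ne_top (top_le_iff.mp (h ▸ hI))
  have : Nontrivial A := Ideal.Quotient.nontrivial_iff.mpr hIne
  have : IsLocalRing A := .of_surjective' (Ideal.Quotient.mk I) Ideal.Quotient.mk_surjective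
  have : Algebra.EssFiniteType R A := .comp R S A
  have : Algebra.EssFiniteType (R ⧸ maximalIdeal R) A := .of_comp R _ _
  let _ := Ideal.Quotient.field (maximalIdeal R)
  have : IsNoetherianRing A := Algebra.EssFiniteType.isNoetherianRing (R ⧸ maximalIdeal R) A
  have : Module.Finite R (ResidueField R) :=
    .of_surjective (Algebra.linearMap R (ResidueField R)) Ideal.Quotient.mk_surjective
  have : Module.Finite R (ResidueField S) := .trans (ResidueField R) _
  have : Ring.KrullDimLE 0 A := Ring.krullDimLE_iff.mpr hdim.le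
  let g : A →ₐ[R] ResidueField S := Ideal.Quotient.liftₐ I (IsScalarTower.toAlgHom R S _)
    fun x hx ↦ (residue_eq_zero_iff x).mpr (hI hx)
  have hg : Function.Surjective g := fun x ↦ by
    obtain ⟨s, rfl⟩ := residue_surjective x
    exact ⟨Ideal.Quotient.mk I s, rfl⟩
  refine Module.finite_of_surjective_of_ker_le_nilradical g hg ?_ (IsNoetherian.noetherian _)
  rw [Ring.KrullDimLE.nilradical_eq_maximalIdeal]
  exact le_maximalIdeal (RingHom.ker_ne_top _)

/-- Let R → S be a local ring homomorphism between local rings, essentially of finite type, such that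
the residue field of S is finite over that of R and S/m_R S has dimension zero. Then S is, as an
R-algebra, the localization of a finite R-algebra at a prime. -/
theorem result (R S : Type u) [CommRing R] [CommRing S]
    [IsLocalRing R] [IsLocalRing S] [Algebra R S] [IsLocalHom (algebraMap R S)]
    [Algebra.EssFiniteType R S]
    (hres : Module.Finite (IsLocalRing.ResidueField R) (IsLocalRing.ResidueField S))
    (hdim : ringKrullDim (S ⧸ (IsLocalRing.maximalIdeal R).map (algebraMap R S)) = 0) :
    ∃ (S' : Type u) (_ : CommRing S') (_ : Algebra R S') (_ : Algebra S' S) (_ : IsScalarTower R S' S)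
      (q : Ideal S') (_ : q.IsPrime), Module.Finite R S' ∧ IsLocalization.AtPrime S q := by
  classical
  let T := Algebra.EssFiniteType.subalgebra R S
  let Q : Ideal T := (IsLocalRing.maximalIdeal S).comap (algebraMap T S)
  have hM : Algebra.EssFiniteType.submonoid R S = Q.primeCompl := by
    ext x
    change IsUnit _ ↔ algebraMap T S x ∉ IsLocalRing.maximalIdeal S
    rw [IsLocalRing.notMem_maximalIdeal]
  have hloc : IsLocalization.AtPrime S Q := by
    rw [IsLocalization.AtPrime, ← hM]
    exact Algebra.EssFiniteType.isLocalization R S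
  have hQ : Q.under R = IsLocalRing.maximalIdeal R := by
    rw [Ideal.under, Ideal.comap_comap, ← IsScalarTower.algebraMap_eq]
    exact ((IsLocalRing.local_hom_TFAE (algebraMap R S)).out 0 4 :).mp ‹_›
  have hwq : Algebra.WeaklyQuasiFiniteAt R Q := by
    have := finite_quot R S hres hdim
    let e : Localization.AtPrime Q ≃ₐ[R] S :=
      (IsLocalization.algEquiv Q.primeCompl (Localization.AtPrime Q) S).restrictScalars R
    rw [Algebra.weaklyQuasiFiniteAt_iff]
    refine (Algebra.QuasiFinite.iff_of_algEquiv (Ideal.quotientEquivAlg _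
      ((IsLocalRing.maximalIdeal R).map (algebraMap R S)) e ?_)).mpr inferInstance
    rw [hQ, Ideal.map_map]
    congr 1
    ext x
    exact (e.commutes x).symm
  obtain ⟨S', hfg, r, hr, hbij⟩ :=
    Algebra.QuasiFiniteAt.exists_fg_and_exists_notMem_and_awayMap_bijective (R := R) Q
  have hpow : ∀ t : T, ∃ N : ℕ, (r : T) ^ N * t ∈ S' := by
    intro t
    obtain ⟨y, hy⟩ := hbij.2 (algebraMap T _ t)
    obtain ⟨a, ⟨_, n, rfl⟩, rfl⟩ := IsLocalization.exists_mk'_eq (Submonoid.powers r) y
    rw [Localization.awayMap, IsLocalization.Away.map, IsLocalization.map_mk',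
      IsLocalization.mk'_eq_iff_eq_mul, ← map_mul,
      IsLocalization.eq_iff_exists (Submonoid.powers (S'.val.toRingHom r))] at hy
    obtain ⟨⟨_, k, rfl⟩, hk⟩ := hy
    refine ⟨k + n, ?_⟩
    have h : (r : T) ^ (k + n) * t = (r : T) ^ k * (a : T) := by
      simpa [pow_add, mul_assoc, mul_comm t] using hk.symm
    rw [h]
    exact mul_mem (pow_mem r.2 k) a.2
  have : Module.Finite R S' := ⟨(Submodule.fg_top _).mpr hfg⟩
  refine ⟨S', inferInstance, inferInstance, ((algebraMap T S).comp S'.val.toRingHom).toAlgebra,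
    IsScalarTower.of_algebraMap_eq fun x ↦ rfl, Q.comap S'.val.toRingHom, inferInstance,
    inferInstance, ?_⟩
  let _ : Algebra S' S := ((algebraMap T S).comp S'.val.toRingHom).toAlgebra
  rw [IsLocalization.AtPrime, isLocalization_iff]
  refine ⟨fun y ↦ IsLocalization.map_units (M := Q.primeCompl) S ⟨_, y.2⟩, fun z ↦ ?_,
    fun {a b} hab ↦ ?_⟩
  · obtain ⟨⟨t, u⟩, htu⟩ := IsLocalization.surj Q.primeCompl z
    obtain ⟨N, hN⟩ := hpow t
    obtain ⟨M, hM⟩ := hpow u
    let b : S' := r ^ N * ⟨_, hM⟩
    have hb : b ∈ (Q.comap S'.val.toRingHom).primeCompl := by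
      change ¬ ((r : T) ^ N * ((r : T) ^ M * u) ∈ Q)
      exact Q.primeCompl.mul_mem (pow_mem hr N) (Q.primeCompl.mul_mem (pow_mem hr M) u.2)
    refine ⟨⟨r ^ M * ⟨_, hN⟩, ⟨b, hb⟩⟩, ?_⟩
    change z * algebraMap T S ((r : T) ^ N * ((r : T) ^ M * u)) =
      algebraMap T S ((r : T) ^ M * ((r : T) ^ N * t))
    simp only [map_mul, ← htu]
    ring
  · obtain ⟨u, hu⟩ := IsLocalization.exists_of_eq (M := Q.primeCompl) hab
    obtain ⟨M, hM⟩ := hpow u
    refine ⟨⟨⟨_, hM⟩, Q.primeCompl.mul_mem (pow_mem hr M) u.2⟩, Subtype.ext ?_⟩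
    change (r : T) ^ M * u * (a : T) = (r : T) ^ M * u * (b : T)
    rw [mul_assoc, mul_assoc]
    exact congrArg _ hu

end Groth.Agent.S9137
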