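import Groth.Statements.S1394
import Groth.Agent.S9137
import Mathlib.RingTheory.Ideal.KrullsHeightTheorem

set_option autoImplicit false
universe u
open FlatMor IsLocalRing

namespace Groth.Agent.S1394

set_option linter.unusedSectionVars false

/-- If every nonzero prime of a Noetherian local domain contains a fixed nonzero element, then every nonzero prime is
the maximal ideal. -/
lemma eq_maximalIdeal_of_forall_mem {C : Type u} [CommRing C] [IsDomain C] [IsLocalRing C] [IsNoetherianRing C]
    (g : C) (hg : g ≠ 0) (h : ∀ P : Ideal C, P.IsPrime → P ≠ ⊥ → g ∈ P)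
    (P : Ideal C) [P.IsPrime] (hP : P ≠ ⊥) : P = maximalIdeal C := by
  by_contra hne
  have hgP : g ∈ P := h P inferInstance hP
  let s := (Ideal.span {g}).minimalPrimes
  have hs : s.Finite := Ideal.finite_minimalPrimes_of_isNoetherianRing C _
  have hm : ∀ R' ∈ s, ¬ maximalIdeal C ≤ R' := fun R' hR' hle => by
    have h1 : R' ≤ P := (hR'.2 ⟨inferInstance, by simpa [Ideal.span_le] using hgP⟩
      ((le_maximalIdeal Ideal.IsPrime.ne_top').trans hle))
    exact hne (le_antisymm (le_maximalIdeal Ideal.IsPrime.ne_top') (hle.trans h1))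
  have hns : ¬ (maximalIdeal C : Set C) ⊆ ⋃ R' ∈ s, (R' : Set C) := fun hsub => by
    obtain ⟨R', hR', hle⟩ := (Ideal.subset_union_prime_finite hs ⊥ ⊥
      fun R' hR' _ _ => hR'.1.1).mp hsub
    exact hm R' hR' hle
  obtain ⟨x, hxm, hx⟩ := Set.not_subset.mp hns
  simp only [Set.mem_iUnion, SetLike.mem_coe, not_exists] at hx
  obtain ⟨Q, hQ, hQm⟩ := Ideal.exists_minimalPrimes_le
    (show Ideal.span {x} ≤ maximalIdeal C by simpa [Ideal.span_le] using hxm)
  haveI : Q.IsPrime := hQ.1.1
  have hxQ : x ∈ Q := hQ.1.2 (Ideal.subset_span rfl)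
  have hgQ : g ∈ Q := by
    refine h Q inferInstance fun hQ0 => ?_
    rw [hQ0] at hxQ
    have hx0 : x = 0 := by simpa using hxQ
    obtain ⟨R', hR', -⟩ := Ideal.exists_minimalPrimes_le
      (show Ideal.span {g} ≤ P by simpa [Ideal.span_le] using hgP)
    exact hx R' hR' (hx0 ▸ R'.zero_mem)
  obtain ⟨R', hR', hR'Q⟩ := Ideal.exists_minimalPrimes_le
    (show Ideal.span {g} ≤ Q by simpa [Ideal.span_le] using hgQ)
  haveI : R'.IsPrime := hR'.1.1
  rcases eq_or_lt_of_le hR'Q with heq | hlt
  · exact hx R' hR' (heq ▸ hxQ)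
  · have h1 : R'.height = 0 := by
      have := Ideal.height_strict_mono_of_isPrime hlt
      have h2 : Q.height ≤ 1 := Ideal.height_le_one_of_isPrincipal_of_mem_minimalPrimes _ Q hQ
      exact ENat.lt_one_iff_eq_zero.mp (this.trans_le h2)
    rw [Ideal.height_eq_zero_iff, IsDomain.minimalPrimes_eq_singleton_bot,
      Set.mem_singleton_iff] at h1
    exact hg (by simpa [h1] using hR'.1.2 (Ideal.subset_span (Set.mem_singleton g)))


/-- Let A → B be a local homomorphism of local rings with A Noetherian, B essentially of finite type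
over A, and the residue field of B finite over that of A. Let V ⊆ Spec B be an open subset
containing some prime that does not lie over the maximal ideal of A. Then V contains a prime q, not
lying over the maximal ideal of A, such that B/q is quasi-finite over A in the sense that every
fibre ring of A → B/q is finite over the corresponding residue field of A. (The published statement
is stronger: there B/q is moreover a localization of a quasi-finite A-algebra of finite type, which
implies this.) -/
theorem result {A B : Type u} [CommRing A] [CommRing B] [IsLocalRing A] [IsLocalRing B] [IsNoetherianRing A]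
    [Algebra A B] [IsLocalHom (algebraMap A B)] [Algebra.EssFiniteType A B]
    [Module.Finite (IsLocalRing.ResidueField A) (IsLocalRing.ResidueField B)]
    (V : Set (PrimeSpectrum B)) (hV : IsOpen V) (hne : ∃ q ∈ V, q.asIdeal.comap (algebraMap A B) ≠ IsLocalRing.maximalIdeal A) :
    ∃ q ∈ V, q.asIdeal.comap (algebraMap A B) ≠ IsLocalRing.maximalIdeal A ∧ Algebra.QuasiFinite A (B ⧸ q.asIdeal) := by
  haveI : IsNoetherianRing B := Algebra.EssFiniteType.isNoetherianRing A B
  obtain ⟨q₀, hq₀V, hq₀⟩ := hne
  obtain ⟨U, ⟨h, rfl⟩, hq₀U, hUV⟩ :=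
    PrimeSpectrum.isTopologicalBasis_basic_opens.exists_subset_of_mem_open hq₀V hV
  obtain ⟨a, ham, ha⟩ : ∃ a ∈ maximalIdeal A, algebraMap A B a ∉ q₀.asIdeal := by
    by_contra hcon
    push Not at hcon
    exact hq₀ (le_antisymm (le_maximalIdeal Ideal.IsPrime.ne_top') fun a ha => hcon a ha)
  let g := h * algebraMap A B a
  have hg₀ : g ∉ q₀.asIdeal := fun hc => (q₀.isPrime.mem_or_mem hc).elim hq₀U ha
  obtain ⟨(q : Ideal B), ⟨hq, hgq⟩, hmax⟩ := set_has_maximal_iff_noetherian.mpr ‹IsNoetherianRing B›
    {q : Ideal B | q.IsPrime ∧ g ∉ q} ⟨q₀.asIdeal, q₀.isPrime, hg₀⟩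
  haveI := hq
  have hhq : h ∉ q := fun hc => hgq (q.mul_mem_right _ hc)
  have haq : algebraMap A B a ∉ q := fun hc => hgq (q.mul_mem_left _ hc)
  refine ⟨⟨q, hq⟩, hUV hhq, fun hc => haq ?_, ?_⟩
  · show a ∈ q.comap (algebraMap A B)
    rw [show q.comap (algebraMap A B) = maximalIdeal A from hc]
    exact ham
  let C := B ⧸ q
  show Algebra.QuasiFinite A C
  haveI : Nontrivial C := Ideal.Quotient.nontrivial_iff.mpr hq.ne_top
  haveI : IsLocalRing C := .of_surjective' (Ideal.Quotient.mk q) Ideal.Quotient.mk_surjective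
  haveI : IsLocalHom (Ideal.Quotient.mk q) := .of_surjective _ Ideal.Quotient.mk_surjective
  haveI : IsLocalHom (algebraMap A C) := by
    show IsLocalHom ((Ideal.Quotient.mk q).comp (algebraMap A B))
    exact RingHom.isLocalHom_comp _ _
  haveI : Algebra.EssFiniteType A C := .comp A B C
  let gC : C := Ideal.Quotient.mk q g
  have hgC : gC ≠ 0 := fun hc => hgq (Ideal.Quotient.eq_zero_iff_mem.mp hc)
  have hall : ∀ P : Ideal C, P.IsPrime → P ≠ ⊥ → gC ∈ P := fun P hP hP0 => by
    by_contra hc
    have hlt : q < P.comap (Ideal.Quotient.mk q) := by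
      refine lt_of_le_of_ne (fun x hx => ?_) fun he => hP0 ?_
      · simp [Ideal.Quotient.eq_zero_iff_mem.mpr hx]
      · rw [← Ideal.map_comap_of_surjective _ Ideal.Quotient.mk_surjective P, ← he, Ideal.map_quotient_self]
    exact hmax _ ⟨Ideal.comap_isPrime _ _, hc⟩ hlt
  have hres : Module.Finite (ResidueField A) (ResidueField C) := by
    let π : ResidueField B →ₐ[ResidueField A] ResidueField C :=
      { ResidueField.map (Ideal.Quotient.mk q) with
        commutes' := fun r => by
          obtain ⟨r, rfl⟩ := residue_surjective r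
          rfl }
    refine Module.Finite.of_surjective π.toLinearMap fun x => ?_
    obtain ⟨x, rfl⟩ := residue_surjective x
    obtain ⟨x, rfl⟩ := Ideal.Quotient.mk_surjective x
    exact ⟨residue B x, rfl⟩
  have hdim : ringKrullDim (C ⧸ (maximalIdeal A).map (algebraMap A C)) = 0 := by
    set I := (maximalIdeal A).map (algebraMap A C) with hI
    have hIm : I ≤ maximalIdeal C := ((local_hom_TFAE (algebraMap A C)).out 0 2 :).mp ‹_›
    haveI : Nontrivial (C ⧸ I) :=
      Ideal.Quotient.nontrivial_iff.mpr fun he => (maximalIdeal.isMaximal C).ne_top (top_le_iff.mp (he ▸ hIm))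
    haveI : Ring.KrullDimLE 0 (C ⧸ I) := by
      refine Ring.krullDimLE_zero_iff.mpr fun P hP => ?_
      have hle : I ≤ P.comap (Ideal.Quotient.mk I) := fun x hx => by
        simp [Ideal.Quotient.eq_zero_iff_mem.mpr hx]
      have hne : P.comap (Ideal.Quotient.mk I) ≠ ⊥ := fun he => haq (Ideal.Quotient.eq_zero_iff_mem.mp (by
        have : algebraMap A C a ∈ P.comap (Ideal.Quotient.mk I) := hle (Ideal.mem_map_of_mem _ ham)
        rw [he] at this
        simpa using this))
      have he := eq_maximalIdeal_of_forall_mem gC hgC hall _ hne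
      rw [← Ideal.map_comap_of_surjective _ Ideal.Quotient.mk_surjective P]
      exact (Ideal.map_eq_top_or_isMaximal_of_surjective _ Ideal.Quotient.mk_surjective
        (he ▸ maximalIdeal.isMaximal C)).resolve_left
        (by rw [Ideal.map_comap_of_surjective _ Ideal.Quotient.mk_surjective]; exact hP.ne_top)
    exact ringKrullDimZero_iff_ringKrullDim_eq_zero.mp inferInstance
  obtain ⟨S', _, _, _, _, Q, _, _, _⟩ := Groth.Agent.S9137.result A C hres hdim
  exact Algebra.QuasiFinite.of_isLocalization (R := A) (S := S') (T := C) Q.primeCompl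

end Groth.Agent.S1394
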