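import Groth.Statements.S13942
import Groth.Agent.H23Char.Main

set_option autoImplicit false
universe u
open TateLoc

namespace Groth.Agent.S13942

open CategoryTheory AlgebraicGeometry MonObj in
/-- For a non-archimedean local field k of characteristic p > 0 and an affine commutative k-group scheme
G of finite type, the group of characters of G defined over k (morphisms of abelian sheaves on the
big fppf site of Spec k from the sheaf of points of G into the multiplicative group) is a finitely
generated abelian group. -/
theorem result (p : ℕ) [Fact p.Prime] (k : Type u) [Field k] [CharP k p]
    [ValuativeRel k] [TopologicalSpace k] [IsNonarchimedeanLocalField k]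
    (G : Over (Spec (CommRingCat.of k))) [GrpObj G] [IsCommMonObj G] [IsAffine G.left] [LocallyOfFiniteType G.hom] :
    AddGroup.FG ((CGrpSh.pts Scheme.fppfPrecoverage G) ⟶ (CGrpSh2.Gm Scheme.fppfPrecoverage (Spec (CommRingCat.of k)))) := by
  exact H23Char.fg_characters (H := G)

end Groth.Agent.S13942
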