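import Groth.Statements.S13951
import Groth.Agent.H21Rank1.Closed
import Groth.Agent.H12AlgSp.SchImageApps
import Mathlib

set_option autoImplicit false
universe u
open TateLoc

namespace Groth.Agent.S13951

open CategoryTheory AlgebraicGeometry CategoryTheory.Limits in
/-- Let S be a reduced scheme and I a finite locally free commutative S-group scheme (finite, flat, of
finite presentation) whose fibres over all points of S are connected. Then the restriction of the
sheaf of points of I from the big fppf site of S to the small etale site of S is the zero sheaf. -/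
theorem result (S : Scheme.{u}) [IsReduced S]
    (I : Over S) [GrpObj I] [IsCommMonObj I] [IsFinite I.hom] [Flat I.hom] [LocallyOfFinitePresentation I.hom]
    (hconn : ∀ s : S, ConnectedSpace ↥(I.hom.fiber s)) :
    IsZero ((BigSite.resEt Scheme.fppfPrecoverage S).obj (CGrpSh.pts Scheme.fppfPrecoverage I)) := by
  haveI : IsSeparated I.hom := inferInstance
  let e : MonoidalCategoryStruct.tensorUnit (Over S) ⟶ I := MonObj.one
  haveI : IsClosedImmersion e.left :=
    H21Rank1.isClosedImmersion_of_section e (CartesianMonoidalCategory.toUnit I)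
      (CartesianMonoidalCategory.toUnit_unique _ _)
  have hsurj : ∀ i : I.left, i ∈ Set.range e.left := by
    intro i
    let s := I.hom i
    haveI : Finite ↥(I.hom.fiber s) := by
      haveI : Finite ↥(I.hom ⁻¹' {s} : Set I.left) := (I.hom.finite_preimage_singleton s).to_subtype
      exact Finite.of_equiv _ (I.hom.fiberHomeo s).symm.toEquiv
    haveI := hconn s
    haveI : Subsingleton ↥(I.hom.fiber s) := PreconnectedSpace.trivial_of_discrete.{u}
    refine ⟨s, ?_⟩
    have hs : I.hom (e.left s) = s := by
      have h : e.left ≫ I.hom = 𝟙 S := Over.w e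
      exact (Scheme.Hom.comp_apply _ _ _).symm.trans (congrArg (fun m : S ⟶ S => m s) h)
    exact congrArg Subtype.val ((I.hom.fiberHomeo s).symm.injective
      (Subsingleton.elim ((I.hom.fiberHomeo s).symm ⟨e.left s, hs⟩) ((I.hom.fiberHomeo s).symm ⟨i, rfl⟩)))
  rw [IsZero.iff_id_eq_zero]
  refine Sheaf.hom_ext (NatTrans.ext (funext fun U => AddCommGrpCat.ext fun x => ?_))
  change x = 0
  haveI : Etale U.unop.hom := U.unop.prop
  haveI : IsReduced U.unop.left :=
    @H13AlgSp.isReduced_of_smooth_mor _ S U.unop.hom inferInstance ‹IsReduced S›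
  haveI : IsReduced ((EtFppf.a S).obj U.unop).left := inferInstanceAs (IsReduced U.unop.left)
  have huniq : ∀ g : (EtFppf.a S).obj U.unop ⟶ I, g = CartesianMonoidalCategory.toUnit _ ≫ e := by
    intro g
    obtain ⟨z, hz⟩ := H21Rank1.exists_lift_closedImmersion e g (fun i _ => hsurj i)
    rw [← hz, CartesianMonoidalCategory.toUnit_unique z (CartesianMonoidalCategory.toUnit _)]
  exact ULift.ext _ _ ((huniq x.down.toMul).trans (huniq _).symm)

end Groth.Agent.S13951
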