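import Groth.Statements.S13953
import Mathlib

set_option autoImplicit false
universe u
open TateLoc

namespace Groth.Agent.S13953

/-- Let (R_i) be a family of local commutative rings and R = ∏ R_i. Any open cover of Spec R can be
refined by one coming from a finite partition of the index set: there is a map c from the index set
to a finite set such that, for each value m, the basic open subset of Spec R defined by the
idempotent which is 1 at the indices with c i = m and 0 elsewhere (this open is the spectrum of the
product of the R_i over that class) is contained in some member of the cover. -/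
theorem result {ι : Type u} (R : ι → Type u)
    [∀ i, CommRing (R i)] [∀ i, IsLocalRing (R i)] {J : Type u}
    (U : J → TopologicalSpace.Opens (PrimeSpectrum (∀ i, R i))) (hU : ⨆ j, U j = ⊤) :
    ∃ (n : ℕ) (c : ι → Fin n), ∀ m : Fin n, ∃ j : J,
      PrimeSpectrum.basicOpen (fun i => if c i = m then (1 : R i) else 0) ≤ U j := by
  classical
  have hbasis : ∀ x : PrimeSpectrum (∀ i, R i), ∃ (a : ∀ i, R i) (j : J),
      x ∈ PrimeSpectrum.basicOpen a ∧ PrimeSpectrum.basicOpen a ≤ U j := by
    intro x
    obtain ⟨j, hj⟩ := TopologicalSpace.Opens.mem_iSup.mp (hU.symm ▸ trivial : x ∈ ⨆ j, U j)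
    obtain ⟨_, ⟨a, rfl⟩, hxa, hsub⟩ :=
      (TopologicalSpace.Opens.isBasis_iff_nbhd.mp PrimeSpectrum.isBasis_basic_opens) hj
    exact ⟨a, j, hxa, hsub⟩
  choose a jj hxa hle using hbasis
  obtain ⟨t, ht⟩ := isCompact_univ.elim_finite_subcover
    (fun x => (PrimeSpectrum.basicOpen (a x) : Set (PrimeSpectrum (∀ i, R i))))
    (fun x => (PrimeSpectrum.basicOpen (a x)).2)
    (fun x _ => Set.mem_iUnion.mpr ⟨x, hxa x⟩)
  let e := t.equivFin.symm
  have hex : ∀ i, ∃ m : Fin t.card, IsUnit (a (e m) i) := by
    intro i
    let P : PrimeSpectrum (∀ i, R i) :=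
      ⟨(IsLocalRing.maximalIdeal (R i)).comap (Pi.evalRingHom R i), Ideal.comap_isPrime _ _⟩
    obtain ⟨x, hx, hPx⟩ := Set.mem_iUnion₂.mp (ht (Set.mem_univ P))
    refine ⟨t.equivFin ⟨x, hx⟩, ?_⟩
    simp only [e, Equiv.symm_apply_apply]
    by_contra hu
    exact hPx hu
  choose c hc using hex
  refine ⟨t.card, c, fun m => ⟨jj (e m), le_trans ?_ (hle (e m))⟩⟩
  intro P hP
  refine fun hmem => hP ?_
  have : (fun i => if c i = m then (1 : R i) else 0) =
      a (e m) * fun i => if h : c i = m then (↑((h ▸ hc i : IsUnit (a (e m) i)).unit⁻¹) : R i) else 0 := by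
    funext i
    by_cases h : c i = m
    · simp only [Pi.mul_apply, if_pos h, dif_pos h, IsUnit.mul_val_inv]
    · simp [h]
  rw [this]
  exact P.asIdeal.mul_mem_right _ hmem

end Groth.Agent.S13953
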