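import Groth.Statements.S13958
import Groth.Agent.H19Mult.FGSep

set_option autoImplicit false
universe u
open TateLoc

namespace Groth.Agent.S13958

open CategoryTheory in
/-- Let A' be a finitely generated abelian group (written multiplicatively, discrete) and A a subgroup.
If the image of x ∈ A' in the profinite completion of A' lies in the image of the profinite
completion of A under the map induced by the inclusion, then x ∈ A. (The published statement says
that the square formed by the two completion maps and the two inclusions is Cartesian; given the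
injectivity of the induced map on completions, which holds here, that amounts to this membership
criterion.) -/
theorem result (A' : Type u) [CommGroup A'] [Group.FG A']
    (A : Subgroup A') (x : A')
    (hx : ProfiniteGrp.ProfiniteCompletion.etaFn (GrpCat.of A') x ∈
      Set.range ⇑(ProfiniteGrp.profiniteCompletion.map (GrpCat.ofHom A.subtype)).hom) :
    x ∈ A := by
  open CategoryTheory in
  by_contra hxA
  haveI : Group.FG (A' ⧸ A) := Group.fg_of_surjective (f := QuotientGroup.mk' A) (QuotientGroup.mk'_surjective A)
  haveI : AddGroup.FG (Additive (A' ⧸ A)) := inferInstance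
  obtain ⟨F, _, _, f, hf⟩ := Groth.Agent.H19Mult.exists_hom_finite_ne_zero
    (g := Additive.ofMul (QuotientGroup.mk' A x))
    (fun h => hxA ((QuotientGroup.eq_one_iff x).mp (Additive.ofMul.injective h)))
  let χ : A' →* Multiplicative F :=
    (MonoidHom.mk' (fun q => Multiplicative.ofAdd (f (Additive.ofMul q))) fun a b => by
      rw [ofMul_mul, map_add]; rfl).comp (QuotientGroup.mk' A)
  haveI : χ.ker.FiniteIndex := by
    haveI : Finite χ.range := inferInstance
    haveI : Finite (A' ⧸ χ.ker) := Finite.of_equiv _ (QuotientGroup.quotientKerEquivRange χ).toEquiv.symm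
    exact Subgroup.finiteIndex_of_finite_quotient
  let H : FiniteIndexNormalSubgroup (GrpCat.of A') := FiniteIndexNormalSubgroup.ofSubgroup χ.ker
  obtain ⟨y, hy⟩ := hx
  let ψ := (ProfiniteGrp.profiniteCompletion.map (GrpCat.ofHom A.subtype)).hom
  have hmem : ∀ y, (ψ y).1 H ∈ Set.range fun a : A => (QuotientGroup.mk (a : A') : A' ⧸ H.toSubgroup) := by
    intro y
    haveI : Finite (A' ⧸ H.toSubgroup) := Subgroup.finite_quotient_of_finiteIndex
    refine ProfiniteGrp.ProfiniteCompletion.denseRange (GrpCat.of A) |>.induction_on y ?_ fun a => ?_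
    · refine IsClosed.preimage ?_ (@Set.Finite.isClosed ((ProfiniteGrp.ProfiniteCompletion.diagram (GrpCat.of A')).obj H) _ _ _ (@Set.toFinite _ _ (@Subtype.finite (A' ⧸ H.toSubgroup) inferInstance _)))
      exact (continuous_apply H).comp (continuous_subtype_val.comp (map_continuous ψ))
    · refine ⟨a, ?_⟩
      have h := ConcreteCategory.congr_hom (ProfiniteGrp.ProfiniteCompletion.lift_eta
        (GrpCat.ofHom A.subtype ≫ ProfiniteGrp.ProfiniteCompletion.eta (GrpCat.of A'))) a
      exact (congrArg (fun z => z.1 H) h).symm
  obtain ⟨a, ha⟩ := hmem y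
  rw [hy] at ha
  have h1 : χ ((a : A')⁻¹ * x) = 1 := QuotientGroup.eq.mp ha
  rw [map_mul, map_inv] at h1
  have h2 : χ (a : A') = 1 := by
    show Multiplicative.ofAdd (f (Additive.ofMul (QuotientGroup.mk' A (a : A')))) = 1
    rw [(QuotientGroup.eq_one_iff (a : A')).mpr a.2 |> fun h => (show QuotientGroup.mk' A (a : A') = 1 from h)]
    simp
  rw [h2, inv_one, one_mul] at h1
  exact hf h1

end Groth.Agent.S13958
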