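import Groth.Statements.S13959
import Mathlib.AlgebraicGeometry.Sites.Fpqc
import Mathlib.AlgebraicGeometry.Morphisms.QuasiCompact

set_option autoImplicit false
universe u
open TateLoc


namespace Groth.Agent.S13959

open CategoryTheory CategoryTheory.Limits MonoidalCategory CartesianMonoidalCategory AlgebraicGeometry
open scoped MonObj

open CategoryTheory AlgebraicGeometry in
/-- Let k be a field, L an extension field of k which is separable over k in the sense that L ⊗_k L is
reduced (not necessarily algebraic), and I an infinitesimal k-group scheme (finite over k with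
one-point underlying space). If a k-scheme E with an action of I is an fppf torsor under I and
acquires a point over L, then E already has a k-point. (The published statement is the injectivity
of H^1(k, I) → H^1(L, I); this row is its torsor form.) -/
theorem result (k : Type u) [Field k] (L : Type u) [Field L] [Algebra k L]
    [IsReduced (TensorProduct k L L)]
    (I E : Over (Spec (CommRingCat.of k))) [GrpObj I] [IsFinite I.hom] [Subsingleton ↥(I.left)]
    (a : AlgGrp.Action I E) (hE : NonAbH1.IsTorsorFor Scheme.fppfPrecoverage a)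
    (hL : NonAbH1.HasSectionOver E (Spec.map (CommRingCat.ofHom (algebraMap k L)))) :
    NonAbH1.HasSectionOver E (𝟙 (Spec (CommRingCat.of k))) := by
  let f := Spec.map (CommRingCat.ofHom (algebraMap k L))
  obtain ⟨t, ht⟩ := hL
  haveI : Surjective f :=
    ⟨PrimeSpectrum.comap_surjective_of_faithfullyFlat (A := k) (B := L)⟩
  haveI : Flat f := (HasRingHomProperty.Spec_iff (P := @Flat)).2
    (RingHom.flat_algebraMap_iff.2 inferInstance)
  haveI : AlgebraicGeometry.IsReduced (pullback f f) :=
    isReduced_of_isOpenImmersion (pullbackSpecIso k L L).hom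
  -- points of `I` with values in a reduced scheme
  haveI : IsAffine I.left := isAffine_of_isAffineHom I.hom
  have huniq : ∀ (T : Over (Spec (CommRingCat.of k))) [AlgebraicGeometry.IsReduced T.left] (g g' : T ⟶ I),
      g = g' := by
    intro T _ g g'
    ext : 1
    refine ext_of_isAffine (CommRingCat.hom_ext (RingHom.ext fun x => ?_))
    let η' := (η[I] : 𝟙_ (Over (Spec (CommRingCat.of k))) ⟶ I).left
    let c := I.hom.appTop (η'.appTop x)
    have hc : η'.appTop c = η'.appTop x := by
      change (η'.appTop) (I.hom.appTop (η'.appTop x)) = η'.appTop x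
      rw [← ConcreteCategory.comp_apply, ← Scheme.Hom.comp_appTop,
        show η' ≫ I.hom = 𝟙 _ from Over.w (η[I] : 𝟙_ (Over (Spec (CommRingCat.of k))) ⟶ I)]
      rfl
    have hnil : IsNilpotent (x - c) := by
      rw [Scheme.isNilpotent_iff_basicOpen_eq_bot]
      by_contra hne
      obtain ⟨y, hy⟩ : ∃ y, y ∈ I.left.basicOpen (x - c) := by
        by_contra h
        push Not at h
        exact hne (TopologicalSpace.Opens.ext (Set.eq_empty_of_forall_notMem h))
      let o : (𝟙_ (Over (Spec (CommRingCat.of k)))).left := Classical.arbitrary (PrimeSpectrum k)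
      have ho : o ∈ η' ⁻¹ᵁ (I.left.basicOpen (x - c)) := by
        change η' o ∈ I.left.basicOpen (x - c)
        rw [Subsingleton.elim (η' o) y]
        exact hy
      rw [Scheme.preimage_basicOpen] at ho
      have h0 : η'.app ⊤ (x - c) = 0 := by rw [map_sub, show η'.app ⊤ c = η'.app ⊤ x from hc, sub_self]
      rw [h0, Scheme.basicOpen_zero] at ho
      exact ho
    have hval : ∀ u : T ⟶ I, u.left.appTop x = T.hom.appTop (η'.appTop x) := fun u => by
      have h1 : u.left.appTop (x - c) = 0 := IsReduced.eq_zero _ (hnil.map u.left.appTop.hom)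
      rw [map_sub, sub_eq_zero] at h1
      rw [h1, ← Over.w u, Scheme.Hom.comp_appTop]
      rfl
    exact (hval g).trans (hval g').symm
  haveI : IsIso (lift a.act (snd I E)) := hE.1
  refine ⟨EffectiveEpi.desc f t fun {Z} g₁ g₂ hg => ?_, ?_⟩
  · let T : Over (Spec (CommRingCat.of k)) := Over.mk (pullback.fst f f ≫ f)
    let u₁ : T ⟶ E := Over.homMk (pullback.fst f f ≫ t) (by
      change (pullback.fst f f ≫ t) ≫ E.hom = pullback.fst f f ≫ f
      rw [Category.assoc, ht])
    let u₂ : T ⟶ E := Over.homMk (pullback.snd f f ≫ t) (by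
      change (pullback.snd f f ≫ t) ≫ E.hom = pullback.fst f f ≫ f
      rw [Category.assoc, ht]
      exact pullback.condition.symm)
    haveI : AlgebraicGeometry.IsReduced T.left := inferInstanceAs (AlgebraicGeometry.IsReduced (pullback f f))
    let v := lift u₁ u₂ ≫ inv (lift a.act (snd I E))
    have hv : v ≫ lift a.act (snd I E) = lift u₁ u₂ :=
      (Category.assoc _ _ _).trans ((congrArg (lift u₁ u₂ ≫ ·) (IsIso.inv_hom_id _)).trans (Category.comp_id _))
    have h1 : v ≫ a.act = u₁ := by simpa using hv =≫ fst E E
    have h2 : v ≫ snd I E = u₂ := by simpa using hv =≫ snd E E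
    have hfst : v ≫ fst I E = toUnit T ≫ η[I] := huniq T _ _
    have h3 : u₁ = u₂ := by
      rw [← h1, ← h2]
      have hv' : v = lift (toUnit T) (v ≫ snd I E) ≫ (η[I] ▷ E) := by
        rw [lift_whiskerRight, ← hfst]
        exact CartesianMonoidalCategory.hom_ext _ _ (by simp) (by simp)
      conv_lhs => rw [hv', Category.assoc, a.one_act]
      simp
    have h4 : pullback.fst f f ≫ t = pullback.snd f f ≫ t := congrArg (fun u : T ⟶ E => u.left) h3
    have h5 := congrArg (fun u => pullback.lift g₁ g₂ hg ≫ u) h4
    rw [pullback.lift_fst_assoc, pullback.lift_snd_assoc] at h5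
    exact h5
  · rw [← cancel_epi f, EffectiveEpi.fac_assoc, ht, Category.comp_id]

end Groth.Agent.S13959
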