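-- statement FlatMor.GrothFrozen.S1397 (Groth/Statements/S1397.lean; the theorem FlatMor.isIndQuasiAffineHom_comp);
import Groth.Statements.S1397
import Groth.Agent.H7Flat.IndQuasiAffine

set_option autoImplicit false
universe u
open FlatMor

namespace Groth.Agent.S1397

open AlgebraicGeometry CategoryTheory Limits in
/-- Ind-quasi-affine morphisms are stable under composition. -/
theorem result {X Y Z : Scheme.{u}} (f : X ⟶ Y) (g : Y ⟶ Z) (hf : MoreMor.IsIndQuasiAffineHom f) (hg : MoreMor.IsIndQuasiAffineHom g) :
    MoreMor.IsIndQuasiAffineHom (f ≫ g) := by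
  exact Groth.Agent.H7Flat.indQA_comp f g hf hg

end Groth.Agent.S1397
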