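import Groth.Statements.S13971
import Groth.Agent.H24Art.T1Unobstructed

set_option autoImplicit false
universe u v
open CategoryTheory
open ArtFun

namespace Groth.Agent.S13971

/-- Let k be a field of characteristic zero and F a deformation functor on Artinian local k-algebras
with residue field k — F(k) is a point and the comparison map F(A₁ ×_A A₂) → F(A₁) ×_{F(A)} F(A₂) is
bijective whenever A₂ → A is surjective — whose tangent space F(k[ε]) is finite-dimensional. Suppose
that for every object A and every surjective morphism q : A'' → A' between split square-zero
extensions of A (A' and A'' come with retractions onto A whose kernels have square zero and with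
sections from A, and q commutes with the retractions and the sections), the map F(q) : F(A'') →
F(A') is surjective. Then F is unobstructed: F(B) → F(A) is surjective for every surjective B → A.
(The published statement is for deformation categories, with the hypothesis that, for every object
over A, the functor M ↦ {isomorphism classes of its liftings to A ⊕ M} on finite A-modules carries
surjections to surjections; this row is the case of a category fibred in sets, for which a split
square-zero extension of A is A ⊕ M with M the kernel, a finite A-module, and that hypothesis is the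
displayed surjectivity.) -/
theorem result {k : Type u} [Field k] [CharZero k]
    (F : ArtFun.Art k k ⥤ Type v) [ArtFun.TangentStr F]
    (h0 : ArtFun.H0 F)
    (hRS : (∀ ⦃B A A' A'' : ArtFun.Art k k⦄ (p' : B ⟶ A') (p'' : B ⟶ A'') (f' : A' ⟶ A) (f'' : A'' ⟶ A)
        (h : ArtFun.Art.IsFibreProd p' p'' f' f''), Function.Surjective f'' → Function.Bijective (ArtFun.cmp F h)))
    (hfin : ArtFun.Hfin F)
    (hT1 : ∀ ⦃A A' A'' : ArtFun.Art k k⦄ (π' : A' ⟶ A) (i' : A ⟶ A') (π'' : A'' ⟶ A) (i'' : A ⟶ A'')
        (q : A'' ⟶ A'), i' ≫ π' = 𝟙 A → i'' ≫ π'' = 𝟙 A →
        RingHom.ker π'.toAlgHom * RingHom.ker π'.toAlgHom = ⊥ →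
        RingHom.ker π''.toAlgHom * RingHom.ker π''.toAlgHom = ⊥ →
        q ≫ π' = π'' → i'' ≫ q = i' → Function.Surjective q → Function.Surjective (F.map q)) :
    ArtFun.IsSmoothFunctor F := by
  exact Groth.Agent.H24Art.isSmoothFunctor_of_t1_lifting F h0 hRS hfin hT1

end Groth.Agent.S13971
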