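import Groth.Statements.S13972
import Groth.Agent.H11LCI.KoszulLift

set_option autoImplicit false
universe u
open LCI

namespace Groth.Agent.S13972

/-- Let A' be an Artinian local ring, I a proper ideal of A', A = A'/I, R' a Noetherian A'-algebra flat
over A' and R = R'/IR'. Let f₁, …, f_r ∈ R be a Koszul-regular sequence (its Koszul complex is
acyclic in nonzero degrees) such that R/(f₁, …, f_r) is flat over A. Then: (1) for every choice of
lifts f'₁, …, f'_r ∈ R' of the f_i, the quotient R'/(f'₁, …, f'_r) is flat over A' and f'₁, …, f'_r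
is a Koszul-regular sequence in R'; (2) if J' ⊆ R' is an ideal with R'/J' flat over A' whose image
in R is the ideal (f₁, …, f_r), then J' is generated by any lifts f'₁, …, f'_r ∈ J' of the f_i. (The
published statement takes R' = R₀ ⊗_Λ A' for a flat Λ-algebra R₀ and a surjection A' → A of Artinian
local Λ-algebras; this row assumes only that R' is Noetherian and flat over A' and that I is a
proper ideal, which is what its proof uses. Regularity of a sequence is taken there in every
localization at a prime containing the ideal it generates, which over a Noetherian ring is the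
Koszul-acyclicity used in the proof and stated here.) -/
theorem result
    {A' : Type u} [CommRing A'] [IsLocalRing A'] [IsArtinianRing A'] (I : Ideal A') (hI : I ≠ ⊤)
    {R' : Type u} [CommRing R'] [Algebra A' R'] [IsNoetherianRing R'] [Module.Flat A' R']
    (r : ℕ) (f : Fin r → R' ⧸ I.map (algebraMap A' R'))
    (hf : LCI.IsKoszulRegularSeq (R' ⧸ I.map (algebraMap A' R')) (List.ofFn f))
    [Module.Flat (A' ⧸ I) ((R' ⧸ I.map (algebraMap A' R')) ⧸ Ideal.span (Set.range f))] :
    (∀ f' : Fin r → R', (∀ i, Ideal.Quotient.mk (I.map (algebraMap A' R')) (f' i) = f i) →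
        Module.Flat A' (R' ⧸ Ideal.span (Set.range f')) ∧ LCI.IsKoszulRegularSeq R' (List.ofFn f')) ∧
    (∀ (J' : Ideal R'), Module.Flat A' (R' ⧸ J') →
        J'.map (Ideal.Quotient.mk (I.map (algebraMap A' R'))) = Ideal.span (Set.range f) →
        ∀ f' : Fin r → R', (∀ i, f' i ∈ J') →
          (∀ i, Ideal.Quotient.mk (I.map (algebraMap A' R')) (f' i) = f i) →
          J' = Ideal.span (Set.range f')) := by
  classical
  have hIm : I ≤ IsLocalRing.maximalIdeal A' := IsLocalRing.le_maximalIdeal hI
  have hInil : IsNilpotent I := by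
    obtain ⟨k, hk⟩ := (isArtinianRing_iff_isNilpotent_maximalIdeal A').1 inferInstance
    exact ⟨k, le_bot_iff.1 ((Ideal.pow_right_mono hIm k).trans hk.le)⟩
  have key : ∀ {S : Type u} [CommRing S] (l : List S) (n : ℕ) (g : Fin n → S) (hn : l.length = n),
      (∀ i, l.get i = g (Fin.cast hn i)) → CAlgX.IsH1Regular l.get → CAlgX.IsH1Regular g := by
    intro S _ l n g hn hg h
    subst hn
    rwa [show g = l.get from funext fun i => (hg i).symm]
  have hH1 := key (List.ofFn f) r f List.length_ofFn (fun i => List.get_ofFn f i) (H29Slice.isH1Regular_of_isKoszulRegular hf)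
  refine ⟨fun f' hf' => ?_, fun J' _ hJ' f' hf'J hf' => ?_⟩
  · let IR := I.map (algebraMap A' R')
    let J := Ideal.span (Set.range f') ⊔ IR
    have hker : ∀ a ∈ I, ((Ideal.Quotient.mk J).comp (algebraMap A' R')) a = 0 := fun a ha =>
      Ideal.Quotient.eq_zero_iff_mem.2 (Submodule.mem_sup_right (Ideal.mem_map_of_mem _ ha))
    letI : Algebra (A' ⧸ I) (R' ⧸ J) := (Ideal.Quotient.lift I _ hker).toAlgebra
    haveI : IsScalarTower A' (A' ⧸ I) (R' ⧸ J) := IsScalarTower.of_algebraMap_eq fun _ => rfl
    have hspan : (Ideal.span (Set.range f')).map (Ideal.Quotient.mk IR) = Ideal.span (Set.range f) := by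
      rw [Ideal.map_span, ← Set.range_comp]
      exact congrArg (fun g => Ideal.span (Set.range g)) (funext hf')
    let e : ((R' ⧸ IR) ⧸ Ideal.span (Set.range f)) ≃+* R' ⧸ J :=
      (Ideal.quotEquivOfEq hspan.symm).trans ((DoubleQuot.quotQuotEquivQuotSup IR (Ideal.span (Set.range f'))).trans
        (Ideal.quotEquivOfEq (sup_comm _ _)))
    haveI : Module.Flat (A' ⧸ I) (R' ⧸ J) := by
      have hsm : ∀ (a : A' ⧸ I) (x : (R' ⧸ IR) ⧸ Ideal.span (Set.range f)), e (a • x) = a • e x := fun a x => by
        obtain ⟨a, rfl⟩ := Ideal.Quotient.mk_surjective a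
        obtain ⟨x, rfl⟩ := Ideal.Quotient.mk_surjective x
        obtain ⟨x, rfl⟩ := Ideal.Quotient.mk_surjective x
        rw [show Ideal.Quotient.mk I a = algebraMap A' (A' ⧸ I) a from rfl, algebraMap_smul, algebraMap_smul]
        rfl
      exact Module.Flat.of_linearEquiv
        (LinearEquiv.symm { toFun := e, invFun := e.symm, map_add' := map_add e, map_smul' := hsm
                            left_inv := e.symm_apply_apply, right_inv := e.apply_symm_apply })
    have hH1' : CAlgX.IsH1Regular fun i => Ideal.Quotient.mk IR (f' i) := by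
      rw [funext hf']
      exact hH1
    exact H11LCI.flat_and_koszul_of_fibre f' (H11LCI.isH1Regular_fibre I _ hIm f' hH1')
  · refine H11LCI.eq_span_of_flat I hInil J' f' hf'J fun x hx => ?_
    have h1 : Ideal.Quotient.mk (I.map (algebraMap A' R')) x ∈
        (Ideal.span (Set.range f')).map (Ideal.Quotient.mk (I.map (algebraMap A' R'))) := by
      rw [Ideal.map_span, ← Set.range_comp]
      rw [show (fun a => Ideal.Quotient.mk (I.map (algebraMap A' R')) a) ∘ f' = f from funext hf', ← hJ']
      exact Ideal.mem_map_of_mem _ hx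
    rw [← Ideal.mem_comap, Ideal.comap_map_of_surjective _ Ideal.Quotient.mk_surjective,
      ← RingHom.ker_eq_comap_bot, Ideal.mk_ker] at h1
    exact h1

end Groth.Agent.S13972
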