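import Groth.Statements.S13975
import Groth.Agent.H02CA.HomTan.Aut

set_option autoImplicit false
set_option linter.style.haveILetI false
set_option backward.isDefEq.respectTransparency false
universe u
open CategoryTheory CategoryTheory.Limits AlgebraicGeometry
open Deform Groth.Agent.H02CA.HomTan

namespace Groth.Agent.S13975

/-- Let k be a field and X₀ a locally Noetherian k-scheme, and let X_ε be the trivial first-order
deformation X₀ ×_k Spec k[ε], presented by a cartesian square with projections q : X_ε → X₀ and p :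
X_ε → Spec k[ε], together with the closed immersion i : X₀ → X_ε over ε = 0 which is a section of q.
Then the infinitesimal automorphisms of X₀ — automorphisms of X_ε over Spec k[ε] that restrict to
the identity of X₀ along i — form a group isomorphic to the additive group of derivations
Der_k(O_{X₀}, O_{X₀}) = Hom_{O_{X₀}}(Ω_{X₀/k}, O_{X₀}): there is a bijection taking composition to
addition. -/
theorem result (k : Type u) [Field k]
    (X₀ : Scheme.{u}) [IsLocallyNoetherian X₀] (x : X₀ ⟶ Spec (CommRingCat.of k))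
    (Xε : Scheme.{u}) (q : Xε ⟶ X₀) (p : Xε ⟶ Spec (CommRingCat.of (DualNumber k)))
    (hsq : IsPullback q p x (Spec.map (CommRingCat.ofHom (algebraMap k (DualNumber k)))))
    (i : X₀ ⟶ Xε) (hiq : i ≫ q = 𝟙 X₀)
    (hip : i ≫ p = x ≫ Spec.map (CommRingCat.ofHom (TrivSqZeroExt.fstHom k k k).toRingHom)) :
    ∃ e : {φ : Xε ≅ Xε // φ.hom ≫ p = p ∧ i ≫ φ.hom = i} ≃ (Omega.sheaf x ⟶ Coh.structureModule X₀),
      ∀ φ ψ χ : {φ : Xε ≅ Xε // φ.hom ≫ p = p ∧ i ≫ φ.hom = i},
        φ.1 ≪≫ ψ.1 = χ.1 → e χ = e φ + e ψ := by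
  haveI : QuasiSeparated x := inferInstance
  let iso := hsq.isoPullback
  have h1 : iso.hom ≫ Groth.Agent.H02CA.HomTan.q x k = q := hsq.isoPullback_hom_fst
  have h2 : iso.hom ≫ pr x k = p := hsq.isoPullback_hom_snd
  have hi : i ≫ iso.hom = inc x k := by
    apply pullback.hom_ext
    · rw [Category.assoc, h1, hiq, inc_q]
    · rw [Category.assoc, h2, hip, inc_pr]
  have hi' : inc x k ≫ iso.inv = i := by rw [← hi, Category.assoc, iso.hom_inv_id, Category.comp_id]
  let A := {φ : Xε ≅ Xε // φ.hom ≫ p = p ∧ i ≫ φ.hom = i}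
  let toExt : A → Ext x (𝟙 X₀) x := fun φ => Ext.ofEndo x (iso.inv ≫ φ.1.hom ≫ iso.hom)
    (by rw [← Category.assoc, hi', ← Category.assoc, φ.2.2, hi])
    (by rw [Category.assoc, Category.assoc, h2, φ.2.1, ← h2, iso.inv_hom_id_assoc])
  have htoExt : ∀ φ : A, (toExt φ).endo x = iso.inv ≫ φ.1.hom ≫ iso.hom := fun φ => Ext.endo_ofEndo x _ _ _
  have hbij : Function.Bijective toExt := by
    refine ⟨fun φ ψ h => Subtype.ext (CategoryTheory.Iso.ext ?_), fun b => ?_⟩
    · have e : (toExt φ).endo x = (toExt ψ).endo x := by rw [h]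
      rw [htoExt, htoExt] at e
      exact (cancel_mono iso.hom).1 ((cancel_epi iso.inv).1 e)
    · haveI := b.endo_bijective_aux x
      refine ⟨⟨iso ≪≫ asIso (b.endo x) ≪≫ iso.symm, ?_, ?_⟩, ?_⟩
      · show (iso.hom ≫ b.endo x ≫ iso.inv) ≫ p = p
        rw [← h2, Category.assoc, Category.assoc, iso.inv_hom_id_assoc, b.endo_pr]
      · show i ≫ iso.hom ≫ b.endo x ≫ iso.inv = i
        rw [← Category.assoc i, hi, ← Category.assoc, b.inc_endo, hi']
      · refine Ext.ext ?_
        show (iso.inv ≫ (iso.hom ≫ b.endo x ≫ iso.inv) ≫ iso.hom) ≫ _ = b.hom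
        simp only [Category.assoc, iso.inv_hom_id_assoc, Ext.endo_q]
  obtain ⟨e, -⟩ := exists_homDersEquiv x (Coh.structureModule X₀)
  refine ⟨(Equiv.ofBijective toExt hbij).trans
    ((Equiv.ofBijective _ (Ext.der_bijective x (Category.id_comp x))).trans e.symm.toEquiv), ?_⟩
  intro φ ψ χ h
  show e.symm ((toExt χ).der x _) = e.symm ((toExt φ).der x _) + e.symm ((toExt ψ).der x _)
  rw [← map_add, ← Ext.der_comp]
  congr 2
  refine Ext.ext ?_
  have hc : ((toExt φ).comp x (toExt ψ)).endo x = (toExt χ).endo x := by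
    rw [Ext.endo_comp, htoExt, htoExt, htoExt, ← h]
    simp
  rw [← Ext.endo_q x (toExt χ), ← Ext.endo_q x ((toExt φ).comp x (toExt ψ)), hc]

end Groth.Agent.S13975
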