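import Groth.Statements.S13978
import Groth.Agent.H24Art.Basic
import Mathlib.LinearAlgebra.Dimension.Finrank
import Mathlib.Tactic

set_option autoImplicit false
set_option linter.style.haveILetI false
universe u v
open CategoryTheory
open scoped TensorProduct
open ArtFun ArtFun.ObsTheory

namespace Groth.Agent.S13978

/-- For obstruction theories of functors in the vector-space form, let k be a field, F a functor on
Artinian local k-algebras with residue field k and (V, ω) an obstruction theory for F — for each
surjection p : C' → C whose kernel J is killed by the maximal ideal and each u ∈ F(C) an obstruction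
ω(p, u) ∈ V ⊗_k J, zero exactly when u lifts, and compatible with replacing C' → C by C'/K → C for
ideals K ≤ J. Let Ω ⊆ V be the subspace spanned by the obstructions along tiny extensions (those p
whose kernel is one-dimensional), transported into V by the isomorphisms V ⊗ J ≅ V coming from
linear isomorphisms J ≅ k. Then for every p and u the obstruction ω(p, u) lies in the image of Ω ⊗_k
J → V ⊗_k J. (The published statement is for deformation categories and obstruction theories
functorial along all morphisms of extensions; this row assumes functoriality along quotients C'/K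
only, which is all its proof uses, and no condition on F.) -/
theorem result {k : Type u} [Field k]
    {F : ArtFun.Art k k ⥤ Type v} {V : Type u} [AddCommGroup V] [Module k V]
    (T : ArtFun.ObsTheory F V) {C' C : ArtFun.Art k k} (p : C' ⟶ C) (hp : ArtFun.Art.IsSemismallExt p)
    (u : F.obj C) :
    T.obs p hp u ∈ LinearMap.range (LinearMap.rTensor (↥(RingHom.ker p.toAlgHom))
      (Submodule.span k {v : V | ∃ (B' B : ArtFun.Art k k) (t : B' ⟶ B) (ht : ArtFun.Art.IsSmallExt t)
          (w : F.obj B) (φ : ↥(RingHom.ker t.toAlgHom) ≃ₗ[k] k),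
          v = TensorProduct.rid k V (LinearMap.lTensor V φ.toLinearMap (T.obs t ht.isSemismallExt w))}).subtype) := by
    classical
    set Ω : Submodule k V := Submodule.span k {v : V | ∃ (B' B : ArtFun.Art k k) (t : B' ⟶ B) (ht : ArtFun.Art.IsSmallExt t)
            (w : F.obj B) (φ : ↥(RingHom.ker t.toAlgHom) ≃ₗ[k] k),
            v = TensorProduct.rid k V (LinearMap.lTensor V φ.toLinearMap (T.obs t ht.isSemismallExt w))}
    set J := RingHom.ker p.toAlgHom with hJdef
    set x := T.obs p hp u
    have hJm : J ≤ IsLocalRing.maximalIdeal C' :=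
      IsLocalRing.le_maximalIdeal (RingHom.ker_ne_top _)
    have hscal : ∀ (c : C') (j : C'), j ∈ J → c * j = algebraMap k C' (C'.res c) * j := fun c j hj => by
      have hm : c - algebraMap k C' (C'.res c) ∈ IsLocalRing.maximalIdeal C' :=
        (C'.mem_maximalIdeal_iff _).mpr (by rw [map_sub, AlgHom.commutes]; simp)
      have h0 := Ideal.mul_mem_mul hm hj
      rw [hp.2, Ideal.mem_bot, sub_mul, sub_eq_zero] at h0
      exact h0
    have hlam : ∀ l : ↥J →ₗ[k] k, TensorProduct.rid k V (LinearMap.lTensor V l x) ∈ Ω := by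
      intro l
      by_cases hl : l = 0
      · simp [hl]
      let K : Ideal C' :=
        { carrier := {j | ∃ h : j ∈ J, l ⟨j, h⟩ = 0}
          add_mem' := fun ⟨ha, ha'⟩ ⟨hb, hb'⟩ => ⟨add_mem ha hb, by
            rw [show (⟨_, add_mem ha hb⟩ : ↥J) = ⟨_, ha⟩ + ⟨_, hb⟩ from rfl, map_add, ha', hb', add_zero]⟩
          zero_mem' := ⟨zero_mem J, by rw [show (⟨(0 : C'), zero_mem J⟩ : ↥J) = 0 from rfl, map_zero]⟩
          smul_mem' := fun c a ⟨ha, ha'⟩ => ⟨J.mul_mem_left c ha, by
            rw [show (⟨c • a, J.mul_mem_left c ha⟩ : ↥J) = C'.res c • ⟨a, ha⟩ from Subtype.ext ((hscal c a ha).trans (Algebra.smul_def _ _).symm), map_smul, ha', smul_zero]⟩ }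
      have hKJ : K ≤ J := fun j hj => hj.1
      have hK : K ≤ IsLocalRing.maximalIdeal C' := hKJ.trans hJm
      let t := ArtFun.Art.quotFactor hK p hKJ
      have htsurj : Function.Surjective t := fun c => by
        obtain ⟨a, rfl⟩ := hp.1 c
        exact ⟨Ideal.Quotient.mk K a, rfl⟩
      obtain ⟨j₀, hj₀⟩ : ∃ j : ↥J, l j = 1 := by
        obtain ⟨j, hj⟩ : ∃ j, l j ≠ 0 := by
          by_contra h
          push_neg at h
          exact hl (LinearMap.ext h)
        exact ⟨(l j)⁻¹ • j, by rw [map_smul, smul_eq_mul, inv_mul_cancel₀ hj]⟩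
      let q : ↥J →ₗ[k] ↥(RingHom.ker t.toAlgHom) := (ArtFun.Art.kerToQuot hK p hKJ).restrictScalars k
      have hqs : Function.Surjective q := by
        rintro ⟨z, hz⟩
        obtain ⟨a, rfl⟩ := Ideal.Quotient.mk_surjective z
        exact ⟨⟨a, RingHom.mem_ker.mp hz⟩, Subtype.ext rfl⟩
      have hqk : LinearMap.ker q = LinearMap.ker l := by
        ext ⟨j, hj⟩
        refine ⟨fun h => ?_, fun h => Subtype.ext (Ideal.Quotient.eq_zero_iff_mem.mpr ⟨hj, h⟩)⟩
        obtain ⟨_, h'⟩ := Ideal.Quotient.eq_zero_iff_mem.mp (congrArg Subtype.val (LinearMap.mem_ker.mp h))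
        exact h'
      have hls : Function.Surjective l := fun c => ⟨c • j₀, by rw [map_smul, hj₀, smul_eq_mul, mul_one]⟩
      let e : ↥(RingHom.ker t.toAlgHom) ≃ₗ[k] k :=
        (q.quotKerEquivOfSurjective hqs).symm ≪≫ₗ Submodule.quotEquivOfEq _ _ hqk ≪≫ₗ
          l.quotKerEquivOfSurjective hls
      have heq : e.toLinearMap ∘ₗ q = l := LinearMap.ext fun j => by
        have h1 : (q.quotKerEquivOfSurjective hqs).symm (q j) = Submodule.Quotient.mk j := by
          rw [LinearEquiv.symm_apply_eq]; rfl
        change l.quotKerEquivOfSurjective hls (Submodule.quotEquivOfEq _ _ hqk ((q.quotKerEquivOfSurjective hqs).symm (q j))) = l j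
        rw [h1]; rfl
      have hmt : IsLocalRing.maximalIdeal (ArtFun.Art.quot C' K hK) * RingHom.ker t.toAlgHom = ⊥ := by
        rw [eq_bot_iff, Ideal.mul_le]
        intro a ha b hb
        obtain ⟨a, rfl⟩ := Ideal.Quotient.mk_surjective a
        obtain ⟨b, rfl⟩ := Ideal.Quotient.mk_surjective b
        have hb' : b ∈ J := RingHom.mem_ker.mp hb
        have ha' : a ∈ IsLocalRing.maximalIdeal C' := (C'.mem_maximalIdeal_iff a).mpr
          (((ArtFun.Art.quot C' K hK).mem_maximalIdeal_iff _).mp ha)
        have h0 := Ideal.mul_mem_mul ha' hb'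
        rw [hp.2, Ideal.mem_bot] at h0
        exact Ideal.mem_bot.mpr ((map_mul (Ideal.Quotient.mk K) a b).symm.trans (by rw [h0]; exact map_zero _))
      have hsmall : ArtFun.Art.IsSmallExt t := by
        refine ⟨htsurj, fun h => ?_, ⟨⟨(q j₀).1, le_antisymm (fun z hz => ?_) ?_⟩⟩, hmt⟩
        · have h1 : q j₀ = 0 := Subtype.ext (by simpa [h] using (q j₀).2)
          have h2 := LinearMap.congr_fun heq j₀
          rw [LinearMap.comp_apply, h1, map_zero, hj₀] at h2
          exact zero_ne_one h2
        · have h1 : (⟨z, hz⟩ : ↥(RingHom.ker t.toAlgHom)) = e ⟨z, hz⟩ • q j₀ := e.injective (by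
            rw [map_smul, show e (q j₀) = 1 from (LinearMap.congr_fun heq j₀).trans hj₀, smul_eq_mul, mul_one])
          refine Ideal.mem_span_singleton'.mpr ⟨algebraMap k _ (e ⟨z, hz⟩), ?_⟩
          have h2 := congrArg Subtype.val h1
          rw [SetLike.val_smul_of_tower, Algebra.smul_def] at h2
          exact h2.symm
        · rw [Submodule.span_le, Set.singleton_subset_iff]; exact (q j₀).2
      refine Submodule.subset_span ⟨_, _, t, hsmall, u, e, ?_⟩
      rw [show T.obs t hsmall.isSemismallExt u = LinearMap.lTensor V q x from T.obs_quot p hp K hK hKJ _ u,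
        ← LinearMap.lTensor_comp_apply, heq]
    have hJfin : Module.Finite k ↥J :=
      haveI : Module.Finite k (C' : Type u) := Groth.Agent.H24Art.moduleFinite C'
      Module.Finite.of_injective (J.subtype.restrictScalars k) Subtype.val_injective
    let b := Module.finBasis k ↥J
    have hx : x = ∑ i, TensorProduct.rid k V (LinearMap.lTensor V (b.coord i) x) ⊗ₜ[k] b i := by
      generalize x = y
      induction y using TensorProduct.induction_on with
      | zero => simp
      | add y z hy hz => simp only [map_add, TensorProduct.add_tmul, Finset.sum_add_distrib, ← hy, ← hz]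
      | tmul v j =>
        simp only [LinearMap.lTensor_tmul, TensorProduct.rid_tmul, TensorProduct.smul_tmul, ← TensorProduct.tmul_sum]
        rw [show ∑ i, b.coord i j • b i = j from b.sum_repr j]
    refine hx ▸ sum_mem fun i _ => ⟨(⟨_, hlam (b.coord i)⟩ : ↥Ω) ⊗ₜ[k] b i, rfl⟩

end Groth.Agent.S13978
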