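import Groth.Statements.S13981
import Groth.Agent.H24Art.Formal
import Groth.Prelude.Def_W4sfdMinVersal

set_option autoImplicit false
universe u v
open CategoryTheory
open ArtFun

namespace Groth.Agent.S13981

/-- Let F be a functor on Artinian local Λ-algebras with residue field k (Λ Noetherian, Λ → k finite and
surjective) satisfying (RS) — the comparison map for A₁ ×_A A₂ is bijective whenever A₂ → A is
surjective — and let ξ be a versal family of F over a complete local Noetherian Λ-algebra R with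
residue field k. Then the lifting property defining versality also holds along surjections of
complete local Noetherian algebras: if g : A' → A is such a surjection, η' is a formal element of F
over A' (a compatible system over the truncations A'/m^(n+1)) and φ : R → A is a map under which the
formal element of ξ becomes the pushforward of η' along g, then φ lifts to ψ : R → A' with g ∘ ψ = φ
and with ξ inducing η' along ψ. (The published statement takes Λ complete local Noetherian with
residue field k; its proof does not use completeness of Λ, and this row assumes only Λ Noetherian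
with Λ → k surjective.) -/
theorem result {Λ : Type u} {k : Type u} [CommRing Λ] [Field k]
    [Algebra Λ k] [IsNoetherianRing Λ] [Module.Finite Λ k] (hΛ : Function.Surjective (algebraMap Λ k))
    {F : ArtFun.Art Λ k ⥤ Type v}
    (hRS : ∀ ⦃B A A₁ A₂ : ArtFun.Art Λ k⦄ (p₁ : B ⟶ A₁) (p₂ : B ⟶ A₂) (f₁ : A₁ ⟶ A) (f₂ : A₂ ⟶ A)
        (h : ArtFun.Art.IsFibreProd p₁ p₂ f₁ f₂), Function.Surjective f₂ → Function.Bijective (ArtFun.cmp F h))
    (R : ArtFun.CRing Λ k) (ξ : ArtFun.Family R.carrier R.res F) (hξ : ArtFun.IsVersal ξ)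
    (A' A : ArtFun.CRing Λ k) (g : A'.carrier →ₐ[Λ] A.carrier) (hg : A.res.comp g = A'.res)
    (hgs : Function.Surjective g) (η' : ArtFun.FormalElt F A')
    (φ : R.carrier →ₐ[Λ] A.carrier) (hφ : A.res.comp φ = R.res)
    (hsq : (ξ.along φ hφ).toFormalElt = η'.push g hg) :
    ∃ (ψ : R.carrier →ₐ[Λ] A'.carrier) (hψ : A'.res.comp ψ = R.res),
      g.comp ψ = φ ∧ (ξ.along ψ hψ).toFormalElt = η' := by
  classical
  let gn : ∀ n, A'.trunc n ⟶ A.trunc n := fun n => ArtFun.CRing.truncMapOfHom g hg n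
  let φn : ∀ n, ArtFun.HomSet R.carrier R.res (A.trunc n) := fun n =>
    ⟨(A.truncHom n).1.comp φ, by rw [← AlgHom.comp_assoc, (A.truncHom n).2, hφ]⟩
  have hφn : ∀ n, ξ.app _ (φn n) = F.map (gn n) (η'.elt n) := fun n =>
    congrArg (fun u : ArtFun.FormalElt F A => u.elt n) hsq
  have hmax : (IsLocalRing.maximalIdeal A'.carrier).map g = IsLocalRing.maximalIdeal A.carrier := by
    refine le_antisymm (Ideal.map_le_iff_le_comap.mpr (ArtFun.CRing.maximalIdeal_le_comap g hg))
      fun a ha => ?_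
    obtain ⟨a', rfl⟩ := hgs a
    refine Ideal.mem_map_of_mem _ ?_
    rw [ArtFun.CRing.mem_maximalIdeal_iff, ← ArtFun.CRing.res_comp_apply g hg]
    exact (A.mem_maximalIdeal_iff _).mp ha
  let T : ℕ → Type u := fun n =>
    {ψ : ArtFun.HomSet R.carrier R.res (A'.trunc n) //
      ArtFun.HomSet.map (gn n) ψ = φn n ∧ ξ.app _ ψ = η'.elt n}
  have base : Nonempty (T 0) := by
    haveI := Groth.Agent.H24Art.isIso_toBase_trunc_zero A
    haveI := Groth.Agent.H24Art.isIso_toBase_trunc_zero A'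
    haveI : IsIso (gn 0) := by
      have e : gn 0 = ArtFun.Art.toBase (A'.trunc 0) ≫ inv (ArtFun.Art.toBase (A.trunc 0)) := by
        rw [IsIso.eq_comp_inv]; exact ArtFun.Art.eq_toBase _
      rw [e]; infer_instance
    refine ⟨⟨ArtFun.HomSet.map (inv (gn 0)) (φn 0), Subtype.ext (AlgHom.ext fun r => ?_), ?_⟩⟩
    · change (inv (gn 0) ≫ gn 0) ((φn 0).1 r) = (φn 0).1 r
      rw [IsIso.inv_hom_id]; rfl
    · rw [ξ.natural, hφn, ← Groth.Agent.H24Art.map_comp_apply', IsIso.hom_inv_id,
        Groth.Agent.H24Art.map_id_apply']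
  have step : ∀ n (ψ : T n), ∃ ψ' : T (n + 1), ArtFun.HomSet.map (A'.truncMap n) ψ'.1 = ψ.1 := by
    rintro n ⟨ψ, hψ₁, hψ₂⟩
    obtain ⟨P, q₁, q₂, hP⟩ := Groth.Agent.H24Art.exists_fibre_of_surjective (gn n) (A.truncMap n)
      (Groth.Agent.H24Art.truncMap_surjective A n)
    obtain ⟨r, hr₁, hr₂⟩ := Groth.Agent.H24Art.IsFibreProd.exists_lift hP (A'.truncMap n) (gn (n + 1))
      (ArtFun.CRing.truncMapOfHom_truncMap g hg n).symm
    have hrs : Function.Surjective r := by
      intro z
      obtain ⟨a, ha⟩ := Ideal.Quotient.mk_surjective (q₁ z)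
      obtain ⟨b, hb⟩ := Ideal.Quotient.mk_surjective (q₂ z)
      have hab : Ideal.Quotient.mk (A.mpow n) (g a) = Ideal.Quotient.mk (A.mpow n) b := by
        have := hP.w_apply z
        rw [← ha, ← hb] at this
        exact this
      have hmem : b - g a ∈ (A'.mpow n).map g := by
        rw [ArtFun.CRing.mpow, Ideal.map_pow, hmax]
        exact Ideal.Quotient.eq.mp hab.symm
      obtain ⟨c, hc, hgc⟩ := (Ideal.mem_map_iff_of_surjective g hgs).mp hmem
      refine ⟨Ideal.Quotient.mk (A'.mpow (n + 1)) (a + c), hP.inj _ _ ?_ ?_⟩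
      · change (r ≫ q₁) _ = _
        rw [hr₁, ← ha]
        exact Ideal.Quotient.eq.mpr (by rwa [add_sub_cancel_left])
      · change (r ≫ q₂) _ = _
        rw [hr₂, ← hb]
        refine congrArg (Ideal.Quotient.mk (A.mpow (n + 1))) ?_
        change g (a + c) = b
        rw [map_add, hgc, add_sub_cancel]
    have hw : ArtFun.HomSet.map (gn n) ψ = ArtFun.HomSet.map (A.truncMap n) (φn (n + 1)) := by
      rw [hψ₁]; exact Subtype.ext (AlgHom.ext fun _ => rfl)
    obtain ⟨χ, hχ₁, hχ₂⟩ := Groth.Agent.H24Art.exists_homSet_pair hP ψ (φn (n + 1)) hw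
    have hξχ : F.map r (η'.elt (n + 1)) = ξ.app P χ :=
      (hRS q₁ q₂ _ _ hP (Groth.Agent.H24Art.truncMap_surjective A n)).1 (FibProd.ext
        (by change F.map q₁ (F.map r _) = F.map q₁ (ξ.app P χ)
            rw [← Groth.Agent.H24Art.map_comp_apply', hr₁, η'.compat, ← ξ.natural, hχ₁, hψ₂])
        (by change F.map q₂ (F.map r _) = F.map q₂ (ξ.app P χ)
            rw [← Groth.Agent.H24Art.map_comp_apply', hr₂, ← ξ.natural, hχ₂, hφn]))
    obtain ⟨ψ', h₁, h₂⟩ := hξ r hrs χ (η'.elt (n + 1)) hξχ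
    refine ⟨⟨ψ', ?_, h₂⟩, ?_⟩
    · change ArtFun.HomSet.map (gn (n + 1)) ψ' = φn (n + 1)
      rw [← hχ₂, ← h₁, ← hr₂]; exact Subtype.ext (AlgHom.ext fun _ => rfl)
    · change ArtFun.HomSet.map (A'.truncMap n) ψ' = ψ
      rw [← hχ₁, ← h₁, ← hr₁]; exact Subtype.ext (AlgHom.ext fun _ => rfl)
  choose st hst using step
  obtain ⟨ψ₀⟩ := base
  let ψn : ∀ n, T n := Nat.rec (motive := T) ψ₀ (fun n x => st n x)
  obtain ⟨ψ, hψ, hψn⟩ := Groth.Agent.H24Art.exists_hom_of_system A' (fun n => (ψn n).1)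
    (fun n => hst n (ψn n))
  refine ⟨ψ, hψ, Groth.Agent.H24Art.hom_ext_of_trunc A fun n => ?_, ArtFun.FormalElt.ext' fun n => ?_⟩
  · have h := congrArg (fun t => t.1) (ψn n).2.1
    change ((gn n).toAlgHom.comp (ψn n).1.1) = (φn n).1 at h
    rw [← hψn n] at h
    exact h
  · change ξ.app _ ⟨(A'.truncHom n).1.comp ψ, _⟩ = η'.elt n
    rw [← (ψn n).2.2]
    exact congrArg _ (Subtype.ext (hψn n))

end Groth.Agent.S13981
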