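import Groth.Statements.S13985
-- import your own Groth.Agent.* helpers here

set_option autoImplicit false
universe u
open CategoryTheory
open CohGab

namespace Groth.Agent.S13985




/-- For a ring A, the canonical map from the centre of A to the centre of the category of finitely
generated left A-modules (the endomorphism ring of its identity functor), sending a to
multiplication by a, is bijective: every natural endomorphism of the identity functor acts on each
finitely generated module as multiplication by a unique element of A, and that element is central.
(The published statement calls this map an isomorphism of commutative rings; this row states its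
bijectivity.) -/
theorem result (A : Type u) [Ring A]
    (φ : 𝟭 (FGModuleCat.{u} A) ⟶ 𝟭 (FGModuleCat.{u} A)) :
    ∃! a : A, a ∈ Subring.center A ∧
      ∀ (M : FGModuleCat.{u} A) (x : M), (φ.app M).hom.hom x = a • x := by

  let R₀ : FGModuleCat.{u} A := FGModuleCat.of A A
  let a : A := (φ.app R₀).hom.hom (1 : A)
  have h1 : ∀ (M : FGModuleCat.{u} A) (x : M), (φ.app M).hom.hom x = a • x := by
    intro M x
    let g : R₀ ⟶ M := FGModuleCat.ofHom (LinearMap.toSpanSingleton A M x)
    have h := LinearMap.congr_fun (congrArg (fun k : R₀ ⟶ M => k.hom.hom) (φ.naturality g)) (1 : A)
    change (φ.app M).hom.hom ((1 : A) • x) = a • x at h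
    rwa [one_smul] at h
  refine ⟨a, ⟨Subring.mem_center_iff.mpr fun b => ?_, h1⟩, fun a' ha' => ?_⟩
  · have h := h1 R₀ (b : A)
    have h' : (φ.app R₀).hom.hom (b • (1 : A)) = b • a := map_smul _ b (1 : A)
    rw [smul_eq_mul, mul_one] at h'
    exact (h'.symm.trans h)
  · have h := ha'.2 R₀ (1 : A)
    exact ((mul_one a').symm.trans h.symm)


end Groth.Agent.S13985
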