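import Groth.Statements.S13987
import Groth.Agent.LeadDev.Stalks
import Groth.Agent.S2250
import Mathlib.CategoryTheory.Localization.CalculusOfFractions
-- import your own Groth.Agent.* helpers here

set_option autoImplicit false
set_option linter.style.haveILetI false
set_option linter.unusedSectionVars false
set_option linter.unusedVariables false
set_option backward.isDefEq.respectTransparency false
universe u
open CategoryTheory CategoryTheory.Limits AlgebraicGeometry
open CohGab

namespace Groth.Agent.S13987

open CategoryTheory CategoryTheory.Limits AlgebraicGeometry TopologicalSpace Opposite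

variable {X : Scheme.{u}} [AlgebraicGeometry.IsNoetherian X] (U : X.Opens)

/-- Coherent modules. -/
abbrev CohCat (X : Scheme.{u}) := ObjectProperty.FullSubcategory (fun M : X.Modules => Coh.IsCoh M)

theorem isZero_restrict_iff (M : X.Modules) :
    IsZero ((Scheme.Modules.restrictFunctor U.ι).obj M) ↔ CohB1.support M ⊆ (↑U : Set X)ᶜ := by
  constructor
  · intro h x hx hxU
    exact LeadDev.notMem_support_of_isZero_restrict U.ι h ⟨⟨x, hxU⟩, rfl⟩ hx
  · intro h
    refine LeadDev.isZero_of_sections fun O s => ?_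
    let t : Γ(M, U.ι ''ᵁ O) := s
    change t = 0
    refine TopCat.Presheaf.section_ext (H10Coh.sheafOf M) _ _ _ fun x hx => ?_
    have hxM : x ∉ CohB1.support M := fun hs => h hs (U.ι_image_top.le (U.ι.image_mono le_top hx))
    haveI : Subsingleton (M.presheaf.stalk x) := not_not.1 hxM
    exact Subsingleton.elim (α := M.presheaf.stalk x) _ _

/-- Morphisms with kernel and cokernel supported off `U`. -/
abbrev W : MorphismProperty (CohCat X) := fun A B f =>
  CohB1.support (kernel f.hom) ⊆ (↑U : Set X)ᶜ ∧ CohB1.support (cokernel f.hom) ⊆ (↑U : Set X)ᶜ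

theorem W_iff {A B : CohCat X} (f : A ⟶ B) :
    W U f ↔ IsIso ((Scheme.Modules.restrictFunctor U.ι).map f.hom) := by
  let R := Scheme.Modules.restrictFunctor U.ι
  haveI : PreservesFiniteLimits R := inferInstance
  show (_ ∧ _) ↔ _
  rw [← isZero_restrict_iff, ← isZero_restrict_iff]
  constructor
  · rintro ⟨h1, h2⟩
    haveI : Mono (R.map f.hom) :=
      Preadditive.mono_of_kernel_zero ((h1.of_iso (PreservesKernel.iso R f.hom).symm).eq_of_src _ _)
    haveI : Epi (R.map f.hom) :=
      Preadditive.epi_of_cokernel_zero ((h2.of_iso (PreservesCokernel.iso R f.hom).symm).eq_of_tgt _ _)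
    exact isIso_of_mono_of_epi _
  · intro h
    exact ⟨(isZero_kernel_of_mono (R.map f.hom)).of_iso (PreservesKernel.iso R f.hom),
      (isZero_cokernel_of_epi (R.map f.hom)).of_iso (PreservesCokernel.iso R f.hom)⟩

instance isMultiplicative_W : (W U).IsMultiplicative where
  id_mem A := (W_iff U _).2 (by
    rw [show (𝟙 A : A ⟶ A).hom = 𝟙 A.obj from rfl, CategoryTheory.Functor.map_id]; infer_instance)
  comp_mem f g hf hg := (W_iff U _).2 (by
    haveI := (W_iff U f).1 hf
    haveI := (W_iff U g).1 hg
    rw [show (f ≫ g).hom = f.hom ≫ g.hom from rfl, Functor.map_comp]; infer_instance)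

theorem W_kernelι {A B : CohCat X} (d : A.obj ⟶ B.obj)
    (hd : (Scheme.Modules.restrictFunctor U.ι).map d = 0) :
    W U (ObjectProperty.homMk (X := (⟨kernel d, H10Coh.isCoh_kernel d A.property B.property.1⟩ : CohCat X))
      (Y := A) (kernel.ι d)) := by
  let R := Scheme.Modules.restrictFunctor U.ι
  haveI : PreservesFiniteLimits R := inferInstance
  haveI : IsIso (kernel.ι (R.map d)) :=
    ⟨kernel.lift _ (𝟙 _) (by simp [R, hd]), by rw [← cancel_mono (kernel.ι (R.map d))]; simp, by simp⟩
  refine (W_iff U _).2 ?_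
  change IsIso (R.map (kernel.ι d))
  exact (isIso_comp_left_iff (PreservesKernel.iso R d).inv (R.map (kernel.ι d))).1
    ((PreservesKernel.iso_inv_ι R d).symm ▸ inferInstance)

instance hasRightCalculus_W : (W U).HasRightCalculusOfFractions where
  exists_rightFraction := by
    intro A B φ
    let R := Scheme.Modules.restrictFunctor U.ι
    haveI : PreservesFiniteLimits R := inferInstance
    have hiso : IsIso (R.map φ.s.hom) := (W_iff U _).1 φ.hs
    let d : A.obj ⊞ B.obj ⟶ φ.Y'.obj := biprod.desc φ.f.hom (-φ.s.hom)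
    let K : CohCat X := ⟨kernel d, H10Coh.isCoh_kernel d (LeadDev.isCoh_biprod A.property B.property) φ.Y'.property.1⟩
    let s : K ⟶ A := ObjectProperty.homMk (kernel.ι d ≫ biprod.fst)
    let f : K ⟶ B := ObjectProperty.homMk (kernel.ι d ≫ biprod.snd)
    have hsq : s.hom ≫ φ.f.hom = f.hom ≫ φ.s.hom := by
      have hd' : d = biprod.fst ≫ φ.f.hom - biprod.snd ≫ φ.s.hom := by
        apply biprod.hom_ext' <;> simp [d]
      have h : kernel.ι d ≫ (biprod.fst ≫ φ.f.hom - biprod.snd ≫ φ.s.hom) = 0 :=
        (congrArg (kernel.ι d ≫ ·) hd').symm.trans (kernel.condition d)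
      simpa [s, f, Preadditive.comp_sub, sub_eq_zero] using h
    have hs : W U s := by
      refine (W_iff U _).2 ?_
      let g : R.obj A.obj ⟶ R.obj (A.obj ⊞ B.obj) :=
        R.map biprod.inl + R.map φ.f.hom ≫ inv (R.map φ.s.hom) ≫ R.map biprod.inr
      have hg : g ≫ R.map d = 0 := by
        simp only [g, d, Preadditive.add_comp, Category.assoc, ← R.map_comp, biprod.inl_desc, biprod.inr_desc,
          R.map_neg, Preadditive.comp_neg, IsIso.inv_hom_id, Category.comp_id, add_neg_cancel]
      let g' : R.obj A.obj ⟶ R.obj K.obj := kernel.lift (R.map d) g hg ≫ (PreservesKernel.iso R d).inv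
      have hg' : g' ≫ R.map (kernel.ι d) = g := by
        simp only [g', Category.assoc, PreservesKernel.iso_inv_ι, kernel.lift_ι]
      haveI : Mono (R.map (kernel.ι d)) := inferInstance
      refine ⟨g', ?_, ?_⟩
      · rw [← cancel_mono (R.map (kernel.ι d)), Category.id_comp, Category.assoc, hg']
        have hsqR : R.map s.hom ≫ R.map φ.f.hom = R.map f.hom ≫ R.map φ.s.hom := by
          rw [← R.map_comp, hsq, R.map_comp]
        change R.map s.hom ≫ g = _
        rw [Preadditive.comp_add, reassoc_of% hsqR, IsIso.hom_inv_id_assoc, ← R.map_comp, ← R.map_comp,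
          ← R.map_add]
        congr 1
        simp only [s, f, ObjectProperty.homMk_hom, Category.assoc, ← Preadditive.comp_add, biprod.total,
          Category.comp_id]
      · show g' ≫ R.map s.hom = 𝟙 _
        simp only [s, ObjectProperty.homMk_hom, R.map_comp, ← Category.assoc, hg']
        simp only [g, Preadditive.add_comp, Category.assoc, ← R.map_comp, biprod.inl_fst, biprod.inr_fst,
          R.map_id, R.map_zero, comp_zero, add_zero]
    exact ⟨{ X' := K, s := s, hs := hs, f := f }, ObjectProperty.hom_ext _ hsq⟩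
  ext := by
    intro A B B' f₁ f₂ s hs eq
    let R := Scheme.Modules.restrictFunctor U.ι
    haveI : PreservesFiniteLimits R := inferInstance
    have hiso : IsIso (R.map s.hom) := (W_iff U _).1 hs
    have hd : R.map (f₁.hom - f₂.hom) = 0 := by
      rw [← cancel_mono (R.map s.hom), zero_comp, ← R.map_comp, Preadditive.sub_comp]
      rw [show f₁.hom ≫ s.hom = f₂.hom ≫ s.hom from congrArg InducedCategory.Hom.hom eq, sub_self, R.map_zero]
    refine ⟨_, _, W_kernelι U (A := A) (B := B) (f₁.hom - f₂.hom) hd, ObjectProperty.hom_ext _ ?_⟩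
    change kernel.ι (f₁.hom - f₂.hom) ≫ f₁.hom = kernel.ι (f₁.hom - f₂.hom) ≫ f₂.hom
    rw [← sub_eq_zero, ← Preadditive.comp_sub, kernel.condition]



/-- Let X be a Noetherian scheme, Z ⊆ X a closed subset and U = X ∖ Z. Then restriction to U induces an
equivalence between the quotient abelian category Coh(X)/Coh_Z(X) (coherent modules modulo those
supported in Z) and Coh(U): the restriction functor Coh(X) ⥤ Coh(U) is a localization functor for
the class of morphisms of coherent O_X-modules whose kernel and cokernel (taken in O_X-modules) have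
support contained in Z. The hypothesis that restriction to U preserves coherence always holds and is
carried only to form the functor between the full subcategories. (The published statement is about
coherent sheaves twisted by a class in the second etale cohomology group of the units of the
structure sheaf; this row is its case of the trivial class, ordinary coherent sheaves.) -/
theorem result (X : Scheme.{u}) [IsNoetherian X]
    (U : X.Opens)
    (hres : ∀ M : X.Modules, Coh.IsCoh M → Coh.IsCoh ((Scheme.Modules.restrictFunctor U.ι).obj M)) :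
    (ObjectProperty.lift (fun N : (↑U : Scheme.{u}).Modules => Coh.IsCoh N)
        (ObjectProperty.ι (fun M : X.Modules => Coh.IsCoh M) ⋙ Scheme.Modules.restrictFunctor U.ι)
        (fun M => hres M.obj M.property)).IsLocalization
      (fun (A B : ObjectProperty.FullSubcategory (fun M : X.Modules => Coh.IsCoh M)) (f : A ⟶ B) =>
        CohB1.support (kernel f.hom) ⊆ (↑U : Set X)ᶜ ∧
          CohB1.support (cokernel f.hom) ⊆ (↑U : Set X)ᶜ) := by
  let R := Scheme.Modules.restrictFunctor U.ι
  haveI : PreservesFiniteLimits R := inferInstance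
  let L := ObjectProperty.lift (fun N : (↑U : Scheme.{u}).Modules => Coh.IsCoh N)
    (ObjectProperty.ι (fun M : X.Modules => Coh.IsCoh M) ⋙ R) (fun M => hres M.obj M.property)
  change L.IsLocalization (W U)
  have hinv : (W U).IsInvertedBy L := by
    intro A B f hf
    haveI : IsIso ((ObjectProperty.ι _).map (L.map f)) := (W_iff U f).1 hf
    exact isIso_of_reflects_iso (L.map f) (ObjectProperty.ι _)
  let G := Localization.Construction.lift L hinv
  have hobj : ∀ A : (W U).Localization, ∃ A' : CohCat X, (W U).Q.obj A' = A := fun A =>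
    (Localization.Construction.objEquiv (W U)).surjective A
  have hfull : G.Full := ⟨fun {A B} ψ => by
    obtain ⟨A, rfl⟩ := hobj A
    obtain ⟨B, rfl⟩ := hobj B
    obtain ⟨H, a, b, hH, -, ha, hb⟩ := LeadDev.exists_compare U.ι A.property B.property
      (show A.obj.restrict U.ι ⟶ B.obj.restrict U.ι from ψ.hom)
    let a' : (⟨H, hH⟩ : CohCat X) ⟶ A := ObjectProperty.homMk a
    let b' : (⟨H, hH⟩ : CohCat X) ⟶ B := ObjectProperty.homMk b
    have hW : W U a' := (W_iff U a').2 ha
    haveI : IsIso ((W U).Q.map a') := Localization.inverts (W U).Q (W U) _ hW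
    refine ⟨inv ((W U).Q.map a') ≫ (W U).Q.map b', ?_⟩
    rw [G.map_comp, Functor.map_inv, IsIso.inv_comp_eq]
    exact ObjectProperty.hom_ext _ hb⟩
  have hfaith : G.Faithful := ⟨fun {A B θ₁ θ₂} h => by
    obtain ⟨A, rfl⟩ := hobj A
    obtain ⟨B, rfl⟩ := hobj B
    obtain ⟨φ₁, h₁⟩ := Localization.exists_rightFraction (W U).Q (W U) θ₁
    subst h₁
    obtain ⟨φ₂, h₂⟩ := Localization.exists_rightFraction (W U).Q (W U) ((W U).Q.map φ₁.s ≫ θ₂)
    haveI := Localization.inverts (W U).Q (W U) φ₁.s φ₁.hs
    haveI := Localization.inverts (W U).Q (W U) φ₂.s φ₂.hs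
    have e₂ : (W U).Q.map φ₂.s ≫ (W U).Q.map φ₁.s ≫ θ₂ = (W U).Q.map φ₂.f := by
      rw [h₂, MorphismProperty.RightFraction.map_s_comp_map]
    have e₁ : (W U).Q.map φ₂.s ≫ (W U).Q.map φ₁.s ≫ φ₁.map (W U).Q (Localization.inverts _ _) =
        (W U).Q.map (φ₂.s ≫ φ₁.f) := by
      rw [MorphismProperty.RightFraction.map_s_comp_map, Functor.map_comp]
    rw [← cancel_epi ((W U).Q.map φ₁.s), ← cancel_epi ((W U).Q.map φ₂.s), e₂, e₁]
    have hR : R.map (φ₂.s ≫ φ₁.f).hom = R.map φ₂.f.hom := by
      have h' := congrArg G.map e₁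
      have h'' := congrArg G.map e₂
      rw [G.map_comp, G.map_comp] at h' h''
      rw [h] at h'
      have hG : ∀ {P P' : CohCat X} (q : P ⟶ P'), (G.map ((W U).Q.map q)).hom = R.map q.hom := fun q =>
        congrArg InducedCategory.Hom.hom ((Functor.congr_hom (Localization.Construction.fac L hinv) q).trans (by simp; rfl))
      rw [← hG, ← hG]
      exact congrArg InducedCategory.Hom.hom (h'.symm.trans h'')
    have hd : R.map ((φ₂.s ≫ φ₁.f).hom - φ₂.f.hom) = 0 := by rw [R.map_sub, hR, sub_self]
    have hW := W_kernelι U (A := φ₂.X') (B := B) ((φ₂.s ≫ φ₁.f).hom - φ₂.f.hom) hd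
    haveI := Localization.inverts (W U).Q (W U) _ hW
    rw [← cancel_epi ((W U).Q.map (ObjectProperty.homMk
      (X := (⟨kernel _, H10Coh.isCoh_kernel _ φ₂.X'.property B.property.1⟩ : CohCat X)) (Y := φ₂.X')
        (kernel.ι ((φ₂.s ≫ φ₁.f).hom - φ₂.f.hom)))), ← Functor.map_comp, ← Functor.map_comp]
    congr 1
    refine ObjectProperty.hom_ext _ ?_
    change kernel.ι _ ≫ (φ₂.s ≫ φ₁.f).hom = kernel.ι _ ≫ φ₂.f.hom
    rw [← sub_eq_zero, ← Preadditive.comp_sub, kernel.condition]⟩
  have hess : G.EssSurj := ⟨fun N => by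
    haveI : QuasiCompact U.ι := ⟨fun V hV hVc => U.ι.isOpenEmbedding.isInducing.isCompact_iff.2
      (TopologicalSpace.NoetherianSpace.isCompact _)⟩
    let F := (Scheme.Modules.pushforward U.ι).obj N.obj
    haveI : Coh.IsQCoh F := LeadDev.isQCoh_push_open U.ι N.obj N.property.1
    haveI : Coh.IsQCoh N.obj := N.property.1
    let c := (Scheme.Modules.restrictAdjunction U.ι).counit.app N.obj
    haveI : Mono (inv c) := inferInstance
    obtain ⟨G', i', e, -, hq, hft, -⟩ := Groth.Agent.S2250.result (X := X)
      (fun x => ⟨⊤, trivial, inferInstance⟩) U F N.obj (inv c) N.property.2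
    refine ⟨(W U).Q.obj ⟨G', hq, hft⟩, ⟨?_⟩⟩
    exact (ObjectProperty.fullyFaithfulι _).preimageIso (X := L.obj ⟨G', hq, hft⟩) (Y := N) e⟩
  exact { inverts := hinv, isEquivalence := { } }


end Groth.Agent.S13987
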