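import Groth.Statements.S13988
import Groth.Agent.S9515
import Groth.Agent.LeadAff.Chevalley
import Groth.Agent.H11Tilde.TwistPow
-- import your own Groth.Agent.* helpers here

set_option autoImplicit false
set_option linter.style.haveILetI false
set_option backward.isDefEq.respectTransparency false
set_option linter.unusedSectionVars false
universe u
open CategoryTheory AlgebraicGeometry
open CohGab

namespace Groth.Agent.S13988

open CategoryTheory CategoryTheory.Limits AlgebraicGeometry TopologicalSpace Opposite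

theorem eq_top_of_zeroLocus_empty {X : Scheme.{u}} (I : X.IdealSheafData) (W : X.affineOpens)
    (h : ∀ x ∈ (I.support : Set X), x ∉ W.1) : I.ideal W = ⊤ := by
  by_contra hne
  obtain ⟨p, hp, hle⟩ := Ideal.exists_le_maximal _ hne
  let x := W.2.fromSpec ⟨p, hp.isPrime⟩
  have hxW : x ∈ W.1 := by
    have := W.2.range_fromSpec
    exact this.le ⟨_, rfl⟩
  refine h x ((I.coe_support_inter W).ge ⟨?_, hxW⟩).1 hxW
  rw [Scheme.mem_zeroLocus_iff]
  intro a ha hxa
  have : (⟨p, hp.isPrime⟩ : PrimeSpectrum Γ(X, W.1)) ∈ W.2.fromSpec ⁻¹ᵁ X.basicOpen a := hxa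
  rw [W.2.fromSpec_preimage_basicOpen] at this
  exact this (hle ha)

variable {X : Scheme.{u}} [AlgebraicGeometry.IsNoetherian X]

/-- The module underlying the value of a natural transformation at a coherent module. -/
noncomputable abbrev at' (φ : 𝟭 (ObjectProperty.FullSubcategory (fun M : X.Modules => Coh.IsCoh M)) ⟶
    𝟭 (ObjectProperty.FullSubcategory (fun M : X.Modules => Coh.IsCoh M))) (M : X.Modules) (hM : Coh.IsCoh M) :
    M ⟶ M := (φ.app ⟨M, hM⟩).hom

variable (φ : 𝟭 (ObjectProperty.FullSubcategory (fun M : X.Modules => Coh.IsCoh M)) ⟶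
    𝟭 (ObjectProperty.FullSubcategory (fun M : X.Modules => Coh.IsCoh M)))

theorem at'_natural {M N : X.Modules} (hM : Coh.IsCoh M) (hN : Coh.IsCoh N) (f : M ⟶ N) :
    f ≫ at' φ N hN = at' φ M hM ≫ f :=
  congrArg InducedCategory.Hom.hom (φ.naturality (X := ⟨M, hM⟩) (Y := ⟨N, hN⟩) (ObjectProperty.homMk f))

/-- The global function of an endomorphism of the identity functor. -/
noncomputable def fn : Γ(X, ⊤) :=
  (at' φ (Coh.structureModule X) (LeadAff.isCoh_structureModule X)).app ⊤ (1 : Γ(X, ⊤))

theorem at'_structure (V : X.Opens) (c : Γ(X, V)) :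
    (at' φ (Coh.structureModule X) (LeadAff.isCoh_structureModule X)).app V
        (show Γ(Coh.structureModule X, V) from c) =
      (X.presheaf.map (homOfLE (le_top : V ≤ ⊤)).op (fn φ)) •
        (show Γ(Coh.structureModule X, V) from c) := by
  have h1 : (at' φ (Coh.structureModule X) (LeadAff.isCoh_structureModule X)).app V
      (show Γ(Coh.structureModule X, V) from (1 : Γ(X, V))) =
      (show Γ(Coh.structureModule X, V) from X.presheaf.map (homOfLE (le_top : V ≤ ⊤)).op (fn φ)) := by
    refine Eq.trans ?_ (congr($((Scheme.Modules.Hom.mapPresheaf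
      (at' φ (Coh.structureModule X) (LeadAff.isCoh_structureModule X))).naturality
        (homOfLE (le_top : V ≤ ⊤)).op) (1 : Γ(X, ⊤))))
    exact congrArg _ (map_one (X.presheaf.map (homOfLE (le_top : V ≤ ⊤)).op).hom).symm
  have h2 : (show Γ(Coh.structureModule X, V) from c) =
      c • (show Γ(Coh.structureModule X, V) from (1 : Γ(X, V))) := (mul_one c).symm
  conv_lhs => rw [h2, Scheme.Modules.Hom.app_smul, h1]
  exact mul_comm c _

theorem at'_sections (M : X.Modules) (hM : Coh.IsCoh M) (V : X.Opens) (hV : IsAffineOpen V)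
    (m : Γ(M, V.ι ''ᵁ ⊤)) :
    (at' φ M hM).app (V.ι ''ᵁ ⊤) m =
      (X.presheaf.map (homOfLE (le_top : V.ι ''ᵁ ⊤ ≤ ⊤)).op (fn φ)) • m := by
  let C : Closeds X := ⟨(V : Set X)ᶜ, V.2.isClosed_compl⟩
  let I := Scheme.IdealSheafData.vanishingIdeal C
  have hU : (V : Set X) = (I.support : Set X)ᶜ := by
    rw [Scheme.IdealSheafData.coe_support_vanishingIdeal]; exact (compl_compl _).symm
  let adj := Scheme.Modules.restrictAdjunction V.ι
  let g : Coh.structureModule X ⟶ (Scheme.Modules.pushforward V.ι).obj ((Scheme.Modules.restrictFunctor V.ι).obj M) :=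
    H11Tilde.homOfGlobal _ (show Γ((Scheme.Modules.pushforward V.ι).obj (M.restrict V.ι), ⊤) from m)
  let φ₀ := (adj.homEquiv _ _).symm g
  obtain ⟨n, ψ, hψ⟩ := Groth.Agent.S9515.result X M (Coh.structureModule X) hM.1
    (LeadAff.isCoh_structureModule X) I V hU φ₀
  have hW : IsAffineOpen (V.ι ''ᵁ ⊤) := V.ι_image_top.symm ▸ hV
  have hWle : V.ι ''ᵁ ⊤ ≤ ⊤ := le_top
  obtain ⟨s, hs⟩ : ∃ s, (Dual3.idealMulι (I ^ n) (Coh.structureModule X)).app (V.ι ''ᵁ ⊤) s =
      (show Γ(Coh.structureModule X, V.ι ''ᵁ ⊤) from (1 : Γ(X, V.ι ''ᵁ ⊤))) := by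
    have h1 : (1 : Γ(X, V.ι ''ᵁ ⊤)) ∈ (I ^ n).ideal ⟨_, hW⟩ := by
      have htop : I.ideal ⟨V.ι ''ᵁ ⊤, hW⟩ = ⊤ := by
        refine eq_top_of_zeroLocus_empty I ⟨_, hW⟩ fun x hx hxW => ?_
        have : x ∈ (I.support : Set X)ᶜ := hU ▸ (V.ι_image_top ▸ hxW : x ∈ V)
        exact this hx
      rw [Scheme.IdealSheafData.ideal_pow, Pi.pow_apply, htop, Ideal.top_pow]
      trivial
    obtain ⟨s, hs⟩ := LeadDev.exists_idealMulι_app_eq (I ^ n) (Coh.structureModule X)
      (LeadAff.isCoh_structureModule X) ⟨_, hW⟩ 1 h1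
        (show Γ(Coh.structureModule X, V.ι ''ᵁ ⊤) from (1 : Γ(X, V.ι ''ᵁ ⊤)))
    exact ⟨s, hs.trans (one_smul _ _)⟩
  have hK := LeadDev.isCoh_idealMul (I ^ n) (Coh.structureModule X) (LeadAff.isCoh_structureModule X)
  have hψm : ψ.app (V.ι ''ᵁ ⊤) s = m := by
    have h1 : ψ.app (V.ι ''ᵁ ⊤) s = φ₀.app ⊤ ((Dual3.idealMulι (I ^ n) (Coh.structureModule X)).app (V.ι ''ᵁ ⊤) s) :=
      congr($(congr(Scheme.Modules.Hom.app $hψ ⊤)) s)
    rw [h1, hs]
    have h2 : g = adj.unit.app _ ≫ (Scheme.Modules.pushforward V.ι).map φ₀ :=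
      ((adj.homEquiv _ _).apply_symm_apply g).symm.trans (adj.homEquiv_unit _ _ φ₀)
    have h3 := congr($(congr(Scheme.Modules.Hom.app $h2 ⊤))
      (show Γ(Coh.structureModule X, ⊤) from (1 : Γ(X, ⊤))))
    refine Eq.trans ?_ (h3.symm.trans ?_)
    · refine congrArg (φ₀.app ⊤) ?_
      exact (map_one (X.presheaf.map (homOfLE hWle).op).hom).symm
    · refine (H11Tilde.homOfGlobal_app _ _ ⊤ _).trans ((one_smul _ _).trans ?_)
      exact (congr($(((Scheme.Modules.pushforward V.ι).obj (M.restrict V.ι)).presheaf.map_id (op ⊤)) m))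
  have hnat := congr($(congr(Scheme.Modules.Hom.app $(at'_natural φ hK hM ψ) (V.ι ''ᵁ ⊤))) s)
  have hnat' := congr($(congr(Scheme.Modules.Hom.app
    $(at'_natural φ hK (LeadAff.isCoh_structureModule X) (Dual3.idealMulι (I ^ n) (Coh.structureModule X)))
      (V.ι ''ᵁ ⊤))) s)
  have hK1 : (at' φ _ hK).app (V.ι ''ᵁ ⊤) s =
      (X.presheaf.map (homOfLE hWle).op (fn φ)) • s := by
    refine H10Inj.IdealPow.idealMulι_app_injective _ _ _ ?_
    refine hnat'.symm.trans ((congrArg _ hs).trans ?_)
    rw [Scheme.Modules.Hom.app_smul, hs]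
    exact at'_structure φ _ 1
  rw [← hψm]
  refine hnat.trans ((congrArg (ψ.app (V.ι ''ᵁ ⊤)) hK1).trans ?_)
  exact Scheme.Modules.Hom.app_smul ψ _ s

theorem at'_affine (M : X.Modules) (hM : Coh.IsCoh M) (V : X.Opens) (hV : IsAffineOpen V) (m : Γ(M, V)) :
    (at' φ M hM).app V m = (X.presheaf.map (homOfLE (le_top : V ≤ ⊤)).op (fn φ)) • m := by
  suffices key : ∀ W : X.Opens, W = V.ι ''ᵁ ⊤ → ∀ m : Γ(M, W),
      (at' φ M hM).app W m = (X.presheaf.map (homOfLE (le_top : W ≤ ⊤)).op (fn φ)) • m from
    key V V.ι_image_top.symm m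
  rintro W rfl m
  exact at'_sections φ M hM V hV m



/-- Let X be a Noetherian scheme. The canonical ring map from the global functions Γ(X, O_X) to the
centre of the category of coherent O_X-modules (the endomorphisms of its identity functor), sending
r to multiplication by r, is bijective: for every natural endomorphism φ of the identity functor of
Coh(X) there is a unique global function r such that, for every coherent module M, φ_M is
multiplication by r (compared as maps of the underlying abelian sheaves). (The published result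
builds a ringed space from Coh(X) — irreducible Serre subcategories of finite type, with the centres
of the categories Coh(U) as structure sheaf — and proves it isomorphic to X, for coherent sheaves
twisted by a class in the cohomological Brauer group and with X over a field, a hypothesis its proof
does not use; this row is the ring-theoretic content of that isomorphism on global sections, for the
trivial class; applied to the open subschemes of X it gives the statement on every open.) -/
theorem result (X : Scheme.{u}) [IsNoetherian X]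
    (φ : 𝟭 (ObjectProperty.FullSubcategory (fun M : X.Modules => Coh.IsCoh M)) ⟶ 𝟭 (ObjectProperty.FullSubcategory (fun M : X.Modules => Coh.IsCoh M))) :
    ∃! r : Coh.Γtop X, ∀ M : ObjectProperty.FullSubcategory (fun M : X.Modules => Coh.IsCoh M),
      (SheafOfModules.toSheaf X.ringCatSheaf).map (φ.app M).hom = Coh.smulAb M.obj r := by
  refine ⟨fn φ, fun M => ?_, fun r hr => ?_⟩
  · obtain ⟨M, hM⟩ := M
    let μ : M ⟶ M := at' φ M hM
    have key : ∀ (V : X.Opens) (m : Γ(M, V)),
        μ.app V m = (X.presheaf.map (homOfLE (le_top : V ≤ ⊤)).op (fn φ)) • m := by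
      intro V m
      refine TopCat.Sheaf.eq_of_locally_eq' (H10Coh.sheafOf M)
        (fun E : {E : X.Opens // IsAffineOpen E ∧ E ≤ V} => E.1) V (fun E => homOfLE E.2.2) ?_ _ _ fun E => ?_
      · intro x hx
        obtain ⟨E, hE, hxE, hle⟩ := exists_isAffineOpen_mem_and_subset (U := V) hx
        exact TopologicalSpace.Opens.mem_iSup.2 ⟨⟨E, hE, hle⟩, hxE⟩
      · refine ((congr($(μ.mapPresheaf.naturality (homOfLE E.2.2).op) m)).symm.trans
          (at'_affine φ M hM E.1 E.2.1 _)).trans ?_
        refine Eq.trans ?_ (Scheme.Modules.map_smul M _ _ _).symm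
        congr 1
        rw [← CommRingCat.comp_apply, ← Functor.map_comp]
        rfl
    refine Sheaf.hom_ext ?_
    ext U m
    exact key U.unop m
  · have h1 := hr ⟨Coh.structureModule X, LeadAff.isCoh_structureModule X⟩
    have h2 : (at' φ (Coh.structureModule X) (LeadAff.isCoh_structureModule X)).app ⊤ (1 : Γ(X, ⊤)) =
        (show Γ(X, ⊤) from Coh.resTop X (Opposite.op ⊤) r) * (1 : Γ(X, ⊤)) := by
      have h3 : ∀ x, ((SheafOfModules.toSheaf X.ringCatSheaf).map
          (φ.app ⟨Coh.structureModule X, LeadAff.isCoh_structureModule X⟩).hom).hom.app (Opposite.op ⊤) x =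
          (Coh.smulAb (Coh.structureModule X) r).hom.app (Opposite.op ⊤) x := fun x => by rw [h1]; rfl
      exact h3 (1 : Γ(X, ⊤))
    rw [mul_one] at h2
    refine Eq.trans ?_ h2.symm
    exact (congr($(X.ringCatSheaf.obj.map_id (Opposite.op ⊤)) r)).symm


end Groth.Agent.S13988
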