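import Groth.Statements.S13989
import Mathlib.CategoryTheory.Abelian.SerreClass.Localization
-- import your own Groth.Agent.* helpers here

set_option autoImplicit false
set_option linter.style.haveILetI false
universe v u v' u' v'' u''
open CategoryTheory CategoryTheory.Limits
open CohGab

namespace Groth.Agent.S13989

open CategoryTheory CategoryTheory.Limits

section
variable {A : Type u} [Category.{v} A] [Abelian A] (J : ObjectProperty A) [J.IsSerreClass]
  {Q : Type u'} [Category.{v'} Q] (L : A ⥤ Q) [L.IsLocalization J.isoModSerre]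

lemma map_eq_iff_image {X Y : A} (f g : X ⟶ Y) :
    L.map f = L.map g ↔ J (Abelian.image (f - g)) := by
  rw [MorphismProperty.map_eq_iff_precomp L J.isoModSerre,
    ← ObjectProperty.exists_isoModSerre_comp_eq_zero_iff J (f - g)]
  simp [Preadditive.comp_sub, sub_eq_zero]

end

section
variable {A A' : Type u} [Category.{v} A] [Abelian A] [Category.{v} A'] [Abelian A']
    (i : A' ⥤ A) [i.Full] [i.Faithful] [PreservesFiniteLimits i] [PreservesFiniteColimits i]
    (J : ObjectProperty A) [J.IsSerreClass] [(J.inverseImage i).IsSerreClass]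
    {Q : Type u'} [Category.{v'} Q] (L : A ⥤ Q) [L.IsLocalization J.isoModSerre]
    {Q' : Type u''} [Category.{v''} Q'] (L' : A' ⥤ Q') [L'.IsLocalization (J.inverseImage i).isoModSerre]
    (Φ : Q' ⥤ Q) (e : L' ⋙ Φ ≅ i ⋙ L)

include J e in
set_option maxHeartbeats 1000000 in
lemma full_on_objects
    (hsub : ∀ (M : A') (N : A) (f : N ⟶ i.obj M), Mono f → J N → i.essImage N)
    (hquot : ∀ (M : A') (N : A) (p : i.obj M ⟶ N), Epi p → J N → i.essImage N)
    (M N : A') (ψ : L.obj (i.obj M) ⟶ L.obj (i.obj N)) :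
    ∃ θ : L'.obj M ⟶ L'.obj N, Φ.map θ = e.hom.app M ≫ ψ ≫ e.inv.app N := by
  obtain ⟨φ, hφ⟩ := Localization.exists_rightFraction L J.isoModSerre ψ
  have hsg : L.map φ.s ≫ ψ = L.map φ.f := by
    rw [hφ, MorphismProperty.RightFraction.map_s_comp_map]
  have hker : J (kernel φ.s) := φ.hs.1
  have hcok : J (cokernel φ.s) := φ.hs.2
  obtain ⟨Z, hZ⟩ : ∃ Z : A, Z = φ.X' := ⟨_, rfl⟩
  -- the image of the kernel in `i N`
  have hT : J (Abelian.image (kernel.ι φ.s ≫ φ.f)) :=
    J.prop_of_epi (Abelian.factorThruImage (kernel.ι φ.s ≫ φ.f)) hker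
  obtain ⟨T0, ⟨α⟩⟩ := hsub N _ (Abelian.image.ι (kernel.ι φ.s ≫ φ.f)) inferInstance hT
  obtain ⟨m0, hm0⟩ := i.map_surjective (α.hom ≫ Abelian.image.ι (kernel.ι φ.s ≫ φ.f))
  have : Mono m0 := by
    have h1 : Mono (i.map m0) := by rw [hm0]; infer_instance
    exact i.mono_of_mono_map h1
  have hq0 : (J.inverseImage i).isoModSerre (cokernel.π m0) := by
    rw [ObjectProperty.isoModSerre_iff_of_epi]
    exact (J.inverseImage i).prop_of_iso
      ((asIso (Abelian.factorThruImage m0))) (J.prop_of_iso α.symm hT)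
  have hkill : kernel.ι φ.s ≫ φ.f ≫ i.map (cokernel.π m0) = 0 := by
    rw [← Category.assoc, ← Abelian.image.fac (kernel.ι φ.s ≫ φ.f), Category.assoc]
    have : Abelian.image.ι (kernel.ι φ.s ≫ φ.f) = α.inv ≫ i.map m0 := by rw [hm0]; simp
    rw [this, Category.assoc, ← i.map_comp, cokernel.condition, i.map_zero]
    simp
  -- the image of `s` in `i M`
  obtain ⟨C0, ⟨β⟩⟩ := hquot M _ (cokernel.π φ.s) inferInstance hcok
  obtain ⟨c0, hc0⟩ := i.map_surjective (cokernel.π φ.s ≫ β.inv)
  have hz : i.map (kernel.ι c0) ≫ cokernel.π φ.s = 0 := by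
    rw [← cancel_mono β.inv, zero_comp, Category.assoc, ← hc0, ← i.map_comp, kernel.condition,
      i.map_zero]
  have hz' : Abelian.image.ι φ.s ≫ i.map c0 = 0 := by
    rw [hc0, ← Category.assoc, show Abelian.image.ι φ.s ≫ cokernel.π φ.s = 0 from kernel.condition _,
      zero_comp]
  let ρ := PreservesKernel.iso i c0
  let t : Abelian.image φ.s ⟶ i.obj (kernel c0) := kernel.lift (i.map c0) _ hz' ≫ ρ.inv
  have ht : t ≫ i.map (kernel.ι c0) = Abelian.image.ι φ.s := by
    simp only [t, ρ, Category.assoc, PreservesKernel.iso_inv_ι, kernel.lift_ι]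
  let t' : i.obj (kernel c0) ⟶ Abelian.image φ.s := kernel.lift _ _ hz
  have ht' : t' ≫ Abelian.image.ι φ.s = i.map (kernel.ι c0) := kernel.lift_ι _ _ _
  have h11 : t' ≫ t = 𝟙 _ := by
    rw [← cancel_mono (i.map (kernel.ι c0)), Category.assoc, ht, ht', Category.id_comp]
  have h22 : t ≫ t' = 𝟙 _ := by
    rw [← cancel_mono (Abelian.image.ι φ.s), Category.assoc, ht', ht, Category.id_comp]
  let g₁ : Abelian.coimage φ.s ⟶ i.obj (cokernel m0) := cokernel.desc _ _ hkill
  obtain ⟨h0, hh0⟩ := i.map_surjective (t' ≫ (Abelian.coimageIsoImage φ.s).inv ≫ g₁)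
  let a : φ.X' ⟶ i.obj (kernel c0) :=
    Abelian.coimage.π φ.s ≫ (Abelian.coimageIsoImage φ.s).hom ≫ t
  have ha : a ≫ i.map (kernel.ι c0) = φ.s := by
    simp only [a, Category.assoc, ht]
    exact Abelian.coimage_image_factorisation φ.s
  have ha' : a ≫ i.map h0 = φ.f ≫ i.map (cokernel.π m0) := by
    simp only [a, hh0, Category.assoc]
    rw [reassoc_of% h22, Iso.hom_inv_id_assoc]
    exact cokernel.π_desc _ _ _
  have hκ : (J.inverseImage i).isoModSerre (kernel.ι c0) := by
    rw [ObjectProperty.isoModSerre_iff_of_mono]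
    exact (J.inverseImage i).prop_of_mono (Abelian.factorThruCoimage c0)
      (J.prop_of_iso β.symm hcok)
  have hκiso : IsIso (L'.map (kernel.ι c0)) := Localization.inverts L' _ _ hκ
  have hqiso : IsIso (L'.map (cokernel.π m0)) := Localization.inverts L' _ _ hq0
  have h3 : IsIso (L.map (i.map (kernel.ι c0))) :=
    (NatIso.isIso_map_iff e (kernel.ι c0)).1 (inferInstanceAs (IsIso (Φ.map (L'.map _))))
  have h4 : IsIso (L.map a) := by
    have h5 : IsIso (L.map φ.s) := Localization.inverts L _ _ φ.hs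
    rw [← ha, L.map_comp] at h5
    exact IsIso.of_isIso_comp_right (L.map a) (L.map (i.map (kernel.ι c0)))
  have key : L.map (i.map (kernel.ι c0)) ≫ ψ ≫ L.map (i.map (cokernel.π m0)) = L.map (i.map h0) := by
    rw [← cancel_epi (L.map a), ← L.map_comp a, ha', ← Category.assoc, ← L.map_comp, ha,
      reassoc_of% hsg, L.map_comp]
  refine ⟨inv (L'.map (kernel.ι c0)) ≫ L'.map h0 ≫ inv (L'.map (cokernel.π m0)), ?_⟩
  rw [← cancel_epi (Φ.map (L'.map (kernel.ι c0))), ← cancel_mono (Φ.map (L'.map (cokernel.π m0)))]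
  simp only [Category.assoc, ← Φ.map_comp]
  simp only [IsIso.hom_inv_id_assoc, IsIso.inv_hom_id, Category.comp_id]
  have n1 := e.hom.naturality (kernel.ι c0)
  have n2 := e.inv.naturality (cokernel.π m0)
  have n3 := e.hom.naturality h0
  simp only [Functor.comp_obj, Functor.comp_map] at n1 n2 n3
  rw [← n2, reassoc_of% n1, reassoc_of% key, ← reassoc_of% n3]
  simp

include J e in
lemma faithful_on_objects (M N : A') (θ₁ θ₂ : L'.obj M ⟶ L'.obj N)
    (h : Φ.map θ₁ = Φ.map θ₂) : θ₁ = θ₂ := by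
  obtain ⟨φ, h₁, h₂⟩ := Localization.exists_leftFraction₂ L' (J.inverseImage i).isoModSerre θ₁ θ₂
  have hs : IsIso (L'.map φ.s) := Localization.inverts L' _ _ φ.hs
  have e₁ : θ₁ ≫ L'.map φ.s = L'.map φ.f := by
    rw [h₁]; exact MorphismProperty.LeftFraction.map_comp_map_s φ.fst L' _
  have e₂ : θ₂ ≫ L'.map φ.s = L'.map φ.f' := by
    rw [h₂]; exact MorphismProperty.LeftFraction.map_comp_map_s φ.snd L' _
  rw [← cancel_mono (L'.map φ.s), e₁, e₂]
  have hL : L.map (i.map φ.f) = L.map (i.map φ.f') := by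
    have h5 : Φ.map (L'.map φ.f) = Φ.map (L'.map φ.f') := by
      rw [← e₁, ← e₂, Φ.map_comp, Φ.map_comp, h]
    have n1 := e.hom.naturality φ.f
    have n2 := e.hom.naturality φ.f'
    simp only [Functor.comp_obj, Functor.comp_map] at n1 n2
    rw [← cancel_epi (e.hom.app M), ← n1, ← n2, h5]
  have := preservesBinaryBiproducts_of_preservesBinaryProducts i
  have : i.Additive := Functor.additive_of_preservesBinaryBiproducts i
  rw [map_eq_iff_image J L, ← i.map_sub] at hL
  rw [map_eq_iff_image (J.inverseImage i) L']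
  exact J.prop_of_iso (PreservesKernel.iso i (cokernel.π (φ.f - φ.f')) ≪≫
    kernel.mapIso _ _ (Iso.refl _) (PreservesCokernel.iso i (φ.f - φ.f'))
      (by simp)).symm hL

end



/-- Let A be an abelian category, A' a full abelian subcategory (given as a fully faithful exact functor
i : A' ⥤ A) and J a Serre subcategory of A, with J' = J ∩ A' (the preimage of J under i, a Serre
subcategory of A'). Assume that every subobject and every quotient object, in A, of an object of A'
which belongs to J belongs to A' (lies in the essential image of i). Then the functor A'/J' ⥤ A/J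
induced between the quotient categories is fully faithful: for L : A ⥤ Q and L' : A' ⥤ Q'
localization functors at the morphisms whose kernel and cokernel lie in J, resp. J', every functor Φ
: Q' ⥤ Q with L' ⋙ Φ ≅ i ⋙ L is full and faithful. -/
theorem result
    {A A' : Type u} [Category.{v} A] [Abelian A] [Category.{v} A'] [Abelian A']
    (i : A' ⥤ A) [i.Full] [i.Faithful] [PreservesFiniteLimits i] [PreservesFiniteColimits i]
    (J : ObjectProperty A) [J.IsSerreClass] [(J.inverseImage i).IsSerreClass]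
    (hsub : ∀ (M : A') (N : A) (f : N ⟶ i.obj M), Mono f → J N → i.essImage N)
    (hquot : ∀ (M : A') (N : A) (p : i.obj M ⟶ N), Epi p → J N → i.essImage N)
    {Q : Type u'} [Category.{v'} Q] (L : A ⥤ Q) [L.IsLocalization J.isoModSerre]
    {Q' : Type u''} [Category.{v''} Q'] (L' : A' ⥤ Q') [L'.IsLocalization (J.inverseImage i).isoModSerre]
    (Φ : Q' ⥤ Q) (e : L' ⋙ Φ ≅ i ⋙ L) : Φ.Full ∧ Φ.Faithful := by
  have := Localization.essSurj L' (J.inverseImage i).isoModSerre
  refine ⟨⟨fun {X Y} ψ => ?_⟩, ⟨fun {X Y θ₁ θ₂} h => ?_⟩⟩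
  · let α := L'.objObjPreimageIso X
    let β := L'.objObjPreimageIso Y
    obtain ⟨θ, hθ⟩ := full_on_objects i J L L' Φ e hsub hquot _ _
      (e.inv.app (L'.objPreimage X) ≫ Φ.map α.hom ≫ ψ ≫ Φ.map β.inv ≫ e.hom.app (L'.objPreimage Y))
    refine ⟨α.inv ≫ θ ≫ β.hom, ?_⟩
    simp [hθ, ← Φ.map_comp]
  · let α := L'.objObjPreimageIso X
    let β := L'.objObjPreimageIso Y
    have := faithful_on_objects i J L L' Φ e _ _ (α.hom ≫ θ₁ ≫ β.inv) (α.hom ≫ θ₂ ≫ β.inv)
      (by simp [h])
    simpa using this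


end Groth.Agent.S13989
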