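-- statement FlatMor.GrothFrozen.S1399 (Groth/Statements/S1399.lean; the theorem FlatMor.isIndQuasiAffineHom_of_comp);
import Groth.Statements.S1399
import Groth.Agent.H7Flat.IndQuasiAffine

set_option autoImplicit false
universe u
open FlatMor

namespace Groth.Agent.S1399

open AlgebraicGeometry CategoryTheory Limits in
/-- If g ∘ f is ind-quasi-affine then so is f. -/
theorem result {X Y Z : Scheme.{u}} (f : X ⟶ Y) (g : Y ⟶ Z) (h : MoreMor.IsIndQuasiAffineHom (f ≫ g)) :
    MoreMor.IsIndQuasiAffineHom f := by
  exact Groth.Agent.H7Flat.indQA_of_comp f g h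

end Groth.Agent.S1399
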