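import Groth.Statements.S13991
import Groth.Agent.H10Inj.SerreStruct
-- import your own Groth.Agent.* helpers here

set_option autoImplicit false
set_option linter.style.haveILetI false
universe u
open CategoryTheory AlgebraicGeometry
open CohGab

namespace Groth.Agent.S13991

open CategoryTheory AlgebraicGeometry TopologicalSpace

theorem exists_genericPoint {X : Scheme.{u}} {Z : Closeds X} (hirr : IsPreirreducible (Z : Set X))
    (hne : (Z : Set X).Nonempty) : ∃ η, IsGenericPoint η (Z : Set X) :=
  QuasiSober.sober ⟨hne, hirr⟩ Z.isClosed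

noncomputable def genericPoint' {X : Scheme.{u}} {Z : Closeds X} (hirr : IsPreirreducible (Z : Set X))
    (hne : (Z : Set X).Nonempty) : X := (exists_genericPoint hirr hne).choose

theorem support_push_subset {X T : Scheme.{u}} (i : T ⟶ X) [IsClosedImmersion i] (I : T.Modules) :
    CohB1.support ((Coh.push i).obj I) ⊆ Set.range i := fun x hx => by
  by_contra hc
  exact LeadDev.notMem_support_push i I hc hx



/-- Let X be a Noetherian scheme and Z ⊆ X a closed subset. Then Z is irreducible (or empty) if and only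
if Coh_Z(X), the coherent O_X-modules supported in Z, is an irreducible Serre subcategory of Coh(X),
i.e. it is not generated as a Serre subcategory by two Serre subcategories properly contained in it:
whenever J₁, J₂ are Serre classes on coherent modules (middle term of a short exact sequence of
coherent modules belongs iff both outer terms do), both contained in Coh_Z, such that every Serre
class on coherent modules containing J₁ and J₂ contains Coh_Z, then J₁ or J₂ contains Coh_Z.
Consequently the points of X correspond to the irreducible Serre subcategories of finite type other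
than the zero subcategory. (The published statement says 'Z is irreducible iff Coh_Z is irreducible'
and deduces a bijection between the points of X and all irreducible Serre subcategories of finite
type; the zero subcategory Coh_∅ is irreducible in this sense while ∅ is not an irreducible space,
so irreducibility of Z is read here as 'irreducible or empty'. The published statement is also about
coherent sheaves twisted by a class in the second etale cohomology group of the units of the
structure sheaf; this row is its case of the trivial class.) -/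
theorem result (X : Scheme.{u}) [IsNoetherian X]
    (Z : TopologicalSpace.Closeds X) :
    IsPreirreducible (↑Z : Set X) ↔
    ∀ J₁ J₂ : ObjectProperty X.Modules, (∀ S : ShortComplex X.Modules, S.ShortExact → Coh.IsCoh S.X₁ → Coh.IsCoh S.X₂ →
        Coh.IsCoh S.X₃ → (J₁ S.X₂ ↔ J₁ S.X₁ ∧ J₁ S.X₃)) → (∀ S : ShortComplex X.Modules, S.ShortExact → Coh.IsCoh S.X₁ → Coh.IsCoh S.X₂ →
        Coh.IsCoh S.X₃ → (J₂ S.X₂ ↔ J₂ S.X₁ ∧ J₂ S.X₃)) →
      (∀ M : X.Modules, Coh.IsCoh M → J₁ M → CohB1.support M ⊆ (↑Z : Set X)) →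
      (∀ M : X.Modules, Coh.IsCoh M → J₂ M → CohB1.support M ⊆ (↑Z : Set X)) →
      (∀ Q : ObjectProperty X.Modules, (∀ S : ShortComplex X.Modules, S.ShortExact → Coh.IsCoh S.X₁ → Coh.IsCoh S.X₂ →
        Coh.IsCoh S.X₃ → (Q S.X₂ ↔ Q S.X₁ ∧ Q S.X₃)) →
        (∀ M : X.Modules, Coh.IsCoh M → J₁ M → Q M) → (∀ M : X.Modules, Coh.IsCoh M → J₂ M → Q M) →
        ∀ M : X.Modules, Coh.IsCoh M → CohB1.support M ⊆ (↑Z : Set X) → Q M) →
      (∀ M : X.Modules, Coh.IsCoh M → CohB1.support M ⊆ (↑Z : Set X) → J₁ M) ∨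
        (∀ M : X.Modules, Coh.IsCoh M → CohB1.support M ⊆ (↑Z : Set X) → J₂ M) := by
  constructor
  · intro hirr J₁ J₂ hJ₁ hJ₂ hs₁ hs₂ hgen
    by_cases hne : (↑Z : Set X).Nonempty
    · let η := genericPoint' hirr hne
      have hη : IsGenericPoint η (↑Z : Set X) := (exists_genericPoint hirr hne).choose_spec
      by_contra hcon
      push Not at hcon
      obtain ⟨⟨M₁, hM₁, hM₁s, hM₁J⟩, ⟨M₂, hM₂, hM₂s, hM₂J⟩⟩ := hcon
      have hnot : ∀ (J : ObjectProperty X.Modules), (H10Inj.SerreSupp.IsSerre J) →
          (∀ M : X.Modules, Coh.IsCoh M → J M → CohB1.support M ⊆ (↑Z : Set X)) →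
          ∀ N : X.Modules, Coh.IsCoh N → CohB1.support N ⊆ (↑Z : Set X) → ¬ J N →
          ∀ M : X.Modules, Coh.IsCoh M → J M → η ∉ CohB1.support M := by
        intro J hJ hs N hN hNs hNJ M hM hMJ hηM
        refine hNJ (hJ.mem_of_support_subset hM hN hMJ (hNs.trans ?_))
        rw [← hη.def]
        exact (H10Coh.isClosed_support M hM.2).closure_subset_iff.2 (Set.singleton_subset_iff.2 hηM)
      obtain ⟨F, hF, hFs⟩ := H10Inj.SerreSupp.exists_coh_support_eq Z
      exact hgen (fun M => η ∉ CohB1.support M) (H10Inj.SerreSupp.isSerre_notMem η)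
        (hnot J₁ hJ₁ hs₁ M₁ hM₁ hM₁s hM₁J) (hnot J₂ hJ₂ hs₂ M₂ hM₂ hM₂s hM₂J) F hF hFs.le
        (hFs.symm ▸ hη.mem)
    · have hZ : (↑Z : Set X) = ∅ := Set.not_nonempty_iff_eq_empty.1 hne
      obtain ⟨F, hF, hFs⟩ := H10Inj.SerreSupp.exists_coh_support_eq Z
      obtain ⟨M, hM, hMJ⟩ := hgen (fun _ => ∃ M : X.Modules, Coh.IsCoh M ∧ (J₁ M ∨ J₂ M))
        (fun S _ _ _ _ => ⟨fun h => ⟨h, h⟩, fun h => h.1⟩)
        (fun M hM h => ⟨M, hM, Or.inl h⟩) (fun M hM h => ⟨M, hM, Or.inr h⟩) F hF hFs.le
      rcases hMJ with h | h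
      · exact Or.inl fun N hN hNs => H10Inj.SerreSupp.IsSerre.mem_of_support_subset hJ₁ hM hN h
          (hNs.trans (hZ ▸ Set.empty_subset _))
      · exact Or.inr fun N hN hNs => H10Inj.SerreSupp.IsSerre.mem_of_support_subset hJ₂ hM hN h
          (hNs.trans (hZ ▸ Set.empty_subset _))
  · intro h
    rw [isPreirreducible_iff_isClosed_union_isClosed]
    intro A B hA hB hAB
    obtain ⟨F, hF, hFs⟩ := H10Inj.SerreSupp.exists_coh_support_eq Z
    refine (h (fun M => CohB1.support M ⊆ A ∩ ↑Z) (fun M => CohB1.support M ⊆ B ∩ ↑Z)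
      (H10Inj.SerreSupp.isSerre_support (A ∩ ↑Z)) (H10Inj.SerreSupp.isSerre_support (B ∩ ↑Z))
      (fun M _ hM => hM.trans Set.inter_subset_right) (fun M _ hM => hM.trans Set.inter_subset_right) ?_).imp
      (fun h1 => hFs.symm.le.trans ((h1 F hF hFs.le).trans Set.inter_subset_left))
      (fun h1 => hFs.symm.le.trans ((h1 F hF hFs.le).trans Set.inter_subset_left))
    intro Q hQ hQ₁ hQ₂ M hM hMs
    obtain ⟨G, hG, hGs⟩ := H10Inj.SerreSupp.exists_coh_support_eq
      (⟨A ∩ ↑Z, hA.inter Z.isClosed⟩ : TopologicalSpace.Closeds X)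
    have hQG : Q G := hQ₁ G hG hGs.le
    have hQs : H10Inj.SerreSupp.IsSerre Q := hQ
    let Q' : X.Modules → Prop := fun M => Coh.IsCoh M → Q M
    refine LeadDev.devissage_induction (↑Z : Set X) Q' (fun M N ⟨e⟩ h hN =>
        hQs.of_iso e (H10Coh.isCoh_of_iso e.symm hN) hN (h (H10Coh.isCoh_of_iso e.symm hN)))
      (fun M hM _ => hQs.zero hG hQG M hM)
      (fun S hS h1 h2 h3 p1 p3 _ => (hQs S hS h1 h2 h3).2 ⟨p1 h1, p3 h3⟩) ?_ M hM hMs hM
    intro T i _ _ hTZ _ I ι _ hI hc
    have hirrT : IsPreirreducible (Set.range i) := by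
      rw [← Set.image_univ]
      exact (PreirreducibleSpace.isPreirreducible_univ (X := T)).image i i.continuous.continuousOn
    rcases (isPreirreducible_iff_isClosed_union_isClosed.1 hirrT) A B hA hB (hTZ.trans hAB) with h' | h'
    · exact hQ₁ _ hc ((support_push_subset i I).trans (Set.subset_inter h' hTZ))
    · exact hQ₂ _ hc ((support_push_subset i I).trans (Set.subset_inter h' hTZ))


end Groth.Agent.S13991
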