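import Groth.Statements.S13993
import Groth.Agent.H3CAlg.ExtBranches

set_option autoImplicit false
universe u
open CategoryTheory
open CAlg

namespace Groth.Agent.S13993

/-- Let k be a field and A = k[[x,y]]/(xy) the complete local ring of a node, with branch rings A/(y)
and A/(x) viewed as A-modules. Then the first Ext group Ext¹_A(A/(y), A/(x)) has dimension one over
k. (The published statement is for the local ring at a node of a reduced curve over an algebraically
closed field of characteristic zero, a node being a point whose complete local ring is A; this row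
states the case of the complete local ring A itself, over an arbitrary field.) -/
theorem result (k : Type u) [Field k] : Module.finrank k (Abelian.Ext (ModuleCat.of (MvPowerSeries (Fin 2) k ⧸ Ideal.span {(MvPowerSeries.X (0 : Fin 2) : MvPowerSeries (Fin 2) k) * MvPowerSeries.X (1 : Fin 2)}) ((MvPowerSeries (Fin 2) k ⧸ Ideal.span {(MvPowerSeries.X (0 : Fin 2) : MvPowerSeries (Fin 2) k) * MvPowerSeries.X (1 : Fin 2)}) ⧸ Ideal.span {Ideal.Quotient.mk (Ideal.span {(MvPowerSeries.X (0 : Fin 2) : MvPowerSeries (Fin 2) k) * MvPowerSeries.X (1 : Fin 2)}) (MvPowerSeries.X (1 : Fin 2))})) (ModuleCat.of (MvPowerSeries (Fin 2) k ⧸ Ideal.span {(MvPowerSeries.X (0 : Fin 2) : MvPowerSeries (Fin 2) k) * MvPowerSeries.X (1 : Fin 2)}) ((MvPowerSeries (Fin 2) k ⧸ Ideal.span {(MvPowerSeries.X (0 : Fin 2) : MvPowerSeries (Fin 2) k) * MvPowerSeries.X (1 : Fin 2)}) ⧸ Ideal.span {Ideal.Quotient.mk (Ideal.span {(MvPowerSeries.X (0 : Fin 2) : MvPowerSeries (Fin 2) k) * MvPowerSeries.X (1 : Fin 2)}) (MvPowerSeries.X (0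 : Fin 2))})) 1) = 1 := by
  classical
  set X0 : MvPowerSeries (Fin 2) k := MvPowerSeries.X 0 with hX0
  set X1 : MvPowerSeries (Fin 2) k := MvPowerSeries.X 1 with hX1
  refine Groth.Agent.H3CAlg.ExtBranches.finrank_ext_one_eq_one k _ _ _ ?_ ?_ ?_ ?_
  · rw [← map_mul, Ideal.Quotient.eq_zero_iff_mem]
    exact Ideal.mem_span_singleton_self _
  · intro a ha
    obtain ⟨F, rfl⟩ := Ideal.Quotient.mk_surjective a
    rw [← map_mul, Ideal.Quotient.eq_zero_iff_mem, Ideal.mem_span_singleton'] at ha
    obtain ⟨G, hG⟩ := ha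
    have hne : X1 ≠ 0 := fun h => by
      have := congrArg (MvPowerSeries.coeff (Finsupp.single (1 : Fin 2) 1)) h
      rw [hX1, MvPowerSeries.coeff_index_single_self_X, map_zero] at this
      exact one_ne_zero this
    rw [← mul_assoc] at hG
    rw [← mul_right_cancel₀ hne hG, map_mul]
    exact Ideal.mul_mem_left _ _ (Ideal.mem_span_singleton_self _)
  · intro a
    obtain ⟨F, rfl⟩ := Ideal.Quotient.mk_surjective a
    obtain ⟨p, q, h⟩ := Groth.Agent.H3CAlg.ExtBranches.mvPowerSeries_decomp F
    refine ⟨MvPowerSeries.constantCoeff F, Ideal.Quotient.mk _ p, Ideal.Quotient.mk _ q, ?_⟩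
    rw [← map_mul, ← map_mul, ← Ideal.Quotient.mk_algebraMap, ← map_add, ← map_add]
    exact congrArg (Ideal.Quotient.mk _) h
  · intro q hq
    obtain ⟨Q, rfl⟩ := Ideal.Quotient.mk_surjective q
    rw [Ideal.mem_span_singleton'] at hq
    obtain ⟨b, hb⟩ := hq
    obtain ⟨B, rfl⟩ := Ideal.Quotient.mk_surjective b
    rw [← map_mul, ← map_mul, ← map_one (Ideal.Quotient.mk _), ← map_sub, Ideal.Quotient.mk_eq_mk_iff_sub_mem, Ideal.mem_span_singleton'] at hb
    obtain ⟨G, hG⟩ := hb
    have := congrArg MvPowerSeries.constantCoeff hG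
    simp [hX0, hX1] at this

end Groth.Agent.S13993
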