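import Groth.Statements.S13994
import Groth.Agent.H3CAlg.Planar

set_option autoImplicit false
universe u
open CategoryTheory
open CAlg

namespace Groth.Agent.S13994

/-- Let S be a regular local ring of Krull dimension two, f a non-zero element of S and R the quotient
of S by f, assumed reduced. Let M and N be finitely generated R-modules, each admitting a
non-zero-divisor in the maximal ideal of R, annihilated by ideals I and J respectively, where I + J
contains a power of the maximal ideal. Then Tor₁^R(M, Hom_R(N, R)) = 0. (The published claim is made
for the stalks at a common point of two subcurves without common component of a reduced projective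
curve over a characteristic-zero algebraically closed field, the point being a planar singularity,
and the stalks of torsion-free sheaves supported on them; this row states it over an arbitrary
two-dimensional regular local ring. Tor is computed by resolving the second argument.) -/
theorem result (S : Type u) [CommRing S] [IsRegularLocalRing S] (hS : ringKrullDim S = 2) (f : S) (hf : f ≠ 0) (R : Type u) [CommRing R] [IsLocalRing R] [IsReduced R] (π : S →+* R) (hπ : Function.Surjective π) (hker : RingHom.ker π = Ideal.span {f}) (I J : Ideal R) (n : ℕ) (hIJ : IsLocalRing.maximalIdeal R ^ n ≤ I ⊔ J) (M N : Type u) [AddCommGroup M] [Module R M] [Module.Finite R M] [AddCommGroup N] [Module R N] [Module.Finite R N] (hI : I ≤ Module.annihilator R M) (hJ : J ≤ Module.annihilator R N) (x : R) (hx : x ∈ IsLocalRing.maximalIdeal R) (hxM : IsSMulRegular M x) (y : R) (hy : y ∈ IsLocalRing.maximalIdeal R) (hyN : IsSMulRegular N y) : Limits.IsZero (((Tor (ModuleCat.{u} R) 1).obj (ModuleCat.of R M)).obj (ModuleCat.of R (Module.Dual R N))) := by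
  exact Groth.Agent.H3CAlg.Planar.tor_one_dual_isZero S hS f hf π hπ hker I J n hIJ M N hI hJ x hx hxM

end Groth.Agent.S13994
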