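import Groth.Statements.S13995
import Mathlib.Algebra.CharP.Algebra
import Mathlib.FieldTheory.Perfect
import Mathlib.LinearAlgebra.ExteriorPower.Basic
import Mathlib.LinearAlgebra.FreeModule.PID
import Mathlib.RingTheory.Flat.TorsionFree
import Mathlib.RingTheory.Henselian
import Mathlib.RingTheory.LocalProperties.Reduced
import Mathlib.RingTheory.PicardGroup
import Mathlib.RingTheory.RegularLocalRing.Defs
import Mathlib.RingTheory.SimpleRing.Principal

set_option autoImplicit false
universe u
open CAlg

namespace Groth.Agent.S13995

/-- Let R be a reduced Noetherian ring, M a finitely generated R-module all of whose associated primes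
are minimal primes of R and whose localization at each minimal prime p is one-dimensional over the
field R_p, and let g : M → Q be a surjection onto a finitely generated R-module Q all of whose
associated primes are minimal primes of R. Then the kernel of g is the intersection, over the
minimal primes p of R lying in the support of Q, of the kernels of the localization maps M → M_p.
(The published statement is for a torsion-free coherent sheaf F of uniform rank one on a reduced
connected projective curve over a characteristic-zero algebraically closed field: its non-zero
torsion-free quotients are exactly the maximal torsion-free quotients F_D of the restrictions of F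
to subcurves D; this row is the corresponding statement for modules over a reduced Noetherian ring,
a subcurve being a set of minimal primes, and identifies each torsion-free quotient with F_D for D
the set of generic points of its support.) -/
theorem result (R : Type u) [CommRing R] [IsNoetherianRing R] [IsReduced R] (M : Type u) [AddCommGroup M] [Module R M] [Module.Finite R M] (hM : associatedPrimes R M ⊆ minimalPrimes R) (hrk : ∀ p : PrimeSpectrum R, p.asIdeal ∈ minimalPrimes R → Module.finrank (Localization.AtPrime p.asIdeal) (LocalizedModule p.asIdeal.primeCompl M) = 1) (Q : Type u) [AddCommGroup Q] [Module R Q] [Module.Finite R Q] (hQ : associatedPrimes R Q ⊆ minimalPrimes R) (g : M →ₗ[R] Q) (hg : Function.Surjective g) : LinearMap.ker g = ⨅ p ∈ {p : PrimeSpectrum R | p.asIdeal ∈ minimalPrimes R ∧ p ∈ Module.support R Q}, LinearMap.ker (LocalizedModule.mkLinearMap p.asIdeal.primeCompl M) := by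
  classical
  have key : ∀ p : PrimeSpectrum R, p.asIdeal ∈ minimalPrimes R → p ∈ Module.support R Q → ∀ m : M,
      LocalizedModule.mkLinearMap p.asIdeal.primeCompl M m = 0 ↔
        LocalizedModule.mkLinearMap p.asIdeal.primeCompl Q (g m) = 0 := by
    intro p hp hsupp m
    let S := Localization.AtPrime p.asIdeal
    haveI : Ring.KrullDimLE 0 S := by
      rw [Ring.krullDimLE_iff, IsLocalization.AtPrime.ringKrullDim_eq_height p.asIdeal S,
        Ideal.height_eq_zero_iff.mpr hp]
      simp
    haveI : IsReduced S := isReduced_localizationPreserves p.asIdeal.primeCompl S inferInstance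
    letI : Field S := (Ring.KrullDimLE.isField_of_isReduced).toField
    let gp : LocalizedModule p.asIdeal.primeCompl M →ₗ[S] LocalizedModule p.asIdeal.primeCompl Q :=
      LocalizedModule.map p.asIdeal.primeCompl g
    haveI : Nontrivial (LocalizedModule p.asIdeal.primeCompl Q) := hsupp
    have hsurj : Function.Surjective gp := LocalizedModule.map_surjective _ g hg
    have hinj : Function.Injective gp := by
      rw [← LinearMap.ker_eq_bot]
      by_contra hne
      haveI : Module.Finite S (LocalizedModule p.asIdeal.primeCompl M) :=
        Module.finite_of_finrank_pos (by rw [hrk p hp]; exact one_pos)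
      have h1 := LinearMap.finrank_range_add_finrank_ker gp
      rw [LinearMap.range_eq_top.mpr hsurj, finrank_top, hrk p hp] at h1
      have h2 : 0 < Module.finrank S (LocalizedModule p.asIdeal.primeCompl Q) :=
        Module.finrank_pos_iff.mpr inferInstance
      exact hne (Submodule.finrank_eq_zero.mp (show Module.finrank S (LinearMap.ker gp) = 0 by omega))
    have hval : gp (LocalizedModule.mkLinearMap p.asIdeal.primeCompl M m) =
        LocalizedModule.mkLinearMap p.asIdeal.primeCompl Q (g m) := by
      exact IsLocalizedModule.map_apply p.asIdeal.primeCompl (LocalizedModule.mkLinearMap p.asIdeal.primeCompl M)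
        (LocalizedModule.mkLinearMap p.asIdeal.primeCompl Q) g m
    rw [← hval]
    exact (map_eq_zero_iff _ hinj).symm
  refine le_antisymm (fun m hm => ?_) (fun m hm => ?_)
  · simp only [Submodule.mem_iInf]
    rintro p ⟨hp, hs⟩
    rw [LinearMap.mem_ker, key p hp hs, LinearMap.mem_ker.mp hm, map_zero]
  · rw [LinearMap.mem_ker]
    by_contra hne
    obtain ⟨P, hP, hle⟩ := exists_le_isAssociatedPrime_of_isNoetherianRing R (g m) hne
    haveI := hP.isPrime
    have hsupp : (⟨P, hP.isPrime⟩ : PrimeSpectrum R) ∈ Module.support R Q := by
      rw [Module.mem_support_iff']
      exact ⟨g m, fun r hr h0 => hr (hle (by rw [Submodule.mem_colon_singleton]; exact h0))⟩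
    simp only [Submodule.mem_iInf] at hm
    have h1 := (key ⟨P, hP.isPrime⟩ (hQ hP) hsupp m).mp (hm _ ⟨hQ hP, hsupp⟩)
    obtain ⟨⟨s, hs⟩, hs0⟩ := (IsLocalizedModule.eq_zero_iff P.primeCompl (LocalizedModule.mkLinearMap P.primeCompl Q)).mp h1
    exact hs (hle (by rw [Submodule.mem_colon_singleton]; exact hs0))

end Groth.Agent.S13995
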