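import Groth.Statements.S13996
import Groth.Agent.H3CAlg.WittHomog
import Groth.Agent.S14051
import Mathlib.RingTheory.WittVector.Frobenius

set_option autoImplicit false
universe u
open CAlg

namespace Groth.Agent.S13996

/-- Let R be a reduced Noetherian local ring of Krull dimension one with maximal ideal m, and M a
non-zero finitely generated R-module. Then M is torsion-free in the sense that no element of m which
is a non-zero-divisor on R is a zero-divisor on M, if and only if M has depth one, i.e. some element
of m is a non-zero-divisor on M. (The published statement is for a non-zero coherent sheaf F on a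
connected reduced projective curve over a characteristic-zero algebraically closed field and asserts
the equivalence of: F torsion-free in the above sense at every closed point; F pure of dimension
one; depth of F_p equal to one at every closed point p. This row is the equivalence of the first and
third conditions at a single closed point p with F_p ≠ 0; at points outside the support the third
condition as published cannot hold, so the row assumes the stalk non-zero.) -/
theorem result (R : Type u) [CommRing R] [IsLocalRing R] [IsNoetherianRing R] [IsReduced R] (hdim : ringKrullDim R = 1) (M : Type u) [AddCommGroup M] [Module R M] [Module.Finite R M] [Nontrivial M] : (∀ r : R, r ∈ IsLocalRing.maximalIdeal R → IsSMulRegular R r → IsSMulRegular M r) ↔ (∃ x : R, x ∈ IsLocalRing.maximalIdeal R ∧ IsSMulRegular M x) := by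
  classical
  set 𝔪 := IsLocalRing.maximalIdeal R
  have hfin := minimalPrimes.finite_of_isNoetherianRing R
  have hregR : ∀ r : R, IsSMulRegular R r ↔ ∀ q ∈ minimalPrimes R, r ∉ q := by
    intro r
    rw [isSMulRegular_iff_right_eq_zero_of_smul]
    constructor
    · intro h q hq hrq
      have : r ∈ nonZeroDivisors R := mem_nonZeroDivisors_iff_left.mpr fun x hx => h x hx
      exact Ideal.disjoint_nonZeroDivisors_of_mem_minimalPrimes hq |>.le_bot ⟨hrq, this⟩ |>.elim
    · intro h x hx
      have : x ∈ sInf (minimalPrimes R) := by
        rw [Submodule.mem_sInf]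
        intro q hq
        exact (hq.1.1.mem_or_mem ((show r * x = 0 from hx) ▸ q.zero_mem)).resolve_left (h q hq)
      rw [show sInf (minimalPrimes R) = nilradical R by rw [nilradical, ← Ideal.sInf_minimalPrimes]; rfl,
        nilradical_eq_zero] at this
      simpa using this
  have hmax : ∀ q ∈ minimalPrimes R, q ≠ 𝔪 := by
    intro q hq e
    have h1 : 𝔪.height = 0 := by
      rw [Ideal.height_eq_zero_iff, ← e]; exact hq
    have h2 := IsLocalRing.maximalIdeal_height_eq_ringKrullDim (R := R)
    rw [h1, hdim] at h2
    simp at h2
  constructor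
  · intro h
    have hsub : ¬ (𝔪 : Set R) ⊆ ⋃ q ∈ (hfin.toFinset : Set (Ideal R)), (q : Set R) := by
      rw [Ideal.subset_union_prime ⊤ ⊤ (fun q hq _ _ => (hfin.mem_toFinset.mp hq).1.1)]
      rintro ⟨q, hq, hle⟩
      rw [hfin.mem_toFinset] at hq
      exact hmax q hq (le_antisymm (IsLocalRing.le_maximalIdeal hq.1.1.ne_top) hle)
    obtain ⟨x, hx, hxq⟩ := Set.not_subset.mp hsub
    exact ⟨x, hx, h x hx ((hregR x).mpr fun q hq hxq' => hxq (Set.mem_biUnion (hfin.mem_toFinset.mpr hq) hxq'))⟩
  · rintro ⟨x, hx, hxM⟩ r _ hr
    rw [isSMulRegular_iff_right_eq_zero_of_smul]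
    intro z hz
    by_contra hne
    obtain ⟨P, hP, hle⟩ := exists_le_isAssociatedPrime_of_isNoetherianRing R z hne
    have hrP : r ∈ P := hle (by simp [Submodule.mem_colon_singleton, hz])
    obtain ⟨hPp, f, hf⟩ := (isAssociatedPrime_iff_exists_injective_linearMap P M).mp hP
    have hxP : x ∉ P := fun hxP => by
      have h1 : x • f (Submodule.Quotient.mk 1) = 0 := by
        rw [← map_smul, ← Submodule.Quotient.mk_smul, smul_eq_mul, mul_one, (Submodule.Quotient.mk_eq_zero P).mpr hxP, map_zero]
      have h2 := isSMulRegular_iff_right_eq_zero_of_smul.mp hxM _ h1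
      exact (Ideal.ne_top_iff_one P).mp hPp.ne_top ((Submodule.Quotient.mk_eq_zero P).mp (hf (h2.trans (map_zero f).symm)))
    obtain ⟨q, hq, hqP⟩ := Ideal.exists_minimalPrimes_le (bot_le : (⊥ : Ideal R) ≤ P)
    by_cases hPm : q = P
    · exact (hregR r).mp hr q hq (hPm ▸ hrP)
    · have hP𝔪 : P = 𝔪 := by
        by_contra hne'
        have hlt1 : q < P := lt_of_le_of_ne hqP hPm
        have hlt2 : P < 𝔪 := lt_of_le_of_ne (IsLocalRing.le_maximalIdeal hPp.ne_top) hne'
        have := hq.1.1
        have a1 := Ideal.height_add_one_le_of_lt_of_isPrime hlt1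
        have a2 := Ideal.height_add_one_le_of_lt_of_isPrime hlt2
        have h2 := IsLocalRing.maximalIdeal_height_eq_ringKrullDim (R := R)
        rw [hdim] at h2
        have h3 : 𝔪.height = 1 := WithBot.coe_eq_one.mp h2
        rw [h3] at a2
        have a3 : P.height + 1 ≤ 0 + 1 := by simpa using a2
        have a4 : P.height = 0 := nonpos_iff_eq_zero.mp ((ENat.add_le_add_iff_right ENat.one_ne_top).mp a3)
        rw [a4] at a1
        simp at a1
      exact hxP (hP𝔪 ▸ hx)

end Groth.Agent.S13996
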