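import Groth.Statements.S13998
import Groth.Agent.H7Lim.ThickeningHom
import Groth.Agent.H29Blow.Basic

set_option autoImplicit false
universe u
open FlatMor

namespace Groth.Agent.S13998
open CategoryTheory.Limits
set_option backward.isDefEq.respectTransparency false
set_option linter.style.haveILetI false

theorem finite_of_thick {A B A₀ B₀ : Type u} [CommRing A] [CommRing B] [CommRing A₀] [CommRing B₀]
    (f : A →+* B) (p : A →+* A₀) (q : B →+* B₀) (g : A₀ →+* B₀) (h : g.comp p = q.comp f)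
    (hp : Function.Surjective p) (hg : g.Finite) (I : Ideal A) {N : ℕ} (hN : I ^ N = 0)
    (hker : RingHom.ker q ≤ I.map f) (hq : Function.Surjective q) : f.Finite := by
  letI := f.toAlgebra
  letI := g.toAlgebra
  obtain ⟨S, hS⟩ := (hg : Module.Finite A₀ B₀).fg_top
  classical
  choose l hl using hq
  let M : Submodule A B := Submodule.span A (S.image l : Set B)
  have step : ∀ b : B, b ∈ M ⊔ I • (⊤ : Submodule A B) := by
    intro b
    have hb : q b ∈ Submodule.span A₀ (S : Set B₀) := hS ▸ Submodule.mem_top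
    obtain ⟨m, hm, hmb⟩ : ∃ m ∈ M, q m = q b := by
      revert hb
      generalize q b = y
      intro hy
      induction hy using Submodule.span_induction with
      | mem x hx => exact ⟨l x, Submodule.subset_span (Finset.mem_image_of_mem l hx), hl x⟩
      | zero => exact ⟨0, zero_mem _, map_zero q⟩
      | add x y _ _ ihx ihy =>
        obtain ⟨m₁, h₁, rfl⟩ := ihx
        obtain ⟨m₂, h₂, rfl⟩ := ihy
        exact ⟨m₁ + m₂, add_mem h₁ h₂, map_add q _ _⟩
      | smul r x _ ih =>
        obtain ⟨m, hm, rfl⟩ := ih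
        obtain ⟨a, rfl⟩ := hp r
        refine ⟨a • m, M.smul_mem a hm, ?_⟩
        show q (f a * m) = g (p a) * q m
        rw [map_mul, ← RingHom.comp_apply, ← h]
        rfl
    refine Submodule.mem_sup.2 ⟨m, hm, b - m, ?_, add_sub_cancel m b⟩
    have hb' : b - m ∈ I.map f := hker (by simp [RingHom.mem_ker, hmb])
    rw [Ideal.smul_top_eq_map]
    exact hb'
  have hall : ∀ n : ℕ, (⊤ : Submodule A B) ≤ M ⊔ I ^ n • ⊤ := by
    intro n
    induction n with
    | zero => exact le_sup_of_le_right (by rw [pow_zero, Ideal.one_eq_top, Submodule.top_smul])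
    | succ n ih =>
      refine ih.trans (sup_le le_sup_left ?_)
      calc I ^ n • (⊤ : Submodule A B) ≤ I ^ n • (M ⊔ I • ⊤) := Submodule.smul_mono le_rfl fun b _ => step b
        _ = I ^ n • M ⊔ I ^ n • (I • ⊤) := Submodule.smul_sup _ _ _
        _ ≤ M ⊔ I ^ (n + 1) • ⊤ := sup_le_sup Submodule.smul_le_right (le_of_eq (by rw [← Submodule.smul_assoc, pow_succ, smul_eq_mul]))
  have := hall N
  rw [hN, Submodule.zero_eq_bot, Submodule.bot_smul, sup_bot_eq, top_le_iff] at this
  exact ⟨⟨S.image l, this⟩⟩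


open AlgebraicGeometry CategoryTheory in
/-- Consider a cartesian square of schemes F₀ ≫ j = i ≫ F (so Y₀ = Y ×_X X₀) in which i : Y₀ ⟶ Y and j :
X₀ ⟶ X are closed immersions surjective on points whose ideals are locally nilpotent (nilpotent on
every affine open), and suppose moreover that the ideal of j is of finite type (finitely generated
on every affine open of X). Then F : Y ⟶ X is finite if and only if F₀ : Y₀ ⟶ X₀ is finite. -/
theorem result {X X₀ Y Y₀ : Scheme.{u}}
    (F : Y ⟶ X) (F₀ : Y₀ ⟶ X₀) (i : Y₀ ⟶ Y) (j : X₀ ⟶ X)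
    (hi : MoreMor.IsThickening i) (hj : MoreMor.IsThickening j)
    (hinil : ∀ U : Y.affineOpens, IsNilpotent (i.ker.ideal U))
    (hjnil : ∀ U : X.affineOpens, IsNilpotent (j.ker.ideal U))
    (hfg : ∀ U : X.affineOpens, (j.ker.ideal U).FG)
    (hc : IsPullback F₀ i j F) :
    IsFinite F ↔ IsFinite F₀ := by
    classical
    haveI := hi.1
    haveI := hi.2
    haveI := hj.1
    refine ⟨fun h => MorphismProperty.of_isPullback hc.flip h, fun h => ?_⟩
    haveI : IsIntegralHom F :=
      (H7Lim.isIntegralHom_iff_of_thickening i j F₀ F hc.w.symm).1 inferInstance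
    refine ⟨fun V hV => ?_⟩
    have hU : IsAffineOpen (F ⁻¹ᵁ V) := hV.preimage F
    have hW : IsAffineOpen (j ⁻¹ᵁ V) := hV.preimage j
    let A := Γ(X, V)
    have hker : i.ker = j.ker.comap F := by
      rw [← Scheme.IdealSheafData.ker_fst_of_isClosedImmersion, ← hc.flip.isoPullback_hom_fst,
        Scheme.Hom.ker_comp_of_isIso]
    have hkerU : i.ker.ideal ⟨F ⁻¹ᵁ V, hU⟩ = (j.ker.ideal ⟨V, hV⟩).map (F.app V).hom := by
      rw [hker, H29Blow.ideal_comap _ F ⟨V, hV⟩ ⟨F ⁻¹ᵁ V, hU⟩ le_rfl, Scheme.Hom.app_eq_appLE]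
    obtain ⟨N, hN⟩ := hjnil ⟨V, hV⟩
    let I := j.ker.ideal ⟨V, hV⟩
    have heq : F₀ ⁻¹ᵁ (j ⁻¹ᵁ V) = i ⁻¹ᵁ (F ⁻¹ᵁ V) := by
      rw [← Scheme.Hom.comp_preimage, hc.w, Scheme.Hom.comp_preimage]
    let φ : Γ(X₀, j ⁻¹ᵁ V) ⟶ Γ(Y₀, i ⁻¹ᵁ (F ⁻¹ᵁ V)) :=
      F₀.app (j ⁻¹ᵁ V) ≫ Y₀.presheaf.map (eqToHom heq.symm).op
    have hφ : j.app V ≫ φ = F.app V ≫ i.app (F ⁻¹ᵁ V) := by
      have h1 := Scheme.Hom.congr_app hc.w V
      rw [Scheme.Hom.comp_app, Scheme.Hom.comp_app] at h1
      rw [← Category.assoc, h1]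
      simp [← Functor.map_comp]
    have hφfin : φ.hom.Finite := by
      rw [CommRingCat.hom_comp]
      exact RingHom.Finite.comp
        (RingHom.Finite.of_surjective _ (ConcreteCategory.bijective_of_isIso _).surjective)
        (h.finite_app _ hW)
    exact finite_of_thick (F.app V).hom (j.app V).hom (i.app (F ⁻¹ᵁ V)).hom φ.hom
      (congrArg CommRingCat.Hom.hom hφ) (j.app_surjective V hV) hφfin I hN
      (by rw [← Scheme.Hom.ker_apply i ⟨F ⁻¹ᵁ V, hU⟩, hkerU]) (i.app_surjective _ hU)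

end Groth.Agent.S13998
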