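import Groth.Statements.S14003
import Groth.Agent.H27KZero.Devissage
import Mathlib

set_option autoImplicit false
universe u
open CategoryTheory AlgebraicGeometry
open KZero

namespace Groth.Agent.S14003

/-- Let X be a Noetherian scheme and Y' a closed subset; write K_0 for the Grothendieck group of the
abelian category of coherent O_X-modules with support in Y' (free abelian group on its objects
modulo the relations of short exact sequences). Let (F_a) be a family of such modules such that for
every irreducible closed subset Z ⊆ Y' with generic point ζ there is an index a with the support of
F_a contained in Z and the stalk of F_a at ζ of length one over the local ring (a one-dimensional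
vector space over the residue field). Then the classes of the F_a generate K_0. (The published
statement omits the condition that the support of F_a lie in Z; without it the claim fails already
for the spectrum of a product of two fields, where the modules k_1 ⊕ k_2 ⊕ k_2 and k_1 ⊕ k_1 ⊕ k_2
have one-dimensional stalks at the two points but their classes generate a subgroup of index 3 in
K_0 = ℤ².) -/
theorem result (X : Scheme.{u}) [IsNoetherian X]
    (Y' : Set X) (hY' : IsClosed Y') {ι : Type u} (F : ι → X.Modules)
    (hF : ∀ a : ι, Coh.IsCoh (F a) ∧ CohB1.support (F a) ⊆ Y')
    (hgen : ∀ (Z : Set X), IsClosed Z → IsIrreducible Z → Z ⊆ Y' → ∀ y : X, closure ({y} : Set X) = Z →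
      ∃ a : ι, CohB1.support (F a) ⊆ Z ∧ Module.length (X.presheaf.stalk y) ((F a).presheaf.stalk y) = 1) :
    AddSubgroup.closure (Set.range fun a : ι =>
        KZero.clSub (fun G : X.Modules => Coh.IsCoh G ∧ CohB1.support G ⊆ Y') (F a)) = ⊤ := by
  exact Groth.Agent.H27KZero.closure_generic_length_one X Y' F hF hgen

end Groth.Agent.S14003
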