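import Groth.Statements.S14004
import Groth.Agent.H24FSch.NearIso
import Groth.Agent.H17.LocusBC
import Groth.Agent.H12AlgSp.LocPCancel

set_option autoImplicit false
set_option linter.style.haveILetI false
universe u
open CategoryTheory AlgebraicGeometry
open FSch

open CategoryTheory CategoryTheory.Limits AlgebraicGeometry

namespace Groth.Agent.S14004

/-- Formal schemes are modelled as ℕ-indexed systems of thickenings. Let 𝔛 and 𝔜 be locally Noetherian
adic formal systems and f : 𝔛 ⟶ 𝔜 an adic morphism (every square X_n → X_{n+1}, Y_n → Y_{n+1}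
cartesian) all of whose levels f_n : X_n ⟶ Y_n are flat. Then f is smooth, in the sense that every
level f_n is smooth, if and only if the bottom level f_0 is smooth. -/
theorem result (𝔛 𝔜 : FSch.Sys.{u})
    (h𝔛 : 𝔛.IsLocNoethFormal) (h𝔜 : 𝔜.IsLocNoethFormal) (f : 𝔛 ⟶ 𝔜) (hf : FSch.IsAdicHom f)
    (hflat : ∀ n : ℕ, Flat ((f : FSch.Hom 𝔛 𝔜).app n)) :
    (∀ n : ℕ, AlgebraicGeometry.Smooth ((f : FSch.Hom 𝔛 𝔜).app n)) ↔
      AlgebraicGeometry.Smooth ((f : FSch.Hom 𝔛 𝔜).app 0) := by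
  refine ⟨fun h => h 0, fun h0 n => ?_⟩
  haveI := hflat n
  haveI := h𝔜.2.2 n
  haveI := (Groth.Agent.H24FSch.isClosedImmersion_surjective_toX h𝔜.1 n).1
  haveI : Surjective (𝔜.toX n) := (Groth.Agent.H24FSch.isClosedImmersion_surjective_toX h𝔜.1 n).2
  have hsq := Groth.Agent.H24FSch.isPullback_toX f hf n
  haveI : LocallyOfFiniteType ((f : FSch.Hom 𝔛 𝔜).app 0) := inferInstance
  haveI := Groth.Agent.H24FSch.locallyOfFiniteType_of_thickening hsq
  haveI : LocallyOfFinitePresentation ((f : FSch.Hom 𝔛 𝔜).app n) := Groth.Agent.H12AlgSp.lfp_of_lft_of_isLocallyNoetherian _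
  refine Scheme.Hom.smoothLocus_eq_top_iff.mp (top_unique fun x _ => ?_)
  obtain ⟨y₀, hy₀⟩ := (𝔜.toX n).surjective (((f : FSch.Hom 𝔛 𝔜).app n) x)
  haveI : IsIso ((𝔜.toX n).residueFieldMap y₀) := by
    refine (ConcreteCategory.isIso_iff_bijective _).mpr ⟨RingHom.injective _, fun z => ?_⟩
    obtain ⟨z, rfl⟩ := IsLocalRing.residue_surjective z
    obtain ⟨w, rfl⟩ := (𝔜.toX n).stalkMap_surjective y₀ z
    exact ⟨IsLocalRing.residue _ w, rfl⟩
  let t : Spec ((𝔜.X n).residueField (𝔜.toX n y₀)) ⟶ 𝔜.X 0 :=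
    inv (Spec.map ((𝔜.toX n).residueFieldMap y₀)) ≫ (𝔜.X 0).fromSpecResidueField y₀
  have ht : t ≫ 𝔜.toX n = (𝔜.X n).fromSpecResidueField (𝔜.toX n y₀) := by
    rw [Category.assoc, ← Scheme.Hom.SpecMap_residueFieldMap_fromSpecResidueField, IsIso.inv_hom_id_assoc]
  have hfib : IsPullback (pullback.fst ((f : FSch.Hom 𝔛 𝔜).app 0) t ≫ 𝔛.toX n) (pullback.snd _ t)
      ((f : FSch.Hom 𝔛 𝔜).app n) ((𝔜.X n).fromSpecResidueField (𝔜.toX n y₀)) :=
    ht ▸ (IsPullback.of_hasPullback _ t).paste_horiz hsq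
  have hs : AlgebraicGeometry.Smooth (((f : FSch.Hom 𝔛 𝔜).app n).fiberToSpecResidueField (𝔜.toX n y₀)) := by
    have hcl : AlgebraicGeometry.Smooth (pullback.snd ((f : FSch.Hom 𝔛 𝔜).app 0) t) := MorphismProperty.pullback_snd _ _ h0
    rw [← hfib.isoPullback_hom_snd] at hcl
    exact (MorphismProperty.cancel_left_of_respectsIso @AlgebraicGeometry.Smooth hfib.isoPullback.hom _).mp hcl
  rw [hy₀] at hs
  haveI := hs
  refine Groth.Agent.H17.LocusBC.mem_smoothLocus_of_flat_of_fiber _ x (Flat.stalkMap _ x) ?_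
  rw [(((f : FSch.Hom 𝔛 𝔜).app n).fiberToSpecResidueField _).smoothLocus_eq_top]
  trivial

end Groth.Agent.S14004
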