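import Groth.Statements.S14005
import Mathlib

open TopologicalSpace

set_option linter.style.haveILetI false
open CategoryTheory CategoryTheory.Limits Opposite Simplicial

set_option autoImplicit false
universe u
open CategoryTheory AlgebraicGeometry
open CohTop

namespace Groth.Agent.S14005

/-- Take a scheme X with a locally Noetherian underlying topological space, F a sheaf of abelian groups
on X, x a point of X and s an element of the stalk F_x. Then the following are equivalent: (i) s is
the germ of a section t over some open neighbourhood U of x whose support in U is contained in the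
closure of {x} (that is, s belongs to the subgroup Γ_x(F) of F_x); (ii) for every generization y ≠ x
of x the image of s under the cospecialisation map F_x → F_y is zero (that is, viewed as a global
section of the inverse image of F on Spec O_{X,x}, s is supported at the closed point). -/
theorem result {X : Scheme.{u}}
    (hX : ∀ x : X, ∃ U : X.Opens, x ∈ U ∧ TopologicalSpace.NoetherianSpace U)
    (F : TopCat.Sheaf AddCommGrpCat.{u} X.carrier) (x : X) (s : F.presheaf.stalk x) :
    (∃ (U : X.Opens) (hx : x ∈ U) (t : F.presheaf.obj (Opposite.op U)),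
        F.presheaf.germ U x hx t = s ∧
          ∀ (u : X) (hu : u ∈ U), F.presheaf.germ U u hu t ≠ 0 → u ∈ closure ({x} : Set X)) ↔
      ∀ (y : X) (h : y ⤳ x), y ≠ x → F.presheaf.stalkSpecializes h s = 0 := by
  constructor
  · rintro ⟨U, hx, t, rfl, ht⟩ y h hne
    by_contra h0
    refine hne (h.antisymm (specializes_iff_mem_closure.2 (ht y (h.mem_open U.isOpen hx) ?_))).eq
    exact fun h1 => h0 ((ConcreteCategory.congr_hom (F.presheaf.germ_stalkSpecializes hx h) t).trans h1)
  · intro hs
    obtain ⟨U₁, hxU₁, hN⟩ := hX x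
    haveI : NoetherianSpace (U₁ : Set X) := hN
    obtain ⟨U₀, hxU₀, t₀, rfl⟩ := F.presheaf.exists_germ_eq s
    let U : X.Opens := U₁ ⊓ U₀
    have hxU : x ∈ U := ⟨hxU₁, hxU₀⟩
    let t := F.presheaf.map (homOfLE (inf_le_right : U ≤ U₀)).op t₀
    have htx : F.presheaf.germ U x hxU t = F.presheaf.germ U₀ x hxU₀ t₀ :=
      TopCat.Presheaf.germ_res_apply _ _ _ _ _
    haveI : NoetherianSpace U :=
      (Topology.IsEmbedding.inclusion (s := (U : Set X)) (t := (U₁ : Set X)) Set.inter_subset_left).isInducing.noetherianSpace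
    haveI : QuasiSober U := U.isOpenEmbedding'.quasiSober
    let Z : Set U := {u | F.presheaf.germ U u.1 u.2 t ≠ 0}
    have hZ : IsClosed Z := by
      rw [← isOpen_compl_iff, isOpen_iff_forall_mem_open]
      intro u hu
      have hu0 : F.presheaf.germ U u.1 u.2 t = F.presheaf.germ U u.1 u.2 0 := by
        rw [map_zero]; exact not_not.1 hu
      obtain ⟨W, huW, i, j, hW⟩ := F.presheaf.germ_eq u.1 u.2 u.2 t 0 hu0
      refine ⟨Subtype.val ⁻¹' (W : Set X), fun v hv => not_not.2 ?_, W.isOpen.preimage continuous_subtype_val, huW⟩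
      rw [← TopCat.Presheaf.germ_res_apply F.presheaf i v.1 hv t, hW, map_zero, map_zero]
    obtain ⟨S, hSf, hSc, hSi, hZS⟩ := NoetherianSpace.exists_finite_set_isClosed_irreducible hZ
    let B : Set U := ⋃ T ∈ S ∩ Set.ofPred (fun T => (⟨x, hxU⟩ : U) ∉ T), T
    have hB : IsClosed B := (hSf.subset Set.inter_subset_left).isClosed_biUnion (fun T hT => hSc T hT.1)
    let V : X.Opens := ⟨Subtype.val '' Bᶜ, U.isOpen.isOpenMap_subtype_val _ hB.isOpen_compl⟩
    have hxV : x ∈ V := ⟨⟨x, hxU⟩, fun h => by
      obtain ⟨T, hT, hxT⟩ := Set.mem_iUnion₂.1 h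
      exact hT.2 hxT, rfl⟩
    have hVU : V ≤ U := by rintro v ⟨w, -, rfl⟩; exact w.2
    refine ⟨V, hxV, F.presheaf.map (homOfLE hVU).op t, ?_, fun v hv hne => ?_⟩
    · rw [TopCat.Presheaf.germ_res_apply]; exact htx
    · rw [TopCat.Presheaf.germ_res_apply] at hne
      have hvZ : (⟨v, hVU hv⟩ : U) ∈ Z := hne
      rw [hZS] at hvZ
      obtain ⟨T, hT, hvT⟩ := hvZ
      have hxT : (⟨x, hxU⟩ : U) ∈ T := by
        by_contra h
        obtain ⟨w, hw, hwv⟩ := hv
        refine hw (Set.mem_iUnion₂.2 ⟨T, ⟨hT, h⟩, ?_⟩)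
        rw [show w = (⟨v, hVU ⟨w, hw, hwv⟩⟩ : U) from Subtype.ext hwv]
        exact hvT
      obtain ⟨g, hg⟩ := QuasiSober.sober (hSi T hT) (hSc T hT)
      have hgx : g.1 ⤳ x := (hg.specializes hxT).map continuous_subtype_val
      have hgv : g.1 ⤳ v := (hg.specializes hvT).map continuous_subtype_val
      have hgZ : g ∈ Z := hZS ▸ ⟨T, hT, hg.mem⟩
      have : g.1 = x := by
        by_contra hgne
        refine hgZ ((?_ : F.presheaf.germ U g.1 g.2 t = 0))
        have := hs g.1 hgx hgne
        rw [← htx] at this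
        exact (ConcreteCategory.congr_hom (F.presheaf.germ_stalkSpecializes hxU hgx) t).symm.trans this
      exact this ▸ hgv.mem_closure

end Groth.Agent.S14005
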