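import Groth.Statements.S14006
import Groth.Agent.H24Formal3.SmoothFormal
import Groth.Agent.H24FSch.Sub

set_option autoImplicit false
set_option linter.style.haveILetI false
universe u
open CategoryTheory AlgebraicGeometry
open FSch

attribute [-instance] CategoryTheory.catToReflQuiver
open AlgebraicGeometry Groth.Agent
namespace Groth.Agent.S14006

/-- Formal schemes are modelled as ℕ-indexed systems of thickenings. Let S be a locally Noetherian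
scheme, 𝒥 a quasi-coherent ideal of O_S, 𝔖 the completion of S along 𝒥 (the system of the closed
subschemes defined by the powers 𝒥^{n+1}) and S₀ its bottom level. Let X₀ and Y₀ be schemes smooth
over S₀ via a and b, f : X₀ ⟶ Y₀ a morphism with f ≫ b = a, and x a point of X₀. Then there are an
open neighbourhood U₀ of x and an open V₀ of Y₀ with f(U₀) ⊆ V₀, systems 𝔘 and 𝔙 with adic morphisms
p : 𝔘 ⟶ 𝔖 and q : 𝔙 ⟶ 𝔖 (all squares cartesian) all of whose levels are smooth, a morphism Φ : 𝔘 ⟶ 𝔙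
with Φ ≫ q = p, and isomorphisms of the bottom levels of 𝔘 and 𝔙 with U₀ and V₀, compatible with the
maps to S₀, under which the bottom level of Φ is the restriction U₀ ⟶ V₀ of f. In words: locally on
X₀ the morphism f has a smooth formal lifting over 𝔖. -/
theorem result (S : Scheme.{u}) [IsLocallyNoetherian S]
    (𝒥 : S.IdealSheafData) {X₀ Y₀ : Scheme.{u}}
    (a : X₀ ⟶ (FSch.completionAlong S 𝒥).X 0) (b : Y₀ ⟶ (FSch.completionAlong S 𝒥).X 0)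
    [AlgebraicGeometry.Smooth a] [AlgebraicGeometry.Smooth b] (f : X₀ ⟶ Y₀) (w : f ≫ b = a) (x : X₀) :
    ∃ (U₀ : X₀.Opens) (V₀ : Y₀.Opens) (hU : x ∈ U₀) (hUV : U₀ ≤ f ⁻¹ᵁ V₀)
      (𝔘 𝔙 : FSch.Sys.{u}) (p : 𝔘 ⟶ FSch.completionAlong S 𝒥) (q : 𝔙 ⟶ FSch.completionAlong S 𝒥)
      (Φ : 𝔘 ⟶ 𝔙) (eU : 𝔘.X 0 ≅ U₀.toScheme) (eV : 𝔙.X 0 ≅ V₀.toScheme),
      Φ ≫ q = p ∧ FSch.IsAdicHom p ∧ FSch.IsAdicHom q ∧
      (∀ n : ℕ, AlgebraicGeometry.Smooth ((p : FSch.Hom 𝔘 _).app n)) ∧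
      (∀ n : ℕ, AlgebraicGeometry.Smooth ((q : FSch.Hom 𝔙 _).app n)) ∧
      eU.hom ≫ U₀.ι ≫ a = (p : FSch.Hom 𝔘 _).app 0 ∧
      eV.hom ≫ V₀.ι ≫ b = (q : FSch.Hom 𝔙 _).app 0 ∧
      (Φ : FSch.Hom 𝔘 𝔙).app 0 ≫ eV.hom = eU.hom ≫ f.resLE V₀ U₀ hUV := by
    let c := FSch.completionToX S 𝒥 0
    haveI : IsClosedImmersion c := inferInstanceAs (IsClosedImmersion ((𝒥 ^ (0 + 1)).subschemeι))
    obtain ⟨W, hW, hxW, -⟩ := exists_isAffineOpen_mem_and_subset (x := c (a x)) (U := (⊤ : S.Opens)) trivial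
    obtain ⟨V₀, hV₀, hfx, hVle⟩ := exists_isAffineOpen_mem_and_subset (x := f x) (U := (b ≫ c) ⁻¹ᵁ W) (by
      show c (b (f x)) ∈ W
      rwa [show b (f x) = a x from congr($w x)])
    obtain ⟨U₀, hU₀, hxU, hUle⟩ := exists_isAffineOpen_mem_and_subset (x := x) (U := f ⁻¹ᵁ V₀) hfx
    haveI : IsAffine V₀.toScheme := hV₀
    haveI : IsAffine U₀.toScheme := hU₀
    obtain ⟨A, α, i, hα, hi⟩ := H24Formal3.SmoothLift.exists_smooth_thickening c (U₀.ι ≫ a) hW (fun y _ => by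
      show c (a (U₀.ι y)) ∈ W
      have h : c (b (f (U₀.ι y))) ∈ W := hVle (hUle y.2)
      rwa [show b (f (U₀.ι y)) = a (U₀.ι y) from congr($w (U₀.ι y))] at h)
    obtain ⟨B, β, j, hβ, hj⟩ := H24Formal3.SmoothLift.exists_smooth_thickening c (V₀.ι ≫ b) hW
      (fun y _ => hVle y.2)
    obtain ⟨eU, heU⟩ := H24Formal3.SmoothFormal.exists_iso_level_zero 𝒥 hW α _ i hi
    obtain ⟨eV, heV⟩ := H24Formal3.SmoothFormal.exists_iso_level_zero 𝒥 hW β _ j hj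
    have hf : (eU.hom ≫ f.resLE V₀ U₀ hUle ≫ eV.inv) ≫
        (H24Formal3.SmoothFormal.str 𝒥 hW β : FSch.Hom _ _).app 0 =
        (H24Formal3.SmoothFormal.str 𝒥 hW α : FSch.Hom _ _).app 0 := by
      rw [← heV, ← heU]
      simp [w]
    obtain ⟨Φ, hΦ, hΦ0⟩ := H24Formal3.SmoothFormal.exists_hom 𝒥 hW α β hα hβ _ hf
    refine ⟨U₀, V₀, hxU, hUle, _, _, H24Formal3.SmoothFormal.str 𝒥 hW α, H24Formal3.SmoothFormal.str 𝒥 hW β, Φ, eU, eV,
      hΦ, H24FSch.isAdicHom_completionMap _ 𝒥 _, H24FSch.isAdicHom_completionMap _ 𝒥 _,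
      H24Formal3.SmoothFormal.smooth_str 𝒥 hW α hα, H24Formal3.SmoothFormal.smooth_str 𝒥 hW β hβ, heU, heV, ?_⟩
    rw [hΦ0]
    simp

end Groth.Agent.S14006
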