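import Groth.Statements.S14007
import Groth.Agent.H27KZero.PerfectSupp
import Mathlib

set_option autoImplicit false
universe u
open CategoryTheory AlgebraicGeometry
attribute [local instance] HasDerivedCategory.standard
open KZero

namespace Groth.Agent.S14007

/-- Let X be a Noetherian scheme and Y' ⊆ X a closed subset, and suppose that every coherent O_X-module
with support in Y', viewed in degree 0, is a perfect object of D(O_X). Write K_0(C) for the
Grothendieck group of the abelian category C of coherent O_X-modules supported in Y' (objects modulo
short exact sequences) and K_0(D) for that of the full triangulated subcategory D of D(O_X) on the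
perfect complexes all of whose cohomology sheaves are supported in Y' (objects modulo distinguished
triangles with vertices in D). Then the homomorphism K_0(C) → K_0(D) induced by G ↦ G[0] is an
isomorphism: there is an isomorphism of groups carrying the class of every G in C to the class of
G[0]. -/
theorem result (X : Scheme.{u}) [IsNoetherian X]
    (Y' : Set X) (hY' : IsClosed Y')
    (hperf : ∀ G : X.Modules, Coh.IsCoh G → CohB1.support G ⊆ Y' → DCoh.IsPerfect (DCoh.inD X G)) :
    ∃ φ : KZero.K0sub (fun G : X.Modules => Coh.IsCoh G ∧ CohB1.support G ⊆ Y') ≃+
        KZero.K0tr (fun K : DCoh.D X => DCoh.IsPerfect K ∧ ∀ i : ℤ, CohB1.support (DCoh.HD K i) ⊆ Y'),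
      ∀ G : X.Modules, Coh.IsCoh G → CohB1.support G ⊆ Y' →
        φ (KZero.clSub (fun G : X.Modules => Coh.IsCoh G ∧ CohB1.support G ⊆ Y') G) =
          KZero.clTr (fun K : DCoh.D X => DCoh.IsPerfect K ∧ ∀ i : ℤ, CohB1.support (DCoh.HD K i) ⊆ Y')
            (DCoh.inD X G) := by
  exact Groth.Agent.H27KZero.exists_equiv_perfect Y' hperf

end Groth.Agent.S14007
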