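-- statement FlatMor.GrothFrozen.S1401 (Groth/Statements/S1401.lean; the theorem FlatMor.isIndQuasiAffineHom_of_flat_surjective_qc_baseChange);
import Groth.Statements.S1401
import Groth.Agent.H7Flat.IndQuasiAffineDescent

set_option autoImplicit false
universe u
open FlatMor

namespace Groth.Agent.S1401

open AlgebraicGeometry CategoryTheory Limits in
/-- Let S' → S be flat, surjective and quasi-compact and let f' be the base change of f : X → S to S'.
If f' is ind-quasi-affine then so is f. -/
theorem result {X S X' S' : Scheme.{u}} (f : X ⟶ S) (f' : X' ⟶ S') (g' : X' ⟶ X) (g : S' ⟶ S)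
    [Flat g] [Surjective g] [QuasiCompact g] (hc : IsPullback g' f' f g) (hf' : MoreMor.IsIndQuasiAffineHom f') : MoreMor.IsIndQuasiAffineHom f := by
  exact H7Flat.indQA_descends hc hf'

end Groth.Agent.S1401
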