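import Groth.Statements.S14012
import Groth.Agent.H18EpsMod.LimExact
import Groth.Agent.H18EpsMod.Exact

set_option autoImplicit false
open CategoryTheory CategoryTheory.Limits AlgebraicGeometry Opposite
universe u
open EtModW

namespace Groth.Agent.S14012

/-- Let X be a Noetherian scheme, Λ a Noetherian commutative ring and I an ideal of Λ. Let 0 ⟶ A ⟶ B ⟶ C
⟶ 0 be a short exact sequence of inverse systems (indexed by ℕ) of sheaves of Λ-modules on the small
étale site of X, and assume A is I-adic up to translation: it receives a morphism, with kernel and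
cokernel null up to translation, from an I-adic system. Then the induced morphism lim_n ε⁻¹B_n ⟶
lim_n ε⁻¹C_n of sheaves on the small pro-étale site is an epimorphism; since the limit functor is
left exact this says that lim_n ε⁻¹(−) carries the given sequence to a short exact sequence. (The
published statement takes all three systems I-adic up to translation; only the hypothesis on A
enters, so B and C are arbitrary here. Continuity of the inclusion of the étale site into the
pro-étale site is carried as a binder.) -/
theorem result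
    (Λ : Type (u + 1)) [CommRing Λ] [IsNoetherianRing Λ] (I : Ideal Λ)
    (X : Scheme.{u}) [IsNoetherian X] [ProEtS.EpsCont X]
    (S : ShortComplex (ARSys.PS (EtModW.Mod Λ X))) (hS : S.ShortExact)
    (hA : ∃ (Y : ARSys.PS (EtModW.Mod Λ X)) (v : Y ⟶ S.X₁), ARSys.IsAdic I Y ∧ ARSys.IsARIso v) :
    Epi (limMap (Functor.whiskerRight S.g (EtModW.epsPullMod Λ X))) := by
  obtain ⟨Y, v, hY, -, r, hr⟩ := hA
  let L := EtModW.epsPullMod Λ X
  haveI := H18EpsMod.preservesFiniteLimits_epsPullMod Λ X
  haveI := H18EpsMod.preservesFiniteColimits_epsPullMod Λ X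
  haveI : L.Additive := (H18EpsMod.adjMod Λ X).left_adjoint_additive
  let ev : ℕ → ARSys.PS (EtModW.Mod Λ X) ⥤ EtModW.ModP Λ X := fun n => (evaluation ℕᵒᵖ _).obj (op n) ⋙ L
  have hex : ∀ n, (S.map (ev n)).ShortExact := fun n =>
    (hS.map_of_exact ((evaluation ℕᵒᵖ (EtModW.Mod Λ X)).obj (op n))).map_of_exact L
  let T : ShortComplex (ARSys.PS (EtModW.Mod Λ X)) := ShortComplex.mk v (cokernel.π v) (cokernel.condition v)
  have hT : ∀ n, (T.map (ev n)).Exact := fun n =>
    ((ShortComplex.exact_of_g_is_cokernel T (cokernelIsCokernel v)).map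
      ((evaluation ℕᵒᵖ (EtModW.Mod Λ X)).obj (op n))).map L
  refine H18EpsMod.epi_limMap (Y := Y ⋙ L) _ (fun n => (hex n).epi_g) (Functor.whiskerRight (v ≫ S.f) L) ?_ ?_ r ?_
  · rw [← Functor.whiskerRight_comp, Category.assoc, S.zero, comp_zero]
    ext n : 2
    exact L.map_zero _ _
  · exact fun n m h => H18EpsMod.epi_of_isQuot ((H18EpsMod.isAdic_comp Λ X I Y hY).2 n m h)
  · intro n V hV b hb
    obtain ⟨a, rfl⟩ := H18EpsMod.exists_preimage_section (hex (n + r)).exact hV b hb
    let a' := ((H18Adic.secF V).map (L.map (ARSys.shiftMap S.X₁ r n))).hom a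
    have e : L.map (ARSys.shiftMap S.X₁ r n) ≫ L.map ((cokernel.π v).app (op n)) = 0 := by
      refine (L.map_comp _ _).symm.trans ((congrArg L.map ?_).trans (L.map_zero _ _))
      refine ((cokernel.π v).naturality (homOfLE (Nat.le_add_right n r)).op).trans ?_
      exact (congrArg (_ ≫ ·) (hr n)).trans comp_zero
    obtain ⟨y, hy⟩ := H18EpsMod.exists_preimage_section (hT n) hV a' (by
      refine (H18EpsMod.sec_comp _ _ a).trans ?_
      exact congrArg (fun f => ((H18Adic.secF V).map f).hom a) e)
    refine ⟨y, ?_⟩
    change ((H18Adic.secF V).map (L.map ((v ≫ S.f).app (op n)))).hom y = _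
    rw [NatTrans.comp_app, L.map_comp, ← H18EpsMod.sec_comp]
    refine (congrArg _ hy).trans ?_
    refine (H18EpsMod.sec_comp _ _ a).trans (Eq.trans ?_ (H18EpsMod.sec_comp _ _ a).symm)
    refine congrArg (fun f => ((H18Adic.secF V).map f).hom a) ?_
    exact (L.map_comp _ _).symm.trans ((congrArg L.map (S.f.naturality (homOfLE (Nat.le_add_right n r)).op)).trans
      (L.map_comp _ _))

end Groth.Agent.S14012
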