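import Groth.Statements.S14018
import Mathlib.CategoryTheory.Sites.LocallySurjective
import Mathlib.CategoryTheory.Limits.Types.Limits
import Mathlib.CategoryTheory.Sites.Limits

set_option linter.style.haveILetI false
open CategoryTheory CategoryTheory.Limits Opposite

set_option autoImplicit false
open CategoryTheory CategoryTheory.Limits Opposite
universe w v u
open CohSite

namespace Groth.Agent.S14018

/-- Let (C, J) be a site with enough weakly contractible objects — every object V has a covering sieve
all of whose arrows factor through some weakly contractible object, an object U being weakly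
contractible when every epimorphism of sheaves of sets (valued in a fixed universe) is surjective on
sections over U. Then the topos of sheaves of sets is replete: if (F_n) is an inverse system of
sheaves of sets indexed by ℕ with every transition map F_(n+1) ⟶ F_n an epimorphism, then each
projection lim_n F_n ⟶ F_n is an epimorphism; the limit is taken as any limit cone. (The small
pro-étale site of a scheme is such a site.) -/
theorem result
    {C : Type u} [Category.{v} C] (J : GrothendieckTopology C)
    (hwc : ∀ V : C, ∃ S : Sieve V, S ∈ J V ∧ ∀ ⦃W : C⦄ (f : W ⟶ V), S.arrows f →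
      ∃ (U : C) (g : W ⟶ U) (h : U ⟶ V), (∀ (A B : Sheaf J (Type w)) (ψ : A ⟶ B), Epi ψ → Function.Surjective (ψ.hom.app (op U))) ∧ g ≫ h = f)
    (F : ℕᵒᵖ ⥤ Sheaf J (Type w))
    (hF : ∀ n : ℕ, Epi (F.map (homOfLE (Nat.le_succ n)).op))
    (c : Cone F) (hc : IsLimit c) (n : ℕ) :
    Epi (c.π.app (op n)) := by
  suffices Sheaf.IsLocallySurjective (c.π.app (op n)) from inferInstance
  refine ⟨fun {V} s => ?_⟩
  obtain ⟨S, hS, hf⟩ := hwc V
  refine J.superset_covering ?_ hS
  intro W f hW
  obtain ⟨U, g, h, hU, rfl⟩ := hf f hW
  let G := F ⋙ sheafToPresheaf J (Type w) ⋙ (evaluation Cᵒᵖ (Type w)).obj (op U)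
  have step : ∀ m : ℕ, Function.Surjective (G.map (homOfLE (Nat.le_succ m)).op) := fun m => hU _ _ _ (hF m)
  let b : ∀ k, G.obj (op (n + k)) := fun k => Nat.rec ((F.obj (op n)).obj.map h.op s) (fun k bk => (step (n + k) bk).choose) k
  have hb : ∀ k, G.map (homOfLE (Nat.le_succ (n + k))).op (b (k + 1)) = b k := fun k => (step (n + k) (b k)).choose_spec
  have hbk : ∀ k k' (hk : k ≤ k'), G.map (homOfLE (Nat.add_le_add_left hk n)).op (b k') = b k := by
    intro k k' hk
    induction hk with
    | refl => simp
    | @step m hm ih =>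
      rw [← ih, ← hb m, ← ConcreteCategory.comp_apply, ← G.map_comp]
      rfl
  let x : ∀ m : ℕᵒᵖ, G.obj m := fun m => G.map (homOfLE (Nat.le_add_left m.unop n)).op (b m.unop)
  have hx : x ∈ G.sections := by
    intro i j k
    simp only [x]
    rw [← ConcreteCategory.comp_apply, ← G.map_comp, ← hbk j.unop i.unop k.unop.le, ← ConcreteCategory.comp_apply, ← G.map_comp]
    rfl
  let z := (Types.isLimitEquivSections (isLimitOfPreserves (sheafToPresheaf J (Type w) ⋙ (evaluation Cᵒᵖ (Type w)).obj (op U)) hc)).symm ⟨x, hx⟩
  have hz : (c.π.app (op n)).hom.app (op U) z = (F.obj (op n)).obj.map h.op s := by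
    refine (Types.isLimitEquivSections_symm_apply (isLimitOfPreserves (sheafToPresheaf J (Type w) ⋙ (evaluation Cᵒᵖ (Type w)).obj (op U)) hc) ⟨x, hx⟩ (op n)).trans ?_
    exact hbk 0 n (Nat.zero_le n)
  refine ⟨c.pt.obj.map g.op z, ?_⟩
  erw [NatTrans.naturality_apply, hz, ← ConcreteCategory.comp_apply, ← Functor.map_comp]
  rfl

end Groth.Agent.S14018
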