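-- statement FlatMor.GrothFrozen.S1402 (Groth/Statements/S1402.lean; the theorem FlatMor.isIndQuasiAffineHom_of_separated_locallyQuasiFinite);
import Groth.Statements.S1402
import Groth.Agent.H7Flat.IndQuasiAffine

set_option autoImplicit false
universe u
open FlatMor

namespace Groth.Agent.S1402

open AlgebraicGeometry CategoryTheory Limits in
/-- A separated, locally quasi-finite morphism is ind-quasi-affine. -/
theorem result {X Y : Scheme.{u}} (f : X ⟶ Y) [IsSeparated f] [LocallyQuasiFinite f] [LocallyOfFiniteType f] :
    MoreMor.IsIndQuasiAffineHom f := by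
  exact Groth.Agent.H7Flat.indQA_of_isSeparated f

end Groth.Agent.S1402
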