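import Groth.Statements.S14025
import Groth.Agent.H18EpsMod.EssLocal
import Groth.Agent.H18EpsMod.Transport
import Groth.Agent.H18EpsMod.CmpGen
import Groth.Agent.H18Et.LC.Wrap

set_option autoImplicit false
open CategoryTheory CategoryTheory.Limits AlgebraicGeometry Opposite
universe u
open EtModW

namespace Groth.Agent.S14025

/-- Let X be a scheme, Λ a Noetherian commutative ring and F a sheaf of Λ-modules on the small pro-étale
site of X. Then F is constructible — isomorphic to the pro-étale pullback ε⁻¹E of a constructible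
sheaf E of Λ-modules on the small étale site — exactly when each affine open U ⊆ X can be split into
finitely many constructible locally closed strata, the images of immersions g_i : T_i ⟶ X, such that
for each i the pullback of F to the small pro-étale site of T_i is isomorphic to the pro-étale
pullback of a finite-type locally constant sheaf of Λ-modules on the small étale site of T_i.
(Continuity of the inclusions of étale into pro-étale sites and of the base-change functors between
pro-étale sites is carried as binders.) -/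
theorem result
    (Λ : Type (u + 1)) [CommRing Λ] [IsNoetherianRing Λ]
    (X : Scheme.{u}) [∀ T : Scheme.{u}, ProEtS.EpsCont T]
    [∀ (T : Scheme.{u}) (g : T ⟶ X), ProEtS.PCont g]
    (F : EtModW.ModP Λ X) :
    (∃ E : EtModW.Mod Λ X, EtModW.IsConstructible Λ E ∧ Nonempty ((EtModW.epsPullMod Λ X).obj E ≅ F)) ↔
      ∀ U : X.Opens, IsAffineOpen U →
        ∃ (m : ℕ) (T : Fin m → Scheme.{u}) (g : ∀ i, T i ⟶ X),
          (∀ i, IsImmersion (g i)) ∧
          (∀ i, Topology.IsConstructible ((Subtype.val : ↥(U : Set X) → X) ⁻¹' Set.range (fun t => (g i).base t))) ∧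
          Pairwise (fun i j => Disjoint (Set.range (fun t => (g i).base t)) (Set.range (fun t => (g j).base t))) ∧
          (⋃ i, Set.range (fun t => (g i).base t)) = (U : Set X) ∧
          ∀ i, ∃ E : EtModW.Mod Λ (T i), EtModW.IsFTLocConst Λ E ∧
            Nonempty ((EtModW.epsPullMod Λ (T i)).obj E ≅ (((ProEtS.bcP (g i)).sheafPullback (ModuleCat.{u + 1} Λ) (Scheme.ProEt.topology X) (Scheme.ProEt.topology (T i)))).obj F) := by
  haveI : ∀ (T : Scheme.{u}) (g : T ⟶ X), ProEtS.PCont g := inferInstance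
  constructor
  · rintro ⟨E, hE, ⟨e⟩⟩ U hU
    obtain ⟨m, T, g, h1, h2, h3, h4, h5⟩ := hE U hU
    refine ⟨m, T, g, h1, h2, h3, h4, fun i => ⟨_, h5 i, ?_⟩⟩
    obtain ⟨θ⟩ := H18EpsMod.nonempty_epsPullMod_pull_iso (g i) Λ
    exact ⟨(θ.app E).symm ≪≫ Functor.mapIso _ e⟩
  intro h
  let A := (H18EpsMod.fgtP Λ X).obj F
  -- the underlying abelian sheaf is pulled back from the étale site
  have hA : H18EpsMod.Ess X A := by
    have hb : ∀ x : X, ∃ W : X.Opens, IsAffineOpen W ∧ x ∈ W ∧ W ≤ ⊤ := fun x =>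
      (TopologicalSpace.Opens.isBasis_iff_nbhd.1 X.isBasis_affineOpens) (show x ∈ (⊤ : X.Opens) from trivial)
    choose U hxU hU using hb
    refine H18EpsMod.ess_of_openCover U (fun x => ⟨x, (hU x).1⟩) A fun x => ?_
    obtain ⟨m, T, g, hg, hc, -, hu, hq⟩ := h (U x) (hxU x)
    haveI := hg
    haveI : IsAffine (U x).toScheme := hxU x
    let g' := fun i => IsOpenImmersion.lift (U x).ι (g i) (by
      rw [Scheme.Opens.range_ι, ← hu]
      exact Set.subset_iUnion (fun i => Set.range (fun t => (g i).base t)) i)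
    have hf : ∀ i, g' i ≫ (U x).ι = g i := fun i => IsOpenImmersion.lift_fac _ _ _
    haveI : ∀ i, IsImmersion (g' i) := fun i => by
      have : IsImmersion (g' i ≫ (U x).ι) := by rw [hf]; exact hg i
      exact IsImmersion.of_comp (g' i) (U x).ι
    have hr : ∀ i, Set.range (g' i) = (U x).ι ⁻¹' Set.range (g i) := fun i => by
      rw [← hf i, Scheme.Hom.comp_base, TopCat.coe_comp, Set.range_comp,
        Set.preimage_image_eq _ (U x).ι.isOpenEmbedding.injective]
    haveI := S0730.result (U x).ι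
    haveI : ∀ i, ProEtS.PCont (g' i) := fun i => S0730.result (g' i)
    refine H18EpsMod.ess_of_strata T g' inferInstance (fun i => ?_) ?_ _ fun i => ?_
    · rw [hr]; exact hc i
    · simp only [hr, ← Set.preimage_iUnion]
      rw [show (⋃ i, Set.range (g i)) = (U x : Set X) from hu]
      exact Set.eq_univ_of_forall fun w => w.2
    · obtain ⟨E, -, ⟨e⟩⟩ := hq i
      haveI : ProEtS.PCont (g' i ≫ (U x).ι) := S0730.result _
      obtain ⟨θ⟩ := H18EpsMod.nonempty_pullP_comp (U x).ι (g' i)
      let c := (H18EpsMod.cmpIso Λ (T i)).app E ≪≫ (H18EpsMod.fgtP Λ (T i)).mapIso e ≪≫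
        ((H18EpsMod.Gen.cmpIso Λ (Scheme.ProEt.topology X) (Scheme.ProEt.topology (T i)) (ProEtS.bcP (g i))).app F).symm
      refine H18EpsMod.ess_iso (θ.app A).symm ?_
      simp only [hf]
      exact H18EpsMod.ess_of_iso c
  obtain ⟨G, -, ⟨eG⟩⟩ := hA
  haveI := H18EpsMod.isIso_counit_of_ab Λ F G eG
  let E := (H18EpsMod.pushMod Λ X).obj F
  refine ⟨E, fun U hU => ?_, ⟨asIso ((H18EpsMod.adjMod Λ X).counit.app F)⟩⟩
  obtain ⟨m, T, g, h1, h2, h3, h4, h5⟩ := h U hU
  refine ⟨m, T, g, h1, h2, h3, h4, fun i => ?_⟩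
  obtain ⟨E', hE', ⟨e'⟩⟩ := h5 i
  obtain ⟨θ⟩ := H18EpsMod.nonempty_epsPullMod_pull_iso (g i) Λ
  haveI := (H18EpsMod.full_faithful Λ (T i)).1
  haveI := (H18EpsMod.full_faithful Λ (T i)).2
  let q := e' ≪≫ Functor.mapIso _ (asIso ((H18EpsMod.adjMod Λ X).counit.app F)).symm ≪≫ θ.app E
  exact H18Et.LC.isFTLocConst_of_iso Λ ((EtModW.epsPullMod Λ (T i)).preimageIso q) hE'

end Groth.Agent.S14025
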