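import Groth.Statements.S14026
import Groth.Agent.H15Site.SheafEpi
import Groth.Agent.H15Site.CocontFF
import Groth.Agent.H15Site.CofanSheafify

set_option linter.style.haveILetI false

set_option autoImplicit false
open CategoryTheory CategoryTheory.Limits Opposite
universe v u
open CohSite

namespace Groth.Agent.S14026

/-- Let C be a site with topology J and U an object of C such that every object has at most one morphism
to U (a subobject of the terminal object). For sheaves of sets, let j^* be restriction to the
localized site C/U and j_! its left adjoint (extension by the empty set), which exists under the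
stated sheafification and Kan-extension hypotheses. Then for every sheaf F on C/U the unit morphism
F ⟶ j^* j_! F is an isomorphism. -/
theorem result
    {C : Type u} [Category.{v} C] (J : GrothendieckTopology C) (U : C)
    (hU : ∀ V : C, Subsingleton (V ⟶ U))
    [HasWeakSheafify J (Type (max u v))]
    [∀ (P : (Over U)ᵒᵖ ⥤ (Type (max u v))), (Over.forget U).op.HasLeftKanExtension P]
    (F : Sheaf (J.over U) (Type (max u v))) :
    IsIso (((Over.forget U).sheafAdjunctionContinuous (Type (max u v)) (J.over U) J).unit.app F) := by
  haveI : (Over.forget U).Full := ⟨fun {X Y} f => ⟨Over.homMk f (@Subsingleton.elim _ (hU _) _ _), rfl⟩⟩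
  haveI := Groth.Agent.H15Site.isIso_sheafAdjunctionContinuous_unit (Over.forget U) (Type (max u v)) (J.over U) J
  exact NatIso.isIso_app_of_isIso _ _

end Groth.Agent.S14026
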