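import Groth.Statements.S14029
import Groth.Agent.H15Site.SheafEpi
import Groth.Agent.H15Site.CocontFF
import Groth.Agent.H15Site.CofanSheafify

set_option linter.style.haveILetI false

set_option autoImplicit false
open CategoryTheory CategoryTheory.Limits Opposite
universe v u
open CohSite

namespace Groth.Agent.S14029

/-- Let (C, J) be a site and U an object such that every object has at most one morphism to U; assume
extension by the empty set j_! from sheaves of sets on the localized site C/U to sheaves of sets on
C exists (through sheafification on C and left Kan extensions along C/U → C). If V is weakly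
contractible in C — every epimorphism of sheaves of sets on C is surjective on sections over V —
then for any morphism a : V ⟶ U the object V → U of C/U is weakly contractible in C/U: every
epimorphism of sheaves of sets on C/U is surjective on sections over it. Hence C/U has enough weakly
contractible objects when C does. -/
theorem result
    {C : Type u} [Category.{v} C] (J : GrothendieckTopology C) (U : C)
    (hU : ∀ W : C, Subsingleton (W ⟶ U))
    [HasWeakSheafify J (Type (max u v))]
    [∀ (P : (Over U)ᵒᵖ ⥤ Type (max u v)), (Over.forget U).op.HasLeftKanExtension P]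
    (V : C) (hV : (∀ (A B : Sheaf J (Type (max u v))) (ψ : A ⟶ B), Epi ψ → Function.Surjective (ψ.hom.app (op V)))) (a : V ⟶ U) :
    ∀ (A B : Sheaf (J.over U) (Type (max u v))) (ψ : A ⟶ B), Epi ψ →
      Function.Surjective (ψ.hom.app (op (Over.mk a))) := by
  intro A B ψ hψ
  haveI : (Over.forget U).Full := ⟨fun {X Y} f => ⟨Over.homMk f (@Subsingleton.elim _ (hU _) _ _), rfl⟩⟩
  let adj := (Over.forget U).sheafAdjunctionContinuous (Type (max u v)) (J.over U) J
  haveI := Groth.Agent.H15Site.isIso_sheafAdjunctionContinuous_unit (Over.forget U) (Type (max u v)) (J.over U) J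
  haveI : ((Over.forget U).sheafPullback (Type (max u v)) (J.over U) J).IsLeftAdjoint := adj.isLeftAdjoint
  haveI := ((Over.forget U).sheafPullback (Type (max u v)) (J.over U) J).map_epi ψ
  have h := hV _ _ (((Over.forget U).sheafPullback (Type (max u v)) (J.over U) J).map ψ) inferInstance
  let ev := sheafToPresheaf (J.over U) (Type (max u v)) ⋙ (evaluation (Over U)ᵒᵖ (Type (max u v))).obj (op (Over.mk a))
  haveI : ∀ P, IsIso (adj.unit.app P) := fun P => NatIso.isIso_app_of_isIso _ _
  have hA := (isIso_iff_bijective (ev.map (adj.unit.app A))).1 inferInstance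
  have hB := (isIso_iff_bijective (ev.map (adj.unit.app B))).1 inferInstance
  intro b
  obtain ⟨a', ha'⟩ := h ((adj.unit.app B).hom.app (op (Over.mk a)) b)
  obtain ⟨x, rfl⟩ := hA.2 a'
  refine ⟨x, hB.1 ?_⟩
  refine Eq.trans ?_ ha'
  exact congr($(congr_app (congrArg (fun k => k.hom) (adj.unit.naturality ψ)) (op (Over.mk a))) x)

end Groth.Agent.S14029
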