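import Groth.Statements.S1403
import Groth.Agent.H7Flat.Horizontal.Upper

set_option maxHeartbeats 1000000
set_option backward.isDefEq.respectTransparency false

set_option autoImplicit false
universe u
open FlatMor

namespace Groth.Agent.S1403

/-- Let A → B be an injective local homomorphism of local domains with B essentially of finite type and
flat over A. Then dim(B / m_A B) + trdeg_{κ(A)} κ(B) = trdeg_A B; all three quantities are finite
here, and the statement gives them as natural numbers d, e with d + e the transcendence degree of B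
over A. -/
theorem result {A B : Type u} [CommRing A] [CommRing B] [IsDomain A] [IsDomain B] [IsLocalRing A] [IsLocalRing B]
    [Algebra A B] [IsLocalHom (algebraMap A B)] [FaithfulSMul A B] [Algebra.EssFiniteType A B] [Module.Flat A B] :
    ∃ d e : ℕ, ringKrullDim (B ⧸ Ideal.map (algebraMap A B) (IsLocalRing.maximalIdeal A)) = d ∧
      Algebra.trdeg (IsLocalRing.ResidueField A) (IsLocalRing.ResidueField B) = e ∧ Algebra.trdeg A B = (d + e : ℕ) := by
  classical
  let B0 := Algebra.EssFiniteType.subalgebra A B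
  have hsub : (Algebra.EssFiniteType.submonoid A B) =
      ((IsLocalRing.maximalIdeal B).comap (algebraMap B0 B)).primeCompl := by
    ext x
    show IsUnit (algebraMap B0 B x) ↔ ¬ (algebraMap B0 B x ∈ IsLocalRing.maximalIdeal B)
    rw [IsLocalRing.mem_maximalIdeal, mem_nonunits_iff, not_not]
  haveI : IsLocalization.AtPrime B ((IsLocalRing.maximalIdeal B).comap (algebraMap B0 B)) := by
    show IsLocalization _ B
    rw [← hsub]
    infer_instance
  haveI : FaithfulSMul B0 B := (faithfulSMul_iff_algebraMap_injective _ _).mpr Subtype.val_injective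
  haveI : FaithfulSMul A B0 := (faithfulSMul_iff_algebraMap_injective _ _).mpr fun a b h =>
    FaithfulSMul.algebraMap_injective A B (congrArg (algebraMap B0 B) h)
  let q : PrimeSpectrum B0 := ⟨(IsLocalRing.maximalIdeal B).comap (algebraMap B0 B), inferInstance⟩
  have hq : q.asIdeal.under A = IsLocalRing.maximalIdeal A := by
    show ((IsLocalRing.maximalIdeal B).comap (algebraMap B0 B)).comap (algebraMap A B0) = _
    rw [Ideal.comap_comap, ← IsScalarTower.algebraMap_eq]
    exact IsLocalRing.maximalIdeal_comap (algebraMap A B)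
  obtain ⟨Qc, hQc, hfd⟩ := H7Flat.Horizontal.fibreDimAt_eq_iSup q hq
  let C := H7Flat.Horizontal.CFib A B0
  let k := IsLocalRing.ResidueField A
  haveI : IsNoetherianRing C := Algebra.FiniteType.isNoetherianRing k C
  obtain ⟨d, hd⟩ := ENat.ne_top_iff_exists.mp (Ideal.height_ne_top (I := Qc.asIdeal) Qc.2.ne_top)
  haveI : Algebra.FiniteType k (C ⧸ Qc.asIdeal) :=
    Algebra.FiniteType.trans (R := k) (S := C) inferInstance inferInstance
  obtain ⟨e, he, he'⟩ := H8Props.FieldDim.exists_dim_trdeg k (C ⧸ Qc.asIdeal)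
  refine ⟨d, e, ?_, ?_, ?_⟩
  · rw [H7Flat.Horizontal.dim_cfib_eq_height Qc hQc, ← hd]
    rfl
  · rw [H7Flat.Horizontal.trdeg_residueField_eq Qc hQc, he']
  have hsum : ((d + e : ℕ) : WithBot ℕ∞) =
      ⨆ P : {P : PrimeSpectrum C // P ≤ Qc}, ringKrullDim (C ⧸ P.1.asIdeal) := by
    rw [← H8Props.FieldDim.height_add_dim_quotient_eq_iSup (k := k) C Qc, he, ← hd]
    norm_cast
  rw [← hsum] at hfd
  obtain ⟨σ, _, γ, hcard, hqf⟩ := H8Props.FieldDim.exists_quasiFiniteAt_map q (d + e) hfd.le
  have hle : Algebra.trdeg A B ≤ (d + e : ℕ) := by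
    rw [H7Flat.Horizontal.trdeg_localization_eq (B0 := B0)]
    exact (H7Flat.Horizontal.trdeg_le_card γ q hqf).trans (by exact_mod_cast hcard)
  refine hle.antisymm ?_
  obtain ⟨t, -, ht⟩ := Cardinal.exists_nat_eq_of_le_nat hle
  rw [ht]
  have h2 : ((d + e : ℕ) : WithBot ℕ∞) ≤ (t : ℕ) := by
    rw [hsum]
    refine iSup_le fun P => ?_
    haveI : Algebra.FiniteType k (C ⧸ P.1.asIdeal) :=
      Algebra.FiniteType.trans (R := k) (S := C) inferInstance inferInstance
    obtain ⟨s, hs, hs'⟩ := H8Props.FieldDim.exists_dim_trdeg k (C ⧸ P.1.asIdeal)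
    have h3 := H7Flat.Horizontal.trdeg_cfib_le (B := B) P.1 ((Ideal.comap_mono P.2).trans hQc.le)
    rw [hs', ht] at h3
    rw [hs]
    exact_mod_cast (Nat.cast_le (α := Cardinal)).mp h3
  exact_mod_cast (show (d + e : ℕ) ≤ t by exact_mod_cast h2)

end Groth.Agent.S1403
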