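import Groth.Statements.S14032
import Groth.Agent.H27Misc.NRBasis

set_option autoImplicit false
universe u v
open W4c1frobunstiva

namespace Groth.Agent.S14032

open TensorProduct in
/-- Let R be a commutative Noetherian ring with nilradical n, M an R-module and r a natural number. Then
M is NR-free of rank r — generated by r elements such that every linear relation among them has
nilpotent coefficients — if and only if (R/n) ⊗_R M is free of rank r over R/n, in the sense of
admitting a basis indexed by r elements. (The published statement assumes M finitely generated and
also gives the converse when R is local; over a Noetherian ring the nilradical is nilpotent, the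
case used here, and finite generation is not needed.) -/
theorem result (R : Type u) [CommRing R]
    [IsNoetherianRing R] (M : Type v) [AddCommGroup M] [Module R M] (r : ℕ) :
    W4c1frobunstiva.IsNRFree R M r ↔
      Nonempty (Module.Basis (Fin r) (R ⧸ nilradical R) ((R ⧸ nilradical R) ⊗[R] M)) := by
  exact Groth.Agent.H27Misc.NR.isNRFree_iff

end Groth.Agent.S14032
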