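import Groth.Statements.S14034
import Groth.Agent.H27Misc.NRBasis

set_option autoImplicit false
universe u
open W4c1frobunstiva

namespace Groth.Agent.S14034

/-- Let R be a Noetherian local ring and f an element of R whose annihilator consists of nilpotent
elements (a f = 0 forces a nilpotent), r, s and l ≤ s natural numbers, N the quotient of the free
module R^s by the submodule spanned by f e_1, …, f e_l (e_i the standard basis vectors), and φ : R^r
→ N a surjective linear map. Then the kernel of φ is NR-free of rank r + l − s: it is generated by r
+ l − s elements every linear relation among which has nilpotent coefficients; and when l = 0 the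
kernel is free of rank r − s. (The published statement takes R Noetherian with irreducible spectrum
and R_red a domain, not necessarily local, and f arbitrary. Over the coordinate ring of the real
2-sphere the kernel of (x, y, z) : R³ → R is not free, and over k[x, y]/(y², xy) localised at (x, y)
with f = y the kernel of R → R/(y) is spanned by y with the non-nilpotent relation x·y = 0. The
published argument uses that the kernel of a surjection of free modules is free, true over a local
ring, and that a f = 0 forces a nilpotent, which is the hypothesis taken here; it holds when R_red
is a domain and f is not nilpotent, and also for f = ε in A[ε] with A a domain, so primality of the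
nilradical is not assumed.) -/
theorem result (R : Type u)
    [CommRing R] [IsNoetherianRing R] [IsLocalRing R] (f : R)
    (hann : ∀ a : R, a * f = 0 → IsNilpotent a) (r s l : ℕ) (hls : l ≤ s)
    (φ : (Fin r → R) →ₗ[R]
      ((Fin s → R) ⧸ Submodule.span R (Set.range fun i : Fin l => (Pi.single (Fin.castLE hls i) f : Fin s → R))))
    (hφ : Function.Surjective φ) :
    W4c1frobunstiva.IsNRFree R (LinearMap.ker φ) (r + l - s) ∧
      (l = 0 → Nonempty (Module.Basis (Fin (r - s)) R (LinearMap.ker φ))) := by
  exact Groth.Agent.H27Misc.NR.ker_isNRFree f hann r s l hls φ hφ

end Groth.Agent.S14034
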