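import Groth.Statements.S14035
import Groth.Agent.H27Misc.FlatCokernel

set_option autoImplicit false
universe u v
open W4c1frobunstiva

namespace Groth.Agent.S14035

open TensorProduct in
/-- Let A → B be a ring homomorphism with B Noetherian. If B modulo its nilradical is flat over A and
every fibre ring κ(p) ⊗_A B, p a prime of A, is reduced, then B is reduced. (This is the affine form
of the statement for a morphism of schemes X → Y all of whose fibres are reduced and whose
restriction to the reduced closed subscheme X_red is flat. The published statement does not say X is
locally Noetherian, but its proof applies Nakayama's lemma to the nilradical as a finitely generated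
ideal; without it the square-zero extension of a discrete valuation ring A by Frac(A)/A is a
counterexample.) -/
theorem result (A : Type u) (B : Type v)
    [CommRing A] [CommRing B] [Algebra A B] [IsNoetherianRing B]
    [Module.Flat A (B ⧸ nilradical B)]
    (hfib : ∀ p : PrimeSpectrum A, IsReduced (p.asIdeal.ResidueField ⊗[A] B)) :
    IsReduced B := by
  exact Groth.Agent.H27Misc.isReduced_of_flat_reduction hfib

end Groth.Agent.S14035
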