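import Groth.Statements.S14037
import Groth.Agent.H7Flat.Flatten.Nagata
import Groth.Agent.S7803
import Groth.Agent.H06EGA14.FiniteBaseChangeAlgebra
import Groth.Agent.H18Descent.Basic
import Groth.Agent.H17.SchDense

set_option autoImplicit false
universe u
open CategoryTheory CategoryTheory.Limits AlgebraicGeometry
open W4c1frobunstiva

namespace Groth.Agent.S14037

/-- Let f : X → Y be separated and of finite type, with X and Y integral, Y Noetherian and normal.
Suppose that every geometric fibre of f — the base change of X along any morphism from the spectrum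
of an algebraically closed field to Y — is proper over that field and connected (so non-empty). Then
f is proper. -/
theorem result {X Y : Scheme.{u}}
    (f : X ⟶ Y) [IsSeparated f] [LocallyOfFiniteType f] [QuasiCompact f]
    [IsIntegral X] [IsIntegral Y] [IsNoetherian Y] (hY : Pi1.IsNormalScheme Y)
    (hfib : ∀ (Ω : Type u) [Field Ω] [IsAlgClosed Ω] (y : Spec (CommRingCat.of Ω) ⟶ Y),
      IsProper (pullback.snd f y) ∧ ConnectedSpace ↥(pullback f y)) :
    IsProper f := by
  classical
  -- each fibre, through an algebraically closed field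
  have hκ : ∀ s : Y, IsProper (f.fiberToSpecResidueField s) ∧ GeometricallyConnected (f.fiberToSpecResidueField s) ∧
      Nonempty ↥(f.fiber s) := by
    intro s
    have key : ∀ (Ω : Type u) [Field Ω] [IsAlgClosed Ω] (y : Spec (CommRingCat.of Ω) ⟶ Spec (Y.residueField s))
        (Z : Scheme.{u}) (z₁ : Z ⟶ f.fiber s) (z₂ : Z ⟶ Spec (CommRingCat.of Ω)),
        IsPullback z₁ z₂ (f.fiberToSpecResidueField s) y → IsProper z₂ ∧ ConnectedSpace Z := by
      intro Ω _ _ y Z z₁ z₂ h
      have hbig := h.paste_horiz (IsPullback.of_hasPullback f (Y.fromSpecResidueField s))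
      obtain ⟨hp, hc⟩ := hfib Ω (y ≫ Y.fromSpecResidueField s)
      haveI := hp; haveI := hc
      refine ⟨?_, hbig.isoPullback.symm.hom.homeomorph.surjective.connectedSpace hbig.isoPullback.symm.hom.continuous⟩
      rw [← hbig.isoPullback_hom_snd]
      infer_instance
    have hgc : GeometricallyConnected (f.fiberToSpecResidueField s) := by
      refine ⟨fun K _ y Z z₁ z₂ h => ?_⟩
      let a : Spec (CommRingCat.of (AlgebraicClosure K)) ⟶ Spec (CommRingCat.of K) :=
        Spec.map (CommRingCat.ofHom (algebraMap K (AlgebraicClosure K)))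
      haveI : Surjective a := ⟨fun z => ⟨IsLocalRing.closedPoint (AlgebraicClosure K),
        Subsingleton.elim (α := PrimeSpectrum K) _ _⟩⟩
      obtain ⟨-, hc⟩ := key (AlgebraicClosure K) (a ≫ y) (Limits.pullback z₂ a) (Limits.pullback.fst z₂ a ≫ z₁)
        (Limits.pullback.snd z₂ a) ((IsPullback.of_hasPullback z₂ a).paste_horiz h)
      haveI := hc
      haveI : Surjective (Limits.pullback.fst z₂ a) := MorphismProperty.pullback_fst _ _ inferInstance
      exact (Limits.pullback.fst z₂ a).surjective.connectedSpace (Limits.pullback.fst z₂ a).continuous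
    let Ω := AlgebraicClosure (Y.residueField s)
    let t : Spec (CommRingCat.of Ω) ⟶ Spec (Y.residueField s) :=
      Spec.map (CommRingCat.ofHom (algebraMap (Y.residueField s) Ω))
    obtain ⟨hp, hc⟩ := key Ω t _ _ _ (IsPullback.of_hasPullback (f.fiberToSpecResidueField s) t)
    haveI : Surjective t := ⟨fun z => ⟨IsLocalRing.closedPoint Ω,
      Subsingleton.elim (α := PrimeSpectrum (Y.residueField s)) _ _⟩⟩
    haveI : QuasiCompact t := inferInstance
    haveI : Flat t := by
      rw [HasRingHomProperty.Spec_iff (P := @Flat)]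
      exact (RingHom.flat_algebraMap_iff (R := ↑(Y.residueField s)) (S := Ω)).2 Module.Flat.of_free
    refine ⟨MorphismProperty.of_pullback_snd_of_descendsAlong (P := @IsProper) (Q := H18Descent.fpqc)
      ⟨⟨‹Surjective t›, ‹Flat t›⟩, ‹QuasiCompact t›⟩ hp, hgc, ?_⟩
    exact ⟨(Limits.pullback.fst (f.fiberToSpecResidueField s) t) hc.toNonempty.some⟩
  haveI : Surjective f := ⟨fun s => by
    obtain ⟨x⟩ := (hκ s).2.2
    exact ⟨_, (f.fiberHomeo s x).2⟩⟩
  -- the compactification
  haveI : CompactSpace X := QuasiCompact.compactSpace_of_compactSpace f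
  obtain ⟨Yc, j₀, g₀, hj₀, hjq, hg₀, hjg⟩ := H7Flat.Flatten.exists_compactification f
  haveI := hj₀; haveI := hjq; haveI := hg₀
  let Xc := j₀.image
  let j : X ⟶ Xc := j₀.toImage
  let g : Xc ⟶ Y := j₀.imageι ≫ g₀
  have hg : j ≫ g = f := by rw [← Category.assoc, j₀.toImage_imageι, hjg]
  haveI : IsSchemeTheoreticallyDominant j := ⟨H17.ker_toImage j₀⟩
  haveI : IsReduced Xc := IsSchemeTheoreticallyDominant.isReduced j
  have hd : DenseRange j.base := j.denseRange
  haveI : IrreducibleSpace Xc := by
    rw [irreducibleSpace_def]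
    have h1 := ((IrreducibleSpace.isIrreducible_univ X).image j.base j.continuous.continuousOn).closure
    rwa [Set.image_univ, hd.closure_range] at h1
  haveI : IsIntegral Xc := isIntegral_of_irreducibleSpace_of_isReduced Xc
  haveI : Surjective (j ≫ g) := by rw [hg]; infer_instance
  haveI : Surjective g := Surjective.of_comp j g
  haveI : IsDominant g := ⟨g.surjective.denseRange⟩
  haveI : IsOpenImmersion j := inferInstanceAs (IsOpenImmersion j₀.toImage)
  -- inside a fibre the original scheme is open and closed
  have hclopen : ∀ s : Y, ∃ v : f.fiber s ⟶ g.fiber s,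
      v ≫ g.fiberι s = f.fiberι s ≫ j ∧ v ≫ g.fiberToSpecResidueField s = f.fiberToSpecResidueField s ∧
      IsClopen (Set.range v.base) := by
    intro s
    let v : f.fiber s ⟶ g.fiber s := Limits.pullback.lift (f.fiberι s ≫ j) (f.fiberToSpecResidueField s)
      (by rw [Category.assoc, hg]; exact Limits.pullback.condition)
    have hv1 : v ≫ g.fiberι s = f.fiberι s ≫ j := Limits.pullback.lift_fst _ _ _
    have hv2 : v ≫ g.fiberToSpecResidueField s = f.fiberToSpecResidueField s := Limits.pullback.lift_snd _ _ _
    refine ⟨v, hv1, hv2, ?_, ?_⟩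
    · haveI : IsProper (g.fiberToSpecResidueField s) := MorphismProperty.pullback_snd _ _ inferInstance
      haveI : IsProper (v ≫ g.fiberToSpecResidueField s) := by rw [hv2]; exact (hκ s).1
      haveI : IsProper v := IsProper.of_comp v (g.fiberToSpecResidueField s)
      exact v.isClosedMap.isClosed_range
    · have : IsPullback (f.fiberι s) v j (g.fiberι s) := by
        refine IsPullback.of_bot (v₂₁ := g.fiberToSpecResidueField s) (v₂₂ := g) ?_ hv1.symm
          (IsPullback.of_hasPullback g (Y.fromSpecResidueField s))
        rw [hv2, hg]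
        exact IsPullback.of_hasPullback f (Y.fromSpecResidueField s)
      haveI : IsOpenImmersion v := MorphismProperty.of_isPullback this inferInstance
      exact v.isOpenEmbedding.isOpen_range
  -- the generic fibre of the compactification
  have hη : GeometricallyConnected (g.fiberToSpecResidueField (genericPoint Y)) := by
    obtain ⟨v, hv1, hv2, hcl, -⟩ := hclopen (genericPoint Y)
    haveI : Surjective v := by
      refine ⟨fun z => ?_⟩
      have hdense : g.fiberι _ z ∈ closure ({j (genericPoint X)} : Set Xc) := by
        have h1 : closure ({j (genericPoint X)} : Set Xc) = Set.univ := by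
          have h2 := ((genericPoint_spec X).image j.continuous)
          rw [Set.image_univ, hd.closure_range] at h2
          exact h2
        rw [h1]; trivial
      have hgen : f (genericPoint X) = genericPoint Y := by
        have h := (genericPoint_spec X).image f.continuous
        rw [Set.image_univ, f.surjective.range_eq, closure_univ] at h
        exact h.eq (genericPoint_spec Y)
      obtain ⟨w, hw⟩ : ∃ w, f.fiberι (genericPoint Y) w = genericPoint X :=
        ⟨(f.fiberHomeo _).symm ⟨genericPoint X, hgen⟩, Scheme.Hom.fiberι_fiberHomeo_symm _ _ _⟩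
      have hz : v w ⤳ z := by
        refine (g.fiberι _).isEmbedding.isInducing.specializes_iff.1 ?_
        rw [← Scheme.Hom.comp_apply, hv1, Scheme.Hom.comp_apply, hw, specializes_iff_mem_closure]
        exact hdense
      exact hz.mem_closed hcl ⟨w, rfl⟩
    have hgc := (hκ (genericPoint Y)).2.1
    refine ⟨fun K _ y Z z₁ z₂ h => ?_⟩
    have hc := hgc.geometrically_connectedSpace y (Limits.pullback.fst v z₁) (Limits.pullback.snd v z₁ ≫ z₂) (by
      have h' := (IsPullback.of_hasPullback v z₁).paste_vert h
      rw [hv2] at h'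
      exact h')
    haveI := hc
    haveI : Surjective (Limits.pullback.snd v z₁) := MorphismProperty.pullback_snd _ _ inferInstance
    exact (Limits.pullback.snd v z₁).surjective.connectedSpace (Limits.pullback.snd v z₁).continuous
  haveI hgcg : GeometricallyConnected g := S7803.result g (fun s => by
    haveI := (hY s).1; haveI := (hY s).2
    exact H06EGA14.isGeomUnibranch_of_isIntegrallyClosed (Y.presheaf.stalk s)) hη
  haveI : Surjective j := by
    refine ⟨fun z => ?_⟩
    obtain ⟨v, hv1, hv2, hcl⟩ := hclopen (g z)
    haveI : GeometricallyConnected (g.fiberToSpecResidueField (g z)) := MorphismProperty.pullback_snd _ _ hgcg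
    haveI : ConnectedSpace ↥(g.fiber (g z)) := GeometricallyConnected.geometrically_connectedSpace
      (f := g.fiberToSpecResidueField (g z)) (K := Y.residueField (g z)) (𝟙 _) (𝟙 _) (g.fiberToSpecResidueField (g z))
      (IsPullback.id_horiz _)
    obtain ⟨w⟩ := (hκ (g z)).2.2
    have huniv := (isClopen_iff.1 hcl).resolve_left (Set.nonempty_iff_ne_empty.1 ⟨_, w, rfl⟩)
    obtain ⟨u, hu⟩ : (g.fiberHomeo (g z)).symm ⟨z, rfl⟩ ∈ Set.range v.base := huniv ▸ trivial
    refine ⟨f.fiberι _ u, ?_⟩
    rw [← Scheme.Hom.comp_apply, ← hv1, Scheme.Hom.comp_apply, hu, Scheme.Hom.fiberι_fiberHomeo_symm]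
  haveI : IsIso j := (isIso_iff_isOpenImmersion_and_surjective j).2 ⟨inferInstance, inferInstance⟩
  rw [← hg]
  infer_instance

end Groth.Agent.S14037
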