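import Groth.Statements.S14039
import Groth.Agent.H27Misc.BoundedMonomials

set_option autoImplicit false
open W4c1frobunstiva

namespace Groth.Agent.S14039

/-- For natural numbers p, n ≥ 1 and s, the number of monomials of degree s in n variables in which
every variable occurs with a positive exponent strictly less than p — that is, of exponent vectors
(e_1, …, e_n) with sum s and 1 ≤ e_i ≤ p − 1 — equals the inclusion–exclusion sum over i from 0 to n
of (−1)^i · C(n, i) · C(s − i(p − 1) − 1, n − 1), the last factor counting monomials of degree s −
i(p − 1) − n in n variables and read as 0 when s < i(p − 1) + n. (A companion count, by how many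
exponents lie below p/2, and a remark on polynomiality in s and p are not part of this row.) -/
theorem result (p n s : ℕ)
    (hn : 1 ≤ n) :
    (Fintype.card {e : Fin n → Fin p // (∀ i, 1 ≤ (e i : ℕ)) ∧ ∑ i, (e i : ℕ) = s} : ℤ) =
      ∑ i ∈ Finset.range (n + 1),
        (-1 : ℤ) ^ i * (n.choose i : ℤ) *
          (if i * (p - 1) + n ≤ s then (((s - i * (p - 1) - 1).choose (n - 1) : ℕ) : ℤ) else 0) := by
  exact Groth.Agent.H27Misc.card_bounded_monomials p n s hn

end Groth.Agent.S14039
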