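import Groth.Statements.S14043
import Groth.Agent.H27Misc.NRBasis

set_option autoImplicit false
universe u v
open W4c1frobunstiva

namespace Groth.Agent.S14043

/-- Let R be a commutative Noetherian ring, M an R-module that is NR-free of rank r — generated by some
r elements all of whose linear relations have nilpotent coefficients — and m, m' two generating
families of M, each indexed by the same finite set of size r. Then some invertible r × r matrix T
over R expresses m' in terms of m, m'_j = Σ_i T_{ji} m_i; reducing modulo the nilradical n, such a T
induces the change-of-basis matrix between the bases of M/nM given by the images of m and m' (an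
r-element generating family of M is itself an NR-basis), so only the existence of an invertible T is
asserted here. (T is not unique.) -/
theorem result (R : Type u) [CommRing R]
    [IsNoetherianRing R] (M : Type v) [AddCommGroup M] [Module R M] (r : ℕ)
    (hM : W4c1frobunstiva.IsNRFree R M r) (m m' : Fin r → M)
    (hm : Submodule.span R (Set.range m) = ⊤) (hm' : Submodule.span R (Set.range m') = ⊤) :
    ∃ T : Matrix (Fin r) (Fin r) R, IsUnit T ∧ ∀ j, m' j = ∑ i, T j i • m i := by
  exact Groth.Agent.H27Misc.NR.exists_isUnit_matrix hM m m' hm hm'

end Groth.Agent.S14043
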