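import Groth.Statements.S14046
import Groth.Agent.H27Misc.FlatCokernel

set_option autoImplicit false
universe u v w
open W4c1frobunstiva

namespace Groth.Agent.S14046

open TensorProduct in
/-- Let R → A be a homomorphism of commutative rings and I, J ideals of A with I ∩ J = 0 — so that A is
the fibre product of A/I and A/J over A/(I + J), i.e. Spec A is the union of the two closed
subschemes in the strong sense — and suppose A/(I + J) is flat over R. Then this persists under
every base change: for every commutative R-algebra R', the ideals generated by I and J in R' ⊗_R A
again meet in 0. (This is the ideal-theoretic, affine form of the base-change step; the exact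
sequence of unit sheaves deduced from it in the published statement — restriction of units to a
closed subscheme being surjective locally — is not restated. Without flatness of A/(I + J) the
conclusion fails: for A = k[x, y]/(xy) over R = k[u] with u ↦ x + y, I = (x) and J = (y), the base
change to R/(u) gives k[x]/(x²), in which both ideals become (x).) -/
theorem result (R : Type u) (A : Type v)
    [CommRing R] [CommRing A] [Algebra R A] (I J : Ideal A) (hIJ : I ⊓ J = ⊥)
    [Module.Flat R (A ⧸ (I ⊔ J))] (R' : Type w) [CommRing R'] [Algebra R R'] :
    I.map (Algebra.TensorProduct.includeRight : A →ₐ[R] R' ⊗[R] A) ⊓
      J.map (Algebra.TensorProduct.includeRight : A →ₐ[R] R' ⊗[R] A) = ⊥ := by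
  exact Groth.Agent.H27Misc.map_inf_map_eq_bot I J hIJ R'

end Groth.Agent.S14046
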