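import Groth.Statements.S14047
import Groth.Agent.H27NodalFitt.Unramified

set_option autoImplicit false
universe u
open CategoryTheory AlgebraicGeometry
open W4c1frobunstiva

namespace Groth.Agent.S14047

/-- Let f : X → B be a proper family of nodal curves — flat, locally of finite presentation, each fibre
having all its irreducible components of dimension one and at worst nodes as singularities. Let Ω be
an O_X-module equipped with a universal B-derivation (a sheaf of relative differentials of X over B)
and let Z be the closed subscheme of X cut out by the first Fitting ideal sheaf of Ω, the singular
locus of f. Then the composite Z → X → B is finite and formally unramified, so unramified. -/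
theorem result {X B : Scheme.{u}}
    (f : X ⟶ B) (hf : Curv2.IsNodalFamily f) [IsProper f] (Ω : X.Modules) (d : OmegaSh.Der f Ω)
    (hd : OmegaSh.IsUniversal d) :
    IsFinite ((Fitt.sheafIdeal Ω 1).subschemeι ≫ f) ∧
      FormallyUnramified ((Fitt.sheafIdeal Ω 1).subschemeι ≫ f) := by
  exact Groth.Agent.H27NodalFitt.fittingOne_finite_unramified f hf Ω d hd

end Groth.Agent.S14047
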