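import Groth.Statements.S14048
import Mathlib.Algebra.Algebra.Rat
import Mathlib.Algebra.Order.Star.Basic
import Mathlib.Algebra.Polynomial.AlgebraMap
import Mathlib.Algebra.Ring.IsFormallyReal
import Mathlib.Data.Nat.Prime.Basic
import Mathlib.Data.Nat.Prime.Infinite
import Mathlib.GroupTheory.GroupAction.Ring
import Mathlib.RingTheory.Ideal.Quotient.Defs
import Mathlib.RingTheory.Localization.Away.Basic
import Mathlib.RingTheory.Noetherian.Defs
import Mathlib.RingTheory.TensorProduct.Maps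
import Mathlib.Tactic.FieldSimp.Lemmas
import Mathlib.Tactic.LinearCombination.Lemmas
import Mathlib.Tactic.LinearCombination
import Mathlib.Tactic.NormNum
import Mathlib.Tactic.Ring
import Mathlib.Tactic.FieldSimp
import Mathlib.Tactic.Push

set_option autoImplicit false
universe u
open TensorProduct
open CAlg

namespace Groth.Agent.S14048

/-- Let A be an integral domain in which 2 is invertible and let t be an element of A, so that Spec A is
a scheme over the affine line Spec ℤ[1/2][t]. Assume that (1) the ℚ-algebra map ℚ[X] → ℚ ⊗_ℤ A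
sending X to 1 ⊗ t is bijective (the map Spec A → Spec ℤ[1/2][t] becomes an isomorphism after base
change to ℚ); (2) every prime number is invertible in A/(t) (the fibre over t = 0 is of pure
characteristic zero); and (3) there is a ring homomorphism s : A → ℤ[1/2] with s(t) = 1 (the fibre
over t = 1 admits a section). Then A is not Noetherian. -/
theorem result (A : Type u) [CommRing A]
    [IsDomain A] (h2 : IsUnit (2 : A)) (t : A)
    (h1 : Function.Bijective (Polynomial.aeval (R := ℚ) ((1 : ℚ) ⊗ₜ[ℤ] t : ℚ ⊗[ℤ] A)))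
    (h0 : ∀ p : ℕ, p.Prime → IsUnit ((p : ℕ) : A ⧸ Ideal.span ({t} : Set A)))
    (s : A →+* Localization.Away (2 : ℤ)) (hs : s t = 1) :
    ¬ IsNoetherianRing A := by
  classical
  intro hN
  have htwo : (2 : ℤ) ≠ 0 := by norm_num
  let τ : ℚ ⊗[ℤ] A := (1 : ℚ) ⊗ₜ[ℤ] t
  let e : Polynomial ℚ ≃ₐ[ℚ] ℚ ⊗[ℤ] A := AlgEquiv.ofBijective (Polynomial.aeval τ) h1
  let ρ : A →+* Polynomial ℚ := e.symm.toRingHom.comp
    (Algebra.TensorProduct.includeRight : A →ₐ[ℤ] ℚ ⊗[ℤ] A).toRingHom
  have hρt : ρ t = Polynomial.X := by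
    show e.symm (1 ⊗ₜ t) = _
    rw [AlgEquiv.symm_apply_eq]
    exact (Polynomial.aeval_X τ).symm
  let q : Localization.Away (2 : ℤ) →+* ℚ := IsLocalization.Away.lift (x := (2 : ℤ))
    (g := Int.castRingHom ℚ) (isUnit_iff_ne_zero.mpr (by norm_num))
  -- `q ∘ s` is evaluation at `1`
  have hev : ∀ a, (ρ a).eval 1 = q (s a) := by
    let φ₁ : A →ₐ[ℤ] ℚ := (q.comp s).toIntAlgHom
    let Φ : ℚ ⊗[ℤ] A →ₐ[ℚ] ℚ := Algebra.TensorProduct.lift (Algebra.ofId ℚ ℚ) φ₁ fun _ _ ↦ Commute.all _ _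
    have hΦ : Φ.comp e.toAlgHom = Polynomial.aeval (1 : ℚ) := Polynomial.algHom_ext (by
      show Φ (Polynomial.aeval τ Polynomial.X) = _
      rw [Polynomial.aeval_X, Polynomial.aeval_X, Algebra.TensorProduct.lift_tmul, map_one, one_mul]
      show q (s t) = 1
      rw [hs, map_one])
    intro a
    rw [← Polynomial.coe_aeval_eq_eval, ← hΦ]
    show Φ (e (e.symm ((1 : ℚ) ⊗ₜ a))) = _
    rw [e.apply_symm_apply, Algebra.TensorProduct.lift_tmul, map_one, one_mul]
    rfl
  have hq_inj : Function.Injective q := by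
    rw [injective_iff_map_eq_zero]
    intro z hz
    obtain ⟨k, c, hc⟩ := IsLocalization.Away.surj (2 : ℤ) z
    have := congrArg q hc
    rw [map_mul, hz, zero_mul, IsLocalization.Away.lift_eq] at this
    have hc0 : c = 0 := by simpa using this.symm
    rw [hc0, map_zero] at hc
    exact ((IsLocalization.Away.algebraMap_isUnit (2 : ℤ)).pow k).mul_left_eq_zero.mp hc
  obtain ⟨G, hG⟩ := IsNoetherian.noetherian (RingHom.ker s)
  let coeffs : Finset ℚ := G.biUnion fun g ↦ ((ρ g).comp (Polynomial.X + 1)).coeffs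
  let N : ℕ := ∏ c ∈ coeffs, c.den
  have hN0 : N ≠ 0 := Finset.prod_ne_zero_iff.mpr fun c _ ↦ c.den_ne_zero
  -- coefficients of the expansions at `1` lie in `ℤ[1/(2N)]`
  let R : Subring ℚ := Subring.closure {(2 * N : ℚ)⁻¹}
  have hinvR : (2 * N : ℚ)⁻¹ ∈ R := Subring.subset_closure rfl
  have hRG : ∀ g ∈ G, ∀ j, ((ρ g).comp (Polynomial.X + 1)).coeff j ∈ R := by
    intro g hg j
    by_cases hc : ((ρ g).comp (Polynomial.X + 1)).coeff j = 0
    · rw [hc]; exact R.zero_mem
    obtain ⟨d, hd⟩ : (((ρ g).comp (Polynomial.X + 1)).coeff j).den ∣ N :=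
      Finset.dvd_prod_of_mem _ (Finset.mem_biUnion.mpr ⟨g, hg, Polynomial.coeff_mem_coeffs hc⟩)
    have : ((ρ g).comp (Polynomial.X + 1)).coeff j =
        ((((ρ g).comp (Polynomial.X + 1)).coeff j).num * d * 2 : ℤ) * (2 * N : ℚ)⁻¹ := by
      have hd0 : (d : ℚ) ≠ 0 := by
        intro h; exact hN0 (by rw [hd, Nat.cast_eq_zero.mp h, mul_zero])
      conv_lhs => rw [← Rat.num_div_den (((ρ g).comp (Polynomial.X + 1)).coeff j)]
      rw [hd, Nat.cast_mul, Int.cast_mul, Int.cast_mul, Int.cast_natCast]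
      field_simp
      push_cast
      ring
    rw [this]
    exact R.mul_mem (intCast_mem R _) hinvR
  have hRs : ∀ z, q z ∈ R := by
    intro z
    obtain ⟨k, c, hc⟩ := IsLocalization.Away.surj (2 : ℤ) z
    have := congrArg q hc
    rw [map_mul, map_pow, IsLocalization.Away.lift_eq, IsLocalization.Away.lift_eq] at this
    have hq : q z = (c : ℚ) * ((N : ℚ) * (2 * N : ℚ)⁻¹) ^ k := by
      rw [show (N : ℚ) * (2 * N : ℚ)⁻¹ = 2⁻¹ by field_simp, inv_pow, eq_mul_inv_iff_mul_eq₀ (by norm_num)]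
      simpa using this
    rw [hq]
    exact R.mul_mem (intCast_mem R _) (pow_mem (R.mul_mem (natCast_mem R _) hinvR) k)
  have hR : ∀ k (f : A), ((ρ f).comp (Polynomial.X + 1)).coeff k ∈ R := by
    intro k
    induction k using Nat.strong_induction_on with
    | _ k ih =>
    intro f
    rcases Nat.eq_zero_or_pos k with rfl | hk
    · rw [Polynomial.coeff_zero_eq_eval_zero, Polynomial.eval_comp]
      simp only [Polynomial.eval_add, Polynomial.eval_X, Polynomial.eval_one, zero_add]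
      rw [hev]; exact hRs _
    obtain ⟨n, c, hc⟩ := IsLocalization.Away.surj (2 : ℤ) (s f)
    obtain ⟨hu, hhu⟩ := h2.exists_left_inv
    have hzero : f - (c : A) * hu ^ n ∈ RingHom.ker s := by
      rw [RingHom.mem_ker, map_sub, map_mul, map_intCast, map_pow, sub_eq_zero]
      have h2' : s hu * 2 = 1 := by rw [← map_ofNat s 2, ← map_mul, hhu, map_one]
      have hcc : algebraMap ℤ (Localization.Away (2 : ℤ)) 2 = 2 := map_ofNat _ _
      rw [hcc, eq_intCast] at hc
      rw [← hc, mul_assoc, ← mul_pow, mul_comm 2, h2', one_pow, mul_one]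
    have hρhu : ρ hu = Polynomial.C (2⁻¹ : ℚ) := by
      have : ρ hu * Polynomial.C 2 = 1 := by
        rw [map_ofNat Polynomial.C, ← map_ofNat ρ 2, ← map_mul, hhu, map_one]
      calc ρ hu = ρ hu * (Polynomial.C 2 * Polynomial.C (2⁻¹ : ℚ)) := by
            rw [← map_mul, mul_inv_cancel₀ (by norm_num), map_one, mul_one]
        _ = _ := by rw [← mul_assoc, this, one_mul]
    have hsplit : ((ρ f).comp (Polynomial.X + 1)).coeff k =
        ((ρ (f - (c : A) * hu ^ n)).comp (Polynomial.X + 1)).coeff k := by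
      rw [map_sub, map_mul, map_intCast, map_pow, hρhu, ← map_intCast (Polynomial.C : ℚ →+* Polynomial ℚ), ← map_pow,
        ← map_mul, Polynomial.sub_comp, Polynomial.C_comp, Polynomial.coeff_sub,
        Polynomial.coeff_C_ne_zero hk.ne', sub_zero]
    rw [hsplit]
    rw [← hG] at hzero
    obtain ⟨b, hb⟩ := Submodule.mem_span_finset.mp hzero
    rw [← hb.2, map_sum, Polynomial.sum_comp, Polynomial.finsetSum_coeff]
    refine R.sum_mem fun g hg ↦ ?_
    rw [smul_eq_mul, map_mul, Polynomial.mul_comp, Polynomial.coeff_mul]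
    refine R.sum_mem fun ij hij ↦ ?_
    rw [Finset.HasAntidiagonal.mem_antidiagonal] at hij
    rcases Nat.eq_zero_or_pos ij.2 with h0 | hpos
    · have hg0 : ((ρ g).comp (Polynomial.X + 1)).coeff 0 = 0 := by
        rw [Polynomial.coeff_zero_eq_eval_zero, Polynomial.eval_comp]
        simp only [Polynomial.eval_add, Polynomial.eval_X, Polynomial.eval_one, zero_add]
        rw [hev, show s g = 0 from (hG ▸ Submodule.subset_span hg : g ∈ RingHom.ker s), map_zero]
      rw [h0, hg0, mul_zero]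
      exact R.zero_mem
    · exact R.mul_mem (ih ij.1 (by omega) _) (hRG g hg _)
  -- a large prime gives a contradiction
  obtain ⟨p, hpN, hp⟩ := Nat.exists_infinite_primes (2 * N + 1)
  obtain ⟨b, hb⟩ := (h0 p hp).exists_left_inv
  obtain ⟨a, rfl⟩ := Ideal.Quotient.mk_surjective b
  rw [← map_natCast (Ideal.Quotient.mk (Ideal.span ({t} : Set A))), ← map_mul, ← map_one (Ideal.Quotient.mk _),
    Ideal.Quotient.eq, Ideal.mem_span_singleton'] at hb
  obtain ⟨d, hd⟩ := hb
  have h0a := congrArg (Polynomial.eval 0 ∘ ρ) hd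
  simp only [Function.comp_apply, map_mul, map_sub, map_one, map_natCast, hρt, Polynomial.eval_mul,
    Polynomial.eval_X, mul_zero, Polynomial.eval_sub, Polynomial.eval_natCast, Polynomial.eval_one] at h0a
  have ha0 : (ρ a).eval 0 ∈ R := by
    have : (ρ a).eval 0 = ((ρ a).comp (Polynomial.X + 1)).eval (-1) := by simp
    rw [this, Polynomial.eval_eq_sum, Polynomial.sum]
    exact R.sum_mem fun j _ ↦ R.mul_mem (hR j a) (pow_mem (R.neg_mem R.one_mem) j)
  -- `1/p ∉ R`
  have hden : ∀ x ∈ R, ∃ (k : ℕ) (z : ℤ), x * (2 * N : ℚ) ^ k = z := by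
    intro x hx
    induction hx using Subring.closure_induction with
    | mem x hx => subst hx; exact ⟨1, 1, by rw [pow_one, Int.cast_one]; field_simp⟩
    | zero => exact ⟨0, 0, by simp⟩
    | one => exact ⟨0, 1, by simp⟩
    | add x y _ _ hx hy =>
      obtain ⟨k, z, hz⟩ := hx; obtain ⟨l, w, hw⟩ := hy
      refine ⟨k + l, z * (2 * N : ℤ) ^ l + w * (2 * N : ℤ) ^ k, ?_⟩
      push_cast; rw [← hz, ← hw, pow_add]; ring
    | neg x _ hx => obtain ⟨k, z, hz⟩ := hx; exact ⟨k, -z, by rw [neg_mul, hz, Int.cast_neg]⟩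
    | mul x y _ _ hx hy =>
      obtain ⟨k, z, hz⟩ := hx; obtain ⟨l, w, hw⟩ := hy
      exact ⟨k + l, z * w, by rw [Int.cast_mul, ← hz, ← hw, pow_add]; ring⟩
  obtain ⟨k, z, hz⟩ := hden _ ha0
  have hQ : ((2 * N : ℤ) : ℚ) ^ k = ((p : ℤ) : ℚ) * (z : ℚ) := by
    push_cast; linear_combination (2 * (N : ℚ)) ^ k * h0a + (p : ℚ) * hz
  have hZ : (2 * N : ℤ) ^ k = (p : ℤ) * z := by exact_mod_cast hQ
  have hpk : p ∣ (2 * N) ^ k := by
    rw [← Int.natCast_dvd_natCast]; push_cast; exact ⟨z, hZ⟩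
  have := Nat.le_of_dvd (by omega) (hp.dvd_of_dvd_pow hpk)
  omega

end Groth.Agent.S14048
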