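import Groth.Statements.S14049
import Groth.Agent.H17.Imports

set_option autoImplicit false
universe u
open CategoryTheory AlgebraicGeometry
open LocStr

namespace Groth.Agent.S14049

open CategoryTheory Limits AlgebraicGeometry TopologicalSpace Opposite

/-- For schemes. Let f : X → Y be a morphism of schemes and let I be a quasi-coherent sheaf of ideals on
X which is nilpotent (some power of I is zero). Let X₁ ⊆ X be the closed subscheme defined by I².
Then f is a closed immersion as soon as the composite X₁ → X → Y is one. (The published statement is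
the same assertion for a morphism of algebraic stacks; it is stated here for schemes.) -/
theorem result (X Y : Scheme.{u}) (f : X ⟶ Y)
    (I : X.IdealSheafData) (hI : IsNilpotent I)
    (h : IsClosedImmersion ((I ^ 2).subschemeι ≫ f)) :
    IsClosedImmersion f := by
  obtain ⟨N, hN⟩ := hI
  let ι := (I ^ 2).subschemeι
  have hsupp : (I.support : Set X) = Set.univ := by
    rcases eq_or_ne N 0 with rfl | hN0
    · have h1 : (⊤ : X.IdealSheafData) = ⊥ := by
        rw [pow_zero] at hN; exact hN
      have h2 := congrArg (fun I : X.IdealSheafData => (I.support : Set X)) h1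
      simp only [Scheme.IdealSheafData.support_top, Scheme.IdealSheafData.support_bot, Closeds.coe_bot, Closeds.coe_top] at h2
      exact Set.eq_univ_of_forall fun x => absurd (h2.ge (Set.mem_univ x)) (by simp)
    · rw [← Scheme.IdealSheafData.support_pow I N hN0, hN]
      exact congrArg SetLike.coe Scheme.IdealSheafData.support_bot
  have hsurj : Function.Surjective ι := by
    rw [← Set.range_eq_univ, Scheme.IdealSheafData.range_subschemeι, Scheme.IdealSheafData.support_pow _ 2 two_ne_zero, hsupp]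
  have hemb : Topology.IsClosedEmbedding f := by
    let e : (I ^ 2).subscheme ≃ₜ X :=
      ι.isClosedEmbedding.isEmbedding.toHomeomorphOfSurjective hsurj
    have := (ι ≫ f).isClosedEmbedding.comp e.symm.isClosedEmbedding
    convert this using 1
    ext x
    exact congrArg f (e.apply_symm_apply x).symm
  suffices hs : ∀ x, Function.Surjective (f.stalkMap x) from
    { isClosedEmbedding := hemb, stalkMap_surjective := hs }
  intro x
  obtain ⟨x', rfl⟩ := hsurj x
  obtain ⟨W, hW, hxW, -⟩ := exists_isAffineOpen_mem_and_subset (Opens.mem_top (ι x'))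
  let B := X.presheaf.stalk (ι x')
  let φ := (f.stalkMap (ι x')).hom
  let J : Ideal B := (I.ideal ⟨W, hW⟩).map (X.presheaf.germ W (ι x') hxW).hom
  have hJN : J ^ N = ⊥ := by
    rw [← Ideal.map_pow, show I.ideal ⟨W, hW⟩ ^ N = (I ^ N).ideal ⟨W, hW⟩ by rw [Scheme.IdealSheafData.ideal_pow]; rfl, hN]
    exact Ideal.map_bot
  have hK : RingHom.ker (ι.stalkMap x').hom ≤ J ^ 2 := by
    intro b hb
    rw [RingHom.mem_ker] at hb
    let := TopCat.Presheaf.algebra_section_stalk X.presheaf (⟨ι x', hxW⟩ : W)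
    have := hW.isLocalization_stalk ⟨ι x', hxW⟩
    obtain ⟨⟨w, s⟩, hws⟩ := IsLocalization.surj (hW.primeIdealOf ⟨ι x', hxW⟩).asIdeal.primeCompl b
    change b * X.presheaf.germ W (ι x') hxW (s : Γ(X, W)) = X.presheaf.germ W (ι x') hxW w at hws
    have hw0 : (I ^ 2).subscheme.presheaf.germ (ι ⁻¹ᵁ W) x' hxW (ι.app W w) = 0 := by
      rw [← Scheme.Hom.germ_stalkMap_apply, ← hws, map_mul, hb, zero_mul]
    have hW' : IsAffineOpen (ι ⁻¹ᵁ W) := hW.preimage ι
    let := TopCat.Presheaf.algebra_section_stalk (I ^ 2).subscheme.presheaf (⟨x', hxW⟩ : ι ⁻¹ᵁ W)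
    have := hW'.isLocalization_stalk ⟨x', hxW⟩
    obtain ⟨⟨c, hc⟩, hcw⟩ := (IsLocalization.map_eq_zero_iff
      (hW'.primeIdealOf ⟨x', hxW⟩).asIdeal.primeCompl ((I ^ 2).subscheme.presheaf.stalk x') _).mp hw0
    obtain ⟨t, ht⟩ := (I ^ 2).subschemeι_app_surjective ⟨W, hW⟩ c
    have htw : t * w ∈ (I ^ 2).ideal ⟨W, hW⟩ := by
      rw [← Scheme.IdealSheafData.ker_subschemeι_app, RingHom.mem_ker, map_mul]
      erw [ht]; exact hcw
    have htu : IsUnit (X.presheaf.germ W (ι x') hxW t) := by
      have h1 : IsUnit ((I ^ 2).subscheme.presheaf.germ (ι ⁻¹ᵁ W) x' hxW c) :=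
        IsLocalization.map_units ((I ^ 2).subscheme.presheaf.stalk x') (⟨c, hc⟩ : (hW'.primeIdealOf ⟨x', hxW⟩).asIdeal.primeCompl)
      rw [← ht] at h1
      erw [← Scheme.Hom.germ_stalkMap_apply] at h1
      exact isUnit_of_map_unit (ι.stalkMap x').hom _ h1
    have hsu : IsUnit (X.presheaf.germ W (ι x') hxW (s : Γ(X, W))) :=
      IsLocalization.map_units B s
    have hmem : X.presheaf.germ W (ι x') hxW (t * w) ∈ J ^ 2 := by
      rw [← Ideal.map_pow]
      refine Ideal.mem_map_of_mem _ ?_
      rwa [Scheme.IdealSheafData.ideal_pow] at htw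
    rw [map_mul, ← hws, ← mul_assoc, Ideal.mul_unit_mem_iff_mem _ hsu, Ideal.unit_mul_mem_iff_mem _ htu] at hmem
    exact hmem
  have h0 : ∀ b : B, ∃ a, b - φ a ∈ J ^ 2 := by
    intro b
    obtain ⟨a, ha⟩ := (ι ≫ f).stalkMap_surjective x' (ι.stalkMap x' b)
    refine ⟨a, hK ?_⟩
    rw [Scheme.Hom.stalkMap_comp] at ha
    rw [RingHom.mem_ker, map_sub, sub_eq_zero]
    exact ha.symm
  have hstep : ∀ n, ∀ b ∈ J ^ n, ∃ a, φ a ∈ J ^ n ∧ b - φ a ∈ J ^ (n + 1) := by
    intro n
    induction n with
    | zero =>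
      intro b _
      obtain ⟨a, ha⟩ := h0 b
      exact ⟨a, by simp, Ideal.pow_le_pow_right one_le_two ha⟩
    | succ n ih =>
      intro b hb
      rw [pow_succ J n] at hb
      refine Submodule.mul_induction_on hb (fun x hx y hy => ?_) (fun x y hx hy => ?_)
      · obtain ⟨a, ha, ha'⟩ := ih x hx
        obtain ⟨c, hc⟩ := h0 y
        have hcJ : φ c ∈ J := by
          simpa using sub_mem hy (Ideal.pow_le_self two_ne_zero hc)
        refine ⟨a * c, by rw [map_mul, pow_succ J n]; exact Ideal.mul_mem_mul ha hcJ, ?_⟩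
        rw [map_mul, show x * y - φ a * φ c = (x - φ a) * y + φ a * (y - φ c) by ring]
        refine add_mem ?_ ?_
        · rw [pow_succ J (n + 1)]; exact Ideal.mul_mem_mul ha' hy
        · rw [show n + 1 + 1 = n + 2 from rfl, pow_add J n 2]; exact Ideal.mul_mem_mul ha hc
      · obtain ⟨a, ha, ha'⟩ := hx; obtain ⟨c, hc, hc'⟩ := hy
        exact ⟨a + c, by rw [map_add]; exact add_mem ha hc, by rw [map_add, add_sub_add_comm]; exact add_mem ha' hc'⟩
  have happ : ∀ n, ∀ b : B, ∃ a, b - φ a ∈ J ^ n := by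
    intro n
    induction n with
    | zero => exact fun b => ⟨0, by simp⟩
    | succ n ih =>
      intro b
      obtain ⟨a, ha⟩ := ih b
      obtain ⟨c, -, hc⟩ := hstep n _ ha
      exact ⟨a + c, by rw [map_add, sub_add_eq_sub_sub]; exact hc⟩
  intro b
  obtain ⟨a, ha⟩ := happ N b
  rw [hJN, Ideal.mem_bot, sub_eq_zero] at ha
  exact ⟨a, ha.symm⟩

end Groth.Agent.S14049
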