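-- statement FlatMor.GrothFrozen.S1405 (Groth/Statements/S1405.lean; the theorem FlatMor.locallyNoetherian_fibres_iff_of_fppf_baseChange);
import Groth.Statements.S1405
import Groth.Agent.H7Flat.CMFieldExt
import Groth.Agent.H06Desc.Noetherian

set_option autoImplicit false
universe u
open FlatMor

namespace Groth.Agent.S1405
set_option backward.isDefEq.respectTransparency false

open AlgebraicGeometry CategoryTheory Limits in
/-- Let Y' → Y be flat, locally of finite presentation and surjective and f' the base change of f : X →
Y. Then all fibres of f are locally Noetherian if and only if all fibres of f' are. -/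
theorem result {X Y X' Y' : Scheme.{u}} (f : X ⟶ Y) (f' : X' ⟶ Y') (g' : X' ⟶ X) (g : Y' ⟶ Y) [Flat g] [LocallyOfFinitePresentation g] [Surjective g]
    (hc : IsPullback g' f' f g) :
    (∀ y : Y, IsLocallyNoetherian (f.fiber y)) ↔ ∀ y' : Y', IsLocallyNoetherian (f'.fiber y') := by
  refine ⟨fun hN => Groth.Agent.H7Flat.CMBC.isLocallyNoetherian_fibres_baseChange hc hN, fun hN' y => ?_⟩
  obtain ⟨y', rfl⟩ := g.surjective y
  haveI := hN' y'
  have hsq := isPullback_fiberToSpecResidueField_of_isPullback hc y'
  haveI : Flat (Spec.map (g.residueFieldMap y')) := (HasRingHomProperty.Spec_iff (P := @Flat)).mpr (by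
    letI := (g.residueFieldMap y').hom.toAlgebra
    show Module.Flat (Y.residueField (g y')) (Y'.residueField y')
    infer_instance)
  haveI : Surjective (Spec.map (g.residueFieldMap y')) :=
    ⟨fun p => ⟨(IsLocalRing.closedPoint _ : Spec (Y'.residueField y')),
      Subsingleton.elim (α := PrimeSpectrum (Y.residueField (g y'))) _ _⟩⟩
  have key : ∀ {P : Scheme.{u}} (q : P ⟶ f.fiber (g y')) (p' : P ⟶ Spec (Y'.residueField y')) (_ : IsPullback q p'
      (f.fiberToSpecResidueField (g y')) (Spec.map (g.residueFieldMap y'))), IsLocallyNoetherian P →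
      IsLocallyNoetherian (f.fiber (g y')) := by
    intro P q p' hq hP
    haveI : Flat q := MorphismProperty.of_isPullback hq.flip ‹Flat (Spec.map (g.residueFieldMap y'))›
    haveI : Surjective q := MorphismProperty.of_isPullback hq.flip ‹Surjective (Spec.map (g.residueFieldMap y'))›
    haveI : QuasiCompact q := MorphismProperty.of_isPullback hq.flip inferInstance
    exact Groth.Agent.H06Desc.isLocallyNoetherian_of_flat_surjective_quasiCompact q
  exact key _ _ hsq (hN' y')

end Groth.Agent.S1405
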