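import Groth.Statements.S14053
import Mathlib.LinearAlgebra.FreeModule.PID
import Mathlib.RingTheory.Flat.TorsionFree
import Mathlib.RingTheory.GradedAlgebra.Basic
import Mathlib.RingTheory.Henselian
import Mathlib.RingTheory.RegularLocalRing.Defs
import Mathlib.RingTheory.SimpleRing.Principal
import Mathlib.Tactic.Ring

set_option autoImplicit false
universe u
open CAlg

namespace Groth.Agent.S14053

/-- Let k be a field and R a commutative ℕ-graded k-algebra with R_0 = k · 1 which is generated as a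
k-algebra by R_1, R_2 and R_3, each a finite-dimensional k-vector space, of dimensions d_1, d_2,
d_3. Then for every natural number e ≥ 5 d_1 + 4 d_2 + 3 d_3 the (6e)-th Veronese subring of R is
generated in degree one over k: R_{6em} = (R_{6e})^m for every m > 0. -/
theorem result
    (k : Type u) [Field k] (R : Type u) [CommRing R] [Algebra k R]
    (ℛ : ℕ → Submodule k R) [GradedAlgebra ℛ]
    (h0 : ℛ 0 = 1)
    (hgen : Algebra.adjoin k ((ℛ 1 : Set R) ∪ (ℛ 2 : Set R) ∪ (ℛ 3 : Set R)) = ⊤)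
    [Module.Finite k (ℛ 1)] [Module.Finite k (ℛ 2)] [Module.Finite k (ℛ 3)]
    (e : ℕ) (he : 5 * Module.finrank k (ℛ 1) + 4 * Module.finrank k (ℛ 2) + 3 * Module.finrank k (ℛ 3) ≤ e)
    (m : ℕ) (hm : 0 < m) :
    ℛ (m * (6 * e)) = ℛ (6 * e) ^ m := by
  classical
  have hle : ∀ j : ℕ, ℛ (6 * e) ^ j ≤ ℛ (j * (6 * e)) := by
    intro j
    induction j with
    | zero => rw [pow_zero, zero_mul, h0]
    | succ j ih =>
      rw [pow_succ, Submodule.mul_le]
      intro a ha b hb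
      rw [add_mul, one_mul]
      exact SetLike.mul_mem_graded (ih ha) hb
  refine le_antisymm ?_ (hle m)
  let b1 := Module.finBasis k (ℛ 1)
  let b2 := Module.finBasis k (ℛ 2)
  let b3 := Module.finBasis k (ℛ 3)
  let ι := Fin (Module.finrank k (ℛ 1)) ⊕ Fin (Module.finrank k (ℛ 2)) ⊕ Fin (Module.finrank k (ℛ 3))
  let x : ι → R := Sum.elim (fun i ↦ (b1 i : R)) (Sum.elim (fun i ↦ (b2 i : R)) (fun i ↦ (b3 i : R)))
  let w : ι → ℕ := Sum.elim (fun _ ↦ 1) (Sum.elim (fun _ ↦ 2) (fun _ ↦ 3))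
  let t : ι → ℕ := Sum.elim (fun _ ↦ 6) (Sum.elim (fun _ ↦ 3) (fun _ ↦ 2))
  have hx : ∀ i, x i ∈ ℛ (w i) := by rintro (i | i | i) <;> exact Subtype.prop _
  let φ : MvPolynomial ι k →ₐ[k] R := MvPolynomial.aeval x
  have hsurj : ∀ y : R, ∃ P, φ P = y := by
    have hr : (⊤ : Subalgebra k R) ≤ φ.range := by
      rw [← hgen, Algebra.adjoin_le_iff]
      have hb : ∀ {n : ℕ} {κ : Type} (b : Module.Basis κ k (ℛ n)) (j : κ → ι), (∀ i, x (j i) = (b i : R)) →
          (ℛ n : Set R) ⊆ φ.range := by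
        intro n κ b j hj y hy
        have : (⊤ : Submodule k (ℛ n)) ≤ (φ.range.toSubmodule).comap (ℛ n).subtype := by
          rw [← b.span_eq, Submodule.span_le]
          rintro _ ⟨i, rfl⟩
          exact ⟨MvPolynomial.X (j i), by simpa [φ] using hj i⟩
        exact this (Submodule.mem_top (x := (⟨y, hy⟩ : ℛ n)))
      exact Set.union_subset (Set.union_subset (hb b1 Sum.inl fun _ ↦ rfl)
        (hb b2 (Sum.inr ∘ Sum.inl) fun _ ↦ rfl)) (hb b3 (Sum.inr ∘ Sum.inr) fun _ ↦ rfl)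
    exact fun y ↦ hr Algebra.mem_top
  let wt : (ι → ℕ) → ℕ := fun d ↦ ∑ i, d i * w i
  have hmon : ∀ d : ι → ℕ, ∏ i, x i ^ d i ∈ ℛ (wt d) := fun d ↦ by
    have := SetLike.prod_pow_mem_graded ℛ w x (F := Finset.univ) d fun i _ ↦ hx i
    simpa [wt] using this
  have hspan : ∀ (D : ℕ) (T : Submodule k R), (∀ d : ι → ℕ, wt d = D → ∏ i, x i ^ d i ∈ T) → ℛ D ≤ T := by
    intro D T hT y hy
    obtain ⟨P, rfl⟩ := hsurj y
    rw [← DirectSum.decompose_of_mem_same ℛ hy, ← GradedAlgebra.proj_apply]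
    rw [P.as_sum, map_sum, map_sum]
    refine sum_mem fun d _ ↦ ?_
    have hd : φ (MvPolynomial.monomial d (P.coeff d)) = P.coeff d • ∏ i, x i ^ d i := by
      rw [MvPolynomial.aeval_monomial, Finsupp.prod_fintype _ _ (fun _ ↦ pow_zero _), Algebra.smul_def]
    rw [hd, map_smul]
    refine T.smul_mem _ ?_
    rw [GradedAlgebra.proj_apply]
    by_cases h : wt d = D
    · rw [DirectSum.decompose_of_mem_same ℛ (h ▸ hmon d)]; exact hT d h
    · rw [DirectSum.decompose_of_mem_ne ℛ (hmon d) h]; exact zero_mem _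
  have hchoose : ∀ (s : Finset ι) (g : ι → ℕ) (n : ℕ), n ≤ ∑ i ∈ s, g i →
      ∃ q : ι → ℕ, (∀ i, q i ≤ g i) ∧ (∀ i ∉ s, q i = 0) ∧ ∑ i ∈ s, q i = n := by
    intro s
    induction s using Finset.induction_on with
    | empty => exact fun g n hn ↦ ⟨0, fun _ ↦ Nat.zero_le _, fun _ _ ↦ rfl, by simpa using (Nat.le_zero.mp hn).symm⟩
    | insert a s ha ih =>
      intro g n hn
      rw [Finset.sum_insert ha] at hn
      obtain ⟨q, hq1, hq2, hq3⟩ := ih g (n - min n (g a)) (by omega)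
      refine ⟨Function.update q a (min n (g a)), fun i ↦ ?_, fun i hi ↦ ?_, ?_⟩
      · rcases eq_or_ne i a with rfl | h
        · simp
        · simpa [h] using hq1 i
      · simp only [Finset.mem_insert, not_or] at hi
        simpa [hi.1] using hq2 i hi.2
      · rw [Finset.sum_insert ha, Function.update_self, Finset.sum_congr rfl fun i hi ↦ Function.update_of_ne (ne_of_mem_of_not_mem hi ha) _ q, hq3]
        omega
  have hslack : ∀ d : ι → ℕ, wt d ≤ 6 * (∑ i, d i / t i) + e := by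
    intro d
    have h1 : ∀ i, d i * w i ≤ 6 * (d i / t i) + Sum.elim (fun _ ↦ 5) (Sum.elim (fun _ ↦ 4) (fun _ ↦ 3)) i := by
      rintro (i | i | i) <;> simp only [w, t, Sum.elim_inl, Sum.elim_inr] <;> omega
    have h2 : (∑ i : ι, Sum.elim (fun _ ↦ 5) (Sum.elim (fun _ ↦ 4) (fun _ ↦ 3)) i) ≤ e := by
      simp only [ι, Fintype.sum_sum_type, Sum.elim_inl, Sum.elim_inr, Finset.sum_const, Finset.card_univ,
        Fintype.card_fin, smul_eq_mul]
      omega
    calc wt d ≤ ∑ i, (6 * (d i / t i) + Sum.elim (fun _ ↦ 5) (Sum.elim (fun _ ↦ 4) (fun _ ↦ 3)) i) :=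
        Finset.sum_le_sum fun i _ ↦ h1 i
      _ ≤ _ := by rw [Finset.sum_add_distrib, ← Finset.mul_sum]; omega
  obtain ⟨j, rfl⟩ : ∃ j, m = j + 1 := ⟨m - 1, by omega⟩
  clear hm
  induction j with
  | zero => rw [zero_add, one_mul, pow_one]
  | succ j ih =>
    refine hspan _ _ fun d hd ↦ ?_
    have hbig : e ≤ ∑ i, d i / t i := by
      have := hslack d
      rw [hd, show (j + 1 + 1) * (6 * e) = 6 * (j * e) + 12 * e by ring] at this
      omega
    obtain ⟨q, hq1, -, hq3⟩ := hchoose Finset.univ (fun i ↦ d i / t i) e hbig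
    let d1 : ι → ℕ := fun i ↦ q i * t i
    have hd1 : ∀ i, d1 i ≤ d i := fun i ↦ le_trans (Nat.mul_le_mul_right _ (hq1 i)) (Nat.div_mul_le_self _ _)
    let d2 : ι → ℕ := fun i ↦ d i - d1 i
    have hdd : ∀ i, d i = d2 i + d1 i := fun i ↦ (Nat.sub_add_cancel (hd1 i)).symm
    have hw1 : wt d1 = 6 * e := by
      rw [← hq3, Finset.mul_sum]
      refine Finset.sum_congr rfl fun i _ ↦ ?_
      rcases i with i | i | i <;> simp only [d1, w, t, Sum.elim_inl, Sum.elim_inr] <;> ring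
    have hw2 : wt d2 = (j + 1) * (6 * e) := by
      have : wt d = wt d2 + wt d1 := by
        simp only [wt, ← Finset.sum_add_distrib, ← add_mul, ← hdd]
      rw [hd, hw1, show (j + 1 + 1) * (6 * e) = (j + 1) * (6 * e) + 6 * e by ring] at this
      omega
    have hprod : ∏ i, x i ^ d i = (∏ i, x i ^ d2 i) * ∏ i, x i ^ d1 i := by
      rw [← Finset.prod_mul_distrib]
      exact Finset.prod_congr rfl fun i _ ↦ by rw [← pow_add, ← hdd]
    rw [hprod, pow_succ]
    exact Submodule.mul_mem_mul (ih (hw2 ▸ hmon d2)) (hw1 ▸ hmon d1)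

end Groth.Agent.S14053
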