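import Groth.Statements.S14056
import Groth.Agent.H28RR.Cor

set_option autoImplicit false
universe u
open CategoryTheory CategoryTheory.Limits AlgebraicGeometry TopologicalSpace
open Groth.Agent
open Surf

namespace Groth.Agent.S14056

/-- Let k be an algebraically closed field and X a smooth surface over k: an integral scheme, proper and
smooth over k, of dimension 2; let W be its canonical module, a second exterior power of Ω_{X/k}.
For an invertible module L and an integral closed one-dimensional subscheme C ⊆ X write (L·C) =
χ(O_C ⊗ L) − χ(O_C). Suppose that X has non-negative Kodaira dimension, that is some tensor power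
W^{⊗m} with m > 0 has a nonzero global section, and that X is minimal: it contains no (−1)-curve,
where a (−1)-curve is taken, through its numerical characterization, to be an integral closed
one-dimensional subscheme E with H¹(E, O_E) = 0 and (O_X(E)·E) = −1, O_X(E) being a tensor inverse
of the ideal sheaf of E. Then W is nef: (W·C) ≥ 0 for every integral closed one-dimensional C ⊆ X.
(Together with the first assertion: under non-negative Kodaira dimension, X is minimal if and only
if W is nef.) -/
theorem result (k : Type u) [Field k] [IsAlgClosed k] (X : Scheme.{u})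
    [X.Over (Spec (CommRingCat.of k))] [IsProper (X ↘ (Spec (CommRingCat.of k)))] [Smooth (X ↘ (Spec (CommRingCat.of k)))]
    [IsIntegral X] (hdim : topologicalKrullDim X = 2)
    (W : X.Modules) (hW : ExtPow.IsExtPow 2 (Omega.sheaf (X ↘ (Spec (CommRingCat.of k)))) W)
    (m : ℕ) (hm : 0 < m) (hsec : Nontrivial (Coh.HH X (CohB1.tensorPow W m) 0))
    (hmin : (∀ (E : X.IdealSheafData) (N : X.Modules), IsIntegral E.subscheme →
      topologicalKrullDim (E.support : Set X) = 1 → ClSub.IsInverseOf N (ClSub.idealMod E) →
      Subsingleton (Coh.HH E.subscheme (Coh.structureModule E.subscheme) 1) →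
      Curv2.euler k X (CohB1.tensorMod (ClSub.quotMod E) N) - Curv2.euler k X (ClSub.quotMod E) ≠ -1)) :
    (∀ C : X.IdealSheafData, IsIntegral C.subscheme → topologicalKrullDim (C.support : Set X) = 1 →
      0 ≤ Curv2.euler k X (CohB1.tensorMod (ClSub.quotMod C) W) - Curv2.euler k X (ClSub.quotMod C)) := by
  intro C hC hCd
  have hCu : H28Surf.IsCurve C := ⟨hC, hCd⟩
  have hCe := H28Surf.isEffCartier_curve k hdim hCu
  have hI := H28Surf.isInvertible_ideal k hCe
  have hWi := H28RR.isInvertible_canonical k hdim hW
  have hMi := H11Ample.isInvertible_tensorPow hWi m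
  by_contra hlt
  replace hlt : H28Surf.degOn k C W < 0 := not_le.1 hlt
  rw [H28RR.degOn_eq_pr k hdim hCu hWi] at hlt
  have hMd : H28Surf.degOn k C (CohB1.tensorPow W m) < 0 := by
    rw [H28RR.degOn_eq_pr k hdim hCu hMi, H28Surf.pr_symm k, H28Surf.pr_pow_left k hdim hWi hI,
      H28Surf.pr_symm k W]
    have : (1 : ℤ) ≤ m := by exact_mod_cast hm
    nlinarith
  have hneg := H28RR.self_neg_of_section k hdim hMi hsec hCu hMd
  have h1 := H28RR.euler_quot k hdim hW hCe
  have h2 := (H28Surf.euler_le_one k hdim hCu).1
  obtain ⟨N, hN, ⟨e⟩⟩ := H11Sym.exists_inverse hI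
  have hinv : ClSub.IsInverseOf N (ClSub.idealMod C) := ⟨e⟩
  have h3 := H28RR.degOn_inverse k hdim hCu hinv
  refine hmin C N hC hCd hinv ((H28RR.subsingleton_h1_iff k hdim hCu).2 (by omega)) ?_
  show H28Surf.degOn k C N = -1
  omega

end Groth.Agent.S14056
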