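import Groth.Statements.S14057
import Groth.Agent.H28RR.Nakai

set_option autoImplicit false
universe u
open CategoryTheory CategoryTheory.Limits AlgebraicGeometry TopologicalSpace
open Groth.Agent
open Surf

namespace Groth.Agent.S14057

/-- Let k be an algebraically closed field and X a smooth surface over k: an integral scheme, proper and
smooth over k, of dimension 2; let W be its canonical module, a second exterior power of Ω_{X/k}.
For an invertible module L and an integral closed one-dimensional subscheme C ⊆ X write (L·C) =
χ(O_C ⊗ L) − χ(O_C), and (W·W) for the self-intersection number of W (the alternating sum χ(O_X) −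
2χ(W) + χ(W ⊗ W)). Suppose W is nef and (W·W) > 0. Then W is ample if and only if X contains no
(−2)-curve, where a (−2)-curve is taken, through its numerical characterization, to be an integral
closed one-dimensional subscheme E with H¹(E, O_E) = 0 and (O_X(E)·E) = −2, O_X(E) being a tensor
inverse of the ideal sheaf of E. (The published statement is for a minimal surface of general type;
its proof uses exactly that the canonical module is nef with positive self-intersection, which is
how the hypothesis is written here.) -/
theorem result (k : Type u) [Field k] [IsAlgClosed k] (X : Scheme.{u})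
    [X.Over (Spec (CommRingCat.of k))] [IsProper (X ↘ (Spec (CommRingCat.of k)))] [Smooth (X ↘ (Spec (CommRingCat.of k)))]
    [IsIntegral X] (hdim : topologicalKrullDim X = 2)
    (W : X.Modules) (hW : ExtPow.IsExtPow 2 (Omega.sheaf (X ↘ (Spec (CommRingCat.of k)))) W)
    (hnef : (∀ C : X.IdealSheafData, IsIntegral C.subscheme → topologicalKrullDim (C.support : Set X) = 1 →
      0 ≤ Curv2.euler k X (CohB1.tensorMod (ClSub.quotMod C) W) - Curv2.euler k X (ClSub.quotMod C)))
    (hpos : 0 < FGA.intNum k X 2 ![W, W] (Coh.structureModule X)) :
    CohB1.IsAmple W ↔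
    (∀ (E : X.IdealSheafData) (N : X.Modules), IsIntegral E.subscheme →
      topologicalKrullDim (E.support : Set X) = 1 → ClSub.IsInverseOf N (ClSub.idealMod E) →
      Subsingleton (Coh.HH E.subscheme (Coh.structureModule E.subscheme) 1) →
      Curv2.euler k X (CohB1.tensorMod (ClSub.quotMod E) N) - Curv2.euler k X (ClSub.quotMod E) ≠ -2) := by
  have hWi := H28RR.isInvertible_canonical k hdim hW
  rw [H28Surf.intNum_eq_pr k hdim hWi hWi] at hpos
  constructor
  · intro hamp C N hC hCd hN hH1 hdeg
    have hCu : H28Surf.IsCurve C := ⟨hC, hCd⟩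
    have h1 := H28RR.euler_quot k hdim hW (H28Surf.isEffCartier_curve k hdim hCu)
    rw [(H28RR.subsingleton_h1_iff k hdim hCu).1 hH1] at h1
    have h2 : H28Surf.degOn k C N = -2 := hdeg
    rw [H28RR.degOn_inverse k hdim hCu hN] at h2
    have h3 := H28RR.ample_deg_pos k hdim hamp hCu
    rw [H28RR.degOn_eq_pr k hdim hCu hWi] at h3
    omega
  · intro hno
    refine H28RR.isAmple_of_pos k hdim hWi hpos fun C hCu => ?_
    refine lt_of_le_of_ne (hnef C hCu.int hCu.dim) fun h0 => ?_
    replace h0 : H28Surf.degOn k C W = 0 := h0.symm
    have hneg := H28RR.self_neg_of_orth k hdim hWi hpos hCu h0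
    rw [H28RR.degOn_eq_pr k hdim hCu hWi] at h0
    have hCe := H28Surf.isEffCartier_curve k hdim hCu
    have h1 := H28RR.euler_quot k hdim hW hCe
    have h2 := (H28Surf.euler_le_one k hdim hCu).1
    obtain ⟨N, hN, ⟨e⟩⟩ := H11Sym.exists_inverse (H28Surf.isInvertible_ideal k hCe)
    have hinv : ClSub.IsInverseOf N (ClSub.idealMod C) := ⟨e⟩
    have h3 := H28RR.degOn_inverse k hdim hCu hinv
    refine hno C N hCu.int hCu.dim hinv ((H28RR.subsingleton_h1_iff k hdim hCu).2 (by omega)) ?_
    show H28Surf.degOn k C N = -2
    omega

end Groth.Agent.S14057
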