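import Groth.Statements.S14058
import Groth.Agent.H28RR.LeraySurf
import Groth.Agent.H28RR.Cor
import Groth.Agent.H8Props.NormalLowDim
import Groth.Agent.H28Contr.RelMin

set_option autoImplicit false
set_option backward.isDefEq.respectTransparency.types false
set_option linter.style.haveILetI false
universe u
open CategoryTheory CategoryTheory.Limits AlgebraicGeometry TopologicalSpace
open Groth.Agent
open Surf

namespace Groth.Agent.S14058

attribute [local instance 10000] H10Coh.hasSheafifyAb H10Coh.hasWeakSheafifyAb H10Coh.hasExtAb H10Coh.enoughInjAb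

/-- Let k be an algebraically closed field and X a normal surface over k: an integral normal scheme,
proper over k, of dimension 2. Let π : S → X be a resolution of X: S is an integral scheme of
dimension 2 smooth over k, π is proper, the map O_X → π_*O_S is an isomorphism, and π restricts to
an isomorphism over the open subset of regular points of X. Then R¹π_*O_S = 0 if and only if χ(S,
O_S) = χ(X, O_X). Here R¹π_* is the first right derived functor of the direct image on abelian
sheaves, applied to the abelian sheaf underlying O_S. -/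
theorem result (k : Type u) [Field k] [IsAlgClosed k]
    (X : Scheme.{u}) [X.Over (Spec (CommRingCat.of k))] [IsProper (X ↘ (Spec (CommRingCat.of k)))] [IsIntegral X]
    (hdimX : topologicalKrullDim X = 2) (hnorm : Pi1.IsNormalScheme X)
    (S : Scheme.{u}) (π : S ⟶ X) [IsProper π] [IsIntegral S] (hdimS : topologicalKrullDim S = 2)
    [Smooth (π ≫ (X ↘ (Spec (CommRingCat.of k))))]
    (hO : IsIso (ClSub.unitToPush π))
    (U : X.Opens) (hU : ∀ x : X, x ∈ U ↔ IsRegularLocalRing (X.presheaf.stalk x)) (hiso : IsIso (π ∣_ U)) :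
    letI : S.Over (Spec (CommRingCat.of k)) := ⟨π ≫ (X ↘ (Spec (CommRingCat.of k)))⟩
    IsZero ((Coh.RpushAb π 1).obj (Coh.toAb (Coh.structureModule S))) ↔
      Curv2.euler k S (Coh.structureModule S) = Curv2.euler k X (Coh.structureModule X) := by
  classical
  letI : S.Over (Spec (CommRingCat.of k)) := ⟨π ≫ (X ↘ (Spec (CommRingCat.of k)))⟩
  haveI : IsProper (S ↘ Spec (CommRingCat.of k)) :=
    inferInstanceAs (IsProper (π ≫ (X ↘ (Spec (CommRingCat.of k)))))
  haveI : Smooth (S ↘ Spec (CommRingCat.of k)) := ‹Smooth (π ≫ (X ↘ (Spec (CommRingCat.of k))))›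
  haveI := H28Int.isNoetherian k (X := X)
  haveI := H28Int.isNoetherian k (X := S)
  haveI := hiso
  let q := X ↘ (Spec (CommRingCat.of k))
  haveI : JacobsonSpace X := LocallyOfFiniteType.jacobsonSpace q
  have hd2 : ∀ x : X, x ∉ U → IsClosed ({x} : Set X) := fun x hx =>
    H28Contr.isClosed_of_dim_two hdimX.le fun hle => hx ((hU x).2 (by
      haveI := (hnorm x).1
      haveI := (hnorm x).2
      exact H8Props.NormalLowDim.isRegularLocalRing_of_dim_le_one (h := hle)))
  have hUf : ((U : Set X)ᶜ).Finite := by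
    let C : Set X := (U : Set X)ᶜ
    haveI : NoetherianSpace C := NoetherianSpace.set C
    haveI : QuasiSober C := U.2.isClosed_compl.isClosedEmbedding_subtypeVal.quasiSober
    refine Set.finite_coe_iff.1 (Set.finite_univ_iff.1
      (Set.Finite.of_finite_image (f := fun x : C => closure ({x} : Set C)) ?_ ?_))
    · refine NoetherianSpace.finite_irreducibleComponents.subset ?_
      rintro _ ⟨x, -, rfl⟩
      refine ⟨isIrreducible_singleton.closure, fun Z hZ hle z hz => ?_⟩
      obtain ⟨η, hη⟩ := QuasiSober.sober hZ.closure isClosed_closure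
      have hxz : x = η := by
        have h1 : η ⤳ x := hη.specializes (subset_closure (hle (subset_closure rfl)))
        have h2 : (x : X) ∈ closure ({(η : X)} : Set X) := specializes_iff_mem_closure.1 (h1.map continuous_subtype_val)
        rw [(hd2 η η.2).closure_eq] at h2
        exact Subtype.ext h2
      show z ∈ closure ({x} : Set C)
      rw [hxz, hη.def]
      exact subset_closure hz
    · intro a _ b _ hab
      exact (isGenericPoint_def.2 hab).eq (isGenericPoint_def.2 rfl)
  have hne : (π ⁻¹ᵁ U : Set S).Nonempty := by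
    have hgX : genericPoint X ∈ U := (hU _).2 (by
      letI : Field (X.presheaf.stalk (genericPoint X)) := inferInstanceAs (Field X.functionField)
      exact inferInstance)
    exact ⟨((inv (π ∣_ U)) ⟨_, hgX⟩).1, ((inv (π ∣_ U)) ⟨_, hgX⟩).2⟩
  obtain ⟨A, hA⟩ := H28RR.exists_ample k (X := S) hdimS
  obtain ⟨K, hK, hKs, -, heul, -, hz₁, hz₂⟩ := H28RR.LeraySurf.exists_defect k π rfl hA (by rw [hdimS]; rfl) U hUf hne
    (Coh.structureModule X) (H28Int.isInvertible_structureModule X)
  haveI := hO
  rw [H25Euler.euler_congr (asIso (ClSub.unitToPush π)).symm] at heul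
  haveI : (Coh.structureModule S).IsQuasicoherent := H10Coh.isQuasicoherent_unit
  have hR : IsZero ((Coh.RpushAb π 1).obj (Coh.toAb (Coh.structureModule S))) ↔
      ∀ V : X.Opens, IsAffineOpen V → Subsingleton (H10Coh.HnM (Coh.structureModule S) 1 (π ⁻¹ᵁ V)) := by
    haveI : ((H10Coh.MRes.inj (Coh.structureModule S)).Z 0).IsQuasicoherent := H10Coh.isQuasicoherent_unit
    let G := H10Coh.hdir π (H10Coh.MRes.inj (Coh.structureModule S)) 0
    obtain ⟨e⟩ := H10Coh.nonempty_rpushAb_iso_hdir π (Coh.structureModule S) 0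
    have he : IsZero ((Coh.RpushAb π 1).obj (Coh.toAb (Coh.structureModule S))) ↔ IsZero G := by
      refine ⟨fun h => ?_, fun h => ((H10Coh.shF X).map_isZero h).of_iso e.symm⟩
      have h1 := h.of_iso e
      rw [IsZero.iff_id_eq_zero]
      exact (H10Coh.shF X).map_injective (h1.eq_of_src _ _)
    rw [he]
    refine ⟨fun h V hV => ?_, fun h => ?_⟩
    · haveI : Subsingleton Γ(G, V) := subsingleton_of_forall_eq 0 fun x =>
        ConcreteCategory.congr_hom (congrArg (fun φ => Scheme.Modules.Hom.app φ V) (h.eq_of_src (𝟙 _) 0)) x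
      exact (H10Coh.hdirEquiv π (H10Coh.MRes.inj (Coh.structureModule S)) 0 hV).toEquiv.subsingleton
    · rw [IsZero.iff_id_eq_zero]
      refine Scheme.Modules.hom_ext _ _ fun O => ?_
      ext z
      refine H11Tilde.eq_of_locally _ _ fun x hx => ?_
      obtain ⟨V, hV, hxV, hVO⟩ := exists_isAffineOpen_mem_and_subset hx
      haveI : Subsingleton (H10Coh.HnM ((H10Coh.MRes.inj (Coh.structureModule S)).Z 0) (0 + 1) (π ⁻¹ᵁ V)) := h V hV
      haveI : Subsingleton Γ(G, V) :=
        (H10Coh.hdirEquiv π (H10Coh.MRes.inj (Coh.structureModule S)) 0 hV).toEquiv.symm.subsingleton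
      exact ⟨V, hVO, hxV, Subsingleton.elim _ _⟩
  have hiff : IsZero K ↔ ∀ V : X.Opens, IsAffineOpen V →
      Subsingleton (H10Coh.HnM (Coh.structureModule S) 1 (π ⁻¹ᵁ V)) := ⟨hz₁, fun h => hz₂ fun x O hx => by
    obtain ⟨V, hV, hxV, hVO⟩ := exists_isAffineOpen_mem_and_subset hx
    exact ⟨V, hV, hxV, hVO, h V hV⟩⟩
  rw [hR, ← hiff]
  refine ⟨fun hz => ?_, fun hχ => ?_⟩
  · rw [(H28Int.isAddFn_euler k).zero hz] at heul
    omega
  · by_contra hnz
    obtain ⟨x, hx⟩ : (CohB1.support K).Nonempty := by
      by_contra hemp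
      exact hnz (H16Derived.KFlat.Stalk.isZero_of_stalk fun x => (H25Euler.notMem_support_iff K x).1 fun hx => hemp ⟨x, hx⟩)
    have hdK : topologicalKrullDim (CohB1.support K) ≤ ((0 : ℕ) : WithBot ℕ∞) := by
      exact H28RR.LeraySurf.dim_le_zero (hUf.subset hKs) (H10Coh.isClosed_support _ hK.2)
    have hpos := (H28Int.pos_of_ample k [] (by simp) K hK hdK).2 ⟨x, hx, by
      haveI : Nonempty (IrreducibleCloseds (closure ({x} : Set X))) :=
        ⟨⟨closure {(⟨x, subset_closure rfl⟩ : closure ({x} : Set X))}, isIrreducible_singleton.closure, isClosed_closure⟩⟩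
      exact Order.krullDim_nonneg⟩
    change 0 < Curv2.euler k X K at hpos
    omega

end Groth.Agent.S14058
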