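-- statement FlatMor.GrothFrozen.S1406 (Groth/Statements/S1406.lean; the theorem FlatMor.locallyNoetherian_fibres_iff_of_fppf_cover_source);
import Groth.Statements.S1406
import Groth.Agent.H13AlgSp.EtaleLocally

set_option autoImplicit false
universe u
open FlatMor

namespace Groth.Agent.S1406
set_option backward.isDefEq.respectTransparency false

open AlgebraicGeometry CategoryTheory Limits in
/-- Let a : X' → X be flat, locally of finite presentation and surjective. Then all fibres of f : X → Y
are locally Noetherian if and only if all fibres of a ≫ f are. -/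
theorem result {X X' Y : Scheme.{u}} (f : X ⟶ Y) (a : X' ⟶ X) [Flat a] [LocallyOfFinitePresentation a] [Surjective a] :
    (∀ y : Y, IsLocallyNoetherian (f.fiber y)) ↔ ∀ y : Y, IsLocallyNoetherian ((a ≫ f).fiber y) := by
  refine forall_congr' fun y => ?_
  let q : (a ≫ f).fiber y ⟶ f.fiber y :=
    pullback.map _ _ _ _ a (𝟙 _) (𝟙 _) (Category.comp_id _) rfl
  have hq : IsPullback ((a ≫ f).fiberι y) q a (f.fiberι y) := by
    refine IsPullback.of_bot ?_ (pullback.lift_fst _ _ _).symm (IsPullback.of_hasPullback f (Y.fromSpecResidueField y))
    have : q ≫ pullback.snd f _ = (a ≫ f).fiberToSpecResidueField y :=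
      (pullback.lift_snd _ _ _).trans (Category.comp_id _)
    show IsPullback _ (q ≫ pullback.snd f _) _ _
    rw [this]
    exact IsPullback.of_hasPullback _ _
  haveI : Flat q := MorphismProperty.of_isPullback hq ‹Flat a›
  haveI : LocallyOfFinitePresentation q := MorphismProperty.of_isPullback hq ‹LocallyOfFinitePresentation a›
  haveI : Surjective q := MorphismProperty.of_isPullback hq ‹Surjective a›
  exact ⟨fun _ => LocallyOfFiniteType.isLocallyNoetherian q,
    fun _ => Groth.Agent.H13AlgSp.isLocallyNoetherian_of_flat_lfp_surjective q⟩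

end Groth.Agent.S1406
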