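import Groth.Statements.S14060
import Mathlib
import Groth.Agent.H10Coh.SheafH

open CategoryTheory.Abelian

set_option linter.style.haveILetI false
open CategoryTheory CategoryTheory.Limits Opposite Simplicial

set_option autoImplicit false
universe u
open CategoryTheory CategoryTheory.Limits TopologicalSpace
open CohTop

namespace Groth.Agent.S14060

section

open Groth.Agent.H10Coh in
lemma surjective_of_subsingleton {X : TopCat.{u}}
    [HasExt.{u} (Sheaf (Opens.grothendieckTopology X) AddCommGrpCat.{u})]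
    {S : ShortComplex (Sheaf (Opens.grothendieckTopology X) AddCommGrpCat.{u})} (hS : S.ShortExact)
    (h : Subsingleton (Sheaf.H S.X₁ 1)) : Function.Surjective (S.g.hom.app (op ⊤)) := by
  intro t
  obtain ⟨x, hx⟩ := Ext.covariant_sequence_exact₃ (constZ X) hS
    (Ext.mk₀ ((constEquiv S.X₃).symm t)) (n₁ := 1) (by omega) (Subsingleton.elim (α := Sheaf.H S.X₁ 1) _ _)
  obtain ⟨φ, rfl⟩ := (Ext.mk₀_bijective _ _).2 x
  refine ⟨constEquiv S.X₂ φ, ?_⟩
  rw [Ext.mk₀_comp_mk₀] at hx
  rw [← constEquiv_comp, (Ext.mk₀_bijective _ _).1 hx, AddEquiv.apply_symm_apply]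

variable {A : Type*} [Category A] [Abelian A] [HasExt.{u} A] (Z : A)

lemma shift {S : ShortComplex A} (hS : S.ShortExact) (n : ℕ) (h₂ : Subsingleton (Ext.{u} Z S.X₂ n))
    (h₁ : Subsingleton (Ext.{u} Z S.X₁ (n + 1))) : Subsingleton (Ext.{u} Z S.X₃ n) := by
  refine subsingleton_of_forall_eq 0 (fun x => ?_)
  obtain ⟨y, rfl⟩ := Ext.covariant_sequence_exact₃ Z hS x rfl (Subsingleton.elim _ _)
  rw [Subsingleton.elim y 0, Ext.zero_comp]

noncomputable def kerSeq (F : ChainComplex A ℕ) (k : ℕ) : ShortComplex A :=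
  ShortComplex.mk (kernel.ι (F.d (k + 2) (k + 1))) (kernel.lift (F.d (k + 1) k) (F.d (k + 2) (k + 1)) (F.d_comp_d _ _ _))
    (by rw [← cancel_mono (kernel.ι _)]; simp)

lemma kerSeq_shortExact (F : ChainComplex A ℕ) (k : ℕ) (h : F.ExactAt (k + 1)) :
    (kerSeq F k).ShortExact := by
  have hex : (F.sc' (k + 2) (k + 1) k).Exact := (F.exactAt_iff' (k + 2) (k + 1) k (by simp) (by simp)).1 h
  have hepi : Epi (kerSeq F k).g := hex.epi_kernelLift
  have hmono : Mono (kerSeq F k).f := equalizer.ι_mono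
  refine ⟨?_⟩
  let S' := ShortComplex.mk (kernel.ι (F.d (k + 2) (k + 1))) (F.d (k + 2) (k + 1)) (kernel.condition _)
  let φ : kerSeq F k ⟶ S' :=
    { τ₁ := 𝟙 _, τ₂ := 𝟙 _, τ₃ := kernel.ι _, comm₁₂ := by simp [S', kerSeq], comm₂₃ := by simp [S', kerSeq] }
  haveI : Epi φ.τ₁ := inferInstanceAs (Epi (𝟙 _))
  haveI : IsIso φ.τ₂ := inferInstanceAs (IsIso (𝟙 _))
  haveI : Mono φ.τ₃ := inferInstanceAs (Mono (kernel.ι _))
  rw [ShortComplex.exact_iff_of_epi_of_isIso_of_mono φ]
  exact S'.exact_of_f_is_kernel (kernelIsKernel _)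

lemma vanish (F : ChainComplex A ℕ) (r : ℕ) (hmono : Mono (F.d r (r - 1)))
    (hex : ∀ j : ℕ, 1 ≤ j → j < r → F.ExactAt j)
    (hvan : ∀ j : ℕ, 2 ≤ j → j ≤ r → Subsingleton (Ext.{u} Z (F.X j) (j - 1))) :
    ∀ (m k : ℕ), k + 2 + m = r → Subsingleton (Ext.{u} Z (kernel (F.d (k + 1) k)) (k + 1)) := by
  intro m
  induction m with
  | zero =>
    intro k hk
    obtain rfl : r = k + 2 := by omega
    have hex' : (F.sc' (k + 2) (k + 1) k).Exact :=
      (F.exactAt_iff' (k + 2) (k + 1) k (by simp) (by simp)).1 (hex _ (by omega) (by omega))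
    have : Epi (kernel.lift (F.d (k + 1) k) (F.d (k + 2) (k + 1)) (F.d_comp_d _ _ _)) := hex'.epi_kernelLift
    have : Mono (F.d (k + 2) (k + 1)) := hmono
    have : Mono (kernel.lift (F.d (k + 1) k) (F.d (k + 2) (k + 1)) (F.d_comp_d _ _ _)) :=
      mono_of_mono_fac (kernel.lift_ι _ _ _)
    have := isIso_of_mono_of_epi (kernel.lift (F.d (k + 1) k) (F.d (k + 2) (k + 1)) (F.d_comp_d _ _ _))
    set e := asIso (kernel.lift (F.d (k + 1) k) (F.d (k + 2) (k + 1)) (F.d_comp_d _ _ _))
    have h2 := hvan (k + 2) (by omega) le_rfl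
    simp only [show k + 2 - 1 = k + 1 by omega] at h2
    refine subsingleton_of_forall_eq 0 (fun x => ?_)
    have hx : x.comp (Ext.mk₀ e.inv) (add_zero (k + 1)) = 0 := Subsingleton.elim _ _
    have := congrArg (fun y => Ext.comp y (Ext.mk₀ e.hom) (add_zero (k + 1))) hx
    simpa [Ext.comp_assoc_of_third_deg_zero] using this
  | succ m ih =>
    intro k hk
    refine shift Z (kerSeq_shortExact F k (hex _ (by omega) (by omega))) (k + 1) ?_ (ih (k + 1) (by omega))
    exact hvan (k + 2) (by omega) (by omega)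
end

/-- Let X be a topological space, r ≥ 1 an integer and 0 → F_r → ⋯ → F_2 → F_1 → F_0 → 0 an exact
sequence of sheaves of abelian groups on X, presented as a chain complex F of abelian sheaves
indexed by the natural numbers whose differential F_r → F_{r−1} is a monomorphism, whose
differential F_1 → F_0 is an epimorphism of sheaves, and which is exact at F_j for 1 ≤ j ≤ r − 1
(for r = 1 the single map F_1 → F_0 is mono and epi). Assume the sheaf cohomology groups H^{j−1}(X,
F_j) vanish for 2 ≤ j ≤ r. Then the map on global sections F_1(X) → F_0(X) is surjective. (The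
instance hypothesis that the category of abelian sheaves on X has Ext groups in the universe of X
holds for every X, abelian sheaves on a space forming a Grothendieck abelian category; it is the
setting in which sheaf cohomology is defined.) -/
theorem result (X : TopCat.{u})
    [HasExt.{u} (Sheaf (Opens.grothendieckTopology X) AddCommGrpCat.{u})]
    (r : ℕ) (hr : 1 ≤ r)
    (F : ChainComplex (Sheaf (Opens.grothendieckTopology X) AddCommGrpCat.{u}) ℕ)
    (hmono : Mono (F.d r (r - 1))) (hepi : Epi (F.d 1 0))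
    (hex : ∀ j : ℕ, 1 ≤ j → j < r → F.ExactAt j)
    (hvan : ∀ j : ℕ, 2 ≤ j → j ≤ r → Subsingleton (Sheaf.H (F.X j) (j - 1))) :
    Function.Surjective ((F.d 1 0).hom.app (Opposite.op ⊤)) := by
  obtain rfl | hr2 := eq_or_lt_of_le hr
  · have : Mono (F.d 1 0) := hmono
    have := isIso_of_mono_of_epi (F.d 1 0)
    intro t
    exact ⟨(inv (F.d 1 0)).hom.app _ t,
      ConcreteCategory.congr_hom (congr_arg (fun φ => φ.hom.app (op (⊤ : Opens X))) (IsIso.inv_hom_id (F.d 1 0))) t⟩
  · exact surjective_of_subsingleton (S := ShortComplex.mk _ _ (kernel.condition (F.d 1 0)))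
      { exact := ShortComplex.exact_of_f_is_kernel _ (kernelIsKernel _) }
      (vanish _ F r hmono hex hvan (r - 2) 0 (by omega))

end Groth.Agent.S14060
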