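import Groth.Statements.S14064
import Groth.Agent.H28Int.Surface
import Groth.Agent.H11Ample.Tensor
import Groth.Agent.H17.InvertibleTensor

set_option autoImplicit false
universe u
open CategoryTheory CategoryTheory.Limits AlgebraicGeometry TopologicalSpace
open Surf

namespace Groth.Agent.S14064

theorem isGen_one_top {X : Scheme.{u}} :
    H11Tilde.IsGen (Coh.structureModule X) (show Γ(Coh.structureModule X, ⊤) from (1 : Γ(X, ⊤))) :=
  H11Tilde.isGen_of_bijective fun W hW => by
    refine Eq.mpr (congrArg Function.Bijective (funext fun r => ?_)) Function.bijective_id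
    change (r * (X.presheaf.map (homOfLE hW).op (1 : Γ(X, ⊤))) : Γ(X, W)) = r
    rw [map_one, mul_one]

theorem isGen_one {X : Scheme.{u}} (U : X.Opens) :
    H11Tilde.IsGen (Coh.structureModule X) (show Γ(Coh.structureModule X, U) from (1 : Γ(X, U))) :=
  H11Tilde.isGen_of_bijective fun W hW => by
    refine Eq.mpr (congrArg Function.Bijective (funext fun r => ?_)) Function.bijective_id
    change (r * (X.presheaf.map (homOfLE hW).op (1 : Γ(X, U))) : Γ(X, W)) = r
    rw [map_one, mul_one]

theorem nonempty_pow_iso {X : Scheme.{u}} {M L : X.Modules} (h : ClSub.IsInverseOf M L) (n : ℕ) :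
    Nonempty (CohB1.tensorPow (CohB1.tensorMod M L) n ≅ Coh.structureModule X) := by
  obtain ⟨e⟩ := h
  let g : Γ(CohB1.tensorMod M L, ⊤) := e.inv.app ⊤ (show Γ(Coh.structureModule X, ⊤) from (1 : Γ(X, ⊤)))
  have hg : H11Tilde.IsGen (CohB1.tensorMod M L) g := H11Ample.isGen_map_iso e.symm isGen_one_top
  have hP := H11Ample.isGen_spow hg n
  obtain ⟨f, -⟩ := H11Ample.exists_iso_of_gen (P := CohB1.tensorPow (CohB1.tensorMod M L) n)
    (Q := Coh.structureModule X) (fun _ : PUnit.{1} => (⊤ : X.Opens))
    (fun x => ⟨⟨⟩, trivial⟩) (fun _ => H11Ample.spow g n) (fun _ => hP)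
    (fun _ => (show Γ(Coh.structureModule X, ⊤) from (1 : Γ(X, ⊤)))) (fun _ => isGen_one_top) fun _ _ v hv => by
    have h1 := (hP.res (inf_le_right : (⊤ : X.Opens) ⊓ ⊤ ≤ ⊤)).bijective le_rfl |>.1 (a₁ := 1) (a₂ := v) (by
      beta_reduce; rw [H10Coh.mres_self, one_smul]; exact hv)
    rw [← h1, one_smul]
  exact ⟨f⟩

/-- Fix a field k, an integral proper k-scheme X, and an invertible O_X-module L with tensor inverse M.
Suppose that L^{⊗j} has a nonzero global section for every j ≥ 4 and that no tensor power L^{⊗j}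
with j ≥ 1 is isomorphic to O_X. Then H⁰(X, M^{⊗i}) = 0 for every i ≥ 1: the negative powers of L
have no nonzero global sections. (The published statement is for the canonical module of a minimal
surface of general type over an algebraically closed field, where the fourth and higher powers are
globally generated by a deep result quoted without proof, and non-triviality of the positive powers
comes from bigness; the published deduction of this part uses exactly the two hypotheses carried
here, on an integral proper X.) -/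
theorem result (k : Type u) [Field k]
    (X : Scheme.{u}) [X.Over (Spec (CommRingCat.of k))] [IsProper (X ↘ (Spec (CommRingCat.of k)))] [IsIntegral X]
    (L M : X.Modules) (hL : PicF.IsInvertible L) (hM : ClSub.IsInverseOf M L)
    (hsec : ∀ j : ℕ, 4 ≤ j → Nontrivial (Coh.HH X (CohB1.tensorPow L j) 0))
    (hnt : ∀ j : ℕ, 1 ≤ j → IsEmpty (CohB1.tensorPow L j ≅ Coh.structureModule X))
    (i : ℕ) (hi : 1 ≤ i) :
    Subsingleton (Coh.HH X (CohB1.tensorPow M i) 0) := by
  haveI : CompactSpace X := QuasiCompact.compactSpace_of_compactSpace (X ↘ Spec (CommRingCat.of k))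
  rw [← not_nontrivial_iff_subsingleton]
  intro hne
  have hMinv : PicF.IsInvertible M := H17.InvertibleTensor.isInvertible_of_tensor_iso M L hM.some
  obtain ⟨t, ht⟩ := H28Int.Surface.exists_section hne
  obtain ⟨s, hs⟩ := H28Int.Surface.exists_section (hsec (i * 4) (by omega))
  let A := CohB1.tensorPow L (i * 4)
  have hA : PicF.IsInvertible A := H11Ample.isInvertible_tensorPow hL _
  have hMi : PicF.IsInvertible (CohB1.tensorPow M i) := H11Ample.isInvertible_tensorPow hMinv _
  obtain ⟨φ, -⟩ := H11Ample.exists_iso_mul hMinv i 4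
  let t' : Γ(CohB1.tensorPow M (i * 4), ⊤) := φ.hom.app ⊤ (H11Ample.spow t 4)
  have hB : PicF.IsInvertible (CohB1.tensorPow M (i * 4)) := H11Ample.isInvertible_tensorPow hMinv _
  have ht' : genericPoint X ∈ H11Ample.gen (CohB1.tensorPow M (i * 4)) t' := by
    rw [H11Ample.gen_iso, H11Ample.gen_spow hMi t 4 (by omega)]
    exact H28Int.Surface.generic_mem_gen hMi ht
  obtain ⟨eML⟩ := H11Ample.exists_iso_tensorPow_tensor hMinv hL (i * 4)
  obtain ⟨eO⟩ := nonempty_pow_iso hM (i * 4)
  let ψ := eML ≪≫ eO
  let c : Γ(X, ⊤) := ψ.hom.app ⊤ (H11Ample.tm t' s)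
  have hgen : H11Ample.gen (Coh.structureModule X) c = X.basicOpen c := by
    have h1 : H11Tilde.IsGen (Coh.structureModule X) (show Γ(Coh.structureModule X, ⊤) from (1 : Γ(X, ⊤))) :=
      isGen_one_top
    refine (inf_of_le_left le_top).symm.trans (H11Ample.gen_inf_eq_basicOpen h1 c c ?_)
    rw [H10Coh.mres_self]
    exact (mul_one c).symm
  have hc : genericPoint X ∈ X.basicOpen c := by
    rw [← hgen]
    show _ ∈ H11Ample.gen (Coh.structureModule X) (ψ.hom.app ⊤ (H11Ample.tm t' s))
    rw [H11Ample.gen_iso, H11Ample.gen_tm hB hA]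
    exact ⟨ht', H28Int.Surface.generic_mem_gen hA hs⟩
  have hc0 : c ≠ 0 := fun h => by rw [h, Scheme.basicOpen_zero] at hc; exact hc
  have hu : IsUnit c := by
    letI := (isField_of_universallyClosed k (X ↘ Spec (CommRingCat.of k))).toField
    exact Ne.isUnit hc0
  have hall : H11Ample.gen A s = ⊤ := by
    refine top_le_iff.1 fun x _ => ?_
    have hx : x ∈ H11Ample.gen (Coh.structureModule X) c := by
      rw [hgen, Scheme.mem_basicOpen_top]
      exact hu.map _
    have hx' : x ∈ H11Ample.gen (Coh.structureModule X) (ψ.hom.app ⊤ (H11Ample.tm t' s)) := hx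
    rw [H11Ample.gen_iso, H11Ample.gen_tm hB hA] at hx'
    exact hx'.2
  have hsgen : H11Tilde.IsGen A s := by
    have h := (H11Ample.isGen_gen s).res hall.ge
    rw [H10Coh.mres_mres, H10Coh.mres_self] at h
    exact h
  obtain ⟨e, -⟩ := H11Ample.exists_iso_of_gen (P := A) (Q := Coh.structureModule X) (fun _ : PUnit.{1} => (⊤ : X.Opens))
    (fun x => ⟨⟨⟩, trivial⟩) (fun _ => s) (fun _ => hsgen)
    (fun _ => (show Γ(Coh.structureModule X, ⊤) from (1 : Γ(X, ⊤)))) (fun _ => isGen_one_top) fun _ _ v hv => by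
    have h1 := (hsgen.res (inf_le_right : (⊤ : X.Opens) ⊓ ⊤ ≤ ⊤)).bijective le_rfl |>.1 (a₁ := 1) (a₂ := v) (by
      beta_reduce; rw [H10Coh.mres_self, one_smul]; exact hv)
    rw [← h1, one_smul]
  exact (hnt (i * 4) (by omega)).false e

end Groth.Agent.S14064
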