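import Groth.Statements.S14065
import Groth.Agent.H29CurveDual.Canonical
import Groth.Agent.H29RR.Consts
import Groth.Agent.H11Tilde.Local

set_option autoImplicit false
universe u
open CategoryTheory CategoryTheory.Limits AlgebraicGeometry TopologicalSpace
open Curves

namespace Groth.Agent.S14065

/-- Let k be an algebraically closed field and C a smooth projective connected curve over k — an
integral scheme, proper and smooth over k, of dimension 1 — of genus g = dim_k H¹(C, O_C) with g ≥
2, and let T be the tangent module of C, a tensor inverse of the module of differentials Ω_{C/k}.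
Then dim_k H¹(C, T) = 3g − 3. (The published proof makes this computation, together with the
vanishing of H⁰(C, T), to find the dimension of the tangent space of the moduli stack of genus-g
curves at C; only the dimension of H¹(C, T) is stated here.) -/
theorem result (k : Type u) [Field k] [IsAlgClosed k]
    (C : Scheme.{u}) [C.Over (Spec (CommRingCat.of k))] [IsProper (C ↘ (Spec (CommRingCat.of k)))] [Smooth (C ↘ (Spec (CommRingCat.of k)))] [IsIntegral C]
    (hdim : topologicalKrullDim C = 1) (g : ℕ) (hg : Curv2.genus k C = g) (h2 : 2 ≤ g)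
    (T : C.Modules) (hT : ClSub.IsInverseOf T (Omega.sheaf (C ↘ (Spec (CommRingCat.of k))))) :
    Module.finrank k (Coh.HH C T 1) = 3 * g - 3 := by
  haveI := H29RR.isNoetherian_of_proper (k := k) (X := C)
  have hΩ := H29CurveDual.isInvertible_omega_curve (k := k) hdim
  obtain ⟨eT⟩ := hT
  have hTi : PicF.IsInvertible T := by
    obtain ⟨N, hN, ⟨e⟩⟩ := H29RR.exists_inverse_comm hΩ
    let i : N ≅ T := (H10Coh.Tw.leftUnitIso N).symm ≪≫ PicGrp.tensorModIso eT.symm (Iso.refl N) ≪≫
      H10Coh.Tw.assoc T _ N ≪≫ PicGrp.tensorModIso (Iso.refl T) e ≪≫ H10Coh.Tw.rightUnitIso T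
    exact H11Tilde.isInvertible_of_iso i hN
  have h0O := H29RR.finrank_h0_structure k C
  have hdΩ := H29CurveDual.deg_omega_of_h0 (k := k) hdim h0O
  have hdT := H29RR.deg_tensor (k := k) hdim.le hTi hΩ
  rw [H29RR.deg_congr (k := k) eT, H29RR.deg_structureModule, hdΩ, hg] at hdT
  have h0 : Subsingleton (Coh.HH C T 0) := by
    rcases subsingleton_or_nontrivial (Coh.HH C T 0) with h | h
    · exact h
    · have := (H29RR.bounds_of_section (k := k) hdim.le hTi h).1
      omega
  have hrr := H29RR.riemann_roch (k := k) hdim.le T
  rw [h0O, Module.finrank_zero_of_subsingleton (R := k) (M := Coh.HH C T 0), hg] at hrr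
  omega

end Groth.Agent.S14065
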