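import Groth.Statements.S14066
import Groth.Agent.H06Lin.Embed
import Groth.Agent.H11Sym.BundleCoprod

set_option autoImplicit false
universe u
open CategoryTheory CategoryTheory.Limits AlgebraicGeometry TopologicalSpace
open Variety

namespace Groth.Agent.S14066

/-- Let k be a field, and let X₁ and X₂ be k-schemes with closed immersions i₁ : X₁ → P^n_k and i₂ : X₂
→ P^m_k over k. Then there is a closed immersion of the disjoint union X₁ ⨿ X₂ into P^{n+m+1}_k over
k, that is, compatible with the structure morphism of the coproduct induced by those of X₁ and X₂.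
(Stated as the step of the published proof showing that a disjoint union of two projective k-schemes
is projective.) -/
theorem result (k : Type u) [Field k] (n m : ℕ)
    (X₁ X₂ : Scheme.{u}) [X₁.Over (Spec (CommRingCat.of k))] [X₂.Over (Spec (CommRingCat.of k))]
    (i₁ : X₁ ⟶ CohB1.ProjSpace n k) [IsClosedImmersion i₁] (h₁ : i₁ ≫ CohB1.ProjSpace.toSpec n k = X₁ ↘ (Spec (CommRingCat.of k)))
    (i₂ : X₂ ⟶ CohB1.ProjSpace m k) [IsClosedImmersion i₂] (h₂ : i₂ ≫ CohB1.ProjSpace.toSpec m k = X₂ ↘ (Spec (CommRingCat.of k))) :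
    ∃ j : X₁ ⨿ X₂ ⟶ CohB1.ProjSpace (n + m + 1) k, IsClosedImmersion j ∧
      j ≫ CohB1.ProjSpace.toSpec (n + m + 1) k = coprod.desc (X₁ ↘ (Spec (CommRingCat.of k))) (X₂ ↘ (Spec (CommRingCat.of k))) := by
  let e₁ : Fin (n + 1) → Fin (n + m + 1 + 1) := fun i => ⟨i.1, by omega⟩
  let e₂ : Fin (m + 1) → Fin (n + m + 1 + 1) := fun i => ⟨n + 1 + i.1, by omega⟩
  obtain ⟨L₁, hL₁, hs₁, hn₁, -⟩ := Groth.Agent.H06Lin.exists_linear k e₁
    (fun a b h => Fin.ext (by simpa [e₁, Fin.ext_iff] using h))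
  obtain ⟨L₂, hL₂, hs₂, -, hy₂⟩ := Groth.Agent.H06Lin.exists_linear k e₂
    (fun a b h => Fin.ext (by simpa [e₂, Fin.ext_iff] using h))
  haveI := hL₁
  haveI := hL₂
  refine ⟨coprod.desc (i₁ ≫ L₁) (i₂ ≫ L₂),
    Groth.Agent.H11Sym.BundleCoprod.isClosedImmersion_desc _ _ fun a b hab => ?_, ?_⟩
  · obtain ⟨i, hi⟩ := hy₂ (i₂ b)
    refine hn₁ (e₂ i) ?_ (i₁ a) ?_
    · rintro ⟨j, hj⟩
      have h := congrArg Fin.val hj
      simp only [e₁, e₂] at h
      have := j.isLt
      omega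
    · rw [← Scheme.Hom.comp_apply] at hi ⊢
      rw [hab]
      exact hi
  · apply coprod.hom_ext
    · rw [coprod.inl_desc_assoc, coprod.inl_desc, Category.assoc, hs₁, h₁]
    · rw [coprod.inr_desc_assoc, coprod.inr_desc, Category.assoc, hs₂, h₂]

end Groth.Agent.S14066
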