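import Groth.Statements.S14067
import Groth.Agent.H14EtSub.Dense

set_option autoImplicit false
universe u
open CategoryTheory AlgebraicGeometry
open FamCyc

namespace Groth.Agent.S14067

/-- Let p : X ⟶ S be a smooth morphism of schemes. The family of all immersions j : Z ⟶ X such that Z is
étale over S is schematically dominant: if t is a section of the structure sheaf of X over an open V
whose pullback along every such j is zero, then t = 0. -/
theorem result {X S : Scheme.{u}} (p : X ⟶ S) [Smooth p]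
    (V : X.Opens) (t : Γ(X, V))
    (h : ∀ (Z : Scheme.{u}) (j : Z ⟶ X), IsImmersion j → Etale (j ≫ p) → j.app V t = 0) : t = 0 := by
  refine TopCat.Presheaf.section_ext X.sheaf V t 0 fun x hx ↦ ?_
  rw [map_zero]
  obtain ⟨W, hW, hxW, -⟩ := exists_isAffineOpen_mem_and_subset (X := S) (x := p x) (U := ⊤) trivial
  obtain ⟨U, hU, hxU, hUle⟩ :=
    exists_isAffineOpen_mem_and_subset (X := X) (x := x) (U := V ⊓ p ⁻¹ᵁ W) ⟨hx, hxW⟩
  have hUV : U ≤ V := fun y hy ↦ (hUle hy).1
  have hUW : U ≤ p ⁻¹ᵁ W := fun y hy ↦ (hUle hy).2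
  suffices h0 : X.presheaf.map (homOfLE hUV).op t = 0 by
    exact (TopCat.Presheaf.germ_res_apply X.presheaf (homOfLE hUV) x hxU t).symm.trans
      ((congrArg _ h0).trans (map_zero _))
  have := p.smooth_appLE hW hU hUW
  algebraize [(p.appLE W U hUW).hom]
  refine H14EtSub.eq_zero_of_forall_test (A := Γ(S, W)) (B := Γ(X, U)) _ fun C _ _ φ hφ ↦ ?_
  haveI := hφ.etale
  haveI := hφ.immersion
  let j : Spec (CommRingCat.of C) ⟶ X := Spec.map (CommRingCat.ofHom φ.toRingHom) ≫ hU.fromSpec
  haveI : IsImmersion j := inferInstance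
  have hjp : j ≫ p = Spec.map (CommRingCat.ofHom (algebraMap Γ(S, W) C)) ≫ hW.fromSpec := by
    have e : CommRingCat.ofHom (algebraMap Γ(S, W) C) =
        p.appLE W U hUW ≫ CommRingCat.ofHom φ.toRingHom := by
      ext a
      exact (φ.commutes a).symm
    rw [e, Spec.map_comp, Category.assoc, Category.assoc,
      IsAffineOpen.SpecMap_appLE_fromSpec p hW hU hUW]
  haveI : Etale (j ≫ p) := by
    rw [hjp]
    haveI : Etale (Spec.map (CommRingCat.ofHom (algebraMap Γ(S, W) C))) :=
      HasRingHomProperty.Spec_iff.mpr (RingHom.etale_algebraMap.mpr inferInstance)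
    infer_instance
  have h1 := h (Spec (CommRingCat.of C)) j inferInstance inferInstance
  have hle : (⊤ : (Spec (CommRingCat.of C)).Opens) ≤ j ⁻¹ᵁ U := fun z _ ↦
    hU.range_fromSpec.le ⟨Spec.map (CommRingCat.ofHom φ.toRingHom) z, rfl⟩
  have h2 : j.appLE U ⊤ hle (X.presheaf.map (homOfLE hUV).op t) = 0 := by
    rw [← CommRingCat.comp_apply, Scheme.Hom.map_appLE, Scheme.Hom.appLE, CommRingCat.comp_apply, h1,
      map_zero]
  have h3 : (j.appLE U ⊤ hle) ≫ (Scheme.ΓSpecIso (CommRingCat.of C)).hom =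
      CommRingCat.ofHom φ.toRingHom := by
    simp only [j, Scheme.Hom.comp_appLE, IsAffineOpen.fromSpec_app_self, Category.assoc]
    simp [Scheme.Hom.appLE, ← Scheme.ΓSpecIso_inv_naturality_assoc, Scheme.ΓSpecIso_naturality]
    rw [← Functor.map_comp_assoc, ← op_comp]
    erw [Subsingleton.elim (homOfLE hle ≫ _) (𝟙 _)]
    simp
  show (CommRingCat.ofHom φ.toRingHom) _ = 0
  rw [← h3, CommRingCat.comp_apply, h2, map_zero]

end Groth.Agent.S14067
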