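import Groth.Statements.S14068
import Groth.Agent.H14EtSub.FlatDense

set_option autoImplicit false
universe u
open CategoryTheory AlgebraicGeometry
open FamCyc

namespace Groth.Agent.S14068

open scoped TensorProduct

/-- Let g : S' ⟶ S be a smooth morphism and q : B' ⟶ S' a flat morphism locally of finite presentation.
Then the family of base changes Z ×_{S'} B' ⟶ B' of all immersions j : Z ⟶ S' with Z étale over S is
schematically dominant: a section of the structure sheaf of B' over an open V whose pullback along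
every member of the family is zero is itself zero. -/
theorem result {S S' B' : Scheme.{u}} (g : S' ⟶ S) [Smooth g]
    (q : B' ⟶ S') [Flat q] [LocallyOfFinitePresentation q] (V : B'.Opens) (t : Γ(B', V))
    (h : ∀ (Z : Scheme.{u}) (j : Z ⟶ S'), IsImmersion j → Etale (j ≫ g) →
      (Limits.pullback.snd j q).app V t = 0) : t = 0 := by
  refine TopCat.Presheaf.section_ext B'.sheaf V t 0 fun x hx ↦ ?_
  rw [map_zero]
  obtain ⟨W, hW, hxW, -⟩ := exists_isAffineOpen_mem_and_subset (X := S) (x := g (q x)) (U := ⊤) trivial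
  obtain ⟨U, hU, hxU, hUW⟩ :=
    exists_isAffineOpen_mem_and_subset (X := S') (x := q x) (U := g ⁻¹ᵁ W) hxW
  obtain ⟨U', hU', hxU', hle'⟩ :=
    exists_isAffineOpen_mem_and_subset (X := B') (x := x) (U := V ⊓ q ⁻¹ᵁ U) ⟨hx, hxU⟩
  have hUV : U' ≤ V := fun y hy ↦ (hle' hy).1
  have hUU : U' ≤ q ⁻¹ᵁ U := fun y hy ↦ (hle' hy).2
  suffices h0 : B'.presheaf.map (homOfLE hUV).op t = 0 by
    exact (TopCat.Presheaf.germ_res_apply B'.presheaf (homOfLE hUV) x hxU' t).symm.trans
      ((congrArg _ h0).trans (map_zero _))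
  have := g.smooth_appLE hW hU hUW
  algebraize [(g.appLE W U hUW).hom]
  have hfl : (q.appLE U U' hUU).hom.Flat := HasRingHomProperty.appLE (P := @Flat) q ‹_› ⟨U, hU⟩ ⟨U', hU'⟩ hUU
  have hfp : (q.appLE U U' hUU).hom.FinitePresentation :=
    HasRingHomProperty.appLE (P := @LocallyOfFinitePresentation) q ‹_› ⟨U, hU⟩ ⟨U', hU'⟩ hUU
  algebraize [(q.appLE U U' hUU).hom]
  refine H14EtSub.eq_zero_of_forall_test_flat (A := Γ(S, W)) (B := Γ(S', U)) (D := Γ(B', U')) _
    fun C _ _ φ hφ ↦ ?_
  haveI := hφ.etale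
  haveI := hφ.immersion
  let : Algebra Γ(S', U) C := φ.toRingHom.toAlgebra
  show (1 : C) ⊗ₜ[Γ(S', U)] B'.presheaf.map (homOfLE hUV).op t = 0
  let j : Spec (CommRingCat.of C) ⟶ S' := Spec.map (CommRingCat.ofHom φ.toRingHom) ≫ hU.fromSpec
  haveI : IsImmersion j := inferInstance
  have hjg : j ≫ g = Spec.map (CommRingCat.ofHom (algebraMap Γ(S, W) C)) ≫ hW.fromSpec := by
    have e : CommRingCat.ofHom (algebraMap Γ(S, W) C) =
        g.appLE W U hUW ≫ CommRingCat.ofHom φ.toRingHom := by
      ext a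
      exact (φ.commutes a).symm
    rw [e, Spec.map_comp, Category.assoc, Category.assoc,
      IsAffineOpen.SpecMap_appLE_fromSpec g hW hU hUW]
  haveI : Etale (j ≫ g) := by
    rw [hjg]
    haveI : Etale (Spec.map (CommRingCat.ofHom (algebraMap Γ(S, W) C))) :=
      HasRingHomProperty.Spec_iff.mpr (RingHom.etale_algebraMap.mpr inferInstance)
    infer_instance
  let inR : Γ(B', U') ⟶ CommRingCat.of (C ⊗[Γ(S', U)] Γ(B', U')) :=
    CommRingCat.ofHom (Algebra.TensorProduct.includeRight (R := Γ(S', U)) (A := C)).toRingHom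
  let inL : CommRingCat.of C ⟶ CommRingCat.of (C ⊗[Γ(S', U)] Γ(B', U')) :=
    CommRingCat.ofHom Algebra.TensorProduct.includeLeftRingHom
  let k : Spec (CommRingCat.of (C ⊗[Γ(S', U)] Γ(B', U'))) ⟶ B' := Spec.map inR ≫ hU'.fromSpec
  have hw : Spec.map inL ≫ j = k ≫ q := by
    have e : CommRingCat.ofHom φ.toRingHom ≫ inL = q.appLE U U' hUU ≫ inR := by
      ext b
      exact ((Algebra.TensorProduct.includeRight (R := Γ(S', U)) (A := C) (B := Γ(B', U'))).commutes b).symm
    simp only [j, k, Category.assoc]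
    rw [← IsAffineOpen.SpecMap_appLE_fromSpec q hU hU' hUU, ← Spec.map_comp_assoc,
      ← Spec.map_comp_assoc, e]
  let l := Limits.pullback.lift (Spec.map inL) k hw
  have h1 : k.app V t = 0 := by
    have hl : l ≫ Limits.pullback.snd j q = k := Limits.pullback.lift_snd _ _ _
    have h0 := h _ j inferInstance inferInstance
    have hl0 : (l ≫ Limits.pullback.snd j q).app V t = 0 := by
      rw [Scheme.Hom.comp_app]
      show (l.app _).hom ((Limits.pullback.snd j q).app V t) = 0
      rw [h0]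
      exact map_zero _
    rw [Scheme.Hom.congr_app hl.symm V]
    show ((Spec _).presheaf.map _).hom ((l ≫ Limits.pullback.snd j q).app V t) = 0
    rw [hl0]
    exact map_zero _
  have hle : (⊤ : (Spec (CommRingCat.of (C ⊗[Γ(S', U)] Γ(B', U')))).Opens) ≤ k ⁻¹ᵁ U' := fun z _ ↦
    hU'.range_fromSpec.le ⟨Spec.map inR z, rfl⟩
  have h2 : k.appLE U' ⊤ hle (B'.presheaf.map (homOfLE hUV).op t) = 0 := by
    rw [← CommRingCat.comp_apply, Scheme.Hom.map_appLE, Scheme.Hom.appLE, CommRingCat.comp_apply, h1,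
      map_zero]
  have h3 : (k.appLE U' ⊤ hle) ≫ (Scheme.ΓSpecIso _).hom = inR := by
    simp only [k, Scheme.Hom.comp_appLE, IsAffineOpen.fromSpec_app_self, Category.assoc]
    simp [Scheme.Hom.appLE, ← Scheme.ΓSpecIso_inv_naturality_assoc]
    rw [← Functor.map_comp_assoc, ← op_comp]
    erw [Subsingleton.elim (homOfLE hle ≫ _) (𝟙 _)]
    simp
  show inR _ = 0
  rw [← h3, CommRingCat.comp_apply, h2, map_zero]

end Groth.Agent.S14068
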