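import Groth.Statements.S2043
import Groth.Agent.H1CAlg.EtaleNbhd
import Mathlib.RingTheory.Smooth.Basic
import Mathlib.RingTheory.FiniteStability

set_option autoImplicit false
universe u
open CAlg

namespace Groth.Agent.S2043

open scoped TensorProduct

/-- Let `I ⊆ A` be an ideal, `B` a smooth `A`-algebra and `B → A/I` an `A`-algebra map. Then there is an
étale `A`-algebra `A'` with `A/I → A'/IA'` bijective and an `A`-algebra map `B → A'` lifting the
given map. -/
theorem result {A B : Type u} [CommRing A] [CommRing B] [Algebra A B]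
    [Algebra.Smooth A B] (I : Ideal A) (σ : B →ₐ[A] A ⧸ I) :
    ∃ (A' : Type u) (_ : CommRing A') (_ : Algebra A A'), Algebra.Etale A A' ∧
      Function.Bijective (algebraMap (A ⧸ I) (A' ⧸ I.map (algebraMap A A'))) ∧
      ∃ τ : B →ₐ[A] A', ∀ b : B,
        Ideal.Quotient.mk (I.map (algebraMap A A')) (τ b) =
          algebraMap (A ⧸ I) (A' ⧸ I.map (algebraMap A A')) (σ b) := by
  open Groth.Agent.H9Hens in
  obtain ⟨H, _, _, π, hH, -⟩ := exists_isPairHenselization A I
  open Groth.Agent.H9Hens in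
  haveI := hH.henselianRing
  have hπs : Function.Surjective π := fun x => by
    obtain ⟨a, rfl⟩ := Ideal.Quotient.mk_surjective x
    exact ⟨algebraMap A H a, π.commutes a⟩
  let e : (H ⧸ RingHom.ker π) ≃ₐ[A] A ⧸ I := Ideal.quotientKerAlgEquivOfSurjective hπs
  let σH : H ⊗[A] B →ₐ[H] H ⧸ RingHom.ker π :=
    Algebra.TensorProduct.lift (Algebra.ofId H (H ⧸ RingHom.ker π)) (e.symm.toAlgHom.comp σ) (fun _ _ => Commute.all _ _)
  obtain ⟨τH, hτH⟩ := Groth.Agent.H9Hens.exists_algHom_lift_smooth (I := RingHom.ker π) σH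
  let χ : B →ₐ[A] H := (τH.restrictScalars A).comp Algebra.TensorProduct.includeRight
  have hχ : ∀ b, π (χ b) = σ b := fun b => by
    have h := AlgHom.congr_fun hτH ((1 : H) ⊗ₜ[A] b)
    simp only [AlgHom.comp_apply, Ideal.Quotient.mkₐ_eq_mk, σH, Algebra.TensorProduct.lift_tmul, map_one, one_mul] at h
    have h' := congrArg e h
    rw [show e (e.symm.toAlgHom (σ b)) = σ b from e.apply_symm_apply _] at h'
    exact h'
  obtain ⟨T, _, _, hT, φ, τ, hb, hτ⟩ := Groth.Agent.H1CAlg.Nbhd.descend hH B χ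
  refine ⟨T, inferInstance, inferInstance, hT, Groth.Agent.H1CAlg.Nbhd.bijective_algebraMap T hb, τ, fun b => ?_⟩
  rw [Groth.Agent.H1CAlg.Nbhd.algebraMap_quotient_eq, Groth.Agent.H9Hens.mk_eq_quotientMap_section hb.2 (π.comp φ)]
  congr 1
  rw [AlgHom.comp_apply, show φ (τ b) = χ b from AlgHom.congr_fun hτ b, hχ]

end Groth.Agent.S2043
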