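import Groth.Statements.S14069
import Groth.Agent.S2043

set_option autoImplicit false
universe u
open CategoryTheory AlgebraicGeometry
open FamCyc

namespace Groth.Agent.S14069

open TensorProduct in
/-- A point with values in the quotient by an ideal of a smooth algebra over a subring lifts to an etale
neighbourhood of the quotient. -/
theorem exists_lift_of_surjective {R A B A₀ : CommRingCat.{u}} (α : R ⟶ A) (β : R ⟶ B) (hβ : β.hom.Smooth)
    (φ : A ⟶ A₀) (hφ : Function.Surjective φ.hom) (g₀ : B ⟶ A₀) (h : α ≫ φ = β ≫ g₀) :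
    ∃ (A' : CommRingCat.{u}) (η : A ⟶ A') (τ : B ⟶ A') (π : A' ⟶ A₀), η.hom.Etale ∧
      β ≫ τ = α ≫ η ∧ τ ≫ π = g₀ ∧ IsPushout φ η (𝟙 A₀) π := by
  algebraize [α.hom, β.hom]
  haveI : Algebra.Smooth (R : Type u) B := hβ
  let I : Ideal A := RingHom.ker φ.hom
  let q : A ⧸ I ≃+* A₀ := RingHom.quotientKerEquivOfSurjective hφ
  have hq : ∀ a, q (Ideal.Quotient.mk I a) = φ.hom a := fun a => rfl
  let gB : B →ₐ[R] A ⧸ I :=
    { q.symm.toRingHom.comp g₀.hom with
      commutes' := fun r => by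
        change q.symm (g₀.hom (β.hom r)) = _
        rw [show g₀.hom (β.hom r) = φ.hom (α.hom r) from (congr($(h).hom r)).symm, ← hq,
          q.symm_apply_apply]
        rfl }
  obtain ⟨A', _, _, hA', hb, τ, hτ⟩ := Groth.Agent.S2043.result I
    (Algebra.TensorProduct.lift (Algebra.ofId A (A ⧸ I)) gB (fun _ _ => Commute.all _ _))
  let J : Ideal A' := I.map (algebraMap A A')
  let b : A ⧸ I ≃+* A' ⧸ J := RingEquiv.ofBijective _ hb
  let π : A' →+* A₀ := (q.toRingHom.comp b.symm.toRingHom).comp (Ideal.Quotient.mk J)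
  have hbmk : ∀ a, b (Ideal.Quotient.mk I a) = Ideal.Quotient.mk J (algebraMap A A' a) := fun a => rfl
  have hπ : ∀ a, π (algebraMap A A' a) = φ.hom a := fun a => by
    change q (b.symm (Ideal.Quotient.mk J (algebraMap A A' a))) = _
    rw [← hbmk, b.symm_apply_apply, hq]
  refine ⟨.of A', CommRingCat.ofHom (algebraMap A A'),
    CommRingCat.ofHom (τ.toRingHom.comp Algebra.TensorProduct.includeRight.toRingHom),
    CommRingCat.ofHom π, RingHom.etale_algebraMap.mpr hA', ?_, ?_, ?_⟩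
  · ext r
    change τ (1 ⊗ₜ[(R : Type u)] algebraMap R B r) = algebraMap A A' (algebraMap R A r)
    rw [← τ.commutes (algebraMap R A r), Algebra.TensorProduct.algebraMap_apply,
      show ((algebraMap A A) (algebraMap R A r)) = algebraMap R A r from rfl,
      Algebra.TensorProduct.tmul_one_eq_one_tmul]
  · ext x
    change q (b.symm (Ideal.Quotient.mk J (τ (1 ⊗ₜ[(R : Type u)] x)))) = g₀.hom x
    rw [hτ]
    have hb' : ∀ z, q (b.symm ((algebraMap (A ⧸ I) (A' ⧸ J)) z)) = q z := fun z =>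
      congrArg q (b.symm_apply_apply z)
    refine (hb' _).trans ?_
    rw [Algebra.TensorProduct.lift_tmul, map_one, one_mul]
    exact q.apply_symm_apply _
  · refine IsPushout.of_isColimit (c := Limits.PushoutCocone.mk (𝟙 A₀) (CommRingCat.ofHom π)
      (by ext a; exact (hπ a).symm)) (Limits.PushoutCocone.IsColimit.mk _ (fun s => s.inl)
        (fun s => Category.id_comp _) (fun s => ?_) (fun s m h1 _ => by simpa using h1))
    ext x
    obtain ⟨a, ha⟩ := Ideal.Quotient.mk_surjective (b.symm (Ideal.Quotient.mk J x))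
    have hxJ : x - algebraMap A A' a ∈ J := by
      rw [← Ideal.Quotient.eq_zero_iff_mem, map_sub, ← hbmk, ha, b.apply_symm_apply, sub_self]
    have hJ : J ≤ RingHom.ker s.inr.hom := by
      refine Ideal.map_le_iff_le_comap.2 fun y hy => ?_
      rw [Ideal.mem_comap, RingHom.mem_ker]
      change (CommRingCat.ofHom (algebraMap A A') ≫ s.inr).hom y = 0
      rw [← s.condition]
      change s.inl.hom (φ.hom y) = 0
      rw [RingHom.mem_ker.1 hy, map_zero]
    have h0 := RingHom.mem_ker.1 (hJ hxJ)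
    rw [map_sub, sub_eq_zero] at h0
    rw [h0]
    change s.inl.hom (q (b.symm (Ideal.Quotient.mk J x))) = _
    rw [← ha, hq]
    exact congr($(s.condition).hom a)

/-- Let i : S₀ ⟶ S be a closed immersion, p : X ⟶ S a scheme over S, q : Y ⟶ S a smooth morphism, X₀ = X
×_S S₀, x₀ a point of X₀ and f₀ : X₀ ⟶ Y a morphism over S. Then there are a scheme U, an étale
morphism e : U ⟶ X whose base change U ×_X X₀ ⟶ X₀ is an open immersion whose image contains x₀, and
a morphism f : U ⟶ Y over S whose restriction to U ×_X X₀ equals the restriction of f₀. -/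
theorem result {S S₀ X Y : Scheme.{u}} (i : S₀ ⟶ S) [IsClosedImmersion i]
    (p : X ⟶ S) (q : Y ⟶ S) [Smooth q] (f₀ : Limits.pullback p i ⟶ Y)
    (hf₀ : f₀ ≫ q = Limits.pullback.fst p i ≫ p) (x₀ : ↥(Limits.pullback p i)) :
    ∃ (U : Scheme.{u}) (e : U ⟶ X) (f : U ⟶ Y), Etale e ∧ f ≫ q = e ≫ p ∧
      IsOpenImmersion (Limits.pullback.snd e (Limits.pullback.fst p i)) ∧
      x₀ ∈ Set.range (Limits.pullback.snd e (Limits.pullback.fst p i)).base ∧
      Limits.pullback.snd e (Limits.pullback.fst p i) ≫ f₀ =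
        Limits.pullback.fst e (Limits.pullback.fst p i) ≫ f := by
  let fs := Limits.pullback.fst p i
  set x : X := fs.base x₀ with hx
  obtain ⟨W, hW, hxW, -⟩ := TopologicalSpace.Opens.isBasis_iff_nbhd.mp S.isBasis_affineOpens
    (TopologicalSpace.Opens.mem_top (p.base x))
  have hy : q.base (f₀.base x₀) = p.base x := congr($(hf₀).base x₀)
  obtain ⟨W', hW', hyW', hW'le⟩ := TopologicalSpace.Opens.isBasis_iff_nbhd.mp Y.isBasis_affineOpens
    (show f₀.base x₀ ∈ q ⁻¹ᵁ W by change q.base (f₀.base x₀) ∈ W; rwa [hy])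
  obtain ⟨O, hO, hOeq⟩ := fs.isClosedEmbedding.isInducing.isOpen_iff.mp (f₀ ⁻¹ᵁ W').isOpen
  have hxO : x ∈ O := by
    have : x₀ ∈ fs.base ⁻¹' O := by rw [hOeq]; exact hyW'
    exact this
  obtain ⟨V, hV, hxV, hVle⟩ := TopologicalSpace.Opens.isBasis_iff_nbhd.mp X.isBasis_affineOpens
    (show x ∈ (⟨O, hO⟩ : X.Opens) ⊓ p ⁻¹ᵁ W from ⟨hxO, hxW⟩)
  have hV₀ : IsAffineOpen (fs ⁻¹ᵁ V) := hV.preimage fs
  have hle₀ : fs ⁻¹ᵁ V ≤ f₀ ⁻¹ᵁ W' := fun z hz => by
    have : z ∈ fs.base ⁻¹' O := (hVle hz).1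
    rwa [hOeq] at this
  have hleV : V ≤ p ⁻¹ᵁ W := fun z hz => (hVle hz).2
  have hle₁ : fs ⁻¹ᵁ V ≤ (fs ≫ p) ⁻¹ᵁ W := fun z hz => hleV hz
  have hcomm : p.appLE W V hleV ≫ fs.app V =
      q.appLE W W' hW'le ≫ f₀.appLE W' (fs ⁻¹ᵁ V) hle₀ := by
    rw [Scheme.Hom.app_eq_appLE, Scheme.Hom.appLE_comp_appLE, Scheme.Hom.appLE_comp_appLE]
    exact congrArg (fun z => z.1.appLE W (fs ⁻¹ᵁ V) z.2)
      (Subtype.ext hf₀.symm : (⟨fs ≫ p, hle₁⟩ : {m : Limits.pullback p i ⟶ S // fs ⁻¹ᵁ V ≤ m ⁻¹ᵁ W}) =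
        ⟨f₀ ≫ q, (hle₀.trans (f₀.preimage_mono hW'le) :)⟩)
  obtain ⟨A', η, τ, π, hη, h₁, h₂, hpo⟩ := exists_lift_of_surjective (p.appLE W V hleV)
    (q.appLE W W' hW'le) (HasRingHomProperty.appLE @Smooth q ‹_› ⟨W, hW⟩ ⟨W', hW'⟩ hW'le)
    (fs.app V) (fs.app_surjective V hV) (f₀.appLE W' (fs ⁻¹ᵁ V) hle₀) hcomm
  have : Etale (Spec.map η) := (HasRingHomProperty.Spec_iff (P := @Etale)).2 hη
  let e : Spec A' ⟶ X := Spec.map η ≫ hV.fromSpec
  have h2 : IsPullback (Spec.map (fs.app V)) hV₀.fromSpec hV.fromSpec fs :=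
    IsOpenImmersion.isPullback _ _ _ _
      ((IsAffineOpen.SpecMap_appLE_fromSpec fs hV hV₀ le_rfl).symm.trans
        congr(Spec.map $((Scheme.Hom.app_eq_appLE fs).symm) ≫ hV.fromSpec))
      (by rw [hV.opensRange_fromSpec, hV₀.opensRange_fromSpec])
  have h3 : IsPullback (Spec.map π) hV₀.fromSpec e fs := by
    have := (isPullback_SpecMap_of_isPushout _ _ _ _ hpo).flip.paste_vert h2
    simpa [e] using this
  have hsnd : h3.isoPullback.inv ≫ hV₀.fromSpec = Limits.pullback.snd e fs :=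
    h3.isoPullback_inv_snd
  refine ⟨Spec A', e, Spec.map τ ≫ hW'.fromSpec, inferInstance, ?_, ?_, ?_, ?_⟩
  · rw [Category.assoc, ← IsAffineOpen.SpecMap_appLE_fromSpec q hW hW' hW'le, ← Spec.map_comp_assoc,
      h₁, Spec.map_comp_assoc, IsAffineOpen.SpecMap_appLE_fromSpec p hW hV hleV]
    simp [e]
  · change IsOpenImmersion (Limits.pullback.snd e fs)
    rw [← hsnd]; infer_instance
  · change x₀ ∈ Set.range (Limits.pullback.snd e fs).base
    refine ⟨h3.isoPullback.hom.base (hV₀.primeIdealOf ⟨x₀, hxV⟩), ?_⟩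
    rw [← Scheme.Hom.comp_apply, h3.isoPullback_hom_snd]
    exact hV₀.fromSpec_primeIdealOf _
  · change Limits.pullback.snd e fs ≫ f₀ = Limits.pullback.fst e fs ≫ _
    rw [← cancel_epi h3.isoPullback.hom, h3.isoPullback_hom_snd_assoc, h3.isoPullback_hom_fst_assoc,
      ← Spec.map_comp_assoc, h₂, IsAffineOpen.SpecMap_appLE_fromSpec f₀ hW' hV₀ hle₀]

end Groth.Agent.S14069
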