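-- statement FlatMor.GrothFrozen.S1407 (Groth/Statements/S1407.lean; the theorem FlatMor.cohenMacaulay_iff_of_fppf_baseChange);
import Groth.Statements.S1407
import Groth.Agent.H7Flat.CMFieldExt
import Groth.Agent.H8Props.FibreCriterion
import Groth.Agent.H7Flat.FlatAtDescent
import Groth.Agent.H06EGA9.StructureStalk
import Groth.Agent.S1405

set_option autoImplicit false
universe u
open FlatMor

namespace Groth.Agent.S1407
set_option backward.isDefEq.respectTransparency false

open AlgebraicGeometry CategoryTheory Limits in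
/-- Let Y' → Y be flat, locally of finite presentation and surjective and f' the base change of f : X →
Y. Then f has locally Noetherian fibres and is Cohen–Macaulay at every point if and only if the same
holds for f'. -/
theorem result {X Y X' Y' : Scheme.{u}} (f : X ⟶ Y) (f' : X' ⟶ Y') (g' : X' ⟶ X) (g : Y' ⟶ Y) [Flat g] [LocallyOfFinitePresentation g] [Surjective g]
    (hc : IsPullback g' f' f g) :
    ((∀ y : Y, IsLocallyNoetherian (f.fiber y)) ∧ ∀ x : X, MoreMor.IsCMAt f x) ↔
      (∀ y' : Y', IsLocallyNoetherian (f'.fiber y')) ∧ ∀ x' : X', MoreMor.IsCMAt f' x' := by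
  haveI : Surjective g' := MorphismProperty.of_isPullback hc.flip ‹Surjective g›
  constructor
  · rintro ⟨hN, hCM⟩
    exact ⟨Groth.Agent.H7Flat.CMBC.isLocallyNoetherian_fibres_baseChange hc hN,
      fun x' => ⟨Groth.Agent.H8Props.FibreCriterion.flat_stalkMap_baseChange hc x' (hCM _).1,
        (Groth.Agent.H7Flat.CMBC.fibre_cm_baseChange hc x' hN (Or.inr inferInstance)).mpr (hCM _).2⟩⟩
  · rintro ⟨hN', hCM'⟩
    have hN := (Groth.Agent.S1405.result f f' g' g hc).mpr hN'
    refine ⟨hN, fun x => ?_⟩
    obtain ⟨x', rfl⟩ := g'.surjective x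
    refine ⟨?_, (Groth.Agent.H7Flat.CMBC.fibre_cm_baseChange hc x' hN (Or.inr inferInstance)).mp (hCM' x').2⟩
    rw [← Groth.Agent.H06EGA9.isFlatOverAt_structureModule_iff]
    refine Groth.Agent.H7Flat.isFlatOverAt_of_isPullback_flatAt f g hc _ x' (Flat.stalkMap g _) ?_
    rw [Groth.Agent.H06EGA9.isFlatOverAt_pullback_structure_iff]
    exact (hCM' x').1

end Groth.Agent.S1407
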