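import Groth.Statements.S14074
import Groth.Agent.H16Derived.TorTest.SmoothAmp

set_option autoImplicit false
open CategoryTheory AlgebraicGeometry
universe u
attribute [local instance] HasDerivedCategory.standard
open FamCyc

namespace Groth.Agent.S14074

/-- Let h : B ⟶ S be a smooth morphism, φ : X ⟶ B a morphism locally of finite type and F a
quasi-coherent O_X-module of pointwise finite tor dimension over S, i.e. at every point x of X the
stalk F_x is, over the local ring of S below x, isomorphic in the derived category to a bounded
complex of flat modules. Then F has finite tor dimension over B pointwise in the same sense. -/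
theorem result {X B S : Scheme.{u}} (h : B ⟶ S) [Smooth h]
    (φ : X ⟶ B) [LocallyOfFiniteType φ] (F : X.Modules) (hF : Coh.IsQCoh F)
    (hS : ∀ x : X, ∃ a b : ℤ,
      DerSch.HasTorAmplitudeAt (φ ≫ h) a b ((HomologicalComplex.single X.Modules (ComplexShape.up ℤ) 0).obj F) x) :
    ∀ x : X, ∃ a b : ℤ,
      DerSch.HasTorAmplitudeAt φ a b ((HomologicalComplex.single X.Modules (ComplexShape.up ℤ) 0).obj F) x := by
  classical
  intro x
  obtain ⟨a, b, hab⟩ := hS x
  obtain ⟨n, V, hxV, hV⟩ := H16Derived.TorTest.exists_dim_nhd h (φ.base x)
  refine ⟨a - n, b, hV (φ.base x) hxV _ a b (H4DR.TorAmp.ta_of_iso ?_ hab)⟩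
  exact DerivedCategory.Q.mapIso (H16Derived.TorTest.stalkOverCompIso φ h x _)

end Groth.Agent.S14074
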