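import Groth.Statements.S14078
import Groth.Agent.S1353

set_option autoImplicit false
open CategoryTheory CategoryTheory.Limits AlgebraicGeometry
universe u
open FamCyc

namespace Groth.Agent.S14078

/-- Let f : X ⟶ S be a morphism of schemes locally of finite type, i : Z ⟶ X an immersion such that Z ⟶
S is locally quasi-finite, and z a point of Z. Then there are an étale morphism g : T ⟶ S and an
open subscheme U of X ×_S T such that the preimage U ×_X Z of Z in U is finite over T and contains a
point u over z whose residue field extension κ(z) → κ(u) is an isomorphism, u being moreover the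
only point of U ×_X Z in its fibre over T. (The published statement covers algebraic spaces X, with
U ⟶ X ×_S T étale in general and an open subspace when X is a scheme; this row is the scheme case.) -/
theorem result {Z X S : Scheme.{u}} (f : X ⟶ S)
    [LocallyOfFiniteType f] (i : Z ⟶ X) [IsImmersion i] [LocallyQuasiFinite (i ≫ f)] (z : Z) :
    ∃ (T : Scheme.{u}) (g : T ⟶ S) (U : (pullback f g).Opens)
      (u : ↥(pullback (U.ι ≫ pullback.fst f g) i)),
      Etale g ∧
      IsFinite (pullback.fst (U.ι ≫ pullback.fst f g) i ≫ U.ι ≫ pullback.snd f g) ∧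
      (pullback.snd (U.ι ≫ pullback.fst f g) i).base u = z ∧
      IsIso ((pullback.snd (U.ι ≫ pullback.fst f g) i).residueFieldMap u) ∧
      ∀ u' : ↥(pullback (U.ι ≫ pullback.fst f g) i),
        (pullback.fst (U.ι ≫ pullback.fst f g) i ≫ U.ι ≫ pullback.snd f g).base u' =
          (pullback.fst (U.ι ≫ pullback.fst f g) i ≫ U.ι ≫ pullback.snd f g).base u → u' = u := by
  let h : Z ⟶ S := i ≫ f
  obtain ⟨T, g, t, ht, V, v, hvV, hfin, hvt, huniq, hvz, hres⟩ :=
    S1353.result h z (h.quasiFiniteLocus_eq_top.ge (Set.mem_univ z))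
  let j : pullback h g ⟶ pullback f g :=
    pullback.map h g f g i (𝟙 T) (𝟙 S) (by simp [h]) (by simp)
  have hj1 : j ≫ pullback.fst f g = pullback.fst h g ≫ i := pullback.lift_fst _ _ _
  have hj2 : j ≫ pullback.snd f g = pullback.snd h g := (pullback.lift_snd _ _ _).trans (Category.comp_id _)
  have hjp : IsPullback j (pullback.fst h g) (pullback.fst f g) i := by
    refine IsPullback.of_right ?_ hj1 (IsPullback.of_hasPullback f g).flip
    rw [hj2]
    exact (IsPullback.of_hasPullback h g).flip
  haveI : IsImmersion j := MorphismProperty.of_isPullback (P := @IsImmersion) hjp.flip ‹IsImmersion i›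
  obtain ⟨O, hO, hOV⟩ := j.isEmbedding.isInducing.isOpen_iff.mp V.2
  let U : (pullback f g).Opens := ⟨O, hO⟩
  have hUV : j ⁻¹ᵁ U = V := TopologicalSpace.Opens.ext hOV
  have hp : IsPullback (j ∣_ U) ((j ⁻¹ᵁ U).ι ≫ pullback.fst h g) (U.ι ≫ pullback.fst f g) i :=
    (isPullback_morphismRestrict j U).paste_vert hjp
  let e := hp.isoPullback
  have he1 : e.hom ≫ pullback.fst (U.ι ≫ pullback.fst f g) i = j ∣_ U := hp.isoPullback_hom_fst
  have he2 : e.hom ≫ pullback.snd (U.ι ≫ pullback.fst f g) i = (j ⁻¹ᵁ U).ι ≫ pullback.fst h g :=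
    hp.isoPullback_hom_snd
  have hvU : v ∈ j ⁻¹ᵁ U := hUV.ge hvV
  let w : (j ⁻¹ᵁ U).toScheme := ⟨v, hvU⟩
  have hmor : e.hom ≫ pullback.fst (U.ι ≫ pullback.fst f g) i ≫ U.ι ≫ pullback.snd f g =
      (j ⁻¹ᵁ U).ι ≫ pullback.snd h g := by
    rw [reassoc_of% he1, morphismRestrict_ι_assoc, hj2]
  refine ⟨T, g, U, e.hom w, ht.etale, ?_, ?_, ?_, ?_⟩
  · rw [← MorphismProperty.cancel_left_of_respectsIso @IsFinite e.hom, hmor, hUV]
    exact hfin
  · rw [← Scheme.Hom.comp_apply, he2]
    exact hvz
  · have hbij : IsIso ((pullback.fst h g).residueFieldMap ((j ⁻¹ᵁ U).ι w)) :=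
      (ConcreteCategory.isIso_iff_bijective _).mpr hres
    have key : IsIso ((e.hom ≫ pullback.snd (U.ι ≫ pullback.fst f g) i).residueFieldMap w) := by
      rw [he2, Scheme.residueFieldMap_comp]
      exact @IsIso.comp_isIso _ _ _ _ _ _ _ hbij inferInstance
    rw [Scheme.residueFieldMap_comp] at key
    exact @IsIso.of_isIso_comp_right _ _ _ _ _ _ (e.hom.residueFieldMap w) inferInstance key
  · intro u' hu'
    obtain ⟨w', rfl⟩ := e.hom.homeomorph.surjective u'
    change (e.hom ≫ pullback.fst (U.ι ≫ pullback.fst f g) i ≫ U.ι ≫ pullback.snd f g).base w' =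
      (e.hom ≫ pullback.fst (U.ι ≫ pullback.fst f g) i ≫ U.ι ≫ pullback.snd f g).base w at hu'
    rw [hmor] at hu'
    have : w' = w := by
      apply (j ⁻¹ᵁ U).ι.isOpenEmbedding.injective
      exact huniq _ (hUV.le w'.2) (hu'.trans hvt)
    rw [this]
    rfl

end Groth.Agent.S14078
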