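-- statement FlatMor.GrothFrozen.S1408 (Groth/Statements/S1408.lean; the theorem FlatMor.pic_torsion_surjective_of_thickening);
import Groth.Statements.S1408
import Groth.Agent.H7Flat.PowerRoot
import Groth.Prelude.Def_Omega4

set_option autoImplicit false
universe u
open FlatMor

namespace Groth.Agent.S1408
set_option backward.isDefEq.respectTransparency false
set_option maxHeartbeats 1000000
open CategoryTheory CategoryTheory.Limits AlgebraicGeometry Opposite TopologicalSpace Groth.Agent.H11Tilde Groth.Agent.H7Flat.LineCocycle Groth.Agent.H7Flat.PowerRoot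

open AlgebraicGeometry CategoryTheory Limits in
/-- Let i : X → X' be a thickening of schemes and n a positive integer invertible in Γ(X, 𝒪_X). Then
every invertible 𝒪_X-module whose n-th tensor power is trivial is, up to isomorphism, the pullback
along i of an invertible 𝒪_{X'}-module whose n-th tensor power is trivial; that is, Pic(X')[n] →
Pic(X)[n] is surjective. (The published statement claims this map is bijective. Injectivity is false
in general: for a first order thickening with ideal sheaf I the kernel of Pic(X') → Pic(X) is H¹(X,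
I)/δ(H⁰(X, 𝒪_X^*)), which can contain n-torsion although H¹(X, I) is uniquely n-divisible — e.g. X =
(𝔸² ∖ 0) × 𝔾_m over ℚ with coordinates x, y, t, X' the first order thickening glued from U[ε] and
V[ε], U = {x ≠ 0}, V = {y ≠ 0}, along t ↦ t(1 + ε/(xy)) on the overlap, n = 2, and the invertible
𝒪_{X'}-module with transition function 1 + ε/(2xy): its square and its restriction to X are trivial
but it is not. Only surjectivity, which the published proof does establish, is stated here.) -/
theorem result {X X' : Scheme.{u}} (i : X ⟶ X') (hi : MoreMor.IsThickening i) (n : ℕ) (hn : 0 < n)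
    (hu : IsUnit (n : Γ(X, ⊤))) :
    Set.SurjOn (PicF.pullCl i)
      {c : PicF.Cl X' | ∃ L : X'.Modules, PicF.cl L = c ∧ PicF.IsInvertible L ∧ Nonempty (CohB1.tensorPow L n ≅ Coh.structureModule X')}
      {c : PicF.Cl X | ∃ L : X.Modules, PicF.cl L = c ∧ PicF.IsInvertible L ∧ Nonempty (CohB1.tensorPow L n ≅ Coh.structureModule X)} := by
  rintro c ⟨L, rfl, hL, ⟨φ⟩⟩
  haveI := hi.1
  haveI := hi.2
  -- affine charts with generators
  have hch : ∀ x' : X', ∃ V : X'.Opens, x' ∈ V ∧ IsAffineOpen V ∧ ∃ s : Γ(L, i ⁻¹ᵁ V), IsGen L s := by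
    intro x'
    obtain ⟨x, rfl⟩ := i.surjective x'
    obtain ⟨U, e, hxU, he⟩ := H11Ample.exists_gen hL x
    obtain ⟨O, hO, hOU⟩ := i.isClosedEmbedding.isInducing.isOpen_iff.1 U.isOpen
    obtain ⟨V, hV, hxV, hVO⟩ := exists_isAffineOpen_mem_and_subset
      (show i.base x ∈ (⟨O, hO⟩ : X'.Opens) from (Set.ext_iff.1 hOU x).2 hxU)
    have hle : i ⁻¹ᵁ V ≤ U := fun y hy => (Set.ext_iff.1 hOU y).1 (hVO hy)
    exact ⟨V, hxV, hV, L.presheaf.map (homOfLE hle).op e, he.res hle⟩
  choose V hxV hVaff s hs using hch
  -- the trivialisation in coordinates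
  let uc : ∀ a, Γ(X, i ⁻¹ᵁ V a) := fun a => φ.hom.app _ (pw L (s a) n)
  have huc : ∀ a, IsUnit (uc a) := fun a => by
    refine isUnit_coeff (M := Coh.structureModule X) (isGen_one _) ?_ (e' := φ.hom.app _ (pw L (s a) n))
      (mul_one (uc a)).symm
    intro y hy
    have h := isGen_pw (hs a) n
    exact (isGen_of_bijective fun W hW => by
      have hb : Function.Bijective (φ.hom.app W) :=
        (ConcreteCategory.isIso_iff_bijective _).1 inferInstance
      refine (congrArg Function.Bijective (funext fun r => ?_)).mp (hb.comp (h.bijective hW))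
      show φ.hom.app W (r • _) = r • _
      rw [Scheme.Modules.Hom.app_smul, app_map_apply]) y hy
  choose w hw using fun a => (i.app_surjective (V a) (hVaff a)) (uc a)
  have hwu : ∀ a, IsUnit (w a) := by
    intro a
    obtain ⟨y, hy⟩ := i.app_surjective (V a) (hVaff a) ↑(huc a).unit⁻¹
    have : IsNilpotent (w a * y - 1) := isNilpotent_of_app_eq_zero i hi (hVaff a) _ (by
      rw [map_sub, map_mul, map_one]
      change (i.app (V a)) (w a) * (i.app (V a)) y - 1 = 0
      rw [hw a, hy, IsUnit.mul_val_inv, sub_self])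
    have h2 : IsUnit (w a * y) := by
      have := this.isUnit_add_one
      rwa [sub_add_cancel] at this
    exact isUnit_of_mul_isUnit_left h2
  -- transition functions on `X`
  have hg : ∀ a b, ∃ g : Γ(X, i ⁻¹ᵁ (V a ⊓ V b)), IsUnit g ∧
      L.presheaf.map (homOfLE (i.preimage_mono inf_le_right)).op (s b) =
        g • L.presheaf.map (homOfLE (i.preimage_mono inf_le_left)).op (s a) := by
    intro a b
    obtain ⟨g, hg⟩ := H11Ample.exists_coeff ((hs a).res (i.preimage_mono (inf_le_left (a := V a) (b := V b))))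
      (L.presheaf.map (homOfLE (i.preimage_mono (inf_le_right (a := V a) (b := V b)))).op (s b))
    exact ⟨g, isUnit_coeff ((hs a).res _) ((hs b).res _) hg, hg⟩
  choose g hgu hgs using hg
  have hgn : ∀ a b, rr (i.preimage_mono inf_le_right) (uc b) =
      g a b ^ n * rr (i.preimage_mono inf_le_left) (uc a) := by
    intro a b
    have h1 : ∀ (T : X.Opens) (a : X') (h : T ≤ i ⁻¹ᵁ V a),
        φ.hom.app T (pw L (L.presheaf.map (homOfLE h).op (s a)) n) = rr h (uc a) := fun T a h => by
      rw [← pw_res, app_map_apply]; rfl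
    rw [← h1 _ b, ← h1 _ a, hgs, pw_smul, Scheme.Modules.Hom.app_smul]
    rfl
  -- lifted transition functions
  have hroot : ∀ a b, ∃ G : Γ(X', V a ⊓ V b), IsUnit G ∧
      rr inf_le_right (w b) = G ^ n * rr inf_le_left (w a) ∧ (i.app _).hom G = g a b := by
    intro a b
    let wa : Γ(X', V a ⊓ V b)ˣ := ((hwu a).map (rr inf_le_left)).unit
    obtain ⟨G, hG, hGn, hGg⟩ := exists_root i hi n hn hu (rr inf_le_right (w b) * ↑wa⁻¹)
      (((hwu b).map _).mul (Units.isUnit _)) (g a b) (by
        have hua : IsUnit ((i.app (V a ⊓ V b)).hom (rr inf_le_left (w a))) := wa.isUnit.map _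
        refine hua.mul_right_cancel ?_
        rw [← map_mul, mul_assoc, show (↑wa⁻¹ : Γ(X', V a ⊓ V b)) * rr inf_le_left (w a) = 1 from wa.inv_mul,
          mul_one, app_rr i, app_rr i, hw, hw]
        exact (hgn a b).symm)
    refine ⟨G, hG, ?_, hGg⟩
    rw [hGn, mul_assoc, show (↑wa⁻¹ : Γ(X', V a ⊓ V b)) * rr inf_le_left (w a) = 1 from wa.inv_mul, mul_one]
  choose G hGu hGw hGg using hroot
  have hwT : ∀ a b (T : X'.Opens) (ha : T ≤ V a) (hb : T ≤ V b),
      rr hb (w b) = rr (le_inf ha hb) (G a b) ^ n * rr ha (w a) := fun a b T ha hb => by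
    have h := congrArg (rr (le_inf ha hb)) (hGw a b)
    rwa [map_mul, map_pow, rr_rr, rr_rr] at h
  have hgT : ∀ a b (T : X'.Opens) (ha : T ≤ V a) (hb : T ≤ V b),
      L.presheaf.map (homOfLE (i.preimage_mono hb)).op (s b) =
        (i.app T).hom (rr (le_inf ha hb) (G a b)) • L.presheaf.map (homOfLE (i.preimage_mono ha)).op (s a) :=
    fun a b T ha hb => by
      have h := congrArg (L.presheaf.map (homOfLE (i.preimage_mono (le_inf ha hb))).op) (hgs a b)
      rw [Scheme.Modules.map_smul, H10Coh.mres_mres, H10Coh.mres_mres] at h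
      rw [app_rr i (le_inf ha hb), hGg]
      exact h
  let D : Data X' :=
    { J := X'
      V := V
      g := G
      isUnit := hGu
      cover := fun x => ⟨x, hxV x⟩
      cocycle := fun a b c T ha hb hc => by
        refine root_unique i hi n hn hu _ _ (((hGu a b).map _).mul ((hGu b c).map _)) ?_ ?_
        · refine ((hwu a).map (rr ha)).mul_right_cancel ?_
          rw [mul_pow, mul_assoc, mul_comm (rr (le_inf hb hc) (G b c) ^ n), ← mul_assoc,
            ← hwT a b T ha hb, mul_comm, ← hwT b c T hb hc, ← hwT a c T ha hc]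
        · refine ((hs a).bijective (i.preimage_mono ha)).1 ?_
          beta_reduce
          rw [map_mul, mul_comm, mul_smul, ← hgT a b T ha hb, ← hgT b c T hb hc, ← hgT a c T ha hc] }
  let L' := line D
  -- the torsion condition
  have htors : Nonempty (CohB1.tensorPow L' n ≅ Coh.structureModule X') := by
    have hp : ∀ a : X', IsGen (CohB1.tensorPow L' n) (pw L' (gen D a) n) := fun a => isGen_pw (isGen_gen D a) n
    obtain ⟨ψ, hψ⟩ := exists_hom_of_gen (M := CohB1.tensorPow L' n) (N := Coh.structureModule X') V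
      (fun x => ⟨x, hxV x⟩) (fun a => pw L' (gen D a) n) hp (fun a => w a) (fun a b u hab => by
        change rr inf_le_left (w a) = u * rr inf_le_right (w b)
        rw [pw_res, pw_res, gen_trans D b a _ inf_le_right inf_le_left, pw_smul] at hab
        rw [hwT b a _ inf_le_right inf_le_left]
        congr 1
        refine ((isGen_pw ((isGen_gen D b).res (inf_le_right : V a ⊓ V b ≤ V b)) n).bijective le_rfl).1 ?_
        beta_reduce
        rw [H10Coh.mres_self]
        exact hab)
    haveI : IsIso ψ := isIso_of_gen ψ fun x => ⟨V x, pw L' (gen D x) n, hxV x, hp x, by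
      rw [hψ]
      have := H11Ample.isGen_res (isGen_one (V x)) le_rfl (hwu x)
      rwa [H10Coh.mres_self, show w x • (show Γ(Coh.structureModule X', V x) from (1 : Γ(X', V x))) =
        (show Γ(Coh.structureModule X', V x) from w x) from mul_one (w x)] at this⟩
    exact ⟨asIso ψ⟩
  refine ⟨PicF.cl L', ⟨L', rfl, isInvertible_line D, htors⟩, Quot.sound ?_⟩
  -- the pullback is `L`
  let p : ∀ a : X', Γ((Scheme.Modules.pullback i).obj L', i ⁻¹ᵁ V a) :=
    fun a => OmegaSh.pullSect i L' (V a) (gen D a)
  have hp : ∀ a, IsGen _ (p a) := fun a => (isGen_gen D a).pullSect i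
  obtain ⟨χ, hχ⟩ := exists_hom_of_gen (N := L) (fun a => i ⁻¹ᵁ V a) (fun x => ⟨i x, hxV (i x)⟩) p hp s
    (fun a b u hab => by
      have hab' : ((Scheme.Modules.pullback i).obj L').presheaf.map
            (homOfLE (i.preimage_mono (inf_le_left (a := V a) (b := V b)))).op (OmegaSh.pullSect i L' (V a) (gen D a)) =
          (show Γ(X, i ⁻¹ᵁ (V a ⊓ V b)) from u) • ((Scheme.Modules.pullback i).obj L').presheaf.map
            (homOfLE (i.preimage_mono (inf_le_right (a := V a) (b := V b)))).op (OmegaSh.pullSect i L' (V b) (gen D b)) := hab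
      rw [← OmegaSh.pullSect_map i L' inf_le_left, ← OmegaSh.pullSect_map i L' inf_le_right,
        gen_trans D b a _ inf_le_right inf_le_left, OmegaSh.pullSect_smul] at hab'
      have hu' : u = (i.app (V a ⊓ V b)).hom (rr (le_inf inf_le_right inf_le_left) (G b a)) := by
        refine ((((isGen_gen D b).res (inf_le_right : V a ⊓ V b ≤ V b)).pullSect i).bijective le_rfl).1 ?_
        beta_reduce
        rw [H10Coh.mres_self]
        exact hab'.symm
      rw [hu']
      exact hgT b a _ inf_le_right inf_le_left)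
  haveI : IsIso χ := isIso_of_gen χ fun x => ⟨i ⁻¹ᵁ V (i x), p (i x), hxV (i x), hp _, by rw [hχ]; exact hs _⟩
  exact ⟨asIso χ⟩

end Groth.Agent.S1408
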