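import Groth.Statements.S14080
import Mathlib.RingTheory.PowerSeries.Substitution
import Mathlib.RingTheory.PowerSeries.Trunc
import Mathlib.RingTheory.PowerSeries.Inverse
import Mathlib.Tactic.LinearCombination

set_option autoImplicit false
universe u
open ArSing

namespace Groth.Agent.S14080

open PowerSeries

theorem algHom_ext_X {k : Type u} [Field k] (f g : k⟦X⟧ →ₐ[k] k⟦X⟧) (hX : f X = g X)
    (h0 : constantCoeff (f X) = 0) : f = g := by
  refine AlgHom.ext fun φ => PowerSeries.ext fun n => ?_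
  have hp : ∀ p : Polynomial k, f (p : k⟦X⟧) = g (p : k⟦X⟧) := fun p => by
    have h := Polynomial.algHom_ext (f := f.comp (Polynomial.coeToPowerSeries.algHom k))
      (g := g.comp (Polynomial.coeToPowerSeries.algHom k)) (by simpa [Polynomial.coeToPowerSeries.algHom_apply] using hX)
    simpa [Polynomial.coeToPowerSeries.algHom_apply] using DFunLike.congr_fun h p
  have hc : ∀ F : k⟦X⟧ →ₐ[k] k⟦X⟧, constantCoeff (F X) = 0 →
      ∀ ψ, coeff n (F (X ^ (n + 1) * ψ)) = 0 := fun F hF ψ => by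
    obtain ⟨c, hc⟩ := X_dvd_iff.2 hF
    rw [map_mul, map_pow, hc, mul_pow, mul_assoc]
    exact X_pow_dvd_iff.1 (dvd_mul_right _ _) n (Nat.lt_succ_self n)
  rw [eq_X_pow_mul_shift_add_trunc (n + 1) φ, map_add f, map_add g, map_add, map_add, hc f h0,
    hc g (hX ▸ h0), hp]

/-- Let k be a field in which 2 is invertible and σ an involutive k-algebra automorphism of the power
series ring k[[t]], with ξ the coefficient of t in σ(t). Then ξ^2 = 1, the k-algebra endomorphism φ
with φ(t) = (t + ξ σ(t))/2 is an automorphism, and φ⁻¹ σ φ is the automorphism t ↦ ξ t. (The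
published statement is over an algebraically closed field of characteristic prime to 2; only the
invertibility of 2 is used, so any field with 2 ≠ 0 is allowed here.) -/
theorem result (k : Type u) [Field k] (h2 : (2 : k) ≠ 0)
    (σ : PowerSeries k ≃ₐ[k] PowerSeries k) (hσ : ∀ f, σ (σ f) = f) :
    (PowerSeries.coeff 1 (σ PowerSeries.X)) ^ 2 = 1 ∧
    ∃ φ : PowerSeries k ≃ₐ[k] PowerSeries k,
      φ PowerSeries.X = PowerSeries.C (2⁻¹ : k) *
        (PowerSeries.X + PowerSeries.C (PowerSeries.coeff 1 (σ PowerSeries.X)) * σ PowerSeries.X) ∧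
      ∀ f, φ.symm (σ (φ f)) = PowerSeries.rescale (PowerSeries.coeff 1 (σ PowerSeries.X)) f := by
  open PowerSeries in
  set ξ := coeff 1 (σ X) with hξdef
  have hcc : constantCoeff (σ X) = 0 := by
    by_contra h
    have h1 : IsUnit (σ (X : k⟦X⟧)) := isUnit_iff_constantCoeff.2 (Ne.isUnit h)
    have h2 := h1.map σ.symm
    rw [AlgEquiv.symm_apply_apply] at h2
    simpa using isUnit_iff_constantCoeff.1 h2
  obtain ⟨g, hg⟩ := X_dvd_iff.2 hcc
  have hξg : ξ = constantCoeff g := by
    rw [hξdef, hg]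
    simp [← coeff_zero_eq_constantCoeff]
  have hσg : constantCoeff (σ g) = constantCoeff g := by
    have h1 : constantCoeff (σ (g - C (constantCoeff g))) = 0 := by
      obtain ⟨c, hc⟩ := X_dvd_iff.2 (show constantCoeff (g - C (constantCoeff g)) = 0 by simp)
      rw [hc, map_mul, map_mul, hcc, zero_mul]
    rw [map_sub, map_sub, sub_eq_zero] at h1
    rw [h1, show (C (constantCoeff g) : k⟦X⟧) = algebraMap k k⟦X⟧ (constantCoeff g) from rfl, AlgEquiv.commutes]
    simp
  have hsq : ξ ^ 2 = 1 := by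
    have h1 : (X : k⟦X⟧) = X * (g * σ g) := by
      conv_lhs => rw [← hσ X, hg, map_mul, hg, mul_assoc]
    have h2 : g * σ g = 1 := (mul_left_cancel₀ (PowerSeries.X_ne_zero) (h1.symm.trans (mul_one _).symm))
    have h3 := congrArg constantCoeff h2
    rw [map_mul, hσg, map_one] at h3
    rw [hξg, sq]; exact h3
  refine ⟨hsq, ?_⟩
  set p : k⟦X⟧ := C (2⁻¹ : k) * (X + C ξ * σ X) with hp
  have hp0 : constantCoeff p = 0 := by simp [hp, hcc]
  have hp1 : IsUnit (coeff 1 p) := by
    rw [hp, coeff_C_mul, map_add, coeff_C_mul, coeff_one_X, ← hξdef, ← sq, hsq]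
    refine (mul_ne_zero (inv_ne_zero h2) ?_).isUnit
    rwa [show (1 : k) + 1 = 2 by norm_num]
  have hps : HasSubst p := HasSubst.of_constantCoeff_zero' hp0
  have hQs : HasSubst (substInvOfIsUnit p hp1) := HasSubst.substInvOfIsUnit p hp1
  set Φ := (substAlgHom hps : k⟦X⟧ →ₐ[k] k⟦X⟧)
  set Ψ := (substAlgHom hQs : k⟦X⟧ →ₐ[k] k⟦X⟧)
  have hΦX : Φ X = p := substAlgHom_X hps
  have hΨX : Ψ X = substInvOfIsUnit p hp1 := substAlgHom_X hQs
  have e1 : Φ.comp Ψ = AlgHom.id k k⟦X⟧ := by
    have : (Φ.comp Ψ) X = X := by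
      rw [AlgHom.comp_apply, hΨX, coe_substAlgHom hps]
      exact subst_substInvOfIsUnit_left p hp0 hp1
    exact algHom_ext_X _ _ (this.trans rfl) (by rw [this]; simp)
  have e2 : Ψ.comp Φ = AlgHom.id k k⟦X⟧ := by
    have : (Ψ.comp Φ) X = X := by
      rw [AlgHom.comp_apply, hΦX, coe_substAlgHom hQs]
      exact subst_substInvOfIsUnit_right p hp0 hp1
    exact algHom_ext_X _ _ (this.trans rfl) (by rw [this]; simp)
  let φ := AlgEquiv.ofAlgHom Φ Ψ e1 e2
  refine ⟨φ, hΦX, fun f => ?_⟩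
  rw [φ.symm_apply_eq]
  have hr : ∀ c : k, rescale ξ (C c) = C c := fun c => by
    ext n
    rw [coeff_rescale]
    rcases n with _ | n <;> simp [coeff_C]
  let Rξ : k⟦X⟧ →ₐ[k] k⟦X⟧ := { rescale ξ with commutes' := fun c => hr c }
  have key : σ.toAlgHom.comp φ.toAlgHom = φ.toAlgHom.comp Rξ := by
    have hσC : ∀ c : k, σ (C c) = C c := fun c => σ.commutes c
    have hl : σ p = C ξ * p := by
      rw [hp, map_mul, map_add, map_mul, hσC, hσC, hσ]
      have : (C ξ : k⟦X⟧) * C ξ = 1 := by rw [← map_mul, ← sq, hsq, map_one]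
      linear_combination (-(C (2⁻¹ : k) * σ X)) * this
    refine algHom_ext_X _ _ ?_ ?_
    · show σ (Φ X) = Φ (rescale ξ X)
      rw [rescale_X, map_mul, hΦX, hl]
      exact congrArg (· * p) (Φ.commutes ξ).symm
    · show constantCoeff (σ (Φ X)) = 0
      rw [hΦX, hl, map_mul, hp0, mul_zero]
  exact DFunLike.congr_fun key f

end Groth.Agent.S14080
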