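import Groth.Statements.S14081
import Groth.Agent.H1CAlg.ArInvol
import Groth.Agent.S14080

set_option autoImplicit false
universe u
open ArSing

namespace Groth.Agent.S14081

open scoped PowerSeries

/-- Over an algebraically closed field k of characteristic prime to 2 and to r+1, with r even, every
non-trivial k-algebra involution σ of A_r = k[[x,y]]/(y^2 - x^(r+1)) is conjugate, by a k-algebra
automorphism φ of A_r, to the involution x ↦ x, y ↦ -y (that is, φ⁻¹σφ fixes the class of x and
negates the class of y). -/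
theorem result (k : Type u) [Field k] [IsAlgClosed k] (r : ℕ)
    (h2 : (2 : k) ≠ 0) (hr : ((r + 1 : ℕ) : k) ≠ 0) (hev : Even r)
    (σ : ArSing.ring k r ≃ₐ[k] ArSing.ring k r) (hσ : ∀ a, σ (σ a) = a) (hne : σ ≠ AlgEquiv.refl) :
    ∃ φ : ArSing.ring k r ≃ₐ[k] ArSing.ring k r,
      φ.symm (σ (φ (ArSing.x k r))) = ArSing.x k r ∧
      φ.symm (σ (φ (ArSing.y k r))) = -ArSing.y k r := by
  rcases Nat.lt_or_ge r 2 with hr0 | hr2
  · obtain rfl : r = 0 := by
      rcases r with _ | _ | r
      · rfl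
      · exact absurd hev (by decide)
      · omega
    open Groth.Agent.H1CAlg.ArS PowerSeries in
    obtain ⟨e, he⟩ := exists_ev (y k 0) y_mem
    open Groth.Agent.H1CAlg.ArS PowerSeries in
    have hex : ∀ A, e (expand 2 two_ne_zero A) = xMap k 0 A := fun A => AlgHom.congr_fun
      (φ₁ := e.comp (expand 2 two_ne_zero)) (φ₂ := xMap k 0)
      (psAlgHom_ext (IsLocalRing.maximalIdeal (ring k 0))
        (show e (expand 2 two_ne_zero PowerSeries.X) ∈ _ by
          rw [expand_X, map_pow, he]; exact Ideal.pow_mem_of_mem _ y_mem 2 two_pos)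
        (show e (expand 2 two_ne_zero PowerSeries.X) = xMap k 0 PowerSeries.X by
          rw [expand_X, map_pow, he, sq, y_sq, xMap_X, zero_add, pow_one])) A
    open Groth.Agent.H1CAlg.ArS PowerSeries in
    have henf : ∀ A B, e (expand 2 two_ne_zero A + PowerSeries.X * expand 2 two_ne_zero B) = nf k 0 A B := fun A B => by
      rw [map_add, map_mul, he, hex, hex, nf, mul_comm]
    open Groth.Agent.H1CAlg.ArS PowerSeries in
    have hbij : Function.Bijective e := by
      refine ⟨(injective_iff_map_eq_zero e).mpr fun P hP => ?_, fun a => ?_⟩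
      · obtain ⟨A, B, rfl⟩ := exists_parity P
        rw [henf] at hP
        obtain ⟨rfl, rfl⟩ := nf_eq_zero hP
        simp
      · obtain ⟨A, B, rfl⟩ := exists_nf a
        exact ⟨_, henf A B⟩
    open Groth.Agent.H1CAlg.ArS PowerSeries in
    obtain ⟨ψ, hψ⟩ : ∃ ψ : k⟦X⟧ ≃ₐ[k] ring k 0, ∀ P, ψ P = e P := ⟨AlgEquiv.ofBijective e hbij, fun _ => rfl⟩
    open Groth.Agent.H1CAlg.ArS PowerSeries in
    obtain ⟨hξ, g, -, hg⟩ := Groth.Agent.S14080.result k h2 ((ψ.trans σ).trans ψ.symm) (fun P => by simp [hσ])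
    open Groth.Agent.H1CAlg.ArS PowerSeries in
    have hy0 : y k 0 = ψ (PowerSeries.X) := by rw [hψ, he]
    open Groth.Agent.H1CAlg.ArS PowerSeries in
    rcases sq_eq_one_iff.mp hξ with h1 | h1
    · rw [h1] at hg
      exfalso
      refine hne (AlgEquiv.ext fun a => ?_)
      obtain ⟨b, rfl⟩ := (g.trans ψ).surjective a
      have h := hg b
      rw [rescale_one, RingHom.id_apply, AlgEquiv.symm_apply_eq] at h
      show σ (ψ (g b)) = ψ (g b)
      simp only [AlgEquiv.trans_apply, AlgEquiv.symm_apply_eq] at h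
      exact h
    · rw [h1] at hg
      refine ⟨(ψ.symm.trans g).trans ψ, ?_, ?_⟩
      · show ψ (g.symm (ψ.symm (σ (ψ (g (ψ.symm (x k 0))))))) = x k 0
        have hX : ψ.symm (x k 0) = expand 2 two_ne_zero PowerSeries.X := by
          rw [AlgEquiv.symm_apply_eq, hψ, hex, xMap_X]
        have h := hg (ψ.symm (x k 0))
        simp only [AlgEquiv.trans_apply] at h
        rw [h, hX, rescale_neg_expand, ← hX, AlgEquiv.apply_symm_apply]
      · show ψ (g.symm (ψ.symm (σ (ψ (g (ψ.symm (y k 0))))))) = -y k 0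
        have hX : ψ.symm (y k 0) = PowerSeries.X := by rw [hy0, AlgEquiv.symm_apply_apply]
        have h := hg (ψ.symm (y k 0))
        simp only [AlgEquiv.trans_apply] at h
        rw [h, hX, rescale_apply_X, map_neg, map_one, neg_one_mul, map_neg, hy0]
  · open Groth.Agent.H1CAlg.ArS in
    obtain ⟨φ, α, β, h, hx, hy⟩ := linearise' h2 hr2 σ hσ hne
    rcases h with ⟨rfl, rfl⟩ | ⟨-, -, ho⟩ | ⟨-, -, ho⟩
    · exact ⟨φ, hx.trans (one_smul _ _), hy.trans (neg_one_smul _ _)⟩
    · exact absurd ho (Nat.not_odd_iff_even.mpr hev)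
    · exact absurd ho (Nat.not_odd_iff_even.mpr hev)

end Groth.Agent.S14081
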