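import Groth.Statements.S14083
import Groth.Agent.H1CAlg.ArNode
import Groth.Agent.S14080

set_option autoImplicit false
universe u
open ArSing

namespace Groth.Agent.S14083

open scoped PowerSeries

/-- Over an algebraically closed field k of characteristic different from 2, every non-trivial k-algebra
involution σ of the node algebra A_1 = k[[x,y]]/(y^2 - x^2) is conjugate, by a k-algebra
automorphism φ of A_1, to one of the three involutions (x, y) ↦ (x, -y), (x, y) ↦ (-x, -y), (x, y) ↦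
(y, x). -/
theorem result (k : Type u) [Field k] [IsAlgClosed k]
    (h2 : (2 : k) ≠ 0)
    (σ : ArSing.ring k 1 ≃ₐ[k] ArSing.ring k 1) (hσ : ∀ a, σ (σ a) = a) (hne : σ ≠ AlgEquiv.refl) :
    ∃ φ : ArSing.ring k 1 ≃ₐ[k] ArSing.ring k 1,
      (φ.symm (σ (φ (ArSing.x k 1))) = ArSing.x k 1 ∧ φ.symm (σ (φ (ArSing.y k 1))) = -ArSing.y k 1) ∨
      (φ.symm (σ (φ (ArSing.x k 1))) = -ArSing.x k 1 ∧ φ.symm (σ (φ (ArSing.y k 1))) = -ArSing.y k 1) ∨
      (φ.symm (σ (φ (ArSing.x k 1))) = ArSing.y k 1 ∧ φ.symm (σ (φ (ArSing.y k 1))) = ArSing.x k 1) := by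
  open Groth.Agent.H1CAlg.ArS PowerSeries in
  have huv : ∀ f : ring k 1 →ₐ[k] k⟦X⟧, f (x k 1 + y k 1) = 0 ∨ f (y k 1 - x k 1) = 0 := fun f => by
    rw [← mul_eq_zero, ← map_mul, show (x k 1 + y k 1) * (y k 1 - x k 1) = y k 1 * y k 1 - x k 1 ^ 2 by ring, y_sq,
      sub_self, map_zero]
  open Groth.Agent.H1CAlg.ArS PowerSeries in
  have hv : ∀ f : ring k 1 →ₐ[k] k⟦X⟧, f (y k 1 - x k 1) = 0 → ∀ a, f a = f (xMap k 1 (brp a)) := fun f hf a => by
    obtain ⟨A, B, rfl⟩ := exists_nf a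
    rw [← sub_eq_zero, ← map_sub, brp_nf, map_add, map_mul, xMap_X,
      show nf k 1 A B - (xMap k 1 A + x k 1 * xMap k 1 B) = xMap k 1 B * (y k 1 - x k 1) by rw [nf]; ring,
      map_mul, hf, mul_zero]
  open Groth.Agent.H1CAlg.ArS PowerSeries in
  have hu : ∀ f : ring k 1 →ₐ[k] k⟦X⟧, f (x k 1 + y k 1) = 0 → ∀ a, f a = f (xMap k 1 (brm a)) := fun f hf a => by
    obtain ⟨A, B, rfl⟩ := exists_nf a
    rw [← sub_eq_zero, ← map_sub, brm_nf, map_sub (xMap k 1), map_mul, xMap_X,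
      show nf k 1 A B - (xMap k 1 A - x k 1 * xMap k 1 B) = xMap k 1 B * (x k 1 + y k 1) by rw [nf]; ring,
      map_mul, hf, mul_zero]
  open Groth.Agent.H1CAlg.ArS PowerSeries in
  have hnot : ∀ a : ring k 1, a ≠ 0 → brp (σ a) = 0 → brm (σ a) = 0 → False := fun a ha hp hm => by
    exact ha (σ.injective (by rw [map_zero]; exact br_inj h2 (by simp [hp]) (by simp [hm])))
  open Groth.Agent.H1CAlg.ArS PowerSeries in
  have hune : x k 1 + y k 1 ≠ 0 := fun h => by
    have h' := congrArg brp h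
    rw [map_add, brp_x, brp_y, map_zero] at h'
    exact h2 (by simpa [← two_mul, PowerSeries.coeff_X, map_ofNat] using congrArg (coeff 1) h')
  open Groth.Agent.H1CAlg.ArS PowerSeries in
  have hvne : y k 1 - x k 1 ≠ 0 := fun h => by
    have h' := congrArg brm h
    rw [map_sub, brm_x, brm_y, map_zero, ← neg_add', neg_eq_zero] at h'
    exact h2 (by simpa [← two_mul, PowerSeries.coeff_X, map_ofNat] using congrArg (coeff 1) h')
  open Groth.Agent.H1CAlg.ArS PowerSeries in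
  obtain ⟨fp, hfp⟩ : ∃ f : ring k 1 →ₐ[k] k⟦X⟧, ∀ a, f a = brp (σ a) := ⟨brp.comp σ.toAlgHom, fun _ => rfl⟩
  open Groth.Agent.H1CAlg.ArS PowerSeries in
  obtain ⟨fm, hfm⟩ : ∃ f : ring k 1 →ₐ[k] k⟦X⟧, ∀ a, f a = brm (σ a) := ⟨brm.comp σ.toAlgHom, fun _ => rfl⟩
  open Groth.Agent.H1CAlg.ArS PowerSeries in
  rcases (huv fp).symm with h | h
  · -- the branches are preserved
    have h' : fm (x k 1 + y k 1) = 0 := (huv fm).resolve_right fun h' =>
      hnot _ hvne ((hfp _).symm.trans h) ((hfm _).symm.trans h')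
    have hP : ∀ a, brp (σ a) = (fp.comp (xMap k 1)) (brp a) := fun a => (hfp a).symm.trans (hv fp h a)
    have hM : ∀ a, brm (σ a) = (fm.comp (xMap k 1)) (brm a) := fun a => (hfm a).symm.trans (hu fm h' a)
    have hPi : (fp.comp (xMap k 1)).comp (fp.comp (xMap k 1)) = AlgHom.id k k⟦X⟧ := AlgHom.ext fun A => by
      show (fp.comp (xMap k 1)) ((fp.comp (xMap k 1)) A) = A
      have := hP (σ (xMap k 1 A))
      rw [hσ, brp_xMap, hP, brp_xMap] at this
      exact this.symm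
    have hMi : (fm.comp (xMap k 1)).comp (fm.comp (xMap k 1)) = AlgHom.id k k⟦X⟧ := AlgHom.ext fun A => by
      show (fm.comp (xMap k 1)) ((fm.comp (xMap k 1)) A) = A
      have := hM (σ (xMap k 1 A))
      rw [hσ, brm_xMap, hM, brm_xMap] at this
      exact this.symm
    let tp := AlgEquiv.ofAlgHom _ _ hPi hPi
    let tm := AlgEquiv.ofAlgHom _ _ hMi hMi
    obtain ⟨hξp, gp, -, hgp⟩ := Groth.Agent.S14080.result k h2 tp (fun A => AlgHom.congr_fun hPi A)
    obtain ⟨hξm, gm, -, hgm⟩ := Groth.Agent.S14080.result k h2 tm (fun A => AlgHom.congr_fun hMi A)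
    obtain ⟨φ, hφp, hφm⟩ := exists_equiv h2 gp gm
    have hsp : ∀ a, brp (φ.symm (σ (φ a))) = rescale (coeff 1 (tp X)) (brp a) := fun a => by
      rw [← hgp, AlgEquiv.eq_symm_apply, ← hφp, AlgEquiv.apply_symm_apply, hP, hφp]
      rfl
    have hsm : ∀ a, brm (φ.symm (σ (φ a))) = rescale (coeff 1 (tm X)) (brm a) := fun a => by
      rw [← hgm, AlgEquiv.eq_symm_apply, ← hφm, AlgEquiv.apply_symm_apply, hM, hφm]
      rfl
    have hXr : ∀ c : k, rescale c (X : k⟦X⟧) = PowerSeries.C c * X := rescale_apply_X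
    rcases sq_eq_one_iff.mp hξp with hp | hp <;> rcases sq_eq_one_iff.mp hξm with hm | hm <;>
      rw [hp] at hsp <;> rw [hm] at hsm
    · exfalso
      refine hne (AlgEquiv.ext fun a => ?_)
      obtain ⟨b, rfl⟩ := φ.surjective a
      show σ (φ b) = φ b
      rw [← AlgEquiv.symm_apply_eq]
      · exact φ.injective (by rw [AlgEquiv.apply_symm_apply]) |>.trans (br_inj h2 (by rw [hsp]; simp) (by rw [hsm]; simp))
    · refine ⟨φ, Or.inr (Or.inr ⟨?_, ?_⟩)⟩ <;> refine br_inj h2 ?_ ?_ <;> simp [hsp, hsm, hXr]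
    · obtain ⟨fl, hflp, hflm⟩ := exists_flip (k := k) h2
      refine ⟨fl.trans φ, Or.inr (Or.inr ⟨?_, ?_⟩)⟩
      · show fl.symm (φ.symm (σ (φ (fl (x k 1))))) = y k 1
        rw [AlgEquiv.symm_apply_eq]
        refine br_inj h2 ?_ ?_ <;> simp [hsp, hsm, hXr, hflp, hflm]
      · show fl.symm (φ.symm (σ (φ (fl (y k 1))))) = x k 1
        rw [AlgEquiv.symm_apply_eq]
        refine br_inj h2 ?_ ?_ <;> simp [hsp, hsm, hXr, hflp, hflm]
    · refine ⟨φ, Or.inr (Or.inl ⟨?_, ?_⟩)⟩ <;> refine br_inj h2 ?_ ?_ <;> simp [hsp, hsm, hXr]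
  · -- the branches are exchanged
    have h' : fm (y k 1 - x k 1) = 0 := (huv fm).resolve_left fun h' =>
      hnot _ hune ((hfp _).symm.trans h) ((hfm _).symm.trans h')
    have hP : ∀ a, brp (σ a) = (fp.comp (xMap k 1)) (brm a) := fun a => (hfp a).symm.trans (hu fp h a)
    have hM : ∀ a, brm (σ a) = (fm.comp (xMap k 1)) (brp a) := fun a => (hfm a).symm.trans (hv fm h' a)
    have h1 : (fp.comp (xMap k 1)).comp (fm.comp (xMap k 1)) = AlgHom.id k k⟦X⟧ := AlgHom.ext fun A => by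
      show (fp.comp (xMap k 1)) ((fm.comp (xMap k 1)) A) = A
      have := hP (σ (xMap k 1 A))
      rw [hσ, brp_xMap, hM, brp_xMap] at this
      exact this.symm
    have h2' : (fm.comp (xMap k 1)).comp (fp.comp (xMap k 1)) = AlgHom.id k k⟦X⟧ := AlgHom.ext fun A => by
      show (fm.comp (xMap k 1)) ((fp.comp (xMap k 1)) A) = A
      have := hM (σ (xMap k 1 A))
      rw [hσ, brm_xMap, hP, brm_xMap] at this
      exact this.symm
    let t' := AlgEquiv.ofAlgHom _ _ h2' h1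
    obtain ⟨φ, hφp, hφm⟩ := exists_equiv h2 AlgEquiv.refl t'
    have hsp : ∀ a, brp (φ.symm (σ (φ a))) = brm a := fun a => by
      have := hφp (φ.symm (σ (φ a)))
      rw [AlgEquiv.apply_symm_apply, hP, hφm] at this
      exact this.symm.trans (AlgHom.congr_fun h1 (brm a))
    have hsm : ∀ a, brm (φ.symm (σ (φ a))) = brp a := fun a => by
      have := hφm (φ.symm (σ (φ a)))
      rw [AlgEquiv.apply_symm_apply, hM, hφp] at this
      exact t'.injective this.symm
    refine ⟨φ, Or.inl ⟨?_, ?_⟩⟩ <;> refine br_inj h2 ?_ ?_ <;> simp [hsp, hsm]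

end Groth.Agent.S14083
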