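import Groth.Statements.S14085
import Groth.Agent.H8Props.FlatKernel
import Mathlib.RingTheory.Flat.Stability

set_option autoImplicit false
universe u
open FlatMor

namespace Groth.Agent.S14085

/-- Let R be a ring, A and B flat R-algebras, I an ideal of A and B → A/I an injective finite flat map
of R-algebras. Then the fibre product ring B ×_{A/I} A, realised as the subalgebra of B × A of pairs
with equal image in A/I, is flat over R. (This is the affine statement behind flatness over the base
of the pushout of a closed immersion along a finite flat morphism.) -/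
theorem result (R A B : Type u) [CommRing R] [CommRing A] [CommRing B]
    [Algebra R A] [Algebra R B] [Module.Flat R A] [Module.Flat R B] (I : Ideal A)
    [Algebra B (A ⧸ I)] [IsScalarTower R B (A ⧸ I)] [Module.Finite B (A ⧸ I)] [Module.Flat B (A ⧸ I)]
    (hinj : Function.Injective (algebraMap B (A ⧸ I))) :
    Module.Flat R ↥(AlgHom.equalizer ((IsScalarTower.toAlgHom R B (A ⧸ I)).comp (AlgHom.fst R B A))
          ((Ideal.Quotient.mkₐ R I).comp (AlgHom.snd R B A))) := by
  let p : B →ₐ[R] A ⧸ I := IsScalarTower.toAlgHom R B (A ⧸ I)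
  let π : A →ₐ[R] A ⧸ I := Ideal.Quotient.mkₐ R I
  let d : B × A →ₗ[R] A ⧸ I :=
    p.toLinearMap ∘ₗ LinearMap.fst R B A - π.toLinearMap ∘ₗ LinearMap.snd R B A
  let P := AlgHom.equalizer (p.comp (AlgHom.fst R B A)) (π.comp (AlgHom.snd R B A))
  have : Module.Flat R (A ⧸ I) := Module.Flat.trans R B (A ⧸ I)
  have : Module.Flat R (B × A) := H8Props.flat_prod
  have hex : Function.Exact P.val.toLinearMap d := by
    intro x
    refine ⟨fun h ↦ ⟨⟨x, sub_eq_zero.mp h⟩, rfl⟩, ?_⟩
    rintro ⟨z, rfl⟩
    exact sub_eq_zero.mpr z.2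
  have hs : Function.Surjective d := fun y ↦ by
    obtain ⟨a, ha⟩ := Ideal.Quotient.mk_surjective y
    refine ⟨(0, -a), ?_⟩
    show p 0 - π (-a) = y
    rw [map_zero, map_neg, zero_sub, neg_neg]
    exact ha
  exact H8Props.flat_of_exact P.val.toLinearMap d Subtype.val_injective hex hs

end Groth.Agent.S14085
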