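import Groth.Statements.S14086
import Groth.Agent.H8Props.FlatKernel
import Mathlib.RingTheory.Flat.Stability
import Mathlib.RingTheory.Flat.FaithfullyFlat.Algebra
import Mathlib.RingTheory.Spectrum.Prime.Topology

set_option autoImplicit false
universe u
open FlatMor

namespace Groth.Agent.S14086
open TensorProduct

/-- Let R be a ring, A and B flat R-algebras, I an ideal of A, B → A/I an injective finite flat map of
R-algebras and P = B ×_{A/I} A the fibre product ring (pairs in B × A with equal image in A/I). For
any R-algebra R' the base change R' ⊗_R P maps injectively to R' ⊗_R A, and any b' in R' ⊗_R B and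
a' in R' ⊗_R A with the same image in R' ⊗_R (A/I) are the two components of some element of R' ⊗_R
P; that is, R' ⊗_R P is the fibre product of R' ⊗_R B and R' ⊗_R A over R' ⊗_R (A/I). -/
theorem result (R A B R' : Type u) [CommRing R] [CommRing A]
    [CommRing B] [CommRing R'] [Algebra R A] [Algebra R B] [Algebra R R'] [Module.Flat R A] [Module.Flat R B]
    (I : Ideal A) [Algebra B (A ⧸ I)] [IsScalarTower R B (A ⧸ I)] [Module.Finite B (A ⧸ I)] [Module.Flat B (A ⧸ I)]
    (hinj : Function.Injective (algebraMap B (A ⧸ I))) :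
    Function.Injective (Algebra.TensorProduct.map (AlgHom.id R' R')
        ((AlgHom.snd R B A).comp (AlgHom.equalizer ((IsScalarTower.toAlgHom R B (A ⧸ I)).comp (AlgHom.fst R B A))
          ((Ideal.Quotient.mkₐ R I).comp (AlgHom.snd R B A))).val)) ∧
    ∀ (b : TensorProduct R R' B) (a : TensorProduct R R' A),
      Algebra.TensorProduct.map (AlgHom.id R' R') (IsScalarTower.toAlgHom R B (A ⧸ I)) b =
        Algebra.TensorProduct.map (AlgHom.id R' R') (Ideal.Quotient.mkₐ R I) a →
      ∃ x : TensorProduct R R' ↥(AlgHom.equalizer ((IsScalarTower.toAlgHom R B (A ⧸ I)).comp (AlgHom.fst R B A))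
          ((Ideal.Quotient.mkₐ R I).comp (AlgHom.snd R B A))),
        Algebra.TensorProduct.map (AlgHom.id R' R') ((AlgHom.fst R B A).comp (AlgHom.equalizer ((IsScalarTower.toAlgHom R B (A ⧸ I)).comp (AlgHom.fst R B A))
          ((Ideal.Quotient.mkₐ R I).comp (AlgHom.snd R B A))).val) x = b ∧
        Algebra.TensorProduct.map (AlgHom.id R' R') ((AlgHom.snd R B A).comp (AlgHom.equalizer ((IsScalarTower.toAlgHom R B (A ⧸ I)).comp (AlgHom.fst R B A))
          ((Ideal.Quotient.mkₐ R I).comp (AlgHom.snd R B A))).val) x = a := by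
  let p : B →ₐ[R] A ⧸ I := IsScalarTower.toAlgHom R B (A ⧸ I)
  let π : A →ₐ[R] A ⧸ I := Ideal.Quotient.mkₐ R I
  let d : B × A →ₗ[R] A ⧸ I :=
    p.toLinearMap ∘ₗ LinearMap.fst R B A - π.toLinearMap ∘ₗ LinearMap.snd R B A
  let P := AlgHom.equalizer (p.comp (AlgHom.fst R B A)) (π.comp (AlgHom.snd R B A))
  let fb : TensorProduct R R' P →ₐ[R'] TensorProduct R R' B :=
    Algebra.TensorProduct.map (AlgHom.id R' R') ((AlgHom.fst R B A).comp P.val)
  let fa : TensorProduct R R' P →ₐ[R'] TensorProduct R R' A :=
    Algebra.TensorProduct.map (AlgHom.id R' R') ((AlgHom.snd R B A).comp P.val)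
  let pr' := Algebra.TensorProduct.map (AlgHom.id R' R') p
  let π' := Algebra.TensorProduct.map (AlgHom.id R' R') π
  show Function.Injective fa ∧ ∀ b a, pr' b = π' a → ∃ x, fb x = b ∧ fa x = a
  have : Module.Flat R (A ⧸ I) := Module.Flat.trans R B (A ⧸ I)
  have hex : Function.Exact P.val.toLinearMap d := by
    intro x
    refine ⟨fun h ↦ ⟨⟨x, sub_eq_zero.mp h⟩, rfl⟩, ?_⟩
    rintro ⟨z, rfl⟩
    exact sub_eq_zero.mpr z.2
  have hs : Function.Surjective d := fun y ↦ by
    obtain ⟨a, ha⟩ := Ideal.Quotient.mk_surjective y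
    refine ⟨(0, -a), ?_⟩
    show p 0 - π (-a) = y
    rw [map_zero, map_neg, zero_sub, neg_neg]
    exact ha
  have hval : Function.Injective (P.val.toLinearMap.lTensor R') :=
    LinearMap.lTensor_injective_of_exact_of_flat d hs _ Subtype.val_injective hex R'
  have hpair : ∀ x, TensorProduct.prodRight R R R' B A (P.val.toLinearMap.lTensor R' x) =
      (fb x, fa x) := fun x ↦ by
    induction x using TensorProduct.induction_on with
    | zero => simp only [map_zero]; rfl
    | tmul r z => rfl
    | add y z hy hz => simp only [map_add, hy, hz]; rfl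
  have hd : ∀ z, d.lTensor R' z = pr' (TensorProduct.prodRight R R R' B A z).1 -
      π' (TensorProduct.prodRight R R R' B A z).2 := fun z ↦ by
    induction z using TensorProduct.induction_on with
    | zero => simp
    | tmul r z => obtain ⟨b, a⟩ := z; simp [d, pr', π', TensorProduct.tmul_sub]
    | add y z hy hz => simp only [map_add, hy, hz, Prod.fst_add, Prod.snd_add]; abel
  have hexT := lTensor_exact R' hex hs
  -- faithful flatness of `B → A ⧸ I`
  have : Module.FaithfullyFlat B (A ⧸ I) := Module.FaithfullyFlat.of_comap_surjective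
    (by
      have : FaithfulSMul B (A ⧸ I) := (faithfulSMul_iff_algebraMap_injective B (A ⧸ I)).mpr hinj
      exact Algebra.IsIntegral.comap_surjective B (A ⧸ I))
  have hp' : Function.Injective pr' := by
    have hsq : ∀ z : TensorProduct R R' B, TensorProduct.comm R (A ⧸ I) R'
        (TensorProduct.AlgebraTensorModule.cancelBaseChange R B B (A ⧸ I) R'
          ((1 : A ⧸ I) ⊗ₜ[B] (TensorProduct.comm R R' B z))) = pr' z := fun z ↦ by
      induction z using TensorProduct.induction_on with
      | zero => simp
      | tmul r b => simp [pr', p, Algebra.smul_def]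
      | add y z hy hz => simp only [map_add, TensorProduct.tmul_add, hy, hz]
    intro y z h
    rw [← hsq, ← hsq] at h
    exact (TensorProduct.comm R R' B).injective (Module.FaithfullyFlat.tensorProduct_mk_injective
      (A := B) (B := A ⧸ I) (TensorProduct R B R') ((LinearEquiv.injective _) ((LinearEquiv.injective _) h)))
  refine ⟨(injective_iff_map_eq_zero _).mpr fun x hx ↦ ?_, fun b a hba ↦ ?_⟩
  · have h0 := hexT.apply_apply_eq_zero x
    rw [hd, hpair, hx, map_zero, sub_zero] at h0
    have hb0 : fb x = 0 := hp' (h0.trans (map_zero pr').symm)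
    apply hval
    apply (TensorProduct.prodRight R R R' B A).injective
    rw [hpair, hb0, hx, map_zero, map_zero]
    rfl
  · obtain ⟨x, hx⟩ := (hexT ((TensorProduct.prodRight R R R' B A).symm (b, a))).mp (by
      rw [hd, LinearEquiv.apply_symm_apply]
      exact sub_eq_zero.mpr hba)
    have := congrArg (TensorProduct.prodRight R R R' B A) hx
    rw [hpair, LinearEquiv.apply_symm_apply, Prod.mk.injEq] at this
    exact ⟨x, this⟩

end Groth.Agent.S14086
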