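import Groth.Statements.S14091
import Mathlib.RingTheory.Ideal.Cotangent
import Mathlib.FieldTheory.IsAlgClosed.Basic
import Mathlib.RingTheory.IsAdjoinRoot
import Mathlib.RingTheory.Artinian.Ring

set_option autoImplicit false
universe u
open ArSing

namespace Groth.Agent.S14091

open Polynomial in
/-- Over an algebraically closed field k, a finite local k-algebra B whose cotangent space m/m^2 has
dimension at most one over the residue field is isomorphic, as a k-algebra, to k[t]/(t^n) with n =
dim_k B (curvilinear pointed algebras of degree n have a single isomorphism class). -/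
theorem result (k B : Type u) [Field k] [IsAlgClosed k]
    [CommRing B] [IsLocalRing B] [Algebra k B] [Module.Finite k B]
    (hcurv : Module.finrank (IsLocalRing.ResidueField B) (IsLocalRing.CotangentSpace B) ≤ 1) :
    Nonempty (B ≃ₐ[k] (Polynomial k ⧸ Ideal.span {(X : Polynomial k) ^ Module.finrank k B})) := by
  open Polynomial in
  haveI : IsArtinianRing B := isArtinian_of_tower k (inferInstance : IsArtinian k B)
  haveI : IsNoetherianRing B := isNoetherian_of_tower k (inferInstance : IsNoetherian k B)
  obtain ⟨⟨x, hx⟩⟩ := IsLocalRing.finrank_cotangentSpace_le_one_iff.1 hcurv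
  obtain ⟨N, hN⟩ := IsArtinianRing.isNilpotent_jacobson_bot (R := B)
  rw [IsLocalRing.jacobson_eq_maximalIdeal ⊥ bot_ne_top, hx] at hN
  have hxN : x ^ N = 0 := by
    rw [← Ideal.mem_bot, ← Ideal.zero_eq_bot, ← hN]
    exact Ideal.pow_mem_pow (Submodule.mem_span_singleton_self x) N
  let φ : k[X] →ₐ[k] B := aeval x
  haveI : Module.Finite k (IsLocalRing.ResidueField B) :=
    Module.Finite.of_surjective (Ideal.Quotient.mkₐ k (IsLocalRing.maximalIdeal B)).toLinearMap Ideal.Quotient.mk_surjective
  have hstep : ∀ j b, ∃ p, b - φ p ∈ Ideal.span {x ^ j} := by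
    intro j
    induction j with
    | zero => intro b; exact ⟨0, by simp⟩
    | succ j ih =>
      intro b
      obtain ⟨c, hc⟩ := (IsAlgClosed.algebraMap_bijective_of_isIntegral (k := k) (K := IsLocalRing.ResidueField B)).2
        (IsLocalRing.residue B b)
      have hm : b - algebraMap k B c ∈ IsLocalRing.maximalIdeal B := by
        rw [← IsLocalRing.residue_eq_zero_iff, map_sub, sub_eq_zero, ← hc]
        rfl
      rw [hx] at hm
      obtain ⟨b', hb'⟩ := Submodule.mem_span_singleton.1 hm
      obtain ⟨p, hp⟩ := ih b'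
      obtain ⟨d, hd⟩ := Ideal.mem_span_singleton'.1 hp
      refine ⟨C c + p * X, Ideal.mem_span_singleton'.2 ⟨d, ?_⟩⟩
      rw [map_add, map_mul, show φ X = x from aeval_X x, show φ (C c) = algebraMap k B c from aeval_C x c,
        ← sub_sub, ← hb', smul_eq_mul, ← sub_mul, ← hd, pow_succ, mul_assoc]
  have hsurj : Function.Surjective φ := fun b => by
    obtain ⟨p, hp⟩ := hstep N b
    rw [hxN, Ideal.span_singleton_eq_bot.2 rfl, Ideal.mem_bot, sub_eq_zero] at hp
    exact ⟨p, hp.symm⟩
  obtain ⟨g, hg⟩ : ∃ g, RingHom.ker φ = Ideal.span {g} := (IsPrincipalIdealRing.principal (RingHom.ker φ)).principal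
  have hgX : g ∣ (X : k[X]) ^ N := by
    rw [← Ideal.mem_span_singleton, ← hg, RingHom.mem_ker, map_pow, show φ X = x from aeval_X x, hxN]
  obtain ⟨j, -, hj⟩ := (dvd_prime_pow Polynomial.prime_X N).1 hgX
  rw [Ideal.span_singleton_eq_span_singleton.2 hj] at hg
  let e := (Ideal.quotientKerAlgEquivOfSurjective hsurj).symm.trans (Ideal.quotientEquivAlgOfEq k hg)
  have hfr : Module.finrank k B = j := by
    rw [e.toLinearEquiv.finrank_eq, finrank_quotient_span_eq_natDegree, natDegree_X_pow]
  rw [hfr]
  exact ⟨e⟩

end Groth.Agent.S14091
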