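import Groth.Statements.S14087
import Groth.Agent.S14091
import Mathlib.RingTheory.Flat.FaithfullyFlat.Algebra

set_option autoImplicit false
universe u
open ArSing

namespace Groth.Agent.S14087

open Polynomial

variable {k : Type u} [Field k]

theorem exists_pow_dvd {n : ℕ} (b : k[X] ⧸ Ideal.span {(X : k[X]) ^ n}) :
    ∃ i ≤ n, ∃ w, IsUnit w ∧ b = Ideal.Quotient.mk _ X ^ i * w := by
  set q := Ideal.Quotient.mk (Ideal.span {(X : k[X]) ^ n})
  have hnil : IsNilpotent (q X) := ⟨n, by rw [← map_pow, Ideal.Quotient.eq_zero_iff_mem]; exact Ideal.mem_span_singleton_self _⟩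
  obtain ⟨p, rfl⟩ := Ideal.Quotient.mk_surjective b
  by_cases hp : p = 0
  · refine ⟨n, le_rfl, 1, isUnit_one, ?_⟩
    rw [hp, map_zero, mul_one, ← map_pow, eq_comm, Ideal.Quotient.eq_zero_iff_mem]
    exact Ideal.mem_span_singleton_self _
  obtain ⟨r, hr, hndvd⟩ := p.exists_eq_pow_rootMultiplicity_mul_and_not_dvd hp 0
  rw [map_zero, sub_zero] at hr hndvd
  by_cases hi : n ≤ p.rootMultiplicity 0
  · refine ⟨n, le_rfl, 1, isUnit_one, ?_⟩
    rw [mul_one, ← map_pow]
    refine Ideal.Quotient.eq.2 (sub_mem ?_ (Ideal.mem_span_singleton_self _))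
    rw [hr]
    exact Ideal.mul_mem_right _ _ (Ideal.mem_span_singleton.2 (pow_dvd_pow X hi))
  refine ⟨_, le_of_not_ge hi, q r, ?_, by conv_lhs => rw [hr, map_mul, map_pow]⟩
  rw [X_dvd_iff] at hndvd
  rw [show q r = q (r - C (r.coeff 0)) + q (C (r.coeff 0)) by rw [← map_add, sub_add_cancel]]
  have hu : IsUnit (q (C (r.coeff 0))) := ((Ne.isUnit hndvd).map C).map q
  have hn : IsNilpotent (q (r - C (r.coeff 0))) := by
    obtain ⟨s, hs⟩ : (X : k[X]) ∣ r - C (r.coeff 0) := X_dvd_iff.2 (by simp)
    rw [hs, map_mul]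
    exact Commute.isNilpotent_mul_right (Commute.all _ _) hnil
  exact hn.isUnit_add_right_of_commute hu (Commute.all _ _)

open Polynomial in
/-- Over an algebraically closed field k, if B = k[t]/(t^n) with n ≥ 1 is flat over a k-subalgebra A ⊆ B
(a finite flat extension of pointed finite algebras with curvilinear top), then A is curvilinear
too: A is isomorphic as a k-algebra to k[t]/(t^m) for some m. -/
theorem result (k : Type u) [Field k] [IsAlgClosed k]
    (n : ℕ) (hn : 0 < n)
    (A : Subalgebra k (Polynomial k ⧸ Ideal.span {(X : Polynomial k) ^ n}))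
    [Module.Flat A (Polynomial k ⧸ Ideal.span {(X : Polynomial k) ^ n})] :
    ∃ m : ℕ, Nonempty (A ≃ₐ[k] (Polynomial k ⧸ Ideal.span {(X : Polynomial k) ^ m})) := by
  set B := Polynomial k ⧸ Ideal.span {(X : Polynomial k) ^ n}
  set t : B := Ideal.Quotient.mk _ X
  haveI : Module.Finite k B := (monic_X_pow n).finite_quotient
  haveI : Module.Finite k A := inferInstanceAs (Module.Finite k A.toSubmodule)
  haveI : IsNoetherianRing A := isNoetherian_of_tower k (inferInstance : IsNoetherian k A)
  haveI : Nontrivial B := Ideal.Quotient.nontrivial_iff.2 fun h => by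
    have h2 := natDegree_eq_zero_of_isUnit (Ideal.span_singleton_eq_top.1 h)
    rw [natDegree_X_pow] at h2
    omega
  have ht : IsNilpotent t := ⟨n, by
    rw [← map_pow, Ideal.Quotient.eq_zero_iff_mem]; exact Ideal.mem_span_singleton_self _⟩
  haveI : IsLocalRing B := IsLocalRing.of_isUnit_or_isUnit_one_sub_self fun b => by
    obtain ⟨i, -, w, hw, rfl⟩ := exists_pow_dvd b
    rcases i with _ | i
    · exact Or.inl (by simpa using hw)
    · refine Or.inr (IsNilpotent.isUnit_one_sub ?_)
      rw [pow_succ', mul_assoc]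
      exact Commute.isNilpotent_mul_right (Commute.all _ _) ht
  have hA : ∀ a : A, IsUnit (a : B) → IsUnit a := fun a ha => by
    have hinj : Function.Injective (LinearMap.mulLeft k a) := fun p q h => by
      have h' : (a : B) * p = a * q := congrArg Subtype.val h
      exact Subtype.ext (ha.mul_left_cancel h')
    obtain ⟨c, hc⟩ := LinearMap.surjective_of_injective hinj 1
    exact IsUnit.of_mul_eq_one c hc
  haveI : IsLocalRing A := IsLocalRing.of_isUnit_or_isUnit_one_sub_self fun a =>
    (IsLocalRing.isUnit_or_isUnit_one_sub_self (a : B)).imp (hA a) (hA (1 - a))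
  haveI : IsLocalHom (algebraMap A B) := ⟨hA⟩
  haveI := Module.FaithfullyFlat.of_flat_of_isLocalHom (A := A) (B := B)
  classical
  have hex : ∃ i, ∃ f ∈ IsLocalRing.maximalIdeal A, ∃ w : B, IsUnit w ∧ (f : B) = t ^ i * w := by
    obtain ⟨i, -, w, hw, h⟩ := exists_pow_dvd ((0 : A) : B)
    exact ⟨i, 0, zero_mem _, w, hw, h⟩
  obtain ⟨f, hf, w, hw, hfw⟩ := Nat.find_spec hex
  have hprin : IsLocalRing.maximalIdeal A = Ideal.span {f} := by
    refine le_antisymm (fun a ha => ?_) (Ideal.span_le.2 (Set.singleton_subset_iff.2 hf))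
    obtain ⟨i, -, w', hw', haw⟩ := exists_pow_dvd (a : B)
    have hle := Nat.find_min' hex ⟨a, ha, w', hw', haw⟩
    have hmem : (a : B) ∈ (Ideal.span {f}).map (algebraMap A B) := by
      rw [Ideal.map_span, Set.image_singleton, Ideal.mem_span_singleton]
      show (f : B) ∣ a
      rw [hfw, haw, IsUnit.mul_right_dvd hw, IsUnit.dvd_mul_right hw']
      exact pow_dvd_pow _ hle
    rw [← Ideal.comap_map_eq_self_of_faithfullyFlat (B := B) (Ideal.span {f})]
    exact hmem
  exact ⟨_, Groth.Agent.S14091.result k A (IsLocalRing.finrank_cotangentSpace_le_one_iff.2 ⟨⟨f, hprin⟩⟩)⟩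

end Groth.Agent.S14087
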