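import Groth.Statements.S14088
import Mathlib.Algebra.BigOperators.Intervals
import Mathlib.Algebra.BigOperators.Ring.Finset
import Mathlib.Tactic.LinearCombination
import Mathlib.Tactic.Ring

set_option autoImplicit false
universe u
open ArSing

namespace Groth.Agent.S14088

open Finset

theorem core {A : Type u} [CommRing A] (h τ : A) (m : ℕ) : ∀ n, n ≤ m →
    (∏ i ∈ range n, (h + (i : A) * τ) ^ 2) * ∏ i ∈ Ico n m, (h + (i : A) * τ) =
      ∑ s ∈ range (n + 1), (-1 : A) ^ s * (Nat.factorial s : A) * (Nat.choose n s : A) *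
        (Nat.choose m s : A) * τ ^ s * ∏ i ∈ range (m + n - s), (h + (i : A) * τ) := by
  intro n
  induction n with
  | zero => intro; simp
  | succ n ih =>
    intro hn
    have ih := ih (Nat.le_of_succ_le hn)
    set H : ℕ → A := fun i => h + (i : A) * τ
    have e1 : (∏ i ∈ range (n + 1), H i ^ 2) * ∏ i ∈ Ico (n + 1) m, H i =
        ((∏ i ∈ range n, H i ^ 2) * ∏ i ∈ Ico n m, H i) * H n := by
      rw [Finset.prod_range_succ, Finset.prod_eq_prod_Ico_succ_bot (show n < m by omega) H]
      ring
    show (∏ i ∈ range (n + 1), H i ^ 2) * ∏ i ∈ Ico (n + 1) m, H i = _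
    rw [e1, ih, Finset.sum_mul]
    let c : ℕ → ℕ → A := fun N s => (-1 : A) ^ s * (Nat.factorial s : A) * (Nat.choose N s : A) * (Nat.choose m s : A) * τ ^ s
    let Q : ℕ → A := fun M => ∏ i ∈ range M, H i
    have e2 : ∀ s ∈ range (n + 1), c n s * Q (m + n - s) * H n =
        c n s * Q (m + n + 1 - s) - ((m : A) - s) * c n s * τ * Q (m + n - s) := by
      intro s hs
      have hs' : s ≤ n := by simpa [Nat.lt_succ_iff] using hs
      have h3 : Q (m + n + 1 - s) = Q (m + n - s) * H (m + n - s) := by
        rw [show m + n + 1 - s = (m + n - s) + 1 by omega]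
        exact Finset.prod_range_succ _ _
      rw [h3]
      simp only [H]
      rw [Nat.cast_sub (show s ≤ m + n by omega), Nat.cast_add]
      ring
    show ∑ s ∈ range (n + 1), c n s * Q (m + n - s) * H n = ∑ s ∈ range (n + 1 + 1), c (n + 1) s * Q (m + (n + 1) - s)
    rw [Finset.sum_congr rfl e2, Finset.sum_sub_distrib]
    have hc0 : c n (n + 1) = 0 := by simp [c]
    have e3 : ∑ s ∈ range (n + 1), c n s * Q (m + n + 1 - s) =
        ∑ s ∈ range (n + 2), c n s * Q (m + n + 1 - s) := by
      rw [Finset.sum_range_succ _ (n + 1), hc0, zero_mul, add_zero]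
    rw [e3, Finset.sum_range_succ', Finset.sum_range_succ' _ (n + 1), add_sub_right_comm,
      ← Finset.sum_sub_distrib]
    refine congrArg₂ (· + ·) (Finset.sum_congr rfl fun s hs => ?_) (by simp [c, ← add_assoc])
    have hs' : s ≤ n := by simpa [Nat.lt_succ_iff] using hs
    rw [show m + n + 1 - (s + 1) = m + n - s by omega, show m + (n + 1) - (s + 1) = m + n - s by omega,
      ← sub_mul]
    congr 1
    have hch : ((m.choose (s + 1) : ℕ) : A) * ((s : A) + 1) = (m.choose s : A) * ((m : A) - s) := by
      have := congrArg (Nat.cast : ℕ → A) (Nat.choose_succ_right_eq m s)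
      rw [Nat.cast_mul, Nat.cast_mul, Nat.cast_sub (show s ≤ m by omega)] at this
      push_cast at this
      exact this
    simp only [c, Nat.choose_succ_succ, Nat.factorial_succ, Nat.cast_mul, Nat.cast_add, Nat.cast_succ, Nat.succ_eq_add_one]
    linear_combination ((-1 : A) ^ s * (Nat.factorial s : A) * (Nat.choose n s : A) * τ ^ (s + 1)) * hch

/-- The identity behind the torus-equivariant classes h_i = h_0 + i τ of the coordinate hyperplanes of a
projective space of binary forms, stated in an arbitrary commutative ring: for n ≤ m, (h_0 ⋯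
h_(n-1))^2 · h_n ⋯ h_(m-1) equals the sum over s = 0, …, n of (-1)^s s! (n choose s) (m choose s)
τ^s h_0 ⋯ h_(m+n-s-1), where h_i = h + i τ. (The published statement is in the equivariant Chow ring
of that projective space; only the relations h_i = h_j + (j - i) τ are used, so it holds in any
commutative ring.) -/
theorem result (A : Type u) [CommRing A] (h τ : A) (n m : ℕ) (hnm : n ≤ m) :
    (∏ i ∈ Finset.range n, (h + (i : A) * τ) ^ 2) * ∏ i ∈ Finset.Ico n m, (h + (i : A) * τ) =
      ∑ s ∈ Finset.range (n + 1), (-1 : A) ^ s * (Nat.factorial s : A) * (Nat.choose n s : A) *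
        (Nat.choose m s : A) * τ ^ s * ∏ i ∈ Finset.range (m + n - s), (h + (i : A) * τ) := by
  exact core h τ m n hnm

end Groth.Agent.S14088
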