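import Groth.Statements.S1409
import Mathlib.RingTheory.Ideal.GoingDown
import Mathlib.RingTheory.Ideal.MinimalPrime.Localization
import Mathlib.RingTheory.Flat.FaithfullyFlat.Basic
import Mathlib.Algebra.Colimit.Ring
import Mathlib.Data.Set.Card
import Mathlib.RingTheory.RingHom.Flat

set_option autoImplicit false
set_option backward.isDefEq.respectTransparency false
set_option linter.style.haveILetI false
universe u
open FlatMor
set_option quotPrecheck false

namespace Groth.Agent.S1409

variable {ι : Type u} [Preorder ι] [IsDirected ι (· ≤ ·)] [Nonempty ι] (G : ι → Type u) [∀ i, CommRing (G i)]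
    (f : ∀ i j, i ≤ j → G i →+* G j) [DirectedSystem G fun i j h => f i j h]

local notation "𝐑" => Ring.DirectLimit G fun i j h => ⇑(f i j h)
local notation "𝐨" => Ring.DirectLimit.of G (fun i j h => ⇑(f i j h))

theorem comap_mem_minimalPrimes (hflat : ∀ i j (h : i ≤ j), (f i j h).Flat)
    (hinj : ∀ i j (h : i ≤ j), Function.Injective (f i j h)) (P : Ideal 𝐑) (hP : P ∈ minimalPrimes 𝐑) (i : ι) :
    P.comap (𝐨 i) ∈ minimalPrimes (G i) := by
  haveI := hP.1.1
  refine ⟨⟨Ideal.IsPrime.comap _, bot_le⟩, fun q hq hle => ?_⟩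
  haveI := hq.1
  obtain ⟨Q, hQ, -, hdisj⟩ := Ideal.exists_le_prime_disjoint (⊥ : Ideal 𝐑)
    (P.primeCompl ⊔ q.primeCompl.map (𝐨 i)) (by
      rw [Set.disjoint_left]
      intro z hz hzS
      obtain ⟨s, hs, _, ⟨x, hx, rfl⟩, hsx⟩ := Submonoid.mem_sup.1 hzS
      rw [Ideal.mem_bot.1 hz] at hsx
      obtain ⟨j, s₀, rfl⟩ := Ring.DirectLimit.exists_of s
      obtain ⟨k, hjk, hik⟩ := exists_ge_ge j i
      have h0 : f j k hjk s₀ * f i k hik x = 0 := by
        refine Ring.DirectLimit.of_injective f hinj k ?_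
        rw [map_zero, map_mul, Ring.DirectLimit.of_f, Ring.DirectLimit.of_f]
        exact hsx
      letI := (f i k hik).toAlgebra
      haveI : Module.Flat (G i) (G k) := hflat i k hik
      let Qk := P.comap (𝐨 k)
      haveI : Qk.LiesOver (P.comap (𝐨 i)) := ⟨by
        ext y
        show 𝐨 i y ∈ P ↔ 𝐨 k (f i k hik y) ∈ P
        rw [Ring.DirectLimit.of_f]⟩
      obtain ⟨P', hP'le, hP', hP'over⟩ := Ideal.exists_ideal_le_liesOver_of_le Qk hle
      rcases hP'.mem_or_mem (show f j k hjk s₀ * f i k hik x ∈ P' by rw [h0]; exact zero_mem _) with h | h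
      · refine hs ?_
        rw [← Ring.DirectLimit.of_f hjk]
        exact hP'le h
      · exact hx (by rw [hP'over.over]; exact h))
  have hQP : Q ≤ P := fun z hz => by
    by_contra h
    exact Set.disjoint_left.1 hdisj hz (Submonoid.mem_sup_left h)
  intro y hy
  by_contra hyq
  exact Set.disjoint_left.1 hdisj (hP.2 ⟨hQ, bot_le⟩ hQP hy)
    (Submonoid.mem_sup_right ⟨y, hyq, rfl⟩)

theorem main (hflat : ∀ i j (h : i ≤ j), (f i j h).Flat)
    (hinj : ∀ i j (h : i ≤ j), Function.Injective (f i j h)) :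
    (minimalPrimes 𝐑).encard = ⨆ i, (minimalPrimes (G i)).encard := by
  classical
  apply le_antisymm
  · have hfin : ∀ F : Finset (Ideal 𝐑), (↑F : Set (Ideal 𝐑)) ⊆ minimalPrimes 𝐑 →
        (F.card : ℕ∞) ≤ ⨆ i, (minimalPrimes (G i)).encard := by
      intro F hF
      have hsep : ∀ p : (↥F) × (↥F), ∃ i : ι, p.1.1.comap (𝐨 i) = p.2.1.comap (𝐨 i) → p.1.1 ≤ p.2.1 := by
        rintro ⟨⟨P, hP⟩, ⟨Q, hQ⟩⟩
        by_cases h : P ≤ Q
        · exact ⟨Classical.arbitrary ι, fun _ => h⟩
        obtain ⟨z, hzP, hzQ⟩ := SetLike.not_le_iff_exists.1 h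
        obtain ⟨i, x, rfl⟩ := Ring.DirectLimit.exists_of z
        exact ⟨i, fun he => absurd (he.le hzP : x ∈ Q.comap (𝐨 i)) hzQ⟩
      choose g hg using hsep
      obtain ⟨i, hi⟩ := Finset.exists_le (Finset.univ.image g)
      refine le_trans ?_ (le_iSup (fun i => (minimalPrimes (G i)).encard) i)
      rw [← Set.encard_coe_eq_coe_finsetCard]
      refine (Set.InjOn.encard_image ?_).symm.le.trans (Set.encard_le_encard (t := minimalPrimes (G i))
        (s := (fun P : Ideal 𝐑 => P.comap (𝐨 i)) '' ↑F) ?_)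
      · intro P hP Q hQ he
        have key : ∀ (A B : ↥F), A.1.comap (𝐨 i) = B.1.comap (𝐨 i) → A.1 ≤ B.1 := fun A B he => by
          refine hg (A, B) ?_
          have hle := hi _ (Finset.mem_image_of_mem g (Finset.mem_univ (A, B)))
          ext y
          have := SetLike.ext_iff.1 he (f _ _ hle y)
          simpa only [Ideal.mem_comap, Ring.DirectLimit.of_f] using this
        exact le_antisymm (key ⟨P, hP⟩ ⟨Q, hQ⟩ he) (key ⟨Q, hQ⟩ ⟨P, hP⟩ he.symm)
      · rintro _ ⟨P, hP, rfl⟩
        exact comap_mem_minimalPrimes G f hflat hinj P (hF hP) i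
    by_cases h : (minimalPrimes 𝐑).Finite
    · rw [h.encard_eq_coe_toFinset_card]
      exact hfin _ (by simp)
    · have : (⨆ i, (minimalPrimes (G i)).encard) = ⊤ := by
        refine ENat.eq_top_iff_forall_ge.2 fun n => ?_
        obtain ⟨F, hF, hc⟩ := Set.Infinite.exists_subset_card_eq h n
        exact hc ▸ hfin F hF
      rw [this]; exact le_top
  · refine iSup_le fun i => ?_
    refine (Set.encard_le_encard (t := (fun P : Ideal 𝐑 => P.comap (𝐨 i)) '' minimalPrimes 𝐑) ?_).trans
      (Set.encard_image_le _ _)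
    intro p hp
    refine Ideal.minimalPrimes_comap_subset (𝐨 i) ⊥ ?_
    rw [Ideal.comap_bot_of_injective _ (Ring.DirectLimit.of_injective f hinj i)]
    exact hp

/-- Let (R_i) be a directed system of commutative rings whose transition maps are faithfully flat, with
colimit R. Then, counting in the extended natural numbers, the minimal primes of R are exactly as
numerous as the supremum over i of the count of minimal primes of R_i. -/
theorem result {ι : Type u} [Preorder ι] [IsDirected ι (· ≤ ·)] [Nonempty ι] (G : ι → Type u) [∀ i, CommRing (G i)]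
    (f : ∀ i j, i ≤ j → G i →+* G j) [DirectedSystem G fun i j h => f i j h]
    (hf : ∀ i j (h : i ≤ j), letI := (f i j h).toAlgebra
      Module.FaithfullyFlat (G i) (G j)) :
    (minimalPrimes (Ring.DirectLimit G fun i j h => ⇑(f i j h))).encard = ⨆ i, (minimalPrimes (G i)).encard := by
  refine main G f (fun i j h => ?_) (fun i j h => ?_)
  · letI := (f i j h).toAlgebra
    haveI := hf i j h
    show Module.Flat (G i) (G j)
    infer_instance
  · letI := (f i j h).toAlgebra
    haveI := hf i j h
    exact FaithfulSMul.algebraMap_injective (G i) (G j)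

end Groth.Agent.S1409
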