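import Groth.Statements.S14090
import Groth.Agent.H11Strict.FreeExt

set_option autoImplicit false
universe u
open CategoryTheory AlgebraicGeometry
open BlowUp

namespace Groth.Agent.S14090

/-- Let A → B be an injective ring homomorphism and I an ideal of A such that the ideal I·B of B is
contained in the image of I (so I is an ideal of B as well) and I·B is generated by one
nonzerodivisor of B (I is free of rank one over B). Then Spec B → Spec A is a blowing up of Spec A
in I. (This is the affine statement behind recovering a pair (X̃, D̃), D̃ an effective Cartier
divisor finite flat over D, as the blow-up of the pushout X̃ ⨿_D̃ D along D.) -/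
theorem result (A B : Type u) [CommRing A] [CommRing B] [Algebra A B]
    (hinj : Function.Injective (algebraMap A B)) (I : Ideal A)
    (hIB : (Ideal.map (algebraMap A B) I : Set B) ⊆ algebraMap A B '' (I : Set A))
    (f : B) (hf : f ∈ nonZeroDivisors B) (hgen : Ideal.map (algebraMap A B) I = Ideal.span {f}) :
    BlowUp.IsBlowUp (Spec.map (CommRingCat.ofHom (algebraMap A B))) (Curv2.idealSheaf A I) := by
  exact Groth.Agent.H11Strict.isBlowUp_Spec I B hinj hIB f hf hgen

end Groth.Agent.S14090
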