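import Groth.Statements.S14092
import Groth.Agent.H29CurveDual.Subcurve.Generation
import Groth.Agent.H29Curve.GenusPush
import Groth.Agent.H26TF1.Beta
import Groth.Agent.H22Alg.DevLength
import Groth.Agent.H22Alg.RedIntegral
import Groth.Agent.H22Alg.PB.Local

set_option autoImplicit false
set_option linter.style.haveILetI false
universe u
open CategoryTheory CategoryTheory.Limits AlgebraicGeometry TopologicalSpace
open Curv2

namespace Groth.Agent.S14092

open Groth.Agent.H29RR Groth.Agent.H29CurveDual Groth.Agent.H29CurveDual.Subcurve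

attribute [local instance 10000] H10Coh.hasSheafifyAb H10Coh.hasWeakSheafifyAb H10Coh.hasExtAb H10Coh.enoughInjAb

variable {k : Type u} [Field k] {X : Scheme.{u}} [X.Over (Spec (CommRingCat.of k))]
  [IsProper (X ↘ Spec (CommRingCat.of k))]

/-- The degree on a closed subscheme is the twist defect of its structure sheaf. -/
theorem deg_eq_ψ {L : X.Modules} (hL : PicF.IsInvertible L) (J : X.IdealSheafData) :
    @Curv2.deg k _ J.subscheme ⟨J.subschemeι ≫ (X ↘ Spec (CommRingCat.of k))⟩
        ((Scheme.Modules.pullback J.subschemeι).obj L) 1 =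
      H22Alg.DegBundle.ψ k L 1 ((Coh.push J.subschemeι).obj (Coh.structureModule J.subscheme)) := by
  letI : J.subscheme.Over (Spec (CommRingCat.of k)) := ⟨J.subschemeι ≫ (X ↘ Spec (CommRingCat.of k))⟩
  haveI := isNoetherian_of_proper (k := k) (X := X)
  have hEf : FlatMod.IsFinLocFree L := H28Pinch.isFinLocFree_of_isInvertible hL
  haveI : IsLocallyNoetherian J.subscheme := LocallyOfFiniteType.isLocallyNoetherian J.subschemeι
  let O := Coh.structureModule J.subscheme
  have hiso := H10Coh.PF.isIso_ψ_of_isFinLocFree J.subschemeι hEf O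
  let eP : CohB1.tensorMod ((Coh.push J.subschemeι).obj O) L ≅
      (Coh.push J.subschemeι).obj (CohB1.tensorMod O ((Scheme.Modules.pullback J.subschemeι).obj L)) :=
    @asIso _ _ _ _ _ hiso
  haveI : O.IsQuasicoherent := H10Coh.isQuasicoherent_unit
  haveI : (CohB1.tensorMod O ((Scheme.Modules.pullback J.subschemeι).obj L)).IsQuasicoherent :=
    (H10Coh.TT.isCoh_tensorMod (H10Coh.isCoh_structureModule' _)
      (H16Derived.KFlat.Stalk.isCoh_of_isFinLocFree
        (H16Derived.KFlat.Stalk.isFinLocFree_pullback J.subschemeι hEf))).1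
  show _ - _ = _ - _
  rw [H25Euler.euler_congr eP, H28Int.Push.euler_push k J.subschemeι rfl,
    H28Int.Push.euler_push k J.subschemeι rfl,
    H25Euler.euler_congr (H10Coh.Tw.leftUnitIso ((Scheme.Modules.pullback J.subschemeι).obj L))]

/-- Nonnegative degrees on the integral curves give nonnegative degree on every closed subscheme. -/
theorem deg_nonneg (hdim : topologicalKrullDim X ≤ 1) {L : X.Modules} (hL : PicF.IsInvertible L)
    (hdeg : ∀ C : X.IdealSheafData, IsIntegral C.subscheme → topologicalKrullDim (C.support : Set X) = 1 →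
      0 ≤ @Curv2.deg k _ C.subscheme ⟨C.subschemeι ≫ (X ↘ Spec (CommRingCat.of k))⟩
        ((Scheme.Modules.pullback C.subschemeι).obj L) 1) (J : X.IdealSheafData) :
    0 ≤ @Curv2.deg k _ J.subscheme ⟨J.subschemeι ≫ (X ↘ Spec (CommRingCat.of k))⟩
        ((Scheme.Modules.pullback J.subschemeι).obj L) 1 := by
  haveI := isNoetherian_of_proper (k := k) (X := X)
  have hr := H22Alg.PB.rank_one_of_isInvertible hL
  rw [deg_eq_ψ hL J, H22Alg.DevLength.eq_finsum (H22Alg.DegBundle.isAddFn_ψ k hr)
    (H22Alg.DegBundle.ψ_eq_zero k hr) (LeadDev.isCoh_push_structure J.subschemeι)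
    ((Topology.IsInducing.subtypeVal.topologicalKrullDim_le).trans hdim)]
  refine finsum_nonneg fun ξ => ?_
  split_ifs with hξ
  · refine mul_nonneg (Int.natCast_nonneg _) ?_
    have h := hdeg _ (H22Alg.isIntegral_vanishingIdeal_closure ξ)
      (by rw [Scheme.IdealSheafData.coe_support_vanishingIdeal]; exact hξ)
    rw [deg_eq_ψ hL] at h
    exact h
  · exact le_rfl

/-- First cohomology vanishes when every connected subcurve has degree at least twice its genus. -/
theorem h1_vanish [IsReduced X] [ConnectedSpace X] (hdim : topologicalKrullDim X = 1)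
    {L : X.Modules} (hL : PicF.IsInvertible L)
    (h : ∀ J : X.IdealSheafData, IsReduced J.subscheme → ConnectedSpace J.subscheme →
      topologicalKrullDim J.subscheme = 1 →
      2 * (@Curv2.genus k _ J.subscheme ⟨J.subschemeι ≫ (X ↘ (Spec (CommRingCat.of k)))⟩ : ℤ) ≤
        @Curv2.deg k _ J.subscheme ⟨J.subschemeι ≫ (X ↘ (Spec (CommRingCat.of k)))⟩
          ((Scheme.Modules.pullback J.subschemeι).obj L) 1) :
    Subsingleton (Coh.HH X L 1) := by
  classical
  haveI := isNoetherian_of_proper (k := k) (X := X)
  have hLc := H16Derived.KFlat.Stalk.isCoh_of_isFinLocFree (H28Pinch.isFinLocFree_of_isInvertible hL)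
  have hfact : ∀ J : X.IdealSheafData, IsReduced J.subscheme → ConnectedSpace J.subscheme →
      topologicalKrullDim J.subscheme = 1 →
      letI : J.subscheme.Over (Spec (CommRingCat.of k)) := ⟨J.subschemeι ≫ (X ↘ (Spec (CommRingCat.of k)))⟩
      0 < Module.finrank k (Coh.HH J.subscheme (Coh.structureModule J.subscheme) 0) ∧
        Curv2.euler k J.subscheme (Coh.structureModule J.subscheme) =
          (Module.finrank k (Coh.HH J.subscheme (Coh.structureModule J.subscheme) 0) : ℤ) -
            Curv2.genus k J.subscheme := by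
    intro J _ _ hJd
    letI : J.subscheme.Over (Spec (CommRingCat.of k)) := ⟨J.subschemeι ≫ (X ↘ (Spec (CommRingCat.of k)))⟩
    haveI : IsProper (J.subscheme ↘ Spec (CommRingCat.of k)) :=
      inferInstanceAs (IsProper (J.subschemeι ≫ (X ↘ Spec (CommRingCat.of k))))
    refine ⟨?_, euler_eq_sub (k := k) hJd.le _⟩
    haveI := H10Coh.finite_HH_proper k J.subscheme _ (H10Coh.isCoh_structureModule' J.subscheme) 0
    haveI : Nontrivial Γ(J.subscheme, ⊤) := by
      haveI : Nonempty (⊤ : J.subscheme.Opens) := ⟨⟨(Nonempty.some inferInstance : J.subscheme), trivial⟩⟩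
      exact J.subscheme.component_nontrivial ⊤
    haveI : Nontrivial (Coh.HH J.subscheme (Coh.structureModule J.subscheme) 0) :=
      haveI : Nontrivial Γ(Coh.structureModule J.subscheme, ⊤) := ‹Nontrivial Γ(J.subscheme, ⊤)›
      (sec (Coh.structureModule J.subscheme)).toEquiv.nontrivial
    exact Module.finrank_pos
  -- first cohomology vanishes
  rw [← not_nontrivial_iff_subsingleton]
  intro hn
  have hsupp : ∀ y : X, Subsingleton ((ClSub.quotMod (⊤ : X.IdealSheafData)).presheaf.stalk y) := fun y => by
    refine not_not.1 fun hy => ?_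
    have := (mem_support_quot (⊤ : X.IdealSheafData)).le hy
    simp at this
  haveI := H10Coh.epi_toSubscheme (⊤ : X.IdealSheafData)
  haveI : IsIso (ClSub.idealModι (⊤ : X.IdealSheafData)) :=
    isIso_of_bijective_stalks _ fun y => bijective_stalk_kernelι _ (hsupp y)
  let e : CohB1.tensorMod (ClSub.idealMod (⊤ : X.IdealSheafData)) L ≅ L :=
    PicGrp.tensorModIso (asIso (ClSub.idealModι (⊤ : X.IdealSheafData))) (Iso.refl L) ≪≫ H10Coh.Tw.leftUnitIso L
  obtain ⟨J, hJr, hJc, hJd, hle⟩ := Groth.Agent.S1605.result k X hdim L hL ⊤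
    (by
      have he : ((⊤ : X.IdealSheafData).support : Set X) = ∅ := by simp
      rw [he]; exact topologicalKrullDim_zero_of_discreteTopology _)
    ((hhIso (k := k) e 1).toEquiv.nontrivial)
  have h0 : Module.finrank k (Coh.HH X (ClSub.quotMod ((⊤ : X.IdealSheafData) ⊔ J)) 0) = 0 := by
    rw [top_sup_eq]
    have hz : (𝟙 (ClSub.quotMod (⊤ : X.IdealSheafData))) = 0 := (H16Derived.KFlat.Stalk.isZero_of_stalk fun y => by
      haveI : Subsingleton ((DerSch.stalkFunctor X y).obj (ClSub.quotMod (⊤ : X.IdealSheafData))) := hsupp y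
      exact ModuleCat.isZero_of_subsingleton _).eq_of_src _ _
    haveI : Subsingleton (Coh.HH X (ClSub.quotMod (⊤ : X.IdealSheafData)) 0) := subsingleton_of_forall_eq 0 fun v => by
      rw [← H29RR.hhlin_id (k := k) _ 0 v, hz, H29RR.hhlin_zero]
    exact Module.finrank_zero_of_subsingleton
  obtain ⟨hpos, hχ⟩ := hfact J hJr hJc hJd
  have := h J hJr hJc hJd
  rw [h0, hχ] at hle
  omega

/-- Fix an algebraically closed field k and a genus-0 nodal curve Z over k (connected, reduced, proper,
one-dimensional, at-worst-nodal singularities, h^1(O_Z) = 0) and L an invertible O_Z-module whose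
pullback to every irreducible component (integral closed subscheme of dimension one) has
non-negative degree. Then L is generated by global sections and H^1(Z, L) = 0. (The published
statement also includes converse and weaker implications — a section vanishing identically on no
component forces non-negative degrees, and global generation is equivalent to non-negative degrees;
only the two implications from non-negative degrees are asserted here.) -/
theorem result (k : Type u) [Field k] [IsAlgClosed k]
    (Z : Scheme.{u}) [Z.Over (Spec (CommRingCat.of k))] [IsProper (Z ↘ (Spec (CommRingCat.of k)))] [IsReduced Z]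
    [ConnectedSpace Z] (hdim : topologicalKrullDim Z = 1) (hnod : Curv2.AtWorstNodal k Z)
    (hg : Curv2.genus k Z = 0) (L : Z.Modules) (hL : PicF.IsInvertible L)
    (hdeg : ∀ C : Z.IdealSheafData, IsIntegral C.subscheme → topologicalKrullDim (C.support : Set Z) = 1 →
      0 ≤ @Curv2.deg k _ C.subscheme ⟨C.subschemeι ≫ (Z ↘ Spec (CommRingCat.of k))⟩
        ((Scheme.Modules.pullback C.subschemeι).obj L) 1) :
    Curv2.IsGloballyGenerated L ∧ Subsingleton (Coh.HH Z L 1) := by
  haveI := isNoetherian_of_proper (k := k) (X := Z)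
  have h : ∀ J : Z.IdealSheafData, IsReduced J.subscheme → ConnectedSpace J.subscheme →
      topologicalKrullDim J.subscheme = 1 →
      2 * (@Curv2.genus k _ J.subscheme ⟨J.subschemeι ≫ (Z ↘ (Spec (CommRingCat.of k)))⟩ : ℤ) ≤
        @Curv2.deg k _ J.subscheme ⟨J.subschemeι ≫ (Z ↘ (Spec (CommRingCat.of k)))⟩
          ((Scheme.Modules.pullback J.subschemeι).obj L) 1 := fun J _ _ _ => by
    letI : J.subscheme.Over (Spec (CommRingCat.of k)) := ⟨J.subschemeι ≫ (Z ↘ (Spec (CommRingCat.of k)))⟩
    haveI : IsFinite J.subschemeι := inferInstance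
    haveI : IsClosedImmersion (J.subschemeι ∣_ (⊤ : Z.Opens)) :=
      IsZariskiLocalAtTarget.restrict (P := @IsClosedImmersion) inferInstance ⊤
    have h1 := H29Curve.GenusPush.genus_le (k := k) hdim.le J.subschemeι rfl ⊤ (by simp)
    have h2 : Curv2.genus k J.subscheme = 0 := by omega
    rw [h2]
    simpa using deg_nonneg hdim.le hL hdeg J
  exact ⟨isGloballyGenerated_of_deg_ge_subcurves (k := k) hdim hL h, h1_vanish (k := k) hdim hL h⟩

end Groth.Agent.S14092
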