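import Groth.Statements.S14093
import Groth.Agent.H1CAlg.ArSing
import Mathlib.RingTheory.Flat.Basic

set_option autoImplicit false
universe u
open ArSing

namespace Groth.Agent.S14093

/-- For an algebraically closed field k of characteristic prime to 2 and to r+1 and the involution σ of
A_r = k[[x,y]]/(y^2 - x^(r+1)) with σ(x) = x, σ(y) = -y: the invariant subalgebra is k[[x]] (the
image of t ↦ x from k[[t]]), the inclusion k[[x]] → A_r is faithfully flat (flat, and the maximal
ideal of k[[t]] does not generate the unit ideal of A_r), and the fixed locus (the closed subscheme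
cut out by all σ(a) - a) is a Cartier divisor of length r + 1, i.e. its ideal is generated by one
nonzerodivisor and the quotient has length r + 1. -/
theorem result (k : Type u) [Field k] [IsAlgClosed k] (r : ℕ)
    (h2 : (2 : k) ≠ 0) (hr : ((r + 1 : ℕ) : k) ≠ 0)
    (σ : ArSing.ring k r ≃ₐ[k] ArSing.ring k r) (hx : σ (ArSing.x k r) = ArSing.x k r)
    (hy : σ (ArSing.y k r) = -ArSing.y k r) :
    (∀ a : ArSing.ring k r, σ a = a ↔ a ∈ (ArSing.xMap k r).range) ∧
    ((ArSing.xMap k r).toRingHom.Flat ∧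
      Ideal.map (ArSing.xMap k r) (IsLocalRing.maximalIdeal (PowerSeries k)) ≠ ⊤) ∧
    (∃ g : ArSing.ring k r, g ∈ nonZeroDivisors (ArSing.ring k r) ∧
      Ideal.span (Set.range fun a : ArSing.ring k r => σ a - a) = Ideal.span {g}) ∧
    Module.length (ArSing.ring k r)
      (ArSing.ring k r ⧸ Ideal.span (Set.range fun a : ArSing.ring k r => σ a - a)) = r + 1 := by
  open Groth.Agent.H1CAlg.ArS in
  have hσ : ∀ A B, σ (nf k r A B) = nf k r A (-B) := fun A B => by
    rw [apply_nf σ 1 (-1) (by rw [hx, one_smul]) (by rw [hy, neg_one_smul])]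
    simp [PowerSeries.rescale_one]
  open Groth.Agent.H1CAlg.ArS in
  have hspan : Ideal.span (Set.range fun a : ring k r => σ a - a) = Ideal.span {y k r} := by
    refine le_antisymm (Ideal.span_le.mpr ?_) (Ideal.span_le.mpr ?_)
    · rintro _ ⟨a, rfl⟩
      obtain ⟨A, B, rfl⟩ := exists_nf a
      show σ (nf k r A B) - nf k r A B ∈ _
      rw [hσ, nf_sub, sub_self, nf, map_zero, zero_add]
      exact Ideal.mul_mem_left _ _ (Ideal.subset_span rfl)
    · rintro _ rfl
      have h : y k r = algebraMap k (ring k r) (-(2 : k)⁻¹) * (σ (y k r) - y k r) := by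
        rw [hy, show -y k r - y k r = algebraMap k (ring k r) (-2) * y k r by rw [map_neg, map_ofNat]; ring,
          ← mul_assoc, ← map_mul]
        simp [h2]
      rw [h]
      exact Ideal.mul_mem_left _ _ (Ideal.subset_span ⟨_, rfl⟩)
  open Groth.Agent.H1CAlg.ArS in
  have hnzd : y k r ∈ nonZeroDivisors (ring k r) := by
    refine mem_nonZeroDivisors_iff_right.mpr fun a ha => ?_
    obtain ⟨A, B, rfl⟩ := exists_nf a
    rw [y_eq_nf, nf_mul] at ha
    obtain ⟨h1, h2⟩ := nf_eq_zero ha
    simp only [mul_zero, zero_add, mul_one, add_zero] at h1 h2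
    obtain rfl := h2
    obtain rfl : B = 0 := (mul_eq_zero.mp h1).resolve_right (pow_ne_zero _ PowerSeries.X_ne_zero)
    simp [nf]
  open Groth.Agent.H1CAlg.ArS in
  refine ⟨fun a => ⟨fun h => ?_, ?_⟩, ⟨?_, ?_⟩, ⟨y k r, hnzd, hspan⟩, ?_⟩
  · obtain ⟨A, B, rfl⟩ := exists_nf a
    rw [hσ] at h
    obtain rfl := eq_zero_of_self_eq_neg h2 (nf_inj h).2.symm
    exact ⟨A, xMap_eq_nf A⟩
  · rintro ⟨A, rfl⟩
    show σ (xMap k r A) = xMap k r A
    rw [xMap_eq_nf, hσ, neg_zero]
  · letI : Algebra (PowerSeries k) (ring k r) := (xMap k r).toRingHom.toAlgebra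
    show Module.Flat (PowerSeries k) (ring k r)
    let Φ : (PowerSeries k × PowerSeries k) ≃ₗ[PowerSeries k] ring k r :=
      { nfEquiv (r := r) with
        map_smul' := fun c p => by
          show nf k r (c * p.1) (c * p.2) = xMap k r c * nf k r p.1 p.2
          simp only [nf, map_mul]; ring }
    exact Module.Flat.of_linearEquiv Φ.symm
  · intro h
    have hle : Ideal.map (xMap k r) (IsLocalRing.maximalIdeal (PowerSeries k)) ≤ IsLocalRing.maximalIdeal (ring k r) := by
      rw [Ideal.map_le_iff_le_comap]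
      intro A hA
      rw [Ideal.mem_comap, xMap_eq_nf, mem_maximalIdeal_iff]
      rwa [IsLocalRing.mem_maximalIdeal, mem_nonunits_iff, PowerSeries.isUnit_iff_constantCoeff, isUnit_iff_ne_zero, not_not] at hA
    exact (IsLocalRing.maximalIdeal.isMaximal (ring k r)).ne_top (top_le_iff.mp (h ▸ hle))
  · rw [hspan, length_eq_length]
    let L : ring k r →ₗ[k] (Fin (r + 1) → k) := (low (r + 1)).comp ((LinearMap.fst k _ _).comp (nfEquiv (r := r)).symm.toLinearMap)
    have hL : ∀ A B, L (nf k r A B) = low (r + 1) A := fun A B => by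
      show low (r + 1) ((nfEquiv (r := r)).symm (nf k r A B)).1 = _
      rw [← nfEquiv_apply, LinearEquiv.symm_apply_apply]
    have hker : LinearMap.ker L = (Ideal.span {y k r}).restrictScalars k := by
      ext a
      obtain ⟨A, B, rfl⟩ := exists_nf a
      rw [LinearMap.mem_ker, hL, low_eq_zero, Submodule.restrictScalars_mem, Ideal.mem_span_singleton]
      constructor
      · rintro ⟨A', rfl⟩
        exact ⟨nf k r B A', by rw [y_eq_nf, nf_mul]; congr 1 <;> ring⟩
      · rintro ⟨b, hb⟩
        obtain ⟨C, D, rfl⟩ := exists_nf b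
        rw [y_eq_nf, nf_mul] at hb
        exact ⟨D, by rw [(nf_inj hb).1]; ring⟩
    have hsurj : Function.Surjective L := fun v => by
      obtain ⟨A, hA⟩ := low_surjective (r + 1) v
      exact ⟨nf k r A 0, by rw [hL, hA]⟩
    let E : (ring k r ⧸ Ideal.span {y k r}) ≃ₗ[k] (Fin (r + 1) → k) :=
      (Submodule.Quotient.restrictScalarsEquiv k (Ideal.span {y k r})).symm ≪≫ₗ
        Submodule.quotEquivOfEq _ _ hker.symm ≪≫ₗ L.quotKerEquivOfSurjective hsurj
    rw [E.length_eq, Module.length_eq_finrank, Module.finrank_fin_fun]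
    simp

end Groth.Agent.S14093
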