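import Groth.Statements.S14094
import Groth.Agent.H1CAlg.ArSing
import Mathlib.RingTheory.Flat.Basic

set_option autoImplicit false
universe u
open ArSing

namespace Groth.Agent.S14094

open scoped PowerSeries

/-- K algebraically closed of characteristic prime to 2 and to r+1, r = 2m - 1 with m ≥ 2, σ the
involution x ↦ -x, y ↦ y of A_r = k[[x,y]]/(y^2 - x^(r+1)), and φ : A_(m-1) → A_r the k-algebra map
x ↦ x^2, y ↦ y. Then the invariant subalgebra of σ is the image of φ (so A_r^σ ≅ A_(m-1)), φ is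
faithfully flat (flat, and the maximal ideal of A_(m-1) does not generate the unit ideal), and the
fixed locus of σ is a Cartier divisor of length 2: its ideal, generated by the elements σ(a) - a, is
generated by one nonzerodivisor and has quotient of length 2. -/
theorem result (k : Type u) [Field k] [IsAlgClosed k] (m r : ℕ)
    (hm : 2 ≤ m) (hr : r = 2 * m - 1) (h2 : (2 : k) ≠ 0) (hr1 : ((r + 1 : ℕ) : k) ≠ 0)
    (σ : ArSing.ring k r ≃ₐ[k] ArSing.ring k r) (hx : σ (ArSing.x k r) = -ArSing.x k r)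
    (hy : σ (ArSing.y k r) = ArSing.y k r)
    (φ : ArSing.ring k (m - 1) →ₐ[k] ArSing.ring k r) (hφx : φ (ArSing.x k (m - 1)) = ArSing.x k r ^ 2)
    (hφy : φ (ArSing.y k (m - 1)) = ArSing.y k r) :
    (∀ a : ArSing.ring k r, σ a = a ↔ a ∈ φ.range) ∧
    (φ.toRingHom.Flat ∧ ∀ I : Ideal (ArSing.ring k (m - 1)), I.IsMaximal → Ideal.map φ I ≠ ⊤) ∧
    (∃ g : ArSing.ring k r, g ∈ nonZeroDivisors (ArSing.ring k r) ∧ Ideal.span (Set.range fun a : ArSing.ring k r => σ a - a) = Ideal.span {g}) ∧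
    Module.length (ArSing.ring k r) (ArSing.ring k r ⧸ Ideal.span (Set.range fun a : ArSing.ring k r => σ a - a)) = 2 := by
  open Groth.Agent.H1CAlg.ArS PowerSeries in
  have hσ : ∀ A B, σ (nf k r A B) = nf k r (rescale (-1 : k) A) (rescale (-1 : k) B) := fun A B => by
    rw [apply_nf σ (-1) 1 (by rw [hx, neg_one_smul]) (by rw [hy, one_smul]), one_smul]
  open Groth.Agent.H1CAlg.ArS PowerSeries in
  have hφ : ∀ A B, φ (nf k (m - 1) A B) = nf k r (expand 2 two_ne_zero A) (expand 2 two_ne_zero B) := fun A B => by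
    rw [nf, map_add, map_mul, hφy, sq_comp_xMap φ hφx, sq_comp_xMap φ hφx]; rfl
  open Groth.Agent.H1CAlg.ArS PowerSeries in
  have hspan : Ideal.span (Set.range fun a : ring k r => σ a - a) = Ideal.span {x k r} := by
    refine le_antisymm (Ideal.span_le.mpr ?_) (Ideal.span_le.mpr ?_)
    · rintro _ ⟨a, rfl⟩
      obtain ⟨A, B, rfl⟩ := exists_nf a
      obtain ⟨A₀, A₁, rfl⟩ := exists_parity A
      obtain ⟨B₀, B₁, rfl⟩ := exists_parity B
      rw [SetLike.mem_coe, Ideal.mem_span_singleton]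
      refine ⟨nf k r (-(2 * expand 2 two_ne_zero A₁)) (-(2 * expand 2 two_ne_zero B₁)), ?_⟩
      show σ _ - _ = _
      rw [hσ, nf_sub, rescale_parity, rescale_parity, x_eq_nf, nf_mul]
      congr 1 <;> ring
    · rintro _ rfl
      have h : x k r = algebraMap k (ring k r) (-(2 : k)⁻¹) * (σ (x k r) - x k r) := by
        rw [hx, show -x k r - x k r = algebraMap k (ring k r) (-2) * x k r by rw [map_neg, map_ofNat]; ring,
          ← mul_assoc, ← map_mul]
        simp [h2]
      rw [h]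
      exact Ideal.mul_mem_left _ _ (Ideal.subset_span ⟨_, rfl⟩)
  open Groth.Agent.H1CAlg.ArS PowerSeries in
  refine ⟨fun a => ⟨fun h => ?_, ?_⟩, ⟨?_, ?_⟩, ⟨x k r, ?_, hspan⟩, ?_⟩
  · obtain ⟨A, B, rfl⟩ := exists_nf a
    obtain ⟨A₀, A₁, rfl⟩ := exists_parity A
    obtain ⟨B₀, B₁, rfl⟩ := exists_parity B
    rw [hσ, rescale_parity, rescale_parity] at h
    obtain ⟨h1, h3⟩ := nf_inj h
    have hA := eq_zero_of_self_eq_neg h2 (A := X * expand 2 two_ne_zero A₁) (by linear_combination -h1)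
    have hB := eq_zero_of_self_eq_neg h2 (A := X * expand 2 two_ne_zero B₁) (by linear_combination -h3)
    rw [hA, hB, add_zero, add_zero]
    exact ⟨nf k (m - 1) A₀ B₀, hφ A₀ B₀⟩
  · rintro ⟨b, rfl⟩
    obtain ⟨A, B, rfl⟩ := exists_nf b
    show σ (φ (nf k (m - 1) A B)) = φ (nf k (m - 1) A B)
    rw [hφ, hσ, rescale_neg_expand, rescale_neg_expand]
  · letI : Algebra (ring k (m - 1)) (ring k r) := φ.toRingHom.toAlgebra
    show Module.Flat (ring k (m - 1)) (ring k r)
    let L : (ring k (m - 1) × ring k (m - 1)) →ₗ[ring k (m - 1)] ring k r :=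
      (Algebra.linearMap (ring k (m - 1)) (ring k r)).coprod (LinearMap.toSpanSingleton _ (ring k r) (x k r))
    have hL : ∀ p, L p = φ p.1 + φ p.2 * x k r := fun p => rfl
    have hval : ∀ A B C D, L (nf k (m - 1) A B, nf k (m - 1) C D) =
        nf k r (expand 2 two_ne_zero A + X * expand 2 two_ne_zero C) (expand 2 two_ne_zero B + X * expand 2 two_ne_zero D) := by
      intro A B C D
      rw [hL, hφ, hφ, x_eq_nf, nf_mul, nf_add]
      congr 1 <;> ring
    refine Module.Flat.of_linearEquiv (LinearEquiv.ofBijective L ⟨fun p q hpq => ?_, fun a => ?_⟩).symm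
    · obtain ⟨p1, p2⟩ := p
      obtain ⟨q1, q2⟩ := q
      obtain ⟨A, B, rfl⟩ := exists_nf p1
      obtain ⟨C, D, rfl⟩ := exists_nf p2
      obtain ⟨A', B', rfl⟩ := exists_nf q1
      obtain ⟨C', D', rfl⟩ := exists_nf q2
      rw [hval, hval] at hpq
      obtain ⟨h1, h3⟩ := nf_inj hpq
      obtain ⟨rfl, rfl⟩ := parity_unique h1
      obtain ⟨rfl, rfl⟩ := parity_unique h3
      rfl
    · obtain ⟨A, B, rfl⟩ := exists_nf a
      obtain ⟨A₀, A₁, rfl⟩ := exists_parity A
      obtain ⟨B₀, B₁, rfl⟩ := exists_parity B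
      exact ⟨(nf k (m - 1) A₀ B₀, nf k (m - 1) A₁ B₁), hval _ _ _ _⟩
  · intro I hI h
    have hle : Ideal.map φ I ≤ IsLocalRing.maximalIdeal (ring k r) := by
      rw [Ideal.map_le_iff_le_comap, IsLocalRing.eq_maximalIdeal hI]
      intro a ha
      obtain ⟨A, B, rfl⟩ := exists_nf a
      rw [Ideal.mem_comap, hφ, mem_maximalIdeal_iff, constantCoeff_expand]
      exact mem_maximalIdeal_iff.mp ha
    exact (IsLocalRing.maximalIdeal.isMaximal (ring k r)).ne_top (top_le_iff.mp (h ▸ hle))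
  · refine mem_nonZeroDivisors_iff_right.mpr fun a ha => ?_
    obtain ⟨A, B, rfl⟩ := exists_nf a
    rw [x_eq_nf, nf_mul] at ha
    obtain ⟨h1, h3⟩ := nf_eq_zero ha
    simp only [mul_zero, zero_mul, add_zero, zero_add] at h1 h3
    obtain rfl : A = 0 := (mul_eq_zero.mp h1).resolve_right X_ne_zero
    obtain rfl : B = 0 := (mul_eq_zero.mp h3).resolve_right X_ne_zero
    simp [nf]
  · rw [hspan, length_eq_length]
    let e := (nfEquiv (k := k) (r := r)).symm.toLinearMap
    let L : ring k r →ₗ[k] (k × k) :=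
      (((coeff 0).comp (LinearMap.fst k k⟦X⟧ k⟦X⟧)).prod ((coeff 0).comp (LinearMap.snd k k⟦X⟧ k⟦X⟧))).comp e
    have hL : ∀ A B, L (nf k r A B) = (constantCoeff A, constantCoeff B) := fun A B => by
      show (coeff 0 ((nfEquiv (r := r)).symm (nf k r A B)).1, coeff 0 ((nfEquiv (r := r)).symm (nf k r A B)).2) = _
      rw [← nfEquiv_apply, LinearEquiv.symm_apply_apply, coeff_zero_eq_constantCoeff]
    have hker : LinearMap.ker L = (Ideal.span {x k r}).restrictScalars k := by
      ext a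
      obtain ⟨A, B, rfl⟩ := exists_nf a
      rw [LinearMap.mem_ker, hL, Prod.mk_eq_zero, Submodule.restrictScalars_mem, Ideal.mem_span_singleton,
        ← X_dvd_iff, ← X_dvd_iff]
      constructor
      · rintro ⟨⟨A', rfl⟩, ⟨B', rfl⟩⟩
        exact ⟨nf k r A' B', by rw [x_eq_nf, nf_mul]; congr 1 <;> ring⟩
      · rintro ⟨b, hb⟩
        obtain ⟨C, D, rfl⟩ := exists_nf b
        rw [x_eq_nf, nf_mul] at hb
        exact ⟨⟨C, by rw [(nf_inj hb).1]; ring⟩, ⟨D, by rw [(nf_inj hb).2]; ring⟩⟩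
    have hsurj : Function.Surjective L := fun v => ⟨nf k r (C v.1) (C v.2), by rw [hL]; simp⟩
    let E : (ring k r ⧸ Ideal.span {x k r}) ≃ₗ[k] (k × k) :=
      (Submodule.Quotient.restrictScalarsEquiv k (Ideal.span {x k r})).symm ≪≫ₗ
        Submodule.quotEquivOfEq _ _ hker.symm ≪≫ₗ L.quotKerEquivOfSurjective hsurj
    rw [E.length_eq, Module.length_eq_finrank, Module.finrank_prod, Module.finrank_self]
    norm_num

end Groth.Agent.S14094
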