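import Groth.Statements.S14095
import Groth.Agent.H1CAlg.ArSing
import Mathlib.RingTheory.Flat.EquationalCriterion

set_option autoImplicit false
universe u
open ArSing

namespace Groth.Agent.S14095

open scoped PowerSeries

/-- K algebraically closed of characteristic prime to 2 and to r+1, r = 2m - 1 with m ≥ 1, σ the
involution x ↦ -x, y ↦ -y of A_r = k[[x,y]]/(y^2 - x^(r+1)), and φ : A_m → A_r the k-algebra map x ↦
x^2, y ↦ xy. Then the invariant subalgebra of σ is the image of φ and φ is injective (so A_r^σ ≅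
A_m), φ is not flat, and the fixed locus of σ is the reduced closed point and is not a Cartier
divisor: the ideal generated by the elements σ(a) - a has quotient of length 1 and is not generated
by one nonzerodivisor. -/
theorem result (k : Type u) [Field k] [IsAlgClosed k] (m r : ℕ)
    (hm : 1 ≤ m) (hr : r = 2 * m - 1) (h2 : (2 : k) ≠ 0) (hr1 : ((r + 1 : ℕ) : k) ≠ 0)
    (σ : ArSing.ring k r ≃ₐ[k] ArSing.ring k r) (hx : σ (ArSing.x k r) = -ArSing.x k r)
    (hy : σ (ArSing.y k r) = -ArSing.y k r)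
    (φ : ArSing.ring k m →ₐ[k] ArSing.ring k r) (hφx : φ (ArSing.x k m) = ArSing.x k r ^ 2)
    (hφy : φ (ArSing.y k m) = ArSing.x k r * ArSing.y k r) :
    (∀ a : ArSing.ring k r, σ a = a ↔ a ∈ φ.range) ∧ Function.Injective φ ∧
    ¬ φ.toRingHom.Flat ∧
    Module.length (ArSing.ring k r) (ArSing.ring k r ⧸ Ideal.span (Set.range fun a : ArSing.ring k r => σ a - a)) = 1 ∧
    ¬ (∃ g : ArSing.ring k r, g ∈ nonZeroDivisors (ArSing.ring k r) ∧ Ideal.span (Set.range fun a : ArSing.ring k r => σ a - a) = Ideal.span {g}) := by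
  open Groth.Agent.H1CAlg.ArS PowerSeries in
  have hσ : ∀ A B, σ (nf k r A B) = nf k r (rescale (-1 : k) A) (-rescale (-1 : k) B) := fun A B => by
    rw [apply_nf σ (-1) (-1) (by rw [hx, neg_one_smul]) (by rw [hy, neg_one_smul]), neg_one_smul]
  open Groth.Agent.H1CAlg.ArS PowerSeries in
  have hφ : ∀ A B, φ (nf k m A B) = nf k r (expand 2 two_ne_zero A) (X * expand 2 two_ne_zero B) := fun A B => by
    rw [nf, map_add, map_mul, hφy, sq_comp_xMap φ hφx, sq_comp_xMap φ hφx, nf, map_mul (xMap k r), xMap_X]; ring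
  open Groth.Agent.H1CAlg.ArS PowerSeries in
  have hspan : Ideal.span (Set.range fun a : ring k r => σ a - a) = IsLocalRing.maximalIdeal (ring k r) := by
    refine le_antisymm (Ideal.span_le.mpr ?_) ?_
    · rintro _ ⟨a, rfl⟩
      obtain ⟨A, B, rfl⟩ := exists_nf a
      show σ _ - _ ∈ IsLocalRing.maximalIdeal (ring k r)
      rw [hσ, nf_sub, mem_maximalIdeal_iff]
      rw [map_sub, ← coeff_zero_eq_constantCoeff_apply, coeff_rescale_neg]
      simp
    · rw [maximalIdeal_eq, Ideal.span_le]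
      rintro z hz
      have h : z = algebraMap k (ring k r) (-(2 : k)⁻¹) * (σ z - z) := by
        have hz' : σ z = -z := by rcases hz with rfl | rfl; exacts [hx, hy]
        rw [hz', show -z - z = algebraMap k (ring k r) (-2) * z by rw [map_neg, map_ofNat]; ring, ← mul_assoc, ← map_mul]
        simp [h2]
      rw [SetLike.mem_coe, h]
      exact Ideal.mul_mem_left _ _ (Ideal.subset_span ⟨_, rfl⟩)
  open Groth.Agent.H1CAlg.ArS PowerSeries in
  have hinj : Function.Injective φ := fun a b hab => by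
    obtain ⟨A, B, rfl⟩ := exists_nf a
    obtain ⟨C, D, rfl⟩ := exists_nf b
    rw [hφ, hφ] at hab
    obtain ⟨h1, h3⟩ := nf_inj hab
    rw [expand_injective h1, expand_injective (mul_left_cancel₀ X_ne_zero h3)]
  open Groth.Agent.H1CAlg.ArS PowerSeries in
  refine ⟨fun a => ⟨fun h => ?_, ?_⟩, hinj, ?_, ?_, ?_⟩
  · obtain ⟨A, B, rfl⟩ := exists_nf a
    obtain ⟨A₀, A₁, rfl⟩ := exists_parity A
    obtain ⟨B₀, B₁, rfl⟩ := exists_parity B
    rw [hσ, rescale_parity, rescale_parity] at h
    obtain ⟨h1, h3⟩ := nf_inj h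
    have hA := eq_zero_of_self_eq_neg h2 (A := X * expand 2 two_ne_zero A₁) (by linear_combination -h1)
    have hB := eq_zero_of_self_eq_neg h2 (A := expand 2 two_ne_zero B₀) (by linear_combination -h3)
    rw [hA, hB, add_zero, zero_add]
    exact ⟨nf k m A₀ B₁, hφ A₀ B₁⟩
  · rintro ⟨b, rfl⟩
    obtain ⟨A, B, rfl⟩ := exists_nf b
    show σ (φ (nf k m A B)) = φ (nf k m A B)
    rw [hφ, hσ, rescale_neg_expand]
    congr 1
    rw [map_mul, rescale_neg_expand, rescale_apply_X, map_neg, map_one]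
    ring
  · intro hflat
    letI : Algebra (ring k m) (ring k r) := φ.toRingHom.toAlgebra
    haveI : Module.Flat (ring k m) (ring k r) := hflat
    obtain ⟨n, c, z, hz, hc⟩ := Module.Flat.isTrivialRelation_of_sum_smul_eq_zero (R := ring k m) (M := ring k r) (f := ![y k m, -x k m]) (x := ![x k r, y k r]) (by
      rw [Fin.sum_univ_two]
      show φ (y k m) * x k r + φ (-x k m) * y k r = 0
      rw [map_neg, hφx, hφy]; ring)
    have hmem : ∀ j, c 0 j ∈ IsLocalRing.maximalIdeal (ring k m) := fun j => by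
      have hj : y k m * c 0 j + -x k m * c 1 j = 0 := by
        simpa [Fin.sum_univ_two] using hc j
      obtain ⟨C₀, D₀, hC₀⟩ := exists_nf (c 0 j)
      obtain ⟨C₁, D₁, hC₁⟩ := exists_nf (c 1 j)
      have hx' : -x k m = nf k m (-X) 0 := by simp [nf]
      rw [hC₀, hC₁, y_eq_nf, hx', nf_mul, nf_mul, nf_add] at hj
      have h3 := (nf_eq_zero hj).2
      rw [hC₀, mem_maximalIdeal_iff]
      simp only [zero_mul, mul_zero, zero_add, add_zero, one_mul] at h3
      rw [show C₀ = X * D₁ by linear_combination h3, constantCoeff_X_mul]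
    have hxm : x k r = ∑ j, φ (c 0 j) * z j := hz 0
    have hsub : ∀ a ∈ IsLocalRing.maximalIdeal (ring k m), φ a ∈ Ideal.span {x k r ^ 2, y k r} := by
      intro a ha
      rw [maximalIdeal_eq, Ideal.mem_span_pair] at ha
      obtain ⟨u, v, rfl⟩ := ha
      rw [map_add, map_mul, map_mul, hφx, hφy]
      exact add_mem (Ideal.mul_mem_left _ _ (Ideal.subset_span (by simp)))
        (Ideal.mul_mem_left _ _ (Ideal.mul_mem_left _ _ (Ideal.subset_span (by simp))))
    have hxmem : x k r ∈ Ideal.span {x k r ^ 2, y k r} := by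
      have hs : ∑ j, φ (c 0 j) * z j ∈ Ideal.span {x k r ^ 2, y k r} :=
        Submodule.sum_mem _ fun j _ => Ideal.mul_mem_right _ _ (hsub _ (hmem j))
      rwa [← hxm] at hs
    obtain ⟨u, v, huv⟩ := Ideal.mem_span_pair.mp hxmem
    obtain ⟨U, U', rfl⟩ := exists_nf u
    obtain ⟨V, V', rfl⟩ := exists_nf v
    rw [x_eq_nf, y_eq_nf, sq, nf_mul, nf_mul, nf_mul, nf_add] at huv
    have h1 := congrArg (coeff 1) (nf_inj huv).1
    have hz2 : ∀ (P : k⟦X⟧) (p : ℕ), 2 ≤ p → coeff 1 (P * X ^ p) = 0 := fun P p hp => by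
      rw [coeff_mul_X_pow', if_neg (by omega)]
    simp only [mul_zero, zero_mul, add_zero, zero_add, mul_one, map_add] at h1
    rw [← pow_two, hz2 _ 2 le_rfl, hz2 _ (r + 1) (by omega), add_zero, coeff_one_X] at h1
    exact zero_ne_one h1
  · rw [hspan, Module.length_eq_one_iff]
    exact (isSimpleModule_iff_isCoatom ).mpr (IsLocalRing.maximalIdeal.isMaximal (ring k r)).out
  · rintro ⟨g, -, hg⟩
    rw [hspan] at hg
    obtain ⟨u, hu⟩ := Ideal.mem_span_singleton.mp (hg ▸ x_mem : x k r ∈ Ideal.span {g})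
    obtain ⟨v, hv⟩ := Ideal.mem_span_singleton.mp (hg ▸ y_mem : y k r ∈ Ideal.span {g})
    have hgm : g ∈ Ideal.span {x k r, y k r} := by
      rw [← maximalIdeal_eq, hg]; exact Ideal.subset_span rfl
    obtain ⟨a, b, hab⟩ := Ideal.mem_span_pair.mp hgm
    have hkill : g * (1 - (a * u + b * v)) = 0 := by linear_combination a * hu + b * hv - hab
    have hg0 : g ≠ 0 := by
      rintro rfl
      have hx0 : nf k r X 0 = nf k r 0 0 := by
        rw [← x_eq_nf, hu]; simp [nf]
      exact X_ne_zero (nf_inj hx0).1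
    have hnu : IsUnit (a * u + b * v) := by
      by_contra hn
      have : IsUnit (1 - (a * u + b * v)) := IsLocalRing.isUnit_one_sub_self_of_mem_nonunits _ hn
      exact hg0 (this.mul_left_eq_zero.mp hkill)
    rcases IsLocalRing.isUnit_or_isUnit_of_isUnit_add hnu with hau | hbv
    · have hdvd : x k r ∣ y k r := by
        rw [hv, hu]
        exact (Dvd.dvd.mul_right ((isUnit_of_mul_isUnit_right hau).mul_right_dvd.mpr dvd_rfl) v)
      obtain ⟨w, hw⟩ := hdvd
      obtain ⟨W, W', rfl⟩ := exists_nf w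
      rw [y_eq_nf, x_eq_nf, nf_mul] at hw
      simpa using congrArg constantCoeff (nf_inj hw).2
    · have hdvd : y k r ∣ x k r := by
        rw [hv, hu]
        exact (Dvd.dvd.mul_right ((isUnit_of_mul_isUnit_right hbv).mul_right_dvd.mpr dvd_rfl) u)
      obtain ⟨w, hw⟩ := hdvd
      obtain ⟨W, W', rfl⟩ := exists_nf w
      rw [y_eq_nf, x_eq_nf, nf_mul] at hw
      have h1 := congrArg (coeff 1) (nf_inj hw).1
      simp only [zero_mul, zero_add, one_mul, coeff_one_X] at h1
      rw [coeff_mul_X_pow', if_neg (by omega)] at h1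
      exact one_ne_zero h1

end Groth.Agent.S14095
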