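import Groth.Statements.S14096
import Groth.Agent.H1CAlg.ArNode
import Mathlib.RingTheory.Flat.EquationalCriterion

set_option autoImplicit false
universe u
open ArSing

namespace Groth.Agent.S14096

open scoped PowerSeries

/-- K algebraically closed of characteristic ≠ 2, σ the involution of the node algebra A_1 =
k[[x,y]]/(y^2 - x^2) exchanging x and y, and φ : A_1 → A_1 the k-algebra map with φ(x + y) = x + y
and φ(y - x) = (y - x)^2 (in the branch coordinates u = x + y, v = y - x with uv = 0: u ↦ u, v ↦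
v^2). Then the invariant subalgebra of σ is the image of φ and φ is injective (so A_1^σ ≅ A_1), and
the fixed locus of σ is the branch v = 0: the ideal generated by the elements σ(a) - a is the ideal
(y - x), a minimal prime ideal generated by a zero-divisor (so not a Cartier divisor). Moreover φ is
not flat. (The published statement asserts that this extension is faithfully flat; it is not: as a
module over the invariant subalgebra B = k[[u,w]]/(uw), w = v^2, A_1 is B ⊕ (B/uB)·v, and B/uB is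
not flat over B — equivalently the fibre length jumps from 1 on the branch w = 0 to 2 at the closed
point.) -/
theorem result (k : Type u) [Field k] [IsAlgClosed k]
    (h2 : (2 : k) ≠ 0)
    (σ : ArSing.ring k 1 ≃ₐ[k] ArSing.ring k 1) (hx : σ (ArSing.x k 1) = ArSing.y k 1)
    (hy : σ (ArSing.y k 1) = ArSing.x k 1)
    (φ : ArSing.ring k 1 →ₐ[k] ArSing.ring k 1) (hφu : φ (ArSing.x k 1 + ArSing.y k 1) = ArSing.x k 1 + ArSing.y k 1)
    (hφv : φ (ArSing.y k 1 - ArSing.x k 1) = (ArSing.y k 1 - ArSing.x k 1) ^ 2) :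
    (∀ a : ArSing.ring k 1, σ a = a ↔ a ∈ φ.range) ∧ Function.Injective φ ∧
    Ideal.span (Set.range fun a : ArSing.ring k 1 => σ a - a) = Ideal.span {ArSing.y k 1 - ArSing.x k 1} ∧
    (ArSing.y k 1 - ArSing.x k 1) ∉ nonZeroDivisors (ArSing.ring k 1) ∧
    Ideal.span {ArSing.y k 1 - ArSing.x k 1} ∈ minimalPrimes (ArSing.ring k 1) ∧
    ¬ φ.toRingHom.Flat := by
  open Groth.Agent.H1CAlg.ArS PowerSeries in
  haveI : IsHausdorff (IsLocalRing.maximalIdeal k⟦X⟧) k⟦X⟧ :=
    IsHausdorff.of_isLocalRing _ _ (IsLocalRing.maximalIdeal.isMaximal _).ne_top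
  open Groth.Agent.H1CAlg.ArS PowerSeries in
  have hXm : ∀ P : k⟦X⟧, constantCoeff P = 0 → P ∈ IsLocalRing.maximalIdeal k⟦X⟧ := fun P hP => by
    rw [IsLocalRing.mem_maximalIdeal, mem_nonunits_iff, isUnit_iff_constantCoeff, hP]
    simp
  open Groth.Agent.H1CAlg.ArS PowerSeries in
  have hext : ∀ f g : ring k 1 →ₐ[k] k⟦X⟧, constantCoeff (f (x k 1)) = 0 → constantCoeff (f (y k 1)) = 0 →
      f (x k 1) = g (x k 1) → f (y k 1) = g (y k 1) → ∀ a, f a = g a := fun f g h0 h1 hx' hy' a =>
    AlgHom.congr_fun (algHom_ext _ (hXm _ h0) (hXm _ h1) hx' hy') a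
  open Groth.Agent.H1CAlg.ArS PowerSeries in
  have hσp : ∀ a, brp (σ a) = brp a := fun a => by
    refine hext (brp.comp σ.toAlgHom) brp ?_ ?_ ?_ ?_ a <;> simp [hx, hy]
  open Groth.Agent.H1CAlg.ArS PowerSeries in
  have hσm : ∀ a, brm (σ a) = rescale (-1 : k) (brm a) := fun a => by
    refine hext (brm.comp σ.toAlgHom) ((rescaleₐ (-1)).comp brm) ?_ ?_ ?_ ?_ a
    · simp [hx]
    · simp [hy]
    · show brm (σ (x k 1)) = rescale (-1 : k) (brm (x k 1))
      rw [hx, brm_x, brm_y, rescale_apply_X, map_neg, map_one, neg_one_mul]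
    · show brm (σ (y k 1)) = rescale (-1 : k) (brm (y k 1))
      rw [hy, brm_x, brm_y, map_neg, rescale_apply_X, map_neg, map_one, neg_one_mul, neg_neg]
  open Groth.Agent.H1CAlg.ArS PowerSeries in
  have hv2 : (y k 1 - x k 1) * (y k 1 + x k 1) = 0 := by
    rw [show (y k 1 - x k 1) * (y k 1 + x k 1) = y k 1 * y k 1 - x k 1 ^ 2 by ring, y_sq, sub_self]
  open Groth.Agent.H1CAlg.ArS PowerSeries in
  have hhalf : ∀ P Q : k⟦X⟧, P + P = Q + Q → P = Q := fun P Q h =>
    sub_eq_zero.mp (eq_zero_of_self_eq_neg h2 (by linear_combination h))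
  open Groth.Agent.H1CAlg.ArS PowerSeries in
  have h2x : φ (x k 1) + φ (x k 1) = (x k 1 + y k 1) - (y k 1 - x k 1) ^ 2 := by
    rw [← hφu, ← hφv, map_add, map_sub]; ring
  open Groth.Agent.H1CAlg.ArS PowerSeries in
  have h2y : φ (y k 1) + φ (y k 1) = (x k 1 + y k 1) + (y k 1 - x k 1) ^ 2 := by
    rw [← hφu, ← hφv, map_add, map_sub]; ring
  open Groth.Agent.H1CAlg.ArS PowerSeries in
  have hgx : brp (φ (x k 1)) = X := hhalf _ _ (by rw [← map_add, h2x]; simp)
  open Groth.Agent.H1CAlg.ArS PowerSeries in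
  have hgy : brp (φ (y k 1)) = X := hhalf _ _ (by rw [← map_add, h2y]; simp)
  open Groth.Agent.H1CAlg.ArS PowerSeries in
  have hφp : ∀ a, brp (φ a) = brp a := fun a => by
    refine hext (brp.comp φ) brp ?_ ?_ ?_ ?_ a <;> simp [hgx, hgy]
  open Groth.Agent.H1CAlg.ArS PowerSeries in
  have hmx : brm (φ (x k 1)) = -(2 * X ^ 2) := hhalf _ _ (by rw [← map_add, h2x]; simp; ring)
  open Groth.Agent.H1CAlg.ArS PowerSeries in
  have hmy : brm (φ (y k 1)) = 2 * X ^ 2 := hhalf _ _ (by rw [← map_add, h2y]; simp; ring)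
  open Groth.Agent.H1CAlg.ArS PowerSeries in
  have hφm : ∀ a, brm (φ a) = expand 2 two_ne_zero (rescale (-2 : k) (brm a)) := fun a => by
    refine hext (brm.comp φ) (((expand 2 two_ne_zero).comp (rescaleₐ (-2))).comp brm) ?_ ?_ ?_ ?_ a
    · simp [hmx]
    · simp [hmy]
    · show brm (φ (x k 1)) = expand 2 two_ne_zero (rescale (-2 : k) (brm (x k 1)))
      rw [hmx, brm_x, rescale_apply_X, map_mul, expand_C, expand_X, map_neg, map_ofNat]
      ring
    · show brm (φ (y k 1)) = expand 2 two_ne_zero (rescale (-2 : k) (brm (y k 1)))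
      rw [hmy, brm_y, map_neg, rescale_apply_X, map_neg, map_mul, expand_C, expand_X, map_neg, map_ofNat]
      ring
  open Groth.Agent.H1CAlg.ArS PowerSeries in
  have hres : ∀ Q : k⟦X⟧, rescale (-2 : k) (rescale (-(2 : k)⁻¹) Q) = Q := fun Q => by
    ext n
    rw [coeff_rescale, coeff_rescale, ← mul_assoc, ← mul_pow]
    simp [h2]
  open Groth.Agent.H1CAlg.ArS PowerSeries in
  have hres' : ∀ Q : k⟦X⟧, rescale (-(2 : k)⁻¹) (rescale (-2 : k) Q) = Q := fun Q => by
    ext n
    rw [coeff_rescale, coeff_rescale, ← mul_assoc, ← mul_pow]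
    simp [h2]
  open Groth.Agent.H1CAlg.ArS PowerSeries in
  have hker : ∀ a, brp a = 0 → a ∈ Ideal.span {y k 1 - x k 1} := fun a ha => by
    obtain ⟨A, B, rfl⟩ := exists_nf a
    rw [brp_nf] at ha
    refine Ideal.mem_span_singleton.mpr ⟨xMap k 1 B, ?_⟩
    rw [nf, eq_neg_of_add_eq_zero_left ha, map_neg, map_mul, xMap_X]; ring
  open Groth.Agent.H1CAlg.ArS PowerSeries in
  have hvp : brp (y k 1 - x k 1) = 0 := by simp
  open Groth.Agent.H1CAlg.ArS PowerSeries in
  have hker' : ∀ a, a ∈ Ideal.span {y k 1 - x k 1} ↔ brp a = 0 := fun a => ⟨fun h => by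
    obtain ⟨b, rfl⟩ := Ideal.mem_span_singleton.mp h
    rw [map_mul, hvp, zero_mul], hker a⟩
  open Groth.Agent.H1CAlg.ArS PowerSeries in
  have hinj : Function.Injective φ := fun a b hab => by
    refine br_inj h2 ?_ ?_
    · rw [← hφp a, ← hφp b, hab]
    · have := expand_injective ((hφm a).symm.trans ((congrArg brm hab).trans (hφm b)))
      rw [← hres' (brm a), this, hres']
  open Groth.Agent.H1CAlg.ArS PowerSeries in
  have hune : (y k 1 + x k 1) ≠ 0 := fun h => by
    have h' := congrArg brp h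
    rw [map_add, brp_x, brp_y, map_zero] at h'
    exact h2 (by simpa [← two_mul, PowerSeries.coeff_X, map_ofNat] using congrArg (coeff 1) h')
  open Groth.Agent.H1CAlg.ArS PowerSeries in
  refine ⟨fun a => ⟨fun h => ?_, ?_⟩, hinj, ?_, ?_, ?_, ?_⟩
  · obtain ⟨A₀, A₁, hA⟩ := exists_parity (brm a)
    have h' := congrArg brm h
    rw [hσm, hA, rescale_parity] at h'
    have hz := eq_zero_of_self_eq_neg h2 (A := X * expand 2 two_ne_zero A₁) (by linear_combination -h')
    rw [hz, add_zero] at hA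
    obtain ⟨b, hbp, hbm⟩ := exists_pair h2 (P := brp a) (Q := rescale (-(2 : k)⁻¹) A₀) (by
      rw [constantCoeff_brp_eq, hA, constantCoeff_expand, ← coeff_zero_eq_constantCoeff_apply (rescale _ A₀), coeff_rescale,
        pow_zero, one_mul, coeff_zero_eq_constantCoeff_apply])
    exact ⟨b, br_inj h2 ((hφp b).trans hbp) (((hφm b).trans (by rw [hbm, hres])).trans hA.symm)⟩
  · rintro ⟨b, rfl⟩
    show σ (φ b) = φ b
    exact br_inj h2 (hσp _) (by rw [hσm, hφm, rescale_neg_expand])
  · refine le_antisymm (Ideal.span_le.mpr ?_) (Ideal.span_le.mpr ?_)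
    · rintro _ ⟨a, rfl⟩
      exact hker _ (by rw [map_sub, hσp, sub_self])
    · rintro _ rfl
      have : y k 1 - x k 1 = σ (x k 1) - x k 1 := by rw [hx]
      rw [this]
      exact Ideal.subset_span ⟨_, rfl⟩
  · intro h
    exact hune (mem_nonZeroDivisors_iff_right.mp h _ (by rw [mul_comm]; exact hv2))
  · haveI hprime : (Ideal.span {y k 1 - x k 1}).IsPrime := by
      have he : Ideal.span {y k 1 - x k 1} = RingHom.ker (brp (k := k)).toRingHom := Ideal.ext hker'
      rw [he]
      exact RingHom.ker_isPrime _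
    refine ⟨⟨hprime, bot_le⟩, fun q hq hle => ?_⟩
    rw [Ideal.span_le, Set.singleton_subset_iff]
    have hq' : (y k 1 - x k 1) * (y k 1 + x k 1) ∈ q := hv2 ▸ zero_mem q
    rcases hq.1.mem_or_mem hq' with h | h
    · exact h
    · exfalso
      have h1 := congrArg (coeff 1) ((hker' _).mp (hle h))
      rw [map_add, brp_x, brp_y, map_zero] at h1
      exact h2 (by simpa [← two_mul, PowerSeries.coeff_X, map_ofNat] using h1)
  · intro hflat
    letI : Algebra (ring k 1) (ring k 1) := φ.toRingHom.toAlgebra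
    haveI : @Module.Flat (ring k 1) (ring k 1) _ _ φ.toRingHom.toAlgebra.toModule := hflat
    obtain ⟨n, c, z, hz, hc⟩ := @Module.Flat.isTrivialRelation_of_sum_smul_eq_zero (ring k 1) (ring k 1) _ _
      φ.toRingHom.toAlgebra.toModule hflat (Fin 1) _ ![x k 1 + y k 1] ![y k 1 - x k 1] (by
        rw [Fin.sum_univ_one]
        show φ (x k 1 + y k 1) * (y k 1 - x k 1) = 0
        rw [hφu, mul_comm, add_comm (x k 1)]; exact hv2)
    have hv : y k 1 - x k 1 = ∑ j, φ (c 0 j) * z j := hz 0
    have hcj : ∀ j, brp (c 0 j) = 0 := fun j => by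
      have h := congrArg brp (show (x k 1 + y k 1) * c 0 j = 0 by simpa using hc j)
      rw [map_mul, map_add, brp_x, brp_y, map_zero, mul_eq_zero, ← two_mul, mul_eq_zero] at h
      rcases h with (h | h) | h
      · exact absurd (by simpa [map_ofNat] using congrArg constantCoeff h) h2
      · exact absurd h X_ne_zero
      · exact h
    have hX2 : X ^ 2 ∣ brm (∑ j, φ (c 0 j) * z j) := by
      rw [map_sum]
      refine Finset.dvd_sum fun j _ => ?_
      rw [map_mul, hφm]
      refine Dvd.dvd.mul_right ?_ _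
      obtain ⟨Q, hQ⟩ := X_dvd_iff.mpr (show constantCoeff (brm (c 0 j)) = 0 by rw [← constantCoeff_brp_eq, hcj, map_zero])
      rw [hQ, map_mul, map_mul, rescale_apply_X, map_mul, expand_X, mul_assoc]
      exact Dvd.dvd.mul_left (dvd_mul_right _ _) _
    rw [← hv] at hX2
    have h1 := X_pow_dvd_iff.mp hX2 1 one_lt_two
    rw [map_sub, brm_x, brm_y] at h1
    exact h2 (by simpa [PowerSeries.coeff_X, map_ofNat, two_mul, ← neg_add', ← two_mul] using h1)

end Groth.Agent.S14096
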