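import Groth.Statements.S14097
import Mathlib.RingTheory.MvPolynomial.Symmetric.Defs
import Mathlib.Tactic.LinearCombination
import Mathlib.Tactic.Ring

set_option autoImplicit false
universe u
open ArSing

namespace Groth.Agent.S14097

open Finset

def E {A : Type u} [CommRing A] (τ : A) (h : ℕ → A) (k : ℕ) : A :=
  ∑ j ∈ Finset.range k, τ ^ (k - 1 - j) * (((Finset.range k).val.map h).esymm j)

theorem esymm_succ {A : Type u} [CommRing A] (h : ℕ → A) (k j : ℕ) :
    ((Finset.range (k + 1)).val.map h).esymm (j + 1) =
      ((Finset.range k).val.map h).esymm (j + 1) + h k * ((Finset.range k).val.map h).esymm j := by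
  rw [Finset.range_add_one, Finset.insert_val_of_notMem Finset.notMem_range_self, Multiset.map_cons]
  simp only [Multiset.esymm, Multiset.powersetCard_cons, Multiset.map_add, Multiset.sum_add,
    Multiset.map_map, Function.comp_def, Multiset.prod_cons, Multiset.sum_map_mul_left]

theorem E_succ {A : Type u} [CommRing A] (τ : A) (h : ℕ → A) (k : ℕ) :
    E τ h (k + 1) = (τ + h k) * E τ h k + ∏ i ∈ Finset.range k, h i := by
  have e0 : ∀ m, ((Finset.range m).val.map h).esymm 0 = 1 := fun m => by simp [Multiset.esymm]
  have etop : ((Finset.range k).val.map h).esymm k = ∏ i ∈ Finset.range k, h i := by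
    rw [Finset.esymm_map_val]
    conv_lhs => rw [show k = (Finset.range k).card from (Finset.card_range k).symm]
    rw [Finset.card_range]
    rw [Finset.sum_eq_single_of_mem (Finset.range k) (Finset.mem_powersetCard.2 ⟨le_rfl, Finset.card_range k⟩)]
    intro t ht hne
    obtain ⟨h1, h2⟩ := Finset.mem_powersetCard.1 ht
    exact absurd (Finset.eq_of_subset_of_card_le h1 (by rw [h2, Finset.card_range])) hne
  have split : ∑ j ∈ Finset.range (k + 1), τ ^ (k - j) * ((Finset.range k).val.map h).esymm j =
      τ * E τ h k + ∏ i ∈ Finset.range k, h i := by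
    rw [Finset.sum_range_succ, etop, Nat.sub_self, pow_zero, one_mul, E, Finset.mul_sum]
    congr 1
    refine Finset.sum_congr rfl fun j hj => ?_
    rw [← mul_assoc, ← pow_succ', show k - 1 - j + 1 = k - j by simp at hj; omega]
  have expand : E τ h (k + 1) = (∑ j ∈ Finset.range (k + 1), τ ^ (k - j) * ((Finset.range k).val.map h).esymm j) +
      h k * E τ h k := by
    rw [E, Finset.sum_range_succ', Finset.sum_range_succ' (fun j => τ ^ (k - j) * _), e0, e0, E, Finset.mul_sum,
      add_right_comm, ← Finset.sum_add_distrib]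
    refine congrArg₂ (· + ·) (Finset.sum_congr rfl fun j hj => ?_) (by simp)
    rw [esymm_succ, show k + 1 - 1 - (j + 1) = k - (j + 1) by omega,
      show k - 1 - j = k - (j + 1) by omega]
    ring
  rw [expand, split]
  ring

theorem mul_E {A : Type u} [CommRing A] (τ : A) (h : ℕ → A) (k : ℕ) (hk : h k ^ 2 + τ * h k = 0) :
    h k * E τ h (k + 1) = ∏ i ∈ Finset.range (k + 1), h i := by
  rw [E_succ, Finset.prod_range_succ]
  linear_combination E τ h k * hk

theorem core {A : Type u} [CommRing A] (τ : A) (h : ℕ → A) : ∀ m, (∀ i, i < m + 1 → h i ^ 2 + τ * h i = 0) →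
    ∏ i ∈ Finset.range m, (h i + h (i + 1) + τ) = E τ h (m + 1) := by
  intro m
  induction m with
  | zero => intro; simp [E, Multiset.esymm]
  | succ m ih =>
    intro hr
    rw [Finset.prod_range_succ, ih fun i hi => hr i (Nat.lt_succ_of_lt hi), E_succ τ h (m + 1),
      ← mul_E τ h m (hr m (by omega))]
    ring

/-- In any commutative ring, if h_0, …, h_(k-1) (k ≥ 2) and τ satisfy h_i^2 + τ h_i = 0, then ∏_(i ≤
k-2) (h_i + h_(i+1) + τ) = Σ_(j ≤ k-1) τ^(k-1-j) e_j(h), e_j the elementary symmetric functions.
(The published statement is the resulting formula for the class of the small diagonal in the Chow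
ring of (P^1)^k, where the h_i are the hyperplane classes of the factors and satisfy these
relations; only the ring identity is asserted here.) -/
theorem result (A : Type u) [CommRing A] (k : ℕ) (hk : 2 ≤ k) (τ : A)
    (h : ℕ → A) (hrel : ∀ i, i < k → h i ^ 2 + τ * h i = 0) :
    ∏ i ∈ Finset.range (k - 1), (h i + h (i + 1) + τ) =
      ∑ j ∈ Finset.range k, τ ^ (k - 1 - j) * (((Finset.range k).val.map h).esymm j) := by
  obtain ⟨m, rfl⟩ : ∃ m, k = m + 1 := ⟨k - 1, by omega⟩
  exact core τ h m hrel

end Groth.Agent.S14097
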