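import Groth.Statements.S14099
import Groth.Agent.H11Strict.PinchFlat

set_option autoImplicit false
universe u
open CategoryTheory AlgebraicGeometry
open BlowUp

namespace Groth.Agent.S14099

/-- Let ι : D̃ → X̃ be a closed immersion whose ideal is effective Cartier, h : D̃ → D finite flat
surjective, all flat over a scheme S, and let (ι, h, b : X̃ → X, j : D → X) be a pushout of schemes
with b affine and j a closed immersion, X carrying the induced morphism to S. Then the closed
subschemes of X defined by the powers I_D^n, n ≥ 1, are flat over S (so blowing up X in I_D commutes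
with base change), b is a blowing up of X in I_D, and the inverse image ideal of I_D along b is the
ideal of D̃: the pair (X̃, D̃) is recovered from (X, D) by blowing up. (The published statement
assumes all three schemes proper, flat and finitely presented over S and D̃ → D only finite flat,
takes for X the pushout built affine-locally from fibre products of rings — for which X̃ → X is
affine and D → X a closed immersion — and also asserts that X is proper and finitely presented over
S; this row assumes only flatness over S and D̃ → D surjective, takes such a pushout as given, and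
does not assert properness or finite presentation of X. The affineness of X̃ → X cannot be dropped:
the affine line with doubled origin, with its two origins pinched to one point, has the affine line
itself as pushout in the category of schemes, and the line is its own blowing up at the origin.) -/
theorem result {S Xt Dt D X : Scheme.{u}}
    (ι : Dt ⟶ Xt) [IsClosedImmersion ι] (hι : BlowUp.IsEffCartierIdeal ι.ker)
    (h : Dt ⟶ D) [IsFinite h] [Flat h] [Surjective h]
    (b : Xt ⟶ X) [IsAffineHom b] (j : D ⟶ X) [IsClosedImmersion j] (hP : IsPushout ι h b j)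
    (sX : X ⟶ S) [Flat (b ≫ sX)] [Flat (j ≫ sX)] [Flat (ι ≫ b ≫ sX)] :
    (∀ n : ℕ, 1 ≤ n → Flat ((j.ker ^ n).subschemeι ≫ sX)) ∧
    BlowUp.IsBlowUp b j.ker ∧ j.ker.comap b = ι.ker := by
  haveI : IsIntegralHom h := inferInstance
  have hcov : ∀ y : D, ∃ π : H7Flat.AP ι h, y ∈ π.V := H7Flat.exists_adapted_pair ι h fun y => by
    obtain ⟨U₀, hU₀, hy, -⟩ := exists_isAffineOpen_mem_and_subset (U := ⊤) (x := j y) trivial
    refine ⟨b ⁻¹ᵁ U₀, hU₀.preimage b, fun z (hz : h z = y) => ?_⟩
    show b (ι z) ∈ U₀
    rwa [← Scheme.Hom.comp_apply, hP.w, Scheme.Hom.comp_apply, hz]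
  obtain ⟨e, rfl, rfl⟩ : ∃ e : H7Flat.glued ι h ≅ X,
      H7Flat.inX hcov ≫ e.hom = b ∧ H7Flat.inY hcov ≫ e.hom = j :=
    ⟨(H7Flat.glued_isPushout hcov).isoIsPushout _ _ hP,
      (H7Flat.glued_isPushout hcov).inl_isoIsPushout_hom _ _ hP,
      (H7Flat.glued_isPushout hcov).inr_isoIsPushout_hom _ _ hP⟩
  exact ⟨fun n hn => H11Strict.flat_pow_inY hι hcov e sX n hn,
    H11Strict.isBlowUp_inX hcov hι e, H11Strict.comap_inY_ker hcov e⟩

end Groth.Agent.S14099
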