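import Groth.Statements.S1410
import Groth.Agent.H7Flat.CohDim.SurjBC
import Groth.Agent.H17.OmegaAffine

set_option autoImplicit false
universe u
open FlatMor

namespace Groth.Agent.S1410

open AlgebraicGeometry CategoryTheory CategoryTheory.Limits Opposite TopologicalSpace Groth.Agent.H10Coh Groth.Agent.H7Flat
attribute [local instance 10000] hasSheafifyAb hasWeakSheafifyAb hasExtAb enoughInjAb
attribute [local instance] enoughInjMod
set_option linter.style.haveILetI false
set_option backward.isDefEq.respectTransparency false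

/-- Vanishing of the cohomology of the structure sheaf is invariant under isomorphisms. -/
lemma subsingleton_HH_of_isIso {Z Z' : Scheme.{u}} (e : Z' ⟶ Z) [IsIso e] (n : ℕ)
    (h : Subsingleton (Coh.HH Z (Coh.structureModule Z) n)) : Subsingleton (Coh.HH Z' (Coh.structureModule Z') n) := by
  haveI : (Coh.structureModule Z').IsQuasicoherent := isQuasicoherent_unit
  haveI : IsIso (ClSub.unitToPush e) := inferInstance
  haveI : Subsingleton (Coh.HH Z ((Coh.push e).obj (Coh.structureModule Z')) n) :=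
    CohDim.subsingleton_HH_of_iso (asIso (ClSub.unitToPush e)) n h
  exact (CohDim.lerayHH e (Coh.structureModule Z') n).symm.toEquiv.subsingleton


open AlgebraicGeometry CategoryTheory Limits in
/-- Let f : X → Y be proper with every fibre of dimension at most 1 and with H^1(X_y, O) = 0 for all y,
and assume O_Y → f_* O_X is surjective (checked on affine opens). Then for every base change f' : X'
→ Y' of f, O_{Y'} → f'_* O_{X'} is surjective on every affine open of Y'. -/
theorem result {X Y : Scheme.{u}} (f : X ⟶ Y) [IsProper f]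
    (hdim : ∀ y : Y, topologicalKrullDim ↑(f.fiber y) ≤ 1) (hH1 : ∀ y : Y, Subsingleton (Coh.HH (f.fiber y) (Coh.structureModule (f.fiber y)) 1))
    (hsurj : ∀ U : Y.Opens, IsAffineOpen U → Function.Surjective (f.app U))
    {X' Y' : Scheme.{u}} (f' : X' ⟶ Y') (g' : X' ⟶ X) (g : Y' ⟶ Y) (hc : IsPullback g' f' f g) :
    ∀ U' : Y'.Opens, IsAffineOpen U' → Function.Surjective (f'.app U') := by
  haveI : IsProper f' := MorphismProperty.of_isPullback hc ‹IsProper f›
  haveI : (Coh.structureModule X').IsQuasicoherent := isQuasicoherent_unit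
  haveI : (Coh.structureModule Y').IsQuasicoherent := isQuasicoherent_unit
  haveI : ((Coh.push f').obj (Coh.structureModule X')).IsQuasicoherent := isQuasicoherent_pushforward f' _
  have key : ∀ (W : Y'.Opens) (V : Y.Opens), IsAffineOpen W → IsAffineOpen V → W ≤ g ⁻¹ᵁ V →
      Function.Surjective (f'.app W) := by
    intro W V hW hV hWV
    letI := LeadBC.preOver f hV
    letI := LeadBC.preOver f' hW
    let fV : (f ⁻¹ᵁ V).toScheme ⟶ Spec Γ(Y, V) := (f ⁻¹ᵁ V).toScheme ↘ Spec (CommRingCat.of Γ(Y, V))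
    let fW : (f' ⁻¹ᵁ W).toScheme ⟶ Spec Γ(Y', W) := (f' ⁻¹ᵁ W).toScheme ↘ Spec (CommRingCat.of Γ(Y', W))
    have hbV : IsPullback (f ⁻¹ᵁ V).ι fV f hV.fromSpec :=
      (isPullback_morphismRestrict f V).flip.of_iso (Iso.refl _) (Iso.refl _) hV.isoSpec (Iso.refl _)
        (by simp) rfl (by simp) (by simp)
    have hbW : IsPullback (f' ⁻¹ᵁ W).ι fW f' hW.fromSpec :=
      (isPullback_morphismRestrict f' W).flip.of_iso (Iso.refl _) (Iso.refl _) hW.isoSpec (Iso.refl _)
        (by simp) rfl (by simp) (by simp)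
    haveI : IsProper fV := MorphismProperty.of_isPullback hbV ‹IsProper f›
    have hsV : Function.Surjective (Coh.toGlobal (A := Γ(Y, V)) fV) := by
      rw [show Coh.toGlobal (A := Γ(Y, V)) fV = preΓ f V from LeadBC.toGlobal_preOver f hV]
      exact (ConcreteCategory.bijective_of_isIso (f ⁻¹ᵁ V).topIso.inv).2.comp (hsurj V hV)
    let ψ := g.appLE V W hWV
    have hW' : IsPullback ((f' ⁻¹ᵁ W).ι ≫ g') fW f (Spec.map ψ ≫ hV.fromSpec) := by
      rw [IsAffineOpen.SpecMap_appLE_fromSpec g hV hW hWV]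
      exact hbW.paste_horiz hc
    let q : (f' ⁻¹ᵁ W).toScheme ⟶ (f ⁻¹ᵁ V).toScheme :=
      hbV.lift ((f' ⁻¹ᵁ W).ι ≫ g') (fW ≫ Spec.map ψ) (by rw [Category.assoc]; exact hW'.w)
    have hq : IsPullback q fW fV (Spec.map ψ) :=
      IsPullback.of_right (by rw [hbV.lift_fst]; exact hW') (hbV.lift_snd _ _ _) hbV
    have hs := CohDim.surjective_toGlobal_baseChange fV (fun s => by
        rw [CohDim.dim_fiber_eq hbV s]; exact hdim _)
      (fun s => by
        have hp := isPullback_fiberToSpecResidueField_of_isPullback hbV s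
        haveI : IsIso (hV.fromSpec.residueFieldMap s) := inferInstance
        haveI : IsIso (Spec.map (hV.fromSpec.residueFieldMap s)) := inferInstance
        haveI := hp.isIso_fst_of_isIso
        exact subsingleton_HH_of_isIso (pullback.map fV ((Spec Γ(Y, V)).fromSpecResidueField s) f
          (Y.fromSpecResidueField (hV.fromSpec s)) (f ⁻¹ᵁ V).ι (Spec.map (hV.fromSpec.residueFieldMap s))
          hV.fromSpec hbV.w.symm _) 1 (hH1 _))
      hsV ψ q fW hq
    rw [show Coh.toGlobal (A := Γ(Y', W)) fW = preΓ f' W from LeadBC.toGlobal_preOver f' hW] at hs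
    intro z
    obtain ⟨a, ha⟩ := hs ((f' ⁻¹ᵁ W).topIso.inv z)
    exact ⟨a, (ConcreteCategory.bijective_of_isIso (f' ⁻¹ᵁ W).topIso.inv).1 ha⟩
  haveI : Epi (ClSub.unitToPush f') := by
    apply (shF Y').epi_of_epi_map
    refine epi_of_locally_surjective _ fun U t x hx => ?_
    obtain ⟨V, hV, hxV, -⟩ := Opens.isBasis_iff_nbhd.1 Y.isBasis_affineOpens (show g x ∈ (⊤ : Y.Opens) from trivial)
    obtain ⟨W, hW, hxW, hWU⟩ := Opens.isBasis_iff_nbhd.1 Y'.isBasis_affineOpens (show x ∈ U ⊓ g ⁻¹ᵁ V from ⟨hx, hxV⟩)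
    exact ⟨W, hWU.trans inf_le_left, hxW, key W V hW hV (hWU.trans inf_le_right) _⟩
  intro U' hU'
  exact surjective_app_of_epi (ClSub.unitToPush f') hU'

end Groth.Agent.S1410
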