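import Groth.Statements.S14101
import Groth.Agent.H02CA.SmoothRegular
import Mathlib.Tactic.LinearCombination

set_option autoImplicit false
universe u
open CAlg

namespace Groth.Agent.S14101

/-- Affine form — let A be a reduced commutative ring of finite type over ℤ. Then for all but finitely
many prime numbers p the reduction A/pA is reduced. (The published statement is for a reduced scheme
of finite type over ℤ; such a scheme has a finite affine open cover, so the affine form carries the
same content.) -/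
theorem result
    (A : Type u) [CommRing A] [Algebra.FiniteType ℤ A] [IsReduced A] :
    {p : ℕ | p.Prime ∧ ¬ IsReduced (A ⧸ Ideal.span {(p : A)})}.Finite := by
  classical
  haveI : IsNoetherianRing A := Algebra.FiniteType.isNoetherianRing ℤ A
  haveI : Algebra.FinitePresentation ℤ A := Algebra.FinitePresentation.of_finiteType.mp inferInstance
  have hred : ∀ (p : ℕ), p.Prime → ∀ (D : Type u) [CommRing D] [Algebra.Smooth ℤ D],
      IsReduced (D ⧸ Ideal.span {(p : D)}) := by
    intro p hp D _ _
    haveI := Fact.mk hp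
    let R' : Type u := ULift.{u} (ℤ ⧸ Ideal.span {(p : ℤ)})
    have hmax : (Ideal.span {(p : ℤ)}).IsMaximal :=
      PrincipalIdealRing.isMaximal_of_irreducible (Nat.prime_iff_prime_int.mp hp).irreducible
    haveI : IsReduced (ℤ ⧸ Ideal.span {(p : ℤ)}) := by
      rw [← Ideal.isRadical_iff_quotient_reduced]
      exact hmax.isPrime.isRadical
    haveI : IsReduced R' := isReduced_of_injective (ULift.ringEquiv.toRingHom) ULift.down_injective
    haveI : Algebra.Smooth R' (TensorProduct ℤ R' D) := inferInstance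
    haveI : IsReduced (TensorProduct ℤ R' D) :=
      Groth.Agent.H02CA.isReduced_of_smooth R' (TensorProduct ℤ R' D)
    let e : TensorProduct ℤ D (ℤ ⧸ Ideal.span {(p : ℤ)}) ≃ₐ[ℤ] TensorProduct ℤ R' D :=
      (Algebra.TensorProduct.comm ℤ D _).trans
        (Algebra.TensorProduct.congr ULift.algEquiv.symm AlgEquiv.refl)
    haveI : IsReduced (TensorProduct ℤ D (ℤ ⧸ Ideal.span {(p : ℤ)})) :=
      isReduced_of_injective e e.injective
    let e2 := Algebra.TensorProduct.quotIdealMapEquivTensorQuot D (Ideal.span {(p : ℤ)})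
    have h : IsReduced (D ⧸ (Ideal.span {(p : ℤ)}).map (algebraMap ℤ D)) :=
      isReduced_of_injective e2 e2.injective
    rw [Ideal.map_span, Set.image_singleton, map_natCast] at h
    exact h
  have key : ∀ q ∈ minimalPrimes A, ∃ g ∉ q, ∃ E : Set ℕ, E.Finite ∧
      ∀ p : ℕ, p.Prime → p ∉ E → ∀ a : A, a * a ∈ Ideal.span {(p : A)} →
        ∃ k, g ^ k * a ∈ Ideal.span {(p : A)} := by
    intro q hq
    haveI : q.IsPrime := hq.isPrime
    by_cases hchar : ∃ n : ℕ, n ≠ 0 ∧ (n : A) ∈ q
    · obtain ⟨n, hn0, hnq⟩ := hchar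
      obtain ⟨y, hy, hny⟩ : ∃ y ∉ q, (n : A) * y = 0 := by
        have hfin : (minimalPrimes A).Finite := minimalPrimes.finite_of_isNoetherianRing A
        have hno : ¬ (hfin.toFinset.erase q).inf id ≤ q := by
          intro hle
          obtain ⟨r, hr, hrq⟩ := (Ideal.IsPrime.inf_le' ‹q.IsPrime›).mp hle
          rw [Finset.mem_erase, Set.Finite.mem_toFinset] at hr
          exact hr.1 (le_antisymm hrq (hq.2 ⟨hr.2.isPrime, bot_le⟩ hrq))
        obtain ⟨y, hy1, hy2⟩ := SetLike.not_le_iff_exists.mp hno
        refine ⟨y, hy2, ?_⟩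
        have : (n : A) * y ∈ nilradical A := by
          rw [nilradical_eq_sInf, Ideal.mem_sInf]
          intro r hr
          haveI : r.IsPrime := hr
          obtain ⟨r', hr', hr'r⟩ := Ideal.exists_minimalPrimes_le (I := (⊥ : Ideal A)) (J := r) bot_le
          apply hr'r
          by_cases hrq : r' = q
          · subst hrq
            exact Ideal.mul_mem_right _ _ hnq
          · refine Ideal.mul_mem_left _ _ ?_
            exact Finset.inf_le (f := id) (Finset.mem_erase.mpr ⟨hrq, hfin.mem_toFinset.mpr hr'⟩) hy1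
        rwa [nilradical_eq_zero, Submodule.zero_eq_bot, Submodule.mem_bot] at this
      refine ⟨y, hy, (n.divisors : Set ℕ), n.divisors.finite_toSet, ?_⟩
      intro p hp hpE a _
      refine ⟨1, ?_⟩
      have hcop : IsCoprime (p : ℤ) (n : ℤ) := by
        rw [Int.isCoprime_iff_nat_coprime]
        simpa using (hp.coprime_iff_not_dvd.mpr fun h => hpE (by simp [h, hn0]))
      obtain ⟨u, v, huv⟩ := hcop
      have h1 : (u : A) * (p : A) + (v : A) * (n : A) = 1 := by exact_mod_cast congrArg (fun z : ℤ => (z : A)) huv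
      rw [pow_one, Ideal.mem_span_singleton']
      exact ⟨(u : A) * (y * a), by linear_combination (y * a) * h1 - (v : A) * a * hny⟩
    · let K := Localization.AtPrime q
      haveI : IsReduced K := inferInstance
      have hmax : IsLocalRing.maximalIdeal K = ⊥ := by
        have h := IsLocalization.AtPrime.radical_map_of_mem_minimalPrimes (A := K) q ⊥ hq
        rw [Ideal.map_bot, Localization.AtPrime.map_eq_maximalIdeal] at h
        rw [← h]
        exact nilradical_eq_zero K
      let _ : Field K := (IsLocalRing.isField_iff_maximalIdeal_eq.mpr hmax).toField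
      haveI : CharZero K := by
        refine charZero_of_inj_zero fun n hn => ?_
        by_contra hn0
        rw [← map_natCast (algebraMap A K), IsLocalization.map_eq_zero_iff q.primeCompl] at hn
        obtain ⟨t, ht⟩ := hn
        apply hchar
        exact ⟨n, hn0, (Ideal.IsPrime.mem_or_mem ‹q.IsPrime› (by rw [ht]; exact q.zero_mem)).resolve_left t.2⟩
      have hfield : ∀ (L : Type u) [Field L] [CharZero L], Algebra.EssFiniteType ℤ L →
          Algebra.FormallySmooth ℤ L := by
        intro L _ _ _
        haveI : Algebra.FormallySmooth ℤ ℚ := Algebra.FormallySmooth.of_isLocalization (nonZeroDivisors ℤ)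
        haveI : IsScalarTower ℤ ℚ L := inferInstance
        haveI : Algebra.EssFiniteType ℚ L := Algebra.EssFiniteType.of_comp ℤ ℚ L
        haveI : Algebra.FormallySmooth ℚ L := Algebra.FormallySmooth.of_perfectField
        exact Algebra.FormallySmooth.comp ℤ ℚ L
      haveI : Algebra.IsSmoothAt ℤ q := by
        have h1 : @Algebra.EssFiniteType ℤ K _ _ (Ring.toIntAlgebra K) := by
          convert Algebra.EssFiniteType.comp ℤ A (Localization.AtPrime q) using 1
          exact Subsingleton.elim _ _
        convert hfield K h1 using 1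
        all_goals first | rfl | exact Subsingleton.elim _ _
      obtain ⟨g, hg, hsm⟩ := Algebra.IsSmoothAt.exists_notMem_smooth ℤ q
      haveI := hsm
      refine ⟨g, hg, ∅, Set.finite_empty, ?_⟩
      intro p hp _ a ha
      haveI := @hred p hp (Localization.Away g) _ (by convert hsm using 1; exact Subsingleton.elim _ _)
      have h1 : algebraMap A (Localization.Away g) a ∈ Ideal.span {(p : Localization.Away g)} := by
        rw [← Ideal.Quotient.eq_zero_iff_mem]
        apply IsReduced.eq_zero
        refine ⟨2, ?_⟩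
        rw [← map_pow, Ideal.Quotient.eq_zero_iff_mem, pow_two, ← map_mul]
        have := Ideal.mem_map_of_mem (algebraMap A (Localization.Away g)) ha
        rwa [Ideal.map_span, Set.image_singleton, map_natCast] at this
      have h2 : algebraMap A (Localization.Away g) a ∈
          (Ideal.span {(p : A)}).map (algebraMap A (Localization.Away g)) := by
        rwa [Ideal.map_span, Set.image_singleton, map_natCast]
      obtain ⟨m, ⟨k, rfl⟩, hm⟩ := (IsLocalization.algebraMap_mem_map_algebraMap_iff
        (Submonoid.powers g) (Localization.Away g) _ a).mp h2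
      exact ⟨k, hm⟩
  choose g hg E hE hkey using key
  have hfin : (minimalPrimes A).Finite := minimalPrimes.finite_of_isNoetherianRing A
  haveI := hfin.fintype
  let J : Ideal A := Ideal.span (Set.range fun q : minimalPrimes A => g q.1 q.2)
  obtain ⟨G, hGJ, hGnot⟩ : ∃ G ∈ J, ∀ q ∈ minimalPrimes A, G ∉ q := by
    have : ¬ ((J : Set A) ⊆ ⋃ q ∈ (↑hfin.toFinset : Set (Ideal A)), (q : Set A)) := by
      rw [Ideal.subset_union_prime ⊥ ⊥ (fun q hq _ _ => (hfin.mem_toFinset.mp hq).isPrime)]
      rintro ⟨q, hq, hJq⟩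
      have hq' := hfin.mem_toFinset.mp hq
      exact hg q hq' (hJq (Ideal.subset_span ⟨⟨q, hq'⟩, rfl⟩))
    obtain ⟨G, h1, h2⟩ := Set.not_subset.mp this
    refine ⟨G, h1, fun q hq hGq => h2 ?_⟩
    simp only [Set.mem_iUnion, Finset.mem_coe]
    exact ⟨q, hfin.mem_toFinset.mpr hq, hGq⟩
  have hGnzd : ∀ z : A, G * z = 0 → z = 0 := by
    intro z hz
    have : z ∈ nilradical A := by
      rw [nilradical_eq_sInf, Ideal.mem_sInf]
      intro r hr
      haveI : r.IsPrime := hr
      obtain ⟨r', hr', hr'r⟩ := Ideal.exists_minimalPrimes_le (I := (⊥ : Ideal A)) (J := r) bot_le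
      apply hr'r
      exact (hr'.isPrime.mem_or_mem (by rw [hz]; exact r'.zero_mem)).resolve_left (hGnot r' hr')
    rwa [nilradical_eq_zero, Submodule.zero_eq_bot, Submodule.mem_bot] at this
  let Tn : Ideal A :=
    { carrier := {z | ∃ n : ℕ, n ≠ 0 ∧ (n : A) * z ∈ Ideal.span {G}}
      add_mem' := by
        rintro x y ⟨n, hn, hx⟩ ⟨m, hm, hy⟩
        refine ⟨n * m, mul_ne_zero hn hm, ?_⟩
        rw [Nat.cast_mul, mul_add]
        refine add_mem ?_ ?_
        · rw [mul_comm (n : A), mul_assoc]
          exact Ideal.mul_mem_left _ _ hx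
        · rw [mul_assoc]
          exact Ideal.mul_mem_left _ _ hy
      zero_mem' := ⟨1, one_ne_zero, by simp⟩
      smul_mem' := by
        rintro c x ⟨n, hn, hx⟩
        refine ⟨n, hn, ?_⟩
        rw [smul_eq_mul, mul_left_comm]
        exact Ideal.mul_mem_left _ _ hx }
  obtain ⟨T, hT⟩ := IsNoetherian.noetherian Tn
  have hTmem : ∀ t ∈ T, ∃ n : ℕ, n ≠ 0 ∧ (n : A) * t ∈ Ideal.span {G} := fun t ht =>
    (show t ∈ Tn from hT ▸ Submodule.subset_span ht)
  choose! nT hnT0 hnT using hTmem
  let N : ℕ := ∏ t ∈ T, nT t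
  have hN0 : N ≠ 0 := Finset.prod_ne_zero_iff.mpr hnT0
  have hN : ∀ z ∈ Tn, (N : A) * z ∈ Ideal.span {G} := by
    intro z hz
    rw [← hT] at hz
    induction hz using Submodule.span_induction with
    | mem t ht =>
      obtain ⟨k, hk⟩ := Finset.dvd_prod_of_mem nT ht
      change ((∏ t ∈ T, nT t : ℕ) : A) * t ∈ _
      rw [hk, Nat.cast_mul, mul_comm (nT t : A), mul_assoc]
      exact Ideal.mul_mem_left _ _ (hnT t ht)
    | zero => simp
    | add x y _ _ hx hy => rw [mul_add]; exact add_mem hx hy
    | smul c x _ hx => rw [smul_eq_mul, mul_left_comm]; exact Ideal.mul_mem_left _ _ hx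
  refine Set.Finite.subset ((Set.finite_iUnion (fun q : minimalPrimes A => hE q.1 q.2)).union
    N.divisors.finite_toSet) ?_
  rintro p ⟨hp, hnr⟩
  by_contra hpE
  rw [Set.mem_union, not_or, Set.mem_iUnion, not_exists] at hpE
  apply hnr
  rw [isReduced_iff_pow_one_lt 2 one_lt_two]
  intro z hz
  obtain ⟨a, rfl⟩ := Ideal.Quotient.mk_surjective z
  rw [← map_pow, Ideal.Quotient.eq_zero_iff_mem, pow_two] at hz
  rw [Ideal.Quotient.eq_zero_iff_mem]
  have hJ : J ≤ ((Ideal.span {(p : A)}).colon {a}).radical := by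
    rw [Ideal.span_le]
    rintro _ ⟨q, rfl⟩
    obtain ⟨k, hk⟩ := hkey q.1 q.2 p hp (hpE.1 q) a hz
    exact ⟨k, Submodule.mem_colon_singleton.mpr hk⟩
  obtain ⟨k, hk⟩ := hJ hGJ
  have hk' : G ^ k * a ∈ Ideal.span {(p : A)} := Submodule.mem_colon_singleton.mp hk
  clear hk
  have hpN : ¬ p ∣ N := fun h => hpE.2 (by simp [h, hN0])
  have hstep : ∀ x : A, G * x ∈ Ideal.span {(p : A)} → x ∈ Ideal.span {(p : A)} := by
    intro x hx
    obtain ⟨y, hy⟩ := Ideal.mem_span_singleton'.mp hx
    have hyT : y ∈ Tn := ⟨p, hp.ne_zero, by rw [mul_comm, hy]; exact Ideal.mem_span_singleton'.mpr ⟨x, mul_comm _ _⟩⟩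
    obtain ⟨w, hw⟩ := Ideal.mem_span_singleton'.mp (hN y hyT)
    have hcop : IsCoprime (p : ℤ) (N : ℤ) := by
      rw [Int.isCoprime_iff_nat_coprime]
      simpa using hp.coprime_iff_not_dvd.mpr hpN
    obtain ⟨u, v, huv⟩ := hcop
    have h1 : (u : A) * (p : A) + (v : A) * (N : A) = 1 := by exact_mod_cast congrArg (fun z : ℤ => (z : A)) huv
    have hy2 : y = G * ((u : A) * x + (v : A) * w) := by
      linear_combination (-y) * h1 + (u : A) * hy - (v : A) * hw
    have hx2 := hGnzd (x - ((u : A) * x + (v : A) * w) * p) (by linear_combination (-1 : A) * hy + (p : A) * hy2)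
    rw [sub_eq_zero] at hx2
    exact Ideal.mem_span_singleton'.mpr ⟨_, hx2.symm⟩
  clear hz hJ
  induction k with
  | zero => simpa using hk'
  | succ k ih => exact ih (hstep _ (by rwa [pow_succ', mul_assoc] at hk'))

end Groth.Agent.S14101
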