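import Groth.Statements.S14105
import Groth.Agent.H13CInt.FibreDepth

set_option autoImplicit false
universe u
open CategoryTheory CategoryTheory.Limits AlgebraicGeometry Opposite TopologicalSpace
open CInt

namespace Groth.Agent.S14105

/-- Let f : X → S be a morphism and g : S' → S a base change, with X, S, S' and X' = X ×_S S' locally
Noetherian, and let Y be a closed subset of X with preimage Y' under the projection X' → X. Writing
the codimension of a closed subset relative to a morphism as the infimum, over its points, of the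
Krull dimension of the local ring of the fibre through that point: the codimension of Y' relative to
X' → S' is at least the codimension of Y relative to f, and the two are equal when the projection X'
→ X maps Y' onto Y. -/
theorem result {X S S' : Scheme.{u}} (f : X ⟶ S) (g : S' ⟶ S)
    [IsLocallyNoetherian X] [IsLocallyNoetherian S] [IsLocallyNoetherian S']
    [IsLocallyNoetherian (pullback f g)] (Y : Set ↥X) (hY : IsClosed Y) :
    ((⨅ y : Y, ringKrullDim ↑(CInt.fiberStalk f y.1)) ≤
      ⨅ y' : (fun x' => (pullback.fst f g) x') ⁻¹' Y,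
        ringKrullDim ↑(CInt.fiberStalk (pullback.snd f g) y'.1)) ∧
    (Y ⊆ Set.range (pullback.fst f g).base →
      (⨅ y' : (fun x' => (pullback.fst f g) x') ⁻¹' Y,
        ringKrullDim ↑(CInt.fiberStalk (pullback.snd f g) y'.1)) =
        ⨅ y : Y, ringKrullDim ↑(CInt.fiberStalk f y.1)) := by
  refine ⟨le_iInf fun y' => ?_, fun hsub => le_antisymm (le_iInf fun y => ?_) (le_iInf fun y' => ?_)⟩
  rotate_left
  · obtain ⟨y0, hy0⟩ := hsub y.2
    have hs : g (pullback.snd f g y0) = f y.1 := by
      rw [← hy0, ← Scheme.Hom.comp_apply, ← pullback.condition, Scheme.Hom.comp_apply]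
    obtain ⟨w0, hw0⟩ := H13CInt.exists_fiberι_eq (pullback.snd f g) _ y0 rfl
    obtain ⟨z, hz⟩ := H13CInt.exists_fiberι_eq f (g (pullback.snd f g y0)) y.1 hs.symm
    obtain ⟨p, hp, hd⟩ := H13CInt.exists_same_image_dim_le
      (H13CInt.fiberBC f g (pullback.snd f g y0)) z
      ⟨w0, H13CInt.fiberι_injective f _ (by rw [H13CInt.fiberBC_fiberι, hw0, hz]; exact hy0)⟩
      (fun _ => inferInstance)
    have hfp : pullback.fst f g ((pullback.snd f g).fiberι _ p) = y.1 := by
      rw [← H13CInt.fiberBC_fiberι, hp, hz]
    refine iInf_le_of_le ⟨(pullback.snd f g).fiberι _ p,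
      show pullback.fst f g _ ∈ Y from hfp.symm ▸ y.2⟩ ?_
    rw [← H13CInt.fiber_stalk_dim_eq]
    rw [H13CInt.fiber_stalk_dim_eq f z, hz] at hd
    exact hd
  all_goals
    refine iInf_le_of_le ⟨pullback.fst f g y'.1, y'.2⟩ ?_
    obtain ⟨w, hw⟩ := H13CInt.exists_fiberι_eq (pullback.snd f g) _ y'.1 rfl
    have h := H13CInt.dim_le_of_flat (H13CInt.fiberBC f g (pullback.snd f g y'.1)) w
    rw [H13CInt.fiber_stalk_dim_eq f (H13CInt.fiberBC f g _ w),
      H13CInt.fiber_stalk_dim_eq (pullback.snd f g) w, H13CInt.fiberBC_fiberι, hw] at h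
    exact h

end Groth.Agent.S14105
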