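import Groth.Statements.S14106
import Groth.Agent.H13CInt.FibreDim
import Groth.Agent.H19Grp.RegularSmooth
import Groth.Agent.H05EGA4.FSFlat
import Groth.Agent.H9Hens.HfpSmooth
import Groth.Agent.H28Neron.Hartogs

set_option autoImplicit false
universe u
open CategoryTheory CategoryTheory.Limits AlgebraicGeometry Opposite TopologicalSpace
open CInt

namespace Groth.Agent.S14106

set_option backward.isDefEq.respectTransparency false
set_option linter.style.haveILetI false

/-- Some point of `Y` has local codimension at most the dimension of the fibre of `X` at `y`. -/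
theorem exists_dim_le {X Y S : Scheme.{u}} [IsLocallyNoetherian X]
    [IsLocallyNoetherian S] (f : X ⟶ S) [Smooth f] (i : Y ⟶ X) [IsClosedImmersion i] [Smooth (i ≫ f)]
    (y : Y) : ∃ y'' : Y, ringKrullDim ↑(X.presheaf.stalk (i y'')) ≤
      ringKrullDim ↑(CInt.fiberStalk f (i y)) := by
  haveI : Smooth (f.fiberToSpecResidueField (f (i y))) := MorphismProperty.pullback_snd _ _ inferInstance
  haveI : Smooth ((i ≫ f).fiberToSpecResidueField ((i ≫ f) y)) :=
    MorphismProperty.pullback_snd _ _ inferInstance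
  haveI hB : IsRegularLocalRing (CInt.fiberStalk f (i y)) :=
    H19Grp.isRegularLocalRing_stalk_of_smooth (k := S.residueField (f (i y)))
      (f.fiberToSpecResidueField (f (i y))) (f.asFiber (i y))
  haveI hC : IsRegularLocalRing (CInt.fiberStalk (i ≫ f) y) :=
    H19Grp.isRegularLocalRing_stalk_of_smooth (k := S.residueField ((i ≫ f) y))
      ((i ≫ f).fiberToSpecResidueField ((i ≫ f) y)) ((i ≫ f).asFiber y)
  let φ : S.presheaf.stalk (f (i y)) →+* X.presheaf.stalk (i y) := (f.stalkMap (i y)).hom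
  let π : X.presheaf.stalk (i y) →+* Y.presheaf.stalk y := (i.stalkMap y).hom
  have hπ : Function.Surjective π := i.stalkMap_surjective y
  let m := IsLocalRing.maximalIdeal (S.presheaf.stalk (f (i y)))
  have hcomp : ((i ≫ f).stalkMap y).hom = π.comp φ := by
    rw [Scheme.Hom.stalkMap_comp]; rfl
  letI := φ.toAlgebra
  letI : Algebra (S.presheaf.stalk (f (i y))) (Y.presheaf.stalk y) := (π.comp φ).toAlgebra
  haveI : Module.Flat (S.presheaf.stalk (f (i y))) (Y.presheaf.stalk y) := by
    show (π.comp φ).Flat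
    rw [← hcomp]
    exact Flat.stalkMap (i ≫ f) y
  let eB : X.presheaf.stalk (i y) ⧸ m.map φ ≃+* CInt.fiberStalk f (i y) :=
    H13CInt.fiberStalkEquiv f (i y)
  have hIC : (m.map φ).map π = m.map ((i ≫ f).stalkMap y).hom := by
    rw [Ideal.map_map, hcomp]
  let eC : Y.presheaf.stalk y ⧸ (m.map φ).map π ≃+* CInt.fiberStalk (i ≫ f) y :=
    (Ideal.quotEquivOfEq hIC).trans (H13CInt.fiberStalkEquiv (i ≫ f) y)
  haveI : IsRegularLocalRing (X.presheaf.stalk (i y) ⧸ m.map φ) := IsRegularLocalRing.of_ringEquiv eB.symm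
  haveI : IsRegularLocalRing (Y.presheaf.stalk y ⧸ (m.map φ).map π) :=
    IsRegularLocalRing.of_ringEquiv eC.symm
  let π0 := Ideal.quotientMap ((m.map φ).map π) π Ideal.le_comap_map
  have hπ0 : Function.Surjective π0 := Ideal.quotientMap_surjective hπ
  obtain ⟨r, g0, hg0, hreg⟩ := H05EGA4.exists_regular_generators_ker π0 hπ0
  have hg0m : ∀ x ∈ List.ofFn g0, x ∈ IsLocalRing.maximalIdeal _ := fun x hx => by
    obtain ⟨j, rfl⟩ := List.mem_ofFn.mp hx
    exact IsLocalRing.le_maximalIdeal (RingHom.ker_ne_top π0) (hg0 ▸ Ideal.subset_span ⟨j, rfl⟩)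
  have hr : (r : WithBot ℕ∞) ≤ ringKrullDim ↑(CInt.fiberStalk f (i y)) := by
    rw [← ringKrullDim_eq_of_ringEquiv eB, ← ringKrullDim_add_length_eq_ringKrullDim_of_isRegular _
      ((IsLocalRing.isRegular_iff_isWeaklyRegular_of_subset_maximalIdeal hg0m).2 hreg), List.length_ofFn]
    haveI : Nontrivial ((X.presheaf.stalk (i y) ⧸ m.map φ) ⧸ Ideal.ofList (List.ofFn g0)) :=
      Ideal.Quotient.nontrivial_iff.mpr (ne_top_of_le_ne_top (IsLocalRing.maximalIdeal.isMaximal _).ne_top
        (Ideal.span_le.mpr hg0m))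
    exact le_add_of_nonneg_left ringKrullDim_nonneg_of_nontrivial
  let K := RingHom.ker π
  have hlift : ∀ j, ∃ a ∈ K, Ideal.Quotient.mk (m.map φ) a = g0 j := fun j => by
    obtain ⟨b, hb⟩ := Ideal.Quotient.mk_surjective (g0 j)
    have h0 : π b ∈ (m.map φ).map π := by
      have : g0 j ∈ RingHom.ker π0 := hg0 ▸ Ideal.subset_span ⟨j, rfl⟩
      rw [← hb, RingHom.mem_ker] at this
      exact Ideal.Quotient.eq_zero_iff_mem.mp this
    obtain ⟨c, hc, hcb⟩ := (Ideal.mem_map_iff_of_surjective π hπ).mp h0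
    refine ⟨b - c, by rw [RingHom.mem_ker, map_sub, hcb, sub_self], ?_⟩
    rw [map_sub, hb, Ideal.Quotient.eq_zero_iff_mem.mpr hc, sub_zero]
  choose g hgK hg using hlift
  have hgle : Ideal.span (Set.range g) ≤ K := Ideal.span_le.mpr (by rintro _ ⟨j, rfl⟩; exact hgK j)
  have hK : K ≤ Ideal.span (Set.range g) := by
    refine Submodule.le_of_le_smul_of_le_jacobson_bot (IsNoetherian.noetherian K)
      (I := m.map φ) (haveI : IsLocalHom φ := inferInstanceAs (IsLocalHom (f.stalkMap (i y)).hom); (IsLocalRing.map_maximalIdeal_le φ).trans (IsLocalRing.maximalIdeal_le_jacobson ⊥)) fun k hk => ?_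
    have hk0 : Ideal.Quotient.mk (m.map φ) k ∈ (Ideal.span (Set.range g)).map (Ideal.Quotient.mk (m.map φ)) := by
      rw [Ideal.map_span, ← Set.range_comp, show Ideal.Quotient.mk (m.map φ) ∘ g = g0 from funext hg, hg0,
        RingHom.mem_ker]
      show Ideal.Quotient.mk _ (π k) = 0
      rw [RingHom.mem_ker.mp hk, map_zero]
    obtain ⟨a, ha, hak⟩ := (Ideal.mem_map_iff_of_surjective _ Ideal.Quotient.mk_surjective).mp hk0
    have h1 : k - a ∈ m.map φ := Ideal.Quotient.eq.mp hak.symm
    have h2 : π (k - a) = 0 := by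
      rw [map_sub, RingHom.mem_ker.mp hk, RingHom.mem_ker.mp (hgle ha), sub_zero]
    let χ : X.presheaf.stalk (i y) →ₐ[S.presheaf.stalk (f (i y))] Y.presheaf.stalk y :=
      { π with commutes' := fun _ => rfl }
    have h3 := H9Hens.ker_inf_map_le_smul χ hπ h2 h1
    rw [← sub_add_cancel k a]
    exact add_mem (Submodule.mem_sup_right h3) (Submodule.mem_sup_left ha)
  have hKspan : K = Ideal.span (Set.range g) := le_antisymm hK hgle
  haveI : Nontrivial (Y.presheaf.stalk y) := inferInstance
  obtain ⟨P, hP⟩ := Ideal.nonempty_minimalPrimes (I := K) (RingHom.ker_ne_top π)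
  haveI := hP.1.1
  have hKP : RingHom.ker π ≤ P := hP.1.2
  haveI hQ : (P.map π).IsPrime := Ideal.map_isPrime_of_surjective hπ hKP
  have hQP : (P.map π).comap π = P := by
    rw [Ideal.comap_map_of_surjective π hπ, sup_eq_left]
    exact hKP
  let Q : Spec (Y.presheaf.stalk y) := ⟨P.map π, hQ⟩
  refine ⟨Y.fromSpecStalk y Q, ?_⟩
  have hiy : i (Y.fromSpecStalk y Q) = X.fromSpecStalk (i y) (Spec.map (i.stalkMap y) Q) := by
    rw [← Scheme.Hom.comp_apply, ← Scheme.SpecMap_stalkMap_fromSpecStalk, Scheme.Hom.comp_apply]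
  rw [hiy, H28Neron.ringKrullDim_stalk_fromSpecStalk]
  refine le_trans ?_ hr
  show (((P.map π).comap π).height : WithBot ℕ∞) ≤ _
  rw [hQP]
  have h4 : P.height ≤ (Set.range g).ncard :=
    Ideal.height_le_card_of_mem_minimalPrimes_span (Set.finite_range g) (hKspan ▸ hP)
  have h5 : (Set.range g).ncard ≤ r := by
    refine (Finite.card_range_le g).trans_eq' ?_ |>.trans (by simp)
    rw [Nat.card_coe_set_eq]
  exact_mod_cast h4.trans (by exact_mod_cast h5)


/-- Let S be a locally Noetherian scheme, f : X → S a smooth morphism and i : Y → X a closed immersion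
whose composite with f is smooth. Then the codimension of the image of i relative to f (the infimum
over its points y of the Krull dimension of the local ring at y of the fibre of f through y) equals
its codimension in X (the infimum over the same points of the Krull dimension of O_{X,y}). -/
theorem result {X Y S : Scheme.{u}} [IsLocallyNoetherian X]
    [IsLocallyNoetherian S] (f : X ⟶ S) [Smooth f] (i : Y ⟶ X) [IsClosedImmersion i] [Smooth (i ≫ f)] :
    (⨅ y : Set.range i.base, ringKrullDim ↑(CInt.fiberStalk f y.1)) =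
      ⨅ y : Set.range i.base, ringKrullDim ↑(X.presheaf.stalk y.1) := by
  refine le_antisymm (iInf_mono fun y => H13CInt.fiberStalk_dim_le f y.1) (le_iInf ?_)
  rintro ⟨_, y, rfl⟩
  obtain ⟨y'', hy''⟩ := exists_dim_le f i y
  exact iInf_le_of_le ⟨i y'', y'', rfl⟩ hy'' 

end Groth.Agent.S14106
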