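import Groth.Statements.S14109
import Groth.Agent.H13CInt.FibreDepth

set_option autoImplicit false
universe u
open CategoryTheory CategoryTheory.Limits AlgebraicGeometry Opposite TopologicalSpace
open CInt

namespace Groth.Agent.S14109

/-- Let f : X → S and g : X' → X be morphisms of locally Noetherian schemes with g surjective, Y a
closed subset of X and Y' its preimage under g. Then the codimension of Y' relative to the composite
X' → S (the infimum over y' ∈ Y' of the Krull dimension of the local ring at y' of the fibre of that
composite through y') is at most the codimension of Y relative to f (the same infimum over y ∈ Y for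
the fibres of f). -/
theorem result {X X' S : Scheme.{u}} [IsLocallyNoetherian X]
    [IsLocallyNoetherian X'] [IsLocallyNoetherian S] (f : X ⟶ S) (g : X' ⟶ X) [Surjective g]
    (Y : Set ↥X) (hY : IsClosed Y) :
    (⨅ y' : (fun x' => g x') ⁻¹' Y, ringKrullDim ↑(CInt.fiberStalk (g ≫ f) y'.1)) ≤
      ⨅ y : Y, ringKrullDim ↑(CInt.fiberStalk f y.1) := by
  refine le_iInf fun y => ?_
  set h := CInt.fiberMap g f (f y.1) with hh
  obtain ⟨p, hp, hd⟩ := H13CInt.exists_same_image_dim_le h (f.asFiber y.1)
    (h.surjective _) (fun _ => inferInstance)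
  have hgp : g ((g ≫ f).fiberι (f y.1) p) = y.1 := by
    rw [← H13CInt.fiberMap_fiberι, hp]
    exact f.fiberι_asFiber y.1
  refine iInf_le_of_le ⟨(g ≫ f).fiberι (f y.1) p,
    show g _ ∈ Y from hgp.symm ▸ y.2⟩ ?_
  rw [← H13CInt.fiber_stalk_dim_eq]
  exact hd

end Groth.Agent.S14109
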