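import Groth.Statements.S1411
import Groth.Agent.S1394
import Groth.Agent.H17.Fibre
import Groth.Agent.H17.Reduced

set_option autoImplicit false
universe u
open FlatMor

namespace Groth.Agent.S1411

set_option backward.isDefEq.respectTransparency false
set_option linter.style.haveILetI false

/-- An algebra receiving a surjection which kills an ideal of a source with quasi-finite quotient is quasi-finite. -/
lemma quasiFinite_comp_of_surjective {A B D : Type u} [CommRing A] [CommRing B] [CommRing D]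
    (φ : A →+* B) (π : B →+* D) (hπ : Function.Surjective π) (q : Ideal B) (hq : q ≤ RingHom.ker π)
    (h : letI := φ.toAlgebra; Algebra.QuasiFinite A (B ⧸ q)) : (π.comp φ).QuasiFinite := by
  letI := φ.toAlgebra
  letI := (π.comp φ).toAlgebra
  haveI := h
  let g : (B ⧸ q) →ₐ[A] D := Ideal.Quotient.liftₐ q { π with commutes' := fun _ => rfl }
    fun x hx => hq hx
  exact Algebra.QuasiFinite.of_surjective_algHom g fun d => by
    obtain ⟨b, rfl⟩ := hπ d
    exact ⟨Ideal.Quotient.mk q b, rfl⟩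

open AlgebraicGeometry CategoryTheory Limits in
lemma quasiFiniteAt_comp {X S Z : Scheme.{u}} (f : X ⟶ S) (ι : Z ⟶ X) [IsClosedImmersion ι]
    [AlgebraicGeometry.IsReduced Z] (x₀ : Z) (x : X) (hx₀ : ι x₀ = x) (q : Spec (X.presheaf.stalk x))
    (hrange : Set.range ι = closure {X.fromSpecStalk x q})
    (hqf : letI := (f.stalkMap x).hom.toAlgebra
      Algebra.QuasiFinite (S.presheaf.stalk (f x)) (X.presheaf.stalk x ⧸ q.asIdeal)) :
    (ι ≫ f).QuasiFiniteAt x₀ := by
  subst hx₀
  show ((ι ≫ f).stalkMap x₀).hom.QuasiFinite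
  rw [Scheme.Hom.stalkMap_comp, CommRingCat.hom_comp]
  refine quasiFinite_comp_of_surjective _ _ (ι.stalkMap_surjective x₀) q.asIdeal ?_ hqf
  intro b hb
  refine RingHom.mem_ker.mpr (IsNilpotent.eq_zero (nilpotent_iff_mem_prime.mpr fun P hP => ?_))
  let y : Z := Z.fromSpecStalk x₀ ⟨P, hP⟩
  have h1 : ι y = X.fromSpecStalk _ (Spec.map (ι.stalkMap x₀) ⟨P, hP⟩) := by
    rw [← Scheme.Hom.comp_apply, ← Scheme.SpecMap_stalkMap_fromSpecStalk, Scheme.Hom.comp_apply]
  have h2 : X.fromSpecStalk _ q ⤳ ι y := specializes_iff_mem_closure.mpr (hrange.subset ⟨y, rfl⟩)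
  rw [h1] at h2
  have h3 := (X.fromSpecStalk (ι x₀)).isEmbedding.isInducing.specializes_iff.mp h2
  exact (PrimeSpectrum.le_iff_specializes _ _).mpr h3 hb


open AlgebraicGeometry CategoryTheory Limits in
/-- Let f : X → S be locally of finite type with S locally Noetherian, x a point closed in its fibre,
and U an open of X containing a point x' specializing to x with f x' ≠ f x. Then there is a closed
subscheme Z of X passing through x such that Z → S is quasi-finite at x and Z contains a point z ∈ U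
with z ⤳ x and f z ≠ f x. -/
theorem result {X S : Scheme.{u}} (f : X ⟶ S) [LocallyOfFiniteType f] [IsLocallyNoetherian S] (x : X)
    (hcl : IsClosed (Subtype.val ⁻¹' {x} : Set ↑(f ⁻¹' {f x}))) (U : X.Opens) (hx' : ∃ x' : X, x' ∈ U ∧ x' ⤳ x ∧ f x' ≠ f x) :
    ∃ (I : X.IdealSheafData) (z₀ x₀ : ↑I.subscheme), I.subschemeι x₀ = x ∧ (I.subschemeι ≫ f).QuasiFiniteAt x₀ ∧
      I.subschemeι z₀ ∈ U ∧ I.subschemeι z₀ ⤳ x ∧ f (I.subschemeι z₀) ≠ f x := by
  letI := (f.stalkMap x).hom.toAlgebra
  haveI : IsLocalHom (algebraMap (S.presheaf.stalk (f x)) (X.presheaf.stalk x)) :=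
    inferInstanceAs (IsLocalHom (f.stalkMap x).hom)
  haveI : Algebra.EssFiniteType (S.presheaf.stalk (f x)) (X.presheaf.stalk x) :=
    LocallyOfFiniteType.stalkMap f x
  have hcl' : IsClosed ({f.asFiber x} : Set (f.fiber (f x))) := by
    convert hcl.preimage (f.fiberHomeo (f x)).continuous using 1
    ext v
    simp only [Set.mem_singleton_iff, Set.mem_preimage]
    refine ⟨fun h => by rw [h]; simp [Scheme.Hom.asFiber], fun h => (f.fiberHomeo (f x)).injective ?_⟩
    simp only [Scheme.Hom.asFiber, Homeomorph.apply_symm_apply]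
    exact Subtype.ext h
  haveI : Module.Finite (IsLocalRing.ResidueField (S.presheaf.stalk (f x)))
      (IsLocalRing.ResidueField (X.presheaf.stalk x)) := by
    have h1 : @algebraMap _ _ _ _ (inferInstance : Algebra (IsLocalRing.ResidueField (S.presheaf.stalk (f x)))
        (IsLocalRing.ResidueField (X.presheaf.stalk x))) = (f.residueFieldMap x).hom :=
      Ideal.Quotient.ringHom_ext (by ext r; rfl)
    rw [← RingHom.finite_algebraMap, h1]
    exact Groth.Agent.H17.finite_residueFieldMap f x hcl'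
  have hcomm : ∀ q : Spec (X.presheaf.stalk x),
      f (X.fromSpecStalk x q) = S.fromSpecStalk (f x) (Spec.map (f.stalkMap x) q) := fun q => by
    rw [← Scheme.Hom.comp_apply, ← Scheme.SpecMap_stalkMap_fromSpecStalk, Scheme.Hom.comp_apply]
  obtain ⟨x', hxU, hxx, hfx⟩ := hx'
  obtain ⟨q', hq'⟩ : x' ∈ Set.range (X.fromSpecStalk x) := by
    rw [Scheme.range_fromSpecStalk]; exact hxx
  have hkey : ∀ q : Spec (X.presheaf.stalk x), f (X.fromSpecStalk x q) ≠ f x ↔
      (PrimeSpectrum.comap (f.stalkMap x).hom q).asIdeal ≠ IsLocalRing.maximalIdeal _ := fun q => by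
    rw [hcomm q]
    have hc := Scheme.fromSpecStalk_closedPoint (X := S) (x := f x)
    exact not_congr ⟨fun h => congrArg PrimeSpectrum.asIdeal
        ((S.fromSpecStalk (f x)).isEmbedding.injective (h.trans hc.symm)),
      fun h => (congrArg (S.fromSpecStalk (f x)) (PrimeSpectrum.ext h)).trans hc⟩
  obtain ⟨q, hqU, hq, hqf⟩ := Groth.Agent.S1394.result (A := S.presheaf.stalk (f x)) (B := X.presheaf.stalk x)
    (X.fromSpecStalk x ⁻¹' (U : Set X)) (U.2.preimage (X.fromSpecStalk x).continuous)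
    ⟨q', by show X.fromSpecStalk x q' ∈ U; rw [hq']; exact hxU, (hkey q').mp (by rw [hq']; exact hfx)⟩
  let z : X := X.fromSpecStalk x q
  have hzx : z ⤳ x := (Set.ext_iff.mp Scheme.range_fromSpecStalk z).mp ⟨q, rfl⟩
  let I := Scheme.IdealSheafData.vanishingIdeal (X := X) (TopologicalSpace.Closeds.closure {z})
  have hrange : Set.range I.subschemeι = closure {z} := by
    rw [Scheme.IdealSheafData.range_subschemeι, Scheme.IdealSheafData.coe_support_vanishingIdeal,
      TopologicalSpace.Closeds.coe_closure]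
  obtain ⟨z₀, hz₀⟩ : z ∈ Set.range I.subschemeι := by rw [hrange]; exact subset_closure rfl
  obtain ⟨x₀, hx₀⟩ : x ∈ Set.range I.subschemeι := by rw [hrange]; exact hzx.mem_closure
  refine ⟨I, z₀, x₀, hx₀, ?_, hz₀ ▸ hqU, hz₀ ▸ hzx, hz₀ ▸ (hkey q).mpr hq⟩
  haveI : AlgebraicGeometry.IsReduced I.subscheme := Groth.Agent.H17.isReduced_vanishingIdeal_subscheme _
  exact quasiFiniteAt_comp f I.subschemeι x₀ x hx₀ q hrange hqf

end Groth.Agent.S1411
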