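import Groth.Statements.S14116
import Groth.Agent.H15Site.LocCohDepth
import Groth.Agent.H15Site.LocCohSections
import Groth.Agent.H8Props.FinLocFree.Sheaf
import Groth.Agent.H29Fitt.StrictTransformFree
import Groth.Agent.H4Depth.DepthHom

set_option autoImplicit false
universe u
open CategoryTheory CategoryTheory.Limits AlgebraicGeometry Opposite TopologicalSpace
open LocCohZ

set_option linter.style.haveILetI false

namespace Groth.Agent.S14116

/-- Let X be a locally Noetherian scheme, U ⊆ X open with closed complement Y, d a natural number such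
that the depth of O_X along Y is at least d (every local ring O_{X,y}, y ∈ Y, has depth at least d),
and M a finite locally free O_X-module. Then Γ(X, ℋ^d_Y(M)) is isomorphic to H^d_Y(X, M), where
ℋ^d_Y is the d-th right derived functor of the sheaf of sections with support in Y (applied to the
underlying abelian sheaf of M) and H^d_Y(X, M) is cohomology with support in Y. Existence of an
additive isomorphism only; the published statement asserts a canonical functorial isomorphism that
is linear over the global functions Γ(X, O_X) (obtained in its proof as the edge map of the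
local-to-global spectral sequence), and adds that U ↦ H^d_{Y∩U}(U, M), U ⊆ X open, is a sheaf; none
of this is part of this row. (The published statement assumes a flat morphism X → S with
Cohen–Macaulay fibres and relative codimension of Y at least d; these enter only through the depth
bound, which is the hypothesis of this row.) -/
theorem result (X : Scheme.{u}) [IsLocallyNoetherian X]
    (U : X.Opens) (d : ℕ)
    (hdepth : ∀ x : ↥X, x ∉ (U : Set ↥X) → (d : ℕ∞) ≤ LocCoh.depth ↑(X.presheaf.stalk x) ↑(X.presheaf.stalk x))
    (M : X.Modules) (hM : FlatMod.IsFinLocFree M) :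
    Nonempty (↑(((LocCohZ.HZsh (X := X.carrier) U d).obj (Coh.toAb M)).obj.obj (op ⊤)) ≃+ LocCohZ.HZM X M d U) := by
  have hq : Coh.IsQCoh M := Groth.Agent.H8Props.FinLocFree.isQCoh_of_isFinLocFree M hM
  have hcoh : Coh.IsCoh M :=
    ⟨hq, Groth.Agent.H29Fitt.isFT_of_isFP M (Groth.Agent.H8Props.FinLocFree.isFP_of_isFinLocFree M hM)⟩
  refine Groth.Agent.H15Site.LocCoh.nonempty_top_HZsh_equiv (X := X.carrier) U d (Coh.toAb M)
    ((Groth.Agent.H15Site.LocCohDepth.isZero_HZsh_below_iff_depth hcoh U d).2 fun x hx => ?_)
  obtain ⟨W, n, hxW, ⟨e⟩⟩ := hM x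
  obtain ⟨V, hV, hxV, hle⟩ := exists_isAffineOpen_mem_and_subset (x := x) (U := W) hxW
  obtain ⟨b⟩ := Groth.Agent.H8Props.FinLocFree.exists_basis_of_chart M e hle
  rw [Groth.Agent.H15Site.LocCohDepth.depth_stalk_eq hq hV ⟨x, hxV⟩]
  set P := (hV.primeIdealOf ⟨x, hxV⟩).asIdeal
  haveI : IsNoetherianRing Γ(X, V) := IsLocallyNoetherian.component_noetherian ⟨V, hV⟩
  haveI : IsNoetherianRing (Localization.AtPrime P) :=
    IsLocalization.isNoetherianRing P.primeCompl _ inferInstance
  let b' := b.ofIsLocalizedModule (Localization.AtPrime P) P.primeCompl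
    (LocalizedModule.mkLinearMap P.primeCompl Γ(M, V))
  rw [Groth.Agent.H4Depth.depth_congr b'.equivFun]
  refine le_trans ?_ (Groth.Agent.H4Depth.idealDepth_le_idealDepth_pi _ n)
  refine (hdepth x hx).trans (le_of_eq ?_)
  letI := TopCat.Presheaf.algebra_section_stalk X.presheaf (⟨x, hxV⟩ : V)
  haveI := hV.isLocalization_stalk ⟨x, hxV⟩
  let σ := (IsLocalization.algEquiv P.primeCompl (X.presheaf.stalk x) (Localization.AtPrime P)).toRingEquiv
  exact Groth.Agent.H15Site.LocCohDepth.depth_eq_of_semilinear σ σ.toAddEquiv fun r m => map_mul σ r m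

end Groth.Agent.S14116
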