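import Groth.Statements.S14118
import Groth.Agent.S14117
import Mathlib.Tactic

set_option autoImplicit false
universe u v w
open SuperComm

namespace Groth.Agent.S14118

/-- Let R be a commutative ring and M a finitely ℤ-graded R-module with finitely many nonzero graded
pieces, each finite free, presented as a finite family of finite free R-modules M_i with integer
degrees deg i (the piece of degree n being the product of the M_i with deg i = n); an endomorphism φ
of the total module Π_i M_i has degree a when its (i, j) block vanishes unless deg j = deg i + a;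
the supertrace of an endomorphism is the trace of its composite with the grading involution ε = Σ_i
(-1)^{deg i} pr_i. If φ and ψ have degrees a and b, the supertrace of the supercommutator φψ -
(-1)^{ab} ψφ vanishes. (The published statement allows the graded pieces to be finitely generated
projective; this row takes them finite free, where the trace is the ordinary trace of a free
module.) -/
theorem result {R : Type u} [CommRing R] {ι : Type v} [Fintype ι] [DecidableEq ι]
    (deg : ι → ℤ) (M : ι → Type w) [∀ i, AddCommGroup (M i)] [∀ i, Module R (M i)]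
    [∀ i, Module.Free R (M i)] [∀ i, Module.Finite R (M i)]
    (a b : ℤ) (φ ψ : (Π k, M k) →ₗ[R] (Π k, M k))
    (hφ : ∀ i j : ι, deg j ≠ deg i + a → (LinearMap.proj j) ∘ₗ φ ∘ₗ (LinearMap.single R M i) = 0)
    (hψ : ∀ i j : ι, deg j ≠ deg i + b → (LinearMap.proj j) ∘ₗ ψ ∘ₗ (LinearMap.single R M i) = 0) :
    LinearMap.trace R (Π k, M k)
      ((∑ i : ι, (LinearMap.single R M i) ∘ₗ (((-1 : R) ^ (deg i).natAbs) • (LinearMap.proj i : (Π k, M k) →ₗ[R] M i))) ∘ₗ (φ ∘ₗ ψ - ((-1 : R) ^ (a * b).natAbs) • (ψ ∘ₗ φ))) = 0 := by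
  classical
  set ε : (Π k, M k) →ₗ[R] (Π k, M k) := ∑ i : ι, (LinearMap.single R M i) ∘ₗ (((-1 : R) ^ (deg i).natAbs) • (LinearMap.proj i : (Π k, M k) →ₗ[R] M i)) with hε
  have hεap : ∀ (x : Π k, M k) (i : ι), ε x i = ((-1 : R) ^ (deg i).natAbs) • x i := by
    intro x i
    simp [hε, LinearMap.sum_apply, Finset.sum_apply, Pi.single_apply, Finset.sum_ite_eq]
  have hpar : ∀ u v : ℤ, (-1 : R) ^ (u + v).natAbs = (-1) ^ u.natAbs * (-1) ^ v.natAbs := by
    intro u v
    rw [← pow_add, neg_one_pow_eq_pow_mod_two (n := u.natAbs + v.natAbs), neg_one_pow_eq_pow_mod_two (n := (u + v).natAbs)]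
    congr 1
    omega
  have hsq : ∀ n : ℕ, (-1 : R) ^ n * (-1) ^ n = 1 := fun n => by rw [← mul_pow]; simp
  by_cases hab : a + b = 0
  swap
  · refine Groth.Agent.S14117.result deg M (a + b) hab _ ?_
    intro i j hij
    have hh : ∀ (c d : ℤ) (F G : (Π k, M k) →ₗ[R] (Π k, M k)),
        (∀ i j : ι, deg j ≠ deg i + c → (LinearMap.proj j) ∘ₗ F ∘ₗ (LinearMap.single R M i) = 0) →
        (∀ i j : ι, deg j ≠ deg i + d → (LinearMap.proj j) ∘ₗ G ∘ₗ (LinearMap.single R M i) = 0) →
        c + d = a + b → ∀ x, F (G (Pi.single i x)) j = 0 := by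
      intro c d F G hF hG hcd x
      have hdec : G (Pi.single i x) = ∑ l, Pi.single l (G (Pi.single i x) l) := (Finset.univ_sum_single _).symm
      rw [hdec, map_sum, Finset.sum_apply]
      refine Finset.sum_eq_zero fun l _ => ?_
      by_cases h1 : deg l = deg i + d
      · have h2 : deg j ≠ deg l + c := by omega
        exact LinearMap.congr_fun (hF l j h2) _
      · have h3 : G (Pi.single i x) l = 0 := LinearMap.congr_fun (hG i l h1) x
        rw [h3]; simp
    ext x
    simp [hh a b φ ψ hφ hψ rfl x, hh b a ψ φ hψ hφ (by ring) x]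
  · have hcomm : ψ ∘ₗ ε = ((-1 : R) ^ b.natAbs) • (ε ∘ₗ ψ) := by
      refine LinearMap.pi_ext fun i x => funext fun j => ?_
      have he : ε (Pi.single i x) = ((-1 : R) ^ (deg i).natAbs) • Pi.single i x := by
        funext l
        rw [hεap, Pi.smul_apply]
        by_cases hl : l = i
        · subst hl; rfl
        · simp [Pi.single_eq_of_ne hl]
      simp only [LinearMap.comp_apply, LinearMap.smul_apply, Pi.smul_apply, he, map_smul, hεap, smul_smul]
      by_cases h1 : deg j = deg i + b
      · rw [h1, hpar, mul_left_comm, hsq, mul_one]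
      · have h3 : ψ (Pi.single i x) j = 0 := LinearMap.congr_fun (hψ i j h1) x
        rw [h3]; simp
    have hb : (-1 : R) ^ b.natAbs = (-1) ^ (a * b).natAbs := by
      have : a = -b := by omega
      subst this
      rw [Int.natAbs_mul, Int.natAbs_neg, neg_one_pow_eq_pow_mod_two, neg_one_pow_eq_pow_mod_two (n := b.natAbs * b.natAbs)]
      congr 1
      rw [Nat.mul_mod]
      rcases Nat.mod_two_eq_zero_or_one b.natAbs with h | h <;> simp [h]
    have hcyc : LinearMap.trace R _ (ε ∘ₗ φ ∘ₗ ψ) = LinearMap.trace R _ (ψ ∘ₗ ε ∘ₗ φ) := by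
      have := LinearMap.trace_mul_comm R (ε ∘ₗ φ) ψ
      simpa [Module.End.mul_eq_comp, LinearMap.comp_assoc] using this
    rw [← LinearMap.comp_assoc φ ε ψ, hcomm, hb, LinearMap.smul_comp, LinearMap.comp_assoc] at hcyc
    rw [LinearMap.comp_sub, LinearMap.comp_smul, map_sub, hcyc]
    simp [LinearMap.comp_assoc]

end Groth.Agent.S14118
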