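import Groth.Statements.S14120
import Groth.Agent.H11Val.EftDvr

set_option autoImplicit false
universe u
open CategoryTheory AlgebraicGeometry
open ValCrit

namespace Groth.Agent.S14120

/-- For schemes, let every affine open of the base `S` have excellent coordinate ring, let `g : Y ⟶ S`
be locally of finite type and `f : X ⟶ Y` quasi-compact and locally of finite type. Then the
existence part of the valuative criterion for `f` over discrete valuation rings (every commutative
square `Spec K ⟶ X`, `Spec R ⟶ Y` with `R` a discrete valuation ring and `K` its fraction field has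
a lift `Spec R ⟶ X`) holds as soon as it holds for the squares whose ring `R` is essentially of
finite type over `S`, i.e. `Spec R ⟶ Y ⟶ S` factors through some affine open `U` of `S` by a ring
map `Γ(S, U) ⟶ R` that is essentially of finite type; and conversely. (The published statement is
for algebraic spaces and treats existence and uniqueness together; this row is the existence half
for schemes.) -/
theorem result (S : Scheme.{u})
    (hS : ∀ U : S.affineOpens, EGA4.IsExcellent Γ(S, U.1))
    {X Y : Scheme.{u}} (f : X ⟶ Y) (g : Y ⟶ S)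
    [QuasiCompact f] [LocallyOfFiniteType f] [LocallyOfFiniteType g] :
    (∀ sq : ValuativeCommSq f, IsDiscreteValuationRing sq.R → sq.commSq.HasLift) ↔
    (∀ sq : ValuativeCommSq f, IsDiscreteValuationRing sq.R →
      (∃ (U : S.affineOpens) (φ : Γ(S, U.1) ⟶ CommRingCat.of sq.R),
        Spec.map φ ≫ U.2.fromSpec = sq.i₂ ≫ g ∧ φ.hom.EssFiniteType) →
      sq.commSq.HasLift) := by
  refine ⟨fun h sq hR _ => h sq hR, fun h => ?_⟩
  suffices hu : UniversallyClosed f by
    intro sq _
    have h2 := hu
    rw [UniversallyClosed.eq_valuativeCriterion] at h2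
    exact h2.1 sq
  haveI : LocallyOfFiniteType (f ≫ g) := inferInstance
  refine (Groth.Agent.S7449.result S (Groth.Agent.H11Val.EftDvr.isNagata_of_excellent hS) (f ≫ g) g f rfl).2 ?_
  intro C r _ _ _ hC c _ hdim U _ u hY hh hu k hk
  have hdom : IsDomain (C.presheaf.stalk c) := inferInstance
  obtain ⟨_, hdvr, hcomm, W, φ, hφ, hφe⟩ :=
    Groth.Agent.H11Val.EftDvr.exists_eft_square hS C r hC c hdim U u hY hh hu k hk
  obtain ⟨⟨l, hl₁, hl₂⟩⟩ := (h
    { R := C.presheaf.stalk c, domain := hdom, K := FractionRing (C.presheaf.stalk c), i₁ := k ≫ u,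
      i₂ := C.fromSpecStalk c ≫ hY, commSq := ⟨hcomm⟩ } hdvr ⟨W, φ, hφ, hφe⟩).exists_lift
  exact ⟨l, hl₂, hl₁⟩

end Groth.Agent.S14120
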