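import Groth.Statements.S14122
import Mathlib.LinearAlgebra.FreeModule.PID
import Mathlib.RingTheory.DedekindDomain.Dvr
import Mathlib.RingTheory.Localization.Module
import Mathlib.LinearAlgebra.Matrix.GeneralLinearGroup.Defs
import Mathlib.LinearAlgebra.Matrix.NonsingularInverse
import Mathlib.GroupTheory.OrderOfElement

set_option autoImplicit false
universe u
open ValCrit

namespace Groth.Agent.S14122

/-- Let `R` be a discrete valuation ring with fraction field `K` and `g ∈ GL_N(K)` an element of finite
order. Then after passing to a finite extension `K'` of `K` and a discrete valuation ring `R'` of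
`K'` dominating `R`, the element `g` becomes conjugate in `GL_N(K')` to an element of `GL_N(R')`.
(The published statement is that the classifying stack of `GL_N` over the integers satisfies a
valuative condition, for discrete valuation rings essentially of finite type over the integers, on
extending finite-order generic automorphisms along nearby modifications; since vector bundles over a
discrete valuation ring are trivial, that condition is this conjugacy statement for such rings, and
this row states it for every discrete valuation ring, as the printed argument gives.) -/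
theorem result
    (R : Type u) [CommRing R] [IsDomain R] [IsDiscreteValuationRing R]
    (K : Type u) [Field K] [Algebra R K] [IsFractionRing R K]
    (N : ℕ) (g : GL (Fin N) K) (hg : IsOfFinOrder g) :
    ∃ (R' : Type u) (_ : CommRing R') (_ : IsDomain R') (_ : IsDiscreteValuationRing R')
      (K' : Type u) (_ : Field K') (_ : Algebra R' K') (_ : IsFractionRing R' K')
      (_ : Algebra R R') (_ : Algebra K K') (_ : Algebra R K')
      (_ : IsScalarTower R R' K') (_ : IsScalarTower R K K')
      (_ : Module.Finite K K') (_ : IsLocalHom (algebraMap R R'))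
      (h : GL (Fin N) K') (g' : GL (Fin N) R'),
      h * Matrix.GeneralLinearGroup.map (algebraMap K K') g * h⁻¹ =
        Matrix.GeneralLinearGroup.map (algebraMap R' K') g' := by
  classical
  obtain ⟨n, hn, hgn⟩ := isOfFinOrder_iff_pow_eq_one.1 hg
  let T : Set (Fin N → K) := Set.range fun p : Fin n × Fin N => ((g : Matrix (Fin N) (Fin N) K) ^ p.1.1).col p.2
  let L : Submodule R (Fin N → K) := Submodule.span R T
  haveI : Module.Finite R L := Module.Finite.of_fg (Submodule.fg_span (Set.finite_range _))
  haveI : Module.IsTorsionFree R L := inferInstance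
  obtain ⟨r, b⟩ := Module.basisOfFiniteTypeTorsionFree' (R := R) (M := L)
  let v : Fin r → (Fin N → K) := fun i => (b i : Fin N → K)
  have hvR : LinearIndependent R v := b.linearIndependent.map' L.subtype L.ker_subtype
  have hvK : LinearIndependent K v := (LinearIndependent.iff_fractionRing R K).1 hvR
  have hone : ∀ j : Fin N, (Pi.single j 1 : Fin N → K) ∈ L := fun j => Submodule.subset_span
    ⟨(⟨0, hn⟩, j), by ext i; simp [Matrix.col, Matrix.one_apply, Pi.single_apply, eq_comm]⟩
  have hspanR : ∀ x ∈ L, x ∈ Submodule.span K (Set.range v) := fun x hx => by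
    have : x = ∑ i, b.repr ⟨x, hx⟩ i • v i := by
      have h := congrArg (L.subtype) (b.sum_repr ⟨x, hx⟩)
      rw [map_sum] at h
      simpa [v] using h.symm
    rw [this]
    refine sum_mem fun i _ => ?_
    rw [← algebraMap_smul K]
    exact Submodule.smul_mem _ _ (Submodule.subset_span ⟨i, rfl⟩)
  have hspan : ⊤ ≤ Submodule.span K (Set.range v) := by
    intro x _
    rw [show x = ∑ j, x j • (Pi.single j 1 : Fin N → K) by
      ext i; simp [Finset.sum_apply, Pi.single_apply]]
    exact sum_mem fun j _ => Submodule.smul_mem _ _ (hspanR _ (hone j))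
  let bK : Module.Basis (Fin r) K (Fin N → K) := Module.Basis.mk hvK hspan
  obtain rfl : r = N := by
    have := Module.finrank_eq_card_basis bK
    simpa using this.symm
  have hstab : ∀ x ∈ L, (g : Matrix (Fin r) (Fin r) K).mulVec x ∈ L := by
    intro x hx
    let φ : (Fin r → K) →ₗ[R] (Fin r → K) := ((g : Matrix (Fin r) (Fin r) K).mulVecLin).restrictScalars R
    have : L.map φ ≤ L := by
      rw [Submodule.map_span_le]
      rintro _ ⟨⟨i, j⟩, rfl⟩
      refine Submodule.subset_span ⟨(⟨(i.1 + 1) % n, Nat.mod_lt _ hn⟩, j), ?_⟩
      show _ = (g : Matrix (Fin r) (Fin r) K).mulVec _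
      have e : (g : Matrix (Fin r) (Fin r) K) ^ ((i.1 + 1) % n) = (g : Matrix (Fin r) (Fin r) K) * g ^ i.1 := by
        rw [← pow_succ', ← Units.val_pow_eq_pow_val, ← Units.val_pow_eq_pow_val]
        congr 1
        conv_rhs => rw [← Nat.mod_add_div (i.1 + 1) n]
        rw [pow_add, pow_mul, hgn, one_pow, mul_one]
      ext l
      simp only [Matrix.col_apply, e, Matrix.mul_apply, Matrix.mulVec, dotProduct]
    exact this ⟨x, hx, rfl⟩
  let A : Matrix (Fin r) (Fin r) R := fun i j => b.repr ⟨_, hstab (v j) (b j).2⟩ i
  let P : Matrix (Fin r) (Fin r) K := fun i j => v j i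
  have hgP : (g : Matrix (Fin r) (Fin r) K) * P = P * A.map (algebraMap R K) := by
    ext l j
    have h : ((⟨_, hstab (v j) (b j).2⟩ : L) : Fin r → K) = ∑ i, A i j • v i := by
      have h := congrArg (L.subtype) (b.sum_repr ⟨_, hstab (v j) (b j).2⟩)
      rw [map_sum] at h
      simpa [v, A] using h.symm
    have h' := congrFun h l
    simp only [Matrix.mulVec, dotProduct, Finset.sum_apply, Pi.smul_apply, Algebra.smul_def] at h'
    simp only [Matrix.mul_apply, Matrix.map_apply, P]
    rw [h']
    exact Finset.sum_congr rfl fun i _ => mul_comm _ _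
  have hP : IsUnit P := by
    rw [← Matrix.linearIndependent_cols_iff_isUnit]
    exact hvK
  obtain ⟨Pu, hPu⟩ := hP
  have hconj : ((Pu⁻¹ * g * Pu : GL (Fin r) K) : Matrix (Fin r) (Fin r) K) = A.map (algebraMap R K) := by
    rw [Units.val_mul, Units.val_mul, hPu, mul_assoc, hgP, ← mul_assoc, ← hPu, Units.inv_mul, one_mul]
  have hpow : A ^ n = 1 := by
    apply Matrix.map_injective (IsFractionRing.injective R K)
    have h1 : (Pu⁻¹ * g * Pu) ^ n = 1 := by
      have := conj_pow (i := n) (a := Pu⁻¹) (b := g)
      rw [inv_inv] at this
      rw [this, hgn]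
      simp
    have h2 := congrArg Units.val h1
    rw [Units.val_pow_eq_pow_val, hconj] at h2
    show (A ^ n).map (algebraMap R K) = (1 : Matrix (Fin r) (Fin r) R).map (algebraMap R K)
    rw [Matrix.map_one _ (map_zero _) (map_one _)]
    exact ((algebraMap R K).mapMatrix.map_pow A n).trans h2
  obtain ⟨g', hg'⟩ : IsUnit A := IsUnit.of_pow_eq_one hpow hn.ne'
  refine ⟨R, inferInstance, inferInstance, inferInstance, K, inferInstance, inferInstance, inferInstance,
    Algebra.id R, Algebra.id K, inferInstance, inferInstance, inferInstance, inferInstance,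
    ⟨fun _ h => h⟩, Pu⁻¹, g', ?_⟩
  apply Units.ext
  rw [inv_inv]
  refine Eq.trans ?_ (hconj.trans ?_)
  · simp
  · rw [← hg']
    rfl

end Groth.Agent.S14122
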