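import Groth.Statements.S14123
import Groth.Agent.H9Ram.RootExt

set_option autoImplicit false
universe u v
open GmQuot

namespace Groth.Agent.S14123

/-- Let `A = ⊕_{d ∈ ℤ} A_d` be a graded commutative ring whose ideal `I₊` generated by the homogeneous
elements of positive degree is finitely generated, `R` a discrete valuation ring with fraction field
`K`, and `φ : A → R` a ring map with `φ(I₊) ≠ 0` and `φ(I₊)` inside the maximal ideal. Then after a
finite extension `K'/K` and a discrete valuation ring `R'` of `K'` dominating `R` there are a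
nonzero non-unit `ϖ ∈ R'` and a ring map `g : A → R'` with `g(a) ϖ^d = φ(a)` for every homogeneous
`a` of degree `d` (so `g` is `φ` rescaled through the grading by `ϖ`), such that `g(I₊) R' = R'`.
(The published statement is phrased for the quotient stack of `Spec A` by the multiplicative group
and its closed substack cut out by `I₊`, in a setting where `A` is Noetherian, being of finite type
over a Noetherian base: an `R`-point whose closed point lies in that substack and whose generic
point does not admits, after a finite extension, an elementary modification avoiding the substack;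
this row is the graded-ring statement the printed argument proves, assuming only that `I₊` is
finitely generated, which is all that argument uses, and with `ϖ` not required to be a uniformizer.) -/
theorem result
    {A : Type u} [CommRing A] (𝒜 : ℤ → AddSubgroup A) [GradedRing 𝒜]
    (hfg : (Ideal.span {a : A | ∃ d : ℤ, 0 < d ∧ a ∈ 𝒜 d}).FG)
    (R : Type v) [CommRing R] [IsDomain R] [IsDiscreteValuationRing R]
    (K : Type v) [Field K] [Algebra R K] [IsFractionRing R K]
    (φ : A →+* R)
    (hle : Ideal.map φ (Ideal.span {a : A | ∃ d : ℤ, 0 < d ∧ a ∈ 𝒜 d}) ≤ IsLocalRing.maximalIdeal R)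
    (hne : Ideal.map φ (Ideal.span {a : A | ∃ d : ℤ, 0 < d ∧ a ∈ 𝒜 d}) ≠ ⊥) :
    ∃ (R' : Type v) (_ : CommRing R') (_ : IsDomain R') (_ : IsDiscreteValuationRing R')
      (K' : Type v) (_ : Field K') (_ : Algebra R' K') (_ : IsFractionRing R' K')
      (_ : Algebra R R') (_ : Algebra K K') (_ : Algebra R K')
      (_ : IsScalarTower R R' K') (_ : IsScalarTower R K K')
      (_ : Module.Finite K K') (_ : IsLocalHom (algebraMap R R'))
      (ϖ : R') (g : A →+* R'),
      ϖ ≠ 0 ∧ ϖ ∈ IsLocalRing.maximalIdeal R' ∧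
      (∀ (d : ℤ) (a : A), a ∈ 𝒜 d →
        algebraMap R' K' (g a) * algebraMap R' K' ϖ ^ d = algebraMap R K' (φ a)) ∧
      Ideal.map g (Ideal.span {a : A | ∃ d : ℤ, 0 < d ∧ a ∈ 𝒜 d}) = ⊤ := by
  classical
  set S : Set A := {a : A | ∃ d : ℤ, 0 < d ∧ a ∈ 𝒜 d} with hSdef
  -- finitely many homogeneous generators of positive degree
  obtain ⟨T, hTS, hTspan⟩ : ∃ T : Finset A, ↑T ⊆ S ∧ Ideal.span S = Ideal.span (T : Set A) := by
    obtain ⟨G, hG⟩ := hfg
    have : ∀ x ∈ G, ∃ U : Finset A, ↑U ⊆ S ∧ x ∈ Ideal.span (U : Set A) := fun x hx =>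
      Submodule.mem_span_finite_of_mem_span (hG.le (Ideal.subset_span hx))
    choose U hU₁ hU₂ using this
    refine ⟨G.attach.biUnion fun x => U x.1 x.2, ?_, le_antisymm ?_ ?_⟩
    · intro a ha
      obtain ⟨x, -, hx⟩ := Finset.mem_biUnion.1 (Finset.mem_coe.1 ha)
      exact hU₁ x.1 x.2 hx
    · rw [← hG]
      exact Ideal.span_le.2 fun x hx => Ideal.span_mono
        (Finset.coe_subset.2 (Finset.subset_biUnion_of_mem (fun x : G => U x.1 x.2)
          (Finset.mem_attach G ⟨x, hx⟩))) (hU₂ x hx)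
    · refine Ideal.span_mono ?_
      intro a ha
      obtain ⟨x, -, hx⟩ := Finset.mem_biUnion.1 (Finset.mem_coe.1 ha)
      exact hU₁ x.1 x.2 hx
  have hdeg : ∀ t : T, ∃ d : ℕ, 0 < d ∧ (t : A) ∈ 𝒜 (d : ℤ) := fun t => by
    obtain ⟨d, hd, hm⟩ := hTS t.2
    lift d to ℕ using hd.le
    exact ⟨d, by exact_mod_cast hd, hm⟩
  choose dg hdg0 hdgm using hdeg
  obtain ⟨π, hπ⟩ := IsDiscreteValuationRing.exists_irreducible R
  have hval : ∀ t : T, φ t ≠ 0 → ∃ (v : ℕ) (u : Rˣ), 0 < v ∧ φ t = u * π ^ v := fun t ht => by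
    obtain ⟨v, u, hu⟩ := IsDiscreteValuationRing.eq_unit_mul_pow_irreducible ht hπ
    refine ⟨v, u, Nat.pos_of_ne_zero fun h0 => ?_, hu⟩
    have : φ t ∈ IsLocalRing.maximalIdeal R := hle (Ideal.mem_map_of_mem φ (Ideal.subset_span (hTS t.2)))
    rw [hu, h0, pow_zero, mul_one] at this
    exact (IsLocalRing.mem_maximalIdeal _).1 this u.isUnit
  choose v u hv0 hvu using hval
  have hT0 : ∃ t : T, φ t ≠ 0 := by
    by_contra! h
    apply hne
    rw [hTspan, Ideal.map_span, Ideal.span_eq_bot]
    rintro _ ⟨t, ht, rfl⟩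
    exact h ⟨t, ht⟩
  let N : ℕ := ∏ t : T, dg t
  have hN0 : N ≠ 0 := Finset.prod_ne_zero_iff.2 fun t _ => (hdg0 t).ne'
  have hNd : ∀ t : T, N / dg t * dg t = N := fun t =>
    Nat.div_mul_cancel (Finset.dvd_prod_of_mem dg (Finset.mem_univ t))
  let w : {t : T // φ t ≠ 0} → ℕ := fun t => N / dg t.1 * v t.1 t.2
  obtain ⟨t₀, -, ht₀⟩ := Finset.exists_min_image (Finset.univ : Finset {t : T // φ t ≠ 0}) w
    ⟨⟨hT0.choose, hT0.choose_spec⟩, Finset.mem_univ _⟩
  let m : ℕ := w t₀
  have hm0 : 0 < m := Nat.mul_pos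
    (Nat.div_pos (Nat.le_of_dvd (Nat.pos_of_ne_zero hN0) (Finset.dvd_prod_of_mem dg (Finset.mem_univ t₀.1)))
      (hdg0 t₀.1)) (hv0 _ _)
  -- the ramified extension
  let P : Polynomial R := Polynomial.X ^ N - Polynomial.C π
  obtain ⟨_, _, hmax⟩ := Groth.Agent.H9Ram.RootExt.isDVR (n := N) hπ hN0
  have hinj : Function.Injective (algebraMap R (AdjoinRoot P)) :=
    AdjoinRoot.of.injective_of_degree_ne_zero (by
      rw [Polynomial.degree_X_pow_sub_C (Nat.pos_of_ne_zero hN0)]; exact_mod_cast hN0)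
  let K' := FractionRing (AdjoinRoot P)
  let ι₀ : R →+* K' := (algebraMap (AdjoinRoot P) K').comp (algebraMap R (AdjoinRoot P))
  have hι₀ : Function.Injective ι₀ := (IsFractionRing.injective (AdjoinRoot P) K').comp hinj
  letI : Algebra K K' := (IsFractionRing.lift hι₀).toAlgebra
  haveI : IsScalarTower R K K' := IsScalarTower.of_algebraMap_eq fun x =>
    (IsScalarTower.algebraMap_apply R (AdjoinRoot P) K' x).trans (IsFractionRing.lift_algebraMap hι₀ x).symm
  haveI : Module.Finite R (AdjoinRoot P) := (Polynomial.monic_X_pow_sub_C π hN0).finite_adjoinRoot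
  haveI : FaithfulSMul R (AdjoinRoot P) := (faithfulSMul_iff_algebraMap_injective R (AdjoinRoot P)).2 hinj
  haveI : Algebra.IsAlgebraic R (AdjoinRoot P) := Algebra.IsIntegral.isAlgebraic
  haveI : Algebra.IsAlgebraic K K' := isAlgebraic_of_isFractionRing R (AdjoinRoot P) ..
  haveI : IsLocalization (Algebra.algebraMapSubmonoid (AdjoinRoot P) (nonZeroDivisors R)) K' := by
    haveI : IsIntegralClosure (AdjoinRoot P) R K' := IsIntegralClosure.of_isIntegrallyClosed _ _ _
    exact IsIntegralClosure.isLocalization R K K' (AdjoinRoot P)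
  haveI : Module.Finite K K' := .of_isLocalization R (AdjoinRoot P) (nonZeroDivisors R)
  have hloc : IsLocalHom (algebraMap R (AdjoinRoot P)) := RingHom.IsIntegral.isLocalHom
    (Algebra.IsIntegral.of_finite R (AdjoinRoot P)).isIntegral hinj
  let r : AdjoinRoot P := AdjoinRoot.root P
  have hr : r ^ N = algebraMap R (AdjoinRoot P) π := Groth.Agent.H9Ram.RootExt.root_pow
  have hr0 : r ≠ 0 := fun h => by
    rw [h, zero_pow hN0] at hr
    exact hπ.ne_zero (hinj (hr.symm.trans (map_zero _).symm))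
  have hrm : r ∈ IsLocalRing.maximalIdeal (AdjoinRoot P) := by
    rw [hmax]; exact Ideal.mem_span_singleton_self _
  let ϖ : AdjoinRoot P := r ^ m
  have hϖ : ϖ ∈ IsLocalRing.maximalIdeal (AdjoinRoot P) := Ideal.pow_mem_of_mem _ hrm _ hm0
  -- the rescaled homomorphism to the fraction field
  let ψ : A →+* K' := ι₀.comp φ
  let c : K' := algebraMap (AdjoinRoot P) K' ϖ
  have hc : c ≠ 0 := fun h => pow_ne_zero m hr0
    (IsFractionRing.injective (AdjoinRoot P) K' (h.trans (map_zero _).symm))
  let f : ∀ d : ℤ, 𝒜 d →+ K' := fun d =>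
    (AddMonoidHom.mulRight (c ^ (-d))).comp (ψ.toAddMonoidHom.comp (𝒜 d).subtype)
  let H : A →+* K' := (DirectSum.toSemiring f (by simp [f, SetLike.coe_gOne])
    (fun {i j} ai aj => by
      simp only [f, AddMonoidHom.coe_comp, AddSubgroup.coe_subtype, Function.comp_apply, RingHom.toAddMonoidHom_eq_coe,
        AddMonoidHom.coe_coe, AddMonoidHom.coe_mulRight, SetLike.coe_gMul, map_mul, neg_add, zpow_add₀ hc]
      ring)).comp (DirectSum.decomposeRingEquiv 𝒜).toRingHom
  have hH : ∀ (d : ℤ) (a : A), a ∈ 𝒜 d → H a = ψ a * c ^ (-d) := fun d a ha => by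
    have e : DirectSum.decomposeRingEquiv 𝒜 a = DirectSum.of (fun i => 𝒜 i) d ⟨a, ha⟩ :=
      DirectSum.decompose_of_mem 𝒜 ha
    simp only [H, RingHom.coe_comp, Function.comp_apply, RingEquiv.toRingHom_eq_coe, RingEquiv.coe_toRingHom]
    rw [e, DirectSum.toSemiring_of]
    rfl
  have hgen : ∀ t : T, ∃ y : AdjoinRoot P, algebraMap (AdjoinRoot P) K' y = H t ∧
      (∀ h : φ t ≠ 0, (⟨t, h⟩ : {t : T // φ t ≠ 0}) = t₀ → IsUnit y) := by
    intro t
    rcases eq_or_ne (φ t) 0 with h0 | h0
    · refine ⟨0, ?_, fun h => absurd h0 h⟩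
      rw [hH _ _ (hdgm t), map_zero, RingHom.comp_apply, h0, map_zero, zero_mul]
    have hwm : m * dg t ≤ N * v t h0 := by
      calc m * dg t ≤ w ⟨t, h0⟩ * dg t := Nat.mul_le_mul_right _ (ht₀ _ (Finset.mem_univ _))
        _ = N * v t h0 := by simp only [w]; rw [Nat.mul_right_comm, hNd]
    refine ⟨algebraMap R (AdjoinRoot P) (u t h0 : R) * r ^ (N * v t h0 - m * dg t), ?_, fun h e => ?_⟩
    · have e1 : algebraMap R (AdjoinRoot P) (φ t) =
          (algebraMap R (AdjoinRoot P) (u t h0 : R) * r ^ (N * v t h0 - m * dg t)) * ϖ ^ dg t := by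
        rw [hvu t h0, map_mul, map_pow, ← hr, ← pow_mul, mul_assoc, ← pow_mul, ← pow_add, Nat.sub_add_cancel hwm]
      rw [hH _ _ (hdgm t), zpow_neg, zpow_natCast]
      symm
      rw [mul_inv_eq_iff_eq_mul₀ (pow_ne_zero _ hc)]
      show algebraMap (AdjoinRoot P) K' (algebraMap R (AdjoinRoot P) (φ t)) = _
      rw [e1, map_mul, map_pow]
    · have he : N * v t h0 = m * dg t := by
        have e' : w ⟨t, h0⟩ = m := congrArg w e
        rw [← e']; simp only [w]; rw [Nat.mul_right_comm, hNd]
      rw [he, Nat.sub_self, pow_zero, mul_one]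
      exact (u t h0).isUnit.map (algebraMap R (AdjoinRoot P))
  choose y hy hyu using hgen
  have hint : ∀ (n : ℕ) (d : ℤ) (a : A), d.toNat = n → a ∈ 𝒜 d → H a ∈ (algebraMap (AdjoinRoot P) K').range := by
    intro n
    induction n using Nat.strong_induction_on with
    | _ n ih =>
      intro d a hn ha
      rcases le_or_gt d 0 with hd | hd
      · obtain ⟨k, hk⟩ := Int.eq_ofNat_of_zero_le (neg_nonneg.2 hd)
        refine ⟨algebraMap R (AdjoinRoot P) (φ a) * ϖ ^ k, ?_⟩
        rw [hH _ _ ha, hk, zpow_natCast, map_mul, map_pow]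
        rfl
      · have hmem : a ∈ Ideal.span (T : Set A) := hTspan ▸ Ideal.subset_span ⟨d, hd, ha⟩
        obtain ⟨b, -, hb⟩ := Submodule.mem_span_finset.1 hmem
        have ea : a = ∑ t : T, ((DirectSum.decompose 𝒜 (b t)) (d - dg t) : A) * t := by
          have h1 : (((DirectSum.decompose 𝒜 a) d : 𝒜 d) : A) = a := DirectSum.decompose_of_mem_same 𝒜 ha
          conv_lhs => rw [← h1, ← hb, DirectSum.decompose_sum]
          rw [DFinsupp.finsetSum_apply, AddSubgroup.val_finsetSum, ← Finset.sum_coe_sort T]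
          refine Finset.sum_congr rfl fun t _ => ?_
          have h2 := DirectSum.coe_decompose_mul_add_of_right_mem 𝒜 (a := b t) (b := (t : A))
            (i := d - (dg t : ℤ)) (hdgm t)
          rw [sub_add_cancel] at h2
          exact h2
        rw [ea, map_sum]
        refine sum_mem fun t _ => ?_
        rw [map_mul]
        refine mul_mem (ih (d - dg t).toNat ?_ _ _ rfl (SetLike.coe_mem _)) ⟨y t, hy t⟩
        have := hdg0 t
        omega
  have hrange : ∀ a : A, H a ∈ (algebraMap (AdjoinRoot P) K').range := fun a => by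
    induction a using DirectSum.Decomposition.inductionOn 𝒜 with
    | zero => rw [map_zero]; exact zero_mem _
    | homogeneous m => exact hint _ _ _ rfl m.2
    | add a b ha hb => rw [map_add]; exact add_mem ha hb
  let e : AdjoinRoot P ≃+* (algebraMap (AdjoinRoot P) K').range :=
    RingEquiv.ofBijective (algebraMap (AdjoinRoot P) K').rangeRestrict
      ⟨fun a b h => IsFractionRing.injective (AdjoinRoot P) K' (congrArg Subtype.val h),
        RingHom.rangeRestrict_surjective _⟩
  let g : A →+* AdjoinRoot P := e.symm.toRingHom.comp (H.codRestrict _ hrange)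
  have hg : ∀ a, algebraMap (AdjoinRoot P) K' (g a) = H a := fun a =>
    congrArg Subtype.val (e.apply_symm_apply ⟨H a, hrange a⟩)
  refine ⟨AdjoinRoot P, inferInstance, inferInstance, inferInstance, K', inferInstance, inferInstance,
    inferInstance, inferInstance, inferInstance, inferInstance, inferInstance, inferInstance, inferInstance,
    hloc, ϖ, g, pow_ne_zero m hr0, hϖ, fun d a ha => ?_, ?_⟩
  · rw [hg, hH _ _ ha, mul_assoc, zpow_neg, inv_mul_cancel₀ (zpow_ne_zero d hc), mul_one]
    rfl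
  · rw [Ideal.eq_top_iff_one, ← Ideal.eq_top_iff_one]
    refine Ideal.eq_top_of_isUnit_mem _ (Ideal.mem_map_of_mem g (Ideal.subset_span (hTS t₀.1.2))) ?_
    have : g t₀.1 = y t₀.1 := IsFractionRing.injective (AdjoinRoot P) K' ((hg _).trans (hy _).symm)
    rw [this]
    exact hyu _ t₀.2 rfl

end Groth.Agent.S14123
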