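import Groth.Statements.S14125
import Groth.Agent.H25FM.Inversion
open Groth.Agent Groth.Agent.H25AbCube Groth.Agent.H25Dual Groth.Agent.H25FM


set_option autoImplicit false
set_option linter.style.haveILetI false
set_option backward.isDefEq.respectTransparency false
set_option synthInstance.maxHeartbeats 400000
set_option maxHeartbeats 1000000
set_option linter.style.haveILetI false
set_option backward.isDefEq.respectTransparency false
set_option synthInstance.maxHeartbeats 200000
universe u
open CategoryTheory CategoryTheory.Limits MonoidalCategory CartesianMonoidalCategory MonObj GrpObj AlgebraicGeometry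
attribute [local instance] HasDerivedCategory.standard
open AbVar

namespace Groth.Agent.S14125

/-- Let k be a field, A an abelian variety over k (a proper smooth k-group scheme with geometrically
connected fibres) of dimension g, (A^t, φ) a given dual abelian variety of A for the fppf topology
with A^t itself an abelian variety, and P an invertible module on A ×_k A^t whose class is a
Poincaré class (it corresponds to the identity of A^t and is rigidified along the unit section of
A). Let P' be the pullback of P to A^t ×_k A along the swap of factors, and write Φ_P =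
Rpr_{2,*}(Lpr_1^*(−) ⊗^L P) : D(O_A) → D(O_{A^t}) and Φ_{P'} : D(O_{A^t}) → D(O_A) for the
Fourier–Mukai functors (the derived functors involved are assumed to exist). Then, restricted to
objects of D(O_A) with quasi-coherent cohomology sheaves, Φ_{P'} ∘ Φ_P is isomorphic to L(−1)^*
followed by the shift [−g] (the functor K ↦ K[−g], moving a complex g places to the right);
existence of an isomorphism of functors. -/
theorem result (k : Type u) [Field k]
    (A At : Over (Spec (CommRingCat.of k))) [GrpObj A] [IsProper A.hom] [Smooth A.hom] [GeometricallyConnected A.hom]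
    [GrpObj At] [IsProper At.hom] [Smooth At.hom] [GeometricallyConnected At.hom]
    (φ : ∀ T : Over (Spec (CommRingCat.of k)), PicF.Cl (PicF.XT A.hom T) → (T ⟶ At))
    (hφ : AbDual.IsDualAV Scheme.fppfPrecoverage A At φ)
    (P : (pullback A.hom At.hom).Modules) (hP : PicF.IsInvertible P)
    (hPξ : AbDual.IsPoincareCl A At φ (PicF.cl P))
    (g : ℕ) (hg : topologicalKrullDim ↥A.left = g)
    [DCoh.HasLpull (pullback.fst A.hom At.hom)] [DCoh.HasLTensorMod P] [DCoh.HasRpush (pullback.snd A.hom At.hom)]
    [DCoh.HasLpull (pullback.fst At.hom A.hom)]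
    [DCoh.HasLTensorMod ((Scheme.Modules.pullback (pullbackSymmetry At.hom A.hom).hom).obj P)]
    [DCoh.HasRpush (pullback.snd At.hom A.hom)] [DCoh.HasLpull ((𝟙 A)⁻¹).left] :
    Nonempty (ObjectProperty.ι (DCoh.IsQCohD (X := A.left)) ⋙ (DCoh.Lpull (pullback.fst A.hom At.hom) ⋙ DCoh.LTensorMod P ⋙ DCoh.Rpush (pullback.snd A.hom At.hom)) ⋙
        (DCoh.Lpull (pullback.fst At.hom A.hom) ⋙
          DCoh.LTensorMod ((Scheme.Modules.pullback (pullbackSymmetry At.hom A.hom).hom).obj P) ⋙
          DCoh.Rpush (pullback.snd At.hom A.hom)) ≅
      ObjectProperty.ι (DCoh.IsQCohD (X := A.left)) ⋙ DCoh.Lpull ((𝟙 A)⁻¹).left ⋙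
        shiftFunctor (DCoh.D A.left) (-(g : ℤ))) := by
  haveI : GeometricallyIntegral A.hom := geometricallyIntegral_of_smooth A
  haveI : GeometricallyIntegral At.hom := geometricallyIntegral_of_smooth At
  haveI : DCoh.HasLpull (fst A At).left := inferInstanceAs (DCoh.HasLpull (pullback.fst A.hom At.hom))
  haveI : DCoh.HasLpull (fst At A).left := inferInstanceAs (DCoh.HasLpull (pullback.fst At.hom A.hom))
  haveI : DCoh.HasRpush (snd A At).left := inferInstanceAs (DCoh.HasRpush (pullback.snd A.hom At.hom))
  haveI : DCoh.HasRpush (snd At A).left := inferInstanceAs (DCoh.HasRpush (pullback.snd At.hom A.hom))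
  let P' : (At ⊗ A).left.Modules := (Scheme.Modules.pullback (pullbackSymmetry At.hom A.hom).hom).obj P
  have hP' : PicF.IsInvertible P' := H11Ample.isInvertible_pullback (pullbackSymmetry At.hom A.hom).hom hP
  haveI : DCoh.HasLTensorMod (X := (A ⊗ At).left) P := inferInstanceAs (DCoh.HasLTensorMod P)
  haveI : DCoh.HasLTensorMod P' :=
    inferInstanceAs (DCoh.HasLTensorMod ((Scheme.Modules.pullback (pullbackSymmetry At.hom A.hom).hom).obj P))
  have h' : pc (X := (At ⊗ A).left) P' hP' = ev (pc (X := (A ⊗ At).left) P hP) (lift (snd At A) (fst At A)) :=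
    (pullP_pc _ P hP _).trans (by rw [symm_eq]; rfl)
  exact nonempty_comp (A := A) (At := At) P hP P' hP' h' (universal_swap hφ P hP hPξ P' hP' h') g (dim_dual hφ hg) hg
    (fun {T} => (poincare_facts hφ P hP hPξ (T := T)).2.2.1)

end Groth.Agent.S14125
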