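import Groth.Statements.S14126
import Groth.Agent.H25FM.Equiv
open Groth.Agent Groth.Agent.H25AbCube Groth.Agent.H25Dual Groth.Agent.H25FM
open Groth.Agent.H16Derived Groth.Agent.H16Derived.KFlat Groth.Agent.H16Derived.KFlat.Stalk


set_option autoImplicit false
set_option linter.style.haveILetI false
set_option backward.isDefEq.respectTransparency false
set_option synthInstance.maxHeartbeats 400000
set_option maxHeartbeats 1000000
set_option linter.style.haveILetI false
set_option backward.isDefEq.respectTransparency false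
set_option synthInstance.maxHeartbeats 200000
universe u
open CategoryTheory CategoryTheory.Limits MonoidalCategory CartesianMonoidalCategory MonObj GrpObj AlgebraicGeometry
attribute [local instance] HasDerivedCategory.standard
open AbVar

namespace Groth.Agent.S14126

/-- Let k be a field, A an abelian variety over k (a proper smooth k-group scheme with geometrically
connected fibres), (A^t, φ) a given dual abelian variety of A for the fppf topology with A^t itself
an abelian variety, and P an invertible module on A ×_k A^t whose class is a Poincaré class. Assume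
the derived functors Lpr_1^*, − ⊗^L P and Rpr_{2,*} exist and that Φ_P = Rpr_{2,*}(Lpr_1^*(−) ⊗^L P)
sends objects of D(O_A) with quasi-coherent cohomology sheaves to objects of D(O_{A^t}) with
quasi-coherent cohomology sheaves. Then the induced functor D_QCoh(O_A) → D_QCoh(O_{A^t}) is an
equivalence of categories. -/
theorem result (k : Type u) [Field k]
    (A At : Over (Spec (CommRingCat.of k))) [GrpObj A] [IsProper A.hom] [Smooth A.hom] [GeometricallyConnected A.hom]
    [GrpObj At] [IsProper At.hom] [Smooth At.hom] [GeometricallyConnected At.hom]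
    (φ : ∀ T : Over (Spec (CommRingCat.of k)), PicF.Cl (PicF.XT A.hom T) → (T ⟶ At))
    (hφ : AbDual.IsDualAV Scheme.fppfPrecoverage A At φ)
    (P : (pullback A.hom At.hom).Modules) (hP : PicF.IsInvertible P)
    (hPξ : AbDual.IsPoincareCl A At φ (PicF.cl P))
    [DCoh.HasLpull (pullback.fst A.hom At.hom)] [DCoh.HasLTensorMod P] [DCoh.HasRpush (pullback.snd A.hom At.hom)]
    (h : ∀ M : DCoh.D A.left, DCoh.IsQCohD M → DCoh.IsQCohD ((DCoh.Lpull (pullback.fst A.hom At.hom) ⋙ DCoh.LTensorMod P ⋙ DCoh.Rpush (pullback.snd A.hom At.hom)).obj M)) :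
    (ObjectProperty.lift (DCoh.IsQCohD (X := At.left))
        (ObjectProperty.ι (DCoh.IsQCohD (X := A.left)) ⋙ (DCoh.Lpull (pullback.fst A.hom At.hom) ⋙ DCoh.LTensorMod P ⋙ DCoh.Rpush (pullback.snd A.hom At.hom)))
        (fun M => h M.obj M.property)).IsEquivalence := by
  haveI : GeometricallyIntegral A.hom := geometricallyIntegral_of_smooth A
  haveI : GeometricallyIntegral At.hom := geometricallyIntegral_of_smooth At
  haveI : DCoh.HasLpull (fst A At).left := inferInstanceAs (DCoh.HasLpull (pullback.fst A.hom At.hom))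
  haveI : DCoh.HasRpush (snd A At).left := inferInstanceAs (DCoh.HasRpush (pullback.snd A.hom At.hom))
  haveI : DCoh.HasLTensorMod (X := (A ⊗ At).left) P := inferInstanceAs (DCoh.HasLTensorMod P)
  let τ := (lift (snd At A) (fst At A)).left
  let P' : (At ⊗ A).left.Modules := (Scheme.Modules.pullback τ).obj P
  have hP' : PicF.IsInvertible P' := H11Ample.isInvertible_pullback τ hP
  have h' : pc (X := (At ⊗ A).left) P' hP' = ev (pc (X := (A ⊗ At).left) P hP) (lift (snd At A) (fst At A)) :=
    pullP_pc _ P hP _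
  have h'' : pc (X := (A ⊗ At).left) P hP = ev (pc (X := (At ⊗ A).left) P' hP') (lift (snd A At) (fst A At)) := by
    rw [h', ev_comp, comp_lift, lift_fst, lift_snd, lift_fst_snd, ev_id]
  haveI : IsIntegral A.left := GeometricallyIntegral.isIntegral_of_subsingleton A.hom
  obtain ⟨g, hg⟩ := H25Grp.exists_nat_dim A.hom
  have hgt := dim_dual hφ hg
  haveI : DCoh.HasLpull (fst At A).left := hasLpull _
  haveI : DCoh.HasLTensorMod P' := hasLTensorMod _
  haveI : DCoh.HasRpush (snd At A).left := GammaAcyclic.hasRpush _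
  haveI : DCoh.HasLpull ((𝟙 A)⁻¹ : A ⟶ A).left := hasLpull _
  haveI : DCoh.HasLpull ((𝟙 At)⁻¹ : At ⟶ At).left := hasLpull _
  haveI : QuasiCompact (snd At A).left := inferInstanceAs (QuasiCompact (pullback.snd At.hom A.hom))
  haveI : QuasiSeparated (snd At A).left := inferInstanceAs (QuasiSeparated (pullback.snd At.hom A.hom))
  obtain ⟨e⟩ := nonempty_comp (A := A) (At := At) P hP P' hP' h' (universal_swap hφ P hP hPξ P' hP' h') g hgt hg
    (fun {T} => (poincare_facts hφ P hP hPξ (T := T)).2.2.1)
  obtain ⟨e'⟩ := nonempty_comp (A := At) (At := A) P' hP' P hP h'' (H25Poinc.universal hφ P hP hPξ) g hg hgt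
    (fun {T} a a' b => by
      simp only [h', ev_comp, comp_lift, lift_fst, lift_snd]
      exact (poincare_facts hφ P hP hPξ (T := T)).2.2.2 b a a')
  let G := DCoh.Lpull (fst At A).left ⋙ DCoh.LTensorMod P' ⋙ DCoh.Rpush (snd At A).left
  have hG : ∀ M : DCoh.D At.left, DCoh.IsQCohD M → DCoh.IsQCohD (G.obj M) := fun M hM =>
    QCohD.isQCohD_rpush (snd At A).left (isQCohD_ltensorMod hP' (QCohD.isQCohD_lpull (fst At A).left hM))
  let G' := ObjectProperty.lift (DCoh.IsQCohD (X := A.left))
    (ObjectProperty.ι (DCoh.IsQCohD (X := At.left)) ⋙ G) fun M => hG M.obj M.property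
  have hA : ((𝟙 A)⁻¹ : A ⟶ A).left ≫ ((𝟙 A)⁻¹ : A ⟶ A).left = 𝟙 A.left := by
    rw [← Over.comp_left, GrpObj.comp_inv, Category.comp_id, _root_.inv_inv, Over.id_left]
  have hAt : ((𝟙 At)⁻¹ : At ⟶ At).left ≫ ((𝟙 At)⁻¹ : At ⟶ At).left = 𝟙 At.left := by
    rw [← Over.comp_left, GrpObj.comp_inv, Category.comp_id, _root_.inv_inv, Over.id_left]
  refine isEquivalence_of_comp_both _ G' ?_ ?_
  · haveI := isEquivalence_pull_shift _ hA (-(g : ℤ))
    exact Functor.isEquivalence_of_iso (Functor.fullyFaithfulCancelRight (ObjectProperty.ι (DCoh.IsQCohD (X := A.left)))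
      (F := ObjectProperty.lift (DCoh.IsQCohD (X := A.left)) (ObjectProperty.ι (DCoh.IsQCohD (X := A.left)) ⋙
        DCoh.Lpull ((𝟙 A)⁻¹ : A ⟶ A).left ⋙ shiftFunctor (DCoh.D A.left) (-(g : ℤ)))
        fun M => isQCohD_pull_shift _ _ M.property) e.symm)
  · haveI := isEquivalence_pull_shift _ hAt (-(g : ℤ))
    exact Functor.isEquivalence_of_iso (Functor.fullyFaithfulCancelRight (ObjectProperty.ι (DCoh.IsQCohD (X := At.left)))
      (F := ObjectProperty.lift (DCoh.IsQCohD (X := At.left)) (ObjectProperty.ι (DCoh.IsQCohD (X := At.left)) ⋙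
        DCoh.Lpull ((𝟙 At)⁻¹ : At ⟶ At).left ⋙ shiftFunctor (DCoh.D At.left) (-(g : ℤ)))
        fun M => isQCohD_pull_shift _ _ M.property) e'.symm)

end Groth.Agent.S14126
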