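-- statement FlatMor.GrothFrozen.S1413 (Groth/Statements/S1413.lean; the theorem FlatMor.flat_diagonal_descends_along_flat_surjective);
import Groth.Statements.S1413
import Groth.Agent.H13Desc.Flat

set_option autoImplicit false
universe u
open FlatMor

namespace Groth.Agent.S1413

open AlgebraicGeometry CategoryTheory Limits in
/-- Let X → Y → Z be morphisms with X → Y flat and surjective and with the diagonal of X over Z flat.
Then the diagonal of Y over Z is flat. -/
theorem result {X Y Z : Scheme.{u}} (f : X ⟶ Y) (g : Y ⟶ Z) [Flat f] [Surjective f] [Flat (pullback.diagonal (f ≫ g))] :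
    Flat (pullback.diagonal g) := by
  haveI hm : Flat (pullback.map (f ≫ g) (f ≫ g) g g f f (𝟙 _) (by simp) (by simp)) :=
    MorphismProperty.pullbackMap (P := @Flat) inferInstance inferInstance rfl rfl
  haveI : Flat (f ≫ pullback.diagonal g) := by
    have e : f ≫ pullback.diagonal g = pullback.diagonal (f ≫ g) ≫
        pullback.map (f ≫ g) (f ≫ g) g g f f (𝟙 _) (by simp) (by simp) := by
      apply pullback.hom_ext
      · simp only [Category.assoc, pullback.diagonal_fst, Category.comp_id]
        erw [pullback.lift_fst, pullback.diagonal_fst_assoc]
      · simp only [Category.assoc, pullback.diagonal_snd, Category.comp_id]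
        erw [pullback.lift_snd, pullback.diagonal_snd_assoc]
    rw [e]; exact MorphismProperty.comp_mem @Flat _ _ inferInstance hm
  haveI : Flat (𝟙 X ≫ f) := by rw [Category.id_comp]; infer_instance
  haveI : Surjective (𝟙 X ≫ f) := by rw [Category.id_comp]; infer_instance
  exact Groth.Agent.H13Desc.flat_of_refinement f (pullback.diagonal g) (𝟙 X)

end Groth.Agent.S1413
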