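import Groth.Statements.S14130
import Groth.Agent.H25Poinc.RiemannRoch
import Groth.Agent.H25Index.BaseChange
open Groth.Agent Groth.Agent.H25AbCube Groth.Agent.H25Dual

set_option autoImplicit false
set_option linter.style.haveILetI false
set_option backward.isDefEq.respectTransparency false
set_option synthInstance.maxHeartbeats 200000
universe u
open CategoryTheory CategoryTheory.Limits MonoidalCategory CartesianMonoidalCategory MonObj GrpObj AlgebraicGeometry
open AbVar

namespace Groth.Agent.S14130

/-- Let k be an algebraically closed field, A an abelian variety over k (a proper smooth k-group scheme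
with geometrically connected fibres), (A^t, φ) a given dual abelian variety of A for the fppf
topology with A^t an abelian variety, L an invertible O_A-module with an inverse L', and Λ a module
on A ×_k A isomorphic to the Mumford module m^*L ⊗ pr_1^*L' ⊗ pr_2^*L', whose class is assumed
algebraically trivial on every geometric fibre of the second projection. Let φ_L = φ(Λ) : A → A^t be
the morphism classifying Λ (on points, x ↦ t_x^*L ⊗ L'), and assume L is non-degenerate in the sense
that φ_L is finite and flat, of constant rank d (so d is the order of its kernel K(L)). Then χ(A,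
L)^2 = d. -/
theorem result (k : Type u) [Field k] [IsAlgClosed k]
    (A At : Over (Spec (CommRingCat.of k))) [GrpObj A] [IsProper A.hom] [Smooth A.hom] [GeometricallyConnected A.hom]
    [GrpObj At] [IsProper At.hom] [Smooth At.hom] [GeometricallyConnected At.hom]
    (φ : ∀ T : Over (Spec (CommRingCat.of k)), PicF.Cl (PicF.XT A.hom T) → (T ⟶ At))
    (hφ : AbDual.IsDualAV Scheme.fppfPrecoverage A At φ)
    (L : A.left.Modules) (hL : PicF.IsInvertible L) (L' : A.left.Modules) (hL' : Nonempty (CohB1.tensorMod L L' ≅ Coh.structureModule A.left))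
    (Λ : (PicF.XT A.hom A).Modules)
    (hΛ : Nonempty (Λ ≅ CohB1.tensorMod (CohB1.tensorMod ((Scheme.Modules.pullback μ[A].left).obj L)
      ((Scheme.Modules.pullback (fst A A).left).obj L')) ((Scheme.Modules.pullback (snd A A).left).obj L')))
    (hΛ0 : AbDual.IsPicZeroCl A.hom A (PicF.cl Λ))
    [IsFinite (φ A (PicF.cl Λ)).left] [Flat (φ A (PicF.cl Λ)).left]
    (d : ℕ) (hd : ∀ y : ↥At.left, Scheme.Hom.finrank (φ A (PicF.cl Λ)).left y = d) :
    @Curv2.euler k _ A.left ⟨A.hom⟩ L ^ 2 = (d : ℤ) := by
  haveI : GeometricallyIntegral A.hom := geometricallyIntegral_of_smooth A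
  haveI : GeometricallyIntegral At.hom := geometricallyIntegral_of_smooth At
  haveI : IsCommMonObj A := isCommMonObj_of_av
  obtain ⟨e⟩ := hΛ
  obtain ⟨hL'i, hsum⟩ := H25Pic0.pc_of_tensor_trivial L L' hL hL'
  let hm := H11Ample.isInvertible_pullback μ[A].left hL
  let hp := H11Ample.isInvertible_pullback (fst A A).left hL'i
  let hq := H11Ample.isInvertible_pullback (snd A A).left hL'i
  let hmp := H11Ample.isInvertible_tensor hm hp
  have hΛi : PicF.IsInvertible Λ := H11Tilde.isInvertible_of_iso e.symm (H11Ample.isInvertible_tensor hmp hq)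
  have hu : pc (X := (A ⊗ A).left) Λ hΛi = theta (pc L hL) := by
    rw [(pc_eq_iff hΛi (H11Ample.isInvertible_tensor hmp hq)).2 ⟨e⟩, pc_tensor hmp hq, pc_tensor hm hp,
      pullP_pc _ L hL, pullP_pc _ L' hL'i, pullP_pc _ L' hL'i, eq_neg_of_add_eq_zero_right hsum, map_neg, map_neg,
      theta, show fst A A * snd A A = μ[A] from (congrArg (· ≫ μ[A]) lift_fst_snd).trans (Category.id_comp _)]
    show ev _ μ[A] + -ev _ (fst A A) + -ev _ (snd A A) = _
    abel
  exact H25Poinc.euler_sq hφ L hL Λ hΛi hu d hd

end Groth.Agent.S14130
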