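import Groth.Statements.S14131
import Groth.Agent.H25Poinc.RiemannRoch
import Groth.Agent.H25Index.BaseChange
open Groth.Agent Groth.Agent.H25AbCube Groth.Agent.H25Dual

set_option autoImplicit false
set_option linter.style.haveILetI false
set_option backward.isDefEq.respectTransparency false
set_option synthInstance.maxHeartbeats 200000
universe u
open CategoryTheory CategoryTheory.Limits MonoidalCategory CartesianMonoidalCategory MonObj GrpObj AlgebraicGeometry
open AbVar

namespace Groth.Agent.S14131

/-- Let k be an algebraically closed field, A an abelian variety over k (a proper smooth k-group scheme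
with geometrically connected fibres) of dimension g, (A^t, φ) a given dual abelian variety of A for
the fppf topology with A^t an abelian variety, L an invertible O_A-module with an inverse L', and Λ
a module on A ×_k A isomorphic to the Mumford module m^*L ⊗ pr_1^*L' ⊗ pr_2^*L', whose class is
assumed algebraically trivial on every geometric fibre of the second projection. Let φ_L = φ(Λ) : A
→ A^t and assume L non-degenerate in the sense that φ_L is finite and flat, of constant rank d. Then
there is a natural number i ≤ g such that H^j(A, L) vanishes for all j ≠ i and the square of dim_k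
H^i(A, L) equals d. (The published statement moreover writes the Fourier–Mukai transform of L as a
vector bundle on A^t placed in degree i; only the cohomological consequences are stated here.) -/
theorem result (k : Type u) [Field k] [IsAlgClosed k]
    (A At : Over (Spec (CommRingCat.of k))) [GrpObj A] [IsProper A.hom] [Smooth A.hom] [GeometricallyConnected A.hom]
    [GrpObj At] [IsProper At.hom] [Smooth At.hom] [GeometricallyConnected At.hom]
    (φ : ∀ T : Over (Spec (CommRingCat.of k)), PicF.Cl (PicF.XT A.hom T) → (T ⟶ At))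
    (hφ : AbDual.IsDualAV Scheme.fppfPrecoverage A At φ)
    (g : ℕ) (hg : topologicalKrullDim ↥A.left = g)
    (L : A.left.Modules) (hL : PicF.IsInvertible L) (L' : A.left.Modules) (hL' : Nonempty (CohB1.tensorMod L L' ≅ Coh.structureModule A.left))
    (Λ : (PicF.XT A.hom A).Modules)
    (hΛ : Nonempty (Λ ≅ CohB1.tensorMod (CohB1.tensorMod ((Scheme.Modules.pullback μ[A].left).obj L)
      ((Scheme.Modules.pullback (fst A A).left).obj L')) ((Scheme.Modules.pullback (snd A A).left).obj L')))
    (hΛ0 : AbDual.IsPicZeroCl A.hom A (PicF.cl Λ))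
    [IsFinite (φ A (PicF.cl Λ)).left] [Flat (φ A (PicF.cl Λ)).left]
    (d : ℕ) (hd : ∀ y : ↥At.left, Scheme.Hom.finrank (φ A (PicF.cl Λ)).left y = d) :
    ∃ i : ℕ, i ≤ g ∧ (∀ j : ℕ, j ≠ i → Subsingleton (Coh.HH A.left L j)) ∧
      @Module.finrank k (Coh.HH A.left L i) _ _ (@Coh.moduleOver k _ A.left ⟨A.hom⟩ L i) ^ 2 = d := by
  haveI : GeometricallyIntegral A.hom := geometricallyIntegral_of_smooth A
  haveI : GeometricallyIntegral At.hom := geometricallyIntegral_of_smooth At
  haveI : IsCommMonObj A := isCommMonObj_of_av
  obtain ⟨e⟩ := hΛ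
  obtain ⟨hL'i, hsum⟩ := H25Pic0.pc_of_tensor_trivial L L' hL hL'
  let hm := H11Ample.isInvertible_pullback μ[A].left hL
  let hp := H11Ample.isInvertible_pullback (fst A A).left hL'i
  let hq := H11Ample.isInvertible_pullback (snd A A).left hL'i
  let hmp := H11Ample.isInvertible_tensor hm hp
  have hΛi : PicF.IsInvertible Λ := H11Tilde.isInvertible_of_iso e.symm (H11Ample.isInvertible_tensor hmp hq)
  have hu : pc (X := (A ⊗ A).left) Λ hΛi = theta (pc L hL) := by
    rw [(pc_eq_iff hΛi (H11Ample.isInvertible_tensor hmp hq)).2 ⟨e⟩, pc_tensor hmp hq, pc_tensor hm hp,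
      pullP_pc _ L hL, pullP_pc _ L' hL'i, pullP_pc _ L' hL'i, eq_neg_of_add_eq_zero_right hsum, map_neg, map_neg,
      theta, show fst A A * snd A A = μ[A] from (congrArg (· ≫ μ[A]) lift_fst_snd).trans (Category.id_comp _)]
    show ev _ μ[A] + -ev _ (fst A A) + -ev _ (snd A A) = _
    abel
  letI : A.left.Over (Spec (CommRingCat.of k)) := ⟨A.hom⟩
  have hsq := H25Poinc.euler_sq hφ L hL Λ hΛi hu d hd
  have hF : Φ φ A (theta (pc L hL)) = φ A (PicF.cl Λ) := by rw [← hu]; exact Φ_pc A Λ hΛi
  haveI : IsFinite (Φ φ A (theta (pc L hL))).left := by rw [hF]; infer_instance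
  obtain ⟨i, hi, h1, -, -⟩ := H25Index.exists_index L hL (H25Poinc.finite_fixing_of_isFinite hφ _) g hg
  refine ⟨i, hi, h1, ?_⟩
  rw [H25Index.euler_eq_of_concentrated L i h1, mul_pow, ← pow_mul, pow_mul', neg_one_sq, one_pow,
    _root_.one_mul] at hsq
  exact_mod_cast hsq

end Groth.Agent.S14131
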