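import Groth.Statements.S14132
import Groth.Agent.H25FM.AV
import Groth.Agent.H25FM.Single
open Groth.Agent Groth.Agent.H25AbCube Groth.Agent.H25Dual Groth.Agent.H25FM
open Groth.Agent.H16Derived Groth.Agent.H16Derived.KFlat Groth.Agent.H16Derived.KFlat.Stalk

set_option autoImplicit false
set_option linter.style.haveILetI false
set_option backward.isDefEq.respectTransparency false
set_option synthInstance.maxHeartbeats 200000
universe u
open CategoryTheory CategoryTheory.Limits MonoidalCategory CartesianMonoidalCategory MonObj GrpObj AlgebraicGeometry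
attribute [local instance] HasDerivedCategory.standard
open AbVar

namespace Groth.Agent.S14132

/-- Let k be a field, A and B abelian varieties over k (proper smooth k-group schemes with geometrically
connected fibres), f : A → B a homomorphism, (A^t, φ_A) and (B^t, φ_B) given dual abelian varieties
for the fppf topology (both abelian varieties), P_A on A ×_k A^t and P_B on B ×_k B^t invertible
modules whose classes are Poincaré classes, and f^t : B^t → A^t the transpose of f with respect to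
these duals. Write Φ_{P_A} = Rpr_{2,*}(Lpr_1^*(−) ⊗^L P_A) : D(O_A) → D(O_{A^t}) and similarly
Φ_{P_B}; the derived functors involved are assumed to exist. Then, restricted to objects of D(O_A)
with quasi-coherent cohomology sheaves, Φ_{P_B} ∘ Rf_* is isomorphic to L(f^t)^* ∘ Φ_{P_A}
(existence of an isomorphism of functors). -/
theorem result (k : Type u) [Field k]
    (A At B Bt : Over (Spec (CommRingCat.of k))) [GrpObj A] [IsProper A.hom] [Smooth A.hom] [GeometricallyConnected A.hom]
    [GrpObj At] [IsProper At.hom] [Smooth At.hom] [GeometricallyConnected At.hom]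
    [GrpObj B] [IsProper B.hom] [Smooth B.hom] [GeometricallyConnected B.hom]
    [GrpObj Bt] [IsProper Bt.hom] [Smooth Bt.hom] [GeometricallyConnected Bt.hom]
    (φA : ∀ T : Over (Spec (CommRingCat.of k)), PicF.Cl (PicF.XT A.hom T) → (T ⟶ At))
    (hφA : AbDual.IsDualAV Scheme.fppfPrecoverage A At φA)
    (φB : ∀ T : Over (Spec (CommRingCat.of k)), PicF.Cl (PicF.XT B.hom T) → (T ⟶ Bt))
    (hφB : AbDual.IsDualAV Scheme.fppfPrecoverage B Bt φB)
    (PA : (pullback A.hom At.hom).Modules) (hPA : PicF.IsInvertible PA)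
    (hPAξ : AbDual.IsPoincareCl A At φA (PicF.cl PA))
    (PB : (pullback B.hom Bt.hom).Modules) (hPB : PicF.IsInvertible PB)
    (hPBξ : AbDual.IsPoincareCl B Bt φB (PicF.cl PB))
    (f : A ⟶ B) [IsMonHom f] (ft : Bt ⟶ At) (hft : AbDual.IsTranspose f φA φB ft)
    [DCoh.HasLpull (pullback.fst A.hom At.hom)] [DCoh.HasLTensorMod PA] [DCoh.HasRpush (pullback.snd A.hom At.hom)]
    [DCoh.HasLpull (pullback.fst B.hom Bt.hom)] [DCoh.HasLTensorMod PB] [DCoh.HasRpush (pullback.snd B.hom Bt.hom)]
    [DCoh.HasRpush f.left] [DCoh.HasLpull ft.left] :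
    Nonempty (ObjectProperty.ι (DCoh.IsQCohD (X := A.left)) ⋙ DCoh.Rpush f.left ⋙ (DCoh.Lpull (pullback.fst B.hom Bt.hom) ⋙ DCoh.LTensorMod PB ⋙ DCoh.Rpush (pullback.snd B.hom Bt.hom)) ≅
      ObjectProperty.ι (DCoh.IsQCohD (X := A.left)) ⋙ (DCoh.Lpull (pullback.fst A.hom At.hom) ⋙ DCoh.LTensorMod PA ⋙ DCoh.Rpush (pullback.snd A.hom At.hom)) ⋙ DCoh.Lpull ft.left) := by
  haveI : GeometricallyIntegral A.hom := geometricallyIntegral_of_smooth A
  haveI : GeometricallyIntegral At.hom := geometricallyIntegral_of_smooth At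
  haveI : GeometricallyIntegral B.hom := geometricallyIntegral_of_smooth B
  haveI : GeometricallyIntegral Bt.hom := geometricallyIntegral_of_smooth Bt
  let pA := (fst A At).left
  let qA := (snd A At).left
  let pB := (fst B Bt).left
  let qB := (snd B Bt).left
  let p1 := (fst A Bt).left
  let r := (snd A Bt).left
  let h := (f ▷ Bt).left
  let l := (A ◁ ft).left
  let uA : PC (A ⊗ At).left := pc PA hPA
  let uB : PC (B ⊗ Bt).left := pc PB hPB
  have hhP := H11Ample.isInvertible_pullback h hPB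
  have hlP := H11Ample.isInvertible_pullback l hPA
  have key : Nonempty ((Scheme.Modules.pullback h).obj PB ≅ (Scheme.Modules.pullback l).obj PA) := by
    refine (pc_eq_iff hhP hlP).1 ?_
    rw [pullP_pc h PB hPB, pullP_pc l PA hPA]
    show ev uB (f ▷ Bt) = ev uA (A ◁ ft)
    have hzA : PZ A At uA := pz_pc hPA hPAξ.1
    have hzB : PZ B Bt uB := pz_pc hPB hPBξ.1
    obtain ⟨hlA, -, -, -⟩ := poincare_facts hφA PA hPA hPAξ (T := Bt)
    obtain ⟨hlB, -, -, -⟩ := poincare_facts hφB PB hPB hPBξ (T := Bt)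
    refine rig_eq hφA (pz_ev_right f hzB) (pz_ev_left ft hzA) ?_ ?_ ?_
    · rw [ev_comp, lift_whiskerRight, MonObj.one_comp]
      exact hlB (𝟙 Bt)
    · rw [ev_comp, lift_whiskerLeft, Category.id_comp]
      exact hlA ft
    · rw [Φ_transpose hft hzB, Φ_nat hφA ft hzA, show Φ φB Bt uB = 𝟙 Bt from (Φ_pc _ PB hPB).trans hPBξ.2.1,
        show Φ φA At uA = 𝟙 At from (Φ_pc _ PA hPA).trans hPAξ.2.1, Category.id_comp, Category.comp_id]
  obtain ⟨key⟩ := key
  haveI : DCoh.HasLpull pA := inferInstanceAs (DCoh.HasLpull (pullback.fst A.hom At.hom))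
  haveI : DCoh.HasLTensorMod (X := (A ⊗ At).left) PA := inferInstanceAs (DCoh.HasLTensorMod PA)
  haveI : DCoh.HasRpush qA := inferInstanceAs (DCoh.HasRpush (pullback.snd A.hom At.hom))
  haveI : DCoh.HasLpull pB := inferInstanceAs (DCoh.HasLpull (pullback.fst B.hom Bt.hom))
  haveI : DCoh.HasLTensorMod (X := (B ⊗ Bt).left) PB := inferInstanceAs (DCoh.HasLTensorMod PB)
  haveI : DCoh.HasRpush qB := inferInstanceAs (DCoh.HasRpush (pullback.snd B.hom Bt.hom))
  haveI : Flat qA := inferInstanceAs (Flat (pullback.snd A.hom At.hom))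
  haveI : Flat pB := inferInstanceAs (Flat (pullback.fst B.hom Bt.hom))
  haveI : QuasiCompact qA := inferInstanceAs (QuasiCompact (pullback.snd A.hom At.hom))
  haveI : QuasiSeparated qA := inferInstanceAs (QuasiSeparated (pullback.snd A.hom At.hom))
  haveI : IsProper f.left := by
    haveI : IsProper (f.left ≫ B.hom) := by rw [Over.w f]; infer_instance
    exact IsProper.of_comp f.left B.hom
  haveI : DCoh.HasLpull p1 := hasLpull _
  haveI : DCoh.HasLpull l := hasLpull _
  haveI : DCoh.HasRpush h := GammaAcyclic.hasRpush _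
  haveI : DCoh.HasRpush r := GammaAcyclic.hasRpush _
  haveI : DCoh.HasLTensorMod ((Scheme.Modules.pullback h).obj PB) := hasLTensorMod _
  haveI : DCoh.HasLTensorMod ((Scheme.Modules.pullback l).obj PA) := hasLTensorMod _
  let W := ObjectProperty.ι (DCoh.IsQCohD (X := A.left))
  let T := W ⋙ DCoh.Lpull pA ⋙ DCoh.LTensorMod (X := (A ⊗ At).left) PA
  obtain ⟨e1⟩ := nonempty_baseChange W (fun c => c.property) (isPullback_whiskerRight f Bt)
    (BaseChange.ti_of_flat' f.left pB)
  obtain ⟨e2⟩ := nonempty_projection h (N := PB) hPB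
  obtain ⟨e3⟩ := nonempty_rpush_comp h qB r (by rw [← Over.comp_left, whiskerRight_snd])
  obtain ⟨e4⟩ := nonempty_baseChange T (fun c => isQCohD_ltensorMod hPA (QCohD.isQCohD_lpull pA c.property))
    (isPullback_whiskerLeft A ft) (BaseChange.ti_of_flat qA ft.left)
  obtain ⟨e5⟩ := nonempty_lpull_ltensorMod l (M := PA) (isFlat_invertible hPA)
  obtain ⟨e6⟩ := nonempty_lpull_comp l pA p1 (by rw [← Over.comp_left, whiskerLeft_fst])
  obtain ⟨e7⟩ := nonempty_ltensorMod_congr key (isFlat_invertible hhP)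
  exact ⟨Functor.isoWhiskerRight e1 (DCoh.LTensorMod (X := (B ⊗ Bt).left) PB ⋙ DCoh.Rpush qB) ≪≫
    Functor.isoWhiskerLeft (W ⋙ DCoh.Lpull p1) (Functor.isoWhiskerRight e2 (DCoh.Rpush qB)) ≪≫
    Functor.isoWhiskerLeft (W ⋙ DCoh.Lpull p1 ⋙ DCoh.LTensorMod ((Scheme.Modules.pullback h).obj PB)) e3 ≪≫
    Functor.isoWhiskerLeft (W ⋙ DCoh.Lpull p1) (Functor.isoWhiskerRight e7 (DCoh.Rpush r)) ≪≫
    Functor.isoWhiskerLeft W (Functor.isoWhiskerRight e6.symm
      (DCoh.LTensorMod ((Scheme.Modules.pullback l).obj PA) ⋙ DCoh.Rpush r)) ≪≫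
    Functor.isoWhiskerLeft (W ⋙ DCoh.Lpull pA) (Functor.isoWhiskerRight e5.symm (DCoh.Rpush r)) ≪≫
    e4.symm⟩

end Groth.Agent.S14132
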