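import Groth.Statements.S14134
import Groth.Agent.H25FM.AV
import Groth.Agent.H25FM.Single
open Groth.Agent Groth.Agent.H25AbCube Groth.Agent.H25Dual Groth.Agent.H25FM
open Groth.Agent.H16Derived Groth.Agent.H16Derived.KFlat Groth.Agent.H16Derived.KFlat.Stalk

set_option autoImplicit false
set_option linter.style.haveILetI false
set_option backward.isDefEq.respectTransparency false
set_option synthInstance.maxHeartbeats 200000
universe u
open CategoryTheory CategoryTheory.Limits MonoidalCategory CartesianMonoidalCategory MonObj GrpObj AlgebraicGeometry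
attribute [local instance] HasDerivedCategory.standard
open AbVar

namespace Groth.Agent.S14134

/-- Let k be a field, A an abelian variety over k (a proper smooth k-group scheme with geometrically
connected fibres), (A^t, φ) a given dual abelian variety of A for the fppf topology with A^t an
abelian variety, P an invertible module on A ×_k A^t whose class is a Poincaré class, and x a
k-rational point of A^t. Let M_x be the restriction of P along A = A × {x} → A ×_k A^t, and t_x :
A^t → A^t the translation by x (the product of the identity and the constant map x in the group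
Hom(A^t, A^t)). Write Φ_P = Rpr_{2,*}(Lpr_1^*(−) ⊗^L P) : D(O_A) → D(O_{A^t}); the derived functors
involved are assumed to exist. Then, restricted to objects of D(O_A) with quasi-coherent cohomology
sheaves, the functor F ↦ Φ_P(F ⊗^L M_x) is isomorphic to F ↦ Lt_x^*Φ_P(F) (existence of an
isomorphism of functors). -/
theorem result (k : Type u) [Field k]
    (A At : Over (Spec (CommRingCat.of k))) [GrpObj A] [IsProper A.hom] [Smooth A.hom] [GeometricallyConnected A.hom]
    [GrpObj At] [IsProper At.hom] [Smooth At.hom] [GeometricallyConnected At.hom]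
    (φ : ∀ T : Over (Spec (CommRingCat.of k)), PicF.Cl (PicF.XT A.hom T) → (T ⟶ At))
    (hφ : AbDual.IsDualAV Scheme.fppfPrecoverage A At φ)
    (P : (pullback A.hom At.hom).Modules) (hP : PicF.IsInvertible P)
    (hPξ : AbDual.IsPoincareCl A At φ (PicF.cl P))
    (x : 𝟙_ (Over (Spec (CommRingCat.of k))) ⟶ At)
    [DCoh.HasLpull (pullback.fst A.hom At.hom)] [DCoh.HasLTensorMod P] [DCoh.HasRpush (pullback.snd A.hom At.hom)]
    [DCoh.HasLTensorMod ((Scheme.Modules.pullback (CartesianMonoidalCategory.lift (𝟙 A) (toUnit A ≫ x)).left).obj P)]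
    [DCoh.HasLpull (𝟙 At * (toUnit At ≫ x)).left] :
    Nonempty (ObjectProperty.ι (DCoh.IsQCohD (X := A.left)) ⋙
        DCoh.LTensorMod ((Scheme.Modules.pullback (CartesianMonoidalCategory.lift (𝟙 A) (toUnit A ≫ x)).left).obj P) ⋙
        (DCoh.Lpull (pullback.fst A.hom At.hom) ⋙ DCoh.LTensorMod P ⋙ DCoh.Rpush (pullback.snd A.hom At.hom)) ≅
      ObjectProperty.ι (DCoh.IsQCohD (X := A.left)) ⋙ (DCoh.Lpull (pullback.fst A.hom At.hom) ⋙ DCoh.LTensorMod P ⋙ DCoh.Rpush (pullback.snd A.hom At.hom)) ⋙
        DCoh.Lpull (𝟙 At * (toUnit At ≫ x)).left) := by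
  haveI : GeometricallyIntegral A.hom := geometricallyIntegral_of_smooth A
  haveI : GeometricallyIntegral At.hom := geometricallyIntegral_of_smooth At
  let p := (fst A At).left
  let q := (snd A At).left
  let t : At ⟶ At := 𝟙 At * (toUnit At ≫ x)
  let g' := (A ◁ t).left
  let M := (Scheme.Modules.pullback (lift (𝟙 A) (toUnit A ≫ x)).left).obj P
  let u : PC (A ⊗ At).left := pc P hP
  have hM : PicF.IsInvertible M := H11Ample.isInvertible_pullback _ hP
  have hpM := H11Ample.isInvertible_pullback p hM
  have hgP := H11Ample.isInvertible_pullback g' hP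
  have hT := H11Ample.isInvertible_tensor hpM hP
  have key : Nonempty (CohB1.tensorMod ((Scheme.Modules.pullback p).obj M) P ≅
      (Scheme.Modules.pullback g').obj P) := by
    refine (pc_eq_iff hT hgP).1 ?_
    rw [pc_tensor hpM hP, pullP_pc p M hM, pullP_pc _ P hP, pullP_pc g' P hP hgP]
    show ev (ev u (lift (𝟙 A) (toUnit A ≫ x))) (fst A At) + u = ev u (A ◁ t)
    obtain ⟨-, -, -, hb⟩ := poincare_facts hφ P hP hPξ (T := A ⊗ At)
    rw [show A ◁ t = lift (fst A At) (snd A At * (toUnit (A ⊗ At) ≫ x)) by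
      apply CartesianMonoidalCategory.hom_ext
      · rw [whiskerLeft_fst, lift_fst]
      · rw [whiskerLeft_snd, lift_snd, MonObj.comp_mul, Category.comp_id, ← Category.assoc,
          toUnit_unique (snd A At ≫ toUnit At) (toUnit _)], hb, lift_fst_snd, ev_comp, comp_lift,
      Category.comp_id, ← Category.assoc, toUnit_unique (fst A At ≫ toUnit A) (toUnit _), ev_id, add_comm]
  obtain ⟨key⟩ := key
  haveI : Flat q := inferInstanceAs (Flat (pullback.snd A.hom At.hom))
  haveI : QuasiCompact q := inferInstanceAs (QuasiCompact (pullback.snd A.hom At.hom))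
  haveI : QuasiSeparated q := inferInstanceAs (QuasiSeparated (pullback.snd A.hom At.hom))
  haveI : DCoh.HasLpull p := inferInstanceAs (DCoh.HasLpull (pullback.fst A.hom At.hom))
  haveI : DCoh.HasLTensorMod (X := (A ⊗ At).left) P := inferInstanceAs (DCoh.HasLTensorMod P)
  haveI : DCoh.HasRpush q := inferInstanceAs (DCoh.HasRpush (pullback.snd A.hom At.hom))
  haveI : DCoh.HasLpull g' := hasLpull g'
  haveI : DCoh.HasLTensorMod ((Scheme.Modules.pullback p).obj M) := hasLTensorMod _
  haveI : DCoh.HasLTensorMod (CohB1.tensorMod ((Scheme.Modules.pullback p).obj M) P) := hasLTensorMod _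
  haveI : DCoh.HasLTensorMod ((Scheme.Modules.pullback g').obj P) := hasLTensorMod _
  let W := ObjectProperty.ι (DCoh.IsQCohD (X := A.left))
  let T := W ⋙ DCoh.Lpull p ⋙ DCoh.LTensorMod (X := (A ⊗ At).left) P
  obtain ⟨e1⟩ := nonempty_baseChange T (fun c => isQCohD_ltensorMod hP (QCohD.isQCohD_lpull p c.property))
    (isPullback_whiskerLeft A t) (BaseChange.ti_of_flat q t.left)
  obtain ⟨e2⟩ := nonempty_lpull_ltensorMod g' (M := P) (isFlat_invertible hP)
  obtain ⟨e3⟩ := nonempty_lpull_comp g' p p (by rw [← Over.comp_left, whiskerLeft_fst])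
  obtain ⟨e4⟩ := nonempty_lpull_ltensorMod p (isFlat_invertible hM)
  obtain ⟨e5⟩ := nonempty_ltensorMod_comp hpM hP
  obtain ⟨e6⟩ := nonempty_ltensorMod_congr key (isFlat_invertible hT)
  exact ⟨Functor.isoWhiskerLeft W (Functor.isoWhiskerRight e4
      (DCoh.LTensorMod (X := (A ⊗ At).left) P ⋙ DCoh.Rpush q)) ≪≫
    Functor.isoWhiskerLeft (W ⋙ DCoh.Lpull p) (Functor.isoWhiskerRight (e5 ≪≫ e6) (DCoh.Rpush q)) ≪≫
    Functor.isoWhiskerLeft W (Functor.isoWhiskerRight e3.symm
      (DCoh.LTensorMod ((Scheme.Modules.pullback g').obj P) ⋙ DCoh.Rpush q)) ≪≫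
    Functor.isoWhiskerLeft (W ⋙ DCoh.Lpull p) (Functor.isoWhiskerRight e2.symm (DCoh.Rpush q)) ≪≫
    e1.symm⟩

end Groth.Agent.S14134
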