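import Groth.Statements.S14135
import Groth.Agent.H25FM.AV
import Groth.Agent.H25FM.Single
open Groth.Agent Groth.Agent.H25AbCube Groth.Agent.H25Dual Groth.Agent.H25FM
open Groth.Agent.H16Derived Groth.Agent.H16Derived.KFlat Groth.Agent.H16Derived.KFlat.Stalk

set_option autoImplicit false
set_option linter.style.haveILetI false
set_option backward.isDefEq.respectTransparency false
set_option synthInstance.maxHeartbeats 200000
universe u
open CategoryTheory CategoryTheory.Limits MonoidalCategory CartesianMonoidalCategory MonObj GrpObj AlgebraicGeometry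
attribute [local instance] HasDerivedCategory.standard
open AbVar

namespace Groth.Agent.S14135

/-- Let k be a field, A an abelian variety over k (a proper smooth k-group scheme with geometrically
connected fibres), (A^t, φ) a given dual abelian variety of A for the fppf topology with A^t an
abelian variety, P an invertible module on A ×_k A^t whose class is a Poincaré class, and x a
k-rational point of A with translation t_x : A → A. Let N_{−x} be the restriction of P along A^t =
{−x} × A^t → A ×_k A^t, the line bundle on A^t attached to the point −x. Write Φ_P =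
Rpr_{2,*}(Lpr_1^*(−) ⊗^L P) : D(O_A) → D(O_{A^t}); the derived functors involved are assumed to
exist. Then, restricted to objects of D(O_A) with quasi-coherent cohomology sheaves, the functor F ↦
Φ_P(Lt_x^*F) is isomorphic to F ↦ Φ_P(F) ⊗^L N_{−x} (existence of an isomorphism of functors). -/
theorem result (k : Type u) [Field k]
    (A At : Over (Spec (CommRingCat.of k))) [GrpObj A] [IsProper A.hom] [Smooth A.hom] [GeometricallyConnected A.hom]
    [GrpObj At] [IsProper At.hom] [Smooth At.hom] [GeometricallyConnected At.hom]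
    (φ : ∀ T : Over (Spec (CommRingCat.of k)), PicF.Cl (PicF.XT A.hom T) → (T ⟶ At))
    (hφ : AbDual.IsDualAV Scheme.fppfPrecoverage A At φ)
    (P : (pullback A.hom At.hom).Modules) (hP : PicF.IsInvertible P)
    (hPξ : AbDual.IsPoincareCl A At φ (PicF.cl P))
    (x : 𝟙_ (Over (Spec (CommRingCat.of k))) ⟶ A)
    [DCoh.HasLpull (pullback.fst A.hom At.hom)] [DCoh.HasLTensorMod P] [DCoh.HasRpush (pullback.snd A.hom At.hom)]
    [DCoh.HasLpull (𝟙 A * (toUnit A ≫ x)).left]
    [DCoh.HasLTensorMod ((Scheme.Modules.pullback (CartesianMonoidalCategory.lift (toUnit At ≫ x⁻¹) (𝟙 At)).left).obj P)] :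
    Nonempty (ObjectProperty.ι (DCoh.IsQCohD (X := A.left)) ⋙ DCoh.Lpull (𝟙 A * (toUnit A ≫ x)).left ⋙ (DCoh.Lpull (pullback.fst A.hom At.hom) ⋙ DCoh.LTensorMod P ⋙ DCoh.Rpush (pullback.snd A.hom At.hom)) ≅
      ObjectProperty.ι (DCoh.IsQCohD (X := A.left)) ⋙ (DCoh.Lpull (pullback.fst A.hom At.hom) ⋙ DCoh.LTensorMod P ⋙ DCoh.Rpush (pullback.snd A.hom At.hom)) ⋙
        DCoh.LTensorMod ((Scheme.Modules.pullback (CartesianMonoidalCategory.lift (toUnit At ≫ x⁻¹) (𝟙 At)).left).obj P)) := by
  haveI : GeometricallyIntegral A.hom := geometricallyIntegral_of_smooth A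
  haveI : GeometricallyIntegral At.hom := geometricallyIntegral_of_smooth At
  let p := (fst A At).left
  let q := (snd A At).left
  let t : A ⟶ A := 𝟙 A * (toUnit A ≫ x)
  haveI : IsIso t := isIso_transl x
  let g' := (t ▷ At).left
  haveI : IsIso g' := inferInstanceAs (IsIso ((Over.forget _).map (t ▷ At)))
  let N := (Scheme.Modules.pullback (lift (toUnit At ≫ x⁻¹) (𝟙 At)).left).obj P
  let u : PC (A ⊗ At).left := pc P hP
  have hN : PicF.IsInvertible N := H11Ample.isInvertible_pullback _ hP
  have hqN := H11Ample.isInvertible_pullback q hN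
  have hP' := H11Ample.isInvertible_tensor (X := (A ⊗ At).left) (M := P) hP hqN
  let P' := CohB1.tensorMod (X := (A ⊗ At).left) P ((Scheme.Modules.pullback q).obj N)
  have key : Nonempty ((Scheme.Modules.pullback g').obj P' ≅ P) := by
    refine (pc_eq_iff (H11Ample.isInvertible_pullback g' hP') hP).1 ?_
    rw [pullP_pc g' P' hP', pc_tensor hP hqN, pullP_pc q N hN, pullP_pc _ P hP, map_add]
    show ev u (t ▷ At) + ev (ev (ev u (lift (toUnit At ≫ x⁻¹) (𝟙 At))) (snd A At)) (t ▷ At) = u
    obtain ⟨hl, -, ha, -⟩ := poincare_facts hφ P hP hPξ (T := A ⊗ At)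
    rw [show t ▷ At = lift (fst A At * (toUnit (A ⊗ At) ≫ x)) (snd A At) by
      apply CartesianMonoidalCategory.hom_ext
      · rw [whiskerRight_fst, lift_fst, MonObj.comp_mul, Category.comp_id, ← Category.assoc,
          toUnit_unique (fst A At ≫ toUnit A) (toUnit _)]
      · rw [whiskerRight_snd, lift_snd], ev_comp, lift_snd, ev_comp, comp_lift, Category.comp_id,
      ← Category.assoc, toUnit_unique (snd A At ≫ toUnit At) (toUnit _), ← ha, _root_.mul_assoc,
      ← MonObj.comp_mul, mul_inv_cancel, MonObj.comp_one, _root_.mul_one, lift_fst_snd, ev_id]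
  obtain ⟨key⟩ := key
  haveI : DCoh.HasLpull p := inferInstanceAs (DCoh.HasLpull (pullback.fst A.hom At.hom))
  haveI : DCoh.HasLTensorMod (X := (A ⊗ At).left) P := inferInstanceAs (DCoh.HasLTensorMod P)
  haveI : Flat q := inferInstanceAs (Flat (pullback.snd A.hom At.hom))
  haveI : QuasiCompact q := inferInstanceAs (QuasiCompact (pullback.snd A.hom At.hom))
  haveI : QuasiSeparated q := inferInstanceAs (QuasiSeparated (pullback.snd A.hom At.hom))
  haveI : DCoh.HasRpush q := inferInstanceAs (DCoh.HasRpush (pullback.snd A.hom At.hom))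
  haveI : DCoh.HasLpull g' := hasLpull g'
  haveI : DCoh.HasLpull (𝟙 At.left) := hasLpull _
  haveI : DCoh.HasLpull (p ≫ t.left) := hasLpull _
  haveI : DCoh.HasLTensorMod (X := (A ⊗ At).left) ((Scheme.Modules.pullback q).obj N) := hasLTensorMod _
  haveI : DCoh.HasLTensorMod (CohB1.tensorMod (X := (A ⊗ At).left) P ((Scheme.Modules.pullback q).obj N)) := hasLTensorMod _
  haveI : DCoh.HasLTensorMod P' := hasLTensorMod _
  haveI : DCoh.HasLTensorMod ((Scheme.Modules.pullback g').obj P') := hasLTensorMod _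
  let W := ObjectProperty.ι (DCoh.IsQCohD (X := A.left))
  let T := W ⋙ DCoh.Lpull p ⋙ DCoh.LTensorMod P'
  have hsq : IsPullback g' q q (𝟙 At.left) := IsPullback.of_horiz_isIso ⟨by
    rw [Category.comp_id, ← Over.comp_left, whiskerRight_snd]⟩
  obtain ⟨e1⟩ := nonempty_baseChange T (fun c => isQCohD_ltensorMod hP' (QCohD.isQCohD_lpull p c.property))
    hsq (BaseChange.ti_of_flat q (𝟙 At.left))
  obtain ⟨e0⟩ := nonempty_lpull_id At.left
  obtain ⟨e2⟩ := nonempty_lpull_ltensorMod g' (M := P') (isFlat_invertible hP')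
  obtain ⟨e3⟩ := nonempty_lpull_comp p t.left (p ≫ t.left) rfl
  obtain ⟨e4⟩ := nonempty_lpull_comp g' p (p ≫ t.left) (by
    rw [← Over.comp_left, ← Over.comp_left, whiskerRight_fst])
  obtain ⟨e5⟩ := nonempty_ltensorMod_congr key (isFlat_invertible (H11Ample.isInvertible_pullback g' hP'))
  obtain ⟨e6⟩ := @nonempty_projection _ _ q _ N hN (hasLTensorMod _) (hasLTensorMod _)
  obtain ⟨e7⟩ := @nonempty_ltensorMod_comp (A ⊗ At).left P _ hP hqN (hasLTensorMod _) (hasLTensorMod _) (hasLTensorMod _)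
  exact ⟨Functor.isoWhiskerLeft W (Functor.isoWhiskerRight (e3 ≪≫ e4.symm)
      (DCoh.LTensorMod (X := (A ⊗ At).left) P ⋙ DCoh.Rpush q)) ≪≫
    Functor.isoWhiskerLeft (W ⋙ DCoh.Lpull p ⋙ DCoh.Lpull g')
      (Functor.isoWhiskerRight e5.symm (DCoh.Rpush q)) ≪≫
    Functor.isoWhiskerLeft (W ⋙ DCoh.Lpull p) (Functor.isoWhiskerRight e2.symm (DCoh.Rpush q)) ≪≫
    e1.symm ≪≫
    Functor.isoWhiskerLeft T (Functor.isoWhiskerLeft (DCoh.Rpush q) e0 ≪≫ Functor.rightUnitor _) ≪≫
    Functor.isoWhiskerLeft (W ⋙ DCoh.Lpull p) (Functor.isoWhiskerRight e7.symm (DCoh.Rpush q)) ≪≫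
    Functor.isoWhiskerLeft (W ⋙ DCoh.Lpull p ⋙ DCoh.LTensorMod (X := (A ⊗ At).left) P) e6.symm⟩

end Groth.Agent.S14135
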