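import Groth.Statements.S14139
import Groth.Agent.H29RR.SubBundle
import Groth.Agent.H29RR.CurveIntegral

set_option autoImplicit false
universe u
open CategoryTheory CategoryTheory.Limits AlgebraicGeometry
open VBCurve

namespace Groth.Agent.S14139

/-- Let C be a smooth proper geometrically connected curve over a field k (proper, smooth and
geometrically connected over k, of dimension one), and 0 → E₁ → E → E₂ → 0 a short exact sequence of
finite locally free O_C-modules of ranks r₁, r, r₂ ≥ 1 whose slopes are all equal: deg E₁ · r = deg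
E · r₁ and deg E₂ · r = deg E · r₂, the degree of a rank-n locally free module being χ − n·χ(O_C).
Then E is semistable (deg G · r ≤ deg E · r' for every finite locally free submodule G of E of rank
r' ≥ 1) if and only if both E₁ and E₂ are semistable in the same sense. -/
theorem result (k : Type u) [Field k] (X : Scheme.{u}) [X.Over (Spec (CommRingCat.of k))]
    [IsProper (X ↘ Spec (CommRingCat.of k))] [Smooth (X ↘ Spec (CommRingCat.of k))]
    [GeometricallyConnected (X ↘ Spec (CommRingCat.of k))] (hdim : topologicalKrullDim ↥X = 1)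
    (T : ShortComplex X.Modules) (hT : T.ShortExact)
    (r₁ r r₂ : ℕ) (hr₁ : 0 < r₁) (hr : 0 < r) (hr₂ : 0 < r₂)
    (hE₁ : FlatMod.IsFinLocFreeOfRank r₁ T.X₁) (hE : FlatMod.IsFinLocFreeOfRank r T.X₂) (hE₂ : FlatMod.IsFinLocFreeOfRank r₂ T.X₃)
    (hμ₁ : Curv2.deg k X T.X₁ r₁ * (r : ℤ) = Curv2.deg k X T.X₂ r * (r₁ : ℤ))
    (hμ₂ : Curv2.deg k X T.X₃ r₂ * (r : ℤ) = Curv2.deg k X T.X₂ r * (r₂ : ℤ)) :
    (∀ (G : X.Modules) (r' : ℕ) (i : G ⟶ T.X₂), Mono i → 0 < r' → FlatMod.IsFinLocFreeOfRank r' G →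
      Curv2.deg k X G r' * (r : ℤ) ≤ Curv2.deg k X T.X₂ r * (r' : ℤ)) ↔
      ((∀ (G : X.Modules) (r' : ℕ) (i : G ⟶ T.X₁), Mono i → 0 < r' → FlatMod.IsFinLocFreeOfRank r' G →
      Curv2.deg k X G r' * (r₁ : ℤ) ≤ Curv2.deg k X T.X₁ r₁ * (r' : ℤ)) ∧
       (∀ (G : X.Modules) (r' : ℕ) (i : G ⟶ T.X₃), Mono i → 0 < r' → FlatMod.IsFinLocFreeOfRank r' G →
      Curv2.deg k X G r' * (r₂ : ℤ) ≤ Curv2.deg k X T.X₃ r₂ * (r' : ℤ))) := by
  haveI := H29RR.isIntegral_of_geomConnected k X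
  haveI := H29RR.isNoetherian_of_proper (k := k) (X := X)
  haveI := hT.mono_f
  have hr0 : (0 : ℤ) < r := by exact_mod_cast hr
  refine ⟨fun h => ⟨fun G r' i hi h0 hG => ?_, fun G r' j hj h0 hG => ?_⟩, fun h G r' i hi h0 hG => ?_⟩
  · haveI := hi
    have hle := h G r' (i ≫ T.f) (mono_comp _ _) h0 hG
    refine le_of_mul_le_mul_right ?_ hr0
    calc Curv2.deg k X G r' * (r₁ : ℤ) * r = Curv2.deg k X G r' * r * r₁ := by ring
      _ ≤ Curv2.deg k X T.X₂ r * r' * r₁ := mul_le_mul_of_nonneg_right hle (Nat.cast_nonneg _)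
      _ = Curv2.deg k X T.X₁ r₁ * r' * r := by rw [mul_right_comm _ _ (r₁ : ℤ), ← hμ₁]; ring
  · haveI := hj
    obtain ⟨P, l, hl, hP, hd⟩ := H29RR.exists_preimage (k := k) hdim.le hT hE₁ hE hG j
    have hle := h P (r₁ + r') l hl (by omega) hP
    rw [hd] at hle
    push_cast at hle
    have hle' : Curv2.deg k X G r' * (r : ℤ) ≤ Curv2.deg k X T.X₂ r * (r' : ℤ) := by nlinarith
    refine le_of_mul_le_mul_right ?_ hr0
    calc Curv2.deg k X G r' * (r₂ : ℤ) * r = Curv2.deg k X G r' * r * r₂ := by ring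
      _ ≤ Curv2.deg k X T.X₂ r * r' * r₂ := mul_le_mul_of_nonneg_right hle' (Nat.cast_nonneg _)
      _ = Curv2.deg k X T.X₃ r₂ * r' * r := by rw [mul_right_comm _ _ (r₂ : ℤ), ← hμ₂]; ring
  · haveI := hi
    have hrq : (0 : ℚ) < r := by exact_mod_cast hr
    have e₁ : (Curv2.deg k X T.X₁ r₁ : ℚ) * r = Curv2.deg k X T.X₂ r * r₁ := by exact_mod_cast hμ₁
    have e₂ : (Curv2.deg k X T.X₃ r₂ : ℚ) * r = Curv2.deg k X T.X₂ r * r₂ := by exact_mod_cast hμ₂
    have key := H29RR.slope_le_of_extension (k := k) hdim.le hT hE hE₂ ((Curv2.deg k X T.X₂ r : ℚ) / r)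
      (fun G' s j hj hs hG' => by
        have h' : (Curv2.deg k X G' s : ℚ) * r₁ ≤ Curv2.deg k X T.X₁ r₁ * s := by
          exact_mod_cast h.1 G' s j hj hs hG'
        rw [div_mul_eq_mul_div, le_div_iff₀ hrq]
        have hp : (0 : ℚ) < r₁ := by exact_mod_cast hr₁
        refine le_of_mul_le_mul_right ?_ hp
        nlinarith [mul_le_mul_of_nonneg_right h' hrq.le, congrArg (· * (s : ℚ)) e₁])
      (fun G' s j hj hs hG' => by
        have h' : (Curv2.deg k X G' s : ℚ) * r₂ ≤ Curv2.deg k X T.X₃ r₂ * s := by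
          exact_mod_cast h.2 G' s j hj hs hG'
        rw [div_mul_eq_mul_div, le_div_iff₀ hrq]
        have hp : (0 : ℚ) < r₂ := by exact_mod_cast hr₂
        refine le_of_mul_le_mul_right ?_ hp
        nlinarith [mul_le_mul_of_nonneg_right h' hrq.le, congrArg (· * (s : ℚ)) e₂])
      hG i
    rw [div_mul_eq_mul_div, le_div_iff₀ hrq] at key
    exact_mod_cast key

end Groth.Agent.S14139
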