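-- statement FlatMor.GrothFrozen.S1414 (Groth/Statements/S1414.lean; the theorem FlatMor.smooth_of_comp_smooth_of_etale);
import Groth.Statements.S1414

set_option autoImplicit false
set_option backward.isDefEq.respectTransparency.types false
universe u
open FlatMor

namespace Groth.Agent.S1414

open AlgebraicGeometry CategoryTheory Limits in
/-- Let f : X → Y and g : Y → Z with f ≫ g smooth and g étale. Then f is smooth. -/
theorem result {X Y Z : Scheme.{u}} (f : X ⟶ Y) (g : Y ⟶ Z) [Smooth (f ≫ g)] [Etale g] : Smooth f := by
  have : MorphismProperty.IsMultiplicative @Smooth := { id_mem := fun _ ↦ inferInstance }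
  have : MorphismProperty.HasOfPostcompProperty @Smooth @Etale := by
    rw [MorphismProperty.hasOfPostcompProperty_iff_le_diagonal]
    intro A B p hp
    exact inferInstanceAs <| Smooth (pullback.diagonal p)
  exact MorphismProperty.of_postcomp _ (W' := @Etale) f g inferInstance inferInstance

end Groth.Agent.S1414
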