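import Groth.Statements.S14140
import Groth.Agent.H25Pic0.Util
open Groth.Agent Groth.Agent.H25AbCube Groth.Agent.H25Pic0

set_option autoImplicit false
set_option linter.style.haveILetI false
set_option backward.isDefEq.respectTransparency false
set_option synthInstance.maxHeartbeats 200000
universe u
open CategoryTheory CategoryTheory.Limits MonoidalCategory CartesianMonoidalCategory MonObj GrpObj AlgebraicGeometry
open AbVar

namespace Groth.Agent.S14140

/-- Let k be an algebraically closed field, A an abelian variety over k (a proper smooth k-group scheme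
with geometrically connected fibres), L an ample invertible O_A-module with an inverse L' (L ⊗ L' ≅
O_A), and M an invertible O_A-module in Pic⁰(A), meaning that t_x^*M ≅ M for every k-rational point
x of A, where t_x : A → A is the translation by x (the product of the identity and the constant map
x in the group Hom(A, A)). Then there is a k-rational point x of A with M ≅ t_x^*L ⊗ L'. -/
theorem result (k : Type u) [Field k] [IsAlgClosed k]
    (A : Over (Spec (CommRingCat.of k))) [GrpObj A] [IsProper A.hom] [Smooth A.hom] [GeometricallyConnected A.hom]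
    (L L' : A.left.Modules) (hLa : CohB1.IsAmple L) (hLL' : Nonempty (CohB1.tensorMod L L' ≅ Coh.structureModule A.left))
    (M : A.left.Modules) (hM : PicF.IsInvertible M)
    (hM0 : ∀ x : 𝟙_ (Over (Spec (CommRingCat.of k))) ⟶ A, Nonempty ((Scheme.Modules.pullback (𝟙 A * (toUnit A ≫ x)).left).obj M ≅ M)) :
    ∃ x : 𝟙_ (Over (Spec (CommRingCat.of k))) ⟶ A,
      Nonempty (M ≅ CohB1.tensorMod ((Scheme.Modules.pullback (𝟙 A * (toUnit A ≫ x)).left).obj L) L') := by
  haveI : GeometricallyIntegral A.hom := geometricallyIntegral_of_smooth A
  obtain ⟨x, hx⟩ := exists_of_ample L hLa (pc M hM) (additive_of_invariant M hM hM0)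
  obtain ⟨hL', hsum⟩ := pc_of_tensor_trivial L L' hLa.1 hLL'
  have hp := H11Ample.isInvertible_pullback (𝟙 A * (toUnit A ≫ x)).left hLa.1
  refine ⟨x, (pc_eq_iff hM (H11Ample.isInvertible_tensor hp hL')).1 ?_⟩
  rw [pc_tensor hp hL', pullP_pc _ L hLa.1 hp, ← hx, eq_neg_of_add_eq_zero_right hsum, sub_eq_add_neg]
  rfl

end Groth.Agent.S14140
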