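import Groth.Statements.S14141
import Groth.Agent.H20GIT.Rigidity

set_option autoImplicit false
set_option maxHeartbeats 1000000
set_option synthInstance.maxHeartbeats 100000
set_option linter.style.haveILetI false
set_option backward.isDefEq.respectTransparency false
universe u
open CategoryTheory CategoryTheory.Limits AlgebraicGeometry
open AbSch

namespace Groth.Agent.S14141

/-- Let S be a connected Noetherian scheme, f : X → S a proper flat morphism such that for every point s
of S the natural map κ(s) → H^0(X_s, O_{X_s}) on global sections of the fibre is bijective, g : Y →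
S a separated morphism and π : X → Y a morphism over S. If for some point s of S the restriction of
π to the fibre X_s is constant, i.e. factors through the projection X_s → Spec κ(s), then π is
constant over all of S: it factors as f followed by a section S → Y of g. (The published statement
is for arbitrary Noetherian S with the conclusion over the connected component of s; this row
assumes S connected, the reduction made in the first line of the printed proof.) -/
theorem result {X Y S : Scheme.{u}} [IsNoetherian S] [ConnectedSpace ↥S]
    (f : X ⟶ S) [IsProper f] [Flat f]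
    (hfib : ∀ s : ↥S, Function.Bijective (algebraMap (S.residueField s) Γ(f.fiber s, ⊤)))
    (g : Y ⟶ S) [IsSeparated g] (π : X ⟶ Y) (hπ : π ≫ g = f) (s : ↥S)
    (hs : ∃ y : Spec (S.residueField s) ⟶ Y, f.fiberι s ≫ π = f.fiberToSpecResidueField s ≫ y) :
    ∃ σ : S ⟶ Y, σ ≫ g = 𝟙 S ∧ π = f ≫ σ := by
  haveI : IsLocallyNoetherian X := LocallyOfFiniteType.isLocallyNoetherian f
  have h0 : ∀ t : S, Function.Bijective (pullback.snd f (S.fromSpecResidueField t)).appTop := by
    intro t
    have h := hfib t
    rw [RingHom.algebraMap_toAlgebra, RingHom.coe_comp] at h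
    exact (Function.Bijective.of_comp_iff _ (ConcreteCategory.bijective_of_isIso
      (Scheme.ΓSpecIso (S.residueField t)).inv)).mp h
  obtain ⟨y, hy⟩ := hs
  refine H20GIT.exists_section_of_collapse f g π hπ h0 (Or.inl inferInstance) s fun x x' hx hx' => ?_
  have e : ∀ z z', π (f.fiberι s z) = π (f.fiberι s z') := by
    intro z z'
    rw [← Scheme.Hom.comp_apply, ← Scheme.Hom.comp_apply, hy, Scheme.Hom.comp_apply, Scheme.Hom.comp_apply]
    congr 1
    exact Subsingleton.elim _ _
  obtain ⟨z, rfl⟩ := (show x ∈ Set.range (f.fiberι s) by rw [Scheme.Hom.range_fiberι]; exact hx)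
  obtain ⟨z', rfl⟩ := (show x' ∈ Set.range (f.fiberι s) by rw [Scheme.Hom.range_fiberι]; exact hx')
  exact e z z'

end Groth.Agent.S14141
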