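import Groth.Statements.S14146
import Groth.Agent.H25FM.AV
import Groth.Agent.H25FM.Single
import Groth.Agent.H25Pic0.Util
open Groth.Agent Groth.Agent.H25AbCube Groth.Agent.H25Dual Groth.Agent.H25FM
open Groth.Agent.H16Derived Groth.Agent.H16Derived.KFlat Groth.Agent.H16Derived.KFlat.Stalk

set_option autoImplicit false
set_option linter.style.haveILetI false
set_option backward.isDefEq.respectTransparency false
set_option synthInstance.maxHeartbeats 200000
universe u
open CategoryTheory CategoryTheory.Limits MonoidalCategory CartesianMonoidalCategory MonObj GrpObj AlgebraicGeometry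
attribute [local instance] HasDerivedCategory.standard
open AbVar

namespace Groth.Agent.S14146

/-- Let k be an algebraically closed field, A an abelian variety over k (a proper smooth k-group scheme
with geometrically connected fibres) with structure map a : A → Spec k, (A^t, φ) a given dual
abelian variety for the fppf topology with A^t an abelian variety, P an invertible module on A ×_k
A^t whose class is a Poincaré class, L an invertible O_A-module with an inverse L', and Λ a module
on A ×_k A isomorphic to the Mumford module m^*L ⊗ pr_1^*L' ⊗ pr_2^*L', whose class is assumed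
algebraically trivial on every geometric fibre of the second projection. Let φ_L = φ(Λ) : A → A^t
and assume L non-degenerate in the sense that φ_L is finite and flat. Write Φ_P =
Rpr_{2,*}(Lpr_1^*(−) ⊗^L P); the derived functors involved are assumed to exist. Then Lφ_L^*(Φ_P(L))
is isomorphic in D(O_A) to La^*(Ra_*L) ⊗^L L', that is, to RΓ(A, L) ⊗_k L^{-1} (existence of an
isomorphism). -/
theorem result (k : Type u) [Field k] [IsAlgClosed k]
    (A At : Over (Spec (CommRingCat.of k))) [GrpObj A] [IsProper A.hom] [Smooth A.hom] [GeometricallyConnected A.hom]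
    [GrpObj At] [IsProper At.hom] [Smooth At.hom] [GeometricallyConnected At.hom]
    (φ : ∀ T : Over (Spec (CommRingCat.of k)), PicF.Cl (PicF.XT A.hom T) → (T ⟶ At))
    (hφ : AbDual.IsDualAV Scheme.fppfPrecoverage A At φ)
    (P : (pullback A.hom At.hom).Modules) (hP : PicF.IsInvertible P)
    (hPξ : AbDual.IsPoincareCl A At φ (PicF.cl P))
    (L : A.left.Modules) (hL : PicF.IsInvertible L) (L' : A.left.Modules) (hL' : Nonempty (CohB1.tensorMod L L' ≅ Coh.structureModule A.left))
    (Λ : (PicF.XT A.hom A).Modules)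
    (hΛ : Nonempty (Λ ≅ CohB1.tensorMod (CohB1.tensorMod ((Scheme.Modules.pullback μ[A].left).obj L)
      ((Scheme.Modules.pullback (fst A A).left).obj L')) ((Scheme.Modules.pullback (snd A A).left).obj L')))
    (hΛ0 : AbDual.IsPicZeroCl A.hom A (PicF.cl Λ))
    [IsFinite (φ A (PicF.cl Λ)).left] [Flat (φ A (PicF.cl Λ)).left]
    [DCoh.HasLpull (pullback.fst A.hom At.hom)] [DCoh.HasLTensorMod P] [DCoh.HasRpush (pullback.snd A.hom At.hom)]
    [DCoh.HasLpull (φ A (PicF.cl Λ)).left] [DCoh.HasRpush A.hom] [DCoh.HasLpull A.hom] [DCoh.HasLTensorMod L'] :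
    Nonempty ((DCoh.Lpull (φ A (PicF.cl Λ)).left).obj ((DCoh.Lpull (pullback.fst A.hom At.hom) ⋙ DCoh.LTensorMod P ⋙ DCoh.Rpush (pullback.snd A.hom At.hom)).obj (DCoh.inD A.left L)) ≅
      (DCoh.LTensorMod L').obj ((DCoh.Lpull A.hom).obj ((DCoh.Rpush A.hom).obj (DCoh.inD A.left L)))) := by
  haveI : GeometricallyIntegral A.hom := geometricallyIntegral_of_smooth A
  haveI : GeometricallyIntegral At.hom := geometricallyIntegral_of_smooth At
  haveI : IsCommMonObj A := isCommMonObj_of_av
  obtain ⟨e⟩ := hΛ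
  obtain ⟨hL'i, hsum⟩ := H25Pic0.pc_of_tensor_trivial L L' hL hL'
  let hm := H11Ample.isInvertible_pullback μ[A].left hL
  let hp := H11Ample.isInvertible_pullback (fst A A).left hL'i
  let hq := H11Ample.isInvertible_pullback (snd A A).left hL'i
  let hmp := H11Ample.isInvertible_tensor hm hp
  have hΛi : PicF.IsInvertible Λ := H11Tilde.isInvertible_of_iso e.symm (H11Ample.isInvertible_tensor hmp hq)
  let l : PC A.left := pc L hL
  have hu : pc (X := (A ⊗ A).left) Λ hΛi = theta l := by
    rw [(pc_eq_iff hΛi (H11Ample.isInvertible_tensor hmp hq)).2 ⟨e⟩, pc_tensor hmp hq, pc_tensor hm hp,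
      pullP_pc _ L hL, pullP_pc _ L' hL'i, pullP_pc _ L' hL'i, eq_neg_of_add_eq_zero_right hsum, map_neg, map_neg,
      theta, show fst A A * snd A A = μ[A] from (congrArg (· ≫ μ[A]) lift_fst_snd).trans (Category.id_comp _)]
    show ev _ μ[A] + -ev _ (fst A A) + -ev _ (snd A A) = _
    abel
  let g : A ⟶ At := φ A (PicF.cl Λ)
  let u : PC (A ⊗ At).left := pc P hP
  let p := (fst A At).left
  let q := (snd A At).left
  let p1 := (fst A A).left
  let p2 := (snd A A).left
  let m := μ[A].left
  let g' := (A ◁ g).left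
  let Pg := (Scheme.Modules.pullback g').obj P
  have hPg : PicF.IsInvertible Pg := H11Ample.isInvertible_pullback g' hP
  have hev : ev u (A ◁ g) = theta l := by
    obtain ⟨hl, -, -, -⟩ := poincare_facts hφ P hP hPξ (T := A)
    have hzu : PZ A At u := pz_pc hP hPξ.1
    have hzΛ : PZ A A (theta l) := hu ▸ pz_pc hΛi hΛ0
    refine rig_eq hφ (pz_ev_left g hzu) hzΛ ?_ (rig_theta l) ?_
    · rw [ev_comp, lift_whiskerLeft, Category.id_comp]
      exact hl g
    · rw [Φ_nat hφ g hzu, show Φ φ At u = 𝟙 At from (Φ_pc _ P hP).trans hPξ.2.1, Category.comp_id, ← hu,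
        Φ_pc A Λ hΛi]
  have hp1L := H11Ample.isInvertible_pullback p1 hL
  have hmL := H11Ample.isInvertible_pullback m hL
  have hp2L' := H11Ample.isInvertible_pullback p2 hL'i
  have key : Nonempty (CohB1.tensorMod ((Scheme.Modules.pullback p1).obj L) Pg ≅
      CohB1.tensorMod ((Scheme.Modules.pullback m).obj L) ((Scheme.Modules.pullback p2).obj L')) := by
    refine (pc_eq_iff (H11Ample.isInvertible_tensor hp1L hPg) (H11Ample.isInvertible_tensor hmL hp2L')).1 ?_
    rw [pc_tensor hp1L hPg, pc_tensor hmL hp2L', pullP_pc p1 L hL, pullP_pc g' P hP hPg,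
      pullP_pc m L hL, pullP_pc p2 L' hL'i, eq_neg_of_add_eq_zero_right hsum, map_neg]
    show ev l (fst A A) + ev u (A ◁ g) = ev l μ[A] + -ev l (snd A A)
    rw [hev, theta, show fst A A * snd A A = μ[A] from (congrArg (· ≫ μ[A]) lift_fst_snd).trans (Category.id_comp _)]
    abel
  obtain ⟨key⟩ := key
  haveI : DCoh.HasLpull p := inferInstanceAs (DCoh.HasLpull (pullback.fst A.hom At.hom))
  haveI : DCoh.HasLTensorMod (X := (A ⊗ At).left) P := inferInstanceAs (DCoh.HasLTensorMod P)
  haveI : DCoh.HasRpush q := inferInstanceAs (DCoh.HasRpush (pullback.snd A.hom At.hom))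
  haveI : Flat q := inferInstanceAs (Flat (pullback.snd A.hom At.hom))
  haveI : QuasiCompact q := inferInstanceAs (QuasiCompact (pullback.snd A.hom At.hom))
  haveI : QuasiSeparated q := inferInstanceAs (QuasiSeparated (pullback.snd A.hom At.hom))
  haveI : DCoh.HasLpull g.left := inferInstanceAs (DCoh.HasLpull (φ A (PicF.cl Λ)).left)
  haveI : DCoh.HasLpull g' := hasLpull g'
  haveI : DCoh.HasLpull p1 := hasLpull _
  haveI : DCoh.HasLpull m := hasLpull _
  haveI : DCoh.HasRpush p2 := GammaAcyclic.hasRpush _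
  haveI : DCoh.HasLTensorMod Pg := hasLTensorMod _
  haveI : DCoh.HasLTensorMod ((Scheme.Modules.pullback p2).obj L') := hasLTensorMod _
  have hLD : DCoh.IsQCohD (DCoh.inD A.left L) := isQCohD_inD (H8Props.FinLocFree.isQCoh_of_isFinLocFree _ (H22Alg.KPullLam.finLocFree_of_rank (H22Alg.PB.rank_one_of_isInvertible hL)))
  let c : (DCoh.IsQCohD (X := A.left)).FullSubcategory := ⟨DCoh.inD A.left L, hLD⟩
  let W := ObjectProperty.ι (DCoh.IsQCohD (X := A.left))
  let T := W ⋙ DCoh.Lpull p ⋙ DCoh.LTensorMod (X := (A ⊗ At).left) P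
  obtain ⟨e1⟩ := nonempty_baseChange T (fun d => isQCohD_ltensorMod hP (QCohD.isQCohD_lpull p d.property))
    (isPullback_whiskerLeft A g) (BaseChange.ti_of_flat q g.left)
  obtain ⟨e2⟩ := nonempty_lpull_ltensorMod g' (M := P) (isFlat_invertible hP)
  obtain ⟨e3⟩ := nonempty_lpull_comp g' p p1 (by rw [← Over.comp_left, whiskerLeft_fst])
  obtain ⟨e4⟩ := nonempty_lpull_inD p1 (isFlat_invertible hL)
  obtain ⟨e5⟩ := nonempty_ltensorMod_inD ((Scheme.Modules.pullback p1).obj L) Pg (isFlat_invertible hPg)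
  obtain ⟨e6⟩ := nonempty_ltensorMod_inD ((Scheme.Modules.pullback m).obj L)
    ((Scheme.Modules.pullback p2).obj L') (isFlat_invertible hp2L')
  obtain ⟨e7⟩ := nonempty_lpull_inD m (isFlat_invertible hL)
  obtain ⟨e8⟩ := nonempty_projection p2 hL'i
  obtain ⟨e9⟩ := nonempty_baseChange W (fun d => d.property) (isPullback_mul (A := A))
    (BaseChange.ti_of_flat A.hom A.hom)
  exact ⟨e1.app c ≪≫
    (DCoh.Rpush p2).mapIso (e2.app ((DCoh.Lpull p).obj (DCoh.inD A.left L)) ≪≫
      (DCoh.LTensorMod Pg).mapIso (e3.app (DCoh.inD A.left L) ≪≫ e4) ≪≫ e5 ≪≫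
      (DerivedCategory.singleFunctor _ 0).mapIso key ≪≫ e6.symm ≪≫
      (DCoh.LTensorMod ((Scheme.Modules.pullback p2).obj L')).mapIso e7.symm) ≪≫
    (e8.app ((DCoh.Lpull m).obj (DCoh.inD A.left L))).symm ≪≫
    (DCoh.LTensorMod L').mapIso (e9.app c).symm⟩

end Groth.Agent.S14146
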