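import Groth.Statements.S14147
import Groth.Agent.H25FM.AV
import Groth.Agent.H25FM.Single
open Groth.Agent Groth.Agent.H25AbCube Groth.Agent.H25Dual Groth.Agent.H25FM
open Groth.Agent.H16Derived Groth.Agent.H16Derived.KFlat Groth.Agent.H16Derived.KFlat.Stalk

set_option autoImplicit false
set_option linter.style.haveILetI false
set_option backward.isDefEq.respectTransparency false
set_option synthInstance.maxHeartbeats 200000
universe u
open CategoryTheory CategoryTheory.Limits MonoidalCategory CartesianMonoidalCategory MonObj GrpObj AlgebraicGeometry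
attribute [local instance] HasDerivedCategory.standard
open AbVar

namespace Groth.Agent.S14147

/-- Let k be a field, A an abelian variety over k (a proper smooth k-group scheme with geometrically
connected fibres) with structure map a : A → Spec k, (A^t, φ) a given dual abelian variety for the
fppf topology with A^t an abelian variety, P an invertible module on A ×_k A^t whose class is a
Poincaré class, x : Spec k → A^t a k-rational point and M_x the restriction of P along A = A × {x} →
A ×_k A^t. Write Φ_P = Rpr_{2,*}(Lpr_1^*(−) ⊗^L P); the derived functors involved are assumed to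
exist. Then, restricted to objects of D(O_A) with quasi-coherent cohomology sheaves, the functor F ↦
Ra_*(F ⊗^L M_x) (global sections RΓ(A, F ⊗ M_x) as an object over Spec k) is isomorphic to F ↦
Lx^*(Φ_P(F)) (existence of an isomorphism of functors). -/
theorem result (k : Type u) [Field k]
    (A At : Over (Spec (CommRingCat.of k))) [GrpObj A] [IsProper A.hom] [Smooth A.hom] [GeometricallyConnected A.hom]
    [GrpObj At] [IsProper At.hom] [Smooth At.hom] [GeometricallyConnected At.hom]
    (φ : ∀ T : Over (Spec (CommRingCat.of k)), PicF.Cl (PicF.XT A.hom T) → (T ⟶ At))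
    (hφ : AbDual.IsDualAV Scheme.fppfPrecoverage A At φ)
    (P : (pullback A.hom At.hom).Modules) (hP : PicF.IsInvertible P)
    (hPξ : AbDual.IsPoincareCl A At φ (PicF.cl P))
    (x : 𝟙_ (Over (Spec (CommRingCat.of k))) ⟶ At)
    [DCoh.HasLpull (pullback.fst A.hom At.hom)] [DCoh.HasLTensorMod P] [DCoh.HasRpush (pullback.snd A.hom At.hom)]
    [DCoh.HasLTensorMod ((Scheme.Modules.pullback (CartesianMonoidalCategory.lift (𝟙 A) (toUnit A ≫ x)).left).obj P)]
    [DCoh.HasRpush A.hom] [DCoh.HasLpull x.left] :
    Nonempty (ObjectProperty.ι (DCoh.IsQCohD (X := A.left)) ⋙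
        DCoh.LTensorMod ((Scheme.Modules.pullback (CartesianMonoidalCategory.lift (𝟙 A) (toUnit A ≫ x)).left).obj P) ⋙ DCoh.Rpush A.hom ≅
      ObjectProperty.ι (DCoh.IsQCohD (X := A.left)) ⋙ (DCoh.Lpull (pullback.fst A.hom At.hom) ⋙ DCoh.LTensorMod P ⋙ DCoh.Rpush (pullback.snd A.hom At.hom)) ⋙ DCoh.Lpull x.left) := by
  let p := (fst A At).left
  let q := (snd A At).left
  let i := (lift (𝟙 A) (toUnit A ≫ x)).left
  haveI : Flat q := inferInstanceAs (Flat (pullback.snd A.hom At.hom))
  haveI : QuasiCompact q := inferInstanceAs (QuasiCompact (pullback.snd A.hom At.hom))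
  haveI : QuasiSeparated q := inferInstanceAs (QuasiSeparated (pullback.snd A.hom At.hom))
  haveI : DCoh.HasLpull p := inferInstanceAs (DCoh.HasLpull (pullback.fst A.hom At.hom))
  haveI : DCoh.HasLTensorMod (X := (A ⊗ At).left) P := inferInstanceAs (DCoh.HasLTensorMod P)
  haveI : DCoh.HasRpush q := inferInstanceAs (DCoh.HasRpush (pullback.snd A.hom At.hom))
  haveI : DCoh.HasLpull i := hasLpull i
  haveI : DCoh.HasLpull (𝟙 A.left) := hasLpull _
  let T := ObjectProperty.ι (DCoh.IsQCohD (X := A.left)) ⋙ DCoh.Lpull p ⋙ DCoh.LTensorMod (X := (A ⊗ At).left) P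
  obtain ⟨e1⟩ := nonempty_baseChange T (fun c => isQCohD_ltensorMod hP (QCohD.isQCohD_lpull p c.property))
    (isPullback_point (A := A) x) (BaseChange.ti_of_flat q x.left)
  obtain ⟨e2⟩ := nonempty_lpull_ltensorMod i (M := P) (isFlat_invertible hP)
  obtain ⟨e3⟩ := nonempty_lpull_comp i p (𝟙 A.left) (by
    rw [← Over.comp_left, lift_fst, Over.id_left])
  obtain ⟨e4⟩ := nonempty_lpull_id A.left
  let W := ObjectProperty.ι (DCoh.IsQCohD (X := A.left))
  exact ⟨(e1 ≪≫
    Functor.isoWhiskerLeft (W ⋙ DCoh.Lpull p) (Functor.isoWhiskerRight e2 (DCoh.Rpush A.hom)) ≪≫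
    Functor.isoWhiskerLeft W (Functor.isoWhiskerRight (e3 ≪≫ e4)
      (DCoh.LTensorMod ((Scheme.Modules.pullback i).obj P) ⋙ DCoh.Rpush A.hom))).symm⟩

end Groth.Agent.S14147
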