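-- statement FlatMor.GrothFrozen.S1415 (Groth/Statements/S1415.lean; the theorem FlatMor.nGeomComp_of_locallyQuasiFinite);
import Groth.Statements.S1415
import Groth.Agent.H7Weight.Bound

set_option autoImplicit false
universe u
open FlatMor

namespace Groth.Agent.S1415

open AlgebraicGeometry CategoryTheory Limits in
/-- Let f : X → Y be locally quasi-finite. Then (1) for every y the number of irreducible components and
the number of connected components of the geometric fibre over y agree, and (2) if X is
quasi-compact these numbers are bounded by some natural number. -/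
theorem result {X Y : Scheme.{u}} (f : X ⟶ Y) [LocallyQuasiFinite f] [LocallyOfFiniteType f] :
    (∀ y : Y, MoreMor.nGeomIrredComp f y = MoreMor.nGeomConnComp f y) ∧
      (CompactSpace ↑X → ∃ d : ℕ, ∀ y : Y, MoreMor.nGeomConnComp f y ≤ d) := by
  exact ⟨fun y => (Groth.Agent.H7Weight.nGeomIrredComp_eq_card f y).trans
    (Groth.Agent.H7Weight.nGeomConnComp_eq_card f y).symm, fun _ => Groth.Agent.H7Weight.nGeomConnComp_le f⟩

end Groth.Agent.S1415
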