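import Groth.Statements.S14151
import Groth.Agent.H29RR.SubBundle
import Groth.Agent.H29RR.CurveIntegral

set_option autoImplicit false
universe u
open CategoryTheory CategoryTheory.Limits AlgebraicGeometry
open VBCurve

namespace Groth.Agent.S14151

/-- Let C be a smooth proper geometrically connected curve over a field k (proper, smooth and
geometrically connected over k, of dimension one) and E a finite locally free O_C-module of rank r ≥
1; degrees of rank-n locally free modules are χ − n·χ(O_C) and slopes are compared by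
cross-multiplication. Then: E is semistable in the sense of quotients (μ(E) ≤ μ(F) for every locally
free quotient E ↠ F of rank s ≥ 1) if and only if μ(G) ≤ μ(E) for every finite locally free
submodule G of E of rank r' ≥ 1; and E is stable in the sense of quotients (μ(E) < μ(F) for every
such quotient map which is not an isomorphism) if and only if μ(G) < μ(E) for every such submodule
whose inclusion is not an isomorphism. (The printed lemma says every nonzero subsheaf; for the
strict inequalities the subsheaf and the quotient must be proper, as its proof uses.) -/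
theorem result (k : Type u) [Field k] (X : Scheme.{u}) [X.Over (Spec (CommRingCat.of k))]
    [IsProper (X ↘ Spec (CommRingCat.of k))] [Smooth (X ↘ Spec (CommRingCat.of k))]
    [GeometricallyConnected (X ↘ Spec (CommRingCat.of k))] (hdim : topologicalKrullDim ↥X = 1)
    (r : ℕ) (hr : 0 < r) (E : X.Modules) (hE : FlatMod.IsFinLocFreeOfRank r E) :
    ((∀ (F : X.Modules) (s : ℕ) (p : E ⟶ F), Epi p → 0 < s → FlatMod.IsFinLocFreeOfRank s F →
      Curv2.deg k X E r * (s : ℤ) ≤ Curv2.deg k X F s * (r : ℤ)) ↔
      (∀ (G : X.Modules) (r' : ℕ) (i : G ⟶ E), Mono i → 0 < r' → FlatMod.IsFinLocFreeOfRank r' G →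
      Curv2.deg k X G r' * (r : ℤ) ≤ Curv2.deg k X E r * (r' : ℤ))) ∧
    ((∀ (F : X.Modules) (s : ℕ) (p : E ⟶ F), Epi p → 0 < s → FlatMod.IsFinLocFreeOfRank s F → (¬ IsIso p) →
      Curv2.deg k X E r * (s : ℤ) < Curv2.deg k X F s * (r : ℤ)) ↔
      (∀ (G : X.Modules) (r' : ℕ) (i : G ⟶ E), Mono i → 0 < r' → FlatMod.IsFinLocFreeOfRank r' G → (¬ IsIso i) →
      Curv2.deg k X G r' * (r : ℤ) < Curv2.deg k X E r * (r' : ℤ))) := by
  haveI := H29RR.isIntegral_of_geomConnected k X
  haveI := H29RR.isNoetherian_of_proper (k := k) (X := X)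
  have quot : ∀ (G : X.Modules) (r' : ℕ) (i : G ⟶ E), Mono i → FlatMod.IsFinLocFreeOfRank r' G →
      ∃ (F : X.Modules) (c : ℕ) (p : E ⟶ F), Epi p ∧ FlatMod.IsFinLocFreeOfRank c F ∧ r' + c = r ∧
        Curv2.deg k X G r' + Curv2.deg k X F c ≤ Curv2.deg k X E r ∧
        (IsIso p → r' = 0) := by
    intro G r' i hi hG
    haveI := hi
    obtain ⟨G', ι', c, hι', hG', hc, hr', hle, hd⟩ := H29RR.exists_saturated_quotient (k := k) hdim.le hE hG i
    haveI := hι'
    refine ⟨_, c, cokernel.π ι', inferInstance, hc, hr', by omega, fun hp => ?_⟩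
    haveI := hp
    have h1 := H25Par.rank_le_of_mono (genericPoint X) hE hc (cokernel.π ι')
    omega
  have ker : ∀ (F : X.Modules) (s : ℕ) (p : E ⟶ F), Epi p → FlatMod.IsFinLocFreeOfRank s F →
      ∃ a : ℕ, FlatMod.IsFinLocFreeOfRank a (kernel p) ∧ a + s = r ∧
        Curv2.deg k X E r = Curv2.deg k X (kernel p) a + Curv2.deg k X F s ∧ (a = 0 → Mono p) ∧
        (IsIso (kernel.ι p) → s = 0) := by
    intro F s p hp hF
    haveI := hp
    obtain ⟨a, n, hK, -, -, -, -, hm, -⟩ := H29RR.exists_image_data (k := k) hdim.le hE hF p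
    obtain ⟨h1, h2⟩ := H29RR.deg_add_of_shortExact (k := k)
      (S := ShortComplex.mk (kernel.ι p) p (kernel.condition p)) { exact := ShortComplex.exact_kernel _ } hK hE hF
    refine ⟨a, hK, h1, h2, hm, fun hi => ?_⟩
    haveI := hi
    have h3 := H25Par.rank_le_of_mono (genericPoint X) hE hK (inv (kernel.ι p))
    omega
  refine ⟨⟨fun h G r' i hi h0 hG => ?_, fun h F s p hp h0 hF => ?_⟩,
    ⟨fun h G r' i hi h0 hG hni => ?_, fun h F s p hp h0 hF hnp => ?_⟩⟩
  · obtain ⟨F, c, p, hp, hF, hrc, hle, -⟩ := quot G r' i hi hG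
    rcases Nat.eq_zero_or_pos c with hc | hc
    · subst hc
      have := H29RR.deg_eq_zero_of_rank_zero (k := k) hF
      have hr' : r' = r := by omega
      subst hr'
      nlinarith [(Nat.cast_nonneg r' : (0 : ℤ) ≤ _)]
    · have := h F c p hp hc hF
      have hr' : (r : ℤ) = r' + c := by omega
      rw [hr'] at this ⊢
      nlinarith
  · obtain ⟨a, hK, hras, hd, -, -⟩ := ker F s p hp hF
    rcases Nat.eq_zero_or_pos a with ha | ha
    · subst ha
      rw [H29RR.deg_eq_zero_of_rank_zero (k := k) hK, zero_add] at hd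
      rw [hd, show r = s by omega]
    · have := h (kernel p) a (kernel.ι p) inferInstance ha hK
      have hr' : (r : ℤ) = a + s := by omega
      rw [hr', hd] at this ⊢
      nlinarith
  · haveI := hi
    obtain ⟨F, c, p, hp, hF, hrc, hle, hiso⟩ := quot G r' i hi hG
    rcases Nat.eq_zero_or_pos c with hc | hc
    · subst hc
      have := H29RR.deg_eq_zero_of_rank_zero (k := k) hF
      have hr' : r' = r := by omega
      subst hr'
      refine mul_lt_mul_of_pos_right (lt_of_le_of_ne (by omega) fun he => hni ?_) (by exact_mod_cast hr)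
      exact H29RR.isIso_of_deg_eq (k := k) hdim.le hG hE i he
    · have := h F c p hp hc hF fun hp' => by have := hiso hp'; omega
      have hr' : (r : ℤ) = r' + c := by omega
      rw [hr'] at this ⊢
      nlinarith
  · obtain ⟨a, hK, hras, hd, hm, hiso⟩ := ker F s p hp hF
    rcases Nat.eq_zero_or_pos a with ha | ha
    · haveI := hm ha
      exact absurd (isIso_of_mono_of_epi p) hnp
    · have := h (kernel p) a (kernel.ι p) inferInstance ha hK fun hi => by have := hiso hi; omega
      have hr' : (r : ℤ) = a + s := by omega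
      rw [hr', hd] at this ⊢
      nlinarith

end Groth.Agent.S14151
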