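import Groth.Statements.S14153
import Groth.Agent.H25FM.ThetaReduced
open Groth.Agent Groth.Agent.H25AbCube Groth.Agent.H25Dual


set_option autoImplicit false
set_option linter.style.haveILetI false
set_option backward.isDefEq.respectTransparency false
set_option synthInstance.maxHeartbeats 400000
set_option maxHeartbeats 1000000
set_option linter.style.haveILetI false
set_option backward.isDefEq.respectTransparency false
set_option synthInstance.maxHeartbeats 200000
universe u
open CategoryTheory CategoryTheory.Limits MonoidalCategory CartesianMonoidalCategory MonObj GrpObj AlgebraicGeometry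
open AbVar

namespace Groth.Agent.S14153

/-- Let k be an algebraically closed field of characteristic 0, A an abelian variety over k (a proper
smooth k-group scheme with geometrically connected fibres), (A^t, φ) a given dual abelian variety
for the fppf topology with A^t an abelian variety, L an ample invertible O_A-module with an inverse
L', and Λ a module on A ×_k A isomorphic to the Mumford module m^*L ⊗ pr_1^*L' ⊗ pr_2^*L', whose
class is assumed algebraically trivial on every geometric fibre of the second projection. Assume
that φ_L = φ(Λ) : A → A^t is an isomorphism, i.e. L defines a principal polarization, and let s be a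
nonzero global section of L with zero scheme Θ ⊆ A (the theta divisor). If Θ is irreducible then Θ
is reduced. -/
theorem result (k : Type u) [Field k] [IsAlgClosed k] [CharZero k]
    (A At : Over (Spec (CommRingCat.of k))) [GrpObj A] [IsProper A.hom] [Smooth A.hom] [GeometricallyConnected A.hom]
    [GrpObj At] [IsProper At.hom] [Smooth At.hom] [GeometricallyConnected At.hom]
    (φ : ∀ T : Over (Spec (CommRingCat.of k)), PicF.Cl (PicF.XT A.hom T) → (T ⟶ At))
    (hφ : AbDual.IsDualAV Scheme.fppfPrecoverage A At φ)
    (L : A.left.Modules) (hLa : CohB1.IsAmple L) (L' : A.left.Modules) (hL' : Nonempty (CohB1.tensorMod L L' ≅ Coh.structureModule A.left))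
    (Λ : (PicF.XT A.hom A).Modules)
    (hΛ : Nonempty (Λ ≅ CohB1.tensorMod (CohB1.tensorMod ((Scheme.Modules.pullback μ[A].left).obj L)
      ((Scheme.Modules.pullback (fst A A).left).obj L')) ((Scheme.Modules.pullback (snd A A).left).obj L')))
    (hΛ0 : AbDual.IsPicZeroCl A.hom A (PicF.cl Λ))
    [IsIso (φ A (PicF.cl Λ))]
    (s : Coh.structureModule A.left ⟶ L) (hs : s ≠ 0)
    [IrreducibleSpace ↥(PicF2.zeroScheme L s).subscheme] :
    IsReduced (PicF2.zeroScheme L s).subscheme := by
  haveI : GeometricallyIntegral A.hom := geometricallyIntegral_of_smooth A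
  haveI : GeometricallyIntegral At.hom := geometricallyIntegral_of_smooth At
  haveI : IsIntegral A.left := GeometricallyIntegral.isIntegral_of_subsingleton A.hom
  haveI : IsLocallyNoetherian A.left := LocallyOfFiniteType.isLocallyNoetherian A.hom
  haveI : IsCommMonObj A := isCommMonObj_of_av
  have hL : PicF.IsInvertible L := hLa.1
  have hufd : ∀ x : A.left, UniqueFactorizationMonoid (A.left.presheaf.stalk x) := fun x => by
    haveI := H19Grp.isRegularLocalRing_stalk_of_smooth A.hom x
    exact H28Alg.ufd_of_regular _
  rcases H25FM.ThetaRed.isReduced_or_pow hufd hL s hs with h | ⟨m, v, hm, hv⟩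
  · exact h
  exfalso
  obtain ⟨g, hg⟩ := H25Grp.exists_nat_dim A.hom
  have hg0 : 0 < g := by
    refine Nat.pos_of_ne_zero fun h0 => ?_
    rw [h0, Nat.cast_zero] at hg
    haveI : Subsingleton A.left := H25FM.ThetaRed.subsingleton_of_dim_zero hg
    let J := PicF2.zeroScheme L s
    obtain ⟨d⟩ : Nonempty J.subscheme := IrreducibleSpace.toNonempty
    have hd : genericPoint A.left ∈ (J.support : Set A.left) := by
      rw [← J.range_subschemeι]
      exact ⟨d, Subsingleton.elim _ _⟩
    exact H25FM.ThetaRed.genericPoint_notMem hL s hs hd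
  obtain ⟨a⟩ := hL'
  obtain ⟨hLi', hneg⟩ := pc_inverse hL ⟨a⟩
  obtain ⟨b⟩ := hΛ
  have h1 := H11Ample.isInvertible_pullback μ[A].left hL
  have h2 := H11Ample.isInvertible_pullback (fst A A).left hLi'
  have h3 := H11Ample.isInvertible_pullback (snd A A).left hLi'
  have hT := H11Ample.isInvertible_tensor (H11Ample.isInvertible_tensor h1 h2) h3
  have hΛi : PicF.IsInvertible Λ := H11Tilde.isInvertible_of_iso b.symm hT
  have hth : pc (X := (A ⊗ A).left) Λ hΛi = theta (pc L hL) := by
    refine ((pc_eq_iff hΛi hT).2 ⟨b⟩).trans ?_
    rw [pc_tensor (H11Ample.isInvertible_tensor h1 h2) h3, pc_tensor h1 h2, pullP_pc μ[A].left _ hL,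
      pullP_pc (fst A A).left _ hLi', pullP_pc (snd A A).left _ hLi', hneg, map_neg, map_neg, ← sub_eq_add_neg,
      ← sub_eq_add_neg]
    rw [theta, show (fst A A * snd A A : A ⊗ A ⟶ A) = μ[A] by
      rw [Hom.mul_def, lift_fst_snd, Category.id_comp]]
    rfl
  haveI : IsIso (Φ φ A (theta (pc L hL))) := by
    rw [← hth, Φ_pc A Λ hΛi]
    infer_instance
  exact H25FM.ThetaRed.not_exists_pow hφ g hg hg0 (pc L hL) m hm v hv

end Groth.Agent.S14153
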