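import Groth.Statements.S14155
import Groth.Agent.H29GenusOne.AtiyahExists
import Groth.Agent.H29GenusOne.Semistable
import Groth.Agent.H19Grp.AlgClosedGeom

set_option autoImplicit false
universe u
open CategoryTheory CategoryTheory.Limits AlgebraicGeometry
open VBCurve

namespace Groth.Agent.S14155

/-- Let k be an algebraically closed field, X a smooth proper integral curve over k (proper and smooth
over k, integral, of dimension one) of genus one, i.e. dim_k H^1(X, O_X) = 1 (an elliptic curve once
a base point is chosen), and F a finite locally free O_X-module of rank r ≥ 1 which is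
indecomposable (nonzero, and in any decomposition F ≅ F₁ ⊕ F₂ one summand is zero), of degree d =
χ(F) − r·χ(O_X). Then F is stable — deg G · r < d · r' for every finite locally free submodule G of
F of rank r' ≥ 1 whose inclusion is not an isomorphism — if and only if gcd(d, r) = 1. (The
published corollary also identifies stability with simplicity in two senses; those equivalences are
not restated.) -/
theorem result (k : Type u) [Field k] [IsAlgClosed k]
    (X : Scheme.{u}) [X.Over (Spec (CommRingCat.of k))] [IsIntegral X]
    [IsProper (X ↘ Spec (CommRingCat.of k))] [Smooth (X ↘ Spec (CommRingCat.of k))]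
    (hdim : topologicalKrullDim ↥X = 1) (hg : Curv2.genus k X = 1)
    (r : ℕ) (hr : 0 < r) (F : X.Modules) (hF : FlatMod.IsFinLocFreeOfRank r F)
    (hind : ¬ IsZero F ∧ ∀ (F₁ F₂ : X.Modules), Nonempty (F ≅ F₁ ⊞ F₂) → IsZero F₁ ∨ IsZero F₂) :
    (∀ (G : X.Modules) (r' : ℕ) (i : G ⟶ F), Mono i → 0 < r' → FlatMod.IsFinLocFreeOfRank r' G → (¬ IsIso i) →
      Curv2.deg k X G r' * (r : ℤ) < Curv2.deg k X F r * (r' : ℤ)) ↔ Int.gcd (Curv2.deg k X F r) (r : ℤ) = 1 := by
  haveI : GeometricallyConnected (X ↘ Spec (CommRingCat.of k)) :=
    H19Grp.geometricallyConnected_of_connectedSpace _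
  haveI := H29RR.isNoetherian_of_proper (k := k) (X := X)
  constructor
  · intro hst
    refine H29GenusOne.gcd_eq_one_of_stable (k := k) hdim hg r hr F hF fun G s i hi hs hsr hG => ?_
    refine hst G s i hi hs hG fun hiso => ?_
    haveI := hiso
    have := H25Par.rank_le_of_mono (genericPoint X) hF hG (inv i)
    omega
  · intro hgcd G s i hi hs hG hniso
    haveI := hi
    have hss := H29GenusOne.semistable_of_indecomposable (k := k) hdim hg hr hF hind.2
    refine lt_of_le_of_ne (hss G s i hi hs hG) fun heq => hniso ?_
    have hsr := H25Par.rank_le_of_mono (genericPoint X) hG hF i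
    have hdvd : (r : ℤ) ∣ (s : ℤ) := by
      refine Int.dvd_of_dvd_mul_right_of_gcd_one (b := Curv2.deg k X F r) ?_ (by rw [Int.gcd_comm]; exact hgcd)
      exact ⟨Curv2.deg k X G s, by rw [← heq, mul_comm]⟩
    have : r ≤ s := Nat.le_of_dvd hs (Int.natCast_dvd_natCast.mp hdvd)
    obtain rfl : s = r := by omega
    exact H29RR.isIso_of_deg_eq (k := k) hdim.le hG hF i (mul_right_cancel₀ (by exact_mod_cast hr.ne') heq)

end Groth.Agent.S14155
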