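import Groth.Statements.S14159
import Groth.Agent.H26Dual.Polar
-- import your own Groth.Agent.* helpers here

set_option autoImplicit false
universe u
open CategoryTheory CategoryTheory.Limits MonoidalCategory CartesianMonoidalCategory MonObj AlgebraicGeometry
open AgPol

open AlgebraicGeometry CategoryTheory CategoryTheory.Limits MonoidalCategory CartesianMonoidalCategory MonObj Groth.Agent Groth.Agent.H26Dual
open Groth.Agent.H25AbCube (PC pc pullP pc_eq_iff pc_tensor pc_one pullP_pc)
open Groth.Agent.H25Dual (toCl toCl_pc toCl_pullP)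

set_option backward.isDefEq.respectTransparency false
set_option synthInstance.maxHeartbeats 400000

namespace Groth.Agent.S14159

/-- Let S be a locally Noetherian scheme, A a projective abelian scheme over S of relative dimension g
with commutative group law, (At, φ) a commutative group scheme with data presenting it as the dual
of A for the fppf topology, ξ a Poincaré class on A ×_S At (normalised along the unit section of A)
and lam : A ⟶ At a polarisation. If L is a module on A whose isomorphism class is the pull back of ξ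
along the graph (1, lam) : A ⟶ A ×_S At, then lam · lam (twice lam, in the group of A-valued points
of At) is the homomorphism attached to L through φ. -/
theorem result (S : Scheme.{u}) [IsLocallyNoetherian S] (A At : Over S) [GrpObj A] [IsCommMonObj A]
    [GrpObj At] [IsCommMonObj At] (g : ℕ) (hA : AgPol.IsAbSch A g) (hproj : RelProj.IsProjective A.hom)
    (φ : AgPol.DualMap A At) (hdual : AbDual.IsDualAV Scheme.fppfPrecoverage A At φ)
    (ξ : PicF.Cl (PicF.XT A.hom At)) (hξ : AbDual.IsPoincareCl A At φ ξ)
    (lam : A ⟶ At) (hpol : AgPol.IsPolarization A At φ lam) (L : A.left.Modules)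
    (hL : PicF.cl L = PicF.pullCl (pullback.lift (𝟙 A.left) (lam).left ((Category.id_comp A.hom).trans (Over.w (lam)).symm)) ξ) :
    AgPol.IsLambda A At φ L (lam * lam) := by
  haveI := hA.proper
  haveI := hA.smooth
  haveI := hA.geomConnected
  haveI := H19Grp.geometricallyReduced_of_smooth_hom A.hom
  haveI := H19Grp.geometricallyIntegral_of_abScheme A
  obtain ⟨⟨P, rfl, hP, hfib⟩, hξ1, hξ0⟩ := hξ
  let u : PC (A ⊗ At).left := pc P hP
  have hu : PZ A At u := pz_pc hP ⟨P, rfl, hP, hfib⟩
  have hu1 : Φ φ At u = 𝟙 At := (Φ_pc _ P hP).trans hξ1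
  obtain ⟨e⟩ := H12Pic.Sep.iso_of_cl_eq hξ0
  have hu0 : ev u (lift (1 : At ⟶ A) (𝟙 At)) = 0 :=
    (pullP_pc _ P hP (H11Ample.isInvertible_pullback _ hP)).symm.trans (((pc_eq_iff _ _).2
      ⟨((Scheme.Modules.pullbackCongr (secT_eq (A := A) At)).app P).symm ≪≫ e⟩).trans pc_one)
  have hgraph : ∀ f : A ⟶ At, pullback.lift (𝟙 A.left) f.left ((Category.id_comp A.hom).trans (Over.w f).symm) =
      (lift (𝟙 A) f).left := fun f => by
    refine pullback.hom_ext ?_ ?_
    · rw [pullback.lift_fst]
      exact (congrArg CommaMorphism.left (lift_fst (𝟙 A) f)).symm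
    · rw [pullback.lift_snd]
      exact (congrArg CommaMorphism.left (lift_snd (𝟙 A) f)).symm
  haveI := hpol.1
  rw [hgraph] at hL
  obtain ⟨i⟩ := H12Pic.Sep.iso_of_cl_eq hL
  have hi := H11Ample.isInvertible_pullback (lift (𝟙 A) lam).left hP
  have hLi : PicF.IsInvertible L := H11Tilde.isInvertible_of_iso i.symm hi
  have hl : pc L hLi = ev u (lift (𝟙 A) lam) := ((pc_eq_iff hLi hi).2 ⟨i⟩).trans (pullP_pc _ P hP hi)
  have hw : PZ A A (ev u (A ◁ lam)) := pz_ev_left lam hu
  obtain ⟨N, hN, hNe⟩ := H25AbCube.exists_rep (ev u (A ◁ lam) + ev u (A ◁ lam))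
  refine ⟨N, hN, ?_, ?_⟩
  · have hp := H11Ample.isInvertible_pullback (fst A A).left hLi
    have hq := H11Ample.isInvertible_pullback (snd A A).left hLi
    have hm := H11Ample.isInvertible_pullback μ[A].left hLi
    have hNp := H11Ample.isInvertible_tensor (M := N) hN hp
    refine (pc_eq_iff (H11Ample.isInvertible_tensor hNp hq) hm).1 ?_
    rw [pc_tensor hNp hq, pc_tensor hN hp, hNe, pullP_pc _ L hLi hp, pullP_pc _ L hLi hq, pullP_pc _ L hLi hm, hl]
    exact (graph_theta hdual hu hu1 hu0 lam (symm_of_polarization hdual hu hu1 hu0 hpol)).symm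
  · rw [← Φ_pc (φ := φ) A N hN, hNe, Φ_add hdual hw hw, Φ_nat hdual lam hu, hu1, Category.comp_id]

end Groth.Agent.S14159
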