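import Groth.Statements.S14160
import Groth.Agent.H26Dual.Polar
-- import your own Groth.Agent.* helpers here

set_option autoImplicit false
universe u
open CategoryTheory CategoryTheory.Limits MonoidalCategory CartesianMonoidalCategory MonObj AlgebraicGeometry
open AgPol

open AlgebraicGeometry CategoryTheory CategoryTheory.Limits MonoidalCategory CartesianMonoidalCategory MonObj Groth.Agent Groth.Agent.H26Dual
open Groth.Agent.H25AbCube (PC pc pullP pc_eq_iff pc_tensor pc_one pullP_pc)
open Groth.Agent.H25Dual (toCl toCl_pc toCl_pullP)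

set_option backward.isDefEq.respectTransparency false
set_option synthInstance.maxHeartbeats 400000

namespace Groth.Agent.S14160

/-- Let S be a locally Noetherian scheme, A a projective abelian scheme over S of relative dimension g
with commutative group law, (At, φ) a commutative group scheme with data presenting it as the dual
of A for the fppf topology, ξ a Poincaré class on A ×_S At, and k ≥ 1. If lam₁, lam₂ : A ⟶ At are
polarisations such that ξ pulls back to the same class on A along the graphs of lam₁ ^ k and of lam₂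
^ k (powers in the group of A-valued points of At), then lam₁ = lam₂. (The published statement
claims uniqueness among all homomorphisms into the dual; on the square E × E of an elliptic curve
with its product principal polarisation lam₀, the homomorphism α(x, y) = lam₀(y, −x) has lam₀ + α ≠
lam₀ while the graphs of k·lam₀ and k·(lam₀ + α) pull the Poincaré class back to isomorphic sheaves,
so this row asks lam₁, lam₂ to be polarisations, which is the case the printed argument covers; k =
0 is excluded since both pull backs are then along the unit section.) -/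
theorem result (S : Scheme.{u}) [IsLocallyNoetherian S] (A At : Over S) [GrpObj A] [IsCommMonObj A]
    [GrpObj At] [IsCommMonObj At] (g : ℕ) (hA : AgPol.IsAbSch A g) (hproj : RelProj.IsProjective A.hom)
    (φ : AgPol.DualMap A At) (hdual : AbDual.IsDualAV Scheme.fppfPrecoverage A At φ)
    (ξ : PicF.Cl (PicF.XT A.hom At)) (hξ : AbDual.IsPoincareCl A At φ ξ) (k : ℕ) (hk : 1 ≤ k)
    (lam₁ lam₂ : A ⟶ At) (h₁ : AgPol.IsPolarization A At φ lam₁) (h₂ : AgPol.IsPolarization A At φ lam₂)
    (heq : PicF.pullCl (pullback.lift (𝟙 A.left) (lam₁ ^ k).left ((Category.id_comp A.hom).trans (Over.w (lam₁ ^ k)).symm)) ξ = PicF.pullCl (pullback.lift (𝟙 A.left) (lam₂ ^ k).left ((Category.id_comp A.hom).trans (Over.w (lam₂ ^ k)).symm)) ξ) :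
    lam₁ = lam₂ := by
  haveI := hA.proper
  haveI := hA.smooth
  haveI := hA.geomConnected
  haveI := H19Grp.geometricallyReduced_of_smooth_hom A.hom
  haveI := H19Grp.geometricallyIntegral_of_abScheme A
  obtain ⟨⟨P, rfl, hP, hfib⟩, hξ1, hξ0⟩ := hξ
  let u : PC (A ⊗ At).left := pc P hP
  have hu : PZ A At u := pz_pc hP ⟨P, rfl, hP, hfib⟩
  have hu1 : Φ φ At u = 𝟙 At := (Φ_pc _ P hP).trans hξ1
  obtain ⟨e⟩ := H12Pic.Sep.iso_of_cl_eq hξ0
  have hu0 : ev u (lift (1 : At ⟶ A) (𝟙 At)) = 0 :=
    (pullP_pc _ P hP (H11Ample.isInvertible_pullback _ hP)).symm.trans (((pc_eq_iff _ _).2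
      ⟨((Scheme.Modules.pullbackCongr (secT_eq (A := A) At)).app P).symm ≪≫ e⟩).trans pc_one)
  have hgraph : ∀ f : A ⟶ At, pullback.lift (𝟙 A.left) f.left ((Category.id_comp A.hom).trans (Over.w f).symm) =
      (lift (𝟙 A) f).left := fun f => by
    refine pullback.hom_ext ?_ ?_
    · rw [pullback.lift_fst]
      exact (congrArg CommaMorphism.left (lift_fst (𝟙 A) f)).symm
    · rw [pullback.lift_snd]
      exact (congrArg CommaMorphism.left (lift_snd (𝟙 A) f)).symm
  rw [hgraph, hgraph] at heq
  have h1 := H11Ample.isInvertible_pullback (lift (𝟙 A) (lam₁ ^ k)).left hP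
  have h2' := H11Ample.isInvertible_pullback (lift (𝟙 A) (lam₂ ^ k)).left hP
  obtain ⟨i⟩ := H12Pic.Sep.iso_of_cl_eq heq
  exact eq_of_graph_eq hdual hu hu1 hu0 h₁ h₂ hk
    ((pullP_pc _ P hP h1).symm.trans (((pc_eq_iff h1 h2').2 ⟨i⟩).trans (pullP_pc _ P hP h2')))

end Groth.Agent.S14160
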