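import Groth.Statements.S16761
import Groth.Agent.LeadBC.GenBC.ZeroApply
import Groth.Agent.LeadBC.GenBC.Rank
import Groth.Agent.LeadVan.Vanishing
import Groth.Agent.H29Fitt.FP

set_option autoImplicit false
universe u
open Coherent

namespace Groth.Agent.S16761

open AlgebraicGeometry CategoryTheory CategoryTheory.Limits in
/-- Let f : X → S be proper and of finite presentation, F an O_X-module of finite presentation which is
flat over S, and d a natural number with dim X_s ≤ d for all s. Then the set S' of points s with
H^j(X_s, F_s) = 0 for all j ≥ 1 is open, and over every open U ⊆ S' the sheaves R^j f_* F (j ≥ 1)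
restrict to zero, f_* F restricts to a finite locally free module, and the formation of f_* F
commutes with base change: for every cartesian square with base a morphism g : T → S whose image
lies in U, with f' : X ×_S T → T and g' : X ×_S T → X the projections, the base change map g^* f_* F
→ f'_* g'^* F is an isomorphism. (The published statement asks only that f be proper; without finite
presentation the assertions on f_* F fail — for a finite flat morphism which is not of finite
presentation and F = O_X the direct image f_* O_X need not be finite locally free — and the argument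
runs through cohomology and base change for morphisms of finite presentation, so f is taken of
finite presentation here. Higher direct images are right derived functors of f_* on O_X-modules,
with injective resolutions carried as an instance argument.) -/
theorem result {X S : Scheme.{u}} (f : X ⟶ S)
    [IsProper f] [LocallyOfFinitePresentation f] [HasInjectiveResolutions X.Modules]
    (F : X.Modules) (hF : CohB1.IsFP F) (hfl : FlatMod.IsFlatOver f F)
    (d : ℕ) (hd : ∀ s : S, topologicalKrullDim ↥(f.fiber s) ≤ d) :
    IsOpen {s : S | ∀ j : ℕ, 1 ≤ j → Subsingleton (CohIII.fiberH f F s j)} ∧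
      ∀ U : S.Opens, (U : Set S) ⊆ {s : S | ∀ j : ℕ, 1 ≤ j → Subsingleton (CohIII.fiberH f F s j)} →
        (∀ j : ℕ, 1 ≤ j → IsZero (((Coh.Rpush f j).obj F).restrict U.ι)) ∧
          FlatMod.IsFinLocFree (((Coh.push f).obj F).restrict U.ι) ∧
            ∀ (T X' : Scheme.{u}) (g : T ⟶ S) (f' : X' ⟶ T) (g' : X' ⟶ X) (hsq : IsPullback g' f' f g),
              Set.range g.base ⊆ (U : Set S) → IsIso (CohBC.bc0 f g f' g' hsq.w F) := by
  haveI : F.IsQuasicoherent := Groth.Agent.H29Fitt.isQCoh_of_isFP F hF
  have hvan : ∀ (s : S) (i : ℕ), d < i → Subsingleton (CohIII.fiberH f F s i) := fun s i hi => by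
    haveI : IsProper (f.fiberToSpecResidueField s) :=
      MorphismProperty.of_isPullback (IsPullback.of_hasPullback f (S.fromSpecResidueField s)) ‹IsProper f›
    haveI : IsLocallyNoetherian (f.fiber s) :=
      LocallyOfFiniteType.isLocallyNoetherian (f.fiberToSpecResidueField s)
    haveI : CompactSpace (f.fiber s) :=
      QuasiCompact.compactSpace_of_compactSpace (f.fiberToSpecResidueField s)
    haveI : IsNoetherian (f.fiber s) := ⟨⟩
    haveI : TopologicalSpace.NoetherianSpace ↥(f.fiber s).toPresheafedSpace := inferInstance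
    exact Groth.Agent.LeadVan.subsingleton_H_of_dim_le (X := (f.fiber s).toPresheafedSpace.carrier) d (hd s)
      (Coh.toAb (CohIII.fiberMod f F s)) i hi
  have hopen : ∀ j, IsOpen {s : S | Subsingleton (CohIII.fiberH f F s j)} := fun j => by
    refine isOpen_iff_forall_mem_open.2 fun s hs => ?_
    obtain ⟨W, hW, hy, -, -, -, h⟩ := Groth.Agent.LeadBC.GenBC.exists_vanishing_nhd f F hF hfl j hs
    exact ⟨W, fun y hy => h y hy, W.isOpen, hy⟩
  refine ⟨?_, fun U hU => ?_⟩
  · have e : {s : S | ∀ j : ℕ, 1 ≤ j → Subsingleton (CohIII.fiberH f F s j)} =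
        ⋂ j ∈ Finset.Icc 1 d, {s : S | Subsingleton (CohIII.fiberH f F s j)} := by
      ext s
      simp only [Set.mem_iInter, Set.mem_setOf_eq, Finset.mem_Icc]
      exact ⟨fun h j hj => h j hj.1, fun h j hj => (le_or_gt j d).elim (fun h' => h j ⟨hj, h'⟩) (hvan s j)⟩
    rw [e]
    exact isOpen_biInter_finset fun j _ => hopen j
  have hE : ∀ y ∈ U, ∃ (W : S.Opens) (hW : IsAffineOpen W), y ∈ W ∧ Groth.Agent.LeadBC.GenBC.EpiOn f F hW 0 :=
    fun y hy => by
      obtain ⟨W, hW, hyW, -, hm, -⟩ := Groth.Agent.LeadBC.GenBC.exists_vanishing_nhd f F hF hfl 1 (hU hy 1 le_rfl)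
      exact ⟨W, hW, hyW, (Groth.Agent.LeadBC.GenBC.monoOn_succ_iff f F hW hF hfl 0).1 hm⟩
  refine ⟨fun j hj => ?_, Groth.Agent.LeadBC.GenBC.isFinLocFree_push_restrict f F hF hfl U hE,
    fun T X' g f' g' hsq hg => ?_⟩
  · refine Groth.Agent.LeadBC.GenBC.isZero_restrict_of_local _ fun y hy => ?_
    obtain ⟨W, hW, hyW, -, -, h0, -⟩ := Groth.Agent.LeadBC.GenBC.exists_vanishing_nhd f F hF hfl j (hU hy j hj)
    exact ⟨W, hyW, h0⟩
  · have h := Groth.Agent.LeadBC.GenBC.isIso_bc_zero f F hsq hF hfl fun z => hE (g z) (hg ⟨z, rfl⟩)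
    rwa [Groth.Agent.LeadBC.GenBC.τ₀_eq] at h

end Groth.Agent.S16761
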