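import Groth.Statements.S14164
import Groth.Agent.H19Grp.AbSchemeRigid
import Groth.Agent.H25Bdd.Spanning
import Groth.Agent.H25AbCube.Descent
import Groth.Agent.H16Derived.BaseChange.RelFlatPull
import Groth.Agent.H16Derived.KFlat.FinLocFree
import Groth.Agent.H25FM.Tensor
import Groth.Agent.H7Lim.ModLocFree
import Groth.Agent.S12128
import Groth.Agent.S16761
-- import your own Groth.Agent.* helpers here

set_option autoImplicit false
universe u
open CategoryTheory CategoryTheory.Limits MonoidalCategory CartesianMonoidalCategory MonObj AlgebraicGeometry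
open AgPol

open AlgebraicGeometry CategoryTheory CategoryTheory.Limits MonoidalCategory CartesianMonoidalCategory MonObj Groth.Agent

set_option backward.isDefEq.respectTransparency false
set_option synthInstance.maxHeartbeats 400000
attribute [local instance] Functor.grpObjObj

namespace Groth.Agent.S14164

/-- Let S be a locally Noetherian scheme, A a projective abelian scheme over S of relative dimension g
with structure morphism π, and L an invertible module on A which is ample relative to π. Then R^i
π_* L = 0 for every i ≥ 1 (right derived functors of the direct image on modules), and π_* L is a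
finite locally free module on S. -/
theorem result (S : Scheme.{u}) [IsLocallyNoetherian S]
    (A : Over S) [GrpObj A] (g : ℕ) (hA : AgPol.IsAbSch A g) (hproj : RelProj.IsProjective A.hom)
    [HasInjectiveResolutions A.left.Modules]
    (L : A.left.Modules) (hL : PicF.IsInvertible L) (hample : RelAmple.IsRelAmple A.hom L) :
    (∀ i : ℕ, 1 ≤ i → IsZero ((Coh.Rpush A.hom i).obj L)) ∧
      FlatMod.IsFinLocFree ((Coh.push A.hom).obj L) := by
  haveI := hA.proper
  haveI := hA.smooth
  haveI := hA.geomConnected
  haveI := H19Grp.geometricallyReduced_of_smooth_hom A.hom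
  haveI := H19Grp.geometricallyIntegral_of_abScheme A
  have hfib := (Groth.Agent.S12128.result A.hom L hL).1 hample
  have hvan : ∀ s : S, ∀ j : ℕ, 1 ≤ j → Subsingleton (CohIII.fiberH A.hom L s j) := by
    intro s j hj
    let g := S.fromSpecResidueField s
    let B : Over (Spec (CommRingCat.of (S.residueField s))) := (Over.pullback g).obj A
    haveI : IsProper B.hom := MorphismProperty.pullback_snd (P := @IsProper) _ _ inferInstance
    haveI : GeometricallyIntegral B.hom :=
      MorphismProperty.pullback_snd (P := @GeometricallyIntegral) _ _ inferInstance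
    exact H25Bdd.subsingleton_HH_ample (B := B) (L := (Scheme.Modules.pullback (A.hom.fiberι s)).obj L) (hfib s) hj
  obtain ⟨-, h⟩ := Groth.Agent.S16761.result A.hom L (H25AbCube.finPres_of_inv hL)
    (H16Derived.BaseChange.isFlatOver_of_isFlat A.hom (H25FM.isFlat_invertible hL)) g (fun s => (hA.fibreDim s).le)
  obtain ⟨h1, h2, -⟩ := h ⊤ (fun s _ => hvan s)
  let jt := (⊤ : S.Opens).ι
  haveI : IsIso jt := (Scheme.topIso S).isIso_hom
  have e : ∀ M : S.Modules, (Scheme.Modules.pullback (inv jt)).obj (M.restrict jt) ≅ M := fun M =>
    (Scheme.Modules.pullback (inv jt)).mapIso ((Scheme.Modules.restrictFunctorIsoPullback jt).app M) ≪≫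
      (Scheme.Modules.pullbackComp (inv jt) jt).app M ≪≫ (Scheme.Modules.pullbackCongr (IsIso.inv_hom_id jt)).app M ≪≫
        (Scheme.Modules.pullbackId S).app M
  exact ⟨fun i hi => ((Scheme.Modules.pullback (inv jt)).map_isZero (h1 i hi)).of_iso (e _).symm,
    H7Lim.ModLocFree.isFinLocFree_of_iso (e _) (H16Derived.KFlat.Stalk.isFinLocFree_pullback (inv jt) h2)⟩

end Groth.Agent.S14164
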