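-- statement FlatMor.GrothFrozen.S1417 (Groth/Statements/S1417.lean; the theorem FlatMor.smooth_iff_lifting_along_small_extensions);
import Groth.Statements.S1417
import Groth.Agent.H13Inf.SmallExt
import Groth.Agent.H13Inf.SmoothAtFinite
import Groth.Agent.H8Props.FormallySmoothScheme

set_option autoImplicit false
universe u
open FlatMor

namespace Groth.Agent.S1417
set_option backward.isDefEq.respectTransparency false

open AlgebraicGeometry CategoryTheory Limits in
/-- Let S be locally Noetherian and f : X → S locally of finite type. Then f is smooth if and only if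
for every small extension B' → B of Artinian local rings (a surjection whose kernel is generated by
one element annihilated by the maximal ideal), every morphism Spec B → X and every morphism Spec B'
→ S locally of finite type making the square commute, there is a lift Spec B' → X. -/
theorem result {X S : Scheme.{u}} (f : X ⟶ S) [IsLocallyNoetherian S] [LocallyOfFiniteType f] :
    Smooth f ↔ ∀ (B B' : Type u) [CommRing B] [CommRing B'] [IsArtinianRing B] [IsArtinianRing B'] [IsLocalRing B] [IsLocalRing B']
      (φ : B' →+* B) (ε : B'), Function.Surjective φ → RingHom.ker φ = Ideal.span {ε} → (∀ m ∈ IsLocalRing.maximalIdeal B', ε * m = 0) →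
      ∀ (α : Spec (CommRingCat.of B) ⟶ X) (β : Spec (CommRingCat.of B') ⟶ S), LocallyOfFiniteType β →
        Spec.map (CommRingCat.ofHom φ) ≫ β = α ≫ f →
        ∃ γ : Spec (CommRingCat.of B') ⟶ X, Spec.map (CommRingCat.ofHom φ) ≫ γ = α ∧ γ ≫ f = β := by
  constructor
  · intro hs B B' _ _ _ _ _ _ φ ε hφ hker hε α β _ hsq
    have hfs : MoreMor.IsFormallySmoothHom f :=
      H8Props.FormallySmoothScheme.isFormallySmoothHom_of_charts f fun x => by
        obtain ⟨V, hV, hxV, -⟩ := exists_isAffineOpen_mem_and_subset (x := f x) (U := ⊤) trivial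
        obtain ⟨U, hU, hxU, hUV⟩ := exists_isAffineOpen_mem_and_subset (x := x) (U := f ⁻¹ᵁ V) hxV
        refine ⟨U, V, hU, hV, hUV, hxU, ?_⟩
        letI := (f.appLE V U hUV).hom.toAlgebra
        have h1 := HasRingHomProperty.appLE (P := @Smooth) f hs ⟨V, hV⟩ ⟨U, hU⟩ hUV
        exact RingHom.Smooth.formallySmooth h1
    have hI : (RingHom.ker φ) ^ 2 = ⊥ := H13Inf.sq_eq_bot_of_small
      ⟨ε, hker, fun a ha => by rw [mul_comm]; exact hε a ha⟩
    let e : B' ⧸ RingHom.ker φ ≃+* B := RingHom.quotientKerEquivOfSurjective hφ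
    have hφe : CommRingCat.ofHom φ = CommRingCat.ofHom (Ideal.Quotient.mk (RingHom.ker φ)) ≫
        CommRingCat.ofHom e.toRingHom := by ext x; rfl
    obtain ⟨γ, hγ, hγf⟩ := hfs B' (RingHom.ker φ) hI (Spec.map (CommRingCat.ofHom e.symm.toRingHom) ≫ α) β (by
      rw [Category.assoc, ← hsq, hφe, Spec.map_comp, ← Category.assoc, ← Category.assoc, ← Spec.map_comp,
        ← CommRingCat.ofHom_comp, show e.symm.toRingHom.comp e.toRingHom = RingHom.id _ from
          RingHom.ext fun x => e.symm_apply_apply x, CommRingCat.ofHom_id, Spec.map_id, Category.id_comp])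
    refine ⟨γ, ?_, hγf⟩
    rw [hφe, Spec.map_comp, Category.assoc, hγ, ← Category.assoc, ← Spec.map_comp,
      ← CommRingCat.ofHom_comp, show e.toRingHom.comp e.symm.toRingHom = RingHom.id _ from
        RingHom.ext fun x => e.apply_symm_apply x, CommRingCat.ofHom_id, Spec.map_id, Category.id_comp]
  · intro H
    have key : ∀ u : X, ∃ W : X.Opens, u ∈ W ∧ Smooth (W.ι ≫ f) := by
      intro u
      obtain ⟨V, hV, huV, -⟩ := exists_isAffineOpen_mem_and_subset (x := f u) (U := (⊤ : S.Opens)) trivial
      obtain ⟨U, hU, huU, hle⟩ := exists_isAffineOpen_mem_and_subset (x := u) (U := f ⁻¹ᵁ V) huV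
      haveI : IsNoetherianRing Γ(S, V) := IsLocallyNoetherian.component_noetherian ⟨V, hV⟩
      have hφ : (f.appLE V U hle).hom.FiniteType := LocallyOfFiniteType.finiteType_appLE (f := f) hV hU hle
      let p := hU.primeIdealOf ⟨u, huU⟩
      have hu : hU.fromSpec p = u := hU.fromSpec_primeIdealOf ⟨u, huU⟩
      rw [← hu]
      refine H13Inf.exists_open_smooth f hU.fromSpec hV.fromSpec
        (hV.SpecMap_appLE_fromSpec f hU hle).symm hφ p ?_
      algebraize [(f.appLE V U hle).hom]
      have : Algebra.FinitePresentation Γ(S, V) Γ(X, U) := Algebra.FinitePresentation.of_finiteType.1 hφ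
      obtain ⟨m, hm, hpm⟩ := Ideal.exists_le_maximal p.asIdeal p.2.ne_top
      have hmax : Algebra.IsSmoothAt Γ(S, V) m := by
        refine H13Inf.SmoothAtFinite.isSmoothAt_of_lift m fun B' B _ _ _ _ _ _ _ _ π hπ ht hfin g _ => ?_
        obtain ⟨t, htk, htm⟩ := ht
        let α : Spec (CommRingCat.of B) ⟶ X := Spec.map (CommRingCat.ofHom g.toRingHom) ≫ hU.fromSpec
        let β : Spec (CommRingCat.of B') ⟶ S :=
          Spec.map (CommRingCat.ofHom (algebraMap Γ(S, V) B')) ≫ hV.fromSpec
        have hβ : LocallyOfFiniteType β := by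
          haveI : LocallyOfFiniteType (Spec.map (CommRingCat.ofHom (algebraMap Γ(S, V) B'))) :=
            (HasRingHomProperty.Spec_iff (P := @LocallyOfFiniteType)).2 (RingHom.finiteType_algebraMap.2 hfin)
          infer_instance
        have hsq : Spec.map (CommRingCat.ofHom π.toRingHom) ≫ β = α ≫ f := by
          simp only [α, β, Category.assoc]
          rw [← hV.SpecMap_appLE_fromSpec f hU hle, ← Category.assoc, ← Category.assoc, ← Spec.map_comp,
            ← Spec.map_comp]
          congr 2
          ext r
          exact (π.commutes r).trans (g.commutes r).symm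
        obtain ⟨γ, hγ, hγf⟩ := H B B' π.toRingHom t hπ htk (fun a ha => by rw [mul_comm]; exact htm a ha) α β hβ hsq
        have hrange : Set.range γ.base ⊆ Set.range hU.fromSpec.base := by
          rintro - ⟨q, rfl⟩
          have hq : q.asIdeal = IsLocalRing.maximalIdeal B' :=
            IsLocalRing.eq_maximalIdeal (IsArtinianRing.isMaximal_of_isPrime q.asIdeal)
          obtain ⟨q', hq'⟩ : ∃ q', (Spec.map (CommRingCat.ofHom π.toRingHom)).base q' = q := by
            refine ⟨IsLocalRing.closedPoint B, PrimeSpectrum.ext ?_⟩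
            rw [hq]
            exact IsLocalRing.eq_maximalIdeal (Ideal.comap_isMaximal_of_surjective _ hπ)
          rw [← hq', ← Scheme.Hom.comp_apply, hγ]
          exact ⟨_, rfl⟩
        let l := IsOpenImmersion.lift hU.fromSpec γ hrange
        have hl : l ≫ hU.fromSpec = γ := IsOpenImmersion.lift_fac _ _ _
        obtain ⟨g', hg'⟩ := Spec.map_surjective l
        have h1 : f.appLE V U hle ≫ g' = CommRingCat.ofHom (algebraMap Γ(S, V) B') := by
          apply Spec.map_injective
          rw [← cancel_mono hV.fromSpec, Spec.map_comp, hg', Category.assoc,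
            hV.SpecMap_appLE_fromSpec f hU hle, reassoc_of% hl, hγf]
        have h2 : g' ≫ CommRingCat.ofHom π.toRingHom = CommRingCat.ofHom g.toRingHom := by
          apply Spec.map_injective
          rw [← cancel_mono hU.fromSpec, Spec.map_comp, hg', Category.assoc, hl, hγ]
        exact ⟨{ g'.hom with commutes' := fun r => congr($(h1).hom r) }, AlgHom.ext fun x => congr($(h2).hom x)⟩
      exact ((PrimeSpectrum.le_iff_specializes p ⟨m, hm.isPrime⟩).1 hpm).mem_open Algebra.isOpen_smoothLocus hmax
    choose W hW hs using key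
    refine IsZariskiLocalAtSource.of_iSup_eq_top (P := @Smooth) W ?_ hs
    exact top_le_iff.1 fun u _ => TopologicalSpace.Opens.mem_iSup.2 ⟨u, hW u⟩

end Groth.Agent.S1417
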