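import Groth.Statements.S14172
import Groth.Agent.H22Alg.IdealPowFam
import Groth.Agent.H22Alg.MumfordBound
import Groth.Agent.LeadPic.PnPic
import Groth.Agent.H11Tilde.TwistPow
import Groth.Agent.H11Ample.Converse


set_option autoImplicit false
universe u
open CategoryTheory CategoryTheory.Limits AlgebraicGeometry
open Variety

namespace Groth.Agent.S14172

/-- Let k be an algebraically closed field of characteristic zero (the published statement is over the
complex numbers; this row allows any algebraically closed field of characteristic zero), I a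
quasi-coherent ideal sheaf on P^n_k, viewed as an O-module, and d an integer such that I(d) = I ⊗
O(d) is generated by its global sections. Then reg(I^p) ≤ d p + e for a suitable integer e and every
p ≥ 1: the p-th power I^p is m-regular whenever m ≥ d p + e. -/
theorem result (k : Type u) [Field k] [IsAlgClosed k] [CharZero k]
    (n : ℕ) (I : (CohB1.ProjSpace n k).IdealSheafData) (d : ℤ)
    (hd : Curv2.IsGloballyGenerated (CohB1.tensorMod (ClSub.idealMod I) (Twist.twistProjSpace n k d))) :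
    ∃ e : ℤ, ∀ p : ℕ, 1 ≤ p → ∀ m : ℤ, d * (p : ℤ) + e ≤ m →
      Curv2.IsMRegular k n (ClSub.idealMod (I ^ p)) m := by
  let T : ℤ → (CohB1.ProjSpace n k).Modules := fun a => Twist.twistProjSpace n k a
  have h1 : ∀ x : Proj (CohB1.polyGrading n k), ∃ f ∈ CohB1.polyGrading n k 1, f ∉ x.asHomogeneousIdeal := fun x => by
    obtain ⟨i, hi⟩ := H11Ample.exists_mem_basicOpen_X (n := n) (R := k) x
    exact ⟨_, LeadPic.Pn.X_mem n k i, hi⟩
  have hinv : PicF.IsInvertible (T d) := H11Tilde.isInvertible_twist _ h1 d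
  have hpow : ∀ p : ℕ, Nonempty (CohB1.tensorPow (T d) p ≅ T (d * (p : ℤ))) := fun p => by
    induction p with
    | zero =>
      obtain ⟨e₀⟩ := H11Tilde.nonempty_twist_zero_iso (CohB1.polyGrading n k)
      exact ⟨e₀.symm ≪≫ eqToIso (congrArg T (by simp : (0 : ℤ) = d * ((0 : ℕ) : ℤ)))⟩
    | succ p ih =>
      obtain ⟨e⟩ := ih
      obtain ⟨e'⟩ := H11Tilde.nonempty_twist_tensor_iso (CohB1.polyGrading n k) h1 (d * (p : ℤ)) d
        (d * ((p + 1 : ℕ) : ℤ)) (by push_cast; ring)
      exact ⟨PicGrp.tensorModIso e (Iso.refl _) ≪≫ e'⟩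
  obtain ⟨e₀, h⟩ := H22Alg.IdealPowFam.exists_uniform_vanishing (L := T d) (CohB1.ProjSpace.toSpec n k)
    (hH := H11Ample.isAmple_twistProjSpace n k) I hinv hd
  refine ⟨(e₀ : ℤ) + n, fun p _ m hm i hi hin => ?_⟩
  obtain ⟨e, he⟩ : ∃ e : ℕ, (m - (i : ℤ)) = d * (p : ℤ) + (e : ℤ) := ⟨(m - i - d * p).toNat, by omega⟩
  obtain ⟨e₁⟩ := hpow p
  obtain ⟨e₂⟩ := H11Tilde.nonempty_twist_iso_tensorPow (CohB1.polyGrading n k) h1 e
  obtain ⟨e₃⟩ := H11Tilde.nonempty_twist_tensor_iso (CohB1.polyGrading n k) h1 (d * (p : ℤ)) (e : ℤ) (m - i) he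
  exact H10Coh.subsingleton_HH_of_iso (H10Coh.Tw.assoc _ _ _ ≪≫
    PicGrp.tensorModIso (Iso.refl _) (PicGrp.tensorModIso e₁ e₂.symm ≪≫ e₃)) i (h p e (by omega) i hi)

end Groth.Agent.S14172
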