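import Groth.Statements.S14175
import Mathlib

set_option autoImplicit false
universe u v w
open GalCoh

namespace Groth.Agent.S14175

/-- Let G be a finite cyclic group generated by t, let m be a natural number dividing the order of G,
and let ρ be a linear representation of G on a module V over a commutative ring k such that m·V = 0
and every element of G whose m-th power is the identity acts trivially on V. Then evaluating a
crossed homomorphism at t induces a bijection from the first cohomology of G with values in V
(crossed homomorphisms f, i.e. f(gh) = ρ(g)f(h) + f(g), modulo the principal ones g ↦ ρ(g)x − x)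
onto the coinvariants V_G (the quotient of V by the span of all ρ(g)v − v): the class of f(t) in V_G
vanishes exactly when f is principal, and every class of V_G is the class of f(t) for some crossed
homomorphism f. The bijection depends on the choice of the generator t. -/
theorem result
    {k : Type u} {G : Type v} {V : Type w} [CommRing k] [Group G] [Finite G]
    [AddCommGroup V] [Module k V] (ρ : Representation k G V)
    (t : G) (ht : ∀ g : G, g ∈ Subgroup.zpowers t)
    (m : ℕ) (hm : m ∣ Nat.card G) (htors : ∀ v : V, m • v = 0)
    (htriv : ∀ g : G, g ^ m = 1 → ∀ v : V, ρ g v = v) :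
    (∀ f : G → V, (∀ g h : G, f (g * h) = ρ g (f h) + f g) →
        (Representation.Coinvariants.mk ρ (f t) = 0 ↔ ∃ x : V, ∀ g : G, f g = ρ g x - x)) ∧
    (∀ v : V, ∃ f : G → V, (∀ g h : G, f (g * h) = ρ g (f h) + f g) ∧
        Representation.Coinvariants.mk ρ (f t) = Representation.Coinvariants.mk ρ v) := by
  classical
  have hn : 0 < orderOf t := orderOf_pos t
  have hcard : Nat.card G = orderOf t := (orderOf_eq_card_of_forall_mem_zpowers ht).symm
  have hpow : ∀ g : G, ∃ i : ℕ, t ^ i = g := fun g => by
    have := (mem_powers_iff_mem_zpowers (x := t) (y := g)).mpr (ht g)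
    exact (Submonoid.mem_powers_iff g t).mp this
  refine ⟨fun f hf => ⟨fun h0 => ?_, fun ⟨x, hx⟩ => ?_⟩, fun v => ?_⟩
  · have hker : f t ∈ LinearMap.range (ρ t - 1) := by
      refine Submodule.span_le.mpr ?_ (Representation.Coinvariants.mk_eq_zero (ρ := ρ) |>.mp h0)
      rintro _ ⟨⟨g, w⟩, rfl⟩
      show ρ g w - w ∈ _
      obtain ⟨i, rfl⟩ := hpow g
      induction i with
      | zero => simp
      | succ i ih =>
        have e : ρ (t ^ (i + 1)) w - w = (ρ t - 1) (ρ (t ^ i) w) + (ρ (t ^ i) w - w) := by
          rw [pow_succ', map_mul, Module.End.mul_apply, LinearMap.sub_apply, Module.End.one_apply]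
          abel
        rw [e]
        exact add_mem (LinearMap.mem_range_self _ _) ih
    obtain ⟨x, hx⟩ := hker
    rw [LinearMap.sub_apply, Module.End.one_apply] at hx
    refine ⟨x, fun g => ?_⟩
    obtain ⟨i, rfl⟩ := hpow g
    induction i with
    | zero =>
      have := hf 1 1
      simpa using this
    | succ i ih =>
      rw [pow_succ', hf, ih, map_mul, Module.End.mul_apply, ← hx, map_sub]
      abel
  · rw [hx t]
    exact (Representation.Coinvariants.mk_eq_zero (ρ := ρ)).mpr (Submodule.subset_span ⟨(t, x), rfl⟩)
  · let S : ℕ → V := fun i => ∑ j ∈ Finset.range i, ρ (t ^ j) v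
    have hSadd : ∀ i l, S (i + l) = ρ (t ^ i) (S l) + S i := by
      intro i l
      simp only [S, Finset.sum_range_add, map_sum, pow_add, map_mul, Module.End.mul_apply]
      exact add_comm _ _
    obtain ⟨d, hd⟩ := hm
    have hd' : orderOf t = m * d := hcard ▸ hd
    have hper : ρ (t ^ d) = 1 := LinearMap.ext fun w => htriv _ (by
      rw [← pow_mul, mul_comm d m, ← hd', pow_orderOf_eq_one]) w
    have hSd : ∀ l, S (l * d) = l • S d := by
      intro l
      induction l with
      | zero => simp [S]
      | succ l ih =>
        rw [add_mul, one_mul, hSadd, ih, mul_comm l d, pow_mul, map_pow, hper, one_pow,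
          Module.End.one_apply, succ_nsmul']
    have hSn : S (orderOf t) = 0 := by rw [hd', hSd, htors]
    have hmod : ∀ i, S i = S (i % orderOf t) := by
      intro i
      induction i using Nat.strong_induction_on with
      | _ i ih =>
        rcases Nat.lt_or_ge i (orderOf t) with h | h
        · rw [Nat.mod_eq_of_lt h]
        · obtain ⟨l, rfl⟩ := Nat.exists_eq_add_of_le h
          rw [hSadd, pow_orderOf_eq_one, map_one, Module.End.one_apply, hSn, add_zero, ih l (by omega),
            Nat.add_mod_left]
    choose k hk using hpow
    have hwd : ∀ i l, t ^ i = t ^ l → S i = S l := fun i l h => by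
      rw [hmod i, hmod l]
      exact congrArg S (pow_eq_pow_iff_modEq.mp h)
    refine ⟨fun g => S (k g), fun g h => ?_, ?_⟩
    · show S (k (g * h)) = ρ g (S (k h)) + S (k g)
      rw [hwd (k (g * h)) (k g + k h) (by rw [pow_add, hk, hk, hk]), hSadd, hk]
    · show Representation.Coinvariants.mk ρ (S (k t)) = _
      rw [hwd (k t) 1 (by rw [hk, pow_one])]
      simp [S]

end Groth.Agent.S14175
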