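import Groth.Statements.S14176
import Mathlib

set_option autoImplicit false
universe u
open Pi1
open scoped commutatorElement

namespace Groth.Agent.S14176

open W4c1etcurveeff2 in
/-- Let G be a topological group in which some finite subset generates a dense subgroup, let n ≥ 1, and
let S be the closure of the subgroup generated by all n-th powers and all commutators. Write D for
the group of continuous homomorphisms from G to the discrete cyclic group ℤ/n, that is,
homomorphisms with open kernel (the first cohomology of G with coefficients in the trivial module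
ℤ/n), and D^∨ for its ℤ/n-dual, the group of homomorphisms D → ℤ/n. Then: S is carried onto itself
by every group automorphism of G that is a homeomorphism; an element g of G lies in S exactly when
every element of D kills g, and every element of D^∨ is evaluation at some element of G, so that
evaluation identifies G/S with D^∨; and S is the only closed normal subgroup H of G with G/H
isomorphic to D^∨. (The published statement is for a topologically finitely generated group, calls S
characteristic and does not restrict the competing subgroups H; this row asks the automorphisms to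
be homeomorphisms and H to be closed, which is what the argument uses: for the integers with the
p-adic topology times a cyclic group of prime order q ≠ p, the subgroup qℤ × ℤ/q is normal, not
closed, and has quotient isomorphic to D^∨ ≅ ℤ/q, while S = ℤ × 0.) -/
theorem result
    {G : Type u} [Group G] [TopologicalSpace G] [IsTopologicalGroup G]
    (s : Finset G) (hs : Dense ((Subgroup.closure (s : Set G) : Subgroup G) : Set G))
    (n : ℕ) [NeZero n] (S : Subgroup G) (hS : S = powCommClosure G n) :
    (∀ φ : G ≃* G, Continuous φ → Continuous φ.symm → S.map φ.toMonoidHom = S) ∧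
    (∀ g : G, g ∈ S ↔
        ∀ χ : G →* Multiplicative (ZMod n), IsOpen ((χ.ker : Subgroup G) : Set G) → χ g = 1) ∧
    (∀ F : ContChar G n →* Multiplicative (ZMod n), ∃ g : G,
        ∀ χ : ContChar G n, F χ = (χ.1 : G →* Multiplicative (ZMod n)) g) ∧
    (∀ (H : Subgroup G) [H.Normal], IsClosed (H : Set G) →
        Nonempty (G ⧸ H ≃* (ContChar G n →* Multiplicative (ZMod n))) → H = S) := by
  subst hS
  refine ⟨fun φ hφ hφ' => ?_, ?_⟩
  · -- functoriality of the closure of powers and commutators
    have h0 : (Subgroup.closure (Set.range fun g : G => g ^ n) ⊔ commutator G).map φ.toMonoidHom =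
        Subgroup.closure (Set.range fun g : G => g ^ n) ⊔ commutator G := by
      rw [Subgroup.map_sup, MonoidHom.map_closure, commutator_def, Subgroup.map_commutator,
        Subgroup.map_top_of_surjective _ φ.surjective]
      congr 2
      ext x
      constructor
      · rintro ⟨_, ⟨g, rfl⟩, rfl⟩
        exact ⟨φ g, (map_pow φ g n).symm⟩
      · rintro ⟨g, rfl⟩
        exact ⟨_, ⟨φ.symm g, rfl⟩, by simp⟩
    let h : G ≃ₜ G := { φ.toEquiv with continuous_toFun := hφ, continuous_invFun := hφ' }
    apply SetLike.coe_injective
    rw [Subgroup.coe_map, powCommClosure, Subgroup.topologicalClosure_coe]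
    show h '' closure _ = _
    rw [h.image_closure]
    congr 1
    show φ.toMonoidHom '' _ = _
    rw [← Subgroup.coe_map, h0]
  set S := powCommClosure G n with hSdef
  have hcomm : commutator G ≤ S :=
    le_sup_right.trans (Subgroup.le_topologicalClosure _)
  have hpow : ∀ g : G, g ^ n ∈ S := fun g =>
    Subgroup.le_topologicalClosure _ (Subgroup.mem_sup_left (Subgroup.subset_closure ⟨g, rfl⟩))
  haveI hN : S.Normal := ⟨fun a ha g => by
    have h : ⁅g, a⁆ ∈ S := hcomm (Subgroup.commutator_mem_commutator (Subgroup.mem_top _) (Subgroup.mem_top _))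
    have h2 : g * a * g⁻¹ = ⁅g, a⁆ * a := by rw [commutatorElement_def]; group
    rw [h2]
    exact S.mul_mem h ha⟩
  letI : CommGroup (G ⧸ S) :=
    { (inferInstance : Group (G ⧸ S)) with
      mul_comm := fun a b => by
        obtain ⟨a, rfl⟩ := QuotientGroup.mk_surjective a
        obtain ⟨b, rfl⟩ := QuotientGroup.mk_surjective b
        rw [← QuotientGroup.mk_mul, ← QuotientGroup.mk_mul, QuotientGroup.eq]
        have h2 : (a * b)⁻¹ * (b * a) = ⁅b⁻¹, a⁻¹⁆ := by rw [commutatorElement_def]; group
        rw [h2]
        exact hcomm (Subgroup.commutator_mem_commutator (Subgroup.mem_top _) (Subgroup.mem_top _)) }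
  have hpq : ∀ q : G ⧸ S, q ^ n = 1 := fun q => by
    obtain ⟨g, rfl⟩ := QuotientGroup.mk_surjective q
    rw [← QuotientGroup.mk_pow, QuotientGroup.eq_one_iff]
    exact hpow g
  have hclosed : IsClosed (S : Set G) := Subgroup.isClosed_topologicalClosure _
  haveI : IsClosed (S : Set G) := hclosed
  haveI hfinQ : Finite (G ⧸ S) := by
    let K : Subgroup (G ⧸ S) := Subgroup.closure ((QuotientGroup.mk' S) '' (s : Set G))
    haveI : Group.FG K := (Group.fg_iff_subgroup_fg K).mpr
      ((Subgroup.fg_iff K).mpr ⟨_, rfl, s.finite_toSet.image _⟩)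
    haveI hK : Finite K := CommGroup.finite_of_fg_torsion K fun x => isOfFinOrder_iff_pow_eq_one.mpr
      ⟨n, NeZero.pos n, Subtype.ext (hpq x.1)⟩
    have hKc : IsClosed (K : Set (G ⧸ S)) := (Set.toFinite (K : Set (G ⧸ S))).isClosed
    have hKd : Dense (K : Set (G ⧸ S)) := by
      have := (QuotientGroup.mk_surjective (s := S)).denseRange.dense_image QuotientGroup.continuous_mk hs
      refine this.mono ?_
      rintro _ ⟨g, hg, rfl⟩
      exact (MonoidHom.map_closure (QuotientGroup.mk' S) (s : Set G)).le ⟨g, hg, rfl⟩
    have hKu : (K : Set (G ⧸ S)) = Set.univ := hKc.closure_eq.symm.trans hKd.closure_eq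
    exact Set.finite_univ_iff.mp (hKu ▸ Set.toFinite (K : Set (G ⧸ S)))
  haveI : S.FiniteIndex := S.finiteIndex_of_finite_quotient
  have hopen : IsOpen (S : Set G) := Subgroup.isOpen_of_isClosed_of_finiteIndex S hclosed
  haveI hroots : HasEnoughRootsOfUnity (Multiplicative (ZMod n)) n :=
    { prim := ⟨Multiplicative.ofAdd 1, by
        refine (IsPrimitiveRoot.iff_orderOf).mpr ?_
        rw [orderOf_ofAdd_eq_addOrderOf, ZMod.addOrderOf_one]⟩
      cyc := by
        haveI : IsCyclic (Multiplicative (ZMod n))ˣ :=
          isCyclic_of_surjective (toUnits (G := Multiplicative (ZMod n))).toMonoidHom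
            (toUnits (G := Multiplicative (ZMod n))).surjective
        infer_instance }
  haveI hexp : HasEnoughRootsOfUnity (Multiplicative (ZMod n)) (Monoid.exponent (G ⧸ S)) :=
    HasEnoughRootsOfUnity.of_dvd _ (Monoid.exponent_dvd_of_forall_pow_eq_one hpq)
  let U : Multiplicative (ZMod n) ≃* (Multiplicative (ZMod n))ˣ := toUnits
  have hker : ∀ χ : ContChar G n, S ≤ (χ.1).ker := fun χ => by
    refine Subgroup.topologicalClosure_minimal _ (sup_le ?_ ?_) (Subgroup.isClosed_of_isOpen _ χ.2)
    · rw [Subgroup.closure_le]
      rintro _ ⟨g, rfl⟩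
      show χ.1 (g ^ n) = 1
      rw [map_pow, ← toAdd_eq_zero, toAdd_pow, ← Nat.cast_smul_eq_nsmul (ZMod n), ZMod.natCast_self, zero_smul]
    · exact Abelianization.commutator_subset_ker χ.1
  let toQ : (G ⧸ S →* (Multiplicative (ZMod n))ˣ) →* ContChar G n :=
    { toFun := fun ψ => ⟨(U.symm.toMonoidHom.comp ψ).comp (QuotientGroup.mk' S),
        Subgroup.isOpen_mono (fun g hg => by
          show U.symm (ψ (g : G ⧸ S)) = 1
          rw [(QuotientGroup.eq_one_iff g).mpr hg, map_one, map_one]) hopen⟩
      map_one' := Subtype.ext (MonoidHom.ext fun g => map_one U.symm)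
      map_mul' := fun a b => Subtype.ext (MonoidHom.ext fun g => map_mul U.symm _ _) }
  have htoQ : Function.Bijective toQ := by
    refine ⟨fun a b h => ?_, fun χ => ?_⟩
    · refine MonoidHom.ext fun q => ?_
      obtain ⟨g, rfl⟩ := QuotientGroup.mk_surjective q
      exact U.symm.injective (DFunLike.congr_fun (congrArg Subtype.val h) g)
    · exact ⟨U.toMonoidHom.comp (QuotientGroup.lift S χ.1 (hker χ)),
        Subtype.ext (MonoidHom.ext fun g => U.symm_apply_apply _)⟩
  let E := MulEquiv.ofBijective toQ htoQ
  have h3 : ∀ F : ContChar G n →* Multiplicative (ZMod n), ∃ g : G,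
      ∀ χ : ContChar G n, F χ = (χ.1 : G →* Multiplicative (ZMod n)) g := by
    intro F
    obtain ⟨g, hg⟩ := QuotientGroup.mk_surjective (CommGroup.monoidHomMonoidHomEquiv (G ⧸ S)
      (Multiplicative (ZMod n)) ((U.toMonoidHom.comp F).comp E.toMonoidHom))
    refine ⟨g, fun χ => ?_⟩
    obtain ⟨ψ, rfl⟩ := E.surjective χ
    have h := CommGroup.apply_monoidHomMonoidHomEquiv (Multiplicative (ZMod n)) ψ
      ((U.toMonoidHom.comp F).comp E.toMonoidHom)
    rw [← hg] at h
    show F (E ψ) = U.symm (ψ (g : G ⧸ S))
    rw [h]
    exact (U.symm_apply_apply _).symm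
  refine ⟨fun g => ⟨fun hg χ hχ => hker ⟨χ, hχ⟩ hg, fun h => ?_⟩, h3, fun H _ hH ⟨e⟩ => ?_⟩
  · by_contra hg
    obtain ⟨ψ, hψ⟩ := CommGroup.exists_apply_ne_one_of_hasEnoughRootsOfUnity (G ⧸ S)
      (Multiplicative (ZMod n)) (a := (g : G ⧸ S)) (fun h1 => hg ((QuotientGroup.eq_one_iff g).mp h1))
    exact hψ (U.symm.injective ((h (toQ ψ).1 (toQ ψ).2).trans (map_one U.symm).symm))
  · let D : (ContChar G n →* Multiplicative (ZMod n)) ≃* G ⧸ S :=
      (E.symm.monoidHomCongrLeft.trans U.monoidHomCongrRight).trans
        (CommGroup.monoidHomMonoidHomEquiv (G ⧸ S) (Multiplicative (ZMod n)))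
    let f := e.trans D
    have hle : S ≤ H := by
      refine Subgroup.topologicalClosure_minimal _ (sup_le ?_ ?_) hH
      · rw [Subgroup.closure_le]
        rintro _ ⟨g, rfl⟩
        rw [SetLike.mem_coe, ← QuotientGroup.eq_one_iff]
        apply f.injective
        rw [QuotientGroup.mk_pow, map_pow, hpq, map_one]
      · rw [commutator_def, Subgroup.commutator_le]
        intro a _ b _
        rw [← QuotientGroup.eq_one_iff]
        apply f.injective
        show f ((QuotientGroup.mk' H) ⁅a, b⁆) = f 1
        rw [map_one, map_commutatorElement, map_commutatorElement, commutatorElement_eq_one_iff_mul_comm]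
        exact mul_comm _ _
    have hidx : H.index = S.index := Nat.card_congr f.toEquiv
    refine (le_antisymm hle ?_).symm
    rw [← Subgroup.relIndex_eq_one]
    have h := Subgroup.relIndex_mul_index hle
    rw [hidx] at h
    exact (Nat.mul_eq_right Subgroup.FiniteIndex.index_ne_zero).mp h

end Groth.Agent.S14176
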