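import Groth.Statements.S14177
import Mathlib
-- import your own Groth.Agent.* helpers here

set_option autoImplicit false
universe u v w
open scoped nonZeroDivisors
open EtAlg

namespace Groth.Agent.S14177

/-- Let A be a Dedekind domain with fraction field K, let n be a natural number invertible in A, let f
be a nonzero element of K whose principal fractional ideal is the n-th power of a fractional ideal I
(the divisor of f is n times a divisor), and let L = K(α) be a field extension of K generated by a
single element α with α^n = f. Then the integral closure of A in L is finite and étale over A. (The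
published statement is for the normalisation of an integral smooth curve over a perfect field in
such an extension of its function field; this row states the same for any Dedekind domain, the case
the local argument covers.) -/
theorem result
    {A : Type u} {K : Type v} {L : Type w} [CommRing A] [IsDedekindDomain A]
    [Field K] [Algebra A K] [IsFractionRing A K]
    [Field L] [Algebra K L] [Algebra A L] [IsScalarTower A K L]
    (n : ℕ) (hn : IsUnit (n : A)) (f : K) (hf : f ≠ 0)
    (I : FractionalIdeal A⁰ K) (hI : FractionalIdeal.spanSingleton A⁰ f = I ^ n)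
    (α : L) (hα : α ^ n = algebraMap K L f) (hgen : IntermediateField.adjoin K {α} = ⊤) :
    Algebra.Etale A (integralClosure A L) ∧ Module.Finite A (integralClosure A L) := by
  classical
  have hn0 : n ≠ 0 := fun h => by simp [h] at hn
  have hinjK := (algebraMap K L).injective
  have hnK : (n : K) ≠ 0 := by
    rw [← map_natCast (algebraMap A K)]
    exact (hn.map (algebraMap A K)).ne_zero
  have hsepα : IsSeparable K α :=
    (Polynomial.separable_X_pow_sub_C f hnK hf).of_dvd (minpoly.dvd K α (by simp [hα]))
  have hfd : FiniteDimensional K L := by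
    have := IntermediateField.adjoin.finiteDimensional hsepα.isIntegral
    rw [hgen] at this
    exact LinearEquiv.finiteDimensional IntermediateField.topEquiv.toLinearEquiv
  have : Algebra.IsSeparable K L := by
    have h := (IntermediateField.isSeparable_adjoin_simple_iff_isSeparable (F := K) (E := L)).mpr hsepα
    rw [hgen] at h
    exact Algebra.IsSeparable.of_algHom _ _ (IntermediateField.topEquiv (F := K) (E := L)).symm.toAlgHom
  set B := integralClosure A L
  have hfin : Module.Finite A B := IsIntegralClosure.finite A K L B
  refine ⟨?_, hfin⟩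
  have : FaithfulSMul A L := (faithfulSMul_iff_algebraMap_injective A L).mpr (by
    rw [IsScalarTower.algebraMap_eq A K L]
    exact hinjK.comp (IsFractionRing.injective A K))
  have : Module.Flat A B := inferInstance
  have : Algebra.FinitePresentation A B := Algebra.FinitePresentation.of_finiteType.mp inferInstance
  suffices hu : Algebra.FormallyUnramified A B from Algebra.Etale.of_formallyUnramified_of_flat
  rw [← Algebra.unramifiedLocus_eq_univ_iff]
  refine Set.eq_univ_iff_forall.mpr fun q => ?_
  change Algebra.FormallyUnramified A (Localization.AtPrime q.asIdeal)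
  rw [Algebra.formallyUnramified_iff]
  refine (IsLocalizedModule.iso q.asIdeal.primeCompl
    (KaehlerDifferential.map A A B (Localization.AtPrime q.asIdeal))).subsingleton_congr.mp ?_
  rw [LocalizedModule.subsingleton_iff]
  -- the prime below
  let p := q.asIdeal.comap (algebraMap A B)
  -- write `f = a ^ n * (u / w)`
  obtain ⟨c, J, hc, hIJ⟩ := FractionalIdeal.exists_eq_spanSingleton_mul I
  set c' := algebraMap A K c with hc'
  have hc0 : c' ≠ 0 := (map_ne_zero_iff _ (IsFractionRing.injective A K)).mpr hc
  have hJ : ((J ^ n : Ideal A) : FractionalIdeal A⁰ K) =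
      FractionalIdeal.spanSingleton A⁰ (f * c' ^ n) := by
    rw [FractionalIdeal.coeIdeal_pow, ← FractionalIdeal.spanSingleton_mul_spanSingleton, hI, hIJ,
      mul_pow, FractionalIdeal.spanSingleton_pow, mul_right_comm,
      FractionalIdeal.spanSingleton_mul_spanSingleton, inv_pow, inv_mul_cancel₀ (pow_ne_zero _ hc0),
      FractionalIdeal.spanSingleton_one, one_mul]
  obtain ⟨r, hr⟩ : ∃ r : A, algebraMap A K r = f * c' ^ n := by
    have h1 : f * c' ^ n ∈ ((J ^ n : Ideal A) : FractionalIdeal A⁰ K) := by
      rw [hJ]; exact FractionalIdeal.mem_spanSingleton_self _ _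
    obtain ⟨r, -, hr⟩ := (FractionalIdeal.mem_coeIdeal _).mp h1
    exact ⟨r, hr⟩
  have hJr : J ^ n = Ideal.span {r} := FractionalIdeal.coeIdeal_injective (K := K) (by
    show ((J ^ n : Ideal A) : FractionalIdeal A⁰ K) = ((Ideal.span {r} : Ideal A) : FractionalIdeal A⁰ K)
    rw [hJ, FractionalIdeal.coeIdeal_span_singleton, hr])
  have hr0 : r ≠ 0 := fun h => mul_ne_zero hf (pow_ne_zero n hc0) (by rw [← hr, h, map_zero])
  obtain ⟨j, hj, u, w, hu, hw, hjr⟩ : ∃ j : A, j ≠ 0 ∧ ∃ u w : A, u ∉ p ∧ w ∉ p ∧ r * w = u * j ^ n := by
    have : IsPrincipalIdealRing (Localization.AtPrime p) := inferInstance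
    obtain ⟨j₀, hj₀⟩ := (IsPrincipalIdealRing.principal (J.map (algebraMap A (Localization.AtPrime p)))).principal
    obtain ⟨⟨j, s⟩, hjs⟩ := IsLocalization.surj p.primeCompl j₀
    have hj' : J.map (algebraMap A (Localization.AtPrime p)) =
        Ideal.span {algebraMap A (Localization.AtPrime p) j} := by
      rw [hj₀, Ideal.submodule_span_eq, ← hjs,
        Ideal.span_singleton_mul_right_unit (IsLocalization.map_units _ s)]
    have h1 : Ideal.span {algebraMap A (Localization.AtPrime p) r} =
        Ideal.span {algebraMap A (Localization.AtPrime p) j ^ n} := by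
      rw [← Ideal.span_singleton_pow, ← hj', ← Ideal.map_pow, hJr, Ideal.map_span, Set.image_singleton]
    obtain ⟨e, he⟩ := Ideal.span_singleton_eq_span_singleton.mp h1
    obtain ⟨⟨u, w⟩, huw⟩ := IsLocalization.surj p.primeCompl (e⁻¹ : (Localization.AtPrime p)ˣ).1
    have hinj := IsLocalization.injective (Localization.AtPrime p) p.primeCompl_le_nonZeroDivisors
    have hu : u ∉ p := fun h => by
      have h2 : IsUnit (algebraMap A (Localization.AtPrime p) u) :=
        huw ▸ (e⁻¹).isUnit.mul (IsLocalization.map_units _ w)
      exact (IsLocalization.AtPrime.isUnit_to_map_iff (Localization.AtPrime p) p u).mp h2 h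
    have heq : r * (w : A) = u * j ^ n := hinj (by
      have h5 : algebraMap A (Localization.AtPrime p) r =
          algebraMap A (Localization.AtPrime p) j ^ n * ((e⁻¹ : (Localization.AtPrime p)ˣ) : Localization.AtPrime p) := by
        rw [← he, Units.mul_inv_cancel_right]
      rw [map_mul, map_mul, map_pow, h5, mul_assoc, huw]
      ring)
    refine ⟨j, fun h => ?_, u, w, hu, w.2, heq⟩
    rw [h, zero_pow hn0, mul_zero] at heq
    exact (mul_eq_zero.mp heq).elim hr0 fun hw0 => w.2 (hw0 ▸ p.zero_mem)
  set j' := algebraMap A K j with hj'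
  have hj0 : j' ≠ 0 := (map_ne_zero_iff _ (IsFractionRing.injective A K)).mpr hj
  have hw0 : algebraMap A K w ≠ 0 :=
    (map_ne_zero_iff _ (IsFractionRing.injective A K)).mpr fun h => hw (h ▸ p.zero_mem)
  -- the normalised root
  set v : A := u * w ^ (n - 1) with hv
  set β : L := algebraMap K L (algebraMap A K w * c' / j') * α with hβ
  have hβn : β ^ n = algebraMap A L v := by
    rw [IsScalarTower.algebraMap_apply A K L v, hβ, mul_pow, hα, ← map_pow, ← map_mul]
    congr 1
    have h3 := congrArg (algebraMap A K) hjr
    rw [map_mul, map_mul, map_pow, hr, ← hj'] at h3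
    rw [hv, div_pow, mul_pow, map_mul, map_pow,
      show algebraMap A K w ^ n = algebraMap A K w ^ (n - 1) * algebraMap A K w by
        rw [← pow_succ]; congr 1; omega,
      div_mul_eq_mul_div, div_eq_iff (pow_ne_zero _ hj0)]
    linear_combination algebraMap A K w ^ (n - 1) * h3
  have hβint : IsIntegral A β :=
    ⟨Polynomial.X ^ n - Polynomial.C v, Polynomial.monic_X_pow_sub_C _ hn0, by
      rw [Polynomial.eval₂_sub, Polynomial.eval₂_X_pow, Polynomial.eval₂_C, hβn, sub_self]⟩
  have hfac : algebraMap K L (algebraMap A K w * c' / j') ≠ 0 :=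
    (map_ne_zero_iff _ hinjK).mpr (div_ne_zero (mul_ne_zero hw0 hc0) hj0)
  have hβgen : Algebra.adjoin K {β} = ⊤ := by
    have h : Algebra.adjoin K {α} = ⊤ := by
      rw [← IntermediateField.adjoin_simple_toSubalgebra_of_isAlgebraic (IsAlgebraic.of_finite K α),
        hgen, IntermediateField.top_toSubalgebra]
    rw [eq_top_iff, ← h, Algebra.adjoin_le_iff, Set.singleton_subset_iff]
    have : α = algebraMap K L (algebraMap A K w * c' / j')⁻¹ * β := by
      rw [hβ, ← mul_assoc, ← map_mul,
        inv_mul_cancel₀ (div_ne_zero (mul_ne_zero hw0 hc0) hj0), map_one, one_mul]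
    rw [this]
    exact Subalgebra.mul_mem _ (Subalgebra.algebraMap_mem _ _) (Algebra.subset_adjoin rfl)
  let β' : B := ⟨β, hβint⟩
  have hβ'n : β' ^ n = algebraMap A B v := Subtype.ext hβn
  have hvp : algebraMap A B v ∉ q.asIdeal := by
    intro h
    have h' : v ∈ p := h
    rw [hv] at h'
    exact ((inferInstance : p.IsPrime).mem_or_mem h').elim hu
      fun h => hw ((inferInstance : p.IsPrime).mem_of_pow_mem _ h)
  have hnB : IsUnit (n : B) := by
    rw [← map_natCast (algebraMap A B)]; exact hn.map _
  have hβp : β' ^ (n - 1) ∉ q.asIdeal := fun h => hvp (by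
    rw [← hβ'n, show n = n - 1 + 1 by omega, pow_succ]
    exact Ideal.mul_mem_right _ _ h)
  -- `dβ` vanishes near `q`
  have hdβ : β' ^ (n - 1) • KaehlerDifferential.D A B β' = 0 := by
    have h := congrArg (KaehlerDifferential.D A B) hβ'n
    rw [Derivation.leibniz_pow, Derivation.map_algebraMap, ← Nat.cast_smul_eq_nsmul B] at h
    exact (hnB.smul_eq_zero).mp h
  have hadj : ∀ y : B, y ∈ Algebra.adjoin A {β'} → β' ^ (n - 1) • KaehlerDifferential.D A B y = 0 := by
    intro y hy
    induction hy using Algebra.adjoin_induction with
    | mem y hy => rw [Set.mem_singleton_iff.mp hy, hdβ]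
    | algebraMap a => rw [Derivation.map_algebraMap, smul_zero]
    | add a b _ _ ha hb => rw [map_add, smul_add, ha, hb, add_zero]
    | mul a b _ _ ha hb =>
      rw [Derivation.leibniz, smul_add, smul_comm, hb, smul_zero, smul_comm, ha, smul_zero, add_zero]
  let g := minpoly A β
  let gd : B := Polynomial.aeval β' (Polynomial.derivative g)
  have hgd : gd ∉ q.asIdeal := by
    obtain ⟨h, hh⟩ : g ∣ Polynomial.X ^ n - Polynomial.C v :=
      minpoly.isIntegrallyClosed_dvd hβint (by simp [hβn])
    intro hmem
    have h1 := congrArg (fun P : Polynomial A => Polynomial.aeval β' (Polynomial.derivative P)) hh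
    have hg0 : Polynomial.aeval β' g = 0 := Subtype.ext (by
      rw [← Subalgebra.coe_val, ← Polynomial.aeval_algHom_apply]; exact minpoly.aeval A β)
    simp only [Polynomial.derivative_sub, Polynomial.derivative_X_pow, Polynomial.derivative_C,
      sub_zero, Polynomial.derivative_mul, map_mul, map_add, map_pow, Polynomial.aeval_X,
      Polynomial.aeval_C, map_natCast, hg0, zero_mul, add_zero] at h1
    refine hβp ?_
    have h4 : (n : B) * β' ^ (n - 1) ∈ q.asIdeal := by
      rw [h1]; exact Ideal.mul_mem_right _ _ hmem
    exact (Ideal.unit_mul_mem_iff_mem _ hnB).mp h4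
  intro ω
  have hω : ω ∈ Submodule.span B (Set.range (KaehlerDifferential.D A B)) := by
    rw [KaehlerDifferential.span_range_derivation]; trivial
  refine ⟨β' ^ (n - 1) * gd, fun h => (q.isPrime.mem_or_mem h).elim hβp hgd, ?_⟩
  induction hω using Submodule.span_induction with
  | mem ω h =>
    obtain ⟨x, rfl⟩ := h
    have hx : (gd : L) * (x : L) ∈ Algebra.adjoin A ({β} : Set L) := by
      have hmem : (x : L) ∈ (Algebra.traceForm K L).dualSubmodule
          (Subalgebra.toSubmodule (Algebra.adjoin A {β})) := by
        intro y hy
        have hyint : IsIntegral A y :=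
          (adjoin_le_integralClosure hβint) hy
        rw [Algebra.traceForm_apply, Submodule.mem_one]
        exact IsIntegrallyClosed.algebraMap_eq_of_integral
          (Algebra.isIntegral_trace (x.2.mul hyint))
      rw [traceForm_dualSubmodule_adjoin A K hβgen hβint] at hmem
      have hd : (gd : L) = Polynomial.aeval β (Polynomial.derivative (minpoly K β)) := by
        rw [minpoly.isIntegrallyClosed_eq_field_fractions' K hβint, Polynomial.derivative_map,
          Polynomial.aeval_map_algebraMap, ← Subalgebra.coe_val, ← Polynomial.aeval_algHom_apply]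
        rfl
      have hne : (gd : L) ≠ 0 := fun h => hgd (by
        rw [show gd = 0 from Subtype.ext h]; exact q.asIdeal.zero_mem)
      rw [← hd] at hmem
      obtain ⟨z, hz, hzx⟩ := hmem
      rw [← hzx]
      simpa [mul_inv_cancel_left₀ hne] using hz
    have hx' : gd * x ∈ Algebra.adjoin A ({β'} : Set B) := by
      have h2 : Subalgebra.map B.val (Algebra.adjoin A ({β'} : Set B)) = Algebra.adjoin A {β} := by
        rw [AlgHom.map_adjoin, Set.image_singleton]; rfl
      rw [← h2] at hx
      obtain ⟨z, hz, hzx⟩ := hx
      rwa [show gd * x = z from Subtype.ext hzx.symm]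
    have h5 := hadj _ hx'
    have h6 : β' ^ (n - 1) • KaehlerDifferential.D A B gd = 0 := by
      refine hadj _ ?_
      rw [Algebra.adjoin_singleton_eq_range_aeval]
      exact ⟨_, rfl⟩
    rw [Derivation.leibniz, smul_add, smul_comm (β' ^ (n - 1)) x, h6, smul_zero, add_zero,
      ← mul_smul] at h5
    exact h5
  | zero => simp
  | add a b _ _ ha hb => rw [smul_add, ha, hb, add_zero]
  | smul r a _ ha => rw [smul_comm, ha, smul_zero]

end Groth.Agent.S14177
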