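import Groth.Statements.S14178
import Mathlib
-- import your own Groth.Agent.* helpers here

set_option autoImplicit false
universe u v w
open scoped nonZeroDivisors
open EtAlg

namespace Groth.Agent.S14178

/-- Let A be a Dedekind domain with fraction field K, let n be a natural number invertible in A such
that K contains a primitive n-th root of unity, let f be a nonzero element of K and I an invertible
fractional ideal of A with (f) = I^n whose class in the ideal class group of A has order exactly n
(the divisor of f is n times a divisor whose class has order n), and let L = K(α) be a field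
extension of K generated by a single element α with α^n = f. Then L is Galois over K of degree n
with cyclic Galois group. (The published statement is for an integral smooth curve over a perfect
field containing a primitive n-th root of unity, with the Picard group of the curve in place of the
class group; this row states it for any Dedekind domain.) -/
theorem result
    {A : Type u} {K : Type v} {L : Type w} [CommRing A] [IsDedekindDomain A]
    [Field K] [Algebra A K] [IsFractionRing A K]
    [Field L] [Algebra K L]
    (n : ℕ) (hn : IsUnit (n : A)) (ζ : K) (hζ : IsPrimitiveRoot ζ n) (f : K) (hf : f ≠ 0)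
    (I : (FractionalIdeal A⁰ K)ˣ) (hI : FractionalIdeal.spanSingleton A⁰ f = (I : FractionalIdeal A⁰ K) ^ n)
    (hord : orderOf (ClassGroup.mk K I) = n)
    (α : L) (hα : α ^ n = algebraMap K L f) (hgen : IntermediateField.adjoin K {α} = ⊤) :
    IsGalois K L ∧ IsCyclic (L ≃ₐ[K] L) ∧ Module.finrank K L = n := by
  have hn0 : n ≠ 0 := fun h => by simp [h] at hn
  have : NeZero n := ⟨hn0⟩
  have hinjK := (algebraMap K L).injective
  have hζL : IsPrimitiveRoot (algebraMap K L ζ) n := hζ.map_of_injective hinjK
  have hα0 : α ≠ 0 := by
    rintro rfl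
    rw [zero_pow hn0] at hα
    exact hf (hinjK (by rw [← hα, map_zero]))
  have hsep : (Polynomial.X ^ n - Polynomial.C f : Polynomial K).Separable := by
    have : ((n : K)) ≠ 0 := by
      rw [← map_natCast (algebraMap A K)]
      exact (hn.map (algebraMap A K)).ne_zero
    exact Polynomial.separable_X_pow_sub_C f this hf
  have hint : IsIntegral K α :=
    ⟨Polynomial.X ^ n - Polynomial.C f, Polynomial.monic_X_pow_sub_C _ hn0, by simp [hα]⟩
  have hfd : FiniteDimensional K L := by
    have := IntermediateField.adjoin.finiteDimensional hint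
    rw [hgen] at this
    exact LinearEquiv.finiteDimensional IntermediateField.topEquiv.toLinearEquiv
  have hsplit : Polynomial.IsSplittingField K L (Polynomial.X ^ n - Polynomial.C f) := by
    constructor
    · rw [Polynomial.map_sub, Polynomial.map_pow, Polynomial.map_C, Polynomial.map_X]
      exact X_pow_sub_C_splits_of_isPrimitiveRoot hζL hα
    · rw [eq_top_iff, ← IntermediateField.top_toSubalgebra, ← hgen,
        IntermediateField.adjoin_simple_toSubalgebra_of_isAlgebraic (IsAlgebraic.of_finite K α)]
      apply Algebra.adjoin_mono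
      rw [Set.singleton_subset_iff,
        Polynomial.mem_rootSet_of_ne (Polynomial.X_pow_sub_C_ne_zero (Nat.pos_of_ne_zero hn0) f)]
      simp [hα]
  have hgal : IsGalois K L := IsGalois.of_separable_splitting_field hsep
  set d := Module.finrank K L with hd
  -- `α ^ d` lies in `K`
  have hroot : ∀ σ : L ≃ₐ[K] L, ∃ c : K, σ α = algebraMap K L c * α := fun σ => by
    have h1 : (σ α / α) ^ n = 1 := by
      rw [div_pow, ← map_pow, hα, σ.commutes, div_self]
      exact fun h => hf (hinjK (by rw [h, map_zero]))
    obtain ⟨i, -, hi⟩ := hζL.eq_pow_of_pow_eq_one h1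
    exact ⟨ζ ^ i, by rw [map_pow, hi, div_mul_cancel₀ _ hα0]⟩
  choose c hc using hroot
  obtain ⟨g, hg⟩ : ∃ g : K, α ^ d = algebraMap K L g := by
    refine ⟨Algebra.norm K α / ∏ σ, c σ, ?_⟩
    have h1 : algebraMap K L (Algebra.norm K α) =
        (∏ σ : L ≃ₐ[K] L, algebraMap K L (c σ)) * α ^ d := by
      rw [Algebra.norm_eq_prod_automorphisms]
      simp only [hc, Finset.prod_mul_distrib, Finset.prod_const, Finset.card_univ]
      rw [← Nat.card_eq_fintype_card, IsGalois.card_aut_eq_finrank]
    rw [map_div₀, h1, map_prod, mul_div_cancel_left₀]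
    rw [Finset.prod_ne_zero_iff]
    intro σ _ h
    have := hc σ
    rw [h, zero_mul, map_eq_zero] at this
    exact hα0 this
  have hgn : g ^ n = f ^ d := hinjK (by
    rw [map_pow, map_pow, ← hg, ← hα, ← pow_mul, ← pow_mul, mul_comm])
  have hg0 : g ≠ 0 := fun h => pow_ne_zero d hf (by rw [← hgn, h, zero_pow hn0])
  have hId : FractionalIdeal.spanSingleton A⁰ g = (I : FractionalIdeal A⁰ K) ^ d := by
    have h1 : FractionalIdeal.spanSingleton A⁰ g ^ n = ((I : FractionalIdeal A⁰ K) ^ d) ^ n := by
      rw [← pow_mul, mul_comm, pow_mul, ← hI, FractionalIdeal.spanSingleton_pow,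
        FractionalIdeal.spanSingleton_pow, hgn]
    rw [← FractionalIdeal.finprod_heightOneSpectrum_factorization' K
        (FractionalIdeal.spanSingleton_ne_zero_iff.mpr hg0),
      ← FractionalIdeal.finprod_heightOneSpectrum_factorization' K (I := (I : FractionalIdeal A⁰ K) ^ d)
        (pow_ne_zero _ I.ne_zero)]
    refine finprod_congr fun v => ?_
    have h2 := congrArg (FractionalIdeal.count K v) h1
    rw [FractionalIdeal.count_pow, FractionalIdeal.count_pow] at h2
    rw [mul_left_cancel₀ (Nat.cast_ne_zero.mpr hn0) h2]
  have hdvd : n ∣ d := by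
    rw [← hord, orderOf_dvd_iff_pow_eq_one, ← map_pow, ClassGroup.mk_eq_one_iff,
      Units.val_pow_eq_pow_val, ← hId]
    exact ⟨⟨g, FractionalIdeal.coe_spanSingleton A⁰ g⟩⟩
  have hdn : d = n := by
    refine le_antisymm ?_ (Nat.le_of_dvd Module.finrank_pos hdvd)
    rw [hd, ← IntermediateField.finrank_top', ← hgen, IntermediateField.adjoin.finrank hint]
    have h0 : (minpoly K α).natDegree ≤ (Polynomial.X ^ n - Polynomial.C f).natDegree :=
      Polynomial.natDegree_le_of_dvd (minpoly.dvd K α (by simp [hα]))
        (Polynomial.X_pow_sub_C_ne_zero (Nat.pos_of_ne_zero hn0) f)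
    rwa [Polynomial.natDegree_X_pow_sub_C] at h0
  refine ⟨hgal, ?_, hdn⟩
  have hirr : Irreducible (Polynomial.X ^ n - Polynomial.C f) := by
    have := irreducible_X_pow_sub_C_of_root_adjoin_eq_top (K := K) (L := L) (a := f) (α := α)
      (by rw [← hd, hdn]; exact hα) hgen
    rwa [← hd, hdn] at this
  exact isCyclic_of_isSplittingField_X_pow_sub_C
    ⟨ζ, (mem_primitiveRoots (Nat.pos_of_ne_zero hn0)).mpr hζ⟩ hirr L

end Groth.Agent.S14178
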