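-- statement FlatMor.GrothFrozen.S1418 (Groth/Statements/S1418.lean; the theorem FlatMor.fibreIntegral_baseChange);
import Groth.Statements.S1418
import Groth.Agent.H7Weight.GeomPts

set_option autoImplicit false
universe u
open FlatMor

namespace Groth.Agent.S1418

open AlgebraicGeometry CategoryTheory Limits in
/-- For a cartesian square with π : U → V locally quasi-finite with finite fibres, base change g : V' →
V and h : U' → U, and a function w on U, the fibre integral of w ∘ h along π' equals the fibre
integral of w along π composed with g. -/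
theorem result {U V U' V' : Scheme.{u}} (π : U ⟶ V) [LocallyQuasiFinite π] [LocallyOfFiniteType π] (hfin : ∀ v : V, (π ⁻¹' {v}).Finite)
    (π' : U' ⟶ V') (h : U' ⟶ U) (g : V' ⟶ V) (hc : IsPullback h π' π g) (w : ↑U → ℤ) (v' : V') :
    MoreMor.fibreIntegral π' (w ∘ ⇑h) v' = MoreMor.fibreIntegral π w (g v') := by
  have : LocallyQuasiFinite π' := MorphismProperty.of_isPullback hc.flip.flip inferInstance
  have : LocallyOfFiniteType π' := MorphismProperty.of_isPullback hc.flip.flip inferInstance
  obtain ⟨Ω, _, _, η, rfl⟩ : ∃ (Ω : Type u) (_ : Field Ω) (_ : IsAlgClosed Ω)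
      (η : Spec (CommRingCat.of Ω) ⟶ V'), Groth.Agent.H7Weight.pt η = v' :=
    let ⟨η, hη⟩ := Groth.Agent.H7Weight.exists_geomPt v'
    ⟨_, inferInstance, inferInstance, η, hη⟩
  have := Groth.Agent.H7Weight.finite_pts π (η ≫ g) (hfin _)
  have : Finite (Groth.Agent.H7Weight.Pts π' η) := .of_equiv _ (Groth.Agent.H7Weight.ptsBaseChange hc η).symm
  rw [Groth.Agent.H7Weight.fibreIntegral_eq_of_finite_pts, ← Groth.Agent.H7Weight.pt_comp,
    Groth.Agent.H7Weight.fibreIntegral_eq_of_finite_pts, Groth.Agent.H7Weight.geomSum_baseChange hc]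

end Groth.Agent.S1418
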