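import Groth.Statements.S14181
import Mathlib

set_option autoImplicit false
universe u
open CategoryTheory
open GalCoh

namespace Groth.Agent.S14181

/-- Let G be a group with a finite normal subgroup P, k a commutative ring and A a k-linear
representation of G such that multiplication by the order of P is a bijection of A. Then the
inflation map on 1-cocycles (crossed homomorphisms) Z¹(G/P, A^P) → Z¹(G, A) has a k-linear left
inverse. (The published statement is for the inertia group of a Galois cover of smooth curves at a
point, its normal Sylow p-subgroup P and a module of n-torsion with n prime to p; the argument uses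
only that the order of P acts invertibly, which is the hypothesis taken here.) -/
theorem result
    {k G : Type u} [CommRing k] [Group G] (A : Rep.{u} k G) (P : Subgroup G) [P.Normal] [Finite P]
    (hP : Function.Bijective fun a : A => (Nat.card P : k) • a) :
    ∃ r : ModuleCat.of k (groupCohomology.cocycles₁ A) ⟶
        ModuleCat.of k (groupCohomology.cocycles₁ (A.quotientToInvariants P)),
      (groupCohomology.mapCocycles₁ (QuotientGroup.mk' P) (Rep.ofHom (A.ρ.quotientToInvariants_lift P)) :
          ModuleCat.of k (groupCohomology.cocycles₁ (A.quotientToInvariants P)) ⟶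
            ModuleCat.of k (groupCohomology.cocycles₁ A)) ≫ r = 𝟙 _ := by
  classical
  haveI := Fintype.ofFinite P
  let L : A →ₗ[k] A := (Nat.card P : k) • LinearMap.id
  let e : A ≃ₗ[k] A := LinearEquiv.ofBijective L hP
  have he : ∀ a, e a = (Nat.card P : k) • a := fun a => rfl
  let x : groupCohomology.cocycles₁ A →ₗ[k] A :=
    e.symm.toLinearMap ∘ₗ
      { toFun := fun f => ∑ p : P, f (p : G)
        map_add' := fun f f' => by simp only [← Finset.sum_add_distrib]; rfl
        map_smul' := fun c f => by simp only [RingHom.id_apply, Finset.smul_sum]; rfl }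
  have hex : ∀ f, e (x f) = ∑ p : P, f (p : G) := fun f => e.apply_symm_apply _
  have hcoc : ∀ (f : groupCohomology.cocycles₁ A) (g h : G), f (g * h) = A.ρ g (f h) + f g := fun f =>
    (groupCohomology.mem_cocycles₁_iff _).mp f.2
  have hx : ∀ (f : groupCohomology.cocycles₁ A) (q : P), A.ρ q (x f) = x f - f (q : G) := by
    intro f q
    apply e.injective
    rw [map_sub, hex, he, he, ← map_smul, ← he, hex, map_sum,
      Finset.sum_congr rfl (fun (p : P) _ => eq_sub_of_add_eq (hcoc f (q : G) (p : G)).symm), Finset.sum_sub_distrib,
      Finset.sum_const, Finset.card_univ, ← Nat.card_eq_fintype_card, Nat.cast_smul_eq_nsmul]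
    congr 1
    exact Fintype.sum_equiv (Equiv.mulLeft q) _ (fun p : P => f (p : G)) (fun p => rfl)
  let f' : groupCohomology.cocycles₁ A →ₗ[k] G → A :=
    { toFun := fun f g => f g + (A.ρ g (x f) - x f)
      map_add' := fun f f₂ => funext fun g => by
        show (f g + f₂ g) + _ = _
        simp only [map_add, Pi.add_apply]
        abel
      map_smul' := fun c f => funext fun g => by
        show c • f g + _ = c • (f g + _)
        simp only [map_smul, smul_add, smul_sub, RingHom.id_apply] }
  have hf' : ∀ f g h, f' f (g * h) = A.ρ g (f' f h) + f' f g := by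
    intro f g h
    show f (g * h) + (A.ρ (g * h) (x f) - x f) = A.ρ g (f h + (A.ρ h (x f) - x f)) + (f g + (A.ρ g (x f) - x f))
    rw [hcoc, map_mul, Module.End.mul_apply, map_add, map_sub]
    abel
  have hf'P : ∀ f (q : P), f' f (q : G) = 0 := fun f q => by
    show f (q : G) + (A.ρ q (x f) - x f) = 0
    rw [hx]; abel
  have hinv : ∀ f g, f' f g ∈ (Representation.invariants (A.ρ.comp P.subtype)) := by
    intro f g q
    show A.ρ (q : G) (f' f g) = f' f g
    have h1 := hf' f q g
    have h2 : (g⁻¹ * (q : G) * g) ∈ P := by
      simpa [mul_assoc] using Subgroup.Normal.conj_mem (inferInstance : P.Normal) _ q.2 g⁻¹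
    have h3 := hf' f g (g⁻¹ * q * g)
    rw [hf'P f ⟨_, h2⟩, map_zero, zero_add, show g * (g⁻¹ * (q : G) * g) = q * g by group] at h3
    rw [hf'P f q, add_zero] at h1
    exact h1.symm.trans h3
  have hconst : ∀ f (a b : G), QuotientGroup.leftRel P a b → f' f a = f' f b := by
    intro f a b hab
    rw [QuotientGroup.leftRel_apply] at hab
    have h3 := hf' f a (a⁻¹ * b)
    rw [mul_inv_cancel_left, hf'P f ⟨_, hab⟩, map_zero, zero_add] at h3
    exact h3.symm
  let r₀ : groupCohomology.cocycles₁ A →ₗ[k] ((G ⧸ P) → (A.quotientToInvariants P)) :=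
    { toFun := fun f => fun c => Quotient.liftOn' c (fun g => (⟨f' f g, hinv f g⟩ : (Representation.invariants (A.ρ.comp P.subtype))))
        (fun a b hab => Subtype.ext (hconst f a b hab))
      map_add' := fun f f₂ => funext fun c => Quotient.inductionOn' c fun g =>
        Subtype.ext (congrFun (map_add f' f f₂) g)
      map_smul' := fun c f => funext fun q => Quotient.inductionOn' q fun g =>
        Subtype.ext (congrFun (map_smul f' c f) g) }
  have hr₀ : ∀ f, r₀ f ∈ groupCohomology.cocycles₁ (A.quotientToInvariants P) := fun f =>
    (groupCohomology.mem_cocycles₁_iff _).mpr fun a b => Quotient.inductionOn₂' a b fun g h =>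
      Subtype.ext (hf' f g h)
  refine ⟨ModuleCat.ofHom (r₀.codRestrict _ hr₀), ?_⟩
  refine ModuleCat.hom_ext (LinearMap.ext fun φ => groupCohomology.cocycles₁_ext fun c => ?_)
  refine Quotient.inductionOn' c fun g => Subtype.ext ?_
  set F : groupCohomology.cocycles₁ A :=
    (groupCohomology.mapCocycles₁ (QuotientGroup.mk' P) (Rep.ofHom (A.ρ.quotientToInvariants_lift P))).hom φ
  have hF : ∀ g : G, F g = (φ (QuotientGroup.mk g) : (Representation.invariants (A.ρ.comp P.subtype))).1 := fun g => rfl
  have hx0 : x F = 0 := by
    apply e.injective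
    rw [hex, map_zero]
    refine Finset.sum_eq_zero fun p _ => ?_
    rw [hF, (QuotientGroup.eq_one_iff _).mpr p.2, groupCohomology.cocycles₁_map_one]
    rfl
  show f' F g = _
  show F g + (A.ρ g (x F) - x F) = _
  rw [hx0, map_zero, sub_zero, add_zero, hF]
  rfl

end Groth.Agent.S14181
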