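import Groth.Statements.S14184
import Groth.Agent.H26LocSym.FunField

set_option autoImplicit false
universe u
open CategoryTheory AlgebraicGeometry
open LocSym

namespace Groth.Agent.S14184

/-- Let k be an algebraically closed field and X a smooth proper integral curve over k (structure
morphism c, dimension one); points are k-points and ord_x is the valuation at x. Let n ≥ 1, let Z be
a finite set of points, let f₁, f₂ be nonzero rational functions and D₁, D₁′, D₂ divisors (finitely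
supported integer-valued functions on points) with n·D₁ = div(f₁) + D₁′, D₁′ supported on Z, n·D₂ =
div(f₂), f₂ taking the value 1 at every point of Z, and div(f₁) and D₂ with disjoint supports. Let
v₁(x) ∈ kˣ be the value of f₁ at each point of the support of D₂ and v₂(x) ∈ kˣ the value of f₂ at
each point of the support of D₁. Then the quotient of ∏_x v₁(x)^{D₂(x)} by ∏_x v₂(x)^{D₁(x)} is an
n-th root of unity: its n-th power is 1. (This quotient f₁(D₂)/f₂(D₁) is the generalised Weil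
pairing of the classes of (D₁, D₁′, f₁) and D₂; the published statement also normalises f₁, f₂ at a
base point, which is not needed for this assertion.) -/
theorem result
    (k : Type u) [Field k] [IsAlgClosed k] (X : Scheme.{u}) [IsIntegral X]
    (c : X ⟶ Spec (CommRingCat.of k)) [IsProper c] [Smooth c] (hdim : topologicalKrullDim X = 1)
    (n : ℕ) (hn : 1 ≤ n) (Z : Finset (LocSym.Pt c))
    (f₁ f₂ : X.functionField) (hf₁ : f₁ ≠ 0) (hf₂ : f₂ ≠ 0)
    (D₁ D₁' D₂ : LocSym.Pt c →₀ ℤ)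
    (hD₁ : ∀ x : LocSym.Pt c, (n : ℤ) * D₁ x = x.ord f₁ + D₁' x) (hD₁' : D₁'.support ⊆ Z)
    (hD₂ : ∀ x : LocSym.Pt c, (n : ℤ) * D₂ x = x.ord f₂)
    (hf₂Z : ∀ x ∈ Z, LocSym.HasValueAt x f₂ 1)
    (hdisj : ∀ x : LocSym.Pt c, x.ord f₁ = 0 ∨ D₂ x = 0)
    (v₁ v₂ : LocSym.Pt c → kˣ)
    (hv₁ : ∀ x ∈ D₂.support, LocSym.HasValueAt x f₁ (v₁ x : k))
    (hv₂ : ∀ x ∈ D₁.support, LocSym.HasValueAt x f₂ (v₂ x : k)) :
    ((D₂.prod fun x e => v₁ x ^ e) / (D₁.prod fun x e => v₂ x ^ e)) ^ n = 1 := by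
  classical
  haveI : Groth.Agent.H26LocSym.Curve c := ⟨inferInstance, inferInstance, hdim⟩
  have hn0 : (n : ℤ) ≠ 0 := by exact_mod_cast (by omega : n ≠ 0)
  have hd : ∀ x : LocSym.Pt c, x.ord f₁ = 0 ∨ x.ord f₂ = 0 := fun x =>
    (hdisj x).imp id fun h => by rw [← hD₂, h, mul_zero]
  choose! w₁ hw₁ using fun (x : LocSym.Pt c) (h : x.ord f₁ = 0) =>
    Groth.Agent.H26LocSym.exists_unit_value hf₁ h
  choose! w₂ hw₂ using fun (x : LocSym.Pt c) (h : x.ord f₂ = 0) =>
    Groth.Agent.H26LocSym.exists_unit_value hf₂ h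
  have hrec := Groth.Agent.H26LocSym.weil_reciprocity hf₁ hf₂ hd w₁ w₂ hw₁ hw₂
  have he₁ : ∀ x ∈ D₂.support, v₁ x = w₁ x := fun x hx => Units.ext
    (Groth.Agent.H26LocSym.value_unique (hv₁ x hx)
      (hw₁ x (Groth.Agent.H26LocSym.ord_eq_zero_of_value (hv₁ x hx) (v₁ x).ne_zero).2))
  have he₂ : ∀ x ∈ D₁.support, v₂ x = w₂ x := fun x hx => Units.ext
    (Groth.Agent.H26LocSym.value_unique (hv₂ x hx)
      (hw₂ x (Groth.Agent.H26LocSym.ord_eq_zero_of_value (hv₂ x hx) (v₂ x).ne_zero).2))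
  have hZ : ∀ x ∈ Z, w₂ x = 1 := fun x hx => Units.ext
    (Groth.Agent.H26LocSym.value_unique
      (hw₂ x (Groth.Agent.H26LocSym.ord_eq_zero_of_value (hf₂Z x hx) one_ne_zero).2)
      (by simpa using hf₂Z x hx))
  rw [div_pow, div_eq_one, Finsupp.prod, Finsupp.prod, ← Finset.prod_pow, ← Finset.prod_pow]
  calc ∏ x ∈ D₂.support, (v₁ x ^ D₂ x) ^ n = ∏ x ∈ D₂.support, w₁ x ^ x.ord f₂ :=
        Finset.prod_congr rfl fun x hx => by
          rw [he₁ x hx, ← hD₂, ← zpow_natCast, ← zpow_mul, mul_comm]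
    _ = ∏ᶠ x, w₁ x ^ x.ord f₂ := (finprod_eq_prod_of_mulSupport_subset _ fun x hx =>
        Finsupp.mem_support_iff.2 fun h => hx (by simp [← hD₂, h])).symm
    _ = ∏ᶠ x, w₂ x ^ x.ord f₁ := hrec
    _ = ∏ x ∈ D₁.support, w₂ x ^ x.ord f₁ := finprod_eq_prod_of_mulSupport_subset _ fun x hx =>
        Finsupp.mem_support_iff.2 fun h => hx (by
          have hx' := hD₁ x
          rw [h, mul_zero] at hx'
          rcases eq_or_ne (D₁' x) 0 with h' | h'
          · simp [show x.ord f₁ = 0 by omega]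
          · simp [hZ x (hD₁' (Finsupp.mem_support_iff.2 h'))])
    _ = ∏ x ∈ D₁.support, (v₂ x ^ D₁ x) ^ n := Finset.prod_congr rfl fun x hx => by
        rw [he₂ x hx, ← zpow_natCast, ← zpow_mul, mul_comm (D₁ x), hD₁, zpow_add]
        rcases eq_or_ne (D₁' x) 0 with h' | h'
        · simp [h']
        · simp [hZ x (hD₁' (Finsupp.mem_support_iff.2 h'))]

end Groth.Agent.S14184
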