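import Groth.Statements.S14188
import Mathlib.AlgebraicGeometry.Morphisms.SchemeTheoreticallyDominant
import Mathlib.AlgebraicGeometry.IdealSheaf.Functorial
import Mathlib.AlgebraicGeometry.FunctionField
import Mathlib.AlgebraicGeometry.Morphisms.ClosedImmersion

set_option autoImplicit false
set_option linter.style.haveILetI false
universe u
open CategoryTheory CategoryTheory.Limits AlgebraicGeometry
open FlatMor

namespace Groth.Agent.S14188

/-- Let T be an integral scheme with generic point η, let Y and Z be schemes flat over T with Z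
separated over T, and let ψ : Y_η → Z be a T-morphism from the generic fibre Y_η = Y ×_T Spec
O_{T,η} (equivalently, an η-morphism Y_η → Z_η). Let gr : Y_η → Y ×_T Z be the graph of ψ, the
morphism whose components are the projection Y_η → Y and ψ, and let Γ ⊆ Y ×_T Z be the
scheme-theoretic image of gr (the schematic closure of the graph). Then ψ extends to a T-morphism φ
: Y → Z, meaning that the composite Y_η → Y → Z is ψ, if and only if the composite of the inclusion
Γ → Y ×_T Z with the first projection is an isomorphism Γ ≅ Y. -/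
theorem result (T Y Z : Scheme.{u}) [IsIntegral T]
    (pY : Y ⟶ T) (pZ : Z ⟶ T) [Flat pY] [Flat pZ] [IsSeparated pZ]
    (ψ : pullback pY (T.fromSpecStalk (genericPoint T)) ⟶ Z)
    (hψ : ψ ≫ pZ = pullback.fst pY (T.fromSpecStalk (genericPoint T)) ≫ pY)
    (gr : pullback pY (T.fromSpecStalk (genericPoint T)) ⟶ pullback pY pZ)
    (hgr₁ : gr ≫ pullback.fst pY pZ = pullback.fst pY (T.fromSpecStalk (genericPoint T)))
    (hgr₂ : gr ≫ pullback.snd pY pZ = ψ) :
    (∃ φ : Y ⟶ Z, φ ≫ pZ = pY ∧ pullback.fst pY (T.fromSpecStalk (genericPoint T)) ≫ φ = ψ) ↔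
      IsIso (gr.imageι ≫ pullback.fst pY pZ) := by
  constructor
  · rintro ⟨φ, hφ, rfl⟩
    haveI : IsDominant (T.fromSpecStalk (genericPoint T)) := by
      refine ⟨dense_iff_closure_eq.mpr (top_unique ?_)⟩
      rw [Set.top_eq_univ, ← genericPoint_closure (α := T)]
      refine closure_mono (Set.singleton_subset_iff.mpr ?_)
      rw [Scheme.range_fromSpecStalk]
      exact specializes_rfl
    haveI : IsSchemeTheoreticallyDominant (T.fromSpecStalk (genericPoint T)) := IsSchemeTheoreticallyDominant.of_isDominant (T.fromSpecStalk (genericPoint T))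
    haveI : QuasiCompact (T.fromSpecStalk (genericPoint T)) := ⟨fun U _ _ => by
      haveI : Subsingleton (Spec (T.presheaf.stalk (genericPoint T))) := by
        letI : Field (T.presheaf.stalk (genericPoint T)) := inferInstanceAs (Field T.functionField)
        exact inferInstanceAs (Subsingleton (PrimeSpectrum (T.presheaf.stalk (genericPoint T))))
      exact (Set.toFinite _).isCompact⟩
    let i : Y ⟶ pullback pY pZ := pullback.lift (𝟙 Y) φ (by rw [Category.id_comp, hφ])
    have hi : i ≫ pullback.fst pY pZ = 𝟙 Y := pullback.lift_fst _ _ _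
    haveI : IsClosedImmersion i := by
      haveI : IsClosedImmersion (i ≫ pullback.fst pY pZ) := by rw [hi]; infer_instance
      exact IsClosedImmersion.of_comp i (pullback.fst pY pZ)
    have hgr : gr = pullback.fst pY (T.fromSpecStalk (genericPoint T)) ≫ i := by
      apply pullback.hom_ext
      · rw [hgr₁, Category.assoc, hi, Category.comp_id]
      · rw [hgr₂, Category.assoc, pullback.lift_snd]
    have hker : gr.ker = i.ker := by
      rw [hgr, Scheme.Hom.ker_comp, (pullback.fst pY (T.fromSpecStalk (genericPoint T))).ker_eq_bot, Scheme.IdealSheafData.map_bot]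
    have key : ∀ I : (pullback pY pZ).IdealSheafData, I = i.ker →
        IsIso (I.subschemeι ≫ pullback.fst pY pZ) := by
      rintro I rfl
      have h1 : i.toImage ≫ i.imageι ≫ pullback.fst pY pZ = 𝟙 Y := by
        rw [← Category.assoc, Scheme.Hom.toImage_imageι, hi]
      haveI : IsIso (i.toImage ≫ i.imageι ≫ pullback.fst pY pZ) := by rw [h1]; infer_instance
      exact IsIso.of_isIso_comp_left i.toImage (i.imageι ≫ pullback.fst pY pZ)
    exact key _ hker
  · intro h
    refine ⟨inv (gr.imageι ≫ pullback.fst pY pZ) ≫ gr.imageι ≫ pullback.snd pY pZ, ?_, ?_⟩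
    · rw [Category.assoc, Category.assoc, ← pullback.condition, ← Category.assoc gr.imageι,
        IsIso.inv_hom_id_assoc]
    · have h1 : gr.toImage ≫ gr.imageι ≫ pullback.fst pY pZ =
          pullback.fst pY (T.fromSpecStalk (genericPoint T)) := by
        rw [← Category.assoc, Scheme.Hom.toImage_imageι, hgr₁]
      rw [← h1, Category.assoc, IsIso.hom_inv_id_assoc, ← Category.assoc, Scheme.Hom.toImage_imageι, hgr₂]

end Groth.Agent.S14188
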