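import Groth.Statements.S14189
import Mathlib.AlgebraicGeometry.Sites.Fpqc
import Mathlib.AlgebraicGeometry.Morphisms.SchemeTheoreticallyDominant
import Mathlib.AlgebraicGeometry.Morphisms.Separated
import Mathlib.AlgebraicGeometry.FunctionField
import Mathlib.AlgebraicGeometry.IdealSheaf.Functorial

set_option autoImplicit false
universe u
open CategoryTheory CategoryTheory.Limits AlgebraicGeometry
open FlatMor

namespace Groth.Agent.S14189
open CategoryTheory.Limits
set_option backward.isDefEq.respectTransparency false
set_option linter.style.haveILetI false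

theorem ext_of_schDominant {W U Z T : Scheme.{u}} (p : Z ⟶ T) [IsSeparated p] (k : U ⟶ W)
    [IsSchemeTheoreticallyDominant k] {a b : W ⟶ Z} (w : a ≫ p = b ≫ p) (h : k ≫ a = k ≫ b) :
    a = b := by
  let m : W ⟶ pullback p p := pullback.lift a b w
  let E := pullback.fst m (pullback.diagonal p)
  let l : U ⟶ pullback m (pullback.diagonal p) := pullback.lift k (k ≫ a)
    (by apply pullback.hom_ext <;> simp [m, h])
  have hker : E.ker = ⊥ := by
    refine le_bot_iff.mp ?_
    rw [← k.ker_eq_bot, show k = l ≫ E from (pullback.lift_fst _ _ _).symm]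
    exact Scheme.Hom.le_ker_comp l E
  haveI : IsIso E := IsClosedImmersion.isIso_of_ker_eq E (𝟙 W) E (Category.comp_id _) (by rw [hker]; simp)
  rw [← cancel_epi E]
  have h1 := congrArg (· ≫ pullback.fst p p) (pullback.condition (f := m) (g := pullback.diagonal p))
  have h2 := congrArg (· ≫ pullback.snd p p) (pullback.condition (f := m) (g := pullback.diagonal p))
  simp only [m, Category.assoc, pullback.lift_fst, pullback.lift_snd, pullback.diagonal_fst,
    pullback.diagonal_snd] at h1 h2
  exact h1.trans h2.symm


/-- Let T be an integral scheme with generic point η, let Y and Z be schemes flat over T with Z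
separated over T, and let ψ : Y_η → Z be a T-morphism from the generic fibre Y_η = Y ×_T Spec
O_{T,η}. Let g : T' → T be flat, surjective and quasi-compact, and let φ' : Y_{T'} → Z_{T'} be a
T'-morphism which agrees with ψ over T' ×_T η, in the sense that on Y_{T'} ×_Y Y_η = Y ×_T T' ×_T
Spec O_{T,η} the composite of the first projection with φ' and with Z_{T'} → Z equals the composite
of the second projection with ψ. Then ψ extends to a T-morphism φ : Y → Z, one whose composite with
Y_η → Y is ψ. (The published statement is an equivalence and also records that an extension, when it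
exists, is unique; the converse direction, that an extension over T base-changes to such a φ' over
any such T', is immediate, and this row states the existence direction only.) -/
theorem result (T Y Z T' : Scheme.{u}) [IsIntegral T]
    (pY : Y ⟶ T) (pZ : Z ⟶ T) [Flat pY] [Flat pZ] [IsSeparated pZ]
    (ψ : pullback pY (T.fromSpecStalk (genericPoint T)) ⟶ Z)
    (hψ : ψ ≫ pZ = pullback.fst pY (T.fromSpecStalk (genericPoint T)) ≫ pY)
    (g : T' ⟶ T) [Flat g] [Surjective g] [QuasiCompact g]
    (φ' : pullback pY g ⟶ pullback pZ g) (hφ' : φ' ≫ pullback.snd pZ g = pullback.snd pY g)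
    (hagree : pullback.fst (pullback.fst pY g) (pullback.fst pY (T.fromSpecStalk (genericPoint T))) ≫ φ' ≫ pullback.fst pZ g =
      pullback.snd (pullback.fst pY g) (pullback.fst pY (T.fromSpecStalk (genericPoint T))) ≫ ψ) :
    ∃ φ : Y ⟶ Z, φ ≫ pZ = pY ∧ pullback.fst pY (T.fromSpecStalk (genericPoint T)) ≫ φ = ψ := by
    classical
    let ι := T.fromSpecStalk (genericPoint T)
    haveI : IsDominant ι := by
      refine ⟨dense_iff_closure_eq.mpr (top_unique ?_)⟩
      rw [Set.top_eq_univ, ← genericPoint_closure (α := T)]
      refine closure_mono (Set.singleton_subset_iff.mpr ?_)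
      rw [Scheme.range_fromSpecStalk]
      exact specializes_rfl
    haveI : IsSchemeTheoreticallyDominant ι := IsSchemeTheoreticallyDominant.of_isDominant ι
    haveI : QuasiCompact ι := ⟨fun U _ _ => by
      haveI : Subsingleton (Spec (T.presheaf.stalk (genericPoint T))) := by
        letI : Field (T.presheaf.stalk (genericPoint T)) := inferInstanceAs (Field T.functionField)
        exact inferInstanceAs (Subsingleton (PrimeSpectrum (T.presheaf.stalk (genericPoint T))))
      exact (Set.toFinite _).isCompact⟩
    let b := pullback.fst pY g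
    let e := φ' ≫ pullback.fst pZ g
    have heZ : e ≫ pZ = b ≫ pY := by
      simp only [e, b, Category.assoc, pullback.condition]
      rw [reassoc_of% hφ']
    -- descend `e` along `b`
    have heq : ∀ {W : Scheme.{u}} (q₁ q₂ : W ⟶ pullback pY g), q₁ ≫ b = q₂ ≫ b → q₁ ≫ e = q₂ ≫ e := by
      intro W q₁ q₂ h
      let r₁ := pullback.fst b b
      let r₂ := pullback.snd b b
      suffices hr : r₁ ≫ e = r₂ ≫ e by
        have := congrArg (pullback.lift q₁ q₂ h ≫ ·) hr
        simpa only [r₁, r₂, pullback.lift_fst_assoc, pullback.lift_snd_assoc] using this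
      let p'' : pullback b b ⟶ T := r₁ ≫ b ≫ pY
      haveI : Flat p'' := inferInstanceAs (Flat (pullback.fst b b ≫ pullback.fst pY g ≫ pY))
      let k : pullback p'' ι ⟶ pullback b b := pullback.fst p'' ι
      haveI : IsSchemeTheoreticallyDominant k :=
        inferInstanceAs (IsSchemeTheoreticallyDominant (pullback.fst p'' ι))
      have hb : r₁ ≫ b = r₂ ≫ b := pullback.condition
      have hw : (r₁ ≫ e) ≫ pZ = (r₂ ≫ e) ≫ pZ :=
        (Category.assoc _ _ _).trans ((congrArg (r₁ ≫ ·) heZ).trans ((Category.assoc _ _ _).symm.trans
          ((congrArg (· ≫ pY) hb).trans ((Category.assoc _ _ _).trans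
            ((congrArg (r₂ ≫ ·) heZ.symm).trans (Category.assoc _ _ _).symm)))))
      refine ext_of_schDominant pZ k hw ?_
      -- both sides are `ψ` on the generic fibre
      let d : pullback p'' ι ⟶ pullback pY ι := pullback.map _ _ _ _ (r₁ ≫ b) (𝟙 _) (𝟙 _)
        (by simp [p'']) (by simp)
      have hd : ∀ r : pullback b b ⟶ pullback pY g, r ≫ b = r₁ ≫ b → k ≫ r ≫ e = d ≫ ψ := by
        intro r hr
        let l : pullback p'' ι ⟶ pullback b (pullback.fst pY ι) :=
          pullback.lift (k ≫ r) d (by
            rw [Category.assoc, hr]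
            exact (pullback.lift_fst _ _ _).symm)
        have h1 := congrArg (l ≫ ·) hagree
        have hl1 : l ≫ pullback.fst b (pullback.fst pY ι) = k ≫ r := pullback.lift_fst _ _ _
        have hl2 : l ≫ pullback.snd b (pullback.fst pY ι) = d := pullback.lift_snd _ _ _
        refine (Category.assoc _ _ _).symm.trans ((congrArg (· ≫ e) hl1.symm).trans ?_)
        refine (Category.assoc _ _ _).trans (h1.trans ?_)
        exact (Category.assoc _ _ _).symm.trans (congrArg (· ≫ ψ) hl2)
      exact (hd r₁ rfl).trans (hd r₂ pullback.condition.symm).symm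
    refine ⟨EffectiveEpi.desc b e fun q₁ q₂ h => heq q₁ q₂ h, ?_, ?_⟩
    · rw [← cancel_epi b, ← Category.assoc, EffectiveEpi.fac, heZ]
    · rw [← cancel_epi (pullback.snd b (pullback.fst pY ι)), ← Category.assoc, ← pullback.condition,
        Category.assoc, EffectiveEpi.fac]
      exact hagree

end Groth.Agent.S14189
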