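import Groth.Statements.S14190
import Groth.Agent.H28Int.Vanishing
import Groth.Agent.H28Vert.SmoothRelMin
import Groth.Agent.S13308
import Groth.Agent.S4340
import Groth.Agent.H02CA.Sky.Basic
import Groth.Agent.H10Coh.Pn.Results
import Groth.Agent.H10Coh.FinH

set_option autoImplicit false
set_option backward.isDefEq.respectTransparency.types false
universe u
open CategoryTheory CategoryTheory.Limits AlgebraicGeometry Opposite
open Models

open TopologicalSpace
open Groth.Agent.H10Coh in
attribute [local instance 10000] hasSheafifyAb hasWeakSheafifyAb hasExtAb enoughInjAb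

namespace Groth.Agent.S14190

/-- Let R be a discrete valuation ring with fraction field K, let C be a proper K-curve which is smooth
of relative dimension 1 and geometrically connected over K, and let X be a model of C over R (flat
and of finite type over R with generic fibre C) which is proper over R and normal; so X is a proper
relative curve over R, integral of dimension 2. Let (ω, tr) be a 1-dualizing pair for X over R: ω is
a quasi-coherent O_X-module and tr : H¹(X, ω) → R an R-linear map such that φ ↦ tr ∘ H¹(φ) is a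
bijection from Hom(F, ω) onto Hom_R(H¹(X, F), R) for every quasi-coherent F (such a pair is a
relative dualizing sheaf of X over R with its trace, and is unique up to isomorphism). Let U ⊆ X be
an open subscheme whose complement is a finite set of closed points of X (these lie in the closed
fibre and have codimension 2). Then the canonical map from ω to the direct image of its restriction
to U is an isomorphism: for every open V ⊆ X the restriction map ω(V) → ω(V ∩ U) is bijective. (The
published statement is for a relative curve which need not be proper and for the relative dualizing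
sheaf of duality theory; this row takes X proper over R, where a 1-dualizing pair in the above
global-sections sense determines that sheaf up to isomorphism.) -/
theorem result (R : Type u) [CommRing R] [IsDomain R] [IsDiscreteValuationRing R]
    (X C : Scheme.{u}) [X.Over (Spec (CommRingCat.of R))]
    (f : C ⟶ Spec (CommRingCat.of (FractionRing R)))
    [SmoothOfRelativeDimension 1 f] [IsProper f] [GeometricallyConnected f]
    (hX : Models.IsModel R X (X ↘ Spec (CommRingCat.of R)) C f)
    [IsProper (X ↘ Spec (CommRingCat.of R))] (hn : Pi1.IsNormalScheme X)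
    (ω : X.Modules) (tr : Coh.HH X ω 1 →ₗ[R] R) (hω : Canon.IsRDualOver R X 1 ω tr)
    (U : X.Opens) (hfin : ((U : Set X)ᶜ).Finite) (hcl : ∀ x : X, x ∉ U → IsClosed ({x} : Set X))
    (V : X.Opens) :
    Function.Bijective (ω.presheaf.map (homOfLE (inf_le_left : V ⊓ U ≤ V)).op).hom := by
  let p := X ↘ Spec (CommRingCat.of R)
  haveI : IsLocallyNoetherian X := LocallyOfFiniteType.isLocallyNoetherian p
  haveI : CompactSpace X := QuasiCompact.compactSpace_of_compactSpace p
  haveI : IsNoetherian X := ⟨⟩
  haveI : X.IsSeparated := Scheme.IsSeparated.mk (by rw [show terminal.from X = p ≫ terminal.from _ from terminal.hom_ext _ _]; infer_instance)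
  obtain ⟨hq, hbij⟩ := hω
  haveI : ω.IsQuasicoherent := hq
  let Z : Closeds X := ⟨(U : Set X)ᶜ, U.2.isClosed_compl⟩
  haveI : Finite ↥(Z : Set X) := hfin.to_subtype
  haveI : T1Space ↥(Z : Set X) := ⟨fun z => by
    have := (hcl z.1 z.2).preimage (continuous_subtype_val (p := (· ∈ (Z : Set X))))
    rwa [show Subtype.val ⁻¹' {z.1} = ({z} : Set ↥(Z : Set X)) from Set.ext fun w => Subtype.ext_iff.symm] at this⟩
  have hdim : topologicalKrullDim (Z : Set X) ≤ ((0 : ℕ) : WithBot ℕ∞) :=
    topologicalKrullDim_zero_of_discreteTopology _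
  have hvan : ∀ M : X.Modules, M.IsQuasicoherent → CohB1.support M ⊆ (U : Set X)ᶜ →
      Subsingleton (Coh.HH X M 1) := fun M hM hMZ =>
    @Equiv.subsingleton _ _ (H10Coh.HHEquiv M 1).toEquiv
      (H28Int.subsingleton_HnM_of_support Z 0 hdim M hM hMZ 1 Nat.zero_lt_one)
  let adj := Scheme.Modules.restrictAdjunction U.ι
  let ι : ω ⟶ (Scheme.Modules.pushforward U.ι).obj (ω.restrict U.ι) := adj.unit.app ω
  haveI : (ω.restrict U.ι).IsQuasicoherent := Scheme.Modules.isQuasicoherent_restrictFunctor U.ι ω
  haveI hω' : ((Scheme.Modules.pushforward U.ι).obj (ω.restrict U.ι)).IsQuasicoherent :=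
    LeadDev.isQCoh_push_open U.ι _ ‹(ω.restrict U.ι).IsQuasicoherent›
  have hKC := H28Int.support_kernel_cokernel_unit U ω
  haveI hK : (kernel ι).IsQuasicoherent := H10Coh.isQuasicoherent_kernel ι
  haveI hQ : (cokernel ι).IsQuasicoherent := H10Coh.isQuasicoherent_cokernel ι
  haveI : Mono ι := by
    haveI := hvan (kernel ι) hK fun x hx hxU => hKC.1 x hxU hx
    refine Preadditive.mono_of_kernel_zero ((hbij _ hK).1 (LinearMap.ext fun x => ?_))
    rw [Subsingleton.elim x 0, map_zero, map_zero]
  let S := ShortComplex.mk ι (cokernel.π ι) (cokernel.condition ι)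
  have hS : S.ShortExact := { exact := ShortComplex.exact_cokernel ι }
  have hSab := H10Coh.shortExact_sh hS
  have hQ1 := hvan (cokernel ι) hQ fun x hx hxU => hKC.2 x hxU hx
  have hsurj : Function.Surjective (Canon.HHlin R ι 1) := fun y => by
    haveI : Subsingleton (Abelian.Ext ((constantSheaf (Opens.grothendieckTopology X) AddCommGrpCat.{u}).obj
      (AddCommGrpCat.of (ULift.{u} ℤ))) (S.map (H10Coh.shF X)).X₃ 1) := hQ1
    obtain ⟨x, hx⟩ := Abelian.Ext.covariant_sequence_exact₂ _ hSab y (Subsingleton.elim _ _)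
    exact ⟨x, hx⟩
  obtain ⟨ϖ, hϖ⟩ := IsDiscreteValuationRing.exists_irreducible R
  have hker : LinearMap.ker (Canon.HHlin R ι 1) ≤ LinearMap.ker tr := fun x hx => by
    obtain ⟨q, hq⟩ := Abelian.Ext.covariant_sequence_exact₁ _ hSab x hx rfl
    let t : Γ(X, ⊤) := Coh.toGlobal p ϖ
    let e := H10Coh.HH0Equiv (cokernel ι) q
    have hUt : X.basicOpen t ≤ U := fun z hz => by
      by_contra hzU
      have hzc : p z = IsLocalRing.closedPoint R :=
        PrimeSpectrum.ext (IsLocalRing.eq_maximalIdeal ((PrimeSpectrum.isClosed_singleton_iff_isMaximal (p z)).1 (by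
          rw [← Set.image_singleton]; exact p.isClosedMap _ (hcl z hzU))))
      have hu : IsUnit (DualGr.stalkHom p z ϖ) := (X.mem_basicOpen (U := ⊤) t z trivial).1 hz
      exact (H28Vert.isUnit_stalkHom_iff' p z ϖ).1 hu (by rw [hzc]; exact hϖ.not_isUnit)
    have h0 : (cokernel ι).presheaf.map (homOfLE (le_top : X.basicOpen t ≤ ⊤)).op e = 0 := by
      refine TopCat.Presheaf.section_ext (⟨(cokernel ι).presheaf, (cokernel ι).isSheaf⟩ :
        TopCat.Sheaf Ab.{u} X) _ _ _ fun z hz => ?_
      haveI : Subsingleton ((cokernel ι).presheaf.stalk z) := not_not.1 (hKC.2 z (hUt hz))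
      exact Subsingleton.elim _ _
    haveI : Coh.IsQCoh (cokernel ι) := hQ
    obtain ⟨n, -, hn⟩ := S4340.result X t (cokernel ι) e h0
    let a : Γ(X, ⊤) := Coh.toGlobal p (ϖ ^ n)
    have ha : a = t ^ n := map_pow _ _ _
    have hqa : (show Coh.Γtop X from a) • (show Coh.HH X (cokernel ι) 0 from q) = 0 :=
      (H10Coh.HH0Equiv (cokernel ι)).injective (by
        rw [H10Coh.HH0Equiv_smul, map_zero]
        show a • e = 0
        rw [ha]
        exact hn)
    let φ : S.map (H10Coh.shF X) ⟶ S.map (H10Coh.shF X) :=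
      { τ₁ := Coh.smulAb ω a
        τ₂ := Coh.smulAb _ a
        τ₃ := Coh.smulAb (cokernel ι) a
        comm₁₂ := (Canon.toSheaf_map_comp_smulAb ι a).symm
        comm₂₃ := (Canon.toSheaf_map_comp_smulAb (cokernel.π ι) a).symm }
    have hxa : (ϖ ^ n) • x = 0 := by
      show x.comp (Abelian.Ext.mk₀ φ.τ₁) (add_zero 1) = 0
      rw [← hq]
      erw [Abelian.Ext.comp_assoc_of_third_deg_zero]
      erw [ShortComplex.ShortExact.extClass_naturality hSab hSab φ]
      erw [← Abelian.Ext.comp_assoc_of_second_deg_zero]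
      erw [show q.comp (Abelian.Ext.mk₀ φ.τ₃) (add_zero 0) = 0 from hqa]
      exact Abelian.Ext.zero_comp _ _ _ _ _
    have h3 : (ϖ ^ n) * tr x = 0 := by rw [← smul_eq_mul, ← map_smul, hxa, map_zero]
    exact (mul_eq_zero.1 h3).resolve_left (pow_ne_zero _ hϖ.ne_zero)
  let tr' : Coh.HH X ((Scheme.Modules.pushforward U.ι).obj (ω.restrict U.ι)) 1 →ₗ[R] R :=
    ((LinearMap.ker (Canon.HHlin R ι 1)).liftQ tr hker).comp
      (LinearMap.quotKerEquivOfSurjective _ hsurj).symm.toLinearMap
  have htr' : ∀ x, tr' (Canon.HHlin R ι 1 x) = tr x := fun x => by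
    show Submodule.liftQ _ tr hker ((LinearMap.quotKerEquivOfSurjective _ hsurj).symm (Canon.HHlin R ι 1 x)) = _
    rw [show Canon.HHlin R ι 1 x = LinearMap.quotKerEquivOfSurjective _ hsurj (Submodule.Quotient.mk x) from rfl,
      LinearEquiv.symm_apply_apply]
    rfl
  obtain ⟨φ, hφ⟩ := (hbij _ hω').2 tr'
  have hretr : ι ≫ φ = 𝟙 ω := (hbij _ hq).1 (LinearMap.ext fun x => by
    show tr (Canon.HHlin R (ι ≫ φ) 1 x) = tr (Canon.HHlin R (𝟙 ω) 1 x)
    rw [S13308.HHlin_comp, S13308.HHlin_id]
    exact (LinearMap.congr_fun hφ (Canon.HHlin R ι 1 x)).trans (htr' x))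
  have hz : ∀ s : cokernel ι ⟶ (Scheme.Modules.pushforward U.ι).obj (ω.restrict U.ι), s = 0 := fun s => by
    have h1 : IsZero ((cokernel ι).restrict U.ι) :=
      H02CA.Sky.isZero_restrict_of_support fun y hy => hKC.2 y hy
    exact (adj.homEquiv (cokernel ι) (ω.restrict U.ι)).symm.injective (h1.eq_of_src _ _)
  haveI : IsIso ι := by
    refine ⟨φ, hretr, ?_⟩
    have h1 : ι ≫ (φ ≫ ι - 𝟙 _) = 0 := by
      rw [Preadditive.comp_sub, reassoc_of% hretr, Category.comp_id, sub_self]
    rw [← sub_eq_zero, ← cokernel.π_desc ι _ h1, hz (cokernel.desc ι _ h1), comp_zero]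
  let W : X.Opens := U.ι ''ᵁ (U.ι ⁻¹ᵁ V)
  have hW : W = V ⊓ U := by
    show U.ι ''ᵁ (U.ι ⁻¹ᵁ V) = V ⊓ U
    rw [Scheme.Hom.image_preimage_eq_opensRange_inf, Scheme.Opens.opensRange_ι, inf_comm]
  have key : ∀ (W' : X.Opens) (h : W' ≤ V), W' = W → Function.Bijective (ω.presheaf.map (homOfLE h).op).hom := by
    rintro W' h rfl
    haveI : IsIso (ι.app V) := inferInstance
    have := ConcreteCategory.bijective_of_isIso (ι.app V)
    exact this
  exact key _ inf_le_left hW.symm

end Groth.Agent.S14190
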