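import Groth.Statements.S14192
import Mathlib.RingTheory.PowerSeries.Derivative
import Mathlib.RingTheory.PowerSeries.Exp

set_option autoImplicit false
set_option backward.isDefEq.respectTransparency false
set_option backward.isDefEq.respectTransparency.types false
open PowerSeries
open StackCount

namespace Groth.Agent.S14192

/-- The series with coefficients the powers of `a`. -/
noncomputable def G (a : ℚ) : PowerSeries ℚ := PowerSeries.mk fun v => a ^ (v + 1)

lemma one_sub_mul_G (a : ℚ) : (1 - PowerSeries.C a * PowerSeries.X) * G a = PowerSeries.C a := by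
  ext n
  rcases n with _ | n
  · simp [G, sub_mul, mul_assoc]
  · simp [G, sub_mul, mul_assoc, PowerSeries.coeff_succ_X_mul, PowerSeries.coeff_C]
    ring

lemma ld_lin (a : ℚ) :
    PowerSeries.derivative ℚ (1 - PowerSeries.C a * PowerSeries.X) =
      -G a * (1 - PowerSeries.C a * PowerSeries.X) := by
  have h : PowerSeries.derivative ℚ (1 - PowerSeries.C a * PowerSeries.X) = -PowerSeries.C a := by
    simp [map_sub, Derivation.leibniz]
  rw [h, neg_mul, mul_comm, one_sub_mul_G]

lemma ld_mul {f g h k : PowerSeries ℚ} (hf : PowerSeries.derivative ℚ f = h * f)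
    (hg : PowerSeries.derivative ℚ g = k * g) : PowerSeries.derivative ℚ (f * g) = (h + k) * (f * g) := by
  rw [Derivation.leibniz, hf, hg, smul_eq_mul, smul_eq_mul]
  ring

lemma ld_pow {f h : PowerSeries ℚ} (hf : PowerSeries.derivative ℚ f = h * f) :
    ∀ n : ℕ, PowerSeries.derivative ℚ (f ^ n) = ((n : PowerSeries ℚ) * h) * f ^ n
  | 0 => by simp
  | n + 1 => by
    rw [pow_succ, ld_mul (ld_pow hf n) hf]
    push_cast
    ring

lemma ld_prod {ι : Type} (s : Finset ι) (f h : ι → PowerSeries ℚ)
    (hf : ∀ i ∈ s, PowerSeries.derivative ℚ (f i) = h i * f i) :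
    PowerSeries.derivative ℚ (∏ i ∈ s, f i) = (∑ i ∈ s, h i) * ∏ i ∈ s, f i := by
  classical
  induction s using Finset.induction_on with
  | empty => simp
  | insert i s hi ih =>
    rw [Finset.prod_insert hi, Finset.sum_insert hi]
    exact ld_mul (hf i (Finset.mem_insert_self _ _)) (ih fun j hj => hf j (Finset.mem_insert_of_mem hj))

lemma eq_of_ld {f g h : PowerSeries ℚ} (hf : PowerSeries.derivative ℚ f = h * f)
    (hg : PowerSeries.derivative ℚ g = h * g) (hf0 : PowerSeries.constantCoeff f = 1)
    (hg0 : PowerSeries.constantCoeff g = 1) : f = g := by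
  have hgu : g * g⁻¹ = 1 := PowerSeries.mul_inv_cancel g (by simp [hg0])
  have h1 : f * g⁻¹ = 1 := by
    refine PowerSeries.derivative.ext ?_ (by simp [hf0, hg0])
    rw [Derivation.leibniz, PowerSeries.derivative_inv', hf, hg, PowerSeries.derivative_one, smul_eq_mul,
      smul_eq_mul]
    linear_combination (-(f * h * g⁻¹)) * hgu
  calc f = f * (g * g⁻¹) := by rw [hgu, mul_one]
    _ = (f * g⁻¹) * g := by ring
    _ = g := by rw [h1, one_mul]

/-- Let R = Σ_n r_n X^n be a Laurent polynomial with integer coefficients and q > 1 an integer. In the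
ring of formal power series in t over ℚ, the exponential of Σ_{v ≥ 1} R(q^v) t^v / v equals the
finite product Π_n (1 - q^n t)^(-r_n). Stated here with denominators cleared: the exponential series
multiplied by Π_{n : r_n > 0} (1 - q^n t)^(r_n) equals Π_{n : r_n < 0} (1 - q^n t)^(-r_n) (each
factor 1 - q^n t is a unit, so this is equivalent). -/
theorem result (R : LaurentPolynomial ℤ) (q : ℤ) (hq : 1 < q) :
    (PowerSeries.exp ℚ).subst
        (PowerSeries.mk fun v : ℕ => if v = 0 then (0 : ℚ)
          else (R.coeff.sum fun (n : ℤ) (r : ℤ) => (r : ℚ) * (q : ℚ) ^ (n * (v : ℤ))) / (v : ℚ))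
      * ∏ n ∈ R.coeff.support, (1 - PowerSeries.C ((q : ℚ) ^ n) * PowerSeries.X) ^ (R.coeff n).toNat
    = ∏ n ∈ R.coeff.support, (1 - PowerSeries.C ((q : ℚ) ^ n) * PowerSeries.X) ^ (-(R.coeff n)).toNat := by
  classical
  let a : ℤ → ℚ := fun n => (q : ℚ) ^ n
  let r : ℤ → ℤ := fun n => R.coeff n
  set L : PowerSeries ℚ := PowerSeries.mk fun v : ℕ => if v = 0 then (0 : ℚ)
    else (R.coeff.sum fun (n : ℤ) (c : ℤ) => (c : ℚ) * (q : ℚ) ^ (n * (v : ℤ))) / (v : ℚ) with hLdef
  have hL : PowerSeries.derivative ℚ L = ∑ n ∈ R.coeff.support, (r n : PowerSeries ℚ) * G (a n) := by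
    ext v
    rw [PowerSeries.coeff_derivative, map_sum]
    simp only [L, PowerSeries.coeff_mk, if_neg (Nat.succ_ne_zero v), Finsupp.sum]
    push_cast
    rw [div_mul_cancel₀ _ (by positivity)]
    refine Finset.sum_congr rfl fun n _ => ?_
    rw [← map_intCast (PowerSeries.C (R := ℚ)), PowerSeries.coeff_C_mul, G, PowerSeries.coeff_mk,
      ← zpow_natCast (a n), ← zpow_mul]
    norm_cast
  have hs : PowerSeries.HasSubst L := PowerSeries.HasSubst.of_constantCoeff_zero' (by simp [L])
  have hE : PowerSeries.derivative ℚ ((PowerSeries.exp ℚ).subst L) =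
      (∑ n ∈ R.coeff.support, (r n : PowerSeries ℚ) * G (a n)) * (PowerSeries.exp ℚ).subst L := by
    rw [PowerSeries.derivative_subst hs, PowerSeries.derivative_exp, hL, mul_comm]
  have hP : ∀ e : ℤ → ℕ, PowerSeries.derivative ℚ
      (∏ n ∈ R.coeff.support, (1 - PowerSeries.C (a n) * PowerSeries.X) ^ e n) =
      (∑ n ∈ R.coeff.support, (e n : PowerSeries ℚ) * -G (a n)) *
        ∏ n ∈ R.coeff.support, (1 - PowerSeries.C (a n) * PowerSeries.X) ^ e n :=
    fun e => ld_prod _ _ _ fun n _ => ld_pow (ld_lin (a n)) (e n)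
  have hc : ∀ e : ℤ → ℕ, PowerSeries.constantCoeff
      (∏ n ∈ R.coeff.support, (1 - PowerSeries.C (a n) * PowerSeries.X) ^ e n) = 1 := fun e => by
    simp [map_prod]
  refine eq_of_ld (ld_mul hE (hP fun n => (r n).toNat))
    (h := _) ((hP fun n => (-r n).toNat).trans ?_) ?_ (hc _)
  · congr 1
    rw [← Finset.sum_add_distrib]
    refine Finset.sum_congr rfl fun n _ => ?_
    have h : ((r n : ℤ) : PowerSeries ℚ) = ((r n).toNat : PowerSeries ℚ) - ((-r n).toNat : PowerSeries ℚ) := by
      conv_lhs => rw [← Int.toNat_sub_toNat_neg (r n)]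
      push_cast
      rfl
    rw [h]
    ring
  · rw [map_mul, hc, mul_one, ← PowerSeries.coeff_zero_eq_constantCoeff_apply, PowerSeries.coeff_subst' hs,
      finsum_eq_single _ 0 fun d hd => ?_]
    · simp
    · have hL0 : PowerSeries.constantCoeff L = 0 := by simp [L]
      simp [hL0, zero_pow hd]

end Groth.Agent.S14192
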