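import Groth.Statements.S14196
import Groth.Agent.H14Count.Fibre

set_option autoImplicit false
set_option backward.isDefEq.respectTransparency false
set_option backward.isDefEq.respectTransparency.types false
universe u
open CategoryTheory MonoidalCategory CartesianMonoidalCategory AlgebraicGeometry
open StackCount

namespace Groth.Agent.S14196

/-- Let k be a finite field with algebraic closure k̄, G a smooth affine algebraic group over k acting
on a variety X over k (reduced, of finite type), and [X/G] the quotient stack whose objects over a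
k-scheme T are G-torsors P → T, locally trivial for the étale topology and taken to be schemes, with
a G-equivariant morphism P → X. Write T̄ = Spec k̄ over Spec k. Then: every object of the fibre
category of [X/G] over T̄ admits a section T̄ → P of its torsor; for objects A, B over T̄ with
chosen sections t_A, t_B, A and B are isomorphic in the fibre over T̄ if and only if the k̄-points
t_B φ_B and t_A φ_A of X lie in one G(k̄)-orbit (there is g ∈ G(T̄) with g · (t_A φ_A) = t_B φ_B);
and every k̄-point of X is of the form t φ_A. Hence the isomorphism classes of [X/G](k̄) correspond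
bijectively to the G(k̄)-orbits in X(k̄). (The published statement allows any smooth algebraic group
G; this row takes G affine, so that every torsor is a scheme.) -/
theorem result (k : Type u) [Field k] [Finite k]
    (G : Over (Spec (CommRingCat.of k))) [GrpObj G] [Smooth G.hom] [IsAffineHom G.hom]
    (X : Over (Spec (CommRingCat.of k))) [LocallyOfFiniteType X.hom] [QuasiCompact X.hom]
    [IsReduced X.left] (aX : AlgGrp.Action G X) :
    (∀ A : (AlgSt.QuotObj.forget Scheme.etalePrecoverage G aX).Fiber (Over.mk (Spec.map (CommRingCat.ofHom (algebraMap k (AlgebraicClosure k)))) : Over (Spec (CommRingCat.of k))),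
        ∃ t : (Over.mk (Spec.map (CommRingCat.ofHom (algebraMap k (AlgebraicClosure k)))) : Over (Spec (CommRingCat.of k))) ⟶ A.1.P, t ≫ A.1.π = eqToHom A.2.symm) ∧
    (∀ (A B : (AlgSt.QuotObj.forget Scheme.etalePrecoverage G aX).Fiber (Over.mk (Spec.map (CommRingCat.ofHom (algebraMap k (AlgebraicClosure k)))) : Over (Spec (CommRingCat.of k))))
        (tA : (Over.mk (Spec.map (CommRingCat.ofHom (algebraMap k (AlgebraicClosure k)))) : Over (Spec (CommRingCat.of k))) ⟶ A.1.P) (tB : (Over.mk (Spec.map (CommRingCat.ofHom (algebraMap k (AlgebraicClosure k)))) : Over (Spec (CommRingCat.of k))) ⟶ B.1.P),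
        tA ≫ A.1.π = eqToHom A.2.symm → tB ≫ B.1.π = eqToHom B.2.symm →
        (Nonempty (A ≅ B) ↔
          ∃ g : (Over.mk (Spec.map (CommRingCat.ofHom (algebraMap k (AlgebraicClosure k)))) : Over (Spec (CommRingCat.of k))) ⟶ G,
            CartesianMonoidalCategory.lift g (tA ≫ A.1.φ) ≫ aX.act = tB ≫ B.1.φ)) ∧
    (∀ x : (Over.mk (Spec.map (CommRingCat.ofHom (algebraMap k (AlgebraicClosure k)))) : Over (Spec (CommRingCat.of k))) ⟶ X,
        ∃ (A : (AlgSt.QuotObj.forget Scheme.etalePrecoverage G aX).Fiber (Over.mk (Spec.map (CommRingCat.ofHom (algebraMap k (AlgebraicClosure k)))) : Over (Spec (CommRingCat.of k)))) (t : (Over.mk (Spec.map (CommRingCat.ofHom (algebraMap k (AlgebraicClosure k)))) : Over (Spec (CommRingCat.of k))) ⟶ A.1.P),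
          t ≫ A.1.π = eqToHom A.2.symm ∧ t ≫ A.1.φ = x) := by
  refine ⟨fun A => ?_, fun A B tA tB hA hB => Groth.Agent.H14Count.nonempty_iso_iff_orbit A B tA tB hA hB,
    fun x => ⟨⟨Groth.Agent.H14Quot.triv Scheme.etalePrecoverage G aX x, rfl⟩,
      Groth.Agent.H14Quot.unitSec G _, CartesianMonoidalCategory.lift_snd _ _, ?_⟩⟩
  · obtain ⟨A, hA⟩ := A
    obtain ⟨t, ht⟩ := Groth.Agent.H14Count.exists_section_algClosed (K := AlgebraicClosure k) A.π
      (eqToIso (congrArg (fun T : Over (Spec (CommRingCat.of k)) => T.left) hA)) A.loc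
    refine ⟨eqToHom hA.symm ≫ t, ?_⟩
    exact (Category.assoc _ _ _).trans ((congrArg (eqToHom hA.symm ≫ ·) ht).trans (Category.comp_id _))
  · change Groth.Agent.H14Quot.unitSec G _ ≫ (MonoidalCategory.whiskerLeft G x) ≫ aX.act = x
    rw [CartesianMonoidalCategory.lift_whiskerLeft_assoc, Category.id_comp]
    exact AlgGrp.Action.lift_one_act aX x

end Groth.Agent.S14196
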