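import Groth.Statements.S14197
import Groth.Agent.H14Count.ClassMass
import Groth.Agent.H14Count.FiniteGroupMass
import Groth.Agent.H14Count.Fibre
import Groth.Agent.H14Quot.Etale

set_option autoImplicit false
universe u
open CategoryTheory MonoidalCategory CartesianMonoidalCategory AlgebraicGeometry
open StackCount

set_option backward.isDefEq.respectTransparency false
set_option backward.isDefEq.respectTransparency.types false

namespace Groth.Agent.S14197

open CartesianMonoidalCategory MonoidalCategory
attribute [local instance 2000] CategoryTheory.Hom.group CategoryTheory.Hom.monoid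

/-- Let k be a finite field with algebraic closure k̄, G a smooth affine algebraic group over k acting
on a variety X over k, [X/G] the quotient stack of G-torsors (schemes, locally trivial for the étale
topology) with an equivariant morphism to X, and k' ⊆ k̄ a subfield finite over k; write T̄ = Spec
k̄ and T' = Spec k' over Spec k, with ι : T̄ → T' the structure map. Let A be an object of [X/G]
over T̄, t a section of its torsor and x = t φ_A the corresponding k̄-point of X. Then A has a model
over k' — there are an object B of [X/G] over T' and a morphism A → B of [X/G] lying over ι (so A is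
the pull-back of B) — if and only if the G(k̄)-orbit of x is fixed by Gal(k̄/k'): for every
k'-algebra automorphism σ of k̄, with s : T̄ → T̄ the induced morphism, there is g ∈ G(T̄) with g ·
x = s x. (The published statement allows any smooth algebraic group G; this row takes G affine, so
that torsors are schemes. Together with the classification of the isomorphism classes over k̄ by
G(k̄)-orbits of k̄-points, this says that the class of A in G(k̄)∖X(k̄) has a representative defined
over k' exactly when it is Galois-fixed.) -/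
theorem result (k : Type u) [Field k] [Finite k]
    (G : Over (Spec (CommRingCat.of k))) [GrpObj G] [Smooth G.hom] [IsAffineHom G.hom]
    (X : Over (Spec (CommRingCat.of k))) [LocallyOfFiniteType X.hom] [QuasiCompact X.hom]
    [IsReduced X.left] (aX : AlgGrp.Action G X)
    (k' : IntermediateField k (AlgebraicClosure k)) [FiniteDimensional k k']
    (ι : (Over.mk (Spec.map (CommRingCat.ofHom (algebraMap k (AlgebraicClosure k)))) : Over (Spec (CommRingCat.of k))) ⟶ (Over.mk (Spec.map (CommRingCat.ofHom (algebraMap k k'))) : Over (Spec (CommRingCat.of k))))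
    (hι : ι.left = Spec.map (CommRingCat.ofHom (algebraMap k' (AlgebraicClosure k))))
    (A : (AlgSt.QuotObj.forget Scheme.etalePrecoverage G aX).Fiber (Over.mk (Spec.map (CommRingCat.ofHom (algebraMap k (AlgebraicClosure k)))) : Over (Spec (CommRingCat.of k)))) (t : (Over.mk (Spec.map (CommRingCat.ofHom (algebraMap k (AlgebraicClosure k)))) : Over (Spec (CommRingCat.of k))) ⟶ A.1.P) (ht : t ≫ A.1.π = eqToHom A.2.symm) :
    (∃ (B : AlgSt.QuotObj Scheme.etalePrecoverage G aX) (hB : B.base = (Over.mk (Spec.map (CommRingCat.ofHom (algebraMap k k'))) : Over (Spec (CommRingCat.of k))))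
        (h : A.1 ⟶ B), h.base = eqToHom A.2 ≫ ι ≫ eqToHom hB.symm) ↔
    (∀ (σ : AlgebraicClosure k ≃ₐ[k'] AlgebraicClosure k) (s : (Over.mk (Spec.map (CommRingCat.ofHom (algebraMap k (AlgebraicClosure k)))) : Over (Spec (CommRingCat.of k))) ⟶ (Over.mk (Spec.map (CommRingCat.ofHom (algebraMap k (AlgebraicClosure k)))) : Over (Spec (CommRingCat.of k)))),
        s.left = Spec.map (CommRingCat.ofHom σ.toRingEquiv.toRingHom) →
        ∃ g : (Over.mk (Spec.map (CommRingCat.ofHom (algebraMap k (AlgebraicClosure k)))) : Over (Spec (CommRingCat.of k))) ⟶ G,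
          CartesianMonoidalCategory.lift g (t ≫ A.1.φ) ≫ aX.act = s ≫ t ≫ A.1.φ) := by
  haveI : Finite k' := Module.finite_of_finite k
  haveI : Algebra.IsAlgebraic k' (AlgebraicClosure k) := Algebra.IsAlgebraic.tower_top (K := k) (A := AlgebraicClosure k) k'
  obtain rfl : ι = H14Count.toPt k k' (AlgebraicClosure k) := Over.OverMorphism.ext hι
  constructor
  · rintro ⟨B, hB, h, hb⟩ σ s hs
    obtain rfl : s = H14Count.ptAut k σ := Over.OverMorphism.ext hs
    have hp : (t ≫ h.top) ≫ B.π = H14Count.toPt k k' (AlgebraicClosure k) ≫ eqToHom hB.symm := by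
      rw [Category.assoc, h.cart.w, ← Category.assoc, ht, hb]
      simp
    obtain ⟨g, hg, -⟩ := H14Count.exists_unique_elt B (t ≫ h.top) (H14Count.ptAut k σ ≫ t ≫ h.top) (by
      rw [hp, Category.assoc, hp, ← Category.assoc, H14Count.ptAut_toPt])
    refine ⟨g, ?_⟩
    have e := congrArg (· ≫ B.φ) hg
    simp only [Category.assoc, B.eqv, lift_whiskerLeft_assoc, h.wφ] at e
    exact e
  · intro H
    obtain ⟨π, hπ⟩ := H14Count.exists_frobenius k' (AlgebraicClosure k)
    obtain ⟨g, hg⟩ := H π (H14Count.ptAut k π) rfl
    have hrel : lift g⁻¹ (H14Count.ptAut k π ≫ t ≫ A.1.φ) ≫ aX.act = t ≫ A.1.φ := by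
      rw [← hg, ← AlgGrp.Action.lift_mul_act, inv_mul_cancel, AlgGrp.Action.lift_one_act]
    obtain ⟨B, p, hp, hφ, -⟩ := H14Count.exists_obj_of_frob (k := k) (aX := aX) π hπ
      (J := Scheme.etalePrecoverage) le_rfl g⁻¹ (t ≫ A.1.φ) hrel
    obtain ⟨i⟩ := H14Count.nonempty_iso_triv (x := t ≫ A.1.φ) A t ht rfl
    refine ⟨B.1, B.2, i.inv.1 ≫ H14Quot.homOfSec p hφ, ?_⟩
    have hi := @IsHomLift.fac' _ _ _ _ (AlgSt.QuotObj.forget Scheme.etalePrecoverage G aX) _ _ _ _ (𝟙 _) i.inv.1 i.inv.2
    change i.inv.1.base ≫ p ≫ B.1.π = _
    rw [hp, show i.inv.1.base = _ from hi]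
    simp

end Groth.Agent.S14197
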