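import Groth.Statements.S14206
import Groth.Agent.H23SB.Mult

set_option autoImplicit false
universe u
open CategoryTheory CategoryTheory.Limits AlgebraicGeometry
open ASBun

namespace Groth.Agent.S14206

/-- Let A be a central simple algebra of degree n ≥ 1 over a field k (of dimension n² over k), X a
proper k-scheme which is the Severi–Brauer scheme of A (for every commutative k-algebra R its
R-points over k are, naturally in R, the left ideals of R ⊗_k A with projective quotient of rank n²
− n), K an algebraic closure of k and e a K-isomorphism X_K ≅ P^{n−1}_K, along which O_e(j) denotes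
the pullback of the twisting sheaf O(j); suppose the period and the index of A are both equal to p
(the p-fold tensor power of A is the first split one, and A is a matrix algebra over a division ring
of dimension p² over k). Let W be an indecomposable finite locally free O_X-module (nonzero, and in
any decomposition as a direct sum one summand is zero) with W_K ≅ O_e(j)^{⊕r}, r ≥ 1, for an integer
j. Then r = p / gcd(p, |j|); in particular the multiplicities for j = 0, 1, …, p are 1, p, p/gcd(p,
2), …, p/gcd(p, p − 2), p, 1. -/
theorem result (k : Type u) [Field k] (A : Type u) [Ring A] [Algebra k A]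
    [Algebra.IsCentral k A] [IsSimpleRing A] (n : ℕ) (hn : 0 < n)
    (hA : Module.finrank k A = n * n) {X : Scheme.{u}} (f : X ⟶ Spec (CommRingCat.of k))
    [IsProper f] (hX : BrSev.IsSBOf k A (n * n - n) f)
    (K : Type u) [Field K] [Algebra k K] [IsAlgClosure k K] (e : BrSev.Splitting f K (n - 1))
    (p : ℕ) (hp : CSAGal.IsPeriod k A p) (hi : CSAGal.IsIndex k A p)
    (W : X.Modules) (hW : FlatMod.IsFinLocFree W)
    (hWi : (¬ IsZero W ∧ ∀ M₁ M₂ : X.Modules, Nonempty (W ≅ M₁ ⊞ M₂) → IsZero M₁ ∨ IsZero M₂))
    (j : ℤ) (r : ℕ) (hr : 0 < r) (hWt : BrSev.IsTwPow e j r W) :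
    r = p / Nat.gcd p j.natAbs := by
  obtain ⟨N, rfl⟩ : ∃ N, n = N + 1 := ⟨n - 1, by omega⟩
  exact Groth.Agent.H23SB.multiplicity_of_period_eq_index (N := N) e hA hX hp hi hW hWi hr hWt

end Groth.Agent.S14206
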