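import Groth.Statements.S14207
import Groth.Agent.H23SB.Mult

set_option autoImplicit false
universe u
open CategoryTheory CategoryTheory.Limits AlgebraicGeometry
open ASBun

namespace Groth.Agent.S14207

/-- Let A be a central simple algebra of degree n ≥ 1 over a field k (of dimension n² over k), X a
proper k-scheme which is the Severi–Brauer scheme of A (for every commutative k-algebra R its
R-points over k are, naturally in R, the left ideals of R ⊗_k A with projective quotient of rank n²
− n), K an algebraic closure of k and e a K-isomorphism X_K ≅ P^{n−1}_K, along which O_e(j) denotes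
the pullback of the twisting sheaf O(j); suppose the degree n is a prime number and A is not split
(not isomorphic over k to a full matrix algebra over k). Let W be an indecomposable finite locally
free O_X-module (nonzero, and in any decomposition as a direct sum one summand is zero) with W_K ≅
O_e(j)^{⊕r}, r ≥ 1, for an integer j. Then r = n / gcd(n, |j|), that is r = 1 when n divides j and r
= n otherwise: all non-split Severi–Brauer varieties of dimension n − 1 with n prime have the same
multiplicities, 1 for j divisible by n and n otherwise; for n = 2, on a non-split conic the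
indecomposable module of type O(j) has rank 1 for j even and 2 for j odd. -/
theorem result (k : Type u) [Field k] (A : Type u) [Ring A] [Algebra k A]
    [Algebra.IsCentral k A] [IsSimpleRing A] (n : ℕ) (hn : 0 < n)
    (hA : Module.finrank k A = n * n) {X : Scheme.{u}} (f : X ⟶ Spec (CommRingCat.of k))
    [IsProper f] (hX : BrSev.IsSBOf k A (n * n - n) f)
    (K : Type u) [Field K] [Algebra k K] [IsAlgClosure k K] (e : BrSev.Splitting f K (n - 1))
    (hq : n.Prime) (hns : ¬ Curves.Splits k A k)
    (W : X.Modules) (hW : FlatMod.IsFinLocFree W)
    (hWi : (¬ IsZero W ∧ ∀ M₁ M₂ : X.Modules, Nonempty (W ≅ M₁ ⊞ M₂) → IsZero M₁ ∨ IsZero M₂))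
    (j : ℤ) (r : ℕ) (hr : 0 < r) (hWt : BrSev.IsTwPow e j r W) :
    r = n / Nat.gcd n j.natAbs := by
  obtain ⟨N, rfl⟩ : ∃ N, n = N + 1 := ⟨n - 1, by omega⟩
  haveI : FiniteDimensional k A := Groth.Agent.H23SB.finiteDimensional_of_finrank hA
  obtain ⟨d, hd⟩ := Groth.Agent.H23Brauer.exists_isIndex (k := k) A
  rcases (Nat.dvd_prime hq).mp (Groth.Agent.H23Brauer.index_dvd_degree hd (hA.trans (sq _).symm)) with rfl | rfl
  · exact absurd (Groth.Agent.H23Brauer.splits_iff_isIndex_one.mpr hd) hns
  · exact Groth.Agent.H23SB.multiplicity_of_period_eq_index (N := N) e hA hX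
      (Groth.Agent.H23SB.period_eq_index_of_prime hd hq) hd hW hWi hr hWt

end Groth.Agent.S14207
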