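import Groth.Statements.S14209
import Groth.Agent.H23SB.SplitSBOf

set_option autoImplicit false
universe u
open CategoryTheory CategoryTheory.Limits AlgebraicGeometry
open BrSev

namespace Groth.Agent.S14209

/-- In the case d = 1 of the generalized Severi–Brauer schemes BS(d, A), let A be a central simple
algebra of degree n ≥ 1 over a field k and X a k-scheme which is the Severi–Brauer scheme of A: for
every commutative k-algebra R, its R-points over k are identified, naturally in R, with the left
ideals of R ⊗_k A whose quotient is projective of rank n² − n. Then X is split by a finite Galois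
extension: there are a finite Galois extension K of k and a K-isomorphism X_K ≅ P^{n−1}_K. In
particular X is a Severi–Brauer variety of dimension n − 1 (the scheme of rank-n left ideals of A is
the Severi–Brauer variety of A). -/
theorem result (k : Type u) [Field k] (A : Type u) [Ring A]
    [Algebra k A] [Algebra.IsCentral k A] [IsSimpleRing A] (n : ℕ) (hn : 0 < n)
    (hA : Module.finrank k A = n * n) {X : Scheme.{u}} (f : X ⟶ Spec (CommRingCat.of k))
    (hX : BrSev.IsSBOf k A (n * n - n) f) :
    ∃ (K : Type u) (_ : Field K) (_ : Algebra k K), FiniteDimensional k K ∧ IsGalois k K ∧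
      Nonempty (BrSev.Splitting f K (n - 1)) := by
  obtain ⟨N, rfl⟩ : ∃ N, n = N + 1 := ⟨n - 1, by omega⟩
  exact Groth.Agent.H23SB.exists_galois_splitting_of_isSBOf (N := N) hA hX

end Groth.Agent.S14209
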