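-- statement FlatMor.GrothFrozen.S1421 (Groth/Statements/S1421.lean; the theorem FlatMor.isWeighting_length_mul_insepDegree_of_flat);
import Groth.Statements.S1421
import Groth.Agent.H7Weight.FlatLQF

set_option autoImplicit false
universe u
open FlatMor

namespace Groth.Agent.S1421
set_option backward.isDefEq.respectTransparency false

open AlgebraicGeometry CategoryTheory Limits in
/-- Let f : X → Y be flat, locally quasi-finite and locally of finite presentation. Then the function w
sending a point x over y to length(O_{X,x} / m_y O_{X,x}) · [κ(x) : κ(y)]_i (inseparable degree) is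
a weighting of f with positive values. -/
theorem result {X Y : Scheme.{u}} (f : X ⟶ Y) [LocallyQuasiFinite f] [Flat f] [LocallyOfFinitePresentation f] :
    let w : ↑X → ℤ := fun x =>
      (Module.length ↑(X.presheaf.stalk x) (↑(X.presheaf.stalk x) ⧸ Ideal.map (f.stalkMap x).hom (IsLocalRing.maximalIdeal ↑(Y.presheaf.stalk (f x))))).toNat *
      (letI := (f.residueFieldMap x).hom.toAlgebra
       (Field.finInsepDegree (Y.residueField (f x)) (X.residueField x) : ℤ))
    MoreMor.IsWeighting f w ∧ ∀ x, 0 < w x := by
  intro w
  have hw : ∀ x, w x = (H7Weight.FlatLQF.LW f x : ℤ) := fun x => by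
    rw [H7Weight.FlatLQF.LW, H7Weight.LocalMult.mult, Nat.cast_mul]
    rfl
  refine ⟨fun V g _ U hU => ?_, fun x => ?_⟩
  · haveI := hU
    let π := U.ι ≫ pullback.snd f g
    let a := U.ι ≫ pullback.fst f g
    have key : (fun u => w (pullback.fst f g (U.ι u))) = fun u => (H7Weight.FlatLQF.LW π u : ℤ) := by
      funext u
      rw [hw]
      congr 1
      rw [← H7Weight.FlatLQF.LW_comp_right π g u, show π ≫ g = a ≫ f by
        simp only [π, a, Category.assoc, pullback.condition], H7Weight.FlatLQF.LW_comp_left a f u]
      rfl
    rw [key]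
    exact H7Weight.FlatLQF.isLocallyConstant_fibreIntegral π
  · rw [hw]
    exact_mod_cast H7Weight.FlatLQF.len_pos f x

end Groth.Agent.S1421
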