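import Groth.Statements.S14210
import Mathlib
import Groth.Agent.H23SB.GenericDivision
import Groth.Agent.H23SB.Existence

set_option autoImplicit false
universe u
open CategoryTheory CategoryTheory.Limits AlgebraicGeometry
open ASBun

namespace Groth.Agent.S14210

/-- For positive integers p, i, d with p ∣ i ∣ d such that every prime dividing i divides p, some field
k carries a central simple k-algebra A of dimension d² with period p (the least p ≥ 1 for which the
p-fold tensor power of A is a full matrix algebra over k) and index i (A is a matrix algebra over a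
division ring of dimension i² over k), together with a k-scheme X which is the Severi–Brauer scheme
of A (for every commutative k-algebra R, the R-points of X over k are identified, naturally in R,
with the left ideals of R ⊗_k A whose quotient is projective of rank d² − d); that is, X is a
Severi–Brauer variety over k of type (p, i, d). -/
theorem result (p i d : ℕ) (hp : 0 < p) (hi : 0 < i) (hd : 0 < d)
    (hpi : p ∣ i) (hid : i ∣ d) (hprimes : ∀ q : ℕ, q.Prime → q ∣ i → q ∣ p) :
    ∃ (k : Type u) (_ : Field k) (A : Type u) (_ : Ring A) (_ : Algebra k A),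
      Algebra.IsCentral k A ∧ IsSimpleRing A ∧ Module.finrank k A = d * d ∧
      CSAGal.IsPeriod k A p ∧ CSAGal.IsIndex k A i ∧
      ∃ (X : Scheme.{u}) (f : X ⟶ Spec (CommRingCat.of k)), BrSev.IsSBOf k A (d * d - d) f := by
  classical
  obtain ⟨c, hc⟩ := hpi
  have hc0 : c ≠ 0 := by rintro rfl; simp [hc] at hi
  let l := c.primeFactorsList
  let k₀ := AlgebraicClosure (ULift.{u} ℚ)
  haveI : CharZero (ULift.{u} ℚ) := charZero_of_injective_algebraMap (R := ℚ) (algebraMap ℚ (ULift.{u} ℚ)).injective
  haveI : NeZero p := ⟨hp.ne'⟩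
  haveI : CharZero k₀ := charZero_of_injective_algebraMap (R := ULift.{u} ℚ) (algebraMap (ULift.{u} ℚ) k₀).injective
  obtain ⟨ζ, hζ⟩ := HasEnoughRootsOfUnity.exists_primitiveRoot k₀ p
  obtain ⟨k, _, D, _, _, hcD, hfD, hdim, hper⟩ :=
    Groth.Agent.H23SB.GenericDivision.exists_division k₀ ζ p hp hζ (Fin l.length) (fun j => l[j.1]) (fun j => by
      have hj := List.getElem_mem j.2
      exact hprimes _ (Nat.prime_of_mem_primeFactorsList hj)
        ((Nat.dvd_of_mem_primeFactorsList hj).trans (hc ▸ dvd_mul_left c p)))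
  have hprod : p * ∏ j : Fin l.length, l[j.1] = i := by
    rw [← List.prod_ofFn, List.ofFn_getElem, Nat.prod_primeFactorsList hc0, hc]
  rw [hprod] at hdim
  obtain ⟨m, hm⟩ := hid
  have hm0 : 0 < m := Nat.pos_of_ne_zero (by rintro rfl; simp [hm] at hd)
  haveI : NeZero m := ⟨hm0.ne'⟩
  obtain ⟨hcA, hsA, hfA⟩ := Groth.Agent.H23Brauer.matrix_csa (k := k) D m hm0.ne'
  obtain ⟨X, f, hX⟩ := Groth.Agent.H23SB.Existence.exists_isSBOf k (Matrix (Fin m) (Fin m) D) (d * d - d)
  refine ⟨k, inferInstance, Matrix (Fin m) (Fin m) D, inferInstance, inferInstance, hcA, hsA, ?_, ?_,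
    ⟨hi, m, D, inferInstance, inferInstance, hm0, hdim, ⟨AlgEquiv.refl⟩⟩, X, f, hX⟩
  · rw [Module.finrank_matrix, Fintype.card_fin, hdim, hm]
    ring
  · obtain ⟨hpp, hsp, hmin⟩ := hper
    refine ⟨hpp, ?_, fun e he hlt hs => hmin e he hlt ?_⟩
    · obtain ⟨E⟩ := Groth.Agent.H23Brauer.nonempty_tpow_matrix (k := k) D m p
      exact Groth.Agent.H29CSA.splits_congr E.symm
        (Groth.Agent.H29CSA.splits_matrix _ k (m ^ p) (pow_ne_zero _ hm0.ne') hsp)
    · obtain ⟨E⟩ := Groth.Agent.H23Brauer.nonempty_tpow_matrix (k := k) D m e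
      obtain ⟨_, _, _⟩ := Groth.Agent.H23Brauer.csa_tpow (k := k) (A := D) e
      exact Groth.Agent.H29CSA.splits_of_matrix _ k (pow_ne_zero _ hm0.ne') (Groth.Agent.H29CSA.splits_congr E hs)
end Groth.Agent.S14210
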