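import Groth.Statements.S14211
import Mathlib
import Groth.Agent.H23Brauer.Primary

set_option autoImplicit false
universe u v
open scoped TensorProduct
open Brauer

namespace Groth.Agent.S14211

/-- Let k be a field in which 2 ≠ 0 and A a finite-dimensional central simple k-algebra. Then A has
period 2 and index 2 (its Severi–Brauer variety has type (2, 2, 2m)) if and only if A is isomorphic
over k to a matrix algebra M_m(Q), m ≥ 1, over a quaternion algebra Q = (a, b)_k (the k-algebra with
basis 1, i, j, ij, i² = a, j² = b, ij = −ji) which is a division ring; moreover such a quaternion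
algebra is unique up to k-isomorphism. -/
theorem result (k : Type u) [Field k] (h2 : (2 : k) ≠ 0)
    (A : Type v) [Ring A] [Algebra k A] [Algebra.IsCentral k A] [IsSimpleRing A]
    [FiniteDimensional k A] :
    ((CSAGal.IsPeriod k A 2 ∧ CSAGal.IsIndex k A 2) ↔
      ∃ (a b : k) (m : ℕ), 0 < m ∧ (∀ x : QuaternionAlgebra k a 0 b, x ≠ 0 → IsUnit x) ∧
        Nonempty (A ≃ₐ[k] Matrix (Fin m) (Fin m) (QuaternionAlgebra k a 0 b))) ∧
    (∀ (a b a' b' : k) (m m' : ℕ),
      (∀ x : QuaternionAlgebra k a 0 b, x ≠ 0 → IsUnit x) →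
      (∀ x : QuaternionAlgebra k a' 0 b', x ≠ 0 → IsUnit x) →
      Nonempty (A ≃ₐ[k] Matrix (Fin m) (Fin m) (QuaternionAlgebra k a 0 b)) →
      Nonempty (A ≃ₐ[k] Matrix (Fin m') (Fin m') (QuaternionAlgebra k a' 0 b')) →
      Nonempty (QuaternionAlgebra k a 0 b ≃ₐ[k] QuaternionAlgebra k a' 0 b')) := by
  classical
  have hm0 : ∀ (R : Type u) [Ring R] [Algebra k R] (m : ℕ), Nonempty (A ≃ₐ[k] Matrix (Fin m) (Fin m) R) → m ≠ 0 := by
    rintro R _ _ m ⟨e⟩ rfl
    exact not_subsingleton A e.toEquiv.subsingleton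
  refine ⟨⟨fun ⟨_, hI⟩ => ?_, ?_⟩, ?_⟩
  · obtain ⟨-, m, hm, D, _, _, _, _, hfr, ⟨e⟩⟩ := Groth.Agent.H23Brauer.isIndex_elim hI
    obtain ⟨L, hc, hmax, -⟩ := Groth.Agent.H29CSA.exists_separable_maximal (k := k) D
    have hLdim : Module.finrank k L = 2 :=
      Nat.pow_left_injective two_ne_zero ((Groth.Agent.H29CSA.finrank_eq_sq_of_maximal D L hc hmax).symm.trans hfr)
    have hcent := Groth.Agent.H29CSA.centralizer_eq_of_maximal D L hc hmax
    letI := Groth.Agent.H29CSA.fieldOfComm D L hc
    obtain ⟨x, hx⟩ : ∃ x : L, x ∉ (⊥ : Subalgebra k L) := by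
      by_contra h
      push Not at h
      have : (⊥ : Subalgebra k L) = ⊤ := eq_top_iff.mpr fun z _ => h z
      rw [Subalgebra.bot_eq_top_iff_finrank_eq_one] at this
      omega
    have hspan : ∀ z : L, ∃ p q : k, z = p • (1 : L) + q • x := by
      have hli : LinearIndependent k ![(1 : L), x] := by
        rw [LinearIndependent.pair_iff]
        intro p q hpq
        by_cases hq : q = 0
        · subst hq; simp at hpq ⊢; exact hpq
        · refine absurd ?_ hx
          refine Algebra.mem_bot.mpr ⟨-(q⁻¹ * p), ?_⟩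
          rw [Algebra.algebraMap_eq_smul_one, neg_smul, mul_smul, eq_neg_of_add_eq_zero_left hpq,
            smul_neg, neg_neg, inv_smul_smul₀ hq]
      intro z
      have := hli.span_eq_top_of_card_eq_finrank (by simp [hLdim])
      obtain ⟨p, q, h⟩ := Submodule.mem_span_pair.mp (by
        rw [← Matrix.range_cons_cons_empty (1 : L) x Matrix.vecEmpty]
        rw [this]; exact Submodule.mem_top : z ∈ Submodule.span k ({(1 : L), x} : Set L))
      exact ⟨p, q, h.symm⟩
    obtain ⟨β, α, hsq⟩ := hspan (x * x)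
    set i₀ : L := x - (α / 2) • (1 : L) with hi₀
    set a : k := β + α / 2 * (α / 2) with ha
    have hi₀sq : i₀ * i₀ = a • (1 : L) := by
      have hαα : α = α / 2 + α / 2 := by field_simp; ring
      rw [hi₀, ha]
      simp only [sub_mul, mul_sub, smul_mul_assoc, mul_smul_comm, one_mul, mul_one, smul_smul, hsq]
      conv_lhs => arg 1; arg 1; arg 2; rw [hαα]
      module
    have hi₀mem : i₀ ∉ (⊥ : Subalgebra k L) := fun h => hx (by
      have := Subalgebra.add_mem _ h (Subalgebra.smul_mem _ (Subalgebra.one_mem _) (α / 2))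
      simpa [hi₀] using this)
    set i : D := (i₀ : D) with hi
    have hisq : i * i = a • (1 : D) := congrArg Subtype.val hi₀sq
    have hi0 : i ≠ 0 := fun h => hi₀mem (by rw [show i₀ = 0 from Subtype.ext h]; exact Subalgebra.zero_mem _)
    have ha0 : a ≠ 0 := by
      intro h
      rw [h, zero_smul] at hisq
      exact hi0 (mul_self_eq_zero.mp hisq)
    -- an element anticommuting with `i`
    obtain ⟨y, hy⟩ : ∃ y : D, i * y ≠ y * i := by
      by_contra h
      push Not at h
      obtain ⟨c, hc'⟩ := (Algebra.IsCentral.mem_center_iff k).mp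
        (Subalgebra.mem_center_iff.mpr fun y => (h y).symm : i ∈ Subalgebra.center k D)
      exact hi₀mem (Algebra.mem_bot.mpr ⟨c, Subtype.ext hc'.symm⟩)
    set j : D := i * y - y * i with hj
    have hji : j * i = -(i * j) := by
      have h1 : y * i * i = a • y := by rw [mul_assoc, hisq, mul_smul_comm, mul_one]
      have h2 : i * (i * y) = a • y := by rw [← mul_assoc, hisq, smul_mul_assoc, one_mul]
      rw [hj, sub_mul, mul_sub, h1, h2, ← mul_assoc]
      abel
    have hj0 : j ≠ 0 := sub_ne_zero.mpr hy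
    have hLgen : ∀ z ∈ L, ∃ p q : k, z = p • (1 : D) + q • i := by
      intro z hz
      obtain ⟨p, q, h⟩ := hspan ⟨z, hz⟩
      refine ⟨p + q * (α / 2), q, ?_⟩
      have hxi : (x : D) = i + (α / 2) • (1 : D) := by rw [hi, hi₀]; simp
      have h' := congrArg Subtype.val h
      simp at h'
      rw [h', hxi]
      module
    have hjj : j * j ∈ L := by
      rw [← hcent, Subalgebra.mem_centralizer_iff]
      intro z hz
      obtain ⟨p, q, rfl⟩ := hLgen z hz
      have hc2 : i * (j * j) = j * j * i := by
        rw [mul_assoc, hji, mul_neg, ← mul_assoc j i, hji, neg_mul, neg_neg, mul_assoc]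
      rw [add_mul, mul_add, smul_mul_assoc, smul_mul_assoc, mul_smul_comm, mul_smul_comm, one_mul, mul_one, hc2]
    obtain ⟨b, q, hbq⟩ := hLgen _ hjj
    have hq : q = 0 := by
      by_contra hq
      have h1 : j * (j * j) = (j * j) * j := (mul_assoc _ _ _).symm
      rw [hbq, mul_add, add_mul, mul_smul_comm, mul_smul_comm, smul_mul_assoc, smul_mul_assoc, one_mul, mul_one,
        hji] at h1
      have h2q : (2 * q) • (i * j) = 0 := by
        have := add_left_cancel h1
        rw [smul_neg, neg_eq_iff_add_eq_zero] at this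
        rw [two_mul, add_smul, this]
      exact mul_ne_zero hi0 hj0 ((smul_eq_zero.mp h2q).resolve_left (mul_ne_zero h2 hq))
    rw [hq, zero_smul, add_zero] at hbq
    let B : QuaternionAlgebra.Basis D a 0 b :=
      { i := i, j := j, k := i * j
        i_mul_i := by rw [hisq, zero_smul, add_zero]
        j_mul_j := hbq
        i_mul_j := rfl
        j_mul_i := by rw [hji, zero_smul, zero_sub] }
    set R := B.liftHom.range with hR
    have hiR : i ∈ R := ⟨⟨0, 1, 0, 0⟩, by simp [QuaternionAlgebra.Basis.liftHom, QuaternionAlgebra.Basis.lift, B]⟩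
    have hjR : j ∈ R := ⟨⟨0, 0, 1, 0⟩, by simp [QuaternionAlgebra.Basis.liftHom, QuaternionAlgebra.Basis.lift, B]⟩
    have hLR : L ≤ R := fun z hz => by
      obtain ⟨p, q, rfl⟩ := hLgen z hz
      exact R.add_mem (R.smul_mem R.one_mem p) (R.smul_mem hiR q)
    have hjL : j ∉ L := fun h => by
      have h1 : i * j = j * i := hc i i₀.2 j h
      rw [hji] at h1
      have h3 : (2 : k) • (i * j) = 0 := by rw [two_smul]; exact eq_neg_iff_add_eq_zero.mp h1
      exact mul_ne_zero hi0 hj0 ((smul_eq_zero.mp h3).resolve_left h2)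
    have hRdim : Module.finrank k R = 4 := by
      letI := Groth.Agent.H23Brauer.subalgebraDivisionRing R
      have h4 : Module.finrank k R ∣ 4 := by
        refine ⟨Module.finrank R D, ?_⟩
        rw [Module.finrank_mul_finrank k R D, hfr]
        rfl
      have hlt : 2 < Module.finrank k R := by
        rw [← hLdim, ← Subalgebra.finrank_toSubmodule, ← Subalgebra.finrank_toSubmodule]
        exact Submodule.finrank_lt_finrank_of_lt (lt_of_le_of_ne hLR fun h =>
          hjL ((Subalgebra.toSubmodule_injective h) ▸ hjR))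
      have := Nat.le_of_dvd (by norm_num) h4
      interval_cases h : Module.finrank k R <;> omega
    have hsurj : Function.Surjective B.liftHom := by
      rw [← AlgHom.range_eq_top]
      refine Subalgebra.toSubmodule_injective (Submodule.eq_top_of_finrank_eq ?_)
      rw [Subalgebra.finrank_toSubmodule, ← hR, hRdim, hfr]
      norm_num
    have hQdim : Module.finrank k (QuaternionAlgebra k a 0 b) = Module.finrank k D := by
      rw [QuaternionAlgebra.finrank_eq_four, hfr]; norm_num
    let E : QuaternionAlgebra k a 0 b ≃ₐ[k] D := AlgEquiv.ofBijective B.liftHom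
      ⟨(LinearMap.injective_iff_surjective_of_finrank_eq_finrank (f := B.liftHom.toLinearMap) hQdim).mpr hsurj, hsurj⟩
    exact ⟨a, b, m, Nat.pos_of_ne_zero hm.ne, fun z hz => (isUnit_map_iff E z).mp
      (Ne.isUnit fun h => hz (E.injective (h.trans (map_zero E).symm))), ⟨e.trans E.symm.mapMatrix⟩⟩
  · rintro ⟨a, b, m, hm, hu, ⟨e⟩⟩
    haveI : Nontrivial (QuaternionAlgebra k a 0 b) :=
      Module.nontrivial_of_finrank_pos (R := k) (by rw [QuaternionAlgebra.finrank_eq_four]; norm_num)
    letI : DivisionRing (QuaternionAlgebra k a 0 b) :=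
      DivisionRing.ofIsUnitOrEqZero fun z => or_iff_not_imp_right.mpr (hu z)
    obtain ⟨d, hd⟩ := Groth.Agent.H23Brauer.exists_isIndex (k := k) A
    obtain rfl : d = 2 := Groth.Agent.H23Brauer.isIndex_eq_of_equiv hd hm.ne' e (d' := 2)
      (by rw [QuaternionAlgebra.finrank_eq_four]; norm_num)
    obtain ⟨p, hp⟩ := Groth.Agent.H23Brauer.exists_isPeriod (k := k) (A := A)
    have hp2 : p ∣ 2 := (Groth.Agent.H23Brauer.splits_iff_dvd hp 2).mp (Groth.Agent.H23Brauer.splits_tpow_index hd)
    rcases (Nat.dvd_prime Nat.prime_two).mp hp2 with rfl | rfl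
    · exact absurd (Groth.Agent.H23Brauer.isIndex_unique hd (Groth.Agent.H23Brauer.splits_iff_isIndex_one.mp
        (Groth.Agent.H23Brauer.splits_one_iff.mp hp.2.1))) (by norm_num)
    · exact ⟨hp, hd⟩
  · intro a b a' b' m m' hu hu' he he'
    haveI : Nontrivial (QuaternionAlgebra k a 0 b) :=
      Module.nontrivial_of_finrank_pos (R := k) (by rw [QuaternionAlgebra.finrank_eq_four]; norm_num)
    haveI : Nontrivial (QuaternionAlgebra k a' 0 b') :=
      Module.nontrivial_of_finrank_pos (R := k) (by rw [QuaternionAlgebra.finrank_eq_four]; norm_num)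
    letI : DivisionRing (QuaternionAlgebra k a 0 b) :=
      DivisionRing.ofIsUnitOrEqZero fun z => or_iff_not_imp_right.mpr (hu z)
    letI : DivisionRing (QuaternionAlgebra k a' 0 b') :=
      DivisionRing.ofIsUnitOrEqZero fun z => or_iff_not_imp_right.mpr (hu' z)
    exact Groth.Agent.H29CSA.nonempty_algEquiv_of_matrix (k := k) (QuaternionAlgebra k a 0 b)
      (QuaternionAlgebra k a' 0 b') m m' (hm0 _ m he) (hm0 _ m' he') (he.some.symm.trans he'.some)

end Groth.Agent.S14211
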