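import Groth.Statements.S14216
import Groth.Agent.H23SB.Mult

set_option autoImplicit false
universe u
open CategoryTheory CategoryTheory.Limits AlgebraicGeometry
open ASBun

namespace Groth.Agent.S14216

/-- Let A be a central simple algebra of degree n ≥ 1 over a field k (of dimension n² over k), X a
proper k-scheme which is the Severi–Brauer scheme of A (for every commutative k-algebra R its
R-points over k are, naturally in R, the left ideals of R ⊗_k A with projective quotient of rank n²
− n), K an algebraic closure of k and e a K-isomorphism X_K ≅ P^{n−1}_K, along which O_e(j) denotes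
the pullback of the twisting sheaf O(j); suppose A has index 2 (A is a matrix algebra over a
division ring of dimension 4 over k). Let E be a finite locally free O_X-module which is absolutely
split: E_K is isomorphic to a finite direct sum of invertible O_{X_K}-modules. Then E ≅ (L_1 ⊕ ⋯ ⊕
L_s) ⊕ (M_1 ⊕ ⋯ ⊕ M_t) where each L_i is an invertible O_X-module with (L_i)_K ≅ O_e(2a_i) and each
M_i is an indecomposable finite locally free O_X-module (nonzero, and in any decomposition as a
direct sum one summand is zero) of rank 2 with (M_i)_K ≅ O_e(2b_i + 1)^{⊕2}, for integers a_i, b_i.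
(The published statement also records that s, t and the a_i, b_j are unique, which is the
Krull–Schmidt uniqueness and is not restated here.) -/
theorem result (k : Type u) [Field k] (A : Type u) [Ring A] [Algebra k A]
    [Algebra.IsCentral k A] [IsSimpleRing A] (n : ℕ) (hn : 0 < n)
    (hA : Module.finrank k A = n * n) {X : Scheme.{u}} (f : X ⟶ Spec (CommRingCat.of k))
    [IsProper f] (hX : BrSev.IsSBOf k A (n * n - n) f)
    (K : Type u) [Field K] [Algebra k K] [IsAlgClosure k K] (e : BrSev.Splitting f K (n - 1))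
    (hi : CSAGal.IsIndex k A 2) (E : X.Modules) (hE : FlatMod.IsFinLocFree E)
    (s₀ : ℕ) (Ns : Fin s₀ → (BrSev.bc f K).Modules) (hNs : ∀ i, PicF.IsInvertible (Ns i))
    (hsplit : Nonempty (BrSev.bcMod f K E ≅ ∐ Ns)) :
    ∃ (s t : ℕ) (Ls : Fin s → X.Modules) (Ms : Fin t → X.Modules) (a : Fin s → ℤ) (b : Fin t → ℤ),
      (∀ i, PicF.IsInvertible (Ls i) ∧ BrSev.IsTwPow e (2 * a i) 1 (Ls i)) ∧
      (∀ i, FlatMod.IsFinLocFree (Ms i) ∧
        (¬ IsZero (Ms i) ∧ ∀ M₁ M₂ : X.Modules, Nonempty ((Ms i) ≅ M₁ ⊞ M₂) → IsZero M₁ ∨ IsZero M₂) ∧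
        BrSev.IsTwPow e (2 * b i + 1) 2 (Ms i)) ∧
      Nonempty (E ≅ (∐ Ls) ⊞ (∐ Ms)) := by
  obtain ⟨N, rfl⟩ : ∃ N, n = N + 1 := ⟨n - 1, by omega⟩
  obtain ⟨hs⟩ := hsplit
  exact Groth.Agent.H23SB.decomposition_of_index_two (N := N) e hA hX hi hE Ns hNs hs

end Groth.Agent.S14216
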