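import Groth.Statements.S14217
import Groth.Agent.H23SB.Mult
import Groth.Agent.H22Alg.KModel
import Groth.Agent.H29RR.P1Split

set_option autoImplicit false
universe u
open CategoryTheory CategoryTheory.Limits AlgebraicGeometry
open ASBun

namespace Groth.Agent.S14217

/-- Let A be a non-split central simple algebra of degree 2 over a field k (of dimension 4 and not
isomorphic to the 2 × 2 matrices over k), X a proper k-scheme which is the Severi–Brauer scheme of A
(for every commutative k-algebra R its R-points over k are, naturally in R, the left ideals of R ⊗_k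
A with projective quotient of rank 2), so that X is a conic without rational point, K an algebraic
closure of k and e a K-isomorphism X_K ≅ P^1_K, with O_e(j) the pullback of O(j) along e. Then every
finite locally free O_X-module E decomposes as E ≅ (L_1 ⊕ ⋯ ⊕ L_s) ⊕ (M_1 ⊕ ⋯ ⊕ M_t) with each L_i
invertible and (L_i)_K ≅ O_e(2a_i), and each M_i indecomposable finite locally free (nonzero, and in
any decomposition as a direct sum one summand is zero) of rank 2 with (M_i)_K ≅ O_e(2b_i + 1)^{⊕2},
for integers a_i, b_i. (The published statement writes the invertible summands as tensor powers of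
the canonical module, which is such an L with (L)_K ≅ O(−2), and records uniqueness of the summands,
which is Krull–Schmidt and not restated here.) -/
theorem result (k : Type u) [Field k] (A : Type u) [Ring A]
    [Algebra k A] [Algebra.IsCentral k A] [IsSimpleRing A] (hA : Module.finrank k A = 4)
    (hns : ¬ Curves.Splits k A k) {X : Scheme.{u}} (f : X ⟶ Spec (CommRingCat.of k))
    [IsProper f] (hX : BrSev.IsSBOf k A 2 f)
    (K : Type u) [Field K] [Algebra k K] [IsAlgClosure k K] (e : BrSev.Splitting f K 1)
    (E : X.Modules) (hE : FlatMod.IsFinLocFree E) :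
    ∃ (s t : ℕ) (Ls : Fin s → X.Modules) (Ms : Fin t → X.Modules) (a : Fin s → ℤ) (b : Fin t → ℤ),
      (∀ i, PicF.IsInvertible (Ls i) ∧ BrSev.IsTwPow e (2 * a i) 1 (Ls i)) ∧
      (∀ i, FlatMod.IsFinLocFree (Ms i) ∧
        (¬ IsZero (Ms i) ∧ ∀ M₁ M₂ : X.Modules, Nonempty ((Ms i) ≅ M₁ ⊞ M₂) → IsZero M₁ ∨ IsZero M₂) ∧
        BrSev.IsTwPow e (2 * b i + 1) 2 (Ms i)) ∧
      Nonempty (E ≅ (∐ Ls) ⊞ (∐ Ms)) := by
  haveI : FiniteDimensional k A := FiniteDimensional.of_finrank_pos (by rw [hA]; norm_num)
  obtain ⟨d, hd⟩ := Groth.Agent.H23Brauer.exists_isIndex (k := k) A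
  have hi : CSAGal.IsIndex k A 2 := by
    rcases (Nat.dvd_prime Nat.prime_two).mp (Groth.Agent.H23Brauer.index_dvd_degree hd (n := 2) (by rw [hA]; rfl)) with
      rfl | rfl
    · exact absurd (Groth.Agent.H23Brauer.splits_iff_isIndex_one.mpr hd) hns
    · exact hd
  haveI : IsIntegral (BrSev.bc f K) := Groth.Agent.H23SB.isIntegral_bc e
  haveI : IsIntegral (CohB1.ProjSpace 1 K) := Groth.Agent.LeadPic.PnRel.isIntegral_projSpace (n := 1) K
  let F := (Scheme.Modules.pullback e.iso.inv).obj (BrSev.bcMod f K E)
  obtain ⟨s₀, hF⟩ := Groth.Agent.H22Alg.KModel.exists_rank (M := F) (Groth.Agent.H16Derived.KFlat.Stalk.isFinLocFree_pullback _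
    (Groth.Agent.H16Derived.KFlat.Stalk.isFinLocFree_pullback _ hE))
  obtain ⟨dd, -, ⟨θ⟩⟩ := Groth.Agent.H29RR.PnPic.exists_splitting (k := K) s₀ F hF
  haveI : PreservesColimitsOfSize.{0, 0} (Scheme.Modules.pullback e.iso.hom) :=
    (Scheme.Modules.pullbackPushforwardAdjunction _).leftAdjoint_preservesColimits
  exact Groth.Agent.H23SB.decomposition_of_index_two (N := 1) e (by rw [hA]) (by norm_num; exact hX) hi hE
    (fun i => e.twist (dd i)) (fun i => Groth.Agent.H23KS.Twist.isInvertible_twist e (dd i))
    (((Scheme.Modules.pullbackId _).app _).symm ≪≫ ((Scheme.Modules.pullbackCongr e.iso.hom_inv_id).app _).symm ≪≫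
      ((Scheme.Modules.pullbackComp e.iso.hom e.iso.inv).app _).symm ≪≫
      (Scheme.Modules.pullback e.iso.hom).mapIso θ ≪≫ PreservesCoproduct.iso _ _)

end Groth.Agent.S14217
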