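import Groth.Statements.S14230
import Groth.Agent.H21Root.Solid

set_option autoImplicit false
universe u v w x
open RootCh RootCh.Facet

namespace Groth.Agent.S14230

open Groth.Agent.H21Root RootPairing

/-- For a finite reduced crystallographic root system over a linearly ordered field and a facet F, the
vectors of F are exactly the linear combinations of the corners of F in which every corner of F
occurs with a strictly positive coefficient (written with a finitely supported coefficient function
supported inside the set of corners). -/
theorem result {ι : Type u} {R : Type v} {M : Type w} {N : Type x}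
    [Field R] [LinearOrder R] [IsStrictOrderedRing R]
    [AddCommGroup M] [Module R M] [AddCommGroup N] [Module R N] [Finite ι]
    (P : RootPairing ι R M N) [P.IsRootSystem] [P.IsCrystallographic] [P.IsReduced] (F : RootCh.Facet P) :
    F.carrier = {ξ : M | ∃ c : M →₀ R, (c.support : Set M) ⊆ F.corners ∧
      (∀ m ∈ F.corners, 0 < c m) ∧ c.sum (fun m r => r • m) = ξ} := by
  classical
  obtain ⟨b, hb⟩ := exists_cham F
  ext ξ
  constructor
  · intro hξ
    obtain ⟨hc, hz⟩ := (mem_carrier_iff hb).mp hξ
    have hspan := carrier_subset_span_corners F hξ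
    obtain ⟨c, hc1, hc2⟩ := Submodule.mem_span_set.mp hspan
    refine ⟨c, hc1, fun m hm => ?_, hc2⟩
    obtain ⟨i, hi, rfl⟩ := (corners_eq hb).subset hm
    have h1 : P.coroot' i ξ = c (RootCh.fundWeight b i) := by
      rw [← hc2, map_finsuppSum, Finsupp.sum, Finset.sum_eq_single (RootCh.fundWeight b i)]
      · rw [map_smul, RootCh.coroot'_fundWeight_self, smul_eq_mul, mul_one]
      · intro w hw hne
        obtain ⟨j, -, rfl⟩ := (corners_eq hb).subset (hc1 hw)
        rw [map_smul, RootCh.coroot'_fundWeight_of_ne b j i (fun e => hne (by rw [e])), smul_zero]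
      · intro h; rw [Finsupp.notMem_support_iff.mp h, zero_smul, map_zero]
    rw [← h1]
    exact (hc i i.2).lt_of_ne' fun h => hi ((hz i i.2).mp h)
  · rintro ⟨c, hc1, hc2, rfl⟩
    have h := sum_corners_mem_carrier F c hc2
    rwa [Finsupp.sum, Finset.sum_subset (fun w hw => (finite_corners F).mem_toFinset.mpr (hc1 hw))
      (fun w _ hw => by rw [Finsupp.notMem_support_iff.mp hw, zero_smul])]

end Groth.Agent.S14230
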