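import Groth.Statements.S14231
import Groth.Agent.H21Root.Solid

set_option autoImplicit false
universe u v w x
open RootCh RootCh.Facet

namespace Groth.Agent.S14231

open Groth.Agent.H21Root RootPairing

/-- For a finite reduced crystallographic root system over a linearly ordered field and a facet F with
dual facet F̌ (the facet of the dual root system with the same sign vector), the corners of F̌ are
exactly the fundamental coweights corresponding to the corners of F, where a fundamental weight and
a fundamental coweight correspond when they are attached to the same simple root of the same base. -/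
theorem result {ι : Type u} {R : Type v} {M : Type w} {N : Type x}
    [Field R] [LinearOrder R] [IsStrictOrderedRing R]
    [AddCommGroup M] [Module R M] [AddCommGroup N] [Module R N] [Finite ι]
    (P : RootPairing ι R M N) [P.IsRootSystem] [P.IsCrystallographic] [P.IsReduced] (F : RootCh.Facet P) :
    F.dualCorners = {y : N | ∃ m ∈ F.corners, RootCh.Corr P m y} := by
  classical
  obtain ⟨b, hb⟩ := exists_cham F
  have h1 : F.dualCorners = RootCh.fundCoweight b '' {i : b.support | F.sgn i ≠ 0} :=
    corners_eq (F := coF F) (mem_cham_coF hb)
  ext y
  rw [h1]
  constructor
  · rintro ⟨i, hi, rfl⟩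
    exact ⟨_, (mem_corners_iff hb i).mpr hi, (corr_iff b i).mpr rfl⟩
  · rintro ⟨m, hm, hy⟩
    obtain ⟨i, hi, rfl⟩ := (corners_eq hb).subset hm
    exact ⟨i, hi, ((corr_iff b i).mp hy).symm⟩

end Groth.Agent.S14231
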