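import Groth.Statements.S14233
import Groth.Agent.H21Root.Solid

set_option autoImplicit false
universe u v w x
open RootCh RootCh.Facet

namespace Groth.Agent.S14233

open Groth.Agent.H21Root RootPairing

/-- For a finite reduced crystallographic root system over a linearly ordered field, a facet F and a
corner m of F, there is a facet whose corners are exactly the corners of F other than m. -/
theorem result {ι : Type u} {R : Type v} {M : Type w} {N : Type x}
    [Field R] [LinearOrder R] [IsStrictOrderedRing R]
    [AddCommGroup M] [Module R M] [AddCommGroup N] [Module R N] [Finite ι]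
    (P : RootPairing ι R M N) [P.IsRootSystem] [P.IsCrystallographic] [P.IsReduced] (F : RootCh.Facet P) (m : M) (hm : m ∈ F.corners) :
    ∃ G : RootCh.Facet P, G.corners = F.corners \ {m} := by
  classical
  obtain ⟨b, hb⟩ := exists_cham F
  obtain ⟨i, hi, rfl⟩ := (corners_eq hb).subset hm
  let c : b.support → R := fun j => if j ≠ i ∧ F.sgn j ≠ 0 then 1 else 0
  have hdom : ∑ j, c j • RootCh.fundWeight b j ∈ RootCh.closedChamber b := fun a ha => by
    rw [coroot'_sum_fw b c ⟨a, ha⟩]; simp only [c]; split_ifs <;> norm_num
  refine ⟨RootCh.Facet.ofVec P (∑ j, c j • RootCh.fundWeight b j), ?_⟩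
  rw [corners_eq ((cham_iff (F := RootCh.Facet.ofVec P _) (ξ := ∑ j, c j • RootCh.fundWeight b j) rfl).mpr hdom),
    corners_eq hb, ← Set.image_singleton, ← Set.image_sdiff (fw_injective b)]
  congr 1
  ext j
  simp only [RootCh.Facet.ofVec, RootCh.sgnVec, Set.mem_ofPred_eq, Set.mem_sdiff, Set.mem_singleton_iff,
    coroot'_sum_fw, ne_eq, sign_eq_zero_iff, c]
  split_ifs with h <;> simp_all <;> tauto

end Groth.Agent.S14233
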