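import Groth.Statements.S14243
import Groth.Agent.H21Root.Solid

set_option autoImplicit false
universe u v w x
open RootCh

namespace Groth.Agent.S14243

open Groth.Agent.H21Root RootPairing

/-- For a finite reduced crystallographic root system over a linearly ordered field with a complementary
convex solid d (a vector d(b) of N for every Weyl chamber b, subject to (B1): a common corner of two
chambers pairs equally with their d-values, and (B2): across a wall, the root that changes sign from
positive to negative does not pair more with d on the positive side) and a facet F with dual facet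
F̌ in N and dual solid F(F), the convex hull of the d(b) over the chambers b adjacent to F: the two
conditions (S1) for every corner m of F the numerical invariant n(F, m), the sum of ⟨α, d(b)⟩ over
the elementary set of roots Ψ(F, m) for b adjacent to F, is positive, and (S2) F(F) meets the linear
span of F̌ (equivalently, the reduced root system with convex solid attached to F is semi-stable),
hold together if and only if F̌ itself meets F(F). (The published text takes (S1) and (S2), the
latter through the reduced system, as the definition of a special facet; this row states their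
equivalence with the condition F̌ ∩ F(F) ≠ ∅, the form in which specialness is expressed in the
companion results.) -/
theorem result {ι : Type u} {R : Type v} {M : Type w} {N : Type x}
    [Field R] [LinearOrder R] [IsStrictOrderedRing R]
    [AddCommGroup M] [Module R M] [AddCommGroup N] [Module R N] [Finite ι]
    (P : RootPairing ι R M N) [P.IsRootSystem] [P.IsCrystallographic] [P.IsReduced] (d : P.Base → N) (hd : RootCh.IsCCS d) (F : RootCh.Facet P) :
    ((∀ m ∈ F.corners, ∀ b ∈ F.cham, 0 < F.numInv d m b) ∧
        (RootCh.dualSolid d F ∩ (Submodule.span R F.dualCarrier : Set N)).Nonempty) ↔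
      RootCh.IsSpecial d F := by
  classical
  obtain ⟨b, hb⟩ := exists_cham F
  have key : ∀ y, y ∈ RootCh.dualSolid d F → y ∈ Submodule.span R F.dualCarrier → ∀ i : b.support, F.sgn i ≠ 0 →
      ∀ c ∈ F.cham, ∃ n : ℕ, 0 < n ∧ F.numInv d (RootCh.fundWeight b i) c = (n : R) * P.root' i y := by
    intro y hy hy' i hi c hc
    refine ⟨(Set.toFinite (F.Psi (RootCh.fundWeight b i))).toFinset.card, Finset.card_pos.mpr ⟨i, ?_⟩, ?_⟩
    · rw [Set.Finite.mem_toFinset, mem_Psi_iff hb]
      exact ⟨RootCh.root'_fundCoweight_self b i, fun j _ hne => RootCh.root'_fundCoweight_of_ne b j i (Ne.symm hne)⟩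
    rw [numInv_eq, ← eq_of_mem_dualSolid hd hy hc (sum_Psi_mem_span ((mem_corners_iff hb i).mpr hi)),
      map_sum, LinearMap.sum_apply, ← nsmul_eq_mul, ← Finset.sum_const]
    refine Finset.sum_congr rfl fun k hk => ?_
    rw [Set.Finite.mem_toFinset, mem_Psi_iff hb] at hk
    change P.root' k y = _
    conv_lhs => rw [← fw_expand (P := P.flip) b.flip y]
    refine (map_sum (P.root' k) _ _).trans ((Finset.sum_eq_single i ?_ (fun h => absurd (Finset.mem_univ _) h)).trans ?_)
    · intro j _ hne
      rw [map_smul]
      by_cases hj : F.sgn j = 0
      · rw [show P.flip.coroot' j y = P.root' j y from rfl, (mem_span_dualCarrier_iff hb).mp hy' j j.2 hj, zero_smul]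
      · change P.root' j y • P.root' k (RootCh.fundCoweight b j) = 0
        rw [hk.2 j hj hne, smul_zero]
    · rw [map_smul]
      change P.root' i y • P.root' k (RootCh.fundCoweight b i) = _
      rw [hk.1, smul_eq_mul, mul_one]
  constructor
  · rintro ⟨hS1, y, hy, hy'⟩
    refine ⟨y, (mem_dualCarrier_iff hb).mpr ?_, hy⟩
    have h0 : ∀ a ∈ b.support, F.sgn a = 0 → P.root' a y = 0 := (mem_span_dualCarrier_iff hb).mp hy'
    have hpos : ∀ a ∈ b.support, F.sgn a ≠ 0 → 0 < P.root' a y := fun a ha hne => by
      obtain ⟨n, hn, he⟩ := key y hy hy' ⟨a, ha⟩ hne b hb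
      have := hS1 _ ((mem_corners_iff hb ⟨a, ha⟩).mpr hne) b hb
      rw [he] at this
      exact pos_of_mul_pos_right this (by positivity)
    refine ⟨fun a ha => ?_, fun a ha => ⟨fun h => ?_, h0 a ha⟩⟩
    · by_cases h : F.sgn a = 0
      · exact (h0 a ha h).ge
      · exact (hpos a ha h).le
    · by_contra hne
      exact (hpos a ha hne).ne' h
  · rintro ⟨y, hy, hy'⟩
    refine ⟨fun m hm c hc => ?_, y, hy', Submodule.subset_span hy⟩
    obtain ⟨i, hi, rfl⟩ := (corners_eq hb).subset hm
    obtain ⟨n, hn, he⟩ := key y hy' (Submodule.subset_span hy) i hi c hc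
    rw [he]
    obtain ⟨h1, h2⟩ := (mem_dualCarrier_iff hb).mp hy
    exact mul_pos (by exact_mod_cast hn) ((h1 i i.2).lt_of_ne' fun h => hi ((h2 i i.2).mp h))

end Groth.Agent.S14243
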