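-- statement FlatMor.GrothFrozen.S1425 (Groth/Statements/S1425.lean; the theorem FlatMor.upperSemicontinuous_positive_weighting);
import Groth.Statements.S1425
import Groth.Agent.H7Weight.Basic

set_option autoImplicit false
universe u
open FlatMor

namespace Groth.Agent.S1425

open AlgebraicGeometry CategoryTheory Limits in
/-- A weighting of a locally quasi-finite morphism taking positive values is upper semicontinuous on X. -/
theorem result {X Y : Scheme.{u}} (f : X ⟶ Y) [LocallyQuasiFinite f] [LocallyOfFiniteType f] (w : ↑X → ℤ) (hw : MoreMor.IsWeighting f w) (hpos : ∀ x, 0 < w x) :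
    UpperSemicontinuous w := by
  exact Groth.Agent.H7Weight.upperSemicontinuous_of_pos hw hpos

end Groth.Agent.S1425
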