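import Groth.Statements.S14253
import Groth.Agent.H27Perf.UH2

set_option autoImplicit false
universe u
open CategoryTheory AlgebraicGeometry
open PerfSch

namespace Groth.Agent.S14253

/-- A universal homeomorphism f : X ⟶ Y between perfect schemes of prime characteristic p (on every open
of X and of Y, p = 0 in the ring of sections and the p-th power map is bijective) is an isomorphism. -/
theorem result (p : ℕ) [Fact p.Prime] {X Y : Scheme.{u}} (f : X ⟶ Y)
    (hX : PerfSch.IsPerfect p X) (hY : PerfSch.IsPerfect p Y) (hf : FlatMor.IsUnivHomeo f) : IsIso f := by
  exact Groth.Agent.H27Perf.isIso_of_isUnivHomeo_of_isPerfect f hX hY hf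

end Groth.Agent.S14253
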