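import Groth.Statements.S14258
import Groth.Agent.H18HTop.ProperFamily
import Groth.Agent.S4599

set_option autoImplicit false
set_option backward.isDefEq.respectTransparency false
universe u
open HTop

namespace Groth.Agent.S14258

open CategoryTheory CategoryTheory.Limits AlgebraicGeometry Opposite in
/-- Let S be a scheme and F a sheaf of sets on the big h site of S. Let Y be an affine scheme over S, f
: X ⟶ Y a proper surjective morphism of finite presentation over S which is an isomorphism over the
open complement U of a closed subscheme i : Z ⟶ Y of finite presentation, and E = X ×_Y Z with its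
projections e : E ⟶ X and π : E ⟶ Z. Then the square of sets of sections F(Y) → F(X), F(Z) → F(E) is
cartesian: a section over Z and a section over X with the same restriction to E come from exactly
one section over Y. (The published statement is for quasi-compact quasi-separated schemes of finite
presentation over a quasi-compact quasi-separated S and sheaves on those; this row works on all
S-schemes; with Y affine and f proper the four schemes are quasi-compact and quasi-separated.) -/
theorem result (S : Scheme.{u}) (F : HTop.ShH S)
    {E Z X Y : Over S} (e : E ⟶ X) (π : E ⟶ Z) (f : X ⟶ Y) (i : Z ⟶ Y) [IsAffine Y.left]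
    [IsProper f.left] [Surjective f.left] [LocallyOfFinitePresentation f.left]
    [IsClosedImmersion i.left] [LocallyOfFinitePresentation i.left]
    (hsq : IsPullback e.left π.left f.left i.left)
    (U : Y.left.Opens) (hU : (U : Set Y.left) = (Set.range i.left.base)ᶜ) (hiso : IsIso (f.left ∣_ U))
    (t : F.obj.obj (op Z)) (s' : F.obj.obj (op X)) (hts : F.obj.map π.op t = F.obj.map e.op s') :
    ∃! s : F.obj.obj (op Y), F.obj.map i.op s = t ∧ F.obj.map f.op s = s' := by
  have sep := @Groth.Agent.H18HTop.hSheaf_ext_of_proper.{u} S F
  -- uniqueness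
  have huniq : ∀ a b : F.obj.obj (op Y), F.obj.map f.op a = F.obj.map f.op b → a = b := by
    intro a b h
    exact sep (X' := Y) (I := PUnit) (X := fun _ => X) (fun _ => f)
      (fun y => ⟨PUnit.unit, f.left.surjective y⟩) fun _ => h
  -- compatibility on the fibre product
  have hmem := Groth.Agent.H18HTop.mem_over_of_singleton HTop.hPrecoverage f (by
    rw [← PreZeroHypercover.presieve₀_singleton.{u, u + 1, 0}, HTop.presieve₀_mem_hPrecoverage_iff]
    exact ⟨fun _ => ‹LocallyOfFinitePresentation f.left›,
      Groth.Agent.H18HTop.isVCover_singleton_of_hasValLift f.left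
        (Groth.Agent.H18HTop.hasValLift_singleton_of_universallyClosed f.left)⟩)
  have hsheaf := (Presieve.isSheafFor_iff_generate _).2
    (((isSheaf_iff_isSheaf_of_type _ _).1 F.property) _ hmem)
  rw [Presieve.isSheafFor_singleton] at hsheaf
  let ρ : pullback f.left f.left ⟶ Y.left := pullback.fst _ _ ≫ f.left
  let P : Over S := Over.mk (ρ ≫ Y.hom)
  let q₁ : P ⟶ X := Over.homMk (pullback.fst _ _) (by
    change pullback.fst _ _ ≫ X.hom = ρ ≫ Y.hom
    simp [ρ])
  let q₂ : P ⟶ X := Over.homMk (pullback.snd _ _) (by
    change pullback.snd _ _ ≫ X.hom = ρ ≫ Y.hom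
    rw [show ρ = pullback.snd _ _ ≫ f.left from pullback.condition, Category.assoc, Over.w f])
  have hkey : F.obj.map q₁.op s' = F.obj.map q₂.op s' := by
    let Δ : X ⟶ P := Over.homMk (pullback.diagonal f.left) (by
      change pullback.diagonal f.left ≫ ρ ≫ Y.hom = X.hom
      simp [ρ])
    let Q : Over S := Over.mk (pullback.fst ρ i.left ≫ P.hom)
    let k : Q ⟶ P := Over.homMk (pullback.fst ρ i.left) rfl
    let π' : Q ⟶ Z := Over.homMk (pullback.snd ρ i.left) (by
      change pullback.snd ρ i.left ≫ Z.hom = pullback.fst ρ i.left ≫ ρ ≫ Y.hom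
      rw [pullback.condition_assoc, Over.w i])
    have hl : ∀ q : P ⟶ X, q.left ≫ f.left = ρ → F.obj.map k.op (F.obj.map q.op s') = F.obj.map π'.op t := by
      intro q hq
      have hw : (k.left ≫ q.left) ≫ f.left = π'.left ≫ i.left := by
        rw [Category.assoc, hq]; exact pullback.condition
      have he : hsq.lift (k.left ≫ q.left) π'.left hw ≫ E.hom = Q.hom := by
        rw [← Over.w π, ← Category.assoc, hsq.lift_snd, Over.w π']
      let l : Q ⟶ E := Over.homMk (hsq.lift (k.left ≫ q.left) π'.left hw) he
      have e1 : k ≫ q = l ≫ e := Over.OverMorphism.ext (hsq.lift_fst _ _ hw).symm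
      have e2 : l ≫ π = π' := Over.OverMorphism.ext (hsq.lift_snd _ _ hw)
      have h1 := ConcreteCategory.congr_hom (congrArg (fun m => F.obj.map m.op) e1) s'
      have h2 := ConcreteCategory.congr_hom (congrArg (fun m => F.obj.map m.op) e2) t
      simp only [op_comp, Functor.map_comp, CategoryTheory.comp_apply] at h1 h2
      rw [h1, ← hts, h2]
    let Xf : ULift.{u} Bool → Over S := fun c => bif c.down then X else Q
    let ff : ∀ c, Xf c ⟶ P := fun c => match c with
      | ⟨true⟩ => Δ
      | ⟨false⟩ => k
    haveI : ∀ c, UniversallyClosed (ff c).left := fun c => match c with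
      | ⟨true⟩ => inferInstanceAs (UniversallyClosed (pullback.diagonal f.left))
      | ⟨false⟩ => inferInstanceAs (UniversallyClosed (pullback.fst ρ i.left))
    haveI : LocallyOfFinitePresentation (pullback.fst ρ i.left) :=
      MorphismProperty.pullback_fst (P := @LocallyOfFinitePresentation) _ _ inferInstance
    haveI : LocallyOfFinitePresentation (pullback.diagonal f.left) := Groth.Agent.S4599.result f.left
    haveI : ∀ c, LocallyOfFinitePresentation (ff c).left := fun c => match c with
      | ⟨true⟩ => inferInstanceAs (LocallyOfFinitePresentation (pullback.diagonal f.left))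
      | ⟨false⟩ => inferInstanceAs (LocallyOfFinitePresentation (pullback.fst ρ i.left))
    refine sep (X' := P) (I := ULift.{u} Bool) (X := Xf) ff (fun p => ?_) fun c => ?_
    · by_cases hp : ρ p ∈ U
      · haveI : IsIso (f.left ∣_ U) := hiso
        let O := ρ ⁻¹ᵁ U
        have hr : ∀ q : pullback f.left f.left ⟶ X.left, q ≫ f.left = ρ →
            Set.range (O.ι ≫ q) ⊆ Set.range (f.left ⁻¹ᵁ U).ι := by
          rintro q hq _ ⟨z, rfl⟩
          rw [Scheme.Opens.range_ι]
          show f.left ((O.ι ≫ q) z) ∈ U
          rw [← Scheme.Hom.comp_apply, Category.assoc, hq, Scheme.Hom.comp_apply]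
          exact z.2
        have h12 : O.ι ≫ pullback.fst f.left f.left = O.ι ≫ pullback.snd f.left f.left := by
          rw [← IsOpenImmersion.lift_fac _ _ (hr _ rfl),
            ← IsOpenImmersion.lift_fac _ _ (hr _ pullback.condition.symm)]
          congr 1
          rw [← cancel_mono (f.left ∣_ U), ← cancel_mono U.ι, Category.assoc, Category.assoc,
            morphismRestrict_ι, IsOpenImmersion.lift_fac_assoc, IsOpenImmersion.lift_fac_assoc,
            Category.assoc, Category.assoc, pullback.condition]
        have hO : O.ι = (O.ι ≫ pullback.fst f.left f.left) ≫ pullback.diagonal f.left :=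
          pullback.hom_ext (by simp) (by simp [h12])
        refine ⟨⟨true⟩, (O.ι ≫ pullback.fst f.left f.left) ⟨p, hp⟩, ?_⟩
        change pullback.diagonal f.left ((O.ι ≫ pullback.fst f.left f.left) ⟨p, hp⟩) = p
        rw [← Scheme.Hom.comp_apply, ← hO]
        rfl
      · have hp' : ρ p ∈ Set.range i.left.base := by
          by_contra h
          exact hp (show ρ p ∈ (U : Set Y.left) by rw [hU]; exact h)
        obtain ⟨z, hz⟩ := hp'
        obtain ⟨w, hw, -⟩ := Scheme.Pullback.exists_preimage_pullback (f := ρ) (g := i.left) p z hz.symm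
        exact ⟨⟨false⟩, w, hw⟩
    · match c with
      | ⟨true⟩ =>
        change F.obj.map Δ.op _ = F.obj.map Δ.op _
        rw [← CategoryTheory.comp_apply, ← CategoryTheory.comp_apply, ← Functor.map_comp,
          ← Functor.map_comp, ← op_comp, ← op_comp]
        congr 4
        refine Over.OverMorphism.ext ?_
        change pullback.diagonal f.left ≫ pullback.fst _ _ = pullback.diagonal f.left ≫ pullback.snd _ _
        simp
      | ⟨false⟩ =>
        change F.obj.map k.op _ = F.obj.map k.op _
        rw [hl q₁ rfl, hl q₂ pullback.condition.symm]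
  obtain ⟨s, hs, -⟩ := hsheaf s' fun {T} p₁ p₂ hp => by
    have hp' : p₁.left ≫ f.left = p₂.left ≫ f.left := congrArg (fun m => Over.Hom.left m) hp
    let r : T ⟶ P := Over.homMk (pullback.lift p₁.left p₂.left hp') (by
      change pullback.lift _ _ _ ≫ ρ ≫ Y.hom = T.hom
      simp [ρ])
    have e1 : r ≫ q₁ = p₁ := Over.OverMorphism.ext (pullback.lift_fst _ _ _)
    have e2 : r ≫ q₂ = p₂ := Over.OverMorphism.ext (pullback.lift_snd _ _ _)
    rw [← e1, ← e2, op_comp, op_comp, Functor.map_comp, Functor.map_comp,
      CategoryTheory.comp_apply, CategoryTheory.comp_apply, hkey]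
  refine ⟨s, ⟨?_, hs⟩, fun s₂ h₂ => huniq _ _ (h₂.2.trans hs.symm)⟩
  haveI : UniversallyClosed π.left := MorphismProperty.of_isPullback (P := @UniversallyClosed) hsq inferInstance
  haveI : LocallyOfFinitePresentation π.left :=
    MorphismProperty.of_isPullback (P := @LocallyOfFinitePresentation) hsq inferInstance
  haveI : Surjective π.left := MorphismProperty.of_isPullback (P := @Surjective) hsq inferInstance
  refine sep (X' := Z) (I := PUnit) (X := fun _ => E) (fun _ => π)
    (fun z => ⟨PUnit.unit, π.left.surjective z⟩) fun _ => ?_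
  have hcomm : π ≫ i = e ≫ f := Over.OverMorphism.ext hsq.w.symm
  rw [hts, ← CategoryTheory.comp_apply, ← Functor.map_comp, ← op_comp, hcomm, op_comp,
    Functor.map_comp, CategoryTheory.comp_apply, hs]

end Groth.Agent.S14258
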