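import Groth.Statements.S14259
import Groth.Agent.H27Perf.TorPerfect
import Groth.Agent.H16Derived.BaseChange.Main

set_option autoImplicit false
universe u
open CategoryTheory CategoryTheory.Limits AlgebraicGeometry
attribute [local instance] HasDerivedCategory.standard
open PerfSch

namespace Groth.Agent.S14259

/-- Let p be a prime and X' = X ×_Y Y' a cartesian square of schemes, f : X ⟶ Y quasi-compact and
quasi-separated, g : Y' ⟶ Y arbitrary, with projections g' : X' ⟶ X and f' : X' ⟶ Y', where X, Y and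
Y' are perfect of characteristic p (on every open, p = 0 in the ring of sections and the p-th power
map is bijective). Assume the unbounded derived direct images and derived pullbacks exist, with
adjunctions Lg^* ⊣ Rg_* and Lg'^* ⊣ Rg'_* given as data. Then for a suitable identification e of the
composite Rf_* ∘ Rg'_* with Rg_* ∘ Rf'_*, the base-change morphism Lg^* Rf_* K ⟶ Rf'_* Lg'^* K built
from these data is an isomorphism for every K in D(O_X) with quasi-coherent cohomology sheaves: base
change holds between perfect schemes without any flatness assumption. (The published statement takes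
all four schemes perfect, quasi-compact and quasi-separated; this row assumes X, Y and Y' perfect
and, of the finiteness conditions, keeps only that f is quasi-compact and quasi-separated.) -/
theorem result (p : ℕ) [Fact p.Prime] {X Y X' Y' : Scheme.{u}}
    (hX : PerfSch.IsPerfect p X) (hY : PerfSch.IsPerfect p Y) (hY' : PerfSch.IsPerfect p Y')
    (f : X ⟶ Y) [QuasiCompact f] [QuasiSeparated f] (g : Y' ⟶ Y) (f' : X' ⟶ Y') (g' : X' ⟶ X)
    (hsq : IsPullback g' f' f g)
    [DCoh.HasRpush f] [DCoh.HasRpush g] [DCoh.HasLpull g] [DCoh.HasRpush f'] [DCoh.HasRpush g']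
    [DCoh.HasLpull g'] (adjg : DCoh.Lpull g ⊣ DCoh.Rpush g) (adjg' : DCoh.Lpull g' ⊣ DCoh.Rpush g') :
    ∃ e : DCoh.Rpush g' ⋙ DCoh.Rpush f ≅ DCoh.Rpush f' ⋙ DCoh.Rpush g,
      ∀ K : DCoh.D X, DCoh.IsQCohD K → IsIso (DCoh.baseChangeApp adjg adjg' e K) := by
  have key : ∀ {Z : Scheme.{u}}, PerfSch.IsPerfect p Z → ∀ (A : CommRingCat.{u}) (a : Spec A ⟶ Z) [IsOpenImmersion a],
      (p : A) = 0 ∧ Groth.Agent.H27Perf.TorIndep.Perf p A := by
    intro Z hZ A a _
    let e : A ≅ Γ(Z, a ''ᵁ ⊤) := (Scheme.ΓSpecIso A).symm ≪≫ (a.appIso ⊤).symm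
    let E : A ≃+* Γ(Z, a ''ᵁ ⊤) := e.commRingCatIsoToRingEquiv
    obtain ⟨h0, h1⟩ := hZ (a ''ᵁ ⊤)
    refine ⟨E.injective (by rw [map_natCast, map_zero, h0]), ?_⟩
    show Function.Bijective fun b : A => b ^ p
    have h2 : (fun b : A => b ^ p) = E.symm ∘ (fun s : Γ(Z, a ''ᵁ ⊤) => s ^ p) ∘ E := by
      funext b; simp
    rw [h2]
    exact E.symm.bijective.comp (h1.comp E.bijective)
  refine Groth.Agent.H16Derived.BaseChange.exists_baseChangeApp_iso hsq ?_ adjg adjg'
  intro A A' B a a' b _ _ _ φ ψ _ _ n hn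
  obtain ⟨hA0, hA⟩ := key hY A a
  obtain ⟨_, hA'⟩ := key hY' A' a'
  obtain ⟨_, hB⟩ := key hX B b
  algebraize [φ.hom, ψ.hom]
  obtain ⟨k, rfl⟩ := Nat.exists_eq_succ_of_ne_zero hn.ne'
  rcases subsingleton_or_nontrivial (A : Type u) with hsub | hnt
  · haveI : Subsingleton (A' : Type u) := Module.subsingleton A A'
    haveI : Module.Flat A (ModuleCat.of A A') := inferInstanceAs (Module.Flat A A')
    haveI : Subsingleton (B : Type u) := Module.subsingleton A B
    haveI : Module.Flat A (ModuleCat.of A B) := inferInstanceAs (Module.Flat A B)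
    exact ModuleCat.subsingleton_of_isZero
      (Groth.Agent.H1CAlg.isZero_Tor_of_flat (ModuleCat.of A A') (ModuleCat.of A B) k)
  · haveI : CharP A p := (CharP.charP_iff_prime_eq_zero Fact.out).mpr hA0
    exact ModuleCat.subsingleton_of_isZero (Groth.Agent.H27Perf.TorPerfect.isZero_tor p A A' B hA hA' hB k)

end Groth.Agent.S14259
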