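import Groth.Statements.S14261
import Groth.Agent.H27Perf.Compact

set_option autoImplicit false
universe u
open CategoryTheory
open FrobAlg
open Groth.Agent.H27Perf

namespace Groth.Agent.S14261

/-- Let p be a prime, B a perfect ring of characteristic p and A a perfect B-algebra (p = 0 in A and the
p-th power map of A is bijective). Suppose A is a finitely presentable object of the category of
perfect B-algebras (the full subcategory of B-algebras on the perfect ones): B-algebra maps from A
into a filtered colimit of perfect B-algebras factor through some term of the system, uniquely after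
passing to a later term. Then A is perfectly finitely presented over B: there are a finitely
presented B-algebra A₀ and a B-algebra homomorphism k : A₀ → A which exhibits A as a perfect closure
of A₀ (every element of A has some p^n-th power in the image of k, and every element of the kernel
of k is nilpotent). (The published statement is the equivalence, for morphisms of quasi-compact
quasi-separated perfect schemes, of perfect finite presentation with a compactness condition ranging
over cofiltered systems of perfect schemes with affine transition maps; this row is the case of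
affine schemes with the compactness condition tested on affine systems only, which is all the
published argument uses.) -/
theorem result (p : ℕ) [Fact p.Prime] (B : CommRingCat.{u})
    [CharP B p] [PerfectRing B p]
    (A : ObjectProperty.FullSubcategory fun Y : Under B => (p : Y.right) = 0 ∧ Function.Bijective fun y : Y.right => y ^ p)
    [IsFinitelyPresentable.{u} A] :
    ∃ (A₀ : Type u) (_ : CommRing A₀) (_ : Algebra B A₀) (_ : Algebra.FinitePresentation B A₀)
      (k : A₀ →+* A.obj.right), k.comp (algebraMap B A₀) = A.obj.hom.hom ∧ IsPRadical k p := by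
  let alg : Algebra B A.obj.right := A.obj.hom.hom.toAlgebra
  have hA : PerfR p A.obj.right := A.property
  let ev : ∀ S : Finset A.obj.right, MvPolynomial S B →+* A.obj.right := evalSet B A.obj.right
  let ι : Type u := Stage B A.obj.right
  have hB : (p : B) = 0 := CharP.cast_eq_zero B p
  choose P instP φ hP hφ hu using fun i : ι =>
    exists_perfClosure (p := p) (MvPolynomial i.S B ⧸ i.F)
      (natCast_map (algebraMap B (MvPolynomial i.S B ⧸ i.F)) hB)
  choose t ht using fun (i j : ι) (h : i ≤ j) => hu i (P j) (hP j)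
    ((φ j).comp (Ideal.quotientMap j.F (renameSet h.1) (fun g hg => h.2 g hg)))
  choose f hf using fun i : ι => hu i A.obj.right hA (Ideal.Quotient.lift i.F (ev i.S) i.le_ker)
  have ht' : ∀ i j h g, t i j h (φ i (Ideal.Quotient.mk _ g)) =
      φ j (Ideal.Quotient.mk _ (renameSet h.1 g)) := fun i j h g => by
    rw [← RingHom.comp_apply (t i j h) (φ i), ht]; rfl
  have hf' : ∀ i g, f i (φ i (Ideal.Quotient.mk _ g)) = ev i.S g := fun i g => by
    rw [← RingHom.comp_apply (f i) (φ i), hf]; rfl
  have hevC : ∀ S b, ev S (MvPolynomial.C b) = A.obj.hom.hom b := fun S b => by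
    change MvPolynomial.aeval (R := B) _ (MvPolynomial.C b) = _
    rw [MvPolynomial.aeval_C]; rfl
  obtain ⟨i, l, hlB, hl⟩ := exists_section_of_system (p := p) A
    (fun i => CommRingCat.of (P i))
    (fun i => (φ i).comp ((Ideal.Quotient.mk i.F).comp MvPolynomial.C)) hP t
    (fun i j h => RingHom.ext fun b => by
      simp only [RingHom.comp_apply, ht']
      congr 2
      exact MvPolynomial.rename_C _ b)
    (fun i => (hφ i).ext_hom (hP i) (Ideal.Quotient.ringHom_ext (RingHom.ext fun g => by
      simp only [RingHom.comp_apply, ht', renameSet_self, RingHom.id_apply])))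
    (fun i j k h h' => (hφ i).ext_hom (hP k) (Ideal.Quotient.ringHom_ext (RingHom.ext fun g => by
      simp only [RingHom.comp_apply, ht', renameSet_trans])))
    f (fun i => RingHom.ext fun b => by simp only [RingHom.comp_apply, hf', hevC])
    (fun i j h => (hφ i).ext_hom hA (Ideal.Quotient.ringHom_ext (RingHom.ext fun g => by
      simp only [RingHom.comp_apply, ht', hf']; exact evalSet_rename _ g)))
    (fun x => ⟨⟨{x}, ⊥, Submodule.fg_bot, bot_le⟩,
      φ _ (Ideal.Quotient.mk _ (MvPolynomial.X ⟨x, Finset.mem_singleton_self x⟩)), by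
      rw [hf']; exact MvPolynomial.aeval_X _ _⟩)
    (fun i y hy => by
      obtain ⟨n, r, hr⟩ := (hφ i).pow_mem y
      obtain ⟨g, rfl⟩ := Ideal.Quotient.mk_surjective r
      have hg : ev i.S g = 0 := by
        rw [← hf', hr, map_pow, hy, zero_pow (pow_ne_zero n (Fact.out : p.Prime).ne_zero)]
      refine ⟨⟨i.S, i.F ⊔ Ideal.span {g}, Submodule.FG.sup i.fg (Submodule.fg_span_singleton g),
        sup_le i.le_ker ((Ideal.span_singleton_le_iff_mem _).2 hg)⟩,
        ⟨subset_rfl, fun q hq => by rw [renameSet_self]; exact Submodule.mem_sup_left hq⟩, ?_⟩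
      refine (hP _).eq_zero (n := n) ?_
      rw [← map_pow, ← hr, ht', renameSet_self,
        Ideal.Quotient.eq_zero_iff_mem.2
          (Submodule.mem_sup_right (Ideal.mem_span_singleton_self g)), map_zero])
  obtain ⟨S, F, hFfg, hFev⟩ := i
  let π : MvPolynomial S B →+* P ⟨S, F, hFfg, hFev⟩ :=
    (φ ⟨S, F, hFfg, hFev⟩).comp (Ideal.Quotient.mk F)
  have hπ : ∀ g, f ⟨S, F, hFfg, hFev⟩ (π g) = ev S g := hf' ⟨S, F, hFfg, hFev⟩
  have hl' : ∀ z, f ⟨S, F, hFfg, hFev⟩ (l z) = z := RingHom.congr_fun hl
  choose n r hr using fun x : S => (hφ ⟨S, F, hFfg, hFev⟩).pow_mem (l x)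
  choose q hq using fun x : S => Ideal.Quotient.mk_surjective (r x)
  let m := Finset.univ.sup n
  let h : S → MvPolynomial S B := fun x => q x ^ p ^ (m - n x)
  have hh : ∀ x, π (h x) = l x ^ p ^ m := fun x => by
    have : π (q x) = l x ^ p ^ n x := by
      rw [← hr x, ← hq x]; rfl
    rw [map_pow, this, ← pow_mul, ← pow_add,
      Nat.add_sub_cancel' (Finset.le_sup (Finset.mem_univ x))]
  let J : Ideal (MvPolynomial S B) :=
    F ⊔ Ideal.span (Set.range fun x => h x - MvPolynomial.X x ^ p ^ m)
  have hJ : J ≤ RingHom.ker (ev S) := sup_le hFev <| by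
    rw [Ideal.span_le]
    rintro _ ⟨x, rfl⟩
    rw [SetLike.mem_coe, RingHom.mem_ker, map_sub, sub_eq_zero, ← hπ (h x), hh, map_pow, hl', map_pow]
    congr 1
    exact (MvPolynomial.aeval_X (R := B) _ x).symm
  refine ⟨MvPolynomial S B ⧸ J, inferInstance, inferInstance,
    Algebra.FinitePresentation.quotient (Submodule.FG.sup hFfg (Submodule.fg_span (Set.finite_range _))),
    Ideal.Quotient.lift J (ev S) hJ, RingHom.ext fun b => hevC S b, ⟨fun z => ?_, ?_⟩⟩
  · obtain ⟨k, r', hr'⟩ := (hφ ⟨S, F, hFfg, hFev⟩).pow_mem (l z)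
    obtain ⟨g, rfl⟩ := Ideal.Quotient.mk_surjective r'
    refine ⟨k, Ideal.Quotient.mk J g, ?_⟩
    rw [Ideal.Quotient.lift_mk, ← hπ]
    change f _ (φ _ _) = _
    rw [hr', map_pow, hl']
  · intro w hw
    obtain ⟨g, rfl⟩ := Ideal.Quotient.mk_surjective w
    rw [RingHom.mem_ker, Ideal.Quotient.lift_mk] at hw
    have hQ : (p : MvPolynomial S B ⧸ J) = 0 :=
      natCast_map (algebraMap B (MvPolynomial S B ⧸ J)) hB
    let Fm : ∀ (T : Type u) [CommRing T], (p : T) = 0 → T →+* T := fun T _ hT =>
      { toFun := fun x => x ^ p ^ m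
        map_one' := one_pow _
        map_mul' := fun x y => mul_pow x y _
        map_zero' := zero_pow (pow_ne_zero m (Fact.out : p.Prime).ne_zero)
        map_add' := fun x y => add_pow' hT x y m }
    let E : MvPolynomial S B →+* MvPolynomial S B :=
      MvPolynomial.eval₂Hom (MvPolynomial.C.comp (Fm B hB)) h
    have e1 : π.comp E = ((Fm _ (hP _).1).comp l).comp (ev S) := by
      refine MvPolynomial.ringHom_ext (fun b => ?_) fun x => ?_
      · change π (E (MvPolynomial.C b)) = l (ev S (MvPolynomial.C b)) ^ p ^ m
        rw [MvPolynomial.eval₂Hom_C, hevC]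
        change _ = (l.comp A.obj.hom.hom) b ^ p ^ m
        rw [hlB]
        change π (MvPolynomial.C (b ^ p ^ m)) = π (MvPolynomial.C b) ^ p ^ m
        rw [map_pow, map_pow]
      · change π (E (MvPolynomial.X x)) = l (ev S (MvPolynomial.X x)) ^ p ^ m
        rw [MvPolynomial.eval₂Hom_X', hh]
        congr 2
        exact (MvPolynomial.aeval_X (R := B) _ x).symm
    have e2 : (Ideal.Quotient.mk J).comp E = (Fm _ hQ).comp (Ideal.Quotient.mk J) := by
      refine MvPolynomial.ringHom_ext (fun b => ?_) fun x => ?_
      · change Ideal.Quotient.mk J (E (MvPolynomial.C b)) = _ ^ p ^ m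
        rw [MvPolynomial.eval₂Hom_C]
        change Ideal.Quotient.mk J (MvPolynomial.C (b ^ p ^ m)) = _
        rw [map_pow, map_pow]
      · change Ideal.Quotient.mk J (E (MvPolynomial.X x)) = _ ^ p ^ m
        rw [MvPolynomial.eval₂Hom_X', ← map_pow, Ideal.Quotient.eq]
        exact Submodule.mem_sup_right (Ideal.subset_span ⟨x, rfl⟩)
    have h0 : π (E g) = 0 := by
      rw [← RingHom.comp_apply, e1, RingHom.comp_apply, hw, map_zero]
    obtain ⟨k, hk⟩ := (hφ ⟨S, F, hFfg, hFev⟩).ker _ h0
    rw [mem_pNilradical]
    refine ⟨m + k, ?_⟩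
    rw [pow_add, pow_mul]
    have h1 : Ideal.Quotient.mk J g ^ p ^ m = Ideal.Quotient.mk J (E g) :=
      (RingHom.congr_fun e2 g).symm
    rw [h1, ← map_pow, Ideal.Quotient.eq_zero_iff_mem]
    rw [← map_pow, Ideal.Quotient.eq_zero_iff_mem] at hk
    exact Submodule.mem_sup_left hk

end Groth.Agent.S14261
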