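import Groth.Statements.S14262
import Groth.Agent.H27Frob.Closure

set_option autoImplicit false
universe u
open FrobAlg

namespace Groth.Agent.S14262

/-- Let p be a prime, A a perfect ring of characteristic p and f ∈ A. The radical of the principal ideal
(f) — equivalently the ideal generated by all p^n-th roots of f, n ≥ 0 — is a flat A-module. -/
theorem result (p : ℕ) [Fact p.Prime] (A : Type u) [CommRing A]
    [CharP A p] [PerfectRing A p] (f : A) :
    Module.Flat A ((Ideal.span {f}).radical) := by
  exact Groth.Agent.H27Frob.flat_radical_span_singleton (Groth.Agent.H27Frob.perfR_of_perfectRing (p := p) A) f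

end Groth.Agent.S14262
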