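import Groth.Statements.S14267
import Groth.Agent.H25DTen.BcPseudo

set_option autoImplicit false
universe u
open CategoryTheory CategoryTheory.Limits MonoidalCategory
attribute [local instance] HasDerivedCategory.standard
open DTen

namespace Groth.Agent.S14267

/-- For a commutative ring `R`, an `R`-algebra `R'` of finite tor dimension as an `R`-module, an object
`K` of `D(R)` that is pseudo-coherent (isomorphic to a bounded above complex of finite free modules)
and an object `M` of `D^+(R)` (its cohomology vanishes below some degree `n`), the base change
morphism `RHom_R(K, M) ⊗^L_R R' ⟶ RHom_{R'}(K ⊗^L_R R', M ⊗^L_R R')` in `D(R')` (along the structure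
map `R → R'`) is an isomorphism. The invertibility of the canonical comparison `RHom_{R'}(K ⊗^L_R
R', M ⊗^L_R R')|_R ⟶ RHom_R(K, (M ⊗^L_R R')|_R)`, through whose inverse the morphism is defined, is
carried as a hypothesis. (The existence of the derived tensor products on `D(R)` and `D(R')`, of the
internal homs `RHom`, of derived base change and of the restriction-of-scalars comparison for the
derived tensor product, with the invertibility of the latter's second leg, are assumed as
hypotheses; they hold for every ring map.) -/
theorem result (R R' : Type u) [CommRing R] [CommRing R']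
    [Algebra R R'] [DTen.HasLTen R] [DTen.HasLTen R'] [DTen.HasRHom R] [DTen.HasRHom R'] [DTen.HasLBase (algebraMap R R')]
    [DTen.HasResTen (algebraMap R R')] [DTen.ResLegIso (algebraMap R R')] (K M : Dual.D R)
    [IsIso (DTen.rhomBC (algebraMap R R') K ((DTen.LBase (algebraMap R R')).obj M))]
    (hR' : DRing.HasFiniteTorDim R R') (hK : DRing.IsPseudoCoherent' R K) (n : ℤ) (hM : DerivedCategory.IsGE M n) :
    IsIso (DTen.bcRHom (algebraMap R R') K M) := by
  exact Groth.Agent.H25DTen.isIso_bcRHom_of_torDim K M hR' hK n hM

end Groth.Agent.S14267
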