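import Groth.Statements.S14274
import Groth.Agent.H18CodimTwo.Hom

set_option autoImplicit false
universe u
open scoped CategoryTheory.Obj
open NonAbH1

namespace Groth.Agent.S14274

open AlgebraicGeometry CategoryTheory CategoryTheory.Limits MonoidalCategory in
/-- Let X be a scheme, G a finite locally free X-group scheme (finite, flat and locally of finite
presentation over X, not necessarily commutative), and U an open subscheme of X whose inclusion is
quasi-compact, such that for every point z of X outside U the local ring of X at z is regular of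
Krull dimension at least 2. Let Q₁ and Q₂ be fppf G-torsors over X. Then every U-morphism between
their base changes to U that is equivariant for the base-changed group is the base change of a
unique G-equivariant X-morphism Q₁ -> Q₂. (With the essential-surjectivity row this is the statement
that pullback is an equivalence from G-torsors over X to torsors over U under the base change of G.) -/
theorem result {X : Scheme.{u}} (G : Over X) [GrpObj G]
    [IsFinite G.hom] [Flat G.hom] [LocallyOfFinitePresentation G.hom]
    (U : X.Opens) [QuasiCompact U.ι]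
    (hZ : ∀ z : X, z ∉ U → IsRegularLocalRing (X.presheaf.stalk z) ∧ (2 : WithBot ℕ∞) ≤ ringKrullDim (X.presheaf.stalk z))
    (Q₁ Q₂ : Over X) (a₁ : AlgGrp.Action G Q₁) (a₂ : AlgGrp.Action G Q₂)
    (h₁ : NonAbH1.IsTorsorFor Scheme.fppfPrecoverage a₁) (h₂ : NonAbH1.IsTorsorFor Scheme.fppfPrecoverage a₂)
    (h' : (Over.pullback U.ι).obj Q₁ ⟶ (Over.pullback U.ι).obj Q₂)
    (hh' : (Functor.LaxMonoidal.μ (Over.pullback U.ι) G Q₁ ≫ (Over.pullback U.ι).map a₁.act) ≫ h' =
      ((Over.pullback U.ι).obj G ◁ h') ≫ (Functor.LaxMonoidal.μ (Over.pullback U.ι) G Q₂ ≫ (Over.pullback U.ι).map a₂.act)) :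
    ∃! h : Q₁ ⟶ Q₂, a₁.act ≫ h = (G ◁ h) ≫ a₂.act ∧ (Over.pullback U.ι).map h = h' := by
  exact Groth.Agent.H18CodimTwo.hom_torsor U hZ G a₁ a₂ h₁ h₂ h' hh'

end Groth.Agent.S14274
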