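import Groth.Statements.S14275
import Mathlib.RingTheory.AdicCompletion.Exactness
import Mathlib.RingTheory.Regular.RegularSequence
import Mathlib.Tactic.LinearCombination.Lemmas
import Mathlib.Tactic.LinearCombination
import Mathlib.Tactic.Ring

set_option autoImplicit false
universe u
open CAlg

namespace Groth.Agent.S14275

open RingTheory.Sequence in
/-- Let A be a commutative ring, a an element of A with a-adic completion A^, and a_1, ..., a_n a weakly
regular sequence on A such that for each i = 0, ..., n the quotient A/(a_1, ..., a_i) has bounded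
a-power torsion (some fixed power of a kills every element killed by a power of a). Then the images
of a_1, ..., a_n form a weakly regular sequence on A^, and the canonical map from A^ to the a-adic
completion of A/(a_1, ..., a_n) is surjective with kernel the ideal generated by the images of a_1,
..., a_n. -/
theorem result (A : Type u) [CommRing A] (a : A) (rs : List A)
    (hreg : IsWeaklyRegular A rs)
    (hbd : ∀ i ≤ rs.length, ∃ N : ℕ, ∀ x : A ⧸ Ideal.ofList (rs.take i), (∃ m : ℕ, a ^ m • x = 0) → a ^ N • x = 0) :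
    IsWeaklyRegular (AdicCompletion (Ideal.span {a}) A)
        (rs.map (algebraMap A (AdicCompletion (Ideal.span {a}) A))) ∧
      Function.Surjective (AdicCompletion.map (Ideal.span {a}) (Ideal.ofList rs).mkQ) ∧
      LinearMap.ker (AdicCompletion.map (Ideal.span {a}) (Ideal.ofList rs).mkQ) =
        (Ideal.ofList rs).map (algebraMap A (AdicCompletion (Ideal.span {a}) A)) := by
  classical
  let π := fun I : Ideal A ↦ AdicCompletion.map (Ideal.span {a}) (Submodule.mkQ I)
  -- membership in the kernel, in terms of representatives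
  have hker : ∀ (I : Ideal A) (x : AdicCompletion.AdicCauchySequence (Ideal.span {a}) A),
      AdicCompletion.mk (Ideal.span {a}) A x ∈ LinearMap.ker (π I) ↔
        ∀ n, x.val n ∈ I ⊔ Ideal.span {a ^ n} := by
    intro I x
    rw [LinearMap.mem_ker]
    show AdicCompletion.map (Ideal.span {a}) (Submodule.mkQ I) _ = 0 ↔ _
    rw [AdicCompletion.map_mk]
    have key : ∀ n, ((Submodule.Quotient.mk (Submodule.mkQ I (x.val n)) :
        (A ⧸ I) ⧸ ((Ideal.span {a}) ^ n • ⊤ : Submodule A (A ⧸ I))) = 0) ↔
        x.val n ∈ I ⊔ Ideal.span {a ^ n} := fun n ↦ by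
      rw [Submodule.Quotient.mk_eq_zero, ← Submodule.range_mkQ I, ← Submodule.map_top,
        ← Submodule.map_smul'', ← Submodule.mem_comap, Submodule.comap_map_mkQ, smul_eq_mul,
        Ideal.mul_top, Ideal.span_singleton_pow]
    refine ⟨fun h n ↦ (key n).mp (congrArg (fun w ↦ w.val n) h), fun h ↦ AdicCompletion.ext fun n ↦ (key n).mpr (h n)⟩
  have hle : ∀ I : Ideal A, (I.map (algebraMap A (AdicCompletion (Ideal.span {a}) A)) : Ideal (AdicCompletion (Ideal.span {a}) A)) ≤ LinearMap.ker (π I) := fun I ↦ by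
    refine Ideal.map_le_iff_le_comap.mpr fun i hi ↦ ?_
    obtain ⟨o, ho⟩ := AdicCompletion.mk_surjective (Ideal.span {a}) A (1 : (AdicCompletion (Ideal.span {a}) A))
    show algebraMap A (AdicCompletion (Ideal.span {a}) A) i ∈ LinearMap.ker (π I)
    rw [Algebra.algebraMap_eq_smul_one, ← ho, ← map_smul]
    exact (hker I (i • o)).mpr fun n ↦ Ideal.mem_sup_left (Ideal.mul_mem_right _ _ hi)
  let P : Ideal A → Prop := fun I ↦ ∀ x, x ∈ LinearMap.ker (π I) → x ∈ I.map (algebraMap A (AdicCompletion (Ideal.span {a}) A))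
  -- one step
  have hstep : ∀ (I : Ideal A) (r : A), P I → (∀ b, r * b ∈ I → b ∈ I) →
      (∃ N, ∀ (m : ℕ) b, a ^ m * b ∈ I ⊔ Ideal.span {r} → a ^ N * b ∈ I ⊔ Ideal.span {r}) →
      P (I ⊔ Ideal.span {r}) ∧
        ∀ x : (AdicCompletion (Ideal.span {a}) A), algebraMap A (AdicCompletion (Ideal.span {a}) A) r * x ∈ I.map (algebraMap A (AdicCompletion (Ideal.span {a}) A)) → x ∈ I.map (algebraMap A (AdicCompletion (Ideal.span {a}) A)) := by
    rintro I r hPI hr ⟨N, hN⟩
    have hdiv : ∀ (M : ℕ) (b : A), N ≤ M → r * b ∈ I ⊔ Ideal.span {a ^ M} →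
        b ∈ I ⊔ Ideal.span {a ^ (M - N)} := by
      intro M b hM hb
      obtain ⟨i, hi, c, hc, hic⟩ := Submodule.mem_sup.mp hb
      obtain ⟨y, rfl⟩ := Ideal.mem_span_singleton'.mp hc
      have h1 : a ^ M * y ∈ I ⊔ Ideal.span {r} :=
        Submodule.mem_sup.mpr ⟨-i, neg_mem hi, r * b,
          Ideal.mul_mem_right _ _ (Ideal.mem_span_singleton_self r), by rw [← hic]; ring⟩
      obtain ⟨i', hi', c', hc', hic'⟩ := Submodule.mem_sup.mp (hN M y h1)
      obtain ⟨z, rfl⟩ := Ideal.mem_span_singleton'.mp hc'
      refine Submodule.mem_sup.mpr ⟨b - a ^ (M - N) * z, hr _ ?_, a ^ (M - N) * z,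
        Ideal.mul_mem_right _ _ (Ideal.mem_span_singleton_self _), sub_add_cancel _ _⟩
      have hpow : a ^ (M - N) * a ^ N = a ^ M := by rw [← pow_add, Nat.sub_add_cancel hM]
      have : r * (b - a ^ (M - N) * z) = i + a ^ (M - N) * i' := by
        linear_combination -hic - y * hpow - a ^ (M - N) * hic'
      rw [this]
      exact add_mem hi (Ideal.mul_mem_left _ _ hi')
    refine ⟨fun x hx ↦ ?_, fun x hx ↦ ?_⟩
    · obtain ⟨x, rfl⟩ := AdicCompletion.mk_surjective (Ideal.span {a}) A x
      rw [hker] at hx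
      have hex : ∀ n, ∃ y, x.val n - r * y ∈ I ⊔ Ideal.span {a ^ n} := fun n ↦ by
        obtain ⟨u, hu, v, hv, huv⟩ := Submodule.mem_sup.mp (hx n)
        obtain ⟨i, hi, w, hw, hiw⟩ := Submodule.mem_sup.mp hu
        obtain ⟨y, rfl⟩ := Ideal.mem_span_singleton'.mp hw
        refine ⟨y, Submodule.mem_sup.mpr ⟨i, hi, v, hv, ?_⟩⟩
        rw [← huv, ← hiw]; ring
      choose y hy using hex
      let q : ℕ → A := fun n ↦ y (n + N)
      have hxc : ∀ {m n : ℕ}, m ≤ n → x.val m - x.val n ∈ Ideal.span {a ^ m} := fun {m n} h ↦ by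
        have := SModEq.sub_mem.mp (x.property h)
        rwa [smul_eq_mul, Ideal.mul_top, Ideal.span_singleton_pow] at this
      have hmono : ∀ {m n : ℕ}, m ≤ n → Ideal.span {a ^ n} ≤ Ideal.span {a ^ m} := fun h ↦
        Ideal.span_singleton_le_span_singleton.mpr (pow_dvd_pow a h)
      -- adjust by `I` to get a Cauchy sequence
      have hdiff : ∀ n, ∃ i ∈ I, q (n + 1) - q n - i ∈ Ideal.span {a ^ n} := by
        intro n
        have h1 : r * (q (n + 1) - q n) ∈ I ⊔ Ideal.span {a ^ (n + N)} := by
          have e : r * (q (n + 1) - q n) = (x.val (n + 1 + N) - x.val (n + N)) -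
              (x.val (n + 1 + N) - r * q (n + 1)) + (x.val (n + N) - r * q n) := by ring
          rw [e]
          refine add_mem (sub_mem ?_ (sup_le_sup_left (hmono (by omega)) I (hy _))) (hy _)
          exact Ideal.mem_sup_right (by rw [← neg_sub]; exact neg_mem (hxc (by omega)))
        have h2 := hdiv (n + N) _ (by omega) h1
        rw [Nat.add_sub_cancel] at h2
        obtain ⟨i, hi, c, hc, hic⟩ := Submodule.mem_sup.mp h2
        exact ⟨i, hi, by rw [← hic, add_sub_cancel_left]; exact hc⟩
      choose δ hδI hδ using hdiff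
      let w : ℕ → A := fun n ↦ q n - ∑ j ∈ Finset.range n, δ j
      have hwc : ∀ {m n : ℕ}, m ≤ n → w m ≡ w n [SMOD (Ideal.span {a} ^ m • ⊤ : Submodule A A)] := by
        intro m n h
        induction n, h using Nat.le_induction with
        | base => rfl
        | succ n h ih =>
          refine ih.trans ?_
          rw [SModEq.sub_mem, smul_eq_mul, Ideal.mul_top, Ideal.span_singleton_pow, ← neg_mem_iff, neg_sub]
          have e : w (n + 1) - w n = q (n + 1) - q n - δ n := by
            simp only [w, Finset.sum_range_succ]; ring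
          rw [e]
          exact hmono h (hδ n)
      let ws : AdicCompletion.AdicCauchySequence (Ideal.span {a}) A := ⟨w, hwc⟩
      have hrest : AdicCompletion.mk (Ideal.span {a}) A (x - r • ws) ∈ LinearMap.ker (π I) := by
        rw [hker]
        intro n
        show x.val n - r * w n ∈ _
        have e : x.val n - r * w n = (x.val n - x.val (n + N)) + (x.val (n + N) - r * q n) +
            r * ∑ j ∈ Finset.range n, δ j := by simp only [w]; ring
        rw [e]
        refine add_mem (add_mem (Ideal.mem_sup_right (hxc (by omega)))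
          (sup_le_sup_left (hmono (by omega)) I (hy _))) (Ideal.mem_sup_left ?_)
        exact Ideal.mul_mem_left _ _ (sum_mem fun j _ ↦ hδI j)
      have hsum := hPI _ hrest
      rw [map_sub, map_smul] at hsum
      rw [← sub_add_cancel (AdicCompletion.mk (Ideal.span {a}) A x) (r • AdicCompletion.mk (Ideal.span {a}) A ws),
        Ideal.map_sup]
      refine Submodule.add_mem_sup hsum ?_
      rw [Algebra.smul_def]
      exact Ideal.mul_mem_right _ _ (Ideal.mem_map_of_mem _ (Ideal.mem_span_singleton_self r))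
    · apply hPI
      obtain ⟨x, rfl⟩ := AdicCompletion.mk_surjective (Ideal.span {a}) A x
      have h1 := hle I hx
      rw [← Algebra.smul_def, ← map_smul] at h1
      replace h1 := (hker I (r • x)).mp h1
      refine (hker I x).mpr fun n ↦ ?_
      have h2 := hdiv (n + N) (x.val (n + N)) (by omega) (h1 (n + N))
      rw [Nat.add_sub_cancel] at h2
      have h3 := SModEq.sub_mem.mp (x.property (Nat.le_add_right n N))
      rw [smul_eq_mul, Ideal.mul_top, Ideal.span_singleton_pow] at h3
      rw [← sub_add_cancel (x.val n) (x.val (n + N))]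
      exact add_mem (Ideal.mem_sup_right h3) h2
  -- along the sequence
  have hmem : ∀ (I : Ideal A) (m : ℕ) (b : A),
      (a ^ m • (Ideal.Quotient.mk I b) = (0 : A ⧸ I)) ↔ a ^ m * b ∈ I := fun I m b ↦ by
    rw [Algebra.smul_def, Ideal.Quotient.algebraMap_eq, ← map_mul, Ideal.Quotient.eq_zero_iff_mem]
  have hI : ∀ (i : ℕ) (hi : i < rs.length),
      Ideal.ofList (rs.take (i + 1)) = Ideal.ofList (rs.take i) ⊔ Ideal.span {rs[i]} := fun i hi ↦ by
    rw [List.take_succ_eq_append_getElem hi, Ideal.ofList_append, Ideal.ofList_singleton]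
  have hbase : ∀ (i : ℕ) (hi : i < rs.length),
      (∀ b, rs[i] * b ∈ Ideal.ofList (rs.take i) → b ∈ Ideal.ofList (rs.take i)) ∧
      ∃ N, ∀ (m : ℕ) b, a ^ m * b ∈ Ideal.ofList (rs.take i) ⊔ Ideal.span {rs[i]} →
        a ^ N * b ∈ Ideal.ofList (rs.take i) ⊔ Ideal.span {rs[i]} := by
    intro i hi
    constructor
    · have := hreg.regular_mod_prev i hi
      rw [isSMulRegular_quotient_iff_mem_of_smul_mem, smul_eq_mul, Ideal.mul_top] at this
      exact fun b ↦ this b
    · obtain ⟨N, hN⟩ := hbd (i + 1) hi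
      rw [← hI i hi]
      exact ⟨N, fun m b hb ↦ (hmem _ N b).mp (hN _ ⟨m, (hmem _ m b).mpr hb⟩)⟩
  have hP : ∀ i ≤ rs.length, P (Ideal.ofList (rs.take i)) := by
    intro i
    induction i with
    | zero =>
      intro _ x hx
      obtain ⟨x, rfl⟩ := AdicCompletion.mk_surjective (Ideal.span {a}) A x
      rw [hker] at hx
      have : AdicCompletion.mk (Ideal.span {a}) A x = 0 := by
        refine AdicCompletion.ext fun n ↦ ?_
        show Submodule.Quotient.mk (x.val n) = 0
        rw [Submodule.Quotient.mk_eq_zero, smul_eq_mul, Ideal.mul_top, Ideal.span_singleton_pow]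
        simpa using hx n
      rw [this]; exact zero_mem _
    | succ i ih =>
      intro hi
      rw [hI i hi]
      exact (hstep _ _ (ih (Nat.le_of_succ_le hi)) (hbase i hi).1 (hbase i hi).2).1
  refine ⟨?_, AdicCompletion.map_surjective _ (Submodule.mkQ_surjective _), ?_⟩
  · rw [RingTheory.Sequence.isWeaklyRegular_iff]
    intro i hi
    rw [List.length_map] at hi
    rw [isSMulRegular_quotient_iff_mem_of_smul_mem, ← List.map_take, ← Ideal.map_ofList,
      List.getElem_map, smul_eq_mul, Ideal.mul_top]
    exact fun x hx ↦ (hstep _ _ (hP i hi.le) (hbase i hi).1 (hbase i hi).2).2 x hx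
  · have h1 := hP rs.length le_rfl
    rw [List.take_length] at h1
    exact le_antisymm (fun x hx ↦ h1 x hx) (fun x hx ↦ hle _ hx)

end Groth.Agent.S14275
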