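import Groth.Statements.S14276
import Groth.Agent.H18Torsor.Basic
import Groth.Agent.S0412
import Mathlib.AlgebraicGeometry.Morphisms.LocalFlatDescent

set_option autoImplicit false
universe u
open CategoryTheory AlgebraicGeometry
open NonAbH1

namespace Groth.Agent.S14276

/-- Let X be a scheme and G a group scheme over X which is smooth over X. Then every G-torsor for the
fppf topology is locally trivial for the étale topology on X. Here a torsor is an X-scheme with an
action of G which is a pseudo-torsor and acquires sections on the members of some fppf covering
family of X, and the conclusion says that it acquires sections on the members of some étale covering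
family of X. (The published statement is about torsors in the sense of fppf sheaves; this row states
it for torsors that are schemes.) -/
theorem result {X : Scheme.{u}}
    (G : Over X) [GrpObj G] [Smooth G.hom] (P : Over X) (a : AlgGrp.Action G P)
    (h : NonAbH1.IsTorsorFor Scheme.fppfPrecoverage a) :
    NonAbH1.IsLocallyTrivialFor Scheme.etalePrecoverage P := by
  have h' : NonAbH1.IsTorsorFor Scheme.fpqcPrecoverage a :=
    ⟨h.1, h.2.choose, Scheme.fppfPrecoverage_le_fpqcPrecoverage _ h.2.choose_spec.1, h.2.choose_spec.2⟩
  haveI : Smooth P.hom := H18Torsor.property_of_isTorsorFor a @Smooth h' inferInstance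
  haveI : Surjective G.hom :=
    ⟨fun s => ⟨(MonObj.one (X := G)).left s, (congr($(Over.w (MonObj.one (X := G))) s))⟩⟩
  haveI : Surjective P.hom := H18Torsor.property_of_isTorsorFor a @Surjective h' inferInstance
  choose S' g s' hg hs t ht using fun s => Groth.Agent.S0412.result P.hom s (P.hom.surjective s)
  let 𝒰 : X.Cover (Scheme.precoverage @Etale) := Scheme.Cover.mkOfCovers X S' g (fun x => ⟨x, s' x, hs x⟩) hg
  refine ⟨𝒰.presieve₀, 𝒰.mem₀, ?_⟩
  rintro _ _ ⟨i⟩
  exact ⟨t i, ht i⟩

end Groth.Agent.S14276
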