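import Groth.Statements.S14277
import Groth.Agent.H14Count.FiniteGroupMass
import Groth.Agent.H14Count.TorsorFibre

set_option autoImplicit false
universe u
open CategoryTheory AlgebraicGeometry
open NonAbH1

set_option backward.isDefEq.respectTransparency false
set_option backward.isDefEq.respectTransparency.types false

namespace Groth.Agent.S14277

/-- Let k be a finite field and G a group scheme finite and étale over Spec k. Then the set of
isomorphism classes of G-torsors over Spec k is finite, and the sum over these classes ξ of
1/#Aut(ξ) equals 1, where Aut(ξ) is the (finite) group of G-equivariant automorphisms over k of a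
torsor in the class ξ. A torsor is a k-scheme with an action of G which is a pseudo-torsor and
acquires sections on the members of some fppf covering family of Spec k; for such G these are the
nonempty finite étale pseudo-torsors, and the étale topology gives the same classes. The term of a
class whose automorphism group were infinite would count as 0 by the convention Nat.card = 0. -/
theorem result
    (k : Type u) [Field k] [Finite k]
    (G : Over (Spec (CommRingCat.of k))) [GrpObj G] [IsFinite G.hom] [Etale G.hom] :
    Finite (NonAbH1.H1Sch G Scheme.fppfPrecoverage) ∧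
      ∑ᶠ ξ : NonAbH1.H1Sch G Scheme.fppfPrecoverage,
        ((Nat.card (NonAbH1.EquivIso (Quot.out ξ).act (Quot.out ξ).act) : ℚ))⁻¹ = 1 := by
  obtain ⟨π, hπ⟩ := H14Count.exists_frobenius k (AlgebraicClosure k)
  obtain ⟨h1, h2, h3⟩ := H14Count.finiteGroupMass (k := k) (G := G) π hπ
    (J := Scheme.fppfPrecoverage) H14Quot.etale_le_fppf_pre le_rfl
  let Φ : NonAbH1.H1Sch G Scheme.fppfPrecoverage →
      Quotient (isIsomorphicSetoid (H14Count.FibOver k (AlgSt.trivAction G) Scheme.fppfPrecoverage)) :=
    Quot.lift (fun P => Quotient.mk'' (H14Count.objOfTorsor P))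
      (fun P Q ⟨e⟩ => Quotient.eq''.2 ⟨H14Count.isoOfEquiv e⟩)
  have hΦ : Function.Bijective Φ := by
    refine ⟨fun x y h => ?_, fun q => ?_⟩
    · induction x using Quot.induction_on with
      | h P =>
        induction y using Quot.induction_on with
        | h Q =>
          obtain ⟨i⟩ := Quotient.eq''.1 h
          exact Quot.sound ⟨(H14Count.equivIsoEquiv P Q).symm i⟩
    · induction q using Quotient.inductionOn' with
      | h A =>
        obtain ⟨P, hP⟩ := H14Count.exists_torsor_of_obj A
        exact ⟨P.cl, Quotient.eq''.2 hP⟩
  refine ⟨Finite.of_injective Φ hΦ.1, ?_⟩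
  rw [← h3, ← finsum_comp (g := fun q => ((Nat.card (Aut q.out) : ℚ))⁻¹) Φ hΦ]
  refine finsum_congr fun ξ => ?_
  have e1 : Φ ξ = Quotient.mk'' (H14Count.objOfTorsor ξ.out) := by
    conv_lhs => rw [← Quot.out_eq ξ]
  obtain ⟨i⟩ : Nonempty ((Φ ξ).out ≅ H14Count.objOfTorsor ξ.out) :=
    Quotient.eq''.1 ((Quotient.out_eq' (Φ ξ)).trans e1)
  congr 2
  exact Nat.card_congr ((H14Count.equivIsoEquiv ξ.out ξ.out).trans i.conjAut.toEquiv.symm)

end Groth.Agent.S14277
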