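import Groth.Statements.S14284
import Groth.Agent.H16Derived.SpFil.Trace

set_option autoImplicit false
universe u
open CategoryTheory CategoryTheory.Limits
open SpSeq

namespace Groth.Agent.S14284

open Groth.Agent.H16Derived

/-- For an E_2 spectral sequence (E, Φ) of complex vector spaces carrying a compatible endomorphism Φ,
encoded as a cohomological spectral sequence of ℂ[X]-modules (X acting as Φ), and an integer r ≥ 2,
say that a page satisfies the boundedness condition for (N, a, b, c, d) when it is concentrated in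
the first quadrant, its terms are finite-dimensional over ℂ and vanish for q > N, every eigenvalue μ
of Φ on the (p, q) term has |μ| ≤ a(q)c(p), and the (p, q) term has dimension at most b(q)d(p). If
a, c ≥ 0, Σ_p c(p)d(p) converges and the page E_r satisfies the condition, then so does E_{r+1}, and
the alternating sums of traces agree: Σ_{p,q} (−1)^{p+q} tr(Φ | E_{r+1}^{p,q}) = Σ_{p,q} (−1)^{p+q}
tr(Φ | E_r^{p,q}) (both absolutely convergent). Traces, dimensions and eigenvalues refer to the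
underlying complex vector spaces and the endomorphism 'multiplication by X'. -/
theorem result
    (E : E₂CohomologicalSpectralSequence (ModuleCat.{u} (Polynomial ℂ))) (r : ℤ) (hr : 2 ≤ r)
    (N : ℕ) (a c : ℕ → ℝ) (b d : ℕ → ℕ) (ha : ∀ q, 0 ≤ a q) (hc : ∀ p, 0 ≤ c p)
    (hsum : Summable fun p : ℕ => c p * (d p : ℝ))
    (h : (∀ pq : ℤ × ℤ, pq.1 < 0 ∨ pq.2 < 0 → IsZero ((E.page r hr).X pq)) ∧
      (∀ pq : ℤ × ℤ, Module.Finite ℂ ((ModuleCat.restrictScalars (algebraMap ℂ (Polynomial ℂ))).obj ((E.page r hr).X pq))) ∧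
      (∀ p q : ℕ, N < q → IsZero ((E.page r hr).X ((p : ℤ), (q : ℤ)))) ∧
      (∀ (p q : ℕ) (μ : ℂ), Module.End.HasEigenvalue
          ((ModuleCat.restrictScalars (algebraMap ℂ (Polynomial ℂ))).map ((Polynomial.X : Polynomial ℂ) • 𝟙 ((E.page r hr).X ((p : ℤ), (q : ℤ))))).hom μ →
        ‖μ‖ ≤ a q * c p) ∧
      (∀ p q : ℕ, Module.finrank ℂ ((ModuleCat.restrictScalars (algebraMap ℂ (Polynomial ℂ))).obj ((E.page r hr).X ((p : ℤ), (q : ℤ)))) ≤ b q * d p)) :
    ((∀ pq : ℤ × ℤ, pq.1 < 0 ∨ pq.2 < 0 → IsZero ((E.page (r + 1) (Int.le_add_one hr)).X pq)) ∧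
      (∀ pq : ℤ × ℤ, Module.Finite ℂ ((ModuleCat.restrictScalars (algebraMap ℂ (Polynomial ℂ))).obj ((E.page (r + 1) (Int.le_add_one hr)).X pq))) ∧
      (∀ p q : ℕ, N < q → IsZero ((E.page (r + 1) (Int.le_add_one hr)).X ((p : ℤ), (q : ℤ)))) ∧
      (∀ (p q : ℕ) (μ : ℂ), Module.End.HasEigenvalue
          ((ModuleCat.restrictScalars (algebraMap ℂ (Polynomial ℂ))).map ((Polynomial.X : Polynomial ℂ) • 𝟙 ((E.page (r + 1) (Int.le_add_one hr)).X ((p : ℤ), (q : ℤ))))).hom μ →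
        ‖μ‖ ≤ a q * c p) ∧
      (∀ p q : ℕ, Module.finrank ℂ ((ModuleCat.restrictScalars (algebraMap ℂ (Polynomial ℂ))).obj ((E.page (r + 1) (Int.le_add_one hr)).X ((p : ℤ), (q : ℤ)))) ≤ b q * d p)) ∧
      ∑' pq : ℕ × ℕ, (-1 : ℂ) ^ (pq.1 + pq.2) * LinearMap.trace ℂ _
          ((ModuleCat.restrictScalars (algebraMap ℂ (Polynomial ℂ))).map ((Polynomial.X : Polynomial ℂ) • 𝟙 ((E.page (r + 1) (Int.le_add_one hr)).X ((pq.1 : ℤ), (pq.2 : ℤ))))).hom =
        ∑' pq : ℕ × ℕ, (-1 : ℂ) ^ (pq.1 + pq.2) * LinearMap.trace ℂ _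
          ((ModuleCat.restrictScalars (algebraMap ℂ (Polynomial ℂ))).map ((Polynomial.X : Polynomial ℂ) • 𝟙 ((E.page r hr).X ((pq.1 : ℤ), (pq.2 : ℤ))))).hom := by
  exact SpFil.Trace.page_succ_bounds E r hr h ha hc hsum

end Groth.Agent.S14284
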