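import Groth.Statements.S14285
import Groth.Agent.H26Base.FormalGlobal
import Groth.Agent.H9Hens.FinitePartScheme

set_option autoImplicit false
universe u
open CategoryTheory AlgebraicGeometry
open EllLift

namespace Groth.Agent.S14285

open TopologicalSpace IsLocalRing Groth.Agent.H24Def

/-- Let R be a complete Noetherian local ring with maximal ideal m and residue field k = R/m, g : X →
Spec R a proper and flat morphism, and i : X₀ → X the fibre of g over the closed point, i.e. a
pullback of g along Spec k → Spec R, with structure map f₀ : X₀ → Spec k. If the induced ring map k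
→ Γ(X₀, O_{X₀}) is bijective, then so is R → Γ(X, O_X). -/
theorem result (R : Type u) [CommRing R]
    [IsLocalRing R] [IsNoetherianRing R] [IsAdicComplete (IsLocalRing.maximalIdeal R) R]
    (X X₀ : Scheme.{u}) (g : X ⟶ Spec (CommRingCat.of R)) [IsProper g] [Flat g]
    (i : X₀ ⟶ X) (f₀ : X₀ ⟶ Spec (CommRingCat.of (R ⧸ IsLocalRing.maximalIdeal R)))
    (hsq : IsPullback i f₀ g
      (Spec.map (CommRingCat.ofHom (Ideal.Quotient.mk (IsLocalRing.maximalIdeal R)))))
    (h0 : Function.Bijective ((Scheme.ΓSpecIso (CommRingCat.of (R ⧸ IsLocalRing.maximalIdeal R))).inv ≫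
      f₀.appTop)) :
    Function.Bijective ((Scheme.ΓSpecIso (CommRingCat.of R)).inv ≫ g.appTop) := by
    have hs : ((Scheme.ΓSpecIso (CommRingCat.of (R ⧸ maximalIdeal R))).inv ≫ f₀.appTop).hom =
        scalar f₀ (⊤ : X₀.Opens) := by
      rw [scalar, Scheme.Hom.appTop, Scheme.Hom.app_eq_appLE]
      rfl
    have hg : ((Scheme.ΓSpecIso (CommRingCat.of R)).inv ≫ g.appTop).hom = scalar g (⊤ : X.Opens) := by
      rw [scalar, Scheme.Hom.appTop, Scheme.Hom.app_eq_appLE]
      rfl
    have h0' : Function.Bijective (scalar f₀ (⊤ : X₀.Opens)) := by rw [← hs]; exact h0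
    show Function.Bijective ((Scheme.ΓSpecIso (CommRingCat.of R)).inv ≫ g.appTop).hom
    rw [hg]
    let m := maximalIdeal R
    have fam := fun n : ℕ => Groth.Agent.H26Base.FormalGlobal.compatible_family i f₀ hsq h0' (m ^ n) ⟨n, le_rfl⟩
    refine ⟨(injective_iff_map_eq_zero _).mpr fun c hc => ?_, fun y => ?_⟩
    · refine IsHausdorff.haus' (I := m) c fun n => ?_
      rw [SModEq.zero, smul_eq_mul, Ideal.mul_top]
      refine (fam n).2 c fun U => ?_
      rw [← map_scalar g (le_top : U.1 ≤ ⊤), hc, map_zero]
      exact zero_mem _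
    · have hE := fun n => (fam n).1 (fun U => X.presheaf.map (homOfLE le_top).op y) fun U V h => by
        convert zero_mem ((m ^ n).map (scalar g V.1)) using 1
        rw [sub_eq_zero]
        change (X.presheaf.map _ ≫ X.presheaf.map _) y = _
        rw [← Functor.map_comp]
        rfl
      choose r hr using hE
      have hcauchy : ∀ {a b : ℕ}, a ≤ b → r a ≡ r b [SMOD (m ^ a • ⊤ : Submodule R R)] := by
        intro a b hab
        rw [SModEq.sub_mem, smul_eq_mul, Ideal.mul_top]
        refine (fam a).2 _ fun U => ?_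
        have h1 := sub_mem (Ideal.map_mono (Ideal.pow_le_pow_right hab) (hr b U)) (hr a U)
        rw [map_sub]
        convert h1 using 1
        ring
      obtain ⟨c, hc⟩ := IsPrecomplete.prec (inferInstance : IsPrecomplete m R) hcauchy
      refine ⟨c, (TopCat.Presheaf.section_ext X.sheaf ⊤ y (scalar g ⊤ c) fun x _ => ?_).symm⟩
      obtain ⟨z, hxz, hz⟩ := Groth.Agent.H9Hens.exists_specializes_closedPoint g x
      obtain ⟨_, ⟨U, hU, rfl⟩, hzU, -⟩ := X.isBasis_affineOpens.exists_subset_of_mem_open
        (show z ∈ (Set.univ : Set X) from trivial) isOpen_univ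
      let s : Γ(X, U) := X.presheaf.map (homOfLE le_top).op y - scalar g U c
      haveI : IsLocallyNoetherian X := LocallyOfFiniteType.isLocallyNoetherian g
      have hgerm : X.presheaf.germ U z hzU s = 0 := by
        rw [← Submodule.mem_bot (R := X.presheaf.stalk z),
          ← Ideal.iInf_pow_eq_bot_of_isLocalRing (maximalIdeal (X.presheaf.stalk z)) (maximalIdeal.isMaximal _).ne_top]
        simp only [Submodule.mem_iInf]
        intro n
        have hsn : s ∈ (m ^ n).map (scalar g U) := by
          have h2 := add_mem (hr n ⟨U, hU⟩) (Ideal.mem_map_of_mem (scalar g U)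
            (show r n - c ∈ m ^ n by simpa [SModEq.sub_mem] using hc n))
          rw [map_sub] at h2
          convert h2 using 1
          show _ - _ = _
          ring
        have h3 := Ideal.mem_map_of_mem (X.presheaf.germ U z hzU).hom hsn
        rw [Ideal.map_map, Ideal.map_pow] at h3
        refine Ideal.pow_right_mono (Ideal.map_le_iff_le_comap.mpr fun a ha => ?_) n h3
        show ¬ IsUnit _
        intro hu
        have hmem : z ∈ X.basicOpen (g.appLE ⊤ U le_top ((Scheme.ΓSpecIso (CommRingCat.of R)).inv a)) :=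
          (X.mem_basicOpen _ z hzU).mpr hu
        rw [Scheme.Hom.appLE, CommRingCat.comp_apply, Scheme.basicOpen_res] at hmem
        have h4 : z ∈ g ⁻¹ᵁ ((Spec (CommRingCat.of R)).basicOpen ((Scheme.ΓSpecIso (CommRingCat.of R)).inv a)) := by
          rw [Scheme.preimage_basicOpen]; exact hmem.2
        rw [basicOpen_eq_of_affine] at h4
        have h5 : a ∉ (g.base z).asIdeal := h4
        rw [hz] at h5
        exact h5 ha
      rw [← map_zero (X.presheaf.germ U z hzU).hom] at hgerm
      obtain ⟨W, hzW, iW, iW', heq⟩ := X.presheaf.germ_eq z hzU hzU _ _ hgerm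
      rw [map_zero, map_sub, sub_eq_zero] at heq
      have hxW : x ∈ W := hxz.mem_open W.2 hzW
      refine (X.presheaf.germ_res_apply (homOfLE (le_top : W ≤ ⊤)) x hxW y).symm.trans
        (Eq.trans ?_ (X.presheaf.germ_res_apply (homOfLE (le_top : W ≤ ⊤)) x hxW (scalar g ⊤ c)))
      refine congrArg _ (Eq.trans ?_ (heq.trans
        ((map_scalar g iW.le c).trans (map_scalar g (le_top : W ≤ ⊤) c).symm)))
      show _ = (X.presheaf.map _ ≫ X.presheaf.map _) y
      rw [← Functor.map_comp]
      rfl

end Groth.Agent.S14285
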