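import Groth.Statements.S14286
import Groth.Agent.H26Ell.Descent

set_option autoImplicit false
universe u
open EllLift

namespace Groth.Agent.S14286

theorem henselianLocalRing_of_complete (R : Type u) [CommRing R] [IsLocalRing R]
    [IsAdicComplete (IsLocalRing.maximalIdeal R) R] : HenselianLocalRing R where
  is_henselian f hf a₀ h₁ h₂ :=
    HenselianRing.is_henselian (I := IsLocalRing.maximalIdeal R) f hf a₀ h₁ (h₂.map _)

/-- Let R be a complete Noetherian local domain with algebraically closed residue field, and let W₁, W₂
be Weierstrass cubics over R whose discriminants are units (elliptic curves over R; over a local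
ring every elliptic curve has such an equation and isomorphisms of elliptic curves are the
admissible changes of variables). If W₁ and W₂ have the same j-invariant, then some change of
variables over R carries W₁ to W₂. (The published statement does not require R to be a domain. That
hypothesis is needed: over the dual numbers k[e], e² = 0, of an algebraically closed field k of
characteristic neither 2 nor 3, the cubics y² = x³ + x + e and y² = x³ + x both have j = 1728 and no
change of variables relates them.) -/
theorem result (R : Type u) [CommRing R] [IsDomain R]
    [IsNoetherianRing R] [IsLocalRing R] [IsAdicComplete (IsLocalRing.maximalIdeal R) R]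
    [IsAlgClosed (IsLocalRing.ResidueField R)]
    (W₁ W₂ : WeierstrassCurve R) [W₁.IsElliptic] [W₂.IsElliptic] (hj : W₁.j = W₂.j) :
    ∃ C : WeierstrassCurve.VariableChange R, C • W₁ = W₂ := by
  haveI := henselianLocalRing_of_complete R
  let L := AlgebraicClosure (FractionRing R)
  let φ : R →+* L := (algebraMap (FractionRing R) L).comp (algebraMap R (FractionRing R))
  have hφ : Function.Injective φ :=
    (algebraMap (FractionRing R) L).injective.comp (IsFractionRing.injective R (FractionRing R))
  obtain ⟨C₀, hC⟩ := WeierstrassCurve.exists_variableChange_of_j_eq (W₁.map φ) (W₂.map φ)
    (by rw [WeierstrassCurve.map_j, WeierstrassCurve.map_j, hj])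
  exact Groth.Agent.H26Ell.Descent.exists_of_field W₁ W₂ W₁.isUnit_Δ W₂.isUnit_Δ φ hφ C₀ hC

end Groth.Agent.S14286
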