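import Groth.Statements.S1429
import Groth.Agent.H7Weight.MaxAffine

set_option autoImplicit false
universe u
open FlatMor

namespace Groth.Agent.S1429

open AlgebraicGeometry CategoryTheory Limits in
/-- For affine X and Y, a quasi-finite morphism f : X → Y of finite presentation and a positive
weighting w of f whose fibre integral has maximum value d: the open Y_d on which the integral equals
d is affine. -/
theorem result {X Y : Scheme.{u}} (f : X ⟶ Y) [LocallyQuasiFinite f] [QuasiCompact f] [LocallyOfFinitePresentation f] [IsAffine X] [IsAffine Y]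
    (w : ↑X → ℤ) (hw : MoreMor.IsWeighting f w) (hpos : ∀ x, 0 < w x) (d : ℤ)
    (hmax : ∀ y : Y, MoreMor.fibreIntegral f w y ≤ d) (hatt : ∃ y : Y, MoreMor.fibreIntegral f w y = d) :
    ∃ hYd : IsOpen {y : ↑Y | MoreMor.fibreIntegral f w y = d}, IsAffineOpen (⟨{y : ↑Y | MoreMor.fibreIntegral f w y = d}, hYd⟩ : Y.Opens) := by
  have hYd := Groth.Agent.H7Weight.isOpen_max_locus (fun y => f.finite_preimage_singleton y) hw hpos d hmax
  exact ⟨hYd, Groth.Agent.H7Weight.isAffineOpen_max_locus f hw hpos d hmax _ fun _ => Iff.rfl⟩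

end Groth.Agent.S1429
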