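import Groth.Statements.S14292
import Groth.Agent.H26Ell.JUnit

set_option autoImplicit false
universe u
open EllLift

namespace Groth.Agent.S14292

/-- Let A be a commutative ring and W₁, W₂ Weierstrass cubics over A with unit discriminants and the
same j-invariant j, such that j and j - 1728 are both units of A (the modular invariant avoids the
special values 0 and 1728 at every point). Then for every prime ideal p of A there exist an étale
A-algebra B with a prime lying over p and a change of variables over B carrying the base change of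
W₁ to that of W₂; that is, the two elliptic curves become isomorphic on an étale neighbourhood of
every point of Spec A. (The published statement is about Weierstrass curves with possibly nodal,
geometrically irreducible fibres over an arbitrary base scheme whose modular invariant avoids 0,
1728 and ∞; this row is the case of unit discriminant over an affine base.) -/
theorem result (A : Type u) [CommRing A]
    (W₁ W₂ : WeierstrassCurve A) [W₁.IsElliptic] [W₂.IsElliptic] (hj : W₁.j = W₂.j)
    (h0 : IsUnit W₁.j) (h1728 : IsUnit (W₁.j - 1728)) (p : PrimeSpectrum A) :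
    ∃ (B : Type u) (_ : CommRing B) (_ : Algebra A B), Algebra.Etale A B ∧
      p ∈ Set.range (PrimeSpectrum.comap (algebraMap A B)) ∧
      ∃ C : WeierstrassCurve.VariableChange B, C • (W₁.map (algebraMap A B)) = W₂.map (algebraMap A B) := by
  let Ω := AlgebraicClosure p.asIdeal.ResidueField
  let ψ : A →+* Ω := (algebraMap p.asIdeal.ResidueField Ω).comp (algebraMap A p.asIdeal.ResidueField)
  have hP : Groth.Agent.H26Ell.Pair W₁ W₂ :=
    { hΔ₁ := W₁.isUnit_Δ
      hΔ₂ := W₂.isUnit_Δ
      hc₁ := (isUnit_pow_iff (n := 3) (by norm_num)).1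
        (Groth.Agent.H26Ell.c₄_eq_of W₁ ▸ h0.mul W₁.isUnit_Δ)
      hc₂ := (isUnit_pow_iff (n := 3) (by norm_num)).1
        (Groth.Agent.H26Ell.c₄_eq_of W₂ ▸ (hj ▸ h0).mul W₂.isUnit_Δ)
      hd₁ := (isUnit_pow_iff (n := 2) (by norm_num)).1
        (Groth.Agent.H26Ell.c₆_eq_of W₁ ▸ h1728.mul W₁.isUnit_Δ)
      hd₂ := (isUnit_pow_iff (n := 2) (by norm_num)).1
        (Groth.Agent.H26Ell.c₆_eq_of W₂ ▸ (hj ▸ h1728).mul W₂.isUnit_Δ)
      hj := by
        rw [← Groth.Agent.H26Ell.c₄_eq_of, ← Groth.Agent.H26Ell.c₄_eq_of, hj]
        ring }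
  obtain ⟨B, _, _, ψ', hB, hψ, hC⟩ := Groth.Agent.H26Ell.good ψ hP
  refine ⟨B, inferInstance, inferInstance, hB, ⟨⟨RingHom.ker ψ', RingHom.ker_isPrime ψ'⟩, ?_⟩, hC⟩
  refine PrimeSpectrum.ext ?_
  show (RingHom.ker ψ').comap (algebraMap A B) = p.asIdeal
  rw [RingHom.comap_ker, hψ]
  show RingHom.ker ((algebraMap p.asIdeal.ResidueField Ω).comp (algebraMap A p.asIdeal.ResidueField)) = p.asIdeal
  rw [RingHom.ker_comp_of_injective _ (algebraMap p.asIdeal.ResidueField Ω).injective,
    Ideal.ker_algebraMap_residueField]

end Groth.Agent.S14292
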