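import Groth.Statements.S14295
import Mathlib.Tactic

set_option autoImplicit false
universe u v
open PtDeg

namespace Groth.Agent.S14295

/-- Let A and G be abelian groups, written additively, and f : A → G a map which is pointed of degree 2,
that is f(x+y+z) + f(x) + f(y) + f(z) = f(x+y) + f(x+z) + f(y+z) for all x, y, z in A. Then for
every integer n and every x in A one has f(n·x) = (n(n+1)/2)·f(x) + (n(n−1)/2)·f(−x) (the two
coefficients are the integers n(n+1)/2 and n(n−1)/2). -/
theorem result {A : Type u} {G : Type v} [AddCommGroup A] [AddCommGroup G]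
    (f : A → G) (hf : ∀ x y z : A, f (x + y + z) + f x + f y + f z = f (x + y) + f (x + z) + f (y + z))
    (n : ℤ) (x : A) :
    f (n • x) = (n * (n + 1) / 2) • f x + (n * (n - 1) / 2) • f (-x) := by
  have f0 : f 0 = 0 := by
    have := hf 0 0 0
    simp only [add_zero] at this
    calc f 0 = f 0 + f 0 + f 0 + f 0 - (f 0 + f 0 + f 0) := by abel
      _ = 0 := by rw [this]; abel
  set a := f x
  set b := f (-x)
  have hrr : ∀ m : ℤ, f ((m + 1) • x) + f ((m - 1) • x) = f (m • x) + f (m • x) + a + b := by
    intro m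
    have := hf (m • x) x (-x)
    simp only [add_neg_cancel_right, add_neg_cancel, f0, add_zero] at this
    rw [add_smul, sub_smul, one_smul, sub_eq_add_neg, ← this]
  have T : ∀ m : ℤ, ((m + 1) * (m + 1 + 1) / 2 = m * (m + 1) / 2 + (m + 1)) ∧
      ((m + 1) * (m + 1 - 1) / 2 = m * (m - 1) / 2 + m) := by
    intro m
    constructor
    · rw [show (m + 1) * (m + 1 + 1) = m * (m + 1) + (m + 1) * 2 by ring,
        Int.add_mul_ediv_right _ _ (by norm_num)]
    · rw [show (m + 1) * (m + 1 - 1) = m * (m - 1) + m * 2 by ring,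
        Int.add_mul_ediv_right _ _ (by norm_num)]
  let h : ℤ → G := fun m => (m * (m + 1) / 2) • a + (m * (m - 1) / 2) • b
  have hrec : ∀ m : ℤ, h (m + 1) + h (m - 1) = h m + h m + a + b := by
    intro m
    obtain ⟨t1, t2⟩ := T m
    obtain ⟨t3, t4⟩ := T (m - 1)
    simp only [sub_add_cancel] at t3 t4
    simp only [h, sub_add_cancel, t1, t2, t3, t4]
    module
  suffices key : ∀ m : ℤ, f (m • x) = h m ∧ f ((m + 1) • x) = h (m + 1) from (key n).1
  intro m
  induction m using Int.induction_on with
  | zero => refine ⟨by simp [h, f0], by simp [h, a]⟩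
  | succ i ih =>
    refine ⟨ih.2, ?_⟩
    have r1 := hrr (i + 1)
    have r2 := hrec (i + 1)
    simp only [add_sub_cancel_right] at r1 r2
    rw [ih.1, ih.2, ← r2] at r1
    exact add_right_cancel r1
  | pred i ih =>
    refine ⟨?_, by simpa using ih.1⟩
    have r1 := hrr (-i : ℤ)
    have r2 := hrec (-i : ℤ)
    rw [ih.1, ih.2, ← r2] at r1
    exact add_left_cancel r1

end Groth.Agent.S14295
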