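import Groth.Statements.S14294
import Groth.Agent.S14295
import Mathlib.Tactic

set_option autoImplicit false
universe u v
open PtDeg

namespace Groth.Agent.S14294

/-- Let A and G be abelian groups, written additively, and f : A → G a map which is pointed of degree 2,
that is f(x+y+z) + f(x) + f(y) + f(z) = f(x+y) + f(x+z) + f(y+z) for all x, y, z in A. If an integer
n satisfies n·x = 0 for every x in A, then 2n·f(x) = 0 for every x in A, and if moreover n is odd
then n·f(x) = 0 for every x in A. -/
theorem result {A : Type u} {G : Type v} [AddCommGroup A] [AddCommGroup G]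
    (f : A → G) (hf : ∀ x y z : A, f (x + y + z) + f x + f y + f z = f (x + y) + f (x + z) + f (y + z))
    (n : ℤ) (hn : ∀ x : A, n • x = 0) :
    (∀ x : A, (2 * n) • f x = 0) ∧ (Odd n → ∀ x : A, n • f x = 0) := by
  have key : ∀ x : A, (2 * n) • f x = 0 ∧ (Odd n → n • f x = 0) := by
    intro x
    have F := fun m : ℤ => S14295.result f hf m x
    have f0 : f 0 = 0 := by simpa using F 0
    set a := f x
    set b := f (-x)
    set T : ℤ → ℤ := fun m => m * (m + 1) / 2
    have T' : ∀ m : ℤ, m * (m - 1) / 2 = T (-m) := fun m => congrArg (· / 2) (by ring)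
    have hT : ∀ m : ℤ, 2 * T m = m * (m + 1) := fun m => by
      exact Int.mul_ediv_cancel' (Int.even_mul_succ_self m).two_dvd
    simp only [T'] at F
    have e1 : T n • a + T (-n) • b = 0 := by rw [← F n, hn, f0]
    have e2 : T (-n) • a + T n • b = 0 := by
      have := F (-n)
      rw [neg_smul, hn, neg_zero, f0, neg_neg] at this
      exact this.symm
    have e3 : T (n + 1) • a + T (-(n + 1)) • b = a := by rw [← F (n + 1), add_smul, hn, zero_add, one_smul]
    have t1 : T (n + 1) = T n + (n + 1) := by have := hT n; have := hT (n + 1); linarith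
    have t2 : T (-(n + 1)) = T (-n) + n := by have := hT (-n); have := hT (-(n + 1)); linarith
    have t3 : T n - T (-n) = n := by have := hT n; have := hT (-n); linarith
    have s1 : n • a + n • b = 0 := by
      calc n • a + n • b = (T (n + 1) • a + T (-(n + 1)) • b) - (T n • a + T (-n) • b) - a := by
            rw [t1, t2]; module
        _ = 0 := by rw [e3, e1]; abel
    have s2 : n • a - n • b = 0 := by
      calc n • a - n • b = (T n • a + T (-n) • b) - (T (-n) • a + T n • b) := by
            conv_lhs => rw [← t3]
            module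
        _ = 0 := by rw [e1, e2, sub_self]
    refine ⟨?_, fun hodd => ?_⟩
    · calc (2 * n) • a = (n • a + n • b) + (n • a - n • b) := by module
        _ = 0 := by rw [s1, s2, add_zero]
    · obtain ⟨k, rfl⟩ := hodd
      have u1 : T (2 * k + 1) = (2 * k + 1) * (k + 1) := by have := hT (2 * k + 1); linarith
      have u2 : T (-(2 * k + 1)) = (2 * k + 1) * k := by have := hT (-(2 * k + 1)); linarith
      calc (2 * k + 1) • a = (T (2 * k + 1) • a + T (-(2 * k + 1)) • b) - k • ((2 * k + 1) • a + (2 * k + 1) • b) := by
            rw [u1, u2]; module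
        _ = 0 := by rw [e1, s1, smul_zero, sub_self]
  exact ⟨fun x => (key x).1, fun h x => (key x).2 h⟩

end Groth.Agent.S14294
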