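import Groth.Statements.S14297
import Mathlib.MeasureTheory.Constructions.Pi
import Mathlib.MeasureTheory.Integral.Prod
import Mathlib.MeasureTheory.Group.Integral
import Mathlib.Topology.ContinuousMap.StoneWeierstrass
import Mathlib.Topology.UrysohnsLemma
import Mathlib.Analysis.Normed.Group.Bounded
import Mathlib.MeasureTheory.Function.StronglyMeasurable.Basic
import Mathlib.Tactic

set_option autoImplicit false
universe u
open MeasureTheory
open PtDeg

namespace Groth.Agent.S14297

open MeasureTheory Finset

section
variable {G : Type u} [TopologicalSpace G] [CompactSpace G] [T2Space G] [MeasurableSpace G] [BorelSpace G]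

/-- Continuous functions on a finite power of a compact space are measurable for the product σ-algebra. -/
theorem measurable_of_continuous {n : ℕ} {f : (Fin n → G) → ℝ} (hf : Continuous f) : Measurable f := by
  let A : Subalgebra ℝ C((Fin n → G), ℝ) :=
    { carrier := {g | Measurable g}
      mul_mem' := fun {a b} ha hb => (show Measurable fun x => a x * b x from Measurable.mul ha hb)
      add_mem' := fun {a b} ha hb => (show Measurable fun x => a x + b x from Measurable.add ha hb)
      algebraMap_mem' := fun r => (show Measurable fun _ : Fin n → G => r from measurable_const) }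
  have hsep : A.SeparatesPoints := by
    intro x y hxy
    obtain ⟨i, hi⟩ := Function.ne_iff.1 hxy
    obtain ⟨g, h0, h1, -⟩ := exists_continuous_zero_one_of_isClosed (isClosed_singleton (x := x i))
      (isClosed_singleton (x := y i)) (by simpa using hi)
    refine ⟨fun z => g (z i), ⟨⟨⟨fun z => g (z i), by fun_prop⟩, ?_, rfl⟩, ?_⟩⟩
    · exact g.continuous.measurable.comp (measurable_pi_apply i)
    · show g (x i) ≠ g (y i)
      rw [h0 rfl, h1 rfl]; simp
  have htop := ContinuousMap.subalgebra_topologicalClosure_eq_top_of_separatesPoints A hsep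
  have hmem : (⟨f, hf⟩ : C((Fin n → G), ℝ)) ∈ A.topologicalClosure := htop ▸ Algebra.mem_top
  rw [← SetLike.mem_coe, Subalgebra.topologicalClosure_coe, mem_closure_iff_seq_limit] at hmem
  obtain ⟨s, hs, hlim⟩ := hmem
  exact measurable_of_tendsto_metrizable hs (tendsto_pi_nhds.2 fun x =>
    ((continuous_eval_const x).tendsto _).comp hlim)

theorem integrable_comp {n : ℕ} {α : Type*} [MeasurableSpace α] (ν : Measure α) [IsFiniteMeasure ν]
    {f : (Fin n → G) → ℝ} (hf : Continuous f) {e : α → (Fin n → G)} (he : Measurable e) :
    Integrable (fun a => f (e a)) ν := by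
  obtain ⟨C, hC⟩ := (isCompact_range hf).isBounded.exists_norm_le
  exact Integrable.of_bound ((measurable_of_continuous hf).comp he).aestronglyMeasurable C
    (Filter.Eventually.of_forall fun a => hC _ ⟨_, rfl⟩)

theorem continuous_integral_param {Y : Type*} [TopologicalSpace Y] {n : ℕ} {α : Type*} [TopologicalSpace α]
    [CompactSpace α] [MeasurableSpace α] (ν : Measure α) [IsProbabilityMeasure ν]
    {f : (Fin n → G) → ℝ} (hf : Continuous f) {e : Y → α → (Fin n → G)}
    (he : Continuous fun p : Y × α => e p.1 p.2) (hm : ∀ y, Measurable (e y)) :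
    Continuous fun y => ∫ a, f (e y a) ∂ν := by
  rw [continuous_iff_continuousAt]
  intro y₀
  rw [ContinuousAt, Metric.tendsto_nhds]
  intro ε hε
  have hF : Continuous fun p : Y × α => f (e p.1 p.2) := hf.comp he
  have hev : ∀ᶠ y in nhds y₀, ∀ a ∈ (Set.univ : Set α), dist (f (e y a)) (f (e y₀ a)) < ε / 2 := by
    refine isCompact_univ.eventually_forall_of_forall_eventually fun a _ => ?_
    have hc : Continuous fun p : Y × α => dist (f (e p.1 p.2)) (f (e y₀ p.2)) :=
      hF.dist (hF.comp (continuous_const.prodMk continuous_snd))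
    have := hc.tendsto (y₀, a)
    simp only [dist_self] at this
    exact this.eventually (gt_mem_nhds (half_pos hε))
  filter_upwards [hev] with y hy
  rw [dist_eq_norm, ← integral_sub (integrable_comp ν hf (hm y)) (integrable_comp ν hf (hm y₀))]
  refine lt_of_le_of_lt (norm_integral_le_of_norm_le_const (C := ε / 2) (Filter.Eventually.of_forall fun a => ?_)) ?_
  · rw [← dist_eq_norm]; exact (hy a (Set.mem_univ a)).le
  · simp; linarith

theorem integral_succ (μ : Measure G) [IsProbabilityMeasure μ] {n : ℕ} {f : (Fin (n + 1) → G) → ℝ}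
    (hf : Continuous f) :
    ∫ u, f u ∂(Measure.pi fun _ : Fin (n + 1) => μ) =
      ∫ v, ∫ a, f (Fin.cons a v) ∂μ ∂(Measure.pi fun _ : Fin n => μ) := by
  rw [← ((measurePreserving_piFinSuccAbove (fun _ : Fin (n + 1) => μ) 0).symm).integral_comp']
  have he : ∀ p : G × (Fin n → G),
      (MeasurableEquiv.piFinSuccAbove (fun _ : Fin (n + 1) => G) 0).symm p = Fin.cons p.1 p.2 := fun p => by
    simp [MeasurableEquiv.piFinSuccAbove, Fin.consEquiv]
  simp only [he]
  rw [integral_prod_symm]
  have hm : Measurable fun p : G × (Fin n → G) => (Fin.cons p.1 p.2 : Fin (n + 1) → G) := by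
    simp only [← he]
    exact MeasurableEquiv.measurable _
  exact integrable_comp _ hf hm

theorem measurable_cons {n : ℕ} {α : Type*} [MeasurableSpace α] {a : α → G} {v : α → Fin n → G}
    (ha : Measurable a) (hv : Measurable v) : Measurable fun x => (Fin.cons (a x) (v x) : Fin (n + 1) → G) := by
  refine measurable_pi_lambda _ fun i => ?_
  refine Fin.cases ?_ (fun j => ?_) i
  · simpa using ha
  · simpa [Function.comp_def] using (measurable_pi_apply j).comp hv

end

/-- Alternating sum over all subsets. -/
noncomputable def alt {G : Type u} [AddCommGroup G] (φ : G → ℝ) {n : ℕ} (x : Fin n → G) (c : G) : ℝ :=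
  ∑ I ∈ (univ : Finset (Fin n)).powerset, (-1 : ℝ) ^ I.card * φ (c + ∑ i ∈ I, x i)

theorem alt_cons {G : Type u} [AddCommGroup G] (φ : G → ℝ) {n : ℕ} (a : G) (x : Fin n → G) (c : G) :
    alt φ (Fin.cons a x : Fin (n + 1) → G) c = alt φ x c - alt φ x (c + a) := by
  classical
  unfold alt
  have h0 : (0 : Fin (n + 1)) ∉ (univ : Finset (Fin n)).image Fin.succ := by simp [Fin.succ_ne_zero]
  have hu : (univ : Finset (Fin (n + 1))) = insert 0 ((univ : Finset (Fin n)).image Fin.succ) := by
    ext i
    refine Fin.cases ?_ (fun j => ?_) i <;> simp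
  rw [hu, Finset.sum_powerset_insert h0, Finset.powerset_image,
    Finset.sum_image (fun s _ t _ h => Finset.image_injective (Fin.succ_injective n) h),
    Finset.sum_image (fun s _ t _ h => Finset.image_injective (Fin.succ_injective n) h), sub_eq_add_neg,
    ← Finset.sum_neg_distrib]
  congr 1
  · refine Finset.sum_congr rfl fun I _ => ?_
    rw [Finset.card_image_of_injective _ (Fin.succ_injective n), Finset.sum_image fun p _ q _ h => Fin.succ_injective n h]
    simp
  · refine Finset.sum_congr rfl fun I _ => ?_
    have hI : (0 : Fin (n + 1)) ∉ I.image Fin.succ := by simp [Fin.succ_ne_zero]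
    rw [Finset.card_insert_of_notMem hI, Finset.sum_insert hI, Finset.card_image_of_injective _ (Fin.succ_injective n),
      Finset.sum_image fun p _ q _ h => Fin.succ_injective n h]
    simp [pow_succ, add_assoc]

theorem deviation_eq {G : Type u} [AddCommGroup G] (φ : G → ℝ) (m : ℕ) (x : Fin (m + 1) → G) :
    ∑ I ∈ ((univ : Finset (Fin (m + 1))).powerset.erase ∅), (-1 : ℝ) ^ (m + 1 + I.card) * φ (∑ i ∈ I, x i) =
      (-1 : ℝ) ^ (m + 1) * (alt φ x 0 - φ 0) := by
  classical
  rw [Finset.sum_erase_eq_sub (Finset.empty_mem_powerset _), alt, mul_sub, Finset.mul_sum]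
  simp [pow_add, mul_assoc]

section
variable {G : Type u} [AddCommGroup G] [TopologicalSpace G] [IsTopologicalAddGroup G] [CompactSpace G] [T2Space G]
    [MeasurableSpace G] [BorelSpace G] (μ : Measure G) [μ.IsAddHaarMeasure] [IsProbabilityMeasure μ]

/-- The potential. -/
noncomputable def pot {m : ℕ} (ψ : (Fin (m + 1) → G) → ℝ) (g : G) : ℝ :=
  (-1 : ℝ) ^ m * ∫ u, ψ (Fin.cons g u) ∂(Measure.pi fun _ : Fin m => μ)

theorem continuous_pot {m : ℕ} {ψ : (Fin (m + 1) → G) → ℝ} (hψ : Continuous ψ) : Continuous (pot μ ψ) :=
  continuous_const.mul (continuous_integral_param _ hψ (e := fun g u => Fin.cons g u)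
    (Continuous.finCons continuous_fst continuous_snd) fun g => measurable_cons measurable_const measurable_id)

def IsCocycle {m : ℕ} (ψ : (Fin (m + 1) → G) → ℝ) : Prop :=
  ∀ (i j : Fin (m + 1)), i ≠ j → ∀ (x : Fin (m + 1) → G) (a b c : G),
    ψ (Function.update (Function.update x i (a + b)) j c) + ψ (Function.update (Function.update x i a) j b) =
      ψ (Function.update (Function.update x i a) j (b + c)) + ψ (Function.update (Function.update x i b) j c)

theorem eq_deviation : ∀ (m : ℕ) (ψ : (Fin (m + 1) → G) → ℝ), Continuous ψ → IsCocycle ψ →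
    ∀ x, ψ x = (-1 : ℝ) ^ (m + 1) * (alt (pot μ ψ) x 0 - pot μ ψ 0) := by
  intro m
  induction m with
  | zero =>
    intro ψ _ _ x
    have hx : x = Fin.cons (x 0) (default : Fin 0 → G) := funext fun i => by
      fin_cases i; simp
    have hpot : ∀ g, pot μ ψ g = ψ (Fin.cons g default) := fun g => by
      have : IsProbabilityMeasure (Measure.pi fun _ : Fin 0 => μ) := inferInstance
      simp [pot, integral_unique]
    conv_rhs => rw [hx, alt_cons]
    simp [alt, hpot]
    rw [← hx]
  | succ m ih =>
    intro ψ hψ hco x
    let ins : G → (Fin (m + 1) → G) → (Fin (m + 2) → G) := fun u y => Fin.cons (y 0) (Fin.cons u (Fin.tail y))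
    let sc : Fin (m + 1) → Fin (m + 2) := Fin.cases 0 fun l => l.succ.succ
    have hins : ∀ u y l a, Function.update (ins u y) (sc l) a = ins u (Function.update y l a) := by
      intro u y l a
      refine Fin.cases ?_ (fun l => ?_) l
      · simp [ins, sc, Fin.update_cons_zero, Fin.tail_update_zero]
      · simp only [ins, sc, Fin.cases_succ]
        rw [← Fin.cons_update, ← Fin.cons_update, Fin.tail_update_succ,
          Function.update_of_ne (Fin.succ_ne_zero l).symm]
    have hsc : Function.Injective sc := by
      intro i j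
      refine Fin.cases ?_ (fun i => ?_) i <;> refine Fin.cases ?_ (fun j => ?_) j <;> simp [sc, Fin.succ_ne_zero, (Fin.succ_ne_zero _).symm]
    have hmins : ∀ y, Measurable fun u => ins u y := fun y =>
      measurable_cons measurable_const (measurable_cons measurable_id measurable_const)
    have hint : ∀ y, Integrable (fun u => ψ (ins u y)) μ := fun y => integrable_comp μ hψ (hmins y)
    let Φ : (Fin (m + 1) → G) → ℝ := fun y => -∫ u, ψ (ins u y) ∂μ
    have hΦ : Continuous Φ := (continuous_integral_param μ hψ (e := fun y u => ins u y)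
      (Continuous.finCons ((continuous_apply 0).comp continuous_fst)
        (Continuous.finCons continuous_snd (continuous_pi fun l => (continuous_apply l.succ).comp continuous_fst))) hmins).neg
    have hΦco : IsCocycle Φ := by
      intro i j hij y a b c
      have h : ∀ u, ψ (ins u (Function.update (Function.update y i (a + b)) j c)) +
          ψ (ins u (Function.update (Function.update y i a) j b)) =
          ψ (ins u (Function.update (Function.update y i a) j (b + c))) +
          ψ (ins u (Function.update (Function.update y i b) j c)) := fun u => by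
        simp only [← hins]
        exact hco (sc i) (sc j) (hsc.ne hij) (ins u y) a b c
      have h' := integral_congr_ae (μ := μ) (Filter.Eventually.of_forall h)
      rw [integral_add (hint _) (hint _), integral_add (hint _) (hint _)] at h'
      simp only [Φ]
      linarith
    have hpot : pot μ Φ = pot μ ψ := by
      funext g
      have hc : Continuous fun v : Fin (m + 1) → G => ψ (Fin.cons g v) :=
        hψ.comp (Continuous.finCons continuous_const continuous_id)
      simp only [pot, Φ]
      rw [integral_succ μ hc, integral_neg, pow_succ]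
      simp only [ins, Fin.cons_zero, Fin.tail_cons]
      ring
    obtain ⟨p, q, r, rfl⟩ : ∃ p q r, x = Fin.cons p (Fin.cons q r) :=
      ⟨x 0, x 1, Fin.tail (Fin.tail x), by
        conv_lhs => rw [← Fin.cons_self_tail x, ← Fin.cons_self_tail (Fin.tail x)]
        rfl⟩
    have key : ψ (Fin.cons p (Fin.cons q r)) =
        Φ (Fin.cons (p + q) r) - Φ (Fin.cons p r) - Φ (Fin.cons q r) := by
      have hp : ∀ a b, Function.update (Function.update (Fin.cons p (Fin.cons q r) : Fin (m + 2) → G) 0 a) 1 b =
          ins b (Fin.cons a r) := fun a b => by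
        simp only [ins, Fin.cons_zero, Fin.tail_cons, Fin.update_cons_zero]
        rw [show (1 : Fin (m + 2)) = (0 : Fin (m + 1)).succ from rfl, ← Fin.cons_update, Fin.update_cons_zero]
      have h : ∀ c, ψ (ins c (Fin.cons (p + q) r)) + ψ (ins q (Fin.cons p r)) =
          ψ (ins (q + c) (Fin.cons p r)) + ψ (ins c (Fin.cons q r)) := fun c => by
        simp only [← hp]
        exact hco 0 1 (by simp) _ p q c
      have h' := integral_congr_ae (μ := μ) (Filter.Eventually.of_forall h)
      have hI : Integrable (fun c => ψ (ins (q + c) (Fin.cons p r))) μ :=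
        integrable_comp μ hψ ((hmins _).comp (measurable_const_add q))
      rw [integral_add (hint _) (integrable_const _), integral_add hI (hint _),
        integral_add_left_eq_self (fun u => ψ (ins u (Fin.cons p r))) q, integral_const] at h'
      simp only [probReal_univ, one_smul] at h'
      simp only [Φ]
      have : ψ (ins q (Fin.cons p r)) = ψ (Fin.cons p (Fin.cons q r)) := by simp [ins]
      linarith
    rw [key, ih Φ hΦ hΦco, ih Φ hΦ hΦco, ih Φ hΦ hΦco, hpot]
    simp only [alt_cons, zero_add]
    ring

theorem pot_unique (m : ℕ) (φ : G → ℝ) (hφ : Continuous φ) (ψ : (Fin (m + 2) → G) → ℝ)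
    (h : ∀ x, ψ x = (-1 : ℝ) ^ (m + 2) * (alt φ x 0 - φ 0)) : pot μ ψ = φ := by
  set K := ∫ a, φ a ∂μ
  have hA : ∀ (n : ℕ) (c : G), Continuous fun v : Fin n → G => alt φ v c := fun n c => by
    unfold alt
    exact continuous_finsetSum _ fun I _ => continuous_const.mul
      (hφ.comp (continuous_const.add (continuous_finsetSum _ fun i _ => continuous_apply i)))
  have hshift : ∀ c : G, ∫ a, φ (c + a) ∂μ = K := fun c => integral_add_left_eq_self φ c
  have hint : ∀ c : G, Integrable (fun a => φ (c + a)) μ := fun c =>
    integrable_comp (n := 1) μ (f := fun v => φ (c + v 0)) (hφ.comp (continuous_const.add (continuous_apply 0)))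
      (e := fun a _ => a) (measurable_pi_lambda _ fun _ => measurable_id)
  have hT : ∀ (n : ℕ) (c : G), ∫ u, alt φ u c ∂(Measure.pi fun _ : Fin (n + 1) => μ) = φ c - K := by
    intro n
    induction n with
    | zero =>
      intro c
      rw [integral_succ μ (hA 1 c), integral_unique]
      simp only [probReal_univ, one_smul, alt_cons]
      simp only [alt, Finset.univ_eq_empty, Finset.powerset_empty, Finset.sum_singleton, Finset.card_empty,
        pow_zero, one_mul, Finset.sum_empty, add_zero]
      rw [integral_sub (integrable_const _) (hint c), integral_const, hshift]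
      simp
    | succ n ih =>
      intro c
      rw [integral_succ μ (hA (n + 2) c)]
      simp only [alt_cons]
      have hc2 : Continuous fun p : G × (Fin (n + 1) → G) => alt φ p.2 (c + p.1) := by
        unfold alt
        exact continuous_finsetSum _ fun I _ => continuous_const.mul (hφ.comp
          ((continuous_const.add continuous_fst).add
            (continuous_finsetSum _ fun i _ => (continuous_apply i).comp continuous_snd)))
      have hi1 : ∀ v : Fin (n + 1) → G, Integrable (fun a => alt φ v (c + a)) μ := fun v => by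
        have hcv : Continuous fun w : Fin 1 → G => ((w 0, v) : G × (Fin (n + 1) → G)) :=
          (continuous_apply 0).prodMk continuous_const
        exact integrable_comp (n := 1) μ (hc2.comp hcv) (e := fun a _ => a) (measurable_pi_lambda _ fun _ => measurable_id)
      rw [integral_congr_ae (Filter.Eventually.of_forall fun v => integral_sub (integrable_const _) (hi1 v))]
      simp only [integral_const, probReal_univ, one_smul]
      have hcw : Continuous fun w : Fin (n + 2) → G => ((w 0, Fin.tail w) : G × (Fin (n + 1) → G)) :=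
        (continuous_apply 0).prodMk (continuous_pi fun l : Fin (n + 1) => continuous_apply (Fin.succ l))
      have hc3 : Continuous fun w : Fin (n + 2) → G => alt φ (Fin.tail w) (c + w 0) := hc2.comp hcw
      have hJ : Integrable (fun p : G × (Fin (n + 1) → G) => alt φ p.2 (c + p.1))
          (μ.prod (Measure.pi fun _ : Fin (n + 1) => μ)) := by
        have := integrable_comp (μ.prod (Measure.pi fun _ : Fin (n + 1) => μ)) hc3
          (measurable_cons measurable_fst measurable_snd)
        simpa using this
      have hI1 : Integrable (fun v : Fin (n + 1) → G => alt φ v c) (Measure.pi fun _ : Fin (n + 1) => μ) :=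
        integrable_comp _ (hA (n + 1) c) measurable_id
      have hI2 : Integrable (fun v : Fin (n + 1) → G => ∫ a, alt φ v (c + a) ∂μ) (Measure.pi fun _ : Fin (n + 1) => μ) :=
        hJ.integral_prod_right
      rw [integral_sub hI1 hI2, ih, ← integral_prod_symm _ hJ, integral_prod _ hJ]
      simp only [ih]
      rw [integral_sub (hint c) (integrable_const _), hshift, integral_const]
      simp
  have hI : ∀ c : G, Integrable (fun v : Fin (m + 1) → G => alt φ v c) (Measure.pi fun _ : Fin (m + 1) => μ) :=
    fun c => integrable_comp _ (hA _ c) measurable_id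
  have hsub : ∀ c : G, Integrable (fun v : Fin (m + 1) → G => alt φ v 0 - alt φ v c) (Measure.pi fun _ : Fin (m + 1) => μ) :=
    fun c => (hI 0).sub (hI c)
  funext g
  have h1 : ∀ u : Fin (m + 1) → G, ψ (Fin.cons g u) =
      (-1 : ℝ) ^ (m + 2) * (alt φ u 0 - alt φ u g - φ 0) := fun u => by
    rw [h, alt_cons, zero_add]
  simp only [pot, h1, integral_const_mul]
  rw [integral_sub (hsub g) (integrable_const _), integral_sub (hI 0) (hI g),
    hT, hT, integral_const]
  simp only [probReal_univ, one_smul, ← mul_assoc, ← pow_add]
  rw [show m + 1 + (m + 2) = 2 * (m + 1) + 1 by ring, pow_succ, pow_mul]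
  simp

end

/-- Let G be a compact Hausdorff commutative topological group, written additively, μ its Haar measure
of total mass 1, m ≥ 1 an integer and ψ : G^{m+1} → ℝ a continuous function which is a 2-cocycle
with respect to every pair of variables: for all positions i ≠ j, every point x of G^{m+1} and all
a, b, c in G, writing x[i ↦ a, j ↦ c] for x with its i-th coordinate replaced by a and its j-th by
c, one has ψ(x[i ↦ a+b, j ↦ c]) + ψ(x[i ↦ a, j ↦ b]) = ψ(x[i ↦ a, j ↦ b+c]) + ψ(x[i ↦ b, j ↦ c]).
Let φ : G → ℝ be φ(g) = (−1)^m ∫_{G^m} ψ(g, u_1, …, u_m) dμ^{⊗m}(u). Then ψ is the (m+1)-st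
deviation of φ, namely ψ(x) = Σ_{∅ ≠ I ⊆ {0,…,m}} (−1)^{m+1+|I|} φ(Σ_{i ∈ I} x_i) for every x; φ is
continuous; and φ is the unique continuous function G → ℝ with this property. -/
theorem result {G : Type u} [AddCommGroup G] [TopologicalSpace G] [IsTopologicalAddGroup G] [CompactSpace G] [T2Space G]
    [MeasurableSpace G] [BorelSpace G] (μ : MeasureTheory.Measure G) [μ.IsAddHaarMeasure] [MeasureTheory.IsProbabilityMeasure μ]
    (m : ℕ) (hm : 1 ≤ m) (ψ : (Fin (m + 1) → G) → ℝ) (hψc : Continuous ψ)
    (hψ : ∀ (i j : Fin (m + 1)), i ≠ j → ∀ (x : Fin (m + 1) → G) (a b c : G),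
      ψ (Function.update (Function.update x i (a + b)) j c) + ψ (Function.update (Function.update x i a) j b) =
        ψ (Function.update (Function.update x i a) j (b + c)) + ψ (Function.update (Function.update x i b) j c)) :
    (∀ x : Fin (m + 1) → G,
      ψ x = ∑ I ∈ ((Finset.univ : Finset (Fin (m + 1))).powerset.erase ∅),
        (-1 : ℝ) ^ (m + 1 + I.card) * ((-1 : ℝ) ^ m *
          ∫ u, ψ (Fin.cons (∑ i ∈ I, x i) u) ∂(MeasureTheory.Measure.pi (fun _ : Fin m => μ)))) ∧
    Continuous (fun g : G => (-1 : ℝ) ^ m * ∫ u, ψ (Fin.cons g u) ∂(MeasureTheory.Measure.pi (fun _ : Fin m => μ))) ∧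
    (∀ φ : G → ℝ, Continuous φ → (∀ x : Fin (m + 1) → G,
      ψ x = ∑ I ∈ ((Finset.univ : Finset (Fin (m + 1))).powerset.erase ∅), (-1 : ℝ) ^ (m + 1 + I.card) * φ (∑ i ∈ I, x i)) →
      φ = fun g => (-1 : ℝ) ^ m * ∫ u, ψ (Fin.cons g u) ∂(MeasureTheory.Measure.pi (fun _ : Fin m => μ))) := by
  refine ⟨fun x => ?_, continuous_pot μ hψc, fun φ hφ h => ?_⟩
  · rw [eq_deviation μ m ψ hψc hψ x, ← deviation_eq]
    rfl
  · obtain ⟨m, rfl⟩ : ∃ l, m = l + 1 := ⟨m - 1, by omega⟩
    exact (pot_unique μ m φ hφ ψ fun x => (h x).trans (deviation_eq φ (m + 1) x)).symm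

end Groth.Agent.S14297
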