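import Groth.Statements.S14298
import Groth.Agent.H12Pic.ExtendDesc
import Groth.Agent.H18Et.FEtDepth
import Groth.Agent.H11Ample.Converse
-- import your own Groth.Agent.* helpers here

set_option autoImplicit false
set_option linter.style.haveILetI false
universe u
open CategoryTheory CategoryTheory.Limits AlgebraicGeometry
open PicF

namespace Groth.Agent.S14298

/-- Let φ : X′ → X be a flat and surjective morphism of locally Noetherian schemes, V ⊆ X an open
subscheme which is big, in the sense that the local ring of X at every point outside V has depth at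
least 2, and L an invertible O_V-module. Then L extends to an invertible O_X-module (there is an
invertible M on X whose restriction to V is isomorphic to L) if and only if the pullback of L to
φ⁻¹(V) extends to an invertible O_{X′}-module. -/
theorem result {X X' : Scheme.{u}}
    [IsLocallyNoetherian X] [IsLocallyNoetherian X'] (φ : X' ⟶ X) [Flat φ] [Surjective φ]
    (V : X.Opens) (hV : ∀ x : X, x ∉ V → 2 ≤ LocCoh.depth (X.presheaf.stalk x) (X.presheaf.stalk x))
    (L : (V : Scheme.{u}).Modules) (hL : PicF.IsInvertible L) :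
    (∃ M : X.Modules, PicF.IsInvertible M ∧ Nonempty ((Scheme.Modules.pullback V.ι).obj M ≅ L)) ↔
      (∃ M' : X'.Modules, PicF.IsInvertible M' ∧
        Nonempty ((Scheme.Modules.pullback (φ ⁻¹ᵁ V).ι).obj M' ≅ (Scheme.Modules.pullback (φ ∣_ V)).obj L)) := by
  let ι' := (φ ⁻¹ᵁ V).ι
  constructor
  · rintro ⟨M, hM, ⟨e⟩⟩
    exact ⟨(Scheme.Modules.pullback φ).obj M, H11Ample.isInvertible_pullback φ hM,
      ⟨(Scheme.Modules.pullbackComp ι' φ).app M ≪≫
        (Scheme.Modules.pullbackCongr (morphismRestrict_ι φ V).symm).app M ≪≫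
        ((Scheme.Modules.pullbackComp (φ ∣_ V) V.ι).symm).app M ≪≫
        (Scheme.Modules.pullback (φ ∣_ V)).mapIso e⟩⟩
  · rintro ⟨M', hM', ⟨eM⟩⟩
    haveI : Coh.IsQCoh L := H28Mero.isQCoh_of_isInvertible hL
    refine ⟨(Scheme.Modules.pushforward V.ι).obj L,
      H12Pic.ExtendDesc.isInvertible_of_pullback V L hV hL fun x hx => ?_,
      ⟨(Scheme.Modules.restrictFunctorIsoPullback V.ι).symm.app _ ≪≫
        (asIso (Scheme.Modules.restrictAdjunction V.ι).counit).app L⟩⟩
    obtain ⟨x', hx'⟩ := φ.surjective x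
    have sq : IsPullback (φ ∣_ V) ι' V.ι φ := isPullback_morphismRestrict φ V
    haveI := S11133.result V.ι φ (φ ∣_ V) ι' sq L
    let θ : (Scheme.Modules.pullback φ).obj ((Scheme.Modules.pushforward V.ι).obj L) ≅
        (Scheme.Modules.pushforward ι').obj ((Scheme.Modules.pullback (φ ∣_ V)).obj L) :=
      asIso ((Scheme.Modules.pullback φ).map ((Scheme.Modules.pushforward V.ι).map
        ((Scheme.Modules.pullbackPushforwardAdjunction (φ ∣_ V)).unit.app L)) ≫
      (Scheme.Modules.pullback φ).map ((Scheme.Modules.pushforwardComp (φ ∣_ V) V.ι ≪≫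
          Scheme.Modules.pushforwardCongr sq.w ≪≫ (Scheme.Modules.pushforwardComp ι' φ).symm).hom.app
        ((Scheme.Modules.pullback (φ ∣_ V)).obj L)) ≫
      (Scheme.Modules.pullbackPushforwardAdjunction φ).counit.app
        ((Scheme.Modules.pushforward ι').obj ((Scheme.Modules.pullback (φ ∣_ V)).obj L)))
    obtain ⟨W, g, hW, hg⟩ := H12Pic.ExtendDesc.exists_gen_pushforward (φ ⁻¹ᵁ V)
      ((Scheme.Modules.pullback (φ ∣_ V)).obj L)
      (fun y hy => (hV (φ y) hy).trans (H18Et.FEtDepth.depth_le_of_flat φ y)) hM' eM x'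
    exact ⟨X', φ, x', inferInstance, hx', W, θ.inv.app W g, hW, H11Ample.isGen_map_iso θ.symm hg⟩

end Groth.Agent.S14298
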