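import Groth.Statements.S14305
import Mathlib.Algebra.BigOperators.Group.Finset.Powerset
import Mathlib.Data.Fin.Tuple.Basic
import Mathlib.Tactic

set_option autoImplicit false
universe u v
open PtDeg

namespace Groth.Agent.S14305

/-- full alternating sum -/
def phi {A : Type u} {G : Type v} [AddCommGroup A] [AddCommGroup G] {n : ℕ} (f : A → G) (x : Fin n → A) : G :=
  ∑ I ∈ (Finset.univ : Finset (Fin n)).powerset, ((-1 : ℤ) ^ (n + I.card)) • f (∑ i ∈ I, x i)

theorem phi_eq {A : Type u} {G : Type v} [AddCommGroup A] [AddCommGroup G] {n : ℕ} (f : A → G) (x : Fin n → A) :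
    phi f x = (-1 : ℤ) ^ n • f 0 + ∑ I ∈ ((Finset.univ : Finset (Fin n)).powerset.erase ∅), ((-1 : ℤ) ^ (n + I.card)) • f (∑ i ∈ I, x i) := by
  rw [phi, ← Finset.add_sum_erase _ _ (Finset.empty_mem_powerset _)]
  simp

theorem phi_split {A : Type u} {G : Type v} [AddCommGroup A] [AddCommGroup G] {n : ℕ} (f : A → G) (x : Fin n → A)
    (j : Fin n) (s : A) :
    phi f (Function.update x j s) = ∑ J ∈ ((Finset.univ : Finset (Fin n)).erase j).powerset,
      ((-1 : ℤ) ^ (n + J.card)) • (f (∑ i ∈ J, x i) - f (s + ∑ i ∈ J, x i)) := by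
  classical
  rw [phi]
  conv_lhs => rw [← Finset.insert_erase (Finset.mem_univ j)]
  rw [Finset.sum_powerset_insert (Finset.notMem_erase _ _), ← Finset.sum_add_distrib]
  refine Finset.sum_congr rfl fun J hJ => ?_
  have hj : j ∉ J := fun h => Finset.notMem_erase j _ (Finset.mem_powerset.mp hJ h)
  have e : ∑ i ∈ J, Function.update x j s i = ∑ i ∈ J, x i :=
    Finset.sum_congr rfl fun i hi => Function.update_of_ne (fun h : i = j => hj (h ▸ hi)) _ _
  rw [Finset.sum_insert hj, e, Function.update_self, Finset.card_insert_of_notMem hj, ← Nat.add_assoc, pow_succ]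
  module

theorem phi_cons {A : Type u} {G : Type v} [AddCommGroup A] [AddCommGroup G] {n : ℕ} (f : A → G) (a : A) (z : Fin n → A) :
    phi f (Fin.cons a z) = phi (fun w => f (a + w)) z - phi f z := by
  classical
  rw [show Fin.cons a z = Function.update (Fin.cons (0 : A) z : Fin (n + 1) → A) 0 a from (Fin.update_cons_zero _ _ _).symm,
    phi_split, phi, phi, ← Finset.sum_sub_distrib]
  have hmap : ((Finset.univ : Finset (Fin (n + 1))).erase 0).powerset =
      (Finset.univ : Finset (Fin n)).powerset.map (Finset.mapEmbedding ⟨Fin.succ, Fin.succ_injective n⟩).toEmbedding := by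
    ext J
    simp only [Finset.mem_powerset, Finset.mem_map, Finset.subset_univ, true_and, RelEmbedding.coe_toEmbedding]
    constructor
    · intro hJ
      refine ⟨Finset.univ.filter (fun i => Fin.succ i ∈ J), ?_⟩
      ext i
      simp only [Finset.mapEmbedding_apply, Finset.mem_map, Finset.mem_filter, Finset.mem_univ, true_and,
        Function.Embedding.coeFn_mk]
      constructor
      · rintro ⟨k, hk, rfl⟩; exact hk
      · intro hi
        obtain ⟨k, rfl⟩ := Fin.exists_succ_eq_of_ne_zero (Finset.ne_of_mem_erase (hJ hi))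
        exact ⟨k, hi, rfl⟩
    · rintro ⟨K, rfl⟩ i hi
      simp only [Finset.mapEmbedding_apply, Finset.mem_map, Function.Embedding.coeFn_mk] at hi
      obtain ⟨k, -, rfl⟩ := hi
      simp [Fin.succ_ne_zero]
  rw [hmap, Finset.sum_map]
  refine Finset.sum_congr rfl fun K _ => ?_
  simp only [RelEmbedding.coe_toEmbedding, Finset.mapEmbedding_apply, Finset.card_map, Finset.sum_map,
    Function.Embedding.coeFn_mk, Fin.cons_succ]
  rw [show n + 1 + K.card = (n + K.card) + 1 by omega, pow_succ]
  module

theorem phi_add {A : Type u} {G : Type v} [AddCommGroup A] [AddCommGroup G] {n : ℕ} (f : A → G) (y : Fin n → A)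
    (j : Fin n) (a b : A) :
    phi f (Fin.cons a (Function.update y j b)) = phi f (Function.update y j (a + b)) - phi f (Function.update y j a) -
      phi f (Function.update y j b) := by
  rw [phi_cons, phi_split, phi_split, phi_split, phi_split, ← Finset.sum_sub_distrib, ← Finset.sum_sub_distrib,
    ← Finset.sum_sub_distrib]
  refine Finset.sum_congr rfl fun J _ => ?_
  rw [add_assoc a b]
  module

/-- Let A and G be abelian groups, written additively, f : A → G a map and n ≥ 1. For k ≥ 0 the k-th
deviation of f is the map A^k → G, (y_1, …, y_k) ↦ Σ_{∅ ≠ I ⊆ {1,…,k}} (−1)^{k+|I|} f(Σ_{i ∈ I}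
y_i). Then f is pointed of degree n, meaning that its (n+1)-st deviation vanishes identically, if
and only if its n-th deviation is additive in each variable separately (with the other variables
fixed). -/
theorem result {A : Type u} {G : Type v} [AddCommGroup A] [AddCommGroup G]
    (f : A → G) (n : ℕ) (hn : 1 ≤ n) :
    (∀ x : Fin (n + 1) → A, ∑ I ∈ ((Finset.univ : Finset (Fin (n + 1))).powerset.erase ∅), ((-1 : ℤ) ^ (n + 1 + I.card)) • f (∑ i ∈ I, x i) = 0) ↔
      (∀ (j : Fin n) (y : Fin n → A) (a b : A),
        ∑ I ∈ ((Finset.univ : Finset (Fin n)).powerset.erase ∅), ((-1 : ℤ) ^ (n + I.card)) • f (∑ i ∈ I, (Function.update y j (a + b)) i) =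
          ∑ I ∈ ((Finset.univ : Finset (Fin n)).powerset.erase ∅), ((-1 : ℤ) ^ (n + I.card)) • f (∑ i ∈ I, (Function.update y j a) i) + ∑ I ∈ ((Finset.univ : Finset (Fin n)).powerset.erase ∅), ((-1 : ℤ) ^ (n + I.card)) • f (∑ i ∈ I, (Function.update y j b) i)) := by
  classical
  constructor
  · intro h j y a b
    have h0 := h (Fin.cons a (Function.update y j b))
    have key := phi_add f y j a b
    simp only [phi_eq, h0, add_zero, pow_succ, mul_neg, mul_one, neg_smul] at key
    linear_combination (norm := module) (-key)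
  · intro h x
    obtain ⟨k, rfl⟩ : ∃ k, n = k + 1 := ⟨n - 1, by omega⟩
    have key := phi_add f (Fin.tail x) 0 (x 0) (Fin.tail x 0)
    rw [Function.update_eq_self, Fin.cons_self_tail] at key
    have h1 := h 0 (Fin.tail x) (x 0) (Fin.tail x 0)
    rw [Function.update_eq_self] at h1
    simp only [phi_eq, h1, pow_succ (-1 : ℤ) (k + 1), mul_neg, mul_one, neg_smul] at key
    linear_combination (norm := module) key

end Groth.Agent.S14305
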