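import Groth.Statements.S14309
import Groth.Prelude.Def_CAlgX
import Mathlib.RingTheory.Flat.FaithfullyFlat.Basic
import Mathlib.RingTheory.MvPolynomial.IrreducibleQuadratic
import Mathlib.Tactic.LinearCombination
import Mathlib.Tactic.Ring

set_option autoImplicit false
universe u v w x y
open CAlg

namespace Groth.Agent.S14309

/-- Let R be a commutative ring; A, B, C commutative R-algebras; i : A → B and j : A → C jointly
injective R-algebra maps; c a non-zero-divisor of B; u : C → B/(c) a ring map with u ∘ j equal to i
followed by reduction modulo c; ζ in A with i ζ = c and j ζ = 0; η : R[X_σ, Z] → A an R-algebra map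
with η(Z) = ζ; a : R[Y_τ] → B a surjective R-algebra map; η_Z : R[X_σ, Z] → R[Y_τ] a surjective
R-algebra map with a ∘ η_Z = i ∘ η. Fix c̃ in R[Y_τ] with a(c̃) = c, a family (p_h) generating the
kernel of the composite R[X_σ] → R[X_σ, Z] → A → C, a family (q'_h) generating the kernel of a
together with lifts q_h along η_Z, a family (v_h) generating the kernel of η_Z, and elements g'_h of
R[Y_τ] with η_Z(p_h) + g'_h c̃ in the ideal (q'_h), together with lifts g_h along η_Z. Then the
kernel of η is the ideal generated by the elements Z q_h, Z v_h and p_h + Z g_h. (The published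
statement is for the rings of cycle classes, with coefficients ℤ[1/6], of a smooth quotient stack, a
smooth closed substack whose normal bundle has top Chern class c a non-zero-divisor, and the open
complement; this row states the ring-theoretic content for any such square of commutative rings in
which A embeds in B × C.) -/
theorem result
    {R : Type u} [CommRing R] {A : Type v} {B : Type w} {C : Type x}
    [CommRing A] [CommRing B] [CommRing C] [Algebra R A] [Algebra R B] [Algebra R C]
    (i : A →ₐ[R] B) (j : A →ₐ[R] C)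
    (hinj : ∀ t : A, i t = 0 → j t = 0 → t = 0)
    (c : B) (hc : c ∈ nonZeroDivisors B) (u : C →+* B ⧸ Ideal.span ({c} : Set B))
    (hu : ∀ t : A, u (j t) = Ideal.Quotient.mk (Ideal.span ({c} : Set B)) (i t))
    (ζ : A) (hiζ : i ζ = c) (hjζ : j ζ = 0)
    {σ τ ιp ιq ιv : Type y}
    (η : MvPolynomial (Option σ) R →ₐ[R] A) (hη : η (MvPolynomial.X none) = ζ)
    (a : MvPolynomial τ R →ₐ[R] B) (ha : Function.Surjective a)
    (ηZ : MvPolynomial (Option σ) R →ₐ[R] MvPolynomial τ R)
    (hcomm : ∀ t, a (ηZ t) = i (η t)) (hηZ : Function.Surjective ηZ)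
    (cZ : MvPolynomial τ R) (hcZ : a cZ = c)
    (p : ιp → MvPolynomial σ R)
    (hp : Ideal.span (Set.range p) =
      RingHom.ker ((j.comp η).comp (MvPolynomial.rename (Option.some : σ → Option σ))))
    (q' : ιq → MvPolynomial τ R) (hq' : Ideal.span (Set.range q') = RingHom.ker a)
    (q : ιq → MvPolynomial (Option σ) R) (hq : ∀ h, ηZ (q h) = q' h)
    (v : ιv → MvPolynomial (Option σ) R) (hv : Ideal.span (Set.range v) = RingHom.ker ηZ)
    (g' : ιp → MvPolynomial τ R)
    (hg' : ∀ h, ηZ (MvPolynomial.rename (Option.some : σ → Option σ) (p h)) + g' h * cZ ∈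
      Ideal.span (Set.range q'))
    (g : ιp → MvPolynomial (Option σ) R) (hg : ∀ h, ηZ (g h) = g' h) :
    RingHom.ker η = Ideal.span
      (Set.range (fun h : ιq => MvPolynomial.X none * q h) ∪
        Set.range (fun h : ιv => MvPolynomial.X none * v h) ∪
        Set.range (fun h : ιp =>
          MvPolynomial.rename (Option.some : σ → Option σ) (p h) + MvPolynomial.X none * g h)) := by
  classical
  set S := Ideal.span
      (Set.range (fun h : ιq => MvPolynomial.X none * q h) ∪
        Set.range (fun h : ιv => MvPolynomial.X none * v h) ∪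
        Set.range (fun h : ιp =>
          MvPolynomial.rename (Option.some : σ → Option σ) (p h) + MvPolynomial.X none * g h)) with hS
  have hjη : ∀ F, j (η (MvPolynomial.X none * F)) = 0 := fun F => by rw [map_mul, hη, map_mul, hjζ, zero_mul]
  have hiη : ∀ F, i (η (MvPolynomial.X none * F)) = c * a (ηZ F) := fun F => by
    rw [map_mul, hη, map_mul, hiζ, hcomm]
  have hker0 : ∀ x ∈ Ideal.span (Set.range q'), a x = 0 := fun x hx => by rwa [hq'] at hx
  have hgen : ∀ h, η (MvPolynomial.rename (Option.some : σ → Option σ) (p h) + MvPolynomial.X none * g h) = 0 := by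
    intro h
    refine hinj _ ?_ ?_
    · have h1 := hker0 _ (hg' h)
      rw [map_add, map_mul, hcZ] at h1
      rw [map_add, map_add, hiη, ← hcomm, hg]
      linear_combination h1
    · rw [map_add, map_add, hjη, add_zero]
      have : p h ∈ RingHom.ker ((j.comp η).comp (MvPolynomial.rename (Option.some : σ → Option σ))) :=
        hp ▸ Ideal.subset_span ⟨h, rfl⟩
      exact this
  refine le_antisymm (fun F hF => ?_) (Ideal.span_le.mpr ?_)
  · have hdec : ∃ p0 F', F = MvPolynomial.rename Option.some p0 + MvPolynomial.X none * F' := by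
      clear hF
      induction F using MvPolynomial.induction_on with
      | C r => exact ⟨MvPolynomial.C r, 0, by simp⟩
      | add f f' hf hf' =>
        obtain ⟨p1, F1, rfl⟩ := hf
        obtain ⟨p2, F2, rfl⟩ := hf'
        exact ⟨p1 + p2, F1 + F2, by rw [map_add]; ring⟩
      | mul_X f o hf =>
        obtain ⟨p1, F1, rfl⟩ := hf
        rcases o with _ | s
        · exact ⟨0, MvPolynomial.rename Option.some p1 + MvPolynomial.X none * F1, by rw [map_zero]; ring⟩
        · exact ⟨p1 * MvPolynomial.X s, F1 * MvPolynomial.X (some s), by rw [map_mul, MvPolynomial.rename_X]; ring⟩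
    obtain ⟨p0, F', rfl⟩ := hdec
    have hp0 : p0 ∈ Ideal.span (Set.range p) := by
      rw [hp, RingHom.mem_ker]
      have := congrArg j (RingHom.mem_ker.mp hF)
      rw [map_add, map_add, hjη, add_zero, map_zero] at this
      exact this
    obtain ⟨r, hr⟩ := (Finsupp.mem_span_range_iff_exists_finsupp).mp hp0
    set E := r.sum fun h rh => MvPolynomial.rename Option.some rh *
      (MvPolynomial.rename (Option.some : σ → Option σ) (p h) + MvPolynomial.X none * g h) with hE
    have hEmem : E ∈ S := by
      refine Ideal.sum_mem _ fun h _ => Ideal.mul_mem_left _ _ (Ideal.subset_span ?_)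
      exact Or.inr ⟨h, rfl⟩
    have hE0 : η E = 0 := by
      rw [hE, Finsupp.sum, map_sum]
      exact Finset.sum_eq_zero fun h _ => by rw [map_mul, hgen, mul_zero]
    set G := r.sum fun h rh => MvPolynomial.rename Option.some rh * g h with hG
    have hEeq : E = MvPolynomial.rename Option.some p0 + MvPolynomial.X none * G := by
      simp only [hE, hG, ← hr, Finsupp.sum, map_sum, Finset.mul_sum, ← Finset.sum_add_distrib, smul_eq_mul, map_mul]
      exact Finset.sum_congr rfl fun h _ => by ring
    have hF'' : a (ηZ (F' - G)) = 0 := by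
      have h1 : η (MvPolynomial.X none * (F' - G)) = 0 := by
        have := RingHom.mem_ker.mp hF
        rw [show MvPolynomial.X none * (F' - G) =
          (MvPolynomial.rename Option.some p0 + MvPolynomial.X none * F') - E from by rw [hEeq]; ring, map_sub, hE0,
          this, sub_zero]
      have h2 := congrArg i h1
      rw [hiη, map_zero] at h2
      exact mem_nonZeroDivisors_iff.mp hc |>.1 _ h2
    have hspanZ : ηZ (F' - G) ∈ (Ideal.span (Set.range q)).map ηZ.toRingHom := by
      rw [Ideal.map_span, ← Set.range_comp, show (ηZ.toRingHom : _ → _) ∘ q = q' from funext hq, hq']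
      exact hF''
    rw [Ideal.mem_map_iff_of_surjective ηZ.toRingHom hηZ] at hspanZ
    obtain ⟨Q, hQ, hQe⟩ := hspanZ
    have hk : F' - G - Q ∈ Ideal.span (Set.range v) := by
      rw [hv, RingHom.mem_ker, map_sub, ← hQe]; exact sub_self _
    have hXmul : ∀ (T : Set (MvPolynomial (Option σ) R)) (x : MvPolynomial (Option σ) R),
        (∀ y ∈ T, MvPolynomial.X none * y ∈ S) → x ∈ Ideal.span T → MvPolynomial.X none * x ∈ S := by
      intro T x hT hx
      induction hx using Submodule.span_induction with
      | mem y hy => exact hT y hy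
      | zero => rw [mul_zero]; exact S.zero_mem
      | add y z _ _ h1 h2 => rw [mul_add]; exact S.add_mem h1 h2
      | smul r y _ h1 => rw [smul_eq_mul, mul_left_comm]; exact S.mul_mem_left _ h1
    have h1 := hXmul (Set.range q) Q (fun y ⟨h, hy⟩ => hy ▸ Ideal.subset_span (Or.inl (Or.inl ⟨h, rfl⟩))) hQ
    have h2 := hXmul (Set.range v) _ (fun y ⟨h, hy⟩ => hy ▸ Ideal.subset_span (Or.inl (Or.inr ⟨h, rfl⟩))) hk
    rw [show MvPolynomial.rename Option.some p0 + MvPolynomial.X none * F' =
      E + (MvPolynomial.X none * Q + MvPolynomial.X none * (F' - G - Q)) from by rw [hEeq]; ring]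
    exact S.add_mem hEmem (S.add_mem h1 h2)
  · rintro x ((⟨h, rfl⟩ | ⟨h, rfl⟩) | ⟨h, rfl⟩)
    · refine RingHom.mem_ker.mpr (hinj _ ?_ (hjη _))
      rw [hiη, hq, hker0 _ (Ideal.subset_span ⟨h, rfl⟩), mul_zero]
    · refine RingHom.mem_ker.mpr (hinj _ ?_ (hjη _))
      have h1 : v h ∈ RingHom.ker ηZ := hv ▸ Ideal.subset_span ⟨h, rfl⟩
      rw [hiη, RingHom.mem_ker.mp h1, map_zero, mul_zero]
    · exact RingHom.mem_ker.mpr (hgen h)

end Groth.Agent.S14309
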