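import Groth.Statements.S1431
import Groth.Agent.LeadStrat.VB.Main
import Groth.Agent.H19Grp.AntiAffine

set_option backward.isDefEq.respectTransparency false

set_option autoImplicit false
universe u
open FlatMor

namespace Groth.Agent.S1431

open AlgebraicGeometry CategoryTheory Limits in
/-- Let f : X → S be flat, proper and of finite presentation such that for every base change p : X_T → T
the map O_T → p_* O_{X_T} is an isomorphism, and let E be a finite locally free O_X-module. Then
some immersion j : Z → S of finite presentation has the property that a morphism g : T → S factors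
through j exactly when the pullback of E to X_T is isomorphic to the pullback along p of some finite
locally free O_T-module. -/
theorem result {X S : Scheme.{u}} (f : X ⟶ S) [Flat f] [IsProper f] [LocallyOfFinitePresentation f]
    (hO : ∀ (T : Scheme.{u}) (g : T ⟶ S) (U : T.Opens), IsIso ((pullback.snd f g).app U))
    (E : X.Modules) (hE : FlatMod.IsFinLocFree E) :
    ∃ (Z : Scheme.{u}) (j : Z ⟶ S), IsImmersion j ∧ LocallyOfFinitePresentation j ∧
      ∀ (T : Scheme.{u}) (g : T ⟶ S), (∃ g' : T ⟶ Z, g' ≫ j = g) ↔
        ∃ N : T.Modules, FlatMod.IsFinLocFree N ∧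
          Nonempty ((Scheme.Modules.pullback (pullback.snd f g)).obj N ≅ (Scheme.Modules.pullback (pullback.fst f g)).obj E) := by
  have hK : ∀ s : S, IsIso (f.fiberToSpecResidueField s).appTop := fun s =>
    hO _ (S.fromSpecResidueField s) ⊤
  have hconn : ∀ s : S, ConnectedSpace (f.fiber s) := fun s => by
    haveI := hK s
    haveI : Nonempty (f.fiber s) := by
      by_contra h
      haveI := not_nonempty_iff.1 h
      have hb := ConcreteCategory.bijective_of_isIso (f.fiberToSpecResidueField s).appTop
      haveI : Subsingleton Γ(Spec (S.residueField s), ⊤) := hb.1.subsingleton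
      have hF := Groth.Agent.H19Grp.AntiAffine.isField_Γ_Spec (S.residueField s)
      exact (not_subsingleton_iff_nontrivial.2 ⟨hF.exists_pair_ne⟩) this
    exact Groth.Agent.H19Grp.AntiAffine.connectedSpace_of_isIso_appTop (k := S.residueField s)
      (f.fiberToSpecResidueField s)
  obtain ⟨Z, ι, h1, h2, -, h4, -⟩ := Groth.Agent.LeadStrat.VB.exists_seesaw_vb f E hE hK hconn
  refine ⟨Z, ι, h1, h2, fun T u => (h4 T u).trans ⟨fun h => ?_, ?_⟩⟩
  · obtain ⟨N, hN, ⟨φ⟩⟩ := Groth.Agent.LeadStrat.VB.exists_vb_of_locTrivAny _
      (Groth.Agent.LeadStrat.VB.bijective_app_baseChange' f hK (IsPullback.of_hasPullback f u)) h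
    exact ⟨N, hN, ⟨φ.symm⟩⟩
  · rintro ⟨M, hM, ⟨φ⟩⟩
    exact Groth.Agent.LeadStrat.VB.locTrivAny_of_iso _ hM φ.symm

end Groth.Agent.S1431
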