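import Groth.Statements.S14311
import Groth.Agent.H1CAlg.PlaneGermTwo

set_option autoImplicit false
universe u
open ArSing

namespace Groth.Agent.S14311

/-- Let k be an algebraically closed field in which 2 ≠ 0, f a polynomial in x = X_0, y = X_1 over k and
a a zero of f in k². Then the gradient and all second partial derivatives of f vanish at a if and
only if the completed local ring k[[x,y]]/(f recentred at a) of the plane curve f = 0 at a is
isomorphic as a k-algebra neither to k[[x,y]]/(y^2 - x^(n+1)) for any natural number n nor to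
k[[x,y]]/(y^2). (Here n = 0, a smooth point, is allowed; with n ≥ 1 only, as in the published
definition of an A-singularity, the equivalence fails at smooth points of the curve. Only 2 ≠ 0 is
assumed of the characteristic; the published setting assumes a characteristic different from 2, 3, 5
and 7.) -/
theorem result
    {k : Type u} [Field k] [IsAlgClosed k] (h2 : (2 : k) ≠ 0) (f : MvPolynomial (Fin 2) k) (a : Fin 2 → k)
    (hfa : MvPolynomial.eval a f = 0) :
    ((∀ i : Fin 2, MvPolynomial.eval a (MvPolynomial.pderiv i f) = 0) ∧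
      ∀ i j : Fin 2, MvPolynomial.eval a (MvPolynomial.pderiv i (MvPolynomial.pderiv j f)) = 0) ↔
    ¬ ((∃ n : ℕ, Nonempty ((MvPowerSeries (Fin 2) k ⧸ Ideal.span
        ({(MvPolynomial.aeval (fun i : Fin 2 => MvPolynomial.X i + MvPolynomial.C (a i)) f).toMvPowerSeries} :
          Set (MvPowerSeries (Fin 2) k))) ≃ₐ[k] ArSing.ring k n)) ∨
        Nonempty ((MvPowerSeries (Fin 2) k ⧸ Ideal.span
        ({(MvPolynomial.aeval (fun i : Fin 2 => MvPolynomial.X i + MvPolynomial.C (a i)) f).toMvPowerSeries} :
          Set (MvPowerSeries (Fin 2) k))) ≃ₐ[k]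
          (MvPowerSeries (Fin 2) k ⧸ Ideal.span ({MvPowerSeries.X 1 ^ 2} : Set (MvPowerSeries (Fin 2) k))))) := by
  rw [← Groth.Agent.H1CAlg.PlaneGerm.τ_apply]
  exact Groth.Agent.H1CAlg.PlaneGerm.main h2 f a hfa

end Groth.Agent.S14311
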