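import Groth.Statements.S14313
import Groth.Agent.H28RR.Fibre
import Groth.Agent.H11Strict.Residual

set_option autoImplicit false
universe u
open CategoryTheory CategoryTheory.Limits AlgebraicGeometry TopologicalSpace
open Groth.Agent
open Surf

namespace Groth.Agent.S14313

/-- Let k be an algebraically closed field, S a smooth projective surface over k (integral, proper and
smooth over k, of dimension 2), f : S → C a surjective k-morphism onto a smooth projective curve
(integral, proper and smooth over k, of dimension 1) and F = f⁻¹(p) the fibre over a closed point p,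
with O_S(F) a tensor inverse of its ideal sheaf. Let D be a divisor (L = O_S(D) an invertible
module), Z_1 ≥ Z_2 ≥ ⋯ ≥ Z_n ≥ Z_{n+1} = 0 effective Cartier divisors (ideal sheaves I_1 ⊆ I_2 ⊆ ⋯ ⊆
I_{n+1} = O_S) and μ_1 > μ_2 > ⋯ > μ_n > μ_{n+1} = 0 rational numbers such that every N_i = D − Z_i
− μ_i F (1 ≤ i ≤ n + 1) is a nef ℚ-divisor: (D·Γ) − (Z_i·Γ) − μ_i (F·Γ) ≥ 0 for every integral curve
Γ ⊆ S, where (L·Γ) = χ(O_Γ ⊗ L) − χ(O_Γ) and (Z_i·Γ) = −(I_i·Γ). Put d_i = N_i·F = (D·F) − (Z_i·F) −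
μ_i (F·F). Then D² ≥ Σ_{i=1}^{n} (d_i + d_{i+1})(μ_i − μ_{i+1}); here (L·M) = χ(O_S) − χ(L) − χ(M) +
χ(L ⊗ M) for invertible L, M, packaged as FGA.intNum. (Indices run over Fin (n+1), position i
standing for i + 1.) (The published statement is for the chapter's fibration, with connected fibres,
semi-stable and relatively minimal, over an algebraically closed field of positive characteristic;
this row asks only that f be surjective and allows any algebraically closed field.) -/
theorem result (k : Type u) [Field k] [IsAlgClosed k]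
    (S : Scheme.{u}) [S.Over (Spec (CommRingCat.of k))] [IsProper (S ↘ (Spec (CommRingCat.of k)))]
    [Smooth (S ↘ (Spec (CommRingCat.of k)))] [IsIntegral S] (hdim : topologicalKrullDim S = 2)
    (C : Scheme.{u}) [C.Over (Spec (CommRingCat.of k))] [IsProper (C ↘ (Spec (CommRingCat.of k)))]
    [Smooth (C ↘ (Spec (CommRingCat.of k)))] [IsIntegral C] (hdimC : topologicalKrullDim C = 1)
    (f : S ⟶ C) [f.IsOver (Spec (CommRingCat.of k))] [Surjective f]
    (p : C) (hp : IsClosed ({p} : Set C))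
    (LF : S.Modules) (hLF : ClSub.IsInverseOf LF (ClSub.idealMod (f.fiberι p).ker))
    (L : S.Modules) (hL : PicF.IsInvertible L)
    (n : ℕ) (Z : Fin (n + 1) → S.IdealSheafData) (hZ : ∀ i, FGA.IsEffCartier (Z i))
    (hZmono : Monotone Z) (hZlast : Z (Fin.last n) = ⊤)
    (μ : Fin (n + 1) → ℚ) (hμ : StrictAnti μ) (hμlast : μ (Fin.last n) = 0)
    (hnef : ∀ (i : Fin (n + 1)) (Γ : S.IdealSheafData), IsIntegral Γ.subscheme →
      topologicalKrullDim (Γ.support : Set S) = 1 →
      (0 : ℚ) ≤ ((Curv2.euler k S (CohB1.tensorMod (ClSub.quotMod Γ) L) - Curv2.euler k S (ClSub.quotMod Γ)) : ℚ) + ((Curv2.euler k S (CohB1.tensorMod (ClSub.quotMod Γ) (ClSub.idealMod (Z i))) - Curv2.euler k S (ClSub.quotMod Γ)) : ℚ)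
        - μ i * ((Curv2.euler k S (CohB1.tensorMod (ClSub.quotMod Γ) LF) - Curv2.euler k S (ClSub.quotMod Γ)) : ℚ)) :
    (Finset.univ.sum fun i : Fin n =>
        (((FGA.intNum k S 2 ![L, LF] (Coh.structureModule S) : ℚ) + (FGA.intNum k S 2 ![ClSub.idealMod (Z i.castSucc), LF] (Coh.structureModule S) : ℚ) - μ i.castSucc * (FGA.intNum k S 2 ![LF, LF] (Coh.structureModule S) : ℚ))
          + ((FGA.intNum k S 2 ![L, LF] (Coh.structureModule S) : ℚ) + (FGA.intNum k S 2 ![ClSub.idealMod (Z i.succ), LF] (Coh.structureModule S) : ℚ) - μ i.succ * (FGA.intNum k S 2 ![LF, LF] (Coh.structureModule S) : ℚ)))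
        * (μ i.castSucc - μ i.succ)) ≤ (FGA.intNum k S 2 ![L, L] (Coh.structureModule S) : ℚ) := by
  classical
  have hF := H28RR.isEffCartier_fibre k hdimC f (hp := hp)
  generalize hFdef : (f.fiberι p).ker = F at hLF hF
  have hFi := H28Surf.isInvertible_ideal k hF
  have hZi := fun i => H28Surf.isInvertible_ideal k (hZ i)
  have hreg : ∀ x : S, IsRegularLocalRing (S.presheaf.stalk x) :=
    fun x => H19Grp.isRegularLocalRing_stalk_of_smooth (S ↘ Spec (CommRingCat.of k)) x
  obtain ⟨J, hJ, ⟨eJ⟩⟩ := H11Sym.exists_inverse hFi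
  obtain ⟨eLF⟩ := hLF
  obtain ⟨φ⟩ : Nonempty (LF ≅ J) := ⟨(H10Coh.Tw.rightUnitIso LF).symm ≪≫
    PicGrp.tensorModIso (Iso.refl LF) (H10Coh.Tw.commIso (ClSub.idealMod F) J ≪≫ eJ).symm ≪≫
    (H10Coh.Tw.assoc LF (ClSub.idealMod F) J).symm ≪≫ PicGrp.tensorModIso eLF (Iso.refl J) ≪≫
    H10Coh.Tw.leftUnitIso J⟩
  have hLFi : PicF.IsInvertible LF := H11Tilde.isInvertible_of_iso φ.symm hJ
  have hFp : ∀ {B : S.Modules}, PicF.IsInvertible B →
      H28Surf.pr k (ClSub.idealMod F) B = - H28Surf.pr k LF B := fun {B} hB =>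
    H28Surf.pr_inv_left k hdim hLFi hFi hB eLF
  let v : Fin (n + 1) → S.Modules → ℚ := fun i B => (H28Surf.pr k L B : ℚ) +
    (H28Surf.pr k (ClSub.idealMod (Z i)) B : ℚ) - μ i * (H28Surf.pr k LF B : ℚ)
  let s : Fin (n + 1) → ℚ := fun i => v i L + v i (ClSub.idealMod (Z i)) - μ i * v i LF
  have hcurve : ∀ (i : Fin (n + 1)) (Γ : S.IdealSheafData), H28Surf.IsCurve Γ → v i (ClSub.idealMod Γ) ≤ 0 := by
    intro i Γ hΓ
    have h := hnef i Γ hΓ.int hΓ.dim
    have e : ∀ M : S.Modules, PicF.IsInvertible M →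
        Curv2.euler k S (CohB1.tensorMod (ClSub.quotMod Γ) M) - Curv2.euler k S (ClSub.quotMod Γ) =
          - H28Surf.pr k (ClSub.idealMod Γ) M := fun M hM => H28RR.degOn_eq_pr k hdim hΓ hM
    have e' := fun M hM => congrArg (fun z : ℤ => (z : ℚ)) (e M hM)
    simp only [Int.cast_sub, Int.cast_neg] at e'
    rw [e' L hL, e' _ (hZi i), e' LF hLFi] at h
    simp only [v]
    rw [H28Surf.pr_symm k L, H28Surf.pr_symm k (ClSub.idealMod (Z i)), H28Surf.pr_symm k LF]
    linarith
  have hdiv : ∀ (i : Fin (n + 1)) (K : S.IdealSheafData), FGA.IsEffCartier K → v i (ClSub.idealMod K) ≤ 0 := by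
    intro i K hK
    obtain ⟨M, hM, rfl⟩ := H28Surf.exists_multiset k hdim K hK
    induction M using Multiset.induction with
    | empty =>
      simp only [v, Multiset.prod_zero]
      rw [H28Surf.pr_symm k L, H28Surf.pr_symm k (ClSub.idealMod (Z i)), H28Surf.pr_symm k LF]
      have e1 := H28Reg.pr_top_left k hdim hL
      have e2 := H28Reg.pr_top_left k hdim (hZi i)
      have e3 := H28Reg.pr_top_left k hdim hLFi
      rw [Scheme.IdealSheafData.one_eq_top, e1, e2, e3]
      simp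
    | cons C M ih =>
      have hM' : ∀ D ∈ M, H28Surf.IsCurve D := fun D hD => hM D (Multiset.mem_cons_of_mem hD)
      have hC := hM C (Multiset.mem_cons_self C M)
      have hMe := H28Surf.isEffCartier_prod k hdim M hM'
      have hCe := H28Surf.isEffCartier_curve k hdim hC
      have h1 := ih hM' hMe
      have h2 := hcurve i C hC
      simp only [v] at h1 h2 ⊢
      rw [H28Surf.pr_symm k L, H28Surf.pr_symm k (ClSub.idealMod (Z i)), H28Surf.pr_symm k LF] at h1 h2 ⊢
      rw [Multiset.prod_cons, H28Reg.pr_mul_left k hdim hCe hMe hL, H28Reg.pr_mul_left k hdim hCe hMe (hZi i),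
        H28Reg.pr_mul_left k hdim hCe hMe hLFi]
      push_cast
      linarith
  -- the squares are nonnegative
  have hnn : ∀ i, 0 ≤ s i := by
    intro i
    let q : ℕ := (μ i).den
    have hq : (0 : ℚ) < (q : ℚ) := by exact_mod_cast (μ i).den_pos
    have hμq : μ i * (q : ℚ) = ((μ i).num : ℚ) := Rat.mul_den_eq_num _
    obtain ⟨P, hP, hPv⟩ : ∃ P : S.Modules, PicF.IsInvertible P ∧ ∀ B : S.Modules, PicF.IsInvertible B →
        H28Surf.pr k P B = - ((μ i).num * H28Surf.pr k LF B) := by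
      rcases Int.eq_nat_or_neg (μ i).num with ⟨a, ha | ha⟩
      · exact ⟨_, H11Ample.isInvertible_tensorPow hFi a, fun B hB => by
          rw [H28Surf.pr_pow_left k hdim hFi hB, hFp hB, ha]; ring⟩
      · exact ⟨_, H11Ample.isInvertible_tensorPow hLFi a, fun B hB => by
          rw [H28Surf.pr_pow_left k hdim hLFi hB, ha]; ring⟩
    have h1 := H11Ample.isInvertible_tensorPow hL q
    have h2 := H11Ample.isInvertible_tensorPow (hZi i) q
    have h12 := H11Ample.isInvertible_tensor h1 h2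
    have hN := H11Ample.isInvertible_tensor h12 hP
    set N := CohB1.tensorMod (CohB1.tensorMod (CohB1.tensorPow L q) (CohB1.tensorPow (ClSub.idealMod (Z i)) q)) P
    have hNv : ∀ B : S.Modules, PicF.IsInvertible B → (H28Surf.pr k N B : ℚ) = (q : ℚ) * v i B := by
      intro B hB
      rw [H28Surf.pr_tensor_left k hdim h12 hP hB, H28Surf.pr_tensor_left k hdim h1 h2 hB,
        H28Surf.pr_pow_left k hdim hL hB, H28Surf.pr_pow_left k hdim (hZi i) hB, hPv B hB]
      simp only [v]
      push_cast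
      rw [← hμq]
      ring
    have hnefN : ∀ Γ : S.IdealSheafData, H28Surf.IsCurve Γ → 0 ≤ H28Surf.degOn k Γ N := by
      intro Γ hΓ
      rw [H28RR.degOn_eq_pr k hdim hΓ hN, H28Surf.pr_symm k]
      have hΓi := H28Surf.isInvertible_ideal k (H28Surf.isEffCartier_curve k hdim hΓ)
      have h3 := hNv _ hΓi
      have h4 := mul_nonpos_of_nonneg_of_nonpos hq.le (hcurve i Γ hΓ)
      rw [← h3] at h4
      have h5 : H28Surf.pr k N (ClSub.idealMod Γ) ≤ 0 := by exact_mod_cast h4
      omega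
    have hsq : (0 : ℚ) ≤ (H28Surf.pr k N N : ℚ) := by exact_mod_cast H28RR.pr_self_nonneg_of_nef k hdim hN hnefN
    rw [hNv N hN] at hsq
    have hvN : v i N = (q : ℚ) * s i := by
      have hsym : ∀ B, PicF.IsInvertible B → (H28Surf.pr k B N : ℚ) = (q : ℚ) * v i B := fun B hB => by
        rw [H28Surf.pr_symm k B N]; exact hNv B hB
      show (H28Surf.pr k L N : ℚ) + (H28Surf.pr k (ClSub.idealMod (Z i)) N : ℚ) - μ i * (H28Surf.pr k LF N : ℚ) = _
      rw [hsym L hL, hsym _ (hZi i), hsym LF hLFi]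
      ring
    rw [hvN] at hsq
    exact (mul_nonneg_iff_of_pos_left hq).1 ((mul_nonneg_iff_of_pos_left hq).1 hsq)
  -- one step
  have hstep : ∀ i : Fin n, (v i.castSucc LF + v i.succ LF) * (μ i.castSucc - μ i.succ) ≤ s i.succ - s i.castSucc := by
    intro i
    obtain ⟨K, hK⟩ := H11Strict.exists_eq_mul (hZ i.succ) (hZmono i.castSucc_le_succ)
    have hKe : BlowUp.IsEffCartierIdeal K :=
      H29Blow.isEffCartierIdeal_right_of_mul (hK.symm ▸ hZ i.castSucc : BlowUp.IsEffCartierIdeal (Z i.succ * K))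
    have hKi := H28Surf.isInvertible_ideal k hKe
    have e : ∀ {B : S.Modules}, PicF.IsInvertible B → (H28Surf.pr k (ClSub.idealMod (Z i.castSucc)) B : ℚ) =
        (H28Surf.pr k (ClSub.idealMod (Z i.succ)) B : ℚ) + (H28Surf.pr k (ClSub.idealMod K) B : ℚ) := fun {B} hB => by
      rw [← hK, H28Reg.pr_mul_left k hdim (hZ i.succ) hKe hB]; push_cast; rfl
    have k1 := hdiv i.castSucc K hKe
    have k2 := hdiv i.succ K hKe
    simp only [s, v] at k1 k2 ⊢
    rw [e hKi] at k1
    rw [e hL, e hLFi, H28Surf.pr_symm k L (ClSub.idealMod (Z i.castSucc)), e hL,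
      H28Surf.pr_symm k LF (ClSub.idealMod (Z i.castSucc)), e hLFi, e (hZi i.castSucc),
      H28Surf.pr_symm k (ClSub.idealMod (Z i.succ)) (ClSub.idealMod (Z i.castSucc)), e (hZi i.succ),
      H28Surf.pr_symm k (ClSub.idealMod K) (ClSub.idealMod (Z i.castSucc)), e hKi]
    rw [H28Surf.pr_symm k L (ClSub.idealMod (Z i.succ)), H28Surf.pr_symm k LF (ClSub.idealMod (Z i.succ)),
      H28Surf.pr_symm k LF L]
    rw [H28Surf.pr_symm k L (ClSub.idealMod K), H28Surf.pr_symm k (ClSub.idealMod (Z i.succ)) (ClSub.idealMod K),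
      H28Surf.pr_symm k LF (ClSub.idealMod K)] at k1 k2
    rw [H28Surf.pr_symm k (ClSub.idealMod (Z i.succ)) (ClSub.idealMod K)]
    linarith
  have htel : ∀ g : Fin (n + 1) → ℚ, ∑ i : Fin n, (g i.succ - g i.castSucc) = g (Fin.last n) - g 0 := fun g => by
    rw [Finset.sum_sub_distrib]
    linarith [Fin.sum_univ_succ g, Fin.sum_univ_castSucc g]
  have hlast : s (Fin.last n) = (H28Surf.pr k L L : ℚ) := by
    simp only [s, v, hZlast, hμlast]
    rw [H28Surf.pr_symm k L (ClSub.idealMod ⊤), H28Reg.pr_top_left k hdim hL,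
      H28Reg.pr_top_left k hdim (H28Surf.isInvertible_ideal k H29Blow.isEffCartierIdeal_top)]
    simp
  simp only [H28Surf.intNum_eq_pr k hdim hL hLFi, H28Surf.intNum_eq_pr k hdim (hZi _) hLFi,
    H28Surf.intNum_eq_pr k hdim hLFi hLFi, H28Surf.intNum_eq_pr k hdim hL hL]
  calc _ ≤ ∑ i : Fin n, (s i.succ - s i.castSucc) := Finset.sum_le_sum fun i _ => hstep i
    _ ≤ _ := by rw [htel, hlast]; linarith [hnn 0]

end Groth.Agent.S14313
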