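import Groth.Statements.S14314
import Groth.Agent.H28RR.FibreNef

set_option autoImplicit false
universe u
open CategoryTheory CategoryTheory.Limits AlgebraicGeometry TopologicalSpace
open Groth.Agent
open Surf

namespace Groth.Agent.S14314

/-- Let k be an algebraically closed field, S a smooth projective surface over k (integral, proper and
smooth over k, of dimension 2), f : S → C a surjective k-morphism onto a smooth projective curve and
F = f⁻¹(p) the fibre over a closed point p, with O_S(F) a tensor inverse of its ideal sheaf. Let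
D_1, D_2 be numerically equivalent divisors (invertible modules L_1, L_2 with (L_1·Γ) = (L_2·Γ) for
every integral curve Γ ⊆ S, where (L·Γ) = χ(O_Γ ⊗ L) − χ(O_Γ)), μ_1 ≥ μ_2 rational numbers and Z_1,
Z_2 effective Cartier divisors with common part Z, that is Z_i = Z + Y_i with Z, Y_1, Y_2 effective
Cartier divisors and Y_1, Y_2 without common component (Y_1 ∩ Y_2 finite); in terms of ideal sheaves
I_{Z_i} = I_Z · I_{Y_i}. If N_i = D_i − Z_i − μ_i F is nef for i = 1, 2, that is (D_i·Γ) +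
(I_{Z_i}·Γ) − μ_i (F·Γ) ≥ 0 for every integral curve Γ, then N = D_2 − Z − μ_2 F is nef. (The
published statement is for the chapter's fibration over an algebraically closed field of positive
characteristic; this row asks only that f be surjective and allows any algebraically closed field.) -/
theorem result (k : Type u) [Field k] [IsAlgClosed k]
    (S : Scheme.{u}) [S.Over (Spec (CommRingCat.of k))] [IsProper (S ↘ (Spec (CommRingCat.of k)))]
    [Smooth (S ↘ (Spec (CommRingCat.of k)))] [IsIntegral S] (hdim : topologicalKrullDim S = 2)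
    (C : Scheme.{u}) [C.Over (Spec (CommRingCat.of k))] [IsProper (C ↘ (Spec (CommRingCat.of k)))]
    [Smooth (C ↘ (Spec (CommRingCat.of k)))] [IsIntegral C] (hdimC : topologicalKrullDim C = 1)
    (f : S ⟶ C) [f.IsOver (Spec (CommRingCat.of k))] [Surjective f]
    (p : C) (hp : IsClosed ({p} : Set C))
    (LF : S.Modules) (hLF : ClSub.IsInverseOf LF (ClSub.idealMod (f.fiberι p).ker))
    (L₁ L₂ : S.Modules) (hL₁ : PicF.IsInvertible L₁) (hL₂ : PicF.IsInvertible L₂)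
    (hnum : ∀ Γ : S.IdealSheafData, IsIntegral Γ.subscheme → topologicalKrullDim (Γ.support : Set S) = 1 →
      (Curv2.euler k S (CohB1.tensorMod (ClSub.quotMod Γ) L₁) - Curv2.euler k S (ClSub.quotMod Γ)) = (Curv2.euler k S (CohB1.tensorMod (ClSub.quotMod Γ) L₂) - Curv2.euler k S (ClSub.quotMod Γ)))
    (μ₁ μ₂ : ℚ) (hμ : μ₂ ≤ μ₁)
    (Z Y₁ Y₂ Z₁ Z₂ : S.IdealSheafData) (hZ : FGA.IsEffCartier Z) (hY₁ : FGA.IsEffCartier Y₁) (hY₂ : FGA.IsEffCartier Y₂)
    (hZ₁ : Z₁ = Z * Y₁) (hZ₂ : Z₂ = Z * Y₂) (hY : ((Y₁ ⊔ Y₂).support : Set S).Finite)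
    (hnef₁ : (∀ Γ : S.IdealSheafData, IsIntegral Γ.subscheme → topologicalKrullDim (Γ.support : Set S) = 1 →
      (0 : ℚ) ≤ ((Curv2.euler k S (CohB1.tensorMod (ClSub.quotMod Γ) L₁) - Curv2.euler k S (ClSub.quotMod Γ)) : ℚ) + ((Curv2.euler k S (CohB1.tensorMod (ClSub.quotMod Γ) (ClSub.idealMod Z₁)) - Curv2.euler k S (ClSub.quotMod Γ)) : ℚ)
        - μ₁ * ((Curv2.euler k S (CohB1.tensorMod (ClSub.quotMod Γ) LF) - Curv2.euler k S (ClSub.quotMod Γ)) : ℚ)))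
    (hnef₂ : (∀ Γ : S.IdealSheafData, IsIntegral Γ.subscheme → topologicalKrullDim (Γ.support : Set S) = 1 →
      (0 : ℚ) ≤ ((Curv2.euler k S (CohB1.tensorMod (ClSub.quotMod Γ) L₂) - Curv2.euler k S (ClSub.quotMod Γ)) : ℚ) + ((Curv2.euler k S (CohB1.tensorMod (ClSub.quotMod Γ) (ClSub.idealMod Z₂)) - Curv2.euler k S (ClSub.quotMod Γ)) : ℚ)
        - μ₂ * ((Curv2.euler k S (CohB1.tensorMod (ClSub.quotMod Γ) LF) - Curv2.euler k S (ClSub.quotMod Γ)) : ℚ))) :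
    (∀ Γ : S.IdealSheafData, IsIntegral Γ.subscheme → topologicalKrullDim (Γ.support : Set S) = 1 →
      (0 : ℚ) ≤ ((Curv2.euler k S (CohB1.tensorMod (ClSub.quotMod Γ) L₂) - Curv2.euler k S (ClSub.quotMod Γ)) : ℚ) + ((Curv2.euler k S (CohB1.tensorMod (ClSub.quotMod Γ) (ClSub.idealMod Z)) - Curv2.euler k S (ClSub.quotMod Γ)) : ℚ)
        - μ₂ * ((Curv2.euler k S (CohB1.tensorMod (ClSub.quotMod Γ) LF) - Curv2.euler k S (ClSub.quotMod Γ)) : ℚ)) := by
  classical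
  intro Γ hΓi hΓd
  have hΓ : H28Surf.IsCurve Γ := ⟨hΓi, hΓd⟩
  have hF := H28RR.isEffCartier_fibre k hdimC f (hp := hp)
  have hFnef := H28RR.pr_fibre_nonneg k hdim hdimC f hp hΓ
  have hFi := H28Surf.isInvertible_ideal k hF
  generalize hFdef : (f.fiberι p).ker = F at hLF hFnef hFi
  have hΓinv := H28Surf.isInvertible_ideal k (H28Surf.isEffCartier_curve k hdim hΓ)
  obtain ⟨J, hJ, ⟨eJ⟩⟩ := H11Sym.exists_inverse hFi
  obtain ⟨eLF⟩ := hLF
  obtain ⟨φ⟩ : Nonempty (LF ≅ J) := ⟨(H10Coh.Tw.rightUnitIso LF).symm ≪≫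
    PicGrp.tensorModIso (Iso.refl LF) (H10Coh.Tw.commIso (ClSub.idealMod F) J ≪≫ eJ).symm ≪≫
    (H10Coh.Tw.assoc LF (ClSub.idealMod F) J).symm ≪≫ PicGrp.tensorModIso eLF (Iso.refl J) ≪≫
    H10Coh.Tw.leftUnitIso J⟩
  have hLFi : PicF.IsInvertible LF := H11Tilde.isInvertible_of_iso φ.symm hJ
  have hFp := H28Surf.pr_inv_left k hdim hLFi hFi hΓinv eLF
  have e : ∀ M : S.Modules, PicF.IsInvertible M →
      ((Curv2.euler k S (CohB1.tensorMod (ClSub.quotMod Γ) M) : ℚ) - (Curv2.euler k S (ClSub.quotMod Γ) : ℚ)) =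
        - (H28Surf.pr k M (ClSub.idealMod Γ) : ℚ) := fun M hM => by
    have h := H28RR.degOn_eq_pr k hdim hΓ hM
    rw [H28Surf.pr_symm k (ClSub.idealMod Γ)] at h
    rw [← Int.cast_sub, ← Int.cast_neg]
    exact congrArg (fun z : ℤ => (z : ℚ)) h
  have h12 : Curv2.euler k S (CohB1.tensorMod (ClSub.quotMod Γ) L₁) - Curv2.euler k S (ClSub.quotMod Γ) =
      Curv2.euler k S (CohB1.tensorMod (ClSub.quotMod Γ) L₂) - Curv2.euler k S (ClSub.quotMod Γ) := hnum Γ hΓi hΓd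
  have hZi := H28Surf.isInvertible_ideal k hZ
  have hZ1 : BlowUp.IsEffCartierIdeal Z₁ := hZ₁ ▸ H28Vert.isEffCartierIdeal_mul hZ hY₁
  have hZ2 : BlowUp.IsEffCartierIdeal Z₂ := hZ₂ ▸ H28Vert.isEffCartierIdeal_mul hZ hY₂
  have h1 := hnef₁ Γ hΓi hΓd
  have h2 := hnef₂ Γ hΓi hΓd
  have h12q := congrArg (fun z : ℤ => (z : ℚ)) h12
  simp only [Int.cast_sub] at h12q
  rw [e L₁ hL₁, e _ (H28Surf.isInvertible_ideal k hZ1), e LF hLFi] at h1
  rw [e L₂ hL₂, e _ (H28Surf.isInvertible_ideal k hZ2), e LF hLFi] at h2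
  rw [e L₁ hL₁, e L₂ hL₂] at h12q
  rw [e L₂ hL₂, e _ hZi, e LF hLFi]
  rw [hZ₁, H28Reg.pr_mul_left k hdim hZ hY₁ hΓinv] at h1
  rw [hZ₂, H28Reg.pr_mul_left k hdim hZ hY₂ hΓinv] at h2
  push_cast at h1 h2
  obtain ⟨M₁, hM₁, hM₁p⟩ := H28Surf.exists_multiset k hdim Y₁ hY₁
  obtain ⟨M₂, hM₂, hM₂p⟩ := H28Surf.exists_multiset k hdim Y₂ hY₂
  by_cases hmem : Γ ∈ M₂
  swap
  · have h := H28RR.pr_prod_nonneg k hdim hM₂ hΓ hmem
    rw [hM₂p] at h
    have h' : (0 : ℚ) ≤ (H28Surf.pr k (ClSub.idealMod Y₂) (ClSub.idealMod Γ) : ℚ) := by exact_mod_cast h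
    linarith
  · have hmem₁ : Γ ∉ M₁ := fun h => H28RR.not_subset_of_finite k hY hΓ (by
      intro z hz
      rw [Scheme.IdealSheafData.support_sup, ← hM₁p, ← hM₂p]
      exact ⟨(H28Surf.mem_support_prod k).2 ⟨Γ, h, hz⟩, (H28Surf.mem_support_prod k).2 ⟨Γ, hmem, hz⟩⟩)
    have h := H28RR.pr_prod_nonneg k hdim hM₁ hΓ hmem₁
    rw [hM₁p] at h
    have h' : (0 : ℚ) ≤ (H28Surf.pr k (ClSub.idealMod Y₁) (ClSub.idealMod Γ) : ℚ) := by exact_mod_cast h
    have hF' : (0 : ℚ) ≤ - (H28Surf.pr k LF (ClSub.idealMod Γ) : ℚ) := by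
      have h3 : 0 ≤ - H28Surf.pr k LF (ClSub.idealMod Γ) := by omega
      exact_mod_cast h3
    have h4 := mul_le_mul_of_nonneg_right hμ hF'
    linarith

end Groth.Agent.S14314
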