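import Groth.Statements.S14315
import Groth.Agent.S2156
import Groth.Agent.H28RR.Fibre
import Groth.Agent.H29Curve.Morphism
import Groth.Agent.H25Grp.Isogeny

set_option autoImplicit false
universe u
open CategoryTheory CategoryTheory.Limits AlgebraicGeometry TopologicalSpace
open Groth.Agent
open Surf

namespace Groth.Agent.S14315

/-- Let k be an algebraically closed field, S a smooth projective surface over k (integral, proper and
smooth over k, of dimension 2), f : S → C a surjective k-morphism onto a smooth projective curve C
(integral, proper and smooth over k, of dimension 1), and ψ : C' → C a finite k-morphism from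
another smooth projective curve C' which is unramified at every point of C' lying over a point of C
whose fibre of f is not smooth. Then S ×_C C' is smooth over k. (The published statement takes ψ
separable and f the chapter's generically smooth semi-stable fibration with connected fibres over an
algebraically closed field of positive characteristic; this row assumes only f surjective and ψ
finite, over any algebraically closed field.) -/
theorem result (k : Type u) [Field k] [IsAlgClosed k]
    (S : Scheme.{u}) [S.Over (Spec (CommRingCat.of k))] [IsProper (S ↘ (Spec (CommRingCat.of k)))]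
    [Smooth (S ↘ (Spec (CommRingCat.of k)))] [IsIntegral S] (hdim : topologicalKrullDim S = 2)
    (C : Scheme.{u}) [C.Over (Spec (CommRingCat.of k))] [IsProper (C ↘ (Spec (CommRingCat.of k)))]
    [Smooth (C ↘ (Spec (CommRingCat.of k)))] [IsIntegral C] (hdimC : topologicalKrullDim C = 1)
    (f : S ⟶ C) [f.IsOver (Spec (CommRingCat.of k))] [Surjective f]
    (C' : Scheme.{u}) [C'.Over (Spec (CommRingCat.of k))] [IsProper (C' ↘ (Spec (CommRingCat.of k)))]
    [Smooth (C' ↘ (Spec (CommRingCat.of k)))] [IsIntegral C'] (hdimC' : topologicalKrullDim C' = 1)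
    (ψ : C' ⟶ C) [ψ.IsOver (Spec (CommRingCat.of k))] [IsFinite ψ]
    (hψ : ∀ c : C', ¬ Smooth (f.fiberToSpecResidueField (ψ.base c)) →
      ∃ U : C'.Opens, c ∈ U ∧ FormallyUnramified (U.ι ≫ ψ)) :
    Smooth (pullback.snd f ψ ≫ (C' ↘ (Spec (CommRingCat.of k)))) := by
  classical
  let sk := Spec (CommRingCat.of k)
  let p := S ↘ sk
  let q := C ↘ sk
  let p' := C' ↘ sk
  haveI : IsLocallyNoetherian C := LocallyOfFiniteType.isLocallyNoetherian q
  have hfq : f ≫ q = p := comp_over f sk
  have hψq : ψ ≫ q = p' := comp_over ψ sk
  haveI : LocallyOfFiniteType (f ≫ q) := by rw [hfq]; infer_instance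
  haveI : LocallyOfFiniteType f := locallyOfFiniteType_of_comp f q
  have hN : ∀ y : C, IsIntegrallyClosed (C.presheaf.stalk y) := fun y => by
    haveI := H19Grp.isRegularLocalRing_stalk_of_smooth q y
    haveI : IsDomain (C.presheaf.stalk y) := H4Depth.isDomain_of_isRegularLocalRing _
    haveI := H28Alg.ufd_of_regular (C.presheaf.stalk y)
    infer_instance
  haveI : Flat f := by
    refine H29Curve.flat_of_dominant_normal f ?_ hN hdimC.le
    obtain ⟨z, hz⟩ := f.surjective (genericPoint C)
    have h1 := (genericPoint_specializes z).map f.continuous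
    rw [hz] at h1
    exact (h1.antisymm (genericPoint_specializes _)).eq
  haveI : Surjective ψ := H25Grp.surjective_of_finite p' q ψ (by rw [hdimC', hdimC])
  haveI : Flat ψ := by
    refine H29Curve.flat_of_dominant_normal ψ ?_ hN hdimC.le
    obtain ⟨z, hz⟩ := ψ.surjective (genericPoint C)
    have h1 := (genericPoint_specializes z).map ψ.continuous
    rw [hz] at h1
    exact (h1.antisymm (genericPoint_specializes _)).eq
  set g := pullback.snd f ψ ≫ p' with hg
  haveI : LocallyOfFinitePresentation g := inferInstance
  rw [← Scheme.Hom.smoothLocus_eq_top_iff, ← top_le_iff]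
  rintro z -
  have hloc : ∀ {T : Scheme.{u}} (j : T ⟶ pullback f ψ) [IsOpenImmersion j], Smooth (j ≫ g) →
      z ∈ Set.range j → z ∈ g.smoothLocus := by
    intro T j _ hj ⟨t, ht⟩
    have h := Scheme.Hom.preimage_smoothLocus_eq j g
    rw [Scheme.Hom.smoothLocus_eq_top (j ≫ g)] at h
    have ht' : t ∈ j ⁻¹ᵁ g.smoothLocus := by rw [h]; trivial
    exact ht ▸ ht'
  have hzc : f (pullback.fst f ψ z) = ψ (pullback.snd f ψ z) := by
    rw [← Scheme.Hom.comp_apply, ← Scheme.Hom.comp_apply, pullback.condition]
  by_cases hs : Smooth (f.fiberToSpecResidueField (ψ (pullback.snd f ψ z)))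
  · let s := pullback.fst f ψ z
    have hs' : Smooth (f.fiberToSpecResidueField (f s)) := by rw [hzc]; exact hs
    have hsV : s ∈ f.smoothLocus := by
      rw [S2156.result f s]
      refine ⟨Flat.stalkMap f s, ?_⟩
      rw [Scheme.Hom.smoothLocus_eq_top]
      trivial
    let V := f.smoothLocus
    haveI : Smooth (V.ι ≫ f) := by
      rw [← Scheme.Hom.smoothLocus_eq_top_iff, ← Scheme.Hom.preimage_smoothLocus_eq]
      exact V.ι_preimage_self
    let j := pullback.map (V.ι ≫ f) ψ f ψ V.ι (𝟙 C') (𝟙 C) (by simp) (by simp)
    refine hloc j ?_ ?_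
    · have : j ≫ g = pullback.snd (V.ι ≫ f) ψ ≫ p' := by
        simp only [j, hg, pullback.map, pullback.lift_snd_assoc, Category.assoc, Category.id_comp]
      rw [this]
      infer_instance
    · rw [Scheme.Pullback.range_map]
      refine ⟨?_, ⟨pullback.snd f ψ z, rfl⟩⟩
      rw [Set.mem_preimage, Scheme.Opens.range_ι]
      exact hsV
  · obtain ⟨U, hU, hUu⟩ := hψ _ hs
    haveI : LocallyOfFiniteType (ψ ≫ q) := by rw [hψq]; infer_instance
    haveI : LocallyOfFinitePresentation (U.ι ≫ ψ) := inferInstance
    haveI : Etale (U.ι ≫ ψ) := Etale.of_formallyUnramified_of_flat _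
    let j := pullback.map f (U.ι ≫ ψ) f ψ (𝟙 S) U.ι (𝟙 C) (by simp) (by simp)
    refine hloc j ?_ ?_
    · have : j ≫ g = pullback.fst f (U.ι ≫ ψ) ≫ p := by
        rw [← hfq, hg, ← hψq]
        simp only [j, pullback.map, pullback.lift_snd_assoc, Category.assoc]
        rw [pullback.condition_assoc]
        simp only [Category.assoc]
      rw [this]
      infer_instance
    · rw [Scheme.Pullback.range_map]
      refine ⟨⟨pullback.fst f ψ z, rfl⟩, ?_⟩
      rw [Set.mem_preimage, Scheme.Opens.range_ι]
      exact hU

end Groth.Agent.S14315
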