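import Groth.Statements.S1432
import Mathlib.AlgebraicGeometry.ValuativeCriterion
import Mathlib.AlgebraicGeometry.Limits
import Mathlib.AlgebraicGeometry.Morphisms.UniversallyInjective
import Mathlib.AlgebraicGeometry.Morphisms.ClosedImmersion

set_option autoImplicit false
set_option backward.isDefEq.respectTransparency false
set_option linter.style.haveILetI false
universe u
open FlatMor
open AlgebraicGeometry CategoryTheory Limits

namespace Groth.Agent.S1432

open AlgebraicGeometry CategoryTheory Limits in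
/-- For a quasi-compact morphism f : X → Y, being a closed immersion is equivalent to the following
lifting property: for each injective ring map A → B and each commutative square with Spec B → X on
top and Spec A → Y at the bottom there is a lift Spec A → X making both triangles commute. -/
theorem result {X Y : Scheme.{u}} (f : X ⟶ Y) [QuasiCompact f] :
    IsClosedImmersion f ↔ ∀ (A B : Type u) [CommRing A] [CommRing B] (φ : A →+* B), Function.Injective φ →
      ∀ (a : Spec (CommRingCat.of B) ⟶ X) (b : Spec (CommRingCat.of A) ⟶ Y), Spec.map (CommRingCat.ofHom φ) ≫ b = a ≫ f →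
        ∃ l : Spec (CommRingCat.of A) ⟶ X, Spec.map (CommRingCat.ofHom φ) ≫ l = a ∧ l ≫ f = b := by
  constructor
  · intro hf A B _ _ φ hφ a b hab
    haveI := hf
    obtain ⟨I, e, he⟩ := IsClosedImmersion.Spec_iff.1 (inferInstance : IsClosedImmersion (pullback.snd f b))
    let t := pullback.lift a (Spec.map (CommRingCat.ofHom φ)) hab.symm
    have ht : (t ≫ e.hom) ≫ Spec.map (CommRingCat.ofHom (Ideal.Quotient.mk I)) = Spec.map (CommRingCat.ofHom φ) := by
      rw [Category.assoc, ← he, pullback.lift_snd]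
    obtain ⟨ψ, hψ⟩ : ∃ ψ : CommRingCat.of (A ⧸ I) ⟶ CommRingCat.of B, Spec.map ψ = t ≫ e.hom :=
      ⟨Spec.preimage (t ≫ e.hom), Spec.map_preimage _⟩
    rw [← hψ, ← Spec.map_comp] at ht
    have hφ' := Spec.map_injective ht
    have hI : I = ⊥ := by
      rw [eq_bot_iff]
      intro x hx
      refine Ideal.mem_bot.2 (hφ ?_)
      rw [map_zero]
      have h := congr($hφ' x)
      simp only [CommRingCat.hom_comp, CommRingCat.hom_ofHom, RingHom.comp_apply] at h
      change ψ.hom (Ideal.Quotient.mk I x) = φ x at h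
      rw [← h, Ideal.Quotient.eq_zero_iff_mem.2 hx, map_zero]
    haveI : IsIso (CommRingCat.ofHom (Ideal.Quotient.mk I)) :=
      (ConcreteCategory.isIso_iff_bijective _).2 ⟨by
        rw [show ⇑(ConcreteCategory.hom (CommRingCat.ofHom (Ideal.Quotient.mk I))) = ⇑(Ideal.Quotient.mk I) from rfl,
          RingHom.injective_iff_ker_eq_bot, Ideal.mk_ker, hI], Ideal.Quotient.mk_surjective⟩
    haveI : IsIso (pullback.snd f b) := by rw [he]; infer_instance
    refine ⟨inv (pullback.snd f b) ≫ pullback.fst f b, ?_, ?_⟩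
    · rw [← pullback.lift_snd a (Spec.map (CommRingCat.ofHom φ)) hab.symm, Category.assoc,
        IsIso.hom_inv_id_assoc, pullback.lift_fst]
    · rw [Category.assoc, pullback.condition, IsIso.inv_hom_id_assoc]
  intro H
  haveI : Mono f := ⟨fun {T} g h hgh => by
    refine T.affineCover.hom_ext _ _ fun j => ?_
    obtain ⟨R, l₁, l₂, hl, hj⟩ : ∃ (R : CommRingCat.{u}) (l₁ l₂ : Spec R ⟶ X), l₁ ≫ f = l₂ ≫ f ∧
        (l₁ = l₂ → T.affineCover.f j ≫ g = T.affineCover.f j ≫ h) :=
      ⟨Γ(T.affineCover.X j, ⊤), (T.affineCover.X j).isoSpec.inv ≫ T.affineCover.f j ≫ g,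
        (T.affineCover.X j).isoSpec.inv ≫ T.affineCover.f j ≫ h,
        by simp only [Category.assoc, hgh], fun e => (cancel_epi _).1 e⟩
    refine hj ?_
    let d : (R : Type u) →+* R × R := (RingHom.id R).prod (RingHom.id R)
    obtain ⟨l, hl', -⟩ := H R (R × R) d (fun x y h => congrArg Prod.fst h)
      (inv (coprodSpec R R) ≫ coprod.desc l₁ l₂) (l₁ ≫ f) (by
        rw [Category.assoc, IsIso.eq_inv_comp]
        apply coprod.hom_ext
        · rw [coprodSpec_inl_assoc, coprod.inl_desc_assoc, ← Category.assoc, ← Spec.map_comp]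
          change Spec.map (𝟙 R) ≫ _ = _
          rw [Spec.map_id, Category.id_comp]
        · rw [coprodSpec_inr_assoc, coprod.inr_desc_assoc, ← Category.assoc, ← Spec.map_comp]
          change Spec.map (𝟙 R) ≫ _ = _
          rw [Spec.map_id, Category.id_comp, hl])
    rw [IsIso.eq_inv_comp] at hl'
    have h1 : l₁ = l := by
      rw [show l₁ = coprod.inl ≫ coprod.desc l₁ l₂ from (coprod.inl_desc l₁ l₂).symm]
      refine (congrArg (coprod.inl ≫ ·) hl'.symm).trans ?_
      rw [coprodSpec_inl_assoc, ← Category.assoc, ← Spec.map_comp]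
      change Spec.map (𝟙 R) ≫ _ = _
      rw [Spec.map_id, Category.id_comp]
    have h2 : l₂ = l := by
      rw [show l₂ = coprod.inr ≫ coprod.desc l₁ l₂ from (coprod.inr_desc l₁ l₂).symm]
      refine (congrArg (coprod.inr ≫ ·) hl'.symm).trans ?_
      rw [coprodSpec_inr_assoc, ← Category.assoc, ← Spec.map_comp]
      change Spec.map (𝟙 R) ≫ _ = _
      rw [Spec.map_id, Category.id_comp]
    exact h1.trans h2.symm⟩
  haveI : UniversallyClosed f := by
    refine UniversallyClosed.of_valuativeCriterion f fun S => ?_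
    obtain ⟨l, hl₁, hl₂⟩ := H S.R S.K (algebraMap S.R S.K) (IsFractionRing.injective S.R S.K) S.i₁ S.i₂
      S.commSq.w.symm
    exact ⟨⟨⟨l, hl₁, hl₂⟩⟩⟩
  have hinj : Function.Injective f := f.injective
  have hemb : Topology.IsClosedEmbedding f :=
    Topology.IsClosedEmbedding.of_continuous_injective_isClosedMap f.continuous hinj f.isClosedMap
  haveI : IsAffineHom f := isAffineHom_of_isInducing f hemb.isInducing hemb.isClosed_range
  rw [IsZariskiLocalAtTarget.iff_of_iSup_eq_top (P := @IsClosedImmersion) _ (iSup_affineOpens_eq_top Y)]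
  intro U
  haveI : IsAffine U.1.toScheme := U.2
  have hA : IsAffineOpen (f ⁻¹ᵁ U.1) := U.2.preimage f
  haveI : IsAffine (f ⁻¹ᵁ U.1).toScheme := hA
  have hcomm : Spec.map (f.app U.1) ≫ U.2.fromSpec = hA.fromSpec ≫ f := by
    simp only [Scheme.Hom.app_eq_appLE]
    exact IsAffineOpen.SpecMap_appLE_fromSpec f U.2 hA le_rfl
  let ψ := (f.app U.1).hom
  obtain ⟨l, hl₁, hl₂⟩ := H ψ.range Γ(X, f ⁻¹ᵁ U.1) ψ.range.subtype Subtype.val_injective hA.fromSpec
    (Spec.map (CommRingCat.ofHom ψ.rangeRestrict) ≫ U.2.fromSpec) (by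
      rw [← Category.assoc, ← Spec.map_comp]
      exact hcomm)
  have hrange : Set.range l ⊆ Set.range hA.fromSpec := by
    rw [hA.range_fromSpec]
    rintro _ ⟨z, rfl⟩
    show f (l z) ∈ (U.1 : Set Y)
    rw [← U.2.range_fromSpec]
    exact ⟨_, congr($hl₂ z).symm⟩
  let l' := IsOpenImmersion.lift hA.fromSpec l hrange
  obtain ⟨ρ, hρ⟩ : ∃ ρ, Spec.map ρ = l' := ⟨Spec.preimage l', Spec.map_preimage _⟩
  have hone : Spec.map (CommRingCat.ofHom ψ.range.subtype) ≫ l' = 𝟙 _ := by
    rw [← cancel_mono hA.fromSpec, Category.assoc, IsOpenImmersion.lift_fac, hl₁, Category.id_comp]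
  rw [← hρ, ← Spec.map_comp, ← Spec.map_id] at hone
  have hid := Spec.map_injective hone
  refine (HasAffineProperty.iff_of_isAffine (P := @IsClosedImmersion)).2 ⟨inferInstance, ?_⟩
  rw [morphismRestrict_appTop]
  have hs : Function.Surjective (f.app U.1) := fun y => by
    obtain ⟨x, hx⟩ := (ρ.hom y).2
    exact ⟨x, hx.trans congr($hid y)⟩
  have key : ∀ E, E = U.1 → Function.Surjective (f.app E) := by rintro E rfl; exact hs
  intro y
  obtain ⟨z, hz⟩ := ((ConcreteCategory.isIso_iff_bijective
    (X.presheaf.map (eqToHom (image_morphismRestrict_preimage f U.1 ⊤)).op)).1 inferInstance).2 y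
  obtain ⟨w, hw⟩ := key _ (by rw [Scheme.Hom.image_top_eq_opensRange, Scheme.Opens.opensRange_ι]) z
  refine ⟨w, ?_⟩
  rw [← hz, ← hw]
  rfl

end Groth.Agent.S1432
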