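-- statement FlatMor.GrothFrozen.S1433 (Groth/Statements/S1433.lean; the theorem FlatMor.isAffine_of_retraction_of_toSpecΓ);
import Groth.Statements.S1433

set_option autoImplicit false
universe u
open FlatMor

namespace Groth.Agent.S1433

open AlgebraicGeometry CategoryTheory Limits in
/-- If the canonical morphism X → Spec Γ(X, O_X) has a retraction, then X is affine. -/
theorem result (X : Scheme.{u}) (r : Spec Γ(X, ⊤) ⟶ X) (h : X.toSpecΓ ≫ r = 𝟙 X) : IsAffine X := by
  have hr : r ≫ X.toSpecΓ = 𝟙 _ := by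
    apply ext_of_isAffine
    have h' : r.appTop ≫ X.toSpecΓ.appTop = 𝟙 _ := by
      have := congrArg Scheme.Hom.appTop h
      simpa using this
    rw [Scheme.Hom.comp_appTop, Scheme.Hom.id_appTop]
    have hiso : IsIso X.toSpecΓ.appTop := by
      rw [Scheme.toSpecΓ_appTop]; infer_instance
    have : r.appTop = inv X.toSpecΓ.appTop := by
      rw [← IsIso.eq_comp_inv] at h'
      simpa using h'
    rw [this, IsIso.hom_inv_id]
  exact ⟨⟨⟨r, h, hr⟩⟩⟩

end Groth.Agent.S1433
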