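import Groth.Statements.S14334
import Groth.Agent.H10Coh.CI.Connected
-- import your own Groth.Agent.* helpers here

set_option autoImplicit false
set_option linter.style.haveILetI false
universe u
open CategoryTheory CategoryTheory.Limits AlgebraicGeometry
open Coherent

namespace Groth.Agent.S14334

/-- Let k be a field, r ≤ n, and G_1, …, G_r homogeneous forms of positive degrees in the homogeneous
coordinates of P = P^n_k whose common zero scheme X = V(G_1, …, G_r), with its closed immersion ι :
X → P, has dimension n − r, so that X is a global complete intersection in P. Assume n − r ≥ 1. Then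
X is geometrically connected over k: for every field K and every morphism Spec K → Spec k, the base
change X ×_{Spec k} Spec K is a connected (in particular nonempty) topological space; in particular
X itself is connected. The structure morphism of X is written as ι followed by the structure
morphism of P. -/
theorem result (k : Type u) [Field k] (n r : ℕ) (hr : r ≤ n) (a : Fin r → ℕ) (ha : ∀ j, 1 ≤ a j) (G : ∀ j : Fin r, LefPen.Form n k (a j)) (hdim : topologicalKrullDim ↥(LefPen.ciIdeal G).subscheme = ((n - r : ℕ) : WithBot ℕ∞)) (h1 : 1 ≤ n - r) : GeometricallyConnected ((LefPen.ciIdeal G).subschemeι ≫ CohB1.ProjSpace.toSpec n k) := by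
  exact Groth.Agent.H10Coh.CI.geometricallyConnected_ci hr ha
    (Groth.Agent.H10Coh.CI.dimLE_of_dim G hdim.le) h1

end Groth.Agent.S14334
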