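import Groth.Statements.S14335
import Groth.Agent.H10Coh.CISupport
-- import your own Groth.Agent.* helpers here

set_option autoImplicit false
set_option linter.style.haveILetI false
universe u
open CategoryTheory CategoryTheory.Limits AlgebraicGeometry
open Coherent

namespace Groth.Agent.S14335

/-- Let k be a field, r ≤ n, and G_1, …, G_r homogeneous forms of positive degrees in the homogeneous
coordinates of P = P^n_k whose common zero scheme X = V(G_1, …, G_r), with its closed immersion ι :
X → P, has dimension n − r, so that X is a global complete intersection in P. Then X is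
equidimensional: every irreducible component of X, with the subspace topology, has dimension exactly
n − r. -/
theorem result (k : Type u) [Field k] (n r : ℕ) (hr : r ≤ n) (a : Fin r → ℕ) (ha : ∀ j, 1 ≤ a j) (G : ∀ j : Fin r, LefPen.Form n k (a j)) (hdim : topologicalKrullDim ↥(LefPen.ciIdeal G).subscheme = ((n - r : ℕ) : WithBot ℕ∞)) (Z : Set ↥(LefPen.ciIdeal G).subscheme) (hZ : Z ∈ irreducibleComponents ↥(LefPen.ciIdeal G).subscheme) : topologicalKrullDim ↥Z = ((n - r : ℕ) : WithBot ℕ∞) := by
  let I := LefPen.ciIdeal G
  have hcl : IsClosed (Set.range I.subschemeι) := I.subschemeι.isClosedEmbedding.isClosed_range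
  let e : ↥I.subscheme ≃ₜ ↥(Set.range I.subschemeι) := I.subschemeι.isClosedEmbedding.isEmbedding.toHomeomorph
  have hC := H10Coh.CISupport.dim_component G hcl
    (fun x => by rw [← H10Coh.CISupport.mem_support_ciIdeal, Scheme.IdealSheafData.range_subschemeι]; rfl)
    ((IsHomeomorph.topologicalKrullDim_eq _ e.isHomeomorph).symm.trans hdim) (show r + (n - r) ≤ n by omega)
    (C := e '' Z) (by
      refine ⟨hZ.1.image e e.continuous.continuousOn, fun T hT hle => ?_⟩
      have h1 : e ⁻¹' T ⊆ Z := hZ.2 (e.image_symm ▸ hT.image e.symm e.symm.continuous.continuousOn)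
        (Set.image_subset_iff.1 hle)
      intro t ht
      exact ⟨e.symm t, h1 (show e (e.symm t) ∈ T from (e.apply_symm_apply t).symm ▸ ht), e.apply_symm_apply t⟩)
  rw [← hC]
  exact IsHomeomorph.topologicalKrullDim_eq _ (e.image Z).isHomeomorph

end Groth.Agent.S14335
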