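import Groth.Statements.S14337
import Groth.Agent.H3CAlg.RankStrata
import Mathlib.Algebra.Module.StablyFree.Basic
import Mathlib.Topology.Semicontinuity.Defs

set_option autoImplicit false
universe u
open scoped TensorProduct
open CAlg

namespace Groth.Agent.S14337

/-- Let B be a Noetherian ring, K and K' finitely generated flat B-modules and φ : K → K' a B-linear
map; for a prime y of B write κ(y) for its residue field and φ_y for the base change κ(y) ⊗ K → κ(y)
⊗ K'. If the cokernel K'/Im φ is a projective (locally free) B-module, then Im φ is projective, and
the formation of Im φ commutes with every base change: for every commutative B-algebra B' the map B'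
⊗ Im φ → B' ⊗ K' induced by the inclusion is injective and its range is the range of the base change
B' ⊗ K → B' ⊗ K' of φ. -/
theorem result (B : Type u) [CommRing B] [IsNoetherianRing B] (K K' : Type u) [AddCommGroup K] [Module B K] [Module.Finite B K] [Module.Flat B K] [AddCommGroup K'] [Module B K'] [Module.Finite B K'] [Module.Flat B K'] (φ : K →ₗ[B] K') (hc : Module.Projective B (K' ⧸ LinearMap.range φ)) : Module.Projective B ↥(LinearMap.range φ) ∧ ∀ (B' : Type u) [CommRing B'] [Algebra B B'], Function.Injective ((LinearMap.range φ).subtype.baseChange B') ∧ LinearMap.range ((LinearMap.range φ).subtype.baseChange B') = LinearMap.range (φ.baseChange B') := by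
  have : Module.FinitePresentation B K' := Module.finitePresentation_of_finite B K'
  have : Module.Projective B K' := Module.Flat.projective_of_finitePresentation
  refine ⟨Groth.Agent.H3CAlg.projective_range_of_projective_coker φ, fun B' _ _ => ⟨?_, ?_⟩⟩
  · obtain ⟨r, hr⟩ := Groth.Agent.H3CAlg.exists_retraction_of_projective_coker φ
    intro a b hab
    have := congrArg (r.baseChange B') hab
    rwa [← LinearMap.comp_apply, ← LinearMap.comp_apply, ← LinearMap.baseChange_comp, hr, LinearMap.baseChange_id,
      LinearMap.id_apply, LinearMap.id_apply] at this
  · conv_rhs => rw [show φ = (LinearMap.range φ).subtype ∘ₗ φ.rangeRestrict from rfl, LinearMap.baseChange_comp,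
      LinearMap.range_comp_of_range_eq_top _ (LinearMap.range_eq_top.mpr (LinearMap.baseChange_surjective (A := B') (LinearMap.surjective_rangeRestrict φ)))]

end Groth.Agent.S14337
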