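import Groth.Statements.S14339
import Groth.Agent.H29DoubleCover.PlaneCurve

set_option autoImplicit false
universe u
open CategoryTheory CategoryTheory.Limits AlgebraicGeometry
open Curves

namespace Groth.Agent.S14339

/-- Let k be a field, d ≥ 4, and f a nonzero homogeneous form of degree d in the homogeneous coordinates
of P^2_k whose plane curve X = V_+(f) is smooth over k. Then X is not hyperelliptic: there is no
morphism φ : X → P^1_k over k which is finite and flat of constant rank 2 (a double cover of the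
projective line). -/
theorem result (k : Type u) [Field k] (d : ℕ) (hd : 4 ≤ d) (f : LefPen.Form 2 k d) (hf : f ≠ 0) [Smooth ((LefPen.hypIdeal f).subschemeι ≫ CohB1.ProjSpace.toSpec 2 k)] : ¬ ∃ φ : (LefPen.hypIdeal f).subscheme ⟶ CohB1.ProjSpace 1 k, φ ≫ CohB1.ProjSpace.toSpec 1 k = (LefPen.hypIdeal f).subschemeι ≫ CohB1.ProjSpace.toSpec 2 k ∧ IsFinite φ ∧ Flat φ ∧ ∀ y : ↥(CohB1.ProjSpace 1 k), Scheme.Hom.finrank φ y = 2 := by
  rintro ⟨φ, hφ, hfin, hflat, hr⟩
  letI inst : ((LefPen.hypIdeal f).subscheme).Over (Spec (CommRingCat.of k)) :=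
    ⟨(LefPen.hypIdeal f).subschemeι ≫ CohB1.ProjSpace.toSpec 2 k⟩
  haveI : Smooth ((LefPen.hypIdeal f).subscheme ↘ Spec (CommRingCat.of k)) := by
    show Smooth ((LefPen.hypIdeal f).subschemeι ≫ CohB1.ProjSpace.toSpec 2 k)
    infer_instance
  obtain ⟨m, rfl⟩ : ∃ m, d = m + 4 := ⟨d - 4, by omega⟩
  obtain ⟨hp, hint, hdim, h00, hg⟩ := H29DoubleCover.plane_curve_facts m f hf rfl
  obtain ⟨A, hA, hAd, hA0, hAva⟩ := H29DoubleCover.plane_curve_canonical m f hf rfl
  haveI := hp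
  haveI := hint
  haveI := hfin
  haveI := hflat
  letI := H29RR.PnPic.overSpec 1 k
  haveI : IsProper (CohB1.ProjSpace 1 k ↘ Spec (CommRingCat.of k)) := H27Weil.isProper_toSpec 1 k
  obtain ⟨hPi, -, hPd⟩ := H28Curve.projLine_facts k
  haveI := hPi
  have hg3 : 3 ≤ Curv2.genus k (LefPen.hypIdeal f).subscheme := by
    rw [hg]
    have := Nat.choose_le_choose 2 (show 3 ≤ m + 3 by omega)
    simpa using this
  obtain ⟨t, ht⟩ : ∃ t, Curv2.genus k (LefPen.hypIdeal f).subscheme = t + 1 := ⟨_ - 1, (Nat.sub_add_cancel (by omega)).symm⟩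
  have hTw := H10Coh.Stab.isTwistFamily_projSpace 1 k
  obtain ⟨e⟩ := hTw.nonempty_tensorPow t
  have hdeg : Curv2.deg k (CohB1.ProjSpace 1 k) (CohB1.tensorPow (Twist.twistProjSpace 1 k 1) t) 1 = t := by
    rw [H27HW.deg_pow k (C := CohB1.ProjSpace 1 k) hPd.le (hTw.inv 1), H29DoubleCover.deg_twist_one, mul_one]
  refine H29DoubleCover.false_of_double_cover hdim (hPd.trans (by norm_num)) h00 φ hφ hr _
    (H11Ample.isInvertible_tensorPow (hTw.inv 1) t) (by rw [hdeg]; omega) (by rw [hdeg, ht]; push_cast; rfl) ?_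
    A hA hAd hA0 hAva
  rw [(H29RR.hhIso (k := k) e 0).finrank_eq, H02CA.GM.finrank_h0_nat', Nat.choose_one_right, ht]

end Groth.Agent.S14339
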