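-- statement FlatMor.GrothFrozen.S1434 (Groth/Statements/S1434.lean; the theorem FlatMor.first_order_infinitesimal_nbhd_universal);
import Groth.Statements.S1434

set_option autoImplicit false
universe u
open FlatMor

namespace Groth.Agent.S1434

open AlgebraicGeometry CategoryTheory Limits in
/-- Part (1), for a closed subscheme: let Z ⊂ X be the closed subscheme cut out by an ideal sheaf I and
Z' the one cut out by I², its first order infinitesimal neighbourhood. Given a first order
thickening T → T', a morphism a : T → Z and a morphism b : T' → X compatible with them, there is a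
unique morphism T' → Z' through which b factors (compatibility with a is then automatic). -/
theorem result {X T T' : Scheme.{u}} (I : X.IdealSheafData) (t : T ⟶ T') (ht : MoreMor.IsFirstOrderThickening t)
    (a : T ⟶ I.subscheme) (b : T' ⟶ X) (w : a ≫ I.subschemeι = t ≫ b) :
    ∃! a' : T' ⟶ (I ^ 2).subscheme, a' ≫ (I ^ 2).subschemeι = b := by
  obtain ⟨⟨ht1, ht2⟩, hsq⟩ := ht
  have hle : (I ^ 2).subschemeι.ker ≤ b.ker := by
    rw [Scheme.IdealSheafData.ker_subschemeι]
    refine Scheme.IdealSheafData.le_ofIdeals_iff.mpr fun U ↦ ?_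
    rw [Scheme.IdealSheafData.ideal_pow, Pi.pow_apply, sq, Ideal.mul_le]
    intro x hx y hy
    have hker : ∀ z ∈ I.ideal U, t.app (b ⁻¹ᵁ U) (b.app U z) = 0 := fun z hz ↦ by
      have h1 : I.ideal U ≤ RingHom.ker ((t ≫ b).app U).hom :=
        (((I.ker_subschemeι).ge.trans (a.le_ker_comp I.subschemeι)).trans (by rw [w]) U).trans
          (Scheme.Hom.ideal_ker_le _ U)
      exact h1 hz
    rw [RingHom.mem_ker, map_mul]
    refine T'.sheaf.eq_of_locally_eq'
      (fun W : {W : T'.affineOpens // (W : T'.Opens) ≤ b ⁻¹ᵁ U} ↦ (W.1 : T'.Opens)) (b ⁻¹ᵁ U)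
      (fun W ↦ homOfLE W.2) (fun p hp ↦ ?_) _ _ (fun W ↦ ?_)
    · obtain ⟨W, hW, hpW, hWU⟩ := exists_isAffineOpen_mem_and_subset (x := p) (U := b ⁻¹ᵁ U) hp
      exact TopologicalSpace.Opens.mem_iSup.mpr ⟨⟨⟨W, hW⟩, hWU⟩, hpW⟩
    · show (T'.presheaf.map (homOfLE W.2).op) (b.app U x * b.app U y) =
        (T'.presheaf.map (homOfLE W.2).op) 0
      have hz : ∀ z ∈ I.ideal U, T'.presheaf.map (homOfLE W.2).op (b.app U z) ∈ t.ker.ideal W.1 :=
        fun z hz ↦ by
          rw [Scheme.Hom.ker_apply, RingHom.mem_ker, ← CommRingCat.comp_apply, t.naturality,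
            CommRingCat.comp_apply, hker z hz, map_zero]
      have h := Ideal.mul_mem_mul (hz x hx) (hz y hy)
      rw [show t.ker.ideal W.1 * t.ker.ideal W.1 = (t.ker * t.ker).ideal W.1 from rfl, hsq] at h
      rw [map_mul, map_zero]
      simpa using h
  refine ⟨IsClosedImmersion.lift (I ^ 2).subschemeι b hle, IsClosedImmersion.lift_fac _ _ _,
    fun a' ha' ↦ ?_⟩
  rw [← cancel_mono (I ^ 2).subschemeι, ha', IsClosedImmersion.lift_fac]

end Groth.Agent.S1434
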