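import Groth.Statements.S14340
import Groth.Agent.H29DoubleCover.TwistSections

set_option autoImplicit false
universe u
open CategoryTheory CategoryTheory.Limits AlgebraicGeometry
open Curves

namespace Groth.Agent.S14340

/-- Let k be a field and C a smooth proper geometrically connected curve over k (of dimension one) of
genus g = dim_k H^1(C, O_C) ≥ 2 which is hyperelliptic: there is a morphism f : C → P^1_k over k,
finite and flat of constant rank 2; let L = f^*O(1) be its g^1_2. Then for every r with 0 ≤ r ≤ g −
1 the k-vector space H^0(C, L^{⊗r}) has dimension r + 1. (The published statement asserts that the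
pullback of sections H^0(P^1_k, O(r)) → H^0(C, L^{⊗r}) is an isomorphism and takes C projective;
this row states the equivalent dimension count, that map being injective for the dominant f with
source of dimension r + 1, and takes C proper, which for curves over a field is the same.) -/
theorem result (k : Type u) [Field k] (C : Scheme.{u}) [C.Over (Spec (CommRingCat.of k))] [IsProper (C ↘ Spec (CommRingCat.of k))] [Smooth (C ↘ Spec (CommRingCat.of k))] [GeometricallyConnected (C ↘ Spec (CommRingCat.of k))] (hC : topologicalKrullDim C = 1) (g : ℕ) (hg2 : 2 ≤ g) (hg : Curv2.genus k C = g) (f : C ⟶ CohB1.ProjSpace 1 k) (hf : f ≫ CohB1.ProjSpace.toSpec 1 k = C ↘ Spec (CommRingCat.of k)) [IsFinite f] [Flat f] (hrk : ∀ y : ↥(CohB1.ProjSpace 1 k), Scheme.Hom.finrank f y = 2) (r : ℕ) (hr : r + 1 ≤ g) : Module.finrank k (Coh.HH C (CohB1.tensorPow ((Scheme.Modules.pullback f).obj (Twist.twistProjSpace 1 k 1)) r) 0) = r + 1 := by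
  haveI : IsIntegral C := H29DoubleCover.isIntegral_of_smooth_connected (C ↘ Spec (CommRingCat.of k))
  obtain ⟨-, -, hPd⟩ := H28Curve.projLine_facts k
  haveI : JacobsonSpace C := LocallyOfFiniteType.jacobsonSpace (C ↘ Spec (CommRingCat.of k))
  have hη := H29DoubleCover.apply_genericPoint hPd.le f (H29DoubleCover.exists_ne_of_isFinite hC f)
  have hN := fun x => (H28Neron.isNormalScheme_of_smooth (C ↘ Spec (CommRingCat.of k))
    (H29DoubleCover.isNormalScheme_spec_field k) x).2
  exact H29DoubleCover.finrank_h0_pencil_pow f hη hf hN (hrk _) hg (by omega) (r := r) (by omega)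

end Groth.Agent.S14340
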