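import Groth.Statements.S14341
import Groth.Agent.H29DoubleCover.FibreDivisor
import Groth.Agent.H29DoubleCover.Connected
import Groth.Agent.H29CurveDual.OmegaGen

set_option autoImplicit false
universe u
open CategoryTheory CategoryTheory.Limits AlgebraicGeometry
open Curves

namespace Groth.Agent.S14341

open Groth.Agent.H29RR in
attribute [local instance 10000] H10Coh.hasSheafifyAb H10Coh.hasWeakSheafifyAb H10Coh.hasExtAb H10Coh.enoughInjAb

open Groth.Agent.H29RR in
attribute [local instance] Curv2.resAlgebra in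
theorem unique_aux {k : Type u} [Field k] {X : Scheme.{u}} [X.Over (Spec (CommRingCat.of k))]
    [IsProper (X ↘ Spec (CommRingCat.of k))] [Smooth (X ↘ Spec (CommRingCat.of k))] [IsIntegral X]
    (hX : topologicalKrullDim X = 1) {M : X.Modules} (hM : PicF.IsInvertible M)
    (h1 : Module.finrank k (Coh.HH X M 0) = 1) {P : X} (hP : IsClosed ({P} : Set X))
    (hP1 : Module.finrank k (X.residueField P) = 1)
    (e : CohB1.tensorMod (ClSub.idealMod (ptIdeal P)) M ≅ Coh.structureModule X)
    {g : Γ(M, ⊤)} (hg : g ≠ 0) {y : X} (hy : y ∉ H11Ample.gen M g) : y = P := by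
  haveI := isNoetherian_of_proper (k := k) (X := X)
  by_contra hne
  have hI := H29CurveDual.isInvertible_pt (k := k) hX hP
  obtain ⟨hoff, hat, -⟩ := H29CurveDual.ptIncl_stalks (k := k) hP hP1 hM hI
  let u : Γ(CohB1.tensorMod (ClSub.idealMod (ptIdeal P)) M, ⊤) := e.inv.app ⊤ (H11Ample.one ⊤)
  let w : Γ(M, ⊤) := (ptIncl P M).app ⊤ u
  have hw : ∀ z, z ≠ P → z ∈ H11Ample.gen M w := fun z hz => by
    rw [H29CurveDual.mem_gen_iff_notMem hM, ← germ_app, H29CurveDual.mem_smul_top_iff _ _ (hoff z hz),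
      ← H29CurveDual.mem_gen_iff_notMem (H11Ample.isInvertible_tensor hI hM), H11Ample.gen_iso]
    refine H11Ample.mem_gen_of_isGen (W := ⊤) ?_ (show z ∈ (⊤ : X.Opens) from trivial)
    have h0 : (homOfLE (le_top : (⊤ : X.Opens) ≤ ⊤)).op = 𝟙 _ := Subsingleton.elim _ _
    rw [h0, CategoryTheory.Functor.map_id]
    exact H11Ample.isGen_one (X := X) ⊤
  have hx : (sec M).symm g ≠ 0 := fun h => hg ((sec M).symm.injective (h.trans (map_zero _).symm))
  obtain ⟨c, hc⟩ := exists_smul_eq_of_finrank_eq_one h1 hx ((sec M).symm w)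
  have hw' : w = H10Coh.globA (A := k) (X := X) c • g := by
    rw [← (sec M).apply_symm_apply w, ← hc, sec_smul, AddEquiv.apply_symm_apply]
  have := hw y hne
  rw [H29CurveDual.mem_gen_iff_notMem hM, hw', H17.AssPts.germ_smul'] at this
  rw [H29CurveDual.mem_gen_iff_notMem hM, not_not] at hy
  exact this (Submodule.smul_mem _ _ hy)


/-- Let k be a field and X a smooth proper geometrically connected curve over k (of dimension one) of
genus dim_k H^1(X, O_X) = 1, with a k-rational point O (a closed point with residue field k); for a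
k-rational point P write I_P for the ideal sheaf of the reduced point P, an invertible ideal with
inverse O_X(P). Then for every invertible O_X-module L of degree 0 there is exactly one k-rational
point P with L ⊗ I_P ≅ I_O, that is L ≅ O_X(P − O): the map P ↦ O_X(P − O) is a bijection from X(k)
onto the isomorphism classes of invertible modules of degree zero. -/
theorem result (k : Type u) [Field k] (X : Scheme.{u}) [X.Over (Spec (CommRingCat.of k))] [IsProper (X ↘ Spec (CommRingCat.of k))] [Smooth (X ↘ Spec (CommRingCat.of k))] [GeometricallyConnected (X ↘ Spec (CommRingCat.of k))] (hX : topologicalKrullDim X = 1) (hg : Curv2.genus k X = 1) (O : X) (hOc : IsClosed ({O} : Set X)) (hO : Function.Bijective (Curv2.resMap k X O)) (L : X.Modules) (hL : PicF.IsInvertible L) (hdeg : Curv2.deg k X L 1 = 0) : ∃! P : {x : X // IsClosed ({x} : Set X) ∧ Function.Bijective (Curv2.resMap k X x)}, Nonempty (CohB1.tensorMod L (ClSub.idealMod (Scheme.IdealSheafData.vanishingIdeal ⟨{P.1}, P.2.1⟩)) ≅ ClSub.idealMod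 (Scheme.IdealSheafData.vanishingIdeal ⟨{O}, hOc⟩)) := by
  letI := Curv2.resAlgebra k X
  haveI := H29RR.isNoetherian_of_proper (k := k) (X := X)
  haveI : IsIntegral X := H29DoubleCover.isIntegral_of_smooth_connected (X ↘ Spec (CommRingCat.of k))
  have h00 : Module.finrank k (Coh.HH X (Coh.structureModule X) 0) = 1 :=
    H29DoubleCover.finrank_h0_structure (X ↘ Spec (CommRingCat.of k))
  have hres : ∀ {x : X}, Function.Bijective (Curv2.resMap k X x) → Module.finrank k (X.residueField x) = 1 := fun {x} h =>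
    ((AlgEquiv.ofBijective (Algebra.ofId k (X.residueField x)) h).toLinearEquiv.finrank_eq.symm.trans (Module.finrank_self k))
  have hIO := H29CurveDual.isInvertible_pt (k := k) hX hOc
  obtain ⟨N, hN, ⟨eN⟩⟩ := H29RR.exists_inverse_comm hIO
  let M := CohB1.tensorMod L N
  have hM : PicF.IsInvertible M := H11Ample.isInvertible_tensor hL hN
  have hdM : Curv2.deg k X M 1 = 1 := by
    obtain ⟨-, -, h3⟩ := H29RR.twist_point (k := k) hOc hN (H29CurveDual.isCoh_of_isInvertible hIO)
    rw [hres hO] at h3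
    have hz := H29RR.deg_congr (k := k) eN
    rw [H29RR.deg_structureModule, H29RR.deg_def] at hz
    have hdN : Curv2.deg k X N 1 = 1 := by rw [H29RR.deg_def]; omega
    rw [H29RR.deg_tensor (k := k) hX.le hL hN, hdeg, hdN]; rfl
  have h1 : Module.finrank k (Coh.HH X M 0) = 1 := by
    haveI : Subsingleton (Coh.HH X M 1) := H29CurveDual.subsingleton_h1_of_deg (k := k) hX hM (by
      rw [H29CurveDual.deg_omega_of_h0 (k := k) hX h00, hg, hdM]; norm_num)
    have hrr := H29RR.riemann_roch (k := k) hX.le M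
    rw [Module.finrank_zero_of_subsingleton (M := Coh.HH X M 1), h00, hg, hdM] at hrr
    omega
  haveI : Nontrivial (Coh.HH X M 0) := Module.nontrivial_of_finrank_pos (R := k) (by omega)
  obtain ⟨x, hx⟩ := exists_ne (0 : Coh.HH X M 0)
  let v := H29RR.sec M x
  have hv : v ≠ 0 := fun h => hx ((H29RR.sec M).injective (h.trans (map_zero _).symm))
  obtain ⟨S, hS⟩ : ∃ S, S ∉ H11Ample.gen M v := by
    by_contra hc
    push Not at hc
    have := H29DoubleCover.deg_eq_zero_of_gen (k := k) hM v hc
    omega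
  have hScl : IsClosed ({S} : Set X) := by
    rcases H29Curve.isClosed_singleton_or_eq_genericPoint hX.le S with h | h
    · exact h
    · exact absurd (h ▸ H29RR.genericPoint_mem_gen hM hv) hS
  have hI := H29CurveDual.isInvertible_pt (k := k) hX hScl
  have hT := H11Ample.isInvertible_tensor hI hM
  obtain ⟨-, -, h3⟩ := H29RR.twist_point (k := k) hScl hM (H29CurveDual.isCoh_of_isInvertible hI)
  have hpos := H29CurveDual.residue_finrank_pos (k := k) hScl
  have hnt : Nontrivial (Coh.HH X (CohB1.tensorMod (ClSub.idealMod (H29RR.ptIdeal S)) M) 0) := by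
    refine Module.nontrivial_of_finrank_pos (R := k) ?_
    by_contra h0
    obtain ⟨g, hgS⟩ := H29CurveDual.exists_mem_gen_of_h0_lt (k := k) hScl hM
      (H29CurveDual.isCoh_of_isInvertible hI) (by omega)
    obtain ⟨c, hc⟩ := exists_smul_eq_of_finrank_eq_one h1 hx ((H29RR.sec M).symm g)
    have hg' : g = H10Coh.globA (A := k) (X := X) c • v := by
      rw [← (H29RR.sec M).apply_symm_apply g, ← hc, H29RR.sec_smul]
    rw [H29CurveDual.mem_gen_iff_notMem hM, hg', H17.AssPts.germ_smul'] at hgS
    rw [H29CurveDual.mem_gen_iff_notMem hM, not_not] at hS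
    exact hgS (Submodule.smul_mem _ _ hS)
  obtain ⟨hd0, -, -, hiso⟩ := H29RR.bounds_of_section (k := k) hX.le hT hnt
  have hdT : Curv2.deg k X (CohB1.tensorMod (ClSub.idealMod (H29RR.ptIdeal S)) M) 1 =
      1 - (Module.finrank k (X.residueField S) : ℤ) := by
    rw [H29RR.deg_def] at hdM ⊢
    omega
  have hS1 : Module.finrank k (X.residueField S) = 1 := by omega
  obtain ⟨e⟩ := hiso (by omega)
  have hSb : Function.Bijective (Curv2.resMap k X S) := by
    refine ⟨(Curv2.resMap k X S).injective, fun z => ?_⟩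
    obtain ⟨c, hc⟩ := exists_smul_eq_of_finrank_eq_one hS1 (one_ne_zero (α := X.residueField S)) z
    exact ⟨c, by rw [← hc, Algebra.smul_def, mul_one]; rfl⟩
  have key : ∀ (P : X) (hP : IsClosed ({P} : Set X)),
      Nonempty (CohB1.tensorMod L (ClSub.idealMod (Scheme.IdealSheafData.vanishingIdeal ⟨{P}, hP⟩)) ≅
          ClSub.idealMod (Scheme.IdealSheafData.vanishingIdeal ⟨{O}, hOc⟩)) ↔
        Nonempty (CohB1.tensorMod (ClSub.idealMod (H29RR.ptIdeal P)) M ≅ Coh.structureModule X) := by
    intro P hP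
    rw [← H29RR.ptIdeal_eq_vanishingIdeal hP, ← H29RR.ptIdeal_eq_vanishingIdeal hOc]
    let a : CohB1.tensorMod (CohB1.tensorMod L (ClSub.idealMod (H29RR.ptIdeal P))) N ≅
        CohB1.tensorMod (ClSub.idealMod (H29RR.ptIdeal P)) M :=
      PicGrp.tensorModIso (H10Coh.Tw.commIso _ _) (Iso.refl N) ≪≫ H10Coh.Tw.assoc _ _ _
    constructor
    · rintro ⟨i⟩
      exact ⟨a.symm ≪≫ PicGrp.tensorModIso i (Iso.refl N) ≪≫ eN⟩
    · rintro ⟨i⟩
      exact H29DoubleCover.nonempty_iso_of_tensor_eq hN (a ≪≫ i) eN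
  refine ⟨⟨S, hScl, hSb⟩, (key S hScl).2 ⟨e⟩, fun P hP => Subtype.ext ?_⟩
  obtain ⟨e'⟩ := (key P.1 P.2.1).1 hP
  exact (unique_aux hX hM h1 P.2.1 (hres P.2.2) e' hv hS).symm

end Groth.Agent.S14341
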