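import Groth.Statements.S14342
import Groth.Agent.H10Coh.CI.Step
-- import your own Groth.Agent.* helpers here

set_option autoImplicit false
set_option linter.style.haveILetI false
universe u
open CategoryTheory CategoryTheory.Limits AlgebraicGeometry
open Coherent

namespace Groth.Agent.S14342

/-- Let k be a field, r + 1 ≤ n, and G_0, …, G_r homogeneous forms of positive degrees a_0, …, a_r in
the homogeneous coordinates of P = P^n_k whose common zero scheme X = V(G_0, …, G_r) has dimension n
− (r + 1), a global complete intersection; let Y = V(G_0, …, G_{r−1}) with its closed immersion ι_Y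
: Y → P. Then the ideal sheaf of X inside Y (the ideal of the inverse image of the hypersurface
V(G_r) under ι_Y, as an O_Y-module) is isomorphic to ι_Y^*O(−a_r). (The published statement
identifies the two modules through a named map, induced by multiplication by G_r; this row asserts
only that an isomorphism of O_Y-modules exists.) -/
theorem result (k : Type u) [Field k] (n r : ℕ) (hr : r + 1 ≤ n) (a : Fin (r + 1) → ℕ) (ha : ∀ j, 1 ≤ a j) (G : ∀ j : Fin (r + 1), LefPen.Form n k (a j)) (hdim : topologicalKrullDim ↥(LefPen.ciIdeal G).subscheme = ((n - (r + 1) : ℕ) : WithBot ℕ∞)) : Nonempty (ClSub.idealMod ((LefPen.hypIdeal (G (Fin.last r))).comap (LefPen.ciIdeal (fun j : Fin r => G j.castSucc)).subschemeι) ≅ (Scheme.Modules.pullback (LefPen.ciIdeal (fun j : Fin r => G j.castSucc)).subschemeι).obj (Twist.twistProjSpace n k (-(a (Fin.last r) : ℤ)))) := by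
  exact Groth.Agent.H10Coh.CI.nonempty_idealMod_comap hr ha
    (Groth.Agent.H10Coh.CI.dimLE_of_dim G hdim.le)

end Groth.Agent.S14342
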