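import Groth.Statements.S14345
import Mathlib
import Groth.Agent.H29Fitt.Ideal

set_option autoImplicit false
universe u v
open TensorProduct
open QuotLF

namespace Groth.Agent.S14345

/-- Let R be a commutative ring, M a finitely generated R-module and k ≥ 0. If for an R-algebra A the
module A ⊗_R M admits a quotient that is finite projective of constant rank k (an A-valued point of
the Quot scheme of rank-k locally free quotients of M), then every Fitting ideal Fit_j(M) with j < k
extends to the zero ideal of A; that is, the structure map of the Quot scheme of rank-k locally free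
quotients factors through the closed subscheme cut out by Fit_{k-1}(M). -/
theorem result (R : Type u) [CommRing R]
    (M : Type v) [AddCommGroup M] [Module R M] [Module.Finite R M] (k : ℕ)
    (A : Type u) [CommRing A] [Algebra R A] (N : Module.Grassmannian A (A ⊗[R] M) k)
    (j : ℕ) (hj : j < k) :
    (Fitt.ideal R M j).map (algebraMap R A) = ⊥ := by
  rw [← Groth.Agent.H29Fitt.ideal_baseChange]
  haveI : Module.Finite A (A ⊗[R] M) := inferInstance
  refine ideal_eq_bot_of_localization' _ fun P hP => ?_
  let AP := Localization.AtPrime P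
  let Q := (A ⊗[R] M) ⧸ N.toSubmodule
  rw [← Groth.Agent.H29Fitt.ideal_baseChange]
  haveI : Module.Projective A Q := N.projective_quotient
  haveI : Module.Finite A Q := N.finite_quotient
  haveI : Module.Free AP (AP ⊗[A] Q) := Module.free_of_flat_of_isLocalRing
  have hk : Module.finrank AP (AP ⊗[A] Q) = k := by
    have := N.rankAtStalk_eq ⟨P, hP.isPrime⟩
    rw [Module.rankAtStalk_eq_finrank_tensorProduct] at this
    exact this
  let b := Module.finBasisOfFinrankEq AP (AP ⊗[A] Q) hk
  let q : AP ⊗[A] (A ⊗[R] M) →ₗ[AP] AP ⊗[A] Q := (N.toSubmodule.mkQ).baseChange AP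
  have hq : Function.Surjective q :=
    LinearMap.baseChange_surjective AP (Submodule.mkQ_surjective _)
  obtain ⟨s, x, hx⟩ := Module.Finite.exists_fin (R := AP) (M := AP ⊗[A] (A ⊗[R] M))
  have hx' : Submodule.span AP (Set.range (q ∘ x)) = ⊤ := by
    rw [Set.range_comp, ← Submodule.map_span, hx, Submodule.map_top, LinearMap.range_eq_top.mpr hq]
  rw [eq_bot_iff, Groth.Agent.H29Fitt.ideal_eq x hx]
  have h1 : Groth.Agent.H29Fitt.J (R := AP) (q ∘ x) (s - j) = ⊥ := by
    rw [← Groth.Agent.H29Fitt.ideal_eq (q ∘ x) hx', Groth.Agent.H29Fitt.ideal_eq b b.span_eq,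
      eq_bot_iff]
    refine Groth.Agent.H29Fitt.J_le fun z e hz => ?_
    haveI : Nonempty (Fin (k - j)) := ⟨⟨0, by omega⟩⟩
    rw [Matrix.det_eq_zero_of_column_eq_zero (Classical.arbitrary _) fun a =>
      Fintype.linearIndependent_iff.mp b.linearIndependent (z _) (hz _) (e a)]
    exact Submodule.zero_mem _
  rw [← h1]
  refine Groth.Agent.H29Fitt.J_le fun z e hz => Groth.Agent.H29Fitt.det_mem_J (fun i => ?_) e
  have := congrArg q (hz i)
  simpa [map_sum, map_smul] using this

end Groth.Agent.S14345
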