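import Groth.Statements.S14346
import Mathlib.Tactic

set_option autoImplicit false
universe u v
open TensorProduct
open QuotLF

namespace Groth.Agent.S14346

/-- Let R be a commutative ring, M an R-module, k ≥ 0, and A an R-algebra for which A ⊗_R M is finite
projective of constant rank k, i.e. Spec A → Spec R factors through the locally closed stratum where
M is locally free of rank k. Then A ⊗_R M has exactly one rank-k locally free quotient: the zero
submodule has finite projective quotient of constant rank k, and every submodule with such a
quotient is zero. In other words the Quot scheme of rank-k locally free quotients of M restricted to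
that stratum maps isomorphically onto it. -/
theorem result (R : Type u) [CommRing R]
    (M : Type v) [AddCommGroup M] [Module R M] (k : ℕ)
    (A : Type u) [CommRing A] [Algebra R A] [Module.Finite A (A ⊗[R] M)] [Module.Projective A (A ⊗[R] M)]
    (hk : ∀ p : PrimeSpectrum A, Module.rankAtStalk (R := A) (A ⊗[R] M) p = k) :
    (∃ N : Module.Grassmannian A (A ⊗[R] M) k, N.toSubmodule = ⊥) ∧
      ∀ N : Module.Grassmannian A (A ⊗[R] M) k, N.toSubmodule = ⊥ := by
  have hbot : ∀ N : Module.Grassmannian A (A ⊗[R] M) k, N.toSubmodule = ⊥ := by
    intro N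
    obtain ⟨s, hs⟩ := Module.projective_lifting_property N.toSubmodule.mkQ LinearMap.id N.toSubmodule.mkQ_surjective
    have hc : IsCompl N.toSubmodule (LinearMap.range s) := by
      have := LinearMap.isCompl_of_proj (p := LinearMap.range s) (f := (s.comp N.toSubmodule.mkQ).codRestrict _ (fun x => ⟨_, rfl⟩)) ?_
      · have hk : ((s.comp N.toSubmodule.mkQ).codRestrict (LinearMap.range s) (fun x => ⟨_, rfl⟩)).ker = N.toSubmodule := by
          ext x
          have hinj : Function.Injective s := Function.LeftInverse.injective (g := N.toSubmodule.mkQ) (fun x => LinearMap.congr_fun hs x)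
          simp only [LinearMap.mem_ker, Subtype.ext_iff]
          change s (N.toSubmodule.mkQ x) = 0 ↔ _
          rw [← map_zero s, hinj.eq_iff, Submodule.mkQ_apply, Submodule.Quotient.mk_eq_zero]
        rw [hk] at this
        exact this.symm
      · rintro ⟨_, y, rfl⟩
        ext
        exact congrArg s (LinearMap.congr_fun hs y)
    let e : (↥N.toSubmodule × ↥(LinearMap.range s)) ≃ₗ[A] (A ⊗[R] M) := Submodule.prodEquivOfIsCompl _ _ hc
    let e2 := Submodule.quotientEquivOfIsCompl _ _ hc
    have : Module.Projective A ↥N.toSubmodule :=
      Module.Projective.of_split (e.toLinearMap.comp (LinearMap.inl A _ _))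
        ((LinearMap.fst A _ _).comp e.symm.toLinearMap) (by ext1 x; simp)
    have : Module.Finite A ↥N.toSubmodule :=
      Module.Finite.of_surjective ((LinearMap.fst A _ _).comp e.symm.toLinearMap)
        (fun x => ⟨e (x, 0), by simp⟩)
    have : Module.Projective A ↥(LinearMap.range s) := Module.Projective.of_equiv e2
    have : Module.Finite A ↥(LinearMap.range s) := Module.Finite.equiv e2
    have hz : Module.rankAtStalk (R := A) ↥N.toSubmodule = 0 := by
      funext p
      have h1 := congrFun (Module.rankAtStalk_eq_of_equiv (M := ↥N.toSubmodule × ↥(LinearMap.range s)) e) p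
      rw [Module.rankAtStalk_prod, Pi.add_apply, hk p, ← congrFun (Module.rankAtStalk_eq_of_equiv (M := (A ⊗[R] M) ⧸ N.toSubmodule) (N := ↥(LinearMap.range s)) e2) p,
        N.rankAtStalk_eq p] at h1
      simpa using h1
    rw [Module.rankAtStalk_eq_zero_iff_subsingleton] at hz
    exact Submodule.subsingleton_iff_eq_bot.mp hz
  refine ⟨?_, hbot⟩
  let e := (Submodule.quotEquivOfEqBot (⊥ : Submodule A (A ⊗[R] M)) rfl)
  exact ⟨⟨⊥, Module.Finite.equiv e.symm, Module.Projective.of_equiv e.symm,
    fun p => (congrFun (Module.rankAtStalk_eq_of_equiv e) p).trans (hk p)⟩, rfl⟩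

end Groth.Agent.S14346
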