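import Groth.Statements.S14347
import Mathlib
import Groth.Agent.H29Fitt.Ideal

set_option autoImplicit false
universe u
open QuotLF

namespace Groth.Agent.S14347

theorem helper_ideal_presented {R : Type*} [CommRing R] {M : Type*} [AddCommGroup M] [Module R M]
    {p r : ℕ} (x : Fin p → M) {κ : Type*} (c : κ → (Fin p → R))
    (hc : ∀ b, ∑ i, c b i • x i = 0)
    (hS : ∀ w : Fin p → R, ∑ i, w i • x i = 0 → w ∈ Submodule.span R (Set.range c)) :
    Groth.Agent.H29Fitt.J (R := R) x r = Ideal.span {d | ∃ (e : Fin r → Fin p) (f : Fin r → κ),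
      d = (Matrix.of fun a b => c (f b) (e a)).det} := by
  apply le_antisymm
  · refine Groth.Agent.H29Fitt.J_le_of_span (Set.range c) hS fun z e hz => ?_
    choose f hf using hz
    refine Ideal.subset_span ⟨e, f, ?_⟩
    simp only [hf]
  · refine Ideal.span_le.mpr ?_
    rintro _ ⟨e, f, rfl⟩
    exact Groth.Agent.H29Fitt.det_mem_J (fun j => hc (f j)) e

theorem helper_shift {R : Type*} [CommRing R] {m n : ℕ} (σ : (Fin m → R) →ₗ[R] (Fin n → R))
    (r : ℕ) :
    ∃ (x : Fin n → (Fin n → R) ⧸ LinearMap.range σ)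
      (y : Fin m → Module.Dual R (Fin m → R) ⧸ LinearMap.range σ.dualMap),
      Submodule.span R (Set.range x) = ⊤ ∧ Submodule.span R (Set.range y) = ⊤ ∧
      Groth.Agent.H29Fitt.J (R := R) x r = Groth.Agent.H29Fitt.J (R := R) y r ∧
      (m < r → Groth.Agent.H29Fitt.J (R := R) x r = ⊥) := by
  classical
  set x : Fin n → (Fin n → R) ⧸ LinearMap.range σ :=
    fun a => Submodule.Quotient.mk (Pi.single a 1) with hx
  set y : Fin m → Module.Dual R (Fin m → R) ⧸ LinearMap.range σ.dualMap :=
    fun b => Submodule.Quotient.mk (LinearMap.proj b) with hy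
  have hxsum : ∀ w : Fin n → R, ∑ i, w i • x i = Submodule.Quotient.mk w := fun w => by
    simp only [hx, ← Submodule.mkQ_apply, ← map_smul, ← map_sum]
    rw [← pi_eq_sum_univ' w]
  have hysum : ∀ w : Fin m → R, ∑ i, w i • y i =
      Submodule.Quotient.mk (∑ i, w i • (LinearMap.proj i : (Fin m → R) →ₗ[R] R)) := fun w => by
    simp only [hy, ← Submodule.mkQ_apply, ← map_smul, ← map_sum]
  have hdual : ∀ φ : Module.Dual R (Fin m → R),
      φ = ∑ i, φ (Pi.single i 1) • (LinearMap.proj i : (Fin m → R) →ₗ[R] R) := fun φ => by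
    refine LinearMap.pi_ext' fun i => LinearMap.ext_ring ?_
    simp [Pi.single_apply, Finset.sum_ite_eq, Finset.sum_ite_eq']
  have hX := helper_ideal_presented (r := r) x (κ := Fin m) (fun b => σ (Pi.single b 1))
    (fun b => by rw [hxsum, Submodule.Quotient.mk_eq_zero]; exact ⟨_, rfl⟩)
    (fun w hw => by
      rw [hxsum, Submodule.Quotient.mk_eq_zero] at hw
      obtain ⟨v, rfl⟩ := hw
      rw [pi_eq_sum_univ' v, map_sum]
      exact Submodule.sum_mem _ fun i _ => by
        rw [map_smul]; exact Submodule.smul_mem _ _ (Submodule.subset_span ⟨i, rfl⟩))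
  have hY := helper_ideal_presented (r := r) y (κ := Fin n)
    (fun a b => σ (Pi.single b 1) a)
    (fun a => by
      rw [hysum, Submodule.Quotient.mk_eq_zero]
      refine ⟨LinearMap.proj a, ?_⟩
      rw [hdual (σ.dualMap (LinearMap.proj a))]
      rfl)
    (fun w hw => by
      rw [hysum, Submodule.Quotient.mk_eq_zero] at hw
      obtain ⟨φ, hφ⟩ := hw
      have hw' : w = ∑ a, φ (Pi.single a 1) • fun b => σ (Pi.single b 1) a := by
        funext b
        have := LinearMap.congr_fun hφ (Pi.single b 1)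
        simp only [LinearMap.dualMap_apply, LinearMap.coe_sum, Finset.sum_apply,
          LinearMap.smul_apply, LinearMap.proj_apply, Pi.single_apply, smul_eq_mul, mul_ite,
          mul_one, mul_zero, Finset.sum_ite_eq', Finset.mem_univ, if_true] at this
        rw [← this, pi_eq_sum_univ' (σ (Pi.single b 1)), map_sum, Finset.sum_apply]
        refine Finset.sum_congr rfl fun a _ => ?_
        rw [map_smul, Pi.smul_apply, smul_eq_mul, smul_eq_mul, mul_comm]
      rw [hw']
      exact Submodule.sum_mem _ fun a _ => Submodule.smul_mem _ _ (Submodule.subset_span ⟨a, rfl⟩))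
  refine ⟨x, y, ?_, ?_, ?_, ?_⟩
  · rw [eq_top_iff]
    rintro q -
    obtain ⟨w, rfl⟩ := Submodule.Quotient.mk_surjective _ q
    rw [← hxsum]
    exact Submodule.sum_mem _ fun i _ => Submodule.smul_mem _ _ (Submodule.subset_span ⟨i, rfl⟩)
  · rw [eq_top_iff]
    rintro q -
    obtain ⟨φ, rfl⟩ := Submodule.Quotient.mk_surjective _ q
    rw [hdual φ, ← hysum]
    exact Submodule.sum_mem _ fun i _ => Submodule.smul_mem _ _ (Submodule.subset_span ⟨i, rfl⟩)
  · rw [hX, hY]
    apply le_antisymm <;>
    · refine Ideal.span_mono ?_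
      rintro _ ⟨e, f, rfl⟩
      refine ⟨f, e, ?_⟩
      rw [← Matrix.det_transpose]
      rfl
  · intro hmr
    rw [hX, eq_bot_iff, Ideal.span_le]
    rintro _ ⟨e, f, rfl⟩
    obtain ⟨i, j, hne, hij⟩ := Fintype.exists_ne_map_eq_of_card_lt f (by simpa using hmr)
    exact Matrix.det_zero_of_column_eq hne (fun a => by simp [hij])


/-- Let R be a commutative ring and σ : R^m → R^n an injective linear map with cokernel M, so that M has
a length-one resolution by finite free modules and rank δ = n − m; let K be the cokernel of the dual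
map (R^n)^∨ → (R^m)^∨, which is the module Ext¹_R(M, R). Then the Fitting ideals satisfy Fit_{δ +
j}(M) = Fit_j(K) for all j ≥ 0, and Fit_i(M) = 0 for i < δ (the degeneracy loci of M and of K agree
after the shift by δ). -/
theorem result (R : Type u) [CommRing R] (m n : ℕ)
    (σ : (Fin m → R) →ₗ[R] (Fin n → R)) (hσ : Function.Injective σ) :
    (∀ j : ℕ, Fitt.ideal R ((Fin n → R) ⧸ LinearMap.range σ) (n - m + j) =
        Fitt.ideal R (Module.Dual R (Fin m → R) ⧸ LinearMap.range σ.dualMap) j) ∧
      ∀ i : ℕ, i < n - m → Fitt.ideal R ((Fin n → R) ⧸ LinearMap.range σ) i = ⊥ := by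
  have key := @Groth.Agent.H29Fitt.ideal_eq
  rcases subsingleton_or_nontrivial R with hR | hR
  · exact ⟨fun j => Subsingleton.elim _ _, fun i _ => Subsingleton.elim _ _⟩
  have hmn : m ≤ n := le_of_fin_injective R σ hσ
  constructor
  · intro j
    obtain ⟨x, y, hx, hy, hxy, -⟩ := helper_shift σ (m - j)
    rw [key x hx, key y hy, show n - (n - m + j) = m - j by omega, hxy]
  · intro i hi
    obtain ⟨x, y, hx, hy, -, hz⟩ := helper_shift σ (n - i)
    rw [key x hx]
    exact hz (by omega)

end Groth.Agent.S14347
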