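import Groth.Statements.S14351
import Mathlib.NumberTheory.Padics.PadicIntegers
import Mathlib.Order.CompletePartialOrder
import Mathlib.RingTheory.Flat.FaithfullyFlat.Algebra
import Mathlib.RingTheory.HopkinsLevitzki
import Mathlib.RingTheory.Noetherian.OfPrime
import Mathlib.RingTheory.SimpleRing.Principal
import Mathlib.RingTheory.Support
import Mathlib.RingTheory.WittVector.Domain
import Mathlib.RingTheory.WittVector.Teichmuller

set_option autoImplicit false
universe u
open CAlg

namespace Groth.Agent.S14351

/-- For ring maps A → B → C with C faithfully flat over B and C faithfully flat over A, the ring B is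
faithfully flat over A. -/
theorem result (A B C : Type u) [CommRing A] [CommRing B]
    [CommRing C] [Algebra A B] [Algebra B C] [Algebra A C] [IsScalarTower A B C]
    [Module.FaithfullyFlat B C] [Module.FaithfullyFlat A C] : Module.FaithfullyFlat A B := by
  have : Module.Flat A B := by
    rw [Module.Flat.iff_lTensor_preserves_injective_linearMap]
    intro M N _ _ _ _ f hf
    have key : Function.Injective (TensorProduct.AlgebraTensorModule.map (LinearMap.id : B →ₗ[B] B) f) := ?_
    · exact key
    rw [← Module.FaithfullyFlat.lTensor_injective_iff_injective B C]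
    have h2 : Function.Injective (f.lTensor C) := Module.Flat.lTensor_preserves_injective_linearMap f hf
    have e : (TensorProduct.AlgebraTensorModule.map (LinearMap.id : B →ₗ[B] B) f).lTensor C =
        (TensorProduct.AlgebraTensorModule.cancelBaseChange A B B C N).symm.toLinearMap ∘ₗ
        (TensorProduct.AlgebraTensorModule.map (LinearMap.id : C →ₗ[B] C) f) ∘ₗ
        (TensorProduct.AlgebraTensorModule.cancelBaseChange A B B C M).toLinearMap := by
      ext c m; simp
    rw [e]
    exact (LinearEquiv.injective (TensorProduct.AlgebraTensorModule.cancelBaseChange A B B C N).symm).comp (h2.comp (LinearEquiv.injective (TensorProduct.AlgebraTensorModule.cancelBaseChange A B B C M)))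
  apply Module.FaithfullyFlat.of_comap_surjective
  intro p
  obtain ⟨q, rfl⟩ := PrimeSpectrum.comap_surjective_of_faithfullyFlat (A := A) (B := C) p
  exact ⟨PrimeSpectrum.comap (algebraMap B C) q, by rw [IsScalarTower.algebraMap_eq A B C, PrimeSpectrum.comap_comp_apply]⟩

end Groth.Agent.S14351
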