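import Groth.Statements.S14352
import Groth.Agent.H17.Imports
import Mathlib.AlgebraicGeometry.Morphisms.FormallyUnramified
import Mathlib.AlgebraicGeometry.Artinian
import Mathlib.RingTheory.Etale.Field
import Mathlib.RingTheory.Kaehler.TensorProduct
import Mathlib.RingTheory.LocalRing.Module
import Mathlib.RingTheory.Jacobson.Artinian
import Mathlib.Algebra.DualNumber

set_option autoImplicit false
universe u
open Mor

namespace Groth.Agent.S14352

open CategoryTheory Limits AlgebraicGeometry TopologicalSpace
open scoped TensorProduct KaehlerDifferential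

open CategoryTheory CategoryTheory.Limits AlgebraicGeometry in
/-- A morphism of schemes f : X → S which is locally of finite presentation is unramified (formally
unramified) if and only if all its geometric fibres are reduced with discrete underlying space: for
every algebraically closed field K and every S-point Spec K → S, the fibre product X ×_S Spec K is a
reduced scheme whose topological space is discrete. -/
theorem result {X S : Scheme.{u}} (f : X ⟶ S)
    [LocallyOfFinitePresentation f] :
    FormallyUnramified f ↔
      ∀ (K : Type u) [Field K] [IsAlgClosed K] (s : Spec (CommRingCat.of K) ⟶ S),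
        IsReduced (pullback f s) ∧ DiscreteTopology ↥(pullback f s) := by
  constructor
  · intro hf K _ _ s
    let P : Scheme.{u} := pullback f s
    let p : P ⟶ Spec (CommRingCat.of K) := pullback.snd f s
    have : FormallyUnramified p := MorphismProperty.pullback_snd f s hf
    have : LocallyOfFiniteType p := MorphismProperty.pullback_snd f s inferInstance
    have key : ∀ V : P.Opens, IsAffineOpen V → IsArtinianRing Γ(P, V) ∧ _root_.IsReduced Γ(P, V) := by
      intro V hV
      obtain ⟨φ, hφ⟩ := Spec.map_surjective (hV.fromSpec ≫ p)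
      have hu : φ.hom.FormallyUnramified := by
        rw [← HasRingHomProperty.Spec_iff (P := @FormallyUnramified), hφ]
        exact MorphismProperty.comp_mem _ _ _ inferInstance inferInstance
      have hft : φ.hom.FiniteType := by
        rw [← HasRingHomProperty.Spec_iff (P := @LocallyOfFiniteType), hφ]; infer_instance
      algebraize [φ.hom]
      have := Algebra.FormallyUnramified.finite_of_free K Γ(P, V)
      exact ⟨IsArtinianRing.of_finite K _, Algebra.FormallyUnramified.isReduced_of_field K _⟩
    constructor
    · have : ∀ i, IsReduced (P.affineCover.X i) := fun i => by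
        have h := (key _ (isAffineOpen_opensRange (P.affineCover.f i))).2
        have h' : _root_.IsReduced Γ(P.affineCover.X i, ⊤) := by
          have e := ((P.affineCover.f i).appIso ⊤).commRingCatIsoToRingEquiv
          have hh : _root_.IsReduced Γ(P, (P.affineCover.f i) ''ᵁ ⊤) := by
            rwa [Scheme.Hom.image_top_eq_opensRange]
          exact isReduced_of_injective e.symm.toRingHom e.symm.injective
        exact affine_isReduced_iff (CommRingCat.of Γ(P.affineCover.X i, ⊤)) |>.mpr h' |> fun h'' =>
          isReduced_of_isOpenImmersion (P.affineCover.X i).isoSpec.hom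
      exact IsReduced.of_openCover _ P.affineCover
    · have : IsLocallyArtinian P := ⟨fun V => (key V.1 V.2).1⟩
      exact IsLocallyArtinian.discreteTopology
  · intro H
    refine ⟨fun {V} hV {U} hU e => ?_⟩
    let g := f.appLE V U e
    have hft : g.hom.FiniteType := HasRingHomProperty.appLE @LocallyOfFiniteType f inferInstance ⟨V, hV⟩ ⟨U, hU⟩ e
    algebraize [g.hom]
    refine ⟨?_⟩
    show Subsingleton Ω[Γ(X, U)⁄Γ(S, V)]
    rw [← not_nontrivial_iff_subsingleton]
    intro hnt
    obtain ⟨q, hq⟩ := Module.nonempty_support_iff (R := Γ(X, U)) (M := Ω[Γ(X, U)⁄Γ(S, V)]) |>.mpr hnt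
    rw [Module.mem_support_iff_nontrivial_residueField_tensorProduct] at hq
    let R := Γ(S, V)
    let A := Γ(X, U)
    let κ := q.asIdeal.ResidueField
    let K := AlgebraicClosure κ
    let s' : Spec (CommRingCat.of K) ⟶ Spec R := Spec.map (CommRingCat.ofHom (algebraMap R K))
    obtain ⟨hred, hdisc⟩ := H K (s' ≫ hV.fromSpec)
    let B := K ⊗[R] A
    let _ : Algebra A B := Algebra.TensorProduct.rightAlgebra
    let ι : Spec (CommRingCat.of B) ⟶ pullback f (s' ≫ hV.fromSpec) :=
      (pullbackSpecIso R K A).inv ≫ (pullbackSymmetry _ _).hom ≫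
        pullback.map (Spec.map (CommRingCat.ofHom (algebraMap R A))) s' f (s' ≫ hV.fromSpec)
          hU.fromSpec (𝟙 _) hV.fromSpec (IsAffineOpen.SpecMap_appLE_fromSpec f hV hU e)
          (Category.id_comp _).symm
    have : IsOpenImmersion ι := inferInstance
    have hBred : IsReduced (Spec (CommRingCat.of B)) := isReduced_of_isOpenImmersion ι
    have hBred' : _root_.IsReduced B := (affine_isReduced_iff (CommRingCat.of B)).mp hBred
    have hBdisc : DiscreteTopology (Spec (CommRingCat.of B)) := ι.isOpenEmbedding.discreteTopology
    have hBnoe : IsNoetherianRing B := Algebra.FiniteType.isNoetherianRing K B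
    have hBart : IsArtinianRing B := by
      have hloc : IsLocallyArtinian (Spec (CommRingCat.of B)) :=
        @IsLocallyArtinian.of_isLocallyNoetherian_of_discreteTopology _
          (inferInstanceAs (IsLocallyNoetherian (Spec (CommRingCat.of B)))) hBdisc
      exact (Scheme.isLocallyArtinianScheme_Spec (R := CommRingCat.of B)).mp hloc
    have : Module.Finite K B := (Module.finite_iff_isArtinianRing K B).mpr hBart
    have hBu : Algebra.FormallyUnramified K B := by
      have : ∀ I : MaximalSpectrum B, Algebra.FormallyEtale K (B ⧸ I.asIdeal) := fun I => by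
        let := Ideal.Quotient.field I.asIdeal
        rw [Algebra.FormallyEtale.iff_isSeparable]
        infer_instance
      have : Algebra.FormallyEtale K B :=
        .of_equiv ((IsArtinianRing.equivPi B).restrictScalars K).symm
      infer_instance
    have hzero := (KaehlerDifferential.tensorKaehlerEquiv R K A B).toEquiv.subsingleton
    let χ : B →+* K :=
      (Algebra.TensorProduct.lift (AlgHom.id R K) (IsScalarTower.toAlgHom R A K) (fun _ _ => Commute.all _ _)).toRingHom
    have hχ : ∀ a : A, χ ((1 : K) ⊗ₜ[R] a) = algebraMap A K a := fun a =>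
      (Algebra.TensorProduct.lift_tmul _ _ _ _ _).trans ((one_mul _).trans rfl)
    obtain ⟨z, hz⟩ := exists_ne (0 : κ ⊗[A] Ω[A⁄R])
    obtain ⟨ψ, hψ⟩ : ∃ ψ : κ ⊗[A] Ω[A⁄R] →ₗ[κ] κ, ψ z ≠ 0 := by
      by_contra! h
      exact hz ((Module.forall_dual_apply_eq_zero_iff κ z).mp h)
    let φ : Ω[A⁄R] →ₗ[A] κ := (ψ.restrictScalars A).comp (TensorProduct.mk A κ (Ω[A⁄R]) 1)
    have aux : ∀ (C : Type u) [CommRing C] [Algebra A C] (_ : Subsingleton (C ⊗[A] Ω[A⁄R])) (χ : C →ₐ[A] K), φ = 0 := by
      intro C _ _ hC χ
      let _ : Algebra C K := χ.toRingHom.toAlgebra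
      have : IsScalarTower A C K := .of_algebraMap_eq fun a => (χ.commutes a).symm
      let φ' : Ω[A⁄R] →ₗ[A] K := (IsScalarTower.toAlgHom A κ K).toLinearMap.comp φ
      ext w
      have h0 : (φ'.liftBaseChange C) ((1 : C) ⊗ₜ[A] KaehlerDifferential.D R A w) = 0 := by
        rw [Subsingleton.elim ((1 : C) ⊗ₜ[A] KaehlerDifferential.D R A w) 0, map_zero]
      rw [LinearMap.liftBaseChange_tmul, one_smul] at h0
      exact (algebraMap κ K).injective (h0.trans (map_zero _).symm)
    have hφ : φ = 0 := @aux B _ (Algebra.TensorProduct.rightAlgebra) hzero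
      (@AlgHom.mk A B K _ _ _ (Algebra.TensorProduct.rightAlgebra) _ χ hχ)
    apply hψ
    have : ∀ z, ψ z = 0 := fun z => by
      induction z using TensorProduct.induction_on with
      | zero => exact map_zero _
      | tmul c w =>
        rw [show c ⊗ₜ[A] w = c • ((1 : κ) ⊗ₜ[A] w) by rw [TensorProduct.smul_tmul', smul_eq_mul, mul_one], map_smul]
        exact (congrArg (c • ·) (LinearMap.congr_fun hφ w)).trans (smul_zero c)
      | add a b ha hb => rw [map_add, ha, hb, add_zero]
    exact this z

end Groth.Agent.S14352
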