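import Groth.Statements.S14353
import Groth.Agent.H3CAlg.LimArtinian

set_option autoImplicit false
universe u
open CategoryTheory CategoryTheory.Limits CategoryTheory.MonoidalCategory
open CAlg

namespace Groth.Agent.S14353

/-- For a commutative ring R, an inverse system (M_n)_{n ∈ ℕ} of R-modules of finite length and a
finitely presented R-module N, the canonical comparison map (lim_n M_n) ⊗_R N ⟶ lim_n (M_n ⊗_R N) is
an isomorphism. (The published statement takes N = R/I for a finitely generated ideal I; the
argument covers every finitely presented N, which is the form stated here.) -/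
theorem result (R : Type u) [CommRing R]
    (M : ℕᵒᵖ ⥤ ModuleCat.{u} R) (hM : ∀ n : ℕᵒᵖ, IsFiniteLength R (M.obj n))
    (N : Type u) [AddCommGroup N] [Module R N] [Module.FinitePresentation R N] :
    IsIso (limit.post M (tensorRight (ModuleCat.of R N))) := by
  exact Groth.Agent.H3CAlg.isIso_limit_post_tensorRight M hM N

end Groth.Agent.S14353
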