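import Groth.Statements.S14355
import Groth.Agent.H16Derived.SpFil.Line

set_option autoImplicit false
universe v u
open CategoryTheory CategoryTheory.Limits
open SpSeqMor

namespace Groth.Agent.S14355

open Groth.Agent.H16Derived

/-- Let φ : E ⟶ E' be a morphism of E_2-cohomological spectral sequences in an abelian category, with
abutments H and H' whose filtrations are finite in each degree, and f a morphism of abutment data
over φ. Fix integers l and a₀. If E_2^{i, l-i} = 0 for i < a₀, E'_2^{i, l-i} = 0 for i > a₀ and
φ_2^{a₀, l-a₀} = 0, then f^l : H^l ⟶ H'^l is zero. (The published statement prints the two vanishing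
hypotheses at positions (i, l); the argument works on the line of total degree l, at positions (i, l
- i), which is the form stated here.) -/
theorem result (C : Type u) [Category.{v} C] [Abelian C]
    (E E' : E₂CohomologicalSpectralSequence C) (φ : E ⟶ E') (H H' : ℤ → C)
    (a : SpSeq.Abutment E H) (a' : SpSeq.Abutment E' H')
    (ha : ∀ n : ℤ, a.IsFinite n) (ha' : ∀ n : ℤ, a'.IsFinite n)
    (f : SpSeqMor.AbutHom φ a a') (l a₀ : ℤ)
    (hE : ∀ i : ℤ, i < a₀ → IsZero ((E.page 2 le_rfl).X (i, l - i)))
    (hE' : ∀ i : ℤ, a₀ < i → IsZero ((E'.page 2 le_rfl).X (i, l - i)))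
    (hφ : (φ.hom 2 le_rfl).f (a₀, l - a₀) = 0) :
    f.hom l = 0 := by
  exact SpFil.abutHom_hom_eq_zero E E' φ a a' ha ha' f l a₀ hE hE' hφ

end Groth.Agent.S14355
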