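import Groth.Statements.S14357
import Mathlib
import Groth.Agent.H11Proj.ProjSpace

set_option autoImplicit false
universe u
open AlgebraicGeometry
open Proj

open CategoryTheory AlgebraicGeometry Groth.Agent.H11Proj.ProjSpace

namespace Groth.Agent.S14357

/-- For a field k the projective line over k is not an affine scheme. (The projective line is taken here
as Proj of the polynomial ring in two variables over k with its standard grading; the book builds it
by gluing two affine lines and identifies the two constructions later.) -/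
theorem result (k : Type u) [Field k] :
    ¬ IsAffine (CohB1.ProjSpace 1 k) := by
  intro hP
  have : IsScalarTower k (CohB1.polyGrading 1 k 0) (MvPolynomial (Fin (1 + 1)) k) :=
    ⟨fun a b c => smul_mul_assoc a (b : MvPolynomial (Fin (1 + 1)) k) c⟩
  have : Algebra.FiniteType (CohB1.polyGrading 1 k 0) (MvPolynomial (Fin (1 + 1)) k) :=
    Algebra.FiniteType.of_restrictScalars_finiteType k _ _
  have hiso : IsIso (CommRingCat.ofHom (algebraMap k (CohB1.polyGrading 1 k 0))) := by
    refine (ConcreteCategory.isIso_iff_bijective _).2 ⟨fun a b h => MvPolynomial.C_injective (Fin (1 + 1)) k ?_, ?_⟩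
    · exact congrArg Subtype.val h
    · rintro ⟨p, hp⟩
      rw [CohB1.polyGrading, MvPolynomial.homogeneousSubmodule_zero, Submodule.mem_one] at hp
      obtain ⟨c, rfl⟩ := hp
      exact ⟨c, rfl⟩
  have : IsAffine (Proj (CohB1.polyGrading 1 k)) := hP
  let p : Proj (CohB1.polyGrading 1 k) ⟶ Spec (CommRingCat.of k) :=
    Proj.toSpecZero (CohB1.polyGrading 1 k) ≫
      Spec.map (CommRingCat.ofHom (algebraMap k (CohB1.polyGrading 1 k 0)))
  have : IsProper p := inferInstance
  have : IsFinite p := (IsFinite.iff_isProper_and_isAffineHom).2 ⟨inferInstance, inferInstance⟩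
  let G := Γ(Proj (CohB1.polyGrading 1 k), ⊤)
  let g : CommRingCat.of k ⟶ G := (Scheme.ΓSpecIso _).inv ≫ p.appTop
  have hg : g.hom.Finite := by
    have h := IsFinite.finite_app (f := p) ⊤ (isAffineOpen_top _)
    exact RingHom.Finite.comp h (RingHom.Finite.of_surjective _
      (ConcreteCategory.bijective_of_isIso (Scheme.ΓSpecIso (CommRingCat.of k)).inv).2)
  let _ : Algebra k G := g.hom.toAlgebra
  have : Module.Finite k G := hg
  have : IsArtinianRing G := IsArtinianRing.of_finite k G
  have : DiscreteTopology (Spec G) := inferInstanceAs (DiscreteTopology (PrimeSpectrum G))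
  have : DiscreteTopology (Proj (CohB1.polyGrading 1 k)) :=
    (Proj (CohB1.polyGrading 1 k)).isoSpec.hom.homeomorph.symm.discreteTopology
  let j := Proj.awayι (CohB1.polyGrading 1 k) (MvPolynomial.X 0) (X_mem 1 k 0) one_pos
  have : IsClosedImmersion j := IsClosedImmersion.of_isPreimmersion j (isClosed_discrete _)
  have hfin : IsFinite (j ≫ p) := inferInstance
  have e : j ≫ p = Spec.map (CommRingCat.ofHom ((chartMap 1 k 0).comp MvPolynomial.C)) :=
    awayι_toSpec 1 k 0
  rw [e, IsFinite.SpecMap_iff, CommRingCat.hom_ofHom] at hfin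
  have hC : (MvPolynomial.C (σ := {j : Fin (1 + 1) // j ≠ 0}) (R := k)).Finite := by
    let eq' := RingEquiv.ofBijective _ (chartMap_bijective 1 k 0)
    have hcomp := (RingHom.Finite.of_surjective eq'.symm.toRingHom eq'.symm.surjective).comp hfin
    convert! hcomp using 1
    exact RingHom.ext fun r => (eq'.symm_apply_apply _).symm
  let v : {j : Fin (1 + 1) // j ≠ 0} := ⟨1, by decide⟩
  let ev : MvPolynomial {j : Fin (1 + 1) // j ≠ 0} k →+* Polynomial k :=
    MvPolynomial.eval₂Hom Polynomial.C (fun _ => Polynomial.X)
  have hev : Function.Surjective ev := fun q => by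
    induction q using Polynomial.induction_on' with
    | add a b ha hb =>
      obtain ⟨a, rfl⟩ := ha; obtain ⟨b, rfl⟩ := hb; exact ⟨a + b, map_add ev a b⟩
    | monomial n a => exact ⟨MvPolynomial.C a * MvPolynomial.X v ^ n, by
        simp [ev, Polynomial.C_mul_X_pow_eq_monomial]⟩
  have hP' : (Polynomial.C : k →+* Polynomial k).Finite := by
    have := (RingHom.Finite.of_surjective ev hev).comp hC
    convert! this using 1
    exact RingHom.ext fun r => by simp [ev]
  refine Polynomial.not_finite (R := k) ?_
  rw [← Polynomial.algebraMap_eq] at hP'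
  exact RingHom.finite_algebraMap.1 hP'

end Groth.Agent.S14357
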