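import Groth.Statements.S14358
import Mathlib.Algebra.Algebra.ZMod
import Mathlib.Algebra.Order.Ring.Star
import Mathlib.Data.Int.ConditionallyCompleteOrder
import Mathlib.Data.Int.Star
import Mathlib.Order.CompletePartialOrder
import Mathlib.RingTheory.Flat.EquationalCriterion
import Mathlib.RingTheory.KrullDimension.Regular
import Mathlib.RingTheory.PowerSeries.Trunc
import Mathlib.RingTheory.Regular.Flat
import Mathlib.RingTheory.WittVector.Basic
import Mathlib.Topology.Algebra.Module.ModuleTopology
import Mathlib.Topology.Instances.Matrix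

set_option autoImplicit false
universe u
open CAlg

namespace Groth.Agent.S14358

/-- Let A be a Noetherian integral domain with fraction field K and let r ∈ K. Then r belongs to A if
and only if, for every nonzero g ∈ A and every associated prime p of the A-module A/(g), the element
r belongs to the local ring A_p inside K, i.e. s r = a in K for some a ∈ A and some s ∈ A outside p. -/
theorem result (A K : Type u)
    [CommRing A] [IsDomain A] [IsNoetherianRing A] [Field K] [Algebra A K] [IsFractionRing A K]
    (r : K) :
    r ∈ Set.range (algebraMap A K) ↔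
      ∀ g : A, g ≠ 0 → ∀ p ∈ associatedPrimes A (A ⧸ Ideal.span {g}),
        ∃ a s : A, s ∉ p ∧ algebraMap A K s * r = algebraMap A K a := by
  constructor
  · rintro ⟨a, rfl⟩ g _ p hp
    exact ⟨a, 1, (Ideal.ne_top_iff_one _).mp hp.isPrime.ne_top, by simp⟩
  · intro h
    obtain ⟨a₀, b₀, hb₀, hr⟩ := IsFractionRing.div_surjective A (K := K) r
    have hb : b₀ ≠ 0 := nonZeroDivisors.ne_zero hb₀
    have hbK : algebraMap A K b₀ ≠ 0 := (map_ne_zero_iff _ (IsFractionRing.injective A K)).mpr hb
    by_contra hne
    have hx : Ideal.Quotient.mk (Ideal.span {b₀}) a₀ ≠ 0 := by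
      rw [Ne, Ideal.Quotient.eq_zero_iff_mem, Ideal.mem_span_singleton]
      rintro ⟨c, hc⟩
      exact hne ⟨c, by rw [← hr, hc, map_mul, mul_div_cancel_left₀ _ hbK]⟩
    obtain ⟨p, hp, hle⟩ := exists_le_isAssociatedPrime_of_isNoetherianRing A _ hx
    obtain ⟨a, s, hs, he⟩ := h b₀ hb p hp
    refine hs (hle ?_)
    rw [Submodule.mem_colon_singleton, Submodule.mem_bot, Algebra.smul_def, Ideal.Quotient.algebraMap_eq, ← map_mul,
      Ideal.Quotient.eq_zero_iff_mem, Ideal.mem_span_singleton]
    refine ⟨a, IsFractionRing.injective A K ?_⟩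
    rw [map_mul, map_mul, ← he, ← hr]
    field_simp

end Groth.Agent.S14358
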