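import Groth.Statements.S14359
import Groth.Agent.S10957
import Mathlib.RingTheory.Ideal.Height
import Mathlib.RingTheory.KrullDimension.LocalRing
import Mathlib.RingTheory.Localization.Submodule

set_option autoImplicit false
universe u
open CAlg

namespace Groth.Agent.S14359

/-- Let A be a Noetherian integrally closed integral domain and b a nonzero element of A. Then every
associated prime of the A-module A/(b) has height one, so that A/(b) has no embedded associated
primes. -/
theorem result
    (A : Type u) [CommRing A] [IsDomain A] [IsNoetherianRing A] [IsIntegrallyClosed A]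
    (b : A) (hb : b ≠ 0) (p : Ideal A) (hp : p ∈ associatedPrimes A (A ⧸ Ideal.span {b})) :
    p.height = 1 := by
  obtain ⟨hp', x, hpx⟩ := isAssociatedPrime_iff.mp hp
  obtain ⟨x₀, rfl⟩ := Ideal.Quotient.mk_surjective x
  haveI := hp'
  have hmem : ∀ r : A, r ∈ p ↔ r * x₀ ∈ Ideal.span {b} := by
    intro r
    rw [hpx, Submodule.mem_colon_singleton, Submodule.mem_bot, Algebra.smul_def, Ideal.Quotient.algebraMap_eq,
      ← map_mul, Ideal.Quotient.eq_zero_iff_mem]
  let S := Localization.AtPrime p
  haveI : IsNoetherianRing S := IsLocalization.isNoetherianRing p.primeCompl S inferInstance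
  haveI : IsIntegrallyClosed S := isIntegrallyClosed_of_isLocalization S p.primeCompl (Ideal.primeCompl_le_nonZeroDivisors p)
  have hbS : algebraMap A S b ≠ 0 :=
    (map_ne_zero_iff _ (IsLocalization.injective S (Ideal.primeCompl_le_nonZeroDivisors p))).mpr hb
  have hass : IsLocalRing.maximalIdeal S ∈ associatedPrimes S (S ⧸ Ideal.span ({algebraMap A S b} : Set S)) := by
    refine isAssociatedPrime_iff.mpr ⟨inferInstance, Ideal.Quotient.mk _ (algebraMap A S x₀), ?_⟩
    ext z
    rw [Submodule.mem_colon_singleton, Submodule.mem_bot]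
    show _ ↔ Ideal.Quotient.mk _ (z * algebraMap A S x₀) = 0
    rw [Ideal.Quotient.eq_zero_iff_mem]
    obtain ⟨r, s, rfl⟩ := IsLocalization.exists_mk'_eq p.primeCompl z
    rw [IsLocalization.AtPrime.mk'_mem_maximal_iff S p r s, IsLocalization.mk'_eq_mul_mk'_one r s,
      mul_comm (algebraMap A S r), mul_assoc, ← map_mul,
      Ideal.unit_mul_mem_iff_mem _ (y := IsLocalization.mk' S (1 : A) s) ?_,
      show Ideal.span ({algebraMap A S b} : Set S) = (Ideal.span {b}).map (algebraMap A S) from by
        rw [Ideal.map_span, Set.image_singleton],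
      IsLocalization.algebraMap_mem_map_algebraMap_iff p.primeCompl S]
    · constructor
      · exact fun h => ⟨1, p.primeCompl.one_mem, by simpa using (hmem r).mp h⟩
      · rintro ⟨t, ht, htr⟩
        have : t * r ∈ p := (hmem _).mpr (by rwa [mul_assoc])
        exact (hp'.mem_or_mem this).resolve_left ht
    · exact IsUnit.of_mul_eq_one (algebraMap A S s) (IsLocalization.mk'_spec S (1 : A) s |>.trans (map_one _))
  haveI : IsDiscreteValuationRing S := Groth.Agent.S10957.result S _ hbS hass
  have h1 : ringKrullDim S = 1 := by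
    rw [ringKrullDim_eq_one_iff_of_isLocalRing_isDomain]
    refine ⟨fun hf => IsDiscreteValuationRing.not_a_field S (IsLocalRing.isField_iff_maximalIdeal_eq.mp hf), fun z hz => ?_⟩
    obtain ⟨ϖ, hϖ⟩ := IsDiscreteValuationRing.exists_irreducible S
    obtain ⟨n, u, rfl⟩ := IsDiscreteValuationRing.eq_unit_mul_pow_irreducible hz hϖ
    rw [hϖ.maximalIdeal_eq, Ideal.span_le, Set.singleton_subset_iff]
    exact ⟨n, Ideal.mem_span_singleton.mpr ⟨↑u⁻¹, by rw [mul_right_comm, Units.mul_inv, one_mul]⟩⟩
  rw [IsLocalization.AtPrime.ringKrullDim_eq_height p S] at h1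
  exact_mod_cast h1

end Groth.Agent.S14359
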