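import Groth.Statements.S14360
import Mathlib

set_option autoImplicit false
universe u
open AlgebraicGeometry CategoryTheory
open Variety

namespace Groth.Agent.S14360

open Scheme in
theorem toId {A B : Scheme.{u}} [PreirreducibleSpace A] [Nonempty B] (F : A.PartialMap B) (G : B.PartialMap A)
    [IsDominant F.hom] (e : (F.domain : Scheme.{u}) ≅ (G.domain : Scheme.{u}))
    (hF : F.hom = e.hom ≫ G.domain.ι) (hG : G.hom = e.inv ≫ F.domain.ι) :
    (F.comp G).toRationalMap = RationalMap.id A := by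
  refine PartialMap.toRationalMap_eq_iff.2 ⟨(F.comp G).domain, (F.comp G).dense_domain, le_rfl, le_top, ?_⟩
  have key : F.hom ∣_ G.domain = (F.hom ⁻¹ᵁ G.domain).ι ≫ e.hom := by
    rw [← cancel_mono G.domain.ι, morphismRestrict_ι, hF, Category.assoc]
  simp only [PartialMap.restrict_hom, PartialMap.comp_hom, Scheme.homOfLE_rfl, Category.id_comp, key, hG,
    Category.assoc, Iso.hom_inv_id_assoc]
  simp [PartialMap.id, Hom.toPartialMap]
  rfl

open Scheme in
theorem mkIso {A B : Scheme.{u}} [IsIntegral A] [IsIntegral B] (F : A.PartialMap B) (G : B.PartialMap A)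
    [IsDominant F.hom] [IsDominant G.hom]
    (W : A.Opens) (hW : Dense (W : Set A)) (hWl : W ≤ (F.comp G).domain)
    (e : ((F.comp G).restrict W hW hWl).hom = ((PartialMap.id A).restrict W hW le_top).hom)
    (W' : B.Opens) (hW' : Dense (W' : Set B)) (hWl' : W' ≤ (G.comp F).domain)
    (e' : ((G.comp F).restrict W' hW' hWl').hom = ((PartialMap.id B).restrict W' hW' le_top).hom) :
    Birational A B := by
  have hWF : W ≤ F.domain := hWl.trans (F.domain.ι_image_le _)
  have hWG : W' ≤ G.domain := hWl'.trans (G.domain.ι_image_le _)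
  let φ : (W : Scheme.{u}) ⟶ B := A.homOfLE hWF ≫ F.hom
  let ψ : (W' : Scheme.{u}) ⟶ A := B.homOfLE hWG ≫ G.hom
  have hdom : ∀ {P Q : Scheme.{u}} [IsIntegral P] (W O : P.Opens) (hW : Dense (W : Set P)) (h : W ≤ O) (g : (O : Scheme.{u}) ⟶ Q)
      [IsDominant g], IsDominant (P.homOfLE h ≫ g) := by
    intro P Q _ W O hW h g _
    obtain ⟨w, hw⟩ := hW.nonempty
    haveI : Nonempty O := ⟨⟨w, h hw⟩⟩
    haveI : IsIntegral (O : Scheme.{u}) := isIntegral_of_isOpenImmersion O.ι
    haveI : IsDominant (P.homOfLE h) := ⟨(P.homOfLE h).isOpenEmbedding.isOpen_range.dense ⟨_, ⟨w, hw⟩, rfl⟩⟩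
    infer_instance
  have hdψ : IsDominant ψ := hdom W' G.domain hW' hWG G.hom
  have hdφ : IsDominant φ := hdom W F.domain hW hWF F.hom
  let U : A.Opens := W.ι ''ᵁ φ ⁻¹ᵁ W'
  have hUW : U ≤ W := W.ι_image_le _
  let V : B.Opens := W'.ι ''ᵁ ψ ⁻¹ᵁ U
  have hVW : V ≤ W' := W'.ι_image_le _
  have hU : Dense (U : Set A) := U.2.dense <| by
    obtain ⟨z, hz⟩ := φ.denseRange.exists_mem_open W'.2 hW'.nonempty
    exact ⟨W.ι z, z, hz, rfl⟩
  have hV : Dense (V : Set B) := V.2.dense <| by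
    obtain ⟨z, hz⟩ := ψ.denseRange.exists_mem_open U.2 hU.nonempty
    exact ⟨W'.ι z, z, hz, rfl⟩
  -- the composites restricted to `W` and `W'`
  have hc : ∀ {P Q : Scheme.{u}} (F : P.PartialMap Q) (G : Q.PartialMap P) [IsIntegral P] [IsIntegral Q]
      [IsDominant F.hom] (W : P.Opens) (hW : Dense (W : Set P)) (hWl : W ≤ (F.comp G).domain) (hWF : W ≤ F.domain)
      (hWD : ∀ x : W, F.hom (P.homOfLE hWF x) ∈ G.domain)
      (e : ((F.comp G).restrict W hW hWl).hom = ((PartialMap.id P).restrict W hW le_top).hom),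
      IsOpenImmersion.lift G.domain.ι (P.homOfLE hWF ≫ F.hom)
        (by rintro _ ⟨x, rfl⟩; rw [Opens.range_ι]; exact hWD x) ≫ G.hom = W.ι := by
    intro P Q F G _ _ _ W hW hWl hWF hWD e
    simp only [PartialMap.restrict_hom, PartialMap.comp_hom, PartialMap.id, Hom.toPartialMap] at e
    have hWl2 : W ≤ F.domain.ι ''ᵁ F.hom ⁻¹ᵁ G.domain := hWl
    have e2 : P.homOfLE hWl2 ≫ (F.domain.ι.isoImage _).inv ≫ (F.hom ∣_ G.domain) =
        IsOpenImmersion.lift G.domain.ι (P.homOfLE hWF ≫ F.hom)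
          (by rintro _ ⟨x, rfl⟩; rw [Opens.range_ι]; exact hWD x) := by
      rw [← cancel_mono G.domain.ι, IsOpenImmersion.lift_fac, Category.assoc, Category.assoc, morphismRestrict_ι,
        Scheme.Opens.isoImage_ι_inv_ι_assoc, homOfLE_homOfLE_assoc]
    rw [← e2, Category.assoc, Category.assoc]
    refine e.trans ?_
    simp
  have hmem : ∀ {P Q : Scheme.{u}} (F : P.PartialMap Q) (G : Q.PartialMap P) [IsIntegral P] [IsIntegral Q]
      [IsDominant F.hom] (W : P.Opens) (hWl : W ≤ (F.comp G).domain) (hWF : W ≤ F.domain) (x : W),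
      F.hom (P.homOfLE hWF x) ∈ G.domain := by
    intro P Q F G _ _ _ W hWl hWF x
    obtain ⟨z, hz, hzx⟩ : x.1 ∈ F.domain.ι ''ᵁ (F.hom ⁻¹ᵁ G.domain) := hWl x.2
    have : z = P.homOfLE hWF x := F.domain.ι.isOpenEmbedding.injective (hzx.trans (by simp))
    exact this ▸ hz
  have c1 := hc F G W hW hWl hWF (hmem F G W hWl hWF) e
  have c2 := hc G F W' hW' hWl' hWG (hmem G F W' hWl' hWG) e'
  -- the two restricted morphisms
  have hφU : Set.range (A.homOfLE hUW ≫ φ) ⊆ Set.range W'.ι := by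
    rintro _ ⟨x, rfl⟩
    obtain ⟨z, hz, hzx⟩ : x.1 ∈ W.ι ''ᵁ (φ ⁻¹ᵁ W') := x.2
    have : z = A.homOfLE hUW x := W.ι.isOpenEmbedding.injective (hzx.trans (by simp))
    rw [Opens.range_ι]
    rw [Scheme.Hom.comp_apply, ← this]
    exact hz
  let a : (U : Scheme.{u}) ⟶ (W' : Scheme.{u}) := IsOpenImmersion.lift W'.ι _ hφU
  have ha : a ≫ W'.ι = A.homOfLE hUW ≫ φ := IsOpenImmersion.lift_fac _ _ _
  have haψ : a ≫ ψ = U.ι := by
    rw [← A.homOfLE_ι hUW, ← c1]
    simp only [ψ, ← Category.assoc]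
    congr 1
    rw [← cancel_mono G.domain.ι]
    simp only [Category.assoc, IsOpenImmersion.lift_fac, homOfLE_ι]
    exact ha
  have haV : Set.range (a ≫ W'.ι) ⊆ Set.range V.ι := by
    rintro _ ⟨x, rfl⟩
    rw [Opens.range_ι]
    refine ⟨a x, ?_, rfl⟩
    show ψ (a x) ∈ U
    rw [← Scheme.Hom.comp_apply, haψ]
    exact x.2
  let p : (U : Scheme.{u}) ⟶ (V : Scheme.{u}) := IsOpenImmersion.lift V.ι _ haV
  have hp : p ≫ V.ι = a ≫ W'.ι := IsOpenImmersion.lift_fac _ _ _
  have hψV : Set.range (B.homOfLE hVW ≫ ψ) ⊆ Set.range U.ι := by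
    rintro _ ⟨y, rfl⟩
    obtain ⟨z, hz, hzy⟩ : y.1 ∈ W'.ι ''ᵁ (ψ ⁻¹ᵁ U) := y.2
    have : z = B.homOfLE hVW y := W'.ι.isOpenEmbedding.injective (hzy.trans (by simp))
    rw [Opens.range_ι]
    rw [Scheme.Hom.comp_apply, ← this]
    exact hz
  let q : (V : Scheme.{u}) ⟶ (U : Scheme.{u}) := IsOpenImmersion.lift U.ι _ hψV
  have hq : q ≫ U.ι = B.homOfLE hVW ≫ ψ := IsOpenImmersion.lift_fac _ _ _
  have hpa : p ≫ B.homOfLE hVW = a := by rw [← cancel_mono W'.ι, Category.assoc, homOfLE_ι, hp]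
  have hpq : p ≫ q = 𝟙 _ := by
    rw [← cancel_mono U.ι, Category.assoc, hq, ← Category.assoc, hpa, haψ, Category.id_comp]
  have hqp : q ≫ p = 𝟙 _ := by
    rw [← cancel_mono V.ι, Category.assoc, hp, ha, Category.id_comp]
    have hU' : A.homOfLE hUW ≫ A.homOfLE hWF = A.homOfLE (hUW.trans hWF) := A.homOfLE_homOfLE _ _
    show q ≫ A.homOfLE hUW ≫ A.homOfLE hWF ≫ F.hom = V.ι
    rw [← B.homOfLE_ι hVW, ← c2]
    simp only [← Category.assoc]
    congr 1
    rw [← cancel_mono F.domain.ι]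
    simp only [Category.assoc, homOfLE_ι, IsOpenImmersion.lift_fac]
    exact hq
  exact ⟨⟨U, hU, V, hV, ⟨p, q, hpq, hqp⟩⟩⟩

/-- Let X and Y be integral schemes. Then X and Y have isomorphic dense open subschemes if and only if
they are birational in the sense of rational maps, i.e. there exist dominant rational maps f : X ⤏ Y
and g : Y ⤏ X such that the composites g ∘ f and f ∘ g are the identity rational maps of X and of Y. -/
theorem result (X Y : Scheme.{u})
    [IsIntegral X] [IsIntegral Y] :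
    Scheme.Birational X Y ↔
      ∃ (f : X ⤏ Y) (g : Y ⤏ X) (_ : f.IsDominant) (_ : g.IsDominant),
        f.comp g = Scheme.RationalMap.id X ∧ g.comp f = Scheme.RationalMap.id Y := by
  constructor
  · rintro ⟨P⟩
    let f : X.PartialMap Y := ⟨P.source, P.dense_source, P.iso.hom ≫ P.target.ι⟩
    let g : Y.PartialMap X := ⟨P.target, P.dense_target, P.iso.inv ≫ P.source.ι⟩
    haveI : IsDominant P.target.ι := ⟨by
      rw [DenseRange, Scheme.Opens.range_ι]
      exact P.dense_target⟩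
    haveI : IsDominant P.source.ι := ⟨by
      rw [DenseRange, Scheme.Opens.range_ι]
      exact P.dense_source⟩
    haveI : IsDominant f.hom := inferInstanceAs (IsDominant (P.iso.hom ≫ P.target.ι))
    haveI : IsDominant g.hom := inferInstanceAs (IsDominant (P.iso.inv ≫ P.source.ι))
    refine ⟨f.toRationalMap, g.toRationalMap, inferInstance, inferInstance, ?_, ?_⟩ <;>
      rw [Scheme.RationalMap.toRationalMap_comp]
    · exact toId f g P.iso rfl rfl
    · exact toId g f P.iso.symm rfl rfl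
  · rintro ⟨f, g, hf, hg, hfg, hgf⟩
    haveI := hf
    haveI := hg
    rw [← g.toRationalMap_representative] at hfg
    rw [← f.toRationalMap_representative] at hgf
    rw [Scheme.RationalMap.comp_def] at hfg hgf
    let F := f.representative
    let G := g.representative
    obtain ⟨W, hW, hWl, _, e⟩ := Scheme.PartialMap.toRationalMap_eq_iff.1 hfg
    obtain ⟨W', hW', hWl', _, e'⟩ := Scheme.PartialMap.toRationalMap_eq_iff.1 hgf
    exact mkIso F G W hW hWl e W' hW' hWl' e' 

end Groth.Agent.S14360
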