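import Groth.Statements.S14361
import Groth.Agent.H17.Imports

set_option autoImplicit false
universe u
open AlgebraicGeometry
open SchImage

namespace Groth.Agent.S14361

/-- Let π : X → Y be a morphism of schemes with X reduced. Then the scheme-theoretic image of π is
computed affine-locally: on every affine open U of Y, the ideal of the kernel ideal sheaf of π (the
largest quasi-coherent ideal sheaf contained in the componentwise kernels) equals the ideal of those
sections over U which pull back to zero on π⁻¹(U). (The published statement allows, as an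
alternative to X being reduced, that π be quasi-compact; this row is the reduced case and assumes no
quasi-compactness.) -/
theorem result (X Y : Scheme.{u}) [IsReduced X]
    (π : X ⟶ Y) (U : Y.affineOpens) :
    π.ker.ideal U = RingHom.ker (π.app U).hom := by
  set J := Scheme.IdealSheafData.vanishingIdeal (X := Y) ⟨closure (Set.range π), isClosed_closure⟩
  have key : J.ideal = fun V : Y.affineOpens => RingHom.ker (π.app V).hom := by
    funext V; ext a
    show a ∈ (Scheme.IdealSheafData.vanishingIdeal _).ideal V ↔ _
    rw [Scheme.IdealSheafData.vanishingIdeal_ideal, RingHom.mem_ker, ← basicOpen_eq_bot_iff,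
      ← Scheme.preimage_basicOpen, PrimeSpectrum.mem_vanishingIdeal]
    constructor
    · intro h
      rw [← TopologicalSpace.Opens.coe_eq_empty, Set.eq_empty_iff_forall_notMem]
      intro x hx
      have hxV : π x ∈ (V : Y.Opens) := Y.basicOpen_le a hx
      have := h (V.2.primeIdealOf ⟨π x, hxV⟩) (by
        simpa [V.2.fromSpec_primeIdealOf] using subset_closure (Set.mem_range_self x))
      have h3 : V.2.primeIdealOf ⟨π x, hxV⟩ ∈ V.2.fromSpec ⁻¹ᵁ Y.basicOpen a := by
        show V.2.fromSpec _ ∈ Y.basicOpen a
        rw [V.2.fromSpec_primeIdealOf]; exact hx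
      rw [V.2.fromSpec_preimage_basicOpen] at h3
      exact h3 this
    · intro h p hp
      by_contra hpa
      have h3 : p ∈ V.2.fromSpec ⁻¹ᵁ Y.basicOpen a := by
        rw [V.2.fromSpec_preimage_basicOpen]; exact hpa
      obtain ⟨_, h4, x, rfl⟩ := mem_closure_iff.mp hp _ (Y.basicOpen a).2 h3
      have : x ∈ π ⁻¹ᵁ Y.basicOpen a := h4
      simp [h] at this
  show (Scheme.IdealSheafData.ofIdeals fun V => RingHom.ker (π.app V).hom).ideal U = _
  rw [← key, Scheme.IdealSheafData.ofIdeals_ideal, key]

end Groth.Agent.S14361
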