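import Groth.Statements.S14362
import Groth.Agent.H17.Imports

set_option autoImplicit false
universe u
open AlgebraicGeometry
open SchImage

namespace Groth.Agent.S14362

/-- Let π : X → Y be a morphism of schemes with X reduced. Then the closed subset underlying the
scheme-theoretic image of π, i.e. the support of its kernel ideal sheaf, is the closure of the image
of π. (The published statement allows, as an alternative to X being reduced, that π be
quasi-compact; this row is the reduced case and assumes no quasi-compactness.) -/
theorem result (X Y : Scheme.{u}) [IsReduced X]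
    (π : X ⟶ Y) :
    (π.ker.support : Set Y) = closure (Set.range π) := by
  have : π.ker = Scheme.IdealSheafData.vanishingIdeal ⟨closure (Set.range π), isClosed_closure⟩ := by
    set J := Scheme.IdealSheafData.vanishingIdeal (X := Y) ⟨closure (Set.range π), isClosed_closure⟩
    apply le_antisymm
    · exact (Scheme.IdealSheafData.le_support_iff_le_vanishingIdeal).mp
        (π.ker.support.isClosed.closure_subset_iff.mpr π.range_subset_ker_support)
    · refine Scheme.IdealSheafData.le_ofIdeals_iff.mpr fun U a ha => ?_
      change a ∈ RingHom.ker _
      rw [RingHom.mem_ker, ← basicOpen_eq_bot_iff, ← Scheme.preimage_basicOpen, ← TopologicalSpace.Opens.coe_eq_empty,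
        Set.eq_empty_iff_forall_notMem]
      intro x hx
      have hxV : π x ∈ (U : Y.Opens) := Y.basicOpen_le a hx
      simp only [J, Scheme.IdealSheafData.vanishingIdeal_ideal, PrimeSpectrum.mem_vanishingIdeal] at ha
      have h4 := ha (U.2.primeIdealOf ⟨π x, hxV⟩) (by
        simpa [U.2.fromSpec_primeIdealOf] using subset_closure (Set.mem_range_self x))
      have h2 : U.2.primeIdealOf ⟨π x, hxV⟩ ∈ U.2.fromSpec ⁻¹ᵁ Y.basicOpen a := by
        show U.2.fromSpec _ ∈ Y.basicOpen a
        rw [U.2.fromSpec_primeIdealOf]; exact hx
      rw [U.2.fromSpec_preimage_basicOpen] at h2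
      exact h2 h4
  rw [this]; simp

end Groth.Agent.S14362
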