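import Groth.Statements.S14363
import Mathlib.Algebra.Order.Ring.Star
import Mathlib.Combinatorics.Nullstellensatz
import Mathlib.Data.Rat.Star
import Mathlib.FieldTheory.Finite.Basic
import Mathlib.LinearAlgebra.BilinearForm.Properties
import Mathlib.RepresentationTheory.Invariants
import Mathlib.RingTheory.Flat.TorsionFree
import Mathlib.RingTheory.Henselian
import Mathlib.RingTheory.Ideal.AssociatedPrime.Basic
import Mathlib.RingTheory.RegularLocalRing.Defs
import Mathlib.RingTheory.SimpleRing.Principal

set_option autoImplicit false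
universe u
open CAlg

namespace Groth.Agent.S14363

/-- Let A be a Noetherian ring and 0 → M' → M → M'' → 0 a short exact sequence of A-modules. If a prime
p of A is an associated prime of M'' and is not in the support of M', then p is an associated prime
of M. -/
theorem result (A : Type u) [CommRing A] [IsNoetherianRing A]
    (M' M M'' : Type u) [AddCommGroup M'] [Module A M'] [AddCommGroup M] [Module A M]
    [AddCommGroup M''] [Module A M'']
    (f : M' →ₗ[A] M) (g : M →ₗ[A] M'') (hf : Function.Injective f) (hg : Function.Surjective g)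
    (hfg : Function.Exact f g)
    (p : PrimeSpectrum A) (hp : p.asIdeal ∈ associatedPrimes A M'') (hsupp : p ∉ Module.support A M') :
    p.asIdeal ∈ associatedPrimes A M := by
  rw [AssociatedPrimes.mem_iff, isAssociatedPrime_iff] at hp ⊢
  obtain ⟨hpp, x, hx⟩ := hp
  obtain ⟨m, rfl⟩ := hg x
  obtain ⟨S, hS⟩ := IsNoetherian.noetherian p.asIdeal
  rw [Module.notMem_support_iff'] at hsupp
  have h1 : ∀ a ∈ S, ∃ r ∉ p.asIdeal, r • (a • m) = 0 := by
    intro a ha
    have ha' : a ∈ p.asIdeal := hS ▸ Submodule.subset_span ha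
    have : g (a • m) = 0 := by
      rw [hx, Submodule.mem_colon_singleton] at ha'
      simpa using ha'
    obtain ⟨y, hy⟩ := (hfg _).mp this
    obtain ⟨r, hr, hry⟩ := hsupp y
    exact ⟨r, hr, by rw [← hy, ← map_smul, hry, map_zero]⟩
  choose! r hr hrm using h1
  refine ⟨hpp, (∏ a ∈ S, r a) • m, le_antisymm ?_ ?_⟩
  · rw [← hS, Submodule.span_le]
    intro a ha
    simp only [SetLike.mem_coe, Submodule.mem_colon_singleton, Submodule.mem_bot]
    rw [smul_comm]
    obtain ⟨c, hc⟩ := Finset.dvd_prod_of_mem r ha
    rw [hc, mul_comm, mul_smul, hrm a ha, smul_zero]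
  · intro a ha
    simp only [Submodule.mem_colon_singleton, Submodule.mem_bot] at ha
    have h2 : a * (∏ a ∈ S, r a) ∈ p.asIdeal := by
      rw [hx, Submodule.mem_colon_singleton, Submodule.mem_bot, ← map_smul, mul_smul, ha, map_zero]
    refine (hpp.mem_or_mem h2).resolve_right fun h => ?_
    obtain ⟨i, hi, hi'⟩ := (Ideal.IsPrime.prod_mem_iff).mp h
    exact hr i hi hi'

end Groth.Agent.S14363
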