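import Groth.Statements.S14365
import Groth.Agent.H16Derived.RGammaZ.Push
import Groth.Agent.H16Derived.BaseChange.Main

set_option autoImplicit false
universe u
open CategoryTheory CategoryTheory.Limits AlgebraicGeometry
attribute [local instance] HasDerivedCategory.standard
open CxOX

namespace Groth.Agent.S14365

open Groth.Agent.H16Derived Groth.Agent.H16Derived.KFlat Groth.Agent.H16Derived.KFlat.Stalk CategoryTheory.Pretriangulated
set_option backward.isDefEq.respectTransparency false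

/-- Let f : X ⟶ Y be a flat morphism of finite type of Noetherian schemes, U ⊆ Y an open subscheme with
closed complement Z, Z' = f⁻¹(Z) the closed complement of f⁻¹(U), and let the derived pullback Lf^*
: D(O_Y) ⥤ D(O_X) exist. For every K in D(O_Y) with quasi-coherent cohomology sheaves, the morphism
Lf^*(RΓ_Z(K) ⟶ K) factors through the canonical morphism RΓ_{Z'}(Lf^* K) ⟶ Lf^* K, and every
morphism Lf^* RΓ_Z(K) ⟶ RΓ_{Z'}(Lf^* K) giving such a factorisation is an isomorphism; this is the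
isomorphism f^* RΓ_Z ≅ RΓ_{Z'} f^* for flat f. (Throughout, RΓ with support is the total right
derived functor of the sheaf of sections supported in the closed subset. The published statement
derives instead the functor of sections killed by some power of a defining ideal; on complexes with
quasi-coherent cohomology sheaves over a Noetherian scheme the two derived functors agree.) -/
theorem result {X Y : Scheme.{u}} [IsNoetherian X] [IsNoetherian Y]
    (f : X ⟶ Y) [LocallyOfFiniteType f] [Flat f] (U : Y.Opens)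
    [CxOX.HasRgammaZ U.ι] [CxOX.HasRgammaZ (f ⁻¹ᵁ U).ι] [DCoh.HasLpull f]
    (K : DCoh.D Y) (hK : DCoh.IsQCohD K) :
    (∃ β : (DCoh.Lpull f).obj ((CxOX.RgammaZ U.ι).obj K) ⟶ (CxOX.RgammaZ (f ⁻¹ᵁ U).ι).obj ((DCoh.Lpull f).obj K),
        β ≫ (CxOX.RgammaZToId (f ⁻¹ᵁ U).ι).app ((DCoh.Lpull f).obj K) =
          (DCoh.Lpull f).map ((CxOX.RgammaZToId U.ι).app K)) ∧
    ∀ β : (DCoh.Lpull f).obj ((CxOX.RgammaZ U.ι).obj K) ⟶ (CxOX.RgammaZ (f ⁻¹ᵁ U).ι).obj ((DCoh.Lpull f).obj K),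
        β ≫ (CxOX.RgammaZToId (f ⁻¹ᵁ U).ι).app ((DCoh.Lpull f).obj K) =
          (DCoh.Lpull f).map ((CxOX.RgammaZToId U.ι).app K) → IsIso β := by
  letI := lpullCommShift f
  haveI := lpull_isTriangulated f
  have hA : IsZero ((rd (f ⁻¹ᵁ U).ι).obj ((DCoh.Lpull f).obj ((CxOX.RgammaZ U.ι).obj K))) :=
    RGammaZ.isZero_rd_lpull f U (RGammaZ.isZero_rd_rgammaZ _ K)
  refine ⟨RGammaZ.exists_factor _ _ hA _, fun β hβ => ?_⟩
  haveI := QCohD.hasRpush U.ι
  haveI := QCohD.hasRpush (f ⁻¹ᵁ U).ι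
  haveI := hasLpull U.ι
  haveI := hasLpull (f ⁻¹ᵁ U).ι
  haveI := hasLpull (f ∣_ U)
  haveI : QuasiCompact U.ι := inferInstance
  haveI : QuasiSeparated U.ι := inferInstance
  obtain ⟨C, p, w, hT, hz, G, ⟨e⟩⟩ := RGammaZ.exists_triangle U.ι K
  have hG : DCoh.IsQCohD G := by
    haveI := Thomason.isIso_restrictRpushAdj_counit U.ι
    have hC : DCoh.IsQCohD C :=
      QCohD.AffineUnit.isQCohD_obj₃ hT (RGammaZ.isQCohD_rgammaZ hK) hK
    exact QCohD.isQCohD_iso ((rd U.ι).mapIso e ≪≫ (asIso (Thomason.restrictRpushAdj U.ι).counit).app G)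
      (QCohD.isQCohD_rd U.ι hC)
  obtain ⟨φ⟩ := BaseChange.nonempty_sq (isPullback_morphismRestrict f U).w
    (BaseChange.isLp_self U.ι) (BaseChange.isLp_self (f ⁻¹ᵁ U).ι) (BaseChange.isLp_self f)
    (BaseChange.isLp_self (f ∣_ U))
  haveI := BaseChange.bc_main (isPullback_morphismRestrict f U) (BaseChange.ti_of_flat' U.ι f)
    _ _ _ _ _ _ (lpullRpushAdj U.ι) (lpullRpushAdj (f ⁻¹ᵁ U).ι) (BaseChange.isLp_self U.ι)
    (BaseChange.isLp_self (f ⁻¹ᵁ U).ι) (BaseChange.isLp_self f) (BaseChange.isLp_self (f ∣_ U)) φ G hG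
  exact RGammaZ.isIso_of_loc β hA hβ ((DCoh.Lpull f).map_distinguished _ hT)
    ((RGammaZ.loc_rpush (f ⁻¹ᵁ U).ι ((DCoh.Lpull (f ∣_ U)).obj G)).of_iso
      ((DCoh.Lpull f).mapIso e ≪≫ asIso (BaseChange.bcApp (lpullRpushAdj U.ι)
        (lpullRpushAdj (f ⁻¹ᵁ U).ι) φ.hom G)).symm)

end Groth.Agent.S14365
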