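import Groth.Statements.S14366
import Groth.Agent.H16Derived.RGammaZ.Supp

set_option autoImplicit false
universe u
open CategoryTheory CategoryTheory.Limits AlgebraicGeometry
attribute [local instance] HasDerivedCategory.standard
open CxOX

namespace Groth.Agent.S14366

open Groth.Agent.H16Derived Groth.Agent.H16Derived.KFlat Groth.Agent.H16Derived.KFlat.Stalk CategoryTheory.Pretriangulated
set_option backward.isDefEq.respectTransparency false

/-- Let j : X ⟶ X̄ be an open immersion of Noetherian schemes, U ⊆ X an open subscheme with closed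
complement Z, U' ⊆ X̄ the open complement of the closure Z̄ of j(Z) in X̄, and T = U' ∪ j(X), the
open complement of the closed subset Z̄ ∖ j(X). Let Rj_* exist and preserve complexes with
quasi-coherent cohomology, and let an adjunction j^* ⊣ Rj_* between D(O_X̄) and D(O_X) be given.
Then Rj_* and j^* are inverse equivalences between the objects of D_qc(O_X) whose cohomology sheaves
are supported on Z and the objects of D_qc(O_X̄) whose cohomology sheaves are supported on Z̄ and on
which RΓ_{Z̄ ∖ j(X)} vanishes: for F in the first class, Rj_* F has cohomology supported on Z̄ and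
RΓ_{Z̄ ∖ j(X)}(Rj_* F) is zero; the counit j^* Rj_* F ⟶ F is an isomorphism for every F; and for G
in the second class the unit G ⟶ Rj_* j^* G is an isomorphism and j^* G is in the first class.
(Throughout, RΓ with support is the total right derived functor of the sheaf of sections supported
in the closed subset. The published statement derives instead the functor of sections killed by some
power of a defining ideal; on complexes with quasi-coherent cohomology sheaves over a Noetherian
scheme the two derived functors agree.) -/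
theorem result {X Xbar : Scheme.{u}} [IsNoetherian Xbar] [IsNoetherian X]
    (j : X ⟶ Xbar) [IsOpenImmersion j] (U : X.Opens) (U' T : Xbar.Opens)
    (hU' : (U' : Set Xbar) = (closure (j.base '' ((U : Set X)ᶜ)))ᶜ)
    (hT : (T : Set Xbar) = (U' : Set Xbar) ∪ Set.range j.base)
    [DCoh.HasRpush j] [CxOX.HasRgammaZ T.ι] (hj : DCoh.RpushPreservesQCoh j)
    (adj : DCoh.restrictD j ⊣ DCoh.Rpush j) :
    (∀ F : DCoh.D X, DCoh.IsQCohD F → CxOX.IsSuppD U.ι F →
        CxOX.IsSuppD U'.ι ((DCoh.Rpush j).obj F) ∧ IsZero ((CxOX.RgammaZ T.ι).obj ((DCoh.Rpush j).obj F))) ∧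
    (∀ F : DCoh.D X, IsIso (adj.counit.app F)) ∧
    (∀ G : DCoh.D Xbar, DCoh.IsQCohD G → CxOX.IsSuppD U'.ι G → IsZero ((CxOX.RgammaZ T.ι).obj G) →
        IsIso (adj.unit.app G) ∧ DCoh.IsQCohD ((DCoh.restrictD j).obj G) ∧ CxOX.IsSuppD U.ι ((DCoh.restrictD j).obj G)) := by
  have hmem : ∀ x : X, j.base x ∈ U' ↔ x ∈ U := by
    intro x
    show j.base x ∈ (U' : Set Xbar) ↔ x ∈ U
    rw [hU', Set.mem_compl_iff]
    constructor
    · intro h
      by_contra hx
      exact h (subset_closure ⟨x, hx, rfl⟩)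
    · intro hx h
      obtain ⟨-, ⟨x₁, hx₁, rfl⟩, ⟨x₂, hx₂, h12⟩⟩ :=
        mem_closure_iff.1 h (j.base '' (U : Set X)) (j.isOpenEmbedding.isOpenMap _ U.2) ⟨x, hx, rfl⟩
      exact hx₂ (j.isOpenEmbedding.injective h12 ▸ hx₁)
  have hsub : Set.range j.base ⊆ Set.range T.ι.base := by
    rw [Scheme.Opens.range_ι, hT]
    exact Set.subset_union_right
  refine ⟨fun F _ hF => ⟨?_, ?_⟩, fun F => ?_, fun G hG hGs hG0 => ⟨?_, QCohD.isQCohD_rd j hG, ?_⟩⟩
  · refine (RGammaZ.isSuppD_iff U'.ι _).2 (RGammaZ.isZero_rd_rpush j U'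
      (RGammaZ.isZero_rd_of_subset U.ι (j ⁻¹ᵁ U').ι ?_ ((RGammaZ.isSuppD_iff U.ι F).1 hF)))
    rw [Scheme.Opens.range_ι, Scheme.Opens.range_ι]
    exact fun x hx => (hmem x).1 hx
  · exact RGammaZ.isZero_of_loc T.ι fun B hB g =>
      RGammaZ.loc_rpush j F B (RGammaZ.isZero_rd_of_subset T.ι j hsub hB) g
  · haveI := RGammaZ.isIso_counit j adj
    infer_instance
  · obtain ⟨C, p, w, hC⟩ := distinguished_cocone_triangle (adj.unit.app G)
    obtain ⟨h₁, h₂⟩ := RGammaZ.isZero_rd_cone_unit j adj U' hC ((RGammaZ.isSuppD_iff U'.ι G).1 hGs)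
    have hCT : IsZero ((rd T.ι).obj C) := by
      refine (RGammaZ.isZero_rd_iff C).2 fun m x hx hxT => ?_
      rw [Scheme.Opens.range_ι, hT] at hxT
      rcases hxT with hxT | hxT
      · exact (RGammaZ.isZero_rd_iff C).1 h₂ m hx (by rwa [Scheme.Opens.range_ι])
      · exact (RGammaZ.isZero_rd_iff C).1 h₁ m hx hxT
    have hw : w = 0 := (RGammaZ.loc_of_isZero T.ι hG0).shift 1 C hCT w
    obtain ⟨s, hs⟩ : ∃ s : C ⟶ (DCoh.Rpush j).obj ((rd j).obj G), 𝟙 C = s ≫ p :=
      Triangle.coyoneda_exact₃ _ hC (𝟙 C) (by show 𝟙 C ≫ w = 0; rw [hw, comp_zero])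
    refine (Triangle.isZero₃_iff_isIso₁ _ hC).1 ((IsZero.iff_id_eq_zero _).2 ?_)
    show 𝟙 C = 0
    rw [hs, RGammaZ.loc_rpush j _ C h₁ s, zero_comp]
  · refine (RGammaZ.isSuppD_iff U.ι _).2 (RGammaZ.isZero_rd_of_subset (j ⁻¹ᵁ U').ι U.ι ?_
      (RGammaZ.isZero_rd_preimage j U' ((RGammaZ.isSuppD_iff U'.ι G).1 hGs)))
    rw [Scheme.Opens.range_ι, Scheme.Opens.range_ι]
    exact fun x hx => (hmem x).2 hx

end Groth.Agent.S14366
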