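import Groth.Statements.S14367
import Groth.Agent.H16Derived.RGammaZ.Tensor

set_option autoImplicit false
universe u
open CategoryTheory CategoryTheory.Limits AlgebraicGeometry
attribute [local instance] HasDerivedCategory.standard
open CxOX

namespace Groth.Agent.S14367

/-- Let X be a Noetherian scheme, U ⊆ X an open subscheme with closed complement Z, F an object of
D(O_X) and E a cochain complex of O_X-modules, both with quasi-coherent cohomology sheaves vanishing
outside a bounded range of degrees, and let the derived functor − ⊗^L E on D(O_X) exist. Then the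
morphism (RΓ_Z(F)) ⊗^L E ⟶ F ⊗^L E induced by RΓ_Z(F) ⟶ F factors through the canonical morphism
RΓ_Z(F ⊗^L E) ⟶ F ⊗^L E, and every morphism (RΓ_Z(F)) ⊗^L E ⟶ RΓ_Z(F ⊗^L E) giving such a
factorisation is an isomorphism; this is the isomorphism RΓ_Z(F) ⊗^L E ≅ RΓ_Z(F ⊗^L E) (the
companion isomorphism F ⊗^L RΓ_Z(E) ≅ RΓ_Z(F ⊗^L E) differs from it by the symmetry of ⊗^L).
(Throughout, RΓ with support is the total right derived functor of the sheaf of sections supported
in the closed subset. The published statement derives instead the functor of sections killed by some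
power of a defining ideal; on complexes with quasi-coherent cohomology sheaves over a Noetherian
scheme the two derived functors agree.) -/
theorem result {X : Scheme.{u}} [IsNoetherian X] (U : X.Opens) [CxOX.HasRgammaZ U.ι]
    (F : DCoh.D X) (hF : DCoh.IsQCohD F) (a b : ℤ) (hFa : DerivedCategory.IsGE F a) (hFb : DerivedCategory.IsLE F b)
    (E : CochainComplex X.Modules ℤ) (hE : DCoh.IsQCohD (DCoh.toD X E))
    (a' b' : ℤ) (hEa : DerivedCategory.IsGE (DCoh.toD X E) a') (hEb : DerivedCategory.IsLE (DCoh.toD X E) b')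
    [DCoh.HasLTensorCx E] :
    (∃ φ : (DCoh.LTensorCx E).obj ((CxOX.RgammaZ U.ι).obj F) ⟶ (CxOX.RgammaZ U.ι).obj ((DCoh.LTensorCx E).obj F),
        φ ≫ (CxOX.RgammaZToId U.ι).app ((DCoh.LTensorCx E).obj F) =
          (DCoh.LTensorCx E).map ((CxOX.RgammaZToId U.ι).app F)) ∧
    ∀ φ : (DCoh.LTensorCx E).obj ((CxOX.RgammaZ U.ι).obj F) ⟶ (CxOX.RgammaZ U.ι).obj ((DCoh.LTensorCx E).obj F),
        φ ≫ (CxOX.RgammaZToId U.ι).app ((DCoh.LTensorCx E).obj F) =
          (DCoh.LTensorCx E).map ((CxOX.RgammaZToId U.ι).app F) → IsIso φ := by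
  exact Groth.Agent.H16Derived.RGammaZ.tensor_rgammaZ U hF E hE

end Groth.Agent.S14367
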