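import Groth.Statements.S14369
import Mathlib
import Groth.Agent.H22Alg.FibreCount

set_option autoImplicit false
universe u
open CategoryTheory CategoryTheory.Limits AlgebraicGeometry
open Variety

namespace Groth.Agent.S14369

/-- Let k be an algebraically closed field, X and Y schemes of finite type over k with Y irreducible,
and f : X → Y a k-morphism whose underlying continuous map is closed. Suppose that for some natural
number d the fibre of f over every closed point y of Y (the subspace of points mapping to y) is
irreducible of dimension d. Then X is irreducible and dim X = d + dim Y. (The published statement is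
for varieties, i.e. reduced separated schemes; this row assumes neither.) -/
theorem result (k : Type u) [Field k] [IsAlgClosed k]
    {X Y : Scheme.{u}} (qX : X ⟶ Spec (CommRingCat.of k)) (qY : Y ⟶ Spec (CommRingCat.of k))
    [LocallyOfFiniteType qX] [QuasiCompact qX] [LocallyOfFiniteType qY] [QuasiCompact qY]
    (f : X ⟶ Y) (hf : f ≫ qY = qX) [IrreducibleSpace ↥Y] (hcl : IsClosedMap f.base) (d : ℕ)
    (hirr : ∀ y : ↥Y, IsClosed ({y} : Set ↥Y) → IsIrreducible (f.base ⁻¹' {y}))
    (hdim : ∀ y : ↥Y, IsClosed ({y} : Set ↥Y) → topologicalKrullDim ↥(f.base ⁻¹' {y}) = d) :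
    IrreducibleSpace ↥X ∧ topologicalKrullDim ↥X = d + topologicalKrullDim ↥Y := by
  open Groth.Agent.H8Props.FieldDim Groth.Agent.H22Alg.FibreCount in
  haveI : LocallyOfFiniteType (f ≫ qY) := hf ▸ inferInstance
  haveI : LocallyOfFiniteType f := locallyOfFiniteType_of_comp f qY
  haveI : QuasiCompact f := by
    haveI : QuasiCompact (f ≫ qY) := hf ▸ inferInstance
    haveI : IsLocallyNoetherian Y := LocallyOfFiniteType.isLocallyNoetherian qY
    exact QuasiCompact.of_comp f qY
  obtain ⟨Z, ⟨hZ, hZd⟩, hZu⟩ := existsUnique_dominant qX qY f hf d hirr hdim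
  obtain ⟨h1, h2, -⟩ := component_data qX qY f hf d hirr hdim Z hZ
  have hsurj : f '' Z = Set.univ := by
    rw [← hZd.closure_eq, (hcl _ (isClosed_of_mem_irreducibleComponents Z hZ)).closure_eq]
  haveI : JacobsonSpace X := LocallyOfFiniteType.jacobsonSpace qX
  have hZX : Z = Set.univ := by
    refine Set.eq_univ_of_univ_subset ?_
    rw [← closure_closedPoints (X := X), (isClosed_of_mem_irreducibleComponents Z hZ).closure_subset_iff]
    intro x hx
    have hy := isClosed_map qX qY f hf hx
    obtain ⟨z, hz, hzx⟩ := hsurj.symm ▸ Set.mem_univ (f x)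
    exact h1 _ hy ⟨z, hzx, hz⟩ rfl
  subst hZX
  refine ⟨(irreducibleSpace_def _).mpr hZ.1, ?_⟩
  rw [hZd.closure_eq, IsHomeomorph.topologicalKrullDim_eq _ (Homeomorph.Set.univ X).isHomeomorph,
    IsHomeomorph.topologicalKrullDim_eq _ (Homeomorph.Set.univ Y).isHomeomorph] at h2
  exact h2

end Groth.Agent.S14369
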