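import Groth.Statements.S14370
import Mathlib
import Groth.Agent.H22Alg.FibreCount

set_option autoImplicit false
universe u
open CategoryTheory CategoryTheory.Limits AlgebraicGeometry
open Variety

namespace Groth.Agent.S14370

/-- Let k be an algebraically closed field, X and Y schemes of finite type over k with Y irreducible,
and f : X → Y a k-morphism. Suppose that X is pure-dimensional (every irreducible component of X has
dimension dim X) and that for some natural number d the fibre of f over every closed point y of Y
(the subspace of points mapping to y) is irreducible of dimension d. Then X is irreducible and dim X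
= d + dim Y. (The published statement is for varieties, i.e. reduced separated schemes; this row
assumes neither.) -/
theorem result (k : Type u) [Field k] [IsAlgClosed k]
    {X Y : Scheme.{u}} (qX : X ⟶ Spec (CommRingCat.of k)) (qY : Y ⟶ Spec (CommRingCat.of k))
    [LocallyOfFiniteType qX] [QuasiCompact qX] [LocallyOfFiniteType qY] [QuasiCompact qY]
    (f : X ⟶ Y) (hf : f ≫ qY = qX) [IrreducibleSpace ↥Y]
    (hpure : ∀ Z ∈ irreducibleComponents (↥X), topologicalKrullDim ↥Z = topologicalKrullDim ↥X) (d : ℕ)
    (hirr : ∀ y : ↥Y, IsClosed ({y} : Set ↥Y) → IsIrreducible (f.base ⁻¹' {y}))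
    (hdim : ∀ y : ↥Y, IsClosed ({y} : Set ↥Y) → topologicalKrullDim ↥(f.base ⁻¹' {y}) = d) :
    IrreducibleSpace ↥X ∧ topologicalKrullDim ↥X = d + topologicalKrullDim ↥Y := by
  open Groth.Agent.H8Props.FieldDim Groth.Agent.H22Alg.FibreCount in
  haveI : LocallyOfFiniteType (f ≫ qY) := hf ▸ inferInstance
  haveI : LocallyOfFiniteType f := locallyOfFiniteType_of_comp f qY
  haveI : QuasiCompact f := by
    haveI : QuasiCompact (f ≫ qY) := hf ▸ inferInstance
    haveI : IsLocallyNoetherian Y := LocallyOfFiniteType.isLocallyNoetherian qY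
    exact QuasiCompact.of_comp f qY
  obtain ⟨Z, ⟨hZ, hZd⟩, hZu⟩ := existsUnique_dominant qX qY f hf d hirr hdim
  obtain ⟨h1, h2, -⟩ := component_data qX qY f hf d hirr hdim Z hZ
  rw [hZd.closure_eq, IsHomeomorph.topologicalKrullDim_eq _ (Homeomorph.Set.univ Y).isHomeomorph, hpure Z hZ] at h2
  have hall : ∀ Z' ∈ irreducibleComponents X, Z' = Z := by
    intro Z' hZ'
    by_contra hne
    obtain ⟨-, h2', -⟩ := component_data qX qY f hf d hirr hdim Z' hZ'
    rw [hpure Z' hZ', h2] at h2'
    obtain ⟨η, rfl, -⟩ := mem_irreducibleComponents_iff hZ'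
    have him : closure (f '' closure {η}) = closure {f η} := by
      rw [closure_image_closure f.continuous, Set.image_singleton]
    rw [show closure (⇑f '' closure {η}) = closure {f η} from him] at h2'
    have hgY : f η ≠ genericPoint Y := fun e => hne (hZu _ ⟨hZ', by rw [dense_iff_closure_eq, him, e, genericPoint_closure]⟩)
    have hlt : cdim (f η) < cdim (genericPoint Y) := cdim_lt qY (genericPoint_specializes _) (Ne.symm hgY)
    obtain ⟨a, ha⟩ := exists_nat_cdim qY (f η)
    obtain ⟨b, hb⟩ := exists_nat_cdim qY (genericPoint Y)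
    have hbY : topologicalKrullDim Y = b := by
      rw [← hb, cdim, genericPoint_closure]
      exact (IsHomeomorph.topologicalKrullDim_eq _ (Homeomorph.Set.univ Y).isHomeomorph).symm
    rw [show topologicalKrullDim (closure ({f η} : Set Y)) = cdim (f η) from rfl, hbY, ha] at h2'
    rw [ha, hb] at hlt
    have e1 : d + b = d + a := by exact_mod_cast h2'
    have e2 : a < b := by exact_mod_cast hlt
    omega
  refine ⟨(irreducibleSpace_def _).mpr ?_, h2⟩
  have hZX : Z = Set.univ := Set.eq_univ_of_forall fun x =>
    hall _ (irreducibleComponent_mem_irreducibleComponents x) ▸ mem_irreducibleComponent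
  rw [Set.top_eq_univ, ← hZX]
  exact hZ.1

end Groth.Agent.S14370
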