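import Groth.Statements.S14371
import Groth.Agent.H3CAlg.C2
import Groth.Agent.H3CAlg.GorMCM
import Groth.Agent.H3CAlg.GorOne
import Groth.Agent.S0561

set_option autoImplicit false
universe u
open CAlg

namespace Groth.Agent.S14371

/-- Let R be a regular local ring of dimension n with maximal ideal m and residue field κ, and I, J
ideals of R such that R/I and R/J are regular local rings of dimensions a and b (two subvarieties
smooth at the point). Suppose the quotient R/(I + J) is local with cotangent space m/(m² + I + J) of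
dimension a + b − n over κ (the tangent spaces of the two subvarieties meet in the expected
dimension, i.e. they intersect transversally at the point). Then R/(I + J) is a regular local ring
of dimension a + b − n; in particular I + J is a prime ideal. (The published statement is about the
local rings of a smooth variety over an algebraically closed field at a point where two smooth
closed subvarieties meet transversally, and also states the resulting equalities of tangent spaces
and of ideals; this row is the local-ring form, for an arbitrary regular local ring.) -/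
theorem result {R : Type u} [CommRing R] [IsRegularLocalRing R]
    (I J : Ideal R) [IsRegularLocalRing (R ⧸ I)] [IsRegularLocalRing (R ⧸ J)] [IsLocalRing (R ⧸ (I ⊔ J))]
    (n a b : ℕ) (hn : ringKrullDim R = n) (ha : ringKrullDim (R ⧸ I) = a) (hb : ringKrullDim (R ⧸ J) = b)
    (ht : Module.finrank (IsLocalRing.ResidueField (R ⧸ (I ⊔ J))) (IsLocalRing.CotangentSpace (R ⧸ (I ⊔ J))) + n = a + b) :
    IsRegularLocalRing (R ⧸ (I ⊔ J)) ∧ ringKrullDim (R ⧸ (I ⊔ J)) = ((a + b - n : ℕ) : WithBot ℕ∞) := by
  classical
  haveI : IsNoetherianRing (R ⧸ (I ⊔ J)) := inferInstance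
  obtain ⟨n', hn'⟩ : ∃ m : ℕ, ringKrullDim (R ⧸ (I ⊔ J)) = m := Groth.Agent.H4Depth.exists_nat_ringKrullDim_eq
  have hspan : (IsLocalRing.maximalIdeal (R ⧸ (I ⊔ J))).spanFinrank + n = a + b := by
    rw [IsLocalRing.spanFinrank_maximalIdeal_eq_finrank_cotangentSpace]; exact ht
  obtain ⟨x, c, hc, hx, hxI⟩ := Groth.Agent.S0561.result R n hn I
  let s : Finset R := Finset.univ.image fun i : Fin c => x (Fin.castLE hc i)
  have hsI : Ideal.span (↑s : Set R) = I := by
    rw [hxI, Finset.coe_image, Finset.coe_univ, Set.image_univ]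
  have hs : s.card + a ≤ n := by
    have h1 : s.card ≤ c := (Finset.card_image_le).trans (by simp)
    let rest : Finset (R ⧸ I) := (Finset.univ.filter fun i : Fin n => c ≤ i.val).image fun i => Ideal.Quotient.mk I (x i)
    have hm : IsLocalRing.maximalIdeal (R ⧸ I) = Ideal.span (↑rest : Set (R ⧸ I)) := by
      rw [← IsLocalRing.map_maximalIdeal_of_surjective (Ideal.Quotient.mk I) Ideal.Quotient.mk_surjective, ← hx, Ideal.map_span]
      refine le_antisymm (Ideal.span_le.mpr ?_) (Ideal.span_mono ?_)
      · rintro _ ⟨_, ⟨i, rfl⟩, rfl⟩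
        by_cases hi : c ≤ i.val
        · exact Ideal.subset_span (Finset.mem_image.mpr ⟨i, by simp [hi], rfl⟩)
        · rw [SetLike.mem_coe, Ideal.Quotient.eq_zero_iff_mem.mpr (show x i ∈ I by
            rw [hxI]
            exact Ideal.subset_span ⟨(⟨i.val, Nat.lt_of_not_le hi⟩ : Fin c), rfl⟩)]
          exact zero_mem _
      · intro z hz
        obtain ⟨i, -, rfl⟩ := Finset.mem_image.mp hz
        exact ⟨x i, ⟨i, rfl⟩, rfl⟩
    have h2 : rest.card ≤ n - c := by
      refine (Finset.card_image_le).trans ?_
      have h := Finset.card_le_card_of_injOn (s := Finset.univ.filter fun i : Fin n => c ≤ i.val)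
        (t := Finset.Ico c n) (fun i => i.val) (fun i hi => by simp at hi ⊢; exact hi)
        (fun i _ j _ h => Fin.ext h)
      simpa using h
    have h3 : (IsLocalRing.maximalIdeal (R ⧸ I)).spanFinrank ≤ rest.card := by
      rw [hm]
      refine (Submodule.spanFinrank_span_le_ncard_of_finite rest.finite_toSet).trans ?_
      rw [Set.ncard_coe_finset]
    have h4 : (IsLocalRing.maximalIdeal (R ⧸ I)).spanFinrank = a := by
      have := IsRegularLocalRing.spanFinrank_maximalIdeal (R := R ⧸ I)
      rw [ha] at this
      exact_mod_cast this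
    omega
  let π : R →+* R ⧸ J := Ideal.Quotient.mk J
  have hIJ : (I ⊔ J).map π = Ideal.span ↑(s.image π) := by
    rw [Finset.coe_image (f := π), ← Ideal.map_span, hsI, Ideal.map_sup, Ideal.map_quotient_self, sup_bot_eq]
  have hsm : (↑(s.image π) : Set (R ⧸ J)) ⊆ (IsLocalRing.maximalIdeal (R ⧸ J) : Set (R ⧸ J)) := by
    intro z hz
    have hne : (I ⊔ J).map π ≠ ⊤ := by
      intro h
      have h1 := congrArg (Ideal.comap π) h
      rw [Ideal.comap_map_quotientMk, Ideal.comap_top, sup_eq_right.mpr le_sup_right] at h1
      exact (Ideal.Quotient.nontrivial_iff.mp inferInstance) h1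
    exact IsLocalRing.le_maximalIdeal hne (hIJ ▸ Ideal.subset_span hz)
  have hdim := ringKrullDim_le_ringKrullDim_quotient_add_card (R := R ⧸ J) (s := s.image π) (IsLocalRing.ringJacobson_eq_maximalIdeal (R := R ⧸ J) ▸ hsm)
  rw [hb, ← hIJ, ringKrullDim_eq_of_ringEquiv (DoubleQuot.quotQuotEquivQuotOfLE (le_sup_right : J ≤ I ⊔ J)), hn'] at hdim
  have hb' : b ≤ n' + (n - a) := by
    have h : b ≤ n' + (s.image π).card := by exact_mod_cast hdim
    have := Finset.card_image_le (s := s) (f := π)
    omega
  have han : a ≤ n := by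
    have := ringKrullDim_quotient_le I
    rw [hn, ha] at this
    exact_mod_cast this
  have hle : n' ≤ (IsLocalRing.maximalIdeal (R ⧸ (I ⊔ J))).spanFinrank := by
    have := ringKrullDim_le_spanFinrank_maximalIdeal (R := R ⧸ (I ⊔ J))
    rw [hn'] at this
    exact_mod_cast this
  refine ⟨IsRegularLocalRing.of_spanFinrank_maximalIdeal_le _ ?_, ?_⟩
  · rw [hn']
    exact_mod_cast (by omega : (IsLocalRing.maximalIdeal (R ⧸ (I ⊔ J))).spanFinrank ≤ n')
  · rw [hn']
    exact_mod_cast (by omega : n' = a + b - n)

end Groth.Agent.S14371
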