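import Groth.Statements.S14372
import Mathlib
import Groth.Agent.H29Ci.Zero

set_option autoImplicit false
universe u
open Fano

namespace Groth.Agent.S14372

theorem helper_pderiv_aeval {k : Type*} [CommRing k] {σ τ : Type*} [Fintype σ]
    (L : σ → MvPolynomial τ k) (t : τ) (g : MvPolynomial σ k) :
    MvPolynomial.pderiv t (MvPolynomial.aeval L g) =
      ∑ i, MvPolynomial.aeval L (MvPolynomial.pderiv i g) * MvPolynomial.pderiv t (L i) := by
  classical
  induction g using MvPolynomial.induction_on with
  | C a => simp
  | add p q hp hq => simp only [map_add, hp, hq, add_mul, Finset.sum_add_distrib]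
  | mul_X p j hp =>
    simp only [map_mul, MvPolynomial.aeval_X, MvPolynomial.pderiv_mul, MvPolynomial.pderiv_X,
      map_add, hp, Finset.sum_mul, add_mul, Finset.sum_add_distrib]
    congr 1
    · exact Finset.sum_congr rfl fun i _ => by ring
    · rw [Finset.sum_eq_single j]
      · simp
      · intro i _ hi; simp [Pi.single_eq_of_ne (Ne.symm hi)]
      · simp


/-- Over an algebraically closed field k of arbitrary characteristic, let f be a homogeneous form of
degree d ≥ 2 in n + 1 variables and U a linear subspace of k^(n+1) on which f vanishes, such that at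
every nonzero vector of U some partial derivative of f does not vanish (the hypersurface f = 0 in
P^n contains the r-plane P(U), r + 1 = dim U, and is smooth at every point of it). Then 2 · dim U ≤
n + 1, i.e. r ≤ (n − 1)/2. (The published statement assumes the hypersurface smooth everywhere; this
row assumes smoothness only along P(U).) -/
theorem result (k : Type u) [Field k] [IsAlgClosed k]
    (n d : ℕ) (hd : 2 ≤ d) (f : MvPolynomial (Fin (n + 1)) k) (hf : f.IsHomogeneous d)
    (U : Submodule k (Fin (n + 1) → k)) (hU : ∀ u ∈ U, MvPolynomial.eval u f = 0)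
    (hsm : ∀ u ∈ U, u ≠ 0 → ∃ i : Fin (n + 1), MvPolynomial.eval u (MvPolynomial.pderiv i f) ≠ 0) :
    2 * Module.finrank k ↥U ≤ n + 1 := by
  classical
  open MvPolynomial in
  by_contra hlt
  let m := Module.finrank k U
  let b := Module.finBasis k U
  let L : Fin (n + 1) → MvPolynomial (Fin m) k := fun i => ∑ t, C ((b t).1 i) * X t
  let pt : (Fin m → k) → (Fin (n + 1) → k) := fun a => (∑ t, a t • b t : U).1
  have hLeval : ∀ a i, eval a (L i) = pt a i := fun a i => by
    simp [L, pt, mul_comm, Finset.sum_apply]
    try rfl
  have hev : ∀ a (g : MvPolynomial (Fin (n + 1)) k), eval a (aeval L g) = eval (pt a) g := by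
    intro a g
    induction g using MvPolynomial.induction_on with
    | C c => simp
    | add p q hp hq => simp only [map_add, hp, hq]
    | mul_X p j hp => simp only [map_mul, aeval_X, eval_X, hp, hLeval]
  have hzero : aeval L f = 0 := MvPolynomial.funext fun a => by
    rw [hev, map_zero]; exact hU _ (∑ t, a t • b t : U).2
  have hgrad : ∀ a (v : U), ∑ i, v.1 i * eval (pt a) (pderiv i f) = 0 := by
    intro a v
    have h1 : ∀ t, ∑ i, (b t).1 i * eval (pt a) (pderiv i f) = 0 := by
      intro t
      have := congrArg (fun g => eval a (pderiv t g)) hzero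
      simp only [helper_pderiv_aeval, map_sum, map_mul, hev, map_zero] at this
      refine Eq.trans (Finset.sum_congr rfl fun i _ => ?_) this
      have hpd : pderiv t (L i) = C ((b t).1 i) := by
        simp only [L, map_sum, pderiv_C_mul]
        rw [Finset.sum_eq_single t]
        · simp
        · intro s _ hs; simp [pderiv_X, Pi.single_eq_of_ne hs]
        · simp
      rw [hpd, eval_C, mul_comm]
    rw [← b.sum_repr v, Submodule.coe_sum]
    simp only [Finset.sum_apply, Submodule.coe_smul, Pi.smul_apply, smul_eq_mul, Finset.sum_mul]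
    rw [Finset.sum_comm]
    refine Finset.sum_eq_zero fun t _ => ?_
    simp only [mul_assoc, ← Finset.mul_sum, h1, mul_zero]
  obtain ⟨W, hW⟩ := exists_isCompl U
  let w := Module.finBasis k W
  have hdim : Module.finrank k U + Module.finrank k W = n + 1 := by
    rw [Submodule.finrank_add_eq_of_isCompl hW, Module.finrank_fin_fun]
  let G : Fin (Module.finrank k W) → MvPolynomial (Fin m) k :=
    fun s => ∑ i, C ((w s).1 i) * aeval L (pderiv i f)
  obtain ⟨a, ha0, ha⟩ := Groth.Agent.H29Ci.exists_ne_zero_common_zero G
    (fun s => by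
      have h0 : pt 0 = 0 := by simp [pt]
      have hdd : ∀ i, eval (0 : Fin (n + 1) → k) (pderiv i f) = 0 := fun i =>
        Groth.Agent.H29Ci.eval_zero_of_isHomogeneous (hf.pderiv) (by omega)
      simp only [G, map_sum, map_mul, eval_C, hev, h0, hdd, mul_zero, Finset.sum_const_zero]) (show Module.finrank k W < m by omega)
  have hu0 : pt a ≠ 0 := by
    intro h
    apply ha0
    have h' : (∑ t, a t • b t : U) = 0 := Subtype.ext h
    funext t
    exact Fintype.linearIndependent_iff.mp b.linearIndependent a h' t
  obtain ⟨i, hi⟩ := hsm (pt a) (∑ t, a t • b t : U).2 hu0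
  apply hi
  have hall : ∀ v : Fin (n + 1) → k, ∑ j, v j * eval (pt a) (pderiv j f) = 0 := by
    intro v
    obtain ⟨x, hx, y, hy, rfl⟩ := Submodule.mem_sup.mp
      (hW.sup_eq_top ▸ Submodule.mem_top : v ∈ U ⊔ W)
    have hy' : ∑ j, y j * eval (pt a) (pderiv j f) = 0 := by
      have e : y = ∑ s, w.repr ⟨y, hy⟩ s • (w s).1 := by
        conv_lhs => rw [show y = ((⟨y, hy⟩ : W) : Fin (n + 1) → k) from rfl,
          ← w.sum_repr ⟨y, hy⟩, Submodule.coe_sum]
        rfl
      rw [e]
      simp only [Finset.sum_apply, Pi.smul_apply, smul_eq_mul, Finset.sum_mul]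
      rw [Finset.sum_comm]
      refine Finset.sum_eq_zero fun s _ => ?_
      have := ha s
      simp only [G, map_sum, map_mul, eval_C, hev] at this
      simp only [mul_assoc, ← Finset.mul_sum, this, mul_zero]
    simp only [Pi.add_apply, add_mul, Finset.sum_add_distrib, hy', hgrad a ⟨x, hx⟩, add_zero]
  simpa [Pi.single_apply, ite_mul] using hall (Pi.single i 1)

end Groth.Agent.S14372
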