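import Groth.Statements.S14373
import Groth.Agent.H25Param.SingForms

set_option autoImplicit false
universe u
open Fano

namespace Groth.Agent.S14373

/-- Over an algebraically closed field k of arbitrary characteristic, let d ≥ 2 and let U be a linear
subspace of k^(n+1) with 2 · dim U ≤ n + 1 (an r-plane P(U) in P^n with r ≤ (n − 1)/2). Let W be the
linear space of degree-d forms in n + 1 variables vanishing on U (hypersurfaces of degree d
containing P(U)). Then a general member G of W defines a smooth hypersurface: for G outside the zero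
set of some nonzero polynomial function on W, at every nonzero vector where G vanishes some partial
derivative of G is nonzero. -/
theorem result (k : Type u) [Field k] [IsAlgClosed k]
    (n d : ℕ) (hd : 2 ≤ d) (U : Submodule k (Fin (n + 1) → k)) (hU : 2 * Module.finrank k ↥U ≤ n + 1)
    (W : Submodule k (LefPen.Form n k d)) (hW : ∀ G : LefPen.Form n k d, G ∈ W ↔ ∀ u ∈ U, MvPolynomial.eval u G.1 = 0) :
    LefPen.IsGeneric k {G : ↥W | ∀ v : Fin (n + 1) → k, v ≠ 0 → MvPolynomial.eval v G.1.1 = 0 →
      ∃ i : Fin (n + 1), MvPolynomial.eval v (MvPolynomial.pderiv i G.1.1) ≠ 0} := by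
  classical
  haveI : Module.Finite k (LefPen.Form n k d) :=
    Module.Finite.iff_fg.mpr (MvPolynomial.homogeneousSubmodule_fg (σ := Fin (n + 1)) (R := k) d)
  let r := Module.finrank k U
  let bU := Module.finBasis k U
  obtain ⟨C0, hC0⟩ := Submodule.exists_isCompl U
  let bC := Module.finBasis k C0
  have hdim : r + Module.finrank k C0 = n + 1 := by
    rw [Submodule.finrank_add_eq_of_isCompl hC0, Module.finrank_fin_fun]
  let w : Fin (Module.finrank k C0) → Fin (n + 1) → k := fun a => (bC a).1
  refine H25Param.isGeneric_mono ?_ (H25Param.isGeneric_inter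
    (H25Param.isGeneric_iInter (ι := Fin (n + 1)) fun j =>
      H25Param.isGeneric_avoid_incidence (V := ↥W) (H25Param.offMap W j) (by
        rw [MvPolynomial.trdeg_of_isDomain, Cardinal.mk_fintype, Cardinal.lift_natCast,
          Fintype.card_option]
        exact_mod_cast Nat.lt_succ_self _))
    (H25Param.isGeneric_iInter (ι := Fin r) fun q =>
      H25Param.isGeneric_avoid_incidence (V := ↥W) (H25Param.onMap U W bU q w) (by
        rw [MvPolynomial.trdeg_of_isDomain, Cardinal.mk_fintype, Cardinal.lift_natCast,
          Fintype.card_subtype_compl, Fintype.card_fin, Fintype.card_fin,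
          Fintype.card_subtype_eq]
        have hq := q.isLt
        exact_mod_cast (show r - 1 < Module.finrank k C0 by omega))))
  rintro G ⟨hoff, hon⟩ v hv0 hG0
  by_contra! hder
  have hscale : ∀ a : k, MvPolynomial.eval (a • v) G.1.1 = 0 ∧
      ∀ i, MvPolynomial.eval (a • v) (MvPolynomial.pderiv i G.1.1) = 0 := fun a => by
    have hh : G.1.1.IsHomogeneous d := G.1.2
    exact ⟨by rw [H25Param.eval_smul_form hh, hG0, mul_zero], fun i => by
      rw [H25Param.eval_smul_form hh.pderiv, hder i, mul_zero]⟩
  by_cases hvU : v ∈ U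
  · obtain ⟨q, hq⟩ : ∃ q, bU.repr ⟨v, hvU⟩ q ≠ 0 := by
      by_contra! hc
      have : (⟨v, hvU⟩ : U) = 0 := bU.repr.map_eq_zero_iff.mp (Finsupp.ext hc)
      exact hv0 (congrArg Subtype.val this)
    let a := bU.repr ⟨v, hvU⟩ q
    let p : MvPolynomial {t : Fin r // t ≠ q} k →ₐ[k] k :=
      MvPolynomial.aeval fun t => bU.repr ⟨v, hvU⟩ t.1 / a
    have hvec : (fun i => p (H25Param.onVec U bU q i)) = a⁻¹ • v := by
      rw [H25Param.onVec_eq]
      have : (bU q + ∑ t : {t : Fin r // t ≠ q}, p (MvPolynomial.X t) • bU t.1 : U) =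
          a⁻¹ • (⟨v, hvU⟩ : U) := by
        conv_rhs => rw [← bU.sum_repr ⟨v, hvU⟩, Finset.smul_sum,
          Fintype.sum_eq_add_sum_subtype_ne _ q, smul_smul, inv_mul_cancel₀ hq, one_smul]
        congr 1
        refine Finset.sum_congr rfl fun t _ => ?_
        rw [smul_smul]
        simp [p, div_eq_mul_inv, mul_comm]
      rw [this]
      rfl
    refine Set.mem_iInter.mp hon q p
      (H25Param.onMap_surjective U W bU q w hd hW hC0 bC (fun _ => rfl) p) (funext fun c => ?_)
    rw [H25Param.evalAt_onMap, hvec]
    simp [(hscale a⁻¹).2]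
  · obtain ⟨j, hj⟩ : ∃ j, v j ≠ 0 := by
      by_contra! hc
      exact hv0 (funext hc)
    let p : MvPolynomial {i : Fin (n + 1) // i ≠ j} k →ₐ[k] k :=
      MvPolynomial.aeval fun i => v i.1 / v j
    have hvec : (fun i => p (H25Param.offVec k j i)) = (v j)⁻¹ • v := by
      funext i
      unfold H25Param.offVec
      split_ifs with h
      · subst h; simp [inv_mul_cancel₀ hj]
      · simp [p, div_eq_mul_inv, mul_comm]
    refine Set.mem_iInter.mp hoff j p (H25Param.offMap_surjective U W j hd hW p ?_)
      (funext fun o => ?_)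
    · rw [hvec, Submodule.smul_mem_iff _ (inv_ne_zero hj)]
      exact hvU
    · rcases o with _ | i
      · rw [H25Param.evalAt_offMap_none, hvec]; exact (hscale _).1
      · rw [H25Param.evalAt_offMap_some, hvec]; exact (hscale _).2 _

end Groth.Agent.S14373
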