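import Groth.Statements.S14374
import Groth.Agent.H25Disc.Main

set_option autoImplicit false
universe u
open Fano

namespace Groth.Agent.S14374

/-- Over an algebraically closed field k of arbitrary characteristic, let n ≥ 1 and d ≥ 2, and call a
degree-d form G in n + 1 variables singular when there is a nonzero vector v with G(v) = 0 and all
partial derivatives ∂G/∂x_i(v) = 0 (the hypersurface G = 0 in P^n has a singular point, or G = 0).
Then the singular forms are exactly the zero set of one irreducible polynomial function Δ on the
vector space of degree-d forms: the locus of singular hypersurfaces is an irreducible hypersurface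
in the parameter space. (The published statement concerns the reduced hypersurfaces in the
projective space of degree-d forms, where the singular ones form an irreducible closed subset of
codimension one, and allows every positive degree; for d = 1 no hyperplane is singular, so this row
assumes d ≥ 2, and it is stated on the affine space of all forms.) -/
theorem result (k : Type u) [Field k] [IsAlgClosed k]
    (n d : ℕ) (hn : 1 ≤ n) (hd : 2 ≤ d) :
    ∃ Δ : ↥(Algebra.adjoin k (Set.range (fun l : Module.Dual k (LefPen.Form n k d) => (l : LefPen.Form n k d → k)))),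
      Irreducible Δ ∧ ∀ G : LefPen.Form n k d,
        (∃ v : Fin (n + 1) → k, v ≠ 0 ∧ MvPolynomial.eval v G.1 = 0 ∧
          ∀ i : Fin (n + 1), MvPolynomial.eval v (MvPolynomial.pderiv i G.1) = 0) ↔ Δ.1 G = 0 := by
  classical
  obtain ⟨p, hp, hpiff⟩ := H25Disc.exists_irreducible (k := k) (n := n) hd
  let b := H25Disc.monBasis k n d
  let A := Algebra.adjoin k
    (Set.range (fun l : Module.Dual k (LefPen.Form n k d) => (l : LefPen.Form n k d → k)))
  let E : MvPolynomial (H25Disc.Mon n d) k →ₐ[k] A :=
    MvPolynomial.aeval fun a => ⟨(b.coord a : LefPen.Form n k d → k), Algebra.subset_adjoin ⟨b.coord a, rfl⟩⟩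
  have hE : ∀ Q G, (E Q).1 G = MvPolynomial.eval (fun a => b.repr G a) Q := by
    intro Q G
    have h := congrFun (congrArg DFunLike.coe (MvPolynomial.comp_aeval (R := k)
      (fun a => (⟨(b.coord a : LefPen.Form n k d → k), Algebra.subset_adjoin ⟨b.coord a, rfl⟩⟩ : A))
      ((Pi.evalAlgHom k (fun _ => k) G).comp A.val))) Q
    exact h
  have hinj : Function.Injective E := by
    intro P Q h
    refine MvPolynomial.funext fun y => ?_
    have h1 := congrArg (fun a : A => a.1 (b.equivFun.symm y)) h
    simp only [hE] at h1
    have hy : (fun a => b.repr (b.equivFun.symm y) a) = y := by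
      funext a
      rw [← b.equivFun_apply, LinearEquiv.apply_symm_apply]
    rwa [hy] at h1
  have hsurj : Function.Surjective E := by
    intro a
    obtain ⟨Q, hQ⟩ := H25Param.exists_eval_of_isPolyFun b a.2
    exact ⟨Q, Subtype.ext (funext fun G => (hE Q G).trans (hQ G).symm)⟩
  refine ⟨E p, (MulEquiv.irreducible_iff (AlgEquiv.ofBijective E ⟨hinj, hsurj⟩).toMulEquiv).mpr
    hp.irreducible, fun G => ?_⟩
  rw [hE]
  exact hpiff G

end Groth.Agent.S14374
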