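import Groth.Statements.S14375
import Mathlib
import Groth.Agent.H22Alg.VarGeom

set_option autoImplicit false
universe u
open CategoryTheory CategoryTheory.Limits AlgebraicGeometry
open Variety

namespace Groth.Agent.S14375

/-- Let k be an algebraically closed field, F an irreducible scheme of finite type over k, and f : X → Y
a k-morphism of schemes of finite type over k with Y irreducible which is locally trivial with fibre
F: every point of Y has an open neighbourhood V such that f⁻¹(V) is isomorphic over V to V ×_k F.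
Then X is irreducible. (The published statement is for varieties, i.e. reduced separated schemes;
this row assumes neither.) -/
theorem result (k : Type u) [Field k] [IsAlgClosed k]
    {X Y F : Scheme.{u}} (qX : X ⟶ Spec (CommRingCat.of k)) (qY : Y ⟶ Spec (CommRingCat.of k))
    (qF : F ⟶ Spec (CommRingCat.of k))
    [LocallyOfFiniteType qX] [QuasiCompact qX] [LocallyOfFiniteType qY] [QuasiCompact qY]
    [LocallyOfFiniteType qF] [QuasiCompact qF] [IrreducibleSpace ↥F] [IrreducibleSpace ↥Y]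
    (f : X ⟶ Y) (hf : f ≫ qY = qX)
    (htriv : ∀ y : ↥Y, ∃ V : Y.Opens, y ∈ V ∧
      ∃ e : (↑(f ⁻¹ᵁ V) : Scheme.{u}) ≅ pullback (V.ι ≫ qY) qF, e.hom ≫ pullback.fst (V.ι ≫ qY) qF = f ∣_ V) :
    IrreducibleSpace ↥X := by
  haveI : GeometricallyIrreducible qF := Groth.Agent.H22Alg.VarGeom.geometricallyIrreducible_of_isSepClosed qF
  choose V hyV e he using htriv
  have hne : ∀ y, Nonempty (V y : Scheme.{u}) := fun y => ⟨⟨y, hyV y⟩⟩
  have hirr : ∀ y, IsPreirreducible ((f ⁻¹ᵁ V y : X.Opens) : Set X) := fun y => by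
    haveI : Nonempty (V y : Scheme.{u}) := hne y
    haveI : IrreducibleSpace (V y : Scheme.{u}) :=
      @IrreducibleSpace.mk _ _ (Subtype.preirreducibleSpace (s := (V y : Set Y)) ((PreirreducibleSpace.isPreirreducible_univ (X := Y)).open_subset (V y).2 (Set.subset_univ _))) ⟨⟨y, hyV y⟩⟩
    haveI : IrreducibleSpace ↥(pullback ((V y).ι ≫ qY) qF) := inferInstance
    haveI : IrreducibleSpace (f ⁻¹ᵁ V y : X.Opens).toScheme :=
      (e y).hom.homeomorph.irreducibleSpace_iff.mpr inferInstance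
    have h := (IrreducibleSpace.isIrreducible_univ (f ⁻¹ᵁ V y : X.Opens).toScheme).image _ (f ⁻¹ᵁ V y).ι.continuous.continuousOn
    rw [Set.image_univ, Scheme.Opens.range_ι] at h
    exact h.isPreirreducible
  have hsurj : ∀ y, ∀ z ∈ V y, ∃ x, f x = z := fun y z hz => by
    obtain ⟨w, hw⟩ := (pullback.fst ((V y).ι ≫ qY) qF).surjective ⟨z, hz⟩
    refine ⟨(f ⁻¹ᵁ V y).ι ((e y).inv w), ?_⟩
    rw [← Scheme.Hom.comp_apply, ← Scheme.Hom.comp_apply, ← morphismRestrict_ι, ← he y,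
      Category.assoc, Iso.inv_hom_id_assoc, Scheme.Hom.comp_apply, hw]
    rfl
  have hXne : Nonempty X := by
    obtain ⟨y⟩ := (inferInstance : Nonempty Y)
    obtain ⟨x, -⟩ := hsurj y y (hyV y)
    exact ⟨x⟩
  refine @IrreducibleSpace.mk _ _ ⟨?_⟩ hXne
  rintro A B hA hB ⟨a, -, haA⟩ ⟨b, -, hbB⟩
  obtain ⟨z, hz1, hz2⟩ := nonempty_preirreducible_inter (V (f a)).2 (V (f b)).2 ⟨_, hyV _⟩ ⟨_, hyV _⟩
  obtain ⟨x, hx⟩ := hsurj _ z hz1
  obtain ⟨c, hc1, hc2, hc3⟩ := hirr (f a) A (f ⁻¹ᵁ V (f b)) hA (f ⁻¹ᵁ V (f b)).2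
    ⟨a, hyV _, haA⟩ ⟨x, (show f x ∈ V (f a) by rwa [hx]), (show f x ∈ V (f b) by rwa [hx])⟩
  obtain ⟨w, -, hw2, hw3⟩ := hirr (f b) A B hA hB ⟨c, hc3, hc2⟩ ⟨b, hyV _, hbB⟩
  exact ⟨w, trivial, hw2, hw3⟩

end Groth.Agent.S14375
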