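import Groth.Statements.S14376
import Mathlib

set_option autoImplicit false
universe u
open Fano

namespace Groth.Agent.S14376

section helpers
open Polynomial

variable {k : Type u} [Field k] {m : ℕ}

/-- Substitution of the line `x + b t`. -/
noncomputable def lineSub {S : Type u} [CommRing S] [Algebra k S] (x : Fin m → S) (b : Fin m → k) :
    MvPolynomial (Fin m) k →ₐ[k] S[X] :=
  MvPolynomial.aeval fun i => Polynomial.C (x i) + Polynomial.C (algebraMap k S (b i)) * Polynomial.X

section general
variable {S : Type u} [CommRing S] [Algebra k S] (x : Fin m → S) (b : Fin m → k)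

theorem lineSub_X (i : Fin m) :
    lineSub x b (MvPolynomial.X i) = Polynomial.C (x i) + Polynomial.C (algebraMap k S (b i)) * Polynomial.X :=
  MvPolynomial.aeval_X _ _

theorem natDegree_lineSub_X (i : Fin m) : (lineSub x b (MvPolynomial.X i)).natDegree ≤ 1 := by
  rw [lineSub_X, add_comm]
  exact Polynomial.natDegree_linear_le

theorem monomial_bound (s : Fin m →₀ ℕ) :
    (∏ i, (Polynomial.C (x i) + Polynomial.C (algebraMap k S (b i)) * Polynomial.X) ^ s i).natDegree ≤ ∑ i, s i ∧
    (∏ i, (Polynomial.C (x i) + Polynomial.C (algebraMap k S (b i)) * Polynomial.X) ^ s i).coeff (∑ i, s i) =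
      algebraMap k S (∏ i, b i ^ s i) := by
  suffices h : ∀ t : Finset (Fin m),
      (∏ i ∈ t, (Polynomial.C (x i) + Polynomial.C (algebraMap k S (b i)) * Polynomial.X) ^ s i).natDegree ≤ ∑ i ∈ t, s i ∧
      (∏ i ∈ t, (Polynomial.C (x i) + Polynomial.C (algebraMap k S (b i)) * Polynomial.X) ^ s i).coeff (∑ i ∈ t, s i) =
        algebraMap k S (∏ i ∈ t, b i ^ s i) from h Finset.univ
  intro t
  induction t using Finset.induction with
  | empty => simp
  | insert i t hi ih =>
    have h1 : (Polynomial.C (x i) + Polynomial.C (algebraMap k S (b i)) * Polynomial.X).natDegree ≤ 1 := by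
      rw [add_comm]; exact Polynomial.natDegree_linear_le
    have hp : ((Polynomial.C (x i) + Polynomial.C (algebraMap k S (b i)) * Polynomial.X) ^ s i).natDegree ≤ s i :=
      Polynomial.natDegree_pow_le.trans (by simpa using Nat.mul_le_mul_left (s i) h1)
    have hc : ((Polynomial.C (x i) + Polynomial.C (algebraMap k S (b i)) * Polynomial.X) ^ s i).coeff (s i) =
        algebraMap k S (b i) ^ s i := by
      simpa using Polynomial.coeff_pow_of_natDegree_le (m := s i) h1
    rw [Finset.prod_insert hi, Finset.sum_insert hi, Finset.prod_insert hi, map_mul, map_pow]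
    exact ⟨Polynomial.natDegree_mul_le.trans (add_le_add hp ih.1),
      by rw [Polynomial.coeff_mul_add_eq_of_natDegree_le hp ih.1, hc, ih.2]⟩

theorem lineSub_eq_sum (F : MvPolynomial (Fin m) k) :
    lineSub x b F = ∑ s ∈ F.support, Polynomial.C (algebraMap k S (F.coeff s)) *
      ∏ i, (Polynomial.C (x i) + Polynomial.C (algebraMap k S (b i)) * Polynomial.X) ^ s i := by
  rw [lineSub, MvPolynomial.aeval_def, MvPolynomial.eval₂_eq']
  exact Finset.sum_congr rfl fun s _ => by rw [Polynomial.algebraMap_apply]

theorem natDegree_lineSub_le (F : MvPolynomial (Fin m) k) : (lineSub x b F).natDegree ≤ F.totalDegree := by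
  rw [lineSub_eq_sum]
  refine Polynomial.natDegree_sum_le_of_forall_le _ _ fun s hs => ?_
  refine (Polynomial.natDegree_C_mul_le _ _).trans ((monomial_bound x b s).1.trans ?_)
  have := MvPolynomial.le_totalDegree hs
  rwa [Finsupp.sum_fintype _ _ (fun _ => rfl)] at this

theorem coeff_lineSub {d : ℕ} {F : MvPolynomial (Fin m) k} (hF : F.IsHomogeneous d) :
    (lineSub x b F).coeff d = algebraMap k S (MvPolynomial.eval b F) := by
  rw [lineSub_eq_sum, Polynomial.finset_sum_coeff, MvPolynomial.eval_eq', map_sum]
  refine Finset.sum_congr rfl fun s hs => ?_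
  have hd : ∑ i, s i = d := by
    have h := hF (MvPolynomial.mem_support_iff.mp hs)
    rw [Finsupp.weight_apply, Finsupp.sum_fintype _ _ (fun _ => by simp)] at h
    simpa using h
  rw [Polynomial.coeff_C_mul, ← hd, (monomial_bound x b s).2, map_mul]

end general

theorem map_lineSub {S S' : Type u} [CommRing S] [Algebra k S] [CommRing S'] [Algebra k S'] (φ : S →ₐ[k] S')
    (x : Fin m → S) (b : Fin m → k) (F : MvPolynomial (Fin m) k) :
    (lineSub x b F).map φ.toRingHom = lineSub (fun i => φ (x i)) b F := by
  have h : (Polynomial.mapAlgHom φ).comp (lineSub x b) = lineSub (fun i => φ (x i)) b := by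
    refine MvPolynomial.algHom_ext fun i => ?_
    rw [AlgHom.comp_apply, lineSub_X, lineSub_X]
    simp
  exact congr($h F)

theorem derivative_coeff_zero (b : Fin m → k) (P : MvPolynomial (Fin m) k) :
    (derivative (lineSub (fun i => (MvPolynomial.X i : MvPolynomial (Fin m) k)) b P)).coeff 0 =
      ∑ i, MvPolynomial.C (b i) * MvPolynomial.pderiv i P := by
  let L := lineSub (fun i => (MvPolynomial.X i : MvPolynomial (Fin m) k)) b
  have h0 : ∀ P, (L P).coeff 0 = P := fun P => by
    have h : (Polynomial.constantCoeff : (MvPolynomial (Fin m) k)[X] →+* _).comp L.toRingHom = RingHom.id _ := by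
      refine MvPolynomial.ringHom_ext (fun r => ?_) fun i => ?_
      · simp [L, lineSub, Polynomial.constantCoeff_apply, MvPolynomial.algebraMap_eq]
      · simp [L, lineSub, Polynomial.constantCoeff_apply]
    exact congr($h P)
  induction P using MvPolynomial.induction_on with
  | C r => simp [lineSub, MvPolynomial.algebraMap_eq]
  | add P Q hP hQ =>
    rw [map_add, map_add, Polynomial.coeff_add, hP, hQ, ← Finset.sum_add_distrib]
    simp only [map_add, mul_add]
  | mul_X P j hP =>
    have h1 : (derivative (L (MvPolynomial.X j))).coeff 0 = MvPolynomial.C (b j) := by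
      simp [L, lineSub_X, MvPolynomial.algebraMap_eq]
    rw [map_mul, Polynomial.derivative_mul, Polynomial.coeff_add, Polynomial.mul_coeff_zero,
      Polynomial.mul_coeff_zero, hP, h1, h0, h0]
    simp only [MvPolynomial.pderiv_mul, mul_add, Finset.sum_add_distrib, Finset.sum_mul]
    congr 1
    · exact Finset.sum_congr rfl fun i _ => by ring
    · rw [Finset.sum_eq_single j (fun i _ hi => by simp [MvPolynomial.pderiv_X_of_ne (Ne.symm hi)]) (by simp)]
      simp [mul_comm]

/-- An irreducible polynomial over an algebraically closed field has a nonzero partial derivative. -/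
theorem exists_pderiv_ne_zero [IsAlgClosed k] {P : MvPolynomial (Fin m) k} (hP : Irreducible P) :
    ∃ i, MvPolynomial.pderiv i P ≠ 0 := by
  classical
  by_contra! h
  have hdiv : ∀ s ∈ P.support, ∀ i, ((s i : ℕ) : k) = 0 := fun s hs i => by
    by_cases hi : s i = 0
    · simp [hi]
    · have h1 := congrArg (MvPolynomial.coeff (s - Finsupp.single i 1)) (h i)
      rw [MvPolynomial.coeff_pderiv, MvPolynomial.coeff_zero] at h1
      have hs' : s - Finsupp.single i 1 + Finsupp.single i 1 = s := by
        ext j; by_cases hj : j = i <;> simp [Finsupp.single_apply, hj, Ne.symm] <;> omega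
      rw [hs'] at h1
      rcases mul_eq_zero.mp h1 with h2 | h2
      · exact absurd h2 (MvPolynomial.mem_support_iff.mp hs)
      · have : ((s i - 1 + 1 : ℕ) : k) = 0 := by simpa using h2
        rwa [Nat.sub_add_cancel (Nat.one_le_iff_ne_zero.mpr hi)] at this
  rcases CharP.exists k with ⟨p, hp⟩
  rcases CharP.char_is_prime_or_zero k p with hpp | rfl
  · haveI := Fact.mk hpp
    have hroot : ∀ c : k, ∃ c', c' ^ p = c := fun c => IsAlgClosed.exists_pow_nat_eq c hpp.pos
    choose root hroot using hroot
    let Q : MvPolynomial (Fin m) k :=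
      ∑ s ∈ P.support, MvPolynomial.monomial (s.mapRange (· / p) (Nat.zero_div p)) (root (P.coeff s))
    have hQ : Q ^ p = P := by
      rw [sum_pow_char]
      conv_rhs => rw [P.as_sum]
      refine Finset.sum_congr rfl fun s hs => ?_
      have e : p • s.mapRange (· / p) (Nat.zero_div p) = s := Finsupp.ext fun j => by
        obtain ⟨c, hc⟩ := (CharP.cast_eq_zero_iff k p (s j)).mp (hdiv s hs j)
        simp [hc, Nat.mul_div_cancel_left c hpp.pos]
      rw [MvPolynomial.monomial_pow, hroot, e]
    exact not_irreducible_pow hpp.one_lt.ne' (hQ ▸ hP)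
  · haveI := CharP.charP_to_charZero k
    have hC : P = MvPolynomial.C (P.coeff 0) := by
      ext s
      rw [MvPolynomial.coeff_C]
      split_ifs with hs
      · rw [hs]
      · by_contra hne
        obtain ⟨i, hi⟩ : ∃ i, s i ≠ 0 := by
          by_contra! h0; exact hs (Finsupp.ext fun i => (h0 i).symm)
        exact hi (by exact_mod_cast hdiv s (MvPolynomial.mem_support_iff.mpr hne) i)
    have h0 : P.coeff 0 ≠ 0 := fun h0 => hP.ne_zero (by rw [hC, h0, map_zero])
    exact hP.not_isUnit (hC ▸ (isUnit_iff_ne_zero.mpr h0).map MvPolynomial.C)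

/-- Shift of the coefficients along `b`. -/
noncomputable def shiftHom (b : Fin m → k) :
    (MvPolynomial (Fin m) k)[X] →+* (MvPolynomial (Fin m) k)[X] :=
  Polynomial.eval₂RingHom (lineSub (fun i => MvPolynomial.X i) b).toRingHom Polynomial.X

theorem shiftHom_comp (b : Fin m → k) (f : (MvPolynomial (Fin m) k)[X]) :
    shiftHom (fun i => - b i) (shiftHom b f) = f := by
  have h : (shiftHom (fun i => - b i)).comp (shiftHom b) = RingHom.id _ := by
    refine Polynomial.ringHom_ext' (MvPolynomial.ringHom_ext (fun r => ?_) fun i => ?_) ?_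
    · simp [shiftHom, lineSub, MvPolynomial.algebraMap_eq]
    · simp [shiftHom, lineSub, MvPolynomial.algebraMap_eq]
    · simp [shiftHom]
  exact congr($h f)

/-- The shift as an automorphism. -/
noncomputable def shiftEquiv (b : Fin m → k) :
    (MvPolynomial (Fin m) k)[X] ≃+* (MvPolynomial (Fin m) k)[X] :=
  RingEquiv.ofRingHom (shiftHom b) (shiftHom fun i => - b i)
    (RingHom.ext fun f => by
      have := shiftHom_comp (fun i => - b i) f
      simpa using this)
    (RingHom.ext fun f => shiftHom_comp b f)

theorem shiftEquiv_C (b : Fin m → k) (P : MvPolynomial (Fin m) k) :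
    shiftEquiv b (Polynomial.C P) = lineSub (fun i => MvPolynomial.X i) b P := by
  simp [shiftEquiv, shiftHom]

/-- The witness function. -/
noncomputable def wit (d : ℕ) (a b : Fin m → k) (F : MvPolynomial (Fin m) k) : k :=
  (lineSub a b F).coeff d * (lineSub a b F).resultant (derivative (lineSub a b F)) d (d - 1)

theorem squarefree_of_coprime {d : ℕ} {F : MvPolynomial (Fin m) k} (hF : F.IsHomogeneous d) (a b : Fin m → k)
    (hc : (lineSub a b F).coeff d ≠ 0) (h : IsCoprime (lineSub a b F) (derivative (lineSub a b F))) :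
    Squarefree F := by
  intro G hG
  have hF0 : F ≠ 0 := fun h0 => hc (by simp [h0])
  obtain ⟨H, rfl⟩ := hG
  have hG0 : G ≠ 0 := fun h0 => hF0 (by simp [h0])
  have hH0 : H ≠ 0 := fun h0 => hF0 (by simp [h0])
  have hu : IsUnit (lineSub a b G) :=
    (Polynomial.Separable.squarefree h) _ ⟨lineSub a b H, by rw [map_mul, map_mul]⟩
  have hdeg := MvPolynomial.totalDegree_mul_of_isDomain (mul_ne_zero hG0 hG0) hH0
  rw [MvPolynomial.totalDegree_mul_of_isDomain hG0 hG0, hF.totalDegree hF0] at hdeg
  have h1 : d ≤ (lineSub a b H).natDegree := by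
    have h2 := Polynomial.le_natDegree_of_ne_zero hc
    rw [map_mul, map_mul] at h2
    have h3 : (lineSub a b G * lineSub a b G).natDegree = 0 :=
      Polynomial.natDegree_eq_zero_of_isUnit (hu.mul hu)
    exact h2.trans (Polynomial.natDegree_mul_le.trans (by omega))
  have h4 := h1.trans (natDegree_lineSub_le a b H)
  have hG' : G.totalDegree = 0 := by omega
  rw [MvPolynomial.totalDegree_eq_zero_iff_eq_C.mp hG'] at hG0 ⊢
  exact (isUnit_iff_ne_zero.mpr fun h0 => hG0 (by rw [h0, map_zero])).map MvPolynomial.C

theorem squarefree_of_wit_ne_zero {d : ℕ} (hd : 1 ≤ d) {F : MvPolynomial (Fin m) k} (hF : F.IsHomogeneous d)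
    (a b : Fin m → k) (h : wit d a b F ≠ 0) : Squarefree F := by
  obtain ⟨hc, hr⟩ := mul_ne_zero_iff.mp h
  have hP : (lineSub a b F).natDegree ≤ d :=
    (natDegree_lineSub_le a b F).trans (MvPolynomial.IsHomogeneous.totalDegree_le hF)
  obtain ⟨A, B, -, -, hAB⟩ := Polynomial.exists_mul_add_mul_eq_C_resultant (lineSub a b F)
    (derivative (lineSub a b F)) (m := d) (n := d - 1) hP
    ((Polynomial.natDegree_derivative_le _).trans (by omega)) (Or.inl (by omega))
  set r := (lineSub a b F).resultant (derivative (lineSub a b F)) d (d - 1) with hr'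
  refine squarefree_of_coprime hF a b hc ⟨A * Polynomial.C r⁻¹, B * Polynomial.C r⁻¹, ?_⟩
  calc A * Polynomial.C r⁻¹ * lineSub a b F + B * Polynomial.C r⁻¹ * derivative (lineSub a b F)
      = (lineSub a b F * A + derivative (lineSub a b F) * B) * Polynomial.C r⁻¹ := by ring
    _ = 1 := by rw [hAB, ← Polynomial.C_mul, mul_inv_cancel₀ hr, Polynomial.C_1]

theorem exists_wit_ne_zero [IsAlgClosed k] {d : ℕ} (hd : 1 ≤ d) {F : MvPolynomial (Fin m) k}
    (hF : F.IsHomogeneous d) (hsq : Squarefree F) : ∃ a b, wit d a b F ≠ 0 := by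
  classical
  let R := MvPolynomial (Fin m) k
  have hF0 : F ≠ 0 := hsq.ne_zero
  letI : NormalizationMonoid R := UniqueFactorizationMonoid.strongNormalizationMonoid.toNormalizationMonoid
  let fs := UniqueFactorizationMonoid.normalizedFactors F
  have hnd : fs.Nodup := (UniqueFactorizationMonoid.squarefree_iff_nodup_normalizedFactors hF0).mp hsq
  have hirr : ∀ P ∈ fs.toFinset, Irreducible P := fun P hP =>
    UniqueFactorizationMonoid.irreducible_of_normalized_factor P (Multiset.mem_toFinset.mp hP)
  have : ∀ P ∈ fs.toFinset, ∃ (s : Fin m →₀ ℕ) (i : Fin m), (MvPolynomial.pderiv i P).coeff s ≠ 0 := fun P hP => by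
    obtain ⟨i, hi⟩ := exists_pderiv_ne_zero (hirr P hP)
    obtain ⟨s, hs⟩ := MvPolynomial.ne_zero_iff.mp hi
    exact ⟨s, i, hs⟩
  choose! s hs using this
  let ℓ : R → R := fun P => ∑ j, MvPolynomial.C ((MvPolynomial.pderiv j P).coeff (s P)) * MvPolynomial.X j
  have hℓ : ∀ P ∈ fs.toFinset, ℓ P ≠ 0 := fun P hP h0 => (hs P hP).elim fun i hi => hi (by
    have := congrArg (MvPolynomial.eval (Pi.single i 1)) h0
    simpa [ℓ, Pi.single_apply] using this)
  obtain ⟨b, hb⟩ : ∃ b, MvPolynomial.eval b (F * ∏ P ∈ fs.toFinset, ℓ P) ≠ 0 := by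
    by_contra! h0
    exact mul_ne_zero hF0 (Finset.prod_ne_zero_iff.mpr hℓ) (MvPolynomial.funext fun b => by rw [h0, map_zero])
  rw [map_mul, mul_ne_zero_iff, map_prod, Finset.prod_ne_zero_iff] at hb
  obtain ⟨hFb, hb⟩ := hb
  let L := lineSub (fun j => (MvPolynomial.X j : R)) b
  have hdne : ∀ P ∈ fs.toFinset, derivative (L P) ≠ 0 := fun P hP h0 => hb P hP (by
    have h1 := derivative_coeff_zero b P
    rw [show derivative (lineSub (fun j => (MvPolynomial.X j : R)) b P) = 0 from h0, Polynomial.coeff_zero] at h1
    have h2 := congrArg (MvPolynomial.coeff (s P)) h1.symm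
    rw [MvPolynomial.coeff_sum, MvPolynomial.coeff_zero] at h2
    simp only [ℓ, map_sum, map_mul, MvPolynomial.eval_C, MvPolynomial.eval_X]
    rw [← h2]
    exact Finset.sum_congr rfl fun j _ => by rw [MvPolynomial.coeff_C_mul, mul_comm])
  have hLdeg : (L F).natDegree ≤ d :=
    (natDegree_lineSub_le _ _ F).trans (MvPolynomial.IsHomogeneous.totalDegree_le hF)
  have hLc : (L F).coeff d = MvPolynomial.C (MvPolynomial.eval b F) :=
    (coeff_lineSub _ _ hF).trans (by rw [MvPolynomial.algebraMap_eq])
  have hCne : (L F).coeff d ≠ 0 := by rw [hLc]; exact fun h0 => hFb (MvPolynomial.C_eq_zero.mp h0)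
  have hLd : (L F).natDegree = d := le_antisymm hLdeg (Polynomial.le_natDegree_of_ne_zero hCne)
  have hlead : IsUnit (L F).leadingCoeff := by
    rw [Polynomial.leadingCoeff, hLd, hLc]
    exact (isUnit_iff_ne_zero.mpr hFb).map MvPolynomial.C
  obtain ⟨c, hc⟩ := UniqueFactorizationMonoid.prod_normalizedFactors (a := F) hF0
  have hprodmem : ∀ P ∈ fs.toFinset, IsUnit (L P).leadingCoeff := fun P hP => by
    obtain ⟨Q, hQ⟩ : P ∣ F :=
      UniqueFactorizationMonoid.dvd_of_mem_normalizedFactors (Multiset.mem_toFinset.mp hP)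
    rw [hQ, map_mul, Polynomial.leadingCoeff_mul] at hlead
    exact isUnit_of_mul_isUnit_left hlead
  let K := FractionRing R
  let ι : R →+* K := algebraMap R K
  have hι : Function.Injective ι := IsFractionRing.injective R K
  have hprim : ∀ P ∈ fs.toFinset, (L P).IsPrimitive := fun P hP r hr =>
    isUnit_of_dvd_unit ((Polynomial.C_dvd_iff_dvd_coeff r _).mp hr _) (hprodmem P hP)
  have hLirr : ∀ P ∈ fs.toFinset, Irreducible ((L P).map ι) := fun P hP => by
    rw [← Polynomial.IsPrimitive.irreducible_iff_irreducible_map_fraction_map (hprim P hP)]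
    have h1 : Prime (Polynomial.C P) := Polynomial.prime_C_iff.mpr (hirr P hP).prime
    have h2 : Prime (shiftEquiv b (Polynomial.C P)) :=
      (MulEquiv.prime_iff (shiftEquiv b).toMulEquiv).mpr h1
    rw [shiftEquiv_C] at h2
    exact h2.irreducible
  have hcop : ∀ P ∈ fs.toFinset, ∀ Q ∈ fs.toFinset, P ≠ Q → IsCoprime ((L P).map ι) ((L Q).map ι) := by
    intro P hP Q hQ hne
    refine (hLirr P hP).coprime_iff_not_dvd.mpr fun hdvd => hne ?_
    rw [← Polynomial.IsPrimitive.dvd_iff_fraction_map_dvd_fraction_map K (hprim P hP)] at hdvd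
    have h2 : Polynomial.C P ∣ Polynomial.C Q := by
      rw [show L P = shiftEquiv b (Polynomial.C P) from (shiftEquiv_C b P).symm,
        show L Q = shiftEquiv b (Polynomial.C Q) from (shiftEquiv_C b Q).symm] at hdvd
      exact (map_dvd_iff (shiftEquiv b)).mp hdvd
    have h3 : P ∣ Q := by simpa using (Polynomial.C_dvd_iff_dvd_coeff P _).mp h2 0
    have hP' := Multiset.mem_toFinset.mp hP
    have hQ' := Multiset.mem_toFinset.mp hQ
    rw [← UniqueFactorizationMonoid.normalize_normalized_factor P hP',
      ← UniqueFactorizationMonoid.normalize_normalized_factor Q hQ']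
    exact normalize_eq_normalize_iff_associated.mpr ((hirr P hP).associated_of_dvd (hirr Q hQ) h3)
  have hsep : ((L F).map ι).Separable := by
    have hprod : (∏ P ∈ fs.toFinset, (L P).map ι).Separable :=
      Polynomial.separable_prod' hcop fun P hP => by
        rw [Polynomial.separable_iff_derivative_ne_zero (hLirr P hP), Polynomial.derivative_map]
        exact fun h0 => hdne P hP (Polynomial.map_injective ι hι (by rw [h0, Polynomial.map_zero]))
    have e : ∏ P ∈ fs.toFinset, P = fs.prod := by
      rw [Finset.prod_eq_multiset_prod, Multiset.toFinset_val, Multiset.dedup_eq_self.mpr hnd, Multiset.map_id']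
    rw [← hc, map_mul, ← e, map_prod, Polynomial.map_mul, Polynomial.map_prod]
    exact hprod.mul_unit ((c.isUnit.map L).map (Polynomial.mapRingHom ι))
  let r := (L F).resultant (derivative (L F)) d (d - 1)
  have hr : r ≠ 0 := fun h0 => by
    have hm : ((L F).map ι).natDegree = d := by rw [Polynomial.natDegree_map_eq_of_injective hι, hLd]
    have hn : (derivative ((L F).map ι)).natDegree ≤ d - 1 :=
      (Polynomial.natDegree_derivative_le _).trans (by omega)
    obtain ⟨j, hj⟩ := Nat.exists_eq_add_of_le hn
    have h1 := Polynomial.resultant_add_right_deg ((L F).map ι) (derivative ((L F).map ι)) d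
      (derivative ((L F).map ι)).natDegree j le_rfl
    have h2 : ((L F).map ι).resultant (derivative ((L F).map ι)) d (d - 1) = 0 := by
      rw [Polynomial.derivative_map, Polynomial.resultant_map_map]
      show ι r = 0
      rw [h0, map_zero]
    rw [← hj, h2] at h1
    have h3 : ((L F).map ι).resultant (derivative ((L F).map ι)) ≠ 0 := Polynomial.resultant_ne_zero _ _ hsep
    rw [hm] at h3
    have h4 : ((L F).map ι).coeff d ≠ 0 := by
      rw [Polynomial.coeff_map]; exact (map_ne_zero_iff ι hι).mpr hCne
    exact mul_ne_zero (pow_ne_zero _ h4) h3 h1.symm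
  obtain ⟨a, ha⟩ : ∃ a, MvPolynomial.eval a r ≠ 0 := by
    by_contra! h0
    exact hr (MvPolynomial.funext fun a => by rw [h0, map_zero])
  refine ⟨a, b, mul_ne_zero ?_ ?_⟩
  · rw [coeff_lineSub _ _ hF]; simpa using hFb
  · have h1 : (L F).map (MvPolynomial.aeval a : R →ₐ[k] k).toRingHom = lineSub a b F := by
      rw [map_lineSub]; simp
    rw [← h1, Polynomial.derivative_map, Polynomial.resultant_map_map]
    simpa [MvPolynomial.aeval_eq_eval] using ha

theorem isPolyFun_wit {n d : ℕ} (a b : Fin (n + 1) → k) :
    LefPen.IsPolyFun k fun F : LefPen.Form n k d => wit d a b F.1 := by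
  let A : Subalgebra k (LefPen.Form n k d → k) :=
    Algebra.adjoin k (Set.range (fun l : Module.Dual k (LefPen.Form n k d) => (l : LefPen.Form n k d → k)))
  let co : ℕ → Module.Dual k (LefPen.Form n k d) := fun e =>
    (Polynomial.lcoeff k e).comp ((lineSub a b).toLinearMap.comp (CohB1.polyGrading n k d).subtype)
  let co' : ℕ → Module.Dual k (LefPen.Form n k d) := fun e =>
    (Polynomial.lcoeff k e).comp ((Polynomial.derivative (R := k)).comp
      ((lineSub a b).toLinearMap.comp (CohB1.polyGrading n k d).subtype))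
  have hl : ∀ l : Module.Dual k (LefPen.Form n k d), (l : LefPen.Form n k d → k) ∈ A := fun l =>
    Algebra.subset_adjoin ⟨l, rfl⟩
  let M : Matrix (Fin (d + (d - 1))) (Fin (d + (d - 1))) A := Matrix.of fun i j =>
    ⟨fun F => Polynomial.sylvester (lineSub a b F.1) (derivative (lineSub a b F.1)) d (d - 1) i j, by
      induction j using Fin.addCases with
      | left j =>
        simp only [Polynomial.sylvester, Matrix.of_apply, Fin.addCases_left]
        split_ifs
        · exact hl (co' _)
        · exact A.zero_mem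
      | right j =>
        simp only [Polynomial.sylvester, Matrix.of_apply, Fin.addCases_right]
        split_ifs
        · exact hl (co _)
        · exact A.zero_mem⟩
  have e : (fun F : LefPen.Form n k d => wit d a b F.1) =
      (fun F => co d F) * (M.det : LefPen.Form n k d → k) := by
    funext F
    rw [Pi.mul_apply]
    show _ * _ = _ * (Pi.evalRingHom (fun _ : LefPen.Form n k d => k) F).comp A.val.toRingHom M.det
    rw [RingHom.map_det]
    rfl
  show _ ∈ A
  rw [e]
  exact A.mul_mem (hl _) M.det.2

end helpers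

/-- Over an algebraically closed field k, let n ≥ 1 and d ≥ 1. In the vector space of degree-d forms in
n + 1 variables, the forms F that are squarefree (equivalently, nonzero with (F) a radical ideal:
the reduced hypersurfaces of degree d in P^n) form a Zariski-open subset, and this subset is
nonempty. (The published statement allows projective space of every dimension n; for n = 0 and d ≥ 2
there is no squarefree form of degree d, so this row assumes n ≥ 1.) -/
theorem result (k : Type u) [Field k] [IsAlgClosed k]
    (n d : ℕ) (hn : 1 ≤ n) (hd : 1 ≤ d) :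
    LefPen.IsZOpen k {F : LefPen.Form n k d | Squarefree F.1} ∧
      ({F : LefPen.Form n k d | Squarefree F.1}).Nonempty := by
  classical
  have hhom : ∀ F : LefPen.Form n k d, (F.1).IsHomogeneous d := fun F =>
    (MvPolynomial.mem_homogeneousSubmodule d _).mp F.2
  refine ⟨fun F hF => ?_, ?_⟩
  · obtain ⟨a, b, hab⟩ := exists_wit_ne_zero hd (hhom F) hF
    exact ⟨_, isPolyFun_wit a b, hab, fun G hG => squarefree_of_wit_ne_zero hd (hhom G) a b hG⟩
  · let c : Fin d → k := fun j => Infinite.natEmbedding k j
    have hc : Function.Injective c := fun i j h => Fin.ext ((Infinite.natEmbedding k).injective h)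
    let i1 : Fin (n + 1) := ⟨1, by omega⟩
    have hne : i1 ≠ 0 := fun h => by simpa [i1] using congrArg Fin.val h
    let F : MvPolynomial (Fin (n + 1)) k := ∏ j, (MvPolynomial.X 0 - MvPolynomial.C (c j) * MvPolynomial.X i1)
    have hF : F.IsHomogeneous d := by
      have := MvPolynomial.IsHomogeneous.prod (Finset.univ : Finset (Fin d))
        (fun j => MvPolynomial.X (0 : Fin (n + 1)) - MvPolynomial.C (c j) * MvPolynomial.X i1) (fun _ => 1)
        fun j _ => (MvPolynomial.isHomogeneous_X k _).sub (MvPolynomial.IsHomogeneous.C_mul (MvPolynomial.isHomogeneous_X k _) _)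
      simpa using this
    refine ⟨⟨F, (MvPolynomial.mem_homogeneousSubmodule d _).mpr hF⟩, ?_⟩
    let a : Fin (n + 1) → k := Pi.single i1 1
    let b : Fin (n + 1) → k := Pi.single 0 1
    have hL : lineSub a b F = ∏ j, (Polynomial.X - Polynomial.C (c j)) := by
      rw [map_prod]
      refine Finset.prod_congr rfl fun j _ => ?_
      rw [map_sub, map_mul, lineSub_X, lineSub_X, ← MvPolynomial.algebraMap_eq, AlgHom.commutes,
        Polynomial.algebraMap_apply]
      simp [a, b, Pi.single_apply, hne, Ne.symm hne]
    refine squarefree_of_coprime hF a b ?_ ?_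
    · rw [hL]
      have h1 := Polynomial.monic_prod_X_sub_C c Finset.univ
      have h2 : (∏ j, (Polynomial.X - Polynomial.C (c j))).natDegree = d := by
        rw [Polynomial.natDegree_finset_prod_X_sub_C_eq_card, Finset.card_univ, Fintype.card_fin]
      intro h0
      have h3 := h1.coeff_natDegree
      rw [h2, h0] at h3
      exact zero_ne_one h3
    · rw [hL]
      exact Polynomial.separable_prod_X_sub_C_iff.mpr hc

end Groth.Agent.S14376
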