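import Groth.Statements.S14377
import Groth.Agent.H8Props.FieldDimHeight
import Mathlib.RingTheory.Nullstellensatz
import Mathlib.LinearAlgebra.Matrix.MvPolynomial
import Mathlib.LinearAlgebra.Matrix.Charpoly.Coeff
import Mathlib.LinearAlgebra.Matrix.Charpoly.Basic
import Mathlib.RingTheory.Ideal.KrullsHeightTheorem
import Mathlib.Algebra.MvPolynomial.Funext
import Mathlib.LinearAlgebra.Basis.Fin
import Mathlib.LinearAlgebra.Matrix.Basis
import Mathlib.LinearAlgebra.Matrix.NonsingularInverse

set_option autoImplicit false
universe u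
open Variety

namespace Groth.Agent.S14377

/-- Over an algebraically closed field k, let n ≥ 1 and let I be the ideal of the polynomial ring
k[x_ij] in the n² entries of the generic n × n matrix generated by the coefficients of t^0, …,
t^(n−1) in its characteristic polynomial, so that the zero locus of I in the affine space of n × n
matrices is the set of nilpotent matrices. Then the spectrum of k[x_ij]/I is irreducible and
k[x_ij]/I has Krull dimension n² − n: the nilpotent matrices form an irreducible closed subvariety
of dimension n² − n of the space of all n × n matrices. -/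
theorem result (k : Type u) [Field k] [IsAlgClosed k]
    (n : ℕ) (hn : 1 ≤ n) (I : Ideal (MvPolynomial (Fin n × Fin n) k))
    (hI : I = Ideal.span (Set.range (fun i : Fin n =>
      (Matrix.charpoly (Matrix.mvPolynomialX (Fin n) (Fin n) k)).coeff (i : ℕ)))) :
    IrreducibleSpace (PrimeSpectrum (MvPolynomial (Fin n × Fin n) k ⧸ I)) ∧
      ringKrullDim (MvPolynomial (Fin n × Fin n) k ⧸ I) = ((n ^ 2 - n : ℕ) : WithBot ℕ∞) := by
  classical
  have hco : ∀ (x : Fin n × Fin n → k) (i : ℕ),
      MvPolynomial.aeval x ((Matrix.charpoly (Matrix.mvPolynomialX (Fin n) (Fin n) k)).coeff i) =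
        (Matrix.of fun a b => x (a, b)).charpoly.coeff i := by
    intro x i
    have h := Matrix.charpoly_map (Matrix.mvPolynomialX (Fin n) (Fin n) k)
      (MvPolynomial.aeval x : MvPolynomial (Fin n × Fin n) k →ₐ[k] k).toRingHom
    rw [show (Matrix.mvPolynomialX (Fin n) (Fin n) k).map
      (MvPolynomial.aeval x : MvPolynomial (Fin n × Fin n) k →ₐ[k] k).toRingHom =
      Matrix.of fun a b => x (a, b) from by ext a b; simp] at h
    rw [h, Polynomial.coeff_map]
    rfl
  have hZ : ∀ x : Fin n × Fin n → k, x ∈ MvPolynomial.zeroLocus k I ↔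
      (Matrix.of fun a b => x (a, b)).charpoly = Polynomial.X ^ n := by
    intro x
    rw [hI, MvPolynomial.zeroLocus_span]
    constructor
    · intro h
      ext i
      rw [Polynomial.coeff_X_pow]
      rcases lt_trichotomy i n with hi | rfl | hi
      · rw [if_neg hi.ne, ← hco]
        exact h _ ⟨⟨i, hi⟩, rfl⟩
      · rw [if_pos rfl]
        have h1 := (Matrix.charpoly_monic (Matrix.of fun a b => x (a, b))).coeff_natDegree
        rwa [Matrix.charpoly_natDegree_eq_dim, Fintype.card_fin] at h1
      · rw [if_neg hi.ne', Polynomial.coeff_eq_zero_of_natDegree_lt]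
        rw [Matrix.charpoly_natDegree_eq_dim, Fintype.card_fin]
        exact hi
    · rintro h _ ⟨i, rfl⟩
      rw [hco, h, Polynomial.coeff_X_pow, if_neg (ne_of_lt i.2)]
  -- the parametrization
  let σ := (Fin n × Fin n) ⊕ (Fin n × Fin n)
  let G : Matrix (Fin n) (Fin n) (MvPolynomial σ k) := Matrix.of fun a b => MvPolynomial.X (Sum.inl (a, b))
  let U : Matrix (Fin n) (Fin n) (MvPolynomial σ k) :=
    Matrix.of fun a b => if a < b then MvPolynomial.X (Sum.inr (a, b)) else 0
  let Φ : MvPolynomial (Fin n × Fin n) k →ₐ[k] MvPolynomial σ k :=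
    MvPolynomial.aeval fun p => (G * U * G.adjugate) p.1 p.2
  let par : (σ → k) → Fin n × Fin n → k := fun y p => MvPolynomial.aeval y ((G * U * G.adjugate) p.1 p.2)
  have hΦ : ∀ y f, MvPolynomial.aeval y (Φ f) = MvPolynomial.aeval (par y) f := by
    intro y f
    refine AlgHom.congr_fun (φ₁ := (MvPolynomial.aeval y).comp Φ) (φ₂ := MvPolynomial.aeval (par y)) ?_ f
    refine MvPolynomial.algHom_ext fun p => ?_
    simp [Φ, par]
  let gm : (σ → k) → Matrix (Fin n) (Fin n) k := fun y => Matrix.of fun a b => y (Sum.inl (a, b))
  let um : (σ → k) → Matrix (Fin n) (Fin n) k :=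
    fun y => Matrix.of fun a b => if a < b then y (Sum.inr (a, b)) else 0
  have hpar : ∀ y, (Matrix.of fun a b => par y (a, b)) = gm y * um y * (gm y).adjugate := by
    intro y
    have hg : (MvPolynomial.aeval y : MvPolynomial σ k →ₐ[k] k).mapMatrix G = gm y := by
      ext a b; simp [G, gm]
    have hu : (MvPolynomial.aeval y : MvPolynomial σ k →ₐ[k] k).mapMatrix U = um y := by
      ext a b
      simp only [U, um, AlgHom.mapMatrix_apply, Matrix.map_apply, Matrix.of_apply]
      split_ifs <;> simp
    rw [← hg, ← hu, ← AlgHom.map_adjugate, ← map_mul, ← map_mul]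
    rfl
  -- every nilpotent matrix is triangularizable
  have htri : ∀ (m : ℕ) (V : Type u) [AddCommGroup V] [Module k V] (f : V →ₗ[k] V),
      FiniteDimensional k V → Module.finrank k V = m → IsNilpotent f →
      ∃ b : Module.Basis (Fin m) k V, ∀ j, f (b j) ∈ Submodule.span k (b '' {i | i < j}) := by
    intro m
    induction m with
    | zero =>
      intro V _ _ f _ hm _
      exact ⟨Module.finBasisOfFinrankEq k V hm, fun j => j.elim0⟩
    | succ m ih =>
      intro V _ _ f hV hm hf
      haveI : Nontrivial V := Module.nontrivial_of_finrank_eq_succ hm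
      have hne : LinearMap.range f ≠ ⊤ := fun htop => by
        obtain ⟨r, hr⟩ := hf
        have h1 : Function.Surjective ((f ^ r : Module.End k V) : V → V) := by
          rw [Module.End.coe_pow]
          exact (LinearMap.range_eq_top.1 htop).iterate r
        obtain ⟨v, hv⟩ := exists_ne (0 : V)
        obtain ⟨w, hw⟩ := h1 v
        exact hv (by rw [← hw, hr, LinearMap.zero_apply])
      obtain ⟨φ, hφ, hφ'⟩ := Submodule.exists_le_ker_of_lt_top _ (lt_top_iff_ne_top.2 hne)
      let W := LinearMap.ker φ
      have hWf : ∀ v ∈ W, f v ∈ W := fun v _ => hφ' ⟨v, rfl⟩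
      have hW : Module.finrank k W = m := by
        have h1 := Module.Dual.finrank_ker_add_one_of_ne_zero hφ
        change Module.finrank k W + 1 = _ at h1
        omega
      obtain ⟨v, hv⟩ : ∃ v, φ v ≠ 0 := by
        by_contra! h
        exact hφ (LinearMap.ext h)
      obtain ⟨b, hb⟩ := ih W (f.restrict hWf) inferInstance hW (Module.End.isNilpotent.restrict hWf hf)
      let B := Module.Basis.mkFinSnoc b v
        (fun c x hx hcx => by
          have h1 := congrArg φ hcx
          rw [map_add, map_smul, LinearMap.mem_ker.1 hx, add_zero, map_zero, smul_eq_mul] at h1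
          exact (mul_eq_zero.1 h1).resolve_right hv)
        (fun z => ⟨-(φ z / φ v), LinearMap.mem_ker.2 (by
          rw [map_add, map_smul, smul_eq_mul, neg_mul, div_mul_cancel₀ _ hv, add_neg_cancel])⟩)
      have hB : ∀ i, B (Fin.castSucc i) = (b i : V) := fun i => by simp [B]
      refine ⟨B, fun j => ?_⟩
      induction j using Fin.lastCases with
      | last =>
        have h1 : (⟨f (B (Fin.last m)), hφ' ⟨_, rfl⟩⟩ : W) ∈ Submodule.span k (Set.range b) := by
          rw [b.span_eq]; trivial
        have h2 := Submodule.mem_map_of_mem (f := W.subtype) h1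
        rw [Submodule.map_span] at h2
        refine Submodule.span_mono ?_ h2
        rintro _ ⟨_, ⟨i, rfl⟩, rfl⟩
        exact ⟨i.castSucc, Fin.castSucc_lt_last i, hB i⟩
      | cast j =>
        have h2 := Submodule.mem_map_of_mem (f := W.subtype) (hb j)
        rw [Submodule.map_span] at h2
        rw [hB]
        refine Submodule.span_mono ?_ h2
        rintro _ ⟨_, ⟨i, hi, rfl⟩, rfl⟩
        exact ⟨i.castSucc, Fin.castSucc_lt_castSucc_iff.2 hi, hB i⟩
  have hrad : I.radical = RingHom.ker Φ.toRingHom := by
    rw [← MvPolynomial.vanishingIdeal_zeroLocus_eq_radical (K := k)]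
    ext f
    rw [MvPolynomial.mem_vanishingIdeal_iff, RingHom.mem_ker]
    constructor
    · intro h
      refine MvPolynomial.funext fun y => ?_
      rw [map_zero]
      change MvPolynomial.eval y (Φ f) = 0
      rw [← MvPolynomial.coe_aeval_eq_eval]
      change MvPolynomial.aeval y (Φ f) = 0
      rw [hΦ]
      refine h _ ((hZ _).2 ?_)
      rw [hpar, mul_assoc, Matrix.charpoly_mul_comm, mul_assoc, Matrix.adjugate_mul, Matrix.mul_smul,
        mul_one, Matrix.charpoly_of_upperTriangular]
      · simp [um]
      · intro a b hab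
        have hab' : b < a := hab
        simp [um, not_lt.2 (le_of_lt hab')]
    · intro h x hx
      let A : Matrix (Fin n) (Fin n) k := Matrix.of fun a b => x (a, b)
      have hA : IsNilpotent (Matrix.toLin' A) := by
        refine ⟨n, ?_⟩
        rw [← Matrix.toLin'_pow]
        have := Matrix.aeval_self_charpoly A
        rw [(hZ x).1 hx, map_pow, Polynomial.aeval_X] at this
        rw [this, map_zero]
      obtain ⟨b, hb⟩ := htri n (Fin n → k) (Matrix.toLin' A) inferInstance (by simp) hA
      let g := (Pi.basisFun k (Fin n)).toMatrix b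
      let N := LinearMap.toMatrix b b (Matrix.toLin' A)
      have hN : ∀ a c : Fin n, ¬ a < c → N a c = 0 := fun a c hac => by
        change LinearMap.toMatrix b b (Matrix.toLin' A) a c = 0
        rw [LinearMap.toMatrix_apply]
        by_contra hne
        exact hac (b.repr_support_subset_of_mem_span _ (hb c) (Finsupp.mem_support_iff.2 hne))
      have hgN : g * N * b.toMatrix (Pi.basisFun k (Fin n)) = A := by
        rw [basis_toMatrix_mul_linearMap_toMatrix_mul_basis_toMatrix, LinearMap.toMatrix_eq_toMatrix']
        exact LinearMap.toMatrix'_toLin' A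
      have hgi : g * b.toMatrix (Pi.basisFun k (Fin n)) = 1 := Module.Basis.toMatrix_mul_toMatrix_flip _ _
      have hdet : g.det ≠ 0 := fun h0 => by
        have := congrArg Matrix.det hgi
        rw [Matrix.det_mul, h0, zero_mul, Matrix.det_one] at this
        exact zero_ne_one this
      have hinv : b.toMatrix (Pi.basisFun k (Fin n)) = g.det⁻¹ • g.adjugate := by
        rw [← Matrix.inv_eq_right_inv hgi, Matrix.inv_def, Ring.inverse_eq_inv']
      let y : σ → k := Sum.elim (fun p => g p.1 p.2) (fun p => g.det⁻¹ * N p.1 p.2)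
      have hy : (Matrix.of fun a b => par y (a, b)) = A := by
        have e1 : gm y = g := by ext a c; simp [gm, y]
        have e2 : um y = g.det⁻¹ • N := by
          ext a c
          simp only [um, y, Matrix.of_apply, Sum.elim_inr, Matrix.smul_apply, smul_eq_mul]
          split_ifs with hac
          · rfl
          · rw [hN a c hac, mul_zero]
        rw [hpar, e1, e2, ← hgN, hinv, Matrix.mul_smul, Matrix.smul_mul, Matrix.mul_smul]
      have hxy : x = par y := funext fun p => (congrFun (congrFun hy p.1) p.2).symm
      rw [hxy, ← hΦ]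
      change MvPolynomial.aeval y (Φ.toRingHom f) = 0
      rw [h, map_zero]
  have hJp : I.radical.IsPrime := hrad ▸ RingHom.ker_isPrime _
  haveI := hJp
  let J := I.radical
  refine ⟨?_, ?_⟩
  · rw [PrimeSpectrum.irreducibleSpace_iff_isPrime_nilradical]
    have e : nilradical (MvPolynomial (Fin n × Fin n) k ⧸ I) = Ideal.map (Ideal.Quotient.mk I) J := by
      rw [nilradical, Ideal.map_radical_of_surjective Ideal.Quotient.mk_surjective (by rw [Ideal.mk_ker]),
        Ideal.map_quotient_self]
      rfl
    rw [e]
    exact Ideal.map_isPrime_of_surjective Ideal.Quotient.mk_surjective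
      (by rw [Ideal.mk_ker]; exact Ideal.le_radical)
  · have hdim : ringKrullDim (MvPolynomial (Fin n × Fin n) k ⧸ I) =
        ringKrullDim (MvPolynomial (Fin n × Fin n) k ⧸ J) := by
      rw [ringKrullDim_quotient, ringKrullDim_quotient, PrimeSpectrum.zeroLocus_radical]
    rw [hdim]
    obtain ⟨d, hd, -⟩ := Groth.Agent.H8Props.FieldDim.exists_dim_trdeg k
      (MvPolynomial (Fin n × Fin n) k ⧸ J)
    have htot := Groth.Agent.H8Props.FieldDim.height_add_dim_quotient k (MvPolynomial (Fin n × Fin n) k) J
    rw [hd, MvPolynomial.ringKrullDim_of_isNoetherianRing, ringKrullDim_eq_zero_of_field, zero_add,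
      Nat.card_prod, Nat.card_fin] at htot
    have hh : J.height ≤ (n : ℕ∞) := by
      have h1 : J ∈ I.minimalPrimes := ⟨⟨inferInstance, Ideal.le_radical⟩, fun q hq _ =>
        hq.1.radical_le_iff.2 hq.2⟩
      refine (Ideal.height_le_card_of_mem_minimalPrimes_span (Set.finite_range _) (hI ▸ h1)).trans ?_
      exact_mod_cast (Nat.card_coe_set_eq _).symm.trans_le ((Finite.card_range_le _).trans (by simp))
    -- slicing by the off-diagonal entries
    let off : Finset (Fin n × Fin n) := Finset.univ.filter fun p => p.1 ≠ p.2
    have hoff : off.card = n ^ 2 - n := by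
      rw [show off = Finset.univ.offDiag from by ext p; simp [off], Finset.offDiag_card, Finset.card_univ,
        Fintype.card_fin, sq]
    let qm := Ideal.Quotient.mk J
    let m₀ : Ideal (MvPolynomial (Fin n × Fin n) k) := MvPolynomial.vanishingIdeal k {(0 : Fin n × Fin n → k)}
    let Soff : Set (MvPolynomial (Fin n × Fin n) k) := MvPolynomial.X '' (off : Set (Fin n × Fin n))
    have hm0 : m₀.IsMaximal := inferInstanceAs (MvPolynomial.vanishingIdeal k {(0 : Fin n × Fin n → k)}).IsMaximal
    have hrad0 : (I ⊔ Ideal.span Soff).radical = m₀ := by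
      rw [← MvPolynomial.vanishingIdeal_zeroLocus_eq_radical (K := k)]
      congr 1
      ext x
      rw [Set.mem_singleton_iff]
      constructor
      · intro hx
        have hxI : x ∈ MvPolynomial.zeroLocus k I := MvPolynomial.zeroLocus_anti_mono le_sup_left hx
        have hdiag : (Matrix.of fun a b => x (a, b)) = Matrix.diagonal fun a => x (a, a) := by
          ext a b
          rcases eq_or_ne a b with rfl | hab
          · simp
          · rw [Matrix.diagonal_apply_ne _ hab]
            have := hx (MvPolynomial.X (a, b)) (Ideal.mem_sup_right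
              (Ideal.subset_span ⟨(a, b), by simp [off, hab], rfl⟩))
            simpa using this
        have hpow := Matrix.aeval_self_charpoly (Matrix.of fun a b => x (a, b))
        rw [(hZ x).1 hxI, map_pow, Polynomial.aeval_X, hdiag, Matrix.diagonal_pow] at hpow
        funext p
        obtain ⟨a, b⟩ := p
        rcases eq_or_ne a b with rfl | hab
        · have := congrFun (congrFun hpow a) a
          rw [Matrix.diagonal_apply_eq, Matrix.zero_apply, Pi.pow_apply] at this
          exact eq_zero_of_pow_eq_zero this
        · have := congrFun (congrFun hdiag a) b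
          rwa [Matrix.diagonal_apply_ne _ hab] at this
      · rintro rfl
        have h0 : (Matrix.of fun a b : Fin n => (0 : Fin n × Fin n → k) (a, b)) = 0 := by ext; simp
        have h1 : (0 : Fin n × Fin n → k) ∈ MvPolynomial.zeroLocus k I := (hZ _).2 (by
          rw [h0, Matrix.charpoly_zero, Fintype.card_fin])
        intro f hf
        obtain ⟨u, hu, w, hw, rfl⟩ := Submodule.mem_sup.1 hf
        rw [map_add, h1 u hu, zero_add]
        refine (Ideal.span_le (I := RingHom.ker (MvPolynomial.aeval (0 : Fin n × Fin n → k)).toRingHom)).2 ?_ hw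
        rintro _ ⟨p, _, rfl⟩
        simp [RingHom.mem_ker]
    have hJm : J ≤ m₀ := hrad0 ▸ Ideal.radical_mono le_sup_left
    haveI := hm0
    haveI hqp : (m₀.map qm).IsPrime :=
      Ideal.map_isPrime_of_surjective Ideal.Quotient.mk_surjective (by rwa [Ideal.mk_ker])
    have hmin : m₀.map qm ∈ (Ideal.span (qm '' Soff)).minimalPrimes := by
      refine ⟨⟨hqp, ?_⟩, fun q hq _ => ?_⟩
      · rw [← Ideal.map_span]
        exact Ideal.map_mono (le_sup_right.trans (Ideal.le_radical.trans hrad0.le))
      · haveI := hq.1
        rw [Ideal.map_le_iff_le_comap, ← hrad0,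
          (inferInstance : (q.comap qm).IsPrime).radical_le_iff]
        refine sup_le (Ideal.le_radical.trans fun f hf => ?_) ?_
        · rw [Ideal.mem_comap, Ideal.Quotient.eq_zero_iff_mem.2 hf]; exact zero_mem _
        · rw [← Ideal.map_le_iff_le_comap, Ideal.map_span]
          exact hq.2
    have hh' : (m₀.map qm).height ≤ ((n ^ 2 - n : ℕ) : ℕ∞) := by
      refine (Ideal.height_le_card_of_mem_minimalPrimes_span
        ((off.finite_toSet.image _).image _) hmin).trans ?_
      exact Nat.cast_le.2 (((Set.ncard_image_le (off.finite_toSet.image _)).trans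
        (Set.ncard_image_le off.finite_toSet)).trans (by rw [Set.ncard_coe_finset, hoff]))
    have htot' := Groth.Agent.H8Props.FieldDim.height_add_dim_quotient k
      (MvPolynomial (Fin n × Fin n) k ⧸ J) (m₀.map qm)
    haveI : (m₀.map qm).IsMaximal :=
      (Ideal.map_eq_top_or_isMaximal_of_surjective qm Ideal.Quotient.mk_surjective hm0).resolve_left hqp.ne_top
    letI := Ideal.Quotient.field (m₀.map qm)
    rw [hd, ringKrullDim_eq_zero_of_field, add_zero] at htot'
    rw [hd]
    obtain ⟨a, ha⟩ : ∃ a : ℕ, J.height = a := ENat.ne_top_iff_exists.1 (ne_top_of_le_ne_top (ENat.natCast_ne_top n) hh) |>.imp fun _ h => h.symm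
    obtain ⟨c, hc⟩ : ∃ c : ℕ, (m₀.map qm).height = c := ENat.ne_top_iff_exists.1 (ne_top_of_le_ne_top (ENat.natCast_ne_top _) hh') |>.imp fun _ h => h.symm
    rw [ha] at htot hh
    rw [hc] at htot' hh'
    norm_cast at htot htot' hh hh' ⊢
    rw [sq] at hh' ⊢
    omega

end Groth.Agent.S14377
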