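import Groth.Statements.S14378
import Mathlib
import Groth.Agent.H22Alg.FibreCount

set_option autoImplicit false
universe u
open CategoryTheory CategoryTheory.Limits AlgebraicGeometry
open Variety

namespace Groth.Agent.S14378

/-- Let k be an algebraically closed field, X and Y schemes of finite type over k with Y irreducible,
and f : X → Y a k-morphism such that for some natural number d the fibre of f over every closed
point of Y (the subspace of points mapping to it) is irreducible of dimension d. Then (i) exactly
one irreducible component of X has dense image in Y, and (ii) each irreducible component Z of X is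
made up of whole fibres — if Z meets the fibre over a closed point then it contains it — and dim Z =
d + dim f(Z)‾, the dimension of the closure of its image. (The published assertions are for
varieties, i.e. reduced separated schemes; this row assumes neither.) -/
theorem result (k : Type u) [Field k] [IsAlgClosed k]
    {X Y : Scheme.{u}} (qX : X ⟶ Spec (CommRingCat.of k)) (qY : Y ⟶ Spec (CommRingCat.of k))
    [LocallyOfFiniteType qX] [QuasiCompact qX] [LocallyOfFiniteType qY] [QuasiCompact qY]
    (f : X ⟶ Y) (hf : f ≫ qY = qX) [IrreducibleSpace ↥Y] (d : ℕ)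
    (hirr : ∀ y : ↥Y, IsClosed ({y} : Set ↥Y) → IsIrreducible (f.base ⁻¹' {y}))
    (hdim : ∀ y : ↥Y, IsClosed ({y} : Set ↥Y) → topologicalKrullDim ↥(f.base ⁻¹' {y}) = d) :
    (∃! Z : Set ↥X, Z ∈ irreducibleComponents ↥X ∧ Dense (f.base '' Z)) ∧
      ∀ Z ∈ irreducibleComponents ↥X,
        (∀ y : ↥Y, IsClosed ({y} : Set ↥Y) → (f.base ⁻¹' {y} ∩ Z).Nonempty → f.base ⁻¹' {y} ⊆ Z) ∧
        topologicalKrullDim ↥Z = d + topologicalKrullDim ↥(closure (f.base '' Z)) := by
  open Groth.Agent.H8Props.FieldDim Groth.Agent.H22Alg.FibreCount in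
  haveI : LocallyOfFiniteType (f ≫ qY) := hf ▸ inferInstance
  haveI : LocallyOfFiniteType f := locallyOfFiniteType_of_comp f qY
  haveI : QuasiCompact f := by
    haveI : QuasiCompact (f ≫ qY) := hf ▸ inferInstance
    haveI : IsLocallyNoetherian Y := LocallyOfFiniteType.isLocallyNoetherian qY
    exact QuasiCompact.of_comp f qY
  obtain ⟨Z, ⟨hZ, hZd⟩, hZu⟩ := existsUnique_dominant qX qY f hf d hirr hdim
  exact ⟨⟨Z, ⟨hZ, hZd⟩, hZu⟩, fun Z' hZ' =>
    ⟨(component_data qX qY f hf d hirr hdim Z' hZ').1, (component_data qX qY f hf d hirr hdim Z' hZ').2.1⟩⟩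

end Groth.Agent.S14378
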