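import Groth.Statements.S14382
import Groth.Agent.H26EtPull.Basic
import Groth.Agent.S14451
import Groth.Agent.S0071
import Groth.Agent.S0106
import Groth.Agent.H18Et.LC.Wrap
import Groth.Agent.H22Alg.ClopenCount

set_option autoImplicit false
open CategoryTheory CategoryTheory.Limits AlgebraicGeometry Opposite
universe u
open EtCoh

namespace Groth.Agent.S14382

set_option backward.isDefEq.respectTransparency false
set_option backward.isDefEq.respectTransparency.types false
set_option linter.style.haveILetI false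

open scoped Groth.Agent.H18Et

theorem killedBy_iff {X : Scheme.{u}} (m : ℕ) (G : EtCoh.Ab X) : EtCoh.KilledBy m G ↔ m • 𝟙 G = 0 := by
  have key : ∀ (V : X.Etale) (s : EtCoh.sect G V), (m • 𝟙 G).hom.app (op V) s = m • s := fun V s => by
    induction m with
    | zero => rw [zero_smul, zero_smul]; rfl
    | succ k ih => rw [succ_nsmul, succ_nsmul, ← ih]; rfl
  refine ⟨fun h => Sheaf.hom_ext (NatTrans.ext (funext fun V => AddCommGrpCat.ext fun s => ?_)), fun h V s => ?_⟩
  · exact (key V.unop s).trans (h _ s)
  · rw [← key, h]; rfl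

theorem finite_components {X Y : Scheme.{u}} (f : X ⟶ Y) [IsFinite f] [Etale f]
    (hconn : Finite (_root_.ConnectedComponents ↥Y)) : Finite (_root_.ConnectedComponents ↥X) := by
  classical
  choose r hr using fun c : _root_.ConnectedComponents ↥Y => ConnectedComponents.surjective_coe c
  let T : Set X := ⋃ c, f.base ⁻¹' {r c}
  have hT : T.Finite := Set.finite_iUnion fun c => f.finite_preimage_singleton (r c)
  haveI : Fintype T := hT.fintype
  refine (H22Alg.connectedComponents_card_le (d := Fintype.card T) fun m C hC hdis hne => ?_).1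
  have key : ∀ i, ∃ t : T, (t : X) ∈ C i := fun i => by
    have himg : IsClopen (f.base '' C i) := ⟨f.isClosedMap _ (hC i).1, f.isOpenMap _ (hC i).2⟩
    obtain ⟨x, hx⟩ := hne i
    have hmem : r (ConnectedComponents.mk (f.base x)) ∈ f.base '' C i :=
      himg.connectedComponent_subset ⟨x, hx, rfl⟩
        (ConnectedComponents.coe_eq_coe'.1 (hr (ConnectedComponents.mk (f.base x))))
    obtain ⟨t, ht, e⟩ := hmem
    exact ⟨⟨t, Set.mem_iUnion.2 ⟨_, e⟩⟩, ht⟩
  choose g hg using key
  refine (Fintype.card_fin m).symm.le.trans (Fintype.card_le_of_injective g fun i j e => ?_)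
  by_contra hij
  exact Set.disjoint_left.1 (hdis hij) (hg i) (e ▸ hg j)

/-- Let P be a set of prime numbers and f : X → Y a finite étale surjective morphism of schemes, where Y
is quasi-compact and quasi-separated with finitely many connected components. Then X is
quasi-compact and quasi-separated with finitely many connected components, and Y is a K(π,1) for
P-torsion coefficients if and only if X is; here a scheme Z is called a K(π,1) for P-torsion
coefficients when for every finite locally constant abelian sheaf F on the small étale site of Z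
killed by some n ≥ 1 all of whose prime factors lie in P, every q > 0 and every class ζ in H^q(Z_ét,
F) there is a finite étale surjective g : Z' → Z with g^*ζ = 0. (Exactness of pullback of abelian
sheaves, which always holds, is carried as an instance hypothesis.) -/
theorem result (P : Set ℕ) {X Y : Scheme.{u}} (f : X ⟶ Y)
    [IsFinite f] [Etale f] [Surjective f] [CompactSpace ↥Y] [QuasiSeparatedSpace ↥Y]
    (hconn : Finite (_root_.ConnectedComponents ↥Y)) :
    (CompactSpace ↥X ∧ QuasiSeparatedSpace ↥X ∧ Finite (_root_.ConnectedComponents ↥X)) ∧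
    ((∀ (F : EtCoh.Ab Y), EtCoh.IsFiniteLocallyConstant F →
        (∃ n : ℕ, 0 < n ∧ (∀ p : ℕ, p.Prime → p ∣ n → p ∈ P) ∧ EtCoh.KilledBy n F) →
        ∀ q : ℕ, 0 < q → ∀ ζ : EtCoh.H Y F q,
          ∃ (Y' : Scheme.{u}) (g : Y' ⟶ Y), IsFinite g ∧ Etale g ∧ Surjective g ∧
            ∀ [PreservesFiniteLimits (EtCoh.pull g)], EtCore.Hpull g F q ζ = 0) ↔
     (∀ (F : EtCoh.Ab X), EtCoh.IsFiniteLocallyConstant F →
        (∃ n : ℕ, 0 < n ∧ (∀ p : ℕ, p.Prime → p ∣ n → p ∈ P) ∧ EtCoh.KilledBy n F) →
        ∀ q : ℕ, 0 < q → ∀ ζ : EtCoh.H X F q,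
          ∃ (X' : Scheme.{u}) (g : X' ⟶ X), IsFinite g ∧ Etale g ∧ Surjective g ∧
            ∀ [PreservesFiniteLimits (EtCoh.pull g)], EtCore.Hpull g F q ζ = 0)) := by
  refine ⟨⟨QuasiCompact.compactSpace_of_compactSpace f, quasiSeparatedSpace_of_quasiSeparated f,
    finite_components f hconn⟩, ?_, ?_⟩
  · intro hY F hF ⟨n, hn, hnP, hFn⟩ q hq ζ
    haveI := H18Et.pull_preservesFiniteLimits f
    obtain ⟨η, rfl⟩ := (S14451.result f F (fun i hi => S0071.result f F i hi) q).2 ζ
    obtain ⟨Y', g, hg1, hg2, hg3, hg4⟩ := hY ((EtCoh.push f).obj F) (S0106.result f F hF)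
      ⟨n, hn, hnP, fun U s => hFn ((EtCoh.bc f).obj U) s⟩ q hq η
    refine ⟨pullback f g, pullback.fst f g, inferInstance, inferInstance, inferInstance, fun {_} => ?_⟩
    haveI := H18Et.pull_preservesFiniteLimits g
    haveI := H18Et.pull_preservesFiniteLimits (pullback.snd f g)
    haveI := H18Et.pull_preservesFiniteLimits (pullback.fst f g ≫ f)
    haveI := H18Et.pull_preservesFiniteLimits (pullback.snd f g ≫ g)
    have h0 : EtCore.Hpull (pullback.snd f g ≫ g) ((EtCoh.push f).obj F) q η = 0 := by
      apply (ConcreteCategory.bijective_of_isIso ((EtCoh.HF _ q).map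
        ((EtCore.pullComp (pullback.snd f g) g).hom.app ((EtCoh.push f).obj F)))).1
      refine ((H26EtPull.Hpull_comp (pullback.snd f g) g _ q η).symm.trans ?_).trans (map_zero _).symm
      refine (congrArg _ hg4).trans (map_zero _)
    show EtCore.Hpull (pullback.fst f g) F q (((EtCoh.HF X q).map ((EtCoh.pullPushAdj f).counit.app F)).hom
      (EtCore.Hpull f ((EtCoh.push f).obj F) q η)) = 0
    refine (H26EtPull.Hpull_map (pullback.fst f g) ((EtCoh.pullPushAdj f).counit.app F) q _).trans ?_
    refine (congrArg _ ((H26EtPull.Hpull_comp (pullback.fst f g) f _ q η).trans ?_)).trans (map_zero _)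
    refine (congrArg _ ((H26EtPull.Hpull_congr (pullback.condition (f := f) (g := g)).symm _ q η).trans ?_)).trans
      (map_zero _)
    exact (congrArg _ h0).trans (map_zero _)
  · intro hX F hF ⟨n, hn, hnP, hFn⟩ q hq ζ
    haveI := H18Et.pull_preservesFiniteLimits f
    have hpn : EtCoh.KilledBy n ((EtCoh.pull f).obj F) := by
      rw [killedBy_iff] at hFn ⊢
      rw [← (EtCoh.pull f).map_id, ← Functor.map_nsmul, hFn, Functor.map_zero]
    obtain ⟨X', g, hg1, hg2, hg3, hg4⟩ := hX ((EtCoh.pull f).obj F)
      (H18Et.LC.isFiniteLocallyConstant_pull f hF) ⟨n, hn, hnP, hpn⟩ q hq (EtCore.Hpull f F q ζ)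
    refine ⟨X', g ≫ f, inferInstance, inferInstance, inferInstance, fun {_} => ?_⟩
    haveI := H18Et.pull_preservesFiniteLimits g
    apply (ConcreteCategory.bijective_of_isIso ((EtCoh.HF X' q).map ((EtCore.pullComp g f).hom.app F))).1
    exact ((H26EtPull.Hpull_comp g f F q ζ).symm.trans hg4).trans (map_zero _).symm

end Groth.Agent.S14382
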