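import Groth.Statements.S14383
import Groth.Agent.H3CAlg.EtaEtale
-- import your own Groth.Agent.* helpers here

set_option autoImplicit false
open scoped TensorProduct
open AlgebraicGeometry
universe u
open CAlg

namespace Groth.Agent.S14383

/-- Let V be a discrete valuation ring of characteristic zero with uniformizer ϖ, whose residue field k
is perfect of characteristic p > 0, and let A → R be a homomorphism of V-algebras of finite type,
viewed as a morphism f : Spec R → Spec A of schemes of finite type over Spec V. Say f is η-étale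
when there is an open neighbourhood of the closed fibre of Spec R on whose generic fibre f is étale;
for affine Spec R this means: some a ∈ R with (a) + (ϖ) = R has R[1/(aϖ)] étale over A. First: if f
is η-étale then for some n ≥ 0 the submodule p^n Ω_{R/A} of the module of differentials is contained
in ϖ p^n Ω_{R/A} (that is, p^n Ω_{R/A} vanishes along the closed fibre). Conversely: if the generic
fibres Spec(K ⊗_V A) and Spec(K ⊗_V R) are both smooth over K of the same relative dimension d, K
the fraction field of V, then such an n forces f to be η-étale. (The published statement is for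
arbitrary schemes X → Y of finite type over V and also lists an intermediate equivalent condition,
that the restriction of p^n Ω_{X/Y} to the closed fibre as an abelian sheaf vanishes for some n;
this row is the case of affine schemes and states the other two conditions.) -/
theorem result (V : Type u) [CommRing V] [IsDomain V] [IsDiscreteValuationRing V] [CharZero V]
    (ϖ : V) (hϖ : Irreducible ϖ) (p : ℕ) [Fact p.Prime] [CharP (IsLocalRing.ResidueField V) p]
    [PerfectField (IsLocalRing.ResidueField V)]
    (A : Type u) [CommRing A] [Algebra V A] [Algebra.FiniteType V A]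
    (R : Type u) [CommRing R] [Algebra V R] [Algebra.FiniteType V R] [Algebra A R] [IsScalarTower V A R] :
    ((∃ a : R, Ideal.span {a} ⊔ Ideal.span {algebraMap V R ϖ} = ⊤ ∧
        ((algebraMap R (Localization.Away (a * algebraMap V R ϖ))).comp (algebraMap A R)).Etale) →
      ∃ n : ℕ, Ideal.span {((p : R)) ^ n} • (⊤ : Submodule R (Ω[R⁄A])) ≤
        Ideal.span {algebraMap V R ϖ * (p : R) ^ n} • (⊤ : Submodule R (Ω[R⁄A]))) ∧
    (∀ d : ℕ, SmoothOfRelativeDimension d
        (Spec.map (CommRingCat.ofHom (algebraMap (FractionRing V) (FractionRing V ⊗[V] A)))) →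
      SmoothOfRelativeDimension d
        (Spec.map (CommRingCat.ofHom (algebraMap (FractionRing V) (FractionRing V ⊗[V] R)))) →
      (∃ n : ℕ, Ideal.span {((p : R)) ^ n} • (⊤ : Submodule R (Ω[R⁄A])) ≤
        Ideal.span {algebraMap V R ϖ * (p : R) ^ n} • (⊤ : Submodule R (Ω[R⁄A]))) →
      ∃ a : R, Ideal.span {a} ⊔ Ideal.span {algebraMap V R ϖ} = ⊤ ∧
        ((algebraMap R (Localization.Away (a * algebraMap V R ϖ))).comp (algebraMap A R)).Etale) := by
  haveI : IsNoetherianRing A := Algebra.FiniteType.isNoetherianRing V A
  haveI : Algebra.FiniteType A R := Algebra.FiniteType.of_restrictScalars_finiteType V A R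
  obtain ⟨e, he⟩ : ∃ e : ℕ, Associated (p : V) (ϖ ^ e) :=
    IsDiscreteValuationRing.associated_pow_irreducible (Nat.cast_ne_zero.2 (Fact.out : p.Prime).ne_zero) hϖ
  obtain ⟨u, hu⟩ := he.symm
  have hpR : (p : R) = algebraMap V R ϖ ^ e * algebraMap V R (u : V) := by
    rw [← map_pow, ← map_mul, hu, map_natCast]
  have he0 : e ≠ 0 := by
    intro h0
    rw [h0, pow_zero, one_mul] at hu
    have h : (p : V) ∈ IsLocalRing.maximalIdeal V := by
      rw [← IsLocalRing.residue_eq_zero_iff, map_natCast, CharP.cast_eq_zero]
    exact (IsLocalRing.mem_maximalIdeal _).1 h (hu ▸ u.isUnit)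
  refine ⟨?_, ?_⟩
  · rintro ⟨a, ha, het⟩
    haveI : Algebra.Etale A (Localization.Away (a * algebraMap V R ϖ)) := by
      rw [← RingHom.etale_algebraMap, IsScalarTower.algebraMap_eq A R]
      exact het
    set x := a * algebraMap V R ϖ with hx
    haveI : Algebra.FormallyEtale R (Localization.Away x) :=
      Algebra.FormallyEtale.of_isLocalization (Submonoid.powers x)
    have hloc := (isLocalizedModule_iff_isBaseChange (Submonoid.powers x) (Localization.Away x) _).2
      (KaehlerDifferential.isBaseChange_of_formallyEtale A R (Localization.Away x))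
    haveI : Subsingleton (Ω[(Localization.Away x)⁄A]) :=
      Algebra.FormallyUnramified.subsingleton_kaehlerDifferential
    have hkill : ∀ ω : Ω[R⁄A], ∃ c : Submonoid.powers x, (c : R) • ω = 0 := fun ω =>
      ((IsLocalizedModule.eq_zero_iff (Submonoid.powers x) _).1 (Subsingleton.elim
        (KaehlerDifferential.map A A R (Localization.Away x) ω) 0))
    obtain ⟨m, hm⟩ : ∃ m : ℕ, ∀ ω : Ω[R⁄A], x ^ m • ω = 0 := by
      obtain ⟨G, hG⟩ := Module.Finite.fg_top (R := R) (M := Ω[R⁄A])
      choose c hc using hkill
      choose k hk using fun ω => (c ω).2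
      refine ⟨G.sup k, fun ω => ?_⟩
      have hω : ω ∈ Submodule.span R (G : Set (Ω[R⁄A])) := hG ▸ Submodule.mem_top
      induction hω using Submodule.span_induction with
      | mem z hz =>
        obtain ⟨j, hj⟩ := Nat.exists_eq_add_of_le (Finset.le_sup (f := k) hz)
        have hkz : x ^ k z = (c z : R) := hk z
        rw [hj, add_comm, pow_add, mul_smul, hkz, hc z, smul_zero]
      | zero => simp
      | add y z _ _ hy hz => rw [smul_add, hy, hz, add_zero]
      | smul r z _ hz => rw [smul_comm, hz, smul_zero]
    refine ⟨m, ?_⟩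
    obtain ⟨c, d', hcd⟩ : ∃ c d' : R, c * a + d' * algebraMap V R ϖ = 1 := by
      have h1 : (1 : R) ∈ Ideal.span {a} ⊔ Ideal.span {algebraMap V R ϖ} := ha ▸ Submodule.mem_top
      rw [← Ideal.span_union, Set.union_singleton, Set.pair_comm] at h1
      exact Ideal.mem_span_pair.1 h1
    obtain ⟨q, hq⟩ : algebraMap V R ϖ ∣ 1 - (c * a) ^ m := by
      have h2 : algebraMap V R ϖ ∣ 1 - c * a := ⟨d', by rw [← hcd]; ring⟩
      exact h2.trans (by simpa using sub_dvd_pow_sub_pow (1 : R) (c * a) m)
    rw [Submodule.ideal_span_singleton_smul, Submodule.ideal_span_singleton_smul]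
    rintro _ ⟨ω, -, rfl⟩
    refine ⟨q • ω, Submodule.mem_top, ?_⟩
    obtain ⟨w, hw⟩ : x ^ m ∣ (c * a) ^ m * (p : R) ^ m := by
      rw [← mul_pow, hx]
      refine pow_dvd_pow_of_dvd ⟨c * algebraMap V R ϖ ^ (e - 1) * algebraMap V R (u : V), ?_⟩ m
      obtain ⟨e', rfl⟩ := Nat.exists_eq_succ_of_ne_zero he0
      rw [hpR, pow_succ, Nat.succ_sub_one]
      ring
    show (algebraMap V R ϖ * (p : R) ^ m) • q • ω = (p : R) ^ m • ω
    have h3 : (p : R) ^ m = algebraMap V R ϖ * (p : R) ^ m * q + x ^ m * w := by
      rw [← hw]
      linear_combination (p : R) ^ m * hq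
    conv_rhs => rw [h3]
    rw [add_smul, mul_comm (x ^ m), mul_smul w, hm, smul_zero, add_zero]
    simp only [smul_smul, mul_assoc]
  · rintro d hA hR ⟨n, hn⟩
    set M := Ideal.span {((p : R)) ^ n} • (⊤ : Submodule R (Ω[R⁄A])) with hM
    have hle : M ≤ Ideal.span {algebraMap V R ϖ} • M := by
      refine hn.trans ?_
      rw [hM, ← Submodule.smul_assoc]
      exact le_of_eq (by rw [smul_eq_mul, Ideal.span_singleton_mul_span_singleton])
    have hfg : M.FG := by
      rw [hM, Submodule.ideal_span_singleton_smul]
      exact Submodule.FG.map _ Module.Finite.fg_top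
    obtain ⟨r, hr1, hr0⟩ :=
      Submodule.exists_sub_one_mem_and_smul_eq_zero_of_fg_of_le_smul _ M hfg hle
    refine ⟨r, ?_, ?_⟩
    · rw [Ideal.eq_top_iff_one, show (1 : R) = r + -(r - 1) by ring]
      exact add_mem (Ideal.mem_sup_left (Ideal.mem_span_singleton_self r))
        (Ideal.mem_sup_right (neg_mem hr1))
    rw [← IsScalarTower.algebraMap_eq A R, RingHom.etale_algebraMap]
    set x := r * algebraMap V R ϖ with hx
    have hxu : IsUnit (algebraMap R (Localization.Away x) x) :=
      IsLocalization.map_units _ (⟨x, Submonoid.mem_powers x⟩ : Submonoid.powers x)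
    rw [hx, map_mul, IsUnit.mul_iff, ← IsScalarTower.algebraMap_apply V R] at hxu
    haveI : Algebra.FormallyEtale R (Localization.Away x) :=
      Algebra.FormallyEtale.of_isLocalization (Submonoid.powers x)
    haveI : Algebra.FiniteType R (Localization.Away x) :=
      IsLocalization.finiteType_of_monoid_fg (Submonoid.powers x) _
    haveI : Algebra.FiniteType V (Localization.Away x) :=
      Algebra.FiniteType.trans (S := R) inferInstance inferInstance
    have hunit : ∀ v : nonZeroDivisors V, IsUnit (algebraMap V (Localization.Away x) v) := by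
      intro v
      obtain ⟨k, w, hw⟩ := IsDiscreteValuationRing.eq_unit_mul_pow_irreducible
        (nonZeroDivisors.coe_ne_zero v) hϖ
      rw [hw, map_mul, map_pow]
      exact (w.isUnit.map _).mul (hxu.2.pow k)
    have hloc := (isLocalizedModule_iff_isBaseChange (Submonoid.powers x) (Localization.Away x) _).2
      (KaehlerDifferential.isBaseChange_of_formallyEtale A R (Localization.Away x))
    haveI : Algebra.FormallyUnramified A (Localization.Away x) := by
      refine ⟨subsingleton_of_forall_eq 0 fun η => ?_⟩
      obtain ⟨⟨ω, c⟩, hc⟩ := IsLocalizedModule.surj (Submonoid.powers x)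
        (KaehlerDifferential.map A A R (Localization.Away x)) η
      have h0 : (r * (p : R) ^ n) • ω = 0 := by
        rw [mul_smul]
        exact hr0 _ (Submodule.smul_mem_smul (Ideal.mem_span_singleton_self _) Submodule.mem_top)
      have h1 := congrArg (KaehlerDifferential.map A A R (Localization.Away x)) h0
      rw [map_zero, map_smul, ← hc, Submonoid.smul_def, smul_smul,
        ← algebraMap_smul (Localization.Away x)] at h1
      refine (IsUnit.smul_eq_zero ?_).1 h1
      rw [map_mul, map_mul, map_pow, map_natCast]
      refine (hxu.1.mul (IsUnit.pow _ ?_)).mul (IsLocalization.map_units _ c)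
      rw [← map_natCast (algebraMap V (Localization.Away x)) p, ← hu, map_mul, map_pow]
      exact (hxu.2.pow _).mul (u.isUnit.map _)
    exact H3CAlg.EtaEtale.etale_of_unramified V (FractionRing V) A R (Localization.Away x) hunit d
      (H3CAlg.EtaEtale.of_smoothOfRelativeDimension _ _ d hA)
      (H3CAlg.EtaEtale.of_smoothOfRelativeDimension _ _ d hR)

end Groth.Agent.S14383
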