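import Groth.Statements.S14385
import Groth.Agent.S14383
import Groth.Agent.S14384
import Groth.Agent.H3CAlg.FibreDimDVR
import Groth.Agent.H3CAlg.RelNoether
-- import your own Groth.Agent.* helpers here

set_option autoImplicit false
open scoped TensorProduct
open AlgebraicGeometry
universe u
open CAlg

namespace Groth.Agent.S14385

/-- Let V be a discrete valuation ring of characteristic zero with uniformizer ϖ, whose residue field k
is perfect of characteristic p > 0, with fraction field K; let R be a flat V-algebra of finite type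
such that the generic fibre Spec(K ⊗_V R) → Spec K is smooth of relative dimension d; and suppose
some d-tuple x' of elements of R defines a morphism f' from Spec R to affine d-space over V which is
η-étale, meaning that for some a ∈ R with (a) + (ϖ) = R the localisation R[1/(aϖ)] is étale over
V[T_1, …, T_d] via T_i ↦ x'_i (f' is étale on the generic fibre of an open neighbourhood of the
closed fibre). Then there is a d-tuple x in R whose morphism f is η-étale in the same sense and
finite on each fibre: k ⊗_V R is finite over k[T_1, …, T_d] and K ⊗_V R is finite over K[T_1, …,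
T_d] via T_i ↦ 1 ⊗ x_i. -/
theorem result (V : Type u) [CommRing V] [IsDomain V] [IsDiscreteValuationRing V] [CharZero V]
    (ϖ : V) (hϖ : Irreducible ϖ) (p : ℕ) [Fact p.Prime] [CharP (IsLocalRing.ResidueField V) p]
    [PerfectField (IsLocalRing.ResidueField V)]
    (R : Type u) [CommRing R] [Algebra V R] [Module.Flat V R] [Algebra.FiniteType V R] (d : ℕ)
    (hsm : SmoothOfRelativeDimension d
      (Spec.map (CommRingCat.ofHom (algebraMap (FractionRing V) (FractionRing V ⊗[V] R)))))
    (x' : Fin d → R) (hx' : (∃ a : R, Ideal.span {a} ⊔ Ideal.span {algebraMap V R ϖ} = ⊤ ∧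
        ((algebraMap R (Localization.Away (a * algebraMap V R ϖ))).comp
          (MvPolynomial.aeval x' : MvPolynomial (Fin d) V →ₐ[V] R).toRingHom).Etale)) :
    ∃ x : Fin d → R, (∃ a : R, Ideal.span {a} ⊔ Ideal.span {algebraMap V R ϖ} = ⊤ ∧
        ((algebraMap R (Localization.Away (a * algebraMap V R ϖ))).comp
          (MvPolynomial.aeval x : MvPolynomial (Fin d) V →ₐ[V] R).toRingHom).Etale) ∧
      (MvPolynomial.aeval (fun i => (1 : IsLocalRing.ResidueField V) ⊗ₜ[V] x i) :
          MvPolynomial (Fin d) (IsLocalRing.ResidueField V) →ₐ[IsLocalRing.ResidueField V]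
            IsLocalRing.ResidueField V ⊗[V] R).toRingHom.Finite ∧
      (MvPolynomial.aeval (fun i => (1 : FractionRing V) ⊗ₜ[V] x i) :
          MvPolynomial (Fin d) (FractionRing V) →ₐ[FractionRing V] FractionRing V ⊗[V] R).toRingHom.Finite := by
  have e0 : ∀ z : Fin d → R,
      letI := (MvPolynomial.aeval z : MvPolynomial (Fin d) V →ₐ[V] R).toRingHom.toAlgebra
      IsScalarTower V (MvPolynomial (Fin d) V) R ∧
        ∀ i, algebraMap (MvPolynomial (Fin d) V) R (MvPolynomial.X i) = z i := fun z => by
    letI := (MvPolynomial.aeval z : MvPolynomial (Fin d) V →ₐ[V] R).toRingHom.toAlgebra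
    exact ⟨IsScalarTower.of_algebraMap_eq fun a => ((MvPolynomial.aeval z).commutes a).symm,
      fun i => MvPolynomial.aeval_X z i⟩
  obtain ⟨n, hn⟩ : ∃ n : ℕ, Ideal.span {((p : R)) ^ n} • (⊤ : Submodule R (Ω[R⁄V])) ≤
      Ideal.span {algebraMap V R ϖ * (p : R) ^ n} • (⊤ : Submodule R (Ω[R⁄V])) ⊔
        Submodule.span R (Set.range fun i => KaehlerDifferential.D V R (x' i)) := by
    letI := (MvPolynomial.aeval x' : MvPolynomial (Fin d) V →ₐ[V] R).toRingHom.toAlgebra
    haveI : IsScalarTower V (MvPolynomial (Fin d) V) R := (e0 x').1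
    obtain ⟨n, hn⟩ := (Groth.Agent.S14383.result V ϖ hϖ p (MvPolynomial (Fin d) V) R).1 hx'
    exact ⟨n, (H3CAlg.EtaEtale.criterion_iff V R x' (e0 x').2 _ _).1 hn⟩
  have hη : ringKrullDim (FractionRing V ⊗[V] R) ≤ d :=
    H3CAlg.FibreDimDVR.ringKrullDim_le_of_smooth _ _ d hsm
  obtain ⟨y, hy, hk, hK⟩ := H3CAlg.RelNoether.main (k := IsLocalRing.ResidueField V)
    (K := FractionRing V) ((H3CAlg.FibreDimDVR.ringKrullDim_special_le V R).trans hη) hη x'
    (N := p ^ (n + 1)) (Nat.one_le_pow _ _ (Fact.out : p.Prime).pos)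
  refine ⟨fun i => x' i + y i, ?_, hk, hK⟩
  have hn' := Groth.Agent.S14384.result V ϖ hϖ p R d n x' hn y hy
  letI := (MvPolynomial.aeval (fun i => x' i + y i) : MvPolynomial (Fin d) V →ₐ[V] R).toRingHom.toAlgebra
  haveI : IsScalarTower V (MvPolynomial (Fin d) V) R := (e0 _).1
  exact (Groth.Agent.S14383.result V ϖ hϖ p (MvPolynomial (Fin d) V) R).2 d
    (H3CAlg.EtaEtale.smoothOfRelativeDimension_tensor_mvPolynomial V (FractionRing V) d) hsm
    ⟨n, (H3CAlg.EtaEtale.criterion_iff V R _ (e0 _).2 _ _).2 hn'⟩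

end Groth.Agent.S14385
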