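import Groth.Statements.S14386
import Groth.Agent.H3CAlg.NodeDifferential
-- import your own Groth.Agent.* helpers here

set_option autoImplicit false
universe u
open CAlg

set_option maxHeartbeats 1600000

namespace Groth.Agent.S14386

/-- Let V be a discrete valuation ring of characteristic zero with uniformizer ϖ and perfect residue
field k, let Q = V[x, y]/(xy − ϖ) be the coordinate ring of the standard semistable node over V and
P its closed point x = y = 0 of the closed fibre, let h ∈ Q with h ∉ (x, y), so that B = Q[1/h] is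
the ring of an open neighbourhood of P, and let f ∈ B define a morphism to the affine line over V
which is étale on the generic fibre: B[1/ϖ] is étale over V[T] via T ↦ f. Then df vanishes
identically on one of the two components x = 0, y = 0 of the closed fibre of Spec B: the
differential of the image of f in Ω_{(B/xB)/V} is zero or the differential of the image of f in
Ω_{(B/yB)/V} is zero. If moreover k has characteristic zero, then f contracts that component and the
morphism is not quasi-finite: V[T] → B, T ↦ f, is not a quasi-finite ring map. -/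
theorem result (V : Type u) [CommRing V] [IsDomain V] [IsDiscreteValuationRing V] [CharZero V]
    [PerfectField (IsLocalRing.ResidueField V)] (ϖ : V) (hϖ : Irreducible ϖ)
    (h : (MvPolynomial (Fin 2) V ⧸ Ideal.span {(MvPolynomial.X 0 * MvPolynomial.X 1 - MvPolynomial.C ϖ : MvPolynomial (Fin 2) V)}))
    (hh : h ∉ Ideal.span ({(Ideal.Quotient.mk (Ideal.span {(MvPolynomial.X 0 * MvPolynomial.X 1 - MvPolynomial.C ϖ : MvPolynomial (Fin 2) V)}) (MvPolynomial.X 0 : MvPolynomial (Fin 2) V)), (Ideal.Quotient.mk (Ideal.span {(MvPolynomial.X 0 * MvPolynomial.X 1 - MvPolynomial.C ϖ : MvPolynomial (Fin 2) V)}) (MvPolynomial.X 1 : MvPolynomial (Fin 2) V))} : Set (MvPolynomial (Fin 2) V ⧸ Ideal.span {(MvPolynomial.X 0 * MvPolynomial.X 1 - MvPolynomial.C ϖ : MvPolynomial (Fin 2) V)})))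
    (f : Localization.Away h)
    (hf : ((algebraMap (Localization.Away h)
        (Localization.Away (algebraMap V (Localization.Away h) ϖ))).comp
          (Polynomial.aeval f : Polynomial V →ₐ[V] Localization.Away h).toRingHom).Etale) :
    (KaehlerDifferential.D V (Localization.Away h ⧸ Ideal.span
        ({algebraMap (MvPolynomial (Fin 2) V ⧸ Ideal.span {(MvPolynomial.X 0 * MvPolynomial.X 1 - MvPolynomial.C ϖ : MvPolynomial (Fin 2) V)}) (Localization.Away h) (Ideal.Quotient.mk (Ideal.span {(MvPolynomial.X 0 * MvPolynomial.X 1 - MvPolynomial.C ϖ : MvPolynomial (Fin 2) V)}) (MvPolynomial.X 0 : MvPolynomial (Fin 2) V))} : Set (Localization.Away h)))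
        (Ideal.Quotient.mk _ f) = 0 ∨
     KaehlerDifferential.D V (Localization.Away h ⧸ Ideal.span
        ({algebraMap (MvPolynomial (Fin 2) V ⧸ Ideal.span {(MvPolynomial.X 0 * MvPolynomial.X 1 - MvPolynomial.C ϖ : MvPolynomial (Fin 2) V)}) (Localization.Away h) (Ideal.Quotient.mk (Ideal.span {(MvPolynomial.X 0 * MvPolynomial.X 1 - MvPolynomial.C ϖ : MvPolynomial (Fin 2) V)}) (MvPolynomial.X 1 : MvPolynomial (Fin 2) V))} : Set (Localization.Away h)))
        (Ideal.Quotient.mk _ f) = 0) ∧
    (CharZero (IsLocalRing.ResidueField V) →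
      ¬ (Polynomial.aeval f : Polynomial V →ₐ[V] Localization.Away h).toRingHom.QuasiFinite) := by
  have hϖm : IsLocalRing.maximalIdeal V = Ideal.span {ϖ} := hϖ.maximalIdeal_eq
  obtain ⟨π₁, h1x, h1y, hk1⟩ := H3CAlg.NodeDifferential.exists_branch V ϖ hϖm 0 1 (by decide)
  obtain ⟨π₂, h2x, h2y, hk2⟩ := H3CAlg.NodeDifferential.exists_branch V ϖ hϖm 1 0 (by decide)
  obtain ⟨θ, hθx, hθy⟩ := H3CAlg.NodeDifferential.exists_euler V ϖ
  exact H3CAlg.NodeDifferential.main ϖ hϖm (H3CAlg.NodeDifferential.coord_mul V ϖ)
    (H3CAlg.NodeDifferential.adjoin_coord V ϖ) (H3CAlg.NodeDifferential.regular V ϖ hϖ.prime)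
    π₁ h1x h1y hk1 π₂ h2x h2y hk2 h hh θ hθx hθy f (L := Localization.Away (algebraMap V (Localization.Away h) ϖ)) hf

end Groth.Agent.S14386
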