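import Groth.Statements.S14388
import Groth.Agent.H16Derived.DTrunc

set_option autoImplicit false
open CategoryTheory CategoryTheory.Limits
universe w v u
open CohDer

namespace Groth.Agent.S14388

open CategoryTheory CategoryTheory.Limits CategoryTheory.Pretriangulated CategoryTheory.Triangulated
open DerivedCategory DerivedCategory.TStructure
open Groth.Agent.H16Derived

section
variable {C : Type u} [Category.{v} C] [Abelian C] [HasDerivedCategory.{w} C]

lemma homology_truncLT_map_eq_zero {X Y : DerivedCategory C} (f : X ⟶ Y) (n j : ℤ) (hj : j < n)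
    (hf : (DerivedCategory.homologyFunctor C j).map f = 0) :
    (DerivedCategory.homologyFunctor C j).map ((t.truncLT n).map f) = 0 := by
  have := DTrunc.isIso_homology_truncLTι Y n j hj
  rw [← cancel_mono ((DerivedCategory.homologyFunctor C j).map ((t.truncLTι n).app Y)), zero_comp,
    ← Functor.map_comp, (t.truncLTι n).naturality f, Functor.map_comp, Functor.id_map, hf,
    comp_zero]

lemma homology_truncGE_map_eq_zero {X Y : DerivedCategory C} (f : X ⟶ Y) (n j : ℤ) (hj : n ≤ j)
    (hf : (DerivedCategory.homologyFunctor C j).map f = 0) :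
    (DerivedCategory.homologyFunctor C j).map ((t.truncGE n).map f) = 0 := by
  have := DTrunc.isIso_homology_truncGEπ X n j hj
  rw [← cancel_epi ((DerivedCategory.homologyFunctor C j).map ((t.truncGEπ n).app X)), comp_zero,
    ← Functor.map_comp, ← (t.truncGEπ n).naturality f, Functor.map_comp, Functor.id_map, hf,
    zero_comp]

end

/-- Let A be an abelian category, D(A) its derived category with the canonical t-structure and
truncation functors τ_{≥a}, τ_{<b}, and write τ_[a,b] = τ_{≥a} ∘ τ_{<b+1}, so that τ_[q,q] K is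
H^q(K) placed in degree q. Let f : K → K' be a morphism in D(A) and q an integer such that the
induced maps H^(q-1)(K) → H^(q-1)(K') and H^q(K) → H^q(K') are both zero. Then there is a unique
morphism L : τ_[q,q] K → τ_[q-1,q-1] K' such that τ_[q-1,q](f) : τ_[q-1,q] K → τ_[q-1,q] K' is the
composite of the canonical projection τ_[q-1,q] K → τ_[q,q] K, the morphism L, and the canonical
inclusion τ_[q-1,q-1] K' → τ_[q-1,q] K'. (Under τ_[n,n] ≅ H^n(−)[−n] the morphism L corresponds to a
morphism L_f[−q] : H^q(K)[−q] → H^(q-1)(K')[1−q].) -/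
theorem result {C : Type u} [Category.{v} C] [Abelian C]
    [HasDerivedCategory.{w} C] {K K' : DerivedCategory C} (f : K ⟶ K') (q : ℤ)
    (h₁ : (DerivedCategory.homologyFunctor C (q - 1)).map f = 0)
    (h₂ : (DerivedCategory.homologyFunctor C q).map f = 0) :
    ∃! L : ((DerivedCategory.TStructure.t (C := C)).truncGELT q (q + 1)).obj K ⟶
        ((DerivedCategory.TStructure.t (C := C)).truncGELT (q - 1) q).obj K',
      ((DerivedCategory.TStructure.t (C := C)).truncGELT (q - 1) (q + 1)).map f =
        ((DerivedCategory.TStructure.t (C := C)).natTransTruncGEOfLE (q - 1) q (sub_one_lt q).le).app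
            (((DerivedCategory.TStructure.t (C := C)).truncLT (q + 1)).obj K) ≫ L ≫
          ((DerivedCategory.TStructure.t (C := C)).truncGE (q - 1)).map
            (((DerivedCategory.TStructure.t (C := C)).natTransTruncLTOfLE q (q + 1) (lt_add_one q).le).app K') := by
  set K₁ := (t.truncLT (q + 1)).obj K with hK₁
  set A := (t.truncGE (q - 1)).obj K₁ with hA
  set top := (t.truncGE q).obj K₁ with htop
  set src := (t.truncGE (q - 1)).obj ((t.truncLT q).obj K') with hsrc
  set B := (t.truncGE (q - 1)).obj ((t.truncLT (q + 1)).obj K') with hB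
  let p : A ⟶ top := (t.natTransTruncGEOfLE (q - 1) q (sub_one_lt q).le).app K₁
  let i : src ⟶ B := (t.truncGE (q - 1)).map
    ((t.natTransTruncLTOfLE q (q + 1) (lt_add_one q).le).app K')
  let g : A ⟶ B := (t.truncGE (q - 1)).map ((t.truncLT (q + 1)).map f)
  have : DerivedCategory.IsLE K₁ q := inferInstanceAs (t.IsLE ((t.truncLT (q + 1)).obj K) q)
  have : DerivedCategory.IsLE ((t.truncLT (q + 1)).obj K') q :=
    inferInstanceAs (t.IsLE ((t.truncLT (q + 1)).obj K') q)
  have : DerivedCategory.IsLE ((t.truncLT q).obj K') (q - 1) :=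
    inferInstanceAs (t.IsLE ((t.truncLT q).obj K') (q - 1))
  have hAle : A.IsLE q := DTrunc.isLE_truncGE K₁ (q - 1) q
  have hBle : B.IsLE q := DTrunc.isLE_truncGE _ (q - 1) q
  have hsle : src.IsLE (q - 1) := DTrunc.isLE_truncGE _ (q - 1) (q - 1)
  have htle : top.IsLE q := DTrunc.isLE_truncGE K₁ q q
  have hAge : A.IsGE (q - 1) := inferInstanceAs (t.IsGE _ (q - 1))
  have hBge : B.IsGE (q - 1) := inferInstanceAs (t.IsGE _ (q - 1))
  have hsge : src.IsGE (q - 1) := inferInstanceAs (t.IsGE _ (q - 1))
  have htge : top.IsGE q := inferInstanceAs (t.IsGE _ q)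
  -- cohomology of `p`
  have hp : ∀ j, q ≤ j → IsIso ((DerivedCategory.homologyFunctor C j).map p) := by
    intro j hj
    have := DTrunc.isIso_homology_truncGEπ K₁ q j hj
    have := DTrunc.isIso_homology_truncGEπ K₁ (q - 1) j (by lia)
    have : IsIso ((DerivedCategory.homologyFunctor C j).map ((t.truncGEπ (q - 1)).app K₁) ≫
        (DerivedCategory.homologyFunctor C j).map p) := by
      rw [← Functor.map_comp, t.π_natTransTruncGEOfLE_app]
      infer_instance
    exact IsIso.of_isIso_comp_left ((DerivedCategory.homologyFunctor C j).map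
      ((t.truncGEπ (q - 1)).app K₁)) _
  -- cohomology of `i`
  have hi : ∀ j, j ≤ q - 1 → IsIso ((DerivedCategory.homologyFunctor C j).map i) := by
    intro j hj
    rcases eq_or_lt_of_le hj with rfl | hj'
    · have := DTrunc.isIso_homology_truncLTι K' q (q - 1) (by lia)
      have := DTrunc.isIso_homology_truncLTι K' (q + 1) (q - 1) (by lia)
      have := DTrunc.isIso_homology_truncGEπ ((t.truncLT q).obj K') (q - 1) (q - 1) le_rfl
      have := DTrunc.isIso_homology_truncGEπ ((t.truncLT (q + 1)).obj K') (q - 1) (q - 1) le_rfl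
      let n := (t.natTransTruncLTOfLE q (q + 1) (lt_add_one q).le).app K'
      have hn : IsIso ((DerivedCategory.homologyFunctor C (q - 1)).map n) := by
        have : IsIso ((DerivedCategory.homologyFunctor C (q - 1)).map n ≫
            (DerivedCategory.homologyFunctor C (q - 1)).map ((t.truncLTι (q + 1)).app K')) := by
          rw [← Functor.map_comp, t.natTransTruncLTOfLE_ι_app]
          infer_instance
        exact IsIso.of_isIso_comp_right _
          ((DerivedCategory.homologyFunctor C (q - 1)).map ((t.truncLTι (q + 1)).app K'))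
      have : IsIso ((DerivedCategory.homologyFunctor C (q - 1)).map
          ((t.truncGEπ (q - 1)).app ((t.truncLT q).obj K')) ≫
          (DerivedCategory.homologyFunctor C (q - 1)).map i) := by
        rw [← Functor.map_comp, ← (t.truncGEπ (q - 1)).naturality n, Functor.map_comp]
        exact inferInstanceAs (IsIso ((DerivedCategory.homologyFunctor C (q - 1)).map n ≫ _))
      exact IsIso.of_isIso_comp_left ((DerivedCategory.homologyFunctor C (q - 1)).map
        ((t.truncGEπ (q - 1)).app ((t.truncLT q).obj K'))) _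
    · exact ⟨⟨0, (src.isZero_of_isGE (q - 1) j hj').eq_of_src _ _, (B.isZero_of_isGE (q - 1) j hj').eq_of_src _ _⟩⟩
  have hg₁ : (DerivedCategory.homologyFunctor C (q - 1)).map g = 0 :=
    homology_truncGE_map_eq_zero _ _ _ le_rfl (homology_truncLT_map_eq_zero f _ _ (by lia) h₁)
  have hg₂ : (DerivedCategory.homologyFunctor C q).map g = 0 :=
    homology_truncGE_map_eq_zero _ _ _ (by lia) (homology_truncLT_map_eq_zero f _ _ (by lia) h₂)
  -- the fibre of `p`
  obtain ⟨F, a, c, hT⟩ := distinguished_cocone_triangle₁ p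
  have hF : F.IsLE (q - 1) := by
    rw [DerivedCategory.isLE_iff]
    intro j hj
    have := hp j (by lia)
    have h₃ : Mono ((DerivedCategory.homologyFunctor C j).map p) := inferInstance
    refine (HomologySequence.exact₁ _ hT (j - 1) j).isZero_X₂ ?_ ?_
    · rcases lt_or_ge (j - 1) q with h | h
      · exact (top.isZero_of_isGE q (j - 1) h).eq_of_src _ _
      · have := hp (j - 1) h
        exact (HomologySequence.epi_homologyMap_mor₂_iff _ hT (j - 1) j).1
          (inferInstanceAs (Epi ((DerivedCategory.homologyFunctor C (j - 1)).map p)))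
    · exact (HomologySequence.mono_homologyMap_mor₂_iff _ hT j).1 h₃
  have hcancel : ∀ {W : DerivedCategory C} [W.IsGE (q - 1)] (v : top ⟶ W), p ≫ v = 0 → v = 0 := by
    intro W _ v hv
    obtain ⟨(u : F⟦(1 : ℤ)⟧ ⟶ W), (hu : v = c ≫ u)⟩ := Triangle.yoneda_exact₃ _ hT v hv
    have : t.IsLE (F⟦(1 : ℤ)⟧) (q - 2) := t.isLE_shift F (q - 1) 1 (q - 2) (by lia)
    rw [hu, t.zero_of_isLE_of_isGE u (q - 2) (q - 1) (by lia) this inferInstance, comp_zero]
  have hag : a ≫ g = 0 := DTrunc.eq_zero_of_homologyMap_eq_zero _ (q - 1)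
    (by rw [Functor.map_comp, hg₁, comp_zero])
  obtain ⟨(g₁ : top ⟶ B), (hgg : g = p ≫ g₁)⟩ := Triangle.yoneda_exact₂ _ hT g hag
  -- the cone of `i`
  obtain ⟨Z, b, d, hT'⟩ := distinguished_cocone_triangle i
  have hZ : Z.IsGE q := by
    rw [DerivedCategory.isGE_iff]
    intro j hj
    have := hi j (by lia)
    refine (HomologySequence.exact₃ _ hT' j (j + 1)).isZero_X₂ ?_ ?_
    · exact (HomologySequence.epi_homologyMap_mor₁_iff _ hT' j).1
        (inferInstanceAs (Epi ((DerivedCategory.homologyFunctor C j).map i)))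
    · rcases lt_or_ge (q - 1) (j + 1) with h | h
      · exact (src.isZero_of_isLE (q - 1) (j + 1) h).eq_of_tgt _ _
      · have := hi (j + 1) h
        exact (HomologySequence.mono_homologyMap_mor₁_iff _ hT' j (j + 1)).1
          (inferInstanceAs (Mono ((DerivedCategory.homologyFunctor C (j + 1)).map i)))
  have hg₁' : (DerivedCategory.homologyFunctor C q).map g₁ = 0 := by
    have := hp q le_rfl
    rw [← cancel_epi ((DerivedCategory.homologyFunctor C q).map p), comp_zero, ← Functor.map_comp,
      ← hgg, hg₂]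
  have hgb : g₁ ≫ b = 0 := DTrunc.eq_zero_of_homologyMap_eq_zero _ q
    (by rw [Functor.map_comp, hg₁', zero_comp])
  obtain ⟨(L : top ⟶ src), (hL : g₁ = L ≫ i)⟩ := Triangle.coyoneda_exact₂ _ hT' g₁ hgb
  refine ⟨L, ?_, fun L' hL' => ?_⟩
  · change g = p ≫ L ≫ i
    rw [hgg, hL]
  · obtain ⟨(L'' : top ⟶ src), rfl⟩ : ∃ x : top ⟶ src, x = L' := ⟨L', rfl⟩
    have e : p ≫ (L'' - L) ≫ i = 0 := by
      have e' : g = p ≫ L'' ≫ i := hL'
      rw [Preadditive.sub_comp, Preadditive.comp_sub, ← e', ← hL, ← hgg, sub_self]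
    have e₂ : (L'' - L) ≫ i = 0 := hcancel _ e
    obtain ⟨(u : top ⟶ Z⟦(-1 : ℤ)⟧), hu⟩ :=
      Triangle.coyoneda_exact₂ _ (inv_rot_of_distTriang _ hT') (L'' - L) e₂
    have : t.IsGE (Z⟦(-1 : ℤ)⟧) (q + 1) := t.isGE_shift Z q (-1) (q + 1) (by lia)
    have hu0 : u = 0 := t.zero_of_isLE_of_isGE u q (q + 1) (by lia) inferInstance this
    rw [hu0] at hu
    exact sub_eq_zero.1 (hu.trans zero_comp)

end Groth.Agent.S14388
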