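import Groth.Statements.S14392
import Groth.Agent.S14381
import Groth.Agent.H18LccSplit.Main
import Groth.Agent.H18LccSplit.Vanish

set_option autoImplicit false
open CategoryTheory CategoryTheory.Limits AlgebraicGeometry Opposite
universe u
open EtCoh

namespace Groth.Agent.S14392

/-- Let p be a prime number and X a connected affine scheme of characteristic p (p = 0 in the ring of
global sections). Then X is a K(π,1) for p-torsion coefficients: for every finite locally constant
abelian sheaf F on the small étale site of X killed by some power p^h (h ≥ 0, equivalently by an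
integer n ≥ 1 whose only prime factor is p), every q > 0 and every class ζ ∈ H^q(X_ét, F), there is
a finite étale surjective morphism g : X' → X such that g^*ζ = 0 in H^q(X'_ét, g⁻¹F). (Exactness of
pullback of abelian sheaves, which always holds, is carried as an instance hypothesis.) -/
theorem result (p : ℕ) [Fact p.Prime] (X : Scheme.{u}) [IsAffine X]
    [ConnectedSpace ↥X] [CharP Γ(X, ⊤) p] (F : EtCoh.Ab X) (hF : EtCoh.IsFiniteLocallyConstant F)
    (htor : ∃ h : ℕ, EtCoh.KilledBy (p ^ h) F) (q : ℕ) (hq : 0 < q) (ζ : EtCoh.H X F q) :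
    ∃ (X' : Scheme.{u}) (g : X' ⟶ X), IsFinite g ∧ Etale g ∧ Surjective g ∧
      ∀ [PreservesFiniteLimits (EtCoh.pull g)], EtCore.Hpull g F q ζ = 0 := by
  obtain ⟨h, hh⟩ := htor
  rcases Nat.lt_or_ge q 2 with hq2 | hq2
  · obtain rfl : q = 1 := by omega
    haveI : Finite (_root_.ConnectedComponents X) := Finite.of_subsingleton
    exact Groth.Agent.S14381.result X inferInstance F hF
      ⟨p ^ h, pow_pos (Fact.out : p.Prime).pos h, hh⟩ ζ
  obtain ⟨W, hfin, hsurj, hconn, hFW, ⟨e⟩⟩ := Groth.Agent.H18LccSplit.exists_connected_split F hF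
  haveI := hfin
  let w : W.left ⟶ X := W.hom
  haveI : IsFinite w := hfin
  haveI : IsAffine W.left := isAffine_of_isAffineHom w
  let φ : Γ(X, ⊤) →+* Γ(W.left, ⊤) := (W.hom : W.left ⟶ X).appTop.hom
  haveI : Nontrivial Γ(W.left, ⊤) := by
    obtain ⟨x⟩ : Nonempty W.left := hconn.toNonempty
    exact (W.left.evaluation ⊤ x trivial).hom.domain_nontrivial
  haveI : CharP Γ(W.left, ⊤) p := (CharP.charP_iff_prime_eq_zero (Fact.out : p.Prime)).2 (by
    rw [← map_natCast φ, CharP.cast_eq_zero, map_zero])
  haveI : Finite (F.obj.obj (op W)) := hFW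
  refine ⟨W.left, W.hom, hfin, W.prop, hsurj, fun {_} => ?_⟩
  have hs := Groth.Agent.H18LccSplit.subsingleton_H_const p W.left h q hq2 _ (F.obj.obj (op W)) le_rfl (hh W)
  exact (((Sheaf.functorH _ q).mapIso e).addCommGroupIsoToAddEquiv.injective.subsingleton (β := EtCoh.H W.left _ q)).elim _ _

end Groth.Agent.S14392
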