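import Groth.Statements.S14397

set_option autoImplicit false
universe u
open DualGr

namespace Groth.Agent.S14397

/-- Let (V, E) with endpoint map E → V × V be a finite multigraph (loops and parallel edges allowed; the
order of the two endpoints is an auxiliary orientation), and let D_1, …, D_n be finite sets of edges
such that every edge lies outside at least one D_i. For each i let Γ_i be the multigraph obtained by
contracting the edges of D_i, and let H₁(Γ, ℤ) → H₁(Γ_i, ℤ) be the map of cycle lattices (integer
edge vectors with zero boundary) given by restriction to the surviving edges. Then the map H₁(Γ, ℤ)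
→ ⊕_i H₁(Γ_i, ℤ) has torsion-free cokernel. (The published statement is about the connected labelled
dual graph of the closed fibre of a nodal curve, smooth outside a normal crossing divisor with
components D_1, …, D_n, over a Noetherian regular strictly local base; Γ_i is the dual graph of the
fibre over the generic point of D_i, the lattices are identified with the character groups of the
toric parts of the Picard schemes of these fibres, and the map is the generization map of character
groups; this row states the assertion about cycle lattices, for any finite multigraph, which is what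
the argument establishes.) -/
theorem result
    {V E : Type u} [Fintype V] [Fintype E] [DecidableEq V] [DecidableEq E]
    (ends : E → V × V) {n : ℕ} (D : Fin n → Finset E) (hcover : ∀ e : E, ∃ i : Fin n, e ∉ D i) :
    IsAddTorsionFree (((i : Fin n) → ↥(DualGr.cycleLattice (DualGr.ctrEnds ends (D i)))) ⧸
      LinearMap.range (LinearMap.pi fun i : Fin n => DualGr.genMap ends (D i))) := by
  classical
  refine ⟨fun m hm x y hxy => ?_⟩
  obtain ⟨x, rfl⟩ := Submodule.Quotient.mk_surjective _ x
  obtain ⟨y, rfl⟩ := Submodule.Quotient.mk_surjective _ y
  have hxy' : m • (x - y) ∈ LinearMap.range (LinearMap.pi fun i : Fin n => DualGr.genMap ends (D i)) := by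
    have h2 : m • (Submodule.Quotient.mk x : _ ⧸ (LinearMap.pi fun i : Fin n => DualGr.genMap ends (D i)).range) =
        m • Submodule.Quotient.mk y := hxy
    rw [← Submodule.Quotient.mk_smul, ← Submodule.Quotient.mk_smul, Submodule.Quotient.eq] at h2
    rwa [smul_sub]
  obtain ⟨γ, hγ⟩ := hxy'
  rw [Submodule.Quotient.eq]
  have hdiv : ∀ e : E, ∃ z : ℤ, γ.1 e = (m : ℤ) * z := by
    intro e
    obtain ⟨i, hi⟩ := hcover e
    refine ⟨((x - y) i).1 ⟨e, hi⟩, ?_⟩
    have h1 := congrArg (fun f => (f i).1 ⟨e, hi⟩) hγ
    simp only [LinearMap.pi_apply] at h1
    change γ.1 e = _ at h1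
    rw [h1]
    simp [smul_eq_mul]
  choose z hz using hdiv
  have hzc : z ∈ DualGr.cycleLattice ends := by
    have h0 : DualGr.boundaryHom ends γ.1 = 0 := γ.2
    have hγz : γ.1 = (m : ℤ) • z := funext fun e => by rw [hz e]; simp
    rw [hγz, map_smul] at h0
    exact (smul_eq_zero.1 h0).resolve_left (by exact_mod_cast hm)
  refine ⟨⟨z, hzc⟩, ?_⟩
  funext i
  apply Subtype.ext
  funext e
  have h1 := congrArg (fun f => (f i).1 e) hγ
  simp only [LinearMap.pi_apply] at h1 ⊢
  change γ.1 e.1 = _ at h1
  change z e.1 = _
  rw [hz e.1] at h1
  have h2 : (m : ℤ) * z e.1 = (m : ℤ) * ((x - y) i).1 e := by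
    rw [h1]; simp [smul_eq_mul]
  exact mul_left_cancel₀ (by exact_mod_cast hm) h2

end Groth.Agent.S14397
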