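import Groth.Statements.S1440
import Groth.Agent.H7Flat.CompletelyDecomposedStrat
import Mathlib

set_option maxHeartbeats 1000000
set_option backward.isDefEq.respectTransparency false

set_option autoImplicit false
universe u
open FlatMor AlgebraicGeometry CategoryTheory CategoryTheory.Limits TopologicalSpace Topology

namespace Groth.Agent.S1440

open AlgebraicGeometry CategoryTheory Limits in
/-- Let f : X → Y be locally of finite presentation with Y quasi-compact and quasi-separated, and assume
f is completely decomposed: every point y of Y is the image of a point x at which the residue field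
extension is trivial. Then there are finitely many immersions Z_i → Y of finite presentation,
jointly surjective, such that each base change X ×_Y Z_i → Z_i admits a section. -/
theorem result {X Y : Scheme.{u}} (f : X ⟶ Y) [LocallyOfFinitePresentation f] [CompactSpace ↑Y] [QuasiSeparatedSpace ↑Y]
    (hcd : ∀ y : Y, ∃ x : X, f x = y ∧ Function.Bijective (f.residueFieldMap x)) :
    ∃ (n : ℕ) (Z : Fin n → Scheme.{u}) (z : ∀ i, Z i ⟶ Y), (∀ y : Y, ∃ i, y ∈ Set.range ⇑(z i)) ∧
      ∀ i, IsImmersion (z i) ∧ LocallyOfFinitePresentation (z i) ∧ QuasiCompact (z i) ∧ QuasiSeparated (z i) ∧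
        ∃ s : Z i ⟶ pullback f (z i), s ≫ pullback.snd f (z i) = 𝟙 (Z i) := by
  classical
  have key : ∀ y : Y, ∃ (Z : Scheme.{u}) (z : Z ⟶ Y) (E : Set Y), y ∈ E ∧ E ⊆ Set.range z ∧
      IsOpen (WithTopology.ofTopology ⁻¹' E : Set (WithConstructibleTopology Y)) ∧
      IsImmersion z ∧ LocallyOfFinitePresentation z ∧ QuasiCompact z ∧ QuasiSeparated z ∧
      ∃ σ : Z ⟶ pullback f z, σ ≫ pullback.snd f z = 𝟙 Z := by
    intro y
    obtain ⟨x, rfl, hbij⟩ := hcd y
    obtain ⟨U, hU, hyU, -⟩ := exists_isAffineOpen_mem_and_subset (show f x ∈ (⊤ : Y.Opens) from trivial)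
    obtain ⟨W, hW, hxW, hWU⟩ := exists_isAffineOpen_mem_and_subset (show x ∈ f ⁻¹ᵁ U from hyU)
    replace hWU : W ≤ f ⁻¹ᵁ U := hWU
    let A := Γ(Y, U)
    let B := Γ(X, W)
    let φ := f.appLE U W hWU
    letI : Algebra A B := φ.hom.toAlgebra
    haveI : Algebra.FinitePresentation A B := f.finitePresentation_appLE hU hW hWU
    let K := Y.residueField (f x)
    letI : Algebra A K := (Y.evaluation U (f x) hyU).hom.toAlgebra
    let e := RingEquiv.ofBijective (f.residueFieldMap x).hom hbij
    let ψ : B →ₐ[A] K := { e.symm.toRingHom.comp (X.evaluation W x hxW).hom with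
      commutes' := fun a => by
        show e.symm (X.evaluation W x hxW (f.appLE U W hWU a)) = Y.evaluation U (f x) hyU a
        rw [RingEquiv.symm_apply_eq]
        show _ = f.residueFieldMap x (Y.evaluation U (f x) hyU a)
        simp only [← CommRingCat.comp_apply]
        congr 1
        rw [Scheme.evaluation_naturality, Scheme.Hom.appLE, Category.assoc]
        congr 1
        simp only [← Scheme.germ_residue, ← Category.assoc, TopCat.Presheaf.germ_res] }
    have hfrac : ∀ z : K, ∃ a g : A, algebraMap A K g ≠ 0 ∧ z * algebraMap A K g = algebraMap A K a := by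
      intro z
      obtain ⟨z, rfl⟩ := Y.residue_surjective (f x) z
      letI := TopCat.Presheaf.algebra_section_stalk Y.presheaf (⟨f x, hyU⟩ : U)
      haveI := hU.isLocalization_stalk ⟨f x, hyU⟩
      obtain ⟨⟨a, g⟩, hag⟩ := IsLocalization.surj (hU.primeIdealOf ⟨f x, hyU⟩).asIdeal.primeCompl z
      refine ⟨a, g, ?_, ?_⟩
      · show Y.residue (f x) (algebraMap A (Y.presheaf.stalk (f x)) g) ≠ 0
        exact ((IsLocalization.map_units (Y.presheaf.stalk (f x)) g).map (Y.residue (f x)).hom).ne_zero
      · show Y.residue (f x) z * Y.residue (f x) (algebraMap A (Y.presheaf.stalk (f x)) g) =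
          Y.residue (f x) (algebraMap A (Y.presheaf.stalk (f x)) a)
        rw [← map_mul, hag]
    obtain ⟨g, r, hg, hr, ⟨σ0⟩⟩ := H7Flat.CDStrat.exists_stage ψ hfrac
    let I := Ideal.span (r : Set A)
    let L := Localization.Away (Ideal.Quotient.mk I g)
    let i1 := Spec.map (CommRingCat.ofHom (algebraMap (A ⧸ I) L))
    let i2 := Spec.map (CommRingCat.ofHom (algebraMap A (A ⧸ I)))
    let z : Spec (CommRingCat.of L) ⟶ Y := i1 ≫ i2 ≫ hU.fromSpec
    let E : Set Y := (Y.basicOpen g : Set Y) ∩ ⋂ a ∈ r, (Y.basicOpen a : Set Y)ᶜ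
    have hfac : Spec.map (CommRingCat.ofHom σ0.toRingHom) ≫ hW.fromSpec ≫ f = z := by
      rw [← IsAffineOpen.SpecMap_appLE_fromSpec f hU hW hWU, ← Spec.map_comp_assoc]
      show _ = i1 ≫ i2 ≫ hU.fromSpec
      rw [← Spec.map_comp_assoc]
      congr 2
      refine CommRingCat.hom_ext (RingHom.ext fun a => ?_)
      show σ0 (algebraMap A B a) = algebraMap (A ⧸ I) L (algebraMap A (A ⧸ I) a)
      rw [σ0.commutes, ← IsScalarTower.algebraMap_apply]
    refine ⟨_, z, E, ?_, ?_, ?_, ?_, ?_, ?_, ?_,
      pullback.lift (Spec.map (CommRingCat.ofHom σ0.toRingHom) ≫ hW.fromSpec) (𝟙 _)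
        (by rw [Category.assoc, hfac, Category.id_comp]), pullback.lift_snd _ _ _⟩
    · refine ⟨(Scheme.evaluation_ne_zero_iff_mem_basicOpen Y (f x) hyU g).mp hg, Set.mem_iInter₂.mpr fun a ha => ?_⟩
      exact (Scheme.evaluation_eq_zero_iff_notMem_basicOpen Y (f x) hyU a).mp (hr a ha)
    · rintro y' ⟨hy'g, hy'r⟩
      rw [← hU.fromSpec_image_basicOpen] at hy'g
      obtain ⟨p, hp, rfl⟩ := hy'g
      have hpI : I ≤ p.asIdeal := by
        refine Ideal.span_le.mpr fun a ha => ?_
        by_contra hap
        refine Set.mem_iInter₂.mp hy'r a ha ?_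
        rw [← hU.fromSpec_image_basicOpen]
        exact ⟨p, hap, rfl⟩
      let pI : PrimeSpectrum (A ⧸ I) := ⟨p.asIdeal.map (Ideal.Quotient.mk I), Ideal.isPrime_map_quotientMk_of_isPrime hpI⟩
      have hpI' : pI.asIdeal.comap (Ideal.Quotient.mk I) = p.asIdeal := by
        show (p.asIdeal.map (Ideal.Quotient.mk I)).comap (Ideal.Quotient.mk I) = _
        rw [Ideal.comap_map_of_surjective _ Ideal.Quotient.mk_surjective, ← RingHom.ker_eq_comap_bot, Ideal.mk_ker,
          sup_eq_left.mpr hpI]
      obtain ⟨w, hw⟩ : pI ∈ Set.range (PrimeSpectrum.comap (algebraMap (A ⧸ I) L)) := by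
        rw [PrimeSpectrum.localization_away_comap_range L (Ideal.Quotient.mk I g)]
        intro h
        exact hp (hpI'.le h)
      refine ⟨w, ?_⟩
      show hU.fromSpec (PrimeSpectrum.comap (algebraMap A (A ⧸ I)) (PrimeSpectrum.comap (algebraMap (A ⧸ I) L) w)) = _
      rw [hw]
      exact congrArg _ (PrimeSpectrum.ext hpI')
    · rw [Set.preimage_inter, Set.preimage_iInter₂]
      refine IsOpen.inter ?_ (isOpen_biInter_finset fun a _ => ?_)
      · rw [WithConstructibleTopology.isOpen_iff]
        exact IsCompact.isOpen_constructibleTopology_of_isOpen (hU.basicOpen g).isCompact (Y.basicOpen g).2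
      · rw [WithConstructibleTopology.isOpen_iff]
        refine IsCompact.isOpen_constructibleTopology_of_isClosed ?_ (Y.basicOpen a).2.isClosed_compl
        change IsCompact ((Y.basicOpen a : Set Y)ᶜ)ᶜ; rw [compl_compl]
        exact (hU.basicOpen a).isCompact
    · haveI : IsClosedImmersion i2 := IsClosedImmersion.spec_of_surjective _ Ideal.Quotient.mk_surjective
      haveI : IsOpenImmersion i1 := IsOpenImmersion.of_isLocalization (Ideal.Quotient.mk I g)
      exact inferInstanceAs (IsImmersion (i1 ≫ i2 ≫ hU.fromSpec))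
    · haveI : LocallyOfFinitePresentation i2 := (HasRingHomProperty.Spec_iff (P := @LocallyOfFinitePresentation)).mpr
        (RingHom.FinitePresentation.of_surjective _ Ideal.Quotient.mk_surjective (by
          rw [show RingHom.ker (CommRingCat.ofHom (algebraMap A (A ⧸ I))).hom = I from Ideal.mk_ker]
          exact ⟨r, rfl⟩))
      haveI : IsOpenImmersion i1 := IsOpenImmersion.of_isLocalization (Ideal.Quotient.mk I g)
      exact inferInstanceAs (LocallyOfFinitePresentation (i1 ≫ i2 ≫ hU.fromSpec))
    · infer_instance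
    · infer_instance
  choose Z z E hyE hE hEo hz1 hz2 hz3 hz4 hσ using key
  obtain ⟨s, hs⟩ := isCompact_univ.elim_finite_subcover
    (fun y : Y => (WithTopology.ofTopology ⁻¹' E y : Set (WithConstructibleTopology Y))) hEo
    fun x _ => Set.mem_iUnion.mpr ⟨_, hyE (WithTopology.ofTopology x)⟩
  let em := s.equivFin.symm
  refine ⟨s.card, fun i => Z (em i), fun i => z (em i), fun y => ?_, fun i => ⟨hz1 _, hz2 _, hz3 _, hz4 _, hσ _⟩⟩
  obtain ⟨k, hk, hyk⟩ := Set.mem_iUnion₂.mp (hs (Set.mem_univ (WithTopology.toTopology _ y)))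
  refine ⟨s.equivFin ⟨k, hk⟩, ?_⟩
  show y ∈ Set.range (z (em (s.equivFin ⟨k, hk⟩)))
  rw [Equiv.symm_apply_apply]
  exact hE k hyk

end Groth.Agent.S1440
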