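import Groth.Statements.S14400
import Groth.Agent.H13Desc.GaloisHom

set_option autoImplicit false
universe u
open CategoryTheory CategoryTheory.Limits AlgebraicGeometry
open Desc

namespace Groth.Agent.S14400

/-- Let K/k be a finite Galois extension of fields, X and Y schemes over k with base changes X_K and
Y_K, and g : X_K ⟶ Y_K a morphism over Spec K. Then g is the base change of a k-morphism f : X ⟶ Y
(that is, g followed by the projection Y_K ⟶ Y is the projection X_K ⟶ X followed by f) if and only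
if g commutes with the action of every k-automorphism σ of K on X_K and on Y_K (the identity on X,
resp. Y, and Spec σ on the factor Spec K). In other words the image of the k-morphisms X ⟶ Y among
the K-morphisms X_K ⟶ Y_K is exactly the set of Galois-invariant ones. -/
theorem result (k : Type u) [Field k] (K : Type u) [Field K]
    [Algebra k K] [FiniteDimensional k K] [IsGalois k K]
    (X Y : Scheme.{u}) [X.Over (Spec (CommRingCat.of k))] [Y.Over (Spec (CommRingCat.of k))]
    (g : Curv2.bc k X K ⟶ Curv2.bc k Y K) (hg : g ≫ Curv2.bcSnd k Y K = Curv2.bcSnd k X K) :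
    (∃ f : X ⟶ Y, f ≫ (Y ↘ Spec (CommRingCat.of k)) = X ↘ Spec (CommRingCat.of k) ∧
        g ≫ Curv2.bcFst k Y K = Curv2.bcFst k X K ≫ f) ↔
      ∀ σ : K ≃ₐ[k] K, Curv2.galAct k X K σ ≫ g = g ≫ Curv2.galAct k Y K σ := by
  have hfst : ∀ (Z : Scheme.{u}) [Z.Over (Spec (CommRingCat.of k))] (σ : K ≃ₐ[k] K),
      Curv2.galAct k Z K σ ≫ Curv2.bcFst k Z K = Curv2.bcFst k Z K := fun Z _ σ =>
    (pullback.lift_fst _ _ _).trans (Category.comp_id _)
  have hsnd : ∀ (Z : Scheme.{u}) [Z.Over (Spec (CommRingCat.of k))] (σ : K ≃ₐ[k] K),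
      Curv2.galAct k Z K σ ≫ Curv2.bcSnd k Z K =
        Curv2.bcSnd k Z K ≫ Spec.map (CommRingCat.ofHom (σ : K →ₐ[k] K).toRingHom) := fun Z _ σ =>
    pullback.lift_snd _ _ _
  constructor
  · rintro ⟨f, -, hg'⟩ σ
    apply pullback.hom_ext
    · show (_ ≫ _) ≫ Curv2.bcFst k Y K = (_ ≫ _) ≫ Curv2.bcFst k Y K
      rw [Category.assoc, Category.assoc, hg', hfst Y, hg', ← Category.assoc, hfst X]
    · show (_ ≫ _) ≫ Curv2.bcSnd k Y K = (_ ≫ _) ≫ Curv2.bcSnd k Y K
      rw [Category.assoc, Category.assoc, hg, hsnd Y, ← Category.assoc g, hg, hsnd X]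
  · intro h
    obtain ⟨f, hf⟩ := Groth.Agent.H13Desc.GaloisHom.exists_desc (X ↘ Spec (CommRingCat.of k))
      (Curv2.galAct k X K) (hfst X) (hsnd X) (g ≫ Curv2.bcFst k Y K)
      (fun σ => by rw [← Category.assoc, h σ, Category.assoc, hfst Y])
    have hπ : Epi (pullback.fst (X ↘ Spec (CommRingCat.of k))
        (Spec.map (CommRingCat.ofHom (algebraMap k K)))) := by
      have hc1 : Flat (Spec.map (CommRingCat.ofHom (algebraMap k K))) :=
        Flat.SpecMap_iff.mpr (RingHom.flat_algebraMap_iff.mpr inferInstance)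
      have hc2 : Surjective (Spec.map (CommRingCat.ofHom (algebraMap k K))) :=
        ⟨fun y => ⟨IsLocalRing.closedPoint K, Subsingleton.elim _ _⟩⟩
      infer_instance
    refine ⟨f, hπ.left_cancellation _ _ ?_, hf.symm⟩
    rw [← Category.assoc, hf]
    show (g ≫ pullback.fst _ _) ≫ _ = _
    rw [Category.assoc, pullback.condition, ← Category.assoc]
    refine (congrArg (· ≫ Spec.map (CommRingCat.ofHom (algebraMap k K))) hg).trans ?_
    exact (pullback.condition (f := X ↘ Spec (CommRingCat.of k))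
      (g := Spec.map (CommRingCat.ofHom (algebraMap k K)))).symm

end Groth.Agent.S14400
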