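import Groth.Statements.S14401
import Groth.Agent.H8Props.Generic

set_option autoImplicit false
universe u
open CategoryTheory AlgebraicGeometry
open Props

namespace Groth.Agent.S14401

/-- Let X be a Noetherian scheme all of whose local rings are integral domains. Then each irreducible
component of X is an open subset of X, and each point of X lies on exactly one irreducible component
(so the irreducible components of X are pairwise disjoint, open and closed, and coincide with the
connected components). (The published statement assumes X regular and Noetherian; its argument uses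
only that the local rings of X are domains, which is the hypothesis taken here.) -/
theorem result (X : Scheme.{u}) [AlgebraicGeometry.IsNoetherian X]
    (hX : ∀ x : X, IsDomain (X.presheaf.stalk x)) :
    (∀ Z ∈ irreducibleComponents (X : Type u), IsOpen Z) ∧
      ∀ x : X, ∃! Z, Z ∈ irreducibleComponents (X : Type u) ∧ x ∈ Z := by
  have huniq : ∀ x : X, ∀ η₁ ∈ genericPoints X, ∀ η₂ ∈ genericPoints X,
      η₁ ⤳ x → η₂ ⤳ x → η₁ = η₂ := by
    intro x η₁ h₁ η₂ h₂ s₁ s₂
    have := hX x
    let p₀ : PrimeSpectrum (X.presheaf.stalk x) := ⟨⊥, Ideal.isPrime_bot⟩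
    have key : ∀ η ∈ genericPoints X, η ⤳ x → η = X.fromSpecStalk x p₀ := by
      intro η hη hs
      obtain ⟨p, rfl⟩ : η ∈ Set.range (X.fromSpecStalk x) := by
        rw [Scheme.range_fromSpecStalk]; exact hs
      refine ((H8Props.mem_genericPoints_iff.mp hη) _ ?_).symm
      exact ((PrimeSpectrum.le_iff_specializes p₀ p).mp (show ⊥ ≤ p.asIdeal from bot_le)).map
        (X.fromSpecStalk x).continuous
    rw [key η₁ h₁ s₁, key η₂ h₂ s₂]
  refine ⟨fun Z hZ ↦ ?_, fun x ↦ ?_⟩
  · obtain ⟨ζ, hζ⟩ := QuasiSober.sober hZ.1 (isClosed_of_mem_irreducibleComponents Z hZ)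
    have hfin : (genericPoints X).Finite :=
      genericPoints.finite finite_irreducibleComponents_of_isNoetherian
    have hζg : ζ ∈ genericPoints X := show closure {ζ} ∈ irreducibleComponents X by rwa [hζ.def]
    have : Z = (⋃ γ ∈ genericPoints X \ {ζ}, closure {γ})ᶜ := by
      ext x
      simp only [Set.mem_compl_iff, Set.mem_iUnion, not_exists]
      refine ⟨fun hx γ hγ hxγ ↦ hγ.2 (huniq x γ hγ.1 ζ hζg (specializes_iff_mem_closure.mpr hxγ)
        (hζ.specializes hx)), fun h ↦ ?_⟩
      obtain ⟨η, hη, hs⟩ := H8Props.exists_genericPoints_specializes x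
      by_cases he : η = ζ
      · rw [← hζ.def, ← he]; exact hs.mem_closure
      · exact absurd hs.mem_closure (h η ⟨hη, he⟩)
    rw [this]
    exact (hfin.sdiff.isClosed_biUnion fun _ _ ↦ isClosed_closure).isOpen_compl
  · obtain ⟨η, hη, hs⟩ := H8Props.exists_genericPoints_specializes x
    refine ⟨closure {η}, ⟨hη, hs.mem_closure⟩, fun Z hZ ↦ ?_⟩
    obtain ⟨ζ, hζ⟩ := QuasiSober.sober hZ.1.1 (isClosed_of_mem_irreducibleComponents Z hZ.1)
    rw [← hζ.def, huniq x ζ (show closure {ζ} ∈ irreducibleComponents X by rw [hζ.def]; exact hZ.1)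
      η hη (hζ.specializes hZ.2) hs]

end Groth.Agent.S14401
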