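import Groth.Statements.S14404
import Groth.Agent.H8Props.FieldDimEquidim

set_option autoImplicit false
universe u
open CategoryTheory AlgebraicGeometry
open FlatMor

namespace Groth.Agent.S14404

/-- Let k be a field, X and Y irreducible schemes of finite type over k and f : X ⟶ Y a flat k-morphism.
Then dim Y ≤ dim X, and for every point y of Y every irreducible component Z of the scheme-theoretic
fibre of f over y has dim Z + dim Y = dim X; that is, every non-empty fibre has all its irreducible
components of dimension dim X − dim Y. -/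
theorem result (k : Type u) [Field k]
    {X Y : Scheme.{u}} (qX : X ⟶ Spec (CommRingCat.of k)) (qY : Y ⟶ Spec (CommRingCat.of k))
    [LocallyOfFiniteType qX] [QuasiCompact qX] [LocallyOfFiniteType qY] [QuasiCompact qY]
    [IrreducibleSpace X] [IrreducibleSpace Y] (f : X ⟶ Y) (hf : f ≫ qY = qX) [Flat f] :
    topologicalKrullDim Y ≤ topologicalKrullDim X ∧
      ∀ (y : Y), ∀ Z ∈ irreducibleComponents (f.fiber y : Type u),
        topologicalKrullDim Z + topologicalKrullDim Y = topologicalKrullDim X := by
  obtain ⟨ξ⟩ : Nonempty X := inferInstance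
  refine ⟨?_, fun y Z hZ => ?_⟩
  · haveI := Groth.Agent.H8Props.FieldDim.locallyOfFiniteType_of_over qX qY f hf
    haveI := Groth.Agent.H8Props.FieldDim.locallyOfFiniteType_fiberToSpec f (f ξ)
    obtain ⟨s, hs⟩ := Groth.Agent.H8Props.FieldDim.exists_nat_localDim (k := Y.residueField (f ξ))
      (f.fiberToSpecResidueField (f ξ)) (f.asFiber ξ)
    have hadd := (Groth.Agent.H8Props.FieldDim.localDim_le_fibreDimAt_add qX qY f hf ξ).2
      (Flat.stalkMap f ξ)
    rw [← Groth.Agent.H8Props.FieldDim.localDim_eq_dim_of_irreducible qX ξ,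
      ← Groth.Agent.H8Props.FieldDim.localDim_eq_dim_of_irreducible qY (f ξ), hadd, FlatMor.fibreDimAt,
      hs]
    exact le_add_of_nonneg_left (by exact_mod_cast Nat.zero_le s)
  · obtain ⟨x, -, h⟩ := Groth.Agent.H8Props.FieldDim.exists_fibre_component qX qY f hf y Z hZ
    rwa [Groth.Agent.H8Props.FieldDim.localDim_eq_dim_of_irreducible qY,
      Groth.Agent.H8Props.FieldDim.localDim_eq_dim_of_irreducible qX] at h

end Groth.Agent.S14404
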