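import Groth.Statements.S14405
import Mathlib.NumberTheory.BernoulliPolynomials
import Mathlib.Tactic

set_option autoImplicit false
open Polynomial
open HilbNum

namespace Groth.Agent.S14405

/-- Let φ be a function from the integers to the rationals and Q a nonzero polynomial with rational
coefficients of degree d such that φ(m) - φ(m-1) = Q(m) for every integer m. Then there is a
polynomial P with rational coefficients, of degree d + 1, such that φ(m) = P(m) for every integer m.
(The explicit form of P in the binomial basis is not part of this statement.) -/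
theorem result (φ : ℤ → ℚ) (d : ℕ) (Q : ℚ[X]) (hQ : Q ≠ 0)
    (hd : Q.natDegree = d) (h : ∀ m : ℤ, φ m - φ (m - 1) = Q.eval (m : ℚ)) :
    ∃ P : ℚ[X], P.natDegree = d + 1 ∧ ∀ m : ℤ, φ m = P.eval (m : ℚ) := by
  classical
  let P0 : ℚ[X] := ∑ k ∈ Finset.range (d + 1), C (Q.coeff k / (k + 1)) * (Polynomial.bernoulli (k + 1)).comp (1 + X)
  have hdiff : ∀ m : ℤ, P0.eval (m : ℚ) - P0.eval ((m - 1 : ℤ) : ℚ) = Q.eval (m : ℚ) := by
    intro m
    conv_rhs => rw [Polynomial.eval_eq_sum_range' (n := d + 1) (show Q.natDegree < d + 1 by omega) (m : ℚ)]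
    simp only [P0, eval_finsetSum, ← Finset.sum_sub_distrib]
    refine Finset.sum_congr rfl fun k _ => ?_
    have h0 : (k : ℚ) + 1 ≠ 0 := by positivity
    simp only [eval_mul, eval_C, eval_comp, eval_add, eval_one, eval_X]
    rw [Polynomial.bernoulli_eval_one_add]
    push_cast
    rw [show (1 : ℚ) + ((m : ℚ) - 1) = m by ring]
    field_simp
    ring
  let P : ℚ[X] := P0 + C (φ 0 - P0.eval 0)
  refine ⟨P, ?_, ?_⟩
  · have hdeg : ∀ j, ((Polynomial.bernoulli j).comp (1 + X)).natDegree = j ∧
        ((Polynomial.bernoulli j).comp (1 + X)).coeff j = 1 := by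
      intro j
      have h1 : (Polynomial.bernoulli j).natDegree = j :=
        natDegree_eq_of_le_of_coeff_ne_zero (natDegree_le_iff_coeff_eq_zero.mpr fun i hi => by
          rw [Polynomial.coeff_bernoulli, if_neg]; omega) (by simp [Polynomial.coeff_bernoulli])
      have h2 : (1 + X : ℚ[X]) = X + C 1 := by rw [map_one, add_comm]
      have h3 : ((Polynomial.bernoulli j).comp (1 + X)).natDegree = j := by
        rw [natDegree_comp, h1, h2, natDegree_X_add_C, mul_one]
      refine ⟨h3, ?_⟩
      have h4 : ((Polynomial.bernoulli j).comp (1 + X)).leadingCoeff = 1 := by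
        rw [leadingCoeff_comp (by rw [h2, natDegree_X_add_C]; exact one_ne_zero), h2, leadingCoeff_X_add_C, one_pow, mul_one,
          Polynomial.leadingCoeff, h1]
        simp [Polynomial.coeff_bernoulli]
      rwa [Polynomial.leadingCoeff, h3] at h4
    simp only [P, natDegree_add_C]
    refine natDegree_eq_of_le_of_coeff_ne_zero ?_ ?_
    · refine natDegree_sum_le_of_forall_le _ _ fun k hk => (natDegree_C_mul_le _ _).trans ?_
      rw [(hdeg _).1]; have := Finset.mem_range.mp hk; omega
    · simp only [P0, finsetSum_coeff, coeff_C_mul]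
      rw [Finset.sum_eq_single d]
      · rw [(hdeg _).2, mul_one]
        refine div_ne_zero ?_ (by positivity)
        rw [← hd]; exact fun hc => hQ (leadingCoeff_eq_zero.mp hc)
      · intro k hk hne
        rw [coeff_eq_zero_of_natDegree_lt (p := (Polynomial.bernoulli (k + 1)).comp (1 + X)) (by rw [(hdeg _).1]; have := Finset.mem_range.mp hk; omega), mul_zero]
      · simp
  · intro m
    have hP : ∀ m : ℤ, P.eval (m : ℚ) = P0.eval (m : ℚ) + (φ 0 - P0.eval 0) := fun m => by simp [P]
    induction m using Int.induction_on with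
    | zero => simp [P]
    | succ i ih =>
      have := h (i + 1); rw [add_sub_cancel_right] at this
      have h2 := hdiff (i + 1); rw [add_sub_cancel_right] at h2
      rw [hP] at ih ⊢; linarith
    | pred i ih =>
      have := h (-i); have h2 := hdiff (-i)
      rw [hP] at ih ⊢; linarith

end Groth.Agent.S14405
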