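import Groth.Statements.S14407
import Groth.Agent.H7Forms.Wedge
-- import your own Groth.Agent.* helpers here

set_option autoImplicit false
universe u
open CategoryTheory CategoryTheory.Limits AlgebraicGeometry
open NonsingVar

namespace Groth.Agent.S14407

/-- Let k be an algebraically closed field and X, X′ smooth connected complete varieties of dimension n
over k, modelled as integral schemes proper over k all of whose local rings are regular and whose
underlying spaces have dimension n, and suppose X and X′ are birational: a nonempty open subscheme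
of X is isomorphic over k to an open subscheme of X′. Let ω and ω′ be n-th exterior powers of the
sheaves of differentials of X and X′ over k (canonical sheaves) and let m ≥ 1. Then the k-vector
spaces of global sections of the m-th tensor powers, H^0(X, ω^{⊗m}) and H^0(X′, ω′^{⊗m}), have the
same dimension: the m-th plurigenus P_m(X) = P_m(X′). For m = 1 this is the birational invariance of
the geometric genus. -/
theorem result (k : Type u) [Field k] [IsAlgClosed k] (n : ℕ)
    (X X' : Scheme.{u}) [X.Over (Spec (CommRingCat.of k))] [X'.Over (Spec (CommRingCat.of k))] [IsIntegral X] [IsIntegral X']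
    [IsProper (X ↘ (Spec (CommRingCat.of k)))] [IsProper (X' ↘ (Spec (CommRingCat.of k)))]
    (hreg : ∀ x : ↥X, IsRegularLocalRing ↑(X.presheaf.stalk x))
    (hreg' : ∀ x : ↥X', IsRegularLocalRing ↑(X'.presheaf.stalk x))
    (hn : topologicalKrullDim ↥X = n) (hn' : topologicalKrullDim ↥X' = n)
    (U : X.Opens) (U' : X'.Opens) (hU : (U : Set ↥X).Nonempty) (e : (U : Scheme.{u}) ≅ (U' : Scheme.{u}))
    (he : e.hom ≫ U'.ι ≫ (X' ↘ (Spec (CommRingCat.of k))) = U.ι ≫ (X ↘ (Spec (CommRingCat.of k))))
    (ω : X.Modules) (hω : ExtPow.IsExtPow n (Omega.sheaf (X ↘ (Spec (CommRingCat.of k)))) ω)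
    (ω' : X'.Modules) (hω' : ExtPow.IsExtPow n (Omega.sheaf (X' ↘ (Spec (CommRingCat.of k)))) ω')
    (m : ℕ) (hm : 1 ≤ m) :
    Module.finrank k (Coh.HH X (CohB1.tensorPow ω m) 0) = Module.finrank k (Coh.HH X' (CohB1.tensorPow ω' m) 0) := by
  have hU' : (U' : Set ↥X').Nonempty := by
    obtain ⟨x, hx⟩ := hU
    exact ⟨U'.ι (e.hom ⟨x, hx⟩), (e.hom ⟨x, hx⟩).2⟩
  have he' : e.inv ≫ U.ι ≫ (X ↘ (Spec (CommRingCat.of k))) = U'.ι ≫ (X' ↘ (Spec (CommRingCat.of k))) := by
    rw [← he, Iso.inv_hom_id_assoc]
  exact le_antisymm (H7Forms.finrank_tpow_topForms_le k n hreg' hreg hn' hn U' U hU' e.symm he' hω' hω m)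
    (H7Forms.finrank_tpow_topForms_le k n hreg hreg' hn hn' U U' hU e he hω hω' m)

end Groth.Agent.S14407
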