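import Groth.Statements.S14408
import Groth.Agent.H10Coh.Stab.Degree
import Groth.Agent.H10Coh.SerreVanishing2
import Groth.Agent.H11Ample.Converse
import Groth.Agent.H25Euler.Mult
import Groth.Agent.H25Euler.Additive
import Groth.Agent.LeadVan.Vanishing
import Groth.Agent.S10829


set_option autoImplicit false
set_option linter.style.haveILetI false
set_option backward.isDefEq.respectTransparency false
set_option synthInstance.maxHeartbeats 200000
universe u
open CategoryTheory CategoryTheory.Limits AlgebraicGeometry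
open HilbNum

namespace Groth.Agent.S14408

/-- Let k be an algebraically closed field, n a positive integer, F a nonzero coherent O-module on
projective n-space P over k (quasi-coherent of finite type), and P_F a polynomial with rational
coefficients such that P_F(m) = χ(F(m)) = Σ_{j ≤ n} (-1)^j dim_k H^j(P, F ⊗ O(m)) for every integer
m. Then the degree of P_F equals the dimension of the support of F (the closed set of points where
the stalk of F is nonzero, with the subspace topology). The existence of such a polynomial is not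
part of this statement; it enters through the hypothesis on P_F. -/
theorem result (k : Type u) [Field k] [IsAlgClosed k] (n : ℕ) (hn : 0 < n)
    (F : (CohB1.ProjSpace n k).Modules) (hF : Coh.IsCoh F) (hF0 : ¬ IsZero F) (P : Polynomial ℚ)
    (hP : ∀ m : ℤ,
      ((Finset.range (n + 1)).sum fun j => (-1 : ℚ) ^ j *
        (Module.finrank k (Coh.HH (CohB1.ProjSpace n k) (CohB1.tensorMod F (Twist.twistProjSpace n k m)) j) : ℚ)) =
      P.eval (m : ℚ)) :
    topologicalKrullDim ↥(CohB1.support F) = (P.natDegree : WithBot ℕ∞) := by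
  letI : IsProper (CohB1.ProjSpace n k ↘ Spec (CommRingCat.of k)) :=
    inferInstanceAs (IsProper (CohB1.ProjSpace.toSpec n k))
  haveI : IsLocallyNoetherian (CohB1.ProjSpace n k) :=
    LocallyOfFiniteType.isLocallyNoetherian (CohB1.ProjSpace n k ↘ Spec (CommRingCat.of k))
  haveI : CompactSpace (CohB1.ProjSpace n k) :=
    QuasiCompact.compactSpace_of_compactSpace (CohB1.ProjSpace n k ↘ Spec (CommRingCat.of k))
  haveI : IsNoetherian (CohB1.ProjSpace n k) := {}
  have hdimP : topologicalKrullDim (CohB1.ProjSpace n k) = (n : WithBot ℕ∞) := Groth.Agent.S10829.result k n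
  have hle : topologicalKrullDim ↥(CohB1.support F) ≤ (n : WithBot ℕ∞) :=
    (topologicalKrullDim_subspace_le _ _).trans_eq hdimP
  haveI : Nonempty ↥(CohB1.support F) := (Groth.Agent.H25Euler.support_nonempty hF0).to_subtype
  obtain ⟨d, hd⟩ : ∃ d : ℕ, topologicalKrullDim ↥(CohB1.support F) = (d : WithBot ℕ∞) := by
    obtain ⟨e, he⟩ : ∃ e : ℕ∞, topologicalKrullDim ↥(CohB1.support F) = (e : WithBot ℕ∞) := by
      refine WithBot.ne_bot_iff_exists.1 ?_ |>.imp fun e h => h.symm
      rw [topologicalKrullDim, Ne, Order.krullDim_eq_bot_iff, not_isEmpty_iff]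
      exact ⟨⟨irreducibleComponent (Classical.arbitrary ↥(CohB1.support F)), isIrreducible_irreducibleComponent,
        isClosed_irreducibleComponent⟩⟩
    obtain ⟨d, rfl⟩ : ∃ d : ℕ, e = d := by
      refine ⟨e.toNat, (ENat.coe_toNat fun htop => ?_).symm⟩
      rw [he, htop] at hle
      exact (ENat.coe_lt_top n).not_ge (WithBot.coe_le_coe.1 hle)
    exact ⟨d, he⟩
  have hP' : ShStab.IsHilbPoly k (CohB1.ProjSpace n k) (Twist.twistProjSpace n k 1) F P := by
    intro m
    have h1 : ∀ x : Proj (Groth.Agent.H10Coh.Pn.Gr n k), ∃ f ∈ Groth.Agent.H10Coh.Pn.Gr n k 1,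
        f ∉ x.asHomogeneousIdeal := fun x => by
      obtain ⟨i, hi⟩ := Groth.Agent.H11Ample.exists_mem_basicOpen_X x
      exact ⟨_, Groth.Agent.H11Ample.X_mem i, hi⟩
    obtain ⟨e₁⟩ : Nonempty (Twist.twistProjSpace n k (m : ℤ) ≅
        CohB1.tensorPow (Twist.twistProjSpace n k 1) m) :=
      Groth.Agent.H11Tilde.nonempty_twist_iso_tensorPow (Groth.Agent.H10Coh.Pn.Gr n k) h1 m
    have hm := hP (m : ℤ)
    rw [Int.cast_natCast] at hm
    rw [← hm]
    unfold ShStab.twist
    rw [← Groth.Agent.H25Euler.euler_congr (k := k) (PicGrp.tensorModIso (Iso.refl F) e₁),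
      Groth.Agent.H25Euler.euler_eq_sum (k := k) _ (n + 1) fun p hp =>
        Groth.Agent.LeadVan.subsingleton_H_of_dim_le (X := (CohB1.ProjSpace n k).toPresheafedSpace.carrier) n hdimP.le
          _ p (by omega)]
    push_cast
    rfl
  obtain ⟨hdeg, -⟩ := Groth.Agent.H10Coh.Stab.degree_hilbPoly
    (Groth.Agent.H11Ample.isAmple_twistProjSpace n k) hF hd hP'
  rw [hd, hdeg]

end Groth.Agent.S14408
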