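import Groth.Statements.S14410

set_option linter.style.haveILetI false

set_option autoImplicit false
universe u
open CategoryTheory TopologicalSpace
open CohTop

namespace Groth.Agent.S14410

section
open TopologicalSpace
end

/-- Let X be a topological space and 0 → F₁ → F₂ → F₃ → 0 a short exact sequence of sheaves of abelian
groups on X. If F₁ and F₃ are flasque (every restriction map is surjective), then F₂ is flasque.
(The published statement is for O_X-modules on a ringed space and is an equivalence; this row states
the implication from the outer terms to the middle term, for the underlying abelian sheaves.) -/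
theorem result (X : TopCat.{u})
    (S : ShortComplex (TopCat.Sheaf AddCommGrpCat.{u} X)) (hS : S.ShortExact)
    [S.X₁.IsFlasque] [S.X₃.IsFlasque] : S.X₂.IsFlasque := by
  refine ⟨fun {U V} i => (AddCommGrpCat.epi_iff_surjective _).2 fun x => ?_⟩
  haveI := hS.mono_f
  let S' : ShortComplex (Sheaf (Opens.grothendieckTopology X) AddCommGrpCat.{u}) := S
  haveI : Mono S'.f := hS.mono_f
  have hex : (S'.map (sheafToPresheaf (Opens.grothendieckTopology X) AddCommGrpCat.{u} ⋙
    (evaluation (Opens X)ᵒᵖ AddCommGrpCat.{u}).obj V)).Exact :=
    (show S'.Exact from hS.exact).map_of_mono_of_preservesKernel _ inferInstance inferInstance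
  obtain ⟨c, hc⟩ := (AddCommGrpCat.epi_iff_surjective (S.X₃.obj.map i)).1 inferInstance (S.g.1.app V x)
  haveI := TopCat.Sheaf.IsFlasque.epi_of_shortExact (U := U.unop) hS
  obtain ⟨b, hb⟩ := (AddCommGrpCat.epi_iff_surjective (S.g.1.app U)).1 this c
  obtain ⟨a, ha⟩ := (ShortComplex.ab_exact_iff _).1 hex (x - S.X₂.obj.map i b) (by
    show S.g.1.app V (x - S.X₂.obj.map i b) = 0
    rw [map_sub, NatTrans.naturality_apply, hb, hc, sub_self])
  obtain ⟨a', rfl⟩ := (AddCommGrpCat.epi_iff_surjective (S.X₁.obj.map i)).1 inferInstance a
  refine ⟨b + S.f.1.app U a', ?_⟩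
  rw [map_add, ← NatTrans.naturality_apply]
  exact eq_add_of_sub_eq' ha.symm |>.symm

end Groth.Agent.S14410
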