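import Groth.Statements.S14412
import Groth.Agent.H3CAlg.ExtLoc

set_option autoImplicit false
universe u
open CategoryTheory
open CAlg

namespace Groth.Agent.S14412

/-- Let R be a Noetherian commutative ring, S a multiplicative subset of R, and M, N finitely generated
R-modules. For i ≥ 0 consider the map Ext^i_R(M, N) → Ext^i_{S⁻¹R}(S⁻¹M, S⁻¹N) induced on Ext groups
(computed in the categories of modules) by the exact localization functor M ↦ S⁻¹M. Then this map
exhibits its target as the localization S⁻¹ Ext^i_R(M, N): every element of the target, after
multiplication by some s ∈ S, is the image of an element of Ext^i_R(M, N), and an element of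
Ext^i_R(M, N) maps to zero if and only if it is annihilated by some element of S. (Equivalently, the
induced map identifies S⁻¹Ext^i_R(M, N) with Ext^i_{S⁻¹R}(S⁻¹M, S⁻¹N).) -/
theorem result (R : Type u) [CommRing R] [IsNoetherianRing R]
    (S : Submonoid R) (M N : ModuleCat.{u} R) [Module.Finite R M] [Module.Finite R N] (i : ℕ) :
    (∀ y : Abelian.Ext ((ModuleCat.localizedModuleFunctor.{u} S).obj M) ((ModuleCat.localizedModuleFunctor.{u} S).obj N) i,
        ∃ (e : Abelian.Ext M N i) (s : S),
          algebraMap R (Localization S) (s : R) • y = (ModuleCat.localizedModuleFunctor.{u} S).mapExtAddHom M N i e) ∧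
      (∀ e : Abelian.Ext M N i,
        (ModuleCat.localizedModuleFunctor.{u} S).mapExtAddHom M N i e = 0 ↔ ∃ s : S, (s : R) • e = 0) := by
  exact ⟨(Groth.Agent.H3CAlg.ext_localization S N i M inferInstance).1,
    fun e => Groth.Agent.H3CAlg.ext_localization_zero_iff S M N i e⟩

end Groth.Agent.S14412
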