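import Groth.Statements.S14414
import Groth.Agent.H3CAlg.PdResolution
import Mathlib.Algebra.Category.ModuleCat.Monoidal.Basic
import Mathlib.Algebra.Category.ModuleCat.Projective
import Mathlib.CategoryTheory.Monoidal.Tor
import Mathlib.LinearAlgebra.FreeModule.PID
import Mathlib.RingTheory.Flat.TorsionFree
import Mathlib.RingTheory.Henselian
import Mathlib.RingTheory.LocalProperties.Reduced
import Mathlib.RingTheory.QuasiFinite.Basic
import Mathlib.RingTheory.RegularLocalRing.Defs
import Mathlib.RingTheory.SimpleRing.Principal

set_option autoImplicit false
universe u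
open CategoryTheory CategoryTheory.Limits
open CAlg

namespace Groth.Agent.S14414

/-- Let R be a commutative ring and N an R-module of projective dimension at most q, in the sense that
Ext^i_R(N, N′) = 0 for all i > q and all N′ (equivalently, N has a projective resolution of length
at most q). Then for every R-module M and every i > q, Tor_i^R(M, N) — the value at N of the i-th
left derived functor of M ⊗_R (-) — is zero. -/
theorem result (R : Type u) [CommRing R]
    (M N : ModuleCat.{u} R) (q : ℕ) [HasProjectiveDimensionLE N q] (i : ℕ) (hi : q < i) :
    IsZero (((CategoryTheory.Tor (ModuleCat.{u} R) i).obj M).obj N) := by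
  obtain ⟨P, hP⟩ := Groth.Agent.H3CAlg.exists_resolution_of_pdLE q N inferInstance
  refine IsZero.of_iso ?_ (P.isoLeftDerivedObj (MonoidalCategory.tensorLeft M) i)
  refine HomologicalComplex.ExactAt.isZero_homology ?_
  rw [HomologicalComplex.exactAt_iff]
  exact ShortComplex.exact_of_isZero_X₂ _ (Functor.map_isZero (MonoidalCategory.tensorLeft M) (hP i hi) :)

end Groth.Agent.S14414
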