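import Groth.Statements.S14415
import Groth.Agent.H4Depth.Regular
import Groth.Agent.H17.AssPts
import Groth.Agent.H29Blow.AssPoints
import Groth.Agent.H8Props.FlatLocus.Sections
import Groth.Agent.H8Props.FinLocFree.Sheaf
import Groth.Agent.H8Props.FinLocFree.Fibre
import Groth.Agent.H06EGA9.StructureStalk
import Mathlib.RingTheory.DiscreteValuationRing.TFAE
import Mathlib.RingTheory.Flat.TorsionFree

set_option autoImplicit false
universe u
open CategoryTheory AlgebraicGeometry
open FlatMor

namespace Groth.Agent.S14415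

open AlgebraicGeometry CategoryTheory TopologicalSpace

theorem isUnit_germ_of_specializes {Y : Scheme.{u}} {W : Y.Opens} (hW : IsAffineOpen W) {w y : Y}
    (hw : w ∈ W) (hy : y ∈ W) (hwy : w ⤳ y) [IsDomain (Y.presheaf.stalk y)]
    [IsRegularLocalRing (Y.presheaf.stalk w)] (h0 : ringKrullDim (Y.presheaf.stalk w) = 0)
    {t : Γ(Y, W)} (ht : Y.presheaf.germ W y hy t ≠ 0) : IsUnit (Y.presheaf.germ W w hw t) := by
  haveI : IsDomain (Y.presheaf.stalk w) := H4Depth.isDomain_of_isRegularLocalRing _
  haveI : Ring.KrullDimLE 0 (Y.presheaf.stalk w) := ⟨h0.le⟩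
  have hF : IsField (Y.presheaf.stalk w) := Ring.KrullDimLE.isField_of_isDomain
  letI := hF.toField
  refine isUnit_iff_ne_zero.2 fun hz => ht ?_
  letI := TopCat.Presheaf.algebra_section_stalk Y.presheaf ⟨w, hw⟩
  letI := TopCat.Presheaf.algebra_section_stalk Y.presheaf ⟨y, hy⟩
  haveI := hW.isLocalization_stalk ⟨w, hw⟩
  haveI := hW.isLocalization_stalk ⟨y, hy⟩
  obtain ⟨u, hu⟩ := (IsLocalization.map_eq_zero_iff (hW.primeIdealOf ⟨w, hw⟩).asIdeal.primeCompl
    (Y.presheaf.stalk w) t).1 hz
  have hut : Y.presheaf.germ W y hy u * Y.presheaf.germ W y hy t = 0 := by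
    rw [← map_mul, hu, map_zero]
  refine (mul_eq_zero.1 hut).resolve_left fun hu0 => ?_
  obtain ⟨v, hv⟩ := (IsLocalization.map_eq_zero_iff (hW.primeIdealOf ⟨y, hy⟩).asIdeal.primeCompl
    (Y.presheaf.stalk y) (u : Γ(Y, W))).1 hu0
  have hle := (H29Blow.primeIdealOf_le_iff hW ⟨w, hw⟩ ⟨y, hy⟩).2 hwy
  exact (((hW.primeIdealOf ⟨w, hw⟩).isPrime.mem_or_mem
    (hv ▸ zero_mem (hW.primeIdealOf ⟨w, hw⟩).asIdeal)).elim (fun h => v.2 (hle h)) u.2)


/-- Let f : C → C' be a finite morphism of schemes, with C' locally Noetherian and all local rings of C'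
regular of dimension at most one, such that every associated point x of C (a point whose maximal
ideal is an associated prime of O_{C,x}) maps to a point of C' whose local ring is zero-dimensional,
that is, to a generic point of an irreducible component of C'. Then f_* O_C is finite locally free.
(The published statement takes C' regular Noetherian of pure dimension one and C Noetherian of pure
dimension one without embedded points; these hypotheses imply that every associated point of C maps
to a generic point of C'. This row assumes only that condition, allows C' locally Noetherian with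
regular local rings of dimension at most one, and puts no condition on the dimension of C; the
argument is local on C'.) -/
theorem result
    (C C' : Scheme.{u}) (f : C ⟶ C') [IsFinite f] [IsLocallyNoetherian C']
    (hreg : ∀ y : C', IsRegularLocalRing (C'.presheaf.stalk y))
    (hdim : ∀ y : C', ringKrullDim (C'.presheaf.stalk y) ≤ 1)
    (hass : ∀ x : C, Curv2.IsAssPoint (Coh.structureModule C) x →
      ringKrullDim (C'.presheaf.stalk (f.base x)) = 0) :
    FlatMod.IsFinLocFree ((Coh.push f).obj (Coh.structureModule C)) := by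
  haveI : IsLocallyNoetherian C := LocallyOfFiniteType.isLocallyNoetherian f
  haveI : IsLocallyNoetherian C' := ‹_›
  have hflat : ∀ x : C, (f.stalkMap x).hom.Flat := by
    intro x
    haveI := hreg (f.base x)
    haveI : IsDomain (C'.presheaf.stalk (f.base x)) := H4Depth.isDomain_of_isRegularLocalRing _
    have hp : (IsLocalRing.maximalIdeal (C'.presheaf.stalk (f.base x))).IsPrincipal := by
      have h1 := (isRegularLocalRing_iff (R := C'.presheaf.stalk (f.base x))).1 inferInstance
      obtain ⟨T, hcard, hT⟩ := Submodule.FG.exists_span_finset_card_eq_spanFinrank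
        (IsNoetherian.noetherian (IsLocalRing.maximalIdeal (C'.presheaf.stalk (f.base x))))
      have hle : T.card ≤ 1 := by
        rw [hcard]
        have h2 := h1.le.trans (hdim (f.base x))
        exact_mod_cast h2
      classical
      obtain ⟨a, ha⟩ := Finset.card_le_one_iff_subset_singleton.1 hle
      refine ⟨⟨if a ∈ T then a else 0, ?_⟩⟩
      rw [← hT]
      by_cases h : a ∈ T
      · rw [if_pos h, (Finset.subset_singleton_iff.1 ha).resolve_left (Finset.ne_empty_of_mem h),
          Finset.coe_singleton]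
      · rw [if_neg h, (Finset.subset_singleton_iff.1 ha).resolve_right fun e => h (e ▸ Finset.mem_singleton_self a)]
        simp
    haveI : IsPrincipalIdealRing (C'.presheaf.stalk (f.base x)) :=
      ((tfae_of_isNoetherianRing_of_isLocalRing_of_isDomain _).out 4 0).1 hp
    algebraize [(f.stalkMap x).hom]
    show Module.Flat (C'.presheaf.stalk (f.base x)) (C.presheaf.stalk x)
    rw [Module.Flat.flat_iff_torsion_eq_bot_of_isBezout, eq_bot_iff]
    rintro a ⟨⟨r, hr⟩, hra : r • a = 0⟩
    have hr0 : r ≠ 0 := nonZeroDivisors.ne_zero hr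
    obtain ⟨_, ⟨W, hW, rfl⟩, hyW, -⟩ :=
      C'.isBasis_affineOpens.exists_subset_of_mem_open (Set.mem_univ (f.base x)) isOpen_univ
    letI := TopCat.Presheaf.algebra_section_stalk C'.presheaf ⟨f.base x, hyW⟩
    haveI := hW.isLocalization_stalk ⟨f.base x, hyW⟩
    obtain ⟨⟨t, u⟩, htu : r * C'.presheaf.germ W _ hyW u = C'.presheaf.germ W _ hyW t⟩ :=
      IsLocalization.surj (hW.primeIdealOf ⟨f.base x, hyW⟩).asIdeal.primeCompl r
    have ht : C'.presheaf.germ W _ hyW t ≠ 0 := by
      rw [← htu]
      exact mul_ne_zero hr0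
        (IsLocalization.map_units (C'.presheaf.stalk (f.base x)) u).ne_zero
    show a = 0
    obtain ⟨W₀, hxW₀, s₀, rfl⟩ := C.presheaf.exists_germ_eq a
    obtain ⟨_, ⟨V, hV, rfl⟩, hxV, hVle⟩ := C.isBasis_affineOpens.exists_subset_of_mem_open
      (show x ∈ (W₀ ⊓ f ⁻¹ᵁ W : C.Opens) from ⟨hxW₀, hyW⟩) (W₀ ⊓ f ⁻¹ᵁ W).isOpen
    have hVW : V ≤ f ⁻¹ᵁ W := fun z hz => (hVle hz).2
    let t' : Γ(C, V) := f.appLE W V hVW t
    have hgerm : ∀ (z : C) (hz : z ∈ V), C.presheaf.germ V z hz t' =
        f.stalkMap z (C'.presheaf.germ W (f.base z) (hVW hz) t) := fun z hz => by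
      rw [Scheme.Hom.germ_stalkMap_apply, ← TopCat.Presheaf.germ_res_apply C.presheaf (homOfLE hVW) z hz]
      rfl
    let s : Γ(C, V) := C.presheaf.map (homOfLE (fun z hz => (hVle hz).1)).op s₀
    rw [← TopCat.Presheaf.germ_res_apply C.presheaf (homOfLE (fun z hz => (hVle hz).1)) x hxV s₀] at hra ⊢
    have hts : C.presheaf.germ V x hxV (t' * s) = 0 := by
      rw [map_mul, hgerm x hxV, ← htu, map_mul]
      rw [Algebra.smul_def] at hra
      linear_combination (f.stalkMap x (C'.presheaf.germ W (f.base x) hyW u)) * hra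
    obtain ⟨v, hxv, hv⟩ := H17.AssPts.exists_smul_eq_zero_of_germ (Coh.structureModule C)
      H10Coh.isQuasicoherent_unit hV hxV (s := t' • (show Γ(Coh.structureModule C, V) from s))
      ((H29Blow.germ_structureModule_eq_zero_iff hxV _).2 hts)
    by_contra hs
    have hvs : (Coh.structureModule C).presheaf.germ V x hxV (v • (show Γ(Coh.structureModule C, V) from s)) ≠ 0 := by
      rw [H17.AssPts.germ_smul']
      intro h
      exact hs ((H29Blow.germ_structureModule_eq_zero_iff hxV _).1
        (((H17.AssPts.isUnit_germ_iff hxV v).2 hxv).smul_eq_zero.1 h))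
    obtain ⟨z, hz, hzA, hzx, hne⟩ := H17.AssPts.exists_ass_specializes_of_germ (Coh.structureModule C)
      H10Coh.isQuasicoherent_unit hV hxV hvs
    haveI := hreg (f.base z)
    have hu : IsUnit (C.presheaf.germ V z hz t') := by
      rw [hgerm z hz]
      exact (isUnit_germ_of_specializes hW (hVW hz) hyW (hzx.map f.continuous) (hass z hzA) ht).map _
    have h2 := congrArg ((Coh.structureModule C).presheaf.germ V z hz) hv
    rw [smul_comm, H17.AssPts.germ_smul', map_zero] at h2
    exact hne (hu.smul_eq_zero.1 h2)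
  have hG : Coh.IsQCoh ((Coh.push f).obj (Coh.structureModule C)) :=
    @H10Coh.isQuasicoherent_pushforward_of_isAffineHom _ _ f _ _ H10Coh.isQuasicoherent_unit
  refine H8Props.FinLocFree.isFinLocFree_of_sections _ hG fun y => ?_
  obtain ⟨_, ⟨W, hW, rfl⟩, hyW, -⟩ :=
    C'.isBasis_affineOpens.exists_subset_of_mem_open (Set.mem_univ y) isOpen_univ
  refine ⟨W, hW, hyW, ?_, (H8Props.FinLocFree.flat_sections_iff _ hG hW).2 fun w => ?_⟩
  · haveI : IsNoetherianRing Γ(C', W) := IsLocallyNoetherian.component_noetherian ⟨W, hW⟩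
    haveI : Module.Finite Γ(C', W) Γ((Coh.push f).obj (Coh.structureModule C), W) := f.finite_app W hW
    exact Module.finitePresentation_of_finite _ _
  · rw [← H8Props.FinLocFree.isFlatOverAt_id_iff]
    refine (H8Props.FlatLocus.isFlatOver_push_iff f (𝟙 C') _ H10Coh.isQuasicoherent_unit).1 ?_ w.1
    rw [Category.comp_id]
    exact fun x => (H06EGA9.isFlatOverAt_structureModule_iff f x).2 (hflat x)

end Groth.Agent.S14415
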