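import Groth.Statements.S14416
import Groth.Agent.H3CAlg.PdResolution
import Mathlib.Algebra.Category.ModuleCat.Monoidal.Basic
import Mathlib.Algebra.Category.ModuleCat.Projective
import Mathlib.CategoryTheory.Monoidal.Tor
import Mathlib.LinearAlgebra.FreeModule.PID
import Mathlib.RingTheory.Flat.TorsionFree
import Mathlib.RingTheory.Henselian
import Mathlib.RingTheory.LocalProperties.Reduced
import Mathlib.RingTheory.QuasiFinite.Basic
import Mathlib.RingTheory.RegularLocalRing.Defs
import Mathlib.RingTheory.SimpleRing.Principal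

set_option autoImplicit false
universe u
open scoped TensorProduct
open CAlg

namespace Groth.Agent.S14416

/-- Let B → A be a ring map with A a finitely generated B-module such that for every prime ideal p of B
the fibre κ(p) ⊗_B A has dimension at most one over the residue field κ(p). Then B → A is
surjective. In scheme language: a finite morphism whose degree at every point of the target is 0 or
1 is a closed immersion. (The published statement assumes the two schemes Noetherian; that
hypothesis plays no role and is dropped here.) -/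
theorem result
    (B A : Type u) [CommRing B] [CommRing A] [Algebra B A] [Module.Finite B A]
    (h : ∀ p : PrimeSpectrum B,
      Module.finrank p.asIdeal.ResidueField (p.asIdeal.ResidueField ⊗[B] A) ≤ 1) :
    Function.Surjective (algebraMap B A) := by
  classical
  set N := LinearMap.range (Algebra.linearMap B A)
  suffices N = ⊤ from fun a => LinearMap.range_eq_top.mp this a
  have key : ∀ m : Ideal B, m.IsMaximal → ∀ a : A, ∃ b : B, a - algebraMap B A b ∈ m • (⊤ : Submodule B A) := by
    intro m hm a
    have hh := h ⟨m, hm.isPrime⟩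
    obtain ⟨c, hc⟩ : ∃ c : m.ResidueField, c ⊗ₜ[B] (1 : A) = (1 : m.ResidueField) ⊗ₜ[B] a := by
      by_cases h0 : ((1 : m.ResidueField) ⊗ₜ[B] (1 : A)) = 0
      · refine ⟨0, ?_⟩
        have : ((1 : m.ResidueField) ⊗ₜ[B] a) = ((1 : m.ResidueField) ⊗ₜ[B] (1 : A)) * ((1 : m.ResidueField) ⊗ₜ[B] a) := by
          simp
        rw [this, h0, zero_mul, TensorProduct.zero_tmul]
      · obtain ⟨v, hv⟩ := finrank_le_one_iff.mp hh
        obtain ⟨c1, hc1⟩ := hv ((1 : m.ResidueField) ⊗ₜ[B] (1 : A))
        obtain ⟨c2, hc2⟩ := hv ((1 : m.ResidueField) ⊗ₜ[B] a)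
        have hc10 : c1 ≠ 0 := by rintro rfl; rw [zero_smul] at hc1; exact h0 hc1.symm
        refine ⟨c2 * c1⁻¹, ?_⟩
        have e : c2 • v = (c2 * c1⁻¹) • (c1 • v) := by rw [smul_smul, inv_mul_cancel_right₀ hc10]
        rw [← hc2, e, hc1, TensorProduct.smul_tmul', smul_eq_mul, mul_one]
    obtain ⟨b, rfl⟩ := Ideal.algebraMap_residueField_surjective m c
    refine ⟨b, ?_⟩
    have h2 : (1 : m.ResidueField) ⊗ₜ[B] (a - algebraMap B A b) = 0 := by
      rw [TensorProduct.tmul_sub, sub_eq_zero, ← hc, Algebra.algebraMap_eq_smul_one, TensorProduct.smul_tmul,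
        Algebra.algebraMap_eq_smul_one]
    let e : (B ⧸ m) ≃ₐ[B] m.ResidueField :=
      AlgEquiv.ofBijective (IsScalarTower.toAlgHom B (B ⧸ m) m.ResidueField) (Ideal.bijective_algebraMap_quotient_residueField m)
    have h3 := congrArg (fun z => TensorProduct.quotTensorEquivQuotSMul A m (LinearMap.rTensor A e.symm.toLinearMap z)) h2
    simp only [LinearMap.rTensor_tmul, map_zero] at h3
    rw [show e.symm.toLinearMap (1 : m.ResidueField) = Ideal.Quotient.mk m 1 from map_one e.symm,
      TensorProduct.quotTensorEquivQuotSMul_mk_tmul, one_smul, Submodule.Quotient.mk_eq_zero] at h3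
    exact h3
  by_contra hne
  let Ann : Ideal B := Module.annihilator B (A ⧸ N)
  have hAnn : Ann ≠ ⊤ := fun htop => hne (by
    rw [eq_top_iff]
    intro a _
    have : (1 : B) • (Submodule.Quotient.mk a : A ⧸ N) = 0 := Module.mem_annihilator.mp (show (1 : B) ∈ Ann by rw [htop]; trivial) _
    rwa [one_smul, Submodule.Quotient.mk_eq_zero] at this)
  obtain ⟨m, hm, hle⟩ := Ideal.exists_le_maximal Ann hAnn
  have htop : (⊤ : Submodule B (A ⧸ N)) ≤ m • ⊤ := by
    rintro x -
    obtain ⟨a, rfl⟩ := Submodule.Quotient.mk_surjective _ x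
    obtain ⟨b, hb⟩ := key m hm a
    have h4 := Submodule.mem_map_of_mem (f := N.mkQ) hb
    rw [Submodule.map_smul''] at h4
    have h5 : N.mkQ (a - algebraMap B A b) = Submodule.Quotient.mk a := by
      rw [map_sub, Submodule.mkQ_apply, Submodule.mkQ_apply,
        (Submodule.Quotient.mk_eq_zero N).mpr (show algebraMap B A b ∈ N from ⟨b, rfl⟩), sub_zero]
    rw [h5] at h4
    exact Submodule.smul_mono le_rfl le_top h4
  obtain ⟨r, hr, hr0⟩ := Submodule.exists_sub_one_mem_and_smul_eq_zero_of_fg_of_le_smul m ⊤ Module.Finite.fg_top htop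
  have hrm : r ∈ m := hle (Module.mem_annihilator.mpr fun x => hr0 x trivial)
  exact hm.ne_top ((Ideal.eq_top_iff_one m).mpr (by simpa using sub_mem hrm hr))

end Groth.Agent.S14416
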