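import Groth.Statements.S14417
import Groth.Agent.H7Lim.GenericSmoothDim
-- import your own Groth.Agent.* helpers here

set_option autoImplicit false
universe u
open CategoryTheory AlgebraicGeometry
open Variety

namespace Groth.Agent.S14417

/-- Generic smoothness on the source: let π : X → Y be a dominant morphism of finite type between
integral Noetherian schemes, sending the generic point of X to that of Y, such that the function
field K(Y) (equivalently K(X)) has characteristic zero, and let n be the transcendence degree of
K(X) over K(Y). Then there is a nonempty (equivalently dense) open subscheme U of X on which π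
restricts to a smooth morphism U → Y of relative dimension n. -/
theorem result
    (X Y : Scheme.{u}) [IsIntegral X] [IsIntegral Y] [IsNoetherian X] [IsNoetherian Y]
    (π : X ⟶ Y) [LocallyOfFiniteType π] [QuasiCompact π]
    (hdom : π.base (genericPoint X) = genericPoint Y) [CharZero Y.functionField]
    (n : ℕ) (hn : @Algebra.trdeg (Y.presheaf.stalk (π.base (genericPoint X))) X.functionField _ _
      (π.stalkMap (genericPoint X)).hom.toAlgebra = n) :
    ∃ U : X.Opens, (U : Set X).Nonempty ∧ SmoothOfRelativeDimension n (U.ι ≫ π) := by
  have hf : IsField (Y.presheaf.stalk (π (genericPoint X))) := by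
    rw [show π (genericPoint X) = genericPoint Y from hdom]
    exact Field.toIsField Y.functionField
  haveI hchar : CharZero (Y.presheaf.stalk (π (genericPoint X))) := by
    rw [show π (genericPoint X) = genericPoint Y from hdom]
    exact ‹CharZero Y.functionField›
  have hη : genericPoint X ∈ π.smoothLocus := by
    have := LocallyOfFiniteType.stalkMap π (genericPoint X)
    show genericPoint X ∈ π.smoothLocus
    rw [Scheme.Hom.mem_smoothLocus]
    algebraize [(π.stalkMap (genericPoint X)).hom]
    let : Field (Y.presheaf.stalk (π (genericPoint X))) := hf.toField
    exact Algebra.FormallySmooth.of_perfectField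
  obtain ⟨W, d, hxW, hW⟩ :=
    Groth.Agent.H7Lim.GenericSmoothDim.exists_open_smoothOfRelativeDimension π hη
  haveI := hW
  have hmax : ∀ z : X, z ⤳ genericPoint X → z = genericPoint X := fun z hz =>
    (hz.antisymm (genericPoint_specializes z)).eq
  have h1 := Groth.Agent.H7Lim.GenericSmoothDim.trdeg_eq π hxW d hmax
  have hbY : Function.Bijective (Y.residue (π (genericPoint X))).hom := by
    letI := hf.toField
    exact ⟨RingHom.injective _, Y.residue_surjective _⟩
  have hbX : Function.Bijective (X.residue (genericPoint X)).hom := by
    exact ⟨RingHom.injective (R := X.functionField) _, X.residue_surjective _⟩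
  letI aS : Algebra (Y.presheaf.stalk (π (genericPoint X))) X.functionField :=
    (π.stalkMap (genericPoint X)).hom.toAlgebra
  letI aR : Algebra (Y.residueField (π (genericPoint X))) (X.residueField (genericPoint X)) :=
    (π.residueFieldMap (genericPoint X)).hom.toAlgebra
  haveI : FaithfulSMul (Y.residueField (π (genericPoint X))) (X.residueField (genericPoint X)) :=
    (faithfulSMul_iff_algebraMap_injective _ _).2 (RingHom.injective _)
  have h2 := Groth.Agent.H22Alg.DimFunLft.trdeg_congr (R := Y.presheaf.stalk (π (genericPoint X))) (A := X.functionField)
    (R' := Y.residueField (π (genericPoint X))) (A' := X.residueField (genericPoint X))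
    (RingEquiv.ofBijective _ hbY) (RingEquiv.ofBijective _ hbX) (fun r => by
      have := congrArg (fun φ => CommRingCat.Hom.hom φ r) (Scheme.residue_residueFieldMap π (genericPoint X))
      exact this)
  have hdn : d = n := by
    have h3 : (n : Cardinal.{u}) = d := hn.symm.trans (h2.trans h1)
    exact_mod_cast h3.symm
  subst hdn
  exact ⟨W, ⟨_, hxW⟩, hW⟩

end Groth.Agent.S14417
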