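import Groth.Statements.S14418
import Mathlib.Algebra.Homology.ShortComplex.ModuleCat
import Mathlib.Order.CompletePartialOrder
import Mathlib.RingTheory.PicardGroup

set_option autoImplicit false
universe u
open CategoryTheory
open CAlg

namespace Groth.Agent.S14418

/-- Let B → A be a local homomorphism of Noetherian local rings, n the maximal ideal of B, and T an
additive functor from B-modules to A-modules which is B-linear (T applied to multiplication by b ∈ B
is multiplication by the image of b in A), carries finitely generated B-modules to finitely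
generated A-modules, and is half-exact on finitely generated modules (every short exact sequence of
finitely generated B-modules goes to a sequence exact at its middle term). If T(B/n) = 0 then T(N) =
0 for every finitely generated B-module N. (The published statement takes T defined on finitely
generated modules only; here T is defined on all B-modules while every hypothesis and the conclusion
concern finitely generated modules.) -/
theorem result {B A : Type u} [CommRing B] [CommRing A]
    [IsNoetherianRing B] [IsLocalRing B] [IsNoetherianRing A] [IsLocalRing A] [Algebra B A]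
    [IsLocalHom (algebraMap B A)] (T : ModuleCat.{u} B ⥤ ModuleCat.{u} A) [T.Additive]
    (hlin : ∀ (N : ModuleCat.{u} B) (b : B),
      T.map (ModuleCat.ofHom (b • (LinearMap.id : N →ₗ[B] N))) =
        ModuleCat.ofHom (algebraMap B A b • (LinearMap.id : T.obj N →ₗ[A] T.obj N)))
    (hfin : ∀ N : ModuleCat.{u} B, Module.Finite B N → Module.Finite A (T.obj N))
    (hex : ∀ S : ShortComplex (ModuleCat.{u} B), S.ShortExact → Module.Finite B S.X₁ →
      Module.Finite B S.X₂ → Module.Finite B S.X₃ → (S.map T).Exact)
    (h0 : Limits.IsZero (T.obj (ModuleCat.of B (B ⧸ IsLocalRing.maximalIdeal B))))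
    (N : ModuleCat.{u} B) [Module.Finite B N] : Limits.IsZero (T.obj N) := by
  classical
  haveI : T.PreservesZeroMorphisms := inferInstance
  have hses : ∀ {N₁ N₂ N₃ : Type u} [AddCommGroup N₁] [Module B N₁] [AddCommGroup N₂] [Module B N₂]
      [AddCommGroup N₃] [Module B N₃] (a : N₁ →ₗ[B] N₂) (b : N₂ →ₗ[B] N₃), Module.Finite B N₂ →
      Function.Injective a → Function.Surjective b → Function.Exact a b →
      Limits.IsZero (T.obj (ModuleCat.of B N₁)) → Limits.IsZero (T.obj (ModuleCat.of B N₃)) →
      Limits.IsZero (T.obj (ModuleCat.of B N₂)) := by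
    intro N₁ N₂ N₃ _ _ _ _ _ _ a b h2 ha hb hab z1 z3
    haveI : Module.Finite B N₁ := Module.Finite.of_injective a ha
    haveI : Module.Finite B N₃ := Module.Finite.of_surjective b hb
    have hS : (ShortComplex.mk (ModuleCat.ofHom a) (ModuleCat.ofHom b)
        (ModuleCat.hom_ext hab.linearMap_comp_eq_zero)).ShortExact :=
      ModuleCat.shortComplex_shortExact _ hab ha hb
    have hE := hex _ hS ‹_› h2 ‹_›
    exact hE.isZero_of_both_zeros (z1.eq_of_src _ _) (z3.eq_of_tgt _ _)
  have hiso : ∀ {N₁ N₂ : Type u} [AddCommGroup N₁] [Module B N₁] [AddCommGroup N₂] [Module B N₂] (e : N₁ ≃ₗ[B] N₂),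
      Limits.IsZero (T.obj (ModuleCat.of B N₂)) → Limits.IsZero (T.obj (ModuleCat.of B N₁)) := by
    intro N₁ N₂ _ _ _ _ e h
    exact h.of_iso (T.mapIso e.toModuleIso)
  have hsub : ∀ (N : Type u) [AddCommGroup N] [Module B N] [Subsingleton N], Limits.IsZero (T.obj (ModuleCat.of B N)) :=
    fun N _ _ _ => T.map_isZero (ModuleCat.isZero_of_subsingleton _)
  have hI : ∀ I : Ideal B, Limits.IsZero (T.obj (ModuleCat.of B (B ⧸ I))) := by
    refine fun I => IsNoetherian.induction (R := B) (M := B)
      (P := fun I : Ideal B => Limits.IsZero (T.obj (ModuleCat.of B (B ⧸ I)))) ?_ I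
    intro (I : Ideal B) ih
    by_cases htop : I = ⊤
    · haveI : Subsingleton (B ⧸ I) := Ideal.Quotient.subsingleton_iff.mpr htop
      exact hsub _
    by_cases hm : I = IsLocalRing.maximalIdeal B
    · subst hm; exact h0
    haveI : Nontrivial (B ⧸ I) := Ideal.Quotient.nontrivial_iff.mpr htop
    by_cases hp : I.IsPrime
    · obtain ⟨x, hxm, hxI⟩ := Set.exists_of_ssubset
        (show (I : Set B) ⊂ IsLocalRing.maximalIdeal B from SetLike.coe_ssubset_coe.mpr (lt_of_le_of_ne (IsLocalRing.le_maximalIdeal htop) hm))
      let μ : (B ⧸ I) →ₗ[B] (B ⧸ I) := x • LinearMap.id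
      let J := I ⊔ Ideal.span {x}
      let π : (B ⧸ I) →ₗ[B] (B ⧸ J) := Submodule.factor le_sup_left
      have hμ : ∀ b : B, μ (Ideal.Quotient.mk I b) = Ideal.Quotient.mk I (x * b) := fun b => rfl
      have hinj : Function.Injective μ := by
        rw [injective_iff_map_eq_zero]
        intro b hb
        obtain ⟨b, rfl⟩ := Ideal.Quotient.mk_surjective b
        rw [hμ, Ideal.Quotient.eq_zero_iff_mem] at hb
        exact Ideal.Quotient.eq_zero_iff_mem.mpr ((hp.mem_or_mem hb).resolve_left hxI)
      have hex' : Function.Exact μ π := by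
        intro b
        obtain ⟨b, rfl⟩ := Ideal.Quotient.mk_surjective b
        constructor
        · intro hb
          obtain ⟨i, hi, j, hj, rfl⟩ := Submodule.mem_sup.mp
            (Ideal.Quotient.eq_zero_iff_mem.mp (show Ideal.Quotient.mk J b = 0 from hb))
          obtain ⟨c, rfl⟩ := Ideal.mem_span_singleton.mp hj
          refine ⟨Ideal.Quotient.mk I c, ?_⟩
          rw [hμ, map_add, Ideal.Quotient.eq_zero_iff_mem.mpr hi, zero_add]
        · rintro ⟨c, hc⟩
          obtain ⟨c, rfl⟩ := Ideal.Quotient.mk_surjective c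
          rw [← hc, hμ]
          exact Ideal.Quotient.eq_zero_iff_mem.mpr (Ideal.mem_sup_right (Ideal.mem_span_singleton.mpr ⟨c, rfl⟩))
      have hJ : Limits.IsZero (T.obj (ModuleCat.of B (B ⧸ J))) := ih J (by
        refine lt_of_le_of_ne le_sup_left fun h => hxI ?_
        rw [h]; exact Ideal.mem_sup_right (Ideal.mem_span_singleton_self x))
      have hS : (ShortComplex.mk (ModuleCat.ofHom μ) (ModuleCat.ofHom π)
          (ModuleCat.hom_ext hex'.linearMap_comp_eq_zero)).ShortExact :=
        ModuleCat.shortComplex_shortExact _ hex' hinj (Submodule.factor_surjective le_sup_left)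
      have hE := hex _ hS inferInstance inferInstance inferInstance
      have hepi : Epi (T.map (ModuleCat.ofHom μ)) := hE.epi_f (hJ.eq_of_tgt _ _)
      rw [ModuleCat.epi_iff_surjective, hlin (ModuleCat.of B (B ⧸ I)) x] at hepi
      haveI := hfin (ModuleCat.of B (B ⧸ I)) inferInstance
      refine ModuleCat.isZero_iff_subsingleton.mpr ⟨fun s t => ?_⟩
      have htop' : (⊤ : Submodule A (T.obj (ModuleCat.of B (B ⧸ I)))) = ⊥ := by
        refine Submodule.eq_bot_of_le_smul_of_le_jacobson_bot (IsLocalRing.maximalIdeal A) _ Module.Finite.fg_top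
          (fun z _ => ?_) (IsLocalRing.maximalIdeal_le_jacobson _)
        obtain ⟨z', hz'⟩ := hepi z
        rw [← hz']
        refine Submodule.smul_mem_smul ?_ trivial
        exact fun hu => hxm (isUnit_of_map_unit (algebraMap B A) x hu)
      have hz : ∀ z : T.obj (ModuleCat.of B (B ⧸ I)), z = 0 := fun z => by
        have : z ∈ (⊥ : Submodule A (T.obj (ModuleCat.of B (B ⧸ I)))) := htop' ▸ Submodule.mem_top
        simpa using this
      rw [hz s, hz t]
    · obtain ⟨p, hpA⟩ := associatedPrimes.nonempty B (B ⧸ I)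
      obtain ⟨hpp, a, hpa⟩ := isAssociatedPrime_iff.mp hpA
      obtain ⟨a, rfl⟩ := Ideal.Quotient.mk_surjective a
      have hmem : ∀ r : B, r ∈ p ↔ r * a ∈ I := fun r => by
        rw [hpa, Submodule.mem_colon_singleton, Submodule.mem_bot]
        exact Ideal.Quotient.eq_zero_iff_mem
      have hIp : I < p := by
        refine lt_of_le_of_ne (fun r hr => (hmem r).mpr (I.mul_mem_right a hr)) fun h => hp (h ▸ hpp)
      let μ : (B ⧸ p) →ₗ[B] (B ⧸ I) := Submodule.mapQ p I (LinearMap.toSpanSingleton B B a) fun r hr => (hmem r).mp hr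
      have hμ : ∀ b : B, μ (Ideal.Quotient.mk p b) = Ideal.Quotient.mk I (b * a) := fun b => rfl
      let J := I ⊔ Ideal.span {a}
      let π : (B ⧸ I) →ₗ[B] (B ⧸ J) := Submodule.factor le_sup_left
      refine hses μ π inferInstance ?_ (Submodule.factor_surjective le_sup_left) ?_ (ih p hIp) (ih J ?_)
      · rw [injective_iff_map_eq_zero]
        intro b hb
        obtain ⟨b, rfl⟩ := Ideal.Quotient.mk_surjective b
        rw [hμ, Ideal.Quotient.eq_zero_iff_mem] at hb
        exact Ideal.Quotient.eq_zero_iff_mem.mpr ((hmem b).mpr hb)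
      · intro b
        obtain ⟨b, rfl⟩ := Ideal.Quotient.mk_surjective b
        constructor
        · intro hb
          obtain ⟨i, hi, j, hj, rfl⟩ := Submodule.mem_sup.mp
            (Ideal.Quotient.eq_zero_iff_mem.mp (show Ideal.Quotient.mk J b = 0 from hb))
          obtain ⟨c, rfl⟩ := Ideal.mem_span_singleton'.mp hj
          refine ⟨Ideal.Quotient.mk p c, ?_⟩
          rw [hμ, map_add, Ideal.Quotient.eq_zero_iff_mem.mpr hi, zero_add]
        · rintro ⟨c, hc⟩
          obtain ⟨c, rfl⟩ := Ideal.Quotient.mk_surjective c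
          rw [← hc, hμ]
          exact Ideal.Quotient.eq_zero_iff_mem.mpr (Ideal.mem_sup_right (Ideal.mem_span_singleton'.mpr ⟨c, rfl⟩))
      · refine lt_of_le_of_ne le_sup_left fun h => hpp.ne_top ((Ideal.eq_top_iff_one p).mpr ((hmem 1).mpr ?_))
        rw [h, one_mul]
        exact Ideal.mem_sup_right (Ideal.mem_span_singleton_self a)
  refine IsNoetherianRing.induction_on_isQuotientEquivQuotientPrime B (M := ↑N) inferInstance
    (motive := fun N' _ _ _ => Limits.IsZero (T.obj (ModuleCat.of B N'))) (fun N' _ _ _ _ => hsub N')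
    (fun N' _ _ _ p e => hiso e (hI p.1)) ?_
  intro N₁ _ _ _ N₂ _ _ h2 N₃ _ _ _ a b ha hb hab z1 z3
  exact hses a b h2 ha hb hab z1 z3

end Groth.Agent.S14418
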