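-- statement FlatMor.GrothFrozen.S1442 (Groth/Statements/S1442.lean; the theorem FlatMor.affine_opens_adapted_to_closed_immersion_and_integral_morphism);
import Groth.Statements.S1442
import Groth.Agent.H7Flat.AdaptedPairs

set_option autoImplicit false
universe u
open FlatMor

namespace Groth.Agent.S1442

open AlgebraicGeometry CategoryTheory Limits in
/-- Let i : Z → X be a closed immersion and j : Z → Y an integral morphism such that for each point y of
Y the fibre of j over y is contained in the preimage of some affine open of X. Then for each y there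
are affine opens U of X and V of Y with y ∈ V and with the same preimage in Z. -/
theorem result {X Y Z : Scheme.{u}} (i : Z ⟶ X) [IsClosedImmersion i] (j : Z ⟶ Y) [IsIntegralHom j]
    (h : ∀ y : Y, ∃ U : X.Opens, IsAffineOpen U ∧ j ⁻¹' {y} ⊆ (i ⁻¹ᵁ U : Set ↑Z)) (y : Y) :
    ∃ (U : X.Opens) (V : Y.Opens), IsAffineOpen U ∧ IsAffineOpen V ∧ y ∈ V ∧ i ⁻¹ᵁ U = j ⁻¹ᵁ V := by
  obtain ⟨π, hπ⟩ := Groth.Agent.H7Flat.exists_adapted_pair i j h y
  exact ⟨π.U, π.V, π.hU, π.hV, hπ, π.hUV⟩

end Groth.Agent.S1442
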