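import Groth.Statements.S14422
import Groth.Agent.H3CAlg.TorQuotient
import Mathlib.Combinatorics.Quiver.ReflQuiver

set_option autoImplicit false
universe u
open CategoryTheory
open CAlg

namespace Groth.Agent.S14422

/-- Long exact sequence for Tor: let A be a ring, M an A-module and 0 → N' → N → N'' → 0 a short exact
sequence of A-modules; write Tor_i(M, ·) for the i-th left derived functor of M ⊗_A ·. Then for
every i the composite Tor_i(M, N') → Tor_i(M, N) → Tor_i(M, N'') is zero and the sequence is exact,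
Tor_0(M, N) → Tor_0(M, N'') is surjective, and there is a connecting map δ_i : Tor_{i+1}(M, N'') →
Tor_i(M, N') such that Tor_{i+1}(M, N) → Tor_{i+1}(M, N'') → Tor_i(M, N') and Tor_{i+1}(M, N'') →
Tor_i(M, N') → Tor_i(M, N) are exact. (Only the existence of connecting maps with these exactness
properties is asserted; the published statement refers to the natural connecting homomorphisms.) -/
theorem result (A : Type u) [CommRing A] (M : ModuleCat.{u} A)
    (S : ShortComplex (ModuleCat.{u} A)) (hS : S.ShortExact) (i : ℕ) :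
    (∃ w₀ : ((Tor (ModuleCat.{u} A) i).obj M).map S.f ≫ ((Tor (ModuleCat.{u} A) i).obj M).map S.g = 0,
        (ShortComplex.mk (((Tor (ModuleCat.{u} A) i).obj M).map S.f) (((Tor (ModuleCat.{u} A) i).obj M).map S.g) w₀).Exact) ∧
      Epi (((Tor (ModuleCat.{u} A) 0).obj M).map S.g) ∧
      ∃ (δ : ((Tor (ModuleCat.{u} A) (i + 1)).obj M).obj S.X₃ ⟶ ((Tor (ModuleCat.{u} A) i).obj M).obj S.X₁)
        (w₁ : ((Tor (ModuleCat.{u} A) (i + 1)).obj M).map S.g ≫ δ = 0)
        (w₂ : δ ≫ ((Tor (ModuleCat.{u} A) i).obj M).map S.f = 0),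
        (ShortComplex.mk (((Tor (ModuleCat.{u} A) (i + 1)).obj M).map S.g) δ w₁).Exact ∧
          (ShortComplex.mk δ (((Tor (ModuleCat.{u} A) i).obj M).map S.f) w₂).Exact := by
  exact Groth.Agent.H3CAlg.Tor.les₂ M S hS i

end Groth.Agent.S14422
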