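import Groth.Statements.S14423
import Groth.Agent.H3CAlg.TorBasic
import Mathlib.RingTheory.MvPolynomial.Homogeneous
import Mathlib.RingTheory.Nakayama
import Mathlib.RingTheory.Polynomial.Basic
import Mathlib.LinearAlgebra.TensorProduct.RightExactness
import Mathlib.Algebra.DirectSum.Decomposition

set_option autoImplicit false
universe u
open CategoryTheory
open CAlg

namespace Groth.Agent.S14423

/-- Graded freeness criterion: let k be a field, S = k[x_0, …, x_n] with its standard grading by degree,
and M a finitely generated graded S-module. If Tor_1^S(M, k) = 0, where k = S/S_+ (S modulo the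
ideal of polynomials with zero constant term) and Tor_1^S(M, ·) is the first left derived functor of
M ⊗_S ·, then M is free with a basis of homogeneous elements, i.e. M is isomorphic as a graded
module to a finite direct sum of shifted copies S(−d_i). (Here the module is graded in non-negative
degrees; the published statement allows any integer degrees.) -/
theorem result (k : Type u) [Field k] (n : ℕ)
    (M : Type u) [AddCommGroup M] [Module (MvPolynomial (Fin (n + 1)) k) M]
    [Module.Finite (MvPolynomial (Fin (n + 1)) k) M]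
    (ℳ : ℕ → AddSubgroup M)
    [SetLike.GradedSMul (MvPolynomial.homogeneousSubmodule (Fin (n + 1)) k) ℳ]
    [DirectSum.Decomposition ℳ]
    (h : Limits.IsZero (((Tor (ModuleCat.{u} (MvPolynomial (Fin (n + 1)) k)) 1).obj
      (ModuleCat.of (MvPolynomial (Fin (n + 1)) k) M)).obj
      (ModuleCat.of (MvPolynomial (Fin (n + 1)) k)
        (MvPolynomial (Fin (n + 1)) k ⧸
          RingHom.ker (MvPolynomial.constantCoeff : MvPolynomial (Fin (n + 1)) k →+* k))))) :
    ∃ (ι : Type u) (b : Module.Basis ι (MvPolynomial (Fin (n + 1)) k) M),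
      ∀ i, SetLike.IsHomogeneousElem ℳ (b i) := by
  classical
  let mx : Ideal (MvPolynomial (Fin (n + 1)) k) :=
    RingHom.ker (MvPolynomial.constantCoeff : MvPolynomial (Fin (n + 1)) k →+* k)
  -- components
  have comp_smul : ∀ (s : MvPolynomial (Fin (n + 1)) k) (e : ℕ) (x : M), x ∈ ℳ e → ∀ j,
      (DirectSum.decompose ℳ (s • x) j : M) =
        if e ≤ j then MvPolynomial.homogeneousComponent (j - e) s • x else 0 := by
    intro s e x hx j
    have hmem : ∀ i, MvPolynomial.homogeneousComponent i s • x ∈ ℳ (i + e) := fun i => by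
      have := SetLike.GradedSMul.smul_mem
        (MvPolynomial.homogeneousComponent_mem i s) hx
      simpa only [vadd_eq_add] using this
    conv_lhs => rw [← MvPolynomial.sum_homogeneousComponent s, Finset.sum_smul, DirectSum.decompose_sum,
      DFinsupp.finset_sum_apply, AddSubgroup.val_finset_sum]
    split_ifs with hej
    · rw [Finset.sum_eq_single (j - e)]
      · exact DirectSum.decompose_of_mem_same ℳ (by simpa [Nat.sub_add_cancel hej] using hmem (j - e))
      · intro i _ hi
        exact DirectSum.decompose_of_mem_ne ℳ (hmem i) (by omega)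
      · intro hi
        rw [MvPolynomial.homogeneousComponent_eq_zero (j - e) s (by simp at hi; omega), zero_smul]
        simp
    · exact Finset.sum_eq_zero fun i _ => DirectSum.decompose_of_mem_ne ℳ (hmem i) (by omega)
  -- homogeneous generators
  have hex : ∃ (t : ℕ) (x : Fin t → M) (e : Fin t → ℕ), (∀ l, x l ∈ ℳ (e l)) ∧
      Submodule.span (MvPolynomial (Fin (n + 1)) k) (Set.range x) = ⊤ := by
    obtain ⟨G, hG⟩ := (Module.Finite.fg_top :
      (⊤ : Submodule (MvPolynomial (Fin (n + 1)) k) M).FG)
    let P := G.biUnion fun g => (DFinsupp.support (DirectSum.decompose ℳ g)).image fun j => ((g, j) : M × ℕ)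
    refine ⟨P.card, fun p => (DirectSum.decompose ℳ (P.equivFin.symm p).1.1 (P.equivFin.symm p).1.2 : M),
      fun p => (P.equivFin.symm p).1.2, fun p => SetLike.coe_mem _, eq_top_iff.mpr ?_⟩
    rw [← hG, Submodule.span_le]
    intro g hg
    rw [SetLike.mem_coe, ← DirectSum.sum_support_decompose ℳ g]
    refine Submodule.sum_mem _ fun j hj => Submodule.subset_span ?_
    have hm : (g, j) ∈ P := Finset.mem_biUnion.mpr ⟨g, hg, Finset.mem_image.mpr ⟨j, hj, rfl⟩⟩
    exact ⟨P.equivFin ⟨(g, j), hm⟩, congrArg (fun z : P => (DirectSum.decompose ℳ z.1.1 z.1.2 : M)) (P.equivFin.symm_apply_apply ⟨(g, j), hm⟩)⟩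
  obtain ⟨x, e, hx, hspan⟩ := Nat.find_spec hex
  -- relations lie in the irrelevant ideal
  have hmin : ∀ c : Fin (Nat.find hex) → MvPolynomial (Fin (n + 1)) k, ∑ l, c l • x l = 0 →
      ∀ i, c i ∈ mx := by
    intro c hc i
    by_contra hu
    have hu' : MvPolynomial.constantCoeff (c i) ≠ 0 := hu
    have h0 : ∑ l, (DirectSum.decompose ℳ (c l • x l) (e i) : M) = 0 := by
      rw [← AddSubgroup.val_finset_sum, ← DFinsupp.finset_sum_apply, ← DirectSum.decompose_sum, hc,
        DirectSum.decompose_zero]
      rfl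
    simp only [comp_smul _ _ _ (hx _)] at h0
    rw [← Finset.add_sum_erase _ _ (Finset.mem_univ i), if_pos le_rfl, Nat.sub_self,
      MvPolynomial.homogeneousComponent_zero] at h0
    obtain ⟨t', ht'⟩ : ∃ t', Nat.find hex = t' + 1 := ⟨Nat.find hex - 1, by
      have := i.isLt; omega⟩
    have hlt : t' < Nat.find hex := by omega
    refine Nat.find_min hex hlt ⟨x ∘ Fin.cast ht'.symm ∘ (Fin.cast ht' i).succAbove,
      e ∘ Fin.cast ht'.symm ∘ (Fin.cast ht' i).succAbove, fun l => hx _, eq_top_iff.mpr ?_⟩
    refine hspan.ge.trans (Submodule.span_le.mpr ?_)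
    set W := Submodule.span (MvPolynomial (Fin (n + 1)) k)
      (Set.range (x ∘ Fin.cast ht'.symm ∘ (Fin.cast ht' i).succAbove))
    have hW : ∀ l, l ≠ i → x l ∈ W := by
      intro l hl
      obtain ⟨z, hz⟩ := Fin.exists_succAbove_eq (x := Fin.cast ht' l) (y := Fin.cast ht' i)
        (fun h => hl (by simpa [Fin.ext_iff] using h))
      exact Submodule.subset_span ⟨z, by simp [hz]⟩
    rintro _ ⟨l, rfl⟩
    by_cases hl : l = i
    swap
    · exact hW l hl
    subst hl
    have hCx : (MvPolynomial.C (MvPolynomial.coeff 0 (c l)) : MvPolynomial (Fin (n + 1)) k) • x l ∈ W := by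
      rw [eq_neg_of_add_eq_zero_left h0]
      refine neg_mem (Submodule.sum_mem _ fun q hq => ?_)
      split_ifs
      · exact Submodule.smul_mem _ _ (hW q (Finset.ne_of_mem_erase hq))
      · exact zero_mem _
    have h1 := W.smul_mem (MvPolynomial.C (MvPolynomial.coeff 0 (c l))⁻¹ : MvPolynomial (Fin (n + 1)) k) hCx
    rwa [← mul_smul, ← map_mul, inv_mul_cancel₀ (by simpa [MvPolynomial.constantCoeff_eq] using hu'),
      map_one, one_smul] at h1
  let π : (Fin (Nat.find hex) → MvPolynomial (Fin (n + 1)) k) →ₗ[MvPolynomial (Fin (n + 1)) k] M :=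
    Fintype.linearCombination (MvPolynomial (Fin (n + 1)) k) x
  have hπ : Function.Surjective π := by
    rw [← LinearMap.range_eq_top, Fintype.range_linearCombination, hspan]
  -- injectivity of `M ⊗ m → M`
  let i0 : ModuleCat.of (MvPolynomial (Fin (n + 1)) k) mx ⟶ ModuleCat.of _ (MvPolynomial (Fin (n + 1)) k) :=
    ModuleCat.ofHom mx.subtype
  let q0 : ModuleCat.of (MvPolynomial (Fin (n + 1)) k) (MvPolynomial (Fin (n + 1)) k) ⟶
      ModuleCat.of _ (MvPolynomial (Fin (n + 1)) k ⧸ mx) := ModuleCat.ofHom mx.mkQ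
  have hw : i0 ≫ q0 = 0 := ModuleCat.hom_ext (LinearMap.ext fun a =>
    (Submodule.Quotient.mk_eq_zero mx).mpr a.2)
  have hS : (ShortComplex.mk i0 q0 hw).ShortExact :=
    { exact := (ShortComplex.moduleCat_exact_iff _).mpr fun a ha =>
        ⟨⟨a, (Submodule.Quotient.mk_eq_zero mx).mp ha⟩, rfl⟩
      mono_f := (ModuleCat.mono_iff_injective _).mpr Subtype.val_injective
      epi_g := (ModuleCat.epi_iff_surjective _).mpr (Submodule.mkQ_surjective mx) }
  haveI : Projective (ShortComplex.mk i0 q0 hw).X₂ := by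
    show Projective (ModuleCat.of (MvPolynomial (Fin (n + 1)) k) (MvPolynomial (Fin (n + 1)) k))
    exact ModuleCat.projective_of_categoryTheory_projective _
  have hinj : Function.Injective (LinearMap.lTensor M mx.subtype) :=
    (Groth.Agent.H3CAlg.Tor.isZero_one_iff_injective _ _ hS).mp h
  have hK : LinearMap.ker π ≤ mx • LinearMap.ker π := by
    intro c hc
    have hc0 : ∑ l, c l • x l = 0 := by simpa [π, Fintype.linearCombination_apply] using hc
    let ω : TensorProduct (MvPolynomial (Fin (n + 1)) k) (Fin (Nat.find hex) → MvPolynomial (Fin (n + 1)) k) mx :=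
      ∑ l, (Pi.single l 1) ⊗ₜ (⟨c l, hmin c hc0 l⟩ : mx)
    have hω : π.rTensor mx ω = 0 := by
      apply hinj
      rw [map_zero, map_sum, map_sum]
      have h1 : ∀ l, LinearMap.lTensor M mx.subtype (π.rTensor mx ((Pi.single l 1) ⊗ₜ (⟨c l, hmin c hc0 l⟩ : mx))) =
          (c l • x l) ⊗ₜ (1 : MvPolynomial (Fin (n + 1)) k) := fun l => by
        simp [π, TensorProduct.smul_tmul]
      simp only [h1]
      rw [← TensorProduct.sum_tmul, hc0, TensorProduct.zero_tmul]
    obtain ⟨η, hη⟩ := ((rTensor_exact mx (LinearMap.exact_subtype_ker_map π) hπ) ω).mp hω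
    let Φ : TensorProduct (MvPolynomial (Fin (n + 1)) k) (Fin (Nat.find hex) → MvPolynomial (Fin (n + 1)) k) mx →ₗ[MvPolynomial (Fin (n + 1)) k]
        (Fin (Nat.find hex) → MvPolynomial (Fin (n + 1)) k) :=
      TensorProduct.lift ((LinearMap.lsmul _ _).comp mx.subtype).flip
    have hΦω : Φ ω = c := by
      funext j
      simp [Φ, ω, Finset.sum_apply, Pi.single_apply]
    rw [← hΦω, ← hη]
    clear hη
    induction η with
    | zero => simp
    | add a b ha hb => rw [map_add, map_add]; exact add_mem ha hb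
    | tmul v a =>
      simp only [LinearMap.rTensor_tmul, Φ, TensorProduct.lift.tmul, LinearMap.flip_apply,
        LinearMap.comp_apply, Submodule.subtype_apply, LinearMap.lsmul_apply]
      exact Submodule.smul_mem_smul a.2 v.2
  have hbot : LinearMap.ker π = ⊥ := by
    obtain ⟨r, hr, hr'⟩ := Submodule.exists_mem_and_smul_eq_self_of_fg_of_le_smul mx _
      (IsNoetherian.noetherian _) hK
    rw [eq_bot_iff]
    intro c hc
    have h1 : (1 - r) • c = 0 := by rw [sub_smul, one_smul, hr' c hc, sub_self]
    have hne : 1 - r ≠ 0 := fun h0 => by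
      have h2 := congrArg (MvPolynomial.constantCoeff (σ := Fin (n + 1)) (R := k)) h0
      rw [map_sub, map_one, show MvPolynomial.constantCoeff r = 0 from hr, sub_zero, map_zero] at h2
      exact one_ne_zero h2
    funext j
    exact (mul_eq_zero.mp (congrFun h1 j)).resolve_left hne
  let eq0 : (Fin (Nat.find hex) → MvPolynomial (Fin (n + 1)) k) ≃ₗ[MvPolynomial (Fin (n + 1)) k] M :=
    LinearEquiv.ofBijective π ⟨LinearMap.ker_eq_bot.mp hbot, hπ⟩
  refine ⟨ULift.{u} (Fin (Nat.find hex)),
    ((Pi.basisFun (MvPolynomial (Fin (n + 1)) k) _).map eq0).reindex Equiv.ulift.symm, fun l => ⟨e l.down, ?_⟩⟩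
  have : ((Pi.basisFun (MvPolynomial (Fin (n + 1)) k) _).map eq0).reindex Equiv.ulift.symm l = x l.down := by
    simp only [Module.Basis.reindex_apply, Module.Basis.map_apply, Equiv.symm_symm, Pi.basisFun_apply, eq0]
    exact (Fintype.linearCombination_apply_single _ _ _ _).trans (one_smul _ _)
  rw [this]
  exact hx _

end Groth.Agent.S14423
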