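import Groth.Statements.S14425
import Groth.Agent.H4Depth.Generators

set_option autoImplicit false
universe u
open LocCoh

namespace Groth.Agent.S14425

/-- Let (R, m) be a Noetherian local ring, M a nonzero finitely generated R-module and x_1, …, x_n
elements of m generating the ideal a. Then depth(a, M) = n if and only if x_1, …, x_n is an
M-regular sequence (each x_i a non-zero-divisor on M/(x_1, …, x_{i-1})M; the condition (x)M ≠ M is
automatic here). -/
theorem result {R : Type u} [CommRing R] [IsNoetherianRing R] [IsLocalRing R]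
    {M : Type u} [AddCommGroup M] [Module R M] [Module.Finite R M] [Nontrivial M]
    (xs : List R) (hxs : ∀ x ∈ xs, x ∈ IsLocalRing.maximalIdeal R) :
    LocCoh.idealDepth (Ideal.span {x | x ∈ xs}) M = xs.length ↔ RingTheory.Sequence.IsWeaklyRegular M xs := by

  have hI : Ideal.span {x | x ∈ xs} = Ideal.ofList xs := rfl
  refine ⟨fun h => H4Depth.isWeaklyRegular_of_le_idealDepth xs hxs M (hI ▸ h.ge), fun h => ?_⟩
  refine le_antisymm ?_ (H4Depth.length_le_idealDepth h fun x hx => Ideal.subset_span hx)
  have hne := ne_top_of_le_ne_top (H4Depth.maximalIdeal_smul_top_ne_top (R := R) (M := M))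
    (Submodule.smul_mono_left (Ideal.span_le.2 hxs : Ideal.ofList xs ≤ _))
  rw [hI]
  refine (H4Depth.length_eq_idealDepth_of_maximal hne h (fun x hx => Ideal.subset_span hx) ?_).ge
  intro y hy hreg
  rw [RingTheory.Sequence.isWeaklyRegular_append_iff, RingTheory.Sequence.isWeaklyRegular_singleton_iff] at hreg
  have : Nontrivial (M ⧸ Ideal.ofList xs • (⊤ : Submodule R M)) :=
    Submodule.Quotient.nontrivial_iff.2 hne
  obtain ⟨q, hq⟩ := exists_ne (0 : M ⧸ Ideal.ofList xs • (⊤ : Submodule R M))
  refine hq (hreg.2 ?_)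
  obtain ⟨m, rfl⟩ := Submodule.Quotient.mk_surjective _ q
  simp only [smul_zero, ← Submodule.Quotient.mk_smul, Submodule.Quotient.mk_eq_zero]
  exact Submodule.smul_mem_smul hy trivial

end Groth.Agent.S14425
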