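import Groth.Statements.S14427
import Groth.Agent.H22Alg.FiniteLength
import Groth.Agent.H3CAlg.FormsDim
import Mathlib.GroupTheory.CosetCover
import Mathlib.RingTheory.Henselian
import Mathlib.RingTheory.Ideal.AssociatedPrime.Finiteness
import Mathlib.RingTheory.Ideal.AssociatedPrime.Localization
import Mathlib.RingTheory.MvPolynomial.IrreducibleQuadratic
import Mathlib.RingTheory.RegularLocalRing.Defs
import Mathlib.RingTheory.SimpleRing.Principal

set_option autoImplicit false
universe u
open CAlgX

namespace Groth.Agent.S14427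

/-- Let k be a field and Λ a set of n ≥ 3 nonzero vectors of k^3 which are pairwise linearly
independent, i.e. n distinct k-rational points of the projective plane. Then the space of
homogeneous forms of degree n − 1 in k[x_0, x_1, x_2] vanishing at every point of Λ — the global
sections of I_Λ(n − 1) — has dimension C(n+1, 2) − n over k, the same for all such Λ. (The published
statement is over an algebraically closed field; this row allows any field and k-rational points,
which is all its argument uses.) -/
theorem result (k : Type u) [Field k] (n : ℕ) (hn : 3 ≤ n)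
    (Λ : Finset (Fin 3 → k)) (hcard : Λ.card = n) (h0 : ∀ v ∈ Λ, v ≠ 0)
    (hdist : ∀ v ∈ Λ, ∀ w ∈ Λ, v ≠ w → LinearIndependent k ![v, w]) :
    Module.finrank k ↥(MvPolynomial.homogeneousSubmodule (Fin 3) k (n - 1) ⊓ ⨅ v ∈ Λ, LinearMap.ker (MvPolynomial.aeval v).toLinearMap) = Nat.choose (n + 1) 2 - n := by
  classical
  obtain ⟨hfin, hdim⟩ := Groth.Agent.H3CAlg.finrank_homogeneous (k := k) 2 (n - 1)
  let S := MvPolynomial.homogeneousSubmodule (Fin 3) k (n - 1)
  let L : S →ₗ[k] (Λ → k) := LinearMap.pi fun v ↦ (MvPolynomial.aeval (v : Fin 3 → k)).toLinearMap.comp S.subtype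
  have hsurj : Function.Surjective L := by
    have hv : ∀ v : Λ, Pi.single v (1 : k) ∈ LinearMap.range L := by
      intro v
      have hsep : ∀ w : Λ, w ≠ v → ∃ p : MvPolynomial (Fin 3) k, p.IsHomogeneous 1 ∧
          MvPolynomial.eval (w : Fin 3 → k) p = 0 ∧ MvPolynomial.eval (v : Fin 3 → k) p ≠ 0 :=
        fun w hw ↦ Groth.Agent.H3CAlg.exists_linForm (hdist v v.2 w w.2 fun h ↦ hw (Subtype.ext h.symm))
      choose! p hp1 hp2 hp3 using hsep
      let q := ∏ w ∈ Finset.univ.erase v, p w
      have hq : q ∈ S := by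
        have := MvPolynomial.IsHomogeneous.prod (Finset.univ.erase v) p (fun _ ↦ 1) fun w hw ↦ hp1 w (Finset.ne_of_mem_erase hw)
        rw [Finset.sum_const, smul_eq_mul, mul_one, Finset.card_erase_of_mem (Finset.mem_univ v), Finset.card_univ,
          Fintype.card_coe, hcard] at this
        exact this
      have hqv : MvPolynomial.eval (v : Fin 3 → k) q ≠ 0 := by
        rw [map_prod]; exact Finset.prod_ne_zero_iff.mpr fun w hw ↦ hp3 w (Finset.ne_of_mem_erase hw)
      refine ⟨(MvPolynomial.eval (v : Fin 3 → k) q)⁻¹ • ⟨q, hq⟩, ?_⟩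
      ext w
      change MvPolynomial.aeval (w : Fin 3 → k) ((MvPolynomial.eval (v : Fin 3 → k) q)⁻¹ • q) = _
      rw [map_smul, smul_eq_mul, MvPolynomial.aeval_eq_eval]
      rcases eq_or_ne w v with rfl | hw
      · rw [Pi.single_eq_same]; exact inv_mul_cancel₀ hqv
      · rw [Pi.single_eq_of_ne hw]
        have : MvPolynomial.eval (w : Fin 3 → k) q = 0 := by
          rw [map_prod]; exact Finset.prod_eq_zero (Finset.mem_erase.mpr ⟨hw, Finset.mem_univ w⟩) (hp2 w hw)
        simp [this]
    intro g
    show g ∈ LinearMap.range L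
    rw [pi_eq_sum_univ g]
    exact sum_mem fun v _ ↦ Submodule.smul_mem _ _ (by convert hv v using 1; ext w; simp [Pi.single_apply, eq_comm])
  have hker : (MvPolynomial.homogeneousSubmodule (Fin 3) k (n - 1) ⊓ ⨅ v ∈ Λ, LinearMap.ker (MvPolynomial.aeval v).toLinearMap) =
      Submodule.map S.subtype (LinearMap.ker L) := by
    ext f
    simp only [Submodule.mem_inf, Submodule.mem_iInf, LinearMap.mem_ker, Submodule.mem_map]
    constructor
    · rintro ⟨hf, hv⟩
      exact ⟨⟨f, hf⟩, funext fun v ↦ hv v v.2, rfl⟩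
    · rintro ⟨g, hg, rfl⟩
      exact ⟨g.2, fun v hv ↦ congrFun hg ⟨v, hv⟩⟩
  rw [hker, Submodule.finrank_map_subtype_eq]
  have h1 := LinearMap.finrank_range_add_finrank_ker L
  rw [LinearMap.range_eq_top.mpr hsurj, finrank_top, Module.finrank_fintype_fun_eq_card, Fintype.card_coe, hcard, hdim,
    show n - 1 + 2 = n + 1 by omega] at h1
  omega

end Groth.Agent.S14427
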