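import Groth.Statements.S14428
import Groth.Agent.H22Alg.FiniteLength
import Groth.Agent.H3CAlg.FormsDim
import Mathlib.GroupTheory.CosetCover
import Mathlib.RingTheory.Henselian
import Mathlib.RingTheory.Ideal.AssociatedPrime.Finiteness
import Mathlib.RingTheory.Ideal.AssociatedPrime.Localization
import Mathlib.RingTheory.MvPolynomial.IrreducibleQuadratic
import Mathlib.RingTheory.RegularLocalRing.Defs
import Mathlib.RingTheory.SimpleRing.Principal
import Mathlib.Tactic.LinearCombination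
import Mathlib.Tactic.Ring

set_option autoImplicit false
universe u
open CAlgX

namespace Groth.Agent.S14428

/-- Let k be a field, n ≥ 3, and let Λ and Λ' be two sets of n nonzero, pairwise linearly independent
vectors of k^3 (n distinct k-rational points of the projective plane each), neither lying on a line
(no nonzero linear form vanishes on all of Λ, resp. Λ'). If the spaces of homogeneous forms of
degree n − 1 vanishing on Λ and on Λ' coincide, then Λ and Λ' define the same set of points of the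
plane: the assignment Λ ↦ H^0(P^2, I_Λ(n − 1)), with values in a Grassmannian, is injective on
non-collinear sets. (The published statement is over an algebraically closed field; this row allows
any field and k-rational points, which is all its argument uses.) -/
theorem result (k : Type u) [Field k] (n : ℕ) (hn : 3 ≤ n)
    (Λ Λ' : Finset (Fin 3 → k)) (hcard : Λ.card = n) (hcard' : Λ'.card = n)
    (h0 : ∀ v ∈ Λ, v ≠ 0) (h0' : ∀ v ∈ Λ', v ≠ 0)
    (hdist : ∀ v ∈ Λ, ∀ w ∈ Λ, v ≠ w → LinearIndependent k ![v, w])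
    (hdist' : ∀ v ∈ Λ', ∀ w ∈ Λ', v ≠ w → LinearIndependent k ![v, w])
    (hline : ¬ ∃ ℓ : (Fin 3 → k) →ₗ[k] k, ℓ ≠ 0 ∧ ∀ v ∈ Λ, ℓ v = 0)
    (hline' : ¬ ∃ ℓ : (Fin 3 → k) →ₗ[k] k, ℓ ≠ 0 ∧ ∀ v ∈ Λ', ℓ v = 0)
    (heq : (MvPolynomial.homogeneousSubmodule (Fin 3) k (n - 1) ⊓ ⨅ v ∈ Λ, LinearMap.ker (MvPolynomial.aeval v).toLinearMap) = (MvPolynomial.homogeneousSubmodule (Fin 3) k (n - 1) ⊓ ⨅ v ∈ Λ', LinearMap.ker (MvPolynomial.aeval v).toLinearMap)) :
    (∀ v ∈ Λ, ∃ w ∈ Λ', ∃ c : k, v = c • w) ∧ (∀ w ∈ Λ', ∃ v ∈ Λ, ∃ c : k, w = c • v) := by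
  classical
  have key : ∀ (A B : Finset (Fin 3 → k)), A.card = n → (∀ v ∈ A, v ≠ 0) →
      (¬ ∃ ℓ : (Fin 3 → k) →ₗ[k] k, ℓ ≠ 0 ∧ ∀ v ∈ A, ℓ v = 0) → (∀ w ∈ B, w ≠ 0) →
      (∀ f : MvPolynomial (Fin 3) k, f.IsHomogeneous (n - 1) → (∀ v ∈ A, MvPolynomial.eval v f = 0) →
        ∀ w ∈ B, MvPolynomial.eval w f = 0) →
      ∀ w ∈ B, ∃ v ∈ A, ∃ c : k, w = c • v := by
    intro A B hA hA0 hAl hB0 hAB w hw
    by_contra! hne
    have hind : ∀ v ∈ A, LinearIndependent k ![w, v] := fun v hv ↦ by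
      have h2 : LinearIndependent k ![v, w] := LinearIndependent.pair_iff' (hA0 v hv) |>.mpr fun c hc ↦ hne v hv c hc.symm
      have := h2.comp ![1, 0] (by decide)
      convert this using 1
      ext i; fin_cases i <;> rfl
    obtain ⟨a, ha⟩ : A.Nonempty := Finset.card_pos.mp (by omega)
    let cr : (Fin 3 → k) → (Fin 3 → k) → (Fin 3 → k) := fun x y ↦
      ![x 1 * y 2 - x 2 * y 1, x 2 * y 0 - x 0 * y 2, x 0 * y 1 - x 1 * y 0]
    obtain ⟨b, hb, hb'⟩ : ∃ b ∈ A, ∑ i, cr a b i * w i ≠ 0 := by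
      by_contra! h
      apply hAl
      refine ⟨∑ i, cr w a i • LinearMap.proj i, fun h0 ↦ ?_, fun v hv ↦ ?_⟩
      · obtain ⟨p, -, -, -⟩ := Groth.Agent.H3CAlg.exists_linForm (hind a ha)
        have hi := fun i ↦ LinearMap.congr_fun h0 (Pi.single i 1)
        simp only [Fin.sum_univ_three, LinearMap.add_apply, LinearMap.smul_apply, LinearMap.proj_apply, LinearMap.zero_apply,
          smul_eq_mul, cr] at hi
        have h1 := hi 0
        have h2 := hi 1
        have h3 := hi 2
        simp at h1 h2 h3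
        have hw0 : a = 0 := by
          have hp := fun (t : Fin 3) ↦ LinearIndependent.pair_iff.mp (hind a ha) (a t) (-(w t)) (by
            ext i; fin_cases t <;> fin_cases i <;>
              simp only [Pi.add_apply, Pi.smul_apply, smul_eq_mul, Pi.zero_apply, Fin.zero_eta, Fin.mk_one, Fin.reduceFinMk] <;>
              first | ring1 | linear_combination h1 | linear_combination -h1 | linear_combination h2 |
                linear_combination -h2 | linear_combination h3 | linear_combination -h3)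
          exact funext fun t ↦ (hp t).1
        exact hA0 a ha hw0
      · have := h v hv
        simp only [Fin.sum_univ_three, LinearMap.add_apply, LinearMap.smul_apply, LinearMap.proj_apply, smul_eq_mul, cr,
          Matrix.cons_val_zero, Matrix.cons_val_one, Matrix.cons_val_two, Matrix.tail_cons, Matrix.head_cons] at this ⊢
        linear_combination this
    have hab : a ≠ b := by
      rintro rfl; apply hb'; simp [Fin.sum_univ_three, cr]; ring
    let l : MvPolynomial (Fin 3) k := ∑ i, MvPolynomial.C (cr a b i) * MvPolynomial.X i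
    have hl : l.IsHomogeneous 1 := MvPolynomial.IsHomogeneous.sum _ _ _ fun i _ ↦ MvPolynomial.isHomogeneous_C_mul_X _ _
    have hle : ∀ x, MvPolynomial.eval x l = ∑ i, cr a b i * x i := fun x ↦ by simp [l]
    have hsep : ∀ v ∈ A, ∃ p : MvPolynomial (Fin 3) k, p.IsHomogeneous 1 ∧
        MvPolynomial.eval v p = 0 ∧ MvPolynomial.eval w p ≠ 0 :=
      fun v hv ↦ Groth.Agent.H3CAlg.exists_linForm (hind v hv)
    choose! p hp1 hp2 hp3 using hsep
    let q := l * ∏ v ∈ (A.erase a).erase b, p v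
    have hmem : ∀ v ∈ (A.erase a).erase b, v ∈ A := fun v hv ↦ Finset.mem_of_mem_erase (Finset.mem_of_mem_erase hv)
    have hq : q.IsHomogeneous (n - 1) := by
      have h1 := hl.mul (MvPolynomial.IsHomogeneous.prod ((A.erase a).erase b) p (fun _ ↦ 1) fun v hv ↦ hp1 v (hmem v hv))
      rw [Finset.sum_const, smul_eq_mul, mul_one, Finset.card_erase_of_mem (Finset.mem_erase.mpr ⟨hab.symm, hb⟩),
        Finset.card_erase_of_mem ha, hA, show 1 + (n - 1 - 1) = n - 1 by omega] at h1
      exact h1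
    have := hAB q hq (fun v hv ↦ ?_) w hw
    · rw [map_mul, map_prod, mul_eq_zero, Finset.prod_eq_zero_iff, hle] at this
      rcases this with h | ⟨v, hv, h⟩
      · exact hb' h
      · exact hp3 v (hmem v hv) h
    · rw [map_mul, map_prod]
      by_cases h : v ∈ (A.erase a).erase b
      · rw [Finset.prod_eq_zero h (hp2 v hv), mul_zero]
      · obtain rfl | rfl : v = a ∨ v = b := by
          simp only [Finset.mem_erase] at h; tauto
        all_goals rw [hle]; simp [Fin.sum_univ_three, cr]; left; ring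
  have hmem : ∀ (A : Finset (Fin 3 → k)) (f : MvPolynomial (Fin 3) k),
      f ∈ (MvPolynomial.homogeneousSubmodule (Fin 3) k (n - 1) ⊓ ⨅ v ∈ A, LinearMap.ker (MvPolynomial.aeval v).toLinearMap) ↔
        f.IsHomogeneous (n - 1) ∧ ∀ v ∈ A, MvPolynomial.eval v f = 0 := fun A f ↦ by
    simp [Submodule.mem_iInf, MvPolynomial.aeval_eq_eval]
  exact ⟨key Λ' Λ hcard' h0' hline' h0 fun f h1 h2 ↦ ((hmem Λ f).mp (heq ▸ (hmem Λ' f).mpr ⟨h1, h2⟩)).2,
    key Λ Λ' hcard h0 hline h0' fun f h1 h2 ↦ ((hmem Λ' f).mp (heq ▸ (hmem Λ f).mpr ⟨h1, h2⟩)).2⟩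

end Groth.Agent.S14428
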