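import Groth.Statements.S1443
import Groth.Agent.H7Flat.CohDim.Fibre

set_option autoImplicit false
universe u
open FlatMor

namespace Groth.Agent.S1443

open AlgebraicGeometry CategoryTheory CategoryTheory.Limits Groth.Agent.H10Coh Groth.Agent.H7Flat
attribute [local instance 10000] hasSheafifyAb hasWeakSheafifyAb hasExtAb enoughInjAb
attribute [local instance] enoughInjMod
set_option linter.style.haveILetI false
set_option backward.isDefEq.respectTransparency.types false

open AlgebraicGeometry CategoryTheory Limits in
/-- Let f : X → Y be a proper morphism with Y affine such that every fibre X_y has dimension ≤ 1 and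
H¹(X_y, O_{X_y}) = 0. Then H^p(X, F) = 0 for every quasi-coherent O_X-module F and every p ≥ 2. -/
theorem result {X Y : Scheme.{u}} (f : X ⟶ Y) [IsProper f] [IsAffine Y]
    (hdim : ∀ y : Y, topologicalKrullDim ↑(f.fiber y) ≤ 1) (hH1 : ∀ y : Y, Subsingleton (Coh.HH (f.fiber y) (Coh.structureModule (f.fiber y)) 1))
    (F : X.Modules) (hF : Coh.IsQCoh F) (p : ℕ) (hp : 2 ≤ p) : Subsingleton (Coh.HH X F p) := by
  haveI := hF
  exact CohDim.subsingleton_HH f 1 hdim F p (by omega)

end Groth.Agent.S1443
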