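import Groth.Statements.S3746
import Groth.Agent.H22Alg.KLFK0
import Groth.Agent.H4LC.RegularPDBound
import Mathlib

set_option autoImplicit false
universe v u
open CategoryTheory CategoryTheory.Limits AlgebraicGeometry
attribute [local instance] HasDerivedCategory.standard
open KRR

namespace Groth.Agent.S3746

/-- Let X be a Noetherian scheme all of whose local rings are regular, on which every coherent module is
a quotient of a finite locally free module (the source assumes an ample invertible module, which it
uses only through this property). Then the homomorphism δ : K₀(finite locally free O_X-modules) ⟶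
K₀(coherent O_X-modules) induced by the inclusion (recorded by the argument h) is bijective. -/
theorem result (X : Scheme.{u}) [IsNoetherian X]
    (hreg : ∀ x : X, IsRegularLocalRing (X.presheaf.stalk x)) (hX : KRR.HasEnoughLocFree X)
    (h : ∀ M : X.Modules, FlatMod.IsFinLocFree M → Coh.IsCoh M) :
    Function.Bijective (SGA6.mapSub (𝟭 X.Modules) (KRR.vbP X) (fun M : X.Modules => Coh.IsCoh M) h) := by
  refine Groth.Agent.H22Alg.KLFK0.bijective_mapSub hX (fun M : X.Modules => Coh.IsCoh M) (fun _ hM => hM)
    (fun M hM => ?_) (fun n M a hv => hv.mem) h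
  obtain ⟨n, a, hv⟩ := Groth.Agent.H22Alg.KLFRes.exists_val_of_pd hX M (Groth.Agent.H22Alg.KLFRes.ctxK hX) hM
    fun x => by
      haveI := hreg x
      haveI := Groth.Agent.H06Mod.finite_stalk M hM.2 x
      obtain ⟨d, -, hk⟩ := Groth.Agent.H05EGA4.exists_pd_residueField (X.presheaf.stalk x)
      exact ⟨d, Groth.Agent.H05EGA4.hasProjectiveDimensionLT_of_residueField d hk _⟩
  exact Groth.Agent.H22Alg.KLFRes.hasLFRes_of_val hv

end Groth.Agent.S3746
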