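import Groth.Statements.S14431
import Groth.Agent.H11Bertini.Chart
import Groth.Agent.H11Bertini.CharZero

set_option autoImplicit false
set_option linter.style.haveILetI false
set_option backward.isDefEq.respectTransparency.types false
universe u
open CategoryTheory CategoryTheory.Limits AlgebraicGeometry
open Variety

namespace Groth.Agent.S14431

/-- Let k be an algebraically closed field of characteristic zero, X an integral k-scheme of finite type
which is smooth over k, L an invertible O_X-module and s_0, …, s_m global sections of L (morphisms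
O_X → L) generating L, i.e. their zero schemes have empty intersection (the sum of their zero ideal
sheaves is the unit ideal). Then the members of the linear system spanned by the s_i corresponding
to a nonempty Zariski-open set of parameters are smooth: there is a nonzero polynomial p in m + 1
variables over k such that for every c ∈ k^{m+1} with p(c) ≠ 0 the zero scheme of the section Σ c_i
s_i is smooth over k (equivalently, the corresponding divisor is reduced with smooth support). (The
published statement is for varieties, which are separated; this row does not assume X separated.) -/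
theorem result (k : Type u) [Field k] [IsAlgClosed k] [CharZero k]
    (X : Scheme.{u}) [X.Over (Spec (CommRingCat.of k))] [IsIntegral X]
    [Smooth (X ↘ Spec (CommRingCat.of k))] [QuasiCompact (X ↘ Spec (CommRingCat.of k))]
    (L : X.Modules) (hL : FlatMod.IsFinLocFreeOfRank 1 L) (m : ℕ)
    (s : Fin (m + 1) → (Coh.structureModule X ⟶ L))
    (hgen : ⨆ i : Fin (m + 1), PicF2.zeroScheme L (s i) = ⊤) :
    ∃ p : MvPolynomial (Fin (m + 1)) k, p ≠ 0 ∧ ∀ c : Fin (m + 1) → k, MvPolynomial.eval c p ≠ 0 →
      Smooth ((PicF2.zeroScheme L (∑ i : Fin (m + 1), Formal.smulMod k (Coh.structureModule X) (c i) ≫ s i)).subschemeι ≫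
        (X ↘ Spec (CommRingCat.of k))) := by
  classical
  have hLi : PicF.IsInvertible L := H22Alg.PB.isInvertible_of_rank_one hL
  refine H11Bertini.exists_poly_of_charts hLi s fun V hV e he d g hg hge a ha => ?_
  letI : Algebra k Γ(X, V) := (H11Bertini.scalars V).toAlgebra
  haveI : Algebra.Smooth k Γ(X, V) := RingHom.smooth_algebraMap.1
    (RingHom.Smooth.respectsIso.2 _ (Scheme.ΓSpecIso (CommRingCat.of k)).symm.commRingCatIsoToRingEquiv
      (HasRingHomProperty.appLE @Smooth _ inferInstance ⟨⊤, isAffineOpen_top _⟩ ⟨_, hV⟩ le_top))
  let g' : MvPolynomial (Fin d) k →ₐ[k] Γ(X, V) :=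
    { g with commutes' := fun r => RingHom.congr_fun hg r }
  obtain ⟨b, -⟩ := H11Bertini.exists_basis g' hge
  have hunit : Ideal.span (Set.range a) = ⊤ := by
    refine top_le_iff.1 ?_
    have h1 : (⨆ i : Fin (m + 1), PicF2.zeroScheme L (s i)).ideal ⟨V, hV⟩ = ⊤ := by
      rw [hgen, Scheme.IdealSheafData.ideal_top]
      rfl
    rw [Scheme.IdealSheafData.ideal_iSup, iSup_apply] at h1
    rw [← h1]
    refine iSup_le fun i => ?_
    rw [H11Bertini.zeroScheme_eq_zeroIdeal hLi (s i),
      H12Pic.PicCurve.zeroIdeal_ideal L (s i) hLi hV (e := e) he (c := a i) fun z hz => ?_]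
    · exact Ideal.span_mono (Set.singleton_subset_iff.2 ⟨i, rfl⟩)
    · rw [← H17.AssPts.germ_smul', ← ha i]
      exact (H28Mero.germ_val (L := L) (s i) V z hz).symm
  obtain ⟨q, hq0, hq⟩ := H11Bertini.exists_poly_smooth_charZero b a hunit
  exact ⟨q, hq0, fun c hc => RingHom.smooth_algebraMap.2 (hq c hc)⟩

end Groth.Agent.S14431
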