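import Groth.Statements.S14434
import Groth.Agent.H3CAlg.TorBasic
import Groth.Prelude.Def_DRing2
import Mathlib.RingTheory.PicardGroup

set_option autoImplicit false
universe u
open CAlg

namespace Groth.Agent.S14434

/-- Let R be a commutative ring, M an R-module and x ∈ R a non-zero-divisor on R and on M. Then
Tor_i^R(M, R/(x)) = 0 for all i ≥ 1 (Tor computed as the left derived functors of the tensor product
on R-modules). -/
theorem result {R : Type u} [CommRing R] (M : Type u) [AddCommGroup M] [Module R M]
    (x : R) (hxR : IsSMulRegular R x) (hxM : IsSMulRegular M x) (i : ℕ) (hi : 1 ≤ i) :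
    Subsingleton (DRing.Tor R i M (R ⧸ Ideal.span {x})) := by
  let f : R →ₗ[R] R := LinearMap.mulLeft R x
  let g : R →ₗ[R] R ⧸ Ideal.span {x} := Submodule.mkQ _
  have hfg : Function.Exact f g := by
    intro y
    show Submodule.Quotient.mk y = 0 ↔ _
    rw [Submodule.Quotient.mk_eq_zero, Ideal.mem_span_singleton']
    constructor
    · rintro ⟨a, rfl⟩; exact ⟨a, mul_comm x a⟩
    · rintro ⟨a, rfl⟩; exact ⟨a, mul_comm a x⟩
  let S : CategoryTheory.ShortComplex (ModuleCat.{u} R) := CategoryTheory.ShortComplex.mk
    (ModuleCat.ofHom f) (ModuleCat.ofHom g)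
    (ModuleCat.hom_ext (LinearMap.ext hfg.apply_apply_eq_zero))
  have hS : S.ShortExact :=
    { exact := (CategoryTheory.ShortComplex.ShortExact.moduleCat_exact_iff_function_exact _).mpr hfg
      mono_f := (ModuleCat.mono_iff_injective _).mpr hxR
      epi_g := (ModuleCat.epi_iff_surjective _).mpr (Submodule.mkQ_surjective _) }
  have hP : CategoryTheory.Projective S.X₂ := by
    have : Module.Projective R R := inferInstance
    exact (IsProjective.iff_projective R).mp this
  have hP1 : CategoryTheory.Projective S.X₁ := hP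
  refine @ModuleCat.subsingleton_of_isZero _ _ (ModuleCat.of R (DRing.Tor R i M (R ⧸ Ideal.span {x}))) ?_
  obtain ⟨j, rfl⟩ := Nat.exists_eq_succ_of_ne_zero (Nat.one_le_iff_ne_zero.mp hi)
  cases j with
  | zero =>
    refine (Groth.Agent.H3CAlg.Tor.isZero_one_iff_injective (ModuleCat.of R M) S hS).mpr ?_
    show Function.Injective (f.lTensor M)
    intro a b hab
    apply (TensorProduct.rid R M).injective
    apply hxM
    have key : ∀ z, x • TensorProduct.rid R M z = TensorProduct.rid R M (f.lTensor M z) := by
      intro z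
      induction z with
      | zero => simp
      | tmul m r => simp [f, mul_smul]
      | add a b ha hb => simp only [map_add, smul_add, ha, hb]
    show x • TensorProduct.rid R M a = x • TensorProduct.rid R M b
    rw [key, key, hab]
  | succ j =>
    obtain ⟨-, -, δ, w₁, w₂, h₁, -⟩ := Groth.Agent.H3CAlg.Tor.les₂ (ModuleCat.of R M) S hS (j + 1)
    exact h₁.isZero_X₂
      ((CategoryTheory.isZero_Tor_succ_of_projective _ (ModuleCat.of R M) S.X₂ (j + 1)).eq_of_src _ _)
      ((CategoryTheory.isZero_Tor_succ_of_projective _ (ModuleCat.of R M) S.X₁ j).eq_of_tgt _ _)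

end Groth.Agent.S14434
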