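import Groth.Statements.S14435
import Groth.Agent.H4LC.Depth
import Groth.Agent.H4LC.ChangeRings

set_option autoImplicit false
universe u
open LocCoh

namespace Groth.Agent.S14435

/-- Let (A, m) be a Noetherian local ring, φ : A → B a finite homomorphism of commutative rings, a ⊆ m
an ideal and M a finitely generated B-module. Then depth(a, M), computed over A, equals depth(aB,
M), computed over B (depths by regular sequences, ⊤ when aM = M). -/
theorem result {A B : Type u} [CommRing A] [IsNoetherianRing A] [IsLocalRing A]
    [CommRing B] [Algebra A B] [Module.Finite A B] (a : Ideal A) (ha : a ≤ IsLocalRing.maximalIdeal A)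
    (M : Type u) [AddCommGroup M] [Module B M] [Module A M] [IsScalarTower A B M] [Module.Finite B M] :
    LocCoh.idealDepth a M = LocCoh.idealDepth (a.map (algebraMap A B)) M := by

  haveI : IsNoetherianRing B := IsNoetherianRing.of_finite A B
  haveI : Module.Finite A M := Module.Finite.trans B M
  refine le_antisymm (ENat.forall_natCast_le_iff_le.1 fun n h => ?_)
    (ENat.forall_natCast_le_iff_le.1 fun n h => ?_)
  · rw [H4LC.le_idealDepth_iff_H] at h ⊢
    exact fun i hi => (H4LC.subsingleton_H_map_iff B a M i).2 (h i hi)
  · rw [H4LC.le_idealDepth_iff_H] at h ⊢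
    exact fun i hi => (H4LC.subsingleton_H_map_iff B a M i).1 (h i hi)

end Groth.Agent.S14435
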