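import Groth.Statements.S16707
import Mathlib.RingTheory.Derivation.Basic
import Mathlib.RingTheory.Flat.Equalizer
import Mathlib.RingTheory.Henselian
import Mathlib.RingTheory.Regular.RegularSequence
import Mathlib.RingTheory.RegularLocalRing.Defs
import Mathlib.RingTheory.SimpleRing.Principal

set_option autoImplicit false
universe u v
open CAlg

namespace Groth.Agent.S16707

open TensorProduct in
/-- Let A be a commutative ring, I a nilpotent ideal of A and f : M → N a homomorphism of A-modules with
N flat over A (no finiteness assumption on M or N). If the base change of f to A/I, that is M/IM →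
N/IN, is bijective, then f is bijective. -/
theorem result (A : Type u) [CommRing A] (I : Ideal A)
    (hI : IsNilpotent I) (M N : Type v) [AddCommGroup M] [Module A M] [AddCommGroup N] [Module A N]
    [Module.Flat A N] (f : M →ₗ[A] N)
    (hf : Function.Bijective (f.baseChange (A ⧸ I))) :
    Function.Bijective f := by
  obtain ⟨n, hn⟩ := hI
  have hkill : ∀ {P : Type v} [AddCommGroup P] [Module A P], (⊤ : Submodule A P) ≤ I • ⊤ → Subsingleton P := by
    intro P _ _ h
    have h2 : ∀ k, (⊤ : Submodule A P) ≤ I ^ k • ⊤ := by
      intro k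
      induction k with
      | zero => simp
      | succ k ih =>
        rw [pow_succ, Submodule.mul_smul]
        exact ih.trans (smul_mono_right _ h)
    have := h2 n
    rw [hn, Submodule.zero_eq_bot, Submodule.bot_smul, top_le_iff] at this
    exact (Submodule.subsingleton_iff A).mp (subsingleton_iff_bot_eq_top.mp this)
  have hf' : Function.Bijective (f.lTensor (A ⧸ I)) := hf
  have hsurj : Function.Surjective f := by
    have hsub : Subsingleton (N ⧸ LinearMap.range f) := by
      apply hkill
      rintro y -
      obtain ⟨x, rfl⟩ := Submodule.mkQ_surjective _ y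
      obtain ⟨z, hz⟩ := hf'.2 ((1 : A ⧸ I) ⊗ₜ x)
      obtain ⟨m, hm⟩ := TensorProduct.mk_surjective A M (A ⧸ I) Ideal.Quotient.mk_surjective z
      subst hm
      have h1 := congrArg (TensorProduct.quotTensorEquivQuotSMul N I) hz
      simp only [TensorProduct.mk_apply, LinearMap.lTensor_tmul] at h1
      rw [show (1 : A ⧸ I) = Ideal.Quotient.mk I 1 from rfl, quotTensorEquivQuotSMul_mk_tmul, quotTensorEquivQuotSMul_mk_tmul, one_smul, one_smul, Submodule.Quotient.eq] at h1
      have h2 := Submodule.mem_map_of_mem (f := (LinearMap.range f).mkQ) h1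
      rw [Submodule.map_smul''] at h2
      have h3 : _ ∈ (I • ⊤ : Submodule A (N ⧸ LinearMap.range f)) := Submodule.smul_mono le_rfl le_top h2
      simp only [map_sub, Submodule.mkQ_apply] at h3
      rw [(Submodule.Quotient.mk_eq_zero _).mpr (LinearMap.mem_range_self f m), zero_sub] at h3
      exact neg_mem_iff.mp h3
    rw [← LinearMap.range_eq_top]
    exact Submodule.Quotient.subsingleton_iff.mp hsub
  refine ⟨?_, hsurj⟩
  have hsubK : Subsingleton (LinearMap.ker f) := by
    have hinj : Function.Injective ((LinearMap.ker f).subtype.lTensor (A ⧸ I)) := by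
      exact LinearMap.lTensor_injective_of_exact_of_flat f hsurj _ (Submodule.injective_subtype _) (LinearMap.exact_subtype_ker_map f) (A ⧸ I)
    have : Subsingleton ((A ⧸ I) ⊗[A] LinearMap.ker f) := by
      refine ⟨fun a b => hinj (hf'.1 ?_)⟩
      have h0 : ∀ a, f.lTensor (A ⧸ I) ((LinearMap.ker f).subtype.lTensor (A ⧸ I) a) = 0 := fun a => by
        rw [← LinearMap.comp_apply, ← LinearMap.lTensor_comp, LinearMap.comp_ker_subtype, LinearMap.lTensor_zero]; rfl
      rw [h0, h0]
    apply hkill
    rw [top_le_iff]
    exact Submodule.Quotient.subsingleton_iff.mp (TensorProduct.quotTensorEquivQuotSMul _ I).symm.injective.subsingleton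
  rw [← LinearMap.ker_eq_bot]
  exact (Submodule.subsingleton_iff_eq_bot).mp hsubK

end Groth.Agent.S16707
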