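import Groth.Statements.S14436
import Groth.Agent.S3168
import Groth.Agent.S3169
import Mathlib.Algebra.Lie.OfAssociative
import Mathlib.RingTheory.Etale.Weakly
import Mathlib.RingTheory.Flat.TorsionFree
import Mathlib.RingTheory.PicardGroup

set_option autoImplicit false
universe u
open CAlg

namespace Groth.Agent.S14436

open scoped TensorProduct in
/-- Let L/K be a finitely generated field extension which is separable in the sense that it has a
transcendence basis a_1, …, a_n over which L is a (finite) separable extension of K(a_1, …, a_n).
Then dim_L Ω_{L/K} = n, the transcendence degree of L over K. -/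
theorem result (K L : Type u) [Field K] [Field L] [Algebra K L]
    (hfg : ∃ s : Finset L, IntermediateField.adjoin K (s : Set L) = ⊤)
    (n : ℕ) (a : Fin n → L) (ha : IsTranscendenceBasis K a)
    (hsep : Algebra.IsSeparable ↥(IntermediateField.adjoin K (Set.range a)) L) :
    Module.finrank L (Ω[L⁄K]) = n := by
  classical
  set F := IntermediateField.adjoin K (Set.range a)
  have : Algebra.IsSeparable F L := hsep
  have : Algebra.FormallyEtale F L := Algebra.FormallyEtale.of_isSeparable F L
  let e : FractionRing (MvPolynomial (Fin n) K) ≃ₐ[K] F := ha.1.aevalEquivField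
  let Q := FractionRing (MvPolynomial (Fin n) K)
  letI : Algebra Q F := e.toRingEquiv.toRingHom.toAlgebra
  haveI : IsScalarTower K Q F := IsScalarTower.of_algebraMap_eq fun x => (e.commutes x).symm
  have : Algebra.FormallyEtale Q F := Algebra.FormallyEtale.of_equiv (AlgEquiv.ofRingEquiv (R := Q) (f := e.toRingEquiv) (fun x => rfl))
  have : Algebra.FormallyEtale (MvPolynomial (Fin n) K) Q :=
    Algebra.FormallyEtale.of_isLocalization (nonZeroDivisors (MvPolynomial (Fin n) K))
  have h1 : Module.finrank Q (Ω[Q⁄K]) = n := by
    rw [← (KaehlerDifferential.tensorKaehlerEquivOfFormallyEtale K (MvPolynomial (Fin n) K) Q).finrank_eq,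
      Module.finrank_baseChange, Module.finrank_eq_card_basis (KaehlerDifferential.mvPolynomialBasis K (Fin n)),
      Fintype.card_fin]
  have h2 : Module.finrank F (Ω[F⁄K]) = n := by
    rw [← (KaehlerDifferential.tensorKaehlerEquivOfFormallyEtale K Q F).finrank_eq, Module.finrank_baseChange, h1]
  rw [← (KaehlerDifferential.tensorKaehlerEquivOfFormallyEtale K F L).finrank_eq, Module.finrank_baseChange, h2]

end Groth.Agent.S14436
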