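import Groth.Statements.S14437
import Mathlib.RingTheory.Henselian
import Mathlib.RingTheory.Kaehler.Basic
import Mathlib.RingTheory.RegularLocalRing.Defs
import Mathlib.RingTheory.SimpleRing.Principal
import Mathlib.Tactic.Ring

set_option autoImplicit false
universe u
open CAlg

namespace Groth.Agent.S14437

/-- Let k be a field and A → B a local homomorphism of Noetherian local k-algebras with residue fields k
(k → A/m_A and k → B/m_B bijective) — for instance the local rings at a closed point x and at its
image y under a morphism of schemes of finite type over an algebraically closed k. Then dim_k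
(Ω_{B/A} ⊗_B B/m_B) + rank(m_A/m_A² → m_B/m_B²) = dim_k (m_B/m_B²): the fibre at x of the sheaf of
relative differentials is dual to the kernel of the tangent map T_x X → T_y Y. (The published
statement is the canonical isomorphism (Ω_{X/Y})_(x)^∨ ≅ ker(df_x); stated here as the resulting
equality of dimensions. Its second assertion, dim (Ω_{X/Y})_(x) ≥ r when the fibre has an
r-dimensional component through x, is not included.) -/
theorem result (k : Type u) [Field k]
    (A B : Type u) [CommRing A] [CommRing B] [IsLocalRing A] [IsLocalRing B] [IsNoetherianRing A] [IsNoetherianRing B]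
    [Algebra k A] [Algebra k B] [Algebra A B] [IsScalarTower k A B]
    (hle : IsLocalRing.maximalIdeal A ≤ Ideal.comap (IsScalarTower.toAlgHom k A B) (IsLocalRing.maximalIdeal B))
    (hA : Function.Bijective (algebraMap k (IsLocalRing.ResidueField A)))
    (hB : Function.Bijective (algebraMap k (IsLocalRing.ResidueField B))) :
    Module.finrank (IsLocalRing.ResidueField B) (TensorProduct B (IsLocalRing.ResidueField B) (Ω[B⁄A])) +
      Module.finrank k ↥(LinearMap.range (Ideal.mapCotangent (IsLocalRing.maximalIdeal A) (IsLocalRing.maximalIdeal B)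
        (IsScalarTower.toAlgHom k A B) hle)) =
      Module.finrank k (IsLocalRing.CotangentSpace B) := by
  classical
  let κ := IsLocalRing.ResidueField B
  let m : Ideal B := IsLocalRing.maximalIdeal B
  -- constants
  let c : B → k := fun b => (RingEquiv.ofBijective (algebraMap k κ) hB).symm (IsLocalRing.residue B b)
  have hc : ∀ b : B, b - algebraMap k B (c b) ∈ m := fun b => by
    rw [← IsLocalRing.residue_eq_zero_iff, map_sub, sub_eq_zero, ← IsLocalRing.ResidueField.algebraMap_eq,
      ← IsScalarTower.algebraMap_apply k B κ]
    exact ((RingEquiv.ofBijective (algebraMap k κ) hB).apply_symm_apply _).symm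
  have hu : ∀ (b : B) (t : k), b - algebraMap k B t ∈ m → c b = t := fun b t ht => by
    apply hB.1
    show algebraMap k κ _ = _
    rw [IsScalarTower.algebraMap_apply k B κ t, IsLocalRing.ResidueField.algebraMap_eq]
    rw [← IsLocalRing.residue_eq_zero_iff, map_sub, sub_eq_zero] at ht
    rw [← ht]
    exact (RingEquiv.ofBijective (algebraMap k κ) hB).apply_symm_apply _
  let C0 := m.Cotangent
  have hkill : ∀ (b : B), b ∈ m → ∀ x : C0, b • x = 0 := fun b hb x => by
    obtain ⟨y, rfl⟩ := m.toCotangent_surjective x
    rw [← map_smul, Ideal.toCotangent_eq_zero, pow_two]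
    exact Ideal.mul_mem_mul hb y.2
  let Wk := LinearMap.range (Ideal.mapCotangent (IsLocalRing.maximalIdeal A) m (IsScalarTower.toAlgHom k A B) hle)
  have hscal : ∀ (b : B) (x : C0), b • x = c b • x := fun b x => by
    rw [← sub_eq_zero, ← algebraMap_smul B (c b) x, ← sub_smul, hkill _ (hc b)]
  let W : Submodule B C0 :=
    { carrier := Wk
      add_mem' := fun ha hb => Wk.add_mem ha hb
      zero_mem' := Wk.zero_mem
      smul_mem' := fun b x hx => by rw [SetLike.mem_coe, hscal]; exact Wk.smul_mem _ hx }
  let Q := C0 ⧸ W
  let q : C0 →ₗ[B] Q := W.mkQ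
  let δf : B → Q := fun b => q (m.toCotangent ⟨_, hc b⟩)
  have hadd : ∀ b b', δf (b + b') = δf b + δf b' := fun b b' => by
    have h : c (b + b') = c b + c b' := hu _ _ (by
      rw [map_add]; convert m.add_mem (hc b) (hc b') using 1; ring)
    simp only [δf, ← map_add]
    congr 2
    refine Subtype.ext ?_
    show b + b' - algebraMap k B (c (b + b')) = (b - algebraMap k B (c b)) + (b' - algebraMap k B (c b'))
    rw [h, map_add]; ring
  have hmul : ∀ b b', δf (b * b') = b • δf b' + b' • δf b := fun b b' => by
    have h : c (b * b') = c b * c b' := hu _ _ (by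
      rw [map_mul]
      convert m.add_mem (m.mul_mem_left b (hc b')) (m.mul_mem_right (algebraMap k B (c b')) (hc b)) using 1
      ring)
    simp only [δf, ← map_smul, ← map_add]
    congr 1
    rw [Ideal.toCotangent_eq, pow_two]
    convert neg_mem (Ideal.mul_mem_mul (hc b') (hc b)) using 1
    show (b * b' - algebraMap k B (c (b * b'))) - (b * (b' - algebraMap k B (c b')) + b' * (b - algebraMap k B (c b))) = _
    rw [h, map_mul]
    ring
  have hα : ∀ a : A, δf (algebraMap A B a) = 0 := fun a => by
    let t : k := (RingEquiv.ofBijective (algebraMap k (IsLocalRing.ResidueField A)) hA).symm (IsLocalRing.residue A a)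
    have ht : a - algebraMap k A t ∈ IsLocalRing.maximalIdeal A := by
      rw [← IsLocalRing.residue_eq_zero_iff, map_sub, sub_eq_zero, ← IsLocalRing.ResidueField.algebraMap_eq,
        ← IsScalarTower.algebraMap_apply k A (IsLocalRing.ResidueField A)]
      exact ((RingEquiv.ofBijective (algebraMap k (IsLocalRing.ResidueField A)) hA).apply_symm_apply _).symm
    have h : c (algebraMap A B a) = t := hu _ _ (by
      have := hle ht
      rw [Ideal.mem_comap, map_sub] at this
      rwa [IsScalarTower.algebraMap_apply k A B])
    refine (Submodule.Quotient.mk_eq_zero W).mpr ⟨Ideal.toCotangent _ ⟨_, ht⟩, ?_⟩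
    rw [Ideal.mapCotangent_toCotangent]
    congr 1
    refine Subtype.ext ?_
    show algebraMap A B (a - algebraMap k A t) = algebraMap A B a - algebraMap k B (c (algebraMap A B a))
    rw [map_sub, ← IsScalarTower.algebraMap_apply k A B, h]
  let δ : Derivation A B Q := Derivation.mk'
    { toFun := δf
      map_add' := hadd
      map_smul' := fun a b => by
        rw [Algebra.smul_def, hmul, hα, smul_zero, add_zero, algebraMap_smul, RingHom.id_apply] }
    (fun b b' => hmul b b')
  let θ := δ.liftKaehlerDifferential
  have hθ : ∀ b, θ (KaehlerDifferential.D A B b) = δf b := δ.liftKaehlerDifferential_comp_D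
  have hsurj : Function.Surjective θ := fun x => by
    obtain ⟨x, rfl⟩ := Submodule.mkQ_surjective W x
    obtain ⟨y, rfl⟩ := m.toCotangent_surjective x
    refine ⟨KaehlerDifferential.D A B y, ?_⟩
    rw [hθ]
    show q (m.toCotangent _) = q (m.toCotangent y)
    congr 2
    refine Subtype.ext ?_
    show y.1 - algebraMap k B (c y.1) = y.1
    rw [hu y.1 0 (by rw [map_zero, sub_zero]; exact y.2), map_zero, sub_zero]
  let mΩ : Submodule B (Ω[B⁄A]) := m • ⊤
  have hD0 : ∀ t : k, KaehlerDifferential.D A B (algebraMap k B t) = 0 := fun t => by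
    rw [IsScalarTower.algebraMap_apply k A B, Derivation.map_algebraMap]
  have hD2 : ∀ y ∈ m ^ 2, KaehlerDifferential.D A B y ∈ mΩ := fun y hy => by
    rw [pow_two] at hy
    refine Submodule.mul_induction_on hy (fun r hr s hs => ?_) (fun a b ha hb => by rw [map_add]; exact add_mem ha hb)
    rw [Derivation.leibniz]
    exact add_mem (Submodule.smul_mem_smul hr trivial) (Submodule.smul_mem_smul hs trivial)
  have hker : LinearMap.ker θ = mΩ := by
    refine le_antisymm (fun ω hω => ?_) (Submodule.smul_le.mpr fun r hr ω _ => ?_)
    · have hS : ∃ y : B, y ∈ m ∧ ω - KaehlerDifferential.D A B y ∈ mΩ := by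
        have hspan : ω ∈ Submodule.span B (Set.range (KaehlerDifferential.D A B)) := by
          rw [KaehlerDifferential.span_range_derivation]; trivial
        clear hω
        induction hspan using Submodule.span_induction with
        | mem x hx =>
          obtain ⟨b, rfl⟩ := hx
          exact ⟨_, hc b, by rw [map_sub, hD0, sub_zero, sub_self]; exact zero_mem _⟩
        | zero => exact ⟨0, m.zero_mem, by simp⟩
        | add x x' _ _ hx hx' =>
          obtain ⟨y, hy, hxy⟩ := hx
          obtain ⟨y', hy', hxy'⟩ := hx'
          exact ⟨y + y', m.add_mem hy hy', by convert add_mem hxy hxy' using 1; rw [map_add]; abel⟩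
        | smul b x _ hx =>
          obtain ⟨y, hy, hxy⟩ := hx
          refine ⟨algebraMap k B (c b) * y, m.mul_mem_left _ hy, ?_⟩
          convert add_mem (mΩ.smul_mem b hxy) (Submodule.smul_mem_smul (hc b) (Submodule.mem_top (x := KaehlerDifferential.D A B y))) using 1
          rw [Derivation.leibniz, hD0, smul_zero, add_zero, smul_sub, sub_smul]
          abel
      obtain ⟨y, hy, hω'⟩ := hS
      have h2 : θ (ω - KaehlerDifferential.D A B y) = 0 := by
        have hle' : mΩ ≤ LinearMap.ker θ := Submodule.smul_le.mpr fun r hr ω _ => by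
          rw [LinearMap.mem_ker, map_smul]
          obtain ⟨x, hx⟩ := Submodule.mkQ_surjective W (θ ω)
          rw [← hx, ← map_smul, hkill r hr, map_zero]
        exact hle' hω'
      rw [map_sub, LinearMap.mem_ker.mp hω, zero_sub, neg_eq_zero, hθ] at h2
      obtain ⟨z, hz⟩ := (Submodule.Quotient.mk_eq_zero W).mp h2
      obtain ⟨z, rfl⟩ := (IsLocalRing.maximalIdeal A).toCotangent_surjective z
      rw [Ideal.mapCotangent_toCotangent, Ideal.toCotangent_eq] at hz
      have h3 := hD2 _ hz
      rw [map_sub, map_sub] at h3
      simp only [IsScalarTower.coe_toAlgHom', Derivation.map_algebraMap, hD0, sub_zero, zero_sub, neg_mem_iff] at h3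
      convert add_mem hω' h3 using 1
      abel
    · rw [LinearMap.mem_ker, map_smul]
      obtain ⟨x, hx⟩ := Submodule.mkQ_surjective W (θ ω)
      rw [← hx, ← map_smul, hkill r hr, map_zero]
  let e : TensorProduct B κ (Ω[B⁄A]) ≃ₗ[B] Q :=
    (TensorProduct.quotTensorEquivQuotSMul (Ω[B⁄A]) m).trans ((Submodule.quotEquivOfEq _ _ hker.symm).trans (θ.quotKerEquivOfSurjective hsurj))
  have h1 : Module.finrank κ (TensorProduct B κ (Ω[B⁄A])) = Module.finrank k (TensorProduct B κ (Ω[B⁄A])) := by
    rw [← Module.finrank_mul_finrank k κ (TensorProduct B κ (Ω[B⁄A])),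
      ← (LinearEquiv.ofBijective (Algebra.linearMap k κ) hB).finrank_eq, Module.finrank_self, one_mul]
  have h2 : Module.finrank k (TensorProduct B κ (Ω[B⁄A])) = Module.finrank k Q := (e.restrictScalars k).finrank_eq
  have h3 : Module.finrank k (C0 ⧸ Wk) = Module.finrank k Q :=
    ((Submodule.quotEquivOfEq Wk (W.restrictScalars k) rfl).trans (Submodule.Quotient.restrictScalarsEquiv k W)).finrank_eq
  haveI : Module.Finite k C0 := by
    obtain ⟨s, hs⟩ := Module.finite_def.mp (Module.Finite.of_surjective m.toCotangent m.toCotangent_surjective : Module.Finite B C0)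
    refine Module.finite_def.mpr ⟨s, eq_top_iff.mpr fun x hxt => ?_⟩
    clear hxt
    have hx : x ∈ Submodule.span B (s : Set C0) := by rw [hs]; trivial
    induction hx using Submodule.span_induction with
    | mem y hy => exact Submodule.subset_span hy
    | zero => exact zero_mem _
    | add y z _ _ hy hz => exact add_mem hy hz
    | smul b y _ hy => rw [hscal]; exact Submodule.smul_mem _ _ hy
  have h4 := Submodule.finrank_quotient_add_finrank Wk
  rw [h1, h2, ← h3]
  exact h4

end Groth.Agent.S14437
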