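import Groth.Statements.S14438
import Groth.Agent.H1CAlg.SimpleLoc
import Mathlib.LinearAlgebra.FreeModule.StrongRankCondition
import Mathlib.LinearAlgebra.TensorProduct.Pi
import Mathlib.LinearAlgebra.TensorProduct.Quotient

set_option autoImplicit false
universe u
open CAlg

namespace Groth.Agent.S14438

/-- Let (A, m) be a local ring, B a commutative A-algebra which is free of finite rank d as an A-module,
and assume that for every maximal ideal n of B containing mB the induced map of residue fields A/m →
B/n is bijective (as for the points of a fibre of a finite flat morphism of varieties over an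
algebraically closed field). Then the multiplicities of the points of the fibre add up to the
degree: the sum over all such n of the length of the B_n-module (B/mB)_n equals d. -/
theorem result (A B : Type u) [CommRing A] [IsLocalRing A] [CommRing B] [Algebra A B]
    [Module.Free A B] [Module.Finite A B] (d : ℕ) (hd : Module.finrank A B = d)
    (hres : ∀ (n : Ideal B) [n.IsMaximal] (h : Ideal.map (algebraMap A B) (IsLocalRing.maximalIdeal A) ≤ n),
      Function.Bijective (Ideal.quotientMap n (algebraMap A B) (Ideal.map_le_iff_le_comap.mp h))) :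
    finsum (fun n : {n : MaximalSpectrum B // Ideal.map (algebraMap A B) (IsLocalRing.maximalIdeal A) ≤ n.asIdeal} =>
      Module.length (Localization.AtPrime n.1.asIdeal)
        (LocalizedModule n.1.asIdeal.primeCompl (B ⧸ Ideal.map (algebraMap A B) (IsLocalRing.maximalIdeal A)))) = (d : ℕ∞) := by
  open scoped TensorProduct in
  classical
  let J : Ideal B := Ideal.map (algebraMap A B) (IsLocalRing.maximalIdeal A)
  let k := A ⧸ IsLocalRing.maximalIdeal A
  -- the length over `A` of the fibre
  have hlenA : Module.length A (B ⧸ J) = (d : ℕ∞) := by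
    have e1 : (B ⧸ J) ≃ₗ[A] (B ⧸ (IsLocalRing.maximalIdeal A • (⊤ : Submodule A B))) :=
      (Submodule.Quotient.restrictScalarsEquiv A J).symm.trans
        (Submodule.quotEquivOfEq _ _ (Ideal.smul_top_eq_map _).symm)
    have e2 : (k ⊗[A] B) ≃ₗ[A] (Fin d → k) :=
      (LinearEquiv.lTensor k ((Module.finBasisOfFinrankEq A B hd).equivFun)).trans
        ((TensorProduct.piScalarRight A A k (Fin d)).restrictScalars A)
    rw [(e1.trans ((TensorProduct.quotTensorEquivQuotSMul B _).symm.trans e2)).length_eq,
      Module.length_pi]
    haveI : IsSimpleModule A k := isSimpleModule_iff_isCoatom.mpr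
      (Ideal.isMaximal_def.mp (IsLocalRing.maximalIdeal.isMaximal A))
    simp [Module.length_eq_one A k]
  have hfinA : IsFiniteLength A (B ⧸ J) := Module.length_ne_top_iff.mp (by simp [hlenA])
  haveI hfinB : IsFiniteLength B (B ⧸ J) := by
    rw [isFiniteLength_iff_isNoetherian_isArtinian] at hfinA ⊢
    exact ⟨isNoetherian_of_tower A hfinA.1, isArtinian_of_tower A hfinA.2⟩
  haveI hart : IsArtinianRing (B ⧸ J) := by
    haveI := (isFiniteLength_iff_isNoetherian_isArtinian.mp hfinB).2
    exact isArtinian_of_tower B this
  let S := {n : MaximalSpectrum B // J ≤ n.asIdeal}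
  haveI : Finite S := by
    have hmax : ∀ n : S, (Ideal.map (Ideal.Quotient.mk J) n.1.asIdeal).IsMaximal := fun n => by
      haveI := n.1.isMaximal
      exact Ideal.IsMaximal.map_of_surjective_of_ker_le Ideal.Quotient.mk_surjective
        (by rw [Ideal.mk_ker]; exact n.2)
    refine Finite.of_injective (β := MaximalSpectrum (B ⧸ J))
      (fun n : S => ⟨Ideal.map (Ideal.Quotient.mk J) n.1.asIdeal, hmax n⟩) fun x y hxy => ?_
    have := congrArg (fun q : MaximalSpectrum (B ⧸ J) => q.asIdeal.comap (Ideal.Quotient.mk J)) hxy
    simp only [Ideal.comap_map_of_surjective _ Ideal.Quotient.mk_surjective, ← RingHom.ker_eq_comap_bot,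
      Ideal.mk_ker, sup_eq_left.mpr x.2, sup_eq_left.mpr y.2] at this
    exact Subtype.ext (MaximalSpectrum.ext this)
  haveI := Fintype.ofFinite S
  -- the formula for all modules of finite length killed by `J`
  suffices key : ∀ (N : Type u) [AddCommGroup N] [Module B N],
      IsFiniteLength B N → ∀ [Module A N] [IsScalarTower A B N], (∀ b ∈ J, ∀ x : N, b • x = 0) →
      ∑ n : S, Module.length (Localization.AtPrime n.1.asIdeal)
        (LocalizedModule n.1.asIdeal.primeCompl N) = Module.length A N by
    rw [finsum_eq_sum_of_fintype]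
    refine (key (B ⧸ J) hfinB fun b hb x => ?_).trans hlenA
    obtain ⟨x, rfl⟩ := Submodule.Quotient.mk_surjective _ x
    rw [← Submodule.Quotient.mk_smul, Submodule.Quotient.mk_eq_zero]
    exact Ideal.mul_mem_right _ _ hb
  intro N _ _ hN
  induction hN with
  | of_subsingleton =>
    intro _ _ _
    simp [Module.length_eq_zero]
  | @of_simple_quotient M _ _ N _ hN ih =>
    intro _ _ hkill
    rw [Module.length_eq_add_of_exact (N.restrictScalars A).subtype (N.restrictScalars A).mkQ
      Subtype.val_injective (Submodule.mkQ_surjective _) (LinearMap.exact_subtype_mkQ _)]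
    have hsplit : ∀ n : S, Module.length (Localization.AtPrime n.1.asIdeal)
        (LocalizedModule n.1.asIdeal.primeCompl M) =
          Module.length (Localization.AtPrime n.1.asIdeal) (LocalizedModule n.1.asIdeal.primeCompl N) +
          Module.length (Localization.AtPrime n.1.asIdeal) (LocalizedModule n.1.asIdeal.primeCompl (M ⧸ N)) :=
      fun n => Module.length_eq_add_of_exact (LocalizedModule.map n.1.asIdeal.primeCompl N.subtype)
        (LocalizedModule.map n.1.asIdeal.primeCompl N.mkQ)
        (LocalizedModule.map_injective _ _ Subtype.val_injective)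
        (LocalizedModule.map_surjective _ _ (Submodule.mkQ_surjective _))
        (LocalizedModule.map_exact _ _ _ (LinearMap.exact_subtype_mkQ _))
    simp only [hsplit, Finset.sum_add_distrib]
    congr 1
    · refine (ih fun b hb x => Subtype.ext (hkill b hb x.1)).trans ?_
      exact LinearEquiv.length_eq
        ({ toFun := fun x => ⟨x.1, x.2⟩, map_add' := fun _ _ => rfl, map_smul' := fun _ _ => rfl,
           invFun := fun x => ⟨x.1, x.2⟩, left_inv := fun _ => rfl, right_inv := fun _ => rfl } :
          N ≃ₗ[A] N.restrictScalars A)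
    · let Q := M ⧸ N
      haveI hQ : IsSimpleModule B Q := inferInstance
      haveI := IsSimpleModule.nontrivial B Q
      obtain ⟨y, hy⟩ := exists_ne (0 : Q)
      let n₀ : Ideal B := LinearMap.ker (LinearMap.toSpanSingleton B Q y)
      haveI hn₀ : n₀.IsMaximal := IsSimpleModule.ker_toSpanSingleton_isMaximal B hy
      have hkill₀ : ∀ r ∈ n₀, ∀ z : Q, r • z = 0 := by
        intro r hr z
        obtain ⟨b, rfl⟩ := IsSimpleModule.toSpanSingleton_surjective B hy z
        rw [LinearMap.toSpanSingleton_apply, smul_comm, show r • y = 0 from hr, smul_zero]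
      have hJn : J ≤ n₀ := fun b hb => by
        obtain ⟨m, hm⟩ := Submodule.mkQ_surjective N y
        show b • y = 0
        rw [← hm, ← map_smul, hkill b hb m, map_zero]
      have hsum : ∀ n : S, Module.length (Localization.AtPrime n.1.asIdeal)
          (LocalizedModule n.1.asIdeal.primeCompl Q) = if n = ⟨⟨n₀, hn₀⟩, hJn⟩ then 1 else 0 := by
        intro n
        haveI := n.1.isMaximal
        rw [Groth.Agent.H1CAlg.length_localized_simple n.1.asIdeal Q n₀ hn₀ hkill₀]
        refine if_congr ⟨fun h => Subtype.ext (MaximalSpectrum.ext h.symm), fun h => ?_⟩ rfl rfl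
        rw [h]
      rw [Finset.sum_congr rfl fun n _ => hsum n, Finset.sum_ite_eq', if_pos (Finset.mem_univ _)]
      haveI : IsSimpleModule A Q := by
        refine isSimpleModule_iff_toSpanSingleton_surjective.mpr
          ⟨IsSimpleModule.nontrivial B Q, fun z hz w => ?_⟩
        obtain ⟨b, rfl⟩ := IsSimpleModule.toSpanSingleton_surjective B hz w
        obtain ⟨a, ha⟩ := (hres n₀ hJn).2 (Ideal.Quotient.mk n₀ b)
        obtain ⟨a, rfl⟩ := Ideal.Quotient.mk_surjective a
        rw [Ideal.quotientMap_mk, Ideal.Quotient.eq] at ha
        refine ⟨a, ?_⟩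
        have := hkill₀ _ ha z
        rw [sub_smul, sub_eq_zero] at this
        simpa [LinearMap.toSpanSingleton_apply] using this
      symm
      rw [← Module.length_eq_one A Q]
      exact (Submodule.Quotient.restrictScalarsEquiv A N).length_eq

end Groth.Agent.S14438
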