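import Groth.Statements.S14439
import Groth.Agent.H27KZero.PnRes

set_option autoImplicit false
universe u
open CategoryTheory CategoryTheory.Limits AlgebraicGeometry
open Variety

namespace Groth.Agent.S14439

/-- Let k be an algebraically closed field, n ≥ 0 and F a coherent sheaf on P^n_k. Then F has a locally
free resolution 0 → E_{n+1} → ⋯ → E_1 → E_0 → F → 0 of length at most n + 1 in which every E_i is a
finite direct sum of twisting sheaves O(d): there are a chain complex C of O-modules with C_i = 0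
for i > n + 1, each C_i isomorphic to a finite coproduct of twisting sheaves, exact in positive
degrees, and an epimorphism C_0 → F whose kernel is the image of C_1 → C_0. -/
theorem result (k : Type u) [Field k] [IsAlgClosed k] (n : ℕ)
    (F : (CohB1.ProjSpace n k).Modules) (hF : Coh.IsCoh F) :
    ∃ (C : ChainComplex (CohB1.ProjSpace n k).Modules ℕ) (π : C.X 0 ⟶ F) (w : C.d 1 0 ≫ π = 0),
      (∀ i : ℕ, n + 1 < i → IsZero (C.X i)) ∧
      (∀ i : ℕ, ∃ (m : ℕ) (d : Fin m → ℤ), Nonempty (C.X i ≅ ∐ fun j : Fin m => Twist.twistProjSpace n k (d j))) ∧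
      (∀ i : ℕ, 1 ≤ i → IsZero (C.homology i)) ∧ Epi π ∧ (ShortComplex.mk (C.d 1 0) π w).Exact := by
  obtain ⟨m, hm⟩ := Groth.Agent.H27KZero.PnRes.exists_reg hF
  obtain ⟨Z, b, π, ι, w, hS, rfl, -, -, hb⟩ := Groth.Agent.H27KZero.PnRes.exists_resolution hF hm
  haveI : ∀ j, Epi (π j) := fun j => (hS j).epi_g
  refine ⟨Groth.Agent.H22Alg.SyzResolution.cx π ι w, π 0, Groth.Agent.H22Alg.SyzResolution.d_comp π ι w,
    fun i hi => ?_, fun i => ⟨b i, fun _ => -(m + i), ⟨Iso.refl _⟩⟩, fun i hi => ?_, inferInstanceAs (Epi (π 0)), ?_⟩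
  · show IsZero (∐ fun _ : Fin (b i) => _)
    rw [hb i (by omega)]
    exact Groth.Agent.H27KZero.PnRes.isZero_fin_zero _
  · haveI := Groth.Agent.H22Alg.SyzResolution.quasiIso_aug π ι w hS
    obtain ⟨i, rfl⟩ : ∃ j, i = j + 1 := ⟨i - 1, by omega⟩
    exact ((quasiIsoAt_iff_exactAt' (Groth.Agent.H22Alg.SyzResolution.aug π ι w) (i + 1)
      (ChainComplex.exactAt_succ_single_obj _ _)).1 inferInstance).isZero_homology
  · let ψ : ShortComplex.mk ((Groth.Agent.H22Alg.SyzResolution.cx π ι w).d 1 0) (π 0)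
        (Groth.Agent.H22Alg.SyzResolution.d_comp π ι w) ⟶ ShortComplex.mk (ι 0) (π 0) (w 0) :=
      ShortComplex.homMk (π 1) (𝟙 _) (𝟙 _)
        ((Groth.Agent.H22Alg.SyzResolution.cx_d π ι w 0).symm.trans (Category.comp_id _).symm)
        ((Category.id_comp _).trans (Category.comp_id _).symm)
    have : Epi ψ.τ₁ := inferInstanceAs (Epi (π 1))
    have : IsIso ψ.τ₂ := inferInstanceAs (IsIso (𝟙 _))
    have : Mono ψ.τ₃ := inferInstanceAs (Mono (𝟙 _))
    exact (ShortComplex.exact_iff_of_epi_of_isIso_of_mono ψ).mpr (hS 0).exact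

end Groth.Agent.S14439
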