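import Groth.Statements.S14440
import Groth.Agent.H11Misc.HilbertDeg
import Groth.Agent.H4Depth.CM
import Groth.Agent.H4Depth.Regular
import Mathlib.RingTheory.RegularLocalRing.Polynomial

set_option autoImplicit false
set_option linter.style.haveILetI false
universe u
open Polynomial IsLocalRing Groth.Agent.H11Misc.HilbertDeg
noncomputable section

namespace Groth.Agent.S14440

variable {k : Type u} [Field k] {n : ℕ}

local notation "𝕊" => MvPolynomial (Fin (n + 1)) k
local notation "𝒜" => CohB1.polyGrading n k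

instance : IsDomain 𝕊 := inferInstance

theorem mem_of_mul_mem {I : Ideal 𝕊} (hI : I.IsHomogeneous 𝒜) {c z : 𝕊} {e : ℕ} (hz : z ∈ 𝒜 e)
    (hc : MvPolynomial.constantCoeff c ≠ 0) (h : c * z ∈ I) : z ∈ I := by
  have h1 := hI e h
  rw [show c * z = z * c from mul_comm c z] at h1
  have h2 := DirectSum.coe_decompose_mul_add_of_left_mem 𝒜 (j := 0) (b := c) hz
  rw [add_zero] at h2
  rw [h2] at h1
  have h0 : (DirectSum.decompose 𝒜 c 0 : 𝕊) = MvPolynomial.C (MvPolynomial.constantCoeff c) := by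
    refine (MvPolynomial.decomposition.decompose'_apply c 0).trans ?_
    rw [MvPolynomial.homogeneousComponent_zero]
    rfl
  rw [h0] at h1
  exact (Ideal.mul_unit_mem_iff_mem I ((isUnit_iff_ne_zero.2 hc).map MvPolynomial.C)).1 h1

/-- `n` forms cutting out a one-dimensional cone form a regular sequence. -/
theorem colon_eq_self (f : Fin n → 𝕊) (d : Fin n → ℕ) (hd : ∀ i, 0 < d i) (hf : ∀ i, f i ∈ 𝒜 (d i))
    (hdim : ringKrullDim (𝕊 ⧸ Ideal.span (Set.range f)) ≤ 1) (j : Fin n) :
    (Ideal.span (f '' {i | i < j})).colon {f j} = Ideal.span (f '' {i | i < j}) := by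
  classical
  let M : Ideal 𝕊 := RingHom.ker (MvPolynomial.constantCoeff : 𝕊 →+* k)
  haveI hM : M.IsMaximal := RingHom.ker_isMaximal_of_surjective _ fun c => ⟨MvPolynomial.C c, by simp⟩
  let R := Localization.AtPrime M
  haveI : IsRegularLocalRing R := IsRegularRing.isRegularLocalRing_localization (R := 𝕊) M
  have hfM : ∀ i, f i ∈ M := fun i => by
    show MvPolynomial.constantCoeff (f i) = 0
    rw [MvPolynomial.constantCoeff_eq]
    exact ((MvPolynomial.mem_homogeneousSubmodule _ _).1 (hf i)).coeff_eq_zero (by simp; exact (hd i).ne)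
  let x : Fin n → R := fun i => algebraMap 𝕊 R (f i)
  have hx : ∀ i, x i ∈ maximalIdeal R := fun i =>
    (IsLocalization.AtPrime.to_map_mem_maximal_iff R M _).2 (hfM i)
  let J : ℕ → Ideal R := fun l => Ideal.span (x '' {i : Fin n | (i : ℕ) < l})
  have hsucc : ∀ (l : ℕ) (hl : l < n), J (l + 1) = J l ⊔ Ideal.span {x ⟨l, hl⟩} := fun l hl => by
    simp only [J]
    rw [← Ideal.span_union]
    congr 1
    ext z
    simp only [Set.mem_image, Set.mem_ofPred_eq, Set.mem_union, Set.mem_singleton_iff]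
    constructor
    · rintro ⟨i, hi, rfl⟩
      rcases Nat.lt_succ_iff_lt_or_eq.1 hi with h | h
      · exact Or.inl ⟨i, h, rfl⟩
      · exact Or.inr (congrArg x (Fin.ext h))
    · rintro (⟨i, hi, rfl⟩ | rfl)
      · exact ⟨i, hi.trans l.lt_succ_self, rfl⟩
      · exact ⟨⟨l, hl⟩, l.lt_succ_self, rfl⟩
  let e : ∀ (l : ℕ) (hl : l < n), QuotSMulTop (x ⟨l, hl⟩) (R ⧸ J l) ≃ₗ[R] R ⧸ J (l + 1) := fun l hl =>
    (Submodule.quotEquivOfEq _ _ (by
      rw [← Submodule.ideal_span_singleton_smul, ← Submodule.range_mkQ (J l), ← Submodule.map_top,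
        ← Submodule.map_smul'', smul_eq_mul, Ideal.mul_top])).trans
      ((Submodule.quotientQuotientEquivQuotientSup (J l) (Ideal.span {x ⟨l, hl⟩})).trans
        (Submodule.quotEquivOfEq _ _ (hsucc l hl).symm))
  -- dimensions
  have hlast : ringKrullDim (R ⧸ J n) ≤ 1 := by
    refine le_trans ?_ hdim
    refine ringKrullDim_quotient_le _ fun Q hQ hJQ => ?_
    haveI := hQ
    have hle : Ideal.span (Set.range f) ≤ Q.comap (algebraMap 𝕊 R) := Ideal.span_le.2 (by
      rintro _ ⟨i, rfl⟩
      exact hJQ (Ideal.subset_span ⟨i, i.2, rfl⟩))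
    rw [ringKrullDim_quotient, ringKrullDim_quotient]
    refine Order.krullDim_le_of_strictMono
      (fun z => (⟨PrimeSpectrum.comap (algebraMap 𝕊 R) z.1, fun a ha => z.2 (hle ha : _)⟩ :
        PrimeSpectrum.zeroLocus (Ideal.span (Set.range f) : Set 𝕊))) fun a b hab => ?_
    exact (IsLocalization.AtPrime.primeSpectrumOrderIso R M).strictMono (show a.1 < b.1 from hab)
  have hdimR : ringKrullDim R = ((n + 1 : ℕ) : WithBot ℕ∞) := by
    rw [IsLocalization.AtPrime.ringKrullDim_eq_height M R]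
    have h := H8Props.FieldDim.height_add_dim_quotient (k := k) 𝕊 M
    rw [ringKrullDim_eq_zero_of_isField ((Ideal.Quotient.maximal_ideal_iff_isField_quotient M).1 hM), add_zero,
      MvPolynomial.ringKrullDim_of_isNoetherianRing, ringKrullDim_eq_zero_of_field, zero_add] at h
    rw [h]; simp
  have hdrop : ∀ (l : ℕ) (hl : l < n), Module.supportDim R (R ⧸ J l) ≤ Module.supportDim R (R ⧸ J (l + 1)) + 1 :=
    fun l hl => (Module.supportDim_le_supportDim_quotSMulTop_succ (hx ⟨l, hl⟩)).trans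
      (le_of_eq (by rw [Module.supportDim_eq_of_equiv (e l hl)]))
  have hJ0 : J 0 = ⊥ := by simp [J]
  have hup : ∀ m l : ℕ, l + m = n → Module.supportDim R (R ⧸ J l) ≤ ((m + 1 : ℕ) : WithBot ℕ∞) := by
    intro m
    induction m with
    | zero =>
      intro l hl
      obtain rfl : l = n := by omega
      rw [Module.supportDim_quotient_eq_ringKrullDim]
      exact_mod_cast hlast
    | succ m ih =>
      intro l hl
      refine (hdrop l (by omega)).trans ((add_le_add (ih (l + 1) (by omega)) le_rfl).trans (le_of_eq ?_))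
      push_cast; rfl
  have hlow : ∀ l : ℕ, l ≤ n → ((n + 1 : ℕ) : WithBot ℕ∞) ≤ Module.supportDim R (R ⧸ J l) + (l : ℕ) := by
    intro l
    induction l with
    | zero =>
      intro _
      rw [hJ0, Module.supportDim_quotient_eq_ringKrullDim, ringKrullDim_eq_of_ringEquiv (RingEquiv.quotientBot R),
        hdimR, Nat.cast_zero, add_zero]
    | succ l ih =>
      intro hl
      refine (ih (by omega)).trans ((add_le_add (hdrop l (by omega)) le_rfl).trans (le_of_eq ?_))
      push_cast
      rw [add_assoc, add_comm (1 : WithBot ℕ∞)]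
  have hexact : ∀ l : ℕ, l ≤ n → Module.supportDim R (R ⧸ J l) = ((n - l + 1 : ℕ) : WithBot ℕ∞) := fun l hl => by
    refine le_antisymm (hup (n - l) l (by omega)) ?_
    have h := hlow l hl
    rcases eq_or_ne (Module.supportDim R (R ⧸ J l)) ⊥ with hs | hs
    · rw [hs, WithBot.bot_add] at h
      exact absurd h (not_le.2 (WithBot.bot_lt_coe _))
    · obtain ⟨a, ha⟩ := WithBot.ne_bot_iff_exists.1 hs
      rw [← ha] at h ⊢
      induction a using ENat.recTopCoe with
      | top => exact le_top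
      | coe a =>
        change ((n + 1 : ℕ) : WithBot ℕ∞) ≤ ((a : ℕ) : WithBot ℕ∞) + (l : ℕ) at h
        change ((n - l + 1 : ℕ) : WithBot ℕ∞) ≤ ((a : ℕ) : WithBot ℕ∞)
        norm_cast at h ⊢
        omega
  have hCM : ∀ l : ℕ, l ≤ n → LocCoh.IsCohenMacaulayModule R (R ⧸ J l) ∧
      ∀ (hl : l < n), IsSMulRegular (R ⧸ J l) (x ⟨l, hl⟩) := by
    intro l
    induction l with
    | zero =>
      intro _
      have h0 : LocCoh.IsCohenMacaulayModule R (R ⧸ J 0) := by
        have e0 := (Submodule.quotEquivOfEqBot (J 0) hJ0)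
        have := (H4Depth.isCohenMacaulayLocalRing_of_regular R).supportDim_eq_depth
        simp only [LocCoh.IsCohenMacaulayModule]
        rw [Module.supportDim_eq_of_equiv e0, H4Depth.depth_congr e0]
        exact this
      refine ⟨h0, fun hl => H4Depth.IsCM.isSMulRegular_of_supportDim_lt h0 ?_⟩
      rw [Module.supportDim_eq_of_equiv (e 0 hl), hexact 0 (by omega), hexact 1 hl]
      norm_cast
      omega
    | succ l ih =>
      intro hl
      obtain ⟨hcm, hreg⟩ := ih (by omega)
      have h1 := (H4Depth.isCM_quotSMulTop_iff (hx ⟨l, by omega⟩) (hreg (by omega))).2 hcm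
      have h2 : LocCoh.IsCohenMacaulayModule R (R ⧸ J (l + 1)) := by
        simp only [LocCoh.IsCohenMacaulayModule] at h1 ⊢
        rwa [Module.supportDim_eq_of_equiv (e l (by omega)), H4Depth.depth_congr (e l (by omega))] at h1
      refine ⟨h2, fun hl' => H4Depth.IsCM.isSMulRegular_of_supportDim_lt h2 ?_⟩
      rw [Module.supportDim_eq_of_equiv (e (l + 1) hl'), hexact (l + 1) hl, hexact (l + 2) hl']
      norm_cast
      omega
  -- back to the polynomial ring
  have hI : (Ideal.span (f '' {i | i < j})).IsHomogeneous 𝒜 :=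
    Ideal.homogeneous_span _ _ (by rintro _ ⟨i, -, rfl⟩; exact ⟨d i, hf i⟩)
  have hmap : (Ideal.span (f '' {i | i < j})).map (algebraMap 𝕊 R) = J j := by
    rw [Ideal.map_span, ← Set.image_comp]
    rfl
  refine le_antisymm (fun z hz => ?_) fun z hz => Submodule.mem_colon_singleton.2 (Ideal.mul_mem_right _ _ hz)
  rw [← DirectSum.sum_support_decompose 𝒜 z]
  refine Ideal.sum_mem _ fun i _ => ?_
  have hzi := Submodule.mem_colon_singleton.1 (isHomogeneous_colon hI (hf j) i hz)
  rw [smul_eq_mul] at hzi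
  have h3 : algebraMap 𝕊 R (DirectSum.decompose 𝒜 z i : 𝕊) ∈ J j := by
    refine (isSMulRegular_quotient_iff_mem_of_smul_mem (J j) (x j)).1 ((hCM j j.2.le).2 j.2) _ ?_
    rw [smul_eq_mul, ← map_mul, ← hmap, mul_comm]
    exact Ideal.mem_map_of_mem _ hzi
  rw [← hmap, IsLocalization.algebraMap_mem_map_algebraMap_iff M.primeCompl] at h3
  obtain ⟨c, hc, hcz⟩ := h3
  exact mem_of_mul_mem hI (SetLike.coe_mem _) hc hcz

theorem exists_hilb_bot :
    ∃ P : ℚ[X], IsHilb (⊥ : Ideal 𝕊) P ∧ P.natDegree ≤ n ∧ (n.factorial : ℚ) * P.coeff n = 1 := by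
  let Q : ℚ[X] := (descPochhammer ℚ n).comp (X + C (n : ℚ))
  have hmon : Q.Monic := (monic_descPochhammer ℚ n).comp_X_add_C _
  have hdeg : Q.natDegree = n := by
    simp only [Q, natDegree_comp, descPochhammer_natDegree, natDegree_X_add_C, mul_one]
  refine ⟨C ((n.factorial : ℚ)⁻¹) * Q, ⟨0, fun m _ => ?_⟩,
    (natDegree_C_mul_le _ _).trans hdeg.le, ?_⟩
  · rw [hfun, (H3CAlg.finrank_homogeneous (k := k) n m).2, Submodule.restrictScalars_bot, bot_inf_eq, finrank_bot,
      Nat.cast_zero, sub_zero, Nat.cast_choose_eq_descPochhammer_div]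
    simp only [Q, eval_mul, eval_C, eval_comp, eval_add, eval_X, Nat.cast_add]
    ring
  · rw [coeff_C_mul, show Q.coeff n = 1 by rw [← hdeg]; exact hmon]
    field_simp

theorem eventually_hfun (f : Fin n → 𝕊) (d : Fin n → ℕ) (hf : ∀ i, f i ∈ 𝒜 (d i))
    (hreg : ∀ j : Fin n, (Ideal.span (f '' {i | i < j})).colon {f j} = Ideal.span (f '' {i | i < j})) :
    ∀ l : ℕ, l ≤ n → ∃ P : ℚ[X], IsHilb (Ideal.span (f '' {i : Fin n | (i : ℕ) < l})) P ∧ P.natDegree ≤ n - l ∧
      ((n - l).factorial : ℚ) * P.coeff (n - l) = ∏ i ∈ Finset.univ.filter (fun i : Fin n => (i : ℕ) < l), (d i : ℚ) := by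
  intro l
  induction l with
  | zero =>
    intro _
    obtain ⟨P, hP, hdeg, hc⟩ := exists_hilb_bot (k := k) (n := n)
    refine ⟨P, ?_, hdeg, by simpa using hc⟩
    simpa using hP
  | succ l ih =>
    intro hl
    obtain ⟨P, ⟨m₀, hP⟩, hdeg, hc⟩ := ih (by omega)
    let j : Fin n := ⟨l, hl⟩
    obtain ⟨t, ht⟩ : ∃ t, n - l = t + 1 := ⟨n - l - 1, by omega⟩
    have ht' : n - (l + 1) = t := by omega
    have hI : (Ideal.span (f '' {i : Fin n | (i : ℕ) < l})).IsHomogeneous 𝒜 :=
      Ideal.homogeneous_span _ _ (by rintro _ ⟨i, -, rfl⟩; exact ⟨d i, hf i⟩)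
    have hset : {i : Fin n | (i : ℕ) < l + 1} = insert j {i : Fin n | (i : ℕ) < l} := by
      ext i
      simp only [Set.mem_ofPred_eq, Set.mem_insert_iff, Nat.lt_succ_iff_lt_or_eq, Fin.ext_iff, j]
      tauto
    refine ⟨P - P.comp (X - C (d j : ℚ)), ⟨m₀ + d j, fun m hm => ?_⟩, ?_, ?_⟩
    · obtain ⟨i, rfl⟩ := Nat.exists_eq_add_of_le' (show d j ≤ m by omega)
      rw [hset, Set.image_insert_eq, Ideal.span_insert, sup_comm, hfun_sup_span hI (hf j),
        show (Ideal.span (f '' {i : Fin n | (i : ℕ) < l})).colon {f j} = _ from hreg j,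
        eval_sub, eval_comp, eval_sub, eval_X, eval_C,
        show ((i + d j : ℕ) : ℚ) - (d j : ℚ) = (i : ℚ) by push_cast; ring, hP _ (by omega), hP _ (by omega)]
      rfl
    · rw [ht']; exact H05EGA4.Samuel.natDegree_sub_comp_le (ht ▸ hdeg) _
    · rw [ht', coeff_sub_comp (ht ▸ hdeg)]
      have hins : Finset.univ.filter (fun i : Fin n => (i : ℕ) < l + 1) =
          insert j (Finset.univ.filter fun i : Fin n => (i : ℕ) < l) := by
        ext i
        simp only [Finset.mem_filter, Finset.mem_univ, true_and, Finset.mem_insert, Nat.lt_succ_iff_lt_or_eq,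
          Fin.ext_iff, j]
        tauto
      rw [hins, Finset.prod_insert (by simp [j]), ← hc, ht, Nat.factorial_succ]
      push_cast
      ring

/-- Let k be an algebraically closed field and H_1, …, H_n hypersurfaces in P^n given by homogeneous
polynomials f_1, …, f_n of degrees d_1, …, d_n ≥ 1 in S = k[x_0, …, x_n], meeting in finitely many
points, i.e. S/(f_1, …, f_n) has Krull dimension one. Then the intersection multiplicities of the
H_i at the points of H_1 ∩ ⋯ ∩ H_n add up to d_1 ⋯ d_n; stated here in the form established in the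
proof: the Hilbert function of S/(f_1, …, f_n) is eventually the constant Π d_i, i.e. for all large
m, dim_k S_m − dim_k ((f_1, …, f_n) ∩ S_m) = Π d_i (this constant is the degree of O_{H_1} ⊗ ⋯ ⊗
O_{H_n}, the sum of the lengths of its stalks). -/
theorem result (k : Type u) [Field k] [IsAlgClosed k] (n : ℕ)
    (f : Fin n → MvPolynomial (Fin (n + 1)) k) (d : Fin n → ℕ) (hd : ∀ i, 1 ≤ d i)
    (hf : ∀ i, (f i).IsHomogeneous (d i))
    (hdim : ringKrullDim (MvPolynomial (Fin (n + 1)) k ⧸ Ideal.span (Set.range f)) = 1) :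
    ∃ m₀ : ℕ, ∀ m : ℕ, m₀ ≤ m →
      Module.finrank k ↥(MvPolynomial.homogeneousSubmodule (Fin (n + 1)) k m) -
        Module.finrank k ↥((Ideal.span (Set.range f)).restrictScalars k ⊓ MvPolynomial.homogeneousSubmodule (Fin (n + 1)) k m) =
      ∏ i : Fin n, d i := by
  classical
  have hf' : ∀ i, f i ∈ CohB1.polyGrading n k (d i) := hf
  obtain ⟨P, ⟨m₀, hP⟩, hdeg, hc⟩ := eventually_hfun f d hf'
    (colon_eq_self f d (fun i => hd i) hf' hdim.le) n le_rfl
  have hset : {i : Fin n | (i : ℕ) < n} = Set.univ := by ext i; simp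
  refine ⟨m₀, fun m hm => ?_⟩
  have h := hP m hm
  rw [Nat.sub_self] at hdeg hc
  rw [eq_C_of_natDegree_le_zero hdeg, eval_C, hset, Set.image_univ] at h
  have hfilter : (Finset.univ.filter fun i : Fin n => (i : ℕ) < n) = Finset.univ := by ext i; simp
  rw [Nat.factorial_zero, Nat.cast_one, one_mul, hfilter] at hc
  rw [hc, hfun, ← Nat.cast_prod] at h
  have hle : Module.finrank k ↥((Ideal.span (Set.range f)).restrictScalars k ⊓ MvPolynomial.homogeneousSubmodule (Fin (n + 1)) k m) ≤
      Module.finrank k ↥(MvPolynomial.homogeneousSubmodule (Fin (n + 1)) k m) := by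
    haveI := H11Misc.HilbertDeg.finite_piece (k := k) (n := n) m
    exact Submodule.finrank_mono inf_le_right
  rw [← Nat.cast_sub hle] at h
  exact_mod_cast h.symm

end Groth.Agent.S14440
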