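import Groth.Statements.S14442

set_option autoImplicit false
universe u
open GrNak

namespace Groth.Agent.S14442

/-- Let R be a commutative ℕ-graded ring with irrelevant ideal R_+ = ⊕_{i>0} R_i, M an ℕ-graded R-module
and N a graded submodule of M (closed under taking homogeneous components). If M = R_+ M + N then N
= M. (The published statement is for finitely generated ℤ-graded modules over a graded quotient of a
polynomial ring, whose degrees are then bounded below; stated here for non-negatively graded modules
over any ℕ-graded commutative ring, where the same lowest-degree argument applies without finite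
generation.) -/
theorem result {R : Type u} [CommRing R] {σ : Type u} [SetLike σ R] [AddSubmonoidClass σ R]
    (𝒜 : ℕ → σ) [GradedRing 𝒜]
    {M : Type u} [AddCommGroup M] [Module R M] {τ : Type u} [SetLike τ M] [AddSubmonoidClass τ M]
    (ℳ : ℕ → τ) [DirectSum.Decomposition ℳ] [SetLike.GradedSMul 𝒜 ℳ]
    (N : Submodule R M) (hN : ∀ x ∈ N, ∀ i : ℕ, (DirectSum.decompose ℳ x i : M) ∈ N)
    (h : (HomogeneousIdeal.irrelevant 𝒜).toIdeal • (⊤ : Submodule R M) ⊔ N = ⊤) :
    N = ⊤ := by
  classical
  suffices H : ∀ n, ∀ x ∈ ℳ n, x ∈ N by
    refine top_le_iff.1 fun x _ => ?_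
    rw [← DirectSum.sum_support_decompose ℳ x]
    exact sum_mem fun n _ => H n _ (DirectSum.decompose ℳ x n).2
  intro n
  induction n using Nat.strong_induction_on with
  | _ n ih =>
    intro x hx
    have hx' : x ∈ (HomogeneousIdeal.irrelevant 𝒜).toIdeal • (⊤ : Submodule R M) ⊔ N :=
      h.symm ▸ (trivial : x ∈ (⊤ : Submodule R M))
    obtain ⟨y, hy, z, hz, rfl⟩ := Submodule.mem_sup.1 hx'
    have key : (DirectSum.decompose ℳ y n : M) ∈ N := by
      clear hx hx' hz
      refine Submodule.smul_induction_on hy (fun a ha m _ => ?_) (fun p q hp hq => ?_)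
      · rw [← DirectSum.sum_support_decompose 𝒜 a, ← DirectSum.sum_support_decompose ℳ m,
          Finset.sum_smul, DirectSum.decompose_sum, DFinsupp.finsetSum_apply]
        rw [AddSubmonoidClass.coe_finsetSum]
        refine sum_mem fun i hi => ?_
        rw [Finset.smul_sum, DirectSum.decompose_sum, DFinsupp.finsetSum_apply,
          AddSubmonoidClass.coe_finsetSum]
        refine sum_mem fun j _ => ?_
        have hmem : (DirectSum.decompose 𝒜 a i : R) • (DirectSum.decompose ℳ m j : M) ∈ ℳ (i + j) :=
          SetLike.GradedSMul.smul_mem (DirectSum.decompose 𝒜 a i).2 (DirectSum.decompose ℳ m j).2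
        by_cases hn : i + j = n
        · rw [DirectSum.decompose_of_mem_same ℳ (hn ▸ hmem)]
          rcases Nat.eq_zero_or_pos i with rfl | hi
          · have h0 : (DirectSum.decompose 𝒜 a 0 : R) = 0 := ha
            rw [h0, zero_smul]; exact zero_mem _
          · exact Submodule.smul_mem N _ (ih j (by omega) _ (DirectSum.decompose ℳ m j).2)
        · rw [DirectSum.decompose_of_mem_ne ℳ hmem hn]; exact zero_mem _
      · rw [DirectSum.decompose_add, DirectSum.add_apply, AddMemClass.coe_add]
        exact add_mem hp hq
    rw [← DirectSum.decompose_of_mem_same ℳ hx, DirectSum.decompose_add, DirectSum.add_apply,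
      AddMemClass.coe_add]
    exact add_mem key (hN z hz n)

end Groth.Agent.S14442
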