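import Groth.Statements.S14443
import Groth.Agent.H7Variety.FiberOmegaDim
-- import your own Groth.Agent.* helpers here

set_option autoImplicit false
universe u
open CategoryTheory CategoryTheory.Limits AlgebraicGeometry
attribute [local instance] FixPt.fiberModule
open Variety

namespace Groth.Agent.S14443

/-- Let k be an algebraically closed field, f : X → Y a morphism of k-schemes of finite type, x a closed
point of X and Z an irreducible closed subset of the fibre f⁻¹(f(x)) passing through x, of dimension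
r. Then dim_k (Ω_{X/Y})_(x) ≥ r, where (Ω_{X/Y})_(x) = Ω_{X/Y,x} ⊗ k(x) is the fibre of the sheaf of
relative differentials at x, a vector space over k(x) = k (x is closed and k algebraically closed),
regarded as a k-module through k → O_{X,x}. (The published statement is for varieties, i.e. X and Y
reduced and separated; this row assumes neither. Since X is locally of finite type over a field it
is locally Noetherian, so f is quasi-separated; the argument, T_x Z ⊆ ker(df_x) and dim T_x Z ≥ dim
Z, uses neither reducedness nor separatedness.) -/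
theorem result (k : Type u) [Field k] [IsAlgClosed k]
    {X Y : Scheme.{u}} [X.Over (Spec (CommRingCat.of k))] [Y.Over (Spec (CommRingCat.of k))]
    [LocallyOfFiniteType (X ↘ Spec (CommRingCat.of k))] [QuasiCompact (X ↘ Spec (CommRingCat.of k))]
    [LocallyOfFiniteType (Y ↘ Spec (CommRingCat.of k))] [QuasiCompact (Y ↘ Spec (CommRingCat.of k))]
    (f : X ⟶ Y) (hf : f ≫ (Y ↘ Spec (CommRingCat.of k)) = X ↘ Spec (CommRingCat.of k))
    (x : X) (hx : IsClosed ({x} : Set X)) (Z : Set X) (hZ : IsIrreducible Z) (hZc : IsClosed Z) (hxZ : x ∈ Z)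
    (hZf : Z ⊆ f.base ⁻¹' {f.base x}) (r : ℕ) (hr : topologicalKrullDim ↥Z = (r : WithBot ℕ∞)) :
    r ≤ Module.finrank k (FixPt.fiber (Omega.sheaf f) x) := by
  open TensorProduct in
  let qX := X ↘ Spec (CommRingCat.of k)
  let qY := Y ↘ Spec (CommRingCat.of k)
  haveI : IsLocallyNoetherian X := LocallyOfFiniteType.isLocallyNoetherian qX
  haveI : LocallyOfFiniteType f :=
    haveI : LocallyOfFiniteType (f ≫ qY) := by rw [hf]; infer_instance
    locallyOfFiniteType_of_comp f qY
  obtain ⟨ξ, hξ⟩ : ∃ ξ, IsGenericPoint ξ Z := QuasiSober.sober hZ hZc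
  obtain ⟨U, V, hxU, hU, hV, hle⟩ := H29Omega.exists_affine_chart f x
  have hξx : ξ ⤳ x := hξ.specializes hxZ
  have hξU : ξ ∈ U := hξx.mem_open U.2 hxU
  let A := Γ(X, U); let R := Γ(Y, V)
  letI aRA : Algebra R A := (f.appLE V U hle).hom.toAlgebra
  letI akR : Algebra k R := ((Y.presheaf.map (homOfLE le_top).op).hom.comp (Coh.toGlobal qY)).toAlgebra
  letI akA : Algebra k A := ((X.presheaf.map (homOfLE le_top).op).hom.comp (Coh.toGlobal qX)).toAlgebra
  haveI : IsScalarTower k R A := .of_algebraMap_eq' <| by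
    show _ = (f.appLE V U hle).hom.comp ((Y.presheaf.map (homOfLE le_top).op).hom.comp (Coh.toGlobal qY))
    have h : qX.appTop ≫ X.presheaf.map (homOfLE le_top).op =
        qY.appTop ≫ Y.presheaf.map (homOfLE le_top).op ≫ f.appLE V U hle := by
      rw [Scheme.Hom.map_appLE, Scheme.Hom.appLE, ← Category.assoc]
      simp only [qX, qY, ← hf, Scheme.Hom.comp_appTop, Category.assoc]
      rfl
    ext c
    exact congr($h ((Scheme.ΓSpecIso (CommRingCat.of k)).inv c))
  have hj : hU.fromSpec ≫ qX = Spec.map (CommRingCat.ofHom (algebraMap k A)) := by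
    have h1 : qX = X.toSpecΓ ≫ Spec.map ((Scheme.ΓSpecIso (CommRingCat.of k)).inv ≫ qX.appTop) := by
      rw [Spec.map_comp, ← Scheme.toSpecΓ_naturality_assoc, toSpecΓ_SpecMap_ΓSpecIso_inv, Category.comp_id]
    rw [h1, IsAffineOpen.fromSpec_toSpecΓ_assoc, ← Spec.map_comp]
    rfl
  haveI : Algebra.FiniteType k A := H8Props.FieldDim.finiteType_of_chart qX hU.fromSpec hj
  let P := (hU.primeIdealOf ⟨x, hxU⟩).asIdeal
  let qp := hU.primeIdealOf ⟨ξ, hξU⟩
  let q := qp.asIdeal
  haveI hP : P.IsMaximal := (PrimeSpectrum.isClosed_singleton_iff_isMaximal _).mp <| by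
    have h1 : IsClosed (hU.fromSpec ⁻¹' {x}) := hx.preimage hU.fromSpec.continuous
    have h2 : hU.fromSpec ⁻¹' {x} = {hU.primeIdealOf ⟨x, hxU⟩} := by
      refine Set.ext fun p => ⟨fun hp => hU.fromSpec.isOpenEmbedding.injective
        (Eq.trans hp (hU.fromSpec_primeIdealOf ⟨x, hxU⟩).symm), ?_⟩
      rintro rfl; exact hU.fromSpec_primeIdealOf ⟨x, hxU⟩
    exact h2 ▸ h1
  have hqP : q ≤ P := (PrimeSpectrum.le_iff_specializes qp _).mpr <| by
    refine hU.fromSpec.isOpenEmbedding.isInducing.specializes_iff.mp ?_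
    rw [hU.fromSpec_primeIdealOf, hU.fromSpec_primeIdealOf]; exact hξx
  have hdim : ringKrullDim (A ⧸ q) = (r : WithBot ℕ∞) := by
    have h := H8Props.FieldDim.cdim_eq_chart qX (A := A) hU.fromSpec qp
    rw [hU.fromSpec_primeIdealOf] at h
    rw [← h, ← hr, H8Props.FieldDim.cdim, hξ.def]
  let 𝔪 := P.comap (algebraMap R A)
  have hq𝔪 : q.comap (algebraMap R A) = 𝔪 := by
    have h1 := IsAffineOpen.comap_primeIdealOf_appLE V hV U hU hle hxU (f := f)
    have h2 := IsAffineOpen.comap_primeIdealOf_appLE V hV U hU hle hξU (f := f)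
    have e : f ξ = f x := hZf hξ.mem
    have h1' := congrArg PrimeSpectrum.asIdeal h1
    have h2' := congrArg PrimeSpectrum.asIdeal h2
    refine Eq.trans (h2'.trans ?_) h1'.symm
    congr 3
  let J : Ideal A := 𝔪.map (algebraMap R A)
  have hJq : J ≤ q := Ideal.map_le_iff_le_comap.mpr hq𝔪.ge
  have hJP : J ≤ P := hJq.trans hqP
  let B := A ⧸ J
  let π := Ideal.Quotient.mk J
  haveI : (P.map π).IsPrime := Ideal.isPrime_map_quotientMk_of_isPrime hJP
  haveI : (q.map π).IsPrime := Ideal.isPrime_map_quotientMk_of_isPrime hJq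
  haveI : Algebra.FiniteType k B := Algebra.FiniteType.trans (R := k) (S := A) inferInstance inferInstance
  have h1 := S10902.result k B r (P.map π) (q.map π) (Ideal.map_mono hqP)
    (by rw [ringKrullDim_eq_of_ringEquiv (DoubleQuot.quotQuotEquivQuotOfLE hJq), hdim])
  haveI hPB : (P.map π).IsMaximal := Ideal.IsMaximal.map_of_surjective_of_ker_le Ideal.Quotient.mk_surjective (by rwa [Ideal.mk_ker])
  let κ := (P.map π).ResidueField
  let W := κ ⊗[B] Ω[B⁄k]
  have hkA : Function.Bijective (algebraMap k (A ⧸ P)) := by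
    letI := Ideal.Quotient.field P
    haveI := finite_of_finite_type_of_isJacobsonRing k (A ⧸ P)
    exact IsAlgClosed.algebraMap_bijective_of_isIntegral
  have hκ : Function.Surjective (algebraMap A κ) := by
    rw [IsScalarTower.algebraMap_eq A B κ, RingHom.coe_comp]
    exact (Ideal.bijective_algebraMap_quotient_residueField (P.map π)).2.comp Ideal.Quotient.mk_surjective |>.comp Ideal.Quotient.mk_surjective
  have hκk : Function.Bijective (algebraMap k κ) := by
    refine ⟨(algebraMap k κ).injective, fun z => ?_⟩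
    obtain ⟨a, rfl⟩ := hκ z
    obtain ⟨c, hc⟩ := hkA.2 (Ideal.Quotient.mk P a)
    refine ⟨c, ?_⟩
    rw [IsScalarTower.algebraMap_apply k A κ, IsScalarTower.algebraMap_apply A B κ,
      IsScalarTower.algebraMap_apply A B κ a, ← sub_eq_zero, ← map_sub, ← map_sub,
      Ideal.algebraMap_residueField_eq_zero]
    exact Ideal.mem_map_of_mem _ (Ideal.Quotient.eq.mp hc)
  have hfr : Module.finrank k W = Module.finrank κ W := by
    rw [← Module.finrank_mul_finrank k κ W]
    have : Module.finrank k κ = 1 := by
      rw [← (AlgEquiv.ofBijective (Algebra.ofId k κ) hκk).toLinearEquiv.finrank_eq, Module.finrank_self]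
    rw [this, one_mul]
  have hWP : ∀ a ∈ P, ∀ w : W, a • w = 0 := by
    intro a ha w
    rw [← algebraMap_smul κ a w, IsScalarTower.algebraMap_apply A B κ, Ideal.Quotient.algebraMap_eq,
      Ideal.algebraMap_residueField_eq_zero.mpr (Ideal.mem_map_of_mem _ ha), zero_smul]
  haveI : IsScalarTower R A W := IsScalarTower.of_algebraMap_smul fun t w => by
    rw [← algebraMap_smul κ t w, ← algebraMap_smul κ (algebraMap R A t) w, ← IsScalarTower.algebraMap_apply]
  let toW : B →ₗ[k] W := ((TensorProduct.mk B κ Ω[B⁄k] 1).restrictScalars k).comp (KaehlerDifferential.D k B).toLinearMap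
  have htoW : ∀ b, toW b = (1 : κ) ⊗ₜ[B] KaehlerDifferential.D k B b := fun b => rfl
  have htoW_mul : ∀ a b : A, toW (π (a * b)) = a • toW (π b) + b • toW (π a) := fun a b => by
    simp only [htoW, map_mul, Derivation.leibniz, tmul_add, tmul_smul]
    rw [← algebraMap_smul B a, ← algebraMap_smul B b]
    rfl
  have htoWR : ∀ t : R, toW (π (algebraMap R A t)) = 0 := fun t => by
    obtain ⟨c, hc⟩ := hkA.2 (Ideal.Quotient.mk P (algebraMap R A t))
    have hm : t - algebraMap k R c ∈ 𝔪 := by
      show algebraMap R A (t - algebraMap k R c) ∈ P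
      rw [map_sub, ← IsScalarTower.algebraMap_apply]
      exact Ideal.Quotient.eq.mp hc.symm
    have : π (algebraMap R A t) = algebraMap k B c := by
      rw [← sub_eq_zero, IsScalarTower.algebraMap_apply k A B, IsScalarTower.algebraMap_apply k R A,
        Ideal.Quotient.algebraMap_eq, ← map_sub, ← map_sub, Ideal.Quotient.eq_zero_iff_mem]
      exact Ideal.mem_map_of_mem _ hm
    rw [htoW, this, Derivation.map_algebraMap, tmul_zero]
  let D : Derivation R A W := Derivation.mk'
    { toFun := fun a => toW (π a)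
      map_add' := fun a b => by rw [map_add, map_add]
      map_smul' := fun t a => by
        rw [Algebra.smul_def, htoW_mul, htoWR, smul_zero, add_zero, RingHom.id_apply, algebraMap_smul] }
    htoW_mul
  let L : Ω[A⁄R] →ₗ[A] W := D.liftKaehlerDifferential
  have hL : Function.Surjective L := by
    rw [← LinearMap.range_eq_top, eq_top_iff]
    rintro w -
    induction w using TensorProduct.induction_on with
    | zero => exact zero_mem _
    | add a b ha hb => exact add_mem ha hb
    | tmul z ω =>
      obtain ⟨a, rfl⟩ := hκ z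
      have h2 : algebraMap A κ a ⊗ₜ[B] ω = a • ((1 : κ) ⊗ₜ[B] ω) := by
        rw [smul_tmul', Algebra.algebraMap_eq_smul_one]
      rw [h2]
      clear h2
      refine Submodule.smul_mem _ a ?_
      have hω : ω ∈ Submodule.span B (Set.range (KaehlerDifferential.D k B)) := by
        rw [KaehlerDifferential.span_range_derivation]; trivial
      induction hω using Submodule.span_induction with
      | mem y hy =>
        obtain ⟨b, rfl⟩ := hy
        obtain ⟨b, rfl⟩ := Ideal.Quotient.mk_surjective b
        exact ⟨KaehlerDifferential.D R A b, D.liftKaehlerDifferential_comp_D b⟩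
      | zero => rw [tmul_zero]; exact zero_mem _
      | add y y' _ _ h h' => rw [tmul_add]; exact add_mem h h'
      | smul c y _ h =>
        obtain ⟨c, rfl⟩ := Ideal.Quotient.mk_surjective c
        rw [tmul_smul, ← Ideal.Quotient.algebraMap_eq, algebraMap_smul]
        exact Submodule.smul_mem _ c h
  letI := TopCat.Presheaf.algebra_section_stalk X.presheaf (⟨x, hxU⟩ : U)
  letI := Module.compHom ((Omega.sheaf f).presheaf.stalk x) (algebraMap A (X.presheaf.stalk x))
  haveI : IsScalarTower A (X.presheaf.stalk x) ((Omega.sheaf f).presheaf.stalk x) :=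
    IsScalarTower.of_algebraMap_smul fun _ _ => rfl
  haveI := hU.isLocalization_stalk ⟨x, hxU⟩
  haveI := H29Fitt.isLocalizedModule_germLin (Omega.sheaf f) (H29Omega.isQCoh_sheaf f) hU ⟨x, hxU⟩
  haveI := H29Omega.finite_sections_sheaf f hU hV hle
  haveI := H17.OmegaLocal.isIso_toSect f hU hV hle
  let e : Ω[A⁄R] ≃ₗ[A] Γ(Omega.sheaf f, U) := (asIso (OmAff.toSect f V U hle)).toLinearEquiv
  have h3 := H7Variety.finrank_le_fiber (k := k) (N := Γ(Omega.sheaf f, U)) (W := W) P
    (fun z => (hkA.2 z).imp fun _ h => h) (H29Fitt.germLin (Omega.sheaf f) ⟨x, hxU⟩) hWP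
    (L.comp e.symm.toLinearMap) (hL.comp e.symm.surjective) (Curv2.stalkMap k X x) (by
      ext c
      exact ((X.presheaf.germ_res_apply (homOfLE le_top) x hxU _)).symm)
  rw [hfr] at h3
  exact h1.trans h3

end Groth.Agent.S14443
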