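import Groth.Statements.S14445
import Groth.Agent.H18Torsor.Glue

set_option autoImplicit false
universe u
open NonAbH1

namespace Groth.Agent.S14445

open CategoryTheory MonoidalCategory CartesianMonoidalCategory AlgebraicGeometry in
/-- Let S be a scheme, G a group scheme over S and X an S-scheme with an action of G. Then X is a
G-torsor for the fpqc topology — the morphism G ×_S X → X ×_S X, (g, x) ↦ (gx, x), is an isomorphism
and X → S acquires sections over the members of some fpqc covering family of S — if and only if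
there are an fpqc covering family of S and, for each member S' → S, an S-morphism s : S' → X for
which the G-equivariant S'-morphism G ×_S S' → X ×_S S', (g, t) ↦ (g·s(t), t), is an isomorphism; in
words, X becomes equivariantly isomorphic to the trivial torsor over each member of the covering.
(The published statement is set in any subcanonical site with fibre products, for an invariant arrow
X → Y; this row is its instance for schemes over S with the fpqc topology and Y = S.) -/
theorem result {S : Scheme.{u}} {G X : Over S} [GrpObj G]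
    (a : AlgGrp.Action G X) :
    NonAbH1.IsTorsorFor Scheme.fpqcPrecoverage a ↔
      ∃ R ∈ Scheme.fpqcPrecoverage S, ∀ ⦃S' : Scheme.{u}⦄ (f : S' ⟶ S), R f →
        ∃ s : Over.mk f ⟶ X, IsIso (lift ((G ◁ s) ≫ a.act) (snd G (Over.mk f))) := by
  open CartesianMonoidalCategory MonoidalCategory MonObj GrpObj in
  constructor
  · rintro ⟨hps, R, hR, hsec⟩
    refine ⟨R, hR, fun S' f hf => ?_⟩
    obtain ⟨s, hs⟩ := hsec f hf
    refine ⟨Over.homMk s hs, ?_⟩
    have e : lift ((G ◁ Over.homMk s hs) ≫ a.act) (snd G (Over.mk f)) =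
        (H18Torsor.trivIso a hps (Over.homMk s hs : Over.mk f ⟶ X)).hom := by
      simp only [H18Torsor.trivIso]
      congr 2
    rw [e]
    infer_instance
  · rintro ⟨R, hR, hloc⟩
    refine ⟨?_, R, hR, fun S' f hf => ⟨(hloc f hf).choose.left, Over.w _⟩⟩
    refine H18Torsor.isIso_of_bijective R hR (lift a.act (snd G X)) fun W hW => ?_
    obtain ⟨S', k, m, hm, hk⟩ := hW
    obtain ⟨s, hs⟩ := hloc m hm
    let u : W ⟶ Over.mk m := Over.homMk k hk
    haveI := hs
    have hb : ∀ x : W ⟶ X, ∃! g : W ⟶ G, H18Torsor.smul a g (u ≫ s) = x := by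
      intro x
      let ψ := inv (lift ((G ◁ s) ≫ a.act) (snd G (Over.mk m)))
      have e1 : ψ ≫ snd G (Over.mk m) = snd X (Over.mk m) := by
        simp only [ψ, IsIso.inv_comp_eq, lift_snd]
      have e2 : ψ ≫ (G ◁ s) ≫ a.act = fst X (Over.mk m) := by
        simp only [ψ, IsIso.inv_comp_eq, lift_fst]
      refine ⟨lift x u ≫ ψ ≫ fst G (Over.mk m), ?_, fun g hg => ?_⟩
      · show lift _ (u ≫ s) ≫ a.act = x
        have e : lift (lift x u ≫ ψ ≫ fst G (Over.mk m)) (u ≫ s) = lift x u ≫ ψ ≫ (G ◁ s) := by
          apply CartesianMonoidalCategory.hom_ext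
          · simp
          · simp [reassoc_of% e1]
        rw [e, Category.assoc, Category.assoc, e2, lift_fst]
      · have e : lift g u ≫ lift ((G ◁ s) ≫ a.act) (snd G (Over.mk m)) = lift x u := by
          rw [comp_lift, lift_snd, ← Category.assoc]
          congr 1
          rw [← hg, H18Torsor.smul]
          congr 1
          apply CartesianMonoidalCategory.hom_ext <;> simp
        refine ((congrArg (· ≫ ψ ≫ fst G (Over.mk m)) e.symm).trans ?_).symm
        rw [Category.assoc, IsIso.hom_inv_id_assoc, lift_fst]
    have hpt : ∀ z : W ⟶ G ⊗ X, z ≫ lift a.act (snd G X) = lift (H18Torsor.smul a (z ≫ fst G X) (z ≫ snd G X)) (z ≫ snd G X) := by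
      intro z
      rw [comp_lift, H18Torsor.smul]
      congr 2
      apply CartesianMonoidalCategory.hom_ext <;> simp
    refine ⟨fun z₁ z₂ e => ?_, fun z => ?_⟩
    · simp only [hpt] at e
      have e1 := congrArg (· ≫ fst X X) e
      have e2 := congrArg (· ≫ snd X X) e
      simp only [lift_fst, lift_snd] at e1 e2
      apply CartesianMonoidalCategory.hom_ext _ _ ?_ e2
      obtain ⟨b, hb1, -⟩ := hb (z₁ ≫ snd G X)
      rw [← e2, ← hb1, ← H18Torsor.mul_smul_pt, ← H18Torsor.mul_smul_pt] at e1
      exact mul_right_cancel ((hb _).unique e1 rfl)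
    · obtain ⟨b, hb1, -⟩ := hb (z ≫ snd X X)
      obtain ⟨c, hc1, -⟩ := hb (z ≫ fst X X)
      refine ⟨lift (c * b⁻¹) (z ≫ snd X X), ?_⟩
      dsimp only
      rw [hpt, lift_fst, lift_snd]
      have e : H18Torsor.smul a (c * b⁻¹) (z ≫ snd X X) = z ≫ fst X X := by
        rw [← hb1, ← H18Torsor.mul_smul_pt, inv_mul_cancel_right, hc1]
      rw [e]
      apply CartesianMonoidalCategory.hom_ext <;> simp

end Groth.Agent.S14445
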