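import Groth.Statements.S14447
import Mathlib

set_option autoImplicit false
set_option linter.style.haveILetI false
set_option backward.isDefEq.respectTransparency false
universe w v u
open AlgGrp

namespace Groth.Agent.S14447

open CategoryTheory CategoryTheory.Limits in
theorem isIso_prodComparison {C : Type u} [Category.{v} C] [HasFiniteProducts C] [HasCoproducts.{w} C]
    (h : ∀ (I : Type w) (U : C), IsIso (Sigma.desc fun i : I =>
      prod.lift (terminal.from U ≫ Sigma.ι (fun _ : I => ⊤_ C) i) (𝟙 U))) (X Y : Type w) :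
    IsIso (prodComparison (sigmaConst.{w}.obj (⊤_ C)) X Y) := by
  let F := sigmaConst.{w}.obj (⊤_ C)
  let U := F.obj Y
  let Φ := Sigma.desc fun i : X => prod.lift (terminal.from U ≫ Sigma.ι (fun _ : X => ⊤_ C) i) (𝟙 U)
  haveI : IsIso Φ := h X U
  let Ψ : (∐ fun _ : X => U) ⟶ F.obj (X ⨯ Y) := Sigma.desc fun i : X => Sigma.desc fun j : Y =>
    Sigma.ι (fun _ : (X ⨯ Y) => ⊤_ C) ((Types.binaryProductIso X Y).inv (i, j))
  have hfst : ∀ p, Sigma.ι (fun _ : (X ⨯ Y) => ⊤_ C) p ≫ F.map prod.fst =
      Sigma.ι (fun _ : X => ⊤_ C) ((prod.fst : X ⨯ Y ⟶ X) p) := fun p => by simp [F]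
  have hsnd : ∀ p, Sigma.ι (fun _ : (X ⨯ Y) => ⊤_ C) p ≫ F.map prod.snd =
      Sigma.ι (fun _ : Y => ⊤_ C) ((prod.snd : X ⨯ Y ⟶ Y) p) := fun p => by simp [F]
  have key : ∀ (i : X) (j : Y) p, (prod.fst : X ⨯ Y ⟶ X) p = i → (prod.snd : X ⨯ Y ⟶ Y) p = j →
      Sigma.ι (fun _ : (X ⨯ Y) => ⊤_ C) p ≫ prodComparison F X Y =
        Sigma.ι (fun _ : Y => ⊤_ C) j ≫ Sigma.ι (fun _ : X => U) i ≫ Φ := by
    rintro i j p rfl rfl
    apply prod.hom_ext
    · simp only [Category.assoc, prodComparison_fst, hfst, Φ, Sigma.ι_desc]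
      erw [prod.lift_fst, ← Category.assoc, Subsingleton.elim (Sigma.ι (fun _ : Y => ⊤_ C) _ ≫ terminal.from U) (𝟙 (⊤_ C)),
        Category.id_comp]
    · simp only [Category.assoc, prodComparison_snd, hsnd, Φ, Sigma.ι_desc]
      erw [prod.lift_snd]
      exact (Category.comp_id _).symm
  refine ⟨inv Φ ≫ Ψ, ?_, ?_⟩
  · refine Sigma.hom_ext _ _ fun p => ?_
    rw [← Category.assoc, key _ _ p rfl rfl]
    simp only [Category.assoc, IsIso.hom_inv_id_assoc]
    erw [Sigma.ι_desc, Sigma.ι_desc, Category.comp_id]
    congr 1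
    apply (Types.binaryProductIso X Y).toEquiv.injective
    apply Prod.ext <;> simp
  · rw [Category.assoc, IsIso.inv_comp_eq, Category.comp_id]
    refine Sigma.hom_ext _ _ fun i => Sigma.hom_ext _ _ fun j => ?_
    simp only [Ψ, ← Category.assoc]
    rw [Category.assoc (Sigma.ι (fun _ : Y => ⊤_ C) j) (Sigma.ι (fun _ : X => U) i)]
    erw [Sigma.ι_desc, Sigma.ι_desc]
    rw [key i j]
    · simp only [Category.assoc]
    · simp
    · simp


open CategoryTheory CategoryTheory.Limits in
/-- Let C be a category with finite products and with all coproducts indexed by sets, and assume that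
for every set I and every object U the canonical arrow ∐_{i∈I} U → (∐_{i∈I} pt) × U, whose i-th
component pairs U → pt → ∐_{i∈I} pt (i-th coprojection) with the identity of U, is an isomorphism.
Then the discrete-object functor from sets to C, I ↦ ∐_{i∈I} pt, preserves finite products. (Sets
are the types of one fixed universe, the one indexing the coproducts. The published statement asks
only for the coproducts of copies of one object; this row assumes that C has all coproducts indexed
by sets, which Mathlib's discrete-object functor sigmaConst requires.) -/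
theorem result {C : Type u} [Category.{v} C]
    [HasFiniteProducts C] [HasCoproducts.{w} C]
    (h : ∀ (I : Type w) (U : C), IsIso (Sigma.desc fun i : I =>
      prod.lift (terminal.from U ≫ Sigma.ι (fun _ : I => ⊤_ C) i) (𝟙 U))) :
    PreservesFiniteProducts (sigmaConst.{w}.obj (⊤_ C)) := by
  let F := sigmaConst.{w}.obj (⊤_ C)
  haveI : PreservesLimit (Functor.empty.{0} (Type w)) F := by
    let e : F.obj PUnit.{w+1} ≅ ⊤_ C :=
      { hom := terminal.from _
        inv := Sigma.ι (fun _ : PUnit.{w+1} => ⊤_ C) PUnit.unit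
        hom_inv_id := Sigma.hom_ext _ _ fun p => by
          erw [← Category.assoc, Subsingleton.elim (Sigma.ι (fun _ : PUnit.{w+1} => ⊤_ C) p ≫ terminal.from (F.obj PUnit.{w+1})) (𝟙 (⊤_ C))]
          · exact (Category.id_comp _).trans (Category.comp_id _).symm
        inv_hom_id := Subsingleton.elim _ _ }
    exact preservesTerminal_of_iso _ (F.mapIso Types.terminalIso ≪≫ e)
  haveI : PreservesLimitsOfShape (Discrete.{0} PEmpty) F :=
    preservesLimitsOfShape_pempty_of_preservesTerminal F
  haveI : PreservesLimitsOfShape (Discrete WalkingPair) F := ⟨fun {K} => by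
    haveI := isIso_prodComparison h (K.obj ⟨WalkingPair.left⟩) (K.obj ⟨WalkingPair.right⟩)
    haveI : PreservesLimit (pair (K.obj ⟨WalkingPair.left⟩) (K.obj ⟨WalkingPair.right⟩)) F :=
      PreservesLimitPair.of_iso_prod_comparison F _ _
    exact preservesLimit_of_iso_diagram F (diagramIsoPair K).symm⟩
  exact PreservesFiniteProducts.of_preserves_binary_and_terminal F

end Groth.Agent.S14447
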