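import Groth.Statements.S14448
import Groth.Agent.LeadFF.Geom
import Groth.Agent.H17.PullSectLocal
import Groth.Agent.H10Coh.FlatBC.Sheaf
import Groth.Agent.H11Tilde.ProjUP

set_option autoImplicit false
universe u
open Coherent

namespace Groth.Agent.S14448

open AlgebraicGeometry CategoryTheory Scheme.Modules in
/-- Take two commutative squares of schemes side by side, f : X → Y over φ : U → V (vertical maps ξ : X
→ U and η : Y → V, f ≫ η = ξ ≫ φ) and g : Y → Z over ψ : V → W (vertical map ζ : Z → W, g ≫ ζ = η ≫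
ψ), and an O_Z-module L. For a commutative square the base change map β_{f,φ}(M) : φ^* η_* M → ξ_*
f^* M is the adjoint of η_*(unit) : η_* M → η_* f_* f^* M = φ_* ξ_* f^* M, and α denotes the
composition isomorphisms of module pullbacks. Then the composite of α_{φ,ψ}(ζ_* L) : φ^* ψ^* ζ_* L →
(φ ≫ ψ)^* ζ_* L with β_{f ≫ g, φ ≫ ψ}(L) equals the composite of φ^* β_{g,ψ}(L), β_{f,φ}(g^* L) and
ξ_* α_{f,g}(L), as maps φ^* ψ^* ζ_* L → ξ_* (f ≫ g)^* L. No cartesian or finiteness hypothesis is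
made; the outer square is used through any proof hw of its commutativity. -/
theorem result {X Y Z U V W : Scheme.{u}} (f : X ⟶ Y) (g : Y ⟶ Z)
    (ξ : X ⟶ U) (η : Y ⟶ V) (ζ : Z ⟶ W) (φ : U ⟶ V) (ψ : V ⟶ W)
    (h₁ : f ≫ η = ξ ≫ φ) (h₂ : g ≫ ζ = η ≫ ψ) (hw : (f ≫ g) ≫ ζ = ξ ≫ (φ ≫ ψ)) (L : Z.Modules) :
    (pullbackComp φ ψ).hom.app ((pushforward ζ).obj L) ≫
        (((pullbackPushforwardAdjunction (φ ≫ ψ)).homEquiv ((pushforward ζ).obj L)
            ((pushforward ξ).obj ((pullback (f ≫ g)).obj L))).symm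
          ((pushforward ζ).map ((pullbackPushforwardAdjunction (f ≫ g)).unit.app L) ≫
            (pushforwardComp (f ≫ g) ζ).hom.app ((pullback (f ≫ g)).obj L) ≫
            (pushforwardCongr hw).hom.app ((pullback (f ≫ g)).obj L) ≫
            (pushforwardComp ξ (φ ≫ ψ)).inv.app ((pullback (f ≫ g)).obj L))) =
      (pullback φ).map (((pullbackPushforwardAdjunction ψ).homEquiv ((pushforward ζ).obj L)
            ((pushforward η).obj ((pullback g).obj L))).symm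
          ((pushforward ζ).map ((pullbackPushforwardAdjunction g).unit.app L) ≫
            (pushforwardComp g ζ).hom.app ((pullback g).obj L) ≫
            (pushforwardCongr h₂).hom.app ((pullback g).obj L) ≫
            (pushforwardComp η ψ).inv.app ((pullback g).obj L))) ≫
        (((pullbackPushforwardAdjunction φ).homEquiv ((pushforward η).obj ((pullback g).obj L))
            ((pushforward ξ).obj ((pullback f).obj ((pullback g).obj L)))).symm
          ((pushforward η).map ((pullbackPushforwardAdjunction f).unit.app ((pullback g).obj L)) ≫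
            (pushforwardComp f η).hom.app ((pullback f).obj ((pullback g).obj L)) ≫
            (pushforwardCongr h₁).hom.app ((pullback f).obj ((pullback g).obj L)) ≫
            (pushforwardComp ξ φ).inv.app ((pullback f).obj ((pullback g).obj L)))) ≫
        (pushforward ξ).map ((pullbackComp f g).hom.app L) := by
  apply ((pullbackPushforwardAdjunction φ).homEquiv _ _).injective
  apply ((pullbackPushforwardAdjunction ψ).homEquiv _ _).injective
  refine Groth.Agent.LeadFF.hom_ext_affine _ _ fun O _ s => ?_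
  have key : ∀ {A B : Scheme.{u}} (t : A ⟶ B) {N : B.Modules} {N' : A.Modules}
      (τ : N ⟶ (pushforward t).obj N') (O : B.Opens) (m : Γ(N, O)),
      (((pullbackPushforwardAdjunction t).homEquiv N N').symm τ).app (t ⁻¹ᵁ O) (OmegaSh.pullSect t N O m) =
        τ.app O m := by
    intro A B t N N' τ O m
    have h := ((pullbackPushforwardAdjunction t).homEquiv_unit N N'
      (((pullbackPushforwardAdjunction t).homEquiv N N').symm τ)).symm.trans (Equiv.apply_symm_apply _ τ)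
    exact congr($(congrArg (fun k => Hom.app k O) h) m)
  have hτ : ∀ {A B C D : Scheme.{u}} (a : A ⟶ B) (c : B ⟶ D) (e : A ⟶ C) (t : C ⟶ D) (hc : a ≫ c = e ≫ t)
      (M : B.Modules) (O : D.Opens) (m : Γ((pushforward c).obj M, O)),
      ((pushforward c).map ((pullbackPushforwardAdjunction a).unit.app M) ≫
        (pushforwardComp a c).hom.app ((pullback a).obj M) ≫
        (pushforwardCongr hc).hom.app ((pullback a).obj M) ≫
        (pushforwardComp e t).inv.app ((pullback a).obj M)).app O m =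
      Groth.Agent.H10Coh.rs ((pullback a).obj M) (V := e ⁻¹ᵁ (t ⁻¹ᵁ O)) (U := a ⁻¹ᵁ (c ⁻¹ᵁ O))
        (show (e ≫ t) ⁻¹ᵁ O ≤ (a ≫ c) ⁻¹ᵁ O from hc ▸ le_rfl) (OmegaSh.pullSect a M (c ⁻¹ᵁ O) m) := by
    intro A B C D a c e t hc M O m
    simp only [Hom.comp_app, pushforwardComp_hom_app_app, pushforwardComp_inv_app_app,
      Groth.Agent.H10Coh.pushforwardCongr_hom_app_app, pushforward_map_app]
    rfl
  let N := (pushforward ζ).obj L
  show (((pullbackPushforwardAdjunction (φ ≫ ψ)).homEquiv _ _).symm _).app ((φ ≫ ψ) ⁻¹ᵁ O)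
      (((pullbackComp φ ψ).hom.app N).app (φ ⁻¹ᵁ (ψ ⁻¹ᵁ O))
        (OmegaSh.pullSect φ ((pullback ψ).obj N) (ψ ⁻¹ᵁ O) (OmegaSh.pullSect ψ N O s))) =
    ((pushforward ξ).map ((pullbackComp f g).hom.app L)).app (φ ⁻¹ᵁ (ψ ⁻¹ᵁ O))
      ((((pullbackPushforwardAdjunction φ).homEquiv _ _).symm _).app (φ ⁻¹ᵁ (ψ ⁻¹ᵁ O))
        (((pullback φ).map _).app (φ ⁻¹ᵁ (ψ ⁻¹ᵁ O))
          (OmegaSh.pullSect φ ((pullback ψ).obj N) (ψ ⁻¹ᵁ O) (OmegaSh.pullSect ψ N O s))))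
  have e1 : ((pullbackComp φ ψ).hom.app N).app (φ ⁻¹ᵁ (ψ ⁻¹ᵁ O))
      (OmegaSh.pullSect φ ((pullback ψ).obj N) (ψ ⁻¹ᵁ O) (OmegaSh.pullSect ψ N O s)) =
      OmegaSh.pullSect (φ ≫ ψ) N O s := by
    rw [← Groth.Agent.H17.PullSect.pullSect_comp φ ψ N O]
    exact congr($(congrArg (fun k => Hom.app k ((φ ≫ ψ) ⁻¹ᵁ O)) ((pullbackComp φ ψ).inv_hom_id_app N)) _)
  refine ((congrArg _ e1).trans ((key (φ ≫ ψ) _ O s).trans (hτ (f ≫ g) ζ ξ (φ ≫ ψ) hw L O s))).trans ?_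
  refine Eq.trans ?_ (congrArg (fun z => ((pushforward ξ).map ((pullbackComp f g).hom.app L)).app (φ ⁻¹ᵁ (ψ ⁻¹ᵁ O))
    ((((pullbackPushforwardAdjunction φ).homEquiv _ _).symm _).app (φ ⁻¹ᵁ (ψ ⁻¹ᵁ O)) z))
    ((Groth.Agent.H17.PullSect.pullSect_natural φ _ (ψ ⁻¹ᵁ O) _).symm.trans
      (congrArg (OmegaSh.pullSect φ _ (ψ ⁻¹ᵁ O)) ((key ψ _ O s).trans (hτ g ζ η ψ h₂ L O s))))).symm
  refine Eq.trans ?_ (congrArg (((pushforward ξ).map ((pullbackComp f g).hom.app L)).app (φ ⁻¹ᵁ (ψ ⁻¹ᵁ O)))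
    ((key φ _ (ψ ⁻¹ᵁ O) _).trans (hτ f η ξ φ h₁ _ (ψ ⁻¹ᵁ O) _))).symm
  have e2 : ((pullbackComp f g).hom.app L).app (f ⁻¹ᵁ (g ⁻¹ᵁ (ζ ⁻¹ᵁ O)))
      (OmegaSh.pullSect f ((pullback g).obj L) (g ⁻¹ᵁ (ζ ⁻¹ᵁ O)) (OmegaSh.pullSect g L (ζ ⁻¹ᵁ O) s)) =
      OmegaSh.pullSect (f ≫ g) L (ζ ⁻¹ᵁ O) s := by
    rw [← Groth.Agent.H17.PullSect.pullSect_comp f g L (ζ ⁻¹ᵁ O)]
    exact congr($(congrArg (fun k => Hom.app k ((f ≫ g) ⁻¹ᵁ (ζ ⁻¹ᵁ O))) ((pullbackComp f g).inv_hom_id_app L)) _)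
  have hle : η ⁻¹ᵁ (ψ ⁻¹ᵁ O) ≤ g ⁻¹ᵁ (ζ ⁻¹ᵁ O) := show (η ≫ ψ) ⁻¹ᵁ O ≤ (g ≫ ζ) ⁻¹ᵁ O from h₂ ▸ le_rfl
  symm
  refine (congrArg (fun z => ((pullbackComp f g).hom.app L).app (ξ ⁻¹ᵁ (φ ⁻¹ᵁ (ψ ⁻¹ᵁ O))) (Groth.Agent.H10Coh.rs _ _ z))
    (Groth.Agent.H11Tilde.pullSect_res f ((pullback g).obj L) hle (OmegaSh.pullSect g L (ζ ⁻¹ᵁ O) s))).trans ?_
  refine (congrArg _ (Groth.Agent.H10Coh.rs_rs _ _ _ _)).trans ?_
  refine (Groth.Agent.H10Coh.app_rs ((pullbackComp f g).hom.app L) _ _).trans ?_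
  exact congrArg _ e2

end Groth.Agent.S14448
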