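import Groth.Statements.S14449
import Groth.Agent.H18Site.Recollement
import Groth.Agent.H18Et.PushClosed
import Groth.Agent.H18Et.PushImmersion
import Groth.Agent.H18Et.StalkSets

set_option autoImplicit false
universe u
open CategoryTheory CategoryTheory.Limits AlgebraicGeometry
open EtCore

namespace Groth.Agent.S14449

/-- Let X be a scheme, i : Z ⟶ X a closed immersion and j : U ⟶ X an open immersion whose image is the
complement of the image of i. Then the functor from abelian sheaves on the small étale site of X to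
the category of triples (G on Z, H on U, φ : G ⟶ i⁻¹ j_* H), sending F to (i⁻¹ F, j⁻¹ F, i⁻¹ of the
unit F ⟶ j_* j⁻¹ F), is an equivalence of categories. The category of triples is the comma category
of the identity functor of Ab(Z) over j_* ⋙ i⁻¹. -/
theorem result {X Z U : Scheme.{u}}
    (i : Z ⟶ X) [IsClosedImmersion i] (j : U ⟶ X) [IsOpenImmersion j]
    (hZU : Set.range j.base = (Set.range i.base)ᶜ) :
    (EtCore.recollTriple i j).IsEquivalence := by
  haveI := Groth.Agent.H18Et.pull_preservesFiniteLimits i
  haveI := Groth.Agent.H18Et.pull_preservesFiniteLimits j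
  have hci := Groth.Agent.H18Et.isIso_counit_of_liftsEtaleUniv
    (Groth.Agent.H18Et.liftsEtaleUniv_of_isClosedImmersion i)
  have hcj := Groth.Agent.H18Et.isIso_counit_of_liftsEtaleUniv
    (Groth.Agent.H18Et.liftsEtaleUniv_of_isOpenImmersion j)
  have hz : ∀ {G G' : EtCoh.Ab Z} (f : G ⟶ G'),
      IsIso ((EtCoh.pull j).map ((EtCoh.push i).map f)) := by
    intro G G' f
    refine (Groth.Agent.H18Et.isIso_iff_stalk _).2 fun Ω _ _ ζ => ?_
    refine (Groth.Agent.H18Et.pull_map_stalk_iff _ j (MorphismProperty.isomorphisms _) ζ).2 ?_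
    have hn : (ζ ≫ j).base default ∉ Set.range i.base := by
      have : (ζ ≫ j).base default ∈ Set.range j.base := ⟨_, rfl⟩
      rw [hZU] at this
      exact this
    haveI := Groth.Agent.H18Et.subsingleton_stalk_push i i.isClosedEmbedding.isClosed_range G _ hn
    haveI := Groth.Agent.H18Et.subsingleton_stalk_push i i.isClosedEmbedding.isClosed_range G' _ hn
    change IsIso _
    rw [ConcreteCategory.isIso_iff_bijective]
    exact ⟨fun _ _ _ => Subsingleton.elim _ _, fun y => ⟨0, Subsingleton.elim _ _⟩⟩
  refine H18Site.Recollement.isEquivalence_triple (EtCoh.pullPushAdj i) (EtCoh.pullPushAdj j)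
    hci hcj (fun f => hz f) (fun {F F'} f h₁ h₂ => ?_)
  refine Groth.Agent.H18Et.isIso_of_stalk f fun x => ?_
  by_cases hx : x ∈ Set.range i.base
  · obtain ⟨z, rfl⟩ := hx
    refine ⟨_, _, inferInstance, Groth.Agent.H18Et.geomPt z ≫ i, Groth.Agent.H18Et.geomPt_comp_base i z, ?_⟩
    exact (ConcreteCategory.isIso_iff_bijective _).1
      ((Groth.Agent.H18Et.pull_map_stalk_iff f i (MorphismProperty.isomorphisms _) _).1
        ((Groth.Agent.H18Et.isIso_iff_stalk _).1 h₁ _ _))
  · have hx' : x ∈ Set.range j.base := by rw [hZU]; exact hx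
    obtain ⟨v, rfl⟩ := hx'
    refine ⟨_, _, inferInstance, Groth.Agent.H18Et.geomPt v ≫ j, Groth.Agent.H18Et.geomPt_comp_base j v, ?_⟩
    exact (ConcreteCategory.isIso_iff_bijective _).1
      ((Groth.Agent.H18Et.pull_map_stalk_iff f j (MorphismProperty.isomorphisms _) _).1
        ((Groth.Agent.H18Et.isIso_iff_stalk _).1 h₂ _ _))

end Groth.Agent.S14449
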