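import Groth.Statements.S14452
import Groth.Agent.H18Et.Doubling
import Groth.Agent.H18Et.InjectiveRestrict

set_option autoImplicit false
universe u
open CategoryTheory CategoryTheory.Limits AlgebraicGeometry Opposite
open EtCore

namespace Groth.Agent.S14452

/-- Let X be a scheme and F an abelian sheaf on the small étale site of X such that H^q(W, F|_W) = 0 for
every étale X-scheme W and every q > 0 (F|_W the pullback of F along the structure morphism of W).
Then for every morphism g : V ⟶ U of étale X-schemes which is an open immersion, the restriction map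
F(U) → F(V) is surjective. -/
theorem result {X : Scheme.{u}}
    (F : EtCoh.Ab X)
    (hF : ∀ (W : X.Etale) (q : ℕ), 0 < q → Subsingleton (EtCoh.H W.left ((EtCoh.pull W.hom).obj F) q))
    {U V : X.Etale} (g : V ⟶ U) [IsOpenImmersion g.left] :
    Function.Surjective (F.obj.map g.op).hom := by
  let S : ShortComplex (EtCoh.Ab X) := ShortComplex.mk (Injective.ι F) (cokernel.π _) (cokernel.condition _)
  haveI : Mono S.f := inferInstanceAs (Mono (Injective.ι F))
  haveI : Epi S.g := inferInstanceAs (Epi (cokernel.π (Injective.ι F)))
  haveI : Injective S.X₂ := inferInstanceAs (Injective (Injective.under F))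
  have hS : S.ShortExact := ShortComplex.ShortExact.mk' (ShortComplex.exact_of_g_is_cokernel _ (cokernelIsCokernel _)) inferInstance inferInstance
  haveI : Mono g := ⟨fun a b h => MorphismProperty.Over.Hom.ext
    ((cancel_mono g.left).1 (congrArg (fun t => t.left) h))⟩
  have hev : ∀ W : X.Etale, (S.map (sheafToPresheaf _ _ ⋙ (evaluation _ _).obj (op W))).Exact ∧
      Mono ((sheafToPresheaf _ _ ⋙ (evaluation X.Etaleᵒᵖ AddCommGrpCat.{u + 1}).obj (op W)).map S.f) := fun W => by
    let G := sheafToPresheaf X.smallEtaleTopology AddCommGrpCat.{u + 1} ⋙ (evaluation X.Etaleᵒᵖ AddCommGrpCat.{u + 1}).obj (op W)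
    haveI : PreservesFiniteLimits G := comp_preservesFiniteLimits _ _
    haveI : G.Additive := Functor.additive_of_preserves_binary_products G
    have h30 : PreservesFiniteLimits G ↔ ∀ (T : ShortComplex (EtCoh.Ab X)), T.ShortExact → (T.map G).Exact ∧ Mono (G.map T.f) :=
      (Functor.preservesFiniteLimits_tfae G).out 3 0
    exact h30.1 ‹_› S hS
  refine H18Et.Doubling.surjective_restrict g F S hS rfl (H18Et.surjective_map_of_injective _ g) ?_
    (fun W => (AddCommGrpCat.mono_iff_injective _).1 (hev W).2) (fun W a ha => (ShortComplex.ab_exact_iff _).1 (hev W).1 a ha)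
  exact hF ((H18Et.EtaleRestrict.emap (H18Et.Doubling.q g)).obj (EtCoh.top _)) 1 one_pos |>
    fun h => by
      have e : ((H18Et.EtaleRestrict.emap (H18Et.Doubling.q g)).obj (EtCoh.top _)).hom = H18Et.Doubling.q g :=
        Category.id_comp _
      rw [e] at h
      exact h

end Groth.Agent.S14452
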