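import Groth.Statements.S3142
import Groth.Agent.H05EGA4.EtTate
import Groth.Agent.H23Geom.DepthLocal
import Groth.Agent.S5189

set_option autoImplicit false
universe u
open CategoryTheory CategoryTheory.Limits AlgebraicGeometry Opposite
open EtDual

namespace Groth.Agent.S3142.Aux

open scoped Groth.Agent.H18Et

set_option backward.isDefEq.respectTransparency false
set_option backward.isDefEq.respectTransparency.types false

theorem isZero_of_zero_isUnit {X : Scheme.{u}} (h : IsUnit (0 : Γ(X, ⊤))) (F : EtCoh.Ab X) : IsZero F := by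
  refine (H18Et.isZero_iff_stalk F).2 fun Ω _ _ ξ => ?_
  exfalso
  have h0 := h.map ξ.appTop.hom
  rw [map_zero] at h0
  have h1 := h0.map (Scheme.ΓSpecIso (CommRingCat.of Ω)).hom.hom
  rw [map_zero] at h1
  exact not_isUnit_zero h1

theorem main {X U : Scheme.{u}} (j : U ⟶ X) [IsOpenImmersion j] (n : ℕ) (hn : IsUnit (n : Γ(X, ⊤))) (m c : ℕ)
    (h : EtDepth.DepthGE j (EtCoh.const X (ZMod n)) m) :
    Nonempty ((EtDual.HY j m).obj (EtDual.tate X n c) ≅
      ((EtDual.locCoh j m).obj (EtDual.tate X n c)).obj.obj (op (EtCoh.top X))) := by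
  have hd : EtDepth.DepthGE j (EtDual.tate X n c) m := by
    rcases Nat.eq_zero_or_pos n with rfl | hpos
    · intro p _
      exact isZero_of_zero_isUnit (by simpa using hn) _
    haveI : NeZero n := ⟨hpos.ne'⟩
    obtain ⟨ι, V, hV, e⟩ := H05EGA4.EtTate.exists_cover_tate (n := n) hn c
    refine H23Geom.DepthLocal.depthGE_of_covers j V hV m _ fun i => ?_
    haveI : Etale (V i).hom := (V i).prop
    exact H23Geom.DepthLocal.depthGE_of_iso _ (e i).some.symm (H23Geom.DepthLocal.depthGE_pull j (V i).hom m _ h)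
  haveI := S5189.result j (EtDual.tate X n c) m hd
  exact ⟨asIso (RDer.edgeOut (EtDual.secSupp j) (sheafToPresheaf X.smallEtaleTopology AddCommGrpCat.{u+1} ⋙
    (evaluation X.Etaleᵒᵖ AddCommGrpCat.{u+1}).obj (op (EtCoh.top X))) m (EtDual.tate X n c))⟩

end Groth.Agent.S3142.Aux

namespace Groth.Agent.S3142

/-- Let X be a Noetherian separated scheme, n an integer invertible on X, j : U ⟶ X an open immersion
with closed complement Y, and c a natural number. If the local cohomology sheaves H^p_Y(X, ℤ/n)
vanish for all p < 2c, then the local cohomology group H^{2c}_Y(X, ℤ/n(c)) is isomorphic to the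
group of global sections of the local cohomology sheaf H^{2c}_Y(X, ℤ/n(c)). (The source's
isomorphism is the edge map of the spectral sequence H^p(Y, R^q i^!) ⇒ H^{p+q}_Y; here only the
existence of an isomorphism is asserted.) -/
theorem result {X U : Scheme.{u}} [IsNoetherian X] [X.IsSeparated] (j : U ⟶ X) [IsOpenImmersion j] [EtCoh.BCCont j]
    (n : ℕ) (hn : IsUnit (n : Γ(X, ⊤))) (c : ℕ) (h : ∀ p : ℕ, p < 2 * c → IsZero ((EtDual.locCoh j p).obj (EtCoh.const X (ZMod n)))) :
    Nonempty ((EtDual.HY j (2 * c)).obj (EtDual.tate X n c) ≅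
      ((EtDual.locCoh j (2 * c)).obj (EtDual.tate X n c)).obj.obj (op (EtCoh.top X))) := by
  exact Aux.main j n hn (2 * c) c h

end Groth.Agent.S3142
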