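import Groth.Statements.S3143
import Groth.Agent.H05EGA4.EtTateRes
import Groth.Agent.S3142
import Groth.Agent.H13Desc.DerivedComm

set_option autoImplicit false
universe u
open CategoryTheory CategoryTheory.Limits AlgebraicGeometry Opposite
open EtDual

namespace Groth.Agent.S3143.Aux

open Groth.Agent.H18Et.EtaleRestrict (emap res pullIso resPushAdj)
open scoped Groth.Agent.H18Et

set_option backward.isDefEq.respectTransparency false
set_option backward.isDefEq.respectTransparency.types false

variable {X : Scheme.{u}}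

/-- Sections over `A` which vanish on `B`. -/
noncomputable def KF {A B : X.Etale} (g : B ⟶ A) : EtCoh.Ab X ⥤ AddCommGrpCat.{u + 1} where
  obj F := AddCommGrpCat.of (F.obj.map g.op).hom.ker
  map {F G} φ := AddCommGrpCat.ofHom (((φ.hom.app (op A)).hom.comp (F.obj.map g.op).hom.ker.subtype).codRestrict _
    fun x => by
      show (G.obj.map g.op) (φ.hom.app (op A) x.1) = 0
      rw [← NatTrans.naturality_apply, show F.obj.map g.op x.1 = 0 from x.2, map_zero])
  map_id F := rfl
  map_comp φ ψ := rfl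

instance additive_KF {A B : X.Etale} (g : B ⟶ A) : (KF g).Additive where
  map_add {F G φ ψ} := rfl

/-- Change of the smaller open. -/
noncomputable def inclK {A B C : X.Etale} (g : B ⟶ A) (h : C ⟶ B) (g' : C ⟶ A) (e : h ≫ g = g') : KF g ⟶ KF g' where
  app F := AddCommGrpCat.ofHom ((F.obj.map g.op).hom.ker.subtype.codRestrict _ fun x => by
    show F.obj.map g'.op x.1 = 0
    rw [← e, op_comp, F.obj.map_comp, ConcreteCategory.comp_apply, show F.obj.map g.op x.1 = 0 from x.2, map_zero])
  naturality F G φ := rfl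

/-- Restriction. -/
noncomputable def restrK {A B C : X.Etale} (g : B ⟶ A) (h : C ⟶ B) (g' : C ⟶ A) (e : h ≫ g = g') : KF g' ⟶ KF h where
  app F := AddCommGrpCat.ofHom (((F.obj.map g.op).hom.comp (F.obj.map g'.op).hom.ker.subtype).codRestrict _ fun x => by
    show F.obj.map h.op (F.obj.map g.op x.1) = 0
    rw [← ConcreteCategory.comp_apply, ← F.obj.map_comp, ← op_comp, e]
    exact x.2)
  naturality F G φ := by
    ext x
    exact Subtype.ext (NatTrans.naturality_apply φ.hom g.op x.1).symm

theorem exists_iso {B : Scheme.{u}} (j : B ⟶ X) [IsOpenImmersion j] (W : X.Etale) (hW : W = Scheme.Etale.mk j) :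
    Nonempty (EtDual.gammaSupp j ≅ KF ((EtCore.topIsTerminal X).from W)) := by
  subst hW
  let T := EtCoh.top X
  let P := (emap j).obj ((EtCoh.bc j).obj T)
  let c : P ⟶ T := (H18Et.EtaleRestrict.emapAdj j).counit.app T
  let e : P ≅ Scheme.Etale.mk j :=
    MorphismProperty.Over.isoMk (@asIso _ _ _ _ (pullback.snd (𝟙 X) j) inferInstance) rfl
  have hP : ∀ (F : EtCoh.Ab X) (x : EtCoh.sect F T), (EtDual.unitApp j F).hom.app (op T) x = 0 ↔
      F.obj.map ((EtCore.topIsTerminal X).from (Scheme.Etale.mk j)).op x = 0 := fun F x => by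
    have hu := congrArg (fun k => k.hom.app (op T))
      (Adjunction.unit_leftAdjointUniq_hom_app (EtCoh.pullPushAdj j) (resPushAdj j) F)
    have h2 : ((resPushAdj j).unit.app F).hom.app (op T) = F.obj.map c.op := by
      simp [H18Et.EtaleRestrict.resPushAdj, c]
    let E := (EtCoh.push j).mapIso ((pullIso j).app F)
    have hinj : Function.Injective (E.hom.hom.app (op T)) :=
      Function.LeftInverse.injective (g := E.inv.hom.app (op T)) fun z => by
        rw [← ConcreteCategory.comp_apply, ← NatTrans.comp_app, ← ObjectProperty.FullSubcategory.comp_hom,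
          E.hom_inv_id]
        rfl
    have h3 : E.hom.hom.app (op T) ((EtDual.unitApp j F).hom.app (op T) x) = F.obj.map c.op x :=
      (ConcreteCategory.congr_hom hu x).trans (ConcreteCategory.congr_hom h2 x)
    have h4 : c = e.hom ≫ (EtCore.topIsTerminal X).from _ := (EtCore.topIsTerminal X).hom_ext _ _
    have hi : Function.Injective (F.obj.map e.hom.op) :=
      (ConcreteCategory.bijective_of_isIso (F.obj.map e.hom.op)).1
    rw [← hinj.eq_iff, map_zero, h3, h4, op_comp, F.obj.map_comp, ConcreteCategory.comp_apply]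
    exact ⟨fun h => hi (h.trans (map_zero _).symm), fun h => by rw [h, map_zero]⟩
  let Ψ := sheafToPresheaf X.smallEtaleTopology AddCommGrpCat.{u + 1} ⋙ (evaluation _ _).obj (op T)
  let ι (F : EtCoh.Ab X) : (EtDual.gammaSupp j).obj F ⟶ Ψ.obj F := Ψ.map (kernel.ι (EtDual.unitApp j F))
  have hker : ∀ F : EtCoh.Ab X, Function.Injective (ι F) ∧ ∀ x, (EtDual.unitApp j F).hom.app (op T) x = 0 →
      ∃ y, ι F y = x := fun F => by
    let S : ShortComplex (EtCoh.Ab X) :=
      ShortComplex.mk (kernel.ι (EtDual.unitApp j F)) (EtDual.unitApp j F) (kernel.condition _)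
    refine ⟨(AddCommGrpCat.mono_iff_injective _).1 (Ψ.map_mono (kernel.ι _)), fun x hx => ?_⟩
    exact (ShortComplex.ab_exact_iff _).1 ((ShortComplex.exact_of_f_is_kernel S
      (kernelIsKernel _)).map_of_mono_of_preservesKernel Ψ (inferInstanceAs (Mono (kernel.ι _))) inferInstance) x hx
  let f (F : EtCoh.Ab X) : (EtDual.gammaSupp j).obj F ⟶ (KF ((EtCore.topIsTerminal X).from (Scheme.Etale.mk j))).obj F :=
    AddCommGrpCat.ofHom ((ι F).hom.codRestrict _ fun y => (hP F _).1
      ((ConcreteCategory.comp_apply _ _ _).symm.trans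
        (ConcreteCategory.congr_hom (congrArg (fun t => t.hom.app (op T)) (kernel.condition (EtDual.unitApp j F))) y)))
  haveI : ∀ F, IsIso (f F) := fun F => (ConcreteCategory.isIso_iff_bijective _).2
    ⟨fun a b h => (hker F).1 (congrArg Subtype.val h), fun x => by
      obtain ⟨y, hy⟩ := (hker F).2 x.1 ((hP F _).2 x.2)
      exact ⟨y, Subtype.ext hy⟩⟩
  refine ⟨NatIso.ofComponents (fun F => asIso (f F)) fun {F G} φ => ?_⟩
  ext y
  refine Subtype.ext ?_
  exact ConcreteCategory.congr_hom (((Ψ.map_comp _ _).symm.trans (congrArg Ψ.map (kernel.lift_ι _ _ _))).trans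
    (Ψ.map_comp _ _)) y

theorem depthGE_tate {U : Scheme.{u}} (j : U ⟶ X) [IsOpenImmersion j] (n : ℕ) [NeZero n]
    (hn : IsUnit (n : Γ(X, ⊤))) (m c : ℕ) (h : EtDepth.DepthGE j (EtCoh.const X (ZMod n)) m) :
    EtDepth.DepthGE j (EtDual.tate X n c) m := by
  obtain ⟨ι, V, hV, e⟩ := H05EGA4.EtTate.exists_cover_tate (n := n) hn c
  refine H23Geom.DepthLocal.depthGE_of_covers j V hV m _ fun i => ?_
  haveI : Etale (V i).hom := (V i).prop
  exact H23Geom.DepthLocal.depthGE_of_iso _ (e i).some.symm (H23Geom.DepthLocal.depthGE_pull j (V i).hom m _ h)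

theorem isZero_HY {X U : Scheme.{u}} (j : U ⟶ X) [IsOpenImmersion j] (hn : IsUnit ((0 : ℕ) : Γ(X, ⊤))) (m c : ℕ) :
    IsZero ((EtDual.HY j m).obj (EtDual.tate X 0 c)) := by
  have h0 : ∀ F : EtCoh.Ab X, IsZero F := fun F => S3142.Aux.isZero_of_zero_isUnit (by simpa using hn) F
  obtain ⟨e⟩ := S3142.Aux.main j 0 hn m c fun q _ => h0 _
  refine IsZero.of_iso ?_ e
  exact Functor.map_isZero (sheafToPresheaf X.smallEtaleTopology AddCommGrpCat.{u+1} ⋙
    (evaluation X.Etaleᵒᵖ AddCommGrpCat.{u+1}).obj (op (EtCoh.top X))) (h0 _)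

theorem main {X' U : Scheme.{u}} (n : ℕ) (hn : IsUnit (n : Γ(X, ⊤))) (c : ℕ)
    (j : U ⟶ X) [IsOpenImmersion j] (k' : X' ⟶ X) [IsOpenImmersion k'] (j' : U ⟶ X') [IsOpenImmersion j']
    (hfac : j' ≫ k' = j) (hZ : EtDepth.DepthGE k' (EtCoh.const X (ZMod n)) (2 * c + 2)) :
    Nonempty ((EtDual.HY j (2 * c)).obj (EtDual.tate X n c) ≅ (EtDual.HY j' (2 * c)).obj (EtDual.tate X' n c)) := by
  rcases Nat.eq_zero_or_pos n with rfl | hpos
  · have hn' : IsUnit ((0 : ℕ) : Γ(X', ⊤)) := map_natCast k'.appTop.hom 0 ▸ hn.map k'.appTop.hom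
    exact ⟨(isZero_HY j hn _ _).iso (isZero_HY j' hn' _ _)⟩
  haveI : NeZero n := ⟨hpos.ne'⟩
  let T := EtDual.tate X n c
  have hT : EtDepth.DepthGE k' T (2 * c + 2) := depthGE_tate k' n hn _ c hZ
  have hz : ∀ p < 2 * c + 2, IsZero ((EtDual.HY k' p).obj T) := fun p hp => by
    obtain ⟨e⟩ := S3142.Aux.main k' n hn p c fun q hq => hZ q (hq.trans hp)
    refine IsZero.of_iso ?_ e
    haveI : (sheafToPresheaf X.smallEtaleTopology AddCommGrpCat.{u+1} ⋙
      (evaluation X.Etaleᵒᵖ AddCommGrpCat.{u+1}).obj (op (EtCoh.top X))).Additive := by infer_instance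
    exact Functor.map_isZero (sheafToPresheaf X.smallEtaleTopology AddCommGrpCat.{u+1} ⋙
      (evaluation X.Etaleᵒᵖ AddCommGrpCat.{u+1}).obj (op (EtCoh.top X))) (hT p hp)
  -- the three open sets
  let Vk : X.Etale := Scheme.Etale.mk k'
  let Vj : X.Etale := Scheme.Etale.mk j
  let q : Vj ⟶ Vk := MorphismProperty.Over.homMk j' hfac trivial
  let gk := (EtCore.topIsTerminal X).from Vk
  let gj := (EtCore.topIsTerminal X).from Vj
  have hq : q ≫ gk = gj := (EtCore.topIsTerminal X).hom_ext _ _
  let ek := (exists_iso k' Vk rfl).some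
  let ej := (exists_iso j Vj rfl).some
  let ej' := (exists_iso j' _ rfl).some
  let A := (emap k').obj (EtCoh.top X')
  let B := (emap k').obj (Scheme.Etale.mk j')
  let g' : B ⟶ A := (emap k').map ((EtCore.topIsTerminal X').from (Scheme.Etale.mk j'))
  let a : A ≅ Vk := MorphismProperty.Over.isoMk (Iso.refl _) ((Category.id_comp _).trans (Category.id_comp k').symm)
  let b : B ≅ Vj := MorphismProperty.Over.isoMk (Iso.refl _) ((Category.id_comp _).trans hfac.symm)
  have hab : g' ≫ a.hom = b.hom ≫ q := by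
    haveI : Mono Vk.hom := inferInstanceAs (Mono k')
    refine MorphismProperty.Over.Hom.ext ((cancel_mono Vk.hom).1 ?_)
    exact (Over.w (g' ≫ a.hom).hom).trans (Over.w (b.hom ≫ q).hom).symm
  let eab : KF g' ≅ KF q := NatIso.ofComponents (fun F =>
    AddEquiv.toAddCommGrpIso
      { toFun := fun x => ⟨F.obj.map a.inv.op x.1, by
          show F.obj.map q.op (F.obj.map a.inv.op x.1) = 0
          have : q ≫ a.inv = b.inv ≫ g' := by
            rw [Iso.comp_inv_eq, Category.assoc, hab, Iso.inv_hom_id_assoc]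
          rw [← ConcreteCategory.comp_apply, ← F.obj.map_comp, ← op_comp, this, op_comp, F.obj.map_comp,
            ConcreteCategory.comp_apply, show F.obj.map g'.op x.1 = 0 from x.2, map_zero]⟩
        invFun := fun x => ⟨F.obj.map a.hom.op x.1, by
          show F.obj.map g'.op (F.obj.map a.hom.op x.1) = 0
          rw [← ConcreteCategory.comp_apply, ← F.obj.map_comp, ← op_comp, hab, op_comp, F.obj.map_comp,
            ConcreteCategory.comp_apply, show F.obj.map q.op x.1 = 0 from x.2, map_zero]⟩
        left_inv := fun x => Subtype.ext (by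
          show F.obj.map a.hom.op (F.obj.map a.inv.op x.1) = x.1
          rw [← ConcreteCategory.comp_apply, ← F.obj.map_comp, ← op_comp, a.hom_inv_id, op_id, F.obj.map_id]
          rfl)
        right_inv := fun x => Subtype.ext (by
          show F.obj.map a.inv.op (F.obj.map a.hom.op x.1) = x.1
          rw [← ConcreteCategory.comp_apply, ← F.obj.map_comp, ← op_comp, a.inv_hom_id, op_id, F.obj.map_id]
          rfl)
        map_add' := fun x y => Subtype.ext (map_add _ x.1 y.1) })
    fun {F G} φ => by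
      ext x
      exact Subtype.ext (NatTrans.naturality_apply φ.hom a.inv.op x.1).symm
  haveI : PreservesFiniteLimits (EtCoh.pull k') := H18Et.pull_preservesFiniteLimits k'
  haveI : PreservesFiniteColimits (EtCoh.pull k') :=
    ⟨fun _ _ _ => (EtCoh.pullPushAdj k').leftAdjoint_preservesColimits.preservesColimitsOfShape⟩
  obtain ⟨I⟩ : Nonempty (InjectiveResolution T) := HasInjectiveResolution.out
  let I' := H13Desc.DerivedComm.mapResolution (EtCoh.pull k')
    (fun J hJ => H18Et.EtaleRestrict.injective_pull k' J) I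
  haveI : (EtCoh.pull k' ⋙ EtDual.gammaSupp j').Additive := inferInstance
  let ψ : EtCoh.pull k' ⋙ EtDual.gammaSupp j' ≅ KF q :=
    Functor.isoWhiskerLeft _ ej' ≪≫ Functor.isoWhiskerRight (pullIso k') _ ≪≫
      NatIso.ofComponents (fun F => Iso.refl _) (fun φ => rfl) ≪≫ eab
  let cpx (Φ : EtCoh.Ab X ⥤ AddCommGrpCat.{u + 1}) [Φ.Additive] := (Φ.mapHomologicalComplex (ComplexShape.up ℕ)).obj I.cocomplex
  let S : ShortComplex (CochainComplex AddCommGrpCat.{u + 1} ℕ) :=
    ShortComplex.mk ((NatTrans.mapHomologicalComplex (inclK gk q gj hq) _).app I.cocomplex)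
      ((NatTrans.mapHomologicalComplex (restrK gk q gj hq) _).app I.cocomplex) (by
        ext i x
        exact Subtype.ext x.2)
  have hS : S.ShortExact := HomologicalComplex.shortExact_of_degreewise_shortExact S fun i => by
    haveI := I.injective i
    let F := I.cocomplex.X i
    haveI : Mono q := by
      haveI : Mono q.left := inferInstanceAs (Mono j')
      exact ⟨fun {Z} α β h => MorphismProperty.Over.Hom.ext ((cancel_mono q.left).1 (congrArg (fun t => t.left) h))⟩
    haveI : Mono gk := by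
      haveI : Mono gk.left := by
        have : gk.left = k' := (Category.comp_id _).symm.trans (Over.w gk.hom)
        rw [this]; infer_instance
      exact ⟨fun {Z} α β h => MorphismProperty.Over.Hom.ext ((cancel_mono gk.left).1 (congrArg (fun t => t.left) h))⟩
    refine { exact := (ShortComplex.ab_exact_iff _).2 fun x hx => ⟨⟨x.1, congrArg Subtype.val hx⟩, Subtype.ext rfl⟩
             mono_f := (AddCommGrpCat.mono_iff_injective _).2 fun x y h => Subtype.ext (congrArg Subtype.val h :)
             epi_g := (AddCommGrpCat.epi_iff_surjective _).2 fun x => ?_ }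
    obtain ⟨y, hy⟩ := H18Et.surjective_map_of_injective F gk x.1
    refine ⟨⟨y, ?_⟩, Subtype.ext hy⟩
    show F.obj.map gj.op y = 0
    rw [← hq, op_comp, F.obj.map_comp, ConcreteCategory.comp_apply, hy]
    exact x.2
  have e₁ : ∀ p, (EtDual.HY k' p).obj T ≅ S.X₁.homology p := fun p =>
    I.isoRightDerivedObj (EtDual.gammaSupp k') p ≪≫ (HomologicalComplex.homologyFunctor _ _ p).mapIso
      ((NatIso.mapHomologicalComplex ek _).app I.cocomplex)
  have e₂ : (EtDual.HY j (2 * c)).obj T ≅ S.X₂.homology (2 * c) :=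
    I.isoRightDerivedObj (EtDual.gammaSupp j) _ ≪≫ (HomologicalComplex.homologyFunctor _ _ _).mapIso
      ((NatIso.mapHomologicalComplex ej _).app I.cocomplex)
  have e₃ : (EtDual.HY j' (2 * c)).obj ((EtCoh.pull k').obj T) ≅ S.X₃.homology (2 * c) :=
    I'.isoRightDerivedObj (EtDual.gammaSupp j') _ ≪≫ (HomologicalComplex.homologyFunctor _ _ _).mapIso
      (HomologicalComplex.Hom.isoOfComponents (fun i => ψ.app (I.cocomplex.X i))
        (fun i l _ => (ψ.hom.naturality (I.cocomplex.d i l)).symm))
  haveI : IsIso (HomologicalComplex.homologyMap S.g (2 * c)) := by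
    haveI : Mono (HomologicalComplex.homologyMap S.g (2 * c)) :=
      (hS.homology_exact₂ (2 * c)).mono_g (((hz (2 * c) (by omega)).of_iso (e₁ _).symm).eq_of_src _ _)
    haveI : Epi (HomologicalComplex.homologyMap S.g (2 * c)) :=
      (hS.homology_exact₃ (2 * c) (2 * c + 1) rfl).epi_f (((hz (2 * c + 1) (by omega)).of_iso (e₁ _).symm).eq_of_tgt _ _)
    exact isIso_of_mono_of_epi _
  exact ⟨e₂ ≪≫ asIso (HomologicalComplex.homologyMap S.g (2 * c)) ≪≫ e₃.symm ≪≫
    (EtDual.HY j' (2 * c)).mapIso (H05EGA4.EtTateRes.nonempty_pull_tate k' n c).some⟩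

end Groth.Agent.S3143.Aux

namespace Groth.Agent.S3143

/-- Let X be a Noetherian separated scheme, n a natural number invertible on X, c a natural number, Y ⊆
X a closed subset with open complement j : U → X, and Z ⊆ Y a closed subset of X with open
complement k' : X' → X, so that U ⊆ X' through an open immersion j' : U → X' with k' ∘ j' = j, and V
= Y ∩ X' is closed in X' with complement U. If the local cohomology sheaves H^p_Z(ℤ/n) on X vanish
for all p ≤ 2c + 1, then H^{2c}_Y(X, ℤ/n(c)) and H^{2c}_V(X', ℤ/n(c)) are isomorphic. Only the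
existence of an isomorphism is asserted; the published statement is that the restriction map is an
isomorphism (and that it is injective under vanishing for p ≤ 2c only). -/
theorem result {X X' U : Scheme.{u}} [IsNoetherian X] [X.IsSeparated]
    (n : ℕ) (hn : IsUnit (n : Γ(X, ⊤))) (c : ℕ)
    (j : U ⟶ X) [IsOpenImmersion j] (k' : X' ⟶ X) [IsOpenImmersion k'] (j' : U ⟶ X') [IsOpenImmersion j']
    (hfac : j' ≫ k' = j) [EtCoh.BCCont j] [EtCoh.BCCont k'] [EtCoh.BCCont j']
    (hZ : ∀ p : ℕ, p ≤ 2 * c + 1 → IsZero ((EtDual.locCoh k' p).obj (EtCoh.const X (ZMod n)))) :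
    Nonempty ((EtDual.HY j (2 * c)).obj (EtDual.tate X n c) ≅ (EtDual.HY j' (2 * c)).obj (EtDual.tate X' n c)) := by
  exact Aux.main n hn c j k' j' hfac fun p hp => hZ p (by omega)

end Groth.Agent.S3143
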