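import Groth.Statements.S14454
import Groth.Agent.S3143

set_option autoImplicit false
universe u
open CategoryTheory CategoryTheory.Limits AlgebraicGeometry
open EtDual

namespace Groth.Agent.S14454.Aux

open Groth.Agent.H18Et.EtaleRestrict (emap res pullIso)
open Groth.Agent.S3143.Aux (KF exists_iso)
open scoped Groth.Agent.H18Et

set_option backward.isDefEq.respectTransparency false
set_option backward.isDefEq.respectTransparency.types false

variable {X X' U U' : Scheme.{u}} (f : X' ⟶ X) [Etale f] (j : U ⟶ X) [IsOpenImmersion j]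
  (j' : U' ⟶ X') [IsOpenImmersion j']

/-- Off the open set the diagonal is all of the fibre product. -/
theorem mem_range_diagonal (hU' : Set.range j'.base = f.base ⁻¹' Set.range j.base)
    (hZ : Set.InjOn f.base (Set.range j'.base)ᶜ)
    (hκ : ∀ x' : ↥X', x' ∉ Set.range j'.base → Function.Surjective (f.residueFieldMap x'))
    (z : (pullback f f : Scheme.{u})) (hz : (pullback.fst f f ≫ f).base z ∉ Set.range j.base) :
    z ∈ Set.range (pullback.diagonal f).base := by
  let p₁ := pullback.fst f f
  let p₂ := pullback.snd f f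
  let x' := p₁.base z
  have h₁ : x' ∉ Set.range j'.base := by
    rw [hU']; exact hz
  have h₂ : p₂.base z ∉ Set.range j'.base := by
    rw [hU']
    have : (p₂ ≫ f).base z ∉ Set.range j.base := by rw [← pullback.condition]; exact hz
    exact this
  have hp : p₂.base z = x' := hZ h₂ h₁
    (congrArg (fun t : pullback f f ⟶ X => t.base z) (pullback.condition (f := f) (g := f))).symm
  let h := (pullback f f).fromSpecResidueField z
  have hfac : ∀ p : pullback f f ⟶ X', p.base z = x' →
      ∃ c : Spec ((pullback f f).residueField z) ⟶ Spec (X'.residueField x'),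
        c ≫ X'.fromSpecResidueField x' = h ≫ p := by
    rintro p e
    rw [← e]
    exact ⟨_, Scheme.Hom.SpecMap_residueFieldMap_fromSpecResidueField p z⟩
  obtain ⟨c₁, hc₁⟩ := hfac p₁ rfl
  obtain ⟨c₂, hc₂⟩ := hfac p₂ hp
  haveI : IsClosedImmersion (Spec.map (f.residueFieldMap x')) :=
    IsClosedImmersion.spec_of_surjective _ (hκ x' h₁)
  haveI : Mono (X'.fromSpecResidueField x' ≫ f) := by
    rw [← Scheme.Hom.SpecMap_residueFieldMap_fromSpecResidueField f x']
    exact mono_comp _ _
  have hc : c₁ = c₂ := (cancel_mono (X'.fromSpecResidueField x' ≫ f)).1 (by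
    rw [← Category.assoc, ← Category.assoc, hc₁, hc₂, Category.assoc, Category.assoc]
    exact congrArg (h ≫ ·) pullback.condition)
  have hd : h = (h ≫ p₁) ≫ pullback.diagonal f := by
    refine pullback.hom_ext ?_ ?_
    · rw [Category.assoc, pullback.diagonal_fst, Category.comp_id]
    · rw [Category.assoc, pullback.diagonal_snd, Category.comp_id, ← hc₁, hc, hc₂]
  obtain ⟨t⟩ : Nonempty (Spec ((pullback f f).residueField z)) := inferInstance
  refine ⟨(h ≫ p₁).base t, ?_⟩
  rw [← Scheme.Hom.comp_apply, ← hd]
  exact Scheme.fromSpecResidueField_apply _ _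

/-- Sections agreeing on a covering are equal. -/
theorem eq_of_covers (F : EtCoh.Ab X) {Z : X.Etale} {κ : Type u} (O : κ → Z.left.Opens)
    (hO : ∀ z : Z.left, ∃ i, z ∈ O i) (s t : EtCoh.sect F Z)
    (h : ∀ (i : κ) (W : X.Etale) (g : W ⟶ Z), Set.range g.left.base ⊆ O i → F.obj.map g.op s = F.obj.map g.op t) :
    s = t := H18Et.sect_ext s t fun Ω _ _ ξ y => by
  obtain ⟨i, hi⟩ := hO (H18Et.ptOf y)
  haveI : Etale Z.hom := Z.prop
  let W : X.Etale := MorphismProperty.Over.mk ⊤ ((O i).ι ≫ Z.hom) (inferInstanceAs (Etale _))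
  let g : W ⟶ Z := MorphismProperty.Over.homMk (O i).ι rfl trivial
  obtain ⟨w, hw⟩ := H18Et.exists_fiber_lift g y (⟨H18Et.ptOf y, hi⟩ : (O i).toScheme) rfl
  rw [← hw, ← H18Et.ConstSheaf.germ_map, ← H18Et.ConstSheaf.germ_map,
    h i W g (Scheme.Opens.range_ι (O i)).le]

theorem main (hU' : Set.range j'.base = f.base ⁻¹' Set.range j.base)
    (hZ : Set.BijOn f.base (Set.range j'.base)ᶜ (Set.range j.base)ᶜ)
    (hκ : ∀ x' : ↥X', x' ∉ Set.range j'.base → Function.Surjective (f.residueFieldMap x'))
    (F : EtCoh.Ab X) (r : ℕ) :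
    Nonempty ((EtDual.HY j r).obj F ≅ (EtDual.HY j' r).obj ((EtCoh.pull f).obj F)) := by
  let T := EtCoh.top X
  let Vj : X.Etale := Scheme.Etale.mk j
  let A := (emap f).obj (EtCoh.top X')
  let B := (emap f).obj (Scheme.Etale.mk j')
  let g' : B ⟶ A := (emap f).map ((EtCore.topIsTerminal X').from (Scheme.Etale.mk j'))
  let gj := (EtCore.topIsTerminal X).from Vj
  let ga := (EtCore.topIsTerminal X).from A
  have hA : A.hom = 𝟙 X' ≫ f := rfl
  have hr : Set.range (j' ≫ f).base ⊆ Set.range j.base := by
    rintro _ ⟨u, rfl⟩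
    rw [Scheme.Hom.comp_apply]
    exact hU'.le ⟨u, rfl⟩
  let m : B ⟶ Vj := MorphismProperty.Over.homMk (IsOpenImmersion.lift j (j' ≫ f) hr)
    (IsOpenImmersion.lift_fac j (j' ≫ f) hr) trivial
  have hm : g' ≫ ga = m ≫ gj := (EtCore.topIsTerminal X).hom_ext _ _
  let θ : KF gj ⟶ KF g' :=
    { app := fun G => AddCommGrpCat.ofHom (((G.obj.map ga.op).hom.comp (G.obj.map gj.op).hom.ker.subtype).codRestrict _
        fun x => by
          show G.obj.map g'.op (G.obj.map ga.op x.1) = 0
          rw [← ConcreteCategory.comp_apply, ← G.obj.map_comp, ← op_comp, hm, op_comp, G.obj.map_comp,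
            ConcreteCategory.comp_apply, show G.obj.map gj.op x.1 = 0 from x.2, map_zero])
      naturality := fun G H φ => by
        ext x
        exact Subtype.ext (NatTrans.naturality_apply φ.hom ga.op x.1).symm }
  -- the two charts
  let V : Bool → X.Etale := fun b => cond b Vj A
  let π : ∀ b, V b ⟶ T := fun b => (EtCore.topIsTerminal X).from (V b)
  have hcov : Sieve.generate (Presieve.ofArrows V π) ∈ X.smallEtaleTopology T := by
    refine H18Et.mem_topology_of_forall_point _ fun x => ?_
    by_cases hx : x ∈ Set.range j.base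
    · obtain ⟨u, hu⟩ := hx
      refine ⟨Vj, π true, u, ⟨_, 𝟙 _, π true, Presieve.ofArrows.mk true, Category.id_comp _⟩, ?_⟩
      have : (π true).left = j := (Category.comp_id _).symm.trans (Over.w (π true).hom)
      exact (congrArg (fun t : U ⟶ X => t.base u) this).trans hu
    · obtain ⟨x', -, hx'⟩ := hZ.surjOn hx
      refine ⟨A, π false, x', ⟨_, 𝟙 _, π false, Presieve.ofArrows.mk false, Category.id_comp _⟩, ?_⟩
      have : (π false).left = f :=
        (Category.comp_id _).symm.trans ((Over.w (π false).hom).trans (hA.trans (Category.id_comp f)))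
      exact (congrArg (fun t : X' ⟶ X => t.base x') this).trans hx'
  have hsh : ∀ G : EtCoh.Ab X, Presieve.IsSheafFor (G.obj ⋙ CategoryTheory.forget AddCommGrpCat.{u + 1})
      (Presieve.ofArrows V π) := fun G => by
    rw [Presieve.isSheafFor_iff_generate]
    exact ((isSheaf_iff_isSheaf_of_type _ _).1
      ((sheafCompose _ (CategoryTheory.forget AddCommGrpCat.{u + 1})).obj G).property) _ hcov
  have hbij : ∀ G : EtCoh.Ab X, IsIso (θ.app G) := fun G => by
    refine (ConcreteCategory.isIso_iff_bijective _).2 ⟨fun s t hst => Subtype.ext ?_, fun t => ?_⟩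
    · refine (hsh G).isSeparatedFor.ext fun _ g hg => ?_
      obtain ⟨b⟩ := hg
      cases b
      · exact congrArg Subtype.val hst
      · exact (show G.obj.map gj.op s.1 = 0 from s.2).trans (show G.obj.map gj.op t.1 = 0 from t.2).symm
    let x : ∀ b, EtCoh.sect G (V b) := fun b => match b with
      | true => 0
      | false => t.1
    have ht : ∀ {Z : X.Etale} (β : Z ⟶ A), (∀ w : Z.left, Z.hom.base w ∈ Set.range j.base) →
        G.obj.map β.op t.1 = 0 := by
      intro Z β hw
      have hβ : β.left ≫ f = Z.hom := by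
        have := Over.w β.hom
        exact (congrArg (β.left ≫ ·) (Category.id_comp f).symm).trans this
      have hr' : Set.range β.left.base ⊆ Set.range j'.base := by
        rintro _ ⟨w, rfl⟩
        refine hU'.ge ?_
        show f.base (β.left.base w) ∈ Set.range j.base
        have := hw w
        rw [← hβ] at this
        exact this
      let l : Z ⟶ B := MorphismProperty.Over.homMk (IsOpenImmersion.lift j' β.left hr') (by
        show IsOpenImmersion.lift j' β.left hr' ≫ j' ≫ f = Z.hom
        rw [← Category.assoc, IsOpenImmersion.lift_fac, hβ]) trivial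
      have hl : l ≫ g' = β := by
        refine MorphismProperty.Over.Hom.ext ?_
        have : g'.left = j' := by
          have h' := Over.w ((EtCore.topIsTerminal X').from (Scheme.Etale.mk j')).hom
          exact (Category.comp_id _).symm.trans h'
        show IsOpenImmersion.lift j' β.left hr' ≫ g'.left = β.left
        rw [this]
        exact IsOpenImmersion.lift_fac _ _ _
      rw [← hl, op_comp, G.obj.map_comp, ConcreteCategory.comp_apply, show G.obj.map g'.op t.1 = 0 from t.2,
        map_zero]
    have hjr : ∀ {Z : X.Etale} (α : Z ⟶ Vj) (w : Z.left), Z.hom.base w ∈ Set.range j.base := fun α w =>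
      ⟨α.left.base w, congrArg (fun t => t.base w) (Over.w α.hom)⟩
    obtain ⟨s, hs, -⟩ := (Presieve.isSheafFor_arrows_iff _ _).1 (hsh G) x fun a b Z α β _ => by
      show G.obj.map α.op (x a) = G.obj.map β.op (x b)
      cases a <;> cases b
      · let α' : Z ⟶ A := α
        let β' : Z ⟶ A := β
        have hα : α'.left ≫ f = Z.hom := (congrArg (α'.left ≫ ·) (Category.id_comp f).symm).trans (Over.w α'.hom)
        have hβ : β'.left ≫ f = Z.hom := (congrArg (β'.left ≫ ·) (Category.id_comp f).symm).trans (Over.w β'.hom)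
        let w := pullback.lift α'.left β'.left (hα.trans hβ.symm)
        let O : ULift.{u} Bool → Z.left.Opens := fun i => match i.down with
          | true => Z.hom ⁻¹ᵁ j.opensRange
          | false => w ⁻¹ᵁ (pullback.diagonal f).opensRange
        refine eq_of_covers G O (fun z => ?_) _ _ fun i W γ hγ => ?_
        · by_cases hz : Z.hom.base z ∈ Set.range j.base
          · exact ⟨⟨true⟩, hz⟩
          · refine ⟨⟨false⟩, mem_range_diagonal f j j' hU' hZ.injOn hκ (w.base z) ?_⟩
            rw [← Scheme.Hom.comp_apply, pullback.lift_fst_assoc, hα]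
            exact hz
        · rw [← ConcreteCategory.comp_apply, ← ConcreteCategory.comp_apply, ← G.obj.map_comp, ← G.obj.map_comp,
            ← op_comp, ← op_comp]
          rcases i with ⟨_ | _⟩
          · have hh : Set.range (γ.left ≫ w).base ⊆ Set.range (pullback.diagonal f).base := by
              rintro _ ⟨v, rfl⟩
              exact hγ ⟨v, rfl⟩
            have e := IsOpenImmersion.lift_fac (pullback.diagonal f) (γ.left ≫ w) hh
            have e₁ := congrArg (· ≫ pullback.fst f f) e
            have e₂ := congrArg (· ≫ pullback.snd f f) e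
            simp only [Category.assoc, pullback.diagonal_fst, pullback.diagonal_snd, Category.comp_id, w,
              pullback.lift_fst, pullback.lift_snd] at e₁ e₂
            have hh' : γ ≫ α' = γ ≫ β' := MorphismProperty.Over.Hom.ext (e₁.symm.trans e₂)
            show G.obj.map (γ ≫ α').op t.1 = G.obj.map (γ ≫ β').op t.1
            rw [hh']
          · have hv : ∀ v : W.left, W.hom.base v ∈ Set.range j.base := fun v => by
              rw [← show γ.left ≫ Z.hom = W.hom from Over.w γ.hom]
              exact hγ ⟨v, rfl⟩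
            exact (ht _ hv).trans (ht _ hv).symm
      · show G.obj.map α.op t.1 = G.obj.map β.op 0
        exact (ht α (hjr β)).trans (map_zero _).symm
      · show G.obj.map α.op 0 = G.obj.map β.op t.1
        exact (map_zero _).trans (ht β (hjr α)).symm
      · show G.obj.map α.op 0 = G.obj.map β.op 0
        rw [map_zero, map_zero]
    exact ⟨⟨s, hs true⟩, Subtype.ext (hs false)⟩
  haveI : IsIso θ := NatIso.isIso_of_isIso_app θ
  haveI : PreservesFiniteLimits (EtCoh.pull f) := H18Et.pull_preservesFiniteLimits f
  haveI : PreservesFiniteColimits (EtCoh.pull f) :=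
    ⟨fun _ _ _ => (EtCoh.pullPushAdj f).leftAdjoint_preservesColimits.preservesColimitsOfShape⟩
  obtain ⟨I⟩ : Nonempty (InjectiveResolution F) := HasInjectiveResolution.out
  let I' := H13Desc.DerivedComm.mapResolution (EtCoh.pull f)
    (fun J hJ => H18Et.EtaleRestrict.injective_pull f J) I
  let ψ : EtDual.gammaSupp j ≅ EtCoh.pull f ⋙ EtDual.gammaSupp j' :=
    (exists_iso j Vj rfl).some ≪≫ asIso θ ≪≫
      (Functor.isoWhiskerLeft _ (exists_iso j' _ rfl).some ≪≫ Functor.isoWhiskerRight (pullIso f) _ ≪≫
        NatIso.ofComponents (fun G => Iso.refl _) (fun φ => rfl)).symm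
  exact ⟨I.isoRightDerivedObj (EtDual.gammaSupp j) r ≪≫ (HomologicalComplex.homologyFunctor _ _ _).mapIso
    (HomologicalComplex.Hom.isoOfComponents (fun i => ψ.app (I.cocomplex.X i))
      (fun i l _ => (ψ.hom.naturality (I.cocomplex.d i l)).symm) :
        _ ≅ ((EtDual.gammaSupp j').mapHomologicalComplex (ComplexShape.up ℕ)).obj I'.cocomplex) ≪≫
    (I'.isoRightDerivedObj (EtDual.gammaSupp j') r).symm⟩

end Groth.Agent.S14454.Aux

namespace Groth.Agent.S14454

/-- Let X be a scheme, j : U ⟶ X an open immersion with closed complement Z, f : X' ⟶ X an étale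
morphism and j' : U' ⟶ X' an open immersion with image f⁻¹(U), such that f maps Z' = X' − U'
bijectively onto Z with trivial residue field extensions at the points of Z' (f restricts to an
isomorphism from (f⁻¹Z)_red onto Z_red). Then for every abelian sheaf F on the small étale site of X
and every r, the groups H^r_Z(X, F) and H^r_{Z'}(X', f⁻¹F) are isomorphic; existence of an
isomorphism only, the canonical one being restriction along f. No Noetherian hypothesis on X is
made. -/
theorem result {X X' U U' : Scheme.{u}}
    (f : X' ⟶ X) [AlgebraicGeometry.Etale f] (j : U ⟶ X) [IsOpenImmersion j]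
    (j' : U' ⟶ X') [IsOpenImmersion j']
    (hU' : Set.range j'.base = f.base ⁻¹' Set.range j.base)
    (hZ : Set.BijOn f.base (Set.range j'.base)ᶜ (Set.range j.base)ᶜ)
    (hκ : ∀ x' : ↥X', x' ∉ Set.range j'.base → Function.Surjective (f.residueFieldMap x'))
    (F : EtCoh.Ab X) (r : ℕ) :
    Nonempty ((EtDual.HY j r).obj F ≅ (EtDual.HY j' r).obj ((EtCoh.pull f).obj F)) := by
  exact Aux.main f j j' hU' hZ hκ F r

end Groth.Agent.S14454
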