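import Groth.Statements.S14457
import Groth.Agent.S16707
import Mathlib.Algebra.Module.StablyFree.Basic
import Mathlib.Data.Int.ConditionallyCompleteOrder
import Mathlib.RingTheory.Etale.StandardEtale
import Mathlib.RingTheory.LaurentSeries
import Mathlib.RingTheory.TotallySplit

set_option autoImplicit false
universe u
open CAlg

namespace Groth.Agent.S14457

open Polynomial in
/-- Let A be a commutative ring, a an element of A and n ≥ 1 an integer. The A-algebra A[T]/(T^n − a) is
etale exactly when either n = 1 or the product n·a is a unit of A. (The exponent n is a positive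
integer here; for n = 0 the quotient is (A/(1 − a))[T] and the equivalence fails.) -/
theorem result (A : Type u) [CommRing A] (a : A) (n : ℕ) (hn : 1 ≤ n) :
    Algebra.Etale A (AdjoinRoot ((X : A[X]) ^ n - C a)) ↔ n = 1 ∨ IsUnit ((n : A) * a) := by
  set f := (X : Polynomial A) ^ n - C a with hfdef
  have hfm : f.Monic := monic_X_pow_sub_C a (by omega)
  have hd : derivative f = C (n : A) * X ^ (n - 1) := by simp [f, derivative_X_pow]
  have hroot : (AdjoinRoot.root f) ^ n = algebraMap A (AdjoinRoot f) a := by
    have : aeval (AdjoinRoot.root f) f = 0 := by rw [AdjoinRoot.aeval_eq, AdjoinRoot.mk_self]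
    simpa [hfdef, sub_eq_zero] using this
  have : Module.Finite A (AdjoinRoot f) := hfm.finite_adjoinRoot
  constructor
  · intro het
    rcases subsingleton_or_nontrivial A with _ | _
    · exact Or.inr (isUnit_of_subsingleton _)
    rw [or_iff_not_imp_left]
    intro hn1
    set J : Ideal (AdjoinRoot f) := Ideal.span {AdjoinRoot.mk f (derivative f)}
    let π : Polynomial A →ₐ[A] (AdjoinRoot f ⧸ J) := (Ideal.Quotient.mkₐ A J).comp (AdjoinRoot.mkₐ f)
    have hπf : ∀ g, π (derivative (g * f)) = 0 := by
      intro g
      have h1 : π f = 0 := by simp [π]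
      have h2 : π (derivative f) = 0 := by
        exact Ideal.Quotient.eq_zero_iff_mem.mpr (Ideal.mem_span_singleton_self (AdjoinRoot.mk f (derivative f)))
      rw [derivative_mul, map_add, map_mul, map_mul, h1, h2, mul_zero, mul_zero, add_zero]
    have hunit : IsUnit (AdjoinRoot.mk f (derivative f)) := by
      rw [← Ideal.span_singleton_eq_top, ← Ideal.Quotient.subsingleton_iff, subsingleton_iff_zero_eq_one.symm]
      let d : AdjoinRoot f →ₗ[A] (AdjoinRoot f ⧸ J) :=
        Submodule.liftQ (Submodule.restrictScalars A (Ideal.span {f})) (π.toLinearMap.comp (derivative : Polynomial A →ₗ[A] Polynomial A)) (by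
          intro g hg
          obtain ⟨c, rfl⟩ := Ideal.mem_span_singleton'.mp hg
          exact hπf c) ∘ₗ (LinearMap.id : AdjoinRoot f →ₗ[A] Polynomial A ⧸ Submodule.restrictScalars A (Ideal.span {f}))
      have hdmk : ∀ g, d (AdjoinRoot.mk f g) = π (derivative g) := fun g => rfl
      let D : Derivation A (AdjoinRoot f) (AdjoinRoot f ⧸ J) := Derivation.mk' d (fun x y => by
        obtain ⟨g, rfl⟩ := AdjoinRoot.mk_surjective x
        obtain ⟨g', rfl⟩ := AdjoinRoot.mk_surjective y
        rw [← map_mul, hdmk, hdmk, hdmk, derivative_mul, map_add, map_mul, map_mul, Algebra.smul_def, Algebra.smul_def]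
        change π _ * π g' + π g * π _ = _
        simp [π]; ring)
      have : D (AdjoinRoot.mk f X) = 0 := by
        rw [← D.liftKaehlerDifferential_comp_D, Subsingleton.elim (KaehlerDifferential.D A (AdjoinRoot f) (AdjoinRoot.mk f X)) 0, map_zero]
      change d (AdjoinRoot.mk f X) = 0 at this
      rw [hdmk, derivative_X, map_one] at this
      exact this.symm
    rw [hd, map_mul, map_pow, AdjoinRoot.mk_C, AdjoinRoot.mk_X] at hunit
    have hx : IsUnit (AdjoinRoot.root f) := (isUnit_pow_iff (by omega)).mp (isUnit_of_mul_isUnit_right hunit)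
    have hu : IsUnit (algebraMap A (AdjoinRoot f) ((n : A) * a)) := by
      rw [map_mul, ← hroot]
      exact (isUnit_of_mul_isUnit_left hunit).mul (hx.pow n)
    have hinj : Function.Injective (algebraMap A (AdjoinRoot f)) := by
      rw [injective_iff_map_eq_zero]
      intro z hz
      rw [AdjoinRoot.algebraMap_eq, ← AdjoinRoot.mk_C, AdjoinRoot.mk_eq_zero] at hz
      by_contra hz0
      refine hfm.not_dvd_of_degree_lt (by simpa using hz0) ?_ hz
      rw [degree_C hz0, hfdef, degree_X_pow_sub_C (by omega)]
      exact_mod_cast (by omega : 0 < n)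
    have : IsLocalHom (algebraMap A (AdjoinRoot f)) := RingHom.IsIntegral.isLocalHom (Algebra.IsIntegral.isIntegral) hinj
    exact (isUnit_map_iff (algebraMap A (AdjoinRoot f)) _).mp hu
  · intro h
    have hunit : IsUnit (AdjoinRoot.mk f (derivative f)) := by
      rw [hd, map_mul, map_pow, AdjoinRoot.mk_C, AdjoinRoot.mk_X]
      rcases h with rfl | h
      · simp
      · rw [IsUnit.mul_iff] at h
        refine ((h.1).map _).mul (IsUnit.pow _ ?_)
        exact (isUnit_pow_iff (by omega : n ≠ 0)).mp (hroot ▸ h.2.map _)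
    obtain ⟨q, hq⟩ := AdjoinRoot.mk_surjective ((hunit.unit⁻¹ : (AdjoinRoot f)ˣ) : AdjoinRoot f)
    have h1 : AdjoinRoot.mk f (derivative f * q - 1) = 0 := by
      rw [map_sub, map_mul, hq, hunit.mul_val_inv, map_one, sub_self]
    obtain ⟨r, hr⟩ := AdjoinRoot.mk_eq_zero.mp h1
    let P : StandardEtalePair A := ⟨f, hfm, 1, q, -r, 0, by rw [pow_zero]; linear_combination hr⟩
    have h1u : IsUnit (AdjoinRoot.mk f (P.g)) := by simp [P]
    let e1 : AdjoinRoot f ≃ₐ[AdjoinRoot f] Localization.Away (AdjoinRoot.mk f P.g) :=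
      IsLocalization.atUnits (AdjoinRoot f) (Submonoid.powers (AdjoinRoot.mk f P.g)) (by
        rintro _ ⟨k, rfl⟩; exact h1u.pow k)
    exact Algebra.Etale.of_equiv (P.equivAwayAdjoinRoot.trans (e1.restrictScalars A).symm)

end Groth.Agent.S14457
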