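import Groth.Statements.S14459
import Groth.Agent.H27Zeta.ZetaBasics
import Mathlib

set_option autoImplicit false
universe u
open CategoryTheory AlgebraicGeometry
open Zeta

namespace Groth.Agent.S14459

/-- Let X be a scheme of finite type over a finite field k and (Y_i) a family of subschemes of X (closed
subschemes of open subschemes, given as immersions Y_i → X) whose closed points partition the closed
points of X: every closed point of X is in the image of exactly one Y_i. Then the zeta function of X
is the product of the zeta functions of the Y_i, viewed over k through X. (The published statement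
is for a scheme of finite type over ℤ, an arbitrary family, and the zeta functions ζ(·, s) as Euler
products; this row is the case of a scheme over a finite field and a finite family, written for Z(·,
t), t = q^(−s).) -/
theorem result {k : Type u} [Field k] [Finite k] {X : Scheme.{u}}
    (f : X ⟶ Spec (CommRingCat.of k)) [LocallyOfFiniteType f] [QuasiCompact f]
    {ι : Type u} [Fintype ι] (Y : ι → Scheme.{u}) (g : ∀ i, Y i ⟶ X) [∀ i, IsImmersion (g i)]
    (hpart : ∀ x : X, IsClosed ({x} : Set X) → ∃! i, x ∈ Set.range (g i).base) :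
    Zeta.zetaFun f = ∏ i, Zeta.zetaFun (g i ≫ f) := by
  classical
  have hlft : ∀ i, LocallyOfFiniteType (g i ≫ f) := fun i => inferInstance
  have hdeg : ∀ e : ℕ, e ≠ 0 → Zeta.degCount f e = ∑ i, Zeta.degCount (g i ≫ f) e := by
    intro e he
    rw [Groth.Agent.H27Zeta.degCount_eq f e he,
      Finset.sum_congr rfl fun i _ => Groth.Agent.H27Zeta.degCount_eq (g i ≫ f) e he]
    simp only [Groth.Agent.H27Zeta.residueDegree_comp_immersion, ← Nat.card_coe_set_eq]
    haveI : ∀ i, Finite {y : Y i | EGA4loc.residueDegree f (g i y) = e} := fun i =>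
      ((Groth.Agent.H27Zeta.finite_degCount f e he).preimage (g i).isEmbedding.injective.injOn).to_subtype
    rw [← Nat.card_sigma]
    symm
    refine Nat.card_congr (Equiv.ofBijective (fun z => ⟨g z.1 z.2.1, z.2.2⟩) ⟨?_, ?_⟩)
    · rintro ⟨i, y, hy⟩ ⟨j, y', hy'⟩ h
      have h' : g i y = g j y' := congrArg Subtype.val h
      have hcl : IsClosed ({g i y} : Set X) :=
        Groth.Agent.H27Weil.isClosed_of_finite_residueField (f := f) (g i y) (hy.trans_ne he)
      obtain rfl := (hpart _ hcl).unique ⟨y, rfl⟩ ⟨y', h'.symm⟩
      obtain rfl := (g i).isEmbedding.injective h'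
      rfl
    · rintro ⟨x, hx⟩
      obtain ⟨i, ⟨y, rfl⟩, -⟩ := hpart x
        (Groth.Agent.H27Weil.isClosed_of_finite_residueField (f := f) x (hx.trans_ne he))
      exact ⟨⟨i, y, hx⟩, rfl⟩
  have hn : ∀ m, Zeta.nPts f m = ∑ i, Zeta.nPts (g i ≫ f) m := by
    intro m
    simp only [Zeta.nPts]
    rw [Finset.sum_comm]
    exact Finset.sum_congr rfl fun e he => by rw [hdeg e (Nat.pos_of_mem_divisors he).ne', Finset.mul_sum]
  have hl : Zeta.logZeta f = ∑ i, Zeta.logZeta (g i ≫ f) := by
    ext m
    simp [Zeta.logZeta, hn, Finset.sum_div]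
  simp only [Zeta.zetaFun]
  rw [hl]
  exact Groth.Agent.H27Weil.exp_subst_sum Finset.univ (fun i => Zeta.logZeta (g i ≫ f))
    fun i _ => Groth.Agent.H27Zeta.constantCoeff_logZeta _

end Groth.Agent.S14459
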