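import Groth.Statements.S1446
import Groth.Agent.H7Flat.Chain.RelAssScheme
import Groth.Agent.H7Flat.Chain.RelAssClosure
import Mathlib

set_option autoImplicit false
universe u
open FlatMor

namespace Groth.Agent.S1446

set_option backward.isDefEq.respectTransparency false
set_option maxHeartbeats 1000000

open AlgebraicGeometry CategoryTheory Limits in
/-- Let f : X → S be locally of finite type, F a quasi-coherent O_X-module of finite type, and ξ a point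
of the relative assassin of F with closure Z. Then there is a nonempty subset V of Z, open in Z,
such that for every point x of V, if x is a generic point of an irreducible component of the fibre
of V through x then x lies in the relative assassin of F. -/
theorem result {X S : Scheme.{u}} (f : X ⟶ S) [LocallyOfFiniteType f]
    (F : X.Modules) (hF : Coh.IsCoh F) (ξ : X) (hξ : ξ ∈ MoreMor.relAss f F) :
    ∃ V : Set ↑X, V ⊆ closure {ξ} ∧ IsOpen (Subtype.val ⁻¹' V : Set ↑(closure ({ξ} : Set ↑X))) ∧ V.Nonempty ∧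
      ∀ (x : X) (hx : x ∈ V), (∃ C ∈ irreducibleComponents ↑(V ∩ f ⁻¹' {f x}), IsGenericPoint (⟨x, hx, rfl⟩ : ↑(V ∩ f ⁻¹' {f x})) C) →
        x ∈ MoreMor.relAss f F := by
  classical
  obtain ⟨V, hV, hξV, -⟩ := exists_isAffineOpen_mem_and_subset (X := S) (x := f ξ) (U := ⊤) trivial
  obtain ⟨W, hW, hξW, hWV⟩ := exists_isAffineOpen_mem_and_subset (X := X) (x := ξ) (U := f ⁻¹ᵁ V) hξV
  letI : Algebra Γ(S, V) Γ(X, W) := (f.appLE V W hWV).hom.toAlgebra
  letI : Module Γ(S, V) Γ(F, W) := Module.compHom _ (algebraMap Γ(S, V) Γ(X, W))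
  haveI : IsScalarTower Γ(S, V) Γ(X, W) Γ(F, W) := IsScalarTower.of_algebraMap_smul fun _ _ => rfl
  haveI : Algebra.FiniteType Γ(S, V) Γ(X, W) := f.finiteType_appLE hV hW hWV
  haveI : Module.Finite Γ(X, W) Γ(F, W) := @H10Coh.finite_sections _ F hF.1 hF.2 _ hW
  let p := hV.primeIdealOf ⟨f ξ, hξV⟩
  let P := hW.primeIdealOf ⟨ξ, hξW⟩
  have hl : ∀ (z : X) (hz : z ∈ W),
      (hW.primeIdealOf ⟨z, hz⟩).asIdeal.LiesOver (hV.primeIdealOf ⟨f z, hWV hz⟩).asIdeal := fun z hz =>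
    ⟨(congrArg PrimeSpectrum.asIdeal (IsAffineOpen.comap_primeIdealOf_appLE (f := f) V hV W hW hWV hz)).symm⟩
  haveI : P.asIdeal.LiesOver p.asIdeal := hl ξ hξW
  have hP := (H7Flat.Chain.RelAss.mem_relAss_iff f F hF.1 hV hW hWV ⟨ξ, hξW⟩ rfl).mp hξ
  obtain ⟨a, ha, hnear⟩ := H7Flat.Chain.exists_minimal_ass_near Γ(F, W) p.asIdeal P.asIdeal hP
  refine ⟨closure {ξ} ∩ ((W ⊓ f ⁻¹ᵁ S.basicOpen a : X.Opens) : Set X), Set.inter_subset_left, ?_,
    ⟨ξ, subset_closure rfl, hξW, (H7Flat.Chain.RelAss.exists_mem_iff hV a ⟨_, hξV⟩).mpr ha⟩, fun x hx hgen => ?_⟩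
  · rw [Set.preimage_inter]
    convert (W ⊓ f ⁻¹ᵁ S.basicOpen a : X.Opens).2.preimage continuous_subtype_val using 1
    exact Set.inter_eq_right.mpr fun z _ => z.2
  obtain ⟨hxξ, hxW, hxa⟩ := hx
  refine (H7Flat.Chain.RelAss.mem_relAss_iff f F hF.1 hV hW hWV ⟨x, hxW⟩ rfl).mpr ?_
  haveI := hl x hxW
  have hle : ∀ z : W, (P.asIdeal ≤ (hW.primeIdealOf z).asIdeal ↔ z.1 ∈ closure ({ξ} : Set X)) := fun z => by
    show P ≤ hW.primeIdealOf z ↔ _
    rw [← specializes_iff_mem_closure, PrimeSpectrum.le_iff_specializes,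
      ← hW.fromSpec.isOpenEmbedding.isEmbedding.specializes_iff, hW.fromSpec_primeIdealOf,
      hW.fromSpec_primeIdealOf]
  refine hnear _ _ ((H7Flat.Chain.RelAss.exists_mem_iff hV a ⟨_, hWV hxW⟩).mp hxa) ((hle ⟨x, hxW⟩).mpr hxξ)
    fun Q' hQ' hQt hPQ' hQ'Q => ?_
  -- a point of the fibre above
  let z : W := ⟨hW.fromSpec ⟨Q', hQ'⟩, by
    have : hW.fromSpec ⟨Q', hQ'⟩ ∈ Set.range hW.fromSpec := ⟨_, rfl⟩
    rwa [hW.range_fromSpec] at this⟩
  have hz : hW.primeIdealOf z = ⟨Q', hQ'⟩ :=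
    hW.fromSpec.isOpenEmbedding.injective (hW.fromSpec_primeIdealOf z)
  have hfz : f z.1 = f x := by
    have h1 : hV.primeIdealOf ⟨f z.1, hWV z.2⟩ = hV.primeIdealOf ⟨f x, hWV hxW⟩ := by
      rw [← IsAffineOpen.comap_primeIdealOf_appLE (f := f) V hV W hW hWV z.2, hz]
      exact PrimeSpectrum.ext hQt.over.symm
    have h2 := congrArg hV.fromSpec h1
    rwa [hV.fromSpec_primeIdealOf, hV.fromSpec_primeIdealOf] at h2
  have hzx : z.1 ⤳ x := by
    have h2 := Specializes.map ((PrimeSpectrum.le_iff_specializes ⟨Q', hQ'⟩ (hW.primeIdealOf ⟨x, hxW⟩)).mp hQ'Q)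
      hW.fromSpec.continuous
    rwa [← hz, hW.fromSpec_primeIdealOf, hW.fromSpec_primeIdealOf] at h2
  have hzξ : z.1 ∈ closure ({ξ} : Set X) := (hle z).mp (by rw [hz]; exact hPQ')
  obtain ⟨C, hC, hCx⟩ := hgen
  let x' : ↑((closure {ξ} ∩ ((W ⊓ f ⁻¹ᵁ S.basicOpen a : X.Opens) : Set X)) ∩ f ⁻¹' {f x}) :=
    ⟨x, ⟨hxξ, hxW, hxa⟩, rfl⟩
  let z' : ↑((closure {ξ} ∩ ((W ⊓ f ⁻¹ᵁ S.basicOpen a : X.Opens) : Set X)) ∩ f ⁻¹' {f x}) :=
    ⟨z.1, ⟨hzξ, z.2, show f z.1 ∈ S.basicOpen a from hfz ▸ hxa⟩, hfz⟩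
  have hzx' : z' ⤳ x' := (subtype_specializes_iff z' x').mpr hzx
  have hCz : C ⊆ closure {z'} := by
    rw [← hCx.def]
    exact closure_minimal (Set.singleton_subset_iff.mpr hzx'.mem_closure) isClosed_closure
  have hzC : z' ∈ C := hC.2 isIrreducible_singleton.closure hCz (subset_closure rfl)
  have hxz : x' ⤳ z' := hCx.specializes hzC
  have hxz0 : x ⤳ z.1 := (subtype_specializes_iff x' z').mp hxz
  have hzeq : z.1 = x := (hzx.antisymm hxz0).eq
  have h3 : hW.primeIdealOf z = hW.primeIdealOf ⟨x, hxW⟩ := congrArg _ (Subtype.ext hzeq)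
  rw [← h3, hz]

end Groth.Agent.S1446
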