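import Groth.Statements.S14460
import Groth.Agent.H18Et.FEtGalois
import Mathlib.AlgebraicGeometry.Limits
import Mathlib.FieldTheory.IsAlgClosed.AlgebraicClosure

set_option autoImplicit false
universe u
open CategoryTheory CategoryTheory.Limits AlgebraicGeometry
open Pi1

namespace Groth.Agent.S14460

/-- Let Y → X be finite étale with Y nonempty and all geometric fibres of the same cardinality n, and
let a finite group G act on Y over X without fixed points (no point of Y with values in a field is
fixed by a non-identity element). Then G has at most n elements, and it has exactly n elements if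
and only if the morphism from the disjoint union of copies of Y indexed by G to Y ×_X Y, given on
the copy indexed by g by the identity and g, is an isomorphism. (For Y empty the bound fails, since
every finite group acts without fixed points on the empty cover, whose fibres have cardinality 0;
this row assumes Y nonempty.) -/
theorem result {X : Scheme.{u}} (Y : FEt.Cat X)
    [Nonempty ↥Y.left] (n : ℕ)
    (hn : ∀ (Ω : Type u) [Field Ω] [IsSepClosed Ω] (ξ : Spec (CommRingCat.of Ω) ⟶ X), Nat.card (FEt.fiberObj ξ Y) = n)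
    (G : Type u) [Group G] [Finite G] (ρ : G →* Aut Y)
    (hfree : ∀ g : G, g ≠ 1 → ∀ (K : Type u) [Field K] (y : Spec (CommRingCat.of K) ⟶ Y.left),
      y ≫ (ρ g).hom.left ≠ y) :
    Nat.card G ≤ n ∧
      (Nat.card G = n ↔ IsIso (Limits.Sigma.desc fun g : G =>
        pullback.lift (𝟙 Y.left) (ρ g).hom.left
          ((Category.id_comp Y.hom).trans (Over.w (ρ g).hom.hom).symm) : (∐ fun _ : G => Y.left) ⟶ pullback Y.hom Y.hom)) := by
  classical
  haveI hfY : IsFinite Y.hom := Y.prop.1
  haveI heY : Etale Y.hom := Y.prop.2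
  let α : G → (Y.left ⟶ Y.left) := fun g => (ρ g).hom.left
  have hαw : ∀ g, α g ≫ Y.hom = Y.hom := fun g => Over.w (ρ g).hom.hom
  have hαmul : ∀ g h, α (g * h) = α h ≫ α g := fun g h => by
    show (ρ (g * h)).hom.left = _
    rw [map_mul]
    rfl
  have hα1 : α 1 = 𝟙 Y.left := by
    show (ρ 1).hom.left = _
    rw [map_one]
    rfl
  have hinj : ∀ (K : Type u) [Field K] (y : Spec (CommRingCat.of K) ⟶ Y.left) (g h : G),
      y ≫ α g = y ≫ α h → g = h := by
    intro K _ y g h e
    by_contra hgh
    refine hfree (h⁻¹ * g) (fun e1 => hgh (inv_mul_eq_one.mp e1).symm) K y ?_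
    show y ≫ α (h⁻¹ * g) = y
    rw [hαmul, ← Category.assoc, e, Category.assoc, ← hαmul, inv_mul_cancel, hα1, Category.comp_id]
  let orbit : ∀ (Ω : Type u) [Field Ω] (y : Spec (CommRingCat.of Ω) ⟶ Y.left),
      G → FEt.fiberObj (y ≫ Y.hom) Y := fun Ω _ y g =>
    ⟨y ≫ α g, by rw [Category.assoc, hαw]⟩
  have horb : ∀ (Ω : Type u) [Field Ω] (y : Spec (CommRingCat.of Ω) ⟶ Y.left),
      Function.Injective (orbit Ω y) := fun Ω _ y g h e =>
    hinj Ω y g h (congrArg Subtype.val e)
  have hle : Nat.card G ≤ n := by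
    obtain ⟨p⟩ := (inferInstance : Nonempty ↥Y.left)
    let Ω := AlgebraicClosure (Y.left.residueField p)
    let y : Spec (CommRingCat.of Ω) ⟶ Y.left :=
      Spec.map (CommRingCat.ofHom (algebraMap (Y.left.residueField p) Ω)) ≫
        Y.left.fromSpecResidueField p
    haveI := Groth.Agent.H18Et.FEtGalois.finite_fiberObj (y ≫ Y.hom) Y
    exact (Nat.card_le_card_of_injective _ (horb Ω y)).trans_eq (hn Ω _)
  refine ⟨hle, ?_⟩
  let c : G → (Y.left ⟶ pullback Y.hom Y.hom) := fun g =>
    pullback.lift (𝟙 Y.left) (α g) ((Category.id_comp Y.hom).trans (hαw g).symm)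
  have hc1 : ∀ g, c g ≫ pullback.fst Y.hom Y.hom = 𝟙 Y.left := fun g => pullback.lift_fst _ _ _
  have hc2 : ∀ g, c g ≫ pullback.snd Y.hom Y.hom = α g := fun g => pullback.lift_snd _ _ _
  constructor
  · intro hcard
    haveI : ∀ g, IsOpenImmersion (c g) := fun g => by
      haveI : IsSplitMono (c g) := IsSplitMono.mk' ⟨pullback.fst Y.hom Y.hom, hc1 g⟩
      haveI : Etale (c g) := by
        refine MorphismProperty.of_postcomp (W := @Etale) (W' := @Etale) (c g)
          (pullback.fst Y.hom Y.hom) inferInstance ?_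
        rw [hc1 g]
        infer_instance
      exact IsOpenImmersion.of_flat_of_mono (c g)
    change IsIso (Limits.Sigma.desc c)
    haveI : IsOpenImmersion (Limits.Sigma.desc c) := by
      refine isOpenImmersion_sigmaDesc _ c fun g h hgh => Set.disjoint_iff_forall_ne.mpr ?_
      rintro _ ⟨a, rfl⟩ _ ⟨b, rfl⟩ e
      have hab : a = b := by
        have e2 := congrArg (pullback.fst Y.hom Y.hom) e
        rw [← Scheme.Hom.comp_apply, ← Scheme.Hom.comp_apply, hc1, hc1] at e2
        simpa using e2
      subst hab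
      let Ω := AlgebraicClosure ((pullback Y.hom Y.hom).residueField (c g a))
      let s : Spec (CommRingCat.of Ω) ⟶ pullback Y.hom Y.hom :=
        Spec.map (CommRingCat.ofHom (algebraMap ((pullback Y.hom Y.hom).residueField (c g a)) Ω)) ≫
          (pullback Y.hom Y.hom).fromSpecResidueField (c g a)
      have hs : Set.range s ⊆ {c g a} := by
        rintro _ ⟨x, rfl⟩
        simp only [Set.mem_singleton_iff, s, Scheme.Hom.comp_apply]
        exact (pullback Y.hom Y.hom).fromSpecResidueField_apply _ _
      have hlift : ∀ k : G, c g a ∈ Set.range (c k) → ∃ y, s = y ≫ c k := fun k hk =>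
        ⟨IsOpenImmersion.lift (c k) s (hs.trans (Set.singleton_subset_iff.mpr hk)),
          (IsOpenImmersion.lift_fac _ _ _).symm⟩
      obtain ⟨y, hy⟩ := hlift g ⟨a, rfl⟩
      obtain ⟨y', hy'⟩ := hlift h ⟨a, e.symm⟩
      have hyy : y = y' := by
        have := congrArg (· ≫ pullback.fst Y.hom Y.hom) (hy.symm.trans hy')
        simpa [Category.assoc, hc1] using this
      subst hyy
      have := congrArg (· ≫ pullback.snd Y.hom Y.hom) (hy.symm.trans hy')
      simp only [Category.assoc, hc2] at this
      exact hgh (hinj Ω y g h this)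
    rw [isIso_iff_isOpenImmersion_and_surjective]
    refine ⟨inferInstance, Surjective.sigmaDesc_of_union_range_eq_univ (Set.eq_univ_of_forall fun z => ?_)⟩
    let Ω := AlgebraicClosure ((pullback Y.hom Y.hom).residueField z)
    let s : Spec (CommRingCat.of Ω) ⟶ pullback Y.hom Y.hom :=
      Spec.map (CommRingCat.ofHom (algebraMap ((pullback Y.hom Y.hom).residueField z) Ω)) ≫
        (pullback Y.hom Y.hom).fromSpecResidueField z
    haveI := Groth.Agent.H18Et.FEtGalois.finite_fiberObj ((s ≫ pullback.fst Y.hom Y.hom) ≫ Y.hom) Y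
    have hb : Function.Bijective (orbit Ω (s ≫ pullback.fst Y.hom Y.hom)) :=
      (Nat.bijective_iff_injective_and_card _).mpr ⟨horb Ω _, hcard.trans (hn Ω _).symm⟩
    obtain ⟨g, hg⟩ := hb.2 ⟨s ≫ pullback.snd Y.hom Y.hom, by
      simp [Category.assoc, pullback.condition]⟩
    have hs : s = (s ≫ pullback.fst Y.hom Y.hom) ≫ c g := by
      apply pullback.hom_ext
      · rw [Category.assoc _ (c g), hc1, Category.comp_id]
      · rw [Category.assoc _ (c g), hc2]
        exact (congrArg Subtype.val hg).symm
    obtain ⟨x⟩ := (inferInstance : Nonempty (Spec (CommRingCat.of Ω)))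
    refine Set.mem_iUnion.mpr ⟨g, (s ≫ pullback.fst Y.hom Y.hom) x, ?_⟩
    rw [← Scheme.Hom.comp_apply, ← hs]
    simp only [s, Scheme.Hom.comp_apply]
    exact (pullback Y.hom Y.hom).fromSpecResidueField_apply _ _
  · intro hiso
    haveI : IsIso (Limits.Sigma.desc c) := hiso
    obtain ⟨p⟩ := (inferInstance : Nonempty ↥Y.left)
    let Ω := AlgebraicClosure (Y.left.residueField p)
    let y : Spec (CommRingCat.of Ω) ⟶ Y.left :=
      Spec.map (CommRingCat.ofHom (algebraMap (Y.left.residueField p) Ω)) ≫
        Y.left.fromSpecResidueField p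
    haveI := Groth.Agent.H18Et.FEtGalois.finite_fiberObj (y ≫ Y.hom) Y
    refine le_antisymm hle ((hn Ω (y ≫ Y.hom)).symm.trans_le ?_)
    refine Nat.card_le_card_of_surjective (orbit Ω y) fun s => ?_
    let w : Spec (CommRingCat.of Ω) ⟶ pullback Y.hom Y.hom := pullback.lift y s.1 s.2.symm
    let v : Spec (CommRingCat.of Ω) ⟶ ∐ fun _ : G => Y.left := w ≫ inv (Limits.Sigma.desc c)
    obtain ⟨x⟩ := (inferInstance : Nonempty (Spec (CommRingCat.of Ω)))
    obtain ⟨⟨g, b⟩, hb⟩ := (sigmaMk fun _ : G => Y.left).surjective (v x)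
    rw [sigmaMk_mk] at hb
    have hr : Set.range v ⊆ Set.range (Limits.Sigma.ι (fun _ : G => Y.left) g) := by
      rintro _ ⟨x', rfl⟩
      obtain rfl : x' = x := Subsingleton.elim _ _
      exact ⟨b, hb⟩
    haveI : IsOpenImmersion (Limits.Sigma.ι (fun _ : G => Y.left) g) := inferInstance
    let y' := IsOpenImmersion.lift _ v hr
    have hy' : y' ≫ c g = w := by
      rw [← Limits.Sigma.ι_desc c g, ← Category.assoc, IsOpenImmersion.lift_fac]
      simp [v]
    have h1 : y' = y := by
      have := congrArg (· ≫ pullback.fst Y.hom Y.hom) hy'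
      simp only [Category.assoc, hc1, Category.comp_id] at this
      exact this.trans (pullback.lift_fst _ _ _)
    refine ⟨g, Subtype.ext ?_⟩
    have := congrArg (· ≫ pullback.snd Y.hom Y.hom) hy'
    simp only [Category.assoc, hc2, h1] at this
    exact this.trans (pullback.lift_snd _ _ _)

end Groth.Agent.S14460
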