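import Groth.Statements.S14464
import Groth.Agent.H18QFPush.Main

set_option autoImplicit false
universe u
open CategoryTheory CategoryTheory.Limits AlgebraicGeometry Opposite
open EtPBC

namespace Groth.Agent.S14464

/-- Let X be a Noetherian scheme whose affine opens have universally Japanese coordinate rings, q : Y →
X a quasi-compact quasi-finite morphism locally of finite type, and F a constructible abelian étale
sheaf on Y. Then q_* F is constructible. -/
theorem result {X Y : Scheme.{u}} [IsNoetherian X]
    (hX : ∀ U : X.Opens, IsAffineOpen U → CAlg.IsUniversallyJapanese Γ(X, U))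
    (q : Y ⟶ X) [LocallyQuasiFinite q] [LocallyOfFiniteType q] [QuasiCompact q]
    (F : EtCoh.Ab Y) (hF : EtPBC.IsConstructible F) :
    EtPBC.IsConstructible ((EtCoh.push q).obj F) := by
  haveI hN : H18QFPush.IsNagataScheme X := fun U => by
    haveI := IsLocallyNoetherian.component_noetherian U
    exact H18QFPush.isNagata_of_japanese (hX U.1 U.2)
  exact H18QFPush.isConstructible_push hN q F hF

end Groth.Agent.S14464
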