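import Groth.Statements.S14468
import Groth.Agent.H06NodeDer.Main

set_option autoImplicit false
universe u
open CategoryTheory CategoryTheory.Limits AlgebraicGeometry
open Curves

namespace Groth.Agent.S14468

theorem pure_of_connected {X : Scheme.{u}} [AlgebraicGeometry.IsNoetherian X] [ConnectedSpace X]
    (hdim : topologicalKrullDim X = 1) :
    ∀ Z ∈ irreducibleComponents (X : Type u), topologicalKrullDim Z = 1 := by
  intro Z hZ
  refine le_antisymm ((topologicalKrullDim_subspace_le X Z).trans hdim.le) ?_
  by_contra hlt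
  rw [not_le] at hlt
  have hZc : IsClosed Z := isClosed_of_mem_irreducibleComponents Z hZ
  have hZi : IsIrreducible Z := hZ.1
  -- every point of `Z` is all of `Z`
  have key : ∀ a b : Z, (b : X) ∈ closure ({(a : X)} : Set X) → (a : X) ∈ closure ({(b : X)} : Set X) := by
    intro a b hab
    by_contra hc
    let ca : TopologicalSpace.IrreducibleCloseds Z :=
      ⟨closure {a}, isIrreducible_singleton.closure, isClosed_closure⟩
    let cb : TopologicalSpace.IrreducibleCloseds Z :=
      ⟨closure {b}, isIrreducible_singleton.closure, isClosed_closure⟩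
    have hsub : b ∈ closure ({a} : Set Z) := by
      rw [closure_subtype, Set.image_singleton]; exact hab
    have h : cb < ca := by
      refine lt_of_le_of_ne (closure_minimal (Set.singleton_subset_iff.mpr hsub) isClosed_closure) fun he => hc ?_
      have h1 : a ∈ closure ({b} : Set Z) :=
        (congrArg TopologicalSpace.IrreducibleCloseds.carrier he).ge (subset_closure rfl)
      rwa [closure_subtype, Set.image_singleton] at h1
    let l : LTSeries (TopologicalSpace.IrreducibleCloseds Z) := (RelSeries.singleton _ cb).snoc ca (by simpa using h)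
    have h1 : (1 : WithBot ℕ∞) ≤ topologicalKrullDim Z :=
      le_trans (by simp [l]) (Order.LTSeries.length_le_krullDim l)
    exact absurd h1 (not_le.mpr hlt)
  obtain ⟨z, hz⟩ := QuasiSober.sober hZi hZc
  have hzZ : z ∈ Z := hz.mem
  have hsingle : Z = {z} := by
    refine Set.eq_singleton_iff_unique_mem.mpr ⟨hzZ, fun y hy => ?_⟩
    have h1 : z ∈ closure ({y} : Set X) := key ⟨z, hzZ⟩ ⟨y, hy⟩ (hz.def.ge hy)
    exact (Specializes.antisymm (specializes_iff_mem_closure.mpr h1)
      (specializes_iff_mem_closure.mpr (hz.def.ge hy))).eq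
  let C := ⋃ W ∈ irreducibleComponents (X : Type u) \ {Z}, W
  have hCc : IsClosed C := (TopologicalSpace.NoetherianSpace.finite_irreducibleComponents.subset
    Set.sdiff_subset).isClosed_biUnion fun W hW => isClosed_of_mem_irreducibleComponents W hW.1
  have hzC : z ∉ C := fun h => by
    obtain ⟨W, hW, hzW⟩ := Set.mem_iUnion₂.mp h
    have hle : Z ⊆ W := by rw [hsingle]; exact Set.singleton_subset_iff.mpr hzW
    exact hW.2 (Set.Subset.antisymm (hZ.2 hW.1.1 hle) hle)
  have hcompl : Cᶜ = {z} := by
    refine Set.eq_singleton_iff_unique_mem.mpr ⟨hzC, fun y hy => ?_⟩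
    obtain ⟨W, hW, hyW⟩ := Set.mem_sUnion.mp ((sUnion_irreducibleComponents (X := X)).ge (Set.mem_univ y))
    by_cases hWZ : W = Z
    · rw [hWZ, hsingle] at hyW; exact hyW
    · exact absurd (Set.mem_biUnion (show W ∈ irreducibleComponents (X : Type u) \ {Z} from ⟨hW, hWZ⟩) hyW) hy
  have hclopen : IsClopen ({z} : Set X) := ⟨hsingle ▸ hZc, hcompl ▸ hCc.isOpen_compl⟩
  have huniv : ({z} : Set X) = Set.univ := hclopen.eq_univ (Set.singleton_nonempty z)
  have hdim' : topologicalKrullDim X = topologicalKrullDim (Set.univ : Set X) :=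
    (IsHomeomorph.topologicalKrullDim_eq _ (Homeomorph.Set.univ X).isHomeomorph).symm
  rw [← huniv, ← hsingle] at hdim'
  rw [← hdim', hdim] at hlt
  exact lt_irrefl _ hlt

/-- Let k be an algebraically closed field and X a proper connected k-scheme of dimension one with
at-worst-nodal singularities; let ν : X' → X be a finite morphism from a normal scheme which is an
isomorphism over a dense open subset of X with dense preimage (the normalization of X). A
k-derivation D' of O_{X'} into itself is said to fix the point x' when, for every open W containing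
x' and every function t on W whose germ at x' lies in the maximal ideal, the germ of D'(t) at x'
again lies in the maximal ideal. Then the k-derivations of O_X into itself correspond exactly to the
k-derivations of O_{X'} into itself fixing every point of X' over a node of X: (1) for every
k-derivation D of O_X there is exactly one k-derivation D' of O_{X'} with D'(ν♯ s) = ν♯(D s) for all
opens V of X and all s in O_X(V), and this D' fixes every point of X' mapping to a node of X; (2)
every k-derivation D' of O_{X'} which fixes all points mapping to nodes of X satisfies D'(ν♯ s) =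
ν♯(D s) for some k-derivation D of O_X. -/
theorem result (k : Type u) [Field k] [IsAlgClosed k]
    (X : Scheme.{u}) [X.Over (Spec (CommRingCat.of k))] [IsProper (X ↘ (Spec (CommRingCat.of k)))] [ConnectedSpace X]
    (hdim : topologicalKrullDim X = 1) (hX : Curv2.AtWorstNodal k X)
    (X' : Scheme.{u}) (ν : X' ⟶ X) [IsFinite ν] (hX' : Pi1.IsNormalScheme X')
    (U : X.Opens) (hU : Dense (U : Set X)) (hU' : Dense ((ν ⁻¹ᵁ U : X'.Opens) : Set X')) (hνU : IsIso (ν ∣_ U)) :
    (∀ D : OmegaSh.Der (X ↘ (Spec (CommRingCat.of k))) (Coh.structureModule X),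
      ∃ D' : OmegaSh.Der (ν ≫ (X ↘ (Spec (CommRingCat.of k)))) (Coh.structureModule X'),
        (∀ (V : X.Opens) (s : Γ(X, V)),
          OmegaSh.fnSect X' (ν ⁻¹ᵁ V) (D'.app (ν ⁻¹ᵁ V) (ν.app V s)) = ν.app V (OmegaSh.fnSect X V (D.app V s))) ∧
        (∀ D'' : OmegaSh.Der (ν ≫ (X ↘ (Spec (CommRingCat.of k)))) (Coh.structureModule X'),
          (∀ (V : X.Opens) (s : Γ(X, V)),
            OmegaSh.fnSect X' (ν ⁻¹ᵁ V) (D''.app (ν ⁻¹ᵁ V) (ν.app V s)) = ν.app V (OmegaSh.fnSect X V (D.app V s))) →
          D'' = D') ∧
        (∀ x' : X', Curv2.IsNode k X (ν x') →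
          ∀ (W : X'.Opens) (hx : x' ∈ W) (t : Γ(X', W)),
            X'.presheaf.germ W x' hx t ∈ IsLocalRing.maximalIdeal (X'.presheaf.stalk x') →
            X'.presheaf.germ W x' hx (OmegaSh.fnSect X' W (D'.app W t)) ∈ IsLocalRing.maximalIdeal (X'.presheaf.stalk x'))) ∧
    (∀ D' : OmegaSh.Der (ν ≫ (X ↘ (Spec (CommRingCat.of k)))) (Coh.structureModule X'),
      (∀ x' : X', Curv2.IsNode k X (ν x') →
        ∀ (W : X'.Opens) (hx : x' ∈ W) (t : Γ(X', W)),
          X'.presheaf.germ W x' hx t ∈ IsLocalRing.maximalIdeal (X'.presheaf.stalk x') →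
          X'.presheaf.germ W x' hx (OmegaSh.fnSect X' W (D'.app W t)) ∈ IsLocalRing.maximalIdeal (X'.presheaf.stalk x')) →
      ∃ D : OmegaSh.Der (X ↘ (Spec (CommRingCat.of k))) (Coh.structureModule X),
        ∀ (V : X.Opens) (s : Γ(X, V)),
          OmegaSh.fnSect X' (ν ⁻¹ᵁ V) (D'.app (ν ⁻¹ᵁ V) (ν.app V s)) = ν.app V (OmegaSh.fnSect X V (D.app V s))) := by
  haveI : IsLocallyNoetherian X := LocallyOfFiniteType.isLocallyNoetherian (X ↘ (Spec (CommRingCat.of k)))
  haveI : AlgebraicGeometry.IsNoetherian X := { toCompactSpace := QuasiCompact.compactSpace_of_compactSpace (X ↘ (Spec (CommRingCat.of k))) }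
  haveI : IsReduced X := H06NormCurve.isReduced_of_atWorstNodal (k := k) hX
  have hpure := pure_of_connected hdim
  haveI : IsReduced X' := H06NormCurve.isReduced_of_isNormalScheme hX'
  refine ⟨fun D => ?_, fun D' hfix => ?_⟩
  · obtain ⟨D', hD', huniq⟩ := H06NodeDer.exists_der (D := D) ν hνU hU'
      (H06NodeDer.exists_ext_chart k hX hpure ν hX' hU hU' hνU D)
    exact ⟨D', hD', huniq, fun x' hx' W hx t _ =>
      H06NodeDer.germ_mem k hX hpure ν hX' hU hU' hνU D D' hD' x' hx' W hx t⟩
  · exact H06NodeDer.exists_descent k hX hpure ν hX' hU hU' hνU D' hfix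

end Groth.Agent.S14468
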