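-- statement FlatMor.GrothFrozen.S1447 (Groth/Statements/S1447.lean; the theorem FlatMor.stratification_by_fibre_degree_of_bounded_flat_quasiFinite);
import Groth.Statements.S1447
import Groth.Agent.H7Flat.FibreDegree

set_option autoImplicit false
universe u
open FlatMor

namespace Groth.Agent.S1447
set_option backward.isDefEq.respectTransparency false

open AlgebraicGeometry CategoryTheory Limits in
/-- For a separated, flat, locally quasi-finite morphism f : X → S which is locally of finite
presentation, assume the fibres of f over all field-valued points have rank (of their ring of global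
functions) at most n. Then there is a function deg : S → ℕ bounded by n with every sublevel set {deg
≤ r} closed (equivalently a chain of closed subsets ∅ ⊂ Z_0 ⊂ ... ⊂ Z_n = S with strata {deg = r})
such that for every morphism g : T → S and every r, deg ∘ g is constant with value r exactly when
the base change of f along g is finite locally free of degree r. -/
theorem result {X S : Scheme.{u}} (f : X ⟶ S) [Flat f] [LocallyOfFinitePresentation f] [IsSeparated f] [LocallyQuasiFinite f]
    (n : ℕ) (hn : ∀ (K : Type u) [Field K] (g : Spec (CommRingCat.of K) ⟶ S), (letI := ((Scheme.ΓSpecIso (CommRingCat.of K)).inv ≫ (pullback.snd f g).appTop).hom.toAlgebra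
        Module.rank K (Γ(pullback f g, ⊤) : Type u)) ≤ (n : Cardinal.{u})) :
    ∃ deg : ↑S → ℕ, (∀ s, deg s ≤ n) ∧ (∀ r : ℕ, IsClosed {s : ↑S | deg s ≤ r}) ∧
      ∀ (T : Scheme.{u}) (g : T ⟶ S) (r : ℕ), Mor2.IsFinLocFreeOfDeg r (pullback.snd f g) ↔ ∀ t : T, deg (g t) = r := by
  have hfin : ∀ t : ↑S, (⇑f ⁻¹' {t}).Finite := fun t =>
    H7Flat.FibreDegree.finite_of_rk_le f t n (hn _ (S.fromSpecResidueField t))
  have hff : ∀ t, IsFinite (f.fiberToSpecResidueField t) := fun t => H13AlgSp.Degree.isFinite_fiber f t (hfin t)
  refine ⟨H13AlgSp.Degree.deg f, fun s => ?_, fun r => ?_, fun T g r => ?_⟩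
  · have h := hn _ (S.fromSpecResidueField s)
    haveI := hff s
    have h2 := H7Flat.FibreDegree.rk_eq_finrank (f.fiberToSpecResidueField s) (IsLocalRing.closedPoint _)
    exact Nat.cast_le.1 (h2.symm.le.trans h)
  · rw [← isOpen_compl_iff]
    convert! H13AlgSp.Degree.isOpen_le_deg f hfin (r + 1) using 1
    ext s
    simp
  · rw [H13AlgSp.Degree.isFinLocFreeOfDeg_iff (pullback.snd f g) ?_ r]
    · refine forall_congr' fun t => ?_
      rw [H13AlgSp.Degree.deg_baseChange f (IsPullback.of_hasPullback f g) t (hff _)]
    · intro t
      haveI : IsFinite ((pullback.snd f g).fiberToSpecResidueField t) := MorphismProperty.of_isPullback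
        (isPullback_fiberToSpecResidueField_of_isPullback (IsPullback.of_hasPullback f g) t) (hff _)
      have h1 := ((pullback.snd f g).fiberToSpecResidueField t).finite_preimage (s := Set.univ) Set.finite_univ
      rw [← Scheme.Hom.range_fiberι]
      rw [Set.preimage_univ] at h1
      rw [← Set.image_univ]
      exact h1.image _

end Groth.Agent.S1447
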