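import Groth.Statements.S14471
import Groth.Agent.H29DoubleCover.Ramification
import Groth.Agent.H29RR.Sections
import Groth.Agent.H28Mero.Gen

set_option autoImplicit false
universe u
open CategoryTheory CategoryTheory.Limits AlgebraicGeometry
open Curves

namespace Groth.Agent.S14471

open IsLocalRing in
/-- A finite-dimensional space of functions on a discrete valuation ring with rational residue field has as many
orders as its dimension. -/
theorem ncard_orders {k R : Type u} [Field k] [CommRing R] [IsDomain R] [IsDiscreteValuationRing R] [Algebra k R]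
    (hres : ∀ b : R, ∃ c : k, b - algebraMap k R c ∈ maximalIdeal R) :
    ∀ (n : ℕ) (W : Submodule k R), Module.Finite k W → Module.finrank k W = n →
      ∃ S : Finset ℕ, S.card = n ∧ (fun x : R => Module.length R (R ⧸ Ideal.span {x})) '' {x | x ∈ W ∧ x ≠ 0} =
        (Nat.cast : ℕ → ℕ∞) '' (S : Set ℕ) := by
  classical
  obtain ⟨π, hπ⟩ := IsDiscreteValuationRing.exists_irreducible R
  have hm : maximalIdeal R = Ideal.span {π} := hπ.maximalIdeal_eq
  have hlen : ∀ (u : R) (j : ℕ), IsUnit u → Module.length R (R ⧸ Ideal.span {u * π ^ j}) = j := fun u j hu => by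
    rw [Ideal.span_singleton_mul_left_unit hu, ← Ideal.span_singleton_pow, ← hm]
    exact IsDiscreteValuationRing.length_quotient_pow_maximalIdeal _ j
  intro n
  induction n with
  | zero =>
    intro W _ hn
    refine ⟨∅, rfl, ?_⟩
    rw [Submodule.finrank_eq_zero.1 hn]
    simp
  | succ n ih =>
    intro W _ hn
    have hex : ∃ j : ℕ, ∃ x ∈ W, ∃ u : R, IsUnit u ∧ x = u * π ^ j := by
      obtain ⟨x, hx, hx0⟩ := W.exists_mem_ne_zero_of_ne_bot (fun h => by rw [h, finrank_bot] at hn; omega)
      obtain ⟨j, u, hu⟩ := IsDiscreteValuationRing.eq_unit_mul_pow_irreducible hx0 hπ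
      exact ⟨j, x, hx, u, u.isUnit, hu⟩
    let m := Nat.find hex
    obtain ⟨x₀, hx₀, u₀, hu₀, hxu⟩ := Nat.find_spec hex
    have hle : ∀ x ∈ W, x ∈ Ideal.span {π ^ m} := fun x hx => by
      by_cases hx0 : x = 0
      · rw [hx0]; exact zero_mem _
      obtain ⟨j, u, hu⟩ := IsDiscreteValuationRing.eq_unit_mul_pow_irreducible hx0 hπ
      have := Nat.find_min' hex ⟨x, hx, u, u.isUnit, hu⟩
      exact Ideal.mem_span_singleton.2 (hu ▸ Dvd.dvd.mul_left (pow_dvd_pow π this) _)
    let J : Submodule k R := (Ideal.span {π ^ (m + 1)} : Ideal R).restrictScalars k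
    let W' : Submodule k R := W ⊓ J
    have hmem : ∀ {x : R}, x ∈ W' ↔ x ∈ W ∧ x ∈ Ideal.span {π ^ (m + 1)} := fun {x} => Iff.rfl
    haveI : Module.Finite k W' := Submodule.finiteDimensional_of_le inf_le_left
    have hsup : W = W' ⊔ k ∙ x₀ := by
      refine le_antisymm (fun x hx => ?_) (sup_le inf_le_left ((Submodule.span_singleton_le_iff_mem _ _).2 hx₀))
      obtain ⟨a, ha⟩ := Ideal.mem_span_singleton'.1 (hle x hx)
      obtain ⟨c, hc⟩ := hres (a * ↑(hu₀.unit⁻¹ : Rˣ))
      refine Submodule.mem_sup.2 ⟨x - c • x₀, hmem.2 ⟨sub_mem hx (W.smul_mem c hx₀), ?_⟩, c • x₀,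
        Submodule.smul_mem _ _ (Submodule.mem_span_singleton_self _), sub_add_cancel _ _⟩
      have e : x - c • x₀ = (a * ↑(hu₀.unit⁻¹ : Rˣ) - algebraMap k R c) * u₀ * π ^ m := by
        rw [← ha, hxu, Algebra.smul_def, sub_mul, sub_mul, mul_assoc a, IsUnit.val_inv_mul, mul_one,
          mul_assoc (algebraMap k R c)]
      rw [hm, Ideal.mem_span_singleton] at hc
      rw [Ideal.mem_span_singleton, e, pow_succ']
      exact mul_dvd_mul (hc.mul_right _) dvd_rfl
    have hnot : x₀ ∉ W' := fun h => by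
      obtain ⟨a, ha⟩ := Ideal.mem_span_singleton'.1 (hmem.1 h).2
      rw [hxu, pow_succ', ← mul_assoc] at ha
      have h1 : a * π = u₀ := mul_right_cancel₀ (pow_ne_zero _ hπ.ne_zero) ha
      exact hπ.not_isUnit (isUnit_of_mul_isUnit_right (h1 ▸ hu₀))
    have hn' : Module.finrank k W' = n := by
      have h0 : x₀ ≠ 0 := fun h => hnot (h ▸ zero_mem _)
      have h1 := Submodule.finrank_sup_add_finrank_inf_eq W' (k ∙ x₀)
      rw [disjoint_iff.1 ((Submodule.disjoint_span_singleton' h0).2 hnot), finrank_bot,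
        finrank_span_singleton h0, ← hsup, hn] at h1
      omega
    obtain ⟨S, hS, himg⟩ := ih W' inferInstance hn'
    have hgt : m ∉ S := fun hmS => by
      obtain ⟨y, hy, hylen⟩ : (m : ℕ∞) ∈ (fun x : R => Module.length R (R ⧸ Ideal.span {x})) '' {x | x ∈ W' ∧ x ≠ 0} :=
        himg.symm ▸ ⟨m, hmS, rfl⟩
      obtain ⟨j, u, hu⟩ := IsDiscreteValuationRing.eq_unit_mul_pow_irreducible hy.2 hπ
      change Module.length R (R ⧸ Ideal.span {y}) = m at hylen
      rw [hu, hlen _ j u.isUnit, Nat.cast_inj] at hylen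
      subst hylen
      obtain ⟨a, ha⟩ := Ideal.mem_span_singleton'.1 (hmem.1 hy.1).2
      rw [hu, pow_succ', ← mul_assoc] at ha
      have h1 : a * π = u := mul_right_cancel₀ (pow_ne_zero _ hπ.ne_zero) ha
      exact hπ.not_isUnit (isUnit_of_mul_isUnit_right (h1 ▸ u.isUnit))
    refine ⟨insert m S, by rw [Finset.card_insert_of_notMem hgt, hS], ?_⟩
    · rw [Finset.coe_insert, Set.image_insert_eq, ← himg]
      ext v
      constructor
      · rintro ⟨x, ⟨hx, hx0⟩, rfl⟩
        by_cases hx' : x ∈ W'
        · exact Or.inr ⟨x, ⟨hx', hx0⟩, rfl⟩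
        · obtain ⟨j, u, hu⟩ := IsDiscreteValuationRing.eq_unit_mul_pow_irreducible hx0 hπ
          have h1 : m ≤ j := Nat.find_min' hex ⟨x, hx, u, u.isUnit, hu⟩
          have h2 : ¬ m + 1 ≤ j := fun h => hx' (hmem.2 ⟨hx,
            Ideal.mem_span_singleton.2 (hu ▸ Dvd.dvd.mul_left (pow_dvd_pow π h) _)⟩)
          left
          show Module.length R (R ⧸ Ideal.span {x}) = m
          rw [hu, hlen _ j u.isUnit, show j = m by omega]
      · rintro (rfl | ⟨x, ⟨hx, hx0⟩, rfl⟩)
        · exact ⟨x₀, ⟨hx₀, fun h => hnot (h ▸ zero_mem _)⟩, (congrArg (fun z => Module.length R (R ⧸ Ideal.span {z})) hxu).trans (hlen _ _ hu₀)⟩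
        · exact ⟨x, ⟨hx.1, hx0⟩, rfl⟩



/-- Let k be an algebraically closed field, C a smooth proper curve over k (proper and smooth over k,
integral, of dimension one), (L, s_0, …, s_r) a linear series g^r_d on C (L an invertible module of
degree d with k-linearly independent global sections s_0, …, s_r spanning a subspace V of Γ(C, L))
and p a closed point of C. For a nonzero σ ∈ V write ord_p σ for the length of the O_{C,p}-module
L_p/(σ_p), the order of vanishing of σ at p. Then σ ↦ ord_p σ takes exactly r + 1 distinct values on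
V minus 0. (The published statement is for a smooth projective curve over the complex numbers and a
complex point p; this row states it over any algebraically closed field.) -/
theorem result (k : Type u) [Field k] [IsAlgClosed k]
    (C : Scheme.{u}) [C.Over (Spec (CommRingCat.of k))] (hC : Curve.IsSmoothProperCurve k C (C ↘ (Spec (CommRingCat.of k))))
    (L : C.Modules) (d r : ℕ) (s : Fin (r + 1) → LinSer.Sect C L) (hL : LinSer.IsLinSer k C L d r s)
    (p : C) (hp : IsClosed ({p} : Set C)) :
    Set.ncard ((fun c : Fin (r + 1) → k =>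
        Module.length (C.presheaf.stalk p)
          (↥(L.presheaf.stalk p) ⧸ Submodule.span (C.presheaf.stalk p)
            {(L.presheaf.germ ⊤ p trivial) (∑ i, (Coh.toGlobal (C ↘ Spec (CommRingCat.of k)) (c i)) • s i)})) ''
        {c : Fin (r + 1) → k | c ≠ 0}) = r + 1 := by
  classical
  obtain ⟨hpr, hsm, hint, hdim⟩ := hC
  haveI := hpr
  haveI := hsm
  haveI := hint
  haveI := H29RR.isNoetherian_of_proper (k := k) (X := C)
  obtain ⟨hLinv, -, hind⟩ := hL
  obtain ⟨hdvr, -, hres, -⟩ := H29DoubleCover.closedPoint_facts (k := k) (X := C) hdim hp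
  haveI := hdvr
  let R := C.presheaf.stalk p
  let M := ↥(L.presheaf.stalk p)
  letI : Algebra k R := Curv2.stalkAlgebra k C p
  obtain ⟨V, e, hpV, he⟩ := H11Ample.exists_gen hLinv p
  let b : M := L.presheaf.germ V p hpV e
  have hb : Function.Bijective (LinearMap.toSpanSingleton R M b) := he p hpV
  let E : R ≃ₗ[R] M := LinearEquiv.ofBijective (LinearMap.toSpanSingleton R M b) hb
  let σ : (Fin (r + 1) → k) → M := fun c =>
    (L.presheaf.germ ⊤ p trivial) (∑ i, (Coh.toGlobal (C ↘ Spec (CommRingCat.of k)) (c i)) • s i)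
  let τ : (Fin (r + 1) → k) → LinSer.Sect C L := fun c =>
    ∑ i, (Coh.toGlobal (C ↘ Spec (CommRingCat.of k)) (c i)) • s i
  have hσadd : ∀ c c', σ (c + c') = σ c + σ c' := fun c c' => by
    have h : τ (c + c') = τ c + τ c' := by
      rw [← Finset.sum_add_distrib]
      exact Finset.sum_congr rfl fun i _ => by rw [← add_smul, ← map_add]; rfl
    exact (congrArg (L.presheaf.germ ⊤ p trivial) h).trans (map_add (L.presheaf.germ ⊤ p trivial).hom _ _)
  have hσsmul : ∀ (a : k) (c), σ (a • c) = (algebraMap k R a) • σ c := fun a c => by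
    have h : τ (a • c) = Coh.toGlobal (C ↘ Spec (CommRingCat.of k)) a • τ c := by
      rw [Finset.smul_sum]
      exact Finset.sum_congr rfl fun i _ => by rw [smul_smul, ← map_mul]; rfl
    exact (congrArg (L.presheaf.germ ⊤ p trivial) h).trans (H06Mod.germ_smul L ⊤ (x := p) trivial _ _)
  let φ : (Fin (r + 1) → k) →ₗ[k] R :=
    { toFun := fun c => E.symm (σ c)
      map_add' := fun c c' => by rw [hσadd, map_add]
      map_smul' := fun a c =>
        ((congrArg E.symm (hσsmul a c)).trans (map_smul E.symm (algebraMap k R a) (σ c))).trans (Algebra.smul_def a _).symm }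
  have hφ : Function.Injective φ := (injective_iff_map_eq_zero φ).2 fun c hc => by
    refine hind c ?_
    by_contra hne
    have h1 : σ c = 0 := E.symm.injective (hc.trans (map_zero E.symm).symm)
    obtain ⟨W, hpW, i₁, i₂, hW⟩ := TopCat.Presheaf.germ_eq L.presheaf (U := ⊤) (V := ⊤) p trivial trivial (τ c) (0 : Γ(L, ⊤))
      (h1.trans (map_zero _).symm)
    have hη : genericPoint C ∈ W := (genericPoint_spec C).specializes (Set.mem_univ p) |>.mem_open W.2 hpW
    refine H29RR.germ_ne_zero (H28Mero.isQCoh_of_isInvertible hLinv) (H25Par.isTorsionFree_of_locFree (H28Pinch.isFinLocFree_of_isInvertible hLinv)) hne ?_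
    exact (TopCat.Presheaf.germ_res_apply L.presheaf i₁ (genericPoint C) hη (τ c)).symm.trans (by rw [hW, map_zero, map_zero])
  obtain ⟨S, hS, himg⟩ := ncard_orders hres (r + 1) (LinearMap.range φ) inferInstance
    (by rw [LinearMap.finrank_range_of_inj hφ, Module.finrank_fin_fun])
  have hlen : ∀ c, Module.length R (M ⧸ Submodule.span R {σ c}) = Module.length R (R ⧸ Ideal.span {φ c}) := fun c =>
    (Submodule.Quotient.equiv (Ideal.span {φ c}) (Submodule.span R {σ c}) E (by
      rw [Ideal.span, Submodule.map_span, Set.image_singleton]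
      exact congrArg (fun m => Submodule.span R {m}) (E.apply_symm_apply (σ c)))).length_eq.symm
  have hset : (fun c => Module.length R (M ⧸ Submodule.span R {σ c})) '' {c | c ≠ 0} =
      (Nat.cast : ℕ → ℕ∞) '' (S : Set ℕ) := by
    rw [← himg]
    ext v
    constructor
    · rintro ⟨c, hc, rfl⟩
      exact ⟨φ c, ⟨⟨c, rfl⟩, fun h => hc (hφ (h.trans (map_zero φ).symm))⟩, (hlen c).symm⟩
    · rintro ⟨-, ⟨⟨c, rfl⟩, hx⟩, rfl⟩
      exact ⟨c, fun h => hx (h ▸ map_zero φ), hlen c⟩
  refine (congrArg Set.ncard hset).trans ?_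
  rw [Set.ncard_image_of_injective _ Nat.cast_injective, Set.ncard_coe_finset, hS]

end Groth.Agent.S14471
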