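import Groth.Statements.S14473
import Groth.Agent.H29DoubleCover.Through
import Groth.Agent.H29DoubleCover.Swap

set_option autoImplicit false
universe u
open CategoryTheory CategoryTheory.Limits AlgebraicGeometry
open Curves

namespace Groth.Agent.S14473

attribute [local instance 10000] H10Coh.hasSheafifyAb H10Coh.hasWeakSheafifyAb H10Coh.hasExtAb H10Coh.enoughInjAb


/-- Let k be an algebraically closed field and C a smooth proper connected curve over k (proper and
smooth over k, integral, of dimension one) of genus 1, the genus being the dimension of H¹(C, O_C).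
Then the group of k-automorphisms of C is infinite: there are infinitely many automorphisms of the
scheme C over Spec k. -/
theorem result (k : Type u) [Field k] [IsAlgClosed k]
    (C : Scheme.{u}) [C.Over (Spec (CommRingCat.of k))] (hC : Curve.IsSmoothProperCurve k C (C ↘ (Spec (CommRingCat.of k))))
    (hg : Curv2.genus k C = 1) :
    Infinite {e : C ≅ C // e.hom ≫ (C ↘ (Spec (CommRingCat.of k))) = C ↘ (Spec (CommRingCat.of k))} := by
  obtain ⟨hp, hs, hi, hdim⟩ := hC
  haveI := hp
  haveI := hs
  haveI := hi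
  haveI := H29RR.isNoetherian_of_proper (k := k) (X := C)
  haveI : IsProper (CohB1.ProjSpace.toSpec 1 k) := H27Weil.isProper_toSpec 1 k
  haveI : IsLocallyNoetherian (CohB1.ProjSpace 1 k) :=
    LocallyOfFiniteType.isLocallyNoetherian (CohB1.ProjSpace.toSpec 1 k)
  obtain ⟨P, -, hP, -⟩ := H29RR.exists_point (k := k) hdim ⊤ trivial
  have hnat : ∀ Q : {Q : C // IsClosed ({Q} : Set C) ∧ Q ≠ P},
      ∃ e : {e : C ≅ C // e.hom ≫ (C ↘ (Spec (CommRingCat.of k))) = C ↘ (Spec (CommRingCat.of k))}, e.1.hom P = Q.1 := by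
    intro ⟨Q, hQ, hne⟩
    obtain ⟨f, hf, hfin, hfl, hη, hr, hsep, hPQ, -⟩ :=
      H29DoubleCover.exists_double_cover_through (k := k) hdim hg hP hQ
    haveI := hfin
    haveI := hfl
    obtain ⟨hrk, -⟩ := H29DoubleCover.rank_and_etale (k := k) f hdim hf hη hr hsep
    obtain ⟨σ, hσ, -, hσPQ⟩ := H29DoubleCover.exists_swap f hrk
    exact ⟨⟨σ, by rw [← hf, ← Category.assoc, hσ]⟩, hσPQ P Q hQ (Ne.symm hne) hPQ⟩
  choose e he using hnat
  by_contra hfin
  rw [not_infinite_iff_finite] at hfin
  haveI : Finite {Q : C // IsClosed ({Q} : Set C) ∧ Q ≠ P} :=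
    Finite.of_injective e fun a b h => Subtype.ext ((he a).symm.trans ((congrArg (fun e => e.1.hom P) h).trans (he b)))
  have hS : {Q : C | IsClosed ({Q} : Set C)}.Finite := by
    refine ((Set.finite_range (fun Q : {Q : C // IsClosed ({Q} : Set C) ∧ Q ≠ P} => Q.1)).insert P).subset fun Q hQ => ?_
    by_cases h : Q = P
    · exact Or.inl h
    · exact Or.inr ⟨⟨Q, hQ, h⟩, rfl⟩
  have hcl : IsClosed {Q : C | IsClosed ({Q} : Set C)} := by
    rw [← Set.biUnion_of_singleton {Q : C | IsClosed ({Q} : Set C)}]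
    exact hS.isClosed_biUnion fun Q hQ => hQ
  have hgen : genericPoint C ∉ {Q : C | IsClosed ({Q} : Set C)} := fun h =>
    H29CurveDual.not_isField_stalk_of_closed (k := k) hdim h (Field.toIsField C.functionField)
  obtain ⟨Q, hQU, hQ, -⟩ := H29RR.exists_point (k := k) hdim ⟨_, hcl.isOpen_compl⟩ hgen
  exact hQU hQ

end Groth.Agent.S14473
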