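import Groth.Statements.S14474
import Groth.Agent.H29Node.NodalLocus

set_option autoImplicit false
universe u
open CategoryTheory CategoryTheory.Limits AlgebraicGeometry
open Curves

namespace Groth.Agent.S14474

/-- Smoothness of the fibre at a point and smoothness of the flat morphism agree. -/
theorem mem_fibre_smoothLocus_iff {C S : Scheme.{u}} (π : C ⟶ S) [Flat π] [LocallyOfFinitePresentation π] (x : C) :
    (∃ U : (π.fiber (π x)).Opens, π.asFiber x ∈ U ∧ Smooth (U.ι ≫ π.fiberToSpecResidueField (π x))) ↔
      x ∈ π.smoothLocus := by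
  haveI : LocallyOfFinitePresentation (π.fiberToSpecResidueField (π x)) :=
    MorphismProperty.pullback_snd _ _ inferInstance
  rw [← Groth.Agent.H17.LocusBC.mem_smoothLocus_iff_exists]
  constructor
  · exact Groth.Agent.H17.LocusBC.mem_smoothLocus_of_flat_of_fiber π x (Flat.stalkMap π x)
  · intro h
    refine Groth.Agent.H17.LocusBC.preimage_smoothLocus_le
      (IsPullback.of_hasPullback π (S.fromSpecResidueField (π x))) ?_
    show π.fiberι _ (π.asFiber x) ∈ π.smoothLocus
    rwa [π.fiberι_asFiber]

/-- At a point of a fibre, the nodal condition is that of the fibre. -/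
theorem nodalAt_fiberι_iff {C S : Scheme.{u}} (π : C ⟶ S) [Flat π] [LocallyOfFinitePresentation π] (s : S)
    (v : π.fiber s) :
    Groth.Agent.H29Node.NodalAt π (π.fiberι s v) ↔
      ((∃ U : (π.fiber s).Opens, v ∈ U ∧ Smooth (U.ι ≫ π.fiberToSpecResidueField s)) ∨
        @Curv2.IsNode (S.residueField s) _ (π.fiber s) ⟨π.fiberToSpecResidueField s⟩ v) := by
  have hs : π (π.fiberι s v) = s := by
    have h : π.fiberι s v ∈ Set.range (π.fiberι s) := ⟨v, rfl⟩
    rwa [π.range_fiberι] at h
  generalize hx : π.fiberι s v = x at hs ⊢
  subst hs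
  have hv : v = π.asFiber x := (π.fiberι (π x)).isEmbedding.injective (hx.trans (π.fiberι_asFiber x).symm)
  subst hv
  exact or_congr (mem_fibre_smoothLocus_iff π x).symm Iff.rfl


/-- Let π : C → S be a proper, flat morphism of finite presentation all of whose fibres have every
irreducible component of dimension one (every geometric fibre is a curve). Then the set of points s
of S such that the fibre C_s, as a scheme over κ(s), has at-worst-nodal singularities (each closed
point has a smooth open neighbourhood or is a node) is open in S. -/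
theorem result {C S : Scheme.{u}} (π : C ⟶ S)
    [IsProper π] [Flat π] [LocallyOfFinitePresentation π]
    (hfib : ∀ s : S, ∀ Z ∈ irreducibleComponents (↥(π.fiber s) : Type u), topologicalKrullDim Z = 1) :
    IsOpen {s : S | letI : (π.fiber s).Over (Spec (S.residueField s)) := ⟨π.fiberToSpecResidueField s⟩
      Curv2.AtWorstNodal (S.residueField s) (π.fiber s)} := by
  have hopen : IsOpen {x : C | H29Node.NodalAt π x} := H29Node.isOpen_setOf_nodalAt π hfib
  suffices h : {s : S | letI : (π.fiber s).Over (Spec (S.residueField s)) := ⟨π.fiberToSpecResidueField s⟩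
      Curv2.AtWorstNodal (S.residueField s) (π.fiber s)} = (π '' {x : C | H29Node.NodalAt π x}ᶜ)ᶜ by
    rw [h]; exact (π.isClosedMap _ hopen.isClosed_compl).isOpen_compl
  ext s
  constructor
  · rintro hs ⟨x, hx, rfl⟩
    haveI : LocallyOfFiniteType (π.fiberToSpecResidueField (π x)) := MorphismProperty.pullback_snd _ _ inferInstance
    haveI : JacobsonSpace (π.fiber (π x)) := LocallyOfFiniteType.jacobsonSpace (π.fiberToSpecResidueField (π x))
    obtain ⟨v, hv, hvc⟩ := nonempty_inter_closedPoints (Z := closure ({π.asFiber x} : Set (π.fiber (π x))))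
      ⟨_, subset_closure rfl⟩ isClosed_closure.isLocallyClosed
    have hg := (nodalAt_fiberι_iff π (π x) v).2 (hs v hvc)
    have hsp : x ⤳ π.fiberι (π x) v := by
      have := (specializes_iff_mem_closure.2 hv).map (π.fiberι (π x)).continuous
      rwa [π.fiberι_asFiber] at this
    exact hx (hsp.mem_open hopen hg)
  · intro hs v _
    refine (nodalAt_fiberι_iff π s v).1 (by_contra fun h => hs ⟨_, h, ?_⟩)
    have h : π.fiberι s v ∈ Set.range (π.fiberι s) := ⟨v, rfl⟩
    rwa [π.range_fiberι] at h

end Groth.Agent.S14474
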