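import Groth.Statements.S14477
import Groth.Agent.H05EGA4.HypersurfaceKaehler

set_option autoImplicit false
universe u
open KaehlerDifferential
open LocInt

namespace Groth.Agent.S14477

/-- Let A → B be a smooth ring map with Ω_{B/A} of rank n at every prime of B, g ∈ B a nonzerodivisor
and R = B/gB, a hypersurface of virtual relative dimension n - 1 over A; let J ⊆ R be the
annihilator of the n-th exterior power of Ω_{R/A} and Z = Spec R/J. Then J is the ideal of R
generated by the classes of the elements φ(dg), φ ranging over the B-linear forms on Ω_{B/A}; where
Ω_{B/A} is free on dt_1, …, dt_n this says that Z is cut out by the partial derivatives ∂g/∂t_1, …,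
∂g/∂t_n. In particular every φ(dg) vanishes in R/J; since Ω_{B/A} is finite projective this says
that dg ⊗ 1 = 0 in Ω_{B/A} ⊗_B R/J, i.e. the map from the conormal module gB/g²B ⊗ R/J to Ω_{B/A}
⊗_B R/J induced by d vanishes, and with the cotangent complex of R over A represented by the
two-term complex (gB/g²B → Ω_{B/A} ⊗_B R) this is the statement that the canonical map from L_Z =
L_1 i^* L_{R/A} to the conormal module restricted to Z is an isomorphism. (The published statement
also asserts that, for a regular immersion of any codimension into a smooth scheme, this map from
L_Z is a locally split injection; that part is not stated here. The published statement is the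
isomorphism alone, which amounts to the inclusion of the ideal generated by the φ(dg) in J; this row
states the equality, whose other inclusion is the local description of Z by the partial derivatives
given with the definition of Z.) -/
theorem result (A B R : Type u) [CommRing A] [CommRing B] [CommRing R]
    [Algebra A B] [Algebra B R] [Algebra A R] [IsScalarTower A B R] [Algebra.Smooth A B] (n : ℕ)
    (hn : ∀ p : PrimeSpectrum B, Module.rankAtStalk (Ω[B⁄A]) p = n)
    (g : B) (hg : IsSMulRegular B g) (hsurj : Function.Surjective (algebraMap B R))
    (hker : RingHom.ker (algebraMap B R) = Ideal.span {g}) :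
    (⋀[R]^n (Ω[R⁄A])).annihilator =
      Ideal.span (Set.range fun φ : Ω[B⁄A] →ₗ[B] B => algebraMap B R (φ (KaehlerDifferential.D A B g))) := by
  rw [Groth.Agent.H05EGA4.HypersurfaceKaehler.annihilator_extPower hsurj hker n hn]
  exact Groth.Agent.H05EGA4.HypersurfaceKaehler.content_dg hsurj g

end Groth.Agent.S14477
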