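import Groth.Statements.S14476
import Groth.Agent.H8Props.TorHyp.Main

set_option autoImplicit false
universe u
open CategoryTheory CategoryTheory.Limits KaehlerDifferential
open LocInt

namespace Groth.Agent.S14476

/-- Let A → B be a smooth ring map with Ω_{B/A} of rank n at every prime of B, g ∈ B a nonzerodivisor
and R = B/gB. Let M be an R-module of flat dimension at most m over A (Tor^A_i(M, P) = 0 for i > m
and every A-module P) and N an R-module. Then for q ≥ m + n + 2 the R-modules Tor^R_q(M, N) and
Tor^R_{q-2}(M, N) (Mathlib's Tor, left-derived in the second variable) are isomorphic. (Existence of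
an isomorphism only: the published statement gives a specific isomorphism Tor_q → L_Z ⊗ Tor_{q-2}
built from the Atiyah class, with L_Z an invertible module on the closed subscheme Z cut out by the
annihilator of the top exterior power of Ω_{R/A}; for a global hypersurface R = B/gB the module L_Z
is free of rank one and Tor_{q-2} is already a module over Z, so the target is Tor_{q-2} itself. The
published statement allows a bounded complex on a scheme over the hypersurface in place of N.) -/
theorem result (A B R : Type u) [CommRing A] [CommRing B] [CommRing R]
    [Algebra A B] [Algebra B R] [Algebra A R] [IsScalarTower A B R] [Algebra.Smooth A B] (n : ℕ)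
    (hn : ∀ p : PrimeSpectrum B, Module.rankAtStalk (Ω[B⁄A]) p = n)
    (g : B) (hg : IsSMulRegular B g) (hsurj : Function.Surjective (algebraMap B R))
    (hker : RingHom.ker (algebraMap B R) = Ideal.span {g})
    (m : ℕ) (M N : ModuleCat.{u} R)
    (hM : ∀ (P : ModuleCat.{u} A) (i : ℕ), m < i →
      IsZero (((Tor (ModuleCat.{u} A) i).obj ((ModuleCat.restrictScalars (algebraMap A R)).obj M)).obj P))
    (q : ℕ) (hq : m + n + 2 ≤ q) :
    Nonempty ((((Tor (ModuleCat.{u} R) q).obj M).obj N) ≅ (((Tor (ModuleCat.{u} R) (q - 2)).obj M).obj N)) := by
  exact H8Props.TorHyp.nonempty_tor_iso g hg hsurj hker M N n hn m hM q hq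

end Groth.Agent.S14476
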