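import Groth.Statements.S14478

set_option autoImplicit false
universe u
open CharCyc

namespace Groth.Agent.S14478

lemma exists_common_compl {k W : Type*} [Field k] [AddCommGroup W] [Module k W] [FiniteDimensional k W]
    (P Q : Submodule k W) (h : Module.finrank k P = Module.finrank k Q) :
    ∃ C : Submodule k W, IsCompl P C ∧ IsCompl Q C := by
  induction hd : Module.finrank k W - Module.finrank k P generalizing P Q with
  | zero =>
    have hP := Submodule.finrank_le P
    have hP' : P = ⊤ := Submodule.eq_top_of_finrank_eq (by omega)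
    have hQ' : Q = ⊤ := Submodule.eq_top_of_finrank_eq (by omega)
    exact ⟨⊥, hP' ▸ isCompl_top_bot, hQ' ▸ isCompl_top_bot⟩
  | succ d ih =>
    have hP : P ≠ ⊤ := fun e => by subst e; simp at hd
    have hQ : Q ≠ ⊤ := fun e => by subst e; rw [h] at hd; simp at hd
    obtain ⟨x, hxP, hxQ⟩ : ∃ x, x ∉ P ∧ x ∉ Q := by
      obtain ⟨a, ha⟩ := SetLike.exists_not_mem_of_ne_top P hP rfl
      obtain ⟨b, hb⟩ := SetLike.exists_not_mem_of_ne_top Q hQ rfl
      by_cases haQ : a ∈ Q
      · by_cases hbP : b ∈ P
        · exact ⟨a + b, fun h => ha ((Submodule.add_mem_iff_left P hbP).1 h),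
            fun h => hb ((Submodule.add_mem_iff_right Q haQ).1 h)⟩
        · exact ⟨b, hbP, hb⟩
      · exact ⟨a, ha, haQ⟩
    have e : ∀ R : Submodule k W, x ∉ R → Module.finrank k ↥(R ⊔ k ∙ x) = Module.finrank k R + 1 := by
      intro R hx
      have hx0 : x ≠ 0 := fun h => hx (h ▸ R.zero_mem)
      have hi : R ⊓ k ∙ x = ⊥ := by
        rw [← disjoint_iff]; exact (Submodule.disjoint_span_singleton' hx0).2 hx
      have := Submodule.finrank_sup_add_finrank_inf_eq R (k ∙ x)
      rw [hi, finrank_span_singleton hx0] at this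
      simpa using this
    obtain ⟨C, hC1, hC2⟩ := ih (P ⊔ k ∙ x) (Q ⊔ k ∙ x) (by rw [e P hxP, e Q hxQ, h]) (by rw [e P hxP]; omega)
    have hx0 : x ≠ 0 := fun h => hxP (h ▸ P.zero_mem)
    have f : ∀ R : Submodule k W, x ∉ R → IsCompl (R ⊔ k ∙ x) C → IsCompl R (k ∙ x ⊔ C) := fun R hx hc =>
      ⟨((Submodule.disjoint_span_singleton' hx0).2 hx).disjoint_sup_right_of_disjoint_sup_left hc.disjoint,
        by rw [codisjoint_iff, ← sup_assoc]; exact hc.sup_eq_top⟩
    exact ⟨k ∙ x ⊔ C, f P hxP hC1, f Q hxQ hC2⟩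


/-- Let V be a finite-dimensional vector space over a field k, let W = V × V^∨ with V^∨ the dual space,
and let T ⊆ W be a subspace with dim T = dim V; put V₁ = V ∩ T, where V sits in W as V × 0. Then
there is a complement V₂ of V₁ in V with the following property: for every injective linear map A₁ :
V₁ → V₁^∨, the map A : V → V^∨ extending A₁ by zero along the decompositions V = V₁ ⊕ V₂ and V^∨ =
V₁^∨ ⊕ V₂^∨ (so A v = A₁(p v) ∘ p, with p : V → V₁ the projection along V₂) has graph Γ ⊆ W with Γ ∩
T = 0. -/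
theorem result (k V : Type u) [Field k] [AddCommGroup V] [Module k V]
    [FiniteDimensional k V] (T : Submodule k (V × Module.Dual k V))
    (hT : Module.finrank k T = Module.finrank k V) :
    ∃ (V₂ : Submodule k V) (h : IsCompl (T.comap (LinearMap.inl k V (Module.Dual k V))) V₂),
      ∀ A₁ : T.comap (LinearMap.inl k V (Module.Dual k V)) →ₗ[k]
          Module.Dual k (T.comap (LinearMap.inl k V (Module.Dual k V))),
        Function.Injective A₁ →
          LinearMap.graph ((Submodule.projectionOnto _ V₂ h).dualMap ∘ₗ A₁ ∘ₗ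
              Submodule.projectionOnto _ V₂ h) ⊓ T = ⊥ := by
  set T₁ := T.comap (LinearMap.inl k V (Module.Dual k V)) with hT₁
  set P := T.map (LinearMap.snd k V (Module.Dual k V))
  have hdim : Module.finrank k ↥T₁ + Module.finrank k ↥P = Module.finrank k V := by
    rw [← hT]
    have h1 := LinearMap.finrank_range_add_finrank_ker (K := k) (V := ↥T) (V₂ := Module.Dual k V) ((LinearMap.snd k V (Module.Dual k V)).domRestrict T)
    rw [LinearMap.range_domRestrict] at h1
    rw [← h1, add_comm]
    congr 1
    exact LinearEquiv.finrank_eq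
      { toFun := fun v => ⟨⟨((v : V), 0), v.2⟩, by simp⟩
        map_add' := fun a b => by ext <;> simp
        map_smul' := fun c a => by ext <;> simp
        invFun := fun b => ⟨b.1.1.1, by
          obtain ⟨⟨⟨v, w⟩, hb⟩, hb'⟩ := b
          simp at hb'; subst hb'; exact hb⟩
        left_inv := fun v => rfl
        right_inv := fun b => by
          obtain ⟨⟨⟨v, w⟩, hb⟩, hb'⟩ := b
          simp at hb'; subst hb'; rfl }
  have hann := Subspace.finrank_add_finrank_dualAnnihilator_eq T₁
  obtain ⟨C, hC1, hC2⟩ := exists_common_compl P T₁.dualAnnihilator (by omega)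
  have hcompl : IsCompl T₁ C.dualCoannihilator := by
    have hd := Subspace.finrank_add_finrank_dualCoannihilator_eq C
    have hs := Submodule.finrank_add_eq_of_isCompl hC2
    rw [Subspace.dual_finrank_eq] at hs
    refine (Submodule.isCompl_iff_disjoint _ _ (by omega)).2 ?_
    rw [disjoint_iff, eq_bot_iff]
    intro v hv
    obtain ⟨h1, h2⟩ := Submodule.mem_inf.1 hv
    rw [Submodule.mem_bot, ← Module.forall_dual_apply_eq_zero_iff k]
    intro φ
    have : φ ∈ T₁.dualAnnihilator ⊔ C := by rw [hC2.sup_eq_top]; trivial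
    obtain ⟨y, hy, z, hz, rfl⟩ := Submodule.mem_sup.1 this
    simp [(Submodule.mem_dualAnnihilator y).1 hy v h1, (Submodule.mem_dualCoannihilator v).1 h2 z hz]
  refine ⟨C.dualCoannihilator, hcompl, fun A₁ hA => ?_⟩
  rw [eq_bot_iff]
  rintro ⟨v, w⟩ hvw
  obtain ⟨hg, hvT⟩ := Submodule.mem_inf.1 hvw
  rw [LinearMap.mem_graph_iff] at hg
  have hwP : w ∈ P := ⟨(v, w), hvT, rfl⟩
  have hwC : w ∈ C := by
    rw [← Subspace.dualCoannihilator_dualAnnihilator_eq (W := C)]
    rw [Submodule.mem_dualAnnihilator]
    intro x hx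
    simp at hg
    rw [hg]
    simp [Submodule.projectionOnto_apply_right hcompl ⟨x, hx⟩]
  have hw : w = 0 := by
    have : w ∈ P ⊓ C := ⟨hwP, hwC⟩
    rwa [hC1.inf_eq_bot, Submodule.mem_bot] at this
  subst hw
  simp at hg
  have hinj : Function.Injective (Submodule.projectionOnto T₁ C.dualCoannihilator hcompl).dualMap := by
    rw [LinearMap.dualMap_injective_iff, ← LinearMap.range_eq_top]
    exact Submodule.range_projectionOnto hcompl
  have hpv : Submodule.projectionOnto T₁ C.dualCoannihilator hcompl v = 0 :=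
    hA (hinj (by simpa using hg.symm))
  have hv1 : v ∈ T₁ := hvT
  have := Submodule.projectionOnto_apply_left hcompl ⟨v, hv1⟩
  simp only [hpv] at this
  simpa using (congrArg Subtype.val this).symm

end Groth.Agent.S14478
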