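import Groth.Statements.S14479
import Mathlib.LinearAlgebra.Matrix.BilinearForm
import Mathlib.LinearAlgebra.Dimension.Free
import Mathlib.Algebra.CharP.Basic
import Mathlib.Tactic

set_option autoImplicit false
universe u
open CharCyc

namespace Groth.Agent.S14479

theorem of_equiv {k V ι : Type*} [Field k] [AddCommGroup V] [Module k V] [Fintype ι] [DecidableEq ι]
    (b : Module.Basis ι k V) (M : Matrix ι ι k) (h : (M + M.transpose).det ≠ 0) :
    ∃ B : LinearMap.BilinForm k V, (B + B.flip).Nondegenerate := by
  refine ⟨Matrix.toBilin b M, ?_⟩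
  refine LinearMap.BilinForm.nondegenerate_of_det_ne_zero _ b ?_
  have : LinearMap.BilinForm.toMatrix b (Matrix.toBilin b M + (Matrix.toBilin b M).flip) = M + M.transpose := by
    ext i j
    simp [LinearMap.BilinForm.toMatrix_apply, Matrix.toBilin_apply, Finsupp.single_apply]
  rwa [this]

/-- Let V be a finite-dimensional vector space over a field k. If dim V is even or the characteristic of
k is different from 2, there is a bilinear form B on V such that the bilinear form (v, w) ↦ B(v, w)
+ B(w, v) (B plus its transpose, as a map V → V^∨) is nondegenerate. -/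
theorem result (k V : Type u) [Field k] [AddCommGroup V] [Module k V]
    [FiniteDimensional k V] (h : Even (Module.finrank k V) ∨ ringChar k ≠ 2) :
    ∃ B : LinearMap.BilinForm k V, (B + B.flip).Nondegenerate := by
  classical
  by_cases h2 : ringChar k = 2
  · obtain ⟨m, hm⟩ := h.resolve_right (not_not.mpr h2)
    let e : Fin (Module.finrank k V) ≃ Fin m ⊕ Fin m := (finCongr hm).trans finSumFinEquiv.symm
    refine of_equiv ((Module.finBasis k V).reindex e) (Matrix.fromBlocks 0 (1 : Matrix (Fin m) (Fin m) k) 0 0) ?_
    rw [Matrix.fromBlocks_transpose, Matrix.fromBlocks_add]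
    simp only [Matrix.transpose_zero, Matrix.transpose_one, add_zero, zero_add]
    refine IsUnit.ne_zero ?_
    rw [← Matrix.isUnit_iff_isUnit_det]
    have hsq : Matrix.fromBlocks (0 : Matrix (Fin m) (Fin m) k) 1 1 (0 : Matrix (Fin m) (Fin m) k) * Matrix.fromBlocks (0 : Matrix (Fin m) (Fin m) k) 1 1 (0 : Matrix (Fin m) (Fin m) k) = 1 := by
      simp [Matrix.fromBlocks_multiply, Matrix.fromBlocks_one]
    exact IsUnit.of_mul_eq_one _ hsq
  · refine of_equiv (Module.finBasis k V) 1 ?_
    have : (1 : Matrix (Fin (Module.finrank k V)) (Fin (Module.finrank k V)) k) + Matrix.transpose 1 = (2 : k) • 1 := by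
      rw [Matrix.transpose_one, two_smul]
    rw [this]; simp [Matrix.det_smul, Ring.two_ne_zero h2]

end Groth.Agent.S14479
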