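-- statement FlatMor.GrothFrozen.S1448 (Groth/Statements/S1448.lean; the theorem FlatMor.stratification_by_fibre_degree_of_flat_quasiFinite);
import Groth.Statements.S1448
import Groth.Agent.H7Flat.FibreDegree

set_option autoImplicit false
universe u
open FlatMor

namespace Groth.Agent.S1448
set_option backward.isDefEq.respectTransparency false

open AlgebraicGeometry CategoryTheory Limits in
/-- Consider a separated, flat, quasi-compact and locally quasi-finite morphism f : X → S which is
locally of finite presentation. Then there is a function deg : S → ℕ with every sublevel set {deg ≤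
r} closed and every level set retrocompact, such that for every morphism g : T → S and every r, deg
∘ g is constant with value r exactly when the base change of f along g is finite locally free of
degree r. -/
theorem result {X S : Scheme.{u}} (f : X ⟶ S) [Flat f] [LocallyOfFinitePresentation f] [IsSeparated f] [LocallyQuasiFinite f] [QuasiCompact f] :
    ∃ deg : ↑S → ℕ, (∀ r : ℕ, IsClosed {s : ↑S | deg s ≤ r}) ∧ (∀ r : ℕ, IsRetrocompact {s : ↑S | deg s = r}) ∧
      ∀ (T : Scheme.{u}) (g : T ⟶ S) (r : ℕ), Mor2.IsFinLocFreeOfDeg r (pullback.snd f g) ↔ ∀ t : T, deg (g t) = r := by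
  have hfin : ∀ t : ↑S, (⇑f ⁻¹' {t}).Finite := fun t => f.finite_preimage_singleton t
  refine ⟨H13AlgSp.Degree.deg f, fun r => ?_, fun r => H7Flat.FibreDegree.isRetrocompact_deg_eq f r, fun T g r => ?_⟩
  · rw [← isOpen_compl_iff]
    convert! H13AlgSp.Degree.isOpen_le_deg f hfin (r + 1) using 1
    ext s
    simp
  · haveI : LocallyQuasiFinite (pullback.snd f g) := MorphismProperty.pullback_snd (P := @LocallyQuasiFinite) f g inferInstance
    haveI : QuasiCompact (pullback.snd f g) := MorphismProperty.pullback_snd (P := @QuasiCompact) f g inferInstance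
    rw [H13AlgSp.Degree.isFinLocFreeOfDeg_iff (pullback.snd f g) (fun t => (pullback.snd f g).finite_preimage_singleton t) r]
    refine forall_congr' fun t => ?_
    rw [H13AlgSp.Degree.deg_baseChange f (IsPullback.of_hasPullback f g) t
      (H13AlgSp.Degree.isFinite_fiber f _ (hfin _))]

end Groth.Agent.S1448
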