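import Groth.Statements.S14480
import Groth.Agent.H25Cut

set_option autoImplicit false
universe u
open CategoryTheory AlgebraicGeometry
open CharCyc

namespace Groth.Agent.S14480

open Groth.Agent.H8Props.FieldDim

/-- Let k be a field, let π : C → X be a morphism between k-schemes of finite type, and let n be a
natural number. For j ≥ 0 let B_j ⊆ X be the set of points x whose fibre π⁻¹(x) has dimension at
least j (so B_0 is the image of π). Then dim C ≤ n if and only if, for every j, the closure of B_j
in X has dimension at most n − j. Dimensions are topological Krull dimensions with the empty space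
of dimension ⊥, and the inequality is written additively as dim cl(B_j) + j ≤ n. -/
theorem result (k : Type u) [Field k] (C X : Scheme.{u})
    (q : X ⟶ Spec (CommRingCat.of k)) (π : C ⟶ X)
    [LocallyOfFiniteType q] [CompactSpace X] [LocallyOfFiniteType π] [CompactSpace C] (n : ℕ) :
    topologicalKrullDim C ≤ n ↔
      ∀ j : ℕ, topologicalKrullDim (closure {x : X | (j : WithBot ℕ∞) ≤ topologicalKrullDim (π.fiber x)}) +
        (j : WithBot ℕ∞) ≤ n := by
  haveI : IsLocallyNoetherian X := LocallyOfFiniteType.isLocallyNoetherian q
  constructor
  · intro h j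
    refine Groth.Agent.H25Cut.dim_add_le isClosed_closure j n fun y hy => ?_
    obtain ⟨t, ht, htj⟩ := Groth.Agent.H25Cut.exists_specializes_of_mem_closure π hy
    obtain ⟨x, -, hx⟩ := Groth.Agent.H25Cut.exists_point q π htj
    exact ((add_le_add_left (Groth.Agent.H25Cut.cdim_mono' ht) _).trans hx).trans
      ((Groth.Agent.H25Cut.cdim_le_univ x).trans h)
  · intro h
    rw [dim_eq_iSup_cdim]
    refine iSup_le fun x => ?_
    obtain ⟨j, hj, hx⟩ := Groth.Agent.H25Cut.exists_level q π x
    rw [hx]
    exact (add_le_add_left (Groth.Agent.H25Cut.cdim_le_dim isClosed_closure (subset_closure (show π x ∈ {y : X | (j : WithBot ℕ∞) ≤ topologicalKrullDim (π.fiber y)} from hj))) _).trans (h j)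

end Groth.Agent.S14480
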