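import Groth.Statements.S14481
import Groth.Agent.H25Cut

set_option autoImplicit false
universe u
open CategoryTheory AlgebraicGeometry
open CharCyc

namespace Groth.Agent.S14481

open Groth.Agent.H8Props.FieldDim

/-- First equivalence: let k be a field, let π : C → X be a morphism between k-schemes of finite type
such that every irreducible component of C has dimension n, and let ι : W → X be a regular immersion
of codimension c. The following are equivalent: (a) ι meets C properly, that is, whenever P is an
irreducible component of C and Q is an irreducible component of P ×_X W (the subspace P ∩ π⁻¹(ι(W))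
of C), one has dim Q = dim P − c; (b) dim C ×_X W ≤ n − c (the subspace π⁻¹(ι(W)) of C). Dimensions
are written additively: dim Q + c = n and dim π⁻¹(ι(W)) + c ≤ n, the empty space having dimension ⊥.
(Stated for each of the four kinds of regular immersion of codimension c — regular, Koszul-regular,
H₁-regular, quasi-regular; the published statement does not distinguish kinds.) -/
theorem result (k : Type u) [Field k] (C X W : Scheme.{u})
    (q : X ⟶ Spec (CommRingCat.of k)) (π : C ⟶ X) (ι : W ⟶ X)
    [LocallyOfFiniteType q] [CompactSpace X] [LocallyOfFiniteType π] [CompactSpace C]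
    (κ : RegImm.Kind) (n c : ℕ) (hι : RegImm.IsRegularImmersionOfCodim κ c ι)
    (hC : ∀ P ∈ irreducibleComponents (C : Type u), topologicalKrullDim P = n) :
    (∀ P ∈ irreducibleComponents (C : Type u), ∀ Q ∈ irreducibleComponents (P ∩ π ⁻¹' Set.range ι : Set C),
        topologicalKrullDim Q + (c : WithBot ℕ∞) = n) ↔
      topologicalKrullDim (π ⁻¹' Set.range ι : Set C) + (c : WithBot ℕ∞) ≤ n := by
  haveI : IsImmersion ι := hι.1
  constructor
  · intro h
    refine Groth.Agent.H25Cut.preimage_add_le q π ι c n fun t ht => ?_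
    let P : Set C := irreducibleComponent t
    have hP : P ∈ irreducibleComponents (C : Type u) := irreducibleComponent_mem_irreducibleComponents t
    obtain ⟨-, hcd⟩ := Groth.Agent.H25Cut.cdim_inter q π ι (P := P) (isClosed_of_mem_irreducibleComponents P hP)
    let y : ↥(P ∩ π ⁻¹' Set.range ι : Set C) := ⟨t, mem_irreducibleComponent, ht⟩
    have h1 := h P hP (irreducibleComponent y) (irreducibleComponent_mem_irreducibleComponents y)
    rw [show cdim t = cdim y from (hcd y).symm]
    exact (add_le_add_left (Groth.Agent.H25Cut.cdim_le_dim isClosed_irreducibleComponent mem_irreducibleComponent) _).trans h1.le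
  · intro h P hP Q hQ
    have hPc := isClosed_of_mem_irreducibleComponents P hP
    obtain ⟨hsob, hcd⟩ := Groth.Agent.H25Cut.cdim_inter q π ι (P := P) hPc
    haveI := hsob
    obtain ⟨y, hy⟩ := QuasiSober.sober hQ.1 (isClosed_of_mem_irreducibleComponents Q hQ)
    rw [Groth.Agent.H06EGA9.dim_eq_cdim_of_isGenericPoint hy, hcd y]
    refine le_antisymm ((add_le_add_left (Groth.Agent.H25Cut.cdim_le_preimage q π ι y.2.2) _).trans h) ?_
    obtain ⟨η, hη⟩ := QuasiSober.sober hP.1 hPc
    rw [← hC P hP, Groth.Agent.H06EGA9.dim_eq_cdim_of_isGenericPoint hη]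
    obtain ⟨w, hw⟩ := y.2.2
    obtain ⟨U, hwU, hcl, rs, hlen, -, hker⟩ := hι.2 w
    haveI := hcl
    have hyU : π y.1 ∈ U.1 := hw ▸ hwU
    obtain ⟨V, hV, hyV, hle⟩ := exists_isAffineOpen_mem_and_subset (x := y.1) (U := π ⁻¹ᵁ U.1) hyU
    classical
    have key : ∀ (z : C), z ∈ V → ∀ g : Γ(X, U.1), z ∈ C.basicOpen (π.appLE U.1 V hle g) ↔ π z ∈ X.basicOpen g := by
      intro z hz g
      rw [Scheme.basicOpen_appLE]
      exact ⟨fun h => h.2, fun h => ⟨hz, h⟩⟩
    refine Groth.Agent.H25Cut.cdim_cut_le (π ≫ q) (hη.specializes y.2.1) hV hyV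
      (π.appLE U.1 V hle '' {g | g ∈ rs}) ((List.finite_toSet rs).image _) c ?_ ?_ ?_
    · refine (Set.ncard_image_le (List.finite_toSet rs)).trans ?_
      rw [← hlen, ← List.coe_toFinset, Set.ncard_coe_finset]
      exact List.toFinset_card_le rs
    · rintro _ ⟨g, hg, rfl⟩
      rw [key _ hyV]
      exact (Groth.Agent.H25Cut.mem_range_iff_cut ι U.2 rs hker hyU).mp ⟨w, hw⟩ g hg
    · intro z hηz hzy hz
      have hzV : z ∈ V := hzy.mem_open V.2 hyV
      have hzW : π z ∈ Set.range ι := (Groth.Agent.H25Cut.mem_range_iff_cut ι U.2 rs hker (hle hzV)).mpr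
        fun g hg => (key z hzV g).not.mp (hz _ ⟨g, hg, rfl⟩)
      let z' : ↥(P ∩ π ⁻¹' Set.range ι : Set C) := ⟨z, hηz.mem_closed hPc hη.mem, hzW⟩
      have hz' : z' ⤳ y := (Topology.IsInducing.subtypeVal.specializes_iff).mp hzy
      have hQz : closure {z'} = Q := hQ.eq_of_ge isIrreducible_singleton.closure
        (hy.def ▸ specializes_iff_closure_subset.mp hz')
      exact congrArg Subtype.val (IsGenericPoint.eq (show IsGenericPoint z' Q from hQz) hy)

end Groth.Agent.S14481
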