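import Groth.Statements.S14482
import Groth.Agent.H25Cut
import Groth.Agent.S14480

set_option autoImplicit false
universe u
open CategoryTheory AlgebraicGeometry
open CharCyc

namespace Groth.Agent.S14482

open Groth.Agent.H8Props.FieldDim

/-- Second assertion: let k be a field, let π : C → X be a morphism between k-schemes of finite type
such that every irreducible component of C has dimension n, let ι : W → X be a regular immersion of
codimension c, and for j ≥ 0 let B_j ⊆ X be the set of points whose fibre under π has dimension at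
least j. Assume that every B_j is closed in X. Then dim B_j + j ≤ n for every j, and the condition
dim π⁻¹(ι(W)) + c ≤ n (that is, dim C ×_X W ≤ n − c) holds if and only if dim ι⁻¹(B_j) + c + j ≤ n
for every j (that is, ι meets the sequence (B_j) n-semi-properly). Dimensions are topological Krull
dimensions of subspaces, the empty space having dimension ⊥. (Stated for each of the four kinds of
regular immersion of codimension c — regular, Koszul-regular, H₁-regular, quasi-regular; the
published statement does not distinguish kinds.) -/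
theorem result (k : Type u) [Field k] (C X W : Scheme.{u})
    (q : X ⟶ Spec (CommRingCat.of k)) (π : C ⟶ X) (ι : W ⟶ X)
    [LocallyOfFiniteType q] [CompactSpace X] [LocallyOfFiniteType π] [CompactSpace C]
    (κ : RegImm.Kind) (n c : ℕ) (hι : RegImm.IsRegularImmersionOfCodim κ c ι)
    (hC : ∀ P ∈ irreducibleComponents (C : Type u), topologicalKrullDim P = n)
    (hB : ∀ j : ℕ, IsClosed {x : X | (j : WithBot ℕ∞) ≤ topologicalKrullDim (π.fiber x)}) :
    (∀ j : ℕ, topologicalKrullDim {x : X | (j : WithBot ℕ∞) ≤ topologicalKrullDim (π.fiber x)} + (j : WithBot ℕ∞) ≤ n) ∧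
      (topologicalKrullDim (π ⁻¹' Set.range ι : Set C) + (c : WithBot ℕ∞) ≤ n ↔
        ∀ j : ℕ, topologicalKrullDim (ι ⁻¹' {x : X | (j : WithBot ℕ∞) ≤ topologicalKrullDim (π.fiber x)} : Set W) + (c : WithBot ℕ∞) + (j : WithBot ℕ∞) ≤ n) := by
  haveI : IsImmersion ι := hι.1
  have hCn : topologicalKrullDim C ≤ n := by
    rw [dim_eq_iSup_cdim]
    refine iSup_le fun x => ?_
    rw [← hC _ (irreducibleComponent_mem_irreducibleComponents x)]
    exact Groth.Agent.H25Cut.cdim_le_dim isClosed_irreducibleComponent mem_irreducibleComponent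
  refine ⟨fun j => ?_, fun h j => ?_, fun h => ?_⟩
  · have h1 := (Groth.Agent.S14480.result k C X q π n).mp hCn j
    rwa [(hB j).closure_eq] at h1
  · rw [add_assoc, ← Nat.cast_add]
    refine Groth.Agent.H25Cut.dim_add_le ((hB j).preimage ι.continuous) (c + j) n fun w hw => ?_
    obtain ⟨x, hx, hxd⟩ := Groth.Agent.H25Cut.exists_point q π (show _ ≤ topologicalKrullDim (π.fiber (ι w)) from hw)
    rw [← Groth.Agent.H25Cut.cdim_of_isImmersion q ι w, Nat.cast_add, add_comm (c : WithBot ℕ∞), ← add_assoc]
    exact (add_le_add_left (hxd.trans (Groth.Agent.H25Cut.cdim_le_preimage q π ι ⟨w, hx.symm⟩)) _).trans h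
  · refine Groth.Agent.H25Cut.preimage_add_le q π ι c n fun t ht => ?_
    obtain ⟨w, hw⟩ := ht
    obtain ⟨j, hj, hd⟩ := Groth.Agent.H25Cut.exists_level q π t
    rw [← hw] at hj hd
    rw [hd, Groth.Agent.H25Cut.cdim_of_isImmersion q ι w, add_assoc, add_comm (j : WithBot ℕ∞), ← add_assoc]
    refine le_trans ?_ (h j)
    gcongr
    exact Groth.Agent.H25Cut.cdim_le_dim ((hB j).preimage ι.continuous) hj

end Groth.Agent.S14482
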