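import Groth.Statements.S14483
import Groth.Agent.H25Cut
import Groth.Agent.H05EGA4.Topo

set_option autoImplicit false
universe u
open CategoryTheory CategoryTheory.Limits AlgebraicGeometry
open CharCyc

namespace Groth.Agent.S14483

open CategoryTheory.Limits

theorem isPurelyInseparable_of_comp {A B C : Type*} [Field A] [Field B] [Field C] (φ : A →+* B) (g : B →+* C)
    (h : (g.comp φ).IsPurelyInseparable) (hg : Function.Surjective g) : φ.IsPurelyInseparable := by
  letI := φ.toAlgebra
  letI := (g.comp φ).toAlgebra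
  haveI hC : IsPurelyInseparable A C := h
  show IsPurelyInseparable A B
  obtain ⟨q, hq⟩ := ExpChar.exists A
  rw [isPurelyInseparable_iff_pow_mem A q] at hC ⊢
  intro b
  obtain ⟨n, c, hc⟩ := hC (g b)
  exact ⟨n, c, g.injective (hc.trans (map_pow g b _).symm)⟩

/-- Let k be a field and let f : X → S be a morphism between separated k-schemes of finite type. Two
closed subsets Y, Z of X are said to well intersect with respect to f when dim(Y ×_S Z ∖ Y ×_X Z) ≤
dim Y + dim Z − dim S; here Y ×_S Z ∖ Y ×_X Z is taken as the subspace of X ×_S X of points whose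
two projections lie in Y and in Z and which are not in the image of the diagonal, and the inequality
is written additively as dim(Y ×_S Z ∖ Y ×_X Z) + dim S ≤ dim Y + dim Z (topological Krull
dimensions, the empty space having dimension ⊥). Let Y ⊆ X be closed and irreducible with dim Y <
dim S, and suppose that the pair Y, Y well intersects with respect to f. Then Y → S is generically
radicial onto its image: there is an open subset V of X meeting Y such that f is injective on V ∩ Y
and, at every point of V ∩ Y, the residue field extension induced by f is purely inseparable. -/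
theorem result (k : Type u) [Field k] (X S : Scheme.{u})
    (q : S ⟶ Spec (CommRingCat.of k)) (f : X ⟶ S)
    [LocallyOfFiniteType q] [CompactSpace S] [IsSeparated q] [LocallyOfFiniteType f] [CompactSpace X] [IsSeparated f]
    (Y : Set X) (hYc : IsClosed Y) (hYi : IsIrreducible Y)
    (hWI : topologicalKrullDim {p : ↥(pullback f f) | pullback.fst f f p ∈ Y ∧ pullback.snd f f p ∈ Y ∧ p ∉ Set.range (pullback.diagonal f)} + topologicalKrullDim S ≤ topologicalKrullDim Y + topologicalKrullDim Y)
    (hYS : topologicalKrullDim Y < topologicalKrullDim S) :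
    ∃ V : Set X, IsOpen V ∧ (V ∩ Y).Nonempty ∧ Set.InjOn f.base (V ∩ Y) ∧
      ∀ x ∈ V ∩ Y, (f.residueFieldMap x).hom.IsPurelyInseparable := by
  obtain ⟨η, hη⟩ := QuasiSober.sober hYi hYc
  haveI : IsLocallyNoetherian S := LocallyOfFiniteType.isLocallyNoetherian q
  haveI : IsLocallyNoetherian X := LocallyOfFiniteType.isLocallyNoetherian (f ≫ q)
  let O : (pullback f f).Opens := ⟨(Set.range (pullback.diagonal f))ᶜ, (pullback.diagonal f).isClosedEmbedding.isClosed_range.isOpen_compl⟩
  let F : Set O := O.ι ⁻¹' (pullback.fst f f ⁻¹' Y ∩ pullback.snd f f ⁻¹' Y)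
  have hF : IsClosed F := ((hYc.preimage (pullback.fst f f).continuous).inter (hYc.preimage (pullback.snd f f).continuous)).preimage O.ι.continuous
  let i := (Scheme.IdealSheafData.vanishingIdeal ⟨F, hF⟩).subschemeι
  have hi : Set.range i = F := by
    rw [Scheme.IdealSheafData.range_subschemeι, Scheme.IdealSheafData.coe_support_vanishingIdeal]; rfl
  haveI : CompactSpace ↥(pullback f f) := QuasiCompact.compactSpace_of_compactSpace (pullback.fst f f)
  haveI : IsLocallyNoetherian (pullback f f) := LocallyOfFiniteType.isLocallyNoetherian (pullback.fst f f)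
  haveI : IsNoetherian (pullback f f) := {}
  haveI : CompactSpace O := isCompact_iff_compactSpace.mp (TopologicalSpace.NoetherianSpace.isCompact _)
  let g := i ≫ O.ι ≫ pullback.fst f f
  refine ⟨(closure (Set.range g))ᶜ, isClosed_closure.isOpen_compl, ⟨η, fun hmem => ?_, hη.mem⟩, ?_⟩
  · obtain ⟨z, hz⟩ := Groth.Agent.H05EGA4.exists_specializes_of_mem_closure_range g hmem
    have hzF : i z ∈ F := hi.le ⟨z, rfl⟩
    have hzη : g z = η := (hz.antisymm (hη.specializes hzF.1)).eq
    exact (i z).2 (Groth.Agent.H25Cut.no_partner q f hYc hYc hη hWI hYS hzη hzF.2)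
  let V : X.Opens := ⟨(closure (Set.range g))ᶜ, isClosed_closure.isOpen_compl⟩
  have hFY : IsClosed (V.ι ⁻¹' Y) := hYc.preimage V.ι.continuous
  let i₀ := (Scheme.IdealSheafData.vanishingIdeal ⟨V.ι ⁻¹' Y, hFY⟩).subschemeι
  let j := i₀ ≫ V.ι
  have hi₀ : Set.range i₀ = V.ι ⁻¹' Y := by
    rw [Scheme.IdealSheafData.range_subschemeι, Scheme.IdealSheafData.coe_support_vanishingIdeal]; rfl
  have hj : ∀ x, x ∈ Set.range j ↔ x ∈ (closure (Set.range g))ᶜ ∩ Y := by
    intro x
    constructor
    · rintro ⟨w, rfl⟩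
      exact ⟨(i₀ w).2, hi₀.le ⟨w, rfl⟩⟩
    · rintro ⟨hxV, hxY⟩
      obtain ⟨w, hw⟩ := hi₀.ge (show (⟨x, hxV⟩ : V) ∈ V.ι ⁻¹' Y from hxY)
      exact ⟨w, by rw [Scheme.Hom.comp_apply, hw]; rfl⟩
  have hsurj : Surjective (pullback.diagonal (j ≫ f)) := by
    refine ⟨fun z => ?_⟩
    let m := pullback.map (j ≫ f) (j ≫ f) f f j j (𝟙 S) (by simp) (by simp)
    have h1 : pullback.fst f f (m z) = j (pullback.fst (j ≫ f) (j ≫ f) z) := by
      rw [← Scheme.Hom.comp_apply, pullback.lift_fst, Scheme.Hom.comp_apply]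
    have h2 : pullback.snd f f (m z) = j (pullback.snd (j ≫ f) (j ≫ f) z) := by
      rw [← Scheme.Hom.comp_apply, pullback.lift_snd, Scheme.Hom.comp_apply]
    obtain ⟨x, hx⟩ : m z ∈ Set.range (pullback.diagonal f) := by
      by_contra hn
      have hY1 := ((hj _).mp ⟨_, h1.symm⟩)
      have hY2 := ((hj _).mp ⟨_, h2.symm⟩)
      obtain ⟨w, hw⟩ := hi.ge (show (⟨m z, hn⟩ : O) ∈ F from ⟨hY1.2, hY2.2⟩)
      exact hY1.1 (subset_closure ⟨w, by simp only [g, Scheme.Hom.comp_apply, hw]; rfl⟩)
    haveI : Mono j := inferInstance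
    have hm1 : m ≫ pullback.fst f f = pullback.fst (j ≫ f) (j ≫ f) ≫ j := pullback.lift_fst _ _ _
    have hm2 : m ≫ pullback.snd f f = pullback.snd (j ≫ f) (j ≫ f) ≫ j := pullback.lift_snd _ _ _
    haveI : Mono m := ⟨fun {T} a b hab => by
      have e1 : (a ≫ pullback.fst (j ≫ f) (j ≫ f)) ≫ j = (b ≫ pullback.fst (j ≫ f) (j ≫ f)) ≫ j := by
        exact ((Category.assoc a _ j).trans (congrArg (fun t => a ≫ t) hm1.symm)).trans
          (((Category.assoc a m _).symm.trans ((congrArg (fun t => t ≫ pullback.fst f f) hab).trans (Category.assoc b m _))).trans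
            ((congrArg (fun t => b ≫ t) hm1).trans (Category.assoc b _ j).symm))
      have e2 : (a ≫ pullback.snd (j ≫ f) (j ≫ f)) ≫ j = (b ≫ pullback.snd (j ≫ f) (j ≫ f)) ≫ j := by
        exact ((Category.assoc a _ j).trans (congrArg (fun t => a ≫ t) hm2.symm)).trans
          (((Category.assoc a m _).symm.trans ((congrArg (fun t => t ≫ pullback.snd f f) hab).trans (Category.assoc b m _))).trans
            ((congrArg (fun t => b ≫ t) hm2).trans (Category.assoc b _ j).symm))
      exact pullback.hom_ext ((cancel_mono j).mp e1) ((cancel_mono j).mp e2)⟩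
    refine ⟨pullback.fst (j ≫ f) (j ≫ f) z, m.injective ?_⟩
    have hxe : x = j (pullback.fst (j ≫ f) (j ≫ f) z) := by
      rw [← h1, ← hx, ← Scheme.Hom.comp_apply, pullback.diagonal_fst]; rfl
    have e : pullback.diagonal (j ≫ f) ≫ m = j ≫ pullback.diagonal f := by
      apply pullback.hom_ext
      · rw [Category.assoc, hm1, pullback.diagonal_fst_assoc, Category.assoc, pullback.diagonal_fst, Category.comp_id]
      · rw [Category.assoc, hm2, pullback.diagonal_snd_assoc, Category.assoc, pullback.diagonal_snd, Category.comp_id]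
    rw [← Scheme.Hom.comp_apply, e, Scheme.Hom.comp_apply, ← hxe, hx]
  haveI : UniversallyInjective (j ≫ f) := (UniversallyInjective.iff_diagonal _).mpr hsurj
  have h3 := (tfae_universallyInjective (j ≫ f)).out 0 2
  obtain ⟨hinj, hpi⟩ := h3.mp inferInstance
  refine ⟨fun x hx y hy hxy => ?_, fun x hx => ?_⟩
  · obtain ⟨a, rfl⟩ := (hj x).mpr hx
    obtain ⟨b, rfl⟩ := (hj y).mpr hy
    exact congrArg j (hinj (by simpa only [Scheme.Hom.comp_apply] using hxy))
  · obtain ⟨a, rfl⟩ := (hj x).mpr hx
    have := hpi a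
    rw [Scheme.residueFieldMap_comp] at this
    refine isPurelyInseparable_of_comp _ _ this fun y => ?_
    obtain ⟨y, rfl⟩ := IsLocalRing.residue_surjective y
    obtain ⟨b, rfl⟩ := j.stalkMap_surjective a y
    exact ⟨IsLocalRing.residue _ b, rfl⟩

end Groth.Agent.S14483
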