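import Groth.Statements.S14484
import Groth.Agent.H25Cut
import Groth.Agent.H05EGA4.Topo

set_option autoImplicit false
universe u
open CategoryTheory CategoryTheory.Limits AlgebraicGeometry
open CharCyc

namespace Groth.Agent.S14484

open CategoryTheory.Limits

/-- Let k be a field and let f : X → S be a morphism between separated k-schemes of finite type. Two
closed subsets Y, Z of X are said to well intersect with respect to f when dim(Y ×_S Z ∖ Y ×_X Z) ≤
dim Y + dim Z − dim S; here Y ×_S Z ∖ Y ×_X Z is taken as the subspace of X ×_S X of points whose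
two projections lie in Y and in Z and which are not in the image of the diagonal, and the inequality
is written additively as dim(Y ×_S Z ∖ Y ×_X Z) + dim S ≤ dim Y + dim Z (topological Krull
dimensions, the empty space having dimension ⊥). Let Y, Z ⊆ X be closed irreducible subsets that
well intersect with respect to f, with dim Y < dim S and dim Z < dim S, and assume Y ⊄ Z. Then f(Y)
is not contained in the closure of f(Y) ∩ f(Z); in particular f(Y) ⊄ f(Z). -/
theorem result (k : Type u) [Field k] (X S : Scheme.{u})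
    (q : S ⟶ Spec (CommRingCat.of k)) (f : X ⟶ S)
    [LocallyOfFiniteType q] [CompactSpace S] [IsSeparated q] [LocallyOfFiniteType f] [CompactSpace X] [IsSeparated f]
    (Y Z : Set X) (hYc : IsClosed Y) (hYi : IsIrreducible Y) (hZc : IsClosed Z) (hZi : IsIrreducible Z)
    (hWI : topologicalKrullDim {p : ↥(pullback f f) | pullback.fst f f p ∈ Y ∧ pullback.snd f f p ∈ Z ∧ p ∉ Set.range (pullback.diagonal f)} + topologicalKrullDim S ≤ topologicalKrullDim Y + topologicalKrullDim Z)
    (hYS : topologicalKrullDim Y < topologicalKrullDim S) (hZS : topologicalKrullDim Z < topologicalKrullDim S)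
    (hYZ : ¬ Y ⊆ Z) :
    ¬ (f.base '' Y ⊆ closure (f.base '' Y ∩ f.base '' Z)) ∧ ¬ (f.base '' Y ⊆ f.base '' Z) := by
  obtain ⟨η, hη⟩ := QuasiSober.sober hYi hYc
  have hs : f η ∈ f.base '' Y := ⟨η, hη.mem, rfl⟩
  have key : ¬ (f.base '' Y ⊆ closure (f.base '' Y ∩ f.base '' Z)) := by
    intro h
    haveI : IsLocallyNoetherian S := LocallyOfFiniteType.isLocallyNoetherian q
    let F : Set X := Z ∩ f ⁻¹' closure {f η}
    have hF : IsClosed F := hZc.inter (isClosed_closure.preimage f.continuous)
    let i := (Scheme.IdealSheafData.vanishingIdeal ⟨F, hF⟩).subschemeι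
    have hi : Set.range i = F := by
      rw [Scheme.IdealSheafData.range_subschemeι, Scheme.IdealSheafData.coe_support_vanishingIdeal]; rfl
    have hsub : f.base '' Y ∩ f.base '' Z ⊆ Set.range (i ≫ f) := by
      rintro _ ⟨⟨y, hy, rfl⟩, z, hz, hzy⟩
      obtain ⟨w, hw⟩ := hi.ge (show z ∈ F from ⟨hz, by
        show f z ∈ closure {f η}
        rw [show f z = f y from hzy]
        exact ((hη.specializes hy).map f.continuous).mem_closure⟩)
      exact ⟨w, by rw [Scheme.Hom.comp_apply, hw]; exact hzy⟩
    obtain ⟨w, hw⟩ := Groth.Agent.H05EGA4.exists_specializes_of_mem_closure_range (i ≫ f) (closure_mono hsub (h hs))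
    rw [Scheme.Hom.comp_apply] at hw
    have hwF : i w ∈ F := hi.le ⟨w, rfl⟩
    have heq : f η = f (i w) := (specializes_iff_mem_closure.mpr hwF.2).antisymm hw |>.eq
    obtain ⟨p, hp1, hp2⟩ := Scheme.Pullback.exists_preimage_pullback (f := f) (g := f) η (i w) heq
    obtain ⟨x, rfl⟩ := Groth.Agent.H25Cut.no_partner q f hYc hZc hη hWI hZS hp1 (hp2 ▸ hwF.1)
    rw [← Scheme.Hom.comp_apply, pullback.diagonal_fst] at hp1
    rw [← Scheme.Hom.comp_apply, pullback.diagonal_snd] at hp2
    have hηw : η = i w := hp1.symm.trans hp2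
    exact hYZ (hη.def ▸ closure_minimal (Set.singleton_subset_iff.mpr (hηw ▸ hwF.1)) hZc)
  exact ⟨key, fun h => key fun s hs => subset_closure ⟨hs, h hs⟩⟩

end Groth.Agent.S14484
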