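import Groth.Statements.S14485
import Groth.Agent.H25Cut

set_option autoImplicit false
universe u
open CategoryTheory CategoryTheory.Limits AlgebraicGeometry
open CharCyc

namespace Groth.Agent.S14485

open CategoryTheory.Limits
open Groth.Agent.H8Props.FieldDim

/-- Let k be a field and let f : X → S be a morphism between separated k-schemes of finite type. Two
closed subsets Y, Z of X are said to well intersect with respect to f when dim(Y ×_S Z ∖ Y ×_X Z) ≤
dim Y + dim Z − dim S; here Y ×_S Z ∖ Y ×_X Z is taken as the subspace of X ×_S X of points whose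
two projections lie in Y and in Z and which are not in the image of the diagonal, and the inequality
is written additively as dim(Y ×_S Z ∖ Y ×_X Z) + dim S ≤ dim Y + dim Z (topological Krull
dimensions, the empty space having dimension ⊥). Let Y, Z ⊆ X be closed subsets, and let g : S' → S
be faithfully flat with every fibre of dimension d (relative constant dimension d), where S' is
again a separated k-scheme of finite type. Write f' : X' = X ×_S S' → S' for the base change and Y',
Z' ⊆ X' for the preimages of Y, Z. Then well-intersection of Y, Z with respect to f is equivalent to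
well-intersection of Y', Z' with respect to f'. -/
theorem result (k : Type u) [Field k] (X S S' : Scheme.{u})
    (q : S ⟶ Spec (CommRingCat.of k)) (f : X ⟶ S) (g : S' ⟶ S)
    [LocallyOfFiniteType q] [CompactSpace S] [IsSeparated q] [LocallyOfFiniteType f] [CompactSpace X] [IsSeparated f]
    [LocallyOfFiniteType g] [CompactSpace S'] [IsSeparated g] [Flat g] [Surjective g]
    (d : ℕ) (hd : ∀ s : S, topologicalKrullDim (g.fiber s) = d)
    (Y Z : Set X) (hYc : IsClosed Y) (hZc : IsClosed Z) :
    (topologicalKrullDim {p : ↥(pullback f f) | pullback.fst f f p ∈ Y ∧ pullback.snd f f p ∈ Z ∧ p ∉ Set.range (pullback.diagonal f)} + topologicalKrullDim S ≤ topologicalKrullDim Y + topologicalKrullDim Z) ↔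
      (topologicalKrullDim {p : ↥(pullback (pullback.snd f g) (pullback.snd f g)) | pullback.fst (pullback.snd f g) (pullback.snd f g) p ∈ ((pullback.fst f g) ⁻¹' Y) ∧ pullback.snd (pullback.snd f g) (pullback.snd f g) p ∈ ((pullback.fst f g) ⁻¹' Z) ∧ p ∉ Set.range (pullback.diagonal (pullback.snd f g))} + topologicalKrullDim S' ≤ topologicalKrullDim ((pullback.fst f g) ⁻¹' Y) + topologicalKrullDim ((pullback.fst f g) ⁻¹' Z)) := by
  let a := pullback.fst f g
  let b := pullback.snd f g
  let m : pullback b b ⟶ pullback f f := pullback.lift (pullback.fst b b ≫ a) (pullback.snd b b ≫ a) (by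
    simp only [a, Category.assoc, pullback.condition]
    exact (Category.assoc _ _ _).symm.trans ((congrArg (· ≫ g) pullback.condition).trans (Category.assoc _ _ _)))
  have hm1 : m ≫ pullback.fst f f = pullback.fst b b ≫ a := pullback.lift_fst _ _ _
  have hm2 : m ≫ pullback.snd f f = pullback.snd b b ≫ a := pullback.lift_snd _ _ _
  have hA : IsPullback (m ≫ pullback.snd f f) (pullback.fst b b) f (a ≫ f) := by
    rw [hm2, show a ≫ f = b ≫ g from pullback.condition]
    exact (IsPullback.of_hasPullback b b).flip.paste_horiz (IsPullback.of_hasPullback f g)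
  have hB : IsPullback m (pullback.fst b b) (pullback.fst f f) a :=
    IsPullback.of_right hA hm1 (IsPullback.of_hasPullback f f).flip
  have hC : IsPullback m (pullback.fst b b ≫ b) (pullback.fst f f ≫ f) g :=
    hB.paste_vert (IsPullback.of_hasPullback f g)
  have hD : IsPullback a (pullback.diagonal b) (pullback.diagonal f) m := by
    refine IsPullback.of_bot ?_ ?_ hB
    · rw [pullback.diagonal_fst, pullback.diagonal_fst]
      exact IsPullback.of_vert_isIso ⟨by simp⟩
    · apply pullback.hom_ext
      · rw [Category.assoc, Category.assoc, hm1, pullback.diagonal_fst, pullback.diagonal_fst_assoc, Category.comp_id]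
      · rw [Category.assoc, Category.assoc, hm2, pullback.diagonal_snd, pullback.diagonal_snd_assoc, Category.comp_id]
  haveI : LocallyOfFiniteType a := MorphismProperty.pullback_fst _ _ ‹_›
  haveI : LocallyOfFiniteType m := MorphismProperty.of_isPullback hC.flip ‹_›
  have da : ∀ t : X, topologicalKrullDim (a.fiber t) = d := fun t =>
    (dim_fiber_baseChange g (IsPullback.of_hasPullback f g).flip t).trans (hd _)
  have dm : ∀ t, topologicalKrullDim (m.fiber t) = d := fun t =>
    (dim_fiber_baseChange g hC.flip t).trans (hd _)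
  have hN : {p : ↥(pullback b b) | pullback.fst b b p ∈ a ⁻¹' Y ∧ pullback.snd b b p ∈ a ⁻¹' Z ∧ p ∉ Set.range (pullback.diagonal b)} =
      m ⁻¹' ((pullback.fst f f ⁻¹' Y ∩ pullback.snd f f ⁻¹' Z) ∩ (Set.range (pullback.diagonal f))ᶜ) := by
    ext p
    have e1 : pullback.fst f f (m p) = a (pullback.fst b b p) := by
      rw [← Scheme.Hom.comp_apply, hm1, Scheme.Hom.comp_apply]
    have e2 : pullback.snd f f (m p) = a (pullback.snd b b p) := by
      rw [← Scheme.Hom.comp_apply, hm2, Scheme.Hom.comp_apply]
    have e3 : m p ∈ Set.range (pullback.diagonal f) ↔ p ∈ Set.range (pullback.diagonal b) := by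
      constructor
      · rintro ⟨x, hx⟩
        obtain ⟨z, -, hz⟩ := Scheme.exists_preimage_of_isPullback hD x p hx
        exact ⟨z, hz⟩
      · rintro ⟨z, rfl⟩
        exact ⟨a z, by rw [← Scheme.Hom.comp_apply, hD.w, Scheme.Hom.comp_apply]⟩
    simp only [Set.mem_setOf_eq, Set.mem_preimage, Set.mem_inter_iff, Set.mem_compl_iff, e1, e2, e3, and_assoc]
  have hopen : IsOpen (Set.range (pullback.diagonal f))ᶜ :=
    (pullback.diagonal f).isClosedEmbedding.isClosed_range.isOpen_compl
  have hcl : IsClosed (pullback.fst f f ⁻¹' Y ∩ pullback.snd f f ⁻¹' Z) :=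
    (hYc.preimage (pullback.fst f f).continuous).inter (hZc.preimage (pullback.snd f f).continuous)
  have hN0 : {p : ↥(pullback f f) | pullback.fst f f p ∈ Y ∧ pullback.snd f f p ∈ Z ∧ p ∉ Set.range (pullback.diagonal f)} =
      (pullback.fst f f ⁻¹' Y ∩ pullback.snd f f ⁻¹' Z) ∩ (Set.range (pullback.diagonal f))ᶜ :=
    Set.ext fun p => and_assoc.symm
  have hT : ∀ T : Set X, IsClosed T → topologicalKrullDim (a ⁻¹' T) = topologicalKrullDim T + (d : WithBot ℕ∞) := by
    intro T hT
    have := Groth.Agent.H25Cut.dim_preimage_add (f ≫ q) a d da hT (isOpen_univ)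
    rwa [Set.inter_univ] at this
  have hS : topologicalKrullDim S' = topologicalKrullDim S + (d : WithBot ℕ∞) := by
    have := Groth.Agent.H25Cut.dim_preimage_add q g d hd isClosed_univ isOpen_univ
    rwa [Set.inter_univ, Set.preimage_univ, (Homeomorph.Set.univ S').isHomeomorph.topologicalKrullDim_eq,
      (Homeomorph.Set.univ S).isHomeomorph.topologicalKrullDim_eq] at this
  have hP := Groth.Agent.H25Cut.dim_preimage_add ((pullback.fst f f ≫ f) ≫ q) m d dm hcl hopen
  show _ ↔ topologicalKrullDim {p : ↥(pullback b b) | pullback.fst b b p ∈ a ⁻¹' Y ∧ pullback.snd b b p ∈ a ⁻¹' Z ∧ p ∉ Set.range (pullback.diagonal b)} + _ ≤ topologicalKrullDim (a ⁻¹' Y) + topologicalKrullDim (a ⁻¹' Z)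
  rw [hN, hN0, hP, hS, hT Y hYc, hT Z hZc, add_add_add_comm, add_add_add_comm _ (d : WithBot ℕ∞),
    ← Nat.cast_add]
  exact Groth.Agent.H25Cut.natCast_add_cancel_iff.symm

end Groth.Agent.S14485
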