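import Groth.Statements.S14486
import Groth.Agent.H28RR.Sect
import Groth.Agent.H28Bertini.Regular

set_option autoImplicit false
universe u
open CategoryTheory CategoryTheory.Limits AlgebraicGeometry
open Groth.Agent
open Surf

namespace Groth.Agent.S14486

/-- Let k be an algebraically closed field and X a projective K3 surface over k: an integral scheme of
dimension two with all local rings regular, admitting a closed immersion into some P^n_k over k,
whose structure sheaf O_X is a second exterior power of Ω_{X/k} (the canonical sheaf is trivial) and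
with H^1(X, O_X) = 0. Let C be a nonsingular curve of genus g on X: an integral closed subscheme of
dimension one with all local rings regular, with ideal sheaf I ⊆ O_X and g = dim_k H^1(C, O_C); let
M be an inverse of I for the tensor product (M = O_X(C)). Then C² = 2g - 2 and h^0(X, O_X(C)) = g +
1. Writing (L·L') for the intersection number χ(O_X) - χ(L) - χ(L') + χ(L ⊗ L') of two invertible
modules (packaged as FGA.intNum), C² = (I·I), so the assertion reads (I·I) = 2g - 2 and dim_k H^0(X,
M) = g + 1. (A K3 surface is only required to be proper; this row assumes the projective embedding.) -/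
theorem result (k : Type u) [Field k] [IsAlgClosed k] (X : Scheme.{u})
    [X.Over (Spec (CommRingCat.of k))] [IsIntegral X] (hdim : topologicalKrullDim X = 2)
    (hreg : ∀ x : X, IsRegularLocalRing (X.presheaf.stalk x))
    (hproj : ∃ (n : ℕ) (ι : X ⟶ CohB1.ProjSpace n k), IsClosedImmersion ι ∧
      ι ≫ CohB1.ProjSpace.toSpec n k = (X ↘ (Spec (CommRingCat.of k))))
    (hK : ExtPow.IsExtPow 2 (Omega.sheaf (X ↘ (Spec (CommRingCat.of k)))) (Coh.structureModule X))
    (hH1 : Subsingleton (Coh.HH X (Coh.structureModule X) 1))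
    (C : Scheme.{u}) (i : C ⟶ X) [IsClosedImmersion i] [IsIntegral C] (hC : topologicalKrullDim C = 1)
    (hCreg : ∀ c : C, IsRegularLocalRing (C.presheaf.stalk c))
    (M : X.Modules) (hM : ClSub.IsInverseOf M (ClSub.idealMod i.ker)) :
    letI : C.Over (Spec (CommRingCat.of k)) := ⟨i ≫ (X ↘ (Spec (CommRingCat.of k)))⟩
    FGA.intNum k X 2 ![ClSub.idealMod i.ker, ClSub.idealMod i.ker] (Coh.structureModule X) =
        2 * (Curv2.genus k C : ℤ) - 2 ∧
      Module.finrank k (Coh.HH X M 0) = Curv2.genus k C + 1 := by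
  obtain ⟨n, ι, hι, hιk⟩ := hproj
  haveI := hι
  haveI : IsProper (X ↘ Spec (CommRingCat.of k)) := hιk ▸ inferInstanceAs (IsProper (ι ≫ CohB1.ProjSpace.toSpec n k))
  haveI : Smooth (X ↘ Spec (CommRingCat.of k)) := H28Bertini.smooth_of_regular _ hreg
  let f := X ↘ Spec (CommRingCat.of k)
  haveI : Smooth (i ≫ f) := H28Bertini.smooth_of_regular _ hCreg
  letI : C.Over (Spec (CommRingCat.of k)) := ⟨i ≫ f⟩
  haveI : IsProper (C ↘ Spec (CommRingCat.of k)) := show IsProper (i ≫ _) from inferInstance
  haveI : Smooth (C ↘ Spec (CommRingCat.of k)) := ‹Smooth (i ≫ f)›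
  haveI := H28Int.isNoetherian k (X := X)
  haveI := H28Int.isNoetherian k (X := C)
  have hI := H28Int.isInvertible_idealMod_curve k hdim i hC
  obtain ⟨eM⟩ := hM
  have hMi : PicF.IsInvertible M := H17.InvertibleTensor.isInvertible_of_tensor_iso M _ eM
  have hO := H28Int.isInvertible_structureModule X
  let I := ClSub.idealMod i.ker
  let O := Coh.structureModule X
  let pb := Scheme.Modules.pullback i
  have hadj := H28RR.adjunction_smooth k hdim hK i hC
  rw [H28Surf.pr_symm k I (Coh.structureModule X), H28Surf.pr_structure_left k hI, sub_zero] at hadj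
  refine ⟨by rw [H28Surf.intNum_eq_pr k hdim hI hI]; omega, ?_⟩
  -- `M` restricted to the curve is its canonical module
  obtain ⟨adj⟩ := H28RR.nonempty_omega_curve k hdim hK i hC
  let eC : pb.obj M ≅ Omega.sheaf (i ≫ f) :=
    (H10Coh.Tw.rightUnitIso _).symm ≪≫ PicGrp.tensorModIso (Iso.refl _)
      ((H16Derived.KFlat.Stalk.structurePullbackIso i).symm ≪≫ adj) ≪≫ (H10Coh.Tw.assoc _ _ _).symm ≪≫
      PicGrp.tensorModIso (((H16Derived.KFlat.Stalk.pullTensorLIso i I).app M).symm ≪≫ pb.mapIso eM ≪≫
        H16Derived.KFlat.Stalk.structurePullbackIso i) (Iso.refl _) ≪≫ H10Coh.Tw.leftUnitIso _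
  haveI := H10Coh.epi_toSubscheme i.ker
  let S := H10Coh.Tw.seq (ShortComplex.mk _ (ClSub.toSubscheme i.ker) (kernel.condition _)) hMi
  have hS : S.ShortExact := H10Coh.Tw.shortExact_seq (H10Coh.shortExact_kernel (ClSub.toSubscheme i.ker)) hMi
  let e₁ : S.X₁ ≅ O := H10Coh.Tw.commIso I M ≪≫ eM
  let e₂ : S.X₂ ≅ M := H10Coh.Tw.leftUnitIso M
  have hv1 : Subsingleton (Coh.HH X S.X₁ 1) := (H29RR.hhIso (k := k) e₁ 1).toEquiv.subsingleton
  have hsur : Function.Surjective (Canon.HHlin k S.g 0) := H29Serre.surjective_lin hS hv1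
  have hinj : Function.Injective (Canon.HHlin k S.f 0) := by
    haveI : Mono ((SheafOfModules.toSheaf X.ringCatSheaf).map S.f) := (H10Coh.shortExact_sh hS).mono_f
    exact Abelian.Ext.postcomp_mk₀_injective_of_mono _ _
  haveI : Module.Finite k (Coh.HH X S.X₂ 0) := by
    haveI := H10Coh.finite_HH_proper k X M (H11Ample.isCoh_of_isInvertible hMi) 0
    exact Module.Finite.equiv (H29RR.hhIso (k := k) e₂ 0).symm
  have hdim0 := LinearMap.finrank_range_add_finrank_ker (Canon.HHlin k S.g 0)
  rw [LinearMap.range_eq_top.2 hsur, finrank_top, H25Par.hhlin_exact (k := k) hS,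
    LinearMap.finrank_range_of_inj hinj,
    H22Alg.CurveAmple.finrank_HH_congr (k := k) e₁ 0, H22Alg.CurveAmple.finrank_HH_congr (k := k) e₂ 0,
    S19352.finrank_structure k X] at hdim0
  have hX₃ : Module.finrank k (Coh.HH X S.X₃ 0) = Curv2.genus k C := by
    haveI : (Coh.structureModule C).IsQuasicoherent := H10Coh.isQuasicoherent_unit
    obtain ⟨q⟩ := H10Coh.Tw.nonempty_push_tensor_iso i (Coh.structureModule C) hMi
    haveI : (pb.obj M).IsQuasicoherent := (H11Ample.isCoh_of_isInvertible (H11Ample.isInvertible_pullback i hMi)).1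
    let e₃ : S.X₃ ≅ (Coh.push i).obj (pb.obj M) :=
      PicGrp.tensorModIso (H28Vert.quotModKerIso i) (Iso.refl M) ≪≫ q ≪≫
        (Coh.push i).mapIso (H10Coh.Tw.leftUnitIso _)
    rw [H22Alg.CurveAmple.finrank_HH_congr (k := k) e₃ 0, H28Int.Push.finrank_HH_push k i rfl _ 0,
      H22Alg.CurveAmple.finrank_HH_congr (k := k) eC 0]
    exact H29CurveDual.finrank_h1_structure (k := k) (X := C) hC
  omega

end Groth.Agent.S14486
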