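import Groth.Statements.S14487
import Groth.Agent.H11PicBlow.Main
import Groth.Agent.H8Props.FieldDimEquidim
import Groth.Agent.S2348

set_option autoImplicit false
set_option linter.style.haveILetI false
universe u
open CategoryTheory CategoryTheory.Limits AlgebraicGeometry
open BlowUp

namespace Groth.Agent.S14487

/-- Let k be a field, X a regular variety over k (an integral scheme, separated and of finite type over
k, all of whose local rings are regular) and Y ⊆ X a regular closed subvariety of codimension r ≥ 2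
(i : Y → X a closed immersion with Y integral, all local rings of Y regular, and dim Y + r = dim X
with r ≥ 2). Let π : X' → X be a blowing up of X along Y (universal property for the ideal of Y),
let I_E be the ideal sheaf of its exceptional divisor E, and let M be an inverse of I_E for the
tensor product (M = O_{X'}(E)). Then (L, n) ↦ π^*L ⊗ O_{X'}(nE) is an isomorphism of Pic(X) ⊕ ℤ onto
Pic(X'): every invertible O_{X'}-module is isomorphic to π^*L ⊗ I_E^{⊗ n} or to π^*L ⊗ M^{⊗ n} for
some invertible O_X-module L and some n ≥ 0, and if π^*L ⊗ I_E^{⊗ n} or π^*L ⊗ M^{⊗ n} is isomorphic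
to O_{X'} for an invertible L and some n ≥ 0, then n = 0 and L ≅ O_X. -/
theorem result (k : Type u) [Field k] (X : Scheme.{u})
    [X.Over (Spec (CommRingCat.of k))] [IsIntegral X] [IsSeparated (X ↘ (Spec (CommRingCat.of k)))]
    [LocallyOfFiniteType (X ↘ (Spec (CommRingCat.of k)))] [QuasiCompact (X ↘ (Spec (CommRingCat.of k)))]
    (hreg : ∀ x : X, IsRegularLocalRing (X.presheaf.stalk x))
    (Y : Scheme.{u}) (i : Y ⟶ X) [IsClosedImmersion i] [IsIntegral Y]
    (hYreg : ∀ y : Y, IsRegularLocalRing (Y.presheaf.stalk y))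
    (dX dY r : ℕ) (hdX : topologicalKrullDim X = dX) (hdY : topologicalKrullDim Y = dY) (hr : dY + r = dX) (h2 : 2 ≤ r)
    (X' : Scheme.{u}) (π : X' ⟶ X) (hπ : BlowUp.IsBlowUp π i.ker)
    (M : X'.Modules) (hM : ClSub.IsInverseOf M (ClSub.idealMod (BlowUp.exceptional π i.ker))) :
    (∀ L' : X'.Modules, PicF.IsInvertible L' → ∃ L : X.Modules, PicF.IsInvertible L ∧ ∃ n : ℕ,
        Nonempty (L' ≅ CohB1.tensorMod ((Scheme.Modules.pullback π).obj L) (CohB1.tensorPow (ClSub.idealMod (BlowUp.exceptional π i.ker)) n)) ∨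
          Nonempty (L' ≅ CohB1.tensorMod ((Scheme.Modules.pullback π).obj L) (CohB1.tensorPow M n))) ∧
      (∀ L : X.Modules, PicF.IsInvertible L → ∀ n : ℕ,
        (Nonempty (CohB1.tensorMod ((Scheme.Modules.pullback π).obj L) (CohB1.tensorPow (ClSub.idealMod (BlowUp.exceptional π i.ker)) n) ≅
            Coh.structureModule X') ∨
          Nonempty (CohB1.tensorMod ((Scheme.Modules.pullback π).obj L) (CohB1.tensorPow M n) ≅ Coh.structureModule X')) →
        n = 0 ∧ Nonempty (L ≅ Coh.structureModule X)) := by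
  haveI : IsLocallyNoetherian X := LocallyOfFiniteType.isLocallyNoetherian (X ↘ Spec (CommRingCat.of k))
  haveI : CompactSpace X := QuasiCompact.compactSpace_of_compactSpace (X ↘ Spec (CommRingCat.of k))
  haveI : IsNoetherian X := { }
  have hcl := (Scheme.Hom.isClosedEmbedding i)
  have hdim : ∀ x ∈ Set.range i, (2 : WithBot ℕ∞) ≤ ringKrullDim (X.presheaf.stalk x) := by
    intro x hx
    have h := H8Props.FieldDim.localDim_eq_stalk_add_cdim (X ↘ Spec (CommRingCat.of k)) x
    rw [H8Props.FieldDim.localDim_eq_dim_of_irreducible (X ↘ Spec (CommRingCat.of k)), hdX] at h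
    have hle : H8Props.FieldDim.cdim x ≤ (dY : WithBot ℕ∞) := by
      have hsub : closure ({x} : Set X) ⊆ Set.range i :=
        closure_minimal (Set.singleton_subset_iff.2 hx) hcl.isClosed_range
      refine (H8Props.FieldDim.dim_mono hsub).trans ?_
      rw [← hdY]
      exact (IsHomeomorph.topologicalKrullDim_eq _ hcl.isEmbedding.toHomeomorph.isHomeomorph).symm.le
    have h1 : (dX : WithBot ℕ∞) ≤ ringKrullDim (X.presheaf.stalk x) + dY := h.le.trans (by gcongr)
    by_contra hlt
    haveI : IsRegularLocalRing (X.presheaf.stalk x) := hreg x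
    obtain ⟨m, hm⟩ := H4Depth.exists_nat_ringKrullDim_eq (R := X.presheaf.stalk x)
    rw [hm] at hlt h1
    have h2' : dX ≤ m + dY := by exact_mod_cast h1
    exact hlt (by exact_mod_cast (show 2 ≤ m by omega))
  have hsupp : (i.ker.support : Set X) = Set.range i := by
    rw [Scheme.Hom.support_ker, hcl.isClosed_range.closure_eq]
  have hη : genericPoint X ∉ Set.range i := fun h => by
    have h0 := hdim _ h
    rw [ringKrullDim_eq_zero_of_isField H29Ref.isField_generic] at h0
    exact absurd h0 (by decide)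
  have hker : i.ker ≠ ⊥ := fun h => hη (by
    rw [← hsupp, h, Scheme.IdealSheafData.support_bot]; trivial)
  obtain ⟨hint, hgen, -⟩ := S2348.result i.ker hker π hπ
  haveI := hint
  haveI : IsProper π := H26Blow.isProper_of_isBlowUp hπ fun x => by
    obtain ⟨U, hU, hxU, -⟩ := exists_isAffineOpen_mem_and_subset (U := ⊤) (x := x) trivial
    haveI : IsNoetherianRing Γ(X, U) := IsLocallyNoetherian.component_noetherian ⟨U, hU⟩
    exact ⟨⟨U, hU⟩, hxU, IsNoetherian.noetherian _⟩
  haveI : IsLocallyNoetherian X' := LocallyOfFiniteType.isLocallyNoetherian π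
  have hreg' := fun z => H7Blow.isRegular_stalk_blowUp X Y X' hreg i hYreg π hπ z
  have hsurj : Function.Surjective π := fun x =>
    (((genericPoint_spec X).specializes (Set.mem_univ x))).mem_closed (π.isClosedMap.isClosed_range) ⟨_, hgen⟩
  let U : X.Opens := ⟨(i.ker.support : Set X)ᶜ, i.ker.support.isClosed.isOpen_compl⟩
  haveI : IsIso (π ∣_ U) := H29Blow.isIso_morphismRestrict hπ U fun x hx => hx
  obtain ⟨hξ, hbir⟩ := H28Vert.birational_of_isIso_restrict π U ⟨genericPoint X, fun h => hη (hsupp ▸ h)⟩
  have hdom := H28Pinch.bijective_app_of_birational π (H29Ref.isNormalScheme_of_regular hreg) hξ hbir ⊤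
  have hcodim : ∀ x ∈ i.ker.support, (2 : WithBot ℕ∞) ≤ ringKrullDim (X.presheaf.stalk x) :=
    fun x hx => hdim x (hsupp ▸ hx)
  have hE := H11PicBlow.isIntegral_exceptional i hreg hYreg
    (fun y U' hy hle => hη (hle (((genericPoint_spec X).specializes (Set.mem_univ _)).mem_open U'.2 hy))) hπ hsurj
  obtain ⟨z, hz⟩ := hsurj (i (genericPoint Y))
  have hne : ((BlowUp.exceptional π i.ker).support : Set X').Nonempty := ⟨z, by
    show z ∈ (i.ker.comap π).support
    rw [Scheme.IdealSheafData.support_comap]
    show π z ∈ (i.ker.support : Set X)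
    rw [hsupp, hz]
    exact ⟨_, rfl⟩⟩
  exact ⟨fun L' hL' => H11PicBlow.exists_decomposition hreg hreg' hπ hE hL' M hM,
    fun L hL n h => H11PicBlow.injective hreg hπ hcodim hdom hne M hM hL n h⟩

end Groth.Agent.S14487
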