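-- statement FlatMor.GrothFrozen.S1449 (Groth/Statements/S1449.lean; the theorem FlatMor.isOpen_fibre_degree_ge_of_flat_locallyQuasiFinite);
import Groth.Statements.S1449
import Groth.Agent.H7Flat.FibreDegree

set_option autoImplicit false
universe u
open FlatMor

namespace Groth.Agent.S1449
set_option backward.isDefEq.respectTransparency false

open AlgebraicGeometry CategoryTheory Limits in
/-- Consider a separated, flat, locally quasi-finite morphism f : X → S which is locally of finite
presentation. Then there are opens S = U_0 ⊇ U_1 ⊇ U_2 ⊇ ... of S with the property that a morphism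
from the spectrum of a field to S lands in U_d exactly when the base change of X to that field has
rank (of its ring of global functions over the field) at least d. -/
theorem result {X S : Scheme.{u}} (f : X ⟶ S) [Flat f] [LocallyOfFinitePresentation f] [IsSeparated f] [LocallyQuasiFinite f] :
    ∃ U : ℕ → S.Opens, Antitone U ∧ U 0 = ⊤ ∧ ∀ (K : Type u) [Field K] (g : Spec (CommRingCat.of K) ⟶ S) (d : ℕ),
      Set.range ⇑g ⊆ (U d : Set ↑S) ↔ (d : Cardinal.{u}) ≤ (letI := ((Scheme.ΓSpecIso (CommRingCat.of K)).inv ≫ (pullback.snd f g).appTop).hom.toAlgebra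
        Module.rank K (Γ(pullback f g, ⊤) : Type u)) := by
  classical
  let P : ℕ → Set ↑S := fun d => {s | ∃ O : X.Opens, H7Flat.FibreDegree.Good f O ∧ d ≤ H13AlgSp.Degree.deg (O.ι ≫ f) s}
  have hopen : ∀ d, IsOpen (P d) := fun d => by
    refine isOpen_iff_forall_mem_open.2 fun s ⟨O, hO, hd⟩ => ?_
    exact ⟨{t | d ≤ H13AlgSp.Degree.deg (O.ι ≫ f) t}, fun t ht => ⟨O, hO, ht⟩,
      H13AlgSp.Degree.isOpen_le_deg (O.ι ≫ f) hO d, hd⟩
  refine ⟨fun d => ⟨P d, hopen d⟩, fun a b hab s ⟨O, hO, hb⟩ => ⟨O, hO, hab.trans hb⟩, ?_, fun K _ g d => ?_⟩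
  · refine top_le_iff.1 fun s _ => ?_
    obtain ⟨O, -, hO⟩ := H7Flat.FibreDegree.exists_good f ∅ Set.finite_empty s (fun x hx => hx.elim)
    exact ⟨O, hO, Nat.zero_le _⟩
  · refine Iff.trans ?_ (H7Flat.FibreDegree.natCast_le_rk_iff f g (IsLocalRing.closedPoint K) d).symm
    constructor
    · exact fun h => h ⟨_, rfl⟩
    · rintro h _ ⟨y, rfl⟩
      rwa [Subsingleton.elim y (IsLocalRing.closedPoint K)]

end Groth.Agent.S1449
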