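import Groth.Statements.S14490
import Groth.Agent.H17.FibProj.SectApply

set_option autoImplicit false
universe u
open CategoryTheory CategoryTheory.Limits AlgebraicGeometry
open ProjBd

namespace Groth.Agent.S14490

/-- Let f : C → B be a proper smooth morphism of schemes of relative dimension one all of whose
geometric fibres are projective lines (for every algebraically closed field Ω and every Spec Ω → B,
the fibre C ×_B Spec Ω is isomorphic to P^1_Ω over Ω). If f admits three sections s₁, s₂, s₃ with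
pairwise disjoint images, then C is the projective bundle of the free module of rank 2, i.e. C ≅ B ×
P^1 over B: there exist an invertible O_C-module O(1) and a surjection q : f^*(O_B^2) → O(1) such
that (f : C → B, O(1), q) has the universal property of the projective bundle P(O_B^2). -/
theorem result {C B : Scheme.{u}} (f : C ⟶ B)
    [IsProper f] [SmoothOfRelativeDimension 1 f]
    (hfib : ∀ (Ω : Type u) [Field Ω] [IsAlgClosed Ω] (b : Spec (CommRingCat.of Ω) ⟶ B),
      ∃ e : pullback f b ≅ CohB1.ProjSpace 1 Ω, e.hom ≫ CohB1.ProjSpace.toSpec 1 Ω = pullback.snd f b)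
    (s₁ s₂ s₃ : B ⟶ C) (hs₁ : s₁ ≫ f = 𝟙 B) (hs₂ : s₂ ≫ f = 𝟙 B) (hs₃ : s₃ ≫ f = 𝟙 B)
    (h₁₂ : Disjoint (Set.range s₁) (Set.range s₂)) (h₁₃ : Disjoint (Set.range s₁) (Set.range s₃))
    (h₂₃ : Disjoint (Set.range s₂) (Set.range s₃)) :
    ∃ (O1 : C.Modules) (q : (Scheme.Modules.pullback f).obj (FlatMod.freeMod B 2) ⟶ O1),
      KRR.IsProjBundle f (FlatMod.freeMod B 2) O1 q := by
  haveI : Smooth f := SmoothOfRelativeDimension.smooth 1 f
  obtain ⟨L, hL, eL⟩ := Groth.Agent.H17.FibProj.exists_sectionMod f s₃ hs₃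
  have h := Groth.Agent.H17.FibProj.fibTwist_of_section f hfib s₃ hs₃ hL eL
  obtain ⟨φ⟩ := Groth.Agent.H17.FibProj.exists_iso_biprod hL h ![s₁, s₂]
    (fun j => by fin_cases j <;> assumption)
    (fun b hb => Set.disjoint_left.1 h₁₂ ⟨b, rfl⟩ ⟨b, hb.symm⟩)
  obtain ⟨a⟩ := Groth.Agent.H17.FibProj.nonempty_pullback_sectionMod f s₃ hs₃ hL eL s₁ h₁₃.symm
  obtain ⟨b⟩ := Groth.Agent.H17.FibProj.nonempty_pullback_sectionMod f s₃ hs₃ hL eL s₂ h₂₃.symm
  exact ⟨L, _, Groth.Agent.H17.FibProj.isProjBundle_congr (Groth.Agent.H17.FibProj.isProjBundle hL h)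
    ((Groth.Agent.H17.FibProj.biprodFreeTwo B).symm ≪≫ biprod.mapIso a.symm b.symm ≪≫ φ.symm)⟩

end Groth.Agent.S14490
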