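import Groth.Statements.S14491

set_option autoImplicit false
universe w v u
open DerTri

namespace Groth.Agent.S14491

open scoped ZeroObject
open CategoryTheory.Pretriangulated CategoryTheory.Limits

open CategoryTheory Pretriangulated in
/-- In the derived category D(C) of an abelian category C, let E ⟶ F ⟶ G be two morphisms with E
concentrated in non-positive degrees and G concentrated in non-negative degrees for the canonical
t-structure. If two morphisms G ⟶ E⟦1⟧ both complete E ⟶ F ⟶ G to a distinguished triangle, then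
they are equal. (The published statement is phrased with the morphism G⟦-1⟧ ⟶ E of the triangle
G⟦-1⟧ ⟶ E ⟶ F ⟶ G; this row uses the equivalent connecting morphism G ⟶ E⟦1⟧ of the rotated
triangle.) -/
theorem result {C : Type u} [Category.{v} C] [Abelian C]
    [HasDerivedCategory.{w} C] {E F G : DerivedCategory C} (u : E ⟶ F) (v : F ⟶ G)
    [E.IsLE 0] [G.IsGE 0] (w w' : G ⟶ E⟦(1 : ℤ)⟧)
    (hw : Triangle.mk u v w ∈ distTriang (DerivedCategory C))
    (hw' : Triangle.mk u v w' ∈ distTriang (DerivedCategory C)) :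
    w = w' := by
  obtain ⟨(c : G ⟶ G), hc₁, hc₂⟩ := complete_distinguished_triangle_morphism _ _ hw hw' (𝟙 E) (𝟙 F)
    ((Category.comp_id _).trans (Category.id_comp _).symm)
  have hc₁' : v ≫ (c - 𝟙 G) = 0 := by
    rw [Preadditive.comp_sub, sub_eq_zero]
    have h' : v ≫ c = 𝟙 F ≫ v := hc₁
    rw [h', Category.id_comp, Category.comp_id]
  obtain ⟨(y : E⟦(1 : ℤ)⟧ ⟶ G), hy⟩ := Triangle.yoneda_exact₃ _ hw (c - 𝟙 G) hc₁'
  have hy0 : y = 0 := by
    have : (E⟦(1 : ℤ)⟧).IsLE (-1) := DerivedCategory.TStructure.t.isLE_shift E 0 1 (-1) (by lia)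
    exact DerivedCategory.TStructure.t.zero y (-1) 0 (by lia)
  have : c = 𝟙 G := sub_eq_zero.1 (by rw [hy, hy0]; exact comp_zero)
  subst this
  calc w = w ≫ (𝟙 E)⟦(1 : ℤ)⟧' := by simp
    _ = 𝟙 G ≫ w' := hc₂
    _ = w' := Category.id_comp w'

end Groth.Agent.S14491
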