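import Groth.Statements.S14495
import Groth.Agent.H16Derived.CofiniteLemmas

set_option autoImplicit false
universe v
open IndCof

namespace Groth.Agent.S14495

open CategoryTheory CategoryTheory.Limits Groth.Agent.H16Derived.Cofinite

open CategoryTheory CategoryTheory.Limits in
/-- Let C be a small abelian category all of whose objects are Artinian and killed by some power of a
prime p. The abelian category of ind-objects of C of cofinite type (those A with every A[p^n]
isomorphic to an object of C) is Artinian: for A of cofinite type, every decreasing chain of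
sub-objects of A in Ind C whose underlying objects are of cofinite type is eventually constant.
(Sub-objects of A in the full subcategory of cofinite-type objects are exactly such sub-objects,
since that subcategory is stable under kernels in Ind C.) -/
theorem result {C : Type v} [SmallCategory C] [Abelian C]
    (hart : ∀ X : C, IsArtinianObject X) (p : ℕ) (hp : p.Prime)
    (htor : ∀ X : C, ∃ n : ℕ, (p ^ n) • 𝟙 X = 0)
    (A : Ind C) (hA : ∀ n : ℕ, (Ind.yoneda (C := C)).essImage (kernel ((p ^ n) • 𝟙 A))) (S : ℕ → Subobject A) (hS : Antitone S)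
    (hcof : ∀ m n : ℕ, (Ind.yoneda (C := C)).essImage
      (kernel ((p ^ n) • 𝟙 ((S m : Subobject A) : Ind C)))) :
    ∃ N : ℕ, ∀ m : ℕ, N ≤ m → S m = S N := by
  have h := hyp_of_prime_pow hart p htor
  choose N hN using fun m => stabilize h (hcof m)
  let D : ℕ → Subobject A := fun m => imageSubobject ((p ^ N m) • (S m).arrow)
  have hDS : ∀ m, D m ≤ S m := fun m => by
    refine Groth.Agent.H16Derived.SubLattice.le_of_forall fun T x hx => ?_
    obtain ⟨T', π, hπ, z, hz⟩ :=
      (Groth.Agent.H16Derived.SubLattice.imageSubobject_factors_iff _ _).1 hx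
    refine Groth.Agent.H16Derived.SubLattice.factors_of_epi π ?_
    rw [hz, Preadditive.comp_nsmul, ← Preadditive.nsmul_comp]
    exact Subobject.factors_comp_arrow _
  have hDmem : ∀ m ⦃T : Ind C⦄ (z : T ⟶ (S m : Ind C)),
      (D m).Factors ((p ^ N m) • (z ≫ (S m).arrow)) := fun m T z => by
    rw [← Preadditive.comp_nsmul]
    exact (Groth.Agent.H16Derived.SubLattice.imageSubobject_factors_iff _ _).2
      ⟨T, 𝟙 T, inferInstance, z, Category.id_comp _⟩
  have hDd : ∀ m, Epi (p • 𝟙 (D m : Ind C)) := fun m => by
    rw [epi_nsmul_subobject_iff]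
    intro T x hx
    obtain ⟨T', π, hπ, z, hz⟩ :=
      (Groth.Agent.H16Derived.SubLattice.imageSubobject_factors_iff _ _).1 hx
    have h1 : (img (p ^ N m) (S m : Ind C)).Factors ((p ^ N m) • z) := img_smul _ _
    rw [← hN m (N m + 1) (by lia)] at h1
    obtain ⟨T'', ρ, hρ, w, hw⟩ := (img_factors_iff _ _).1 h1
    refine ⟨T'', ρ ≫ π, inferInstance, (p ^ N m) • (w ≫ (S m).arrow), hDmem m w, ?_⟩
    rw [Category.assoc, hz, Preadditive.comp_nsmul z, ← Preadditive.nsmul_comp, reassoc_of% hw,
      Preadditive.nsmul_comp, pow_succ', mul_smul]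
  have hmax : ∀ m (U : Subobject A), Epi (p • 𝟙 (U : Ind C)) → U ≤ S m → U ≤ D m :=
    fun m U hU hUS => by
    refine Groth.Agent.H16Derived.SubLattice.le_of_forall fun T x hx => ?_
    obtain ⟨T', π, hπ, z, hzU, hz⟩ :=
      (epi_nsmul_subobject_iff _ U).1 (epi_nsmul_pow p (N m)) x hx
    refine Groth.Agent.H16Derived.SubLattice.factors_of_epi π ?_
    rw [hz, ← Subobject.factorThru_arrow (S m) z (Subobject.factors_of_le z hUS hzU)]
    exact hDmem m _
  have hDanti : Antitone D := fun i j hij => hmax i (D j) (hDd j) ((hDS j).trans (hS hij))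
  have hDcof : ∀ m, (Ind.yoneda (C := C)).essImage (kernel (p • 𝟙 (D m : Ind C))) := fun m => by
    have h1 := isCof_imageSubobject h (hcof m) hA ((p ^ N m) • (S m).arrow) 1
    simpa only [pow_one] using h1
  obtain ⟨M, hM⟩ := torsion_stabilize hart p (by simpa only [pow_one] using hA 1) D hDanti hDcof
  obtain ⟨M', hM'⟩ := torsion_stabilize hart (p ^ N M) (hA _) S hS (fun m => hcof m _)
  refine ⟨max M M', fun m hm => le_antisymm (hS hm) ?_⟩
  have hDm : D M ≤ D m :=
    le_of_torsion_eq h htor _ _ (hDanti (le_of_max_le_left hm)) (hDd m)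
      (hM m (le_of_max_le_left hm))
  refine Groth.Agent.H16Derived.SubLattice.le_of_forall fun T x hx => ?_
  have hxM : (S M).Factors x := Subobject.factors_of_le x (hS (le_max_left _ _)) hx
  have hxM' : (S M').Factors x := Subobject.factors_of_le x (hS (le_max_right _ _)) hx
  have h1 : (D M).Factors ((p ^ N M) • x) := by
    rw [← Subobject.factorThru_arrow (S M) x hxM]
    exact hDmem M _
  obtain ⟨T', π, hπ, d, hd, hxd⟩ :=
    (epi_nsmul_subobject_iff _ (D M)).1 (have := hDd M; epi_nsmul_pow p (N M)) _ h1
  have hdm : (S m).Factors d := Subobject.factors_of_le d (hDm.trans (hDS m)) hd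
  have h2 : (S m).Factors (π ≫ x - d) := by
    refine hM' m (le_of_max_le_right hm) _ ?_ ?_
    · rw [smul_sub, ← Preadditive.comp_nsmul, hxd, sub_self]
    · exact Groth.Agent.H16Derived.SubLattice.factors_sub
        (Groth.Agent.H16Derived.SubLattice.factors_comp π hxM')
        (Subobject.factors_of_le d (hS (le_of_max_le_right hm)) hdm)
  have h3 := Subobject.factors_add _ _ h2 hdm
  rw [sub_add_cancel] at h3
  exact Groth.Agent.H16Derived.SubLattice.factors_of_epi π h3

end Groth.Agent.S14495
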