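import Groth.Statements.S14497
import Groth.Agent.H16Derived.SubLattice

set_option autoImplicit false
universe v u
open IndCof

namespace Groth.Agent.S14497

open CategoryTheory CategoryTheory.Limits Groth.Agent.H16Derived.SubLattice

lemma nsmul_factors {V : Type u} [Category.{v} V] [Abelian V] {B T : V} (D : Subobject B) (k : ℕ)
    (x : T ⟶ B) (hx : D.Factors x) : D.Factors (k • x) := by
  rw [← Subobject.factorThru_arrow D x hx, ← Preadditive.nsmul_comp]
  exact Subobject.factors_comp_arrow _

lemma le_image_of_divisible {V : Type u} [Category.{v} V] [Abelian V] {B : V} (D : Subobject B)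
    (hD : ∀ k : ℕ, 0 < k → Epi (k • 𝟙 (D : V))) (k : ℕ) (hk : 0 < k) :
    D ≤ imageSubobject (k • 𝟙 B) := by
  have := hD k hk
  refine le_of_forall fun T x hx => ?_
  rw [imageSubobject_factors_iff]
  obtain ⟨T', π, hπ, z, hz⟩ :=
    surjective_up_to_refinements_of_epi (k • 𝟙 (D : V)) (D.factorThru x hx)
  refine ⟨T', π, hπ, z ≫ D.arrow, ?_⟩
  rw [← Subobject.factorThru_arrow D x hx, ← Category.assoc, hz]
  simp [Preadditive.comp_nsmul, Preadditive.nsmul_comp]

open CategoryTheory CategoryTheory.Limits in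
/-- Let B be an object of an abelian category and consider the inverse system, indexed by the positive
integers ordered by divisibility, with every term equal to B and transition map from the m-th to the
n-th term (n ∣ m) given by multiplication by m/n. This system is Mittag-Leffler, i.e. for every n
the images in the n-th term of the transition maps are eventually constant, if and only if B has a
divisible sub-object B' (multiplication by every positive integer is an epimorphism of B') with B/B'
killed by some positive integer. Moreover such a B' is the largest divisible sub-object of B. -/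
theorem result
    {V : Type u} [Category.{v} V] [Abelian V] (B : V) :
    ((∀ n : ℕ, 0 < n → ∃ m : ℕ, 0 < m ∧ n ∣ m ∧ ∀ m' : ℕ, 0 < m' → m ∣ m' →
        imageSubobject ((m' / n) • 𝟙 B) = imageSubobject ((m / n) • 𝟙 B)) ↔
      ∃ B' : Subobject B, (∀ k : ℕ, 0 < k → Epi (k • 𝟙 (B' : V))) ∧
        ∃ M : ℕ, 0 < M ∧ M • 𝟙 (cokernel B'.arrow) = 0) ∧
    (∀ B' : Subobject B, (∀ k : ℕ, 0 < k → Epi (k • 𝟙 (B' : V))) →
      (∃ M : ℕ, 0 < M ∧ M • 𝟙 (cokernel B'.arrow) = 0) →
      ∀ D : Subobject B, (∀ k : ℕ, 0 < k → Epi (k • 𝟙 (D : V))) → D ≤ B') := by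
  have le_mul : ∀ a b : ℕ, imageSubobject ((a * b) • 𝟙 B) ≤ imageSubobject (a • 𝟙 B) := by
    intro a b
    refine le_of_forall fun T x hx => ?_
    rw [imageSubobject_factors_iff] at hx ⊢
    obtain ⟨T', π, hπ, z, hz⟩ := hx
    exact ⟨T', π, hπ, b • z, by rw [hz]; simp only [Preadditive.nsmul_comp, Preadditive.comp_nsmul, Category.comp_id, mul_smul]⟩
  have key : ∀ B' : Subobject B, (∀ k : ℕ, 0 < k → Epi (k • 𝟙 (B' : V))) → ∀ M : ℕ,
      M • 𝟙 (cokernel B'.arrow) = 0 → imageSubobject (M • 𝟙 B) ≤ B' := by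
    intro B' _ M hM
    refine le_of_forall fun T x hx => ?_
    rw [imageSubobject_factors_iff] at hx
    obtain ⟨T', π, hπ, z, hz⟩ := hx
    apply factors_of_epi π
    have hex : (ShortComplex.mk B'.arrow (cokernel.π B'.arrow) (cokernel.condition _)).Exact :=
      ShortComplex.exact_cokernel _
    have : Mono (ShortComplex.mk B'.arrow (cokernel.π B'.arrow) (cokernel.condition _)).f :=
      inferInstanceAs (Mono B'.arrow)
    have h0 : (π ≫ x) ≫ cokernel.π B'.arrow = 0 := by
      rw [hz]
      calc (z ≫ (M • 𝟙 B)) ≫ cokernel.π B'.arrow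
          = (z ≫ cokernel.π B'.arrow) ≫ (M • 𝟙 (cokernel B'.arrow)) := by
            simp [Preadditive.nsmul_comp, Preadditive.comp_nsmul]
        _ = 0 := by rw [hM, comp_zero]
    rw [← hex.lift_f (π ≫ x) h0]
    exact Subobject.factors_comp_arrow _
  refine ⟨⟨fun h => ?_, ?_⟩, ?_⟩
  · obtain ⟨m, hm, -, hst⟩ := h 1 one_pos
    have hst' : ∀ k : ℕ, 0 < k → imageSubobject ((m * k) • 𝟙 B) = imageSubobject (m • 𝟙 B) :=
      fun k hk => by simpa only [Nat.div_one] using hst (m * k) (Nat.mul_pos hm hk) (dvd_mul_right m k)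
    refine ⟨imageSubobject (m • 𝟙 B), fun k hk => ?_, m, hm, ?_⟩
    · rw [epi_iff_surjective_up_to_refinements]
      intro T y
      have hy : (imageSubobject ((m * k) • 𝟙 B)).Factors (y ≫ (imageSubobject (m • 𝟙 B)).arrow) := by
        rw [hst' k hk]; exact Subobject.factors_comp_arrow y
      rw [imageSubobject_factors_iff] at hy
      obtain ⟨T', π, hπ, z, hz⟩ := hy
      have hw : (imageSubobject (m • 𝟙 B)).Factors (z ≫ (m • 𝟙 B)) :=
        imageSubobject_factors_comp_self (f := m • 𝟙 B) z
      refine ⟨T', π, hπ, (imageSubobject (m • 𝟙 B)).factorThru _ hw, ?_⟩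
      rw [← cancel_mono (imageSubobject (m • 𝟙 B)).arrow, Category.assoc, hz]
      simp only [Preadditive.nsmul_comp, Preadditive.comp_nsmul, Category.comp_id, Subobject.factorThru_arrow, mul_smul]
      rw [smul_comm]
    · rw [← cancel_epi (cokernel.π (imageSubobject (m • 𝟙 B)).arrow), comp_zero,
        Preadditive.comp_nsmul, Category.comp_id]
      have : m • cokernel.π (imageSubobject (m • 𝟙 B)).arrow =
          (factorThruImageSubobject (m • 𝟙 B) ≫ (imageSubobject (m • 𝟙 B)).arrow) ≫
            cokernel.π (imageSubobject (m • 𝟙 B)).arrow := by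
        rw [imageSubobject_arrow_comp, Preadditive.nsmul_comp, Category.id_comp]
      rw [this, Category.assoc, cokernel.condition, comp_zero]
  · rintro ⟨B', hdiv, M, hM, hMq⟩ n hn
    have eqB : ∀ k : ℕ, 0 < k → M ∣ k → imageSubobject (k • 𝟙 B) = B' := by
      rintro k hk ⟨c, rfl⟩
      exact le_antisymm ((le_mul M c).trans (key B' hdiv M hMq)) (le_image_of_divisible B' hdiv _ hk)
    refine ⟨n * M, Nat.mul_pos hn hM, dvd_mul_right n M, fun m' hm' hd => ?_⟩
    obtain ⟨c, rfl⟩ := hd
    have hc : 0 < c := Nat.pos_of_ne_zero fun h => by simp [h] at hm'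
    rw [mul_assoc, Nat.mul_div_cancel_left _ hn, Nat.mul_div_cancel_left _ hn,
      eqB _ (Nat.mul_pos hM hc) (dvd_mul_right M c), eqB M hM dvd_rfl]
  · rintro B' hdiv ⟨M, hM, hMq⟩ D hD
    exact (le_image_of_divisible D hD M hM).trans (key B' hdiv M hMq)

end Groth.Agent.S14497
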