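import Groth.Statements.S14498
import Mathlib.CategoryTheory.Abelian.Refinements
import Mathlib.CategoryTheory.Abelian.Exact

set_option autoImplicit false
universe v u
open AbDiag

namespace Groth.Agent.S14498

open CategoryTheory CategoryTheory.Limits

open CategoryTheory CategoryTheory.Limits in
/-- In an abelian category, let 0 → F → W → E' → 0 (maps a, b) and 0 → E → W → F' → G → G' → 0 (maps c,
d, e, g) be exact sequences such that the composite F → W → F' is a monomorphism. Then the composite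
E → W → E' is a monomorphism, and there is a short exact sequence 0 → Coker(E → E') → Coker(F → F')
→ Ker(G → G') → 0 whose first map is induced by d (through the quotient map b) and whose second map
is induced by e. -/
theorem result
    {V : Type u} [Category.{v} V] [Abelian V] {F W E' E F' G G' : V}
    (a : F ⟶ W) (b : W ⟶ E') (c : E ⟶ W) (d : W ⟶ F') (e : F' ⟶ G) (g : G ⟶ G')
    [Mono a] [Epi b] (wab : a ≫ b = 0) (hab : (ShortComplex.mk a b wab).Exact)
    [Mono c] (wcd : c ≫ d = 0) (hcd : (ShortComplex.mk c d wcd).Exact)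
    (wde : d ≫ e = 0) (hde : (ShortComplex.mk d e wde).Exact)
    (weg : e ≫ g = 0) (heg : (ShortComplex.mk e g weg).Exact) [Epi g]
    (hmono : Mono (a ≫ d)) :
    Mono (c ≫ b) ∧
      ∃ (φ : cokernel (c ≫ b) ⟶ cokernel (a ≫ d)) (ψ : cokernel (a ≫ d) ⟶ kernel g)
        (w : φ ≫ ψ = 0),
        b ≫ cokernel.π (c ≫ b) ≫ φ = d ≫ cokernel.π (a ≫ d) ∧
        cokernel.π (a ≫ d) ≫ ψ ≫ kernel.ι g = e ∧
        (ShortComplex.mk φ ψ w).ShortExact := by
  have hmono_cb : Mono (c ≫ b) := Preadditive.mono_of_cancel_zero _ fun {T} x hx => by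
    obtain ⟨T', π, hπ, (f : T' ⟶ F), (hf : π ≫ x ≫ c = f ≫ a)⟩ :=
      hab.exact_up_to_refinements (x ≫ c) (by simpa using hx)
    have h₁ : f ≫ a ≫ d = 0 := by rw [← reassoc_of% hf, wcd]; simp
    have h₂ : f = 0 := (cancel_mono (a ≫ d)).1 (h₁.trans zero_comp.symm)
    rw [h₂, zero_comp] at hf
    have h₃ : (π ≫ x) ≫ c = 0 ≫ c := by rw [zero_comp, Category.assoc, hf]
    rw [cancel_mono] at h₃
    rw [← cancel_epi π, h₃, comp_zero]
  have hgb : Epi (ShortComplex.mk a b wab).g := ‹Epi b›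
  let β : E' ⟶ cokernel (a ≫ d) := hab.desc (d ≫ cokernel.π (a ≫ d))
    (show a ≫ d ≫ cokernel.π (a ≫ d) = 0 by rw [← Category.assoc, cokernel.condition])
  have hβ : b ≫ β = d ≫ cokernel.π (a ≫ d) := hab.g_desc _ _
  let φ : cokernel (c ≫ b) ⟶ cokernel (a ≫ d) := cokernel.desc _ β (by
    rw [Category.assoc, hβ, reassoc_of% wcd, zero_comp])
  let ψ : cokernel (a ≫ d) ⟶ kernel g := cokernel.desc _ (kernel.lift g e weg) (by
    ext; simp [wde])
  have hφ : b ≫ cokernel.π (c ≫ b) ≫ φ = d ≫ cokernel.π (a ≫ d) := by simp [φ, hβ]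
  have hψ : cokernel.π (a ≫ d) ≫ ψ ≫ kernel.ι g = e := by simp [ψ]
  have w : φ ≫ ψ = 0 := by
    rw [← cancel_epi (cokernel.π (c ≫ b)), ← cancel_epi b, reassoc_of% hφ, ← cancel_mono (kernel.ι g)]
    simp [hψ, wde]
  have hsurj : ∀ {T : V} (x : T ⟶ cokernel (c ≫ b)), ∃ (T' : V) (π : T' ⟶ T) (_ : Epi π)
      (v : T' ⟶ W), π ≫ x = v ≫ b ≫ cokernel.π (c ≫ b) := by
    intro T x
    obtain ⟨T₁, π₁, _, v, hv⟩ := surjective_up_to_refinements_of_epi (b ≫ cokernel.π (c ≫ b)) x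
    exact ⟨T₁, π₁, inferInstance, v, hv⟩
  refine ⟨hmono_cb, φ, ψ, w, hφ, hψ, ?_⟩
  refine { exact := ?_, mono_f := ?_, epi_g := ?_ }
  · rw [ShortComplex.exact_iff_exact_up_to_refinements]
    intro T (y : T ⟶ cokernel (a ≫ d)) (hy : y ≫ ψ = 0)
    obtain ⟨T₁, π₁, _, z, hz⟩ := surjective_up_to_refinements_of_epi (cokernel.π (a ≫ d)) y
    have hze : z ≫ e = 0 := by
      rw [← hψ, ← reassoc_of% hz, reassoc_of% hy]; simp
    obtain ⟨T₂, π₂, _, (v : T₂ ⟶ W), (hv : π₂ ≫ z = v ≫ d)⟩ := hde.exact_up_to_refinements z hze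
    refine ⟨T₂, π₂ ≫ π₁, epi_comp _ _, v ≫ b ≫ cokernel.π _, ?_⟩
    change (π₂ ≫ π₁) ≫ y = (v ≫ b ≫ cokernel.π _) ≫ φ
    simp only [Category.assoc, hz, hφ, reassoc_of% hv]
  · refine Preadditive.mono_of_cancel_zero _ fun {T} x hx => ?_
    change x ≫ φ = 0 at hx
    obtain ⟨T₁, π₁, _, v, hv⟩ := hsurj x
    have h₁ : (v ≫ d) ≫ cokernel.π (a ≫ d) = 0 := by
      rw [Category.assoc, ← hφ, ← reassoc_of% hv, hx, comp_zero]
    obtain ⟨T₂, π₂, _, (f : T₂ ⟶ F), (hf : π₂ ≫ v ≫ d = f ≫ a ≫ d)⟩ :=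
      (ShortComplex.exact_cokernel (a ≫ d)).exact_up_to_refinements (v ≫ d) h₁
    obtain ⟨T₃, π₃, _, (q : T₃ ⟶ E), (hq : π₃ ≫ (π₂ ≫ v - f ≫ a) = q ≫ c)⟩ :=
      hcd.exact_up_to_refinements (π₂ ≫ v - f ≫ a) (by simp [hf])
    rw [← cancel_epi π₁, hv, comp_zero, ← cancel_epi π₂, comp_zero, ← cancel_epi π₃, comp_zero]
    have := hq =≫ (b ≫ cokernel.π (c ≫ b))
    simp only [Preadditive.comp_sub, Preadditive.sub_comp, Category.assoc, reassoc_of% wab,
      zero_comp, comp_zero, sub_zero] at this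
    rw [this, ← Category.assoc c b, cokernel.condition, comp_zero]
  · have : Epi (kernel.lift g e weg) := heg.epi_kernelLift
    exact epi_of_epi_fac (cokernel.π_desc (a ≫ d) (kernel.lift g e weg) _)

end Groth.Agent.S14498
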