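import Groth.Statements.S14500
import Groth.Agent.H16Derived.CofiniteLemmas

set_option autoImplicit false
universe v
open IndCof

namespace Groth.Agent.S14500

open CategoryTheory CategoryTheory.Limits Groth.Agent.H16Derived.Cofinite

open CategoryTheory CategoryTheory.Limits in
/-- Let C be a small abelian category all of whose objects are Artinian and killed by some positive
integer. The ind-objects of cofinite type (those A in Ind C with A[n] isomorphic to an object of C
for every n ≥ 1) form an abelian subcategory of Ind C: for a morphism f : A ⟶ B between such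
objects, the kernel and the cokernel of f in Ind C are of cofinite type. -/
theorem result {C : Type v} [SmallCategory C] [Abelian C]
    (hart : ∀ X : C, IsArtinianObject X)
    (htor : ∀ X : C, ∃ n : ℕ, 0 < n ∧ n • 𝟙 X = 0)
    (A B : Ind C) (hA : ∀ n : ℕ, 0 < n → (Ind.yoneda (C := C)).essImage (kernel (n • 𝟙 A))) (hB : ∀ n : ℕ, 0 < n → (Ind.yoneda (C := C)).essImage (kernel (n • 𝟙 B))) (f : A ⟶ B) :
    (∀ n : ℕ, 0 < n → (Ind.yoneda (C := C)).essImage (kernel (n • 𝟙 (kernel f)))) ∧
      (∀ n : ℕ, 0 < n → (Ind.yoneda (C := C)).essImage (kernel (n • 𝟙 (cokernel f)))) := by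
  refine ⟨fun n hn => ?_, fun n hn => ?_⟩
  · have h := isCof_kernel (Y := Ind.yoneda (C := C)) (n := n) (fun k => hA _ (pow_pos hn k))
      (fun k => hB _ (pow_pos hn k)) f 1
    simpa only [pow_one] using h
  · have h := isCof_cokernel (hyp_of_torsion hart htor n) (A := A) (B := B)
      (fun k => hA _ (pow_pos hn k)) (fun k => hB _ (pow_pos hn k)) f 1
    simpa only [pow_one] using h

end Groth.Agent.S14500
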