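import Groth.Statements.S14501
import Groth.Agent.H22Alg.Lattice

set_option autoImplicit false
universe u
open IntTh

namespace Groth.Agent.S14501

/-- Take a one-dimensional Noetherian local domain A with fraction field K, V a finite-dimensional
K-vector space and M₁, M₂, M₃ lattices in V (finitely generated A-submodules spanning V over K).
Define the distance d(M, M') as length_A(M/(M ∩ M')) − length_A(M'/(M ∩ M')), with the (finite)
lengths read as natural numbers. Then d(M₁, M₃) = d(M₁, M₂) + d(M₂, M₃). -/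
theorem result (A : Type u) [CommRing A] [IsDomain A] [IsNoetherianRing A]
    [IsLocalRing A] (hA : ringKrullDim A = 1) (K : Type u) [Field K] [Algebra A K]
    [IsFractionRing A K] (V : Type u) [AddCommGroup V] [Module K V] [Module A V]
    [IsScalarTower A K V] [FiniteDimensional K V]
    (M₁ M₂ M₃ : Submodule A V) [Submodule.IsLattice K M₁] [Submodule.IsLattice K M₂]
    [Submodule.IsLattice K M₃] :
    ((Module.length A (↥M₁ ⧸ (M₁ ⊓ M₃).submoduleOf M₁)).toNat : ℤ) -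
        ((Module.length A (↥M₃ ⧸ (M₁ ⊓ M₃).submoduleOf M₃)).toNat : ℤ) =
      (((Module.length A (↥M₁ ⧸ (M₁ ⊓ M₂).submoduleOf M₁)).toNat : ℤ) -
        ((Module.length A (↥M₂ ⧸ (M₁ ⊓ M₂).submoduleOf M₂)).toNat : ℤ)) +
      (((Module.length A (↥M₂ ⧸ (M₂ ⊓ M₃).submoduleOf M₂)).toNat : ℤ) -
        ((Module.length A (↥M₃ ⧸ (M₂ ⊓ M₃).submoduleOf M₃)).toNat : ℤ)) := by
  set W := M₁ ⊓ M₂ ⊓ M₃ with hW
  have hA' : ringKrullDim A ≤ 1 := hA.le
  have hfin : ∀ (X Z : Submodule A V), Z.FG → W ≤ X → Module.length A (Z ⧸ X.submoduleOf Z) ≠ ⊤ := by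
    intro X Z hZ hX
    refine Groth.Agent.H22Alg.length_ne_top_of_forall_exists_smul hA' hZ fun z hz => ?_
    obtain ⟨a, ha, h1⟩ := Groth.Agent.H22Alg.exists_smul_mem_of_span_eq_top K M₁ z
    obtain ⟨b, hb, h2⟩ := Groth.Agent.H22Alg.exists_smul_mem_of_span_eq_top K M₂ z
    obtain ⟨c, hc, h3⟩ := Groth.Agent.H22Alg.exists_smul_mem_of_span_eq_top K M₃ z
    refine ⟨a * b * c, mul_ne_zero (mul_ne_zero ha hb) hc, hX ⟨⟨?_, ?_⟩, ?_⟩⟩
    · rw [show a * b * c = (b * c) * a by ring, mul_smul]; exact M₁.smul_mem _ h1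
    · rw [show a * b * c = (a * c) * b by ring, mul_smul]; exact M₂.smul_mem _ h2
    · rw [mul_smul]; exact M₃.smul_mem _ h3
  have key : ∀ (Z Z' : Submodule A V), Z.FG → Z'.FG → W ≤ Z ⊓ Z' →
      ((Module.length A (↥Z ⧸ (Z ⊓ Z').submoduleOf Z)).toNat : ℤ) -
        ((Module.length A (↥Z' ⧸ (Z ⊓ Z').submoduleOf Z')).toNat : ℤ) =
      ((Module.length A (↥Z ⧸ W.submoduleOf Z)).toNat : ℤ) -
        ((Module.length A (↥Z' ⧸ W.submoduleOf Z')).toNat : ℤ) := by
    intro Z Z' hZ hZ' hle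
    have e := congrArg ENat.toNat
      (Groth.Agent.H22Alg.length_submoduleOf_trans hle (inf_le_left : Z ⊓ Z' ≤ Z))
    have e' := congrArg ENat.toNat
      (Groth.Agent.H22Alg.length_submoduleOf_trans hle (inf_le_right : Z ⊓ Z' ≤ Z'))
    have hmid : Module.length A (↥(Z ⊓ Z') ⧸ W.submoduleOf (Z ⊓ Z')) ≠ ⊤ := by
      refine ne_top_of_le_ne_top (hfin W Z hZ le_rfl) ?_
      rw [Groth.Agent.H22Alg.length_submoduleOf_trans hle (inf_le_left : Z ⊓ Z' ≤ Z)]
      exact le_self_add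
    rw [ENat.toNat_add hmid (hfin _ Z hZ hle)] at e
    rw [ENat.toNat_add hmid (hfin _ Z' hZ' hle)] at e'
    rw [e, e']
    push_cast
    ring
  rw [key M₁ M₃ Submodule.IsLattice.fg Submodule.IsLattice.fg (le_inf (inf_le_left.trans inf_le_left) inf_le_right),
    key M₁ M₂ Submodule.IsLattice.fg Submodule.IsLattice.fg inf_le_left,
    key M₂ M₃ Submodule.IsLattice.fg Submodule.IsLattice.fg (le_inf (inf_le_left.trans inf_le_right) inf_le_right)]
  ring

end Groth.Agent.S14501
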