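import Groth.Statements.S14502
import Mathlib
import Groth.Agent.H22Alg.LatticeDist

set_option autoImplicit false
universe u
open IntTh

namespace Groth.Agent.S14502

/-- Let A be a Noetherian local domain of Krull dimension one with fraction field K, V a
finite-dimensional K-vector space, M a lattice in V (a finitely generated A-submodule spanning V
over K) and φ a K-linear automorphism of V. Then φ(M) is a lattice, the A-modules M/(M ∩ φ(M)) and
φ(M)/(M ∩ φ(M)) have finite length, and the distance length_A(M/(M ∩ φ(M))) − length_A(φ(M)/(M ∩
φ(M))) equals the order of det φ at the closed point, i.e. length_A(A/(a)) − length_A(A/(b)) for det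
φ = a/b. -/
theorem result (A : Type u) [CommRing A] [IsDomain A] [IsNoetherianRing A]
    [IsLocalRing A] (hA : ringKrullDim A = 1) (K : Type u) [Field K] [Algebra A K]
    [IsFractionRing A K] (V : Type u) [AddCommGroup V] [Module K V] [Module A V]
    [IsScalarTower A K V] [FiniteDimensional K V]
    (M : Submodule A V) [Submodule.IsLattice K M] (φ : V ≃ₗ[K] V) :
    Submodule.IsLattice K (M.map (φ.toLinearMap.restrictScalars A)) ∧
      Module.length A (↥M ⧸ (M ⊓ M.map (φ.toLinearMap.restrictScalars A)).submoduleOf M) < ⊤ ∧
      Module.length A (↥(M.map (φ.toLinearMap.restrictScalars A)) ⧸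
          (M ⊓ M.map (φ.toLinearMap.restrictScalars A)).submoduleOf
            (M.map (φ.toLinearMap.restrictScalars A))) < ⊤ ∧
      ((Module.length A (↥M ⧸ (M ⊓ M.map (φ.toLinearMap.restrictScalars A)).submoduleOf M)).toNat : ℤ) -
          ((Module.length A (↥(M.map (φ.toLinearMap.restrictScalars A)) ⧸
            (M ⊓ M.map (φ.toLinearMap.restrictScalars A)).submoduleOf
              (M.map (φ.toLinearMap.restrictScalars A)))).toNat : ℤ) =
        CycAlg.ordFrac A K (LinearMap.det φ.toLinearMap) := by
  exact Groth.Agent.S14502.latticeDist hA K M φ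

end Groth.Agent.S14502
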