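import Groth.Statements.S14504
import Mathlib

set_option autoImplicit false
universe u
open IntTh

namespace Groth.Agent.S14504

/-- Let K be a field, d ≤ n, λ = (λ₁ ≥ ⋯ ≥ λ_d) a non-increasing sequence of natural numbers, d_i = n −
d + i − λ_i, and V_j ⊆ K^n the span of the first j standard basis vectors. For a d × n matrix A over
K with linearly independent rows spanning the subspace W: one has dim(W ∩ V_{d_i}) ≥ i for every i =
1, …, d if and only if every d × d minor of A taken on strictly increasing columns j₁ < ⋯ < j_d
(1-indexed) with j_i > d_i for some i vanishes. (Indices are 0-based in the formal statement: row i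
: Fin d stands for i + 1 and column l : Fin n for l + 1.) -/
theorem result (K : Type u) [Field K] (n d : ℕ)
    (hdn : d ≤ n) (V : ℕ → Submodule K (Fin n → K))
    (hV : ∀ (j : ℕ) (v : Fin n → K), v ∈ V j ↔ ∀ l : Fin n, j ≤ (l : ℕ) → v l = 0)
    (lam : Fin d → ℕ) (hlam : Antitone lam) (A : Matrix (Fin d) (Fin n) K)
    (hA : LinearIndependent K (fun i : Fin d => A i)) :
    (∀ i : Fin d, (i : ℕ) + 1 ≤
        Module.finrank K ↥(Submodule.span K (Set.range fun i : Fin d => A i) ⊓
          V (n - d + ((i : ℕ) + 1) - lam i))) ↔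
      ∀ J : Fin d → Fin n, StrictMono J →
        (∃ i : Fin d, n - d + ((i : ℕ) + 1) - lam i < (J i : ℕ) + 1) →
          (A.submatrix id J).det = 0 := by
  classical
  let W := Submodule.span K (Set.range fun i : Fin d => A i)
  let col : Fin n → (Fin d → K) := fun l r => A r l
  let C : ℕ → Submodule K (Fin d → K) := fun c => Submodule.span K (col '' {l : Fin n | c ≤ (l : ℕ)})
  have hdimC : ∀ c, Module.finrank K ↥(W ⊓ V c) + Module.finrank K (C c) = d := by
    intro c
    let B : Matrix (Fin d) {l : Fin n // c ≤ (l : ℕ)} K := A.submatrix id Subtype.val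
    have hBr : B.rank = Module.finrank K (C c) := by
      rw [Matrix.rank_eq_finrank_span_cols]
      have : Set.range B.col = col '' {l : Fin n | c ≤ (l : ℕ)} := by
        ext v; constructor
        · rintro ⟨l, rfl⟩; exact ⟨l.1, l.2, rfl⟩
        · rintro ⟨l, hl, rfl⟩; exact ⟨⟨l, hl⟩, rfl⟩
      rw [this]
    have hT : Function.Injective A.vecMulLinear := Matrix.vecMul_injective_iff.mpr hA
    have hW : W = LinearMap.range A.vecMulLinear := (range_vecMulLinear A).symm
    have hinter : W ⊓ V c = (LinearMap.ker B.vecMulLinear).map A.vecMulLinear := by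
      ext v
      rw [Submodule.mem_inf, hW, LinearMap.mem_range, Submodule.mem_map]
      constructor
      · rintro ⟨⟨x, rfl⟩, hv⟩
        refine ⟨x, ?_, rfl⟩
        rw [LinearMap.mem_ker]
        funext l
        exact (hV c _).mp hv l.1 l.2
      · rintro ⟨x, hx, rfl⟩
        refine ⟨⟨x, rfl⟩, (hV c _).mpr fun l hl => ?_⟩
        exact congrFun (LinearMap.mem_ker.mp hx) ⟨l, hl⟩
    rw [hinter, ← LinearEquiv.finrank_eq (Submodule.equivMapOfInjective _ hT _), ← hBr]
    have h2 := LinearMap.finrank_range_add_finrank_ker B.vecMulLinear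
    rw [Module.finrank_fin_fun] at h2
    have h3 : B.rank = Module.finrank K (LinearMap.range B.vecMulLinear) := by
      rw [range_vecMulLinear, ← Matrix.rank_eq_finrank_span_row]
    omega
  have hspan : C 0 = ⊤ := by
    apply Submodule.eq_top_of_finrank_eq
    rw [Module.finrank_fin_fun]
    have := hdimC 0
    have h0 : W ⊓ V 0 = ⊥ := by
      refine eq_bot_iff.mpr fun v hv => ?_
      have := (hV 0 v).mp (Submodule.mem_inf.mp hv).2
      exact (Submodule.mem_bot K).mpr (funext fun l => this l (Nat.zero_le _))
    rw [h0, finrank_bot] at this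
    omega
  let D : Fin d → ℕ := fun i => n - d + ((i : ℕ) + 1) - lam i
  have hiff : ∀ i : Fin d, (i : ℕ) + 1 ≤ Module.finrank K ↥(W ⊓ V (D i)) ↔ ¬ d - (i : ℕ) ≤ Module.finrank K (C (D i)) := by
    intro i; have := hdimC (D i); have := i.isLt; omega
  constructor
  · rintro h J hJ ⟨i, hi⟩
    by_contra hdet
    have hli : LinearIndependent K (A.submatrix id J).col :=
      Matrix.linearIndependent_cols_iff_isUnit.mpr ((Matrix.isUnit_iff_isUnit_det _).mpr (isUnit_iff_ne_zero.mpr hdet))
    refine (hiff i).mp (h i) ?_
    let f : Set.Ici i → C (D i) := fun j => ⟨col (J j.1), Submodule.subset_span ⟨J j.1, by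
      have h1 : (J i : ℕ) ≤ (J j.1 : ℕ) := hJ.monotone j.2
      show D i ≤ _
      simp only [D]; omega, rfl⟩⟩
    have hf : LinearIndependent K f := by
      refine LinearIndependent.of_comp (C (D i)).subtype ?_
      exact hli.comp _ Subtype.val_injective
    have := hf.fintype_card_le_finrank
    simpa [Fintype.card_ofFinset, Fin.card_Ici] using this
  · intro h i
    show (i : ℕ) + 1 ≤ Module.finrank K ↥(W ⊓ V (D i))
    rw [hiff i]
    intro hrank
    obtain ⟨s, hs1, hs2, hs3⟩ := exists_linearIndependent K (col '' {l : Fin n | D i ≤ (l : ℕ)})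
    obtain ⟨t, ht1, hst, ht2, ht3⟩ := exists_linearIndepOn_id_extension (K := K) (t := Set.range col) hs3
      (hs1.trans (Set.image_subset_range _ _))
    have htspan : (⊤ : Submodule K (Fin d → K)) ≤ Submodule.span K t := by
      rw [← hspan]; exact Submodule.span_le.mpr ((Set.image_subset_range _ _).trans ht2)
    haveI : Fintype s := hs3.setFinite.fintype
    haveI : Fintype t := ht3.setFinite.fintype
    have htcard : Fintype.card t = d := by
      have hb := Module.finrank_eq_card_basis (Module.Basis.mk ht3 (by simpa [Subtype.range_coe_subtype] using htspan))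
      rwa [Module.finrank_fin_fun, eq_comm] at hb
    have hscard : Fintype.card s = Module.finrank K (C (D i)) := by
      have : C (D i) = Submodule.span K s := hs2.symm
      rw [this, finrank_span_set_eq_card hs3, Set.toFinset_card]
    have hpick : ∀ v : t, ∃ l : Fin n, col l = v.1 ∧ ((v : Fin d → K) ∈ s → D i ≤ (l : ℕ)) := by
      intro v
      by_cases hv : (v : Fin d → K) ∈ s
      · obtain ⟨l, hl, e⟩ := hs1 hv; exact ⟨l, e, fun _ => hl⟩
      · obtain ⟨l, e⟩ := ht1 v.2; exact ⟨l, e, fun h => absurd h hv⟩
    choose pick hp1 hp2 using hpick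
    have hinj : Function.Injective pick := fun v w e => Subtype.ext (by rw [← hp1 v, ← hp1 w, e])
    let S : Finset (Fin n) := Finset.univ.image pick
    have hS : S.card = d := by rw [Finset.card_image_of_injective _ hinj, Finset.card_univ, htcard]
    let J := S.orderEmbOfFin hS
    have hJmem : ∀ j, ∃ v, pick v = J j := fun j => by
      obtain ⟨v, -, hv⟩ := Finset.mem_image.mp (S.orderEmbOfFin_mem hS j)
      exact ⟨v, hv⟩
    choose g hg using hJmem
    have hginj : Function.Injective g := fun a b e => J.injective (by rw [← hg a, ← hg b, e])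
    have hli : LinearIndependent K (A.submatrix id J).col := by
      have hc : (A.submatrix id J).col = (fun v : t => (v : Fin d → K)) ∘ g := by
        funext j
        show col (J j) = _
        rw [← hg j]; exact hp1 _
      rw [hc]; exact ht3.comp g hginj
    refine (Matrix.isUnit_iff_isUnit_det _).mp (Matrix.linearIndependent_cols_iff_isUnit.mp hli) |>.ne_zero
      (h J J.strictMono ⟨i, ?_⟩)
    show D i < (J i : ℕ) + 1
    by_contra hlt
    let g' : s → Fin d := fun v => (Equiv.ofBijective g ((Fintype.bijective_iff_injective_and_card g).mpr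
      ⟨hginj, by rw [htcard, Fintype.card_fin]⟩)).symm ⟨v.1, hst v.2⟩
    have hg' : ∀ v, g (g' v) = ⟨v.1, hst v.2⟩ := fun v => Equiv.ofBijective_apply_symm_apply g _ _
    have hg'inj : Function.Injective g' := fun a b e => by
      have h1 := hg' a
      rw [e, hg' b] at h1
      exact Subtype.ext (congrArg Subtype.val h1).symm
    have hgt : ∀ v, i < g' v := fun v => by
      by_contra hle
      have h1 : (J (g' v) : ℕ) ≤ (J i : ℕ) := J.monotone (not_lt.mp hle)
      have h2 : D i ≤ (J (g' v) : ℕ) := by
        rw [← hg (g' v), hg' v]; exact hp2 _ v.2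
      omega
    have hc := Finset.card_le_card_of_injOn (s := (Finset.univ : Finset s)) (t := Finset.Ioi i) g'
      (fun v _ => Finset.mem_coe.mpr (Finset.mem_Ioi.mpr (hgt v))) hg'inj.injOn
    rw [Finset.card_univ, hscard, Fin.card_Ioi] at hc
    have := i.isLt
    omega

end Groth.Agent.S14504
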