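import Groth.Statements.S14505
import Mathlib

set_option autoImplicit false
universe u
open IntTh

namespace Groth.Agent.S14505

open PowerSeries

variable {R : Type u} [CommRing R]

/-- Vanishing of all coefficients above `n`. -/
def Deg (f : R⟦X⟧) (n : ℕ) : Prop := ∀ m, n < m → coeff m f = 0

theorem Deg.mul {f g : R⟦X⟧} {a b : ℕ} (hf : Deg f a) (hg : Deg g b) : Deg (f * g) (a + b) := by
  intro m hm
  rw [coeff_mul]
  refine Finset.sum_eq_zero fun p hp => ?_
  rw [Finset.HasAntidiagonal.mem_antidiagonal] at hp
  rcases lt_or_ge a p.1 with h | h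
  · rw [hf _ h, zero_mul]
  · rw [hg p.2 (by omega), mul_zero]

theorem deg_linear (a : R) : Deg (1 + C a * X) 1 := by
  intro m hm
  obtain ⟨m, rfl⟩ : ∃ m', m = m' + 2 := ⟨m - 2, by omega⟩
  simp [coeff_succ_mul_X]

theorem deg_prod {ι : Type*} (s : Finset ι) (c : ι → R) : Deg (∏ i ∈ s, (1 + C (c i) * X)) s.card := by
  classical
  induction s using Finset.induction_on with
  | empty => intro m hm; simp [coeff_one, Finset.card_empty] at hm ⊢; omega
  | @insert a s ha ih =>
    rw [Finset.prod_insert ha, Finset.card_insert_of_notMem ha, Nat.add_comm s.card 1]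
    exact (deg_linear _).mul ih

theorem linear_mul_geom (a : R) : (1 + C a * X) * mk (fun m => (-a) ^ m) = 1 := by
  ext m
  rcases m with _ | m
  · simp
  · rw [add_mul, one_mul, mul_assoc, map_add, coeff_C_mul, coeff_succ_X_mul, coeff_mk, coeff_mk, coeff_one]
    simp [pow_succ']

theorem coeff_prod_mul_geom (a : R) {e : ℕ} (β : Fin e → R) :
    coeff e ((∏ j, (1 + C (β j) * X)) * mk (fun m => (-a) ^ m)) = ∏ j, (β j - a) := by
  induction e with
  | zero => simp
  | succ e ih =>
    rw [Fin.prod_univ_succ, Fin.prod_univ_succ, mul_assoc, add_mul, one_mul, mul_assoc, map_add, coeff_C_mul,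
      coeff_succ_X_mul, ← ih (fun j => β j.succ)]
    have h0 : coeff (e + 1) (∏ j : Fin e, (1 + C (β j.succ) * X)) = 0 :=
      deg_prod Finset.univ (fun j : Fin e => β j.succ) (e + 1) (by simp)
    have h1 : (∏ j : Fin e, (1 + C (β j.succ) * X)) * mk (fun m => (-a) ^ m) =
        (∏ j : Fin e, (1 + C (β j.succ) * X)) +
          C (-a) * (X * ((∏ j : Fin e, (1 + C (β j.succ) * X)) * mk (fun m => (-a) ^ m))) := by
      rw [map_neg]
      linear_combination (∏ j : Fin e, (1 + C (β j.succ) * X)) * linear_mul_geom a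
    conv_lhs => arg 1; rw [h1]
    rw [map_add, h0, coeff_C_mul, coeff_succ_X_mul]
    ring

theorem main (d e : ℕ) (α : Fin d → R) (β : Fin e → R) :
    (Matrix.of fun i j : Fin d =>
      coeff (e + (j : ℕ)) (X ^ (i : ℕ) * ((∏ j : Fin e, (1 + C (β j) * X)) *
          ∏ l : Fin d, if l ≤ i then mk (fun m => (-α l) ^ m) else 1))).det =
      ∏ i : Fin d, ∏ j : Fin e, (β j - α i) := by
  classical
  let b : R⟦X⟧ := ∏ j : Fin e, (1 + C (β j) * X)
  let P : Fin d → R⟦X⟧ := fun i => b * ∏ l : Fin d, if l ≤ i then mk (fun m => (-α l) ^ m) else 1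
  let Q : Fin d → R⟦X⟧ := fun k => ∏ l : Fin d, if l < k then 1 + C (α l) * X else 1
  have hQ : ∀ k : Fin d, Deg (Q k) k := fun k => by
    have h := deg_prod (Finset.Iio k) α
    rw [Fin.card_Iio] at h
    convert h using 1
    show (∏ l : Fin d, if l < k then 1 + C (α l) * X else 1) = _
    rw [← Finset.prod_filter]
    exact Finset.prod_congr (by ext; simp) fun _ _ => rfl
  let T : Matrix (Fin d) (Fin d) R := Matrix.of fun j k => if j ≤ k then coeff ((k : ℕ) - j) (Q k) else 0
  let M : Matrix (Fin d) (Fin d) R := Matrix.of fun i j => coeff (e + (j : ℕ)) (X ^ (i : ℕ) * P i)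
  have hT : T.det = 1 := by
    rw [Matrix.det_of_upperTriangular (M := T) fun j k (hjk : k < j) => if_neg (not_le.mpr hjk)]
    refine Finset.prod_eq_one fun k _ => ?_
    simp only [T, Matrix.of_apply, le_refl, if_true, Nat.sub_self, coeff_zero_eq_constantCoeff, Q, map_prod]
    refine Finset.prod_eq_one fun l _ => ?_
    split_ifs <;> simp
  have hMT : ∀ i k, (M * T) i k = coeff (e + (k : ℕ)) (X ^ (i : ℕ) * P i * Q k) := fun i k => by
    rw [Matrix.mul_apply, coeff_mul]
    simp only [M, T, Matrix.of_apply, mul_ite, mul_zero]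
    rw [← Finset.sum_filter]
    refine Finset.sum_bij_ne_zero (fun j _ _ => (e + (j : ℕ), (k : ℕ) - j)) ?_ ?_ ?_ ?_
    · intro j hj _
      simp only [Finset.mem_filter] at hj
      have := Fin.le_def.mp hj.2
      simp only [Finset.HasAntidiagonal.mem_antidiagonal]; omega
    · intro j _ _ j' _ _ h
      simp only [Prod.mk.injEq] at h
      exact Fin.ext (by omega)
    · intro p hp hne
      rw [Finset.HasAntidiagonal.mem_antidiagonal] at hp
      have h2 : p.2 ≤ k := le_of_not_gt fun h => hne (by rw [hQ k _ h, mul_zero])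
      have hk := k.2
      refine ⟨⟨(k : ℕ) - p.2, by omega⟩, ?_, ?_, ?_⟩
      · simp only [Finset.mem_filter, Finset.mem_univ, true_and, Fin.le_def]; omega
      · convert hne using 4 <;> simp only <;> omega
      · refine Prod.ext ?_ ?_ <;> simp only <;> omega
    · intros; rfl
  have hdiag : ∀ i, (M * T) i i = ∏ j : Fin e, (β j - α i) := fun i => by
    rw [hMT, mul_assoc, coeff_X_pow_mul, ← coeff_prod_mul_geom (α i) β]
    congr 1
    show b * _ * Q i = b * _
    rw [mul_assoc]
    congr 1
    rw [← Finset.prod_mul_distrib, Finset.prod_eq_single i]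
    · simp
    · intro l _ hl
      rcases lt_or_gt_of_ne hl with h | h
      · rw [if_pos h.le, if_pos h, mul_comm]; exact linear_mul_geom _
      · rw [if_neg (not_le.mpr h), if_neg (not_lt.mpr h.le), one_mul]
    · simp
  have hlow : (M * T).BlockTriangular OrderDual.toDual := fun i k (hik : i < k) => by
    have hb : Deg b e := by simpa using deg_prod (Finset.univ : Finset (Fin e)) β
    have hpr : (∏ l : Fin d, if l ≤ i then mk (fun m => (-α l) ^ m) else 1) * Q k =
        ∏ l ∈ Finset.Ioo i k, (1 + C (α l) * X) := by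
      rw [← Finset.prod_mul_distrib, ← Finset.prod_subset (Finset.subset_univ (Finset.Ioo i k))]
      · refine Finset.prod_congr rfl fun l hl => ?_
        rw [Finset.mem_Ioo] at hl
        rw [if_neg (not_le.mpr hl.1), if_pos hl.2, one_mul]
      · intro l _ hl
        rw [Finset.mem_Ioo, not_and] at hl
        by_cases h : l ≤ i
        · rw [if_pos h, if_pos (h.trans_lt hik), mul_comm]; exact linear_mul_geom _
        · rw [if_neg h, if_neg (hl (not_le.mp h)), one_mul]
    rw [hMT, mul_assoc, coeff_X_pow_mul']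
    split_ifs with hle
    · show coeff _ (b * _ * Q k) = 0
      rw [mul_assoc, hpr]
      refine (hb.mul (deg_prod _ _)) _ ?_
      rw [Fin.card_Ioo]
      have := Fin.lt_def.mp hik
      omega
    · rfl
  calc M.det = (M * T).det := by rw [Matrix.det_mul, hT, mul_one]
    _ = _ := by rw [Matrix.det_of_lowerTriangular _ hlow]; exact Finset.prod_congr rfl fun i _ => hdiag i

/-- Let R be a commutative ring, α₁, …, α_d, β₁, …, β_e ∈ R, b(t) = ∏ (1 + β_j t), and for k = 1, …, d
let P_k(t) = b(t)/∏_{i ≤ k} (1 + α_i t) ∈ R⟦t⟧, each factor 1 + α_i t being inverted by its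
geometric series; write (P_k)_m for the coefficient of t^m, with (P_k)_m = 0 for m < 0. Then ∏_{i,j}
(β_j − α_i) = det((P_i)_{e+j−i})_{1 ≤ i,j ≤ d}, the d × d determinant whose i-th row is built from
the coefficients of the i-th partial quotient. (Rows and columns are 0-based in the formal
statement, which does not change j − i; the row of index i inverts the factors of index at most i.
The companion form with every row built from the full quotient b/a is stated separately.) -/
theorem result (R : Type u) [CommRing R] (d e : ℕ)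
    (α : Fin d → R) (β : Fin e → R) :
    ∏ i : Fin d, ∏ j : Fin e, (β j - α i) =
      (Matrix.of fun i j : Fin d =>
        if (i : ℕ) ≤ e + (j : ℕ) then
          PowerSeries.coeff (e + (j : ℕ) - (i : ℕ))
            ((∏ j : Fin e, (1 + PowerSeries.C (β j) * PowerSeries.X)) *
              ∏ l : Fin d, if l ≤ i then PowerSeries.mk (fun m => (-α l) ^ m) else 1)
        else 0).det := by
  rw [← main d e α β]
  congr 1
  ext i j
  rw [Matrix.of_apply, Matrix.of_apply, PowerSeries.coeff_X_pow_mul']

end Groth.Agent.S14505
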