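import Groth.Statements.S1451
import Groth.Agent.S2136
import Groth.Agent.H06EGA14.UnibranchEquiv

set_option maxHeartbeats 1000000
set_option backward.isDefEq.respectTransparency false

set_option autoImplicit false
universe u
open FlatMor AlgebraicGeometry CategoryTheory TopologicalSpace Topology

namespace Groth.Agent.S1451

open AlgebraicGeometry CategoryTheory Limits in
/-- Let Y be integral and f : X → Y locally of finite type; let x be a point such that the local ring of
Y at f x is geometrically unibranch, f is unramified on an open neighbourhood of x, and some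
generization of x maps to the generic point of Y. Then f is étale on an open neighbourhood of x. -/
theorem result {X Y : Scheme.{u}} (f : X ⟶ Y) [IsIntegral Y] [LocallyOfFiniteType f] (x : X)
    (hY : CAlg2.IsGeomUnibranch (Y.presheaf.stalk (f x))) (hsp : ∃ x' : X, x' ⤳ x ∧ f x' = genericPoint ↑Y)
    (hunr : ∃ U : X.Opens, x ∈ U ∧ FormallyUnramified (U.ι ≫ f)) :
    ∃ U : X.Opens, x ∈ U ∧ Etale (U.ι ≫ f) := by
  classical
  obtain ⟨U, hxU, hU⟩ := hunr
  obtain ⟨x', hx'x, hx'η⟩ := hsp
  obtain ⟨V, (hV : IsAffineOpen V), hfxV, -⟩ := Opens.isBasis_iff_nbhd.mp Y.isBasis_affineOpens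
    (show f x ∈ (⊤ : Y.Opens) from trivial)
  obtain ⟨W, (hW : IsAffineOpen W), hxW, hWUV⟩ := Opens.isBasis_iff_nbhd.mp X.isBasis_affineOpens
    (show x ∈ U ⊓ f ⁻¹ᵁ V from ⟨hxU, hfxV⟩)
  have hWV : W ≤ f ⁻¹ᵁ V := hWUV.trans inf_le_right
  let φ := f.appLE V W hWV
  let A := Γ(Y, V)
  let B := Γ(X, W)
  letI : Algebra A B := φ.hom.toAlgebra
  haveI : Algebra.FiniteType A B := f.finiteType_appLE hV hW hWV
  haveI : Nonempty ↥V := ⟨⟨f x, hfxV⟩⟩
  haveI : IsDomain A := @AlgebraicGeometry.IsIntegral.component_integral Y _ V ⟨⟨f x, hfxV⟩⟩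
  have hsq : Spec.map φ ≫ hV.fromSpec = hW.fromSpec ≫ f := IsAffineOpen.SpecMap_appLE_fromSpec f hV hW hWV
  have hWr : Set.range hW.fromSpec ⊆ Set.range U.ι := by
    rw [hW.range_fromSpec, Scheme.Opens.range_ι]
    exact (hWUV.trans inf_le_left : W ≤ U)
  have hunA : φ.hom.FormallyUnramified := by
    have h1 : FormallyUnramified (hW.fromSpec ≫ f) := by
      rw [← IsOpenImmersion.lift_fac U.ι hW.fromSpec hWr, Category.assoc]
      haveI : IsOpenImmersion (IsOpenImmersion.lift U.ι hW.fromSpec hWr) := by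
        haveI : IsOpenImmersion (IsOpenImmersion.lift U.ι hW.fromSpec hWr ≫ U.ι) := by
          rw [IsOpenImmersion.lift_fac]; infer_instance
        exact IsOpenImmersion.of_comp _ U.ι
      exact MorphismProperty.comp_mem @FormallyUnramified _ _ inferInstance hU
    rw [← hsq] at h1
    haveI := h1
    exact (HasRingHomProperty.Spec_iff (P := @FormallyUnramified)).mp
      (FormallyUnramified.of_comp (Spec.map φ) hV.fromSpec)
  haveI : Algebra.FormallyUnramified A B := hunA
  have hsqp : ∀ r : PrimeSpectrum B, hV.fromSpec (PrimeSpectrum.comap (algebraMap A B) r) = f (hW.fromSpec r) :=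
    fun r => by
      show hV.fromSpec (Spec.map φ r) = _
      rw [← Scheme.Hom.comp_apply, hsq, Scheme.Hom.comp_apply]
  let q : PrimeSpectrum B := hW.primeIdealOf ⟨x, hxW⟩
  have hq : hW.fromSpec q = x := hW.fromSpec_primeIdealOf ⟨x, hxW⟩
  have hx'W : x' ∈ W := hx'x.mem_open W.2 hxW
  let q' : PrimeSpectrum B := hW.primeIdealOf ⟨x', hx'W⟩
  have hq' : hW.fromSpec q' = x' := hW.fromSpec_primeIdealOf ⟨x', hx'W⟩
  let p : PrimeSpectrum A := PrimeSpectrum.comap (algebraMap A B) q
  have hp : hV.fromSpec p = f x :=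
    (hsqp q).trans (congrArg f hq)
  haveI : q.asIdeal.LiesOver p.asIdeal := ⟨rfl⟩
  have hAp : CAlg2.IsGeomUnibranch (Localization.AtPrime p.asIdeal) := by
    have hpe : p = hV.primeIdealOf ⟨f x, hfxV⟩ :=
      hV.fromSpec.isOpenEmbedding.injective (hp.trans (hV.fromSpec_primeIdealOf ⟨f x, hfxV⟩).symm)
    rw [hpe]
    letI := TopCat.Presheaf.algebra_section_stalk Y.presheaf (⟨f x, hfxV⟩ : V)
    haveI := hV.isLocalization_stalk ⟨f x, hfxV⟩
    exact H06EGA14.isGeomUnibranch_of_ringEquiv
      (IsLocalization.algEquiv (hV.primeIdealOf ⟨f x, hfxV⟩).asIdeal.primeCompl (Y.presheaf.stalk (f x))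
        (Localization.AtPrime (hV.primeIdealOf ⟨f x, hfxV⟩).asIdeal)).toRingEquiv hY
  have hle : q'.asIdeal ≤ q.asIdeal := by
    refine (PrimeSpectrum.le_iff_specializes q' q).mpr ?_
    have := hW.fromSpec.isOpenEmbedding.isInducing.specializes_iff (x := q') (y := q)
    exact this.mp (by rw [hq, hq']; exact hx'x)
  have hbot : q'.asIdeal.comap (algebraMap A B) = ⊥ := by
    have h1 : hV.fromSpec (PrimeSpectrum.comap (algebraMap A B) q') = genericPoint ↑Y :=
      ((hsqp q').trans (congrArg f hq')).trans hx'η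
    let b : PrimeSpectrum A := ⟨⊥, Ideal.isPrime_bot⟩
    have h2 : PrimeSpectrum.comap (algebraMap A B) q' ⤳ b := by
      refine (hV.fromSpec.isOpenEmbedding.isInducing.specializes_iff (x := PrimeSpectrum.comap (algebraMap A B) q') (y := b)).mp ?_
      rw [h1]
      exact genericPoint_specializes _
    exact le_bot_iff.mp ((PrimeSpectrum.le_iff_specializes _ _).mpr h2)
  have hinj : Function.Injective
      (Localization.localRingHom p.asIdeal q.asIdeal (algebraMap A B) (q.asIdeal.over_def p.asIdeal)) := by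
    rw [injective_iff_map_eq_zero]
    intro z hz
    obtain ⟨a, s, rfl⟩ := IsLocalization.exists_mk'_eq p.asIdeal.primeCompl z
    rw [Localization.localRingHom_mk', IsLocalization.mk'_eq_zero_iff] at hz
    obtain ⟨t, ht⟩ := hz
    have h3 : algebraMap A B a ∈ q'.asIdeal :=
      (q'.2.mem_or_mem (show (t : B) * algebraMap A B a ∈ q'.asIdeal by rw [ht]; exact zero_mem _)).resolve_left
        fun h => t.2 (hle h)
    have h4 : a = 0 := (Submodule.mem_bot A).mp (hbot.le h3)
    rw [h4, IsLocalization.mk'_zero]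
  obtain ⟨g, hg, hget⟩ := S2136.result q.asIdeal p.asIdeal hAp hinj
  let Bg := Localization.Away g
  let j : Spec (CommRingCat.of Bg) ⟶ X := Spec.map (CommRingCat.ofHom (algebraMap B Bg)) ≫ hW.fromSpec
  have hjet : Etale (j ≫ f) := by
    rw [show j ≫ f = Spec.map (CommRingCat.ofHom (algebraMap A Bg)) ≫ hV.fromSpec from ?_]
    · haveI : Etale (Spec.map (CommRingCat.ofHom (algebraMap A Bg))) :=
        (HasRingHomProperty.Spec_iff (P := @Etale)).mpr (RingHom.etale_algebraMap.mpr hget)
      infer_instance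
    · show (Spec.map (CommRingCat.ofHom (algebraMap B Bg)) ≫ hW.fromSpec) ≫ f = _
      rw [Category.assoc, ← hsq, ← Spec.map_comp_assoc, IsScalarTower.algebraMap_eq A B Bg]
      rfl
  obtain ⟨r, hr⟩ : q ∈ Set.range (PrimeSpectrum.comap (algebraMap B Bg)) := by
    rw [PrimeSpectrum.localization_away_comap_range Bg g]
    exact hg
  refine ⟨j.opensRange, ⟨r, ?_⟩, ?_⟩
  · show hW.fromSpec (PrimeSpectrum.comap (algebraMap B Bg) r) = x
    rw [hr, hq]
  · haveI := hjet
    rw [← Scheme.Hom.isoOpensRange_inv_comp j, Category.assoc]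
    infer_instance

end Groth.Agent.S1451
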