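import Groth.Statements.S14510
import Mathlib.LinearAlgebra.FreeModule.PID
import Mathlib.RingTheory.AdicCompletion.AsTensorProduct
import Mathlib.RingTheory.AlgebraicIndependent.TranscendenceBasis
import Mathlib.RingTheory.Flat.TorsionFree
import Mathlib.RingTheory.Henselian
import Mathlib.RingTheory.MvPolynomial.IrreducibleQuadratic
import Mathlib.RingTheory.Nullstellensatz
import Mathlib.RingTheory.RegularLocalRing.Defs
import Mathlib.RingTheory.SimpleRing.Principal

set_option autoImplicit false
universe u v
open CAlgX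

namespace Groth.Agent.S14510

/-- Let k be an algebraically closed field, U, V, W finite-dimensional k-vector spaces with U and V
nonzero, and φ : U ⊗ V → W a linear map which is 1-generic, i.e. φ(u ⊗ v) ≠ 0 for all nonzero u and
v (φ is given here as a bilinear map). Then dim W ≥ dim U + dim V − 1. (Algebraic closedness
matters: complex multiplication ℂ ⊗ ℂ → ℂ over the reals is 1-generic with 2 + 2 − 1 > 2.) -/
theorem result (k : Type u) [Field k] [IsAlgClosed k]
    (U V W : Type v) [AddCommGroup U] [Module k U] [AddCommGroup V] [Module k V] [AddCommGroup W] [Module k W]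
    [Module.Finite k U] [Module.Finite k V] [Module.Finite k W] [Nontrivial U] [Nontrivial V]
    (φ : U →ₗ[k] V →ₗ[k] W) (hφ : ∀ (a : U) (b : V), a ≠ 0 → b ≠ 0 → φ a b ≠ 0) :
    Module.finrank k U + Module.finrank k V ≤ Module.finrank k W + 1 := by
  classical
  let eU := Module.finBasis k U
  let eV := Module.finBasis k V
  let eW := Module.finBasis k W
  set a := Module.finrank k U
  set b := Module.finrank k V
  set w := Module.finrank k W
  have ha : 0 < a := Module.finrank_pos
  have hb : 0 < b := Module.finrank_pos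
  let P := MvPolynomial (Fin a ⊕ Fin b) k
  let T := MvPolynomial (Fin a × Fin b) k
  let z : Fin a × Fin b → P := fun ij => MvPolynomial.X (Sum.inl ij.1) * MvPolynomial.X (Sum.inr ij.2)
  let ψ : T →ₐ[k] P := MvPolynomial.aeval z
  let L : Fin w → T := fun m => ∑ i, ∑ j, MvPolynomial.C (eW.repr (φ (eU i) (eV j)) m) * MvPolynomial.X (i, j)
  let minor : (Fin a × Fin b) × (Fin a × Fin b) → T := fun pq =>
    MvPolynomial.X pq.1 * MvPolynomial.X pq.2 - MvPolynomial.X (pq.1.1, pq.2.2) * MvPolynomial.X (pq.2.1, pq.1.2)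
  let J : Ideal T := Ideal.span (Set.range minor) ⊔ Ideal.span (Set.range L)
  have hzero : ∀ x ∈ MvPolynomial.zeroLocus k J, x = 0 := by
    intro x hx
    rw [MvPolynomial.mem_zeroLocus_iff] at hx
    by_contra hne
    obtain ⟨⟨p, q⟩, hpq⟩ := Function.ne_iff.mp hne
    have hmin : ∀ i j, x (i, j) * x (p, q) = x (i, q) * x (p, j) := fun i j => by
      have := hx (minor ((i, j), (p, q))) (Ideal.mem_sup_left (Ideal.subset_span ⟨_, rfl⟩))
      simpa [minor, sub_eq_zero] using this
    let u : U := ∑ i, x (i, q) • eU i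
    let v : V := ∑ j, (x (p, j) / x (p, q)) • eV j
    have hu : u ≠ 0 := fun h => hpq (by
      have h1 := congrArg (fun y => eU.repr y p) h
      simpa [u, Finsupp.single_apply] using h1)
    have hv : v ≠ 0 := fun h => by
      have h1 := congrArg (fun y => eV.repr y q) h
      simp only [v, eV.repr_sum_self, map_zero, Finsupp.zero_apply] at h1
      rw [div_self hpq] at h1
      exact one_ne_zero h1
    refine hφ u v hu hv (eW.ext_elem fun m => ?_)
    have hL := hx (L m) (Ideal.mem_sup_right (Ideal.subset_span ⟨m, rfl⟩))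
    simp only [L, map_sum, map_mul, MvPolynomial.aeval_X, MvPolynomial.aeval_C, Algebra.algebraMap_self, RingHom.id_apply] at hL
    rw [map_zero, Finsupp.zero_apply, ← hL]
    simp only [u, v, map_sum, LinearMap.sum_apply, map_smul, LinearMap.smul_apply, Finsupp.coe_finsetSum,
      Finset.sum_apply, Finsupp.smul_apply, smul_eq_mul, Finset.mul_sum]
    rw [Finset.sum_comm]
    refine Finset.sum_congr rfl fun i _ => Finset.sum_congr rfl fun j _ => ?_
    rw [show x (i, j) = x (i, q) * x (p, j) / x (p, q) from (eq_div_iff hpq).mpr (hmin i j)]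
    ring
  have hψX : ∀ ij, ψ (MvPolynomial.X ij) = z ij := fun ij => MvPolynomial.aeval_X _ _
  let l : Fin w → P := fun m => ψ (L m)
  have hzhom : ∀ ij, (z ij).IsHomogeneous 2 := fun ij =>
    (MvPolynomial.isHomogeneous_X k _).mul (MvPolynomial.isHomogeneous_X k _)
  have hψ : ∀ {j : ℕ} {t : T}, t.IsHomogeneous j → (ψ t).IsHomogeneous (2 * j) := fun ht => by
    exact ht.aeval z hzhom
  have hLhom : ∀ m, (L m).IsHomogeneous 1 := fun m =>
    MvPolynomial.IsHomogeneous.sum _ _ _ fun i _ => MvPolynomial.IsHomogeneous.sum _ _ _ fun j _ => by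
      simpa using (MvPolynomial.isHomogeneous_C _ _).mul (MvPolynomial.isHomogeneous_X k (i, j))
  have hrad : ∀ ij : Fin a × Fin b, ∃ (N : ℕ) (c : Fin w → T), 0 < N ∧ (∀ m, (c m).IsHomogeneous (N - 1)) ∧
      z ij ^ N = ∑ m, ψ (c m) * l m := by
    intro ij
    have hmem : MvPolynomial.X ij ∈ J.radical := by
      rw [← MvPolynomial.vanishingIdeal_zeroLocus_eq_radical (K := k), MvPolynomial.mem_vanishingIdeal_iff]
      intro x hx
      simp [hzero x hx]
    obtain ⟨N, hN⟩ := hmem
    have hN' := J.mul_mem_right (MvPolynomial.X ij) hN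
    rw [← pow_succ] at hN'
    obtain ⟨r, hr, s, hs, hrs⟩ := Submodule.mem_sup.mp hN'
    obtain ⟨c, rfl⟩ := Ideal.mem_span_range_iff_exists_fun.mp hs
    have hr0 : ψ r = 0 := by
      have : Ideal.span (Set.range minor) ≤ RingHom.ker ψ := by
        rw [Ideal.span_le]
        rintro _ ⟨pq, rfl⟩
        rw [SetLike.mem_coe, RingHom.mem_ker]
        simp only [minor, map_sub, map_mul, hψX, z]
        ring
      exact this hr
    have heq : z ij ^ (N + 1) = ∑ m, ψ (c m) * l m := by
      have h1 := congrArg ψ hrs
      rw [map_add, hr0, zero_add, map_sum, map_pow] at h1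
      simp only [map_mul] at h1
      rw [hψX] at h1
      exact h1.symm
    refine ⟨N + 1, fun m => MvPolynomial.homogeneousComponent N (c m), N.succ_pos,
      fun m => MvPolynomial.homogeneousComponent_isHomogeneous _ _, ?_⟩
    have hz' : (z ij ^ (N + 1)).IsHomogeneous (2 * (N + 1)) := (hzhom ij).pow _
    calc z ij ^ (N + 1) = MvPolynomial.homogeneousComponent (2 * (N + 1)) (z ij ^ (N + 1)) := by
          rw [MvPolynomial.homogeneousComponent_of_mem hz', if_pos rfl]
      _ = _ := by
          rw [heq, map_sum]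
          refine Finset.sum_congr rfl fun m _ => ?_
          conv_lhs => rw [← MvPolynomial.sum_homogeneousComponent (c m), map_sum, Finset.sum_mul, map_sum]
          rw [Finset.sum_eq_single N]
          · rw [MvPolynomial.homogeneousComponent_of_mem ((hψ (MvPolynomial.homogeneousComponent_isHomogeneous N (c m))).mul (hψ (hLhom m))), if_pos (by ring)]
          · intro j _ hj
            rw [MvPolynomial.homogeneousComponent_of_mem ((hψ (MvPolynomial.homogeneousComponent_isHomogeneous j (c m))).mul (hψ (hLhom m))), if_neg]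
            intro h; exact hj (by omega)
          · intro h
            rw [Finset.mem_range, not_lt] at h
            rw [MvPolynomial.homogeneousComponent_eq_zero N (c m) (by omega), map_zero, zero_mul, map_zero]
  choose N c hN hc hzN using hrad
  let S : Subalgebra k P := ψ.range
  let lS : Fin w → S := fun m => ψ.rangeRestrict (L m)
  let B := Algebra.adjoin k (Set.range lS)
  let D := (∑ ij, N ij) + 1
  let M0 : Submodule B S := Submodule.span B (ψ.rangeRestrict '' {t : T | ∃ d < D, t.IsHomogeneous d})
  have hgen : ∀ (d : ℕ) (e : Fin a × Fin b →₀ ℕ), e.sum (fun _ n => n) = d →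
      ψ.rangeRestrict (MvPolynomial.monomial e 1) ∈ M0 := by
    intro d
    induction d using Nat.strong_induction_on with
    | _ d ih =>
      intro e he
      have hhom : (MvPolynomial.monomial e (1 : k)).IsHomogeneous d := by
        refine MvPolynomial.isHomogeneous_monomial _ ?_
        rw [← he]; rfl
      by_cases hd : d < D
      · exact Submodule.subset_span ⟨_, ⟨d, hd, hhom⟩, rfl⟩
      obtain ⟨ij, hij⟩ : ∃ ij, N ij ≤ e ij := by
        by_contra h
        push Not at h
        have : e.sum (fun _ n => n) ≤ ∑ ij, N ij := by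
          rw [Finsupp.sum_fintype _ _ (fun _ => rfl)]
          exact Finset.sum_le_sum fun x _ => (h x).le
        omega
      let e' : Fin a × Fin b →₀ ℕ := e - Finsupp.single ij (N ij)
      have hee : e = e' + Finsupp.single ij (N ij) := (tsub_add_cancel_of_le (Finsupp.single_le_iff.mpr hij)).symm
      have he' : e'.sum (fun _ n => n) + N ij = d := by
        rw [← he]
        conv_rhs => rw [hee]
        rw [Finsupp.sum_add_index' (fun _ => rfl) (fun _ _ _ => rfl), Finsupp.sum_single_index rfl]
      have hexp : ψ.rangeRestrict (MvPolynomial.monomial e 1) =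
          ∑ m, (⟨lS m, Algebra.subset_adjoin ⟨m, rfl⟩⟩ : B) • ψ.rangeRestrict (MvPolynomial.monomial e' 1 * c ij m) := by
        apply Subtype.ext
        simp only [AddSubmonoidClass.coe_finsetSum]
        show ψ (MvPolynomial.monomial e 1) = ∑ m, ψ (L m) * ψ (MvPolynomial.monomial e' 1 * c ij m)
        rw [show MvPolynomial.monomial e (1 : k) = MvPolynomial.monomial e' 1 * MvPolynomial.X ij ^ N ij by
          rw [MvPolynomial.X_pow_eq_monomial, MvPolynomial.monomial_mul, mul_one, ← hee]]
        simp only [map_mul, map_pow]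
        rw [show ψ (MvPolynomial.X ij) = z ij from MvPolynomial.aeval_X _ _, hzN, Finset.mul_sum]
        exact Finset.sum_congr rfl fun m _ => by simp only [l]; ring
      rw [hexp]
      refine Submodule.sum_mem _ fun m _ => Submodule.smul_mem _ _ ?_
      have hh : (MvPolynomial.monomial e' (1 : k) * c ij m).IsHomogeneous (e'.sum (fun _ n => n) + (N ij - 1)) :=
        (MvPolynomial.isHomogeneous_monomial _ rfl).mul (hc ij m)
      rw [(MvPolynomial.monomial e' (1 : k) * c ij m).as_sum, map_sum]
      refine Submodule.sum_mem _ fun f hf => ?_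
      have hfd := hh (MvPolynomial.mem_support_iff.mp hf)
      have h1 := ih (f.sum (fun _ n => n)) (by
        have : f.sum (fun _ n => n) = e'.sum (fun _ n => n) + (N ij - 1) := by
          rw [← hfd, Finsupp.weight_apply]; simp
        have := hN ij
        omega) f rfl
      rw [← mul_one (MvPolynomial.coeff f _), ← smul_eq_mul, ← MvPolynomial.smul_monomial, map_smul]
      exact Submodule.smul_of_tower_mem M0 _ h1
  have hfin : Module.Finite B S := by
    refine ⟨?_⟩
    have htop : M0 = ⊤ := by
      rw [eq_top_iff]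
      rintro y -
      obtain ⟨t, ht⟩ := y.2
      have : y = ψ.rangeRestrict t := Subtype.ext ht.symm
      rw [this, t.as_sum, map_sum]
      refine Submodule.sum_mem _ fun f _ => ?_
      rw [← mul_one (MvPolynomial.coeff f t), ← smul_eq_mul, ← MvPolynomial.smul_monomial, map_smul]
      exact Submodule.smul_of_tower_mem M0 _ (hgen _ f rfl)
    rw [← htop]
    let G : Set S := ψ.rangeRestrict '' ((fun f => MvPolynomial.monomial f 1) '' {f : Fin a × Fin b →₀ ℕ | f.sum (fun _ n => n) < D})
    refine Submodule.fg_def.mpr ⟨G, ?_, le_antisymm (Submodule.span_le.mpr ?_) (Submodule.span_le.mpr ?_)⟩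
    · refine Set.Finite.image _ (Set.Finite.image _ ?_)
      refine ((Set.finite_range (fun g : (Fin a × Fin b) → Fin D => Finsupp.equivFunOnFinite.symm (fun x => ((g x : ℕ))))).subset) ?_
      intro f hf
      refine ⟨fun x => ⟨f x, ?_⟩, by ext x; simp⟩
      have hf' : f.sum (fun _ n => n) < D := hf
      rw [Finsupp.sum_fintype _ _ (fun _ => rfl)] at hf'
      exact (Finset.single_le_sum (f := fun x => f x) (fun _ _ => Nat.zero_le _) (Finset.mem_univ x)).trans_lt hf'
    · rintro _ ⟨_, ⟨f, hf, rfl⟩, rfl⟩
      exact Submodule.subset_span ⟨_, ⟨_, hf, MvPolynomial.isHomogeneous_monomial _ (by rfl)⟩, rfl⟩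
    · rintro _ ⟨t, ⟨d, hd, ht⟩, rfl⟩
      rw [t.as_sum, map_sum]
      refine Submodule.sum_mem _ fun f hf => ?_
      rw [← mul_one (MvPolynomial.coeff f t), ← smul_eq_mul, ← MvPolynomial.smul_monomial, map_smul]
      refine Submodule.smul_of_tower_mem _ _ (Submodule.subset_span ⟨_, ⟨f, ?_, rfl⟩, rfl⟩)
      show f.sum (fun _ n => n) < D
      have := ht (MvPolynomial.mem_support_iff.mp hf)
      rw [Finsupp.weight_apply] at this
      simp only [Pi.one_apply, smul_eq_mul, mul_one] at this
      omega
  have : Algebra.IsAlgebraic B S := Algebra.IsIntegral.isAlgebraic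
  have htr : Algebra.trdeg k S ≤ Cardinal.mk (Set.range lS) := Algebra.IsAlgebraic.trdeg_le_cardinalMk k (Set.range lS)
  obtain ⟨b', hb'⟩ : ∃ b', b = b' + 1 := ⟨b - 1, by omega⟩
  let i0 : Fin a := ⟨0, ha⟩
  let j0 : Fin b := ⟨0, hb⟩
  let τ : Fin b' → Fin b := fun j => ⟨j + 1, by omega⟩
  let y : Fin a ⊕ Fin b' → S := Sum.elim (fun i => ψ.rangeRestrict (MvPolynomial.X (i, j0)))
    (fun j => ψ.rangeRestrict (MvPolynomial.X (i0, τ j)))
  have hy : AlgebraicIndependent k y := by
    let F := FractionRing (MvPolynomial (Fin a ⊕ Fin b') k)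
    let g : Fin a ⊕ Fin b → F := Sum.elim (fun i => algebraMap (MvPolynomial (Fin a ⊕ Fin b') k) F (MvPolynomial.X (Sum.inl i)))
      (fun j => if h : (j : ℕ) = 0 then 1 else
        algebraMap (MvPolynomial (Fin a ⊕ Fin b') k) F (MvPolynomial.X (Sum.inr (⟨(j : ℕ) - 1, by omega⟩ : Fin b'))) / algebraMap (MvPolynomial (Fin a ⊕ Fin b') k) F (MvPolynomial.X (Sum.inl i0)))
    let ev : S →ₐ[k] F := (MvPolynomial.aeval g).comp S.val
    apply AlgebraicIndependent.of_comp ev
    have hne : algebraMap (MvPolynomial (Fin a ⊕ Fin b') k) F (MvPolynomial.X (Sum.inl i0)) ≠ 0 :=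
      (map_ne_zero_iff _ (IsFractionRing.injective _ F)).mpr (MvPolynomial.X_ne_zero _)
    have he : ⇑ev ∘ y = ⇑(IsScalarTower.toAlgHom k (MvPolynomial (Fin a ⊕ Fin b') k) F) ∘ MvPolynomial.X := by
      funext s
      rcases s with i | j
      · show MvPolynomial.aeval g (ψ (MvPolynomial.X (i, j0))) = _
        rw [hψX, map_mul, MvPolynomial.aeval_X, MvPolynomial.aeval_X]
        simp only [g, Sum.elim_inl, Sum.elim_inr, j0, dite_true, mul_one]
        rfl
      · show MvPolynomial.aeval g (ψ (MvPolynomial.X (i0, τ j))) = _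
        rw [hψX, map_mul, MvPolynomial.aeval_X, MvPolynomial.aeval_X]
        simp only [g, Sum.elim_inl, Sum.elim_inr, τ, Nat.succ_ne_zero, dite_false, Nat.add_sub_cancel]
        rw [mul_div_cancel₀ _ hne]
        rfl
    rw [he]
    exact (MvPolynomial.algebraicIndependent_X _ k).map' (IsFractionRing.injective _ F)
  have h1 := hy.lift_cardinalMk_le_trdeg
  have h2 := Cardinal.mk_range_le_lift (f := lS)
  have h3 : ((a + b' : ℕ) : Cardinal) ≤ (w : Cardinal) := by
    have e1 := h1.trans (Cardinal.lift_le.mpr htr)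
    simp only [Cardinal.mk_fintype, Fintype.card_sum, Fintype.card_fin, Cardinal.lift_natCast] at e1 h2
    refine le_trans e1 ?_
    simpa using h2
  have h4 : a + b' ≤ w := Nat.cast_le.mp h3
  omega

end Groth.Agent.S14510
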