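import Groth.Statements.S14511
import Mathlib.RingTheory.IntegralDomain
import Mathlib.RingTheory.RegularLocalRing.Defs
import Mathlib.RingTheory.SimpleRing.Principal

set_option autoImplicit false
universe u
open CAlgX

namespace Groth.Agent.S14511

/-- Let R be a commutative ring and P ∈ R[x_1, …, x_r] a polynomial of total degree at most r. Then the
coefficient of the monomial x_1 ⋯ x_r in P equals Σ_J (−1)^{|J|} P(δ_J), the sum over all subsets J
⊆ {1, …, r} (the empty one included), where δ_J is the point with coordinate −1 at the indices in J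
and 0 at the others. -/
theorem result (R : Type u) [CommRing R] (r : ℕ)
    (P : MvPolynomial (Fin r) R) (hP : P.totalDegree ≤ r) :
    MvPolynomial.coeff (∑ i : Fin r, Finsupp.single i 1) P =
      ∑ J : Finset (Fin r), (-1 : R) ^ J.card * MvPolynomial.eval (fun j => if j ∈ J then (-1 : R) else 0) P := by
  classical
  have hterm : ∀ d : Fin r →₀ ℕ, (∑ i, d i) ≤ r →
      (∑ J : Finset (Fin r), (-1 : R) ^ J.card * d.prod fun j e ↦ (if j ∈ J then (-1 : R) else 0) ^ e) =
        if d = ∑ i : Fin r, Finsupp.single i 1 then 1 else 0 := by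
    intro d hd
    have h1 : ∀ J : Finset (Fin r), (-1 : R) ^ J.card *
        (d.prod fun j e ↦ (if j ∈ J then (-1 : R) else 0) ^ e) =
        (∏ j ∈ J, (-1 : R) ^ (d j + 1)) * ∏ j ∈ Finset.univ \ J, (0 : R) ^ d j := fun J ↦ by
      rw [Finsupp.prod_fintype _ _ (fun j ↦ pow_zero _),
        ← Finset.prod_sdiff (Finset.subset_univ J), ← Finset.prod_const]
      rw [mul_left_comm, ← Finset.prod_mul_distrib, mul_comm]
      congr 1
      · exact Finset.prod_congr rfl fun j hj ↦ by rw [if_pos hj, pow_succ']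
      · exact Finset.prod_congr rfl fun j hj ↦ by rw [if_neg (Finset.mem_sdiff.mp hj).2]
    have hsingle : ∀ j, (∑ i : Fin r, Finsupp.single i 1 : Fin r →₀ ℕ) j = 1 := fun j ↦ by
      simp [Finsupp.finsetSum_apply, Finsupp.single_apply]
    rw [Finset.sum_congr rfl fun J _ ↦ h1 J, ← Finset.powerset_univ, ← Finset.prod_add]
    by_cases hall : ∀ j, d j ≠ 0
    · have hone : ∀ j, d j = 1 := by
        intro j
        by_contra hj
        have : ∑ i : Fin r, 1 < ∑ i, d i := Finset.sum_lt_sum (fun i _ ↦ Nat.one_le_iff_ne_zero.mpr (hall i))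
          ⟨j, Finset.mem_univ _, by have := hall j; omega⟩
        simp at this
        omega
      rw [if_pos (Finsupp.ext fun j ↦ by rw [hone, hsingle])]
      exact Finset.prod_eq_one fun j _ ↦ by rw [hone]; simp
    · push_neg at hall
      obtain ⟨j, hj⟩ := hall
      rw [if_neg (fun h ↦ by rw [h, hsingle] at hj; exact one_ne_zero hj)]
      exact Finset.prod_eq_zero (Finset.mem_univ j) (by rw [hj]; simp)
  have hdeg : ∀ d ∈ P.support, ∑ i, d i ≤ r := fun d hd ↦ by
    refine le_trans ?_ ((MvPolynomial.le_totalDegree hd).trans hP)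
    rw [Finsupp.sum_fintype _ _ fun _ ↦ rfl]
  have heval : ∀ J : Finset (Fin r),
      (-1 : R) ^ J.card * MvPolynomial.eval (fun j => if j ∈ J then (-1 : R) else 0) P =
      ∑ d ∈ P.support, P.coeff d *
        ((-1 : R) ^ J.card * d.prod fun j e ↦ (if j ∈ J then (-1 : R) else 0) ^ e) := fun J ↦ by
    rw [MvPolynomial.eval_eq, Finset.mul_sum]
    exact Finset.sum_congr rfl fun d _ ↦ mul_left_comm _ _ _
  symm
  rw [Finset.sum_congr rfl fun J _ ↦ heval J, Finset.sum_comm,
    Finset.sum_congr rfl (g := fun d ↦ P.coeff d * if d = ∑ i : Fin r, Finsupp.single i 1 then 1 else 0)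
      fun d hd ↦ (by rw [← Finset.mul_sum, hterm d (hdeg d hd)])]
  simp
  exact fun h ↦ h.symm

end Groth.Agent.S14511
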