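import Groth.Statements.S14513
import Groth.Agent.H29CurveDual.Hurwitz

set_option autoImplicit false
universe u
open CategoryTheory CategoryTheory.Limits AlgebraicGeometry
open Curves

namespace Groth.Agent.S14513

theorem residueDegree_pos_of_isFinite {X Y : Scheme.{u}} (f : X ⟶ Y) [IsFinite f] (x : X) : 0 < f.residueDegree x := by
  letI := (f.residueFieldMap x).hom.toAlgebra
  haveI : Module.Finite (Y.residueField (f x)) (X.residueField x) := by
    have : DiscreteTopology (f.fiber (f x)) :=
      have := (f.isDiscrete_preimage_singleton (f x)).to_subtype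
      (f.fiberHomeo (f x)).symm.discreteTopology
    exact H17.finite_residueFieldMap f x (isClosed_discrete _)
  exact Module.finrank_pos


/-- Let k be an algebraically closed field and f : X → Y a finite, separable morphism of smooth
projective curves over k (X, Y integral, proper and smooth over k, of dimension one; f sends the
generic point to the generic point and the extension K(X)/K(Y) is separable). If X and Y have the
same genus g = dim_k H^1(O) and g ≥ 2, then f is an isomorphism. (The published statement also
asserts g(X) ≥ g(Y) and that equality holds exactly when f is an isomorphism, both curves are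
projective lines, or both have genus one; this row states the equality case for genus at least two.) -/
theorem result (k : Type u) [Field k] [IsAlgClosed k]
    (X : Scheme.{u}) [X.Over (Spec (CommRingCat.of k))] [IsIntegral X] [IsProper (X ↘ (Spec (CommRingCat.of k)))] [Smooth (X ↘ (Spec (CommRingCat.of k)))] (hdimX : topologicalKrullDim X = 1)
    (Y : Scheme.{u}) [Y.Over (Spec (CommRingCat.of k))] [IsIntegral Y] [IsProper (Y ↘ (Spec (CommRingCat.of k)))] [Smooth (Y ↘ (Spec (CommRingCat.of k)))] (hdimY : topologicalKrullDim Y = 1)
    (f : X ⟶ Y) [IsFinite f] (hf : f ≫ (Y ↘ (Spec (CommRingCat.of k))) = (X ↘ (Spec (CommRingCat.of k))))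
    (e : f (genericPoint X) = genericPoint Y)
    (hg : Curv2.genus k X = Curv2.genus k Y) (h2 : 2 ≤ Curv2.genus k Y) :
    letI := ((Y.presheaf.stalkSpecializes (specializes_of_eq e) ≫ f.stalkMap (genericPoint X)).hom).toAlgebra
    Algebra.IsSeparable Y.functionField X.functionField → IsIso f := by
  intro hsep
  have h := H29CurveDual.deg_omega_eq_add (k := k) hdimX hdimY f hf e
    (H29CurveDual.formallyUnramified_stalkMap_generic f e hsep)
  rw [H29CurveDual.deg_omega_of_h0 hdimX (H29RR.finrank_h0_structure k X),
    H29CurveDual.deg_omega_of_h0 hdimY (H29RR.finrank_h0_structure k Y), hg] at h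
  have hpos := residueDegree_pos_of_isFinite f (genericPoint X)
  have hd : f.residueDegree (genericPoint X) = 1 := by
    by_contra hne
    have h2' : (2 : ℤ) ≤ (f.residueDegree (genericPoint X) : ℤ) := by omega
    have h3 : (2 : ℤ) * (2 * (Curv2.genus k Y : ℤ) - 2) ≤
        (f.residueDegree (genericPoint X) : ℤ) * (2 * (Curv2.genus k Y : ℤ) - 2) :=
      mul_le_mul_of_nonneg_right h2' (by omega)
    omega
  haveI := H29CurveDual.isIso_stalkMap_of_residueDegree_one f e hd
  refine S4808.result (fun y => ?_) f e inferInstance
  haveI := H19Grp.isRegularLocalRing_stalk_of_smooth (Y ↘ Spec (CommRingCat.of k)) y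
  exact H05EGA4.isIntegrallyClosed_of_isRegularLocalRing _

end Groth.Agent.S14513
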