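import Groth.Statements.S14514
import Mathlib
import Groth.Agent.H22Alg.FibreCount

set_option autoImplicit false
universe u
open CategoryTheory CategoryTheory.Limits AlgebraicGeometry
open Variety

namespace Groth.Agent.S14514

/-- Let k be an algebraically closed field and f : X → Y a morphism of algebraic varieties over k (X, Y
reduced, separated and of finite type over k) such that Y is irreducible and the image f(X) is dense
in Y. Then X contains an irreducible closed subset Z with dim Z = dim Y such that f(Z) is dense in
Y. -/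
theorem result (k : Type u) [Field k] [IsAlgClosed k]
    (X Y : Scheme.{u}) [X.Over (Spec (CommRingCat.of k))] [Y.Over (Spec (CommRingCat.of k))]
    [IsReduced X] [IsSeparated (X ↘ (Spec (CommRingCat.of k)))] [LocallyOfFiniteType (X ↘ (Spec (CommRingCat.of k)))] [QuasiCompact (X ↘ (Spec (CommRingCat.of k)))]
    [IsReduced Y] [IsSeparated (Y ↘ (Spec (CommRingCat.of k)))] [LocallyOfFiniteType (Y ↘ (Spec (CommRingCat.of k)))] [QuasiCompact (Y ↘ (Spec (CommRingCat.of k)))] [IrreducibleSpace Y]
    (f : X ⟶ Y) (hf : f ≫ (Y ↘ (Spec (CommRingCat.of k))) = (X ↘ (Spec (CommRingCat.of k)))) [IsDominant f] :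
    ∃ Z : Set X, IsClosed Z ∧ IsIrreducible Z ∧ topologicalKrullDim ↥Z = topologicalKrullDim Y ∧
      Dense (f '' Z) := by
  open Groth.Agent.H8Props.FieldDim Groth.Agent.H22Alg.FibreCount in
  set qX := X ↘ Spec (CommRingCat.of k)
  set qY := Y ↘ Spec (CommRingCat.of k)
  haveI : LocallyOfFiniteType (f ≫ qY) := hf ▸ inferInstance
  haveI : LocallyOfFiniteType f := locallyOfFiniteType_of_comp f qY
  haveI : QuasiCompact (f ≫ qY) := hf ▸ inferInstance
  haveI : QuasiCompact f := QuasiCompact.of_comp f qY
  have hgY : genericPoint Y ∈ genericPoints Y := by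
    show closure {genericPoint Y} ∈ irreducibleComponents Y
    rw [genericPoint_closure, irreducibleComponents_eq_singleton]; rfl
  obtain ⟨x, hx⟩ := genericPoint_mem_range qY f f.denseRange hgY
  haveI := locallyOfFiniteType_fiberToSpec f (genericPoint Y)
  obtain ⟨u₀, -⟩ : ∃ u, f.fiberι (genericPoint Y) u = x := by
    show x ∈ Set.range (f.fiberι (genericPoint Y)); rw [f.range_fiberι]; exact hx
  obtain ⟨u, -, hu⟩ := exists_closed_point (k := Y.residueField (genericPoint Y)) (f.fiberToSpecResidueField (genericPoint Y))
    isOpen_univ ⟨u₀, trivial⟩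
  refine ⟨closure {f.fiberι _ u}, isClosed_closure, isIrreducible_singleton.closure, ?_, ?_⟩
  · show cdim (f.fiberι _ u) = _
    rw [cdim_fiber qX qY f hf u, (isClosed_iff_cdim_eq_zero (k := Y.residueField (genericPoint Y)) (f.fiberToSpecResidueField (genericPoint Y)) u).mp hu, zero_add,
      cdim, genericPoint_closure]
    exact IsHomeomorph.topologicalKrullDim_eq _ (Homeomorph.Set.univ _).isHomeomorph
  · rw [dense_iff_closure_eq, Set.eq_univ_iff_forall]
    intro y
    have hy : f (f.fiberι _ u) = genericPoint Y := (f.range_fiberι _).subset (Set.mem_range_self u)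
    exact closure_mono (Set.singleton_subset_iff.mpr ⟨_, subset_closure rfl, hy⟩ : {genericPoint Y} ⊆ f '' closure {f.fiberι _ u})
      (genericPoint_specializes y).mem_closure

end Groth.Agent.S14514
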