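import Groth.Statements.S14517
import Groth.Agent.H28RR.GenAtCurve
import Groth.Agent.H28RR.ContractCurve
import Groth.Agent.H29DoubleCover.Separable
import Groth.Agent.S10829
import Groth.Agent.LeadPic.PnRel

set_option autoImplicit false
universe u
open CategoryTheory CategoryTheory.Limits AlgebraicGeometry
open Groth.Agent
open Surf

namespace Groth.Agent.S14517

/-- Let k be an algebraically closed field, X a smooth projective surface over k (integral, smooth over
k, of dimension two, with a closed immersion over k into some projective space) and C ⊆ X a curve,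
given by a closed immersion i : C → X, with C isomorphic to P^1_k over k and (C·C) = −n for some n >
0, the self-intersection being the alternating Euler-characteristic sum computed in the ideal I_C =
O_X(−C) (the prelude's FGA.intNum). Then there are a projective surface Y over k (integral, of
dimension two, with a closed immersion over k into some projective space), a morphism g : X → Y over
k and a closed point P of Y such that g^{-1}(P) = C as sets and g restricts to an isomorphism over Y
∖ {P}. (The published statement also identifies the completed local ring of Y at P with that of the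
vertex of the affine cone over a rational normal curve of degree n; this row omits that clause.) -/
theorem result (k : Type u) [Field k] [IsAlgClosed k]
    (X : Scheme.{u}) [X.Over (Spec (CommRingCat.of k))] [IsIntegral X] [Smooth (X ↘ (Spec (CommRingCat.of k)))] (hdim : topologicalKrullDim X = 2)
    (hprojX : ∃ (N : ℕ) (ι : X ⟶ CohB1.ProjSpace N k), IsClosedImmersion ι ∧ ι ≫ CohB1.ProjSpace.toSpec N k = (X ↘ (Spec (CommRingCat.of k))))
    (C : Scheme.{u}) (i : C ⟶ X) [IsClosedImmersion i]
    (e : C ≅ CohB1.ProjSpace 1 k) (he : e.hom ≫ CohB1.ProjSpace.toSpec 1 k = i ≫ (X ↘ (Spec (CommRingCat.of k))))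
    (n : ℕ) (hn : 0 < n)
    (hCC : FGA.intNum k X 2 ![ClSub.idealMod i.ker, ClSub.idealMod i.ker] (Coh.structureModule X) = -(n : ℤ)) :
    ∃ (Y : Scheme.{u}) (q : Y ⟶ Spec (CommRingCat.of k)) (g : X ⟶ Y) (P : Y) (hP : IsClosed ({P} : Set Y)),
      g ≫ q = (X ↘ (Spec (CommRingCat.of k))) ∧ IsIntegral Y ∧ topologicalKrullDim Y = 2 ∧
      (∃ (N : ℕ) (ι : Y ⟶ CohB1.ProjSpace N k), IsClosedImmersion ι ∧ ι ≫ CohB1.ProjSpace.toSpec N k = q) ∧
      (∀ x : X, g x = P ↔ x ∈ Set.range i) ∧
      IsIso (g ∣_ (⟨({P} : Set Y)ᶜ, hP.isOpen_compl⟩ : Y.Opens)) := by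
  obtain ⟨N, ι, hιi, hι⟩ := hprojX
  haveI : IsProper (X ↘ Spec (CommRingCat.of k)) :=
    H11Proj.SepPts.isProper_of_projective (k := k) (pX := X ↘ Spec (CommRingCat.of k)) ⟨N, ι, hιi, hι⟩
  haveI := H28Int.isNoetherian k (X := X)
  letI := H28Vert.picLaw (Y := X)
  let D : X.IdealSheafData := i.ker
  let φ : C ≅ D.subscheme := asIso i.toImage
  have hφ : φ.hom ≫ D.subschemeι = i := i.toImage_imageι
  letI := H29RR.PnPic.overSpec 1 k
  haveI : IsIntegral (CohB1.ProjSpace 1 k) := LeadPic.PnRel.isIntegral_projSpace (n := 1) k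
  haveI : IsIntegral C := IsIntegral.of_isIso e.inv
  haveI hDi : IsIntegral D.subscheme := IsIntegral.of_isIso φ.hom
  have hdimP : topologicalKrullDim (CohB1.ProjSpace 1 k) = 1 := by
    simpa using Groth.Agent.S10829.result k 1
  have hDd : topologicalKrullDim D.subscheme = 1 := by
    rw [← (Scheme.homeoOfIso (e.symm ≪≫ φ)).isHomeomorph.topologicalKrullDim_eq, hdimP]
  have hC : H28Surf.IsCurve D := ⟨hDi, (H28Surf.dim_subscheme D).symm.trans hDd⟩
  letI : D.subscheme.Over (Spec (CommRingCat.of k)) := ⟨D.subschemeι ≫ (X ↘ Spec (CommRingCat.of k))⟩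
  haveI : IsProper (D.subscheme ↘ Spec (CommRingCat.of k)) :=
    inferInstanceAs (IsProper (D.subschemeι ≫ (X ↘ Spec (CommRingCat.of k))))
  haveI : IsProper (CohB1.ProjSpace 1 k ↘ Spec (CommRingCat.of k)) := H27Weil.isProper_toSpec 1 k
  have hgen : Curv2.genus k D.subscheme = 0 := by
    rw [H29DoubleCover.genus_congr (φ.symm ≪≫ e) (by
      show (φ.inv ≫ e.hom) ≫ CohB1.ProjSpace.toSpec 1 k = D.subschemeι ≫ (X ↘ Spec (CommRingCat.of k))
      rw [Category.assoc, he, ← hφ, Category.assoc, Iso.inv_hom_id_assoc])]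
    exact H29DoubleCover.genus_projLine k
  haveI : (Coh.structureModule D.subscheme).IsQuasicoherent := H10Coh.isQuasicoherent_unit
  haveI := H10Coh.finite_HH_proper k D.subscheme _ (H10Coh.isCoh_structureModule' D.subscheme) 1
  have h1C : Subsingleton (Coh.HH D.subscheme (Coh.structureModule D.subscheme) 1) :=
    (Module.finrank_zero_iff (R := k)).1 hgen
  have hI := H28Surf.isInvertible_ideal k (H28Surf.isEffCartier_curve k hdim hC)
  have hneg : H28RR.PicNum.dot k (H28RR.PicNum.curveCls k hdim hC) (H28RR.PicNum.curveCls k hdim hC) < 0 := by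
    rw [H28RR.PicNum.curveCls, H28RR.PicNum.dot_inv_left k hdim, H28RR.PicNum.dot_inv_right k hdim, neg_neg,
      H28RR.PicNum.dot_cls k hdim hI hI, ← H28Surf.intNum_eq_pr k hdim hI hI, hCC]
    omega
  obtain ⟨L, hL, hgg, hzero, hnn, ⟨triv⟩⟩ := H28RR.GenAtCurve.exists_generated k hdim hC h1C hneg
  have hrange : Set.range i = (D.support : Set X) := by
    rw [← D.range_subschemeι, ← hφ, Scheme.Hom.comp_base, TopCat.coe_comp, Set.range_comp,
      Set.range_eq_univ.2 φ.hom.homeomorph.surjective |> fun h => (show Set.range φ.hom = Set.univ from h), Set.image_univ]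
  have heq : ∀ J : X.IdealSheafData, H28Surf.IsCurve J → (J.support : Set X) ⊆ Set.range i → J = D := fun J hJ hsub =>
    H28Surf.eq_of_support_subset k hJ hC (hrange ▸ hsub)
  obtain ⟨C₀, hC₀, hH⟩ := H28RR.PicNum.exists_ample_curve (X := X) k hdim
  obtain ⟨Y, q, g, P, hP, h1, h2, h3, h4, h5, h6⟩ := H28RR.ContractCurve.exists_contraction k hL hgg D.subschemeι
    ⟨triv⟩ (fun J hJi hJd hne => by
      haveI := hJi
      letI : J.subscheme.Over (Spec (CommRingCat.of k)) := ⟨J.subschemeι ≫ (X ↘ Spec (CommRingCat.of k))⟩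
      haveI : IsProper (J.subscheme ↘ Spec (CommRingCat.of k)) :=
        inferInstanceAs (IsProper (J.subschemeι ≫ (X ↘ Spec (CommRingCat.of k))))
      refine H22Alg.CurveAmple.isAmple_of_deg_pos (k := k) ((H28Surf.dim_subscheme J).trans hJd)
        (H11Ample.isInvertible_pullback _ hL) ?_
      rw [← H28Surf.degOn_eq_deg k ⟨hJi, hJd⟩ hL]
      refine lt_of_le_of_ne (hnn J ⟨hJi, hJd⟩) fun h0 => hne ?_
      rw [(hzero J ⟨hJi, hJd⟩).1 h0.symm, D.range_subschemeι])
    hdim.le ⟨C₀, hC₀.int, hC₀.dim, fun hsub => by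
      have hC₀D := heq C₀ hC₀ (by rw [hrange]; rwa [D.range_subschemeι] at hsub)
      have hp := H28RR.ample_deg_pos k hdim hH hC₀
      rw [H28RR.ZariskiVol.degOn_eq_dot k hdim hC₀] at hp
      subst hC₀D
      exact lt_irrefl _ (hp.trans hneg)⟩
  refine ⟨Y, q, g, P, hP, h1, h2, h3.trans hdim, h4, fun x => ?_, h6⟩
  rw [h5 x, D.range_subschemeι, hrange]

end Groth.Agent.S14517
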