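import Groth.Statements.S14518
import Groth.Agent.H29RR.Clifford
import Groth.Agent.H28Pinch.EssSurj
import Groth.Agent.H10Coh.TensorTilde
-- import your own Groth.Agent.* helpers here

set_option autoImplicit false
universe u
open CategoryTheory CategoryTheory.Limits AlgebraicGeometry
open Variety

namespace Groth.Agent.S14518

open CategoryTheory.Limits H16Derived.KFlat.Stalk

/-- Let k be an algebraically closed field, X an irreducible variety over k, taken here complete (X
integral and proper over k, so that spaces of global sections are finite-dimensional), and E_1, E_2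
vector bundles (finite locally free O_X-modules) on X with H^0(X, E_1) ≠ 0 and H^0(X, E_2) ≠ 0. Then
dim_k H^0(X, E_1 ⊗ E_2) ≥ dim_k H^0(X, E_1) + dim_k H^0(X, E_2) − 1. (The published statement allows
any irreducible variety; for non-complete X the spaces of sections may be infinite-dimensional and
the inequality carries no content, so X is taken complete here.) -/
theorem result (k : Type u) [Field k] [IsAlgClosed k]
    (X : Scheme.{u}) [X.Over (Spec (CommRingCat.of k))] [IsIntegral X] [IsProper (X ↘ (Spec (CommRingCat.of k)))]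
    (E₁ E₂ : X.Modules) (h₁ : FlatMod.IsFinLocFree E₁) (h₂ : FlatMod.IsFinLocFree E₂)
    [Nontrivial (Coh.HH X E₁ 0)] [Nontrivial (Coh.HH X E₂ 0)] :
    Module.finrank k (Coh.HH X E₁ 0) + Module.finrank k (Coh.HH X E₂ 0) ≤
      Module.finrank k (Coh.HH X (CohB1.tensorMod E₁ E₂) 0) + 1 := by
  have hL := h₁
  have hL₂ := h₂
  haveI := H29RR.isNoetherian_of_proper (k := k) (X := X)
  have hCL := H16Derived.KFlat.Stalk.isCoh_of_isFinLocFree hL
  have hCL₂ := H16Derived.KFlat.Stalk.isCoh_of_isFinLocFree hL₂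
  haveI := H10Coh.finite_HH_proper k X E₁ hCL 0
  haveI := H10Coh.finite_HH_proper k X E₂ hCL₂ 0
  haveI := H10Coh.finite_HH_proper k X _ (H10Coh.TT.isCoh_tensorMod hCL hCL₂) 0
  let m : Coh.HH X E₁ 0 → Coh.HH X E₂ 0 → Coh.HH X (CohB1.tensorMod E₁ E₂) 0 := fun v w =>
    (H29RR.sec (CohB1.tensorMod E₁ E₂)).symm (tensorSect ⊤ (H29RR.sec E₁ v) (H29RR.sec E₂ w))
  have hm : ∀ v w, H29RR.sec (CohB1.tensorMod E₁ E₂) (m v w) = tensorSect ⊤ (H29RR.sec E₁ v) (H29RR.sec E₂ w) :=
    fun v w => AddEquiv.apply_symm_apply _ _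
  let B : Coh.HH X E₁ 0 →ₗ[k] Coh.HH X E₂ 0 →ₗ[k] Coh.HH X (CohB1.tensorMod E₁ E₂) 0 :=
    LinearMap.mk₂ k m
      (fun v v' w => (H29RR.sec _).injective (by
        rw [hm, map_add, map_add, hm, hm]; exact tensorSect_add_left _ _ _))
      (fun c v w => (H29RR.sec _).injective (by
        rw [hm, H29RR.sec_smul, H29RR.sec_smul, hm]; exact tensorSect_smul_left _ _ _))
      (fun v w w' => (H29RR.sec _).injective (by
        rw [hm, map_add, map_add, hm, hm]; exact tensorSect_add_right _ _ _))
      (fun c v w => (H29RR.sec _).injective (by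
        rw [hm, H29RR.sec_smul, H29RR.sec_smul, hm]; exact tensorSect_smul_right _ _ _))
  refine H29RR.hopf B (fun v w h => ?_) Module.finrank_pos Module.finrank_pos
  by_contra hvw
  obtain ⟨hv, hw⟩ := not_or.1 hvw
  have hne : ∀ {M : X.Modules}, FlatMod.IsFinLocFree M → ∀ {u : Coh.HH X M 0}, u ≠ 0 →
      M.presheaf.germ ⊤ (genericPoint X) trivial (H29RR.sec M u) ≠ 0 := fun {M} hM {u} hu =>
    H29RR.germ_ne_zero (H16Derived.KFlat.Stalk.isCoh_of_isFinLocFree hM).1
      (H25Par.isTorsionFree_of_locFree hM)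
      fun h0 => hu ((H29RR.sec M).injective (h0.trans (map_zero _).symm))
  letI : Field (X.presheaf.stalk (genericPoint X)) := inferInstanceAs (Field X.functionField)
  have h0 : tensorSect ⊤ (H29RR.sec E₁ v) (H29RR.sec E₂ w) = 0 := by
    rw [← hm]
    show H29RR.sec _ (B v w) = 0
    rw [h, map_zero]
  have h1 := pair_germ E₁ E₂ (genericPoint X) (⊤ : X.Opens) trivial (H29RR.sec E₁ v) (H29RR.sec E₂ w)
  rw [h0, map_zero, ← toStalk_tmul] at h1
  have h3 := (toStalk_bijective E₁ E₂ (genericPoint X)).1 (h1.trans (map_zero _).symm)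
  obtain ⟨φ, hφ⟩ := not_forall.1 (mt (Module.forall_dual_apply_eq_zero_iff (X.presheaf.stalk (genericPoint X)) _).1 (hne hL hv))
  obtain ⟨ψ, hψ⟩ := not_forall.1 (mt (Module.forall_dual_apply_eq_zero_iff (X.presheaf.stalk (genericPoint X)) _).1 (hne hL₂ hw))
  have h4 := congrArg (TensorProduct.lift ((LinearMap.mul _ _).compl₁₂ φ ψ)) h3
  rw [map_zero, TensorProduct.lift.tmul] at h4
  exact mul_ne_zero hφ hψ h4


end Groth.Agent.S14518
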