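import Groth.Statements.S14519
import Groth.Agent.H29Curve.Morphism
import Groth.Agent.S4809
import Groth.Agent.H19Grp.RegularSmooth
import Groth.Agent.H05EGA4.CompleteNormalization
import Mathlib

set_option autoImplicit false
universe u
open CategoryTheory CategoryTheory.Limits AlgebraicGeometry
open Curves

namespace Groth.Agent.S14519

/-- Let k be an algebraically closed field and f : X → Y a birational morphism over k between smooth
curves (X, Y integral, separated, of finite type and smooth over k, of dimension one; f sends the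
generic point of X to that of Y and the induced map of function fields K(Y) → K(X) is bijective).
Then f is an open immersion. -/
theorem result (k : Type u) [Field k] [IsAlgClosed k]
    (X Y : Scheme.{u}) [X.Over (Spec (CommRingCat.of k))] [Y.Over (Spec (CommRingCat.of k))]
    [IsIntegral X] [IsSeparated (X ↘ (Spec (CommRingCat.of k)))] [LocallyOfFiniteType (X ↘ (Spec (CommRingCat.of k)))] [QuasiCompact (X ↘ (Spec (CommRingCat.of k)))] [Smooth (X ↘ (Spec (CommRingCat.of k)))] (hdimX : topologicalKrullDim X = 1)
    [IsIntegral Y] [IsSeparated (Y ↘ (Spec (CommRingCat.of k)))] [LocallyOfFiniteType (Y ↘ (Spec (CommRingCat.of k)))] [QuasiCompact (Y ↘ (Spec (CommRingCat.of k)))] [Smooth (Y ↘ (Spec (CommRingCat.of k)))] (hdimY : topologicalKrullDim Y = 1)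
    (f : X ⟶ Y) (hf : f ≫ (Y ↘ (Spec (CommRingCat.of k))) = (X ↘ (Spec (CommRingCat.of k))))
    (e : f (genericPoint X) = genericPoint Y)
    (hbir : Function.Bijective (Y.presheaf.stalkSpecializes (specializes_of_eq e) ≫ f.stalkMap (genericPoint X)).hom) :
    IsOpenImmersion f := by
  let pX := X ↘ Spec (CommRingCat.of k)
  let pY := Y ↘ Spec (CommRingCat.of k)
  haveI : IsSeparated (f ≫ pY) := by rw [hf]; infer_instance
  haveI : IsSeparated f := IsSeparated.of_comp f pY
  haveI : LocallyOfFiniteType (f ≫ pY) := by rw [hf]; infer_instance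
  haveI : LocallyOfFiniteType f := locallyOfFiniteType_of_comp f pY
  haveI : LocallyQuasiFinite f := Groth.Agent.H29Curve.locallyQuasiFinite_of_nontrivial pX pY f hf hdimX.le
    (Groth.Agent.H29Curve.nontrivial_range_of_dominant pX pY f hf e hdimY)
  have hiso : IsIso (f.stalkMap (genericPoint X)) := by
    haveI : IsIso (Y.presheaf.stalkSpecializes (specializes_of_eq e)) :=
      ⟨⟨Y.presheaf.stalkSpecializes (specializes_of_eq e.symm), by simp, by simp⟩⟩
    haveI : IsIso (Y.presheaf.stalkSpecializes (specializes_of_eq e) ≫ f.stalkMap (genericPoint X)) :=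
      (ConcreteCategory.isIso_iff_bijective _).2 hbir
    exact IsIso.of_isIso_comp_left (Y.presheaf.stalkSpecializes (specializes_of_eq e)) _
  refine (Groth.Agent.S4809.result (fun y => ?_) f e hiso).2 inferInstance
  haveI := Groth.Agent.H19Grp.isRegularLocalRing_stalk_of_smooth pY y
  exact Groth.Agent.H05EGA4.isIntegrallyClosed_of_isRegularLocalRing (Y.presheaf.stalk y)

end Groth.Agent.S14519
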