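import Groth.Statements.S1452
import Groth.Agent.S1451
import Groth.Agent.H12AlgSp.LocP

set_option maxHeartbeats 1000000
set_option backward.isDefEq.respectTransparency false

set_option autoImplicit false
universe u
open FlatMor AlgebraicGeometry CategoryTheory TopologicalSpace Topology

namespace Groth.Agent.S1452

open AlgebraicGeometry CategoryTheory Limits in
/-- Let f : X → Y and g : Y → Z with Y integral and the local ring of Y at y = f x geometrically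
unibranch; assume g ∘ f is étale on an open neighbourhood of x and some generization of x maps to
the generic point of Y. Then f is étale on an open neighbourhood of x and g is étale on an open
neighbourhood of y. -/
theorem result {X Y Z : Scheme.{u}} (f : X ⟶ Y) (g : Y ⟶ Z) [IsIntegral Y] (x : X)
    (hY : CAlg2.IsGeomUnibranch (Y.presheaf.stalk (f x))) (het : ∃ U : X.Opens, x ∈ U ∧ Etale (U.ι ≫ f ≫ g))
    (hsp : ∃ x' : X, x' ⤳ x ∧ f x' = genericPoint ↑Y) :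
    (∃ U : X.Opens, x ∈ U ∧ Etale (U.ι ≫ f)) ∧ ∃ V : Y.Opens, f x ∈ V ∧ Etale (V.ι ≫ g) := by
  obtain ⟨U, hxU, hU⟩ := het
  haveI : Etale ((U.ι ≫ f) ≫ g) := by rw [Category.assoc]; exact hU
  haveI : LocallyOfFiniteType (U.ι ≫ f) := locallyOfFiniteType_of_comp (U.ι ≫ f) g
  haveI : FormallyUnramified (U.ι ≫ f) := FormallyUnramified.of_comp (U.ι ≫ f) g
  obtain ⟨x', hx', hx'η⟩ := hsp
  have hx'U : x' ∈ U := hx'.mem_open U.2 hxU
  obtain ⟨U', hxU', hU'⟩ := S1451.result (U.ι ≫ f) (⟨x, hxU⟩ : U) hY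
    ⟨⟨x', hx'U⟩, U.ι.isOpenEmbedding.isInducing.specializes_iff.mp hx', hx'η⟩
    ⟨⊤, trivial, MorphismProperty.comp_mem @FormallyUnramified _ _ inferInstance ‹_›⟩
  haveI : Etale ((U'.ι ≫ U.ι) ≫ f) := by rw [Category.assoc]; exact hU'
  haveI : Etale (U'.ι ≫ U.ι ≫ f) := hU'
  refine ⟨⟨(U'.ι ≫ U.ι).opensRange, ⟨⟨⟨x, hxU⟩, hxU'⟩, rfl⟩, ?_⟩,
    ⟨⟨Set.range (U'.ι ≫ U.ι ≫ f), (U'.ι ≫ U.ι ≫ f).isOpenMap.isOpen_range⟩, ⟨⟨⟨x, hxU⟩, hxU'⟩, rfl⟩, ?_⟩⟩
  · rw [← Scheme.Hom.isoOpensRange_inv_comp (U'.ι ≫ U.ι), Category.assoc]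
    infer_instance
  · let V : Y.Opens := ⟨Set.range (U'.ι ≫ U.ι ≫ f), (U'.ι ≫ U.ι ≫ f).isOpenMap.isOpen_range⟩
    show Etale (V.ι ≫ g)
    have hsub : Set.range (U'.ι ≫ U.ι ≫ f) ⊆ Set.range V.ι := by
      rw [Scheme.Opens.range_ι]; exact subset_rfl
    let h := IsOpenImmersion.lift V.ι (U'.ι ≫ U.ι ≫ f) hsub
    have hfac : h ≫ V.ι = U'.ι ≫ U.ι ≫ f := IsOpenImmersion.lift_fac _ _ _
    haveI hh : Etale h := by
      haveI : Etale (h ≫ V.ι) := by rw [hfac]; exact hU'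
      exact Etale.of_comp h V.ι
    haveI hs : Surjective h := ⟨fun v => by
      obtain ⟨u, hu⟩ := v.2
      refine ⟨u, V.ι.isOpenEmbedding.injective ?_⟩
      rw [← Scheme.Hom.comp_apply, hfac]
      exact hu⟩
    refine H12AlgSp.etLocal_etale.descends h (V.ι ≫ g) hh hs ?_
    rw [← Category.assoc, hfac]
    have : Etale (U'.ι ≫ (U.ι ≫ f ≫ g)) := inferInstance
    simpa only [Category.assoc] using this

end Groth.Agent.S1452
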