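import Groth.Statements.S14520
import Groth.Agent.H28RR.Strict
import Groth.Agent.H28RR.BlowSurf

set_option autoImplicit false
universe u
open CategoryTheory CategoryTheory.Limits AlgebraicGeometry
open Groth.Agent
open Surf

namespace Groth.Agent.S14520

/-- Let k be an algebraically closed field, X a smooth projective surface over k (integral, smooth over
k, of dimension two, with a closed immersion over k into some projective space), P a closed point of
X with ideal m_P, f : X' → X the blow-up of X at P (universal property), and C ⊆ X a curve (an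
integral closed subscheme of dimension one, closed immersion j) of multiplicity m = ord_P(C) at P:
the ideal of C is contained in m_P^m and not in m_P^{m+1}. Let C' ⊆ X' be the strict transform of C:
an integral closed subscheme of dimension one (closed immersion j') whose generic point is mapped by
f to the generic point of C. Then p_a(C') = p_a(C) − m(m−1)/2, written 2 p_a(C') + m(m−1) = 2 p_a(C)
with p_a = dim_k H^1(O). -/
theorem result (k : Type u) [Field k] [IsAlgClosed k]
    (X : Scheme.{u}) [X.Over (Spec (CommRingCat.of k))] [IsIntegral X] [Smooth (X ↘ (Spec (CommRingCat.of k)))] (hdim : topologicalKrullDim X = 2)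
    (hprojX : ∃ (N : ℕ) (ι : X ⟶ CohB1.ProjSpace N k), IsClosedImmersion ι ∧ ι ≫ CohB1.ProjSpace.toSpec N k = (X ↘ (Spec (CommRingCat.of k))))
    (P : X) (hP : IsClosed ({P} : Set X))
    (X' : Scheme.{u}) (f : X' ⟶ X) (hf : BlowUp.IsBlowUp f (Scheme.IdealSheafData.vanishingIdeal ⟨{P}, hP⟩))
    (C : Scheme.{u}) [C.Over (Spec (CommRingCat.of k))] [IsIntegral C] (hdimC : topologicalKrullDim C = 1)
    (j : C ⟶ X) [IsClosedImmersion j] (hj : j ≫ (X ↘ (Spec (CommRingCat.of k))) = (C ↘ (Spec (CommRingCat.of k))))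
    (m : ℕ) (hm : j.ker ≤ Scheme.IdealSheafData.vanishingIdeal ⟨{P}, hP⟩ ^ m)
    (hm' : ¬ j.ker ≤ Scheme.IdealSheafData.vanishingIdeal ⟨{P}, hP⟩ ^ (m + 1))
    (C' : Scheme.{u}) [C'.Over (Spec (CommRingCat.of k))] [IsIntegral C'] (hdimC' : topologicalKrullDim C' = 1)
    (j' : C' ⟶ X') [IsClosedImmersion j'] (hj' : j' ≫ f ≫ (X ↘ (Spec (CommRingCat.of k))) = (C' ↘ (Spec (CommRingCat.of k))))
    (hgen : f (j' (genericPoint C')) = j (genericPoint C)) :
    2 * Curv2.genus k C' + m * (m - 1) = 2 * Curv2.genus k C := by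
  classical
  letI : X'.Over (Spec (CommRingCat.of k)) := ⟨f ≫ (X ↘ (Spec (CommRingCat.of k)))⟩
  obtain ⟨N, ι, hι, hιk⟩ := hprojX
  haveI := hι
  haveI : IsProper (X ↘ Spec (CommRingCat.of k)) := hιk ▸ inferInstanceAs (IsProper (ι ≫ CohB1.ProjSpace.toSpec N k))
  haveI := H28Int.isNoetherian k (X := X)
  have hreg := H19Grp.isRegularLocalRing_stalk_of_smooth (X ↘ Spec (CommRingCat.of k)) P
  have hdP := H28RR.dim_stalk_closed k hdim hP
  obtain ⟨hint, hdim', hprop, hsm⟩ := H28RR.isSurface_blowUp k hdim hf
  haveI := hint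
  haveI : IsProper (X' ↘ Spec (CommRingCat.of k)) := hprop
  haveI : Smooth (X' ↘ Spec (CommRingCat.of k)) := hsm
  haveI := H28Int.isNoetherian k (X := X')
  have hcurve : ∀ (Z S : Scheme.{u}) [IsIntegral Z] (i : Z ⟶ S) [IsClosedImmersion i],
      topologicalKrullDim Z = 1 → H28Surf.IsCurve i.ker := by
    intro Z S _ i _ hd
    haveI : IsIso i.toImage := inferInstance
    haveI : Nonempty i.ker.subscheme := ⟨i.toImage (genericPoint Z)⟩
    refine ⟨isIntegral_of_isOpenImmersion (inv i.toImage), ?_⟩
    rw [Scheme.Hom.support_ker]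
    show topologicalKrullDim (closure (Set.range i) : Set S) = 1
    rw [i.isClosedEmbedding.isClosed_range.closure_eq,
      (IsHomeomorph.topologicalKrullDim_eq _ i.isClosedEmbedding.isEmbedding.toHomeomorph.isHomeomorph).symm, hd]
  have hC := hcurve C X j hdimC
  have hC' := hcurve C' X' j' hdimC'
  have hE := H28RR.exc_isCurve k hdim hf
  have hmem' : j' (genericPoint C') ∈ (j'.ker.support : Set X') := by
    rw [Scheme.Hom.support_ker]; exact subset_closure (Set.mem_range_self _)
  have hne : j'.ker ≠ BlowUp.exceptional f (Scheme.IdealSheafData.vanishingIdeal ⟨{P}, hP⟩) := fun h => by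
    have h1 := H28RR.map_exc (show j' (genericPoint C') ∈
      ((BlowUp.exceptional f (Scheme.IdealSheafData.vanishingIdeal ⟨{P}, hP⟩)).support : Set X') from h ▸ hmem')
    rw [hgen] at h1
    have h2 := H28Int.Curves.cdim_closed hP
    change topologicalKrullDim (closure ({P} : Set X)) = _ at h2
    have h3 : closure (Set.range j) = closure ({j (genericPoint C)} : Set X) := by
      rw [LeadDev.range_eq_closure j (ξ := j (genericPoint C)) rfl, closure_closure]
    rw [← h1, ← h3, j.isClosedEmbedding.isClosed_range.closure_eq,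
      (IsHomeomorph.topologicalKrullDim_eq _ j.isClosedEmbedding.isEmbedding.toHomeomorph.isHomeomorph).symm, hdimC] at h2
    exact absurd h2 (by decide)
  obtain ⟨D, b, hD, -, hcomap, hsupp⟩ := H28RR.exists_curve_class k hdim hdim' rfl hf hC' hne
  have hDC : D = j.ker := by
    refine (H28Surf.eq_of_support_subset k hC hD ?_).symm
    rw [Scheme.Hom.support_ker]
    show closure (Set.range j) ⊆ _
    rw [LeadDev.range_eq_closure j (ξ := j (genericPoint C)) rfl, closure_closure, ← hgen]
    exact closure_minimal (Set.singleton_subset_iff.2 (hsupp _ hmem')) D.support.2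
  subst hDC
  have hEe := H28Surf.isEffCartier_curve k hdim' hE
  have hb : b = m := by
    rcases lt_trichotomy b m with h | h | h
    · exfalso
      refine hne ?_
      have h1 : (BlowUp.exceptional f (Scheme.IdealSheafData.vanishingIdeal ⟨{P}, hP⟩)) ^ b * j'.ker ≤
          (BlowUp.exceptional f (Scheme.IdealSheafData.vanishingIdeal ⟨{P}, hP⟩)) ^ (b + 1) := by
        rw [mul_comm, ← hcomap]
        refine (Scheme.IdealSheafData.comap_mono (f := f) hm).trans ?_
        beta_reduce
        rw [H11Strict.comap_pow]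
        intro V
        rw [Scheme.IdealSheafData.ideal_pow, Pi.pow_apply, Scheme.IdealSheafData.ideal_pow, Pi.pow_apply]
        exact Ideal.pow_le_pow_right h
      exact (H28Surf.eq_of_support_subset k hE hC' (Scheme.IdealSheafData.support_antitone
        (H11Strict.le_of_pow_mul_le hEe b h1))).symm
    · exact h
    · exfalso
      refine hm' (H28RR.le_pow_of_comap_le hreg hdP hf (H28Surf.isEffCartier_curve k hdim hC) ?_)
      rw [hcomap]
      intro V
      rw [Scheme.IdealSheafData.ideal_mul, Pi.mul_apply, Scheme.IdealSheafData.ideal_pow, Pi.pow_apply,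
        Scheme.IdealSheafData.ideal_pow, Pi.pow_apply]
      exact Ideal.mul_le_right.trans (Ideal.pow_le_pow_right h)
  subst hb
  obtain ⟨W, hW⟩ := H22Alg.ExtPowSheaf.exists_isExtPow 2 (H29Omega.isQCoh_sheaf (X ↘ Spec (CommRingCat.of k)))
  obtain ⟨W', hW'⟩ := H22Alg.ExtPowSheaf.exists_isExtPow 2 (H29Omega.isQCoh_sheaf (X' ↘ Spec (CommRingCat.of k)))
  have h := H28RR.pr_sub_strictTransform k hdim hdim' rfl hf hW hW' hC hC' hcomap
  have ha := H28RR.euler_quot k hdim hW (H28Surf.isEffCartier_curve k hdim hC)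
  have ha' := H28RR.euler_quot k hdim' hW' (H28Surf.isEffCartier_curve k hdim' hC')
  haveI : IsProper (C ↘ Spec (CommRingCat.of k)) := hj ▸ inferInstance
  haveI : IsProper (C' ↘ Spec (CommRingCat.of k)) := hj' ▸ inferInstanceAs (IsProper (j' ≫ (X' ↘ Spec (CommRingCat.of k))))
  haveI : (Coh.structureModule C).IsQuasicoherent := H10Coh.isQuasicoherent_unit
  haveI : (Coh.structureModule C').IsQuasicoherent := H10Coh.isQuasicoherent_unit
  rw [H25Euler.euler_congr (H28Vert.quotModKerIso j), H28Int.Push.euler_push k j hj,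
    H29RR.euler_eq_sub (k := k) hdimC.le, S19352.finrank_structure k C] at ha
  rw [H25Euler.euler_congr (H28Vert.quotModKerIso j'), H28Int.Push.euler_push k j' hj',
    H29RR.euler_eq_sub (k := k) hdimC'.le, S19352.finrank_structure k C'] at ha'
  have hprod : ((b * (b - 1) : ℕ) : ℤ) = (b : ℤ) * ((b : ℤ) - 1) := by
    rcases b with _ | b
    · simp
    · push_cast [Nat.succ_sub_one]; ring
  change 2 * ((1 : ℕ) - (Curv2.genus k C : ℤ)) = _ at ha
  change 2 * ((1 : ℕ) - (Curv2.genus k C' : ℤ)) = _ at ha'
  omega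

end Groth.Agent.S14520
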