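import Groth.Statements.S14521
import Groth.Agent.H22Alg.DevLength

set_option autoImplicit false
universe u
open CategoryTheory CategoryTheory.Limits AlgebraicGeometry
open Variety

namespace Groth.Agent.S14521

/-- Let k be an algebraically closed field, X a complete variety over k (reduced and proper over k) of
dimension at most d, L_1, …, L_r line bundles with tensor inverses M_1, …, M_r, and F a coherent
O_X-module whose support has dimension at most r. Let Y_1, …, Y_s be the r-dimensional irreducible
components of Supp F, with generic points ξ_1, …, ξ_s (given as a finite set s of points: ξ ∈ s iff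
ξ ∈ Supp F and the closure of ξ has dimension r), each Y_i with its reduced structure. Then
(L_1⋯L_r; F) = Σ_i length_{O_{X,ξ_i}}(F_{ξ_i}) · (L_1⋯L_r · Y_i), where all intersection numbers are
the alternating Euler-characteristic sums in the M_i (the prelude's FGA.intNum). -/
theorem result (k : Type u) [Field k] [IsAlgClosed k]
    (X : Scheme.{u}) [X.Over (Spec (CommRingCat.of k))] [IsReduced X] [IsProper (X ↘ (Spec (CommRingCat.of k)))] (d : ℕ) (hd : topologicalKrullDim X ≤ d)
    {r : ℕ} (M : Fin r → X.Modules) (hM : ∀ i, PicF.IsInvertible (M i))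
    (F : X.Modules) (hF : Coh.IsCoh F) (hsupp : topologicalKrullDim ↥(CohB1.support F) ≤ r)
    (s : Finset X) (hs : ∀ ξ : X, ξ ∈ s ↔ ξ ∈ CohB1.support F ∧ topologicalKrullDim ↥(closure ({ξ} : Set X)) = r) :
    FGA.intNum k X d M F =
      ∑ ξ ∈ s, ((Module.length (X.presheaf.stalk ξ) (F.presheaf.stalk ξ)).toNat : ℤ) *
        FGA.intNum k X d M (ClSub.quotMod (Scheme.IdealSheafData.vanishingIdeal ⟨closure ({ξ} : Set X), isClosed_closure⟩)) := by
  classical
  haveI := H28Int.isNoetherian k (X := X)
  have hl := H28Int.mem_ofFn hM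
  rw [H28Int.intNum_eq k hd M hM hF]
  rw [H22Alg.DevLength.eq_finsum (H28Int.isAddFn_D k _ hl)
    (fun G hG hlt => H28Int.D_eq_zero k _ hl G hG (by rw [List.length_ofFn]; exact hlt)) hF hsupp]
  rw [finsum_eq_sum_of_support_subset _ (s := s) fun ξ hξ => ?_]
  · refine Finset.sum_congr rfl fun ξ hξ => ?_
    rw [if_pos ((hs ξ).1 hξ).2, H28Int.intNum_eq k hd M hM (LeadDev.isCoh_push_structure _)]
    rfl
  · simp only [Function.mem_support] at hξ
    rw [Finset.mem_coe, hs]
    split at hξ
    · next h =>
      refine ⟨?_, h⟩
      by_contra hn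
      simp [H22Alg.DevLength.len_eq_zero hn] at hξ
    · exact absurd rfl hξ

end Groth.Agent.S14521
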