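import Groth.Statements.S14522
import Groth.Agent.H28Int.Num
import Groth.Agent.S1704
import Groth.Agent.H22Alg.NegTwist
import Groth.Agent.H25Euler.ParSh
import Groth.Agent.H28Vert.Length

set_option autoImplicit false
universe u
open CategoryTheory CategoryTheory.Limits AlgebraicGeometry
open Variety

namespace Groth.Agent.S14522

/-- Let k be an algebraically closed field, X an irreducible complete variety over k (integral and
proper over k) of dimension at most d, L_1, …, L_r line bundles with tensor inverses M_1, …, M_r, F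
a coherent O_X-module with dim Supp F ≤ r + 1, and D an effective Cartier divisor on X (a
quasi-coherent ideal I_D locally generated by one nonzerodivisor) whose support contains no
associated point of F. Then (L_1⋯L_r·O_X(D); F) = (L_1⋯L_r; F ⊗ O_D): with intersection numbers
written as the alternating Euler-characteristic sums in the inverses (the prelude's FGA.intNum), the
(r+1)-fold number of F in M_1, …, M_r, I_D equals the r-fold number of F ⊗ O_D in M_1, …, M_r (for r
= 0 the right side is χ(F ⊗ O_D) = h^0(F ⊗ O_D)). -/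
theorem result (k : Type u) [Field k] [IsAlgClosed k]
    (X : Scheme.{u}) [X.Over (Spec (CommRingCat.of k))] [IsIntegral X] [IsProper (X ↘ (Spec (CommRingCat.of k)))] (d : ℕ) (hd : topologicalKrullDim X ≤ d)
    {r : ℕ} (M : Fin r → X.Modules) (hM : ∀ i, PicF.IsInvertible (M i))
    (F : X.Modules) (hF : Coh.IsCoh F) (hsupp : topologicalKrullDim ↥(CohB1.support F) ≤ r + 1)
    (D : X.IdealSheafData) (hD : BlowUp.IsEffCartierIdeal D) (hass : ∀ x ∈ D.support, ¬ Curv2.IsAssPoint F x) :
    FGA.intNum k X d (Fin.snoc M (ClSub.idealMod D)) F = FGA.intNum k X d M (CohB1.tensorMod F (ClSub.quotMod D)) := by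
  haveI := H28Int.isNoetherian k (X := X)
  have hI : PicF.IsInvertible (ClSub.idealMod D) := H29Blow.isInvertible_of_isEffCartierIdeal D hD
  have hl := H28Int.mem_ofFn hM
  have hM' : ∀ i, PicF.IsInvertible ((Fin.snoc M (ClSub.idealMod D) : Fin (r + 1) → X.Modules) i) := fun i => by
    cases i using Fin.lastCases <;> simp [hI, hM]
  have perm : ∀ l : List X.Modules, (∀ A ∈ l, PicF.IsInvertible A) → ∀ (A G : X.Modules), PicF.IsInvertible A →
      H28Int.D k (l ++ [A]) G = H28Int.D k (A :: l) G := fun l => by
    induction l with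
    | nil => exact fun _ _ _ _ => rfl
    | cons B l ih =>
      intro h A G hA
      have h' := fun C hC => h C (List.mem_cons_of_mem B hC)
      show H28Int.D k (l ++ [A]) G - H28Int.D k (l ++ [A]) (CohB1.tensorMod B G) = _
      rw [ih h' A G hA, ih h' A _ hA]
      exact H28Int.Num.D_swap k h' G
  let Φ := (DCoh.tensorBi (X := X)).obj F
  let φ := Φ.map (ClSub.idealModι D)
  have hFI : Coh.IsCoh (Φ.obj (ClSub.idealMod D)) := H11Ample.isCoh_tensor hF hI
  have hFO : Coh.IsCoh (Φ.obj (Coh.structureModule X)) := H11Ample.isCoh_tensor hF H11Ample.isInvertible_structureModule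
  haveI : Mono φ := by
    refine Preadditive.mono_of_isZero_kernel _ ?_
    refine (S1704.result X (kernel φ) (H10Coh.isCoh_kernel φ hFI hFO.1).1).2 fun x hx => ?_
    have h2 : Curv2.IsAssPoint (Φ.obj (ClSub.idealMod D)) x := IsAssociatedPrime.map_of_injective
      (H06Mod.stalkLin (kernel.ι φ) x) hx
      (TopCat.Presheaf.stalkFunctor_map_injective_of_app_injective (f := (kernel.ι φ).mapPresheaf)
        (fun W => H10Coh.injective_app_of_mono' (kernel.ι φ) W) x)
    have h3 : x ∈ AssSch.Ass F := (H22Alg.NegTwist.mem_ass_tensor hI F).le h2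
    have hxD : x ∉ (D.support : Set X) := fun hxD => hass x hxD h3
    haveI : IsIso ((DerSch.stalkFunctor X x).map φ) := by
      haveI := H25Euler.isIso_stalk_idealModι D hxD
      show IsIso ((Φ ⋙ DerSch.stalkFunctor X x).map (ClSub.idealModι D))
      rw [NatIso.isIso_map_iff (H16Derived.KFlat.Stalk.leftIso F x) (ClSub.idealModι D)]
      exact inferInstanceAs (IsIso ((MonoidalCategory.tensorLeft _).map _))
    refine (H25Euler.notMem_support_kernel_cokernel φ this).1 ?_
    show ¬ Subsingleton _
    intro hss
    haveI := hss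
    exact hx.isPrime.ne_top ((Ideal.eq_top_iff_one _).2 (by
      obtain ⟨-, m, hm⟩ := hx
      rw [hm]
      refine Ideal.le_radical (Submodule.mem_colon.2 fun p hp => ?_)
      rw [show p = m from hp, Subsingleton.elim m 0, smul_zero]
      exact Submodule.zero_mem _))
  haveI : PreservesColimit (parallelPair (ClSub.idealModι D) 0) ((DCoh.tensorBi (X := X)).obj F) := inferInstance
  have eC : cokernel φ ≅ CohB1.tensorMod F (ClSub.quotMod D) :=
    (PreservesCokernel.iso ((DCoh.tensorBi (X := X)).obj F) (ClSub.idealModι D)).symm ≪≫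
      ((DCoh.tensorBi (X := X)).obj F).mapIso (H28Vert.cokernelIdealModιIso D) ≪≫
        eqToIso (H25Euler.tensorBi_obj_obj F (ClSub.quotMod D))
  have hC := H10Coh.isCoh_cokernel φ hFI.1 hFO
  have hadd := (H28Int.isAddFn_D k (List.ofFn M) hl).add (ShortComplex.mk φ (cokernel.π φ) (cokernel.condition φ))
    (ShortComplex.ShortExact.mk' (ShortComplex.exact_cokernel φ) inferInstance inferInstance) hFI hFO hC
  have hcongr := @(H28Int.isAddFn_D k (List.ofFn M) hl).congr
  have hout : List.ofFn (Fin.snoc M (ClSub.idealMod D) : Fin (r + 1) → X.Modules) =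
      List.ofFn M ++ [ClSub.idealMod D] := by
    rw [List.ofFn_succ', List.concat_eq_append]
    simp
  rw [H28Int.intNum_eq k hd _ hM' hF, H28Int.intNum_eq k hd M hM (H10Coh.isCoh_of_iso eC hC), hout,
    perm _ hl _ _ hI]
  show H28Int.D k (List.ofFn M) F - H28Int.D k (List.ofFn M) (CohB1.tensorMod (ClSub.idealMod D) F) = _
  rw [← hcongr eC]
  have e1 : H28Int.D k (List.ofFn M) (Φ.obj (Coh.structureModule X)) = H28Int.D k (List.ofFn M) F :=
    hcongr (H10Coh.Tw.rightUnitIso F)
  have e2 : H28Int.D k (List.ofFn M) (Φ.obj (ClSub.idealMod D)) =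
      H28Int.D k (List.ofFn M) (CohB1.tensorMod (ClSub.idealMod D) F) := hcongr (H10Coh.Tw.commIso F _)
  dsimp only at hadd
  rw [e1, e2] at hadd
  linarith

end Groth.Agent.S14522
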