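import Groth.Statements.S1608
import Mathlib
import Groth.Prelude.Def_Flat
import Groth.Agent.H22Alg.FibreDimBound

set_option autoImplicit false
universe u
open CategoryTheory CategoryTheory.Limits AlgebraicGeometry
open Variety

namespace Groth.Agent.S1608

/-- Let f : X → Y be locally of finite type, and let y ∈ Y be a point whose local ring is Noetherian of
dimension at most one. Suppose f is quasi-finite at the generic point of each irreducible component
of X. Then f is quasi-finite at each point x of X with f(x) = y. -/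
theorem result {X Y : Scheme.{u}} (f : X ⟶ Y) [LocallyOfFiniteType f]
    (y : Y) [IsNoetherianRing (Y.presheaf.stalk y)] (hy : ringKrullDim (Y.presheaf.stalk y) ≤ 1)
    (hgen : ∀ Z ∈ irreducibleComponents (X : Type u), ∀ η : X, IsGenericPoint η Z → f.QuasiFiniteAt η)
    (x : X) (hx : f.base x = y) : f.QuasiFiniteAt x := by
  subst hx
  have hg : ∀ η : X, η ⤳ x → (∀ ζ, ζ ⤳ η → ζ = η) → FlatMor.fibreDimAt f η ≤ ((0 : ℕ) : WithBot ℕ∞) := fun η _ hm =>
    (Groth.Agent.H8Props.FieldDim.fibreDimAt_le_zero_of_quasiFiniteAt f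
      (hgen _ (Groth.Agent.H22Alg.closure_mem_irreducibleComponents_of_max hm) η rfl)).trans (le_of_eq Nat.cast_zero.symm)
  refine Groth.Agent.H22Alg.quasiFiniteAt_of_fibreDimAt_le_zero f x ?_
  rcases Groth.Agent.H22Alg.fibreDimAt_dichotomy f x 0 hg with ⟨ξ, hξ, hm', -, heq⟩ | h
  · exact (heq.trans_le (hg ξ hξ hm')).trans (le_of_eq Nat.cast_zero)
  · rw [Nat.cast_zero, zero_add] at h
    exact ENat.WithBot.add_le_add_one_right_iff.mp ((h.trans hy).trans (le_of_eq (zero_add 1).symm))

end Groth.Agent.S1608
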