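import Groth.Statements.S14523
import Mathlib
import Groth.Agent.S1608
import Groth.Agent.H7Lim.NormalPoint

set_option autoImplicit false
universe u
open CategoryTheory CategoryTheory.Limits AlgebraicGeometry
open Variety

namespace Groth.Agent.S14523

/-- Let k be an algebraically closed field and f : X → Y a proper, birational morphism over k of
irreducible varieties (X, Y integral, separated and of finite type over k; f restricts to an
isomorphism over some nonempty open subset of Y), with Y normal (all local rings integrally closed).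
Let U ⊆ Y be the largest open subset over which f is an isomorphism (the domain of f^{-1}). Then
codim_Y(Y ∖ U) ≥ 2: for every point y of Y whose local ring has Krull dimension at most one, f
restricts to an isomorphism over some open neighbourhood of y. -/
theorem result (k : Type u) [Field k] [IsAlgClosed k]
    (X Y : Scheme.{u}) [X.Over (Spec (CommRingCat.of k))] [Y.Over (Spec (CommRingCat.of k))]
    [IsIntegral X] [IsSeparated (X ↘ (Spec (CommRingCat.of k)))] [LocallyOfFiniteType (X ↘ (Spec (CommRingCat.of k)))] [QuasiCompact (X ↘ (Spec (CommRingCat.of k)))]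
    [IsIntegral Y] [IsSeparated (Y ↘ (Spec (CommRingCat.of k)))] [LocallyOfFiniteType (Y ↘ (Spec (CommRingCat.of k)))] [QuasiCompact (Y ↘ (Spec (CommRingCat.of k)))] (hY : ∀ y : Y, IsIntegrallyClosed (Y.presheaf.stalk y))
    (f : X ⟶ Y) (hf : f ≫ (Y ↘ (Spec (CommRingCat.of k))) = (X ↘ (Spec (CommRingCat.of k)))) [IsProper f]
    (hbir : ∃ V : Y.Opens, (V : Set Y).Nonempty ∧ IsIso (f ∣_ V))
    (y : Y) (hy : ringKrullDim (Y.presheaf.stalk y) ≤ 1) :
    ∃ V : Y.Opens, y ∈ V ∧ IsIso (f ∣_ V) := by
  obtain ⟨W, hW, hfW⟩ := hbir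
  have hne : Nonempty (W : Scheme) := hW.to_subtype
  have : Nonempty ((f ⁻¹ᵁ W : X.Opens) : Scheme) := Nonempty.map (inv (f ∣_ W)) hne
  let η : (f ⁻¹ᵁ W : X.Opens).toScheme := genericPoint _
  have hη : (f ⁻¹ᵁ W).ι η = genericPoint X := genericPoint_eq_of_isOpenImmersion (f ⁻¹ᵁ W).ι
  have : IsIntegral (W : Scheme) := isIntegral_of_isOpenImmersion W.ι
  have : IsIntegral (f ⁻¹ᵁ W : X.Opens).toScheme := isIntegral_of_isOpenImmersion (f ⁻¹ᵁ W).ι
  have hgen : f (genericPoint X) = genericPoint Y := by
    rw [← hη, ← Scheme.Hom.comp_apply, ← morphismRestrict_ι, Scheme.Hom.comp_apply,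
      genericPoint_eq_of_isOpenImmersion (f ∣_ W), genericPoint_eq_of_isOpenImmersion W.ι]
  have : IsIso (f.stalkMap (genericPoint X)) := by
    rw [← hη]
    exact ((MorphismProperty.isomorphisms _).arrow_mk_iso_iff (morphismRestrictStalkMap f W η)).mp
      (inferInstance : IsIso ((f ∣_ W).stalkMap η))
  obtain ⟨x, hx⟩ : ∃ x, f x = y := by
    obtain ⟨x, -, hx⟩ : y ∈ f '' closure {genericPoint X} :=
      (show closure {f (genericPoint X)} ⊆ f '' closure {genericPoint X} from
        closure_minimal (Set.singleton_subset_iff.2 ⟨_, subset_closure rfl, rfl⟩) (f.isClosedMap _ isClosed_closure))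
        (hgen ▸ (genericPoint_specializes y).mem_closure)
    exact ⟨x, hx⟩
  haveI : IsLocallyNoetherian Y := LocallyOfFiniteType.isLocallyNoetherian (Y ↘ (Spec (CommRingCat.of k)))
  have hq : f.QuasiFiniteAt x := by
    refine Groth.Agent.S1608.result f y hy (fun Z hZ ξ hξ => ?_) x hx
    rw [irreducibleComponents_eq_singleton, Set.mem_singleton_iff] at hZ
    subst hZ
    obtain rfl : ξ = genericPoint X := hξ.eq (genericPoint_spec X)
    rw [Scheme.Hom.quasiFiniteAt_iff_isOpen_singleton_asFiber]
    haveI : Subsingleton (f.fiber (f (genericPoint X))) := ⟨fun a b => by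
      apply (f.fiberι (f (genericPoint X))).isEmbedding.injective
      have key : ∀ c, f.fiberι (f (genericPoint X)) c = genericPoint X := fun c => by
        have hc : f (f.fiberι (f (genericPoint X)) c) = f (genericPoint X) :=
          (f.range_fiberι _).subset (Set.mem_range_self c)
        have hcW : f.fiberι (f (genericPoint X)) c ∈ f ⁻¹ᵁ W := by
          show f (f.fiberι (f (genericPoint X)) c) ∈ W
          rw [hc, hgen]
          exact ((genericPoint_spec Y).mem_open_set_iff W.2).mpr (by simpa using hW)
        have hηW : genericPoint X ∈ f ⁻¹ᵁ W := hη ▸ η.2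
        have := (f ∣_ W).homeomorph.injective (a₁ := ⟨_, hcW⟩) (a₂ := ⟨_, hηW⟩)
          (Subtype.ext (by rw [Scheme.Hom.homeomorph_apply, Scheme.Hom.homeomorph_apply,
            morphismRestrict_base_coe, morphismRestrict_base_coe]; exact hc))
        exact congrArg Subtype.val this
      rw [key, key]⟩
    exact isOpen_discrete _
  subst hx
  exact Groth.Agent.H7Lim.exists_isIso_restrict f hgen x (hY _) hq

end Groth.Agent.S14523
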