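import Groth.Statements.S14525
import Groth.Agent.H28Surf.Growth

set_option autoImplicit false
universe u
open CategoryTheory CategoryTheory.Limits AlgebraicGeometry
open Groth.Agent
open Surf

namespace Groth.Agent.S14525

/-- Let k be an algebraically closed field, X a smooth projective surface over k (integral, smooth over
k, of dimension two, with a closed immersion over k into some projective space), L an invertible
O_X-module with tensor inverse L' such that (L·L) > 0, and M an ample invertible module with tensor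
inverse M'; intersection numbers are the alternating Euler-characteristic sums in the inverses (the
prelude's FGA.intNum, so (L·L) is computed in L', L' and (L·M) in L', M'). Then (L·M) ≠ 0; if (L·M)
> 0 there is c > 0 with dim_k H^0(X, L^{⊗m}) > c·m² for all large m, and if (L·M) < 0 the same holds
for L' in place of L. -/
theorem result (k : Type u) [Field k] [IsAlgClosed k]
    (X : Scheme.{u}) [X.Over (Spec (CommRingCat.of k))] [IsIntegral X] [Smooth (X ↘ (Spec (CommRingCat.of k)))] (hdim : topologicalKrullDim X = 2)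
    (hprojX : ∃ (N : ℕ) (ι : X ⟶ CohB1.ProjSpace N k), IsClosedImmersion ι ∧ ι ≫ CohB1.ProjSpace.toSpec N k = (X ↘ (Spec (CommRingCat.of k))))
    (L L' : X.Modules) (hL : PicF.IsInvertible L) (hLL' : ClSub.IsInverseOf L L')
    (hpos : 0 < FGA.intNum k X 2 ![L', L'] (Coh.structureModule X))
    (M M' : X.Modules) (hM : CohB1.IsAmple M) (hMM' : ClSub.IsInverseOf M M') :
    FGA.intNum k X 2 ![L', M'] (Coh.structureModule X) ≠ 0 ∧
    (0 < FGA.intNum k X 2 ![L', M'] (Coh.structureModule X) →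
      ∃ c : ℚ, 0 < c ∧ ∃ m₀ : ℕ, ∀ m : ℕ, m₀ ≤ m →
        c * (m : ℚ) ^ 2 < (Module.finrank k (Coh.HH X (CohB1.tensorPow L m) 0) : ℚ)) ∧
    (FGA.intNum k X 2 ![L', M'] (Coh.structureModule X) < 0 →
      ∃ c : ℚ, 0 < c ∧ ∃ m₀ : ℕ, ∀ m : ℕ, m₀ ≤ m →
        c * (m : ℚ) ^ 2 < (Module.finrank k (Coh.HH X (CohB1.tensorPow L' m) 0) : ℚ)) := by
  obtain ⟨n, ι, hι, hιk⟩ := hprojX
  haveI := hι
  haveI : IsProper (X ↘ Spec (CommRingCat.of k)) := hιk ▸ inferInstanceAs (IsProper (ι ≫ CohB1.ProjSpace.toSpec n k))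
  obtain ⟨e⟩ := hLL'
  obtain ⟨eM⟩ := hMM'
  have hMi := (H11Ample.isAmple_iff.1 hM).1
  have hL' : PicF.IsInvertible L' :=
    H17.InvertibleTensor.isInvertible_of_tensor_iso L' L (H10Coh.Tw.commIso _ _ ≪≫ e)
  have hM' : PicF.IsInvertible M' :=
    H17.InvertibleTensor.isInvertible_of_tensor_iso M' M (H10Coh.Tw.commIso _ _ ≪≫ eM)
  rw [H28Surf.intNum_eq_pr k hdim hL' hL'] at hpos
  rw [H28Surf.intNum_eq_pr k hdim hL' hM']
  have hLL : H28Surf.pr k L L = H28Surf.pr k L' L' := by
    rw [H28Surf.pr_inv_left k hdim hL hL' hL' e, H28Surf.pr_symm k L L', H28Surf.pr_inv_left k hdim hL hL' hL e, neg_neg]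
  have hLM : H28Surf.pr k L' M' = H28Surf.pr k L M := by
    rw [H28Surf.pr_inv_left k hdim hL hL' hM' e, H28Surf.pr_symm k L M', H28Surf.pr_inv_left k hdim hMi hM' hL eM,
      neg_neg, H28Surf.pr_symm k M L]
  have hL'M : H28Surf.pr k L' M = - H28Surf.pr k L M := H28Surf.pr_inv_left k hdim hL hL' hMi e
  have conv : ∀ A : X.Modules, PicF.IsInvertible A → 0 < H28Surf.pr k A M → 0 < H28Surf.pr k A A →
      ∃ c : ℚ, 0 < c ∧ ∃ m₀ : ℕ, ∀ m : ℕ, m₀ ≤ m →
        c * (m : ℚ) ^ 2 < (Module.finrank k (Coh.HH X (CohB1.tensorPow A m) 0) : ℚ) := by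
    intro A hA h1 h2
    obtain ⟨N, hN⟩ := H28Surf.eventually_quadratic k hdim hM hA h1 h2
    refine ⟨(H28Surf.pr k A A : ℚ) / 4, div_pos (by exact_mod_cast h2) (by norm_num), N, fun m hm => ?_⟩
    have h3 : ((m : ℚ) ^ 2 * (H28Surf.pr k A A : ℚ)) <
        4 * (Module.finrank k (Coh.HH X (CohB1.tensorPow A m) 0) : ℚ) := by exact_mod_cast hN m hm
    linarith
  refine ⟨fun h0 => ?_, fun h => conv L hL (by rw [← hLM]; exact h) (by rw [hLL]; exact hpos),
    fun h => conv L' hL' (by rw [hL'M, ← hLM]; omega) hpos⟩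
  have := H28Surf.pr_self_nonpos k hdim hM hL (by rw [← hLM]; exact h0)
  omega

end Groth.Agent.S14525
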