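import Groth.Statements.S14536
import Groth.Agent.H19Grp.AffinePoints
import Groth.Agent.H19Grp.PointLift

set_option autoImplicit false
set_option linter.style.haveILetI false
set_option backward.isDefEq.respectTransparency false
universe u
open CategoryTheory MonoidalCategory CartesianMonoidalCategory MonObj GrpObj AlgebraicGeometry
open PrincBund

namespace Groth.Agent.S14536

/-- Let k be an algebraically closed field and h : G → G' a homomorphism of affine group schemes over k
(not necessarily of finite type) which is surjective on underlying spaces. Then h is surjective on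
k-points: every k-point of G' is the image of a k-point of G. -/
theorem result (k : Type u) [Field k] [IsAlgClosed k]
    (G G' : Over (Spec (CommRingCat.of k))) [GrpObj G] [GrpObj G'] [IsAffine G.left] [IsAffine G'.left]
    (h : G ⟶ G') [IsMonHom h] (hs : Surjective h.left) (x : 𝟙_ (Over (Spec (CommRingCat.of k))) ⟶ G') :
    ∃ g : 𝟙_ (Over (Spec (CommRingCat.of k))) ⟶ G, g ≫ h = x := by
  letI : G.left.Over (Spec (CommRingCat.of k)) := ⟨G.hom⟩
  letI : G'.left.Over (Spec (CommRingCat.of k)) := ⟨G'.hom⟩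
  letI : GrpObj (G.left.asOver (Spec (CommRingCat.of k))) := ‹GrpObj G›
  letI : GrpObj (G'.left.asOver (Spec (CommRingCat.of k))) := ‹GrpObj G'›
  letI : HopfAlgebra k Γ(G.left, ⊤) := H19Grp.AffinePoints.hopfOf (CommRingCat.of k) G.left
  letI : HopfAlgebra k Γ(G'.left, ⊤) := H19Grp.AffinePoints.hopfOf (CommRingCat.of k) G'.left
  obtain ⟨α, hα⟩ := @H19Grp.AffinePoints.exists_bialgHom (CommRingCat.of k) G.left G'.left _ _ _ _ _ _ h ‹IsMonHom h›
  let α' : Γ(G'.left, ⊤) →ₐ[k] Γ(G.left, ⊤) := α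
  have hnil : ∀ a, α a = 0 → IsNilpotent a := by
    intro a ha
    rw [nilpotent_iff_mem_prime]
    intro P hP
    obtain ⟨y, hy⟩ : ∃ y, Spec.map (CommRingCat.ofHom α'.toRingHom) y = (⟨P, hP⟩ : PrimeSpectrum Γ(G'.left, ⊤)) := by
      obtain ⟨z, hz⟩ := hs.surj (G'.left.isoSpec.inv ⟨P, hP⟩)
      refine ⟨G.left.isoSpec.hom z, ?_⟩
      show (G.left.isoSpec.hom ≫ Spec.map (CommRingCat.ofHom α'.toRingHom)) z = _
      refine Eq.trans (congrArg (fun f : G.left ⟶ Spec Γ(G'.left, ⊤) => f z) hα.symm) ?_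
      show G'.left.isoSpec.hom (h.left z) = _
      rw [hz]
      show (G'.left.isoSpec.inv ≫ G'.left.isoSpec.hom) _ = _
      rw [Iso.inv_hom_id]
      rfl
    have : P = y.asIdeal.comap α'.toRingHom := congrArg PrimeSpectrum.asIdeal hy.symm
    rw [this]
    show α' a ∈ y.asIdeal
    rw [show α' a = 0 from ha]
    exact y.asIdeal.zero_mem
  obtain ⟨φ, hφ⟩ := H19Grp.AffinePoints.exists_algHom (CommRingCat.of k) G'.left x
  obtain ⟨g, hg⟩ := H19Grp.PointLift.exists_lift (k := k) α hnil φ
  refine ⟨H19Grp.AffinePoints.ofAlgHom (CommRingCat.of k) G.left g, Over.OverMorphism.ext ?_⟩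
  rw [← cancel_mono G'.left.isoSpec.hom]
  show ((H19Grp.AffinePoints.ofAlgHom (CommRingCat.of k) G.left g).left ≫ h.left) ≫ G'.left.isoSpec.hom = _
  rw [H19Grp.AffinePoints.ofAlgHom_left, Category.assoc, Category.assoc]
  refine (congrArg (fun t => Spec.map (CommRingCat.ofHom g.toRingHom) ≫ G.left.isoSpec.inv ≫ t) hα).trans ?_
  show _ ≫ G.left.isoSpec.inv ≫ G.left.isoSpec.hom ≫ _ = _
  rw [Iso.inv_hom_id_assoc, hφ, ← Spec.map_comp, ← hg]
  rfl

end Groth.Agent.S14536
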