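import Groth.Statements.S14537
import Groth.Agent.H19Grp.AffinePoints
import Groth.Agent.H19Grp.PointLift

set_option autoImplicit false
set_option linter.style.haveILetI false
set_option backward.isDefEq.respectTransparency false
universe u
open CategoryTheory MonoidalCategory CartesianMonoidalCategory MonObj GrpObj AlgebraicGeometry
open PrincBund

namespace Groth.Agent.S14537

/-- Let k be an algebraically closed field and G an affine group scheme over k, not necessarily of
finite type. Then the set of k-rational points of G is dense in the underlying space of G. -/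
theorem result (k : Type u) [Field k] [IsAlgClosed k]
    (G : Over (Spec (CommRingCat.of k))) [GrpObj G] [IsAffine G.left] :
    Dense {x : ↥G.left | ∃ g : 𝟙_ (Over (Spec (CommRingCat.of k))) ⟶ G, g.left.base (IsLocalRing.closedPoint k) = x} := by
  letI : G.left.Over (Spec (CommRingCat.of k)) := ⟨G.hom⟩
  letI : GrpObj (G.left.asOver (Spec (CommRingCat.of k))) := ‹GrpObj G›
  letI : HopfAlgebra k Γ(G.left, ⊤) := H19Grp.AffinePoints.hopfOf (CommRingCat.of k) G.left
  rw [dense_iff_inter_open]
  intro U hU ⟨x, hx⟩
  obtain ⟨_, ⟨a, rfl⟩, hxa, haU⟩ := PrimeSpectrum.isTopologicalBasis_basic_opens.exists_subset_of_mem_open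
    (show G.left.isoSpec.hom x ∈ G.left.isoSpec.inv ⁻¹' U by
      show G.left.isoSpec.inv (G.left.isoSpec.hom x) ∈ U
      rw [← Scheme.Hom.comp_apply, Iso.hom_inv_id]
      exact hx) (hU.preimage G.left.isoSpec.inv.continuous)
  have hnil : ¬ IsNilpotent a := fun h => hxa (nilpotent_iff_mem_prime.mp h _ (G.left.isoSpec.hom x).isPrime)
  obtain ⟨g, hg⟩ := H19Grp.PointLift.exists_point_apply_ne_zero (k := k) hnil
  refine ⟨(H19Grp.AffinePoints.ofAlgHom (CommRingCat.of k) G.left g).left (IsLocalRing.closedPoint k), ?_,
    ⟨H19Grp.AffinePoints.ofAlgHom (CommRingCat.of k) G.left g, rfl⟩⟩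
  rw [H19Grp.AffinePoints.ofAlgHom_left, Scheme.Hom.comp_apply]
  refine haU (show (Spec.map (CommRingCat.ofHom g.toRingHom)) (IsLocalRing.closedPoint k) ∈
    PrimeSpectrum.basicOpen a from ?_)
  intro hmem
  have h1 : g a ∈ (IsLocalRing.closedPoint k).asIdeal := hmem
  exact hg (by simpa [IsLocalRing.closedPoint, IsLocalRing.maximalIdeal_eq_bot] using h1)

end Groth.Agent.S14537
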