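import Groth.Statements.S14539
import Groth.Agent.H19Grp.HopfReduced

set_option autoImplicit false
universe u v w
open TensorProduct
open PrincBund

namespace Groth.Agent.S14539

/-- Let k be an algebraically closed field of characteristic 0, A a commutative Hopf algebra over k (the
coordinate ring of an affine group scheme G over k, not necessarily of finite type) and V a right
A-comodule, of any dimension. If a k-subspace W of V is mapped into itself by the action of every
k-rational point of G (every k-algebra homomorphism A → k, acting on V through the coaction), then W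
is a subcomodule of V. -/
theorem result (k : Type u) (A : Type v) [Field k] [IsAlgClosed k]
    [CharZero k] [CommRing A] [HopfAlgebra k A]
    (V : Type w) [AddCommGroup V] [Module k V] [HopfRep.Comod k A V] (W : Submodule k V)
    (hW : ∀ g : A →ₐ[k] k, W.map (HopfRep.Comod.act k A V g) ≤ W) :
    HopfRep.IsSubcomod (k := k) (A := A) W := by
  classical
  haveI := H19Grp.HopfReduced.isReduced (k := k) (A := A)
  intro w hw
  have hex : Function.Exact (W.subtype.rTensor A) (W.mkQ.rTensor A) :=
    rTensor_exact A (LinearMap.exact_subtype_mkQ W) W.mkQ_surjective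
  refine (hex _).1 ?_
  set x := HopfRep.Comod.coact (k := k) (A := A) w with hx
  let B := Module.Free.chooseBasis k (V ⧸ W)
  apply (TensorProduct.equivFinsuppOfBasisLeft B (N := A)).injective
  rw [map_zero]
  ext i
  by_contra hne
  have hnil : ¬ IsNilpotent (TensorProduct.equivFinsuppOfBasisLeft B (W.mkQ.rTensor A x) i) :=
    fun h => hne h.eq_zero
  obtain ⟨g, hg⟩ := H19Grp.PointLift.exists_point_apply_ne_zero (k := k) hnil
  apply hg
  have key : ∀ y : V ⊗[k] A, g (TensorProduct.equivFinsuppOfBasisLeft B (W.mkQ.rTensor A y) i) =
      B.repr (W.mkQ (TensorProduct.rid k V (g.toLinearMap.lTensor V y))) i := by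
    intro y
    induction y using TensorProduct.induction_on with
    | zero => simp
    | tmul v a => simp [TensorProduct.equivFinsuppOfBasisLeft_apply_tmul_apply, map_smul, mul_comm]
    | add p q hp hq => simp only [map_add, Finsupp.add_apply, hp, hq]
  rw [key]
  have hmem : HopfRep.Comod.act k A V g w ∈ W := hW g ⟨w, hw, rfl⟩
  have h0 : W.mkQ (TensorProduct.rid k V (g.toLinearMap.lTensor V x)) = 0 :=
    (Submodule.Quotient.mk_eq_zero W).2 hmem
  rw [h0, map_zero, Finsupp.zero_apply]

end Groth.Agent.S14539
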