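import Groth.Statements.S14541
import Groth.Agent.H18Torsor.Glue
import Mathlib

set_option autoImplicit false
set_option linter.style.haveILetI false
set_option backward.isDefEq.respectTransparency false
universe u
open CategoryTheory MonoidalCategory CartesianMonoidalCategory MonObj GrpObj AlgebraicGeometry
open PrincBund

namespace Groth.Agent.S14541

open CategoryTheory CategoryTheory.Limits AlgebraicGeometry MonoidalCategory CartesianMonoidalCategory
open H18Torsor


/-- Let X be a scheme, J, J' and J'' group schemes affine over X, with no flatness or finiteness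
condition, u : J → J' and v : J' → J'' homomorphisms, P a J-torsor, P' a J'-torsor and P'' a
J''-torsor, all for the fpqc topology, q' : P → P' an X-morphism compatible with u and q'' : P → P''
an X-morphism compatible with the composite homomorphism J → J' → J''. Then there is exactly one
X-morphism r : P' → P'' compatible with v whose composite with q' is q''. Taking v to be the
identity, the push forward of a torsor along u is unique up to unique isomorphism. -/
theorem result {X : Scheme.{u}}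
    {J J' J'' : Over X} [GrpObj J] [GrpObj J'] [GrpObj J''] [IsAffineHom J.hom] [IsAffineHom J'.hom]
    [IsAffineHom J''.hom] (u : J ⟶ J') [IsMonHom u] (v : J' ⟶ J'') [IsMonHom v] {P P' P'' : Over X}
    (a : AlgGrp.Action J P) (a' : AlgGrp.Action J' P') (a'' : AlgGrp.Action J'' P'')
    (hP : NonAbH1.IsTorsorFor Scheme.fpqcPrecoverage a)
    (hP' : NonAbH1.IsTorsorFor Scheme.fpqcPrecoverage a')
    (hP'' : NonAbH1.IsTorsorFor Scheme.fpqcPrecoverage a'')
    (q' : P ⟶ P') (hq' : a.act ≫ q' = lift (fst J P ≫ u) (snd J P ≫ q') ≫ a'.act)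
    (q'' : P ⟶ P'') (hq'' : a.act ≫ q'' = lift (fst J P ≫ u ≫ v) (snd J P ≫ q'') ≫ a''.act) :
    ∃! r : P' ⟶ P'', a'.act ≫ r = lift (fst J' P' ≫ v) (snd J' P' ≫ r) ≫ a''.act ∧ q' ≫ r = q'' := by
  obtain ⟨hPs, R, hR, hsec⟩ := hP
  obtain ⟨hP's, -⟩ := hP'
  -- equivariance on points
  have hq'pt : ∀ {W : Over X} (h : W ⟶ J) (s : W ⟶ P), smul a h s ≫ q' = smul a' (h ≫ u) (s ≫ q') := by
    intro W h s
    simp only [smul, Category.assoc, hq']
    rw [← Category.assoc]
    congr 1
    apply CartesianMonoidalCategory.hom_ext <;> simp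
  have hq''pt : ∀ {W : Over X} (h : W ⟶ J) (s : W ⟶ P), smul a h s ≫ q'' = smul a'' (h ≫ u ≫ v) (s ≫ q'') := by
    intro W h s
    simp only [smul, Category.assoc, hq'']
    rw [← Category.assoc]
    congr 1
    apply CartesianMonoidalCategory.hom_ext <;> simp
  -- the prospective value of `r`
  have hval : ∀ {W : Over X}, IsSmall R W.hom → ∀ x : W ⟶ P', ∃! z : W ⟶ P'',
      ∀ (s : W ⟶ P) (g : W ⟶ J'), smul a' g (s ≫ q') = x → z = smul a'' (g ≫ v) (s ≫ q'') := by
    intro W hW x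
    obtain ⟨S', h, f, hf, e⟩ := hW
    obtain ⟨σ, hσ⟩ := hsec f hf
    let s₀ : W ⟶ P := Over.homMk (h ≫ σ) (by rw [Category.assoc, hσ, e])
    obtain ⟨g₀, hg₀, -⟩ := existsUnique_smul a' hP's (s₀ ≫ q') x
    refine ⟨smul a'' (g₀ ≫ v) (s₀ ≫ q''), fun s g hg => ?_, fun z hz => hz s₀ g₀ hg₀⟩
    obtain ⟨c, hc, -⟩ := existsUnique_smul a hPs s₀ s
    have hgc : g * (c ≫ u) = g₀ :=
      (existsUnique_smul a' hP's (s₀ ≫ q') x).unique (by rw [mul_smul_pt, ← hq'pt, hc, hg]) hg₀
    rw [← hc, hq''pt, ← mul_smul_pt, ← hgc, MonObj.mul_comp, Category.assoc]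
  -- equality of morphisms to `P''` is checked on small objects
  have hext : ∀ {Y : Over X} (m m' : Y ⟶ P''),
      (∀ {W : Over X}, IsSmall R W.hom → ∀ y : W ⟶ Y, y ≫ m = y ≫ m') → m = m' := by
    intro Y m m' h
    obtain ⟨n, -, hn⟩ := existsUnique_glue R hR (Z := P''.left) Y.hom (fun w _ => w ≫ m.left)
      fun g w _ _ => Category.assoc _ _ _
    refine Over.OverMorphism.ext ((hn m.left fun w _ => rfl).trans (hn m'.left fun w hw => ?_).symm)
    exact (congrArg CommaMorphism.left (h (W := Over.mk (w ≫ Y.hom)) hw (Over.homMk w rfl))).symm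
  let F : ∀ {W : Scheme.{u}} (w : W ⟶ P'.left), IsSmall R (w ≫ P'.hom) → (W ⟶ P''.left) := fun w hw =>
    ((hval (W := Over.mk (w ≫ P'.hom)) hw (Over.homMk w rfl)).choose).left
  have hF : ∀ {W : Over X} (hW : IsSmall R W.hom) (x : W ⟶ P') (hx : IsSmall R (x.left ≫ P'.hom)),
      F x.left hx = (hval hW x).choose.left := by
    intro W hW x hx
    have e : Over.mk (x.left ≫ P'.hom) = W := by rw [Over.w x]; rfl
    let i : W ⟶ Over.mk (x.left ≫ P'.hom) := Over.homMk (𝟙 W.left) (by simp [Over.w x])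
    have hi : i ≫ (hval (W := Over.mk (x.left ≫ P'.hom)) hx (Over.homMk x.left rfl)).choose =
        (hval hW x).choose := by
      refine (hval hW x).choose_spec.2 _ fun s g hg => ?_
      let j : Over.mk (x.left ≫ P'.hom) ⟶ W := Over.homMk (𝟙 W.left) (by simp [Over.w x])
      have hji : i ≫ j = 𝟙 W := Over.OverMorphism.ext (Category.id_comp _)
      have := (hval (W := Over.mk (x.left ≫ P'.hom)) hx (Over.homMk x.left rfl)).choose_spec.1 (j ≫ s) (j ≫ g) (by
        rw [Category.assoc, ← comp_smul, hg]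
        exact Over.OverMorphism.ext (Category.id_comp _))
      rw [this, Category.assoc, Category.assoc, ← comp_smul, ← Category.assoc, hji, Category.id_comp]
    rw [← hi]
    exact (Category.id_comp _).symm
  obtain ⟨r₀, hr₀, -⟩ := existsUnique_glue R hR (Z := P''.left) P'.hom F (by
    intro W W' g w hw hw'
    let W₁ : Over X := Over.mk (w ≫ P'.hom)
    let W₂ : Over X := Over.mk (g ≫ w ≫ P'.hom)
    let x₁ : W₁ ⟶ P' := Over.homMk w rfl
    let g' : W₂ ⟶ W₁ := Over.homMk g rfl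
    have h2 : IsSmall R W₂.hom := hw.comp R g
    have e : (hval h2 (g' ≫ x₁)).choose = g' ≫ (hval (W := W₁) hw x₁).choose := by
      symm
      refine (hval h2 (g' ≫ x₁)).choose_spec.2 _ fun s c hc => ?_
      obtain ⟨S', h, f, hf, e⟩ := hw
      obtain ⟨σ, hσ⟩ := hsec f hf
      let s₁ : W₁ ⟶ P := Over.homMk (h ≫ σ) (by rw [Category.assoc, hσ, e]; rfl)
      obtain ⟨c₁, hc₁, -⟩ := existsUnique_smul a' hP's (s₁ ≫ q') x₁
      rw [(hval (W := W₁) ⟨S', h, f, hf, e⟩ x₁).choose_spec.1 s₁ c₁ hc₁, comp_smul]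
      have e' := (hval h2 (g' ≫ x₁)).choose_spec.1
      rw [← e' s c hc, e' (g' ≫ s₁) (g' ≫ c₁) (by rw [Category.assoc, ← comp_smul, hc₁])]
      simp only [Category.assoc]
    exact (hF (W := W₂) h2 (g' ≫ x₁) hw').trans (congrArg CommaMorphism.left e))
  have hr₀w : r₀ ≫ P''.hom = P'.hom := by
    obtain ⟨n, -, hn⟩ := existsUnique_glue R hR (Z := X) P'.hom (fun w _ => w ≫ P'.hom)
      fun g w _ _ => Category.assoc _ _ _
    refine (hn _ fun w hw => ?_).trans (hn _ fun w _ => rfl).symm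
    rw [← Category.assoc, hr₀ w hw]
    exact Over.w (hval (W := Over.mk (w ≫ P'.hom)) hw (Over.homMk w rfl)).choose
  let r : P' ⟶ P'' := Over.homMk r₀ hr₀w
  have hr : ∀ {W : Over X} (hW : IsSmall R W.hom) (x : W ⟶ P') (s : W ⟶ P) (g : W ⟶ J'),
      smul a' g (s ≫ q') = x → x ≫ r = smul a'' (g ≫ v) (s ≫ q'') := by
    intro W hW x s g hg
    rw [← (hval hW x).choose_spec.1 s g hg]
    refine Over.OverMorphism.ext ?_
    have hx : IsSmall R (x.left ≫ P'.hom) := by rw [Over.w x]; exact hW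
    exact (hr₀ x.left hx).trans (hF hW x hx)
  have hsmall : ∀ {W : Over X}, IsSmall R W.hom → Nonempty (W ⟶ P) := by
    rintro W ⟨S', h, f, hf, e⟩
    obtain ⟨σ, hσ⟩ := hsec f hf
    exact ⟨Over.homMk (h ≫ σ) (by rw [Category.assoc, hσ, e])⟩
  refine ⟨r, ⟨hext _ _ fun {W} hW y => ?_, hext _ _ fun {W} hW s => ?_⟩, fun r' ⟨h₁, h₂⟩ => hext _ _ fun {W} hW x => ?_⟩
  · obtain ⟨g, x, rfl⟩ : ∃ g x, lift g x = y :=
      ⟨y ≫ fst J' P', y ≫ snd J' P', CartesianMonoidalCategory.lift_comp_fst_snd y⟩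
    obtain ⟨s⟩ := hsmall hW
    obtain ⟨c, hc, -⟩ := existsUnique_smul a' hP's (s ≫ q') x
    calc lift g x ≫ a'.act ≫ r = smul a' g x ≫ r := (Category.assoc _ _ _).symm
      _ = smul a'' ((g * c) ≫ v) (s ≫ q'') := hr hW _ s _ (by rw [mul_smul_pt, hc])
      _ = smul a'' (g ≫ v) (x ≫ r) := by rw [hr hW x s c hc, MonObj.mul_comp, mul_smul_pt]
      _ = lift g x ≫ lift (fst J' P' ≫ v) (snd J' P' ≫ r) ≫ a''.act := by
        rw [← Category.assoc, comp_lift, ← Category.assoc, lift_fst, ← Category.assoc, lift_snd]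
        rfl
  · rw [← Category.assoc, hr hW (s ≫ q') s 1 (one_smul_pt a' _), MonObj.one_comp, one_smul_pt]
  · obtain ⟨s⟩ := hsmall hW
    obtain ⟨c, hc, -⟩ := existsUnique_smul a' hP's (s ≫ q') x
    rw [hr hW x s c hc, ← hc]
    show (lift c (s ≫ q') ≫ a'.act) ≫ r' = _
    rw [Category.assoc, h₁, ← Category.assoc]
    show _ ≫ a''.act = lift (c ≫ v) (s ≫ q'') ≫ a''.act
    rw [← h₂]
    congr 1
    apply CartesianMonoidalCategory.hom_ext <;> simp

end Groth.Agent.S14541
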