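import Groth.Statements.S14547
import Mathlib

set_option autoImplicit false
set_option linter.style.haveILetI false
set_option backward.isDefEq.respectTransparency false
universe u
open CategoryTheory MonoidalCategory CartesianMonoidalCategory MonObj GrpObj AlgebraicGeometry
open PrincBund

namespace Groth.Agent.S14547

open CategoryTheory CategoryTheory.Limits AlgebraicGeometry MonoidalCategory CartesianMonoidalCategory


/-- Let f : X' → X be a faithfully flat quasi-compact morphism of schemes, J a group scheme affine over
X with an action a on an X-scheme P, and a' the induced action of the base change J' = J ×_X X' on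
P' = P ×_X X'. Then P with a is a J-torsor for the fpqc topology if and only if P' with a' is a
J'-torsor for the fpqc topology. (The published statement allows any morphism X' → X that is
covering for the fpqc topology, and an action of a pregroupoid; this row is the case of a faithfully
flat quasi-compact X' → X and the trivial pregroupoid.) -/
theorem result {X X' : Scheme.{u}} (f : X' ⟶ X)
    [Flat f] [Surjective f] [QuasiCompact f]
    {J P : Over X} [GrpObj J] [IsAffineHom J.hom] (a : AlgGrp.Action J P)
    (a' : AlgGrp.Action (Red.bc f J) (Red.bc f P))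
    (ha' : Functor.LaxMonoidal.μ (Over.pullback f) J P ≫ (Over.pullback f).map a.act = a'.act) :
    NonAbH1.IsTorsorFor Scheme.fpqcPrecoverage a ↔ NonAbH1.IsTorsorFor Scheme.fpqcPrecoverage a' := by
  let F := Over.pullback f
  haveI : Scheme.fpqcPrecoverage.{u}.IsStableUnderBaseChange :=
    (inferInstance : (Scheme.propQCPrecoverage @Flat).IsStableUnderBaseChange)
  haveI : Scheme.fpqcPrecoverage.{u}.IsStableUnderComposition :=
    (inferInstance : (Scheme.propQCPrecoverage @Flat).IsStableUnderComposition)
  let m := lift a.act (snd J P)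
  let m' := lift a'.act (snd (Red.bc f J) (Red.bc f P))
  have hm : m' = Functor.LaxMonoidal.μ F J P ≫ F.map m ≫ Functor.OplaxMonoidal.δ F P P := by
    apply CartesianMonoidalCategory.hom_ext
    · simp only [m', lift_fst, Category.assoc, m]
      rw [Functor.OplaxMonoidal.δ_fst, ← Functor.map_comp, lift_fst]
      exact ha'.symm
    · simp only [m', lift_snd, Category.assoc, m]
      rw [Functor.OplaxMonoidal.δ_snd, ← Functor.map_comp, lift_snd]
      exact (Functor.Monoidal.μ_snd F J P).symm
  haveI : IsIso (Functor.OplaxMonoidal.δ F P P) := inferInstance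
  haveI : IsIso (Functor.LaxMonoidal.μ F J P) := inferInstance
  have hiff : IsIso m' ↔ IsIso (F.map m) := by
    rw [hm]
    exact (isIso_comp_left_iff _ _).trans (isIso_comp_right_iff _ _)
  have hdesc : IsIso (F.map m) → IsIso m := by
    intro h
    have sqJ := (IsPullback.of_hasPullback (J ⊗ P).hom f).flip
    have sqP := (IsPullback.of_hasPullback (P ⊗ P).hom f).flip
    have sq : IsPullback (F.map m).left (pullback.fst (J ⊗ P).hom f) (pullback.fst (P ⊗ P).hom f) m.left := by
      refine IsPullback.of_right ?_ (by simp [F]) sqP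
      have e : (F.map m).left ≫ pullback.snd (P ⊗ P).hom f = pullback.snd (J ⊗ P).hom f := by simp [F]
      rw [e, Over.w]
      exact sqJ
    haveI : Flat (pullback.fst (P ⊗ P).hom f) := inferInstance
    haveI : Surjective (pullback.fst (P ⊗ P).hom f) := inferInstance
    haveI hm' : IsIso m.left := MorphismProperty.of_isPullback_of_descendsAlong
      (P := MorphismProperty.isomorphisms Scheme.{u})
      (Q := (@Surjective ⊓ @Flat ⊓ @QuasiCompact : MorphismProperty Scheme.{u})) sq
      ⟨⟨inferInstance, inferInstance⟩, inferInstance⟩ (show IsIso (F.map m).left from inferInstance)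
    haveI : IsIso ((Over.forget X).map m) := hm'
    exact isIso_of_reflects_iso m (Over.forget X)
  constructor
  · rintro ⟨(h : IsIso m), R, hR, hs⟩
    refine ⟨hiff.2 inferInstance, ?_⟩
    obtain ⟨E, rfl⟩ := Precoverage.mem_iff_exists_zeroHypercover.1 hR
    refine ⟨(E.pullback₁ f).presieve₀, (E.pullback₁ f).mem₀, ?_⟩
    rintro _ _ ⟨i⟩
    obtain ⟨s, hs'⟩ := hs (E.f i) ⟨i⟩
    exact ⟨pullback.lift (pullback.snd f (E.f i) ≫ s) (pullback.fst f (E.f i))
      (by rw [Category.assoc, hs', pullback.condition]), pullback.lift_snd _ _ _⟩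
  · rintro ⟨(h : IsIso m'), R, hR, hs⟩
    refine ⟨hdesc (hiff.1 h), ?_⟩
    obtain ⟨E, rfl⟩ := Precoverage.mem_iff_exists_zeroHypercover.1 hR
    refine ⟨_, Precoverage.comp_mem_coverings (J := Scheme.fpqcPrecoverage) (fun _ : PUnit.{u + 1} => f)
      (by rw [Presieve.ofArrows_pUnit]; exact Scheme.Hom.singleton_mem_fpqcPrecoverage f)
      (fun _ i => E.f i) (fun _ => E.mem₀), ?_⟩
    rintro _ _ ⟨⟨_, i⟩⟩
    obtain ⟨s, hs'⟩ := hs (E.f i) ⟨i⟩
    exact ⟨s ≫ pullback.fst _ _, by
      rw [Category.assoc, pullback.condition, ← Category.assoc]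
      exact congrArg (· ≫ f) hs'⟩

end Groth.Agent.S14547
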