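import Groth.Statements.S1456
import Groth.Agent.H8Props.SmoothStrat.Main
-- import your own Groth.Agent.* helpers here

set_option autoImplicit false
universe u
open FlatMor

namespace Groth.Agent.S1456

open AlgebraicGeometry CategoryTheory Limits in
/-- For f : X → S of finite presentation with S reduced and for η generic in an irreducible component of
S, there are an open U ∋ η of S, a morphism V → U which is finite locally free, surjective and
universally injective, and, on X_V = X ×_S V, ideal sheaves J_0 ≤ J_1 ≤ ... ≤ J_t = O of finite type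
with J_0 cutting out a thickening of X_V, such that each locally closed stratum supp(J_i) ∖
supp(J_{i+1}), as a subscheme of the closed subscheme cut out by J_i, is smooth over V. -/
theorem result {X S : Scheme.{u}} (f : X ⟶ S) [LocallyOfFinitePresentation f] [QuasiCompact f] [QuasiSeparated f] [IsReduced S]
    (η : S) (W : Set ↑S) (hW : W ∈ irreducibleComponents ↑S) (hη : IsGenericPoint η W) :
    ∃ (U : S.Opens) (V : Scheme.{u}) (v : V ⟶ (U : Scheme.{u})), η ∈ U ∧ Surjective v ∧ UniversallyInjective v ∧ Mor2.IsFinLocFree v ∧
      ∃ (t : ℕ) (J : Fin (t + 1) → (pullback f (v ≫ U.ι)).IdealSheafData), Monotone J ∧ J (Fin.last t) = ⊤ ∧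
        ((J 0).support : Set ↑(pullback f (v ≫ U.ι))) = Set.univ ∧ (∀ i, ∀ O : (pullback f (v ≫ U.ι)).affineOpens, ((J i).ideal O).FG) ∧
        ∀ i : Fin t, Smooth (((J i.castSucc).subschemeι ⁻¹ᵁ (J i.succ).support.compl).ι ≫ (J i.castSucc).subschemeι ≫ pullback.snd f (v ≫ U.ι)) := by
  exact H8Props.SmoothStrat.main f η W hW hη

end Groth.Agent.S1456
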