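-- statement FlatMor.GrothFrozen.S1457 (Groth/Statements/S1457.lean; the theorem FlatMor.local_structure_finite_over_smooth_after_etale_localization);
import Groth.Statements.S1457
import Groth.Agent.H7Flat.Chain.Structure

set_option autoImplicit false
universe u
open FlatMor

namespace Groth.Agent.S1457

open AlgebraicGeometry CategoryTheory Limits in
/-- Omitting the assertion on pure transcendence of a residue field and the addendum on finite
presentation of π: let f : X → S be locally of finite type, x a point with image s and n the local
dimension of the fibre at x. Then there are affine schemes S', Y', X', an elementary étale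
neighbourhood e : (S', s') → (S, s), a morphism h : Y' → S' smooth of relative dimension n with
geometrically integral fibres, a finite morphism π : X' → Y' and an elementary étale neighbourhood g
: (X', x') → (X, x) with g ≫ f = π ≫ h ≫ e, such that x' is the only point of X' over y' = π x' and
h y' = s'. -/
theorem result {X S : Scheme.{u}} (f : X ⟶ S) [LocallyOfFiniteType f] (x : X) (n : ℕ) (hn : FlatMor.fibreDimAt f x = n) :
    ∃ (S' Y' X' : Scheme.{u}) (e : S' ⟶ S) (h : Y' ⟶ S') (π : X' ⟶ Y') (g : X' ⟶ X) (s' : S') (x' : X'),
      IsAffine S' ∧ IsAffine Y' ∧ IsAffine X' ∧ Hens2.IsEtaleNbhd e s' (f x) ∧ Hens2.IsEtaleNbhd g x' x ∧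
      g ≫ f = π ≫ h ≫ e ∧ SmoothOfRelativeDimension n h ∧ GeometricallyIntegral h ∧ IsFinite π ∧ h (π x') = s' ∧
      ∀ z : X', π z = π x' → z = x' := by
  exact Groth.Agent.H7Flat.Chain.exists_finite_over_smooth f x n hn

end Groth.Agent.S1457
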