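import Groth.Statements.S14575
import Groth.Agent.H19Quot.AffineQuot
import Groth.Agent.H19Grp.Kernel

set_option autoImplicit false
set_option maxHeartbeats 1000000
set_option synthInstance.maxHeartbeats 100000
set_option linter.style.haveILetI false
set_option backward.isDefEq.respectTransparency false
universe u
open CategoryTheory MonoidalCategory CartesianMonoidalCategory MonObj GrpObj AlgebraicGeometry CategoryTheory.Limits
open AlgGrp

namespace Groth.Agent.S14575

/-- Let k be a field, G a connected k-group scheme of finite type, j : Z → G its scheme-theoretic centre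
and q : G → Q a flat surjective homomorphism of k-group schemes of finite type with kernel j, so
that Q = G/Z. Then Q is affine. Neither smoothness of G nor any hypothesis on k is assumed;
connectedness of G cannot be dropped. -/
theorem result (k : Type u) [Field k]
    (G : Over (Spec (CommRingCat.of k))) [GrpObj G] [LocallyOfFiniteType G.hom] [QuasiCompact G.hom] [ConnectedSpace ↥G.left]
    (Z : Over (Spec (CommRingCat.of k))) [GrpObj Z] (j : Z ⟶ G) (hZ : Red.IsCentre j)
    (Q : Over (Spec (CommRingCat.of k))) [GrpObj Q] [LocallyOfFiniteType Q.hom] [QuasiCompact Q.hom]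
    (q : G ⟶ Q) [IsMonHom q] [Surjective q.left] [Flat q.left] (hker : AlgGrp.IsKernel j q) :
    IsAffine Q.left := by
  refine Groth.Agent.H19Quot.isAffine_of_kill_incl q ?_
  haveI := hZ.1
  obtain ⟨z, hz⟩ := Groth.Agent.H19Quot.incl_factors_centre hZ
  rw [← hz, Category.assoc, Groth.Agent.H19Grp.kernel_comp_eq_one hker, MonObj.comp_one]

end Groth.Agent.S14575
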