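import Groth.Statements.S14576
import Groth.Agent.H19Grp.AffineCriteria

set_option autoImplicit false
set_option maxHeartbeats 1000000
set_option synthInstance.maxHeartbeats 100000
set_option linter.style.haveILetI false
set_option backward.isDefEq.respectTransparency false
universe u
open CategoryTheory MonoidalCategory CartesianMonoidalCategory MonObj GrpObj AlgebraicGeometry CategoryTheory.Limits
open AlgGrp

namespace Groth.Agent.S14576

/-- Let k be a field and G a k-group scheme of finite type acting on an affine k-scheme X. If the action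
is faithful, in the sense that for every k-scheme T a T-valued point of G acting as the identity on
X_T is the unit, then G is affine. -/
theorem result (k : Type u) [Field k]
    (G X : Over (Spec (CommRingCat.of k))) [GrpObj G] [LocallyOfFiniteType G.hom] [QuasiCompact G.hom] [IsAffine X.left]
    (a : AlgGrp.Action G X)
    (hf : ∀ (T : Over (Spec (CommRingCat.of k))) (g : T ⟶ G),
      (∀ (T' : Over (Spec (CommRingCat.of k))) (t : T' ⟶ T) (x : T' ⟶ X), lift (t ≫ g) x ≫ a.act = x) → g = 1) :
    IsAffine G.left := by
  haveI : IsNoetherianRing (CommRingCat.of k) := inferInstanceAs (IsNoetherianRing k)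
  haveI : IsLocallyNoetherian G.left := LocallyOfFiniteType.isLocallyNoetherian G.hom
  let M := Groth.Agent.H19Grp.AffinizationKernel.N G
  let l : M ⟶ G := Groth.Agent.H19Grp.AffinizationKernel.incl G
  obtain ⟨hMiso, -, -⟩ := Groth.Agent.H19Grp.AffinizationKernel.smooth_and_connected G
  haveI := hMiso
  obtain ⟨gM, hl⟩ := Groth.Agent.H19Grp.AffinizationKernel.exists_grpObj G
  haveI := hl
  haveI : IsClosedImmersion l.left := Groth.Agent.H19Grp.AffinizationKernel.isClosedImmersion_incl G
  haveI : QuasiCompact M.hom := by rw [← Over.w l]; infer_instance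
  haveI : LocallyOfFiniteType M.hom := by rw [← Over.w l]; infer_instance
  haveI : IsSeparated G.hom := Groth.Agent.H19Grp.AffineQuotient.isSeparated_of_grp G
  haveI : IsSeparated M.hom := by rw [← Over.w l]; infer_instance
  haveI : QuasiSeparated M.hom := inferInstance
  haveI : IsAffineHom X.hom := inferInstance
  have hpo := Groth.Agent.H19Grp.Affinization.isPushout_prod
    (IsPullback.of_hasPullback M.hom X.hom)
  haveI : IsIso (snd M X).left.appTop := hpo.isIso_inr_of_isIso
  obtain ⟨ψ, hψ⟩ := Groth.Agent.H19Grp.Affinization.exists_desc (snd M X) ((l ▷ X) ≫ a.act)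
  have hψ1 : ψ = 𝟙 X := by
    have h := congrArg (lift (toUnit X ≫ η[M]) (𝟙 X) ≫ ·) hψ
    simp only [lift_snd_assoc, Category.id_comp, lift_whiskerRight_assoc, Category.assoc,
      IsMonHom.one_hom l] at h
    rw [h]
    have := congrArg ((λ_ X).inv ≫ ·) a.one_act
    simp only [Iso.inv_hom_id] at this
    refine Eq.trans ?_ this
    rw [← Category.assoc, show (λ_ X).inv = lift (toUnit X) (𝟙 X) by ext <;> simp, lift_whiskerRight]
  have hact : ∀ {T : Over (Spec (CommRingCat.of k))} (m : T ⟶ M) (x : T ⟶ X), lift (m ≫ l) x ≫ a.act = x :=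
    fun {T} m x => by
      have h := congrArg (lift m x ≫ ·) hψ
      rw [hψ1] at h
      simpa using h.symm
  refine Groth.Agent.H19Grp.AffineCriteria.isAffine_of_incl_eq_one G (hf M l fun T' t x => hact t x)

end Groth.Agent.S14576
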