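import Groth.Statements.S14577
import Groth.Agent.H19Grp.AntiAffineRigidGlobal

set_option autoImplicit false
set_option maxHeartbeats 1000000
set_option synthInstance.maxHeartbeats 100000
set_option linter.style.haveILetI false
set_option backward.isDefEq.respectTransparency false
universe u
open CategoryTheory MonoidalCategory CartesianMonoidalCategory MonObj GrpObj AlgebraicGeometry CategoryTheory.Limits
open AlgGrp

namespace Groth.Agent.S14577

/-- Let k be a field, X a quasi-compact separated k-scheme with O(X) = k, Y a separated, reduced and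
irreducible locally Noetherian k-scheme, Z a separated k-scheme, and x₀, y₀ rational points of X, Y.
If a k-morphism f : X × Y → Z satisfies f(x, y₀) = f(x₀, y₀) identically (as morphisms from X), then
f(x, y) = f(x₀, y) identically on X × Y. (The published statement does not ask Y to be reduced; the
final density step of its proof uses that the infinitesimal neighbourhoods of y₀ are schematically
dense in Y, which holds when Y is moreover reduced, so Y is taken reduced, hence integral, here.) -/
theorem result (k : Type u) [Field k]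
    (X Y Z : Over (Spec (CommRingCat.of k))) [QuasiCompact X.hom] [IsSeparated X.hom]
    (hX : Function.Bijective ((Scheme.ΓSpecIso (CommRingCat.of k)).inv ≫ X.hom.appTop).hom)
    [IsSeparated Y.hom] [IsLocallyNoetherian Y.left] [IrreducibleSpace ↥Y.left] [IsReduced Y.left] [IsSeparated Z.hom]
    (x₀ : 𝟙_ (Over (Spec (CommRingCat.of k))) ⟶ X) (y₀ : 𝟙_ (Over (Spec (CommRingCat.of k))) ⟶ Y) (f : X ⊗ Y ⟶ Z)
    (hf : (X ◁ y₀) ≫ f = toUnit _ ≫ lift x₀ y₀ ≫ f) :
    f = snd X Y ≫ lift (toUnit Y ≫ x₀) (𝟙 Y) ≫ f := by
  haveI : IsIso X.hom.appTop := (Groth.Agent.H19Grp.AntiAffine.isIso_appTop_iff X.hom).mpr hX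
  exact Groth.Agent.H19Grp.AntiAffineRigid.eq_of_isReduced x₀ f (y₀.left (IsLocalRing.closedPoint k))
    (Groth.Agent.H19Grp.AntiAffineRigid.isClosed_point y₀)
    (Groth.Agent.H19Grp.AntiAffineRigid.slice_of_const x₀ y₀ (lift x₀ y₀ ≫ f) f hf)

end Groth.Agent.S14577
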