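import Groth.Statements.S14578
import Groth.Agent.H19Grp.AntiAffineGroup
import Groth.Agent.H19Grp.QuotientDesc
import Groth.Agent.H19Grp.Kernel

set_option autoImplicit false
set_option maxHeartbeats 1000000
set_option synthInstance.maxHeartbeats 100000
set_option linter.style.haveILetI false
set_option backward.isDefEq.respectTransparency false
universe u
open CategoryTheory MonoidalCategory CartesianMonoidalCategory MonObj GrpObj AlgebraicGeometry CategoryTheory.Limits
open AlgGrp

namespace Groth.Agent.S14578

/-- Let k be a field, H an anti-affine k-group scheme of finite type (its only global functions are the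
constants), G a k-group scheme of finite type and f : H → G a morphism of k-schemes with f(e_H) =
e_G. Then f is a homomorphism. (The second assertion, that f factors through the centre of the
neutral component of G, is not restated here.) -/
theorem result (k : Type u) [Field k]
    (H G : Over (Spec (CommRingCat.of k))) [GrpObj H] [GrpObj G] [LocallyOfFiniteType H.hom] [QuasiCompact H.hom]
    [LocallyOfFiniteType G.hom] [QuasiCompact G.hom]
    (hH : Function.Bijective ((Scheme.ΓSpecIso (CommRingCat.of k)).inv ≫ H.hom.appTop).hom) (f : H ⟶ G) (hf : η[H] ≫ f = η[G]) : IsMonHom f := by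
  haveI : IsIso H.hom.appTop := (Groth.Agent.H19Grp.AntiAffine.isIso_appTop_iff H.hom).mpr hH
  exact Groth.Agent.H19Grp.AntiAffineGroup.isMonHom_of_one_hom f hf

end Groth.Agent.S14578
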