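import Groth.Statements.S1458
import Groth.Agent.H8Props.UnivIdem

set_option autoImplicit false
universe u
open FlatMor

namespace Groth.Agent.S1458

open TensorProduct in
/-- Let A → B be a finite ring map of finite presentation. Then there are a finitely presented A-algebra
A_u and an idempotent e_u of B ⊗_A A_u such that for every A-algebra A' and every idempotent e of B
⊗_A A' there is an A-algebra map A_u → A' whose induced map B ⊗ A_u → B ⊗ A' sends e_u to e. -/
theorem result {A B : Type u} [CommRing A] [CommRing B] [Algebra A B] [Module.Finite A B] [Algebra.FinitePresentation A B] :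
    ∃ (Au : Type u) (_ : CommRing Au) (_ : Algebra A Au) (eu : B ⊗[A] Au), Algebra.FinitePresentation A Au ∧ IsIdempotentElem eu ∧
      ∀ (A' : Type u) [CommRing A'] [Algebra A A'] (e : B ⊗[A] A'), IsIdempotentElem e →
        ∃ φ : Au →ₐ[A] A', Algebra.TensorProduct.map (AlgHom.id A B) φ eu = e := by
  exact Groth.Agent.H8Props.UnivIdem.exists_univ

end Groth.Agent.S1458
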