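import Groth.Statements.S19705
import Groth.Agent.H19Grp.AntPart
import Groth.Agent.H28Neron.Extend

set_option autoImplicit false
set_option maxHeartbeats 1000000
set_option synthInstance.maxHeartbeats 100000
set_option linter.style.haveILetI false
set_option backward.isDefEq.respectTransparency false
universe u
open CategoryTheory MonoidalCategory CartesianMonoidalCategory MonObj GrpObj AlgebraicGeometry CategoryTheory.Limits
open AlgGrp CategoryTheory.Limits

namespace Groth.Agent.S19705

/-- Let k be a field and G a connected k-group scheme of finite type, not necessarily smooth. Let i : N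
→ G be a closed normal subgroup scheme which is affine and is the kernel of a flat surjective
homomorphism q : G → A of k-group schemes of finite type with A proper, and let j : M → G be the
largest anti-affine closed subgroup scheme G_ant of G (O(M) = k, and every anti-affine closed
subgroup scheme of G factors through M). Then the multiplication morphism N × M → G is surjective
(on underlying topological spaces), and every closed subgroup scheme H of G for which the
multiplication H × N → G is surjective contains G_ant, i.e. M factors through H. (The published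
statement takes N = G_aff, the smallest connected affine normal subgroup scheme whose quotient is an
abelian variety; the row allows any affine closed normal subgroup scheme N whose quotient G/N is
proper, for which the same argument applies.) -/
theorem result (k : Type u) [Field k]
    (G : Over (Spec (CommRingCat.of k))) [GrpObj G] [LocallyOfFiniteType G.hom] [QuasiCompact G.hom] [ConnectedSpace ↥G.left]
    (N : Over (Spec (CommRingCat.of k))) [GrpObj N] (i : N ⟶ G) [IsMonHom i] [IsClosedImmersion i.left] [IsAffine N.left]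
    (hN : AlgGrp.IsNormalHom i)
    (A : Over (Spec (CommRingCat.of k))) [GrpObj A] [IsProper A.hom]
    (q : G ⟶ A) [IsMonHom q] [Surjective q.left] [Flat q.left] (hq : AlgGrp.IsKernel i q)
    (M : Over (Spec (CommRingCat.of k))) [GrpObj M] [LocallyOfFiniteType M.hom] [QuasiCompact M.hom] (j : M ⟶ G) [IsMonHom j] [IsClosedImmersion j.left]
    (hM : Function.Bijective ((Scheme.ΓSpecIso (CommRingCat.of k)).inv ≫ M.hom.appTop).hom)
    (hMmax : ∀ (M₁ : Over (Spec (CommRingCat.of k))) [GrpObj M₁] [LocallyOfFiniteType M₁.hom] [QuasiCompact M₁.hom] (j₁ : M₁ ⟶ G) [IsMonHom j₁] [IsClosedImmersion j₁.left],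
      Function.Bijective ((Scheme.ΓSpecIso (CommRingCat.of k)).inv ≫ M₁.hom.appTop).hom → ∃ g : M₁ ⟶ M, g ≫ j = j₁) :
    Surjective ((i ⊗ₘ j) ≫ μ[G]).left ∧
      ∀ (H : Over (Spec (CommRingCat.of k))) [GrpObj H] (h : H ⟶ G) [IsMonHom h] [IsClosedImmersion h.left],
        Surjective ((h ⊗ₘ i) ≫ μ[G]).left → ∃ g : M ⟶ H, g ≫ h = j := by
  haveI : IsNoetherianRing (CommRingCat.of k) := inferInstanceAs (IsNoetherianRing k)
  haveI : IsLocallyNoetherian G.left := LocallyOfFiniteType.isLocallyNoetherian G.hom
  haveI : IsSeparated A.hom := inferInstance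
  haveI : QuasiCompact A.hom := inferInstance
  haveI : QuasiCompact q.left := by
    haveI : QuasiCompact (q.left ≫ A.hom) := by rw [Over.w q]; infer_instance
    exact QuasiCompact.of_comp q.left A.hom
  haveI : LocallyOfFiniteType N.hom := by rw [← Over.w i]; infer_instance
  haveI : QuasiCompact N.hom := by rw [← Over.w i]; infer_instance
  haveI : ConnectedSpace A.left := q.left.surjective.connectedSpace q.left.continuous
  haveI : IsIso M.hom.appTop := (H19Grp.AntiAffine.isIso_appTop_iff M.hom).mpr hM
  obtain ⟨R, gR, r, hrm, hR, hRl, hRq, hrf, hrs, hrq, -, hlift⟩ := H19Grp.AntPart.exists_affinization G j hM hMmax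
  haveI hMA : Surjective (j ≫ q).left := H19Grp.AntPart.surjective_comp_of_isProper q i hq r j hlift
  refine ⟨(H19Grp.AntPart.surjective_mul q i hq j).1, ?_⟩
  intro H gH h hh hcl hHsurj
  haveI : LocallyOfFiniteType H.hom := by rw [← Over.w h]; infer_instance
  haveI : QuasiCompact H.hom := by rw [← Over.w h]; infer_instance
  haveI : IsLocallyNoetherian H.left := LocallyOfFiniteType.isLocallyNoetherian H.hom
  haveI : QuasiSeparated H.hom := inferInstance
  haveI : QuasiCompact (h ≫ q).left := by rw [Over.comp_left]; infer_instance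
  obtain ⟨C, gC, p, c, hp, hc, hpc, hpf, hps, hplfp, hccl, hCl, hpq⟩ :=
    H19Grp.ImageFactor.exists_image_factor H A (h ≫ q) (by
      have h : ∀ {X : Scheme.{u}} (g : X ⟶ Spec (CommRingCat.of k)), Flat g := fun g => inferInstance
      exact h _)
  haveI := hp; haveI := hc; haveI := hccl
  haveI : IsProper C.hom := by rw [← Over.w c]; infer_instance
  haveI : Surjective c.left := by
    refine ⟨fun y => ?_⟩
    obtain ⟨g, rfl⟩ := q.left.surjective y
    obtain ⟨z, rfl⟩ := hHsurj.surj g
    have e : (h ⊗ₘ i) ≫ μ[G] ≫ q = (fst H N ≫ p) ≫ c := by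
      rw [Category.assoc, hpc, show (h ⊗ₘ i) ≫ μ[G] ≫ q = ((fst H N ≫ h) * (snd H N ≫ i)) ≫ q by
        rw [Hom.mul_def, lift_fst_comp_snd_comp, Category.assoc], MonObj.mul_comp, Category.assoc, Category.assoc,
        H19Grp.kernel_comp_eq_one hq, MonObj.comp_one, _root_.mul_one]
    exact ⟨(fst H N ≫ p).left z, (congrArg (fun f : H ⊗ N ⟶ A => f.left z) e).symm⟩
  haveI : ConnectedSpace C.left := by
    haveI : Nonempty C.left := ⟨η[C].left (IsLocalRing.closedPoint k)⟩
    haveI : PreconnectedSpace C.left := ⟨by
      rw [← c.left.isEmbedding.isInducing.isPreconnected_image, Set.image_univ, c.left.surjective.range_eq]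
      exact isPreconnected_univ⟩
    exact ⟨inferInstance⟩
  haveI : QuasiCompact C.hom := inferInstance
  haveI : IsSeparated C.hom := inferInstance
  obtain ⟨gL, hL⟩ := H19Grp.AffinizationKernel.exists_grpObj H
  let L := H19Grp.AffinizationKernel.N H
  let l : L ⟶ H := H19Grp.AffinizationKernel.incl H
  haveI hLiso : IsIso L.hom.appTop := (H19Grp.AffinizationKernel.smooth_and_connected H).1
  haveI : IsMonHom l := hL
  haveI : IsClosedImmersion l.left := H19Grp.AffinizationKernel.isClosedImmersion_incl H
  haveI : LocallyOfFiniteType L.hom := by rw [← Over.w l]; infer_instance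
  haveI : QuasiCompact L.hom := by rw [← Over.w l]; infer_instance
  obtain ⟨gRH, hρ⟩ := H19Grp.Affinization.exists_grpObj H
  haveI := hρ
  obtain ⟨hf, hs, hl'⟩ := H19Grp.Affinization.flat_surjective H
  haveI := hf; haveI := hs; haveI := hl'
  haveI : IsSeparated (H19Grp.Affinization.aff H).hom := inferInstance
  haveI : QuasiCompact (H19Grp.Affinization.rho H).left := by
    haveI : QuasiCompact ((H19Grp.Affinization.rho H).left ≫ (H19Grp.Affinization.aff H).hom) := by
      rw [Over.w]; infer_instance
    exact QuasiCompact.of_comp (H19Grp.Affinization.rho H).left (H19Grp.Affinization.aff H).hom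
  obtain ⟨Kp, gKp, ip, hip, hipc, hkp⟩ := H19Grp.AffineQuotient.exists_kernel p
  haveI := hip; haveI := hipc
  haveI : LocallyOfFiniteType Kp.hom := by rw [← Over.w ip]; infer_instance
  haveI : QuasiCompact Kp.hom := by rw [← Over.w ip]; infer_instance
  haveI : Surjective (l ≫ p).left := H19Grp.AntPart.surjective_comp_of_isProper p ip hkp
    (H19Grp.Affinization.rho H) l (fun {T} x hx => H19Grp.AffinizationKernel.lift_rho H x (by
      rw [hx, Hom.one_def, IsMonHom.one_hom (H19Grp.Affinization.rho H)]))
  -- the anti-affine part of `H` lies in `M`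
  haveI : IsClosedImmersion (l ≫ h).left := by rw [Over.comp_left]; infer_instance
  obtain ⟨a, ha⟩ := hMmax L (l ≫ h) ((H19Grp.AntiAffine.isIso_appTop_iff L.hom).mp hLiso)
  haveI : Mono j := Over.mono_of_mono_left _
  haveI : IsMonHom a := ⟨by rw [← cancel_mono j, Category.assoc, ha, IsMonHom.one_hom (l ≫ h), IsMonHom.one_hom j],
    by rw [← cancel_mono j, Category.assoc, ha, IsMonHom.mul_hom (l ≫ h), Category.assoc, IsMonHom.mul_hom j,
      ← Category.assoc, tensorHom_comp_tensorHom, ha]⟩
  haveI : IsClosedImmersion a.left := by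
    haveI : IsClosedImmersion (a.left ≫ j.left) := by rw [← Over.comp_left, ha]; infer_instance
    exact IsClosedImmersion.of_comp a.left j.left
  haveI : Surjective (a ≫ j ≫ q).left := by
    have e : a ≫ j ≫ q = (l ≫ p) ≫ c := by
      rw [← Category.assoc, ha, Category.assoc, ← hpc, Category.assoc]
    rw [e]
    simp only [Over.comp_left]
    haveI : Surjective (l.left ≫ p.left) := by rw [← Over.comp_left]; infer_instance
    infer_instance
  obtain ⟨K, gK, kap, hκ, hκc, hkK⟩ := H19Grp.AffineQuotient.exists_kernel (j ≫ q)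
  haveI := hκ; haveI := hκc
  haveI : LocallyOfFiniteType K.hom := by rw [← Over.w kap]; infer_instance
  haveI : QuasiCompact K.hom := by rw [← Over.w kap]; infer_instance
  obtain ⟨kn, hkn⟩ := H19Grp.kernel_lift hq (kap ≫ j) (by
    rw [Category.assoc, H19Grp.kernel_comp_eq_one hkK])
  haveI : IsAffine K.left := by
    haveI : IsClosedImmersion (kn.left ≫ i.left) := by rw [← Over.comp_left, hkn, Over.comp_left]; infer_instance
    haveI : IsClosedImmersion kn.left := IsClosedImmersion.of_comp kn.left i.left
    exact isAffine_of_isAffineHom kn.left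
  haveI : IsCommMonObj M := H19Grp.AntiAffineGroup.isCommMonObj M
  haveI : Smooth M.hom := H19Grp.AntiAffineSmooth.smooth M
  haveI : Surjective ((a ⊗ₘ kap) ≫ μ[M]).left := (H19Grp.AntPart.surjective_mul (j ≫ q) kap hkK a).2
  haveI : IsSeparated M.hom := H19Grp.AffineQuotient.isSeparated_of_grp M
  haveI : QuasiCompact (L ⊗ K).hom := inferInstanceAs (QuasiCompact (pullback.fst L.hom K.hom ≫ L.hom))
  haveI : LocallyOfFiniteType (L ⊗ K).hom := inferInstanceAs (LocallyOfFiniteType (pullback.fst L.hom K.hom ≫ L.hom))
  haveI : QuasiCompact ((a ⊗ₘ kap) ≫ μ[M]).left := by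
    haveI : QuasiCompact (((a ⊗ₘ kap) ≫ μ[M]).left ≫ M.hom) := by rw [Over.w]; infer_instance
    exact QuasiCompact.of_comp ((a ⊗ₘ kap) ≫ μ[M]).left M.hom
  haveI : Flat ((a ⊗ₘ kap) ≫ μ[M]).left := H19Grp.flat_of_surjective _
  obtain ⟨Kf, gKf, iF, hiF, hiFc, hkF⟩ := H19Grp.AffineQuotient.exists_kernel ((a ⊗ₘ kap) ≫ μ[M])
  haveI := hiF; haveI := hiFc
  haveI : LocallyOfFiniteType Kf.hom := by rw [← Over.w iF]; infer_instance
  haveI : QuasiCompact Kf.hom := by rw [← Over.w iF]; infer_instance
  haveI : Nonempty L.left := ⟨η[L].left (IsLocalRing.closedPoint k)⟩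
  haveI : Surjective L.hom := ⟨fun x => ⟨Classical.arbitrary _, Subsingleton.elim (α := PrimeSpectrum k) _ _⟩⟩
  haveI : Flat (snd L K).left := inferInstanceAs (Flat (pullback.snd L.hom K.hom))
  haveI : Surjective (snd L K).left := inferInstanceAs (Surjective (pullback.snd L.hom K.hom))
  haveI : QuasiCompact (snd L K).left := inferInstanceAs (QuasiCompact (pullback.snd L.hom K.hom))
  have hsub := H19Grp.AntPart.range_le_of_affine ((a ⊗ₘ kap) ≫ μ[M]) iF hkF (snd L K) (lift (𝟙 L) 1)
    (fun {T} x hx => ⟨x ≫ fst L K, CartesianMonoidalCategory.hom_ext _ _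
      (by simp) (by rw [Category.assoc, lift_snd, MonObj.comp_one, hx])⟩) (𝟙 M) (Category.comp_id _)
  have ea : lift (𝟙 L) (1 : L ⟶ K) ≫ (a ⊗ₘ kap) ≫ μ[M] = a := by
    rw [lift_map_assoc, Category.id_comp, MonObj.one_comp, ← Hom.mul_def, _root_.mul_one]
  rw [ea] at hsub
  haveI : Surjective a.left := ⟨fun m => hsub ⟨m, rfl⟩⟩
  haveI : IsReduced M.left := H28Neron.isReduced_of_smooth (R := k) M.hom
  haveI : IsIso a.left := isIso_of_isClosedImmersion_of_surjective a.left
  haveI : IsIso ((Over.forget _).map a) := ‹_›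
  haveI : IsIso a := isIso_of_reflects_iso a (Over.forget _)
  exact ⟨inv a ≫ l, by rw [Category.assoc, ← ha, IsIso.inv_hom_id_assoc]⟩

end Groth.Agent.S19705
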