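import Groth.Statements.S14585
import Groth.Agent.H19SemiAb.NoGaSolvable
import Groth.Agent.H20Borel.FixGaGm
import Groth.Agent.H20DimOne.GaQuot

set_option autoImplicit false
universe u
open CategoryTheory MonoidalCategory CartesianMonoidalCategory MonObj GrpObj AlgebraicGeometry CategoryTheory.Limits
open AlgGrp

namespace Groth.Agent.S14585

open CategoryTheory MonoidalCategory CartesianMonoidalCategory MonObj GrpObj AlgebraicGeometry CategoryTheory.Limits
open Groth.Agent

variable {k : Type u} [Field k]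

/-- the affine line of the statement is the spectrum of polynomials in one variable -/
theorem exists_iso_line (k : Type u) [Field k] :
    Nonempty (H20Mu.Pl k ≅ Over.mk (𝔸(PUnit.{u + 1}; Spec (CommRingCat.of k)) ↘ Spec (CommRingCat.of k))) := by
  refine ⟨Over.isoMk (Scheme.Spec.mapIso
    (MvPolynomial.pUnitAlgEquiv.{u, u} k).toRingEquiv.toCommRingCatIso.op ≪≫
      (AffineSpace.SpecIso PUnit.{u + 1} (CommRingCat.of k)).symm) ?_⟩
  show (Spec.map _ ≫ (AffineSpace.SpecIso PUnit.{u + 1} (CommRingCat.of k)).inv) ≫ _ = Spec.map _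
  rw [Category.assoc]
  erw [AffineSpace.SpecIso_inv_over]
  rw [← Spec.map_comp]
  congr 1
  refine CommRingCat.hom_ext (RingHom.ext fun c => ?_)
  exact (MvPolynomial.pUnitAlgEquiv.{u, u} k).commutes c

/-- morphisms from the line to a torus are constant -/
theorem line_to_torus_const [IsAlgClosed k] {T : Over (Spec (CommRingCat.of k))} [GrpObj T] (hT : Red.IsTorus T)
    (h : H20Mu.Pl k ⟶ T) : ∃ t : 𝟙_ (Over (Spec (CommRingCat.of k))) ⟶ T, h = toUnit _ ≫ t := by
  classical
  obtain ⟨A, _, _, r, e, -, ⟨E⟩⟩ := H20Conj.exists_split T hT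
  let h' := h ≫ e.inv
  let ψ : A →+* Polynomial k := (Spec.preimage h'.left).hom
  have hψ : ∀ c : k, ψ (algebraMap k A c) = Polynomial.C c := fun c => by
    have h1 : CommRingCat.ofHom (algebraMap k A) ≫ Spec.preimage h'.left =
        CommRingCat.ofHom (algebraMap k (Polynomial k)) :=
      Spec.map_injective ((Spec.map_comp _ _).trans ((congrArg (· ≫ _) (Spec.map_preimage h'.left)).trans (Over.w h')))
    exact congrArg (fun g : CommRingCat.of k ⟶ CommRingCat.of (Polynomial k) => g.hom c) h1
  have hconst : ∀ a, ψ a = Polynomial.C ((ψ a).eval 0) := fun a => by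
    obtain ⟨z, rfl⟩ := (E.toAlgEquiv.symm).surjective a
    induction z using MonoidAlgebra.induction_linear with
    | zero => simp
    | add p q hp hq =>
      rw [map_add E.toAlgEquiv.symm, map_add ψ, Polynomial.eval_add, map_add Polynomial.C, ← hp, ← hq]
    | single m c =>
      have hu : IsUnit (MonoidAlgebra.single m (1 : k)) := by
        rw [← MonoidAlgebra.of_apply]
        exact (Group.isUnit m).map _
      obtain ⟨d, -, hd⟩ := Polynomial.isUnit_iff.1 ((hu.map E.toAlgEquiv.symm).map ψ)
      have hc : MonoidAlgebra.single m c = c • MonoidAlgebra.single m (1 : k) := by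
        rw [MonoidAlgebra.smul_single', _root_.mul_one]
      rw [hc, map_smul, Algebra.smul_def, map_mul, hψ, ← hd]
      simp
  let ev : CommRingCat.of A ⟶ CommRingCat.of k := CommRingCat.ofHom ((Polynomial.evalRingHom 0).comp ψ)
  have hev : CommRingCat.ofHom (algebraMap k A) ≫ ev = 𝟙 _ := by
    ext c
    show (ψ (algebraMap k A c)).eval 0 = c
    rw [hψ, Polynomial.eval_C]
  let t₀ : 𝟙_ (Over (Spec (CommRingCat.of k))) ⟶ (Spec (CommRingCat.of A)).asOver (Spec (CommRingCat.of k)) :=
    Over.homMk (Spec.map ev) (by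
      show Spec.map ev ≫ Spec.map (CommRingCat.ofHom (algebraMap k A)) = 𝟙 _
      rw [← Spec.map_comp, hev, Spec.map_id])
  refine ⟨t₀ ≫ e.hom, ?_⟩
  have hh : h' = toUnit _ ≫ t₀ := by
    apply Over.OverMorphism.ext
    rw [Over.comp_left]
    show h'.left = Spec.map (CommRingCat.ofHom (algebraMap k (Polynomial k))) ≫ Spec.map ev
    rw [← Spec.map_comp, ← Spec.map_preimage h'.left]
    congr 1
    exact CommRingCat.hom_ext (RingHom.ext fun a => hconst a)
  rw [← Category.assoc, ← hh, Category.assoc, e.inv_hom_id, Category.comp_id]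

/-- morphisms from the additive group to a semi-abelian variety are constant -/
theorem const_of_isSA [IsAlgClosed k] {G : Over (Spec (CommRingCat.of k))} [GrpObj G] [LocallyOfFiniteType G.hom]
    [QuasiCompact G.hom] (hG : H19SemiAb.IsSA G) (f : Red.Ga (Spec (CommRingCat.of k)) ⟶ G) :
    ∃ g : 𝟙_ (Over (Spec (CommRingCat.of k))) ⟶ G, f = toUnit _ ≫ g := by
  obtain ⟨T, gT, i, A, gA, q, hi, hic, hT, hq, hqs, hqf, hk, hAp, hAs, hAc⟩ := hG
  haveI := hi; haveI := hq; haveI := hAp; haveI := hAs; haveI := hAc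
  obtain ⟨hs, ha, hc, hqc⟩ := H28SemiAb.ga_facts (k := k)
  haveI := hs; haveI := ha; haveI := hc; haveI := hqc
  let g₀ := η[Red.Ga (Spec (CommRingCat.of k))] ≫ f
  let f' := f * (toUnit _ ≫ g₀)⁻¹
  have hpt : η[Red.Ga (Spec (CommRingCat.of k))] ≫ f' ≫ q = η[A] := by
    rw [← Category.assoc]
    have h0 : η[Red.Ga (Spec (CommRingCat.of k))] ≫ f' = 1 := by
      simp only [f', MonObj.comp_mul, GrpObj.comp_inv, ← Category.assoc,
        toUnit_unique (η[Red.Ga (Spec (CommRingCat.of k))] ≫ toUnit _) (𝟙 _), Category.id_comp]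
      exact mul_inv_cancel _
    rw [h0, MonObj.one_comp, Hom.one_def, toUnit_unique (toUnit _) (𝟙 _), Category.id_comp]
  haveI := H19Chev.isMonHom_to_av (f' ≫ q) hpt
  obtain ⟨t, ht⟩ := H19Grp.kernel_lift hk f' (H19Chev.eq_one_of_affine_to_proper (f' ≫ q))
  obtain ⟨e, -⟩ := H20DimOne.exists_isoLine (k := k)
  obtain ⟨t₀, ht₀⟩ := line_to_torus_const hT (e.hom ≫ t)
  refine ⟨(t₀ ≫ i) * g₀, ?_⟩
  have h1 : t = toUnit _ ≫ t₀ := by
    rw [← cancel_epi e.hom, ht₀, ← Category.assoc, toUnit_unique (e.hom ≫ toUnit _) (toUnit _)]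
  rw [h1, Category.assoc] at ht
  rw [MonObj.comp_mul, ht]
  exact (inv_mul_cancel_right f (toUnit _ ≫ g₀)).symm


/-- Let k be an algebraically closed field and G a smooth connected k-group scheme of finite type. Then
G is a semi-abelian variety, i.e. an extension of an abelian variety by a torus (there are a closed
subgroup scheme i : T → G with T a torus and a flat surjective homomorphism q : G → A with kernel T
onto a proper smooth connected k-group scheme), if and only if every k-morphism from the affine line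
to G is constant. (The published statement is over a perfect field with constancy asked of morphisms
defined over k only; over the real numbers the group of quaternions of norm one receives only
constant morphisms from the affine line, by comparing leading coefficients in a sum of four squares
equal to 1, yet it is non-commutative, so not such an extension; the published proof uses root
subgroups, available over an algebraic closure, so k is taken algebraically closed here.) -/
theorem result (k : Type u) [Field k] [IsAlgClosed k]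
    (G : Over (Spec (CommRingCat.of k))) [GrpObj G] [Smooth G.hom] [QuasiCompact G.hom] [ConnectedSpace ↥G.left] :
    (∃ (T : Over (Spec (CommRingCat.of k))) (_ : GrpObj T) (i : T ⟶ G) (A : Over (Spec (CommRingCat.of k))) (_ : GrpObj A) (q : G ⟶ A),
        IsMonHom i ∧ IsClosedImmersion i.left ∧ Red.IsTorus T ∧ IsMonHom q ∧ Surjective q.left ∧ Flat q.left ∧
        AlgGrp.IsKernel i q ∧ IsProper A.hom ∧ Smooth A.hom ∧ ConnectedSpace ↥A.left) ↔
    ∀ f : Over.mk (𝔸(PUnit.{u + 1}; Spec (CommRingCat.of k)) ↘ Spec (CommRingCat.of k)) ⟶ G, ∃ g : 𝟙_ (Over (Spec (CommRingCat.of k))) ⟶ G, f = toUnit _ ≫ g := by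
  obtain ⟨e, -⟩ := H20DimOne.exists_isoLine (k := k)
  obtain ⟨a⟩ := exists_iso_line k
  constructor
  · intro hG f
    obtain ⟨g, hg⟩ := const_of_isSA hG (e.inv ≫ a.hom ≫ f)
    refine ⟨g, ?_⟩
    rw [← cancel_epi a.hom, ← cancel_epi e.inv, hg, ← Category.assoc a.hom, ← Category.assoc e.inv,
      toUnit_unique (e.inv ≫ a.hom ≫ toUnit _) (toUnit _)]
  · intro hG
    obtain ⟨L, gL, l, Q, gQ, q, hl, hlc, hLa, hLs, hLn, -, hq, hqs, hqf, -, hk, hQp, hQs, hQn⟩ :=
      H19Chev.exists_chevalley G
    haveI := hl; haveI := hlc; haveI := hLa; haveI := hLs; haveI := hLn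
    refine ⟨L, gL, l, Q, gQ, q, hl, hlc, H19SemiAb.isTorus_of_noGa L fun j hj hjc => ?_, hq, hqs, hqf, hk, hQp, hQs,
      hQn⟩
    haveI := hjc
    haveI : Mono l := Over.mono_of_mono_left _
    haveI : Mono j := Over.mono_of_mono_left _
    haveI : Mono (j ≫ l) := mono_comp _ _
    obtain ⟨g, hg⟩ := hG (a.inv ≫ e.hom ≫ j ≫ l)
    have hsub : ∀ x y : 𝟙_ (Over (Spec (CommRingCat.of k))) ⟶ Red.Ga (Spec (CommRingCat.of k)), x = y := by
      intro x y
      have key : ∀ z : 𝟙_ (Over (Spec (CommRingCat.of k))) ⟶ Red.Ga (Spec (CommRingCat.of k)),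
          z ≫ j ≫ l = g := fun z => by
        have := congrArg (fun m => (z ≫ e.inv ≫ a.hom) ≫ m) hg
        simp only [Category.assoc, Iso.hom_inv_id_assoc, Iso.inv_hom_id_assoc] at this
        rw [this, ← Category.assoc, ← Category.assoc, ← Category.assoc,
          toUnit_unique (((z ≫ e.inv) ≫ a.hom) ≫ toUnit _) (𝟙 _), Category.id_comp]
      exact (cancel_mono (j ≫ l)).1 ((key x).trans (key y).symm)
    haveI : IsAffine (H20Mu.Pl k).left := inferInstanceAs (IsAffine (Spec (CommRingCat.of (Polynomial k))))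
    obtain ⟨x, hx⟩ := H27Witt.Fn.exists_point (X := H20Mu.Pl k)
      ((Polynomial.aeval (0 : k)).comp (H20Mu.plEquiv (k := k)).symm.toAlgHom)
    obtain ⟨y, hy⟩ := H27Witt.Fn.exists_point (X := H20Mu.Pl k)
      ((Polynomial.aeval (1 : k)).comp (H20Mu.plEquiv (k := k)).symm.toAlgHom)
    have hxy : x = y := (cancel_mono e.hom).1 (hsub _ _)
    have h01 := congrArg (fun φ => φ ((H20Mu.plEquiv (k := k)) Polynomial.X)) (hx.symm.trans (hxy ▸ hy))
    simp at h01

end Groth.Agent.S14585
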