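import Groth.Statements.S14586
import Groth.Agent.H19Quot.OrbitDim

set_option autoImplicit false
set_option maxHeartbeats 1000000
set_option synthInstance.maxHeartbeats 100000
set_option linter.style.haveILetI false
set_option backward.isDefEq.respectTransparency false
universe u
open CategoryTheory MonoidalCategory CartesianMonoidalCategory MonObj GrpObj AlgebraicGeometry CategoryTheory.Limits
open AlgGrp

namespace Groth.Agent.S14586

/-- Let k be an algebraically closed field, G a smooth k-group scheme of finite type and X a non-empty
separated k-scheme of finite type with an action of G. Then there is a rational point x of X whose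
orbit, the image of the orbit map g ↦ g · x, is closed in X. -/
theorem result (k : Type u) [Field k] [IsAlgClosed k]
    (G X : Over (Spec (CommRingCat.of k))) [GrpObj G] [Smooth G.hom] [QuasiCompact G.hom]
    [LocallyOfFiniteType X.hom] [QuasiCompact X.hom] [IsSeparated X.hom] [Nonempty ↥X.left]
    (a : AlgGrp.Action G X) :
    ∃ x : 𝟙_ (Over (Spec (CommRingCat.of k))) ⟶ X, IsClosed (Set.range ⇑(a.orbitMap x).left.base) := by
  haveI : CompactSpace X.left := QuasiCompact.compactSpace_of_compactSpace X.hom
  obtain ⟨p, -, hpc⟩ := (isClosed_univ (X := X.left)).exists_closed_singleton Set.univ_nonempty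
  haveI : Nonempty (𝟙_ (Over (Spec (CommRingCat.of k))) ⟶ X) :=
    ⟨Over.homMk (pointOfClosedPoint X.hom p hpc) (pointOfClosedPoint_comp _ _ _)⟩
  refine ⟨Function.argmin fun x : 𝟙_ (Over (Spec (CommRingCat.of k))) ⟶ X =>
    topologicalKrullDim (Set.range ⇑(a.orbitMap x).left.base), ?_⟩
  by_contra h
  obtain ⟨y, hy⟩ := Groth.Agent.H19Quot.exists_smaller_orbit a _ h
  exact Function.not_lt_argmin (fun x : 𝟙_ (Over (Spec (CommRingCat.of k))) ⟶ X =>
    topologicalKrullDim (Set.range ⇑(a.orbitMap x).left.base)) y hy

end Groth.Agent.S14586
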