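import Groth.Statements.S14587
import Groth.Agent.H19Grp.Blanchard
import Groth.Agent.H17.Reduced
import Mathlib.RingTheory.Etale.Field
import Mathlib.AlgebraicGeometry.Morphisms.FlatMono

set_option autoImplicit false
set_option maxHeartbeats 1000000
set_option synthInstance.maxHeartbeats 100000
set_option linter.style.haveILetI false
set_option backward.isDefEq.respectTransparency false
universe u
open CategoryTheory MonoidalCategory CartesianMonoidalCategory MonObj GrpObj AlgebraicGeometry CategoryTheory.Limits
open AlgGrp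

namespace Groth.Agent.S14587

/-- A finite reduced algebra over a perfect field is étale. -/
lemma etale_algebra {k : Type u} [Field k] [PerfectField k] {A : Type u} [CommRing A] [Algebra k A]
    [Module.Finite k A] [_root_.IsReduced A] : Algebra.Etale k A := by
  haveI : IsArtinianRing A := isArtinian_of_tower k inferInstance
  letI : ∀ m : MaximalSpectrum A, Field (A ⧸ m.asIdeal) := fun m => Ideal.Quotient.field m.asIdeal
  refine (Algebra.Etale.iff_exists_algEquiv_prod k A).2 ⟨_, inferInstance, _, _, _,
    (IsArtinianRing.equivPi A).restrictScalars k, fun m => ?_⟩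
  haveI : Module.Finite k (A ⧸ m.asIdeal) := inferInstance
  exact ⟨inferInstance, inferInstance⟩

/-- A finite reduced scheme over a perfect field is étale. -/
lemma etale_of_finite {k : Type u} [Field k] [PerfectField k] {W : Scheme.{u}}
    (f : W ⟶ Spec (CommRingCat.of k)) [IsFinite f] [IsReduced W] : Etale f := by
  haveI : IsAffine W := isAffine_of_isAffineHom f
  let φ := (Scheme.ΓSpecIso (CommRingCat.of k)).inv ≫ f.appTop
  have hfin : φ.hom.Finite := RingHom.Finite.comp ((HasAffineProperty.iff_of_isAffine (P := @IsFinite)).1 ‹_›).2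
    (RingHom.Finite.of_surjective _ (ConcreteCategory.bijective_of_isIso (Scheme.ΓSpecIso (CommRingCat.of k)).inv).2)
  letI := φ.hom.toAlgebra
  haveI : Module.Finite k Γ(W, ⊤) := hfin
  have he : φ.hom.Etale := RingHom.etale_algebraMap.2 etale_algebra
  rw [HasRingHomProperty.iff_of_isAffine (P := @Etale),
    ← RingHom.Etale.respectsIso.cancel_left_isIso (Scheme.ΓSpecIso (CommRingCat.of k)).inv]
  exact he

/-- A scheme finite over a field is discrete. -/
lemma discrete_of_finite {k : Type u} [Field k] {W : Scheme.{u}}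
    (f : W ⟶ Spec (CommRingCat.of k)) [IsFinite f] : DiscreteTopology W := by
  haveI : IsAffine W := isAffine_of_isAffineHom f
  let φ := (Scheme.ΓSpecIso (CommRingCat.of k)).inv ≫ f.appTop
  have hfin : φ.hom.Finite := RingHom.Finite.comp ((HasAffineProperty.iff_of_isAffine (P := @IsFinite)).1 ‹_›).2
    (RingHom.Finite.of_surjective _ (ConcreteCategory.bijective_of_isIso (Scheme.ΓSpecIso (CommRingCat.of k)).inv).2)
  letI := φ.hom.toAlgebra
  haveI : Module.Finite k Γ(W, ⊤) := hfin
  haveI : IsArtinianRing Γ(W, ⊤) := isArtinian_of_tower k inferInstance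
  haveI : DiscreteTopology (Spec Γ(W, ⊤)) := inferInstanceAs (DiscreteTopology (PrimeSpectrum _))
  exact W.isoSpec.hom.homeomorph.symm.discreteTopology


/-- Let k be a perfect field and G a finite k-group scheme, r : G_red → G its reduced subgroup scheme (a
homomorphism and closed immersion from a reduced k-group scheme, surjective on underlying spaces)
and i₀ : G⁰ → G its neutral component (a homomorphism and open immersion from a connected k-group
scheme). Then the multiplication morphism G_red × G⁰ → G is an isomorphism, exhibiting G as the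
semi-direct product of G⁰ by G_red. -/
theorem result (k : Type u) [Field k] [PerfectField k]
    (G Gr G₀ : Over (Spec (CommRingCat.of k))) [GrpObj G] [GrpObj Gr] [GrpObj G₀] [IsFinite G.hom]
    (r : Gr ⟶ G) [IsMonHom r] [IsClosedImmersion r.left] [IsReduced Gr.left] [Surjective r.left]
    (i₀ : G₀ ⟶ G) [IsMonHom i₀] [IsOpenImmersion i₀.left] [ConnectedSpace ↥G₀.left] :
    IsIso ((r ⊗ₘ i₀) ≫ μ[G]) := by
  haveI : IsFinite Gr.hom := by
    rw [show Gr.hom = r.left ≫ G.hom from (Over.w r).symm]; infer_instance
  haveI : Etale Gr.hom := etale_of_finite Gr.hom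
  let pt : ↥(Spec (CommRingCat.of k)) := IsLocalRing.closedPoint k
  -- trivial intersection
  have htriv : ∀ {T : Over (Spec (CommRingCat.of k))} (u : T ⟶ Gr) (v : T ⟶ G₀), u ≫ r = v ≫ i₀ → u = 1 := by
    intro T u v huv
    let W := pullback r.left i₀.left
    let W₁ : W ⟶ Gr.left := pullback.fst r.left i₀.left
    haveI : IsOpenImmersion W₁ := MorphismProperty.pullback_fst (P := @IsOpenImmersion) _ _ inferInstance
    haveI : IsClosedImmersion (pullback.snd r.left i₀.left) :=
      MorphismProperty.pullback_snd (P := @IsClosedImmersion) _ _ inferInstance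
    haveI : IsReduced W := isReduced_of_isOpenImmersion W₁
    haveI : Subsingleton G₀.left := by
      haveI : DiscreteTopology G.left := discrete_of_finite G.hom
      haveI : DiscreteTopology G₀.left := i₀.left.isOpenEmbedding.isEmbedding.discreteTopology
      exact PreconnectedSpace.trivial_of_discrete
    haveI : Subsingleton W := (pullback.snd r.left i₀.left).isClosedEmbedding.injective.subsingleton
    let σ : Spec (CommRingCat.of k) ⟶ W := pullback.lift η[Gr].left η[G₀].left (by
      rw [← Over.comp_left, ← Over.comp_left, IsMonHom.one_hom, IsMonHom.one_hom])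
    have hσ : σ ≫ W₁ ≫ Gr.hom = 𝟙 _ := by rw [pullback.lift_fst_assoc, Over.w η[Gr]]; rfl
    haveI : Surjective σ := ⟨fun w => ⟨pt, Subsingleton.elim _ _⟩⟩
    haveI : IsClosedImmersion σ := by
      haveI : IsClosedImmersion (σ ≫ W₁ ≫ Gr.hom) := by rw [hσ]; infer_instance
      exact IsClosedImmersion.of_comp σ (W₁ ≫ Gr.hom)
    haveI : IsIso σ := isIso_of_isClosedImmersion_of_surjective σ
    let z : T.left ⟶ W := pullback.lift u.left v.left (congrArg CommaMorphism.left huv)
    have hz : z = (z ≫ inv σ) ≫ σ := by simp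
    have hu : u.left = (z ≫ inv σ) ≫ η[Gr].left := by
      calc u.left = z ≫ W₁ := (pullback.lift_fst _ _ _).symm
        _ = _ := by rw [hz, Category.assoc]; simp [σ, W₁]
    refine Over.OverMorphism.ext ?_
    rw [hu, Hom.one_def, Over.comp_left]
    congr 1
    show z ≫ inv σ = T.hom
    rw [← Over.w u, hu, Category.assoc, Category.assoc, Over.w η[Gr]]
    simp
  let ψ : Gr ⊗ G₀ ⟶ G := (r ⊗ₘ i₀) ≫ μ[G]
  haveI : Etale ψ.left := by
    let s : Gr ⊗ G ≅ Gr ⊗ G :=
      { hom := lift (fst Gr G) ((fst Gr G ≫ r) * snd Gr G)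
        inv := lift (fst Gr G) ((fst Gr G ≫ r)⁻¹ * snd Gr G)
        hom_inv_id := by
          apply CartesianMonoidalCategory.hom_ext <;> simp [MonObj.comp_mul, GrpObj.comp_inv]
        inv_hom_id := by
          apply CartesianMonoidalCategory.hom_ext <;> simp [MonObj.comp_mul] }
    have e : ψ = (Gr ◁ i₀) ≫ s.hom ≫ snd Gr G := by
      simp only [ψ, s, lift_snd, MonObj.comp_mul, whiskerLeft_fst_assoc, whiskerLeft_snd]
      rw [Hom.mul_def]
      congr 1
    haveI : IsOpenImmersion (Gr ◁ i₀).left := MorphismProperty.of_isPullback (P := @IsOpenImmersion)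
      (Groth.Agent.H19Grp.Blanchard.isPullback_whisker i₀ Gr) inferInstance
    haveI : Etale (snd Gr G).left := MorphismProperty.pullback_snd (P := @Etale) Gr.hom G.hom inferInstance
    haveI : IsIso s.hom := Iso.isIso_hom s
    haveI : IsIso s.hom.left := by
      exact Functor.map_isIso (Over.forget (Spec (CommRingCat.of k))) s.hom
    rw [e]
    show Etale ((Gr ◁ i₀).left ≫ s.hom.left ≫ (snd Gr G).left)
    infer_instance
  haveI : Mono i₀ := Over.mono_of_mono_left i₀
  haveI : Mono r := Over.mono_of_mono_left r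
  haveI : Mono ψ := ⟨fun {T} a b h => by
    have e : ∀ c : T ⟶ Gr ⊗ G₀, c ≫ ψ = (c ≫ fst _ _ ≫ r) * (c ≫ snd _ _ ≫ i₀) := fun c => by
      rw [Hom.mul_def]
      simp only [ψ, ← Category.assoc]
      congr 1
      apply CartesianMonoidalCategory.hom_ext <;> simp
    rw [e, e] at h
    let g₁ := a ≫ fst _ _; let g₂ := b ≫ fst _ _; let h₁ := a ≫ snd _ _; let h₂ := b ≫ snd _ _
    have h' : (g₁ ≫ r) * (h₁ ≫ i₀) = (g₂ ≫ r) * (h₂ ≫ i₀) := by simpa [g₁, g₂, h₁, h₂] using h
    have h'' : (g₂⁻¹ * g₁) ≫ r = (h₂ * h₁⁻¹) ≫ i₀ := by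
      rw [MonObj.mul_comp, MonObj.mul_comp, GrpObj.inv_comp, GrpObj.inv_comp, inv_mul_eq_iff_eq_mul,
        ← _root_.mul_assoc, eq_mul_inv_iff_mul_eq]
      exact h'
    have hg : g₁ = g₂ := by
      have := htriv _ _ h''
      rwa [inv_mul_eq_one, eq_comm] at this
    refine CartesianMonoidalCategory.hom_ext _ _ hg ?_
    rw [hg, mul_right_inj, cancel_mono] at h'
    exact h'⟩
  haveI : Mono ψ.left := inferInstance
  haveI := IsOpenImmersion.of_flat_of_mono ψ.left
  haveI : Surjective ψ.left := ⟨fun z => by
    let R := Over.mk (G.left.fromSpecResidueField z ≫ G.hom)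
    haveI : IsReduced R.left := inferInstanceAs (IsReduced (Spec (G.left.residueField z)))
    let g : R ⟶ G := Over.homMk (G.left.fromSpecResidueField z) rfl
    obtain ⟨g', hg'⟩ := Groth.Agent.H17.exists_lift_of_range_subset g.left r.left
      (by rw [r.left.surjective.range_eq]; exact Set.subset_univ _)
    let gr : R ⟶ Gr := Over.homMk g' (by
      show g' ≫ Gr.hom = _
      rw [← Over.w r, reassoc_of% hg']; rfl)
    refine ⟨(lift gr (1 : R ⟶ G₀)).left (IsLocalRing.closedPoint _), ?_⟩
    rw [← Scheme.Hom.comp_apply, ← Over.comp_left]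
    have : lift gr (1 : R ⟶ G₀) ≫ ψ = g := by
      rw [← Category.assoc, lift_map, MonObj.one_comp, ← Hom.mul_def, _root_.mul_one]
      exact Over.OverMorphism.ext hg'
    rw [this]
    exact Scheme.fromSpecResidueField_apply z _⟩
  haveI : IsIso ψ.left := isIso_of_isOpenImmersion_of_opensRange_eq_top ψ.left (TopologicalSpace.Opens.ext ψ.left.surjective.range_eq)
  haveI : IsIso ((Over.forget (Spec (CommRingCat.of k))).map ψ) := ‹IsIso ψ.left›
  exact isIso_of_reflects_iso ψ (Over.forget _)

end Groth.Agent.S14587
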