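import Groth.Statements.S14588
import Groth.Agent.H19Grp.SmoothLocus

set_option autoImplicit false
universe u
open CategoryTheory MonoidalCategory CartesianMonoidalCategory MonObj GrpObj AlgebraicGeometry CategoryTheory.Limits
open AlgGrp

namespace Groth.Agent.S14588

/-- Let k be a field with algebraic closure K and G a k-group scheme locally of finite type. If the
local ring of G_K at its unit point is reduced, then G is smooth over k. -/
theorem result (k : Type u) [Field k]
    (G : Over (Spec (CommRingCat.of k))) [GrpObj G] [LocallyOfFiniteType G.hom]
    (t : ↥((𝟙_ (Over (Spec (CommRingCat.of (AlgebraicClosure k))))).left))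
    (h : _root_.IsReduced ↑((Red.bc (Spec.map (CommRingCat.ofHom (algebraMap k (AlgebraicClosure k)))) G).left.presheaf.stalk ((η[Red.bc (Spec.map (CommRingCat.ofHom (algebraMap k (AlgebraicClosure k)))) G]).left.base t))) :
    Smooth G.hom := by
  apply Groth.Agent.H19Grp.smooth_of_isReduced_geom G
  have ht : t = IsLocalRing.closedPoint (AlgebraicClosure k) :=
    Subsingleton.elim (α := PrimeSpectrum (AlgebraicClosure k)) _ _
  subst ht
  exact h

end Groth.Agent.S14588
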