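import Groth.Statements.S14589
import Groth.Agent.H19Grp.AntPart
import Groth.Agent.S3278

set_option autoImplicit false
set_option maxHeartbeats 1000000
set_option synthInstance.maxHeartbeats 100000
set_option linter.style.haveILetI false
set_option backward.isDefEq.respectTransparency false
universe u
open CategoryTheory MonoidalCategory CartesianMonoidalCategory MonObj GrpObj AlgebraicGeometry CategoryTheory.Limits
open AlgGrp CategoryTheory.Limits

namespace Groth.Agent.S14589

/-- Let k be a field, G a k-group scheme of finite type, i : N → G a closed normal subgroup scheme and q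
: G → Q a flat surjective homomorphism of k-group schemes of finite type with kernel N (Q = G/N).
Let j : M → G and j' : M' → Q be the largest anti-affine subgroup schemes of G and of Q (closed
subgroup schemes of finite type with only constant global functions through which every other such
subgroup scheme factors). Then q maps M onto M': the image of M → G → Q equals the underlying set of
M'. Since M' is smooth, this is the statement that G_ant/(G_ant ∩ N) → (G/N)_ant is an isomorphism. -/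
theorem result (k : Type u) [Field k]
    (G : Over (Spec (CommRingCat.of k))) [GrpObj G] [LocallyOfFiniteType G.hom] [QuasiCompact G.hom]
    (N : Over (Spec (CommRingCat.of k))) [GrpObj N] (i : N ⟶ G) [IsMonHom i] [IsClosedImmersion i.left] (hN : AlgGrp.IsNormalHom i)
    (Q : Over (Spec (CommRingCat.of k))) [GrpObj Q] [LocallyOfFiniteType Q.hom] [QuasiCompact Q.hom]
    (q : G ⟶ Q) [IsMonHom q] [Surjective q.left] [Flat q.left] (hq : AlgGrp.IsKernel i q)
    (M : Over (Spec (CommRingCat.of k))) [GrpObj M] [LocallyOfFiniteType M.hom] [QuasiCompact M.hom] (j : M ⟶ G) [IsMonHom j] [IsClosedImmersion j.left]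
    (hM : Function.Bijective ((Scheme.ΓSpecIso (CommRingCat.of k)).inv ≫ M.hom.appTop).hom)
    (hMmax : ∀ (M₁ : Over (Spec (CommRingCat.of k))) [GrpObj M₁] [LocallyOfFiniteType M₁.hom] [QuasiCompact M₁.hom] (j₁ : M₁ ⟶ G) [IsMonHom j₁] [IsClosedImmersion j₁.left],
      Function.Bijective ((Scheme.ΓSpecIso (CommRingCat.of k)).inv ≫ M₁.hom.appTop).hom → ∃ g : M₁ ⟶ M, g ≫ j = j₁)
    (M' : Over (Spec (CommRingCat.of k))) [GrpObj M'] [LocallyOfFiniteType M'.hom] [QuasiCompact M'.hom] (j' : M' ⟶ Q) [IsMonHom j'] [IsClosedImmersion j'.left]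
    (hM' : Function.Bijective ((Scheme.ΓSpecIso (CommRingCat.of k)).inv ≫ M'.hom.appTop).hom)
    (hM'max : ∀ (M₁ : Over (Spec (CommRingCat.of k))) [GrpObj M₁] [LocallyOfFiniteType M₁.hom] [QuasiCompact M₁.hom] (j₁ : M₁ ⟶ Q) [IsMonHom j₁] [IsClosedImmersion j₁.left],
      Function.Bijective ((Scheme.ΓSpecIso (CommRingCat.of k)).inv ≫ M₁.hom.appTop).hom → ∃ g : M₁ ⟶ M', g ≫ j' = j₁) :
    Set.range ⇑(j ≫ q).left.base = Set.range ⇑j'.left.base := by
  haveI : IsNoetherianRing (CommRingCat.of k) := inferInstanceAs (IsNoetherianRing k)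
  haveI : IsLocallyNoetherian G.left := LocallyOfFiniteType.isLocallyNoetherian G.hom
  haveI : IsLocallyNoetherian Q.left := LocallyOfFiniteType.isLocallyNoetherian Q.hom
  haveI : IsSeparated Q.hom := H19Grp.AffineQuotient.isSeparated_of_grp Q
  haveI : QuasiCompact q.left := by
    haveI : QuasiCompact (q.left ≫ Q.hom) := by rw [Over.w q]; infer_instance
    exact QuasiCompact.of_comp q.left Q.hom
  haveI : IsIso M.hom.appTop := (H19Grp.AntiAffine.isIso_appTop_iff M.hom).mpr hM
  haveI : IsIso M'.hom.appTop := (H19Grp.AntiAffine.isIso_appTop_iff M'.hom).mpr hM'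
  refine subset_antisymm ?_ ?_
  · obtain ⟨C₀, gC₀, p₀, c₀, hc₀, hpc₀, hcl₀, hiso₀, hl₀, hq₀⟩ := H19Grp.AntiAffineGroup.exists_image (j ≫ q)
    haveI := hc₀; haveI := hcl₀; haveI := hl₀; haveI := hq₀
    obtain ⟨g, hg⟩ := hM'max C₀ c₀ ((H19Grp.AntiAffine.isIso_appTop_iff C₀.hom).mp hiso₀)
    rw [← hpc₀, ← hg, ← Category.assoc]
    rintro y ⟨x, rfl⟩
    exact ⟨(p₀ ≫ g).left x, rfl⟩
  obtain ⟨A, gA, r, hrm, hA, hAl, hAq, hrf, hrs, hrq, -, hlift⟩ := H19Grp.AntPart.exists_affinization G j hM hMmax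
  haveI : LocallyOfFiniteType N.hom := by rw [← Over.w i]; infer_instance
  haveI : IsSeparated A.hom := inferInstance
  haveI : QuasiCompact (i ≫ r).left := by rw [Over.comp_left]; infer_instance
  obtain ⟨C, gC, p, c, hp, hc, hpc, hpf, hps, hplfp, hccl, hCl, hpq⟩ :=
    H19Grp.ImageFactor.exists_image_factor N A (i ≫ r) (by
      have h : ∀ {X : Scheme.{u}} (g : X ⟶ Spec (CommRingCat.of k)), Flat g := fun g => inferInstance
      exact h _)
  haveI := hc
  have hCn := H19Grp.AntPart.isNormalHom_image r i hN c p hpc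
  obtain ⟨A', gA', r', hr', hA', hA'l, hr'f, hr's, hker⟩ := S3278.result k A C c hCn
  haveI := hr'
  obtain ⟨φ, hφm, hφ, -⟩ := H19Grp.exists_monHom_desc q hq (r ≫ r') (by
    rw [← Category.assoc, ← hpc, Category.assoc, H19Grp.kernel_comp_eq_one hker, MonObj.comp_one, Hom.one_def])
  haveI := hφm
  have hj' : j' ≫ φ = 1 := H19Grp.AntiAffineGroup.eq_one_of_isAffine (j' ≫ φ) (IsMonHom.one_hom _)
  obtain ⟨T, a, g, hag, hs₁, -, -⟩ := H19Grp.AntPart.exists_square j' q
  haveI := @hs₁ ‹_›
  obtain ⟨x, hx⟩ := H19Grp.kernel_lift hker (g ≫ r) (by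
    rw [Category.assoc, ← hφ, ← Category.assoc g, ← hag, Category.assoc, hj', MonObj.comp_one])
  obtain ⟨T', b, n, hbn, hs₂, -, -⟩ := H19Grp.AntPart.exists_square x p
  haveI := @hs₂ ‹_›
  obtain ⟨m, hm⟩ := hlift ((b ≫ g) * (n ≫ i)⁻¹) (by
    rw [MonObj.mul_comp, GrpObj.inv_comp, Category.assoc, ← hx, Category.assoc, ← hpc, ← Category.assoc b, hbn,
      Category.assoc, mul_inv_cancel])
  have he : m ≫ (j ≫ q) = (b ≫ a) ≫ j' := by
    rw [← Category.assoc, hm, MonObj.mul_comp, GrpObj.inv_comp, Category.assoc _ i q,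
      H19Grp.kernel_comp_eq_one hq, MonObj.comp_one, inv_one, _root_.mul_one, Category.assoc, ← hag, Category.assoc]
  rintro y ⟨z, rfl⟩
  obtain ⟨t, rfl⟩ := a.left.surjective z
  obtain ⟨t', rfl⟩ := b.left.surjective t
  exact ⟨m.left t', congrArg (fun f : T' ⟶ Q => f.left t') he⟩

end Groth.Agent.S14589
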