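import Groth.Statements.S1459
import Groth.Agent.H8Props.SliceTools.Scheme
import Mathlib

set_option autoImplicit false
set_option linter.style.haveILetI false
universe u
open FlatMor

namespace Groth.Agent.S1459

open AlgebraicGeometry CategoryTheory Limits in
/-- Let f : X → S be locally of finite presentation and flat at x with image s, and let h_1, …, h_r be
elements of O_{X,x} whose images in O_{X,x} / m_s O_{X,x} form a regular sequence. Then there are an
affine open U ∋ x and sections on U with these germs such that the closed subscheme Z of U they cut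
out is a regular closed immersion whose image contains x, Z → S is flat and locally of finite
presentation, and the base change of Z → U along any S' → S is again a regular closed immersion. -/
theorem result {X S : Scheme.{u}} (f : X ⟶ S) [LocallyOfFinitePresentation f] (x : X)
    (hflat : (f.stalkMap x).hom.Flat) (hs : List ↑(X.presheaf.stalk x))
    (hreg : RingTheory.Sequence.IsRegular (↑(X.presheaf.stalk x) ⧸ Ideal.map (f.stalkMap x).hom (IsLocalRing.maximalIdeal ↑(S.presheaf.stalk (f x))))
      (hs.map (Ideal.Quotient.mk (Ideal.map (f.stalkMap x).hom (IsLocalRing.maximalIdeal ↑(S.presheaf.stalk (f x))))))) :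
    ∃ (U : X.Opens) (hU : IsAffineOpen U) (hx : x ∈ U) (hs' : List Γ(X, U)), hs'.map (X.presheaf.germ U x hx) = hs ∧
      Mor2.IsRegularClosedImmersion (Spec.map (CommRingCat.ofHom (Ideal.Quotient.mk (Ideal.ofList hs'))) ≫ hU.isoSpec.inv) ∧
      x ∈ Set.range ⇑(Spec.map (CommRingCat.ofHom (Ideal.Quotient.mk (Ideal.ofList hs'))) ≫ hU.fromSpec) ∧
      Flat (Spec.map (CommRingCat.ofHom (Ideal.Quotient.mk (Ideal.ofList hs'))) ≫ hU.fromSpec ≫ f) ∧ LocallyOfFinitePresentation (Spec.map (CommRingCat.ofHom (Ideal.Quotient.mk (Ideal.ofList hs'))) ≫ hU.fromSpec ≫ f) ∧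
      ∀ (S' : Scheme.{u}) (g : S' ⟶ S), Mor2.IsRegularClosedImmersion
        (pullback.map (Spec.map (CommRingCat.ofHom (Ideal.Quotient.mk (Ideal.ofList hs'))) ≫ hU.isoSpec.inv ≫ U.ι ≫ f) g (U.ι ≫ f) g (Spec.map (CommRingCat.ofHom (Ideal.Quotient.mk (Ideal.ofList hs'))) ≫ hU.isoSpec.inv) (𝟙 S') (𝟙 S)
          (Category.comp_id _) ((Category.comp_id g).trans (Category.id_comp g).symm)) := by
  obtain ⟨U, hU, hx, hs', hg, hr, hf, hp, hz⟩ := H8Props.SliceTools.main f x hflat hs hreg
  haveI : IsClosedImmersion (Spec.map (CommRingCat.ofHom (Ideal.Quotient.mk (Ideal.ofList hs')))) :=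
    IsClosedImmersion.spec_of_surjective _ Ideal.Quotient.mk_surjective
  refine ⟨U, hU, hx, hs', hg, ?_, hr, hf, hp, fun S' g =>
    H8Props.SliceTools.isRegularClosedImmersion_map (U.ι ≫ f) _ hz g _ (Category.assoc _ _ _).symm _ _⟩
  have h := H8Props.SliceTools.isRegularClosedImmersion_of (Iso.refl _) _
    (fun z => H29Slice.isRegularImmersionAt_of_transReg (U.ι ≫ f) _ z (hz z))
  rwa [Iso.refl_hom, Category.id_comp] at h

end Groth.Agent.S1459
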