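import Groth.Statements.S14590
import Groth.Agent.H19Chev.TorsorTrace
import Groth.Agent.H28NT.GoodReduction
import Groth.Agent.H19AbSch.TorusHom

set_option autoImplicit false
set_option maxHeartbeats 1000000
set_option synthInstance.maxHeartbeats 100000
set_option linter.style.haveILetI false
set_option backward.isDefEq.respectTransparency false
set_option maxHeartbeats 1000000
set_option synthInstance.maxHeartbeats 100000
set_option linter.style.haveILetI false
set_option backward.isDefEq.respectTransparency false
universe u
open CategoryTheory MonoidalCategory CartesianMonoidalCategory MonObj GrpObj AlgebraicGeometry CategoryTheory.Limits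
open AlgGrp

namespace Groth.Agent.S14590

open Groth.Agent in


/-- Let k be a field, A an abelian variety (proper, smooth, connected k-group scheme), X and Y smooth
varieties over k (smooth, separated, geometrically integral k-schemes of finite type) and f : X → Y
an A-torsor: an action of A on X with f invariant, flat and surjective and A × X → X ×_Y X, (a, x) ↦
(a·x, x), an isomorphism. Then there exist a k-morphism φ : X → A and a positive integer n such that
φ(a·x) = φ(x) · aⁿ identically (multiplicative notation for the group law of A). -/
theorem result (k : Type u) [Field k]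
    (A X Y : Over (Spec (CommRingCat.of k))) [GrpObj A] [IsProper A.hom] [Smooth A.hom] [ConnectedSpace ↥A.left]
    [Smooth X.hom] [IsSeparated X.hom] [QuasiCompact X.hom] [GeometricallyIntegral X.hom]
    [Smooth Y.hom] [IsSeparated Y.hom] [QuasiCompact Y.hom] [GeometricallyIntegral Y.hom]
    (a : AlgGrp.Action A X) (f : X ⟶ Y) [Flat f.left] [Surjective f.left]
    (hinv : a.act ≫ f = snd A X ≫ f) (htors : IsIso (pullback.lift a.act (snd A X) hinv)) :
    ∃ (φ : X ⟶ A) (n : ℕ), 0 < n ∧
      ∀ (T : Over (Spec (CommRingCat.of k))) (b : T ⟶ A) (x : T ⟶ X), lift b x ≫ a.act ≫ φ = (x ≫ φ) * b ^ n := by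
  haveI : GeometricallyConnected A.hom :=
    H28NT.geometricallyConnected_of_section A.hom η[A].left (Over.w η[A])
  haveI : GeometricallyIntegral A.hom := H25AbCube.geometricallyIntegral_of_smooth A
  haveI : IsIntegral Y.left := GeometricallyIntegral.isIntegral_of_subsingleton Y.hom
  exact H19Chev.exists_trace a f hinv htors

end Groth.Agent.S14590
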