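import Groth.Statements.S14592
import Groth.Agent.H19SemiAb.Descend

set_option autoImplicit false
universe u
open CategoryTheory MonoidalCategory CartesianMonoidalCategory MonObj GrpObj AlgebraicGeometry CategoryTheory.Limits
open AlgGrp

namespace Groth.Agent.S14592

open Groth.Agent


/-- Let k be a field with algebraic closure K and G a k-group scheme of finite type. If G_K is a
semi-abelian variety over K — an extension of an abelian variety (proper, smooth, connected K-group
scheme) by a torus — then G is a semi-abelian variety over k: there are a closed subgroup scheme i :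
T → G with T a torus and a flat surjective homomorphism q : G → A with kernel T onto a proper smooth
connected k-group scheme. -/
theorem result (k : Type u) [Field k]
    (G : Over (Spec (CommRingCat.of k))) [GrpObj G] [LocallyOfFiniteType G.hom] [QuasiCompact G.hom]
    (hK : (∃ (T : Over (Spec (CommRingCat.of (AlgebraicClosure k)))) (_ : GrpObj T) (i : T ⟶ Red.bc (Spec.map (CommRingCat.ofHom (algebraMap k (AlgebraicClosure k)))) G) (A : Over (Spec (CommRingCat.of (AlgebraicClosure k)))) (_ : GrpObj A) (q : Red.bc (Spec.map (CommRingCat.ofHom (algebraMap k (AlgebraicClosure k)))) G ⟶ A),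
        IsMonHom i ∧ IsClosedImmersion i.left ∧ Red.IsTorus T ∧ IsMonHom q ∧ Surjective q.left ∧ Flat q.left ∧
        AlgGrp.IsKernel i q ∧ IsProper A.hom ∧ Smooth A.hom ∧ ConnectedSpace ↥A.left)) :
    (∃ (T : Over (Spec (CommRingCat.of k))) (_ : GrpObj T) (i : T ⟶ G) (A : Over (Spec (CommRingCat.of k))) (_ : GrpObj A) (q : G ⟶ A),
        IsMonHom i ∧ IsClosedImmersion i.left ∧ Red.IsTorus T ∧ IsMonHom q ∧ Surjective q.left ∧ Flat q.left ∧
        AlgGrp.IsKernel i q ∧ IsProper A.hom ∧ Smooth A.hom ∧ ConnectedSpace ↥A.left) := by
  exact H19SemiAb.isSA_of_bc G hK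

end Groth.Agent.S14592
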