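import Groth.Statements.S14593
import Groth.Agent.H19Alb.Core
import Groth.Agent.H19Alb.Proper
import Groth.Agent.H19Chev.SmoothQuotient

set_option autoImplicit false
universe u
open CategoryTheory MonoidalCategory CartesianMonoidalCategory MonObj GrpObj AlgebraicGeometry CategoryTheory.Limits
open AlgGrp

namespace Groth.Agent.S14593

open Groth.Agent Groth.Agent.H19Alb Groth.Agent.H25AbCube
attribute [local instance] Functor.grpObjObj


/-- Let k be a field, G a smooth k-group scheme of finite type, i₀ : G⁰ → G its neutral component (a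
connected open subgroup scheme) and α : G⁰ → A the Albanese homomorphism of G⁰: a flat surjective
homomorphism onto an abelian variety A (proper, smooth, connected) through which every morphism from
G⁰ to an abelian variety preserving the unit factors uniquely. Let j : N → G⁰ be the kernel of α.
Then N is normal in G, affine and connected; it is the kernel of a flat surjective homomorphism from
G onto a proper k-group scheme of finite type; and it is the smallest normal subgroup scheme of G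
with proper quotient: every flat surjective homomorphism from G onto a proper k-group scheme of
finite type kills N. -/
theorem result (k : Type u) [Field k]
    (G : Over (Spec (CommRingCat.of k))) [GrpObj G] [Smooth G.hom] [QuasiCompact G.hom]
    (G₀ : Over (Spec (CommRingCat.of k))) [GrpObj G₀] (i₀ : G₀ ⟶ G) [IsMonHom i₀] [IsOpenImmersion i₀.left] [ConnectedSpace ↥G₀.left]
    (A : Over (Spec (CommRingCat.of k))) [GrpObj A] [IsProper A.hom] [Smooth A.hom] [ConnectedSpace ↥A.left]
    (α : G₀ ⟶ A) [IsMonHom α] [Surjective α.left] [Flat α.left]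
    (hα : ∀ (B : Over (Spec (CommRingCat.of k))) [GrpObj B] [IsProper B.hom] [Smooth B.hom] [ConnectedSpace ↥B.left] (f : G₀ ⟶ B),
      η[G₀] ≫ f = η[B] → ∃! g : A ⟶ B, α ≫ g = f)
    (N : Over (Spec (CommRingCat.of k))) [GrpObj N] (j : N ⟶ G₀) [IsMonHom j] [IsClosedImmersion j.left] (hN : AlgGrp.IsKernel j α) :
    AlgGrp.IsNormalHom (j ≫ i₀) ∧ IsAffine N.left ∧ ConnectedSpace ↥N.left ∧
      (∃ (Q : Over (Spec (CommRingCat.of k))) (_ : GrpObj Q) (q : G ⟶ Q), IsMonHom q ∧ Surjective q.left ∧ Flat q.left ∧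
        AlgGrp.IsKernel (j ≫ i₀) q ∧ IsProper Q.hom) ∧
      ∀ (Q' : Over (Spec (CommRingCat.of k))) [GrpObj Q'] [IsProper Q'.hom] (q' : G ⟶ Q') [IsMonHom q'] [Surjective q'.left] [Flat q'.left],
        (j ≫ i₀) ≫ q' = 1 := by
  haveI : Smooth G₀.hom := by rw [← Over.w i₀]; infer_instance
  haveI : IsClosedImmersion i₀.left := isClosedImmersion_of_open i₀
  haveI : QuasiCompact G₀.hom := by rw [← Over.w i₀]; infer_instance
  haveI : Mono i₀ := Over.mono_of_mono_left _
  haveI : Mono j := Over.mono_of_mono_left _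
  obtain ⟨N₁, gN₁, i₁, Q₁, gQ₁, q₁, hi₁, hi₁c, hN₁a, hn₁, hq₁, hq₁s, hq₁f, hq₁p, hk₁, hQ₁, hmin⟩ :=
    H19Chev.exists_min_proper_quotient G₀
  haveI := hi₁; haveI := hi₁c; haveI := hN₁a; haveI := hq₁; haveI := hq₁s; haveI := hq₁f; haveI := hq₁p
  haveI := hQ₁
  haveI : Mono i₁ := Over.mono_of_mono_left _
  haveI hQ₁sm : Smooth Q₁.hom := (H19Chev.smooth_connected_quotient q₁).1
  haveI hQ₁c : ConnectedSpace Q₁.left := (H19Chev.smooth_connected_quotient q₁).2
  obtain ⟨g, hg, -⟩ := hα Q₁ q₁ (IsMonHom.one_hom q₁)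
  have hg1 : η[A] ≫ g = η[Q₁] := by
    rw [← IsMonHom.one_hom (f := α), Category.assoc, hg, IsMonHom.one_hom]
  obtain ⟨y, hy⟩ := H19Grp.kernel_lift hk₁ j (by
    rw [← hg, ← Category.assoc, H19Grp.kernel_comp_eq_one hN, Hom.one_def, Category.assoc, hg1, ← Hom.one_def])
  obtain ⟨z, hz⟩ := H19Grp.kernel_lift hN i₁ (hmin A α)
  have hyz : y ≫ z = 𝟙 N := by rw [← cancel_mono j, Category.assoc, hz, hy, Category.id_comp]
  have hzy : z ≫ y = 𝟙 N₁ := by rw [← cancel_mono i₁, Category.assoc, hy, hz, Category.id_comp]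
  let e : N ≅ N₁ := ⟨y, z, hyz, hzy⟩
  have hminj : ∀ (Q' : Over (Spec (CommRingCat.of k))) [GrpObj Q'] [IsProper Q'.hom] (q' : G₀ ⟶ Q') [IsMonHom q'],
      j ≫ q' = 1 := fun Q' _ _ q' _ => by rw [← hy, Category.assoc, hmin Q' q', MonObj.comp_one]
  let eL : N.left ≅ N₁.left := (Over.forget _).mapIso e
  haveI hNa : IsAffine N.left := .of_isIso eL.hom
  haveI hNc : ConnectedSpace N.left := by
    haveI := H19Chev.connectedSpace_of_min i₁ hn₁ q₁ hk₁ hmin
    exact eL.inv.homeomorph.surjective.connectedSpace eL.inv.continuous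
  have hn₀ : AlgGrp.IsNormalHom i₀ := by
    have h := H19Chev.isNormalHom_idComp (G := G) (𝟙 G) (fun T g n => ⟨g * n * g⁻¹, by
      rw [Category.comp_id, Category.comp_id]⟩) i₀
    rwa [Category.comp_id] at h
  obtain ⟨C⟩ := nonempty_conj i₀ hn₀
  have hnorm : AlgGrp.IsNormalHom (j ≫ i₀) := fun T h n => by
    obtain ⟨n', hn'⟩ := H19Grp.kernel_lift hN (C.cj h (n ≫ j)) (cj_comp_eq_one i₀ C α j hN hminj h n)
    refine ⟨n', ?_⟩
    rw [← Category.assoc n', hn', C.cj_fac, Category.assoc]
  haveI : IsMonHom (j ≫ i₀) := inferInstance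
  haveI : IsClosedImmersion (j ≫ i₀).left := by rw [Over.comp_left]; infer_instance
  haveI : LocallyOfFiniteType N.hom := by rw [← Over.w j]; infer_instance
  haveI : QuasiCompact N.hom := by rw [← Over.w j]; infer_instance
  obtain ⟨Q, gQ, q, hq, hQl, hQq, hqf, hqs, hqp, hk⟩ := H19Quot.exists_quotientGroup (j ≫ i₀) hnorm
  haveI := hq; haveI := hQl; haveI := hQq; haveI := hqf; haveI := hqs; haveI := hqp
  refine ⟨hnorm, hNa, hNc, ⟨Q, gQ, q, hq, hqs, hqf, hk, ?_⟩, fun Q' _ _ q' _ _ _ => ?_⟩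
  · haveI : LocallyOfFinitePresentation α.left := by
      haveI : IsNoetherianRing (CommRingCat.of k) := inferInstanceAs (IsNoetherianRing k)
      haveI : IsLocallyNoetherian A.left := LocallyOfFiniteType.isLocallyNoetherian A.hom
      haveI : LocallyOfFiniteType (α.left ≫ A.hom) := by rw [Over.w α]; infer_instance
      haveI : LocallyOfFiniteType α.left := locallyOfFiniteType_of_comp α.left A.hom
      infer_instance
    obtain ⟨χ, hχ, -⟩ := H19Grp.QuotientDesc.existsUnique_desc α (i₀ ≫ q) fun T a b hab => by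
      obtain ⟨x, hx⟩ := H19Grp.kernel_lift hN (a * b⁻¹) (by
        rw [MonObj.mul_comp, GrpObj.inv_comp, hab, mul_inv_cancel])
      have h1 : (a * b⁻¹) ≫ i₀ ≫ q = 1 := by
        rw [← hx, Category.assoc, ← Category.assoc j, H19Grp.kernel_comp_eq_one hk, MonObj.comp_one]
      rwa [MonObj.mul_comp, GrpObj.inv_comp, mul_inv_eq_one] at h1
    exact isProper_quotient i₀ α χ q hχ
  · rw [Category.assoc]
    exact hminj Q' (i₀ ≫ q')

end Groth.Agent.S14593
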