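import Groth.Statements.S14595
import Groth.Agent.H19Chev.UnitsAxes
import Groth.Agent.S14584
import Groth.Agent.H19Chev.SemiAb
import Groth.Agent.H21Dyn.Scheme

set_option autoImplicit false
set_option maxHeartbeats 1000000
set_option synthInstance.maxHeartbeats 100000
set_option linter.style.haveILetI false
set_option backward.isDefEq.respectTransparency false
universe u
open CategoryTheory MonoidalCategory CartesianMonoidalCategory MonObj GrpObj AlgebraicGeometry CategoryTheory.Limits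
open AlgGrp

namespace Groth.Agent.S14595

open CategoryTheory CategoryTheory.Limits MonoidalCategory CartesianMonoidalCategory MonObj GrpObj AlgebraicGeometry

attribute [local instance] Functor.grpObjObj

theorem isDiagonalizable_monoidAlgebra (k : Type u) [Field k] (G : Type) [CommGroup G] :
    HopfRep.IsDiagonalizable k (MonoidAlgebra k G) := by
  refine eq_top_iff.2 fun x hx => ?_
  clear hx
  induction x using MonoidAlgebra.induction_linear with
  | zero => exact zero_mem _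
  | add a b ha hb => exact add_mem ha hb
  | single m r =>
    rw [show MonoidAlgebra.single m r = r • (MonoidAlgebra.single m 1 : MonoidAlgebra k G) by
      rw [MonoidAlgebra.smul_single', _root_.mul_one]]
    exact Submodule.smul_mem _ _ (Submodule.subset_span (MonoidAlgebra.isGroupLikeElem_single_one m))

theorem axes_mul {M : Type*} [Group M] (f a b c : M) (h : f = c⁻¹ * b * a) : f * a⁻¹ * b⁻¹ * c = 1 := by
  rw [h]; group


/-- Let k be a field, X and Y varieties over k (separated, geometrically integral, of finite type) with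
rational points x₀, y₀, G a semi-abelian variety (an extension of a proper smooth connected k-group
scheme by a torus) and f : X × Y → G a k-morphism. Then f(x, y) f(x, y₀)⁻¹ f(x₀, y)⁻¹ f(x₀, y₀) = e
identically, in the group of morphisms X × Y → G. -/
theorem result (k : Type u) [Field k]
    (X Y G : Over (Spec (CommRingCat.of k)))
    [LocallyOfFiniteType X.hom] [QuasiCompact X.hom] [IsSeparated X.hom] [GeometricallyIntegral X.hom]
    [LocallyOfFiniteType Y.hom] [QuasiCompact Y.hom] [IsSeparated Y.hom] [GeometricallyIntegral Y.hom]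
    [GrpObj G] [LocallyOfFiniteType G.hom] [QuasiCompact G.hom] (hG : (∃ (T : Over (Spec (CommRingCat.of k))) (_ : GrpObj T) (i : T ⟶ G) (A : Over (Spec (CommRingCat.of k))) (_ : GrpObj A) (q : G ⟶ A),
        IsMonHom i ∧ IsClosedImmersion i.left ∧ Red.IsTorus T ∧ IsMonHom q ∧ Surjective q.left ∧ Flat q.left ∧
        AlgGrp.IsKernel i q ∧ IsProper A.hom ∧ Smooth A.hom ∧ ConnectedSpace ↥A.left))
    (x₀ : 𝟙_ (Over (Spec (CommRingCat.of k))) ⟶ X) (y₀ : 𝟙_ (Over (Spec (CommRingCat.of k))) ⟶ Y) (f : X ⊗ Y ⟶ G) :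
    f * (fst X Y ≫ lift (𝟙 X) (toUnit X ≫ y₀) ≫ f)⁻¹ * (snd X Y ≫ lift (toUnit Y ≫ x₀) (𝟙 Y) ≫ f)⁻¹ *
      (toUnit (X ⊗ Y) ≫ lift x₀ y₀ ≫ f) = 1 := by
  obtain ⟨T, gT, i, A, gA, q, hi, hicl, hT, hq, hqs, hqf, hker, hAp, hAs, hAc⟩ := hG
  haveI := hi; haveI := hicl; haveI := hq; haveI := hqs; haveI := hqf; haveI := hAp; haveI := hAs; haveI := hAc
  haveI : Mono i := Over.mono_of_mono_left i
  have hfac : ∀ (f' : X ⊗ Y ⟶ A),
      f' * (fst X Y ≫ lift (𝟙 X) (toUnit X ≫ y₀) ≫ f')⁻¹ * (snd X Y ≫ lift (toUnit Y ≫ x₀) (𝟙 Y) ≫ f')⁻¹ *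
      (toUnit (X ⊗ Y) ≫ lift x₀ y₀ ≫ f') = 1 := fun f' => axes_mul _ _ _ _ (S14584.result k X Y A x₀ y₀ f')
  set φ := f * (fst X Y ≫ lift (𝟙 X) (toUnit X ≫ y₀) ≫ f)⁻¹ * (snd X Y ≫ lift (toUnit Y ≫ x₀) (𝟙 Y) ≫ f)⁻¹ *
      (toUnit (X ⊗ Y) ≫ lift x₀ y₀ ≫ f) with hφ
  have hφq : φ ≫ q = 1 := by
    rw [hφ]
    simp only [MonObj.mul_comp, GrpObj.inv_comp, Category.assoc]
    exact hfac (f ≫ q)
  let ψ : X ⊗ Y ⟶ T := hker.lift φ (toUnit _) (hφq.trans Hom.one_def)
  have hψ : ψ ≫ i = φ := hker.lift_fst _ _ _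
  let cX : X ⟶ X ⊗ Y := lift (𝟙 X) (toUnit X ≫ y₀)
  let cY : Y ⟶ X ⊗ Y := lift (toUnit Y ≫ x₀) (𝟙 Y)
  obtain ⟨-, -, hcomm⟩ := H19Chev.SemiAb.props i hT q hker
  have hy : y₀ ≫ cY = lift x₀ y₀ := by
    simp only [cY, comp_lift, Category.comp_id, ← Category.assoc, toUnit_unique (y₀ ≫ toUnit Y) (𝟙 _),
      Category.id_comp]
  have hx : x₀ ≫ cX = lift x₀ y₀ := by
    simp only [cX, comp_lift, Category.comp_id, ← Category.assoc, toUnit_unique (x₀ ≫ toUnit X) (𝟙 _),
      Category.id_comp]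
  have hXfst : cX ≫ fst X Y = 𝟙 X := lift_fst _ _
  have hXsnd : cX ≫ snd X Y = toUnit X ≫ y₀ := lift_snd _ _
  have hYfst : cY ≫ fst X Y = toUnit Y ≫ x₀ := lift_fst _ _
  have hYsnd : cY ≫ snd X Y = 𝟙 Y := lift_snd _ _
  have hXφ : cX ≫ φ = 1 := by
    have e₁ : cX ≫ fst X Y ≫ lift (𝟙 X) (toUnit X ≫ y₀) ≫ f = cX ≫ f := by
      rw [← Category.assoc, hXfst, Category.id_comp]
    have e₂ : cX ≫ snd X Y ≫ lift (toUnit Y ≫ x₀) (𝟙 Y) ≫ f = toUnit X ≫ lift x₀ y₀ ≫ f := by
      rw [← Category.assoc, hXsnd, ← hy, Category.assoc, Category.assoc]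
    have e₃ : cX ≫ toUnit (X ⊗ Y) ≫ lift x₀ y₀ ≫ f = toUnit X ≫ lift x₀ y₀ ≫ f := by
      rw [← Category.assoc, comp_toUnit]
    simp only [hφ, MonObj.comp_mul, GrpObj.comp_inv, e₁, e₂, e₃]
    group
  have hYφ : cY ≫ φ = 1 := by
    have e₁ : cY ≫ fst X Y ≫ lift (𝟙 X) (toUnit X ≫ y₀) ≫ f = toUnit Y ≫ lift x₀ y₀ ≫ f := by
      rw [← Category.assoc, hYfst, ← hx, Category.assoc, Category.assoc]
    have e₂ : cY ≫ snd X Y ≫ lift (toUnit Y ≫ x₀) (𝟙 Y) ≫ f = cY ≫ f := by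
      rw [← Category.assoc, hYsnd, Category.id_comp]
    have e₃ : cY ≫ toUnit (X ⊗ Y) ≫ lift x₀ y₀ ≫ f = toUnit Y ≫ lift x₀ y₀ ≫ f := by
      rw [← Category.assoc, comp_toUnit]
    simp only [hφ, MonObj.comp_mul, GrpObj.comp_inv, e₁, e₂, e₃]
    rw [hcomm (cY ≫ f) (toUnit Y ≫ lift x₀ y₀ ≫ f)⁻¹]
    group
  have hXψ : cX ≫ ψ = 1 := by rw [← cancel_mono i, Category.assoc, hψ, hXφ, MonObj.one_comp]
  have hYψ : cY ≫ ψ = 1 := by rw [← cancel_mono i, Category.assoc, hψ, hYφ, MonObj.one_comp]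
  -- over the algebraic closure
  let K := AlgebraicClosure k
  let e : Spec (CommRingCat.of K) ⟶ Spec (CommRingCat.of k) := Spec.map (CommRingCat.ofHom (algebraMap k K))
  let F : Over (Spec (CommRingCat.of k)) ⥤ Over (Spec (CommRingCat.of K)) := Over.pullback e
  letI gFT : GrpObj (F.obj T) := Functor.grpObjObj
  obtain ⟨r, eT, heT⟩ := H21Dyn.exists_split_bc T hT K
  haveI := heT
  have hint : ∀ (Z : Over (Spec (CommRingCat.of k))) [GeometricallyIntegral Z.hom], IsIntegral (F.obj Z).left :=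
    fun Z _ => GeometricallyIntegral.isIntegral_of_subsingleton (pullback.snd Z.hom e)
  haveI := hint X
  haveI := hint Y
  haveI : ConnectedSpace (F.obj X).left := inferInstance
  haveI : ConnectedSpace (F.obj Y).left := inferInstance
  haveI : LocallyOfFiniteType (F.obj X).hom := inferInstanceAs (LocallyOfFiniteType (pullback.snd X.hom e))
  haveI : QuasiCompact (F.obj X).hom := inferInstanceAs (QuasiCompact (pullback.snd X.hom e))
  haveI : LocallyOfFiniteType (F.obj Y).hom := inferInstanceAs (LocallyOfFiniteType (pullback.snd Y.hom e))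
  haveI : QuasiCompact (F.obj Y).hom := inferInstanceAs (QuasiCompact (pullback.snd Y.hom e))
  let x : 𝟙_ _ ⟶ F.obj X := Functor.LaxMonoidal.ε F ≫ F.map x₀
  let y : 𝟙_ _ ⟶ F.obj Y := Functor.LaxMonoidal.ε F ≫ F.map y₀
  let μF := Functor.LaxMonoidal.μ F X Y
  haveI : IsMonHom eT.inv := inferInstance
  have hFone : ∀ (W : Over (Spec (CommRingCat.of k))), F.map (1 : W ⟶ T) = 1 := fun W => Functor.map_one F
  have htu : ∀ Z : Over (Spec (CommRingCat.of k)),
      toUnit (F.obj Z) ≫ Functor.LaxMonoidal.ε F = F.map (toUnit Z) := fun Z =>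
    (cancel_mono (Functor.Monoidal.εIso F).inv).1 (toUnit_unique _ _)
  have key : μF ≫ F.map ψ ≫ eT.inv = 1 := by
    refine H19Chev.UnitsAxes.eq_one x y (isDiagonalizable_monoidAlgebra K (Multiplicative (Fin r → ℤ))) _ ?_ ?_
    · have hc : lift (𝟙 (F.obj X)) (toUnit (F.obj X) ≫ y) ≫ μF = F.map cX := by
        rw [show toUnit (F.obj X) ≫ y = F.map (toUnit X ≫ y₀) by rw [F.map_comp, ← htu, Category.assoc],
          ← F.map_id]
        exact Functor.Monoidal.lift_μ F _ _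
      rw [reassoc_of% hc, ← Category.assoc, ← F.map_comp, hXψ, hFone, MonObj.one_comp]
    · have hc : lift (toUnit (F.obj Y) ≫ x) (𝟙 (F.obj Y)) ≫ μF = F.map cY := by
        rw [show toUnit (F.obj Y) ≫ x = F.map (toUnit Y ≫ x₀) by rw [F.map_comp, ← htu, Category.assoc],
          ← F.map_id]
        exact Functor.Monoidal.lift_μ F _ _
      rw [reassoc_of% hc, ← Category.assoc, ← F.map_comp, hYψ, hFone, MonObj.one_comp]
  have hF : F.map ψ = F.map 1 := by
    rw [hFone, ← cancel_epi μF, ← cancel_mono eT.inv, Category.assoc, key, MonObj.comp_one, MonObj.one_comp]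
  have hψ1 : ψ = 1 := by
    refine Over.OverMorphism.ext ?_
    haveI : Flat e := (HasRingHomProperty.Spec_iff (P := @Flat)).2 (RingHom.flat_algebraMap_iff.2 inferInstance)
    haveI : Surjective e := ⟨fun z => ⟨IsLocalRing.closedPoint K, Subsingleton.elim _ _⟩⟩
    haveI : Epi (pullback.fst (X ⊗ Y).hom e) := Flat.epi_of_flat_of_surjective _
    rw [← cancel_epi (pullback.fst (X ⊗ Y).hom e)]
    have h1 : ∀ m : X ⊗ Y ⟶ T, (F.map m).left ≫ pullback.fst T.hom e = pullback.fst (X ⊗ Y).hom e ≫ m.left :=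
      fun m => pullback.lift_fst _ _ _
    rw [← h1, ← h1, hF]
  show φ = 1
  rw [← hψ, hψ1, MonObj.one_comp]

end Groth.Agent.S14595
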