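import Groth.Statements.S14597
import Groth.Agent.H19Quot.AntiAffineAct
import Groth.Agent.H19Quot.AffineQuot
import Groth.Agent.H19Grp.AffineCriteria
import Groth.Agent.H19Grp.Kernel
import Groth.Agent.H19Grp.PointsEq

set_option autoImplicit false
set_option maxHeartbeats 1000000
set_option synthInstance.maxHeartbeats 100000
set_option linter.style.haveILetI false
set_option backward.isDefEq.respectTransparency false
universe u
open CategoryTheory MonoidalCategory CartesianMonoidalCategory MonObj GrpObj AlgebraicGeometry CategoryTheory.Limits
open AlgGrp CategoryTheory.Limits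

namespace Groth.Agent.S14597

open Groth.Agent.H19Grp in
/-- The anti-affine part of a group fixing a point acts trivially. -/
theorem incl_act {k : Type u} [Field k] {G X : Over (Spec (CommRingCat.of k))} [GrpObj G]
    [LocallyOfFiniteType G.hom] [QuasiCompact G.hom] [IsSeparated X.hom] [IsIntegral X.left]
    [IsLocallyNoetherian X.left] (a : AlgGrp.Action G X) (x : 𝟙_ (Over (Spec (CommRingCat.of k))) ⟶ X)
    {H : Over (Spec (CommRingCat.of k))} [GrpObj H] [LocallyOfFiniteType H.hom] [QuasiCompact H.hom]
    (s : H ⟶ G) [IsMonHom s]
    (hx : ∀ (T : Over (Spec (CommRingCat.of k))) (g : T ⟶ H), lift (g ≫ s) (toUnit T ≫ x) ≫ a.act = toUnit T ≫ x)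
    {T : Over (Spec (CommRingCat.of k))} (m : T ⟶ AffinizationKernel.N H) (y : T ⟶ X) :
    lift (m ≫ AffinizationKernel.incl H ≫ s) y ≫ a.act = y := by
  haveI : IsNoetherianRing (CommRingCat.of k) := inferInstanceAs (IsNoetherianRing k)
  haveI : IsLocallyNoetherian H.left := LocallyOfFiniteType.isLocallyNoetherian H.hom
  obtain ⟨gM, hl⟩ := AffinizationKernel.exists_grpObj H
  letI := gM
  haveI := hl
  obtain ⟨hiso, -, -⟩ := AffinizationKernel.smooth_and_connected H
  haveI := hiso
  haveI : LocallyOfFiniteType (AffinizationKernel.N H).hom := by rw [← Over.w (AffinizationKernel.incl H)]; infer_instance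
  haveI : QuasiCompact (AffinizationKernel.N H).hom := by rw [← Over.w (AffinizationKernel.incl H)]; infer_instance
  exact H19Quot.antiAffine_act_trivial a (AffinizationKernel.incl H ≫ s) x
    (fun T m => by rw [← Category.assoc]; exact hx T _) m y


/-- Let k be a field, G a k-group scheme of finite type acting on a separated, integral, locally
Noetherian k-scheme X and fixing a rational point x. Let n : N → G be the kernel of the action, i.e.
the closed subgroup scheme whose points with values in a k-scheme T are the T-points of G acting as
the identity on X_T, and let q : G → Q be a flat surjective homomorphism of k-group schemes of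
finite type with kernel N. Then Q is affine. (The published statement is for an irreducible locally
Noetherian X and the quotient C_G(x)/Ker of the stabiliser of x; restricting the action to the
stabiliser gives the case stated, and X is taken reduced here because the published proof uses that
the infinitesimal neighbourhoods of x are schematically dense in X.) -/
theorem result (k : Type u) [Field k]
    (G X : Over (Spec (CommRingCat.of k))) [GrpObj G] [LocallyOfFiniteType G.hom] [QuasiCompact G.hom]
    [IsSeparated X.hom] [IsIntegral X.left] [IsLocallyNoetherian X.left]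
    (a : AlgGrp.Action G X) (x : 𝟙_ (Over (Spec (CommRingCat.of k))) ⟶ X) (hx : a.IsFixedPt x)
    (N : Over (Spec (CommRingCat.of k))) [GrpObj N] (n : N ⟶ G) [IsMonHom n] [IsClosedImmersion n.left]
    (hN : ∀ (T : Over (Spec (CommRingCat.of k))) (g : T ⟶ G), (∃ m : T ⟶ N, m ≫ n = g) ↔
      ∀ (T' : Over (Spec (CommRingCat.of k))) (t : T' ⟶ T) (y : T' ⟶ X), lift (t ≫ g) y ≫ a.act = y)
    (Q : Over (Spec (CommRingCat.of k))) [GrpObj Q] [LocallyOfFiniteType Q.hom] [QuasiCompact Q.hom]
    (q : G ⟶ Q) [IsMonHom q] [Surjective q.left] [Flat q.left] (hq : AlgGrp.IsKernel n q) :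
    IsAffine Q.left := by
  refine Groth.Agent.H19Quot.isAffine_of_kill_incl q ?_
  obtain ⟨m, hm⟩ := (hN _ (Groth.Agent.H19Grp.AffinizationKernel.incl G)).2 fun T' t y => by
    have h := incl_act a x (𝟙 G) (fun T g => by rw [Category.comp_id]; exact hx T g) t y
    rwa [Category.comp_id] at h
  rw [← hm, Category.assoc, Groth.Agent.H19Grp.kernel_comp_eq_one hq, MonObj.comp_one]

end Groth.Agent.S14597
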