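import Groth.Statements.S14599
import Groth.Agent.H19Chev.SmoothQuotient

set_option autoImplicit false
set_option maxHeartbeats 1000000
set_option synthInstance.maxHeartbeats 100000
set_option linter.style.haveILetI false
set_option backward.isDefEq.respectTransparency false
universe u
open CategoryTheory MonoidalCategory CartesianMonoidalCategory MonObj GrpObj AlgebraicGeometry CategoryTheory.Limits
open AlgGrp

namespace Groth.Agent.S14599

open CategoryTheory.Limits MonObj
open Groth.Agent Groth.Agent.H25AbCube Groth.Agent.H19Quot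


/-- Let k be a field and G a smooth connected k-group scheme of finite type. Then G has a smallest
normal subgroup scheme N whose quotient is an abelian variety, N is connected, and the quotient
homomorphism α : G → G/N is universal: there are a connected closed normal subgroup scheme i : N →
G, a proper smooth connected k-group scheme A and a flat surjective homomorphism α : G → A with
kernel N such that every k-morphism from G to a proper smooth connected k-group scheme sending e to
e factors uniquely through α, and every flat surjective homomorphism from G onto a proper smooth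
connected k-group scheme kills N. -/
theorem result (k : Type u) [Field k]
    (G : Over (Spec (CommRingCat.of k))) [GrpObj G] [Smooth G.hom] [QuasiCompact G.hom] [ConnectedSpace ↥G.left] :
    ∃ (N : Over (Spec (CommRingCat.of k))) (_ : GrpObj N) (i : N ⟶ G) (A : Over (Spec (CommRingCat.of k))) (_ : GrpObj A) (α : G ⟶ A),
      IsMonHom i ∧ IsClosedImmersion i.left ∧ AlgGrp.IsNormalHom i ∧ ConnectedSpace ↥N.left ∧
      IsProper A.hom ∧ Smooth A.hom ∧ ConnectedSpace ↥A.left ∧ IsMonHom α ∧ Surjective α.left ∧ Flat α.left ∧
      AlgGrp.IsKernel i α ∧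
      (∀ (B : Over (Spec (CommRingCat.of k))) [GrpObj B] [IsProper B.hom] [Smooth B.hom] [ConnectedSpace ↥B.left] (f : G ⟶ B),
        η[G] ≫ f = η[B] → ∃! g : A ⟶ B, α ≫ g = f) ∧
      (∀ (B : Over (Spec (CommRingCat.of k))) [GrpObj B] [IsProper B.hom] [Smooth B.hom] [ConnectedSpace ↥B.left] (q : G ⟶ B)
        [IsMonHom q] [Surjective q.left] [Flat q.left], i ≫ q = 1) := by
  obtain ⟨N, gN, i, A, gA, α, hi, hic, -, hNn, hα, hαs, hαf, hαp, hk, hAp, hmin⟩ :=
    H19Chev.exists_min_proper_quotient G
  haveI := hi; haveI := hic; haveI := hα; haveI := hαs; haveI := hαf; haveI := hαp; haveI := hAp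
  obtain ⟨hAs, hAn⟩ := H19Chev.smooth_connected_quotient α
  haveI := hAs; haveI := hAn
  refine ⟨N, gN, i, A, gA, α, hi, hic, hNn, H19Chev.connectedSpace_of_min i hNn α hk hmin, hAp, hAs, hAn, hα, hαs,
    hαf, hk, fun B gB hBp hBs hBn f hf => ?_, fun B gB hBp hBs hBn q hq _ _ => by haveI := hq; haveI := hBp; exact hmin B q⟩
  haveI := hBp; haveI := hBs; haveI := hBn
  haveI : IsMonHom f := H19Chev.isMonHom_to_av f hf
  obtain ⟨g, hg, hu⟩ := H19Grp.QuotientDesc.existsUnique_desc α f fun T a b hab => by
    obtain ⟨x, hx⟩ := H19Grp.kernel_lift hk (a * b⁻¹) (by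
      rw [MonObj.mul_comp, GrpObj.inv_comp, hab, mul_inv_cancel])
    have h1 : (a * b⁻¹) ≫ f = 1 := by rw [← hx, Category.assoc, hmin B f, MonObj.comp_one]
    rwa [MonObj.mul_comp, GrpObj.inv_comp, mul_inv_eq_one] at h1
  exact ⟨g, hg, hu⟩

end Groth.Agent.S14599
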