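import Groth.Statements.S1460
import Mathlib

set_option autoImplicit false
universe u
open FlatMor

namespace Groth.Agent.S1460

open AlgebraicGeometry CategoryTheory Limits in
/-- Let f : X → S be a morphism of finite presentation between affine schemes. Then f is the base change
of a morphism of finite type f₀ : X₀ → S₀ between affine schemes with S₀ of finite type over ℤ. -/
theorem result {X S : Scheme.{u}} (f : X ⟶ S) [IsAffine X] [IsAffine S] [LocallyOfFinitePresentation f] :
    ∃ (X₀ S₀ : Scheme.{u}) (f₀ : X₀ ⟶ S₀) (g : S ⟶ S₀) (g' : X ⟶ X₀), IsAffine X₀ ∧ IsAffine S₀ ∧ IsPullback g' f f₀ g ∧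
      Algebra.FiniteType ℤ Γ(S₀, ⊤) ∧ LocallyOfFiniteType f₀ := by
  have hf := (HasRingHomProperty.iff_of_isAffine (P := @LocallyOfFinitePresentation) (f := f)).mp inferInstance
  algebraize [f.appTop.hom]
  let P := Algebra.Presentation.ofFinitePresentation Γ(S, ⊤) Γ(X, ⊤)
  let A₀ := P.ModelOfHasCoeffs P.Core
  let e := P.tensorModelOfHasCoeffsEquiv P.Core
  let inc : A₀ →+* Γ(X, ⊤) := e.toRingEquiv.toRingHom.comp
    Algebra.TensorProduct.includeRight.toRingHom
  have hpo : IsPushout (CommRingCat.ofHom (algebraMap P.Core Γ(S, ⊤)))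
      (CommRingCat.ofHom (algebraMap P.Core A₀)) f.appTop (CommRingCat.ofHom inc) := by
    refine (CommRingCat.isPushout_tensorProduct P.Core Γ(S, ⊤) A₀).of_iso (Iso.refl _) (Iso.refl _)
      (Iso.refl _) e.toRingEquiv.toCommRingCatIso (by simp) (by simp) ?_ ?_
    · ext r
      exact e.commutes r
    · rfl
  have hpb := isPullback_SpecMap_of_isPushout _ _ _ _ hpo
  refine ⟨Spec (.of A₀), Spec (.of P.Core), Spec.map (CommRingCat.ofHom (algebraMap P.Core A₀)),
    S.isoSpec.hom ≫ Spec.map (CommRingCat.ofHom (algebraMap P.Core Γ(S, ⊤))),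
    X.isoSpec.hom ≫ Spec.map (CommRingCat.ofHom inc), inferInstance, inferInstance, ?_, ?_, ?_⟩
  · refine hpb.flip.of_iso X.isoSpec.symm (Iso.refl _) S.isoSpec.symm (Iso.refl _) ?_ ?_ ?_ ?_
    · simp
    · simp [Scheme.isoSpec_inv_naturality]
    · simp
    · simp
  · have h : Algebra.FiniteType ℤ P.Core := inferInstance
    refine RingHom.finiteType_algebraMap.mp ?_
    have e' := ((RingHom.finiteType_algebraMap.mpr h).comp_surjective (g := (Scheme.ΓSpecIso (.of P.Core)).inv.hom)
      (ConcreteCategory.bijective_of_isIso (Scheme.ΓSpecIso (.of P.Core)).inv).2)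
    convert e' using 1
    exact RingHom.ext_int _ _
  · rw [HasRingHomProperty.Spec_iff (P := @LocallyOfFiniteType)]
    exact RingHom.finiteType_algebraMap.mpr inferInstance

end Groth.Agent.S1460
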