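import Groth.Statements.S14600
import Groth.Agent.H19SemiAb.Finite
import Groth.Agent.H19Grp.AntiAffineGroup

set_option autoImplicit false
universe u
open CategoryTheory MonoidalCategory CartesianMonoidalCategory MonObj GrpObj AlgebraicGeometry CategoryTheory.Limits
open AlgGrp

namespace Groth.Agent.S14600

set_option maxHeartbeats 1000000
set_option synthInstance.maxHeartbeats 400000
set_option backward.isDefEq.respectTransparency false
open Groth.Agent.H19SemiAb Groth.Agent.H25AbCube Groth.Agent.H19Quot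


/-- Let k be a field of characteristic p > 0 and G an anti-affine k-group scheme of finite type (O(G) =
k). Then G is a semi-abelian variety: there are a closed subgroup scheme i : T → G with T a torus
and a flat surjective homomorphism q : G → A with kernel T onto a proper smooth connected k-group
scheme A. -/
theorem result (k : Type u) [Field k] (p : ℕ) [Fact p.Prime] [CharP k p]
    (G : Over (Spec (CommRingCat.of k))) [GrpObj G] [LocallyOfFiniteType G.hom] [QuasiCompact G.hom]
    (hG : Function.Bijective ((Scheme.ΓSpecIso (CommRingCat.of k)).inv ≫ G.hom.appTop).hom) :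
    (∃ (T : Over (Spec (CommRingCat.of k))) (_ : GrpObj T) (i : T ⟶ G) (A : Over (Spec (CommRingCat.of k))) (_ : GrpObj A) (q : G ⟶ A),
        IsMonHom i ∧ IsClosedImmersion i.left ∧ Red.IsTorus T ∧ IsMonHom q ∧ Surjective q.left ∧ Flat q.left ∧
        AlgGrp.IsKernel i q ∧ IsProper A.hom ∧ Smooth A.hom ∧ ConnectedSpace ↥A.left) := by
  haveI : IsIso G.hom.appTop := by
    haveI : IsIso ((Scheme.ΓSpecIso (CommRingCat.of k)).inv ≫ G.hom.appTop) :=
      (ConcreteCategory.isIso_iff_bijective _).2 hG
    exact IsIso.of_isIso_comp_left (Scheme.ΓSpecIso (CommRingCat.of k)).inv G.hom.appTop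
  haveI : IsCommMonObj G := H19Grp.AntiAffineGroup.isCommMonObj G
  obtain ⟨n, S, gS, s, π, hn, hs, hsc, hπ, hπf, hπsu, hπp, hπs, hSA⟩ := exists_pow_image_isSA p G
  haveI := hs; haveI := hsc; haveI := hπ; haveI := hπf; haveI := hπsu; haveI := hπp
  haveI : Mono s := Over.mono_of_mono_left _
  obtain ⟨Q, gQ, c, hc, hQc, hQft, hcf, hcs, hcp, hkc⟩ := AbelianCat.exists_cokernel s ⟨inferInstance, inferInstance⟩
  haveI := hc; haveI := hQc; haveI := hcf; haveI := hcs; haveI := hcp; haveI := hQft.lft; haveI := hQft.qc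
  have hQn : ((𝟙 Q) ^ n : Q ⟶ Q) = 1 := by
    refine H19Chev.cancel_quotient c ?_
    rw [← H19Chev.id_pow_comp, ← hπs, Category.assoc, H19Grp.kernel_comp_eq_one hkc, MonObj.comp_one,
      MonObj.comp_one]
  haveI : IsSeparated Q.hom := H19Grp.AffineQuotient.isSeparated_of_grp Q
  haveI : Subsingleton (𝟙_ (Over (Spec (CommRingCat.of k)))).left := inferInstanceAs (Subsingleton (PrimeSpectrum k))
  haveI : IsClosedImmersion η[Q].left := isClosedImmersion_of_comp_eq_id _ _ (Over.w η[Q])
  haveI : IsAffineHom ((toUnit Q).left ≫ η[Q].left) := by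
    rw [← Over.comp_left, ← Hom.one_def, ← hQn]
    exact H19Chev.isAffineHom_pow Q hn
  haveI : IsAffineHom (toUnit Q).left := IsAffineHom.of_comp _ η[Q].left
  haveI : IsAffine Q.left := by
    haveI : IsAffine (𝟙_ (Over (Spec (CommRingCat.of k)))).left := inferInstanceAs (IsAffine (Spec (CommRingCat.of k)))
    exact isAffine_of_isAffineHom (toUnit Q).left
  have hc1 : c = 1 := H19Grp.AntiAffineGroup.eq_one_of_isAffine c (IsMonHom.one_hom (f := c))
  obtain ⟨z, hz⟩ := H19Grp.kernel_lift hkc (𝟙 G) (by rw [Category.id_comp, hc1])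
  haveI : IsIso s := ⟨z, by rw [← cancel_mono s, Category.assoc, hz, Category.comp_id, Category.id_comp], hz⟩
  obtain ⟨T, gT, i, A, gA, q, hi, hic, hT, hq, hqs, hqf, hkA, hAp, hAs, hAc⟩ := hSA
  haveI := hi; haveI := hic; haveI := hq; haveI := hqs; haveI := hqf
  haveI : IsIso s.left := inferInstanceAs (IsIso ((Over.forget _).map s))
  haveI : IsMonHom (asIso s).hom := ‹IsMonHom s›
  haveI : IsMonHom (inv s) := inferInstanceAs (IsMonHom (asIso s).inv)
  haveI : IsIso (inv s).left := inferInstanceAs (IsIso ((Over.forget _).map (inv s)))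
  refine ⟨T, gT, i ≫ s, A, gA, inv s ≫ q, inferInstance, by rw [Over.comp_left]; infer_instance, hT, inferInstance,
    by rw [Over.comp_left]; infer_instance, by rw [Over.comp_left]; infer_instance, ?_, hAp, hAs, hAc⟩
  refine H19Grp.isKernel_of ?_ (fun X a b hab => ?_) (fun X x hx => ?_)
  · rw [Category.assoc, IsIso.hom_inv_id_assoc, H19Grp.kernel_comp_eq_one hkA]
  · haveI := H19Grp.kernel_mono hkA
    exact (cancel_mono (i ≫ s)).1 hab
  · obtain ⟨y, hy⟩ := H19Grp.kernel_lift hkA (x ≫ inv s) (by rw [Category.assoc]; exact hx)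
    exact ⟨y, by rw [← Category.assoc, hy, Category.assoc, IsIso.inv_hom_id, Category.comp_id]⟩

end Groth.Agent.S14600
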