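import Groth.Statements.S14601
import Groth.Agent.H19SemiAb.Finite

set_option autoImplicit false
universe u
open CategoryTheory MonoidalCategory CartesianMonoidalCategory MonObj GrpObj AlgebraicGeometry CategoryTheory.Limits
open AlgGrp

namespace Groth.Agent.S14601

set_option maxHeartbeats 1000000
set_option synthInstance.maxHeartbeats 400000
set_option backward.isDefEq.respectTransparency false
open Groth.Agent.H19SemiAb Groth.Agent.H25AbCube Groth.Agent.H19Quot


/-- Let k be a field of characteristic p > 0, G a commutative k-group scheme of finite type and s : S →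
G its largest semi-abelian subvariety, i.e. a closed subgroup scheme which is an extension of a
proper smooth connected k-group scheme by a torus and through which every other such closed subgroup
scheme of G factors. Then (1) for every flat surjective homomorphism q : G → Q of k-group schemes of
finite type with kernel S, the group scheme Q has finite exponent: its n-th power endomorphism is
trivial for some n ≥ 1; and (2) there is a closed subgroup scheme h : H → G such that G = S · H, in
the sense that the multiplication S × H → G is flat and surjective, and S ∩ H = S ×_G H is finite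
over k. -/
theorem result (k : Type u) [Field k]
    (p : ℕ) [Fact p.Prime] [CharP k p]
    (G : Over (Spec (CommRingCat.of k))) [GrpObj G] [IsCommMonObj G] [LocallyOfFiniteType G.hom] [QuasiCompact G.hom]
    (S : Over (Spec (CommRingCat.of k))) [GrpObj S] (s : S ⟶ G) [IsMonHom s] [IsClosedImmersion s.left] (hS : (∃ (T : Over (Spec (CommRingCat.of k))) (_ : GrpObj T) (i : T ⟶ S) (A : Over (Spec (CommRingCat.of k))) (_ : GrpObj A) (q : S ⟶ A),
        IsMonHom i ∧ IsClosedImmersion i.left ∧ Red.IsTorus T ∧ IsMonHom q ∧ Surjective q.left ∧ Flat q.left ∧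
        AlgGrp.IsKernel i q ∧ IsProper A.hom ∧ Smooth A.hom ∧ ConnectedSpace ↥A.left))
    (hSmax : ∀ (S' : Over (Spec (CommRingCat.of k))) [GrpObj S'] (s' : S' ⟶ G) [IsMonHom s'] [IsClosedImmersion s'.left],
      (∃ (T : Over (Spec (CommRingCat.of k))) (_ : GrpObj T) (i : T ⟶ S') (A : Over (Spec (CommRingCat.of k))) (_ : GrpObj A) (q : S' ⟶ A),
        IsMonHom i ∧ IsClosedImmersion i.left ∧ Red.IsTorus T ∧ IsMonHom q ∧ Surjective q.left ∧ Flat q.left ∧
        AlgGrp.IsKernel i q ∧ IsProper A.hom ∧ Smooth A.hom ∧ ConnectedSpace ↥A.left) → ∃ g : S' ⟶ S, g ≫ s = s') :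
    (∀ (Q : Over (Spec (CommRingCat.of k))) [GrpObj Q] [LocallyOfFiniteType Q.hom] [QuasiCompact Q.hom] (q : G ⟶ Q) [IsMonHom q]
        [Surjective q.left] [Flat q.left], AlgGrp.IsKernel s q → ∃ n : ℕ, 0 < n ∧ (𝟙 Q) ^ n = 1) ∧
    ∃ (H : Over (Spec (CommRingCat.of k))) (_ : GrpObj H) (h : H ⟶ G), IsMonHom h ∧ IsClosedImmersion h.left ∧
      Flat ((s ⊗ₘ h) ≫ μ[G]).left ∧ Surjective ((s ⊗ₘ h) ≫ μ[G]).left ∧
      IsFinite (pullback.fst s.left h.left ≫ S.hom) := by
  obtain ⟨n, S', gS', s', π, hn, hs', hsc', hπ, -, -, -, hπs, hSA'⟩ := exists_pow_image_isSA p G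
  haveI := hs'; haveI := hsc'; haveI := hπ
  obtain ⟨g, hg⟩ := hSmax S' s' hSA'
  haveI : Mono s := Over.mono_of_mono_left _
  haveI : IsMonHom (g ≫ s) := hg ▸ hs'
  haveI : IsMonHom g := H19Chev.isMonHom_of_mono g s
  let π₂ : G ⟶ S := π ≫ g
  haveI : IsMonHom π₂ := inferInstance
  have hπ₂ : π₂ ≫ s = (𝟙 G) ^ n := by rw [Category.assoc, hg, hπs]
  refine ⟨fun Q gQ _ _ q _ _ _ hk => ⟨n, hn, ?_⟩, ?_⟩
  · haveI : IsNoetherianRing (CommRingCat.of k) := inferInstanceAs (IsNoetherianRing k)
    haveI : LocallyOfFinitePresentation q.left := by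
      haveI : IsLocallyNoetherian Q.left := LocallyOfFiniteType.isLocallyNoetherian Q.hom
      haveI : LocallyOfFiniteType q.left := by
        haveI : LocallyOfFiniteType (q.left ≫ Q.hom) := by rw [Over.w q]; infer_instance
        exact locallyOfFiniteType_of_comp q.left Q.hom
      infer_instance
    refine H19Chev.cancel_quotient q ?_
    rw [H19Chev.comp_id_pow, ← Category.id_comp q, ← post_pow, ← hπ₂, Category.assoc,
      H19Grp.kernel_comp_eq_one hk, MonObj.comp_one, MonObj.comp_one]
  haveI : IsNoetherianRing (CommRingCat.of k) := inferInstanceAs (IsNoetherianRing k)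
  haveI : LocallyOfFiniteType S.hom := by rw [← Over.w s]; infer_instance
  haveI : QuasiCompact S.hom := by rw [← Over.w s]; infer_instance
  haveI : IsSeparated S.hom := H19Grp.AffineQuotient.isSeparated_of_grp S
  haveI : IsCommMonObj S := AbelianCat.comm_of_mono s
  obtain ⟨hfin, hflat⟩ := IsSA.isFinite_pow (G := S) hS hn
  haveI := hfin; haveI := hflat
  haveI : Surjective ((𝟙 S) ^ n : S ⟶ S).left := IsSA.surjective_pow (G := S) hS hn
  have hsπ : s ≫ π₂ = (𝟙 S) ^ n := by
    rw [← cancel_mono s, Category.assoc, hπ₂, H19Chev.comp_id_pow, post_pow, Category.id_comp]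
  obtain ⟨H, gH, h, hh, hhc, hkH⟩ := H19Grp.AffineQuotient.exists_kernel π₂
  haveI := hh; haveI := hhc
  haveI : LocallyOfFiniteType H.hom := by rw [← Over.w h]; infer_instance
  haveI : QuasiCompact H.hom := by rw [← Over.w h]; infer_instance
  refine ⟨H, gH, h, hh, hhc, ?_⟩
  -- the product map
  let f : S ⊗ H ⟶ G := (s ⊗ₘ h) ≫ μ[G]
  haveI : IsMonHom f := inferInstance
  haveI : LocallyOfFiniteType (S ⊗ H).hom :=
    inferInstanceAs (LocallyOfFiniteType (pullback.fst S.hom H.hom ≫ S.hom))
  haveI : QuasiCompact (S ⊗ H).hom := inferInstanceAs (QuasiCompact (pullback.fst S.hom H.hom ≫ S.hom))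
  obtain ⟨C, gC, pC, i, hpC, hi, hpi, hpf, hps, hpp, hic⟩ :=
    AbelianCat.exists_image f ⟨inferInstance, inferInstance⟩ ⟨inferInstance, inferInstance⟩
  haveI := hi; haveI := hpf; haveI := hps; haveI := hic
  haveI : Mono i := Over.mono_of_mono_left _
  obtain ⟨Q, gQ, c, hc, hQc, hQft, hcf, hcs, hcp, hkc⟩ := AbelianCat.exists_cokernel i ⟨inferInstance, inferInstance⟩
  haveI := hc
  have hf1 : f ≫ c = 1 := by rw [← hpi, Category.assoc, H19Grp.kernel_comp_eq_one hkc, MonObj.comp_one]
  have hs1 : s ≫ c = 1 := by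
    have e : lift (𝟙 S) (1 : S ⟶ H) ≫ f = s := by
      show lift (𝟙 S) (1 : S ⟶ H) ≫ (s ⊗ₘ h) ≫ μ[G] = s
      rw [← Category.assoc, lift_map, ← Hom.mul_def, Category.id_comp, MonObj.one_comp, _root_.mul_one]
    rw [← e, Category.assoc, hf1, MonObj.comp_one]
  have hh1 : h ≫ c = 1 := by
    have e : lift (1 : H ⟶ S) (𝟙 H) ≫ f = h := by
      show lift (1 : H ⟶ S) (𝟙 H) ≫ (s ⊗ₘ h) ≫ μ[G] = h
      rw [← Category.assoc, lift_map, ← Hom.mul_def, Category.id_comp, MonObj.one_comp, _root_.one_mul]
    rw [← e, Category.assoc, hf1, MonObj.comp_one]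
  let P : Over (Spec (CommRingCat.of k)) :=
    Over.mk (pullback.fst π₂.left ((𝟙 S) ^ n : S ⟶ S).left ≫ G.hom)
  let a : P ⟶ G := Over.homMk (pullback.fst π₂.left ((𝟙 S) ^ n : S ⟶ S).left) rfl
  have hab : pullback.fst π₂.left ((𝟙 S) ^ n : S ⟶ S).left ≫ π₂.left =
      pullback.snd π₂.left ((𝟙 S) ^ n : S ⟶ S).left ≫ ((𝟙 S) ^ n : S ⟶ S).left := pullback.condition
  let b : P ⟶ S := Over.homMk (pullback.snd π₂.left ((𝟙 S) ^ n : S ⟶ S).left) (by
    show _ = pullback.fst π₂.left ((𝟙 S) ^ n : S ⟶ S).left ≫ G.hom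
    rw [← Over.w π₂, ← Category.assoc, hab, Category.assoc, Over.w])
  have hab' : a ≫ π₂ = b ≫ ((𝟙 S) ^ n : S ⟶ S) := Over.OverMorphism.ext hab
  haveI : Flat a.left := MorphismProperty.pullback_fst (P := @Flat) _ _ hflat
  haveI : Surjective a.left := MorphismProperty.pullback_fst (P := @Surjective) _ _ inferInstance
  haveI : LocallyOfFinitePresentation a.left := by
    haveI : IsLocallyNoetherian G.left := LocallyOfFiniteType.isLocallyNoetherian G.hom
    haveI : LocallyOfFiniteType a.left := MorphismProperty.pullback_fst (P := @LocallyOfFiniteType) _ _ inferInstance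
    infer_instance
  obtain ⟨v, hv⟩ := H19Grp.kernel_lift hkH (a * (b ≫ s)⁻¹) (by
    rw [MonObj.mul_comp, GrpObj.inv_comp, hab', Category.assoc, hsπ, mul_inv_cancel])
  have hc1 : c = 1 := H19Chev.cancel_quotient a (by
    rw [← inv_mul_cancel_right a (b ≫ s), MonObj.mul_comp, ← hv, Category.assoc, hh1, MonObj.comp_one, Category.assoc,
      hs1, MonObj.comp_one, _root_.one_mul, MonObj.comp_one])
  obtain ⟨z, hz⟩ := H19Grp.kernel_lift hkc (𝟙 G) (by rw [Category.id_comp, hc1])
  haveI : IsIso i := ⟨z, by rw [← cancel_mono i, Category.assoc, hz, Category.comp_id, Category.id_comp], hz⟩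
  haveI : IsIso i.left := inferInstanceAs (IsIso ((Over.forget _).map i))
  refine ⟨?_, ?_, ?_⟩
  · show Flat f.left
    rw [← hpi, Over.comp_left]; infer_instance
  · show Surjective f.left
    rw [← hpi, Over.comp_left]; infer_instance
  -- the intersection
  let D : Over (Spec (CommRingCat.of k)) := Over.mk (pullback.fst s.left h.left ≫ S.hom)
  let u : D ⟶ S := Over.homMk (pullback.fst s.left h.left) rfl
  let w : D ⟶ H := Over.homMk (pullback.snd s.left h.left) (by
    show _ = pullback.fst s.left h.left ≫ S.hom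
    rw [← Over.w s, ← Category.assoc, pullback.condition, Category.assoc, Over.w h])
  have huw : u ≫ s = w ≫ h := Over.OverMorphism.ext pullback.condition
  have hu1 : u ≫ ((𝟙 S) ^ n : S ⟶ S) = toUnit D ≫ η[S] := by
    rw [← hsπ, ← Category.assoc, huw, Category.assoc, H19Grp.kernel_comp_eq_one hkH, MonObj.comp_one, Hom.one_def]
  haveI : IsClosedImmersion u.left := MorphismProperty.pullback_fst (P := @IsClosedImmersion) _ _ hhc
  haveI : IsFinite ((toUnit D).left ≫ η[S].left) := by
    rw [← Over.comp_left, ← hu1, Over.comp_left]; infer_instance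
  haveI : Subsingleton (𝟙_ (Over (Spec (CommRingCat.of k)))).left := inferInstanceAs (Subsingleton (PrimeSpectrum k))
  haveI : IsClosedImmersion η[S].left := isClosedImmersion_of_comp_eq_id _ _ (Over.w η[S])
  haveI hD : IsFinite (toUnit D).left := IsFinite.of_comp _ η[S].left
  show IsFinite D.hom
  rwa [← show (toUnit D).left = D.hom from (Category.comp_id _).symm.trans (Over.w (toUnit D))]

end Groth.Agent.S14601
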