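import Groth.Statements.S14602
import Groth.Agent.H19SemiAb.Max

set_option autoImplicit false
universe u
open CategoryTheory MonoidalCategory CartesianMonoidalCategory MonObj GrpObj AlgebraicGeometry CategoryTheory.Limits
open AlgGrp

namespace Groth.Agent.S14602

set_option maxHeartbeats 1000000
set_option synthInstance.maxHeartbeats 400000
set_option backward.isDefEq.respectTransparency false
open Groth.Agent.H19SemiAb Groth.Agent.H25AbCube Groth.Agent.H19Quot


/-- Let k be a field and G a commutative k-group scheme of finite type. Then G has a largest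
semi-abelian subvariety: a closed subgroup scheme s : S → G which is an extension of a proper smooth
connected k-group scheme by a torus, through which every other such closed subgroup scheme of G
factors; and (G/S)_sab is trivial: for every flat surjective homomorphism q : G → Q of k-group
schemes of finite type with kernel S, every semi-abelian closed subgroup scheme of Q is the trivial
group. -/
theorem result (k : Type u) [Field k]
    (G : Over (Spec (CommRingCat.of k))) [GrpObj G] [IsCommMonObj G] [LocallyOfFiniteType G.hom] [QuasiCompact G.hom] :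
    ∃ (S : Over (Spec (CommRingCat.of k))) (_ : GrpObj S) (s : S ⟶ G), IsMonHom s ∧ IsClosedImmersion s.left ∧ (∃ (T : Over (Spec (CommRingCat.of k))) (_ : GrpObj T) (i : T ⟶ S) (A : Over (Spec (CommRingCat.of k))) (_ : GrpObj A) (q : S ⟶ A),
        IsMonHom i ∧ IsClosedImmersion i.left ∧ Red.IsTorus T ∧ IsMonHom q ∧ Surjective q.left ∧ Flat q.left ∧
        AlgGrp.IsKernel i q ∧ IsProper A.hom ∧ Smooth A.hom ∧ ConnectedSpace ↥A.left) ∧
      (∀ (S' : Over (Spec (CommRingCat.of k))) [GrpObj S'] (s' : S' ⟶ G) [IsMonHom s'] [IsClosedImmersion s'.left],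
        (∃ (T : Over (Spec (CommRingCat.of k))) (_ : GrpObj T) (i : T ⟶ S') (A : Over (Spec (CommRingCat.of k))) (_ : GrpObj A) (q : S' ⟶ A),
        IsMonHom i ∧ IsClosedImmersion i.left ∧ Red.IsTorus T ∧ IsMonHom q ∧ Surjective q.left ∧ Flat q.left ∧
        AlgGrp.IsKernel i q ∧ IsProper A.hom ∧ Smooth A.hom ∧ ConnectedSpace ↥A.left) → ∃ g : S' ⟶ S, g ≫ s = s') ∧
      (∀ (Q : Over (Spec (CommRingCat.of k))) [GrpObj Q] [LocallyOfFiniteType Q.hom] [QuasiCompact Q.hom] (q : G ⟶ Q) [IsMonHom q]
        [Surjective q.left] [Flat q.left], AlgGrp.IsKernel s q →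
        ∀ (S'' : Over (Spec (CommRingCat.of k))) [GrpObj S''] (s'' : S'' ⟶ Q) [IsMonHom s''] [IsClosedImmersion s''.left],
          (∃ (T : Over (Spec (CommRingCat.of k))) (_ : GrpObj T) (i : T ⟶ S'') (A : Over (Spec (CommRingCat.of k))) (_ : GrpObj A) (q : S'' ⟶ A),
        IsMonHom i ∧ IsClosedImmersion i.left ∧ Red.IsTorus T ∧ IsMonHom q ∧ Surjective q.left ∧ Flat q.left ∧
        AlgGrp.IsKernel i q ∧ IsProper A.hom ∧ Smooth A.hom ∧ ConnectedSpace ↥A.left) → IsIso η[S'']) := by
  obtain ⟨S, gS, s, hs, hsc, hS, hmax⟩ := exists_largest G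
  haveI := hs; haveI := hsc
  refine ⟨S, gS, s, hs, hsc, hS, fun S' gS' s' hs' hsc' hS' => ?_, fun Q gQ _ _ q hq _ _ hk S'' gS'' s'' hs'' hsc'' hS'' => ?_⟩
  · haveI := hs'; haveI := hsc'
    haveI : LocallyOfFiniteType S'.hom := by rw [← Over.w s']; infer_instance
    haveI : QuasiCompact S'.hom := by rw [← Over.w s']; infer_instance
    obtain ⟨Q, gQ, c, hc, hQc, hQft, hcf, hcs, hcp, hk⟩ := AbelianCat.exists_cokernel s ⟨inferInstance, inferInstance⟩
    haveI := hc; haveI := hcf; haveI := hcs; haveI := hcp; haveI := hQft.lft; haveI := hQft.qc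
    obtain ⟨C, gC, p, i, hp, hi, hpi, hpf, hps, hpp, hic⟩ :=
      AbelianCat.exists_image (s' ≫ c) ⟨inferInstance, inferInstance⟩ ⟨inferInstance, inferInstance⟩
    haveI := hp; haveI := hi; haveI := hpf; haveI := hps; haveI := hpp; haveI := hic
    haveI : LocallyOfFiniteType C.hom := by rw [← Over.w i]; infer_instance
    haveI : QuasiCompact C.hom := by rw [← Over.w i]; infer_instance
    have h1 := eq_one_of_max s hS hmax c hk i (IsSA.of_surjective (G := S') hS' p)
    exact H19Grp.kernel_lift hk s' (by rw [← hpi, h1, MonObj.comp_one])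
  · haveI := hq; haveI := hs''; haveI := hsc''
    haveI : Mono s'' := Over.mono_of_mono_left _
    have h1 := eq_one_of_max s hS hmax q hk s'' hS''
    exact ⟨toUnit S'', toUnit_unique _ _, by
      rw [← cancel_mono s'', Category.assoc, IsMonHom.one_hom, ← Hom.one_def, Category.id_comp, h1]⟩

end Groth.Agent.S14602
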