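import Groth.Statements.S14603
import Groth.Agent.H19SemiAb.Finite

set_option autoImplicit false
universe u
open CategoryTheory MonoidalCategory CartesianMonoidalCategory MonObj GrpObj AlgebraicGeometry CategoryTheory.Limits
open AlgGrp

namespace Groth.Agent.S14603

set_option maxHeartbeats 1000000
set_option synthInstance.maxHeartbeats 400000
set_option backward.isDefEq.respectTransparency false
open Groth.Agent.H19SemiAb


/-- Let k be a field of characteristic p > 0 and G a commutative k-group scheme of finite type. Then
G_sab is trivial — every closed subgroup scheme of G which is an extension of a proper smooth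
connected k-group scheme by a torus is the trivial group — exactly when, for some positive integer
n, multiplication by n on G (the map n_G) is zero (G has finite exponent). (A third equivalent
condition, that G is affine with finite largest subgroup of multiplicative type, is not stated
here.) -/
theorem result (k : Type u) [Field k] (p : ℕ) [Fact p.Prime] [CharP k p]
    (G : Over (Spec (CommRingCat.of k))) [GrpObj G] [IsCommMonObj G] [LocallyOfFiniteType G.hom] [QuasiCompact G.hom] :
    (∀ (S : Over (Spec (CommRingCat.of k))) [GrpObj S] (s : S ⟶ G) [IsMonHom s] [IsClosedImmersion s.left],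
        (∃ (T : Over (Spec (CommRingCat.of k))) (_ : GrpObj T) (i : T ⟶ S) (A : Over (Spec (CommRingCat.of k))) (_ : GrpObj A) (q : S ⟶ A),
        IsMonHom i ∧ IsClosedImmersion i.left ∧ Red.IsTorus T ∧ IsMonHom q ∧ Surjective q.left ∧ Flat q.left ∧
        AlgGrp.IsKernel i q ∧ IsProper A.hom ∧ Smooth A.hom ∧ ConnectedSpace ↥A.left) → IsIso η[S]) ↔
    ∃ n : ℕ, 0 < n ∧ (𝟙 G) ^ n = 1 := by
  constructor
  · intro h
    obtain ⟨n, S, gS, s, π, hn, hs, hsc, hπ, -, -, -, hπs, hSA⟩ := exists_pow_image_isSA p G
    haveI := hs; haveI := hsc
    haveI : IsIso η[S] := h S s hSA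
    refine ⟨n, hn, ?_⟩
    have h1 : (𝟙 S) = (1 : S ⟶ S) := by
      rw [Hom.one_def]
      have e : (η[S]) ≫ toUnit S = 𝟙 _ := toUnit_unique _ _
      rw [← cancel_epi η[S], ← Category.assoc, e, Category.id_comp, Category.comp_id]
    rw [← hπs, ← Category.id_comp s, h1, MonObj.one_comp, MonObj.comp_one]
  · rintro ⟨n, hn, h1⟩ S gS s hs hsc hSA
    haveI : Mono s := Over.mono_of_mono_left _
    haveI : LocallyOfFiniteType S.hom := by rw [← Over.w s]; infer_instance
    haveI : QuasiCompact S.hom := by rw [← Over.w s]; infer_instance
    obtain ⟨hsm, -, hcm⟩ := IsSA.props (G := S) hSA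
    haveI := hsm; haveI := hcm
    have hS1 : ((𝟙 S) ^ n : S ⟶ S) = 1 := by
      rw [← cancel_mono s, post_pow, Category.id_comp, ← H19Chev.comp_id_pow, h1, MonObj.comp_one, MonObj.one_comp]
    haveI hsurj : Surjective (1 : S ⟶ S).left := hS1 ▸ IsSA.surjective_pow (G := S) hSA hn
    rw [Hom.one_def, Over.comp_left] at hsurj
    haveI : Surjective η[S].left := Surjective.of_comp (toUnit S).left _
    haveI : IsSeparated S.hom := H19Grp.AffineQuotient.isSeparated_of_grp S
    haveI : Subsingleton (𝟙_ (Over (Spec (CommRingCat.of k)))).left := inferInstanceAs (Subsingleton (PrimeSpectrum k))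
    haveI : IsClosedImmersion η[S].left := isClosedImmersion_of_comp_eq_id _ _ (Over.w η[S])
    haveI : IsReduced S.left := H19Chev.isReduced_smooth
    haveI : IsIso η[S].left := isIso_of_isClosedImmersion_of_surjective _
    haveI : IsIso ((Over.forget _).map η[S]) := ‹IsIso η[S].left›
    exact isIso_of_reflects_iso η[S] (Over.forget _)

end Groth.Agent.S14603
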