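import Groth.Statements.S14605
import Groth.Agent.H19SemiAb.Image
import Groth.Agent.H19SemiAb.Quot

set_option autoImplicit false
universe u
open CategoryTheory MonoidalCategory CartesianMonoidalCategory MonObj GrpObj AlgebraicGeometry CategoryTheory.Limits
open AlgGrp

namespace Groth.Agent.S14605

set_option maxHeartbeats 1000000
set_option synthInstance.maxHeartbeats 400000
set_option backward.isDefEq.respectTransparency false
open Groth.Agent.H19SemiAb Groth.Agent.H25AbCube Groth.Agent.H19Quot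


/-- Let k be a field of characteristic p > 0, G a commutative k-group scheme of finite type, h : H → G a
closed subgroup scheme and q : G → Q a flat surjective homomorphism of k-group schemes of finite
type with kernel H (Q = G/H). Let s : S → G and s' : S' → Q be the largest semi-abelian subvarieties
of G and of Q (closed subgroup schemes which are extensions of a proper smooth connected k-group
scheme by a torus, through which every other such closed subgroup scheme factors). Then q maps S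
onto S': the image of S → G → Q equals the underlying set of S'. Since S' is smooth, this is the
statement that G_sab/(G_sab ∩ H) → (G/H)_sab is an isomorphism. -/
theorem result (k : Type u) [Field k] (p : ℕ) [Fact p.Prime] [CharP k p]
    (G : Over (Spec (CommRingCat.of k))) [GrpObj G] [IsCommMonObj G] [LocallyOfFiniteType G.hom] [QuasiCompact G.hom]
    (H : Over (Spec (CommRingCat.of k))) [GrpObj H] (h : H ⟶ G) [IsMonHom h] [IsClosedImmersion h.left]
    (Q : Over (Spec (CommRingCat.of k))) [GrpObj Q] [LocallyOfFiniteType Q.hom] [QuasiCompact Q.hom]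
    (q : G ⟶ Q) [IsMonHom q] [Surjective q.left] [Flat q.left] (hq : AlgGrp.IsKernel h q)
    (S : Over (Spec (CommRingCat.of k))) [GrpObj S] (s : S ⟶ G) [IsMonHom s] [IsClosedImmersion s.left] (hS : (∃ (T : Over (Spec (CommRingCat.of k))) (_ : GrpObj T) (i : T ⟶ S) (A : Over (Spec (CommRingCat.of k))) (_ : GrpObj A) (q : S ⟶ A),
        IsMonHom i ∧ IsClosedImmersion i.left ∧ Red.IsTorus T ∧ IsMonHom q ∧ Surjective q.left ∧ Flat q.left ∧
        AlgGrp.IsKernel i q ∧ IsProper A.hom ∧ Smooth A.hom ∧ ConnectedSpace ↥A.left))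
    (hSmax : ∀ (S₁ : Over (Spec (CommRingCat.of k))) [GrpObj S₁] (s₁ : S₁ ⟶ G) [IsMonHom s₁] [IsClosedImmersion s₁.left],
      (∃ (T : Over (Spec (CommRingCat.of k))) (_ : GrpObj T) (i : T ⟶ S₁) (A : Over (Spec (CommRingCat.of k))) (_ : GrpObj A) (q : S₁ ⟶ A),
        IsMonHom i ∧ IsClosedImmersion i.left ∧ Red.IsTorus T ∧ IsMonHom q ∧ Surjective q.left ∧ Flat q.left ∧
        AlgGrp.IsKernel i q ∧ IsProper A.hom ∧ Smooth A.hom ∧ ConnectedSpace ↥A.left) → ∃ g : S₁ ⟶ S, g ≫ s = s₁)
    (S' : Over (Spec (CommRingCat.of k))) [GrpObj S'] (s' : S' ⟶ Q) [IsMonHom s'] [IsClosedImmersion s'.left] (hS' : (∃ (T : Over (Spec (CommRingCat.of k))) (_ : GrpObj T) (i : T ⟶ S') (A : Over (Spec (CommRingCat.of k))) (_ : GrpObj A) (q : S' ⟶ A),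
        IsMonHom i ∧ IsClosedImmersion i.left ∧ Red.IsTorus T ∧ IsMonHom q ∧ Surjective q.left ∧ Flat q.left ∧
        AlgGrp.IsKernel i q ∧ IsProper A.hom ∧ Smooth A.hom ∧ ConnectedSpace ↥A.left))
    (hS'max : ∀ (S₁ : Over (Spec (CommRingCat.of k))) [GrpObj S₁] (s₁ : S₁ ⟶ Q) [IsMonHom s₁] [IsClosedImmersion s₁.left],
      (∃ (T : Over (Spec (CommRingCat.of k))) (_ : GrpObj T) (i : T ⟶ S₁) (A : Over (Spec (CommRingCat.of k))) (_ : GrpObj A) (q : S₁ ⟶ A),
        IsMonHom i ∧ IsClosedImmersion i.left ∧ Red.IsTorus T ∧ IsMonHom q ∧ Surjective q.left ∧ Flat q.left ∧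
        AlgGrp.IsKernel i q ∧ IsProper A.hom ∧ Smooth A.hom ∧ ConnectedSpace ↥A.left) → ∃ g : S₁ ⟶ S', g ≫ s' = s₁) :
    Set.range ⇑(s ≫ q).left.base = Set.range ⇑s'.left.base := by
  haveI : IsNoetherianRing (CommRingCat.of k) := inferInstanceAs (IsNoetherianRing k)
  haveI : IsCommMonObj Q := by
    haveI : LocallyOfFinitePresentation q.left :=
      (AbelianCat.props_hom q ⟨inferInstance, inferInstance⟩ ⟨inferInstance, inferInstance⟩).2.2
    exact H19Chev.isCommMonObj_of_quotient q
  haveI : Mono s := Over.mono_of_mono_left _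
  haveI : Mono s' := Over.mono_of_mono_left _
  haveI : LocallyOfFiniteType S.hom := by rw [← Over.w s]; infer_instance
  haveI : QuasiCompact S.hom := by rw [← Over.w s]; infer_instance
  haveI : LocallyOfFiniteType S'.hom := by rw [← Over.w s']; infer_instance
  haveI : QuasiCompact S'.hom := by rw [← Over.w s']; infer_instance
  apply Set.Subset.antisymm
  · obtain ⟨C, gC, p₁, i, hp, hi, hpi, hpf, hps, hpp, hic⟩ :=
      AbelianCat.exists_image (s ≫ q) ⟨inferInstance, inferInstance⟩ ⟨inferInstance, inferInstance⟩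
    haveI := hp; haveI := hi; haveI := hpf; haveI := hps; haveI := hpp; haveI := hic
    haveI : LocallyOfFiniteType C.hom := by rw [← Over.w i]; infer_instance
    haveI : QuasiCompact C.hom := by rw [← Over.w i]; infer_instance
    obtain ⟨g, hg⟩ := hS'max C i (IsSA.of_surjective (G := S) hS p₁)
    rintro _ ⟨x, rfl⟩
    refine ⟨(p₁ ≫ g).left x, ?_⟩
    rw [← Scheme.Hom.comp_apply, ← Over.comp_left, Category.assoc, hg, hpi]
  · obtain ⟨n, S₁, gS₁, s₁, π, hn, hs₁, hsc₁, hπ, -, -, -, hπs, hSA₁⟩ := exists_pow_image_isSA p G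
    haveI := hs₁; haveI := hsc₁; haveI := hπ
    obtain ⟨g, hg⟩ := hSmax S₁ s₁ hSA₁
    haveI := (IsSA.props (G := S') hS').2.2
    haveI : Surjective ((𝟙 S') ^ n : S' ⟶ S').left := IsSA.surjective_pow (G := S') hS' hn
    rintro _ ⟨x, rfl⟩
    obtain ⟨y, hy⟩ := ((𝟙 S') ^ n : S' ⟶ S').left.surjective x
    obtain ⟨z, hz⟩ := q.left.surjective (s'.left y)
    refine ⟨(π ≫ g).left z, ?_⟩
    rw [← hy, ← Scheme.Hom.comp_apply, ← Scheme.Hom.comp_apply, ← Over.comp_left, ← Over.comp_left]
    have e1 : (π ≫ g) ≫ s ≫ q = q ≫ ((𝟙 Q) ^ n : Q ⟶ Q) := by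
      rw [← Category.assoc, Category.assoc π g s, hg, hπs, H19Chev.id_pow_comp]
    rw [e1, H19Chev.id_pow_comp s', Over.comp_left, Over.comp_left, Scheme.Hom.comp_apply,
      Scheme.Hom.comp_apply, hz]

end Groth.Agent.S14605
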