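import Groth.Statements.S14606
import Mathlib

set_option autoImplicit false
universe u
open FrobAlg
open scoped TensorProduct

namespace Groth.Agent.S14606

/-- Let k be a field of characteristic p > 0 and R a finitely generated commutative k-algebra. The
scheme-theoretic image of the n-th relative Frobenius morphism of Spec R is the spectrum of the
k-subalgebra k[R^(p^n)] generated by all p^n-th powers; for n large enough this image is
geometrically reduced: there is an n such that k[R^(p^n)] is a geometrically reduced k-algebra.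
(Stated in affine, ring-theoretic form.) -/
theorem result (k : Type u) [Field k] (p : ℕ) [Fact p.Prime] [CharP k p]
    (R : Type u) [CommRing R] [Algebra k R] [Algebra.FiniteType k R] :
    ∃ n : ℕ, Algebra.IsGeometricallyReduced k ↥(Algebra.adjoin k (Set.range (fun x : R => x ^ (p ^ n)))) := by
  classical
  have hp := (Fact.out : p.Prime)
  let K := AlgebraicClosure k
  haveI : CharP K p := charP_of_injective_algebraMap (algebraMap k K).injective p
  haveI : PerfectRing K p := PerfectField.toPerfectRing p
  let B := K ⊗[k] R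
  haveI : IsNoetherianRing B := Algebra.FiniteType.isNoetherianRing K B
  obtain ⟨n₀, hn₀⟩ := IsNoetherianRing.isNilpotent_nilradical B
  have hpow : ∀ (N : ℕ) (y : B), N = p ^ n₀ → IsNilpotent (y ^ N) → y ^ N = 0 := by
    intro N y hN hy
    have hy' : y ∈ nilradical B := by
      obtain ⟨j, hj⟩ := hy
      exact ⟨N * j, by rw [pow_mul, hj]; exact Ideal.zero_mem _⟩
    have h := Ideal.pow_mem_pow hy' n₀
    rw [hn₀, Submodule.zero_eq_bot, Ideal.mem_bot] at h
    exact pow_eq_zero_of_le (hN ▸ (Nat.lt_pow_self hp.one_lt).le) h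
  refine ⟨n₀, ?_⟩
  let S := Algebra.adjoin k (Set.range (fun x : R => x ^ (p ^ n₀)))
  rw [Algebra.isGeometricallyReduced_field_iff]
  have hinj : Function.Injective (Algebra.TensorProduct.map (AlgHom.id K K) S.val) := by
    have h := Module.Flat.lTensor_preserves_injective_linearMap (M := K) S.val.toLinearMap Subtype.val_injective
    exact h
  rcases subsingleton_or_nontrivial B with hB | hB
  · exact isReduced_of_injective _ hinj
  haveI : CharP B p := charP_of_injective_algebraMap (algebraMap K B).injective p
  have hroot : ∀ z : K ⊗[k] S, ∃ y : B, Algebra.TensorProduct.map (AlgHom.id K K) S.val z = y ^ p ^ n₀ := by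
    intro z
    induction z using TensorProduct.induction_on with
    | zero => exact ⟨0, by rw [map_zero, zero_pow (pow_ne_zero _ hp.ne_zero)]⟩
    | tmul c s =>
      obtain ⟨s, hs⟩ := s
      have hroot1 : ∃ y : B, (1 : K) ⊗ₜ[k] s = y ^ p ^ n₀ := by
        induction hs using Algebra.adjoin_induction with
        | mem x hx =>
          obtain ⟨x, rfl⟩ := hx
          exact ⟨1 ⊗ₜ x, by rw [Algebra.TensorProduct.tmul_pow, one_pow]⟩
        | algebraMap r =>
          refine ⟨((iterateFrobeniusEquiv K p n₀).symm (algebraMap k K r)) ⊗ₜ 1, ?_⟩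
          rw [Algebra.TensorProduct.tmul_pow, one_pow,
            show ((iterateFrobeniusEquiv K p n₀).symm (algebraMap k K r)) ^ p ^ n₀ = algebraMap k K r from
              (iterateFrobeniusEquiv K p n₀).apply_symm_apply _, Algebra.algebraMap_eq_smul_one,
            Algebra.algebraMap_eq_smul_one, TensorProduct.smul_tmul]
        | add x y _ _ hx hy =>
          obtain ⟨a, ha⟩ := hx
          obtain ⟨b, hb⟩ := hy
          exact ⟨a + b, by rw [add_pow_char_pow, TensorProduct.tmul_add, ha, hb]⟩
        | mul x y _ _ hx hy =>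
          obtain ⟨a, ha⟩ := hx
          obtain ⟨b, hb⟩ := hy
          exact ⟨a * b, by rw [mul_pow, ← ha, ← hb, Algebra.TensorProduct.tmul_mul_tmul, one_mul]⟩
      obtain ⟨y, hy⟩ := hroot1
      refine ⟨((iterateFrobeniusEquiv K p n₀).symm c ⊗ₜ 1) * y, ?_⟩
      rw [Algebra.TensorProduct.map_tmul, mul_pow, ← hy, Algebra.TensorProduct.tmul_pow, one_pow,
        show ((iterateFrobeniusEquiv K p n₀).symm c) ^ p ^ n₀ = c from
          (iterateFrobeniusEquiv K p n₀).apply_symm_apply _, Algebra.TensorProduct.tmul_mul_tmul, mul_one, one_mul]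
      rfl
    | add a b ha hb =>
      obtain ⟨y, hy⟩ := ha
      obtain ⟨y', hy'⟩ := hb
      exact ⟨y + y', by rw [map_add, hy, hy', add_pow_char_pow]⟩
  refine ⟨fun z hz => hinj ?_⟩
  obtain ⟨y, hy⟩ := hroot z
  rw [map_zero, hy]
  exact hpow _ y rfl (hy ▸ hz.map _)

end Groth.Agent.S14606
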