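import Groth.Statements.S14607
import Groth.Agent.H12Pic.AffineLinePic
import Groth.Agent.H25Theta.Cls

set_option autoImplicit false
set_option backward.isDefEq.respectTransparency.types false
universe u
open CategoryTheory AlgebraicGeometry CategoryTheory.Limits
open PicF

namespace Groth.Agent.S14607

/-- Let k be a field and X an integral, separated k-scheme of finite type which is seminormal, in the
sense that every point has an affine open neighbourhood whose ring of functions is seminormal (x³ =
y² implies x = a² and y = a³ for exactly one a). Then the pull-back along the first projection X ×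
A¹ → X induces a bijection from the isomorphism classes of invertible O_X-modules onto those of
invertible modules on X × A¹, i.e. Pic(X) → Pic(X × A¹) is an isomorphism. (This is the assertion
established in the course of the published proof, which deduces from it that the Picard variety of a
geometrically semi-normal proper variety is semi-abelian; semi-normality is taken in the
ring-theoretic form used by the cited input on Picard groups of polynomial rings.) -/
theorem result (k : Type u) [Field k]
    (X : Scheme.{u}) (f : X ⟶ Spec (CommRingCat.of k)) [IsIntegral X] [IsSeparated f] [LocallyOfFiniteType f] [QuasiCompact f]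
    (hX : HTop.IsSeminormal X) :
    Set.BijOn (PicF.pullCl (pullback.fst f (𝔸(PUnit.{u + 1}; Spec (CommRingCat.of k)) ↘ Spec (CommRingCat.of k))))
      {c : PicF.Cl X | PicF.IsInvertibleCl c}
      {c : PicF.Cl (pullback f (𝔸(PUnit.{u + 1}; Spec (CommRingCat.of k)) ↘ Spec (CommRingCat.of k))) | PicF.IsInvertibleCl c} := by
  let p := H12Pic.AffineLinePic.prA f
  let z := H12Pic.AffineLinePic.zeroA f
  have hzp : ∀ c : PicF.Cl X, PicF.pullCl z (PicF.pullCl p c) = c := fun c => by
    rw [← H17.PullCl.pullCl_comp, H12Pic.AffineLinePic.zeroA_prA]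
    exact H17.PullCl.pullCl_id c
  refine ⟨fun c hc => H17.PullCl.isInvertibleCl_pullCl p hc, fun c _ d _ h => ?_, fun c hc => ?_⟩
  · rw [← hzp c, ← hzp d]
    exact congrArg (PicF.pullCl z) h
  obtain ⟨M, rfl, hM⟩ := hc
  have hL : PicF.IsInvertible ((Scheme.Modules.pullback z).obj M) := H11Ample.isInvertible_pullback _ hM
  obtain ⟨K, hK, ⟨eK⟩⟩ := H11Sym.exists_inverse hL
  refine ⟨_, ⟨_, rfl, hL⟩, ?_⟩
  let N := CohB1.tensorMod M ((Scheme.Modules.pullback p).obj K)
  have hN : PicF.IsInvertible N := H11Ample.isInvertible_tensor hM (H11Ample.isInvertible_pullback _ hK)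
  have hz : H25Theta.pull z (H25Theta.cls N) = 1 := by
    rw [H25Theta.cls_tensor, map_mul, ← H25Theta.pull_cls p K,
      show H25Theta.pull z (H25Theta.pull p (H25Theta.cls K)) = H25Theta.cls K from hzp (PicF.cl K),
      H25Theta.pull_cls, mul_comm, ← H25Theta.cls_tensor, H25Theta.cls_eq.2 ⟨eK⟩, H25Theta.cls_structureModule]
  obtain ⟨η⟩ := H25Theta.cls_eq.1 (hz.trans H25Theta.cls_structureModule.symm)
  obtain ⟨e⟩ := H12Pic.AffineLinePic.trivial_of_zero f hX hN η
  show H25Theta.pull p (H25Theta.cls ((Scheme.Modules.pullback z).obj M)) = H25Theta.cls M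
  have h1 : H25Theta.cls M * H25Theta.pull p (H25Theta.cls K) = 1 := by
    rw [H25Theta.pull_cls, ← H25Theta.cls_tensor, H25Theta.cls_eq.2 ⟨e⟩, H25Theta.cls_structureModule]
  have h2 : H25Theta.pull p (H25Theta.cls K) * H25Theta.pull p (H25Theta.cls ((Scheme.Modules.pullback z).obj M)) = 1 := by
    rw [← map_mul, ← H25Theta.cls_tensor, H25Theta.cls_eq.2 ⟨eK⟩, H25Theta.cls_structureModule, map_one]
  exact (left_inv_eq_right_inv h1 h2).symm

end Groth.Agent.S14607
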