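import Groth.Statements.S14608
import Mathlib

set_option autoImplicit false
universe u v
open CAlg

namespace Groth.Agent.S14608

open TensorProduct in
/-- Let A be a Noetherian ring, M a finitely generated A-module, F a finitely generated free A-module, δ
: M → F an A-linear map and p a prime of A with residue field κ(p). The following are equivalent:
(a) the natural map (ker δ) ⊗ κ(p) → ker(δ ⊗ κ(p)) is surjective (its image is the whole kernel);
(b) that map is bijective; (c) (F / im δ) localized at p is a free module over the local ring A_p.
Moreover, if these hold then (im δ) localized at p is free over A_p. (The published statement takes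
M to be the cokernel of a map of finitely generated free modules; over a Noetherian ring this is
every finitely generated M, which is what this row takes.) -/
theorem result (A : Type u) [CommRing A] [IsNoetherianRing A]
    (M : Type v) (F : Type v) [AddCommGroup M] [Module A M] [Module.Finite A M]
    [AddCommGroup F] [Module A F] [Module.Finite A F] [Module.Free A F]
    (δ : M →ₗ[A] F) (p : Ideal A) [p.IsPrime] :
    [ Function.Exact (LinearMap.lTensor p.ResidueField (LinearMap.ker δ).subtype)
        (LinearMap.lTensor p.ResidueField δ),
      Function.Exact (LinearMap.lTensor p.ResidueField (LinearMap.ker δ).subtype)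
        (LinearMap.lTensor p.ResidueField δ) ∧
        Function.Injective (LinearMap.lTensor p.ResidueField (LinearMap.ker δ).subtype),
      Module.Free (Localization.AtPrime p)
        (LocalizedModule p.primeCompl (F ⧸ LinearMap.range δ)) ].TFAE ∧
    (Function.Exact (LinearMap.lTensor p.ResidueField (LinearMap.ker δ).subtype)
        (LinearMap.lTensor p.ResidueField δ) →
      Module.Free (Localization.AtPrime p)
        (LocalizedModule p.primeCompl (LinearMap.range δ))) := by
  classical
  let R := Localization.AtPrime p
  let κ := p.ResidueField
  set ι := (LinearMap.ker δ).subtype with hι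
  let π := δ.rangeRestrict
  let j := (LinearMap.range δ).subtype
  let q := (LinearMap.range δ).mkQ
  -- the localized sequences
  have ex1 : Function.Exact (ι.baseChange R) (π.baseChange R) := by
    rw [LinearMap.baseChange_eq_ltensor, LinearMap.baseChange_eq_ltensor]
    exact Module.Flat.lTensor_exact R (LinearMap.exact_iff.mpr
      (by rw [LinearMap.ker_rangeRestrict, hι, Submodule.range_subtype]))
  have ex2 : Function.Exact (j.baseChange R) (q.baseChange R) := by
    rw [LinearMap.baseChange_eq_ltensor, LinearMap.baseChange_eq_ltensor]
    exact Module.Flat.lTensor_exact R (LinearMap.exact_subtype_mkQ _)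
  have hιi : Function.Injective (ι.baseChange R) := by
    rw [LinearMap.baseChange_eq_ltensor]
    exact Module.Flat.lTensor_preserves_injective_linearMap _ Subtype.val_injective
  have hji : Function.Injective (j.baseChange R) := by
    rw [LinearMap.baseChange_eq_ltensor]
    exact Module.Flat.lTensor_preserves_injective_linearMap _ Subtype.val_injective
  have hπs : Function.Surjective (π.baseChange R) := by
    rw [LinearMap.baseChange_eq_ltensor]
    exact LinearMap.lTensor_surjective _ δ.surjective_rangeRestrict
  have hqs : Function.Surjective (q.baseChange R) := by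
    rw [LinearMap.baseChange_eq_ltensor]
    exact LinearMap.lTensor_surjective _ (Submodule.mkQ_surjective _)
  have hcomp : (j.baseChange R).comp (π.baseChange R) = δ.baseChange R := by
    rw [← LinearMap.baseChange_comp]
    congr 1
  -- comparison of the residual maps
  let eK := TensorProduct.AlgebraTensorModule.cancelBaseChange A R R κ (LinearMap.ker δ)
  let eM := TensorProduct.AlgebraTensorModule.cancelBaseChange A R R κ M
  let eF := TensorProduct.AlgebraTensorModule.cancelBaseChange A R R κ F
  have nι : ∀ z, LinearMap.lTensor κ ι (eK z) = eM (LinearMap.lTensor κ (ι.baseChange R) z) := by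
    intro z
    induction z using TensorProduct.induction_on with
    | zero => simp
    | tmul a y =>
      induction y using TensorProduct.induction_on with
      | zero => simp
      | tmul r x => simp [eK, eM]
      | add u w hu hw => simp only [TensorProduct.tmul_add, map_add, hu, hw]
    | add u w hu hw => simp only [map_add, hu, hw]
  have nδ : ∀ z, LinearMap.lTensor κ δ (eM z) = eF (LinearMap.lTensor κ (δ.baseChange R) z) := by
    intro z
    induction z using TensorProduct.induction_on with
    | zero => simp
    | tmul a y =>
      induction y using TensorProduct.induction_on with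
      | zero => simp
      | tmul r x => simp [eM, eF]
      | add u w hu hw => simp only [TensorProduct.tmul_add, map_add, hu, hw]
    | add u w hu hw => simp only [map_add, hu, hw]
  have hC : Module.Free R (LocalizedModule p.primeCompl (F ⧸ LinearMap.range δ)) ↔
      Module.Free R (R ⊗[A] (F ⧸ LinearMap.range δ)) :=
    ⟨fun _ => Module.Free.of_equiv (LocalizedModule.equivTensorProduct p.primeCompl _),
      fun _ => Module.Free.of_equiv (LocalizedModule.equivTensorProduct p.primeCompl _).symm⟩
  -- the exchange condition gives freeness
  have h13 : Function.Exact (LinearMap.lTensor κ ι) (LinearMap.lTensor κ δ) →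
      Module.Free R (LocalizedModule p.primeCompl (F ⧸ LinearMap.range δ)) := by
    intro hex
    rw [hC]
    refine Module.free_of_lTensor_residueField_injective (j.baseChange R) (q.baseChange R) hqs ex2 ?_
    rw [injective_iff_map_eq_zero]
    intro y hy
    obtain ⟨z, rfl⟩ := LinearMap.lTensor_surjective κ hπs y
    rw [← LinearMap.lTensor_comp_apply, hcomp] at hy
    obtain ⟨w, hw⟩ := (hex (eM z)).mp (by rw [nδ, hy, map_zero])
    obtain ⟨w, rfl⟩ := eK.surjective w
    rw [nι] at hw
    rw [← eM.injective hw]
    have h0 : (π.baseChange R).comp (ι.baseChange R) = 0 := LinearMap.ext ex1.apply_apply_eq_zero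
    rw [← LinearMap.lTensor_comp_apply, h0, LinearMap.lTensor_zero, LinearMap.zero_apply]
  have hfreeI : Module.Free R (LocalizedModule p.primeCompl (F ⧸ LinearMap.range δ)) →
      Module.Free R (R ⊗[A] LinearMap.range δ) ∧
        ∃ l', l' ∘ₗ (j.baseChange R) = LinearMap.id := by
    intro hfree
    have := hC.mp hfree
    obtain ⟨s, hs⟩ := Module.projective_lifting_property (q.baseChange R) LinearMap.id hqs
    obtain ⟨l', hl⟩ := ((Function.Exact.split_tfae ex2 hji hqs).out 0 1 rfl rfl).mp ⟨s, hs⟩
    have : Module.Projective R (R ⊗[A] LinearMap.range δ) := Module.Projective.of_split _ _ hl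
    exact ⟨Module.free_of_flat_of_isLocalRing, l', hl⟩
  have h32 : Module.Free R (LocalizedModule p.primeCompl (F ⧸ LinearMap.range δ)) →
      Function.Exact (LinearMap.lTensor κ ι) (LinearMap.lTensor κ δ) ∧
        Function.Injective (LinearMap.lTensor κ ι) := by
    intro hfree
    obtain ⟨hI, l', hl⟩ := hfreeI hfree
    have hjκ : Function.Injective (LinearMap.lTensor κ (j.baseChange R)) := by
      refine Function.HasLeftInverse.injective ⟨LinearMap.lTensor κ l', fun x => ?_⟩
      rw [← LinearMap.lTensor_comp_apply, hl, LinearMap.lTensor_id, LinearMap.id_apply]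
    obtain ⟨s, hs⟩ := Module.projective_lifting_property (π.baseChange R) LinearMap.id hπs
    obtain ⟨r, hr⟩ := ((Function.Exact.split_tfae ex1 hιi hπs).out 0 1 rfl rfl).mp ⟨s, hs⟩
    have hικ : Function.Injective (LinearMap.lTensor κ (ι.baseChange R)) := by
      refine Function.HasLeftInverse.injective ⟨LinearMap.lTensor κ r, fun x => ?_⟩
      rw [← LinearMap.lTensor_comp_apply, hr, LinearMap.lTensor_id, LinearMap.id_apply]
    refine ⟨fun z => ?_, fun x y hxy => ?_⟩
    · obtain ⟨z, rfl⟩ := eM.surjective z
      rw [nδ, LinearEquiv.map_eq_zero_iff, ← hcomp, LinearMap.lTensor_comp_apply,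
        map_eq_zero_iff _ hjκ, lTensor_exact κ ex1 hπs z]
      constructor
      · rintro ⟨w, rfl⟩
        exact ⟨eK w, nι w⟩
      · rintro ⟨w, hw⟩
        obtain ⟨w, rfl⟩ := eK.surjective w
        rw [nι] at hw
        exact ⟨w, eM.injective hw⟩
    · obtain ⟨x, rfl⟩ := eK.surjective x
      obtain ⟨y, rfl⟩ := eK.surjective y
      rw [nι, nι] at hxy
      exact congrArg eK (hικ (eM.injective hxy))
  refine ⟨?_, fun hex => ?_⟩
  · tfae_have 1 → 3 := h13
    tfae_have 3 → 2 := h32
    tfae_have 2 → 1 := And.left
    tfae_finish
  · have := (hfreeI (h13 hex)).1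
    exact Module.Free.of_equiv (LocalizedModule.equivTensorProduct p.primeCompl (LinearMap.range δ)).symm

end Groth.Agent.S14608
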