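import Groth.Statements.S14609
import Groth.Agent.H3CAlg.RankStrata
import Mathlib.Algebra.Module.StablyFree.Basic
import Mathlib.Topology.Semicontinuity.Defs

set_option autoImplicit false
universe u v
open CAlg

namespace Groth.Agent.S14609

open TensorProduct in
/-- Let A be a Noetherian ring, M a finitely generated A-module, F a finitely generated free A-module
and δ : M → F an A-linear map. Then the function on Spec A sending a prime p with residue field κ(p)
to the κ(p)-dimension of the kernel of δ ⊗ κ(p) : M ⊗ κ(p) → F ⊗ κ(p) is upper semicontinuous. -/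
theorem result (A : Type u) [CommRing A]
    [IsNoetherianRing A] (M : Type v) (F : Type v) [AddCommGroup M] [Module A M] [Module.Finite A M]
    [AddCommGroup F] [Module A F] [Module.Finite A F] [Module.Free A F] (δ : M →ₗ[A] F) :
    UpperSemicontinuous (fun x : PrimeSpectrum A =>
      Module.finrank x.asIdeal.ResidueField
        (LinearMap.ker (δ.baseChange x.asIdeal.ResidueField))) := by
  intro x c hc
  simp only at hc ⊢
  filter_upwards [Groth.Agent.H3CAlg.eventually_fibDim_le (F ⧸ LinearMap.range δ) x,
    Groth.Agent.H3CAlg.eventually_fibDim_le M x,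
    Groth.Agent.H3CAlg.eventually_fibDim_eq F x] with y h1 h2 h3
  have e1 := Groth.Agent.H3CAlg.finrank_ker_add_fibDim δ x
  have e2 := Groth.Agent.H3CAlg.finrank_ker_add_fibDim δ y
  omega

end Groth.Agent.S14609
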