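import Groth.Statements.S14610
import Groth.Agent.H3CAlg.RankStrata
import Mathlib.Algebra.Module.StablyFree.Basic
import Mathlib.Topology.Semicontinuity.Defs

set_option autoImplicit false
universe u v
open CAlg

namespace Groth.Agent.S14610

open TensorProduct in
/-- Let A be a reduced Noetherian ring, M a finitely generated A-module, F a finitely generated free
A-module and δ : M → F an A-linear map such that the function p ↦ dim_{κ(p)} ker(δ ⊗ κ(p)) is
locally constant on Spec A. Then M, ker δ and coker δ = F / im δ are projective A-modules, and for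
every A-module N the natural map (ker δ) ⊗ N → M ⊗ N is injective with image equal to the kernel of
δ ⊗ N. -/
theorem result (A : Type u) [CommRing A]
    [IsNoetherianRing A] [IsReduced A] (M : Type v) (F : Type v) [AddCommGroup M] [Module A M]
    [Module.Finite A M] [AddCommGroup F] [Module A F] [Module.Finite A F] [Module.Free A F]
    (δ : M →ₗ[A] F)
    (h : IsLocallyConstant (fun x : PrimeSpectrum A =>
      Module.finrank x.asIdeal.ResidueField
        (LinearMap.ker (δ.baseChange x.asIdeal.ResidueField)))) :
    Module.Projective A M ∧ Module.Projective A (LinearMap.ker δ) ∧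
      Module.Projective A (F ⧸ LinearMap.range δ) ∧
      ∀ (N : Type v) [AddCommGroup N] [Module A N],
        Function.Injective (LinearMap.rTensor N (LinearMap.ker δ).subtype) ∧
        Function.Exact (LinearMap.rTensor N (LinearMap.ker δ).subtype) (LinearMap.rTensor N δ) := by
  have hboth : ∀ x : PrimeSpectrum A, ∀ᶠ y in nhds x, Groth.Agent.H06FlatCx.fibDim M y = Groth.Agent.H06FlatCx.fibDim M x ∧
      Groth.Agent.H06FlatCx.fibDim (F ⧸ LinearMap.range δ) y = Groth.Agent.H06FlatCx.fibDim (F ⧸ LinearMap.range δ) x := by
    intro x
    filter_upwards [Groth.Agent.H3CAlg.eventually_fibDim_le (F ⧸ LinearMap.range δ) x,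
      Groth.Agent.H3CAlg.eventually_fibDim_le M x,
      Groth.Agent.H3CAlg.eventually_fibDim_eq F x, h.eventually_eq x] with y h1 h2 h3 h4
    have e1 := Groth.Agent.H3CAlg.finrank_ker_add_fibDim δ x
    have e2 := Groth.Agent.H3CAlg.finrank_ker_add_fibDim δ y
    omega
  have hMf := Groth.Agent.H06FlatCx.flat_of_isLocallyConstant_fibDim M
    ((IsLocallyConstant.iff_eventually_eq _).2 fun x => (hboth x).mono fun y hy => hy.1)
  have hCf := Groth.Agent.H06FlatCx.flat_of_isLocallyConstant_fibDim (F ⧸ LinearMap.range δ)
    ((IsLocallyConstant.iff_eventually_eq _).2 fun x => (hboth x).mono fun y hy => hy.2)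
  have : Module.FinitePresentation A M := Module.finitePresentation_of_finite A M
  have : Module.FinitePresentation A (F ⧸ LinearMap.range δ) := Module.finitePresentation_of_finite A _
  have hM : Module.Projective A M := Module.Flat.projective_of_finitePresentation
  have hC : Module.Projective A (F ⧸ LinearMap.range δ) := Module.Flat.projective_of_finitePresentation
  have := Groth.Agent.H3CAlg.projective_range_of_projective_coker δ
  obtain ⟨s, hs⟩ := Module.projective_lifting_property δ.rangeRestrict LinearMap.id (LinearMap.surjective_rangeRestrict δ)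
  have hs' : ∀ y, δ (s y) = (y : F) := fun y => congrArg Subtype.val (LinearMap.congr_fun hs y)
  let ρ : M →ₗ[A] LinearMap.ker δ := (LinearMap.id - s ∘ₗ δ.rangeRestrict).codRestrict _ fun m => by
    simp [hs']
  have hρ : ρ ∘ₗ (LinearMap.ker δ).subtype = LinearMap.id := LinearMap.ext fun m => Subtype.ext (by
    have : δ.rangeRestrict (m : M) = 0 := Subtype.ext m.2
    simp [ρ, this])
  refine ⟨hM, Module.Projective.of_split (LinearMap.ker δ).subtype ρ hρ, hC, fun N _ _ => ⟨?_, ?_⟩⟩
  · intro a b hab
    have := congrArg (LinearMap.rTensor N ρ) hab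
    rwa [← LinearMap.comp_apply, ← LinearMap.comp_apply, ← LinearMap.rTensor_comp, hρ, LinearMap.rTensor_id_apply,
      LinearMap.rTensor_id_apply] at this
  · obtain ⟨r, hr⟩ := Groth.Agent.H3CAlg.exists_retraction_of_projective_coker δ
    have hex : Function.Exact (LinearMap.ker δ).subtype δ.rangeRestrict := by
      rw [LinearMap.exact_iff, LinearMap.ker_rangeRestrict, Submodule.range_subtype]
    have hcomp : δ = (LinearMap.range δ).subtype ∘ₗ δ.rangeRestrict := rfl
    have hinj : Function.Injective (LinearMap.rTensor N (LinearMap.range δ).subtype) := fun a b hab => by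
      have := congrArg (LinearMap.rTensor N r) hab
      rwa [← LinearMap.comp_apply, ← LinearMap.comp_apply, ← LinearMap.rTensor_comp, hr, LinearMap.rTensor_id_apply,
        LinearMap.rTensor_id_apply] at this
    have h1 := rTensor_exact N hex (LinearMap.surjective_rangeRestrict δ)
    intro z
    rw [← h1 z]
    conv_lhs => rw [hcomp, LinearMap.rTensor_comp, LinearMap.comp_apply]
    exact map_eq_zero_iff _ hinj

end Groth.Agent.S14610
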