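import Groth.Statements.S14611
import Groth.Agent.H06FlatCx.FlatBdd

set_option autoImplicit false
universe u
open FlatCx

namespace Groth.Agent.S14611

open CategoryTheory CategoryTheory.Limits in
/-- Let A be a Noetherian ring, Q a cochain complex whose terms are finitely generated projective
A-modules, and d an integer such that H^p(Q) = 0 for every p < d and H^p(Q ⊗_A A/m) = 0 for every p
< d and every maximal ideal m of A. Then Q^d / im(Q^{d-1} → Q^d), the degree-d term of the
truncation τ_{≥ d} Q, is a projective A-module, so that τ_{≥ d} Q is again a complex of projective
modules. (The published statement also asserts that Q → τ_{≥ d} Q is a quasi-isomorphism when H^p(Q)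
= 0 for p < d; this row omits that clause.) -/
theorem result (A : Type u) [CommRing A] [IsNoetherianRing A]
    (Q : CochainComplex (ModuleCat.{u} A) ℤ)
    (hQ : ∀ i, Module.Finite A (Q.X i) ∧ Module.Projective A (Q.X i)) (d : ℤ)
    (h1 : ∀ p < d, IsZero (Q.homology p))
    (h2 : ∀ (m : Ideal A) [m.IsMaximal], ∀ p < d,
      IsZero ((CohIII.tensorObj Q (ModuleCat.of A (A ⧸ m))).homology p)) :
    Module.Projective A (Q.opcycles d) := by
  let f := (Q.d (d - 1) d).hom
  haveI := (hQ d).1
  haveI := (hQ d).2
  haveI := (hQ (d - 1)).1
  have key : Module.Projective A (Q.X d ⧸ LinearMap.range f) := by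
    haveI : Module.FinitePresentation A (Q.X d ⧸ LinearMap.range f) := Module.finitePresentation_of_finite A _
    refine Module.projective_of_localization_maximal fun m hm => ?_
    haveI := hm
    let R := Localization.AtPrime m
    have hinj : Function.Injective ((LinearMap.range f).subtype.lTensor (A ⧸ m)) := by
      rw [LinearMap.lTensor_inj_iff_rTensor_inj, injective_iff_map_eq_zero]
      intro x hx
      obtain ⟨y, rfl⟩ := LinearMap.rTensor_surjective (A ⧸ m) (LinearMap.surjective_rangeRestrict f) x
      rw [← LinearMap.comp_apply, ← LinearMap.rTensor_comp, LinearMap.subtype_comp_codRestrict] at hx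
      have hy := H06FlatCx.exact_of_isZero_homology (CohIII.tensorObj Q (ModuleCat.of A (A ⧸ m))) (d - 1)
        (h2 m (d - 1) (by omega))
      rw [show d - 1 + 1 = d by omega] at hy
      obtain ⟨z, rfl⟩ := hy hx
      show f.rangeRestrict.rTensor (A ⧸ m) ((Q.d (d - 1 - 1) (d - 1)).hom.rTensor (A ⧸ m) z) = 0
      have h0 : f.rangeRestrict ∘ₗ (Q.d (d - 1 - 1) (d - 1)).hom = 0 := by
        refine LinearMap.ext fun w => Subtype.ext ?_
        exact congr($((Q.d_comp_d (d - 1 - 1) (d - 1) d)).hom w)
      exact LinearMap.congr_fun ((LinearMap.rTensor_comp _ _ _).symm.trans
        ((congrArg (LinearMap.rTensor (A ⧸ m)) h0).trans (LinearMap.rTensor_zero _))) z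
    haveI : Module.Finite A (LinearMap.range f) := Module.Finite.range f
    have hfree : Module.Free R (TensorProduct A R (Q.X d ⧸ LinearMap.range f)) := by
      haveI : Module.Free R (TensorProduct A R (Q.X d)) := Module.free_of_flat_of_isLocalRing
      refine Module.free_of_lTensor_residueField_injective
        ((LinearMap.range f).subtype.baseChange R) ((LinearMap.range f).mkQ.baseChange R)
        (LinearMap.lTensor_surjective _ (Submodule.mkQ_surjective _))
        (lTensor_exact R (LinearMap.exact_subtype_mkQ _) (Submodule.mkQ_surjective _)) ?_
      have hk : Function.Injective ((LinearMap.range f).subtype.lTensor m.ResidueField) := by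
        let e : (A ⧸ m) ≃ₗ[A] m.ResidueField := LinearEquiv.ofBijective
          (IsScalarTower.toAlgHom A (A ⧸ m) m.ResidueField).toLinearMap
          m.bijective_algebraMap_quotient_residueField
        intro a b hab
        apply (TensorProduct.congr e.symm (LinearEquiv.refl A _)).injective
        apply hinj
        have hn : ∀ c, (LinearMap.range f).subtype.lTensor (A ⧸ m)
            (TensorProduct.congr e.symm (LinearEquiv.refl A _) c) =
            TensorProduct.congr e.symm (LinearEquiv.refl A _) ((LinearMap.range f).subtype.lTensor m.ResidueField c) := by
          intro c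
          induction c using TensorProduct.induction_on with
          | zero => simp
          | tmul r x => rfl
          | add p q hp hq => simp only [map_add, hp, hq]
        rw [hn, hn, hab]
      intro a b hab
      apply (TensorProduct.AlgebraTensorModule.cancelBaseChange A R R m.ResidueField (LinearMap.range f)).injective
      apply hk
      have hn : ∀ c, (LinearMap.range f).subtype.lTensor m.ResidueField
          (TensorProduct.AlgebraTensorModule.cancelBaseChange A R R m.ResidueField (LinearMap.range f) c) =
          TensorProduct.AlgebraTensorModule.cancelBaseChange A R R m.ResidueField (Q.X d)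
            (((LinearMap.range f).subtype.baseChange R).lTensor m.ResidueField c) := by
        intro c
        induction c using TensorProduct.induction_on with
        | zero => simp
        | tmul r x =>
          induction x using TensorProduct.induction_on with
          | zero => simp
          | tmul s x => simp
          | add p q hp hq => simp only [TensorProduct.tmul_add, map_add, hp, hq]
        | add p q hp hq => simp only [map_add, hp, hq]
      rw [hn, hn]
      exact congrArg _ hab
    haveI := hfree
    exact Module.Projective.of_equiv (LocalizedModule.equivTensorProduct m.primeCompl _).symm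
  have e : Q.opcycles d ≅ ModuleCat.of A (Q.X d ⧸ LinearMap.range f) :=
    (Q.opcyclesIsCokernel (d - 1) d (by simp)).coconePointUniqueUpToIso (colimit.isColimit _) ≪≫
      ModuleCat.cokernelIsoRangeQuotient (Q.d (d - 1) d)
  exact Module.Projective.of_equiv e.symm.toLinearEquiv

end Groth.Agent.S14611
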