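import Groth.Statements.S14613
import Groth.Agent.H06FlatCx.FlatBdd

set_option autoImplicit false
universe u
open FlatCx

namespace Groth.Agent.S14613

open CategoryTheory CategoryTheory.Limits in
/-- Let A be a commutative ring (not necessarily Noetherian), C and D cochain complexes of flat
A-modules that are bounded above (zero in all large degrees), φ : C → D a quasi-isomorphism and M an
arbitrary A-module. Then φ ⊗ id_M : C ⊗_A M → D ⊗_A M, the tensor product taken degreewise, is a
quasi-isomorphism. Boundedness cannot be dropped. -/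
theorem result (A : Type u) [CommRing A]
    (C D : CochainComplex (ModuleCat.{u} A) ℤ)
    (hC : ∀ i, Module.Flat A (C.X i)) (hD : ∀ i, Module.Flat A (D.X i))
    (bC : ∃ b : ℤ, ∀ i, b < i → IsZero (C.X i)) (bD : ∃ b : ℤ, ∀ i, b < i → IsZero (D.X i))
    (φ : C ⟶ D) [QuasiIso φ] (M : ModuleCat.{u} A) :
    QuasiIso (((MonoidalCategory.tensorRight M).mapHomologicalComplex (ComplexShape.up ℤ)).map φ) := by
  obtain ⟨b, hbC⟩ := bC
  obtain ⟨b', hbD⟩ := bD
  open HomologicalComplex in
  have hac : (CochainComplex.mappingCone φ).Acyclic := (H06FlatCx.quasiIso_iff_acyclic_cone φ).1 inferInstance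
  rw [H06FlatCx.quasiIso_iff_acyclic_cone]
  have e0 : ∀ i, (CochainComplex.mappingCone φ).X i ≅ C.X (i + 1) ⊞ D.X i := fun i =>
    HomologicalComplex.homotopyCofiber.XIsoBiprod φ i (i + 1) rfl
  have hF : ∀ i, Module.Flat A ((CochainComplex.mappingCone φ).X i) := fun i => by
    haveI := hC (i + 1)
    haveI := hD i
    exact Module.Flat.of_linearEquiv (e0 i ≪≫ ModuleCat.biprodIsoProd _ _).toLinearEquiv
  have hb : ∃ b : ℤ, ∀ i, b < i → IsZero ((CochainComplex.mappingCone φ).X i) := ⟨max b b', fun i hi =>
    IsZero.of_iso (by rw [biprod_isZero_iff]; exact ⟨hbC _ (by omega), hbD _ (by omega)⟩) (e0 i)⟩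
  intro j
  refine HomologicalComplex.ExactAt.of_iso ?_ (CochainComplex.mappingCone.mapHomologicalComplexIso φ (MonoidalCategory.tensorRight M))
  rw [HomologicalComplex.exactAt_iff' _ (j - 1) j (j + 1) (by simp) (by simp)]
  rw [ShortComplex.moduleCat_exact_iff_ker_sub_range]
  exact H06FlatCx.tensor_exact _ hF hb (j - 1)
    (fun p _ => (hac p).isZero_homology) M j (by omega)

end Groth.Agent.S14613
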