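import Groth.Statements.S14614
import Groth.Agent.H17.Imports

set_option autoImplicit false
universe u
open Mor

namespace Groth.Agent.S14614

open CategoryTheory Limits AlgebraicGeometry TopologicalSpace Opposite

open CategoryTheory AlgebraicGeometry in
/-- Let S be a locally Noetherian scheme and i : Z → S a closed immersion with the following property:
for every Artinian local ring A with residue field k and every morphism g : Spec A → S, if the
restriction Spec k → Spec A → S of g factors through i then so does g. Then i is also an open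
immersion, i.e. the closed subscheme Z is open in S as a subscheme. (The published hypothesis is an
equivalence; its other direction always holds, so this row assumes only the implication.) -/
theorem result (S : Scheme.{u}) [IsLocallyNoetherian S]
    {Z : Scheme.{u}} (i : Z ⟶ S) [IsClosedImmersion i]
    (h : ∀ (A : Type u) [CommRing A] [IsArtinianRing A] [IsLocalRing A] (g : Spec (CommRingCat.of A) ⟶ S),
      (∃ t : Spec (CommRingCat.of (IsLocalRing.ResidueField A)) ⟶ Z,
          t ≫ i = Spec.map (CommRingCat.ofHom (IsLocalRing.residue A)) ≫ g) →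
        ∃ g' : Spec (CommRingCat.of A) ⟶ Z, g' ≫ i = g) :
    IsOpenImmersion i := by
  have hinj : ∀ z : Z, Function.Injective (i.stalkMap z) := by
    intro z
    let O := S.presheaf.stalk (i z)
    let m := IsLocalRing.maximalIdeal O
    have hmem : ∀ n : ℕ, ∀ a : O, i.stalkMap z a = 0 → a ∈ m ^ (n + 1) := by
      intro n a ha
      have : Nontrivial (O ⧸ m ^ (n + 1)) := Ideal.Quotient.nontrivial_iff.mpr
        (ne_top_of_le_ne_top (IsLocalRing.maximalIdeal.isMaximal _).ne_top (Ideal.pow_le_self (Nat.succ_ne_zero n)))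
      have hsurj := Ideal.Quotient.mk_surjective (I := m ^ (n + 1))
      have : IsLocalRing (O ⧸ m ^ (n + 1)) := IsLocalRing.of_surjective' _ hsurj
      let q : O ⟶ CommRingCat.of (O ⧸ m ^ (n + 1)) := CommRingCat.ofHom (Ideal.Quotient.mk _)
      have hql : IsLocalHom q.hom := IsLocalHom.of_surjective _ hsurj
      have : IsNoetherianRing (O ⧸ m ^ (n + 1)) := isNoetherianRing_of_surjective _ _ _ hsurj
      have : IsArtinianRing (O ⧸ m ^ (n + 1)) := by
        rw [isArtinianRing_iff_isNilpotent_maximalIdeal]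
        refine ⟨n + 1, ?_⟩
        rw [← IsLocalRing.map_maximalIdeal_of_surjective (Ideal.Quotient.mk (m ^ (n + 1))) hsurj, ← Ideal.map_pow, Ideal.map_quotient_self]
        rfl
      let g := Spec.map q ≫ S.fromSpecStalk (i z)
      have hc : Spec.map q (IsLocalRing.closedPoint _) = IsLocalRing.closedPoint O :=
        IsLocalRing.comap_closedPoint q.hom
      have hgc : g (IsLocalRing.closedPoint _) = i z := by
        rw [Scheme.Hom.comp_apply, hc, Scheme.fromSpecStalk_closedPoint]
      obtain ⟨t, ht⟩ : ∃ t, t ≫ i = Spec.map (CommRingCat.ofHom (IsLocalRing.residue (O ⧸ m ^ (n + 1)))) ≫ g := by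
        let ρ : (O : Type u) →+* IsLocalRing.ResidueField (O ⧸ m ^ (n + 1)) :=
          (IsLocalRing.residue (O ⧸ m ^ (n + 1))).comp q.hom
        have hρ : RingHom.ker (i.stalkMap z).hom ≤ RingHom.ker ρ := fun b hb => ?_
        let χ : Z.presheaf.stalk z ⟶ CommRingCat.of (IsLocalRing.ResidueField (O ⧸ m ^ (n + 1))) :=
          CommRingCat.ofHom (RingHom.liftOfSurjective (i.stalkMap z).hom (i.stalkMap_surjective z) ⟨ρ, hρ⟩)
        · refine ⟨Spec.map χ ≫ Z.fromSpecStalk z, ?_⟩
          rw [Category.assoc, ← Scheme.SpecMap_stalkMap_fromSpecStalk, ← Spec.map_comp_assoc, ← Spec.map_comp_assoc]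
          congr 2
          ext b
          exact RingHom.liftOfSurjective_comp_apply (i.stalkMap z).hom (i.stalkMap_surjective z) ⟨ρ, hρ⟩ b
        · rw [RingHom.mem_ker] at hb ⊢
          rw [show ρ b = IsLocalRing.residue _ (q b) from rfl, IsLocalRing.residue_eq_zero_iff, IsLocalRing.mem_maximalIdeal, mem_nonunits_iff]
          intro hu
          have := (isUnit_of_map_unit q.hom b hu).map (i.stalkMap z).hom
          rw [hb] at this
          exact not_isUnit_zero this
      obtain ⟨g', hg'⟩ := h _ g ⟨t, ht⟩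
      have hc' : g' (IsLocalRing.closedPoint _) = z := by
        apply i.isEmbedding.injective
        rw [← Scheme.Hom.comp_apply, hg', hgc]
      let θ := Z.presheaf.stalkSpecializes (specializes_of_eq hc') ≫ Scheme.stalkClosedPointTo g'
      have hθ : Spec.map θ ≫ Z.fromSpecStalk z = g' := by
        rw [Spec.map_comp, Category.assoc, Scheme.SpecMap_stalkSpecializes_fromSpecStalk,
          Scheme.Spec_stalkClosedPointTo_fromSpecStalk]
      have hq : i.stalkMap z ≫ θ = q := by
        apply Spec.map_injective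
        rw [← cancel_mono (S.fromSpecStalk (i z)), Spec.map_comp, Category.assoc,
          Scheme.SpecMap_stalkMap_fromSpecStalk, reassoc_of% hθ, hg']
      apply Ideal.Quotient.eq_zero_iff_mem.mp
      show q a = 0
      rw [← hq, CommRingCat.comp_apply, ha, map_zero]
    rw [injective_iff_map_eq_zero]
    intro a ha
    rw [← Ideal.mem_bot, ← Ideal.iInf_pow_eq_bot_of_isLocalRing m (IsLocalRing.maximalIdeal.isMaximal _).ne_top,
      Ideal.mem_iInf]
    intro n
    exact Ideal.pow_le_pow_right (Nat.le_succ n) (hmem n a ha)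
  have hopen : IsOpen (Set.range i) := by
    refine isOpen_iff_forall_mem_open.mpr fun s hs => ?_
    obtain ⟨z, rfl⟩ := hs
    obtain ⟨U, hU, hzU, -⟩ := exists_isAffineOpen_mem_and_subset (Opens.mem_top (i z))
    have : IsNoetherianRing Γ(S, U) := IsLocallyNoetherian.component_noetherian ⟨U, hU⟩
    obtain ⟨t, ht⟩ := IsNoetherian.noetherian (i.ker.ideal ⟨U, hU⟩)
    let := TopCat.Presheaf.algebra_section_stalk S.presheaf (⟨i z, hzU⟩ : U)
    have := hU.isLocalization_stalk ⟨i z, hzU⟩
    have h2 : ∀ a ∈ t, ∃ c ∉ (hU.primeIdealOf ⟨i z, hzU⟩).asIdeal, c * a = 0 := by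
      intro a ha
      have h1 : a ∈ i.ker.ideal ⟨U, hU⟩ := ht ▸ Submodule.subset_span ha
      rw [Scheme.Hom.ker_apply, RingHom.mem_ker] at h1
      have h0 : S.presheaf.germ U (i z) hzU a = 0 := by
        apply hinj z
        rw [Scheme.Hom.germ_stalkMap_apply, h1, map_zero, map_zero]
      obtain ⟨⟨c, hc⟩, hca⟩ := (IsLocalization.map_eq_zero_iff
        (hU.primeIdealOf ⟨i z, hzU⟩).asIdeal.primeCompl (S.presheaf.stalk (i z)) a).mp h0
      exact ⟨c, hc, hca⟩
    choose! c hc hca using h2
    let f := ∏ a ∈ t, c a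
    refine ⟨S.basicOpen f, fun w hw => ?_, (S.basicOpen f).2, ?_⟩
    · have hwU : w ∈ U := S.basicOpen_le f hw
      have hp : f ∉ (hU.primeIdealOf ⟨w, hwU⟩).asIdeal := by
        have h4 : hU.primeIdealOf ⟨w, hwU⟩ ∈ hU.fromSpec ⁻¹ᵁ S.basicOpen f := by
          change hU.fromSpec (hU.primeIdealOf ⟨w, hwU⟩) ∈ S.basicOpen f
          rw [hU.fromSpec_primeIdealOf]; exact hw
        rw [hU.fromSpec_preimage_basicOpen] at h4
        exact h4
      have hle : i.ker.ideal ⟨U, hU⟩ ≤ (hU.primeIdealOf ⟨w, hwU⟩).asIdeal := by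
        rw [← ht, Submodule.span_le]
        intro a ha
        have hcq : c a ∉ (hU.primeIdealOf ⟨w, hwU⟩).asIdeal := fun h =>
          hp ((PrimeSpectrum.isPrime _).prod_mem_iff.mpr ⟨a, ha, h⟩)
        exact ((PrimeSpectrum.isPrime _).mem_or_mem (show c a * a ∈ _ by
          rw [hca a ha]; exact zero_mem _)).resolve_left hcq
      have : w ∈ (i.ker.support : Set S) ∩ ((⟨U, hU⟩ : S.affineOpens).1 : Set S) := by
        rw [Scheme.IdealSheafData.coe_support_inter, ← hU.fromSpec_image_zeroLocus]
        exact ⟨_, hle, hU.fromSpec_primeIdealOf ⟨w, hwU⟩⟩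
      rw [Scheme.Hom.support_ker, i.isClosedEmbedding.isClosed_range.closure_eq] at this
      exact this.1
    · have h4 : hU.primeIdealOf ⟨i z, hzU⟩ ∈ hU.fromSpec ⁻¹ᵁ S.basicOpen f := by
        rw [hU.fromSpec_preimage_basicOpen]
        intro hf
        obtain ⟨a, ha, h⟩ := (PrimeSpectrum.isPrime _).prod_mem_iff.mp hf
        exact hc a ha h
      have h5 : hU.fromSpec (hU.primeIdealOf ⟨i z, hzU⟩) ∈ S.basicOpen f := h4
      rwa [hU.fromSpec_primeIdealOf] at h5
  have : ∀ z, IsIso (i.stalkMap z) := fun z =>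
    (ConcreteCategory.isIso_iff_bijective _).mpr ⟨hinj z, i.stalkMap_surjective z⟩
  exact .of_isIso_stalkMap i ⟨i.isEmbedding, hopen⟩

end Groth.Agent.S14614
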