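import Groth.Statements.S14615
import Groth.Agent.H24Lim.Tower
import Mathlib.RingTheory.Flat.EquationalCriterion
import Mathlib.CategoryTheory.Functor.OfSequence
import Mathlib.Tactic

set_option autoImplicit false
set_option linter.style.haveILetI false
universe u
open Formal2

namespace Groth.Agent.S14615

/-- Let … → G_2 → G_1 → G_0 be an inverse system of abelian groups with transition maps t_n : G_{n+1} →
G_n, and suppose that for every i there is j ≥ i such that the composite transition map G_j → G_i is
zero; this is expressed by asking that every sequence (x_n) ∈ ∏ G_n satisfying x_n = t_n(x_{n+1})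
for i ≤ n < j has x_i = 0. Then both lim G_n and lim¹ G_n vanish: the map (x_n) ↦ (x_n −
t_n(x_{n+1})) on ∏ G_n, whose kernel is lim and whose cokernel is lim¹, is injective and surjective. -/
theorem result (G : ℕ → Type u)
    [∀ n, AddCommGroup (G n)] (t : ∀ n, G (n + 1) →+ G n)
    (h : ∀ i : ℕ, ∃ j : ℕ, i ≤ j ∧
      ∀ x : ∀ n, G n, (∀ n, i ≤ n → n < j → x n = t n (x (n + 1))) → x i = 0) :
    Formal2.limZero G t = ⊥ ∧ Function.Surjective (Formal2.towerDiff G t) := by
    classical
    refine ⟨?_, Groth.Agent.H24Lim.surjective_towerDiff t fun i => ?_⟩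
    · rw [eq_bot_iff]
      intro x hx
      refine AddSubgroup.mem_bot.mpr (funext fun i => ?_)
      obtain ⟨j, -, hj⟩ := h i
      exact hj x fun n _ _ => sub_eq_zero.mp (congrFun (AddMonoidHom.mem_ker.mp hx) n)
    · obtain ⟨j, hij, hj⟩ := h i
      refine ⟨j - i, fun L hL => ?_⟩
      have hbot : ∀ L, j - i ≤ L → Groth.Agent.H24Lim.img t L i = ⊥ := fun L hL => by
        rw [eq_bot_iff]
        intro x hx
        obtain ⟨z, hz, hz'⟩ := Groth.Agent.H24Lim.exists_seq t hx
        rw [AddSubgroup.mem_bot, ← hz]
        exact hj z fun n hn hn' => hz' n hn (by omega)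
      rw [hbot L hL, hbot _ le_rfl]

end Groth.Agent.S14615
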