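import Groth.Statements.S14616
import Groth.Agent.H24Lim.Tower
import Mathlib.RingTheory.Flat.EquationalCriterion
import Mathlib.CategoryTheory.Functor.OfSequence
import Mathlib.Tactic

set_option autoImplicit false
set_option linter.style.haveILetI false
universe u
open Formal2

namespace Groth.Agent.S14616

open CategoryTheory in
/-- Let … → G_2 → G_1 → G_0 be an inverse system of abelian groups with transition maps t_n : G_{n+1} →
G_n which satisfies the Mittag-Leffler condition: for every i there is j ≥ i such that for all k ≥ j
the images of G_k → G_i and G_j → G_i coincide. Then lim¹ G_n = 0, i.e. the map (x_n) ↦ (x_n −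
t_n(x_{n+1})) on ∏ G_n is surjective. -/
theorem result (G : ℕ → Type u) [∀ n, AddCommGroup (G n)]
    (t : ∀ n, G (n + 1) →+ G n)
    (h : (Functor.ofOpSequence (X := fun n => AddCommGrpCat.of (G n))
      (fun n => AddCommGrpCat.ofHom (t n)) ⋙ forget AddCommGrpCat).IsMittagLeffler) :
    Function.Surjective (Formal2.towerDiff G t) := by
    classical
    set F := Functor.ofOpSequence (X := fun n => AddCommGrpCat.of (G n)) (fun n => AddCommGrpCat.ofHom (t n)) ⋙ forget AddCommGrpCat with hF
    have key : ∀ (L n m : ℕ) (hnm : n ≤ m), m = n + L →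
        Set.range (F.map (homOfLE hnm).op) = (Groth.Agent.H24Lim.img t L n : Set (G n)) := by
      intro L
      induction L with
      | zero =>
        intro n m hnm hm
        obtain rfl : m = n := hm
        rw [show (homOfLE hnm).op = 𝟙 (Opposite.op m) from rfl, F.map_id]
        exact Set.range_id
      | succ L ih =>
        intro n m hnm hm
        rw [← homOfLE_comp (Nat.le_succ n) (show n + 1 ≤ m by omega), op_comp, F.map_comp]
        change Set.range (⇑(ConcreteCategory.hom (F.map (homOfLE (Nat.le_succ n)).op)) ∘ ⇑(ConcreteCategory.hom (F.map (homOfLE (show n + 1 ≤ m by omega)).op))) = _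
        refine (Set.range_comp _ _).trans ?_
        rw [ih (n + 1) m (by omega) (by omega), Groth.Agent.H24Lim.img, AddSubgroup.coe_map]
        congr 1
        exact congrArg (fun (φ : AddCommGrpCat.of (G (n + 1)) ⟶ AddCommGrpCat.of (G n)) => ⇑(ConcreteCategory.hom φ)) (Functor.ofOpSequence_map_homOfLE_succ (X := fun n => AddCommGrpCat.of (G n)) (fun n => AddCommGrpCat.ofHom (t n)) n)
    refine Groth.Agent.H24Lim.surjective_towerDiff t fun n => ?_
    obtain ⟨i, f, hf⟩ := h (Opposite.op n)
    obtain ⟨i⟩ := i
    have hni : n ≤ i := leOfHom f.unop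
    refine ⟨i - n, fun L hL => le_antisymm (Groth.Agent.H24Lim.img_antitone t n hL) fun x hx => ?_⟩
    have h1 := hf (k := Opposite.op (n + L)) (homOfLE (Nat.le_add_right n L)).op
    rw [show f = (homOfLE hni).op from Subsingleton.elim _ _, key (i - n) n i hni (by omega),
      key L n (n + L) _ rfl] at h1
    exact h1 hx

end Groth.Agent.S14616
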