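import Groth.Statements.S14617
import Groth.Agent.H24Lim.Tower
import Mathlib.RingTheory.Flat.EquationalCriterion
import Mathlib.CategoryTheory.Functor.OfSequence
import Mathlib.Tactic

set_option autoImplicit false
set_option linter.style.haveILetI false
universe u
open Formal2

namespace Groth.Agent.S14617

/-- Let 0 → (G'_n) → (G_n) → (G''_n) → 0 be a short exact sequence of inverse systems of abelian groups
indexed by ℕ: maps u_n : G'_n → G_n and v_n : G_n → G''_n commuting with the transition maps, with
u_n injective, v_n surjective and ker v_n = im u_n for every n. Writing lim and lim¹ for the kernel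
and cokernel of (x_n) ↦ (x_n − t_n(x_{n+1})) on the product, there is an exact sequence 0 → lim G' →
lim G → lim G'' → lim¹ G' → lim¹ G → lim¹ G'' → 0 in which the four outer maps are the ones induced
by u and v on products and the connecting map δ sends a compatible sequence (z_n) to the class of
the unique (w_n) with u_n(w_n) = y_n − t_n(y_{n+1}), for any levelwise lift (y_n) of (z_n). -/
theorem result (G' G G'' : ℕ → Type u)
    [∀ n, AddCommGroup (G' n)] [∀ n, AddCommGroup (G n)] [∀ n, AddCommGroup (G'' n)]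
    (t' : ∀ n, G' (n + 1) →+ G' n) (t : ∀ n, G (n + 1) →+ G n) (t'' : ∀ n, G'' (n + 1) →+ G'' n)
    (u : ∀ n, G' n →+ G n) (v : ∀ n, G n →+ G'' n)
    (hu : ∀ n x, t n (u (n + 1) x) = u n (t' n x)) (hv : ∀ n x, t'' n (v (n + 1) x) = v n (t n x))
    (hinj : ∀ n, Function.Injective (u n)) (hsurj : ∀ n, Function.Surjective (v n))
    (hex : ∀ n, (v n).ker = (u n).range) :
    ∃ (α : Formal2.limZero G' t' →+ Formal2.limZero G t) (β : Formal2.limZero G t →+ Formal2.limZero G'' t'')
      (δ : Formal2.limZero G'' t'' →+ Formal2.limOne G' t')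
      (ε : Formal2.limOne G' t' →+ Formal2.limOne G t) (ζ : Formal2.limOne G t →+ Formal2.limOne G'' t''),
      (∀ (x : Formal2.limZero G' t') (n : ℕ), (α x : ∀ n, G n) n = u n ((x : ∀ n, G' n) n)) ∧
      (∀ (x : Formal2.limZero G t) (n : ℕ), (β x : ∀ n, G'' n) n = v n ((x : ∀ n, G n) n)) ∧
      (∀ (z : Formal2.limZero G'' t'') (y : ∀ n, G n) (w : ∀ n, G' n),
          (∀ n, v n (y n) = (z : ∀ n, G'' n) n) → (∀ n, u n (w n) = Formal2.towerDiff G t y n) →
            δ z = (QuotientAddGroup.mk w : Formal2.limOne G' t')) ∧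
      (∀ y : ∀ n, G' n, ε (QuotientAddGroup.mk y : Formal2.limOne G' t') =
          (QuotientAddGroup.mk (fun n => u n (y n)) : Formal2.limOne G t)) ∧
      (∀ y : ∀ n, G n, ζ (QuotientAddGroup.mk y : Formal2.limOne G t) =
          (QuotientAddGroup.mk (fun n => v n (y n)) : Formal2.limOne G'' t'')) ∧
      Function.Injective α ∧ α.range = β.ker ∧ β.range = δ.ker ∧ δ.range = ε.ker ∧ ε.range = ζ.ker ∧
      Function.Surjective ζ := by
    classical
    have hv0 : ∀ n (a : G' n), v n (u n a) = 0 := fun n a => by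
      have : u n a ∈ (v n).ker := hex n ▸ ⟨a, rfl⟩
      exact this
    let U : (∀ n, G' n) →+ (∀ n, G n) := Pi.addMonoidHom fun n => (u n).comp (Pi.evalAddMonoidHom G' n)
    let V : (∀ n, G n) →+ (∀ n, G'' n) := Pi.addMonoidHom fun n => (v n).comp (Pi.evalAddMonoidHom G n)
    have hU : ∀ x, Formal2.towerDiff G t (U x) = U (Formal2.towerDiff G' t' x) := fun x => funext fun n => by
      change u n (x n) - t n (u (n + 1) (x (n + 1))) = u n (x n - t' n (x (n + 1)))
      rw [map_sub, hu]
    have hV : ∀ x, Formal2.towerDiff G'' t'' (V x) = V (Formal2.towerDiff G t x) := fun x => funext fun n => by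
      change v n (x n) - t'' n (v (n + 1) (x (n + 1))) = v n (x n - t n (x (n + 1)))
      rw [map_sub, hv]
    have hUinj : Function.Injective U := fun x y h => funext fun n => hinj n (congrFun h n)
    have hVsurj : Function.Surjective V := fun z => ⟨fun n => (hsurj n (z n)).choose, funext fun n => (hsurj n (z n)).choose_spec⟩
    have hVU : ∀ w, V (U w) = 0 := fun w => funext fun n => hv0 n (w n)
    have hUV : ∀ y, V y = 0 → ∃ w, U w = y := fun y hy => by
      have : ∀ n, ∃ a, u n a = y n := fun n => by
        have h1 : y n ∈ (v n).ker := congrFun hy n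
        rw [hex n] at h1
        exact h1
      choose w hw using this
      exact ⟨w, funext hw⟩
    let α : Formal2.limZero G' t' →+ Formal2.limZero G t :=
      (U.comp (AddSubgroup.subtype _)).codRestrict _ fun x => by
        change Formal2.towerDiff G t (U x.1) = 0
        rw [hU, show Formal2.towerDiff G' t' x.1 = 0 from x.2, map_zero]
    let β : Formal2.limZero G t →+ Formal2.limZero G'' t'' :=
      (V.comp (AddSubgroup.subtype _)).codRestrict _ fun x => by
        change Formal2.towerDiff G'' t'' (V x.1) = 0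
        rw [hV, show Formal2.towerDiff G t x.1 = 0 from x.2, map_zero]
    have hdata : ∀ z : Formal2.limZero G'' t'', ∃ y w, V y = z.1 ∧ U w = Formal2.towerDiff G t y := fun z => by
      obtain ⟨y, hy⟩ := hVsurj z.1
      obtain ⟨w, hw⟩ := hUV (Formal2.towerDiff G t y) (by rw [← hV, hy]; exact z.2)
      exact ⟨y, w, hy, hw⟩
    choose Y W hY hW using hdata
    have hwd : ∀ (z : Formal2.limZero G'' t'') (y : ∀ n, G n) (w : ∀ n, G' n), V y = z.1 →
        U w = Formal2.towerDiff G t y → (QuotientAddGroup.mk (W z) : Formal2.limOne G' t') = QuotientAddGroup.mk w := by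
      intro z y w hy hw
      obtain ⟨a, ha⟩ := hUV (y - Y z) (by rw [map_sub, hy, hY, sub_self])
      rw [QuotientAddGroup.eq]
      refine ⟨a, hUinj ?_⟩
      rw [← hU, ha, map_sub, map_add, map_neg, hW, hw]
      abel
    let δ : Formal2.limZero G'' t'' →+ Formal2.limOne G' t' :=
      AddMonoidHom.mk' (fun z => QuotientAddGroup.mk (W z)) fun a b => by
        rw [← QuotientAddGroup.mk_add]
        exact hwd (a + b) (Y a + Y b) (W a + W b) (by rw [map_add, hY, hY]; rfl) (by rw [map_add, map_add, hW, hW])
    let ε : Formal2.limOne G' t' →+ Formal2.limOne G t :=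
      QuotientAddGroup.map _ _ U (by rintro _ ⟨a, rfl⟩; exact ⟨U a, hU a⟩)
    let ζ : Formal2.limOne G t →+ Formal2.limOne G'' t'' :=
      QuotientAddGroup.map _ _ V (by rintro _ ⟨a, rfl⟩; exact ⟨V a, hV a⟩)
    refine ⟨α, β, δ, ε, ζ, fun x n => rfl, fun x n => rfl, fun z y w hy hw => hwd z y w (funext hy) (funext hw),
      fun y => rfl, fun y => rfl, fun a b h => Subtype.ext (hUinj (congrArg Subtype.val h)), ?_, ?_, ?_, ?_, ?_⟩
    · refine le_antisymm ?_ fun x hx => ?_
      · rintro _ ⟨a, rfl⟩
        exact Subtype.ext (hVU a.1)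
      · obtain ⟨a, ha⟩ := hUV x.1 (congrArg Subtype.val hx)
        refine ⟨⟨a, hUinj ?_⟩, Subtype.ext ha⟩
        rw [← hU, ha, map_zero]; exact x.2
    · refine le_antisymm ?_ fun z hz => ?_
      · rintro _ ⟨x, rfl⟩
        refine (hwd (β x) x.1 0 rfl ?_).trans rfl
        rw [map_zero]; exact (show Formal2.towerDiff G t x.1 = 0 from x.2).symm
      · obtain ⟨a, ha⟩ := (QuotientAddGroup.eq_zero_iff (W z)).mp hz
        refine ⟨⟨Y z - U a, ?_⟩, Subtype.ext ?_⟩
        · change Formal2.towerDiff G t (Y z - U a) = 0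
          rw [map_sub, hU, ha, hW, sub_self]
        · change V (Y z - U a) = z.1
          rw [map_sub, hVU, sub_zero, hY]
    · refine le_antisymm ?_ fun q hq => ?_
      · rintro _ ⟨z, rfl⟩
        exact (QuotientAddGroup.eq_zero_iff _).mpr ⟨Y z, (hW z).symm⟩
      · induction q using QuotientAddGroup.induction_on with
        | H w =>
          obtain ⟨y, hy⟩ := (QuotientAddGroup.eq_zero_iff (U w)).mp hq
          refine ⟨⟨V y, ?_⟩, hwd ⟨V y, ?_⟩ y w rfl hy.symm⟩ <;>
          · change Formal2.towerDiff G'' t'' (V y) = 0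
            rw [hV, hy, hVU]
    · refine le_antisymm ?_ fun q hq => ?_
      · rintro _ ⟨q, rfl⟩
        induction q using QuotientAddGroup.induction_on with
        | H w => exact (QuotientAddGroup.eq_zero_iff (V (U w))).mpr (by rw [hVU]; exact zero_mem _)
      · induction q using QuotientAddGroup.induction_on with
        | H y =>
          obtain ⟨b, hb⟩ := (QuotientAddGroup.eq_zero_iff (V y)).mp hq
          obtain ⟨b', rfl⟩ := hVsurj b
          obtain ⟨w, hw⟩ := hUV (y - Formal2.towerDiff G t b') (by rw [map_sub, ← hV, hb, sub_self])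
          refine ⟨QuotientAddGroup.mk w, (QuotientAddGroup.eq.mpr ?_ : (QuotientAddGroup.mk (U w) : Formal2.limOne G t) = QuotientAddGroup.mk y)⟩
          exact ⟨b', by rw [hw]; abel⟩
    · intro q
      induction q using QuotientAddGroup.induction_on with
      | H z => exact ⟨QuotientAddGroup.mk (hVsurj z).choose, congrArg QuotientAddGroup.mk (hVsurj z).choose_spec⟩

end Groth.Agent.S14617
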