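import Groth.Statements.S14618
import Groth.Agent.H8Props.SplitFibres.Main

set_option autoImplicit false
universe u
open FlatMor

namespace Groth.Agent.S14618

open CategoryTheory CategoryTheory.Limits AlgebraicGeometry in
/-- Let f : X → S be a morphism of schemes and u : F → V a morphism of O_X-modules with F quasi-coherent
of finite type and V finite locally free. The following are equivalent: (a) u is a locally split
monomorphism, i.e. every point of X has an open neighbourhood U such that the restriction of u to U
has a left inverse; (b) for every point s of S the pullback of u to the fibre X_s = X ×_S Spec κ(s)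
is a locally split monomorphism on X_s; (c) for every point s of S the pullback of u to the
geometric fibre X ×_S Spec k̄, k̄ an algebraic closure of κ(s), is a locally split monomorphism.
Restrictions to opens and to fibres are written as module pullbacks along the corresponding
immersions/projections. (In the published statement X and S are schemes in a terminology where
schemes are separated preschemes; the proof is local on X and on S, so this row assumes no
separatedness.) -/
theorem result {X S : Scheme.{u}} (f : X ⟶ S) {F V : X.Modules} (u : F ⟶ V)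
    (hF : Coh.IsQCoh F) (hFt : CohB1.IsFT F) (hV : FlatMod.IsFinLocFree V) :
    [ ∀ x : X, ∃ U : X.Opens, x ∈ U ∧
        ∃ r : (Scheme.Modules.pullback U.ι).obj V ⟶ (Scheme.Modules.pullback U.ι).obj F,
          (Scheme.Modules.pullback U.ι).map u ≫ r = 𝟙 _,
      ∀ (s : S) (x : f.fiber s), ∃ U : (f.fiber s).Opens, x ∈ U ∧
        ∃ r : (Scheme.Modules.pullback U.ι).obj ((Scheme.Modules.pullback (f.fiberι s)).obj V) ⟶
            (Scheme.Modules.pullback U.ι).obj ((Scheme.Modules.pullback (f.fiberι s)).obj F),
          (Scheme.Modules.pullback U.ι).map ((Scheme.Modules.pullback (f.fiberι s)).map u) ≫ r = 𝟙 _,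
      ∀ (s : S) (x : ↑(pullback f (Spec.map (CommRingCat.ofHom (algebraMap (S.residueField s)
            (AlgebraicClosure (S.residueField s)))) ≫ S.fromSpecResidueField s))),
        ∃ U : Scheme.Opens _, x ∈ U ∧
        ∃ r : (Scheme.Modules.pullback U.ι).obj ((Scheme.Modules.pullback (pullback.fst f
              (Spec.map (CommRingCat.ofHom (algebraMap (S.residueField s) (AlgebraicClosure (S.residueField s)))) ≫
                S.fromSpecResidueField s))).obj V) ⟶
            (Scheme.Modules.pullback U.ι).obj ((Scheme.Modules.pullback (pullback.fst f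
              (Spec.map (CommRingCat.ofHom (algebraMap (S.residueField s) (AlgebraicClosure (S.residueField s)))) ≫
                S.fromSpecResidueField s))).obj F),
          (Scheme.Modules.pullback U.ι).map ((Scheme.Modules.pullback (pullback.fst f
              (Spec.map (CommRingCat.ofHom (algebraMap (S.residueField s) (AlgebraicClosure (S.residueField s)))) ≫
                S.fromSpecResidueField s))).map u) ≫ r = 𝟙 _ ].TFAE := by
  classical
  have down : ∀ {Y : Scheme.{u}} (h : Y ⟶ X) (y : Y),
      (∀ x : X, ∃ U : X.Opens, x ∈ U ∧ Groth.Agent.H8Props.SplitFibres.Split U.ι u) →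
        ∃ U : Y.Opens, y ∈ U ∧ Groth.Agent.H8Props.SplitFibres.Split U.ι ((Scheme.Modules.pullback h).map u) :=
    fun h y H => by
      obtain ⟨U, hU, hs⟩ := H (h y)
      exact ⟨h ⁻¹ᵁ U, hU, Groth.Agent.H8Props.SplitFibres.exists_split_pullback h hs⟩
  have up : ∀ {Y : Scheme.{u}} (h : Y ⟶ X) (x : X), (∃ y, h y = x) →
      (∀ y : Y, ∃ U : Y.Opens, y ∈ U ∧ Groth.Agent.H8Props.SplitFibres.Split U.ι ((Scheme.Modules.pullback h).map u)) →
        ∃ U : X.Opens, x ∈ U ∧ Groth.Agent.H8Props.SplitFibres.Split U.ι u := by
    rintro Y h _ ⟨y, rfl⟩ H
    obtain ⟨U, hU, hs⟩ := H y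
    exact Groth.Agent.H8Props.SplitFibres.exists_split_of_pullback hF hFt hV u h y hU hs
  tfae_have 1 → 2 := fun H s x => down (f.fiberι s) x H
  tfae_have 1 → 3 := fun H s x => down (pullback.fst f _) x H
  tfae_have 2 → 1 := fun H x => up (f.fiberι (f x)) x
    (show x ∈ Set.range (f.fiberι (f x)) from (f.range_fiberι (f x)).ge rfl) (H (f x))
  tfae_have 3 → 1 := fun H x => by
    refine up _ x ?_ (H (f x))
    obtain ⟨z, hz, -⟩ := Scheme.Pullback.exists_preimage_pullback (f := f)
      (g := Spec.map (CommRingCat.ofHom (algebraMap (S.residueField (f x)) (AlgebraicClosure (S.residueField (f x))))) ≫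
        S.fromSpecResidueField (f x)) x (default : PrimeSpectrum (AlgebraicClosure (S.residueField (f x)))) (by
        rw [Scheme.Hom.comp_apply, Scheme.fromSpecResidueField_apply])
    exact ⟨z, hz⟩
  tfae_finish

end Groth.Agent.S14618
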