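import Groth.Statements.S14621
import Mathlib
import Groth.Agent.H15Site.ToposFin.Colim

open ToposFin Groth.Agent.H15Site.TFin

set_option linter.style.haveILetI false
open CategoryTheory CategoryTheory.Limits Opposite Simplicial

set_option autoImplicit false
open CategoryTheory CategoryTheory.Limits
universe u
open CohSite

namespace Groth.Agent.S14621

/-- Let C be a small category with pullbacks and J a Grothendieck topology on C in which every object is
quasi-compact in the site sense (every covering sieve contains finitely many morphisms which already
generate a covering sieve). Then for every small filtered category I the inclusion of sheaves of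
sets on (C, J) into presheaves preserves colimits of shape I: filtered colimits of sheaves are
computed objectwise. (Only sheaves of sets are stated; the same holds for sheaves of abelian groups
or modules. All pullbacks in C are assumed.) -/
theorem result {C : Type u} [SmallCategory C]
    [HasPullbacks C] (J : GrothendieckTopology C) (hJ : ∀ U : C, ToposFin.IsQCSite J U)
    (I : Type u) [SmallCategory I] [IsFiltered I] :
    PreservesColimitsOfShape I (sheafToPresheaf J (Type u)) := by
  refine ⟨fun {D} => ⟨fun {c} hc => ⟨evaluationJointlyReflectsColimits _ fun U => ?_⟩⟩⟩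
  refine Types.FilteredColimit.isColimitOf' _ _ (fun x => ?_) (fun i y y' h => ?_)
  · obtain ⟨i, a, ha⟩ := hom_colimit_surj (hasQCGenerators_eps hJ) (isCoherent_eps hJ U.unop) hc
      ((Groth.Agent.H15Site.sheafifyYonedaHomEquiv J U.unop c.pt).symm x)
    refine ⟨i, Groth.Agent.H15Site.sheafifyYonedaHomEquiv J U.unop (D.obj i) a, ?_⟩
    have := congrArg (Groth.Agent.H15Site.sheafifyYonedaHomEquiv J U.unop c.pt) ha
    rw [Equiv.apply_symm_apply, Groth.Agent.H15Site.sheafifyYonedaHomEquiv_naturality_right] at this
    exact this.symm
  · let e := fun Z : ToposFin.Sh J => Groth.Agent.H15Site.sheafifyYonedaHomEquiv J U.unop Z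
    obtain ⟨k, f, hf⟩ := hom_colimit_inj (isQC_eps hJ U.unop) hc (i := i)
      ((e (D.obj i)).symm y) ((e (D.obj i)).symm y') ((e c.pt).injective (by
        simp only [e, Groth.Agent.H15Site.sheafifyYonedaHomEquiv_naturality_right, Equiv.apply_symm_apply]
        exact h))
    refine ⟨k, f, ?_⟩
    have := congrArg (e (D.obj k)) hf
    simp only [e, Groth.Agent.H15Site.sheafifyYonedaHomEquiv_naturality_right, Equiv.apply_symm_apply] at this
    exact this

end Groth.Agent.S14621
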