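import Groth.Statements.S14623
import Groth.Agent.H16Derived.DerAdj
import Mathlib.CategoryTheory.Adjunction.Restrict
import Mathlib.CategoryTheory.Functor.Derived.PointwiseLeftDerived
import Mathlib.CategoryTheory.Functor.Derived.Adjunction
import Mathlib.Algebra.Homology.DerivedCategory.RightDerivedFunctorPlus

set_option autoImplicit false
open CategoryTheory CategoryTheory.Limits
universe w v u
open CohDer

namespace Groth.Agent.S14623

open Groth.Agent.H16Derived

set_option linter.style.haveILetI false

theorem exists_resolution {A : Type u} [Category.{v} A] [Abelian A] [EnoughInjectives A]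
    (X : HomotopyCategory.Plus A) :
    ∃ (L : CochainComplex.Plus (InjectiveObject A)) (s : X ⟶ (HomotopyCategory.Plus.quotient A).obj
      ((InjectiveObject.ι A).mapCochainComplexPlus.obj L)), HomotopyCategory.Plus.quasiIso A s := by
  obtain ⟨⟨K⟩, hX⟩ := X
  have hK : CochainComplex.plus A K := (HomotopyCategory.plus_quotient_obj_iff K).1 hX
  obtain ⟨n, hn⟩ := hK
  obtain ⟨L, -, i, hi⟩ := CochainComplex.Plus.exists_quasiIso_injective ⟨K, ⟨n, hn⟩⟩ n
  exact ⟨L, (HomotopyCategory.Plus.quotient A).map i, (HomotopyCategory.quotient_map_mem_quasiIso_iff i.hom).2 hi⟩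

theorem inverts {A B : Type u} [Category.{v} A] [Category.{v} B] [Abelian A] [Abelian B]
    [HasDerivedCategory.{w} B] (L : A ⥤ B) [L.Additive] [PreservesFiniteLimits L] [PreservesFiniteColimits L] :
    (HomotopyCategory.Plus.quasiIso A).IsInvertedBy
      (L.mapHomotopyCategoryPlus ⋙ DerivedCategory.Plus.Qh) := by
  intro X Y f hf
  refine Localization.inverts DerivedCategory.Plus.Qh (HomotopyCategory.Plus.quasiIso B) _ ?_
  rw [HomotopyCategory.Plus.quasiIso_iff]
  obtain ⟨⟨X⟩, hX⟩ := X
  obtain ⟨⟨Y⟩, hY⟩ := Y
  obtain ⟨φ, hφ⟩ := (HomotopyCategory.quotient A (ComplexShape.up ℤ)).map_surjective f.hom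
  have hq : QuasiIso φ := by
    have : HomotopyCategory.quasiIso A _ f.hom := hf
    rw [← hφ] at this
    exact (HomotopyCategory.quotient_map_mem_quasiIso_iff φ).1 this
  show HomotopyCategory.quasiIso B _ ((L.mapHomotopyCategory _).map f.hom)
  rw [← hφ]
  exact (HomotopyCategory.quotient_map_mem_quasiIso_iff
    ((L.mapHomologicalComplex _).map φ)).2 (show QuasiIso ((L.mapHomologicalComplex _).map φ) from inferInstance)

/-- Let A and B be abelian categories with enough injectives, L : A ⥤ B an exact additive functor and R
: B ⥤ A an additive right adjoint of L. Then on bounded below derived categories the functor induced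
by L (written as its total right derived functor, L being exact) is left adjoint to the right
derived functor of R; the existence of an adjunction is asserted. -/
theorem result {A B : Type u} [Category.{v} A] [Category.{v} B]
    [Abelian A] [Abelian B] [HasDerivedCategory.{w} A] [HasDerivedCategory.{w} B]
    [EnoughInjectives A] [EnoughInjectives B] {L : A ⥤ B} {R : B ⥤ A} (adj : L ⊣ R)
    [L.Additive] [R.Additive] [PreservesFiniteLimits L] [PreservesFiniteColimits L] :
    Nonempty (L.rightDerivedFunctorPlus ⊣ R.rightDerivedFunctorPlus) := by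
  let c := ComplexShape.up ℤ
  let a₀ := mapHomologicalComplexAdj adj c
  let aH : L.mapHomotopyCategory c ⊣ R.mapHomotopyCategory c :=
    a₀.localization (HomotopyCategory.quotient A c) (HomologicalComplex.homotopyEquivalences A c)
      (HomotopyCategory.quotient B c) (HomologicalComplex.homotopyEquivalences B c) _ _
  let aP : L.mapHomotopyCategoryPlus ⊣ R.mapHomotopyCategoryPlus :=
    aH.restrictFullyFaithful (HomotopyCategory.Plus.fullyFaithfulι A)
      (HomotopyCategory.Plus.fullyFaithfulι B) (Iso.refl _) (Iso.refl _)
  let WA := HomotopyCategory.Plus.quasiIso A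
  let WB := HomotopyCategory.Plus.quasiIso B
  let G' := L.rightDerivedFunctorPlus
  let F' := R.rightDerivedFunctorPlus
  haveI := Functor.isIso_of_isRightDerivedFunctor_of_inverts G' L.rightDerivedFunctorPlusUnit (inverts L)
  let e := (asIso L.rightDerivedFunctorPlusUnit).symm
  let β := R.rightDerivedFunctorPlusUnit
  haveI : G'.IsLeftDerivedFunctor e.hom WA := Functor.isLeftDerivedFunctor_of_inverts WA G' e
  haveI : (G' ⋙ F').IsLeftDerivedFunctor
      ((Functor.associator _ _ _).inv ≫ Functor.whiskerRight e.hom F') WA :=
    Functor.isLeftDerivedFunctor_of_inverts WA (G' ⋙ F')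
      ((Functor.associator _ _ _).symm ≪≫ Functor.isoWhiskerRight e F')
  haveI : (F' ⋙ G').IsRightDerivedFunctor
      (Functor.whiskerRight β G' ≫ (Functor.associator _ _ _).hom) WB := by
    refine RDerived.isRightDerivedFunctor_of_isIso_local DerivedCategory.Plus.Qh WB _ _ _ fun X => ?_
    obtain ⟨K, s, hs⟩ := exists_resolution X
    refine ⟨_, s, hs, fun Y => DerivedCategory.Plus.Qh_map_bijective_of_isKInjective Y _ ?_, ?_⟩
    · exact inferInstanceAs (CochainComplex.IsKInjective
        (((InjectiveObject.ι B).mapHomologicalComplex (ComplexShape.up ℤ)).obj K.obj))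
    · simp only [NatTrans.comp_app, Functor.associator_hom_app, Functor.whiskerRight_app]
      infer_instance
  exact ⟨aP.derived WA WB e.hom β⟩

end Groth.Agent.S14623
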