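import Groth.Statements.S14625
import Groth.Agent.H18Et.MuConst
import Mathlib.FieldTheory.IsSepClosed
import Mathlib.RingTheory.Henselian

set_option autoImplicit false
open CategoryTheory AlgebraicGeometry
universe u
open EtBase

namespace Groth.Agent.S14625

/-- Let A be a strictly henselian local ring, n ≥ 1 an integer invertible in A, and X a scheme over Spec
A. Then the étale sheaf μ_n of n-th roots of unity on X is isomorphic to the constant sheaf with
value ℤ/n. Only the existence of an isomorphism is asserted; it depends on the choice of a primitive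
n-th root of unity in A. -/
theorem result (A : Type u) [CommRing A]
    (hA : EtCoh.IsStrictlyHenselianLocalRing A) (n : ℕ) (hn : 1 ≤ n) (hu : IsUnit (n : A))
    (X : Scheme.{u}) (f : X ⟶ Spec (CommRingCat.of A)) :
    Nonempty (EtCoh.mu X n ≅ EtCoh.const X (ZMod n)) := by
  obtain ⟨hA, hk⟩ := hA
  haveI := hA
  haveI := hk
  let k := IsLocalRing.ResidueField A
  haveI : NeZero (n : k) := ⟨by simpa using (hu.map (IsLocalRing.residue A)).ne_zero⟩
  have hsep : (Polynomial.cyclotomic n k).Separable := Polynomial.separable_cyclotomic n k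
  obtain ⟨a, ha⟩ := IsSepClosed.exists_root (Polynomial.cyclotomic n k)
    (Polynomial.degree_cyclotomic_pos n k (by omega)).ne' hsep
  obtain ⟨a₀, rfl⟩ := IsLocalRing.residue_surjective a
  have he : ∀ q : Polynomial A, (q.map (IsLocalRing.residue A)).eval (IsLocalRing.residue A a₀) =
      IsLocalRing.residue A (q.eval a₀) := fun q => Polynomial.eval_map_apply _ _
  rw [← Polynomial.map_cyclotomic n (IsLocalRing.residue A)] at ha hsep
  obtain ⟨ζ, hζ, -⟩ := HenselianLocalRing.is_henselian (Polynomial.cyclotomic n A)
    (Polynomial.cyclotomic.monic n A) a₀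
    (by rw [← IsLocalRing.residue_eq_zero_iff, ← he]; exact ha)
    (by
      rw [← IsLocalRing.residue_ne_zero_iff_isUnit, ← he, ← Polynomial.derivative_map]
      have := hsep.aeval_derivative_ne_zero (x := IsLocalRing.residue A a₀)
        (by rw [Polynomial.coe_aeval_eq_eval]; exact ha)
      rw [Polynomial.coe_aeval_eq_eval] at this
      exact this)
  let φ : A →+* Γ(X, ⊤) := ((Scheme.ΓSpecIso (CommRingCat.of A)).inv ≫ f.appTop).hom
  refine Groth.Agent.H18Et.MuConst.nonempty_iso hn (by simpa using hu.map φ) (φ ζ) ?_
  refine Groth.Agent.H18Et.MuConst.map_aeval φ ?_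
  rw [Polynomial.aeval_def, Polynomial.eval₂_eq_eval_map]
  rw [show algebraMap ℤ A = Int.castRingHom A from rfl, Polynomial.map_cyclotomic]
  exact hζ

end Groth.Agent.S14625
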