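import Groth.Statements.S14628
import Groth.Agent.H18Cech.Lift
import Groth.Agent.H18Et.Subterminal
import Mathlib.Algebra.Homology.HomologySequence
import Mathlib.CategoryTheory.Sites.LeftExact

set_option autoImplicit false
open CategoryTheory CategoryTheory.Limits AlgebraicGeometry
universe u
open EtBase

namespace Groth.Agent.S14628

/-- On the small étale site of a scheme, let 0 → F' → F → F'' → 0 be a short exact sequence of abelian
étale sheaves on a scheme X. If F' and F are flasque in the Čech sense (for every étale U over X and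
every jointly surjective family of étale U-schemes, Čech cohomology in positive degrees vanishes),
then so is F''. The finite products of the over categories (the fibre products entering the Čech
complexes) are carried as instance hypotheses. -/
theorem result {X : Scheme.{u}}
    [∀ U : X.Etale, HasFiniteProducts (Over U)] (S : ShortComplex (EtCoh.Ab X)) (hS : S.ShortExact)
    (h1 : (∀ (U : X.Etale) (ι : Type (u + 1)) (Uf : ι → Over U),
      (∀ x : ↥(U.left), ∃ (i : ι) (y : ↥((Uf i).left.left)), (Uf i).hom.left.base y = x) →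
      ∀ p : ℕ, 0 < p → IsZero (EtCech.cechH Uf S.X₁.obj p)))
    (h2 : (∀ (U : X.Etale) (ι : Type (u + 1)) (Uf : ι → Over U),
      (∀ x : ↥(U.left), ∃ (i : ι) (y : ↥((Uf i).left.left)), (Uf i).hom.left.base y = x) →
      ∀ p : ℕ, 0 < p → IsZero (EtCech.cechH Uf S.X₂.obj p)))
    (U : X.Etale) (ι : Type (u + 1)) (Uf : ι → Over U)
    (hU : ∀ x : ↥(U.left), ∃ (i : ι) (y : ↥((Uf i).left.left)), (Uf i).hom.left.base y = x)
    (p : ℕ) (hp : 0 < p) :
    IsZero (EtCech.cechH Uf S.X₃.obj p) := by
  let S' : ShortComplex (X.Etaleᵒᵖ ⥤ AddCommGrpCat.{u + 1}) := S.map (sheafToPresheaf _ _)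
  have hi : ∀ V, Function.Injective (S'.f.app V) := fun V => by
    haveI := hS.mono_f
    haveI : Mono S'.f := (sheafToPresheaf _ _).map_mono S.f
    exact (AddCommGrpCat.mono_iff_injective _).1 inferInstance
  have he : ∀ V x, S'.g.app V x = 0 → ∃ y, S'.f.app V y = x := fun V => by
    haveI := hS.mono_f
    exact (ShortComplex.ab_exact_iff _).1 (hS.exact.map_of_mono_of_preservesKernel
      (sheafToPresheaf X.smallEtaleTopology AddCommGrpCat.{u + 1} ⋙ (evaluation _ _).obj V) inferInstance inferInstance)
  have hsurj : ∀ W : X.Etale, Function.Surjective (S'.g.app (Opposite.op W)) := by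
    intro W s
    haveI := hS.epi_g
    haveI : Sheaf.IsLocallySurjective S.g := (Sheaf.isLocallySurjective_iff_epi' _ S.g).2 inferInstance
    have hcov : Presheaf.imageSieve S.g.hom s ∈ X.smallEtaleTopology W := Presheaf.imageSieve_mem _ S.g.hom s
    choose V g v hv hvy using fun x : W.left => Groth.Agent.H18Et.Subterminal.exists_mem_of_cover hcov x
    let Y : ULift.{u + 1} W.left → Over W := fun x => Over.mk (g x.down)
    have hgen : Sieve.generate (Presieve.ofArrows (fun i => (Y i).left) (fun i => (Y i).hom)) ∈ X.smallEtaleTopology W :=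
      Groth.Agent.H18Et.mem_topology_of_forall_point _ fun x =>
        ⟨V x, g x, v x, ⟨V x, 𝟙 _, g x, Presieve.ofArrows.mk (ULift.up x), Category.id_comp _⟩, hvy x⟩
    have hsh : ∀ G : EtCoh.Ab X, Presieve.IsSheafFor (G.obj ⋙ CategoryTheory.forget AddCommGrpCat.{u + 1})
        (Presieve.ofArrows (fun i => (Y i).left) (fun i => (Y i).hom)) := fun G => by
      rw [Presieve.isSheafFor_iff_generate]
      exact ((isSheaf_iff_isSheaf_of_type _ _).1
        ((sheafCompose _ (CategoryTheory.forget AddCommGrpCat.{u + 1})).obj G).property) _ hgen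
    exact Groth.Agent.H18Cech.exists_lift_of_isZero Y hi he (hsh S.X₂) (hsh S.X₃).isSeparatedFor
      (h1 W _ Y (fun x => ⟨ULift.up x, v x, hvy x⟩) 1 Nat.one_pos) s fun i => hv i.down
  have hT := Groth.Agent.H18Cech.shortExact_map Uf hi he fun n a => hsurj _
  obtain ⟨q, rfl⟩ := Nat.exists_eq_succ_of_ne_zero hp.ne'
  exact (hT.homology_exact₃ (q + 1) (q + 1 + 1) rfl).isZero_of_both_zeros
    ((h2 U ι Uf hU (q + 1) hp).eq_of_src _ _) ((h1 U ι Uf hU (q + 1 + 1) (Nat.succ_pos _)).eq_of_tgt _ _)

end Groth.Agent.S14628
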