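-- statement FlatMor.GrothFrozen.S1463 (Groth/Statements/S1463.lean; the theorem FlatMor.noetherian_approximation_geometricallyConnected);
import Groth.Statements.S1463
import Groth.Agent.H7Flat.GeomInt.Constructible

set_option autoImplicit false
universe u
open FlatMor

namespace Groth.Agent.S1463

open AlgebraicGeometry CategoryTheory Limits in
/-- Let f : X → S be a morphism of finite presentation between affine schemes whose fibres are
geometrically connected. Then f is the base change of a morphism of finite type f₀ : X₀ → S₀ between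
affine schemes with S₀ of finite type over ℤ, where f₀ can be chosen with the same property. -/
theorem result {X S : Scheme.{u}} (f : X ⟶ S) [IsAffine X] [IsAffine S] [LocallyOfFinitePresentation f] [GeometricallyConnected f] :
    ∃ (X₀ S₀ : Scheme.{u}) (f₀ : X₀ ⟶ S₀) (g : S ⟶ S₀) (g' : X ⟶ X₀), IsAffine X₀ ∧ IsAffine S₀ ∧ IsPullback g' f f₀ g ∧
      Algebra.FiniteType ℤ Γ(S₀, ⊤) ∧ LocallyOfFiniteType f₀ ∧ GeometricallyConnected f₀ := by
  obtain ⟨X₀, S₀, f₀, g, g', h1, h2, h3, h4, h5, h6⟩ := H7Flat.GeomInt.exists_model_of_constructible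
    (fun _ _ f s => MoreMor.nGeomConnComp f s = 1)
    (fun hc s => by rw [(H7Flat.GeomInt.nGeom_baseChange hc s).2])
    (fun f => H7Flat.GeomInt.isConstructible_nGeomConnComp_noetherian f 1) f
    (fun s => (H7Flat.GeomInt.geometricallyConnected_fiber_iff f s).1 inferInstance)
  refine ⟨X₀, S₀, f₀, g, g', h1, h2, h3, h4, h5, ?_⟩
  rw [GeometricallyConnected.iff_geometricallyConnected_fiber]
  exact fun s => (H7Flat.GeomInt.geometricallyConnected_fiber_iff f₀ s).2 (h6 s)

end Groth.Agent.S1463
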