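import Groth.Statements.S14631
import Mathlib.AlgebraicGeometry.Morphisms.QuasiSeparated

set_option autoImplicit false
open CategoryTheory AlgebraicGeometry
universe u
open EtBase

namespace Groth.Agent.S14631

/-- Let X be a quasi-separated scheme and U an étale X-scheme. Then there is a jointly surjective family
of étale U-schemes each of which is quasi-compact and quasi-separated, hence of finite presentation,
over X. (Sheaves on the small étale site are therefore determined by their values on étale X-schemes
of finite presentation; that equivalence is not stated here.) -/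
theorem result (X : Scheme.{u})
    [QuasiSeparatedSpace ↥X] (U : X.Etale) :
    ∃ (ι : Type u) (V : ι → Over U), (∀ i, QuasiCompact (V i).left.hom ∧ QuasiSeparated (V i).left.hom) ∧
      ∀ x : ↥(U.left), ∃ (i : ι) (y : ↥((V i).left.left)), (V i).hom.left.base y = x := by
  have hcov : ∀ x : ↥U.left, ∃ W : U.left.Opens, IsAffineOpen W ∧ x ∈ W := fun x => by
    obtain ⟨_, ⟨W, hW, rfl⟩, hx, -⟩ :=
      U.left.isBasis_affineOpens.exists_subset_of_mem_open (Set.mem_univ x) isOpen_univ
    exact ⟨W, hW, hx⟩
  choose W hW hxW using hcov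
  haveI : Etale U.hom := U.prop
  have hEt : ∀ x, Etale ((W x).ι ≫ U.hom) := fun x => inferInstance
  refine ⟨↥U.left, fun x => Over.mk (MorphismProperty.Over.homMk (P := @Etale) (Q := ⊤)
    (A := MorphismProperty.Over.mk ⊤ ((W x).ι ≫ U.hom) (hEt x)) (B := U) (W x).ι rfl trivial), fun x => ?_,
    fun x => ?_⟩
  · haveI : IsAffine (W x : Scheme.{u}) := hW x
    haveI : QuasiSeparatedSpace ↥X := inferInstance
    haveI : QuasiSeparatedSpace ↥((Functor.fromPUnit X).obj U.right) := ‹QuasiSeparatedSpace ↥X›
    change QuasiCompact ((W x).ι ≫ U.hom) ∧ QuasiSeparated ((W x).ι ≫ U.hom)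
    exact ⟨inferInstance, inferInstance⟩
  · exact ⟨x, ⟨x, hxW x⟩, rfl⟩

end Groth.Agent.S14631
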