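import Groth.Statements.S14633
import Mathlib
import Groth.Agent.H19Grp.PointsEqClosed
import Groth.Agent.H19Grp.QuotientDesc
import Groth.Agent.H06Desc.Geom
import Groth.Agent.H13AlgSp.EtaleLocally

set_option autoImplicit false
set_option linter.style.haveILetI false
set_option backward.isDefEq.respectTransparency false
universe u
open CategoryTheory MonoidalCategory CartesianMonoidalCategory MonObj GrpObj AlgebraicGeometry CategoryTheory.Limits
open AlgGrp

namespace Groth.Agent.S14633

/-- Over a field k, let G be a smooth connected k-group scheme of finite type and let Z be a reduced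
k-scheme of finite type of dimension at most 0 (for Z empty the conclusion is immediate). Then every
action of G on Z is trivial: the action morphism G × Z → Z is the second projection. -/
theorem result (k : Type u) [Field k]
    (G Z : Over (Spec (CommRingCat.of k))) [GrpObj G] [Smooth G.hom] [QuasiCompact G.hom] [ConnectedSpace ↥G.left]
    [LocallyOfFiniteType Z.hom] [QuasiCompact Z.hom] [IsReduced Z.left] (hdim : topologicalKrullDim ↥Z.left ≤ 0)
    (a : AlgGrp.Action G Z) : a.act = CartesianMonoidalCategory.snd G Z := by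
  haveI : Finite Z.left ∧ DiscreteTopology Z.left := by
    haveI : IsLocallyNoetherian Z.left := LocallyOfFiniteType.isLocallyNoetherian Z.hom
    haveI : IsLocallyArtinian Z.left := IsLocallyArtinian.of_topologicalKrullDim_le_zero hdim
    haveI : CompactSpace Z.left := QuasiCompact.compactSpace_of_compactSpace Z.hom
    haveI : DiscreteTopology Z.left := inferInstance
    exact ⟨finite_of_compact_of_discrete, inferInstance⟩
  obtain ⟨_, _⟩ := this
  haveI : IsAffine Z.left := inferInstance
  haveI : IsFinite Z.hom := by
    obtain ⟨ψ, hψ⟩ := Spec.map_surjective (Z.left.isoSpec.inv ≫ Z.hom)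
    haveI : LocallyOfFiniteType (Spec.map ψ) := by rw [hψ]; infer_instance
    have hft : ψ.hom.FiniteType := HasRingHomProperty.Spec_iff.mp this
    algebraize [ψ.hom]
    haveI : Algebra.FiniteType k Γ(Z.left, ⊤) := hft
    haveI : IsLocallyNoetherian Z.left := LocallyOfFiniteType.isLocallyNoetherian Z.hom
    haveI : IsLocallyArtinian Z.left := IsLocallyArtinian.of_topologicalKrullDim_le_zero hdim
    haveI : IsArtinianRing Γ(Z.left, ⊤) := IsLocallyArtinian.isArtinianRing_of_isAffine
    have hfin : ψ.hom.Finite := (Module.finite_iff_isArtinianRing k Γ(Z.left, ⊤)).2 inferInstance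
    rw [← MorphismProperty.cancel_left_of_respectsIso @IsFinite Z.left.isoSpec.inv, ← hψ]
    exact (IsFinite.SpecMap_iff _).2 hfin
  let K := AlgebraicClosure k
  let Ko : Over (Spec (CommRingCat.of k)) := Over.mk (Spec.map (CommRingCat.ofHom (algebraMap k K)))
  haveI : GeometricallyConnected G.hom := by
    haveI : GeometricallyConnected ((η[G]).left ≫ G.hom) := by
      rw [Over.w η[G]]
      refine ⟨fun L _ y W f₁ f₂ h => ?_⟩
      haveI : IsIso f₂ := MorphismProperty.of_isPullback (P := MorphismProperty.isomorphisms Scheme.{u}) h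
        (inferInstanceAs (IsIso (𝟙 (Spec (CommRingCat.of k)))))
      exact (Scheme.Hom.homeomorph f₂).connectedSpace_iff.2
        (inferInstanceAs (ConnectedSpace (Spec (CommRingCat.of L))))
    haveI : Nonempty ↥(𝟙_ (Over (Spec (CommRingCat.of k)))).left :=
      inferInstanceAs (Nonempty ↥(Spec (CommRingCat.of k)))
    exact H06Desc.geometricallyConnected_of_source (η[G]).left G.hom
  let iK : (Z ⊗ Ko).left ⟶ Spec (CommRingCat.of K) := pullback.snd Z.hom Ko.hom
  haveI : IsFinite iK := inferInstanceAs (IsFinite (pullback.snd Z.hom Ko.hom))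
  haveI : DiscreteTopology (Z ⊗ Ko).left := by
    haveI : Finite (Z ⊗ Ko).left := by
      rw [← Set.finite_univ_iff]
      have h := iK.finite_preimage_singleton (IsLocalRing.closedPoint K)
      have e : iK ⁻¹' {IsLocalRing.closedPoint K} = Set.univ :=
        Set.eq_univ_of_forall fun x => Subsingleton.elim (α := PrimeSpectrum K) _ _
      rwa [e] at h
    haveI := LocallyOfFiniteType.jacobsonSpace iK
    infer_instance
  haveI : GeometricallyConnected (pullback.snd G.hom Ko.hom) := inferInstance
  haveI : ConnectedSpace (G ⊗ Ko).left := by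
    haveI : Subsingleton Ko.left := inferInstanceAs (Subsingleton (PrimeSpectrum K))
    haveI : ConnectedSpace Ko.left := inferInstanceAs (ConnectedSpace (Spec (CommRingCat.of K)))
    exact GeometricallyConnected.connectedSpace_of_subsingleton (pullback.snd G.hom Ko.hom)
  haveI : IsReduced (G ⊗ Ko).left := by
    haveI : IsReduced Ko.left := inferInstanceAs (IsReduced (Spec (CommRingCat.of K)))
    exact H13AlgSp.isReduced_of_smooth_mor (pullback.snd G.hom Ko.hom)
  haveI : IsReduced (G ⊗ Z).left := H13AlgSp.isReduced_of_smooth_mor (pullback.snd G.hom Z.hom)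
  haveI : LocallyOfFiniteType (G ⊗ Z).hom := by
    show LocallyOfFiniteType (pullback.fst G.hom Z.hom ≫ G.hom)
    infer_instance
  haveI : IsClosedImmersion (lift (𝟙 Z) (𝟙 Z)).left := by
    have e : (lift (𝟙 Z) (𝟙 Z)).left = pullback.diagonal Z.hom := by
      rw [Over.lift_left]; ext <;> simp
    rw [e]; infer_instance
  obtain ⟨P, c, p, hc, hp, hu⟩ := H19Grp.PointsDense.exists_preimage (lift (𝟙 Z) (𝟙 Z)) (lift a.act (snd G Z))
  haveI := H19Grp.PointsDense.isIso_of_points_reduced (K := K) c fun w => hu _ w (w ≫ snd G Z) (by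
    rw [comp_lift, comp_lift, Category.comp_id]
    congr 1
    let g := w ≫ fst G Z
    let z := w ≫ snd G Z
    let f₁ : G ⊗ Ko ⟶ Z ⊗ Ko := lift (lift (fst G Ko) (snd G Ko ≫ z) ≫ a.act) (snd G Ko)
    let f₂ : G ⊗ Ko ⟶ Z ⊗ Ko := lift (snd G Ko ≫ z) (snd G Ko)
    let e : Ko ⟶ G ⊗ Ko := lift 1 (𝟙 Ko)
    have he : e ≫ f₁ = e ≫ f₂ := by
      simp only [e, f₁, f₂, comp_lift, ← Category.assoc, lift_fst, lift_snd, Category.id_comp]
      rw [H19Grp.QuotientDesc.one_act]
    have hsn : f₁.left ≫ iK = f₂.left ≫ iK := by
      show f₁.left ≫ (snd Z Ko).left = f₂.left ≫ (snd Z Ko).left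
      rw [← Over.comp_left, ← Over.comp_left, lift_snd, lift_snd]
    have h12 : f₁ = f₂ := by
      apply Over.OverMorphism.ext
      haveI : LocallyOfFiniteType (f₁.left ≫ iK) := by
        show LocallyOfFiniteType (f₁.left ≫ (snd Z Ko).left)
        rw [← Over.comp_left, lift_snd]
        exact inferInstanceAs (LocallyOfFiniteType (pullback.snd G.hom Ko.hom))
      refine ext_of_apply_eq iK Set.univ isOpen_univ.isLocallyClosed dense_univ (fun x _ _ => ?_) hsn
      let x₀ := e.left (IsLocalRing.closedPoint K)
      rw [PreconnectedSpace.constant inferInstance f₁.left.continuous (x := x) (y := x₀),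
        PreconnectedSpace.constant inferInstance f₂.left.continuous (x := x) (y := x₀)]
      exact congrArg (fun φ => φ.left (IsLocalRing.closedPoint K)) he
    have := congrArg (fun φ => lift g (𝟙 Ko) ≫ φ ≫ fst Z Ko) h12
    simp only [f₁, f₂, lift_fst, ← Category.assoc, comp_lift, lift_snd] at this
    rw [Category.id_comp] at this
    conv_rhs => rw [show w = lift g z by apply CartesianMonoidalCategory.hom_ext <;> simp [g, z]]
    exact this.symm)
  have h1 := congrArg (· ≫ fst Z Z) hp
  have h2 := congrArg (· ≫ snd Z Z) hp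
  simp only [Category.assoc, lift_fst, lift_snd, Category.comp_id] at h1 h2
  rw [← cancel_epi c, ← h1, h2]

end Groth.Agent.S14633
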