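import Groth.Statements.S14634
import Groth.Agent.H19Grp.ConnFibre
import Groth.Agent.H19Grp.AbSchemeRigid
import Groth.Agent.S4643

set_option backward.isDefEq.respectTransparency false

set_option autoImplicit false
universe u
open CategoryTheory MonoidalCategory CartesianMonoidalCategory MonObj GrpObj AlgebraicGeometry CategoryTheory.Limits
open AlgGrp

namespace Groth.Agent.S14634

open CategoryTheory.Limits in
/-- Four nested irreducible closed sets force dimension at least three. -/
theorem three_le_dim {T : Type u} [TopologicalSpace T] (a b c d : TopologicalSpace.IrreducibleCloseds T)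
    (h1 : a < b) (h2 : b < c) (h3 : c < d) : (3 : WithBot ℕ∞) ≤ topologicalKrullDim T := by
  let l : LTSeries (TopologicalSpace.IrreducibleCloseds T) :=
    ⟨3, ![a, b, c, d], fun i => by fin_cases i <;> assumption⟩
  exact le_trans (le_refl _) (Order.LTSeries.length_le_krullDim l)

theorem not_dim_one {T : Type u} [TopologicalSpace T] [Subsingleton T] (h : topologicalKrullDim T = 1) : False := by
  haveI : Subsingleton (TopologicalSpace.IrreducibleCloseds T) := ⟨fun a b => by
    refine SetLike.coe_injective ?_
    obtain ⟨x, hx⟩ := a.isIrreducible.nonempty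
    obtain ⟨y, hy⟩ := b.isIrreducible.nonempty
    ext z
    exact ⟨fun _ => Subsingleton.elim y z ▸ hy, fun _ => Subsingleton.elim x z ▸ hx⟩⟩
  have h0 : topologicalKrullDim T ≤ 0 := Order.krullDim_nonpos_of_subsingleton
  rw [h] at h0
  exact absurd h0 (by decide)

/-- Over a field k, let G be a smooth connected k-group scheme of finite type acting on a curve C, i.e.
a separated, geometrically integral k-scheme of finite type of dimension 1. Then C is almost
homogeneous under G, meaning that the graph morphism G × C → C × C, (g, x) ↦ (x, g·x), is dominant,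
if and only if the action is not the trivial one (the action morphism is not the second projection). -/
theorem result (k : Type u) [Field k]
    (G C : Over (Spec (CommRingCat.of k))) [GrpObj G] [Smooth G.hom] [QuasiCompact G.hom] [ConnectedSpace ↥G.left]
    [IsSeparated C.hom] [LocallyOfFiniteType C.hom] [QuasiCompact C.hom] [GeometricallyIntegral C.hom] (hdim : topologicalKrullDim ↥C.left = 1)
    (a : AlgGrp.Action G C) :
    IsDominant (CartesianMonoidalCategory.lift (CartesianMonoidalCategory.snd G C) a.act).left ↔
      a.act ≠ CartesianMonoidalCategory.snd G C := by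
  open CartesianMonoidalCategory in
  open CategoryTheory.Limits in
  haveI : LocallyOfFinitePresentation C.hom := LocallyOfFinitePresentation.iff_locallyOfFiniteType.2 inferInstance
  haveI : IsIntegral C.left := GeometricallyIntegral.isIntegral_of_subsingleton C.hom
  haveI : IsLocallyNoetherian C.left := LocallyOfFiniteType.isLocallyNoetherian C.hom
  haveI : GeometricallyReduced G.hom := Groth.Agent.H19Grp.geometricallyReduced_of_smooth_hom G.hom
  haveI : GeometricallyIrreducible G.hom := Groth.Agent.H19Grp.geometricallyIrreducible_of_connectedSpace_group G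
  haveI : GeometricallyIntegral G.hom :=
    GeometricallyIntegral.of_geometricallyReduced_of_geometricallyIrreducible G.hom
  haveI : LocallyOfFinitePresentation G.hom := inferInstance
  haveI : IsIntegral (G ⊗ C).left := inferInstanceAs (IsIntegral (pullback G.hom C.hom))
  haveI : IsIntegral (C ⊗ C).left := inferInstanceAs (IsIntegral (pullback C.hom C.hom))
  haveI : IsClosedImmersion (lift (𝟙 C) (𝟙 C)).left := by
    have hd : (lift (𝟙 C) (𝟙 C)).left = pullback.diagonal C.hom := rfl
    rw [hd]
    infer_instance
  have hdiag : ∀ {T : Over (Spec (CommRingCat.of k))} [IsReduced T.left] (u v : T ⟶ C),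
      Set.range (lift u v).left ⊆ Set.range (lift (𝟙 C) (𝟙 C)).left → u = v := by
    intro T _ u v hsub
    let j := pullback.fst (lift u v).left (lift (𝟙 C) (𝟙 C)).left
    haveI : Surjective j := ⟨fun t => by
      obtain ⟨y, hy⟩ := hsub ⟨t, rfl⟩
      obtain ⟨z, hz, -⟩ := Scheme.Pullback.exists_preimage_pullback t y hy.symm
      exact ⟨z, hz⟩⟩
    haveI : IsIso j := isIso_of_isClosedImmersion_of_surjective j
    apply Over.OverMorphism.ext
    rw [← cancel_epi j]
    have e1 := congrArg (· ≫ (fst C C).left) (pullback.condition (f := (lift u v).left) (g := (lift (𝟙 C) (𝟙 C)).left))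
    have e2 := congrArg (· ≫ (snd C C).left) (pullback.condition (f := (lift u v).left) (g := (lift (𝟙 C) (𝟙 C)).left))
    simp only [Category.assoc, ← Over.comp_left, lift_fst, lift_snd] at e1 e2
    exact e1.trans e2.symm
  constructor
  · intro hdom htriv
    have hr : Set.range (lift (snd G C) a.act).left ⊆ Set.range (lift (𝟙 C) (𝟙 C)).left := by
      rw [htriv, show lift (snd G C) (snd G C) = snd G C ≫ lift (𝟙 C) (𝟙 C) by ext <;> simp]
      rintro _ ⟨z, rfl⟩
      exact ⟨(snd G C).left z, (Scheme.Hom.comp_apply _ _ _).symm⟩
    have hall : ∀ z : (C ⊗ C).left, z ∈ Set.range (lift (𝟙 C) (𝟙 C)).left := fun z =>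
      closure_minimal hr (lift (𝟙 C) (𝟙 C)).left.isClosedEmbedding.isClosed_range (hdom.denseRange z)
    have hfs : fst C C = snd C C := hdiag _ _ fun z _ => hall z
    haveI : Subsingleton C.left := ⟨fun x y => by
      obtain ⟨z, hz1, hz2⟩ := Scheme.Pullback.exists_preimage_pullback (f := C.hom) (g := C.hom) x y
        (Subsingleton.elim (α := PrimeSpectrum k) _ _)
      rw [← hz1, ← hz2]
      exact congrArg (fun (g : C ⊗ C ⟶ C) => g.left z) hfs⟩
    exact not_dim_one hdim
  · intro hne
    constructor
    rw [DenseRange, dense_iff_closure_eq]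
    by_contra hZ
    let D : TopologicalSpace.IrreducibleCloseds (C ⊗ C).left := ⟨Set.range (lift (𝟙 C) (𝟙 C)).left,
      by rw [← Set.image_univ]; exact (IrreducibleSpace.isIrreducible_univ _).image _ (Scheme.Hom.continuous _).continuousOn,
      (lift (𝟙 C) (𝟙 C)).left.isClosedEmbedding.isClosed_range⟩
    let Z : TopologicalSpace.IrreducibleCloseds (C ⊗ C).left := ⟨closure (Set.range (lift (snd G C) a.act).left),
      by
        rw [← Set.image_univ]
        exact ((IrreducibleSpace.isIrreducible_univ _).image _ (Scheme.Hom.continuous _).continuousOn).closure,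
      isClosed_closure⟩
    have hDZ : D < Z := by
      refine lt_of_le_not_ge ?_ fun h => hne (hdiag _ _ (subset_closure.trans h)).symm
      rintro _ ⟨x, rfl⟩
      refine subset_closure ⟨(lift (toUnit C ≫ MonObj.one) (𝟙 C)).left x, ?_⟩
      rw [← Scheme.Hom.comp_apply, ← Over.comp_left]
      congr 3
      have h1 := congrArg (fun f => lift (toUnit C) (𝟙 C) ≫ f) a.one_act
      simp only [lift_whiskerRight_assoc, lift_leftUnitor_hom] at h1
      rw [comp_lift, lift_snd, h1]
    haveI := LocallyOfFiniteType.jacobsonSpace C.hom
    obtain ⟨x, -, hx⟩ := nonempty_inter_closedPoints (Z := (Set.univ : Set C.left)) Set.univ_nonempty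
      isOpen_univ.isLocallyClosed
    let P : TopologicalSpace.IrreducibleCloseds (C ⊗ C).left := ⟨{(lift (𝟙 C) (𝟙 C)).left x}, isIrreducible_singleton,
      by rw [← Set.image_singleton]; exact (lift (𝟙 C) (𝟙 C)).left.isClosedEmbedding.isClosedMap _ hx⟩
    have hPD : P < D := by
      refine lt_of_le_not_ge (Set.singleton_subset_iff.2 ⟨x, rfl⟩) fun h => ?_
      haveI : Subsingleton C.left := ⟨fun y z => (lift (𝟙 C) (𝟙 C)).left.isClosedEmbedding.injective
        ((h ⟨y, rfl⟩ : _ = _).trans (h ⟨z, rfl⟩ : _ = _).symm)⟩
      exact not_dim_one hdim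
    have hZT : Z < ⟨Set.univ, IrreducibleSpace.isIrreducible_univ _, isClosed_univ⟩ :=
      lt_of_le_not_ge (Set.subset_univ _) fun h => hZ (Set.eq_univ_of_univ_subset h)
    have h3 := three_le_dim P D Z _ hPD hDZ hZT
    rw [show topologicalKrullDim ↥(C ⊗ C).left = topologicalKrullDim ↥(pullback C.hom C.hom) from rfl,
      Groth.Agent.S4643.result C.hom C.hom, hdim] at h3
    exact absurd h3 (by decide)

end Groth.Agent.S14634
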