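import Groth.Statements.S14637
import Groth.Agent.H19Grp.PuncturedLineLaw

set_option autoImplicit false
set_option linter.style.haveILetI false
set_option backward.isDefEq.respectTransparency false
universe u
open CategoryTheory MonoidalCategory CartesianMonoidalCategory MonObj GrpObj AlgebraicGeometry CategoryTheory.Limits
open AlgGrp

namespace Groth.Agent.S14637

variable {k : Type u} [Field k] {G : Over (Spec (CommRingCat.of k))}
  (e : G.left ≅ Spec (CommRingCat.of (LaurentPolynomial k)))

open H19Grp.AffineLineLaw (T Tmap)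

/-- The coordinate of a point. -/
noncomputable def val {R : Type u} [CommRing R] [Algebra k R] (g : T k R ⟶ G) : Rˣ :=
  ((LaurentPolynomial.isUnit_T (R := k) 1).map (Spec.preimage (g.left ≫ e.hom)).hom).unit

theorem val_coe {R : Type u} [CommRing R] [Algebra k R] (g : T k R ⟶ G) :
    ((val e g : Rˣ) : R) = (Spec.preimage (g.left ≫ e.hom)).hom (LaurentPolynomial.T 1) := rfl

theorem val_comp {R R' : Type u} [CommRing R] [Algebra k R] [CommRing R'] [Algebra k R'] (φ : R →ₐ[k] R')
    (g : T k R ⟶ G) : val e (Tmap φ ≫ g) = Units.map φ.toRingHom.toMonoidHom (val e g) := by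
  have : Spec.preimage ((Tmap φ ≫ g).left ≫ e.hom) =
      Spec.preimage (g.left ≫ e.hom) ≫ CommRingCat.ofHom φ.toRingHom := by
    refine Spec.map_injective ?_
    rw [Spec.map_comp, Spec.map_preimage, Spec.map_preimage, Over.comp_left, Category.assoc]
    rfl
  refine Units.ext ?_
  rw [val_coe, this]; rfl

theorem preimage_algebraMap
    (he : e.hom ≫ Spec.map (CommRingCat.ofHom (algebraMap k (LaurentPolynomial k))) = G.hom)
    {R : Type u} [CommRing R] [Algebra k R] (g : T k R ⟶ G) (x : k) :
    (Spec.preimage (g.left ≫ e.hom)).hom (algebraMap k (LaurentPolynomial k) x) = algebraMap k R x := by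
  have : CommRingCat.ofHom (algebraMap k (LaurentPolynomial k)) ≫ Spec.preimage (g.left ≫ e.hom) =
      CommRingCat.ofHom (algebraMap k R) := by
    refine Spec.map_injective ?_
    rw [Spec.map_comp, Spec.map_preimage, Category.assoc, he, Over.w g]
    rfl
  exact congr($(this).hom x)

theorem val_inj
    (he : e.hom ≫ Spec.map (CommRingCat.ofHom (algebraMap k (LaurentPolynomial k))) = G.hom)
    {R : Type u} [CommRing R] [Algebra k R] (g g' : T k R ⟶ G) (h : val e g = val e g') : g = g' := by
  refine Over.OverMorphism.ext ((cancel_mono e.hom).mp ?_)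
  rw [← Spec.map_preimage (g.left ≫ e.hom), ← Spec.map_preimage (g'.left ≫ e.hom)]
  congr 1
  let f : LaurentPolynomial k →ₐ[k] R :=
    { (Spec.preimage (g.left ≫ e.hom)).hom with commutes' := preimage_algebraMap e he g }
  let f' : LaurentPolynomial k →ₐ[k] R :=
    { (Spec.preimage (g'.left ≫ e.hom)).hom with commutes' := preimage_algebraMap e he g' }
  have hT : f (LaurentPolynomial.T 1) = f' (LaurentPolynomial.T 1) := congrArg Units.val h
  have key : ∀ n : ℤ, f (LaurentPolynomial.T n) = f' (LaurentPolynomial.T n) := by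
    intro n
    induction n with
    | zero => simp
    | succ n ih => rw [LaurentPolynomial.T_add, map_mul, map_mul, ih, hT]
    | pred n ih =>
      refine ((LaurentPolynomial.isUnit_T (R := k) 1).map f).mul_left_injective ?_
      show f _ * f _ = f' _ * f _
      conv_rhs => rw [hT]
      rw [← map_mul, ← map_mul, ← LaurentPolynomial.T_add, sub_add_cancel, ih]
  have hff : f = f' := by
    refine AlgHom.ext fun x => ?_
    induction x using LaurentPolynomial.induction_on' with
    | add a b ha hb => rw [map_add, map_add, ha, hb]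
    | C_mul_T n c =>
      rw [show LaurentPolynomial.C c = algebraMap k (LaurentPolynomial k) c from rfl, map_mul, map_mul,
        AlgHom.commutes, AlgHom.commutes, key n]
  exact CommRingCat.hom_ext (congrArg AlgHom.toRingHom hff)

theorem val_surj
    (he : e.hom ≫ Spec.map (CommRingCat.ofHom (algebraMap k (LaurentPolynomial k))) = G.hom)
    {R : Type u} [CommRing R] [Algebra k R] (u : Rˣ) : ∃ g : T k R ⟶ G, val e g = u := by
  let φ : LaurentPolynomial k →+* R := LaurentPolynomial.eval₂ (algebraMap k R) u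
  let g : T k R ⟶ G := Over.homMk (Spec.map (CommRingCat.ofHom φ) ≫ e.inv) (by
    show (Spec.map (CommRingCat.ofHom φ) ≫ e.inv) ≫ G.hom = Spec.map _
    rw [Category.assoc, ← he, Iso.inv_hom_id_assoc, ← Spec.map_comp]
    congr 1
    ext x
    exact LaurentPolynomial.eval₂_C (algebraMap k R) u x)
  refine ⟨g, Units.ext ?_⟩
  rw [val_coe]
  show (Spec.preimage ((Spec.map (CommRingCat.ofHom φ) ≫ e.inv) ≫ e.hom)).hom (LaurentPolynomial.T 1) = _
  rw [Category.assoc, e.inv_hom_id, Category.comp_id, Spec.preimage_map]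
  simp [φ]

set_option maxHeartbeats 1000000 in
theorem mul_val [GrpObj G]
    (he : e.hom ≫ Spec.map (CommRingCat.ofHom (algebraMap k (LaurentPolynomial k))) = G.hom)
    (h1 : (Spec.preimage (((1 : T k k ⟶ G)).left ≫ e.hom)).hom (LaurentPolynomial.T 1) = 1)
    (R : Type u) [CommRing R] [Algebra k R] (a b : T k R ⟶ G) :
    (Spec.preimage ((a * b).left ≫ e.hom)).hom (LaurentPolynomial.T 1) =
      (Spec.preimage (a.left ≫ e.hom)).hom (LaurentPolynomial.T 1) *
        (Spec.preimage (b.left ≫ e.hom)).hom (LaurentPolynomial.T 1) := by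
  rw [← val_coe e, ← val_coe e, ← val_coe e]
  have hone : ∀ {R : Type u} [CommRing R] [Algebra k R], val e (1 : T k R ⟶ G) = 1 := by
    intro R _ _
    have h0 : val e (1 : T k k ⟶ G) = 1 := Units.ext h1
    have := val_comp e (Algebra.ofId k R) (1 : T k k ⟶ G)
    rwa [MonObj.comp_one, h0, map_one] at this
  let L := LaurentPolynomial k
  let Tu : Lˣ := (LaurentPolynomial.isUnit_T (R := k) 1).unit
  let Tu' : (LaurentPolynomial L)ˣ := (LaurentPolynomial.isUnit_T (R := L) 1).unit
  let Cu : (LaurentPolynomial L)ˣ := Units.map (LaurentPolynomial.C : L →+* LaurentPolynomial L).toMonoidHom Tu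
  obtain ⟨P, hP⟩ := val_surj e he (R := LaurentPolynomial L) Tu'
  obtain ⟨Q, hQ⟩ := val_surj e he (R := LaurentPolynomial L) Cu
  obtain ⟨c', q, hF⟩ := H19Grp.PuncturedLineLaw.exists_eq_C_mul_T (val e (P * Q)).isUnit
  obtain ⟨c, p, hc'⟩ := H19Grp.PuncturedLineLaw.exists_eq_C_mul_T c'.isUnit
  have hlaw : ∀ {R : Type u} [CommRing R] [Algebra k R] (g g' : T k R ⟶ G),
      val e (g * g') = Units.map (algebraMap k R).toMonoidHom c * val e g' ^ p * val e g ^ q := by
    intro R _ _ g g'
    let φ : LaurentPolynomial L →ₐ[k] R :=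
      { LaurentPolynomial.eval₂ (LaurentPolynomial.eval₂ (algebraMap k R) (val e g')) (val e g) with
        commutes' := fun x => by
          show LaurentPolynomial.eval₂ _ _ (algebraMap k (LaurentPolynomial L) x) = _
          rw [show algebraMap k (LaurentPolynomial L) x = LaurentPolynomial.C (LaurentPolynomial.C x) from rfl,
            LaurentPolynomial.eval₂_C, LaurentPolynomial.eval₂_C] }
    have e1 : Tmap φ ≫ P = g := val_inj e he _ _ (by rw [val_comp, hP]; ext; simp [φ, Tu', L])
    have e2 : Tmap φ ≫ Q = g' := val_inj e he _ _ (by rw [val_comp, hQ]; ext; simp [φ, Cu, Tu, L])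
    have e3 : val e (g * g') = Units.map φ.toRingHom.toMonoidHom (val e (P * Q)) := by
      rw [← val_comp, MonObj.comp_mul, e1, e2]
    rw [e3]
    ext
    show φ (val e (P * Q) : LaurentPolynomial L) = _
    rw [hF, hc']
    simp [φ, L]
  obtain ⟨U, hU⟩ := val_surj e he (R := L) Tu
  have hTq : ∀ n : ℤ, ((Tu ^ n : Lˣ) : L) = LaurentPolynomial.T n := by
    intro n
    induction n with
    | zero => simp
    | succ n ih =>
      rw [zpow_add_one, Units.val_mul, ih, LaurentPolynomial.T_add]; rfl
    | pred n ih =>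
      rw [zpow_sub_one, Units.val_mul, ih, LaurentPolynomial.T_sub]
      congr 1
      refine Units.inv_eq_of_mul_eq_one_right ?_
      show LaurentPolynomial.T 1 * LaurentPolynomial.T (-1) = (1 : L)
      rw [← LaurentPolynomial.T_add, add_neg_cancel, LaurentPolynomial.T_zero]
  have a1 := hlaw U (1 : T k L ⟶ G)
  have a2 := hlaw (1 : T k L ⟶ G) U
  rw [_root_.mul_one, hone, hU, one_zpow, _root_.mul_one] at a1
  rw [_root_.one_mul, hone, hU, one_zpow, _root_.mul_one] at a2
  have key : ∀ n : ℤ, Tu = Units.map (algebraMap k L).toMonoidHom c * Tu ^ n → n = 1 ∧ c = 1 := by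
    intro n h
    have h' : LaurentPolynomial.C (1 : k) * LaurentPolynomial.T 1 =
        LaurentPolynomial.C (c : k) * LaurentPolynomial.T n := by
      rw [map_one, _root_.one_mul, ← hTq n]
      exact congrArg Units.val h
    rw [← LaurentPolynomial.single_eq_C_mul_T, ← LaurentPolynomial.single_eq_C_mul_T] at h'
    rcases (Finsupp.single_eq_single_iff _ _ _ _).mp (congrArg AddMonoidAlgebra.coeff h') with ⟨hn, hv⟩ | ⟨h0, -⟩
    · exact ⟨hn.symm, Units.ext hv.symm⟩
    · exact absurd h0 one_ne_zero
  obtain ⟨rfl, rfl⟩ := key q a1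
  obtain ⟨rfl, -⟩ := key p a2
  have := congrArg Units.val (hlaw a b)
  simp only [map_one, _root_.one_mul, zpow_one, Units.val_mul] at this
  exact this.trans (mul_comm _ _)


/-- Over a field k, the only structure of algebraic group on the punctured affine line Spec k[T, T⁻¹]
with unit element the point T = 1 is the multiplicative group. Precisely: let G be a k-group scheme
and e an isomorphism of k-schemes from the underlying scheme of G to Spec k[T, T⁻¹] under which the
unit section has T-coordinate 1; then for every k-scheme S and all S-valued points g, h of G, the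
T-coordinate of g · h (the pull-back of the global function T along the point composed with e) is
the product of the T-coordinates of g and of h. -/
theorem result (k : Type u) [Field k]
    (G : Over (Spec (CommRingCat.of k))) [GrpObj G]
    (e : G.left ≅ Spec (CommRingCat.of (LaurentPolynomial k)))
    (he : e.hom ≫ Spec.map (CommRingCat.ofHom (algebraMap k (LaurentPolynomial k))) = G.hom)
    (hunit : ((η[G]).left ≫ e.hom).appTop.hom ((Scheme.ΓSpecIso (CommRingCat.of (LaurentPolynomial k))).inv.hom (LaurentPolynomial.T 1)) = 1)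
    (S : Over (Spec (CommRingCat.of k))) (g h : S ⟶ G) :
    ((g * h).left ≫ e.hom).appTop.hom ((Scheme.ΓSpecIso (CommRingCat.of (LaurentPolynomial k))).inv.hom (LaurentPolynomial.T 1)) =
      (g.left ≫ e.hom).appTop.hom ((Scheme.ΓSpecIso (CommRingCat.of (LaurentPolynomial k))).inv.hom (LaurentPolynomial.T 1)) * (h.left ≫ e.hom).appTop.hom ((Scheme.ΓSpecIso (CommRingCat.of (LaurentPolynomial k))).inv.hom (LaurentPolynomial.T 1)) := by
  let A : Type u := Γ(S.left, ⊤)
  letI : Algebra k A := (S.hom.appTop.hom.comp (Scheme.ΓSpecIso (CommRingCat.of k)).inv.hom).toAlgebra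
  let u : S ⟶ H19Grp.AffineLineLaw.T k A := Over.homMk S.left.toSpecΓ (by
    show S.left.toSpecΓ ≫ Spec.map ((Scheme.ΓSpecIso (CommRingCat.of k)).inv ≫ S.hom.appTop) = S.hom
    rw [Spec.map_comp, ← Scheme.toSpecΓ_naturality_assoc, toSpecΓ_SpecMap_ΓSpecIso_inv]
    exact Category.comp_id _)
  have hfac : ∀ g : S ⟶ G, ∃ g' : H19Grp.AffineLineLaw.T k A ⟶ G, u ≫ g' = g := by
    intro g
    haveI : IsAffine G.left := IsAffine.of_isIso e.hom
    refine ⟨Over.homMk (Spec.map g.left.appTop ≫ G.left.isoSpec.inv) ?_, ?_⟩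
    · show _ = Spec.map ((Scheme.ΓSpecIso (CommRingCat.of k)).inv ≫ S.hom.appTop)
      rw [← Over.w g, Scheme.Hom.comp_appTop, ← Category.assoc, Spec.map_comp, Category.assoc]
      congr 1
      rw [Iso.inv_comp_eq, Spec.map_comp, Scheme.isoSpec_hom, ← Scheme.toSpecΓ_naturality_assoc,
        toSpecΓ_SpecMap_ΓSpecIso_inv]
      exact (Category.comp_id _).symm
    · refine Over.OverMorphism.ext ?_
      show S.left.toSpecΓ ≫ Spec.map g.left.appTop ≫ G.left.isoSpec.inv = g.left
      rw [← Scheme.toSpecΓ_naturality_assoc, ← Scheme.isoSpec_hom, Iso.hom_inv_id, Category.comp_id]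
  obtain ⟨g', rfl⟩ := hfac g
  obtain ⟨h', rfl⟩ := hfac h
  rw [← MonObj.comp_mul]
  have conv : ∀ {R : Type u} [CommRing R] (f : Spec (CommRingCat.of R) ⟶ Spec (CommRingCat.of (LaurentPolynomial k))) (z : LaurentPolynomial k),
      f.appTop.hom ((Scheme.ΓSpecIso (CommRingCat.of (LaurentPolynomial k))).inv.hom z) =
        (Scheme.ΓSpecIso (CommRingCat.of R)).inv.hom ((Spec.preimage f).hom z) := by
    intro R _ f z
    conv_lhs => rw [← Spec.map_preimage f]
    exact congr($((Scheme.ΓSpecIso_inv_naturality (Spec.preimage f)).symm).hom z)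
  have hnat : ∀ q : H19Grp.AffineLineLaw.T k A ⟶ G,
      ((u ≫ q).left ≫ e.hom).appTop.hom ((Scheme.ΓSpecIso (CommRingCat.of (LaurentPolynomial k))).inv.hom (LaurentPolynomial.T 1)) =
        u.left.appTop.hom ((Scheme.ΓSpecIso (CommRingCat.of A)).inv.hom
          ((Spec.preimage (q.left ≫ e.hom)).hom (LaurentPolynomial.T 1))) := by
    intro q
    rw [← conv (q.left ≫ e.hom), Over.comp_left, Category.assoc, Scheme.Hom.comp_appTop]
    rfl
  rw [hnat, hnat, hnat, mul_val e he ?_ A g' h', map_mul, map_mul]
  have h1 : (1 : H19Grp.AffineLineLaw.T k k ⟶ G).left = (η[G]).left := by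
    have hT : (H19Grp.AffineLineLaw.T k k).hom = 𝟙 _ := Spec.map_id _
    rw [Hom.one_def, Over.comp_left, Over.toUnit_left]
    show (H19Grp.AffineLineLaw.T k k).hom ≫ _ = _
    rw [hT]
    exact Category.id_comp _
  rw [h1]
  apply (ConcreteCategory.bijective_of_isIso (Scheme.ΓSpecIso (CommRingCat.of k)).inv).1
  show (Scheme.ΓSpecIso (CommRingCat.of k)).inv.hom _ = (Scheme.ΓSpecIso (CommRingCat.of k)).inv.hom 1
  rw [map_one, ← conv]
  exact hunit

end Groth.Agent.S14637
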