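import Groth.Statements.S14639
import Mathlib

set_option autoImplicit false
set_option linter.style.haveILetI false
universe u
open Polynomial
open AlgGrp

namespace Groth.Agent.S14639

open Polynomial

section
variable {R : Type*} [CommRing R]

theorem exists_one_add_pow (x : R) (m : ℕ) : ∃ s : R, (1 + x) ^ m = 1 + m * x + x ^ 2 * s := by
  induction m with
  | zero => exact ⟨0, by simp⟩
  | succ m ih =>
    obtain ⟨s, hs⟩ := ih
    exact ⟨m + s * (1 + x), by rw [pow_succ, hs]; push_cast; ring⟩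

variable {k : Type*} [Field k] [CharZero k] [Algebra k R]

theorem main_core (u : R) (N : ℕ) (hu : u ^ (N + 1) = 0)
    (hdec : ∀ q : R, ∃ (c : k) (r : R), q = algebraMap k R c + u * r)
    (σ : R →ₐ[k] R) (z : R) (hσ : σ u = u * (1 + u * z)) (hz : ∃ z' : R, z = -1 + u * z')
    (A : Subalgebra k R) (hA : A.map σ ≤ A) :
    ∃ n : ℕ, 1 ≤ n ∧ n ≤ N + 1 ∧
      Subalgebra.toSubmodule A = Submodule.span k {1} ⊔ (Ideal.span {u ^ n}).restrictScalars k := by
  classical
  let P : ℕ → Prop := fun j => N + 1 ≤ j ∨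
    ∃ f ∈ A, ∃ (c : k) (r : R), c ≠ 0 ∧ f = algebraMap k R c * u ^ j + u ^ (j + 1) * r
  have step : ∀ j, 1 ≤ j → P j → P (j + 1) := by
    rintro j hj (h | ⟨f, hf, c, r, hc, hfe⟩)
    · exact Or.inl (le_trans h j.le_succ)
    · obtain ⟨z', rfl⟩ := hz
      obtain ⟨s, hs⟩ := exists_one_add_pow (u * (-1 + u * z')) j
      obtain ⟨s', hs'⟩ := exists_one_add_pow (u * (-1 + u * z')) (j + 1)
      obtain ⟨c0, r0, hr⟩ := hdec r
      refine Or.inr ⟨σ f - f, A.sub_mem (hA ⟨f, hf, rfl⟩) hf, -(j : k) * c, ?_⟩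
      refine ⟨algebraMap k R c * ((j : R) * z' + (-1 + u * z') ^ 2 * s) + algebraMap k R c0 *
          (((j + 1 : ℕ) : R) * (-1 + u * z') + u * (-1 + u * z') ^ 2 * s') +
          ((1 + u * (-1 + u * z')) ^ (j + 1) * (1 + u * (-1 + u * z')) * σ r0 - r0), ?_, ?_⟩
      · exact mul_ne_zero (neg_ne_zero.2 (Nat.cast_ne_zero.2 (by omega))) hc
      · rw [hfe, hr]
        simp only [map_add, map_mul, map_pow, hσ, AlgHom.commutes, map_neg, map_natCast, mul_pow, hs, hs']
        ring
  have hP : ∃ j, 1 ≤ j ∧ P j := ⟨N + 1, by omega, Or.inl le_rfl⟩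
  let n := Nat.find hP
  obtain ⟨hn1, hnP⟩ : 1 ≤ n ∧ P n := Nat.find_spec hP
  have hnN : n ≤ N + 1 := Nat.find_min' hP ⟨by omega, Or.inl le_rfl⟩
  refine ⟨n, hn1, hnN, ?_⟩
  have up : ∀ i, P (n + i) := by
    intro i
    induction i with
    | zero => exact hnP
    | succ i ih => exact step (n + i) (by omega) ih
  have hideal : ∀ i j, n ≤ j → N + 1 ≤ j + i → ∀ q : R, u ^ j * q ∈ A := by
    intro i
    induction i with
    | zero =>
      intro j _ hj q
      rw [pow_eq_zero_of_le (by omega) hu, zero_mul]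
      exact A.zero_mem
    | succ i ih =>
      intro j hnj hj q
      have ih' : ∀ q : R, u ^ (j + 1) * q ∈ A := ih (j + 1) (by omega) (by omega)
      have hP' := up (j - n)
      rw [show n + (j - n) = j by omega] at hP'
      obtain ⟨c0, r, rfl⟩ := hdec q
      have e : u ^ j * (algebraMap k R c0 + u * r) = algebraMap k R c0 * u ^ j + u ^ (j + 1) * r := by ring
      rw [e]
      refine A.add_mem (A.mul_mem (A.algebraMap_mem c0) ?_) (ih' r)
      rcases hP' with h | ⟨f, hf, c, r', hc, hfe⟩
      · rw [pow_eq_zero_of_le h hu]; exact A.zero_mem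
      · have h2 : algebraMap k R c * u ^ j ∈ A := by
          rw [show algebraMap k R c * u ^ j = f - u ^ (j + 1) * r' by rw [hfe]; ring]
          exact A.sub_mem hf (ih' r')
        have h3 := A.mul_mem (A.algebraMap_mem c⁻¹) h2
        rwa [← mul_assoc, ← map_mul, inv_mul_cancel₀ hc, map_one, one_mul] at h3
  refine le_antisymm (fun f hf => ?_) (sup_le ?_ ?_)
  · obtain ⟨c, r, rfl⟩ := hdec f
    refine Submodule.mem_sup.2 ⟨algebraMap k R c,
      Submodule.mem_span_singleton.2 ⟨c, by rw [Algebra.smul_def, mul_one]⟩, u * r, ?_, rfl⟩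
    have hg : u * r ∈ A := by
      simpa using A.sub_mem hf (A.algebraMap_mem c)
    have : ∀ j, 1 ≤ j → j ≤ n → ∃ s, u * r = u ^ j * s := by
      intro j
      induction j with
      | zero => omega
      | succ j ih =>
        intro _ hjn
        rcases Nat.eq_zero_or_pos j with rfl | hj
        · exact ⟨r, by rw [zero_add, pow_one]⟩
        · obtain ⟨s, hs⟩ := ih hj (by omega)
          obtain ⟨c', s', rfl⟩ := hdec s
          by_cases hc' : c' = 0
          · exact ⟨s', by rw [hs, hc', map_zero]; ring⟩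
          · exact absurd ⟨hj, Or.inr ⟨u * r, hg, c', s', hc', by rw [hs]; ring⟩⟩
              (Nat.find_min hP (show j < Nat.find hP by omega))
    obtain ⟨s, hs⟩ := this n hn1 le_rfl
    show u * r ∈ Ideal.span {u ^ n}
    exact Ideal.mem_span_singleton'.2 ⟨s, by rw [hs, mul_comm]⟩
  · rw [Submodule.span_le]
    intro x hx
    rw [Set.mem_singleton_iff] at hx
    subst hx
    exact A.one_mem
  · intro x hx
    obtain ⟨q, rfl⟩ := Ideal.mem_span_singleton'.1 hx
    rw [mul_comm]
    exact hideal (N + 1) n le_rfl (by omega) q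

end


/-- Classification of the subalgebras of a truncated polynomial ring that are stable under the unipotent
substitutions, which is the algebraic step behind the classification of curves almost homogeneous
under the additive group in characteristic zero. Let k be a field of characteristic zero, N ≥ 0 and
R = k[u]/(u^(N+1)). The additive group acts on R through the substitutions u ↦ u/(1 + a u), a in k.
If A is a k-subalgebra of R stable under all these substitutions (stated for every k-algebra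
endomorphism σ of R with σ(u)(1 + a u) = u for some a in k), then there is an integer n with 1 ≤ n ≤
N + 1 such that A = k ⊕ (u^n): as a k-subspace, A is the span of 1 plus the ideal generated by u^n.
(In positive characteristic p and for N ≥ p + 1, the subalgebra generated by u^p is stable and not
of this form.) -/
theorem result (k : Type u) [Field k] [CharZero k]
    (N : ℕ) (A : Subalgebra k (AdjoinRoot ((Polynomial.X : Polynomial k) ^ (N + 1))))
    (hA : ∀ (a : k) (σ : AdjoinRoot ((Polynomial.X : Polynomial k) ^ (N + 1)) →ₐ[k] AdjoinRoot ((Polynomial.X : Polynomial k) ^ (N + 1))),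
      σ (AdjoinRoot.root ((Polynomial.X : Polynomial k) ^ (N + 1))) * (1 + algebraMap k (AdjoinRoot ((Polynomial.X : Polynomial k) ^ (N + 1))) a * AdjoinRoot.root ((Polynomial.X : Polynomial k) ^ (N + 1))) = AdjoinRoot.root ((Polynomial.X : Polynomial k) ^ (N + 1)) →
        A.map σ ≤ A) :
    ∃ n : ℕ, 1 ≤ n ∧ n ≤ N + 1 ∧
      Subalgebra.toSubmodule A =
        Submodule.span k {1} ⊔ (Ideal.span {AdjoinRoot.root ((Polynomial.X : Polynomial k) ^ (N + 1)) ^ n}).restrictScalars k := by
  have hu : AdjoinRoot.root ((X : k[X]) ^ (N + 1)) ^ (N + 1) = 0 := by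
    rw [← AdjoinRoot.mk_X, ← map_pow, AdjoinRoot.mk_self]
  set u := AdjoinRoot.root ((X : k[X]) ^ (N + 1))
  have hdec : ∀ q : AdjoinRoot ((X : k[X]) ^ (N + 1)), ∃ (c : k) (r : AdjoinRoot ((X : k[X]) ^ (N + 1))),
      q = algebraMap k _ c + u * r := by
    intro q
    obtain ⟨p, rfl⟩ := AdjoinRoot.mk_surjective q
    refine ⟨p.coeff 0, AdjoinRoot.mk _ p.divX, ?_⟩
    conv_lhs => rw [← X_mul_divX_add p]
    rw [map_add, map_mul, AdjoinRoot.mk_X, AdjoinRoot.mk_C]
    refine (add_comm _ _).trans ?_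
    rfl
  obtain ⟨w, hw⟩ := (IsNilpotent.isUnit_one_add ⟨N + 1, hu⟩ : IsUnit (1 + u)).exists_left_inv
  have h0 : (Polynomial.aeval (u * w)) ((X : k[X]) ^ (N + 1)) = 0 := by
    rw [map_pow, aeval_X, mul_pow, hu, zero_mul]
  let σ : AdjoinRoot ((X : k[X]) ^ (N + 1)) →ₐ[k] AdjoinRoot ((X : k[X]) ^ (N + 1)) :=
    AdjoinRoot.liftAlgHom _ (Algebra.ofId k _) (u * w) h0
  have hσ : σ u = u * w := AdjoinRoot.liftAlgHom_root _ _ _ _
  have hmap : A.map σ ≤ A := by
    refine hA 1 σ ?_
    rw [hσ, map_one, _root_.one_mul, _root_.mul_assoc, hw, _root_.mul_one]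
  exact main_core u N hu hdec σ (-1 + u * w) (by rw [hσ]; linear_combination (u - u ^ 2) * hw) ⟨w, rfl⟩ A hmap

end Groth.Agent.S14639
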