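import Groth.Statements.S1464
import Groth.Agent.H8Props.FibreDimApprox

set_option autoImplicit false
universe u
open FlatMor

namespace Groth.Agent.S1464

open AlgebraicGeometry CategoryTheory Limits in
/-- Let f : X → S be a morphism of finite presentation between affine schemes all of whose fibres have
dimension d. Then f is the base change of a morphism of finite type f₀ : X₀ → S₀ between affine
schemes with S₀ of finite type over ℤ, where f₀ can be chosen with the same property. -/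
theorem result {X S : Scheme.{u}} (f : X ⟶ S) [IsAffine X] [IsAffine S] [LocallyOfFinitePresentation f] (d : ℕ) (hd : ∀ s : S, topologicalKrullDim ↑(f.fiber s) = d) :
    ∃ (X₀ S₀ : Scheme.{u}) (f₀ : X₀ ⟶ S₀) (g : S ⟶ S₀) (g' : X ⟶ X₀), IsAffine X₀ ∧ IsAffine S₀ ∧ IsPullback g' f f₀ g ∧
      Algebra.FiniteType ℤ Γ(S₀, ⊤) ∧ LocallyOfFiniteType f₀ ∧ ∀ s₀ : S₀, topologicalKrullDim ↑(f₀.fiber s₀) = d := by
  letI := f.appTop.hom.toAlgebra
  haveI : Algebra.FinitePresentation Γ(S, ⊤) Γ(X, ⊤) :=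
    (HasRingHomProperty.iff_of_isAffine (P := @LocallyOfFinitePresentation)).mp ‹_›
  obtain ⟨R₀, B₀, _, _, _, _, g', hR, hfp, hsq⟩ :=
    Groth.Agent.H8Props.FlatApprox.exists_isPullback_spec_fp Γ(S, ⊤) Γ(X, ⊤)
  haveI : IsNoetherianRing R₀ := Algebra.FiniteType.isNoetherianRing ℤ R₀
  let φ₀ := Spec.map (CommRingCat.ofHom (algebraMap R₀ B₀))
  let g := S.isoSpec.hom ≫ Spec.map (CommRingCat.ofHom (algebraMap R₀ Γ(S, ⊤)))
  haveI : LocallyOfFiniteType φ₀ := (HasRingHomProperty.Spec_iff (P := @LocallyOfFiniteType)).mpr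
    (RingHom.finiteType_algebraMap.mpr inferInstance)
  have hpb : IsPullback (X.isoSpec.hom ≫ g') f φ₀ g := by
    refine hsq.of_iso X.isoSpec.symm (Iso.refl _) S.isoSpec.symm (Iso.refl _) ?_ ?_ ?_ ?_
    · simp
    · exact Scheme.isoSpec_inv_naturality f
    · simp [φ₀]
    · simp [g]
  have hE := Groth.Agent.H8Props.FibreDimApprox.isConstructible_dim_fiber_eq φ₀ d
  have hpre : ∀ p : PrimeSpectrum Γ(S, ⊤), PrimeSpectrum.comap (algebraMap R₀ Γ(S, ⊤)) p ∈
      {s : Spec (CommRingCat.of R₀) | topologicalKrullDim (φ₀.fiber s) = d} := by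
    intro p
    show topologicalKrullDim (φ₀.fiber ((Spec.map (CommRingCat.ofHom (algebraMap R₀ Γ(S, ⊤)))) p)) = d
    have : (Spec.map (CommRingCat.ofHom (algebraMap R₀ Γ(S, ⊤)))) p = g (S.isoSpec.inv p) := by
      show _ = (S.isoSpec.hom ≫ _) _
      exact (congrArg (fun k : Spec Γ(S, ⊤) ⟶ Spec (CommRingCat.of R₀) => k p) (Iso.inv_hom_id_assoc S.isoSpec _)).symm
    rw [this, ← Groth.Agent.H8Props.FieldDim.dim_fiber_baseChange φ₀ hpb (S.isoSpec.inv p)]
    exact hd _
  obtain ⟨R', hR', hmem⟩ :=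
    Groth.Agent.H8Props.FibreDimApprox.exists_subalgebra_range_subset (R := R₀) (A := Γ(S, ⊤)) hE hpre
  let h := Spec.map (CommRingCat.ofHom (algebraMap R₀ R'))
  let g₁ := S.isoSpec.hom ≫ Spec.map (CommRingCat.ofHom (algebraMap R' Γ(S, ⊤)))
  have hg : g₁ ≫ h = g := by
    simp only [g₁, h, g, Category.assoc, ← Spec.map_comp, ← CommRingCat.ofHom_comp,
      ← IsScalarTower.algebraMap_eq]
  haveI : IsAffine (pullback φ₀ h) := inferInstance
  refine ⟨pullback φ₀ h, Spec (CommRingCat.of R'), pullback.snd φ₀ h, g₁,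
    pullback.lift (X.isoSpec.hom ≫ g') (f ≫ g₁) (by rw [hpb.w, Category.assoc, hg]), inferInstance,
    inferInstance, ?_, ?_, inferInstance, fun s₀ => ?_⟩
  · refine IsPullback.of_right ?_ (pullback.lift_snd _ _ _) (IsPullback.of_hasPullback φ₀ h)
    rw [pullback.lift_fst, hg]; exact hpb
  · haveI : Algebra.FiniteType R₀ R' := R'.fg_iff_finiteType.mp hR'
    exact (Algebra.FiniteType.trans hR ‹_›).equiv
      (Scheme.ΓSpecIso (CommRingCat.of R')).symm.commRingCatIsoToRingEquiv.toIntAlgEquiv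
  · rw [Groth.Agent.H8Props.FieldDim.dim_fiber_baseChange φ₀ (IsPullback.of_hasPullback φ₀ h) s₀]
    exact hmem s₀

end Groth.Agent.S1464
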