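import Groth.Statements.S14640
import Groth.Agent.H19Grp.OrbitGeneric
import Groth.Agent.H05EGA4.Topo

set_option autoImplicit false
set_option maxHeartbeats 1000000
set_option synthInstance.maxHeartbeats 100000
set_option linter.style.haveILetI false
set_option backward.isDefEq.respectTransparency false
universe u
open CategoryTheory MonoidalCategory CartesianMonoidalCategory MonObj GrpObj AlgebraicGeometry CategoryTheory.Limits
open AlgGrp

namespace Groth.Agent.S14640

open AlgebraicGeometry TopologicalSpace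
open Groth.Agent

variable {S : Scheme.{u}}

/-- The range of a graph over a base change is the preimage of the range of the graph. -/
theorem range_graph {Y Z P P' : Over S} (f : Y ⊗ P ⟶ Z) (v : P' ⟶ P) :
    Set.range (lift ((Y ◁ v) ≫ f) (snd Y P')).left = (Z ◁ v).left ⁻¹' Set.range (lift f (snd Y P)).left := by
  ext z
  constructor
  · rintro ⟨w, rfl⟩
    refine ⟨(Y ◁ v).left w, ?_⟩
    have h : (Y ◁ v) ≫ lift f (snd Y P) = lift ((Y ◁ v) ≫ f) (snd Y P') ≫ (Z ◁ v) := by
      apply CartesianMonoidalCategory.hom_ext <;> simp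
    have h2 := congrArg (fun m => m.left w) h
    simpa only [Over.comp_left, Scheme.Hom.comp_apply] using h2
  · rintro ⟨w, hw⟩
    obtain ⟨r, -, hr2⟩ := Scheme.Pullback.exists_preimage_pullback (f := (lift f (snd Y P)).left)
      (g := (Z ◁ v).left) w z hw
    let R : Over S := Over.mk (pullback.snd (lift f (snd Y P)).left (Z ◁ v).left ≫ (Z ⊗ P').hom)
    let rY : R ⟶ Y ⊗ P := Over.homMk (pullback.fst (lift f (snd Y P)).left (Z ◁ v).left) (by
      change _ = pullback.snd (lift f (snd Y P)).left (Z ◁ v).left ≫ (Z ⊗ P').hom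
      rw [← Over.w (lift f (snd Y P)), pullback.condition_assoc, Over.w (Z ◁ v)])
    let rZ : R ⟶ Z ⊗ P' := Over.homMk (pullback.snd (lift f (snd Y P)).left (Z ◁ v).left) rfl
    have e : rY ≫ lift f (snd Y P) = rZ ≫ (Z ◁ v) := Over.OverMorphism.ext pullback.condition
    have e1 := congrArg (· ≫ fst Z P) e
    have e2 := congrArg (· ≫ snd Z P) e
    simp only [Category.assoc, lift_fst, lift_snd, whiskerLeft_fst, whiskerLeft_snd] at e1 e2
    let m : R ⟶ Y ⊗ P' := lift (rY ≫ fst Y P) (rZ ≫ snd Z P')
    have e3 : m ≫ (Y ◁ v) = rY := by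
      apply CartesianMonoidalCategory.hom_ext
      · simp [m]
      · simp [m, ← e2]
    have e4 : m ≫ lift ((Y ◁ v) ≫ f) (snd Y P') = rZ := by
      apply CartesianMonoidalCategory.hom_ext
      · simp only [Category.assoc, lift_fst]
        rw [reassoc_of% e3]; exact e1
      · simp [m]
    refine ⟨m.left r, ?_⟩
    rw [← Scheme.Hom.comp_apply, ← Over.comp_left, e4]
    exact hr2

variable {G G0 X : Over S} [GrpObj G] [GrpObj G0] (i : G0 ⟶ G) (a : AlgGrp.Action G X)

/-- The coset map (h, t) ↦ g(t) h. -/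
noncomputable def cmap {P : Over S} (g : P ⟶ G) : G0 ⊗ P ⟶ G := (snd G0 P ≫ g) * (fst G0 P ≫ i)

/-- The translation of X by a point of G. -/
noncomputable def tmap {P : Over S} (g : P ⟶ G) : X ⊗ P ⟶ X ⊗ P :=
  lift (H18Torsor.smul a (snd X P ≫ g) (fst X P)) (snd X P)

theorem tmap_tmap {P : Over S} (g : P ⟶ G) : tmap a g ≫ tmap a g⁻¹ = 𝟙 (X ⊗ P) := by
  apply CartesianMonoidalCategory.hom_ext
  · simp only [tmap, Category.assoc, lift_fst, H18Torsor.comp_smul, lift_snd_assoc, Category.id_comp]
    rw [← H18Torsor.mul_smul_pt, ← MonObj.comp_mul, inv_mul_cancel, MonObj.comp_one, H18Torsor.one_smul_pt]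
  · simp [tmap]

theorem cmap_comp {P P' : Over S} (g : P ⟶ G) (v : P' ⟶ P) :
    cmap i (v ≫ g) = (G0 ◁ v) ≫ cmap i g := by
  simp [cmap, MonObj.comp_mul]

/-- If the cosets cover G over P then they cover over any P' → P. -/
theorem cover_pullback {P P' : Over S} (v : P' ⟶ P) (F : Set (P ⟶ G))
    (h : ∀ r : ↥(G ⊗ P).left, ∃ g ∈ F, r ∈ Set.range (lift (cmap i g) (snd G0 P)).left)
    (r : ↥(G ⊗ P').left) :
    ∃ g ∈ F, r ∈ Set.range (lift (cmap i (v ≫ g)) (snd G0 P')).left := by
  obtain ⟨g, hg, hr⟩ := h ((G ◁ v).left r)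
  exact ⟨g, hg, by rw [cmap_comp, range_graph]; exact hr⟩

/-- The orbit map of G is covered by the translates of the orbit map of G0. -/
theorem range_orbit_subset {P : Over S} (F : Set (P ⟶ G))
    (h : ∀ r : ↥(G ⊗ P).left, ∃ g ∈ F, r ∈ Set.range (lift (cmap i g) (snd G0 P)).left) (v : P ⟶ X) :
    Set.range (lift ((G ◁ v) ≫ a.act) (snd G P)).left ⊆
      ⋃ g ∈ F, (tmap a g).left '' Set.range (lift ((G0 ◁ v) ≫ (i ▷ X) ≫ a.act) (snd G0 P)).left := by
  rintro _ ⟨r, rfl⟩
  obtain ⟨g, hg, r0, rfl⟩ := h r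
  refine Set.mem_iUnion₂.mpr ⟨g, hg, _, ⟨r0, rfl⟩, ?_⟩
  have e : lift (cmap i g) (snd G0 P) ≫ lift ((G ◁ v) ≫ a.act) (snd G P) =
      lift ((G0 ◁ v) ≫ (i ▷ X) ≫ a.act) (snd G0 P) ≫ tmap a g := by
    apply CartesianMonoidalCategory.hom_ext
    · have h1 : (G0 ◁ v) ≫ (i ▷ X) ≫ a.act = H18Torsor.smul a (fst G0 P ≫ i) (snd G0 P ≫ v) := by
        rw [H18Torsor.smul, ← Category.assoc]
        refine congrArg (· ≫ a.act) (CartesianMonoidalCategory.hom_ext _ _ ?_ ?_) <;> simp
      have h2 : lift (cmap i g) (snd G0 P) ≫ (G ◁ v) ≫ a.act = H18Torsor.smul a (cmap i g) (snd G0 P ≫ v) := by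
        rw [H18Torsor.smul, lift_whiskerLeft_assoc]
      simp only [Category.assoc, lift_fst, tmap, H18Torsor.comp_smul, lift_snd_assoc]
      rw [h2, h1, cmap, H18Torsor.mul_smul_pt]
    · simp [tmap]
  have e2 := congrArg (fun m => m.left r0) e
  simpa only [Over.comp_left, Scheme.Hom.comp_apply] using e2.symm

/-- If the orbit map of G is dense in an irreducible space then so is that of G0. -/
theorem dense_orbit {P : Over S} [IrreducibleSpace ↥(X ⊗ P).left] (F : Set (P ⟶ G)) (hF : F.Finite)
    (h : ∀ r : ↥(G ⊗ P).left, ∃ g ∈ F, r ∈ Set.range (lift (cmap i g) (snd G0 P)).left) (v : P ⟶ X)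
    (hd : DenseRange (lift ((G ◁ v) ≫ a.act) (snd G P)).left) :
    DenseRange (lift ((G0 ◁ v) ≫ (i ▷ X) ≫ a.act) (snd G0 P)).left := by
  set R := Set.range (lift ((G0 ◁ v) ≫ (i ▷ X) ≫ a.act) (snd G0 P)).left with hR
  have hd' : Dense (⋃ g ∈ F, (tmap a g).left '' R) := hd.mono (range_orbit_subset i a F h v)
  have he := hd' (genericPoint ↥(X ⊗ P).left)
  rw [hF.closure_biUnion] at he
  obtain ⟨g, -, he⟩ := Set.mem_iUnion₂.mp he
  let TI : X ⊗ P ≅ X ⊗ P := ⟨tmap a g, tmap a g⁻¹, tmap_tmap a g, by simpa using tmap_tmap a g⁻¹⟩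
  haveI : IsIso (tmap a g).left := ((Over.forget S).mapIso TI).isIso_hom
  let φ := (tmap a g).left.homeomorph
  have hall : closure (φ '' R) = Set.univ := by
    rw [Set.eq_univ_iff_forall]
    exact fun z => (genericPoint_specializes z).mem_closed isClosed_closure he
  rw [DenseRange, ← hR, dense_iff_closure_eq]
  rw [← φ.image_closure] at hall
  exact φ.injective.image_injective (hall.trans φ.surjective.range_eq.symm |>.trans Set.image_univ.symm)

section Field

variable {K : Type u} [Field K] [IsAlgClosed K] (t : Spec (CommRingCat.of K) ⟶ S)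

theorem exists_pt {Y : Over S} [LocallyOfFiniteType Y.hom] (c : ↥(Y ⊗ Over.mk t).left) (hc : IsClosed ({c} : Set _)) :
    ∃ p : Over.mk t ⟶ Y, (lift p (𝟙 (Over.mk t))).left (IsLocalRing.closedPoint K) = c := by
  haveI : LocallyOfFiniteType (snd Y (Over.mk t)).left :=
    inferInstanceAs (LocallyOfFiniteType (pullback.snd Y.hom t))
  let p : Over.mk t ⟶ Y ⊗ Over.mk t :=
    Over.homMk (pointOfClosedPoint (snd Y (Over.mk t)).left c hc) (by
      rw [← Over.w (snd Y (Over.mk t)), pointOfClosedPoint_comp_assoc])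
  refine ⟨p ≫ fst Y (Over.mk t), ?_⟩
  have hp : lift (p ≫ fst Y (Over.mk t)) (𝟙 _) = p := by
    apply CartesianMonoidalCategory.hom_ext
    · simp
    · rw [lift_snd]; exact (Over.OverMorphism.ext (pointOfClosedPoint_comp _ _ _)).symm
  rw [hp]
  exact pointOfClosedPoint_apply _ _ _ _

theorem exists_cover [LocallyOfFiniteType G.hom] [QuasiCompact G.hom] [IsMonHom i] [IsOpenImmersion i.left] :
    ∃ F : Set (Over.mk t ⟶ G), F.Finite ∧ ∀ r : ↥(G ⊗ Over.mk t).left, ∃ g ∈ F,
      r ∈ Set.range (lift (cmap i g) (snd G0 (Over.mk t))).left := by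
  let P := Over.mk t
  haveI : LocallyOfFiniteType (snd G P).left := inferInstanceAs (LocallyOfFiniteType (pullback.snd G.hom t))
  haveI : QuasiCompact (snd G P).left := inferInstanceAs (QuasiCompact (pullback.snd G.hom t))
  haveI : JacobsonSpace ↥P.left := inferInstanceAs (JacobsonSpace (PrimeSpectrum K))
  haveI : JacobsonSpace ↥(G ⊗ P).left := LocallyOfFiniteType.jacobsonSpace (snd G P).left
  haveI : CompactSpace ↥P.left := inferInstanceAs (CompactSpace (PrimeSpectrum K))
  haveI : CompactSpace ↥(G ⊗ P).left := QuasiCompact.compactSpace_of_compactSpace (snd G P).left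
  haveI : IsOpenImmersion (i ▷ P).left := by
    have : (i ▷ P).left = pullback.map G0.hom t G.hom t i.left (𝟙 _) (𝟙 _) (by simp) (by simp) := by
      apply pullback.hom_ext
      · rw [Over.whiskerRight_left_fst]; exact (pullback.lift_fst _ _ _).symm
      · rw [Over.whiskerRight_left_snd]; exact ((pullback.lift_snd _ _ _).trans (Category.comp_id _)).symm
    rw [this]; infer_instance
  let L : (P ⟶ G) → (G ⊗ P ⟶ G ⊗ P) := fun h => lift ((snd G P ≫ h) * fst G P) (snd G P)
  have hLL : ∀ h, L h ≫ L h⁻¹ = 𝟙 _ := fun h => by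
    apply CartesianMonoidalCategory.hom_ext
    · simp [L, MonObj.comp_mul, GrpObj.comp_inv]
    · simp [L]
  have hcm : ∀ h : P ⟶ G, lift (cmap i h) (snd G0 P) = (i ▷ P) ≫ L h := fun h => by
    apply CartesianMonoidalCategory.hom_ext <;> simp [L, cmap, MonObj.comp_mul]
  have hopen : ∀ h : P ⟶ G, IsOpen (Set.range (lift (cmap i h) (snd G0 P)).left) := fun h => by
    haveI : IsIso (L h).left := ((Over.forget S).mapIso
      (⟨L h, L h⁻¹, hLL h, by simpa using hLL h⁻¹⟩ : G ⊗ P ≅ G ⊗ P)).isIso_hom
    rw [hcm, Over.comp_left]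
    exact (Scheme.Hom.isOpenEmbedding _).isOpen_range
  have hall : (⋃ h : P ⟶ G, Set.range (lift (cmap i h) (snd G0 P)).left) = Set.univ := by
    by_contra hne
    obtain ⟨c, hc, hcc⟩ := nonempty_inter_closedPoints
      (Z := (⋃ h : P ⟶ G, Set.range (lift (cmap i h) (snd G0 P)).left)ᶜ)
      (Set.nonempty_compl.mpr hne) (isOpen_iUnion hopen).isClosed_compl.isLocallyClosed
    obtain ⟨p, hp⟩ := exists_pt t c hcc
    refine hc (Set.mem_iUnion.mpr ⟨p, (lift (1 : P ⟶ G0) (𝟙 P)).left (IsLocalRing.closedPoint K), ?_⟩)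
    have e : lift (1 : P ⟶ G0) (𝟙 P) ≫ lift (cmap i p) (snd G0 P) = lift p (𝟙 P) := by
      apply CartesianMonoidalCategory.hom_ext
      · simp only [Category.assoc, lift_fst, cmap, MonObj.comp_mul, lift_snd_assoc, lift_fst_assoc,
          Category.id_comp, MonObj.one_comp, _root_.mul_one]
      · simp
    rw [← Scheme.Hom.comp_apply, ← Over.comp_left, e]
    exact hp
  obtain ⟨F, hF⟩ := isCompact_univ.elim_finite_subcover _ hopen hall.ge
  refine ⟨↑F, F.finite_toSet, fun r => ?_⟩
  obtain ⟨g, hg, hr⟩ := Set.mem_iUnion₂.mp (hF (Set.mem_univ r))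
  exact ⟨g, hg, hr⟩

/-- Homogeneous spaces: two points over an algebraically closed field are in one G0-orbit as soon as
both orbit maps are dominant. -/
theorem exists_transporter [LocallyOfFiniteType G0.hom] [QuasiCompact G0.hom]
    [LocallyOfFiniteType X.hom] [IsSeparated X.hom] [IrreducibleSpace ↥(X ⊗ Over.mk t).left]
    (a0 : AlgGrp.Action G0 X) (x y : Over.mk t ⟶ X)
    (hx : DenseRange (lift ((G0 ◁ x) ≫ a0.act) (snd G0 (Over.mk t))).left)
    (hy : DenseRange (lift ((G0 ◁ y) ≫ a0.act) (snd G0 (Over.mk t))).left) :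
    ∃ h : Over.mk t ⟶ G0, H18Torsor.smul a0 h x = y := by
  let P := Over.mk t
  let ox := lift ((G0 ◁ x) ≫ a0.act) (snd G0 P)
  let oy := lift ((G0 ◁ y) ≫ a0.act) (snd G0 P)
  haveI : LocallyOfFiniteType (snd G0 P).left := inferInstanceAs (LocallyOfFiniteType (pullback.snd G0.hom t))
  haveI : QuasiCompact (snd G0 P).left := inferInstanceAs (QuasiCompact (pullback.snd G0.hom t))
  haveI : IsSeparated (snd X P).left := inferInstanceAs (IsSeparated (pullback.snd X.hom t))
  have hox : ox.left ≫ (snd X P).left = (snd G0 P).left := by rw [← Over.comp_left]; simp [ox]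
  have hoy : oy.left ≫ (snd X P).left = (snd G0 P).left := by rw [← Over.comp_left]; simp [oy]
  haveI : LocallyOfFiniteType (ox.left ≫ (snd X P).left) := by rw [hox]; infer_instance
  haveI : QuasiCompact (ox.left ≫ (snd X P).left) := by rw [hox]; infer_instance
  haveI : LocallyOfFiniteType (oy.left ≫ (snd X P).left) := by rw [hoy]; infer_instance
  haveI : QuasiCompact (oy.left ≫ (snd X P).left) := by rw [hoy]; infer_instance
  haveI : LocallyOfFiniteType ox.left := locallyOfFiniteType_of_comp ox.left (snd X P).left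
  haveI : LocallyOfFiniteType oy.left := locallyOfFiniteType_of_comp oy.left (snd X P).left
  haveI : QuasiCompact ox.left := QuasiCompact.of_comp ox.left (snd X P).left
  haveI : QuasiCompact oy.left := QuasiCompact.of_comp oy.left (snd X P).left
  obtain ⟨p, hp⟩ := H05EGA4.exists_specializes_of_mem_closure_range ox.left (hx (genericPoint ↥(X ⊗ P).left))
  obtain ⟨q, hq⟩ := H05EGA4.exists_specializes_of_mem_closure_range oy.left (hy (genericPoint ↥(X ⊗ P).left))
  have hpe := (hp.antisymm (genericPoint_specializes _)).eq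
  have hqe := (hq.antisymm (genericPoint_specializes _)).eq
  obtain ⟨r, -, -⟩ := Scheme.Pullback.exists_preimage_pullback (f := ox.left) (g := oy.left) p q (hpe.trans hqe.symm)
  let q1 := pullback.fst ox.left oy.left ≫ (snd G0 P).left
  haveI : LocallyOfFiniteType q1 := inferInstance
  haveI : JacobsonSpace ↥P.left := inferInstanceAs (JacobsonSpace (PrimeSpectrum K))
  haveI : JacobsonSpace ↥(pullback ox.left oy.left) := LocallyOfFiniteType.jacobsonSpace q1
  obtain ⟨c, -, hcc⟩ := nonempty_inter_closedPoints (X := ↥(pullback ox.left oy.left)) (Z := Set.univ)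
    ⟨r, trivial⟩ isClosed_univ.isLocallyClosed
  let sec := pointOfClosedPoint q1 c hcc
  have hsec : sec ≫ q1 = 𝟙 _ := pointOfClosedPoint_comp _ _ _
  have hsec2 : sec ≫ pullback.snd ox.left oy.left ≫ (snd G0 P).left = 𝟙 _ := by
    rw [← hoy, ← pullback.condition_assoc, hox]; exact hsec
  let pp : P ⟶ G0 ⊗ P := Over.homMk (sec ≫ pullback.fst ox.left oy.left) (by
    rw [Category.assoc, ← Over.w (snd G0 P), ← Category.assoc (pullback.fst _ _), ← Category.assoc sec]
    exact (congrArg (· ≫ P.hom) hsec).trans (Category.id_comp _))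
  let qq : P ⟶ G0 ⊗ P := Over.homMk (sec ≫ pullback.snd ox.left oy.left) (by
    rw [Category.assoc, ← Over.w (snd G0 P), ← Category.assoc (pullback.snd _ _), ← Category.assoc sec]
    exact (congrArg (· ≫ P.hom) hsec2).trans (Category.id_comp _))
  have hp2 : pp ≫ snd G0 P = 𝟙 P := Over.OverMorphism.ext ((Category.assoc _ _ _).trans hsec)
  have hq2 : qq ≫ snd G0 P = 𝟙 P := Over.OverMorphism.ext ((Category.assoc _ _ _).trans hsec2)
  have e : pp ≫ ox = qq ≫ oy := Over.OverMorphism.ext (by
    simp only [Over.comp_left, pp, qq, Over.homMk_left, Category.assoc, pullback.condition])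
  have e1 := congrArg (· ≫ fst X P) e
  simp only [ox, oy, Category.assoc, lift_fst] at e1
  have hsm : ∀ (w : P ⟶ G0 ⊗ P) (_ : w ≫ snd G0 P = 𝟙 P) (z : P ⟶ X),
      w ≫ (G0 ◁ z) ≫ a0.act = H18Torsor.smul a0 (w ≫ fst G0 P) z := fun w hw z => by
    rw [H18Torsor.smul, ← Category.assoc]
    refine congrArg (· ≫ a0.act) (CartesianMonoidalCategory.hom_ext _ _ ?_ ?_)
    · simp
    · simp [reassoc_of% hw]
  rw [hsm pp hp2 x, hsm qq hq2 y] at e1
  refine ⟨(qq ≫ fst G0 P)⁻¹ * (pp ≫ fst G0 P), ?_⟩
  rw [H18Torsor.mul_smul_pt, e1, ← H18Torsor.mul_smul_pt, inv_mul_cancel, H18Torsor.one_smul_pt]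

end Field


/-- Over a field k, let G be a smooth k-group scheme of finite type acting on a variety X (a separated,
geometrically integral k-scheme of finite type), and let i : G° → G be its identity component: a
homomorphism which is an open immersion from a connected k-group scheme whose image is the connected
component of the unit element of G. Let G° act on X through i. Then X is homogeneous under G (the
graph morphism G × X → X × X, (g, x) ↦ (x, g·x), is surjective) if and only if it is homogeneous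
under G°, and X is almost homogeneous under G (the graph morphism is dominant) if and only if it is
almost homogeneous under G°. -/
theorem result (k : Type u) [Field k]
    (G G0 X : Over (Spec (CommRingCat.of k))) [GrpObj G] [Smooth G.hom] [QuasiCompact G.hom]
    [GrpObj G0] (i : G0 ⟶ G) [IsMonHom i] [IsOpenImmersion i.left] [ConnectedSpace ↥G0.left]
    (hi : Set.range i.left.base = connectedComponent ((η[G]).left.base (IsLocalRing.closedPoint k)))
    [IsSeparated X.hom] [LocallyOfFiniteType X.hom] [QuasiCompact X.hom] [GeometricallyIntegral X.hom]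
    (a : AlgGrp.Action G X) (a0 : AlgGrp.Action G0 X) (ha0 : a0.act = (i ▷ X) ≫ a.act) :
    (Surjective (CartesianMonoidalCategory.lift (CartesianMonoidalCategory.snd G X) a.act).left ↔
      Surjective (CartesianMonoidalCategory.lift (CartesianMonoidalCategory.snd G0 X) a0.act).left) ∧
    (IsDominant (CartesianMonoidalCategory.lift (CartesianMonoidalCategory.snd G X) a.act).left ↔
      IsDominant (CartesianMonoidalCategory.lift (CartesianMonoidalCategory.snd G0 X) a0.act).left) := by
  have hflip : ∀ {Y : Over (Spec (CommRingCat.of k))} (f : Y ⊗ X ⟶ X), lift (snd Y X) f = lift f (snd Y X) ≫ (β_ X X).hom := by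
    intro Y f; apply CartesianMonoidalCategory.hom_ext <;> simp
  haveI : IsIso ((β_ X X).hom).left := ((Over.forget _).mapIso (β_ X X)).isIso_hom
  have hS : ∀ {Y : Over (Spec (CommRingCat.of k))} (f : Y ⊗ X ⟶ X),
      Surjective (lift (snd Y X) f).left ↔ Surjective (lift f (snd Y X)).left := fun f => by
    rw [hflip, Over.comp_left]; exact MorphismProperty.cancel_right_of_respectsIso @Surjective _ _
  have hD : ∀ {Y : Over (Spec (CommRingCat.of k))} (f : Y ⊗ X ⟶ X),
      IsDominant (lift (snd Y X) f).left ↔ IsDominant (lift f (snd Y X)).left := fun f => by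
    rw [hflip, Over.comp_left]; exact MorphismProperty.cancel_right_of_respectsIso @IsDominant _ _
  rw [hS, hS, hD, hD]
  have hfac : lift a0.act (snd G0 X) = (i ▷ X) ≫ lift a.act (snd G X) := by
    apply CartesianMonoidalCategory.hom_ext <;> simp [ha0]
  have hsub : Set.range (lift a0.act (snd G0 X)).left ⊆ Set.range (lift a.act (snd G X)).left := by
    rintro _ ⟨w, rfl⟩
    exact ⟨(i ▷ X).left w, by rw [hfac, Over.comp_left, Scheme.Hom.comp_apply]⟩
  haveI : LocallyOfFiniteType G0.hom := by rw [← Over.w i]; infer_instance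
  haveI : QuasiCompact G0.hom := by
    haveI : IsNoetherian G.left := by
      haveI : IsLocallyNoetherian G.left := LocallyOfFiniteType.isLocallyNoetherian G.hom
      haveI : CompactSpace G.left := QuasiCompact.compactSpace_of_compactSpace G.hom
      exact {}
    rw [← Over.w i]; infer_instance
  -- geometric points
  have hirr : ∀ {K : Type u} [Field K] (t : Spec (CommRingCat.of K) ⟶ Spec (CommRingCat.of k)),
      IrreducibleSpace ↥(X ⊗ Over.mk t).left := by
    intro K _ t
    haveI : IrreducibleSpace ↥(Spec (CommRingCat.of K)) := inferInstanceAs (IrreducibleSpace (PrimeSpectrum K))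
    exact GeometricallyIrreducible.irreducibleSpace (pullback.snd X.hom t) (Scheme.Hom.isOpenMap _)
  refine ⟨⟨fun hΦ => ⟨fun z => ?_⟩, fun h0 => ⟨fun z => hsub ?_⟩⟩,
    ⟨fun hΦ => ?_, fun h0 => ⟨h0.denseRange.mono hsub⟩⟩⟩
  · let K := AlgebraicClosure ((X ⊗ X).left.residueField z)
    let e : Spec (CommRingCat.of K) ⟶ (X ⊗ X).left :=
      Spec.map (CommRingCat.ofHom (algebraMap ((X ⊗ X).left.residueField z) K)) ≫ (X ⊗ X).left.fromSpecResidueField z
    let t := e ≫ (X ⊗ X).hom
    let q : Over.mk t ⟶ X ⊗ X := Over.homMk e rfl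
    haveI := hirr t
    obtain ⟨F, hF, hcov⟩ := exists_cover i t
    have hdense : ∀ v : Over.mk t ⟶ X,
        DenseRange (lift ((G0 ◁ v) ≫ a0.act) (snd G0 (Over.mk t))).left := fun v => by
      rw [ha0]
      refine dense_orbit i a F hF hcov v ?_
      rw [DenseRange, range_graph a.act v, hΦ.surj.range_eq, Set.preimage_univ]
      exact dense_univ
    obtain ⟨g, hg⟩ := exists_transporter t a0 (q ≫ snd X X) (q ≫ fst X X) (hdense _) (hdense _)
    refine ⟨(lift g (q ≫ snd X X)).left (IsLocalRing.closedPoint K), ?_⟩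
    have hq : lift g (q ≫ snd X X) ≫ lift a0.act (snd G0 X) = q := by
      apply CartesianMonoidalCategory.hom_ext
      · simp only [Category.assoc, lift_fst]; exact hg
      · simp
    rw [← Scheme.Hom.comp_apply, ← Over.comp_left, hq]
    show e (IsLocalRing.closedPoint K) = z
    simp only [e, Scheme.Hom.comp_apply]
    exact Scheme.fromSpecResidueField_apply _ _
  · exact h0.surj z
  · let K := AlgebraicClosure k
    let t : Spec (CommRingCat.of K) ⟶ Spec (CommRingCat.of k) := Spec.map (CommRingCat.ofHom (algebraMap k K))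
    haveI : Surjective t := ⟨Function.surjective_to_subsingleton _⟩
    haveI : UniversallyOpen t := inferInstance
    haveI := hirr t
    let P := X ⊗ Over.mk t
    haveI : IrreducibleSpace ↥P.left := hirr t
    haveI : IrreducibleSpace ↥(X ⊗ P).left :=
      GeometricallyIrreducible.irreducibleSpace (pullback.snd X.hom P.hom) (Scheme.Hom.isOpenMap _)
    obtain ⟨F, hF, hcov⟩ := exists_cover i t
    let v : P ⟶ X := fst X (Over.mk t)
    haveI : UniversallyOpen v.left := inferInstanceAs (UniversallyOpen (pullback.fst X.hom t))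
    haveI : Surjective v.left := inferInstanceAs (Surjective (pullback.fst X.hom t))
    have hpb : IsPullback (X ◁ v).left (snd X P).left (snd X X).left v.left := by
      refine IsPullback.of_right ?_ ?_ (IsPullback.of_hasPullback X.hom X.hom)
      · have h1 : (X ◁ v).left ≫ (fst X X).left = (fst X P).left := by rw [← Over.comp_left]; simp
        erw [h1, Over.w v]
        exact IsPullback.of_hasPullback X.hom P.hom
      · rw [← Over.comp_left, ← Over.comp_left]; simp
    haveI : UniversallyOpen (X ◁ v).left :=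
      MorphismProperty.of_isPullback (P := @UniversallyOpen) hpb.flip inferInstance
    haveI : Surjective (X ◁ v).left :=
      MorphismProperty.of_isPullback (P := @Surjective) hpb.flip inferInstance
    have hcov' := cover_pullback i (snd X (Over.mk t)) F hcov
    have hdense : DenseRange (lift ((G0 ◁ v) ≫ a0.act) (snd G0 P)).left := by
      rw [ha0]
      refine dense_orbit i a ((fun g => snd X (Over.mk t) ≫ g) '' F) (hF.image _) (fun r => ?_) v ?_
      · obtain ⟨g, hg, hr⟩ := hcov' r
        exact ⟨_, ⟨g, hg, rfl⟩, hr⟩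
      · rw [DenseRange, range_graph a.act v]
        exact hΦ.denseRange.preimage (Scheme.Hom.isOpenMap _)
    refine ⟨?_⟩
    rw [DenseRange, range_graph a0.act v] at hdense
    refine Dense.mono (Set.image_preimage_subset _ _)
      ((Scheme.Hom.surjective (X ◁ v).left).denseRange.dense_image (Scheme.Hom.continuous _) hdense)

end Groth.Agent.S14640
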