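import Groth.Statements.S14643
import Groth.Agent.H19Grp.OrbitSmooth
import Groth.Agent.H19Grp.QuotientDesc
import Groth.Agent.H19Quot.Field
import Groth.Agent.H19Grp.Kernel
import Groth.Agent.H19Grp.Quotient
import Groth.Agent.H20GQ.Orbit

set_option autoImplicit false
set_option maxHeartbeats 1000000
set_option synthInstance.maxHeartbeats 100000
set_option linter.style.haveILetI false
set_option backward.isDefEq.respectTransparency false
universe u
open CategoryTheory MonoidalCategory CartesianMonoidalCategory MonObj GrpObj AlgebraicGeometry CategoryTheory.Limits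
open AlgGrp

namespace Groth.Agent.S14643

theorem descend_action (k : Type u) [Field k]
    (G N Q X : Over (Spec (CommRingCat.of k))) [GrpObj G] [LocallyOfFiniteType G.hom]
    (a : AlgGrp.Action G X) [GrpObj N] (n : N ⟶ G)
    (hN : ∀ (T : Over (Spec (CommRingCat.of k))) (g : T ⟶ G),
      (∃ m : T ⟶ N, m ≫ n = g) ↔
        ∀ (T' : Over (Spec (CommRingCat.of k))) (s : T' ⟶ T) (x : T' ⟶ X), lift (s ≫ g) x ≫ a.act = x)
    [GrpObj Q] [LocallyOfFiniteType Q.hom] (π : G ⟶ Q) [IsMonHom π] [Flat π.left] [Surjective π.left]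
    (hker : AlgGrp.IsKernel n π) :
    (∃! b : AlgGrp.Action Q X, (π ▷ X) ≫ b.act = a.act) ∧
    ∀ b : AlgGrp.Action Q X, (π ▷ X) ≫ b.act = a.act →
      (∀ (T : Over (Spec (CommRingCat.of k))) (q : T ⟶ Q),
        (∀ (T' : Over (Spec (CommRingCat.of k))) (s : T' ⟶ T) (x : T' ⟶ X), lift (s ≫ q) x ≫ b.act = x) → q = 1) ∧
      Set.range (lift (snd G X) a.act).left.base = Set.range (lift (snd Q X) b.act).left.base := by
  haveI : IsNoetherianRing (CommRingCat.of k) := inferInstanceAs (IsNoetherianRing k)
  haveI : IsLocallyNoetherian Q.left := LocallyOfFiniteType.isLocallyNoetherian Q.hom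
  haveI : LocallyOfFiniteType π.left := by
    haveI : LocallyOfFiniteType (π.left ≫ Q.hom) := by rw [Over.w]; infer_instance
    exact locallyOfFiniteType_of_comp _ Q.hom
  haveI : LocallyOfFinitePresentation π.left := inferInstance
  have sq := Groth.Agent.H19Quot.isPullback_whiskerRight π X
  haveI : Flat (π ▷ X).left := MorphismProperty.of_isPullback sq.flip inferInstance
  haveI : Surjective (π ▷ X).left := MorphismProperty.of_isPullback sq.flip inferInstance
  haveI : LocallyOfFinitePresentation (π ▷ X).left := MorphismProperty.of_isPullback sq.flip inferInstance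
  have hinv : ∀ (T : Over (Spec (CommRingCat.of k))) (r r' : T ⟶ G ⊗ X),
      r ≫ (π ▷ X) = r' ≫ (π ▷ X) → r ≫ a.act = r' ≫ a.act := by
    intro T r r' h
    have h1 : (r ≫ fst G X) ≫ π = (r' ≫ fst G X) ≫ π := by simpa using congrArg (· ≫ fst Q X) h
    have h2 : r ≫ snd G X = r' ≫ snd G X := by simpa using congrArg (· ≫ snd Q X) h
    obtain ⟨m, hm⟩ := Groth.Agent.H19Grp.kernel_lift hker ((r ≫ fst G X)⁻¹ * (r' ≫ fst G X))
      (by rw [MonObj.mul_comp, GrpObj.inv_comp, h1, inv_mul_cancel])
    have hm' := (hN T (m ≫ n)).1 ⟨m, rfl⟩ T (𝟙 T) (r ≫ snd G X)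
    rw [Category.id_comp] at hm'
    have e : ∀ p : T ⟶ G ⊗ X, p ≫ a.act = lift (p ≫ fst G X) (p ≫ snd G X) ≫ a.act := fun p => by
      rw [← comp_lift, lift_fst_snd, Category.comp_id]
    rw [e r, e r', ← h2]
    conv_rhs => rw [show r' ≫ fst G X = (r ≫ fst G X) * (m ≫ n) by rw [hm, mul_inv_cancel_left],
      Groth.Agent.H19Grp.act_mul, hm']
  obtain ⟨φ, hφ, hu⟩ := Groth.Agent.H19Grp.QuotientDesc.existsUnique_desc (π ▷ X) a.act hinv

  haveI : Epi (π ▷ X).left := Flat.epi_of_flat_of_surjective (π ▷ X).left
  haveI : Epi (π ▷ X) := Over.epi_of_epi_left _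
  refine ⟨⟨⟨φ, ?_, ?_⟩, hφ, fun b hb => ?_⟩, fun b hb => ⟨?_, ?_⟩⟩
  · have h1 : η[Q] ▷ X = (η[G] ▷ X) ≫ (π ▷ X) := by rw [← comp_whiskerRight, IsMonHom.one_hom]
    rw [h1, Category.assoc, hφ, a.one_act]
  · haveI := Groth.Agent.H19Grp.epi_tensorHom_of_fpqc π π
    haveI : Flat (π ⊗ₘ π).left := by
      rw [MonoidalCategory.tensorHom_def, Over.comp_left]
      haveI : Flat (π ▷ G).left := MorphismProperty.of_isPullback
        (Groth.Agent.H19Quot.isPullback_whiskerRight π G).flip inferInstance
      haveI : Flat (Q ◁ π).left := MorphismProperty.of_isPullback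
        (Groth.Agent.H20GQ.isPullback_whiskerLeft π Q) inferInstance
      infer_instance
    haveI : Surjective (π ⊗ₘ π).left := by
      rw [MonoidalCategory.tensorHom_def, Over.comp_left]
      haveI : Surjective (π ▷ G).left := MorphismProperty.of_isPullback
        (Groth.Agent.H19Quot.isPullback_whiskerRight π G).flip inferInstance
      haveI : Surjective (Q ◁ π).left := MorphismProperty.of_isPullback
        (Groth.Agent.H20GQ.isPullback_whiskerLeft π Q) inferInstance
      infer_instance
    have sq2 := Groth.Agent.H19Quot.isPullback_whiskerRight (π ⊗ₘ π) X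
    haveI : Flat ((π ⊗ₘ π) ▷ X).left := MorphismProperty.of_isPullback sq2.flip inferInstance
    haveI : Surjective ((π ⊗ₘ π) ▷ X).left := MorphismProperty.of_isPullback sq2.flip inferInstance
    haveI : Epi ((π ⊗ₘ π) ▷ X).left := Flat.epi_of_flat_of_surjective _
    haveI : Epi ((π ⊗ₘ π) ▷ X) := Over.epi_of_epi_left _
    rw [← cancel_epi ((π ⊗ₘ π) ▷ X), ← comp_whiskerRight_assoc, ← IsMonHom.mul_hom, comp_whiskerRight_assoc,
      hφ, a.mul_act, ← hφ]
    simp [MonoidalCategory.tensorHom_def, whisker_exchange_assoc]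
    rw [associator_naturality_left_assoc, Iso.inv_hom_id_assoc, whisker_exchange_assoc, ← associator_naturality_left_assoc]
  · obtain ⟨b, _, _⟩ := b
    dsimp only at hb
    obtain rfl := hu b hb
    rfl
  · intro T q hq
    let T' : Over (Spec (CommRingCat.of k)) := Over.mk (Limits.pullback.fst q.left π.left ≫ T.hom)
    let s : T' ⟶ T := Over.homMk (Limits.pullback.fst q.left π.left) rfl
    let g : T' ⟶ G := Over.homMk (Limits.pullback.snd q.left π.left) (by
      show _ ≫ G.hom = Limits.pullback.fst q.left π.left ≫ T.hom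
      rw [← Over.w π, ← Over.w q, Limits.pullback.condition_assoc])
    have hg : g ≫ π = s ≫ q := Over.OverMorphism.ext Limits.pullback.condition.symm
    haveI : Epi s.left := Flat.epi_of_flat_of_surjective (Limits.pullback.fst q.left π.left)
    haveI : Epi s := Over.epi_of_epi_left _
    obtain ⟨m, hm⟩ := (hN T' g).2 fun T'' t x => by
      have h1 := hq T'' (t ≫ s) x
      rw [Category.assoc, ← hg, ← Category.assoc, ← lift_whiskerRight, Category.assoc, hb] at h1
      exact h1
    rw [← cancel_epi s, ← hg, ← hm, Category.assoc, Groth.Agent.H19Grp.kernel_comp_eq_one hker,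
      MonObj.comp_one, MonObj.comp_one]
  · have h1 : lift (snd G X) a.act = (π ▷ X) ≫ lift (snd Q X) b.act := by
      rw [comp_lift, whiskerRight_snd, hb]
    rw [h1, Over.comp_left, Scheme.Hom.comp_base, TopCat.coe_comp, Set.range_comp,
      Set.range_eq_univ.2 (π ▷ X).left.surjective, Set.image_univ]


/-- Over a field k, let G be a smooth k-group scheme of finite type acting on a variety X (a separated,
geometrically integral k-scheme of finite type). Let n : N → G be the kernel of the action: a closed
subgroup scheme such that, for every k-scheme T, a T-point of G factors through N exactly when it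
acts as the identity on all points of X over T-schemes. Let π : G → Q be a homomorphism onto a
k-group scheme of finite type which is flat and surjective with kernel N (the quotient G/N). Then
there is a unique action of Q on X inducing the given one along π; this action of Q is faithful (a
T-point of Q acting as the identity on all points of X over T-schemes is the unit); and X is
homogeneous under G (surjective graph morphism (g, x) ↦ (x, g·x)) if and only if it is homogeneous
under Q, and almost homogeneous under G (dominant graph morphism) if and only if it is almost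
homogeneous under Q. -/
theorem result (k : Type u) [Field k]
    (G N Q X : Over (Spec (CommRingCat.of k))) [GrpObj G] [Smooth G.hom] [QuasiCompact G.hom]
    [IsSeparated X.hom] [LocallyOfFiniteType X.hom] [QuasiCompact X.hom] [GeometricallyIntegral X.hom] (a : AlgGrp.Action G X)
    [GrpObj N] (n : N ⟶ G) [IsMonHom n] [IsClosedImmersion n.left]
    (hN : ∀ (T : Over (Spec (CommRingCat.of k))) (g : T ⟶ G),
      (∃ m : T ⟶ N, m ≫ n = g) ↔
        ∀ (T' : Over (Spec (CommRingCat.of k))) (s : T' ⟶ T) (x : T' ⟶ X), CartesianMonoidalCategory.lift (s ≫ g) x ≫ a.act = x)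
    [GrpObj Q] [LocallyOfFiniteType Q.hom] [QuasiCompact Q.hom] (π : G ⟶ Q) [IsMonHom π] [Flat π.left] [Surjective π.left]
    (hker : AlgGrp.IsKernel n π) :
    (∃! b : AlgGrp.Action Q X, (π ▷ X) ≫ b.act = a.act) ∧
    ∀ b : AlgGrp.Action Q X, (π ▷ X) ≫ b.act = a.act →
      (∀ (T : Over (Spec (CommRingCat.of k))) (q : T ⟶ Q),
        (∀ (T' : Over (Spec (CommRingCat.of k))) (s : T' ⟶ T) (x : T' ⟶ X), CartesianMonoidalCategory.lift (s ≫ q) x ≫ b.act = x) → q = 1) ∧
      (Surjective (CartesianMonoidalCategory.lift (CartesianMonoidalCategory.snd G X) a.act).left ↔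
        Surjective (CartesianMonoidalCategory.lift (CartesianMonoidalCategory.snd Q X) b.act).left) ∧
      (IsDominant (CartesianMonoidalCategory.lift (CartesianMonoidalCategory.snd G X) a.act).left ↔
        IsDominant (CartesianMonoidalCategory.lift (CartesianMonoidalCategory.snd Q X) b.act).left) := by
  obtain ⟨h1, h2⟩ := descend_action k G N Q X a n hN π hker
  refine ⟨h1, fun b hb => ⟨(h2 b hb).1, ?_, ?_⟩⟩
  · constructor
    · rintro ⟨h⟩
      exact ⟨Set.range_eq_univ.1 ((h2 b hb).2 ▸ Set.range_eq_univ.2 h)⟩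
    · rintro ⟨h⟩
      exact ⟨Set.range_eq_univ.1 ((h2 b hb).2.symm ▸ Set.range_eq_univ.2 h)⟩
  · constructor
    · rintro ⟨h⟩
      exact ⟨by rw [DenseRange, ← (h2 b hb).2]; exact h⟩
    · rintro ⟨h⟩
      exact ⟨by rw [DenseRange, (h2 b hb).2]; exact h⟩

end Groth.Agent.S14643
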