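import Groth.Statements.S14645
import Mathlib
import Groth.Agent.H19Grp.PointsEqClosed

set_option autoImplicit false
set_option linter.style.haveILetI false
set_option backward.isDefEq.respectTransparency false
universe u
open CategoryTheory MonoidalCategory CartesianMonoidalCategory MonObj GrpObj AlgebraicGeometry CategoryTheory.Limits
open AlgGrp

namespace Groth.Agent.S14645

/-- Over a field k with algebraic closure K, let G be a smooth k-group scheme of finite type acting on a
variety X (a separated, geometrically integral k-scheme of finite type). Then X is homogeneous under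
G, i.e. the graph morphism G × X → X × X, (g, x) ↦ (x, g·x), is surjective, if and only if the
abstract group G(K) of K-points over k acts transitively on the set X(K): for all K-points x, y of X
there is a K-point g of G with g · x = y. -/
theorem result (k : Type u) [Field k]
    (G X : Over (Spec (CommRingCat.of k))) [GrpObj G] [Smooth G.hom] [QuasiCompact G.hom]
    [IsSeparated X.hom] [LocallyOfFiniteType X.hom] [QuasiCompact X.hom] [GeometricallyIntegral X.hom] (a : AlgGrp.Action G X)
    (K : Type u) [Field K] [Algebra k K] [IsAlgClosure k K] :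
    Surjective (CartesianMonoidalCategory.lift (CartesianMonoidalCategory.snd G X) a.act).left ↔
      ∀ x y : Over.mk (Spec.map (CommRingCat.ofHom (algebraMap k K))) ⟶ X, ∃ g : Over.mk (Spec.map (CommRingCat.ofHom (algebraMap k K))) ⟶ G, CartesianMonoidalCategory.lift g x ≫ a.act = y := by
  haveI : IsAlgClosed K := IsAlgClosure.isAlgClosed k
  let Ko : Over (Spec (CommRingCat.of k)) := Over.mk (Spec.map (CommRingCat.ofHom (algebraMap k K)))
  have hsymm : ∀ (g : Ko ⟶ G) (x : Ko ⟶ X), lift g x ≫ lift (snd G X) a.act = lift x (lift g x ≫ a.act) := by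
    intro g x; rw [comp_lift, lift_snd]
  haveI : LocallyOfFiniteType (X ⊗ X).hom := by
    show LocallyOfFiniteType (pullback.fst X.hom X.hom ≫ X.hom)
    infer_instance
  haveI : LocallyOfFiniteType (G ⊗ X).hom := by
    show LocallyOfFiniteType (pullback.fst G.hom X.hom ≫ G.hom)
    infer_instance
  haveI : LocallyOfFiniteType (lift (snd G X) a.act).left := by
    haveI : LocallyOfFiniteType ((lift (snd G X) a.act).left ≫ (X ⊗ X).hom) := by rw [Over.w]; infer_instance
    exact locallyOfFiniteType_of_comp _ (X ⊗ X).hom
  constructor
  · intro hs x y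
    let w : Ko ⟶ X ⊗ X := lift x y
    haveI : JacobsonSpace ↥Ko.left := inferInstanceAs (JacobsonSpace ↥(Spec (CommRingCat.of K)))
    haveI := LocallyOfFiniteType.jacobsonSpace (pullback.snd (lift (snd G X) a.act).left w.left)
    obtain ⟨z₀, -⟩ := (pullback.snd (lift (snd G X) a.act).left w.left).surjective (IsLocalRing.closedPoint K)
    obtain ⟨z, -, hzc⟩ := nonempty_inter_closedPoints (Z := Set.univ) ⟨z₀, Set.mem_univ _⟩
      isOpen_univ.isLocallyClosed
    let σ := pointOfClosedPoint (pullback.snd (lift (snd G X) a.act).left w.left) z hzc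
    have hσ : σ ≫ pullback.snd (lift (snd G X) a.act).left w.left = 𝟙 _ := pointOfClosedPoint_comp _ _ _
    have hσq : (σ ≫ pullback.fst _ _) ≫ (lift (snd G X) a.act).left = w.left := by
      rw [Category.assoc, pullback.condition, ← Category.assoc, hσ]
      exact Category.id_comp _
    let p : Ko ⟶ G ⊗ X := Over.homMk (σ ≫ pullback.fst (lift (snd G X) a.act).left w.left) (by
      show (σ ≫ pullback.fst _ _) ≫ (G ⊗ X).hom = _
      rw [← Over.w (lift (snd G X) a.act), ← Category.assoc, hσq]
      exact Over.w w)
    have hp : p ≫ lift (snd G X) a.act = w := Over.OverMorphism.ext hσq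
    have hp' := hp
    rw [comp_lift] at hp'
    have h1 := congrArg (· ≫ fst X X) hp'
    have h2 := congrArg (· ≫ snd X X) hp'
    simp only [lift_fst, lift_snd, w] at h1 h2
    refine ⟨p ≫ fst G X, ?_⟩
    conv_rhs => rw [← h2]
    congr 1
    apply CartesianMonoidalCategory.hom_ext <;> simp [h1]
  · intro htr
    haveI : IsLocallyNoetherian (X ⊗ X).left := LocallyOfFiniteType.isLocallyNoetherian (X ⊗ X).hom
    haveI : QuasiCompact (X ⊗ X).hom := by
      show QuasiCompact (pullback.fst X.hom X.hom ≫ X.hom)
      infer_instance
    haveI : CompactSpace (X ⊗ X).left := QuasiCompact.compactSpace_of_compactSpace (X ⊗ X).hom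
    haveI : QuasiCompact (G ⊗ X).hom := by
      show QuasiCompact (pullback.fst G.hom X.hom ≫ G.hom)
      infer_instance
    haveI : IsSeparated (X ⊗ X).hom := by
      show IsSeparated (pullback.fst X.hom X.hom ≫ X.hom)
      infer_instance
    haveI : QuasiCompact (lift (snd G X) a.act).left := by
      haveI : QuasiCompact ((lift (snd G X) a.act).left ≫ (X ⊗ X).hom) := by rw [Over.w]; infer_instance
      exact QuasiCompact.of_comp _ (X ⊗ X).hom
    haveI : LocallyOfFinitePresentation (lift (snd G X) a.act).left := inferInstance
    have hE : Topology.IsConstructible (Set.range (lift (snd G X) a.act).left) := by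
      rw [← Set.image_univ]
      exact (lift (snd G X) a.act).left.isConstructible_image Topology.IsConstructible.univ
    refine ⟨Set.range_eq_univ.1 (H19Grp.PointsDense.eq_univ_of_points (K := K) hE fun w => ?_)⟩
    obtain ⟨g, hg⟩ := htr (w ≫ fst X X) (w ≫ snd X X)
    refine ⟨IsLocalRing.closedPoint K, (lift g (w ≫ fst X X)).left (IsLocalRing.closedPoint K), ?_⟩
    have : lift g (w ≫ fst X X) ≫ lift (snd G X) a.act = w := by
      rw [hsymm, hg]
      apply CartesianMonoidalCategory.hom_ext <;> simp
    exact congrArg (fun φ => φ.left (IsLocalRing.closedPoint K)) this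

end Groth.Agent.S14645
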