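import Groth.Statements.S14652
import Mathlib.RingTheory.Valuation.Basic
import Mathlib.RingTheory.Polynomial.IsIntegral
import Mathlib.RingTheory.IntegralClosure.IntegrallyClosed

set_option autoImplicit false
set_option linter.style.haveILetI false
universe u
open FiltBl

namespace Groth.Agent.S14652

theorem exists_fracLift {R L : Type u} [CommRing R] [IsDomain R] [Field L] (f : R →+* L)
    (hf : Function.Injective f) : ∃ Φ : FractionRing R →+* L, Φ.comp (algebraMap R (FractionRing R)) = f :=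
  ⟨IsFractionRing.lift hf, RingHom.ext fun r => IsFractionRing.lift_algebraMap hf r⟩

section Gauss

open Polynomial

variable {K : Type u} [Field K] (w : AddValuation K (WithTop ℤ)) (p : ℤ)

/-- All weights are at least `m`. -/
def GE (P : K[X]) (m : ℤ) : Prop := ∀ k : ℕ, ((m + k * p : ℤ) : WithTop ℤ) ≤ w (P.coeff k)

/-- The weight is `m`, first attained in degree `k`. -/
def Exact (P : K[X]) (m : ℤ) (k : ℕ) : Prop :=
  GE w p P m ∧ w (P.coeff k) = ((m + k * p : ℤ) : WithTop ℤ) ∧ ∀ j < k, ((m + j * p : ℤ) : WithTop ℤ) < w (P.coeff j)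

theorem GE.mul {P Q : K[X]} {a b : ℤ} (hP : GE w p P a) (hQ : GE w p Q b) : GE w p (P * Q) (a + b) := by
  intro k
  rw [coeff_mul]
  refine AddValuation.map_le_sum w ?_
  rintro ⟨i, j⟩ h
  rw [Finset.mem_antidiagonal] at h
  subst h
  rw [AddValuation.map_mul]
  refine le_trans (le_of_eq ?_) (add_le_add (hP i) (hQ j))
  rw [← WithTop.coe_add]
  congr 1
  push_cast
  ring

theorem GE.one : GE w p (1 : K[X]) 0 := by
  intro k
  rw [coeff_one]
  split_ifs with h
  · subst h; simp
  · simp

theorem GE.pow {P : K[X]} {a : ℤ} (hP : GE w p P a) : ∀ n : ℕ, GE w p (P ^ n) (n * a)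
  | 0 => by simpa using GE.one w p
  | n + 1 => by
    rw [pow_succ, Nat.cast_succ, add_one_mul]
    exact (GE.pow hP n).mul w p hP

theorem GE.mono {P : K[X]} {a b : ℤ} (hP : GE w p P a) (h : b ≤ a) : GE w p P b := fun k =>
  le_trans (WithTop.coe_le_coe.mpr (by linarith)) (hP k)

theorem GE.sum {ι : Type*} (s : Finset ι) (f : ι → K[X]) {a : ℤ} (h : ∀ i ∈ s, GE w p (f i) a) :
    GE w p (∑ i ∈ s, f i) a := fun k => by
  rw [finsetSum_coeff]
  exact AddValuation.map_le_sum w fun i hi => h i hi k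

theorem GE.neg {P : K[X]} {a : ℤ} (hP : GE w p P a) : GE w p (-P) a := fun k => by
  rw [coeff_neg, AddValuation.map_neg]; exact hP k

theorem Exact.mul {P Q : K[X]} {a b : ℤ} {k l : ℕ} (hP : Exact w p P a k) (hQ : Exact w p Q b l) :
    Exact w p (P * Q) (a + b) (k + l) := by
  classical
  have hterm : ∀ i j : ℕ, ((a + b + ((i + j : ℕ) : ℤ) * p : ℤ) : WithTop ℤ) ≤ w (P.coeff i * Q.coeff j) ∧
      (i < k ∨ j < l → ((a + b + ((i + j : ℕ) : ℤ) * p : ℤ) : WithTop ℤ) < w (P.coeff i * Q.coeff j)) := by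
    intro i j
    have e : ((a + b + ((i + j : ℕ) : ℤ) * p : ℤ) : WithTop ℤ) = ((a + i * p : ℤ) : WithTop ℤ) + ((b + j * p : ℤ) : WithTop ℤ) := by
      rw [← WithTop.coe_add]; congr 1; push_cast; ring
    rw [AddValuation.map_mul, e]
    refine ⟨add_le_add (hP.1 i) (hQ.1 j), ?_⟩
    rintro (h | h)
    · exact WithTop.add_lt_add_of_lt_of_le WithTop.coe_ne_top (hP.2.2 i h) (hQ.1 j)
    · exact WithTop.add_lt_add_of_le_of_lt WithTop.coe_ne_top (hP.1 i) (hQ.2.2 j h)
  refine ⟨hP.1.mul w p hQ.1, ?_, fun j hj => ?_⟩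
  · rw [coeff_mul, ← Finset.add_sum_erase _ _ (show (k, l) ∈ Finset.antidiagonal (k + l) from Finset.mem_antidiagonal.mpr rfl)]
    have e : w (P.coeff k * Q.coeff l) = ((a + b + ((k + l : ℕ) : ℤ) * p : ℤ) : WithTop ℤ) := by
      rw [AddValuation.map_mul, hP.2.1, hQ.2.1, ← WithTop.coe_add]; congr 1; push_cast; ring
    rw [AddValuation.map_add_eq_of_lt_left, e]
    rw [e]
    refine AddValuation.map_lt_sum w WithTop.coe_ne_top ?_
    rintro ⟨i, j⟩ h
    obtain ⟨hne, h⟩ := Finset.mem_erase.mp h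
    rw [Finset.mem_antidiagonal] at h
    rw [← h]
    refine (hterm i j).2 ?_
    by_contra hc
    push Not at hc
    exact hne (Prod.ext (by simp only; omega) (by simp only; omega))
  · rw [coeff_mul]
    refine AddValuation.map_lt_sum w WithTop.coe_ne_top ?_
    rintro ⟨i, j'⟩ h
    rw [Finset.mem_antidiagonal] at h
    rw [← h]
    exact (hterm i j').2 (by omega)

theorem exists_exact {P : K[X]} (hP : P ≠ 0) : ∃ m k, Exact w p P m k := by
  classical
  have hval : ∀ k ∈ P.support, ∃ z : ℤ, w (P.coeff k) = z := fun k hk =>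
    WithTop.ne_top_iff_exists.mp (fun h => mem_support_iff.mp hk (w.top_iff.mp h)) |>.imp fun z hz => hz.symm
  choose! z hz using hval
  obtain ⟨k₀, hk₀, hmin⟩ := Finset.exists_min_image P.support (fun k : ℕ => z k - (k : ℤ) * p) (support_nonempty.mpr hP)
  let m := z k₀ - (k₀ : ℤ) * p
  have hne : (P.support.filter fun k => z k - (k : ℤ) * p = m).Nonempty := ⟨k₀, Finset.mem_filter.mpr ⟨hk₀, rfl⟩⟩
  obtain ⟨hk1, hk2⟩ := Finset.mem_filter.mp (Finset.min'_mem _ hne)
  refine ⟨m, Finset.min' _ hne, fun k => ?_, ?_, fun j hj => ?_⟩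
  · by_cases hk : k ∈ P.support
    · rw [hz k hk]; refine WithTop.coe_le_coe.mpr ?_; have := hmin k hk; linarith
    · rw [notMem_support_iff.mp hk, AddValuation.map_zero]; exact le_top
  · rw [hz _ hk1]; congr 1; linarith
  · by_cases hj' : j ∈ P.support
    · rw [hz j hj']; refine WithTop.coe_lt_coe.mpr ?_
      have h1 := hmin j hj'
      have h2 : z j - (j : ℤ) * p ≠ m := fun h => absurd (Finset.min'_le _ j (Finset.mem_filter.mpr ⟨hj', h⟩)) (not_le.mpr hj)
      rcases lt_or_eq_of_le h1 with h | h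
      · linarith
      · exact absurd h.symm h2
    · rw [notMem_support_iff.mp hj', AddValuation.map_zero]; exact WithTop.coe_lt_top _

theorem Exact.pow {P : K[X]} {a : ℤ} {k : ℕ} (h : Exact w p P a k) : ∀ n : ℕ, Exact w p (P ^ n) (n * a) (n * k)
  | 0 => ⟨by simpa using GE.one w p, by simp, fun j hj => absurd hj (by simp)⟩
  | n + 1 => by
    rw [pow_succ, Nat.cast_succ, add_one_mul, add_one_mul]
    exact (Exact.pow h n).mul w p h

/-- Elements integral over nonnegative weights have nonnegative weight. -/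
theorem ge_zero_of_isIntegral {R : Type u} [CommRing R] [Algebra R K[X]] (hR : ∀ r : R, GE w p (algebraMap R K[X] r) 0)
    {P : K[X]} (hP : IsIntegral R P) : GE w p P 0 := by
  by_cases hP0 : P = 0
  · intro k; simp [hP0]
  obtain ⟨m, k, hmk⟩ := exists_exact w p hP0
  by_contra hc
  have hm : m < 0 := lt_of_not_ge fun h => hc (hmk.1.mono w p h)
  obtain ⟨f, hf, hfP⟩ := hP
  rw [eval₂_eq_sum_range, Finset.sum_range_succ, hf.coeff_natDegree, map_one, one_mul, add_comm,
    add_eq_zero_iff_eq_neg] at hfP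
  let n := f.natDegree
  have h1 : GE w p (P ^ n) (n * m + 1) := by
    rw [hfP]
    refine (GE.sum w p _ _ fun j hj => ?_).neg w p
    refine (GE.mul w p (hR _) (hmk.1.pow w p j)).mono w p ?_
    have hjn : (j : ℤ) + 1 ≤ n := by exact_mod_cast Finset.mem_range.mp hj
    nlinarith
  have h2 := h1 (n * k)
  rw [(hmk.pow w p n).2.1] at h2
  have := WithTop.coe_le_coe.mp h2
  linarith

end Gauss

/-- Let A be a Noetherian integrally closed domain with fraction field K, let v_1, …, v_s be finitely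
many valuations on K with values in ℤ ∪ {∞} (written additively) that are non-negative on A, and let
r_i = p_i / q_i be positive rationals (p_i, q_i positive integers). Let F be the filtration of
ideals of A given by F^k = {x ∈ A | q_i · v_i(x) ≥ k · p_i for every i}. Then the Rees algebra ⊕_{k
≥ 0} F^k X^k ⊆ A[X] is an integrally closed domain (it need not be Noetherian). -/
theorem result (A K : Type u) [CommRing A] [IsDomain A]
    [IsNoetherianRing A] [IsIntegrallyClosed A] [Field K] [Algebra A K] [IsFractionRing A K]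
    (ι : Type) [Finite ι] (v : ι → AddValuation K (WithTop ℤ))
    (hv : ∀ (i : ι) (x : A), 0 ≤ v i (algebraMap A K x)) (p q : ι → ℕ) (hp : ∀ i, 0 < p i)
    (hq : ∀ i, 0 < q i) (𝓕 : FiltBl.IdealFiltration A)
    (hF : ∀ (k : ℕ) (x : A), x ∈ 𝓕.F k ↔
      ∀ i, ((k * p i : ℕ) : WithTop ℤ) ≤ (q i : WithTop ℤ) * v i (algebraMap A K x)) :
    IsIntegrallyClosed 𝓕.rees := by
  classical
  refine (isIntegrallyClosed_iff (FractionRing 𝓕.rees)).mpr fun {x} hx => ?_
  obtain ⟨a, b, hb, rfl⟩ := IsFractionRing.div_surjective 𝓕.rees x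
  have hb0 : (b : Polynomial A) ≠ 0 := fun h => nonZeroDivisors.ne_zero hb (Subtype.ext h)
  let g : 𝓕.rees →+* FractionRing (Polynomial A) := (algebraMap (Polynomial A) _).comp 𝓕.rees.val.toRingHom
  have hg : Function.Injective g := fun u v h => Subtype.ext (IsFractionRing.injective (Polynomial A) (FractionRing (Polynomial A)) h)
  obtain ⟨Φ, hΦ⟩ : ∃ Φ : FractionRing 𝓕.rees →+* FractionRing (Polynomial A), Φ.comp (algebraMap _ _) = g :=
    exists_fracLift g hg
  obtain ⟨f, hf, hfx⟩ := hx
  have h1 := congrArg Φ hfx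
  rw [Polynomial.hom_eval₂, map_zero, hΦ] at h1
  have hint : IsIntegral (Polynomial A) (Φ (algebraMap _ _ a / algebraMap _ _ b)) := by
    refine ⟨f.map 𝓕.rees.val.toRingHom, hf.map _, ?_⟩
    rw [Polynomial.eval₂_map]
    exact h1
  obtain ⟨P, hP⟩ := (isIntegrallyClosed_iff (FractionRing (Polynomial A))).mp inferInstance hint
  have hPint : IsIntegral 𝓕.rees P := by
    refine ⟨f, hf, IsFractionRing.injective (Polynomial A) (FractionRing (Polynomial A)) ?_⟩
    rw [Polynomial.hom_eval₂, hP, map_zero]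
    exact h1
  have hmem : P ∈ 𝓕.rees := by
    intro k
    refine (hF k _).mpr fun i => ?_
    let u : AddMonoidHom (WithTop ℤ) (WithTop ℤ) := nsmulAddMonoidHom (q i)
    have htop : u ⊤ = ⊤ := by
      show q i • (⊤ : WithTop ℤ) = ⊤
      obtain ⟨r, hr⟩ := Nat.exists_eq_add_of_le' (hq i)
      rw [hr, succ_nsmul, WithTop.add_top]
    let w : AddValuation K (WithTop ℤ) := (v i).map u htop fun x y h => nsmul_le_nsmul_right h (q i)
    have hw : ∀ c, (q i : WithTop ℤ) * v i c = w c := by
      intro c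
      show _ = u (v i c)
      induction v i c with
      | top =>
        rw [htop, WithTop.mul_top]
        exact_mod_cast (hq i).ne'
      | coe z =>
        show _ = q i • (z : WithTop ℤ)
        rw [← WithTop.coe_nsmul, nsmul_eq_mul]
        rfl
    have hge : GE w (p i) (P.map (algebraMap A K)) 0 := by
      letI : Algebra 𝓕.rees (Polynomial K) := ((Polynomial.mapRingHom (algebraMap A K)).comp 𝓕.rees.val.toRingHom).toAlgebra
      refine ge_zero_of_isIntegral (R := 𝓕.rees) w (p i) (fun r n => ?_) ?_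
      · show _ ≤ w (((r : Polynomial A).map (algebraMap A K)).coeff n)
        rw [Polynomial.coeff_map, ← hw, zero_add]
        refine le_trans (le_of_eq ?_) ((hF n _).mp (r.2 n) i)
        norm_cast
      · obtain ⟨f, hf, hfP⟩ := hPint
        refine ⟨f, hf, ?_⟩
        have := congrArg (Polynomial.mapRingHom (algebraMap A K)) hfP
        rw [Polynomial.hom_eval₂, map_zero] at this
        exact this
    have h3 := hge k
    rw [Polynomial.coeff_map, ← hw, zero_add] at h3
    refine le_trans (le_of_eq ?_) h3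
    norm_cast
  refine ⟨⟨P, hmem⟩, ?_⟩
  refine Φ.injective ?_
  rw [← RingHom.comp_apply Φ, hΦ]
  exact hP

end Groth.Agent.S14652
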