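import Groth.Statements.S14653
import Groth.Agent.H24Filt.ExtRees
import Groth.Agent.S11278
import Groth.Agent.H19Grp.PuncturedLineLaw

set_option autoImplicit false
set_option linter.style.haveILetI false
universe u
open FiltBl Polynomial LaurentPolynomial
open Groth.Agent

namespace Groth.Agent.S14653Aux

variable {A : Type u} [CommRing A]

/-- Factorisations of a monomial with unit coefficient. -/
theorem monomial_of_mul [IsDomain A] {x y : A[T;T⁻¹]} {n : ℤ} (h : x * y = T n) :
    ∃ (c d : Aˣ) (i j : ℤ), x = LaurentPolynomial.C (c : A) * T i ∧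
      y = LaurentPolynomial.C (d : A) * T j ∧ i + j = n := by
  have hu : IsUnit (x * y) := h ▸ LaurentPolynomial.isUnit_T n
  obtain ⟨c, i, rfl⟩ := H19Grp.PuncturedLineLaw.exists_eq_C_mul_T (isUnit_of_mul_isUnit_left hu)
  obtain ⟨d, j, rfl⟩ := H19Grp.PuncturedLineLaw.exists_eq_C_mul_T (isUnit_of_mul_isUnit_right hu)
  refine ⟨c, d, i, j, rfl, rfl, ?_⟩
  rw [mul_mul_mul_comm, ← map_mul, ← LaurentPolynomial.T_add] at h
  by_contra hne
  have h1 := congrArg (fun z : A[T;T⁻¹] => z.coeff (i + j)) h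
  simp only [H24Filt.ExtRees.coeff_C_mul_T, LaurentPolynomial.T_apply, if_pos rfl, if_neg (Ne.symm hne)] at h1
  exact (c * d).ne_zero (by simpa using h1)

/-- A unit monomial in the extended Rees algebra has non-positive degree. -/
theorem nonpos_of_mem [IsLocalRing A] (𝓕 : IdealFiltration A) (hq : 𝓕.F 1 ≤ IsLocalRing.maximalIdeal A)
    {c : Aˣ} {i : ℤ} {x : 𝓕.extRees} (hx : (x : A[T;T⁻¹]) = LaurentPolynomial.C (c : A) * T i) : i ≤ 0 := by
  by_contra hi
  have h := x.2 i
  rw [hx, H24Filt.ExtRees.coeff_C_mul_T, if_pos rfl] at h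
  exact hq (𝓕.antitone (show 1 ≤ i.toNat by omega) h) c.isUnit

theorem irreducible_u [IsDomain A] [IsLocalRing A] (𝓕 : IdealFiltration A)
    (hq : 𝓕.F 1 ≤ IsLocalRing.maximalIdeal A) : Irreducible 𝓕.u := by
  have hdeg0 : ∀ (x : 𝓕.extRees) (c : Aˣ), (x : A[T;T⁻¹]) = LaurentPolynomial.C (c : A) * T 0 → IsUnit x := by
    intro x c hx
    have : x = algebraMap A 𝓕.extRees (c : A) := Subtype.ext (by
      rw [hx, LaurentPolynomial.T_zero, mul_one]; rfl)
    rw [this]
    exact c.isUnit.map _
  refine ⟨fun hu => ?_, fun x y h => ?_⟩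
  · obtain ⟨v, hv⟩ := hu.exists_right_inv
    obtain ⟨c, d, i, j, hc, hd, hij⟩ := monomial_of_mul (n := 0) (congrArg Subtype.val hv)
    have h1 := nonpos_of_mem 𝓕 hq hd
    have h2 := congrArg (fun z : A[T;T⁻¹] => z.coeff (-1)) hc
    simp only [H24Filt.ExtRees.coeff_C_mul_T] at h2
    rw [show ((𝓕.u : 𝓕.extRees) : A[T;T⁻¹]) = T (-1) from rfl, LaurentPolynomial.T_apply, if_pos rfl] at h2
    split_ifs at h2 with hi
    · omega
    · exact one_ne_zero h2
  · obtain ⟨c, d, i, j, hc, hd, hij⟩ := monomial_of_mul (n := -1) (congrArg Subtype.val h).symm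
    have h1 := nonpos_of_mem 𝓕 hq hc
    have h2 := nonpos_of_mem 𝓕 hq hd
    rcases eq_or_ne i 0 with rfl | hi
    · exact Or.inl (hdeg0 x c hc)
    · obtain rfl : j = 0 := by omega
      exact Or.inr (hdeg0 y d hd)

/-- Unique factorisation descends from the Laurent polynomial ring. -/
theorem ufd_descend [IsDomain A] [IsNoetherianRing A] (h : UniqueFactorizationMonoid A[T;T⁻¹]) :
    UniqueFactorizationMonoid A := by
  haveI := h
  have hC : ∀ a : A, IsUnit (LaurentPolynomial.C a : A[T;T⁻¹]) → IsUnit a := by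
    intro a ha
    obtain ⟨c, n, hc⟩ := H19Grp.PuncturedLineLaw.exists_eq_C_mul_T ha
    have h1 := congrArg (fun z : A[T;T⁻¹] => z.coeff 0) hc
    simp only [H24Filt.ExtRees.coeff_C_mul_T, LaurentPolynomial.C_apply, ↓reduceIte] at h1
    split_ifs at h1
    · exact h1 ▸ c.isUnit
    · subst h1
      rw [map_zero] at ha
      exact absurd ha not_isUnit_zero
  have hdvd : ∀ a b : A, (LaurentPolynomial.C a : A[T;T⁻¹]) ∣ LaurentPolynomial.C b → a ∣ b := by
    rintro a b ⟨z, hz⟩
    have h1 := congrArg (fun w : A[T;T⁻¹] => w.coeff 0) hz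
    simp only [LaurentPolynomial.C_apply, if_pos rfl] at h1
    rw [← LaurentPolynomial.smul_eq_C_mul, AddMonoidAlgebra.coeff_smul, Finsupp.smul_apply, smul_eq_mul] at h1
    exact ⟨_, h1⟩
  refine { irreducible_iff_prime := fun {a} => ⟨fun ha => ?_, Prime.irreducible⟩ }
  have hirr : Irreducible (LaurentPolynomial.C a : A[T;T⁻¹]) := by
    refine ⟨fun hu => ha.not_isUnit (hC a hu), fun x y hxy => ?_⟩
    obtain ⟨n, p, hp⟩ := LaurentPolynomial.exists_T_pow x
    obtain ⟨m, q, hq⟩ := LaurentPolynomial.exists_T_pow y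
    have hpq : Polynomial.C a * Polynomial.X ^ (n + m) = p * q := by
      apply Polynomial.toLaurent_injective
      rw [map_mul, map_mul, Polynomial.toLaurent_C, Polynomial.toLaurent_X_pow, hp, hq, Nat.cast_add,
        LaurentPolynomial.T_add, mul_mul_mul_comm, ← hxy]
    have hCp : Prime (Polynomial.X : A[X]) := Polynomial.prime_X
    obtain ⟨p', q', hi, hj⟩ : ∃ p' q' : A[X], (∃ i, p = Polynomial.X ^ i * p' ∧ ¬ Polynomial.X ∣ p') ∧
        (∃ j, q = Polynomial.X ^ j * q' ∧ ¬ Polynomial.X ∣ q') := by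
      have hne : p * q ≠ 0 := hpq ▸ mul_ne_zero (by simpa using ha.ne_zero) (pow_ne_zero _ Polynomial.X_ne_zero)
      obtain ⟨i, p', h1, h2⟩ := WfDvdMonoid.max_power_factor (left_ne_zero_of_mul hne) hCp.irreducible
      obtain ⟨j, q', h3, h4⟩ := WfDvdMonoid.max_power_factor (right_ne_zero_of_mul hne) hCp.irreducible
      exact ⟨p', q', ⟨i, h2, h1⟩, j, h4, h3⟩
    obtain ⟨i, rfl, hp'⟩ := hi
    obtain ⟨j, rfl, hq'⟩ := hj
    have hCa : ¬ (Polynomial.X : A[X]) ∣ Polynomial.C a := by
      rw [Polynomial.X_dvd_iff, Polynomial.coeff_C_zero]; exact ha.ne_zero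
    have hnm : n + m = i + j := by
      have h1 := congrArg (emultiplicity (Polynomial.X : A[X])) hpq
      rw [emultiplicity_mul hCp, emultiplicity_mul hCp, emultiplicity_mul hCp, emultiplicity_mul hCp,
        emultiplicity_eq_zero.mpr hCa, emultiplicity_eq_zero.mpr hp', emultiplicity_eq_zero.mpr hq',
        emultiplicity_pow_self_of_prime hCp, emultiplicity_pow_self_of_prime hCp,
        emultiplicity_pow_self_of_prime hCp, zero_add, add_zero, add_zero] at h1
      exact_mod_cast h1
    have h0 : Polynomial.C a = p' * q' := by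
      refine mul_right_cancel₀ (pow_ne_zero (n + m) Polynomial.X_ne_zero) (hpq.trans ?_)
      rw [hnm, pow_add]; ring
    have hdeg : p'.natDegree = 0 ∧ q'.natDegree = 0 := by
      have hne : p' * q' ≠ 0 := h0 ▸ by simpa using ha.ne_zero
      have h1 := Polynomial.natDegree_mul (left_ne_zero_of_mul hne) (right_ne_zero_of_mul hne)
      rw [← h0, Polynomial.natDegree_C] at h1
      omega
    obtain ⟨b, rfl⟩ := Polynomial.natDegree_eq_zero.mp hdeg.1
    obtain ⟨c, rfl⟩ := Polynomial.natDegree_eq_zero.mp hdeg.2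
    rw [← map_mul, Polynomial.C_inj] at h0
    rcases ha.isUnit_or_isUnit h0 with hb | hc
    · left
      have hu : IsUnit (x * T (n : ℤ)) := by
        rw [← hp, map_mul, Polynomial.toLaurent_X_pow, Polynomial.toLaurent_C]
        exact (LaurentPolynomial.isUnit_T _).mul (hb.map _)
      exact isUnit_of_mul_isUnit_left hu
    · right
      have hu : IsUnit (y * T (m : ℤ)) := by
        rw [← hq, map_mul, Polynomial.toLaurent_X_pow, Polynomial.toLaurent_C]
        exact (LaurentPolynomial.isUnit_T _).mul (hc.map _)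
      exact isUnit_of_mul_isUnit_left hu
  have hp := UniqueFactorizationMonoid.irreducible_iff_prime.mp hirr
  refine ⟨ha.ne_zero, ha.not_isUnit, fun b c hbc => ?_⟩
  have h1 := map_dvd (LaurentPolynomial.C : A →+* A[T;T⁻¹]) hbc
  rw [map_mul] at h1
  exact (hp.dvd_or_dvd h1).imp (hdvd a b) (hdvd a c)

end Groth.Agent.S14653Aux

namespace Groth.Agent.S14653

/-- Let A be a Noetherian local ring that is a quotient of a Gorenstein ring, and F a filtration of
ideals on A (F^0 = A ⊇ F^1 ⊇ ⋯, F^i F^j ⊆ F^{i+j}) with every F^n nonzero and ⋂ F^n = 0, whose Rees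
algebra ⊕_{n ≥ 0} F^n X^n is finitely generated over A and with F^1 of height at least 2
(equivalently, every F^n with n ≥ 1 has height at least 2, all F^n having the same radical); assume
moreover that the extended Rees algebra R' = ⊕_{n ∈ ℤ} F^n T^n ⊆ A[T, T⁻¹] is an integrally closed
domain. Then R' is a unique factorization domain exactly when A is one and the associated graded
ring G = ⊕ F^n/F^{n+1}, realised as R'/uR' with u = T⁻¹, is an integral domain. (The published
statement is made under the further standing assumption that no nonzero element of the Rees algebra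
⊕_{n ≥ 0} F^n T^n is annihilated by a power of the ideal generated by its homogeneous elements of
positive degree; this row does not assume it, and the assertion holds without it.) -/
theorem result (A : Type u) [CommRing A] [IsNoetherianRing A] [IsLocalRing A]
    (S : Type u) [CommRing S] [LocCoh.IsGorensteinRing S] (π : S →+* A) (hπ : Function.Surjective π)
    (𝓕 : FiltBl.IdealFiltration A) (hne : ∀ n, 𝓕.F n ≠ ⊥) (hsep : ⨅ n, 𝓕.F n = ⊥)
    (hfg : Algebra.FiniteType A 𝓕.rees) (hht : 2 ≤ (𝓕.F 1).height) [IsDomain A]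
    [IsDomain 𝓕.extRees] (hnor : IsIntegrallyClosed 𝓕.extRees) :
    UniqueFactorizationMonoid 𝓕.extRees ↔ (UniqueFactorizationMonoid A ∧ IsDomain 𝓕.Gr) := by
  haveI := H24Filt.ExtRees.isNoetherianRing_extRees 𝓕 hfg
  haveI := H24Filt.ExtRees.isLocalization_u 𝓕
  have hq1 : 𝓕.F 1 ≤ IsLocalRing.maximalIdeal A :=
    IsLocalRing.le_maximalIdeal (H24Filt.ExtRees.F_one_ne_top 𝓕 hsep)
  have hu0 : 𝓕.u ≠ 0 := nonZeroDivisors.ne_zero (H24Filt.ExtRees.u_mem_nonZeroDivisors 𝓕)
  have key : IsDomain 𝓕.Gr ↔ Prime 𝓕.u :=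
    (Ideal.Quotient.isDomain_iff_prime _).trans (Ideal.span_singleton_prime hu0)
  constructor
  · intro h
    refine ⟨S14653Aux.ufd_descend (UniqueFactorizationMonoid.of_isLocalization (M := 𝓕.extRees) (Submonoid.powers 𝓕.u) A[T;T⁻¹]), ?_⟩
    rw [key]
    exact UniqueFactorizationMonoid.irreducible_iff_prime.mp (S14653Aux.irreducible_u 𝓕 hq1)
  · rintro ⟨hA, hG⟩
    haveI := hA
    haveI : UniqueFactorizationMonoid A[T;T⁻¹] :=
      UniqueFactorizationMonoid.of_isLocalization (M := A[X]) (Submonoid.powers (Polynomial.X : A[X])) A[T;T⁻¹]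
    refine S11278.ufd_of_ufd_away (key.mp hG) ?_
    exact (IsLocalization.algEquiv (Submonoid.powers 𝓕.u) A[T;T⁻¹]
      (Localization.Away 𝓕.u)).toMulEquiv.uniqueFactorizationMonoid inferInstance

end Groth.Agent.S14653
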