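import Groth.Statements.S14654
import Mathlib.AlgebraicGeometry.ProjectiveSpectrum.Scheme
import Mathlib.RingTheory.IntegralClosure.IntegrallyClosed

set_option autoImplicit false
set_option linter.style.haveILetI false
universe u
open FiltBl

namespace Groth.Agent.S14654

theorem exists_fracLift {R L : Type u} [CommRing R] [IsDomain R] [Field L] (f : R →+* L)
    (hf : Function.Injective f) : ∃ Φ : FractionRing R →+* L, Φ.comp (algebraMap R (FractionRing R)) = f :=
  ⟨IsFractionRing.lift hf, RingHom.ext fun r => IsFractionRing.lift_algebraMap hf r⟩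

theorem isIntegrallyClosed_of_forall {R S : Type u} [CommRing R] [IsDomain R] [CommRing S] [IsDomain S]
    (g : R →+* S) (hg : Function.Injective g) (hS : IsIntegrallyClosed S)
    (h : ∀ (a b : R) (y : S), b ≠ 0 → g a = g b * y → ∃ z, a = b * z) : IsIntegrallyClosed R := by
  refine (isIntegrallyClosed_iff (FractionRing R)).mpr fun {X} hX => ?_
  obtain ⟨a, b, hb, rfl⟩ := IsFractionRing.div_surjective R X
  have hb' : b ≠ 0 := nonZeroDivisors.ne_zero hb
  let ι : R →+* FractionRing S := (algebraMap S (FractionRing S)).comp g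
  have hι : Function.Injective ι := fun a b h => hg (IsFractionRing.injective S (FractionRing S) h)
  obtain ⟨Φ, hΦ⟩ := exists_fracLift ι hι
  obtain ⟨P, hP, hPX⟩ := hX
  have hint : IsIntegral S (ι a / ι b) := by
    refine ⟨P.map g, hP.map _, ?_⟩
    have h1 := congrArg Φ hPX
    rw [Polynomial.hom_eval₂, map_zero, map_div₀, ← RingHom.comp_apply Φ, ← RingHom.comp_apply Φ, hΦ] at h1
    rw [Polynomial.eval₂_map]
    exact h1
  obtain ⟨y, hy⟩ := (isIntegrallyClosed_iff (FractionRing S)).mp hS hint
  obtain ⟨z, hz⟩ := h a b y hb' (by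
    apply IsFractionRing.injective S (FractionRing S)
    rw [map_mul, hy]
    show ι a = ι b * (ι a / ι b)
    rw [mul_div_cancel₀ _ ((map_ne_zero_iff _ hι).mpr hb')])
  refine ⟨z, ?_⟩
  rw [eq_div_iff ((map_ne_zero_iff _ (IsFractionRing.injective R (FractionRing R))).mpr hb'), ← map_mul, hz, mul_comm]

open AlgebraicGeometry in
/-- Let A be a Noetherian ℕ-graded commutative ring which is normal, i.e. every localization of A at a
prime ideal is an integrally closed domain. Then the scheme Proj A is normal: every local ring of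
Proj A is an integrally closed domain. -/
theorem result (A : Type u) [CommRing A] [IsNoetherianRing A]
    (𝒜 : ℕ → AddSubgroup A) [GradedRing 𝒜]
    (hA : ∀ (p : Ideal A) [p.IsPrime], IsDomain (Localization.AtPrime p) ∧
      IsIntegrallyClosed (Localization.AtPrime p))
    (x : Proj 𝒜) :
    IsDomain ((Proj 𝒜).presheaf.stalk x) ∧ IsIntegrallyClosed ((Proj 𝒜).presheaf.stalk x) := by
  classical
  let p : Ideal A := x.asHomogeneousIdeal.toIdeal
  haveI : p.IsPrime := x.isPrime
  obtain ⟨hdom, hic⟩ := hA p
  let R0 := HomogeneousLocalization.AtPrime 𝒜 p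
  let Ap := Localization.AtPrime p
  have hinj : Function.Injective (algebraMap R0 Ap) := HomogeneousLocalization.val_injective _
  haveI : IsDomain R0 := hinj.isDomain (algebraMap R0 Ap)
  haveI : IsIntegrallyClosed R0 := by
    refine isIntegrallyClosed_of_forall (algebraMap R0 Ap) hinj hic fun a b y hb hay => ?_
    obtain ⟨⟨i, ⟨α, hα⟩, ⟨s, hs⟩, hsp⟩, rfl⟩ := HomogeneousLocalization.mk_surjective a
    obtain ⟨⟨j, ⟨β, hβ⟩, ⟨s', hs'⟩, hsp'⟩, rfl⟩ := HomogeneousLocalization.mk_surjective b
    obtain ⟨c, t, rfl⟩ := IsLocalization.exists_mk'_eq p.primeCompl y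
    have e1 : ∀ z : R0, algebraMap R0 Ap z = HomogeneousLocalization.val z := fun z => rfl
    rw [e1, e1, HomogeneousLocalization.val_mk, HomogeneousLocalization.val_mk, ← Localization.mk_eq_mk'] at hay
    rw [Localization.mk_mul, Localization.mk_eq_mk_iff, Localization.r_iff_exists] at hay
    obtain ⟨⟨u, hu⟩, hay⟩ := hay
    simp only [Submonoid.coe_mul] at hay
    have hα' : α * s' ∈ 𝒜 (i + j) := SetLike.mul_mem_graded hα hs'
    have hβ' : β * s ∈ 𝒜 (i + j) := by rw [add_comm]; exact SetLike.mul_mem_graded hβ hs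
    have heq : (α * s') * (u * (t : A)) = (β * s) * (u * c) := by linear_combination hay
    obtain ⟨e, he⟩ : ∃ e, (DirectSum.decompose 𝒜 (u * (t : A)) e : A) ∉ p := by
      by_contra hcon
      push Not at hcon
      refine (‹p.IsPrime›.mul_notMem hu t.2) ?_
      rw [← DirectSum.sum_support_decompose 𝒜 (u * (t : A))]
      exact sum_mem fun k _ => hcon k
    have heq' : (α * s') * (DirectSum.decompose 𝒜 (u * (t : A)) e : A) = (β * s) * (DirectSum.decompose 𝒜 (u * c) e : A) := by
      rw [← DirectSum.coe_decompose_mul_add_of_left_mem 𝒜 hα', ← DirectSum.coe_decompose_mul_add_of_left_mem 𝒜 hβ', heq]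
    let z : R0 := HomogeneousLocalization.mk ⟨e, DirectSum.decompose 𝒜 (u * c) e, DirectSum.decompose 𝒜 (u * (t : A)) e, he⟩
    refine ⟨z, ?_⟩
    refine HomogeneousLocalization.val_injective _ ?_
    rw [HomogeneousLocalization.val_mul, HomogeneousLocalization.val_mk, HomogeneousLocalization.val_mk,
      HomogeneousLocalization.val_mk, Localization.mk_mul, Localization.mk_eq_mk_iff, Localization.r_iff_exists]
    refine ⟨1, ?_⟩
    simp only [Submonoid.coe_mul, OneMemClass.coe_one, one_mul]
    linear_combination heq'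
  let e := (Proj.stalkIso' 𝒜 x)
  exact ⟨e.injective.isDomain e.toRingHom, IsIntegrallyClosed.of_equiv e.symm⟩

end Groth.Agent.S14654
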