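import Groth.Statements.S14655
import Groth.Agent.H24Filt.ProjStalk
import Groth.Agent.H1CAlg.Serre

set_option autoImplicit false
set_option linter.style.haveILetI false
universe u
open FiltBl
open Groth.Agent

namespace Groth.Agent.S14655

open AlgebraicGeometry in
/-- Let A be a Noetherian ℕ-graded commutative ring which is a Cohen–Macaulay ring. Then the scheme Proj
A is Cohen–Macaulay: every local ring of Proj A is a Cohen–Macaulay local ring. -/
theorem result (A : Type u) [CommRing A]
    (𝒜 : ℕ → AddSubgroup A) [GradedRing 𝒜] [LocCoh.IsCohenMacaulayRing A] (x : Proj 𝒜) :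
    LocCoh.IsCohenMacaulayLocalRing ((Proj 𝒜).presheaf.stalk x) := by
  classical
  let p : Ideal A := x.asHomogeneousIdeal.toIdeal
  haveI : p.IsPrime := x.isPrime
  obtain ⟨δ, s, hδ, hs, hsp⟩ := H24Filt.ProjStalk.exists_posHom 𝒜 x
  haveI := LocCoh.IsCohenMacaulayRing.isCohenMacaulayLocalRing_localization (R := A) p
  haveI := H24Filt.PureCM.isCM_of_pure (H24Filt.ProjStalk.idealPure 𝒜 p)
    (H24Filt.ProjStalk.maximal_le_radical 𝒜 hs hδ hsp x.asHomogeneousIdeal.isHomogeneous)
  exact H24Filt.PureCM.isCM_of_ringEquiv (Proj.stalkIso' 𝒜 x).symm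

end Groth.Agent.S14655
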