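import Groth.Statements.S14656
import Groth.Agent.H24Filt.ProjStalk
import Groth.Agent.H1CAlg.Serre

set_option autoImplicit false
set_option linter.style.haveILetI false
universe u
open FiltBl
open Groth.Agent

namespace Groth.Agent.S14656

open AlgebraicGeometry in
/-- Let A be a Noetherian ℕ-graded commutative ring satisfying Serre's condition (S_1) (every
localization A_p has depth at least min(1, dim A_p)). Then every local ring of the scheme Proj A
satisfies (S_1). -/
theorem result (A : Type u) [CommRing A] [IsNoetherianRing A]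
    (𝒜 : ℕ → AddSubgroup A) [GradedRing 𝒜] (hA : LocCoh.HasSk 1 A A) (x : Proj 𝒜) :
    LocCoh.HasSk 1 ((Proj 𝒜).presheaf.stalk x) ((Proj 𝒜).presheaf.stalk x) := by
  classical
  let p : Ideal A := x.asHomogeneousIdeal.toIdeal
  haveI : p.IsPrime := x.isPrime
  obtain ⟨δ, s, hδ, hs, hsp⟩ := H24Filt.ProjStalk.exists_posHom 𝒜 x
  have hf := H24Filt.ProjStalk.idealPure 𝒜 p
  haveI := hf.isNoetherianRing
  have hR0 := H24Filt.ProjStalk.associated_minimal_of_pure hf
    (H24Filt.PureCM.localization_associated_minimal p (H1CAlg.hasSk_one_self_iff.mp hA))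
    (fun Q Q' hQ hQ' h => haveI : Q.IsPrime := hQ.1.1; H24Filt.ProjStalk.comap_le_of_minimal 𝒜 hs hδ hsp hQ' h)
  exact H24Filt.PureCM.hasSk_one_of_ringEquiv (Proj.stalkIso' 𝒜 x).symm hR0

end Groth.Agent.S14656
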