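import Groth.Statements.S14657
import Groth.Agent.H24Filt.GradedNormal
import Groth.Agent.H02CA.FieldJapanese

set_option autoImplicit false
set_option linter.style.haveILetI false
universe u
open FiltBl

namespace Groth.Agent.S14657

/-- (i) ⇔ (ii): let k be a field and G a Noetherian ℕ-graded k-algebra which is an integral domain of
Krull dimension at least 2 with G_0 = k (the degree-0 part is the image of k); let L be the fraction
field of G and Ḡ the integral closure of G in L. Then the open subscheme Spec G − V(G_+) is normal,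
i.e. G_p is integrally closed for every prime p not containing the irrelevant ideal G_+, if and only
if the G-module Ḡ/G has finite length. -/
theorem result (k : Type u) [Field k]
    (G : Type u) [CommRing G] [IsDomain G] [Algebra k G] [IsNoetherianRing G]
    (𝒢 : ℕ → Submodule k G) [GradedAlgebra 𝒢]
    (h0 : ∀ x ∈ 𝒢 0, x ∈ Set.range (algebraMap k G)) (hdim : 2 ≤ ringKrullDim G)
    (L : Type u) [Field L] [Algebra G L] [IsFractionRing G L] :
    (∀ (p : Ideal G) [p.IsPrime], ¬ (HomogeneousIdeal.irrelevant 𝒢).toIdeal ≤ p →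
        IsIntegrallyClosed (Localization.AtPrime p)) ↔
      IsFiniteLength G (↥(integralClosure G L) ⧸
        LinearMap.range (Algebra.linearMap G ↥(integralClosure G L))) := by
  classical
  haveI : Algebra.FiniteType k G := by
    haveI := ((Groth.Agent.H11Proj.isNoetherianRing_iff 𝒢).mp inferInstance).2
    refine ⟨?_⟩
    obtain ⟨s, hs⟩ := (inferInstance : Algebra.FiniteType (𝒢 0) G).out
    refine ⟨s, eq_top_iff.mpr fun x hxt => ?_⟩; clear hxt
    have hx : x ∈ Algebra.adjoin (𝒢 0) (s : Set G) := hs ▸ Algebra.mem_top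
    induction hx using Algebra.adjoin_induction with
    | mem y hy => exact Algebra.subset_adjoin hy
    | algebraMap r =>
      obtain ⟨c, hc⟩ := h0 r r.2
      exact (show algebraMap (𝒢 0) G r = algebraMap k G c from hc.symm) ▸ Subalgebra.algebraMap_mem _ c
    | add a b _ _ ha hb => exact add_mem ha hb
    | mul a b _ _ ha hb => exact mul_mem ha hb
  haveI : Module.Finite G ↥(integralClosure G L) :=
    Groth.Agent.H02CA.finite_integralClosure_of_finiteType_field k G L L
  have hm : (HomogeneousIdeal.irrelevant 𝒢).toIdeal.IsMaximal := by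
    refine Ideal.isMaximal_iff.mpr ⟨fun h => one_ne_zero (α := G) ?_, fun J x hJ hx hxJ => ?_⟩
    · have h1 : GradedRing.proj 𝒢 0 (1 : G) = 0 := h
      rwa [GradedRing.proj_apply, DirectSum.decompose_of_mem_same 𝒢 SetLike.GradedOne.one_mem] at h1
    · obtain ⟨c, hc⟩ := h0 (DirectSum.decompose 𝒢 x 0) (SetLike.coe_mem _)
      have hc0 : c ≠ 0 := fun h' => hx (show GradedRing.proj 𝒢 0 x = 0 by rw [GradedRing.proj_apply, ← hc, h', map_zero])
      have hmem : x - algebraMap k G c ∈ (HomogeneousIdeal.irrelevant 𝒢).toIdeal := by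
        show GradedRing.proj 𝒢 0 (x - algebraMap k G c) = 0
        rw [map_sub, GradedRing.proj_apply, GradedRing.proj_apply, hc,
          DirectSum.decompose_of_mem_same 𝒢 (SetLike.coe_mem _), sub_self]
      have hcJ : algebraMap k G c ∈ J := by
        have := J.sub_mem hxJ (hJ hmem)
        rwa [sub_sub_cancel] at this
      have := J.mul_mem_left (algebraMap k G c⁻¹) hcJ
      rwa [← map_mul, inv_mul_cancel₀ hc0, map_one] at this
  exact ⟨fun h => Groth.Agent.H24Filt.isFiniteLength_of_forall_isIntegrallyClosed 𝒢 L hm h,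
    fun hfl p _ hp => Groth.Agent.H24Filt.forall_isIntegrallyClosed_of_isFiniteLength 𝒢 L hfl p hp⟩

end Groth.Agent.S14657
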