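import Groth.Statements.S14658
import Groth.Agent.H24Filt.TwistedUnit

set_option autoImplicit false
set_option linter.style.haveILetI false
universe u
open FiltBl

open Groth.Agent
namespace Groth.Agent.S14658

/-- Let R be a Noetherian ℤ-graded commutative ring which is regular (every localization at a prime is a
regular local ring) and whose degree-0 subring R_0 is a local ring with maximal ideal m. Let t ∈ R_N
be a homogeneous unit of R of positive degree N such that R_i · R_j ⊆ m · t for all positive i, j
with i + j = N (every product a b with a ∈ R_i, b ∈ R_j is c t for some c ∈ m). Then the ring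
R[U]/(U^N − t), U an indeterminate, is again regular: all its localizations at prime ideals are
regular local rings. -/
theorem result (R : Type u) [CommRing R]
    [IsNoetherianRing R] (𝒜 : ℤ → AddSubgroup R) [GradedRing 𝒜]
    (hreg : ∀ (p : Ideal R) [p.IsPrime], IsRegularLocalRing (Localization.AtPrime p))
    [IsLocalRing (GrLC.deg0 𝒜)] (N : ℕ) (hN : 0 < N) (t : R) (ht : t ∈ 𝒜 (N : ℤ))
    (htu : IsUnit t)
    (hm : ∀ (i j : ℤ), 0 < i → 0 < j → i + j = (N : ℤ) → ∀ a ∈ 𝒜 i, ∀ b ∈ 𝒜 j,
      ∃ c : GrLC.deg0 𝒜, c ∈ IsLocalRing.maximalIdeal (GrLC.deg0 𝒜) ∧ a * b = (c : R) * t)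
    (q : Ideal (AdjoinRoot (Polynomial.X ^ N - Polynomial.C t))) [q.IsPrime] :
    IsRegularLocalRing (Localization.AtPrime q) := by
  exact H24Filt.TwistedUnit.isRegularLocalRing_adjoinRoot 𝒜 ht htu hN hm hreg q

end Groth.Agent.S14658
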