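import Groth.Statements.S14659
import Groth.Agent.H24Filt.TwistedUnit

set_option autoImplicit false
set_option linter.style.haveILetI false
universe u
open FiltBl

open Groth.Agent
namespace Groth.Agent.S14659

/-- Let R be a Noetherian ℤ-graded commutative ring which is regular (every localization at a prime is a
regular local ring), whose degree-0 subring R_0 is a local ring, with R_1 ≠ 0 and with a homogeneous
unit in some positive degree; let N be the least positive degree in which R has a unit and t ∈ R_N a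
unit (so that R_N = t · R_0). Then C = R/(t − 1)R is a regular local ring. -/
theorem result (R : Type u) [CommRing R]
    [IsNoetherianRing R] (𝒜 : ℤ → AddSubgroup R) [GradedRing 𝒜]
    (hreg : ∀ (p : Ideal R) [p.IsPrime], IsRegularLocalRing (Localization.AtPrime p))
    [IsLocalRing (GrLC.deg0 𝒜)] (h1 : ∃ x ∈ 𝒜 1, x ≠ 0) (N : ℕ) (hN : 0 < N) (t : R)
    (ht : t ∈ 𝒜 (N : ℤ)) (htu : IsUnit t)
    (hmin : ∀ (n : ℤ), 0 < n → n < (N : ℤ) → ∀ s ∈ 𝒜 n, ¬ IsUnit s) :
    IsRegularLocalRing (R ⧸ Ideal.span {t - 1}) := by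
  refine H24Filt.TwistedUnit.isRegularLocalRing_CC 𝒜 ht htu hN ?_ hreg
  intro i j hi hj hij a ha b hb
  have hab : a * b ∈ 𝒜 (N : ℤ) := hij ▸ SetLike.GradedMul.mul_mem ha hb
  have hinv := H24Filt.TwistedUnit.unit_zpow_mem 𝒜 ht htu (-1 : ℤ)
  have hc : a * b * ((htu.unit ^ (-1 : ℤ) : Rˣ) : R) ∈ 𝒜 0 := by
    have := SetLike.GradedMul.mul_mem hab hinv
    rwa [show (N : ℤ) + -1 * (N : ℤ) = 0 by ring] at this
  refine ⟨⟨_, hc⟩, fun hu => ?_, ?_⟩
  · have hu' : IsUnit (a * b * ((htu.unit ^ (-1 : ℤ) : Rˣ) : R)) := hu.map (GrLC.deg0 𝒜).subtype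
    exact hmin i hi (by omega) a ha (isUnit_of_mul_isUnit_left (isUnit_of_mul_isUnit_left hu'))
  · change a * b = a * b * ((htu.unit ^ (-1 : ℤ) : Rˣ) : R) * t
    rw [mul_assoc, zpow_neg_one, IsUnit.val_inv_mul, mul_one]

end Groth.Agent.S14659
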