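import Groth.Statements.S14661
import Groth.Agent.H24Filt.GradedNormal
import Groth.Agent.H02CA.FieldJapanese
import Groth.Agent.S7038
import Groth.Agent.H8Props.LocCohNormal.Basic

set_option autoImplicit false
universe u
open FiltBl

namespace Groth.Agent.S14661

/-- Let k be a field and G a Noetherian ℕ-graded k-algebra which is an integral domain of Krull
dimension at least 2 with G_0 = k (the degree-0 part is the image of k); let L be the fraction field
of G and Ḡ the integral closure of G in L. If the G-module Ḡ/G has finite length, then Ḡ/G is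
isomorphic, as a G-module, to the local cohomology module H^1_{G_+}(G) with support in the
irrelevant ideal G_+ (existence of a G-linear isomorphism only; the comparison map itself is not
named here). -/
theorem result (k : Type u) [Field k]
    (G : Type u) [CommRing G] [IsDomain G] [Algebra k G] [IsNoetherianRing G]
    (𝒢 : ℕ → Submodule k G) [GradedAlgebra 𝒢]
    (h0 : ∀ x ∈ 𝒢 0, x ∈ Set.range (algebraMap k G)) (hdim : 2 ≤ ringKrullDim G)
    (L : Type u) [Field L] [Algebra G L] [IsFractionRing G L]
    (hfin : IsFiniteLength G (↥(integralClosure G L) ⧸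
      LinearMap.range (Algebra.linearMap G ↥(integralClosure G L)))) :
    Nonempty ((↥(integralClosure G L) ⧸
        LinearMap.range (Algebra.linearMap G ↥(integralClosure G L))) ≃ₗ[G]
      LocCoh.H (HomogeneousIdeal.irrelevant 𝒢).toIdeal 1 G) := by
  classical
  haveI : Algebra.FiniteType k G := by
    haveI := ((Groth.Agent.H11Proj.isNoetherianRing_iff 𝒢).mp inferInstance).2
    refine ⟨?_⟩
    obtain ⟨s, hs⟩ := (inferInstance : Algebra.FiniteType (𝒢 0) G).out
    refine ⟨s, eq_top_iff.mpr fun x hxt => ?_⟩; clear hxt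
    have hx : x ∈ Algebra.adjoin (𝒢 0) (s : Set G) := hs ▸ Algebra.mem_top
    induction hx using Algebra.adjoin_induction with
    | mem y hy => exact Algebra.subset_adjoin hy
    | algebraMap r =>
      obtain ⟨c, hc⟩ := h0 r r.2
      exact (show algebraMap (𝒢 0) G r = algebraMap k G c from hc.symm) ▸ Subalgebra.algebraMap_mem _ c
    | add a b _ _ ha hb => exact add_mem ha hb
    | mul a b _ _ ha hb => exact mul_mem ha hb
  haveI : Module.Finite G ↥(integralClosure G L) :=
    Groth.Agent.H02CA.finite_integralClosure_of_finiteType_field k G L L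
  have hm : (HomogeneousIdeal.irrelevant 𝒢).toIdeal.IsMaximal := by
    refine Ideal.isMaximal_iff.mpr ⟨fun h => one_ne_zero (α := G) ?_, fun J x hJ hx hxJ => ?_⟩
    · have h1 : GradedRing.proj 𝒢 0 (1 : G) = 0 := h
      rwa [GradedRing.proj_apply, DirectSum.decompose_of_mem_same 𝒢 SetLike.GradedOne.one_mem] at h1
    · obtain ⟨c, hc⟩ := h0 (DirectSum.decompose 𝒢 x 0) (SetLike.coe_mem _)
      have hc0 : c ≠ 0 := fun h' => hx (show GradedRing.proj 𝒢 0 x = 0 by rw [GradedRing.proj_apply, ← hc, h', map_zero])
      have hmem : x - algebraMap k G c ∈ (HomogeneousIdeal.irrelevant 𝒢).toIdeal := by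
        show GradedRing.proj 𝒢 0 (x - algebraMap k G c) = 0
        rw [map_sub, GradedRing.proj_apply, GradedRing.proj_apply, hc,
          DirectSum.decompose_of_mem_same 𝒢 (SetLike.coe_mem _), sub_self]
      have hcJ : algebraMap k G c ∈ J := by
        have := J.sub_mem hxJ (hJ hmem)
        rwa [sub_sub_cancel] at this
      have := J.mul_mem_left (algebraMap k G c⁻¹) hcJ
      rwa [← map_mul, inv_mul_cancel₀ hc0, map_one] at this
  set m : Ideal G := (HomogeneousIdeal.irrelevant 𝒢).toIdeal with hmdef
  haveI := hm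
  let B := ↥(integralClosure G L)
  haveI : IsIntegrallyClosed B := integralClosure.isIntegrallyClosedOfFiniteExtension L
  haveI : IsNoetherianRing B := IsNoetherianRing.of_finite G B
  have hG : Function.Injective (algebraMap G B) := fun x y h => IsFractionRing.injective G L (congrArg Subtype.val h)
  letI : Algebra k L := ((algebraMap G L).comp (algebraMap k G)).toAlgebra
  haveI : IsScalarTower k G L := IsScalarTower.of_algebraMap_eq' rfl
  haveI : Algebra.FiniteType k B := Algebra.FiniteType.trans (S := G) inferInstance inferInstance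
  have hdimB : ringKrullDim B = ringKrullDim G := (Groth.Agent.H05EGA4.dim_int G B).2 hG
  have hm0 : m ≠ ⊥ := fun h => by
    haveI hbm : (⊥ : Ideal G).IsMaximal := h ▸ hm
    have hF : IsField G := MulEquiv.isField ((Ideal.Quotient.maximal_ideal_iff_isField_quotient ⊥).1 hbm)
      (RingEquiv.quotientBot G).symm.toMulEquiv
    have h0 := ringKrullDim_eq_zero_of_isField hF
    rw [h0] at hdim
    exact absurd hdim (by decide)
  have hQ : ∀ Q : Ideal B, Q.IsPrime → m ≤ Q.comap (algebraMap G B) → ¬ Q.height ≤ 1 := by
    intro Q hQp hmQ hh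
    haveI := hQp
    have heq : Q.comap (algebraMap G B) = m := (hm.eq_of_le (Ideal.comap_ne_top _ hQp.ne_top) hmQ).symm
    haveI hmc : (Q.comap (algebraMap G B)).IsMaximal := heq.symm ▸ hm
    haveI : Q.IsMaximal := Ideal.isMaximal_of_isIntegral_of_isMaximal_comap Q hmc
    have hf := Groth.Agent.H8Props.FieldDim.height_add_dim_quotient k B Q
    rw [ringKrullDim_eq_zero_of_isField ((Ideal.Quotient.maximal_ideal_iff_isField_quotient Q).1 ‹_›),
      add_zero, hdimB] at hf
    have h2 : (2 : WithBot ℕ∞) ≤ ((1 : ℕ∞) : WithBot ℕ∞) := (hdim.trans hf.ge).trans (WithBot.coe_le_coe.2 hh)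
    exact absurd h2 (by decide)
  have hdepth := Groth.Agent.H8Props.LocCohNormal.two_le_idealDepth m hG hm0 hQ
  have hH : ∀ i < 2, Subsingleton (LocCoh.H m i B) :=
    (Groth.Agent.H4LC.le_idealDepth_iff_H m B).1 hdepth
  set g := (LinearMap.range (Algebra.linearMap G B)).mkQ
  have hg : Function.Surjective g := Submodule.mkQ_surjective _
  have hfg : Function.Exact (Algebra.linearMap G B) g := LinearMap.exact_map_mkQ_range _
  have hf : Function.Injective (Algebra.linearMap G B) := hG
  have hnorm := Groth.Agent.H24Filt.forall_isIntegrallyClosed_of_isFiniteLength 𝒢 L hfin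
  have htor : LocCoh.IsPowerTorsion m (B ⧸ LinearMap.range (Algebra.linearMap G B)) := by
    refine (Groth.Agent.S7038.result m _).2 m.fg_of_isNoetherianRing ?_
    intro p hp
    by_contra hpm
    haveI := hnorm p.asIdeal hpm
    obtain ⟨z, hz⟩ := Module.mem_support_iff'.1 hp
    obtain ⟨y, rfl⟩ := Submodule.Quotient.mk_surjective _ z
    have hp' : p.asIdeal.primeCompl ≤ nonZeroDivisors G := p.asIdeal.primeCompl_le_nonZeroDivisors
    letI : Algebra (Localization.AtPrime p.asIdeal) L :=
      (IsLocalization.map (T := nonZeroDivisors G) (Q := L) (RingHom.id G) hp').toAlgebra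
    haveI : IsScalarTower G (Localization.AtPrime p.asIdeal) L := IsScalarTower.of_algebraMap_eq fun x => by
      show _ = IsLocalization.map L (RingHom.id G) hp' _
      rw [IsLocalization.map_eq]; rfl
    haveI : IsFractionRing (Localization.AtPrime p.asIdeal) L :=
      IsFractionRing.isFractionRing_of_isDomain_of_isLocalization p.asIdeal.primeCompl (Localization.AtPrime p.asIdeal) L
    obtain ⟨w, hw⟩ := (isIntegrallyClosed_iff L).mp (inferInstance : IsIntegrallyClosed (Localization.AtPrime p.asIdeal))
      (IsIntegral.tower_top (A := Localization.AtPrime p.asIdeal) y.2)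
    obtain ⟨c, t, rfl⟩ := IsLocalization.exists_mk'_eq p.asIdeal.primeCompl w
    refine hz t t.2 ?_
    rw [← Submodule.Quotient.mk_smul, Submodule.Quotient.mk_eq_zero]
    refine ⟨c, Subtype.ext ?_⟩
    show algebraMap G L c = (t : G) • (y : L)
    rw [← hw, Algebra.smul_def, IsScalarTower.algebraMap_apply G (Localization.AtPrime p.asIdeal) L (t : G), ← map_mul,
      mul_comm, IsLocalization.mk'_spec, ← IsScalarTower.algebraMap_apply]
  have hbij : Function.Bijective (Groth.Agent.H4LC.δH m hf hg hfg 0) := by
    refine ⟨(injective_iff_map_eq_zero _).2 fun z hz => ?_,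
      Groth.Agent.H4LC.δH_surjective m hf hg hfg 0 (hH 1 (by norm_num))⟩
    obtain ⟨w, rfl⟩ := (Groth.Agent.H4LC.exactH₃ m hf hg hfg 0 z).1 hz
    rw [@Subsingleton.elim _ (hH 0 (by norm_num)) w 0, map_zero]
  exact ⟨(Groth.Agent.H4LC.zeroEquivOfTorsion m htor).symm.trans (LinearEquiv.ofBijective _ hbij)⟩

end Groth.Agent.S14661
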