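import Groth.Statements.S14663
import Groth.Agent.H27SymProd.Curve

set_option autoImplicit false
set_option backward.isDefEq.respectTransparency false
universe u
open CategoryTheory CategoryTheory.Limits AlgebraicGeometry
open SymProd

namespace Groth.Agent.S14663

/-- Let S be a locally Noetherian scheme and f : C ⟶ S a proper morphism, smooth of relative dimension
1, such that every finite set of points of C lying over a single point of S is contained in an
affine open of C; let n ≥ 0 and let (Y, q, g) be an n-th symmetric power of C over S (q : C ×_S ⋯
×_S C ⟶ Y a quotient of the n-fold fibre power by the symmetric group permuting the factors: affine,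
invariant, identifying sections of O_Y with invariant sections; q ≫ g = the structure map). Then the
quotient map q is finite locally free of degree n!: finite, flat, locally of finite presentation and
of constant rank n!. (The published statement is for a flat projective family whose geometric fibres
are connected regular curves; this row assumes properness, smoothness of relative dimension 1 and
the affine-open property, which is what the proof uses.) -/
theorem result {C S Y : Scheme.{u}} [IsLocallyNoetherian S]
    (f : C ⟶ S) [IsProper f] [SmoothOfRelativeDimension 1 f] (hAF : SymProd.IsAF f)
    (n : ℕ) (q : SymProd.fibPow f n ⟶ Y) (g : Y ⟶ S) (hq : SymProd.IsSymProd f n q g) :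
    Mor2.IsFinLocFreeOfDeg (Nat.factorial n) q := by
  obtain ⟨D, -, -, h, -⟩ := H27SymProd.exists_universal f hAF n q g hq
  exact h

end Groth.Agent.S14663
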