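import Groth.Statements.S14664
import Groth.Agent.H27SymProd.Curve

set_option autoImplicit false
set_option backward.isDefEq.respectTransparency false
universe u
open CategoryTheory CategoryTheory.Limits AlgebraicGeometry
open SymProd

namespace Groth.Agent.S14664

/-- Let S be a locally Noetherian scheme and f : C ⟶ S a proper morphism, smooth of relative dimension
1, such that every finite set of points of C lying over a single point of S is contained in an
affine open of C; let n ≥ 0 and let (Y, q, g) be an n-th symmetric power of C over S (q : C ×_S ⋯
×_S C ⟶ Y a quotient of the n-fold fibre power by the symmetric group permuting the factors: affine,
invariant, identifying sections of O_Y with invariant sections; q ≫ g = the structure map). Then Y,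
viewed over S through g, represents the functor of effective relative Cartier divisors of degree n,
i.e. the Hilbert functor of n points of C over S: there is a closed subscheme D of C ×_S Y which is
finite locally free of degree n over Y and such that for every S-scheme T every closed subscheme of
C ×_S T that is finite locally free of degree n over T is the base change of D along exactly one
S-morphism T ⟶ Y. (The published statement is for a flat projective family whose geometric fibres
are connected regular curves; this row assumes properness, smoothness of relative dimension 1 and
the affine-open property, which is what the proof uses. Existence of the universal divisor only; the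
published statement names it as the descent of the sum of the n tautological sections.) -/
theorem result {C S Y : Scheme.{u}} [IsLocallyNoetherian S]
    (f : C ⟶ S) [IsProper f] [SmoothOfRelativeDimension 1 f] (hAF : SymProd.IsAF f)
    (n : ℕ) (q : SymProd.fibPow f n ⟶ Y) (g : Y ⟶ S) (hq : SymProd.IsSymProd f n q g) :
    ∃ D : HilbD.Obj f n (Over.mk g), HilbD.IsUniversal f n (Over.mk g) D := by
  obtain ⟨D, hD, -⟩ := H27SymProd.exists_universal f hAF n q g hq
  exact ⟨D, hD⟩

end Groth.Agent.S14664
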