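import Groth.Statements.S14666
import Groth.Agent.H19Grp.Collapse

set_option autoImplicit false
set_option maxHeartbeats 1000000
set_option synthInstance.maxHeartbeats 100000
set_option linter.style.haveILetI false
set_option backward.isDefEq.respectTransparency false
universe u
open CategoryTheory CategoryTheory.Limits AlgebraicGeometry
open AbSch

namespace Groth.Agent.S14666

/-- Let S be a locally Noetherian scheme, ξ : X ⟶ S a proper morphism all of whose geometric fibres are
integral and for which O_S ⟶ ξ_*O_X is an isomorphism (the map Γ(U, O_S) → Γ(ξ⁻¹U, O_X) is bijective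
for every open U of S), v : Y ⟶ S an arbitrary S-scheme and f : X ⟶ Y a morphism over S. Let U be
the set of points s of S such that f sends every point of the fibre ξ⁻¹(s) to one and the same point
of Y. Then U is open in S, and for every morphism τ : T ⟶ S the base change of f to T factors
through the projection X ×_S T ⟶ T — that is, there is r : T ⟶ Y with r ≫ v = τ and fst ≫ f = snd ≫
r on X ×_S T — if and only if τ maps every point of T into U. -/
theorem result {X Y S : Scheme.{u}} [IsLocallyNoetherian S]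
    (ξ : X ⟶ S) [IsProper ξ] [GeometricallyIntegral ξ]
    (h0 : ∀ U : S.Opens, Function.Bijective (ξ.app U).hom)
    (v : Y ⟶ S) (f : X ⟶ Y) (hf : f ≫ v = ξ) :
    IsOpen {s : ↥S | ∃ y : ↥Y, ∀ x : ↥X, ξ.base x = s → f.base x = y} ∧
    ∀ (T : Scheme.{u}) (τ : T ⟶ S),
      ((∃ r : T ⟶ Y, r ≫ v = τ ∧ pullback.fst ξ τ ≫ f = pullback.snd ξ τ ≫ r) ↔
        ∀ t : ↥T, τ.base t ∈ {s : ↥S | ∃ y : ↥Y, ∀ x : ↥X, ξ.base x = s → f.base x = y}) := by
  obtain ⟨U, r, hU, hr⟩ := H19Grp.Collapse.exists_open_factor ξ h0 ξ.isClosedMap f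
  refine ⟨?_, fun T τ => ⟨?_, fun hτ => ?_⟩⟩
  · have h := U.2
    exact (congrArg IsOpen hU).mp h
  · rintro ⟨ρ, -, hρ⟩ t
    refine ⟨ρ t, fun x hx => ?_⟩
    obtain ⟨z, hz1, hz2⟩ := Scheme.Pullback.exists_preimage_pullback (f := ξ) (g := τ) x t hx
    rw [← hz1, ← hz2, ← Scheme.Hom.comp_apply, hρ, Scheme.Hom.comp_apply]
  · let τ' : T ⟶ (U : Scheme.{u}) := IsOpenImmersion.lift U.ι τ (by
      rintro _ ⟨t, rfl⟩
      refine U.range_ι.ge ?_
      show τ t ∈ (U : Set S)
      rw [hU]
      exact hτ t)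
    have hτ' : τ' ≫ U.ι = τ := IsOpenImmersion.lift_fac _ _ _
    let l : pullback ξ τ ⟶ (ξ ⁻¹ᵁ U).toScheme := IsOpenImmersion.lift (ξ ⁻¹ᵁ U).ι (pullback.fst ξ τ) (by
      rintro _ ⟨z, rfl⟩
      refine (ξ ⁻¹ᵁ U).range_ι.ge ?_
      show ξ (pullback.fst ξ τ z) ∈ (U : Set S)
      rw [← Scheme.Hom.comp_apply, pullback.condition, Scheme.Hom.comp_apply, hU]
      exact hτ _)
    have hl : l ≫ (ξ ∣_ U) = pullback.snd ξ τ ≫ τ' := by
      rw [← cancel_mono U.ι, Category.assoc, morphismRestrict_ι, IsOpenImmersion.lift_fac_assoc,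
        Category.assoc, hτ', pullback.condition]
    have hrv : r ≫ v = U.ι := H19Grp.Collapse.hom_ext ξ h0 ξ.isClosedMap U _ _ (by
      rw [← Category.assoc, hr, Category.assoc, hf, morphismRestrict_ι])
    refine ⟨τ' ≫ r, by rw [Category.assoc, hrv, hτ'], ?_⟩
    rw [← Category.assoc, ← hl, Category.assoc, hr, IsOpenImmersion.lift_fac_assoc]

end Groth.Agent.S14666
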