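import Groth.Statements.S14667
import Groth.Agent.H20GIT.Rigidity
import Groth.Agent.H19Grp.CohFlat0
import Groth.Agent.H17.Topology

set_option autoImplicit false
set_option maxHeartbeats 1000000
set_option synthInstance.maxHeartbeats 100000
set_option linter.style.haveILetI false
set_option backward.isDefEq.respectTransparency false
universe u
open CategoryTheory CategoryTheory.Limits AlgebraicGeometry
open AbSch

namespace Groth.Agent.S14667

open CategoryTheory CategoryTheory.Limits AlgebraicGeometry TopologicalSpace in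
theorem collapsed_component {X Y S : Scheme.{u}} [IsLocallyNoetherian S] (ξ : X ⟶ S) [IsProper ξ] [Flat ξ]
    [GeometricallyIntegral ξ] (v : Y ⟶ S) [IsSeparated v] (f : X ⟶ Y) (hf : f ≫ v = ξ)
    (C : S.Opens) [ConnectedSpace C] (s : S) (hsC : s ∈ C) (y : Y) (hy : ∀ x, ξ x = s → f x = y) (t : S) (htC : t ∈ C) :
    ∃ y : Y, ∀ x, ξ x = t → f x = y := by
  let p := ξ ∣_ C
  let fC : (ξ ⁻¹ᵁ C).toScheme ⟶ (v ⁻¹ᵁ C).toScheme :=
    IsOpenImmersion.lift (v ⁻¹ᵁ C).ι ((ξ ⁻¹ᵁ C).ι ≫ f) (by
      rintro _ ⟨x, rfl⟩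
      refine (v ⁻¹ᵁ C).range_ι.ge ?_
      show v (f ((ξ ⁻¹ᵁ C).ι x)) ∈ C
      rw [← Scheme.Hom.comp_apply f, hf]
      exact x.2)
  have hfC : fC ≫ (v ⁻¹ᵁ C).ι = (ξ ⁻¹ᵁ C).ι ≫ f := IsOpenImmersion.lift_fac _ _ _
  haveI : IsProper p := MorphismProperty.of_isPullback (isPullback_morphismRestrict ξ C).flip ‹_›
  haveI : Flat p := MorphismProperty.of_isPullback (isPullback_morphismRestrict ξ C).flip ‹_›
  haveI : GeometricallyIntegral p := MorphismProperty.of_isPullback (isPullback_morphismRestrict ξ C).flip ‹_›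
  haveI : IsSeparated (v ∣_ C) := MorphismProperty.of_isPullback (isPullback_morphismRestrict v C).flip ‹_›
  haveI : IsLocallyNoetherian (ξ ⁻¹ᵁ C).toScheme := LocallyOfFiniteType.isLocallyNoetherian p
  obtain ⟨σ, -, hσ⟩ := H20GIT.exists_section_of_collapse p (v ∣_ C) fC (by
      rw [← cancel_mono C.ι, Category.assoc, morphismRestrict_ι, reassoc_of% hfC, hf]
      exact (morphismRestrict_ι ξ C).symm)
    (fun c => H19Grp.bijective_appTop_fiber p c) (Or.inl inferInstance) ⟨s, hsC⟩ (fun x x' hx hx' => by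
      refine (v ⁻¹ᵁ C).ι.isOpenEmbedding.injective ?_
      rw [← Scheme.Hom.comp_apply, ← Scheme.Hom.comp_apply, hfC, Scheme.Hom.comp_apply, Scheme.Hom.comp_apply]
      refine (hy _ ?_).trans (hy _ ?_).symm
      · exact (morphismRestrict_base_coe ξ C x).symm.trans (congrArg Subtype.val hx)
      · exact (morphismRestrict_base_coe ξ C x').symm.trans (congrArg Subtype.val hx'))
  refine ⟨(σ ≫ (v ⁻¹ᵁ C).ι) ⟨t, htC⟩, fun x hx => ?_⟩
  let x' : (ξ ⁻¹ᵁ C).toScheme := ⟨x, show ξ x ∈ C from hx ▸ htC⟩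
  have hp : p x' = ⟨t, htC⟩ := Subtype.ext ((morphismRestrict_base_coe ξ C x').trans hx)
  have h := congrArg (fun m : (ξ ⁻¹ᵁ C).toScheme ⟶ Y => m x') (hfC.symm.trans (by rw [hσ, Category.assoc]))
  exact h.trans (congrArg (fun q => (σ ≫ (v ⁻¹ᵁ C).ι) q) hp)


/-- Let S be a locally Noetherian scheme, ξ : X ⟶ S a proper flat morphism all of whose geometric fibres
are integral, v : Y ⟶ S a separated morphism and f : X ⟶ Y a morphism over S. Then the set U of
points s of S such that f sends every point of the fibre ξ⁻¹(s) to one and the same point of Y is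
closed and open in S. (Under flatness the condition that O_S ⟶ ξ_*O_X be an isomorphism, assumed for
openness in the non-flat case, holds automatically.) -/
theorem result {X Y S : Scheme.{u}} [IsLocallyNoetherian S]
    (ξ : X ⟶ S) [IsProper ξ] [Flat ξ] [GeometricallyIntegral ξ]
    (v : Y ⟶ S) [IsSeparated v] (f : X ⟶ Y) (hf : f ≫ v = ξ) :
    IsClosed {s : ↥S | ∃ y : ↥Y, ∀ x : ↥X, ξ.base x = s → f.base x = y} ∧ IsOpen {s : ↥S | ∃ y : ↥Y, ∀ x : ↥X, ξ.base x = s → f.base x = y} := by
  haveI : LocallyConnectedSpace S := Groth.Agent.H17.locallyConnectedSpace_of_locallyNoetherian fun y => by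
    obtain ⟨U, hU, hyU, -⟩ := exists_isAffineOpen_mem_and_subset (X := S) (x := y) (U := ⊤) trivial
    haveI : IsNoetherianRing Γ(S, U) := IsLocallyNoetherian.component_noetherian ⟨U, hU⟩
    exact ⟨U, U.2.mem_nhds hyU, noetherianSpace_of_isAffineOpen U hU⟩
  have key : ∀ s t : S, t ∈ connectedComponent s → (∃ y : Y, ∀ x, ξ x = s → f x = y) →
      ∃ y : Y, ∀ x, ξ x = t → f x = y := by
    rintro s t ht ⟨y, hy⟩
    let C : S.Opens := ⟨connectedComponent s, isOpen_connectedComponent⟩
    haveI : ConnectedSpace C := Subtype.connectedSpace isConnected_connectedComponent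
    exact collapsed_component ξ v f hf C s mem_connectedComponent y hy t ht
  constructor
  · refine isOpen_compl_iff.mp (isOpen_iff_forall_mem_open.mpr fun s hs => ?_)
    refine ⟨connectedComponent s, fun t ht h => hs ?_, isOpen_connectedComponent, mem_connectedComponent⟩
    exact key t s ((connectedComponent_eq ht) ▸ mem_connectedComponent) h
  · refine isOpen_iff_forall_mem_open.mpr fun s hs => ?_
    exact ⟨connectedComponent s, fun t ht => key s t ht hs, isOpen_connectedComponent, mem_connectedComponent⟩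

end Groth.Agent.S14667
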