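import Groth.Statements.S14668
import Groth.Agent.H19Chev.FieldBasic
import Groth.Agent.H19Chev.StructureBasic
import Groth.Agent.H21Rank1.GaProps
import Groth.Agent.H19Grp.AffineLineLaw
import Groth.Agent.H19Grp.CohFlat0
import Groth.Agent.H19Grp.Cartier
import Groth.Agent.LeadPic.PnRel
import Groth.Agent.H13Desc.Flat
import Groth.Agent.H11Proj.ProjSpace
import Groth.Agent.H27Weil.Geometry
import Groth.Agent.H19Quot.FpqcCover
import Groth.Agent.H19Grp.OrbitIrreducible

set_option autoImplicit false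
set_option maxHeartbeats 1000000
set_option synthInstance.maxHeartbeats 100000
set_option linter.style.haveILetI false
set_option backward.isDefEq.respectTransparency false
universe u
open CategoryTheory CategoryTheory.Limits MonoidalCategory CartesianMonoidalCategory MonObj GrpObj AlgebraicGeometry
open AbSch

namespace Groth.Agent.S14668

open AlgebraicGeometry
open Groth.Agent Groth.Agent.H19Quot Groth.Agent.H19Grp.AffineLineLaw

variable {κ : Type u} [Field κ]

/-- A morphism from the affine line to an abelian variety is constant. -/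
theorem line_const (Q : Over (Spec (CommRingCat.of κ))) [GrpObj Q] [IsProper Q.hom] [Smooth Q.hom]
    [ConnectedSpace Q.left] (f : T κ (Polynomial κ) ⟶ Q) :
    ∃ c : 𝟙_ (Over (Spec (CommRingCat.of κ))) ⟶ Q, f = toUnit _ ≫ c := by
  let A := Red.Ga (Spec (CommRingCat.of κ))
  letI : GrpObj A := inferInstanceAs (GrpObj (Red.Ga (Spec (CommRingCat.of κ))))
  haveI : Smooth A.hom := H21Rank1.smooth_Ga
  haveI : IsAffine A.left := by
    haveI : IsAffine (Red.GaZ.{u}).left := inferInstanceAs (IsAffine (Spec _))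
    dsimp [A, Red.Ga, Red.bc]; infer_instance
  haveI : IsSeparated A.hom := H19Grp.AffineQuotient.isSeparated_of_grp A
  haveI : IsSeparated Q.hom := H19Grp.AffineQuotient.isSeparated_of_grp Q
  obtain ⟨R, _, _, ⟨eR⟩⟩ := exists_T_iso A
  let w : A ⟶ T κ (Polynomial κ) := eR.inv ≫ Tmap (Polynomial.aeval (val eR.hom))
  let p : T κ (Polynomial κ) ⟶ A := pt Polynomial.X
  have hpw : p ≫ w = 𝟙 _ := by
    let ψ₀ : R →+* Polynomial κ := (Spec.preimage (p ≫ eR.inv).left).hom
    have hψ : ∀ a : κ, ψ₀ (algebraMap κ R a) = algebraMap κ (Polynomial κ) a := fun a => by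
      have h1 : CommRingCat.ofHom (algebraMap κ R) ≫ Spec.preimage (p ≫ eR.inv).left =
          CommRingCat.ofHom (algebraMap κ (Polynomial κ)) := Spec.map_injective (by
        rw [Spec.map_comp, Spec.map_preimage]; exact Over.w (p ≫ eR.inv))
      exact congrArg (fun f : CommRingCat.of κ ⟶ CommRingCat.of (Polynomial κ) => f.hom a) h1
    let ψ : R →ₐ[κ] Polynomial κ := { ψ₀ with commutes' := hψ }
    have hψ' : p ≫ eR.inv = Tmap ψ := Over.OverMorphism.ext (Spec.map_preimage (p ≫ eR.inv).left).symm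
    have hval : ψ (val eR.hom) = Polynomial.X := by
      rw [← val_comp, ← hψ', Category.assoc, Iso.inv_hom_id, Category.comp_id, val_pt]
    have he' : ψ.comp (Polynomial.aeval (val eR.hom)) = AlgHom.id _ _ := Polynomial.algHom_ext (by simp [hval])
    show p ≫ eR.inv ≫ Tmap _ = _
    rw [← Category.assoc, hψ']
    refine Over.OverMorphism.ext ?_
    show Spec.map (CommRingCat.ofHom ψ.toRingHom) ≫ Spec.map (CommRingCat.ofHom (Polynomial.aeval (val eR.hom)).toRingHom) = 𝟙 _
    rw [← Spec.map_comp, ← CommRingCat.ofHom_comp,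
      show ψ.toRingHom.comp (Polynomial.aeval (val eR.hom)).toRingHom = RingHom.id _ from congrArg AlgHom.toRingHom he']
    exact Spec.map_id _
  have hwp : w ≫ p = 𝟙 A := by
    rw [← cancel_epi eR.hom]
    simp only [w, Category.assoc, Iso.hom_inv_id_assoc, Category.comp_id]
    apply val_injective
    rw [val_comp, val_pt, Polynomial.aeval_X]
  haveI : ConnectedSpace A.left := by
    haveI : ConnectedSpace (T κ (Polynomial κ)).left :=
      inferInstanceAs (ConnectedSpace (PrimeSpectrum (Polynomial κ)))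
    have hps : Function.Surjective p.left := fun y =>
      ⟨w.left y, by rw [← Scheme.Hom.comp_apply, ← Over.comp_left, hwp]; rfl⟩
    exact hps.connectedSpace p.left.continuous
  haveI : QuasiCompact A.hom := inferInstance
  let g := w ≫ f
  let g' : A ⟶ Q := g * (toUnit A ≫ η[A] ≫ g)⁻¹
  have hg' : η[A] ≫ g' = η[Q] := by
    show η[A] ≫ (g * (toUnit A ≫ η[A] ≫ g)⁻¹) = _
    rw [MonObj.comp_mul, GrpObj.comp_inv, ← Category.assoc η[A] (toUnit A),
      toUnit_unique (η[A] ≫ toUnit A) (𝟙 _), Category.id_comp, mul_inv_cancel, MonObj.one_eq_one]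
  haveI : IsMonHom g' := H19Chev.isMonHom_to_av g' hg'
  have h1 : g' = 1 := H19Chev.eq_one_of_affine_to_proper_field g'
  refine ⟨η[A] ≫ g, ?_⟩
  have hg : g = toUnit A ≫ η[A] ≫ g := mul_inv_eq_one.1 h1
  rw [← Category.id_comp f, ← hpw, Category.assoc]
  refine (congrArg (p ≫ ·) hg).trans ?_
  show p ≫ toUnit A ≫ η[A] ≫ g = _
  rw [← Category.assoc, toUnit_unique (p ≫ toUnit A) (toUnit _)]

/-- A morphism from affine space to an abelian variety takes the same value at all rational points. -/
theorem aff_const (Q : Over (Spec (CommRingCat.of κ))) [GrpObj Q] [IsProper Q.hom] [Smooth Q.hom]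
    [ConnectedSpace Q.left] (σ : Type) (f : T κ (MvPolynomial σ κ) ⟶ Q)
    (z z' : T κ κ ⟶ T κ (MvPolynomial σ κ)) : z ≫ f = z' ≫ f := by
  have key : ∀ z : T κ κ ⟶ T κ (MvPolynomial σ κ), ∃ a : σ → κ, z = Tmap (MvPolynomial.aeval a) := by
    intro z
    let ψ₀ : MvPolynomial σ κ →+* κ := (Spec.preimage z.left).hom
    have hψ : ∀ a : κ, ψ₀ (algebraMap κ (MvPolynomial σ κ) a) = algebraMap κ κ a := fun a => by
      have h1 : CommRingCat.ofHom (algebraMap κ (MvPolynomial σ κ)) ≫ Spec.preimage z.left =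
          CommRingCat.ofHom (algebraMap κ κ) := Spec.map_injective (by
        rw [Spec.map_comp, Spec.map_preimage]; exact Over.w z)
      exact congrArg (fun f : CommRingCat.of κ ⟶ CommRingCat.of κ => f.hom a) h1
    let ψ : MvPolynomial σ κ →ₐ[κ] κ := { ψ₀ with commutes' := hψ }
    refine ⟨ψ ∘ MvPolynomial.X, ?_⟩
    rw [← MvPolynomial.aeval_unique ψ]
    exact Over.OverMorphism.ext (Spec.map_preimage z.left).symm
  obtain ⟨a, rfl⟩ := key z
  obtain ⟨b, rfl⟩ := key z'
  let L : MvPolynomial σ κ →ₐ[κ] Polynomial κ :=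
    MvPolynomial.aeval fun j => Polynomial.C (a j) + Polynomial.X * Polynomial.C (b j - a j)
  obtain ⟨c, hc⟩ := line_const Q (Tmap L ≫ f)
  have hcomp : ∀ (t : κ) (d : σ → κ), (∀ j, a j + t * (b j - a j) = d j) →
      Tmap (MvPolynomial.aeval (R := κ) d) ≫ f = toUnit _ ≫ c := by
    intro t d hd
    have h : (MvPolynomial.aeval (R := κ) d) = (Polynomial.aeval t).comp L :=
      MvPolynomial.algHom_ext fun j => by simp [L, hd]
    have h2 : Tmap (MvPolynomial.aeval (R := κ) d) = Tmap (Polynomial.aeval t) ≫ Tmap L := by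
      rw [h]
      refine Over.OverMorphism.ext ?_
      show Spec.map (CommRingCat.ofHom ((Polynomial.aeval t).comp L).toRingHom) =
        Spec.map (CommRingCat.ofHom (Polynomial.aeval t).toRingHom) ≫ Spec.map (CommRingCat.ofHom L.toRingHom)
      rw [← Spec.map_comp, ← CommRingCat.ofHom_comp]
      rfl
    rw [h2, Category.assoc, hc, ← Category.assoc, toUnit_unique (Tmap (Polynomial.aeval t) ≫ toUnit _) (toUnit _)]
  exact (hcomp 0 a (fun j => by simp)).trans (hcomp 1 b (fun j => by simp)).symm

open H11Proj.ProjSpace in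
theorem chartInv_chartMap' (n : ℕ) (i : Fin (n + 1)) :
    (chartInv n κ i).comp (chartMap n κ i) = RingHom.id _ := by
  refine MvPolynomial.ringHom_ext (fun r => ?_) (fun j => ?_)
  · have h1 := RingHom.congr_fun (chartInv_awayProjHom n κ i) (MvPolynomial.C r)
    rw [← chartMap_comp_dehom] at h1
    simpa [dehom] using h1
  · have h1 := RingHom.congr_fun (chartInv_awayProjHom n κ i) (MvPolynomial.X j.1)
    rw [← chartMap_comp_dehom] at h1
    simpa [dehom, j.2] using h1

open H11Proj.ProjSpace in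
theorem isIso_chartMap' (n : ℕ) (i : Fin (n + 1)) : IsIso (CommRingCat.ofHom (chartMap n κ i)) :=
  (ConcreteCategory.isIso_iff_bijective _).2 (chartMap_bijective n κ i)

open H11Proj.ProjSpace in
theorem inv_chartMap' (n : ℕ) (i : Fin (n + 1)) :
    CommRingCat.ofHom (chartMap n κ i) ≫ CommRingCat.ofHom (chartInv n κ i) = 𝟙 _ ∧
      IsIso (CommRingCat.ofHom (chartInv n κ i)) := by
  haveI := isIso_chartMap' (κ := κ) n i
  have h : CommRingCat.ofHom (chartMap n κ i) ≫ CommRingCat.ofHom (chartInv n κ i) = 𝟙 _ :=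
    CommRingCat.hom_ext (chartInv_chartMap' n i)
  exact ⟨h, IsIso.of_isIso_fac_left h⟩

open H11Proj.ProjSpace in
theorem exists_chart (n : ℕ) (i : Fin (n + 1)) :
    ∃ c : T κ (MvPolynomial {j : Fin (n + 1) // j ≠ i} κ) ⟶ Over.mk (CohB1.ProjSpace.toSpec n κ),
      IsOpenImmersion c.left ∧ ∀ z, z ∈ Proj.basicOpen (CohB1.polyGrading n κ) (MvPolynomial.X i) →
        z ∈ Set.range c.left := by
  obtain ⟨h1, h2⟩ := inv_chartMap' (κ := κ) n i
  haveI := isIso_chartMap' (κ := κ) n i
  let a := Proj.awayι (CohB1.polyGrading n κ) (MvPolynomial.X i) (X_mem n κ i) one_pos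
  have hw : (Spec.map (CommRingCat.ofHom (chartInv n κ i)) ≫ a) ≫ CohB1.ProjSpace.toSpec n κ =
      Spec.map (CommRingCat.ofHom (algebraMap κ (MvPolynomial {j : Fin (n + 1) // j ≠ i} κ))) := by
    refine (Category.assoc _ _ _).trans ((congrArg (Spec.map _ ≫ ·) (awayι_toSpec n κ i)).trans ?_)
    refine (Spec.map_comp _ _).symm.trans (congrArg Spec.map ?_)
    refine CommRingCat.hom_ext (RingHom.ext fun r => ?_)
    exact RingHom.congr_fun (chartInv_chartMap' n i) (MvPolynomial.C r)
  refine ⟨Over.homMk (Spec.map (CommRingCat.ofHom (chartInv n κ i)) ≫ a) hw, ?_, fun z hz => ?_⟩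
  · show IsOpenImmersion (Spec.map (CommRingCat.ofHom (chartInv n κ i)) ≫ a)
    infer_instance
  · rw [← Proj.opensRange_awayι (CohB1.polyGrading n κ) (MvPolynomial.X i) (X_mem n κ i) one_pos] at hz
    obtain ⟨w, hw'⟩ := hz
    obtain ⟨w', rfl⟩ := (Spec.map (CommRingCat.ofHom (chartInv n κ i))).surjective w
    exact ⟨w', (Scheme.Hom.comp_apply _ _ _).trans hw'⟩

open H11Proj.ProjSpace in
/-- A morphism from projective space over an algebraically closed field to an abelian variety takes
the same value at all rational points. -/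
theorem pn_const [IsAlgClosed κ] (Q : Over (Spec (CommRingCat.of κ))) [GrpObj Q] [IsProper Q.hom] [Smooth Q.hom]
    [ConnectedSpace Q.left] (n : ℕ) (f : Over.mk (CohB1.ProjSpace.toSpec n κ) ⟶ Q)
    (x y : T κ κ ⟶ Over.mk (CohB1.ProjSpace.toSpec n κ)) : x ≫ f = y ≫ f := by
  haveI hint : IsIntegral (Over.mk (CohB1.ProjSpace.toSpec n κ)).left := LeadPic.PnRel.isIntegral_projSpace n κ
  haveI hprop : IsProper (CohB1.ProjSpace.toSpec n κ) := H27Weil.isProper_toSpec n κ
  haveI : JacobsonSpace ↥(Spec (CommRingCat.of κ)) := inferInstanceAs (JacobsonSpace (PrimeSpectrum κ))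
  haveI : JacobsonSpace (Over.mk (CohB1.ProjSpace.toSpec n κ)).left :=
    LocallyOfFiniteType.jacobsonSpace (CohB1.ProjSpace.toSpec n κ)
  choose c hc hrange using exists_chart (κ := κ) n
  have hcov : ∀ z : (Over.mk (CohB1.ProjSpace.toSpec n κ)).left, ∃ i, z ∈ Set.range (c i).left := fun z => by
    obtain ⟨i, hi⟩ : ∃ i : Fin (n + 1), z ∈ Proj.basicOpen (CohB1.polyGrading n κ) (MvPolynomial.X i) :=
      TopologicalSpace.Opens.mem_iSup.1 ((iSup_basicOpen n κ).ge (Set.mem_univ z))
    exact ⟨i, hrange i z hi⟩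
  have hpt : ∀ i (z : T κ κ ⟶ Over.mk (CohB1.ProjSpace.toSpec n κ)),
      z.left (IsLocalRing.closedPoint κ) ∈ Set.range (c i).left → ∃ z', z' ≫ c i = z := fun i z hz => by
    haveI := hc i
    have hr : Set.range z.left ⊆ Set.range (c i).left := by
      rintro _ ⟨w, rfl⟩
      rw [Subsingleton.elim (α := ↥(Spec (CommRingCat.of κ))) w (IsLocalRing.closedPoint κ)]
      exact hz
    exact ⟨Over.homMk (IsOpenImmersion.lift (c i).left z.left hr) (by
      rw [← Over.w (c i), ← Category.assoc, IsOpenImmersion.lift_fac, Over.w z]),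
      Over.OverMorphism.ext (IsOpenImmersion.lift_fac _ _ _)⟩
  obtain ⟨i, hi⟩ := hcov (x.left (IsLocalRing.closedPoint κ))
  obtain ⟨j, hj⟩ := hcov (y.left (IsLocalRing.closedPoint κ))
  obtain ⟨x', rfl⟩ := hpt i x hi
  obtain ⟨y', rfl⟩ := hpt j y hj
  haveI := hc i; haveI := hc j
  obtain ⟨m, hm⟩ := nonempty_preirreducible_inter ((c i).left.isOpenEmbedding.isOpen_range)
    ((c j).left.isOpenEmbedding.isOpen_range) ⟨_, hi⟩ ⟨_, hj⟩
  obtain ⟨p, hp, hpc⟩ := nonempty_inter_closedPoints
    (Z := Set.range (c i).left ∩ Set.range (c j).left) ⟨m, hm⟩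
    ((c i).left.isOpenEmbedding.isOpen_range.inter (c j).left.isOpenEmbedding.isOpen_range).isLocallyClosed
  let z : T κ κ ⟶ Over.mk (CohB1.ProjSpace.toSpec n κ) :=
    Over.homMk (pointOfClosedPoint (CohB1.ProjSpace.toSpec n κ) p hpc) (by
      refine (pointOfClosedPoint_comp _ _ _).trans ?_
      show 𝟙 _ = Spec.map (CommRingCat.ofHom (algebraMap κ κ))
      rw [Algebra.algebraMap_self, show CommRingCat.ofHom (RingHom.id κ) = 𝟙 (CommRingCat.of κ) from rfl,
        Spec.map_id])
  have hz : z.left (IsLocalRing.closedPoint κ) = p := pointOfClosedPoint_apply _ _ _ _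
  obtain ⟨zi, hzi⟩ := hpt i z (hz.symm ▸ hp.1)
  obtain ⟨zj, hzj⟩ := hpt j z (hz.symm ▸ hp.2)
  have e₁ : (x' ≫ c i) ≫ f = z ≫ f :=
    (Category.assoc _ _ _).trans ((aff_const Q _ (c i ≫ f) x' zi).trans
      ((Category.assoc _ _ _).symm.trans (congrArg (· ≫ f) hzi)))
  have e₂ : (y' ≫ c j) ≫ f = z ≫ f :=
    (Category.assoc _ _ _).trans ((aff_const Q _ (c j ≫ f) y' zj).trans
      ((Category.assoc _ _ _).symm.trans (congrArg (· ≫ f) hzj)))
  exact e₁.trans e₂.symm

/-- Morphisms from a scheme whose geometric fibres are projective spaces: integral fibres. -/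
theorem geometricallyIntegral_of_fibres {S P : Scheme.{u}} (p : P ⟶ S)
    (hP : ∀ (K : Type u) [Field K] [IsAlgClosed K] (s : Spec (CommRingCat.of K) ⟶ S),
      ∃ n : ℕ, Nonempty (pullback p s ≅ CohB1.ProjSpace n K)) : GeometricallyIntegral p := by
  refine ⟨fun K _ y Z fst snd h => ?_⟩
  let j : Spec (CommRingCat.of (AlgebraicClosure K)) ⟶ Spec (CommRingCat.of K) :=
    Spec.map (CommRingCat.ofHom (algebraMap K (AlgebraicClosure K)))
  haveI : Flat j := H19Grp.flat_to_spec_field j
  haveI : Surjective j := ⟨Function.surjective_to_subsingleton _⟩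
  let q : pullback (pullback.snd p y) j ⟶ Z := pullback.fst _ _ ≫ h.isoPullback.inv
  obtain ⟨n, ⟨e⟩⟩ := hP (AlgebraicClosure K) (j ≫ y)
  haveI : IsIntegral (CohB1.ProjSpace n (AlgebraicClosure K)) := LeadPic.PnRel.isIntegral_projSpace n _
  haveI : IsIntegral (pullback (pullback.snd p y) j) :=
    IsIntegral.of_isIso (pullbackLeftPullbackSndIso p y j ≪≫ e).inv
  haveI : Flat q := inferInstance
  haveI : Surjective q := inferInstance
  haveI : IsReduced Z := H13Desc.isReduced_of_flat_surjective q
  haveI : IrreducibleSpace Z := q.surjective.irreducibleSpace q.continuous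
  exact isIntegral_of_irreducibleSpace_of_isReduced _


/-- Let S be a locally Noetherian scheme, A an abelian scheme over S (an S-group scheme whose structure
morphism is proper and flat with geometrically integral fibres), and P an S-scheme whose structure
morphism is proper and flat and whose geometric fibres are projective spaces: for every
algebraically closed field K and every K-point of S, the fibre P ×_S Spec K is isomorphic over Spec
K to projective n-space over K for some n. Then every S-morphism P ⟶ A factors through the structure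
morphism of P: it is the composite of P ⟶ S with a section S ⟶ A. -/
theorem result {S : Scheme.{u}} [IsLocallyNoetherian S]
    (A : Over S) [GrpObj A] [IsProper A.hom] [Flat A.hom] [GeometricallyIntegral A.hom]
    (P : Over S) [IsProper P.hom] [Flat P.hom]
    (hP : ∀ (K : Type u) [Field K] [IsAlgClosed K] (s : Spec (CommRingCat.of K) ⟶ S),
      ∃ (n : ℕ) (e : pullback P.hom s ≅ CohB1.ProjSpace n K), e.hom ≫ CohB1.ProjSpace.toSpec n K = pullback.snd P.hom s)
    (φ : P ⟶ A) :
    ∃ a : 𝟙_ (Over S) ⟶ A, φ = toUnit P ≫ a := by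
  haveI : IsLocallyNoetherian S := ‹_›
  haveI : LocallyOfFinitePresentation P.hom := inferInstance
  haveI : GeometricallyIntegral P.hom := geometricallyIntegral_of_fibres P.hom fun K _ _ s => by
    obtain ⟨n, e, -⟩ := hP K s; exact ⟨n, ⟨e⟩⟩
  let B := P ⊗ P
  let π : B.left ⟶ P.left := (snd P P).left
  haveI : IsProper π := inferInstanceAs (IsProper (pullback.snd P.hom P.hom))
  haveI : Flat π := inferInstanceAs (Flat (pullback.snd P.hom P.hom))
  haveI : LocallyOfFinitePresentation π := inferInstanceAs (LocallyOfFinitePresentation (pullback.snd P.hom P.hom))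
  haveI : GeometricallyIntegral π := inferInstanceAs (GeometricallyIntegral (pullback.snd P.hom P.hom))
  let e : P ⟶ B := lift (𝟙 P) (𝟙 P)
  have he : e.left ≫ π = 𝟙 _ := by rw [← Over.comp_left]; simp [e]
  let δ : B ⟶ A := (fst P P ≫ φ) * (snd P P ≫ φ)⁻¹
  have he1 : e ≫ δ = 1 := by simp [e, δ, MonObj.comp_mul, GrpObj.comp_inv]
  have hc : ∀ x, δ.left x = δ.left (e.left (π x)) := by
    intro x
    let K := AlgebraicClosure (B.left.residueField x)
    let eK : Spec (CommRingCat.of K) ⟶ B.left :=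
      Spec.map (CommRingCat.ofHom (algebraMap (B.left.residueField x) K)) ≫ B.left.fromSpecResidueField x
    let s := eK ≫ B.hom
    let q : Over.mk s ⟶ B := Over.homMk eK rfl
    have hq : q.left (IsLocalRing.closedPoint K) = x := by
      show eK (IsLocalRing.closedPoint K) = x
      simp only [eK, Scheme.Hom.comp_apply]
      exact Scheme.fromSpecResidueField_apply _ _
    obtain ⟨n, eP, heP⟩ := hP K s
    -- the geometric fibre
    let F := Over.pullback s
    let AK := Red.bc s A
    letI : GrpObj AK := inferInstanceAs (GrpObj (Red.bc s A))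
    haveI : IsProper AK.hom := inferInstanceAs (IsProper (pullback.snd A.hom s))
    haveI : Flat AK.hom := inferInstanceAs (Flat (pullback.snd A.hom s))
    haveI : GeometricallyIntegral AK.hom := inferInstanceAs (GeometricallyIntegral (pullback.snd A.hom s))
    haveI : Smooth AK.hom := by
      haveI : IsNoetherianRing (CommRingCat.of K) := inferInstanceAs (IsNoetherianRing K)
      haveI : LocallyOfFinitePresentation AK.hom := inferInstance
      exact H19Grp.smooth_of_flat_of_geometricallyReduced AK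
    haveI : ConnectedSpace AK.left := by
      haveI : IsIntegral AK.left := GeometricallyIntegral.isIntegral_of_subsingleton AK.hom
      infer_instance
    have hT : ∀ Y : Over S, ∀ v : Over.mk s ⟶ Y, ∃ v' : T K K ⟶ Red.bc s Y,
        v'.left ≫ pullback.fst Y.hom s = v.left := fun Y v =>
      ⟨Over.homMk (pullback.lift v.left (𝟙 _) (by rw [Category.id_comp]; exact Over.w v)) (by
        show pullback.lift _ _ _ ≫ pullback.snd Y.hom s = Spec.map (CommRingCat.ofHom (algebraMap K K))
        rw [pullback.lift_snd, Algebra.algebraMap_self,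
          show CommRingCat.ofHom (RingHom.id K) = 𝟙 (CommRingCat.of K) from rfl, Spec.map_id]
        rfl),
        pullback.lift_fst _ _ _⟩
    obtain ⟨v₁, hv₁⟩ := hT P (q ≫ fst P P)
    obtain ⟨v₂, hv₂⟩ := hT P (q ≫ snd P P)
    let E : Red.bc s P ≅ Over.mk (CohB1.ProjSpace.toSpec n K) := Over.isoMk eP heP
    let φK : Red.bc s P ⟶ AK := F.map φ
    have hval := pn_const AK n (E.inv ≫ φK) (v₁ ≫ E.hom) (v₂ ≫ E.hom)
    simp only [Category.assoc, Iso.hom_inv_id_assoc] at hval
    have hφ : q ≫ fst P P ≫ φ = q ≫ snd P P ≫ φ := by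
      refine Over.OverMorphism.ext ?_
      have h := congrArg (fun m : T K K ⟶ AK => m.left ≫ pullback.fst A.hom s) hval
      have hm : φK.left ≫ pullback.fst A.hom s = pullback.fst P.hom s ≫ φ.left := by simp [φK, F]
      simp only [Over.comp_left, Category.assoc, hm] at h
      rw [reassoc_of% hv₁, reassoc_of% hv₂] at h
      simpa using h
    have h1 : q ≫ δ = 1 := by
      simp [δ, MonObj.comp_mul, GrpObj.comp_inv, hφ]
    have h2 : (q ≫ snd P P) ≫ e ≫ δ = 1 := by rw [he1, MonObj.comp_one]
    have h3 := congrArg (fun m : Over.mk s ⟶ A => m.left (IsLocalRing.closedPoint K)) (h1.trans h2.symm)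
    simp only [Over.comp_left, Scheme.Hom.comp_apply, hq] at h3
    exact h3
  have hδ : δ = 1 := by
    refine Over.OverMorphism.ext ((H19Grp.eq_of_const_fibre π e.left he δ.left hc).trans ?_)
    show (snd P P ≫ e ≫ δ).left = _
    rw [he1, MonObj.comp_one]
  have heq : fst P P ≫ φ = snd P P ≫ φ := mul_inv_eq_one.1 hδ
  haveI : Surjective P.hom := inferInstance
  haveI : EffectiveEpi P.hom := (fpqcCov_of_lfp P.hom).effectiveEpi
  have hdesc : ∀ {W : Scheme.{u}} (g₁ g₂ : W ⟶ P.left), g₁ ≫ P.hom = g₂ ≫ P.hom → g₁ ≫ φ.left = g₂ ≫ φ.left := by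
    intro W g₁ g₂ h
    have h' := congrArg (fun m : B ⟶ A => pullback.lift g₁ g₂ h ≫ m.left) heq
    simp only [Over.comp_left] at h'
    erw [pullback.lift_fst_assoc, pullback.lift_snd_assoc] at h'
    exact h'
  let a : S ⟶ A.left := EffectiveEpi.desc P.hom φ.left hdesc
  have ha : P.hom ≫ a = φ.left := EffectiveEpi.fac P.hom φ.left hdesc
  have hs : a ≫ A.hom = 𝟙 S := by
    rw [← cancel_epi P.hom, reassoc_of% ha, Category.comp_id]
    exact Over.w φ
  refine ⟨Over.homMk a hs, Over.OverMorphism.ext ?_⟩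
  rw [Over.comp_left]
  exact ha.symm.trans (congrArg (· ≫ a) ((Category.comp_id _).symm.trans (Over.w (toUnit P))).symm)

end Groth.Agent.S14668
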