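import Groth.Statements.S1467
import Groth.Agent.H1WE.StrictHensAgree
import Groth.Agent.S1412
import Groth.Agent.S0537

set_option autoImplicit false
universe u
open FlatMor

namespace Groth.Agent.S1467

open AlgebraicGeometry CategoryTheory Limits in
/-- A morphism f : X → Y is weakly étale if and only if, for every point x of X, strict henselizations
of the local rings at f x and at x coincide under the stalk map: every strict henselization of O_{X,
x} is, through the composite map O_{Y, f x} → O_{X, x} → (strict henselization), a strict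
henselization of O_{Y, f x}. -/
theorem result {X Y : Scheme.{u}} (f : X ⟶ Y) :
    WeaklyEtale f ↔ ∀ (x : X) (R : Type u) [CommRing R] [IsLocalRing R] [Algebra ↑(X.presheaf.stalk x) R]
      [IsLocalHom (algebraMap ↑(X.presheaf.stalk x) R)] [Hensel.IsStrictHenselization ↑(X.presheaf.stalk x) R],
      letI : Algebra ↑(Y.presheaf.stalk (f x)) R := ((algebraMap ↑(X.presheaf.stalk x) R).comp (f.stalkMap x).hom).toAlgebra
      ∃ _ : IsLocalHom (algebraMap ↑(Y.presheaf.stalk (f x)) R), Hensel.IsStrictHenselization ↑(Y.presheaf.stalk (f x)) R := by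
  rw [Groth.Agent.S1412.result f]
  constructor
  · intro h x R _ _ _ _ _
    letI : Algebra ↑(Y.presheaf.stalk (f x)) R :=
      ((algebraMap ↑(X.presheaf.stalk x) R).comp (f.stalkMap x).hom).toAlgebra
    letI : Algebra ↑(Y.presheaf.stalk (f x)) ↑(X.presheaf.stalk x) := (f.stalkMap x).hom.toAlgebra
    haveI : IsScalarTower ↑(Y.presheaf.stalk (f x)) ↑(X.presheaf.stalk x) R := IsScalarTower.of_algebraMap_eq fun _ => rfl
    haveI : IsLocalHom (algebraMap ↑(Y.presheaf.stalk (f x)) R) :=
      ⟨fun a ha => IsLocalHom.map_nonunit (f := (f.stalkMap x).hom) a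
        (IsLocalHom.map_nonunit (f := algebraMap ↑(X.presheaf.stalk x) R) _ ha)⟩
    haveI : Algebra.WeaklyEtale ↑(Y.presheaf.stalk (f x)) ↑(X.presheaf.stalk x) :=
      { flat := RingHom.flat_algebraMap_iff.1 (h x).1, flat_lmul' := (h x).2 }
    exact ⟨inferInstance, H1WE.isStrictHenselization_of_weaklyEtale _ ↑(X.presheaf.stalk x) R⟩
  · intro h x
    obtain ⟨R, _, _, _, _, hR⟩ := Groth.Agent.S0537.result ↑(X.presheaf.stalk x)
    haveI := hR
    letI : Algebra ↑(Y.presheaf.stalk (f x)) R :=
      ((algebraMap ↑(X.presheaf.stalk x) R).comp (f.stalkMap x).hom).toAlgebra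
    letI : Algebra ↑(Y.presheaf.stalk (f x)) ↑(X.presheaf.stalk x) := (f.stalkMap x).hom.toAlgebra
    haveI : IsScalarTower ↑(Y.presheaf.stalk (f x)) ↑(X.presheaf.stalk x) R := IsScalarTower.of_algebraMap_eq fun _ => rfl
    obtain ⟨hl, hsh⟩ := h x R
    haveI := hl
    haveI := hsh
    haveI hwe := H1WE.weaklyEtale_of_isStrictHenselization ↑(Y.presheaf.stalk (f x)) ↑(X.presheaf.stalk x) R
    exact ⟨RingHom.flat_algebraMap_iff.2 hwe.flat, hwe.flat_lmul'⟩

end Groth.Agent.S1467
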