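import Groth.Statements.S14670
import Groth.Agent.H05EGA4.CompleteNormalization
import Groth.Agent.H8Props.MiracleFlat

set_option autoImplicit false
universe u
open CAlg

namespace Groth.Agent.S14670

/-- Let R be a regular local ring and S an integral domain containing R as a subring over which it is a
finitely generated module, such that the localization of S at each of its maximal ideals is a
Cohen–Macaulay local ring. Then S is a flat R-module. (The published statement does not require S to
be a domain; in that generality it fails — for a discrete valuation ring R with residue field κ the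
ring R × κ contains R diagonally, is finite over R with Cohen–Macaulay localizations, and is not
flat — and the printed argument needs every maximal ideal of S to have height dim R, which holds
when S is a domain by going down.) -/
theorem result (R S : Type u) [CommRing R] [CommRing S]
    [IsRegularLocalRing R] [IsDomain S] [Algebra R S] [Module.Finite R S]
    (hinj : Function.Injective (algebraMap R S))
    (hCM : ∀ (q : Ideal S) [q.IsMaximal], LocCoh.IsCohenMacaulayLocalRing (Localization.AtPrime q)) :
    Module.Flat R S := by
  classical
  haveI := Groth.Agent.H4Depth.isDomain_of_isRegularLocalRing R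
  haveI := Groth.Agent.H05EGA4.isIntegrallyClosed_of_isRegularLocalRing R
  haveI : FaithfulSMul R S := (faithfulSMul_iff_algebraMap_injective R S).mpr hinj
  haveI : IsNoetherianRing S := IsNoetherianRing.of_finite R S
  refine Module.flat_of_isLocalized_maximal S S (fun q => Localization.AtPrime q) (fun q => Algebra.linearMap S _) ?_
  intro q _
  haveI := hCM q
  haveI : q.LiesOver (IsLocalRing.maximalIdeal R) :=
    ⟨(IsLocalRing.eq_maximalIdeal (Ideal.isMaximal_comap_of_isIntegral_of_isMaximal (R := R) q)).symm⟩
  haveI : IsLocalHom (algebraMap R (Localization.AtPrime q)) := by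
    refine ((IsLocalRing.local_hom_TFAE (algebraMap R (Localization.AtPrime q))).out 0 4).mpr ?_
    rw [IsScalarTower.algebraMap_eq R S (Localization.AtPrime q), ← Ideal.comap_comap]
    rw [show (IsLocalRing.maximalIdeal (Localization.AtPrime q)).comap (algebraMap S _) = q from
      IsLocalization.AtPrime.comap_maximalIdeal _ q]
    exact IsLocalRing.eq_maximalIdeal (Ideal.isMaximal_comap_of_isIntegral_of_isMaximal (R := R) q)
  refine Groth.Agent.H8Props.MiracleFlat.flat_of_regular_of_cohenMacaulay R (Localization.AtPrime q) ?_
  have hh : (IsLocalRing.maximalIdeal R).height ≤ q.height := by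
    rw [Ideal.height_eq_height_add_of_liesOver_of_hasGoingDown (IsLocalRing.maximalIdeal R) q]
    exact le_self_add
  have h0 : ringKrullDim (Localization.AtPrime q ⧸ (IsLocalRing.maximalIdeal R).map (algebraMap R (Localization.AtPrime q))) ≤ 0 := by
    rw [ringKrullDim_quotient, Order.krullDim_nonpos_iff_forall_isMax]
    rintro ⟨P, hP⟩ ⟨Q, hQ⟩ hle
    haveI := P.2
    have h1 : P.asIdeal.comap (algebraMap R (Localization.AtPrime q)) = IsLocalRing.maximalIdeal R :=
      ((IsLocalRing.maximalIdeal.isMaximal R).eq_of_le (Ideal.IsPrime.ne_top inferInstance)
        (Ideal.map_le_iff_le_comap.mp hP)).symm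
    have h2 : (P.asIdeal.comap (algebraMap S (Localization.AtPrime q))).IsMaximal := by
      refine Ideal.isMaximal_of_isIntegral_of_isMaximal_comap (R := R) _ ?_
      rw [Ideal.comap_comap, ← IsScalarTower.algebraMap_eq, h1]
      exact IsLocalRing.maximalIdeal.isMaximal R
    have h3 : P.asIdeal.comap (algebraMap S (Localization.AtPrime q)) = Q.asIdeal.comap (algebraMap S (Localization.AtPrime q)) :=
      h2.eq_of_le (Ideal.IsPrime.ne_top (Ideal.comap_isPrime _ _)) (Ideal.comap_mono hle)
    have h4 : P.asIdeal = Q.asIdeal := by
      have e1 : (P.asIdeal.comap (algebraMap S (Localization.AtPrime q))).map (algebraMap S (Localization.AtPrime q)) = P.asIdeal :=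
        IsLocalization.map_comap q.primeCompl (Localization.AtPrime q) P.asIdeal
      have e2 : (Q.asIdeal.comap (algebraMap S (Localization.AtPrime q))).map (algebraMap S (Localization.AtPrime q)) = Q.asIdeal :=
        IsLocalization.map_comap q.primeCompl (Localization.AtPrime q) Q.asIdeal
      rw [← e1, ← e2, h3]
    exact h4.ge
  rw [IsLocalization.AtPrime.ringKrullDim_eq_height q (Localization.AtPrime q),
    ← IsLocalRing.maximalIdeal_height_eq_ringKrullDim]
  calc _ ≤ ((IsLocalRing.maximalIdeal R).height : WithBot ℕ∞) + 0 := by gcongr
    _ ≤ _ := by rw [add_zero]; exact WithBot.coe_le_coe.mpr hh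

end Groth.Agent.S14670
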