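import Groth.Statements.S14676
import Mathlib.Algebra.Order.Ring.Star
import Mathlib.Combinatorics.Nullstellensatz
import Mathlib.Data.Rat.Star
import Mathlib.FieldTheory.Finite.Basic
import Mathlib.LinearAlgebra.BilinearForm.Properties
import Mathlib.RepresentationTheory.Invariants
import Mathlib.RingTheory.Flat.TorsionFree
import Mathlib.RingTheory.Henselian
import Mathlib.RingTheory.Ideal.AssociatedPrime.Basic
import Mathlib.RingTheory.RegularLocalRing.Defs
import Mathlib.RingTheory.SimpleRing.Principal

set_option autoImplicit false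
universe u
open CAlg

namespace Groth.Agent.S14676

/-- Let A be a commutative ring which is separated and complete for the I-adic topology of an ideal I,
let P be any polynomial over A (not assumed monic) and a₀ an element of A such that P(a₀) lies in I
and P'(a₀) is a unit modulo I. Then there is a unique a in A congruent to a₀ modulo I with P(a) = 0. -/
theorem result (A : Type u) [CommRing A] (I : Ideal A) [IsAdicComplete I A]
    (P : Polynomial A) (a₀ : A) (h₀ : P.eval a₀ ∈ I)
    (h₁ : IsUnit (Ideal.Quotient.mk I (P.derivative.eval a₀))) :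
    ∃! a : A, a - a₀ ∈ I ∧ P.IsRoot a := by
  obtain ⟨w, hw⟩ := Ideal.Quotient.mk_surjective ((h₁.unit⁻¹ : (A ⧸ I)ˣ) : A ⧸ I)
  have hw' : ∀ a, a - a₀ ∈ I → P.derivative.eval a * w - 1 ∈ I := by
    intro a ha
    rw [← Ideal.Quotient.eq_zero_iff_mem, map_sub, map_mul, map_one, hw, sub_eq_zero]
    have : Ideal.Quotient.mk I (P.derivative.eval a) = Ideal.Quotient.mk I (P.derivative.eval a₀) := by
      rw [← Polynomial.eval_map_apply, ← Polynomial.eval_map_apply, Ideal.Quotient.mk_eq_mk_iff_sub_mem a a₀ |>.mpr ha]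
    rw [this]; exact h₁.mul_val_inv
  let a : ℕ → A := fun n => Nat.rec a₀ (fun _ x => x - P.eval x * w) n
  have step : ∀ n, a (n + 1) = a n - P.eval (a n) * w := fun n => rfl
  have inv : ∀ n, a n - a₀ ∈ I ∧ P.eval (a n) ∈ I ^ (n + 1) := by
    intro n
    induction n with
    | zero => exact ⟨by simp [a], by simpa [a] using h₀⟩
    | succ n ih =>
      have hh : -(P.eval (a n) * w) ∈ I ^ (n+1) := neg_mem (Ideal.mul_mem_right _ _ ih.2)
      refine ⟨?_, ?_⟩
      · rw [step, sub_right_comm]
        exact sub_mem ih.1 (Ideal.mul_mem_right _ _ (Ideal.pow_le_self (Nat.succ_ne_zero n) ih.2))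
      · obtain ⟨c, hc⟩ := Polynomial.exists_mul_sq_add_linear_part_eq_eval_add P (a n) (-(P.eval (a n) * w))
        rw [step, sub_eq_add_neg, ← hc]
        have : c * (-(P.eval (a n) * w)) ^ 2 + Polynomial.eval (a n) (Polynomial.derivative P) * -(P.eval (a n) * w) + P.eval (a n)
            = c * (-(P.eval (a n) * w)) ^ 2 - P.eval (a n) * (P.derivative.eval (a n) * w - 1) := by ring
        rw [this]
        refine sub_mem (Ideal.mul_mem_left _ _ ?_) ?_
        · exact Ideal.pow_le_pow_right (by omega) (by rw [pow_mul]; exact Ideal.pow_mem_pow hh 2 : _ ∈ I ^ ((n+1) * 2))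
        · rw [pow_succ _ (n+1)]
          exact Ideal.mul_mem_mul ih.2 (hw' _ ih.1)
  have hmono : ∀ {m n : ℕ}, m ≤ n → a m - a n ∈ I ^ m := by
    intro m n h
    induction n, h using Nat.le_induction with
    | base => simp
    | succ n h ih =>
      rw [step, sub_sub_eq_add_sub, add_sub_right_comm]
      exact add_mem ih (Ideal.mul_mem_right _ _ (Ideal.pow_le_pow_right (by omega) (inv n).2))
  obtain ⟨L, hL⟩ := IsPrecomplete.prec' (I := I) a (fun {m n} h => by
    rw [SModEq.sub_mem, smul_eq_mul, Ideal.mul_top]; exact hmono h)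
  have hL' : ∀ n, a n - L ∈ I ^ n := fun n => by
    have := SModEq.sub_mem.mp (hL n); rwa [smul_eq_mul, Ideal.mul_top] at this
  have hLI : L - a₀ ∈ I := by
    have := sub_mem (inv 1).1 (by simpa using hL' 1 : a 1 - L ∈ I)
    simpa using this
  refine ⟨L, ⟨hLI, ?_⟩, ?_⟩
  · apply IsHausdorff.haus' (I := I)
    intro n
    rw [SModEq.zero, smul_eq_mul, Ideal.mul_top]
    obtain ⟨c, hc⟩ := Polynomial.sub_dvd_eval_sub L (a n) P
    have h1 : P.eval (a n) ∈ I ^ n := Ideal.pow_le_pow_right (Nat.le_succ n) (inv n).2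
    have h2 : P.eval L - P.eval (a n) ∈ I ^ n := by
      rw [hc]; exact Ideal.mul_mem_right _ _ (by simpa using neg_mem (hL' n))
    simpa using add_mem h2 h1
  · rintro y ⟨hy, hroot⟩
    obtain ⟨c, hc⟩ := Polynomial.exists_mul_sq_add_linear_part_eq_eval_add P L (y - L)
    rw [add_sub_cancel, hroot] at hc
    have hLroot : P.eval L = 0 := by
      apply IsHausdorff.haus' (I := I)
      intro n
      rw [SModEq.zero, smul_eq_mul, Ideal.mul_top]
      obtain ⟨c', hc'⟩ := Polynomial.sub_dvd_eval_sub L (a n) P
      have h2 : P.eval L - P.eval (a n) ∈ I ^ n := by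
        rw [hc']; exact Ideal.mul_mem_right _ _ (by simpa using neg_mem (hL' n))
      simpa using add_mem h2 (Ideal.pow_le_pow_right (Nat.le_succ n) (inv n).2)
    have h1 : (c * (y - L) + P.derivative.eval L) * (y - L) = 0 := by linear_combination hc - hLroot
    have hu : IsUnit (c * (y - L) + P.derivative.eval L) := by
      have hz : (c * (y - L) + P.derivative.eval L) * w - 1 ∈ I := by
        have : (c * (y - L) + P.derivative.eval L) * w - 1 = c * w * ((y - a₀) - (L - a₀)) + (P.derivative.eval L * w - 1) := by ring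
        rw [this]
        exact add_mem (Ideal.mul_mem_left _ _ (sub_mem hy hLI)) (hw' L hLI)
      have := Ideal.mem_jacobson_bot.mp (IsAdicComplete.le_jacobson_bot I hz) 1
      exact isUnit_of_mul_isUnit_left (y := w) (by simpa using this)
    exact sub_eq_zero.mp (hu.mul_right_eq_zero.mp h1)

end Groth.Agent.S14676
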