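import Groth.Statements.S14677
import Groth.Agent.H3CAlg.FrobSemi
import Mathlib.Algebra.Module.StablyFree.Basic
import Mathlib.RingTheory.PicardGroup
import Mathlib.RingTheory.TotallySplit

set_option autoImplicit false
universe u
open CAlg

namespace Groth.Agent.S14677

/-- Let A be a Noetherian commutative ring, I and J ideals of A and M a finitely generated A-module.
Then the map of I-adic completions induced by the inclusion of the submodule JM into M is injective
with image exactly J·M̂, where M̂ is the I-adic completion of M; that is, the completion of JM is J
times the completion of M. (The published statement does not say that A is Noetherian; its proof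
uses exactness of completion on finitely generated modules, which needs it, so this row assumes A
Noetherian.) -/
theorem result (A : Type u) [CommRing A] [IsNoetherianRing A] (I J : Ideal A)
    (M : Type u) [AddCommGroup M] [Module A M] [Module.Finite A M] :
    Function.Injective (AdicCompletion.map I (J • (⊤ : Submodule A M)).subtype) ∧
      LinearMap.range (AdicCompletion.map I (J • (⊤ : Submodule A M)).subtype) =
        (J.map (algebraMap A (AdicCompletion I A))) • (⊤ : Submodule (AdicCompletion I A) (AdicCompletion I M)) := by
  set N : Submodule A M := J • ⊤
  refine ⟨AdicCompletion.map_injective I Subtype.val_injective, ?_⟩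
  have hgen : ∀ (X : Type u) [AddCommGroup X] [Module A X] [Module.Finite A X] (z : AdicCompletion I X),
      z ∈ Submodule.span (AdicCompletion I A) (Set.range (AdicCompletion.of I X)) := by
    intro X _ _ _ z
    obtain ⟨t, rfl⟩ := (AdicCompletion.ofTensorProduct_bijective_of_finite_of_isNoetherian I X).2 z
    induction t using TensorProduct.induction_on with
    | zero => simp
    | tmul c x => rw [AdicCompletion.ofTensorProduct_tmul]; exact Submodule.smul_mem _ _ (Submodule.subset_span ⟨x, rfl⟩)
    | add p q hp hq => rw [map_add]; exact add_mem hp hq
  apply le_antisymm
  · rintro _ ⟨z, rfl⟩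
    induction hgen N z using Submodule.span_induction with
    | mem y hy =>
      obtain ⟨⟨x, hx⟩, rfl⟩ := hy
      rw [AdicCompletion.map_of, Submodule.subtype_apply]
      show AdicCompletion.of I M x ∈ _
      induction hx using Submodule.smul_induction_on' with
      | smul a ha y _ =>
        rw [map_smul, ← algebraMap_smul (AdicCompletion I A) a]
        exact Submodule.smul_mem_smul (Ideal.mem_map_of_mem _ ha) trivial
      | add a _ b _ h1 h2 => rw [map_add]; exact add_mem h1 h2
    | zero => simp
    | add a b _ _ ha hb => rw [map_add]; exact add_mem ha hb
    | smul c a _ ha => rw [map_smul]; exact Submodule.smul_mem _ _ ha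
  · rw [Submodule.smul_le, Ideal.map]
    intro c hc w _
    induction hc using Submodule.span_induction generalizing w with
    | mem c hc =>
      obtain ⟨a, ha, rfl⟩ := hc
      induction hgen M w using Submodule.span_induction with
      | mem y hy =>
        obtain ⟨x, rfl⟩ := hy
        refine ⟨AdicCompletion.of I N ⟨a • x, Submodule.smul_mem_smul ha trivial⟩, ?_⟩
        rw [AdicCompletion.map_of, Submodule.subtype_apply, algebraMap_smul, ← map_smul]
      | zero => simp
      | add p q _ _ hp hq => rw [smul_add]; exact add_mem (hp trivial) (hq trivial)
      | smul d p _ hp => rw [smul_comm]; exact Submodule.smul_mem _ _ (hp trivial)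
    | zero => simp
    | add p q _ _ hp hq => rw [add_smul]; exact add_mem (hp w trivial) (hq w trivial)
    | smul d p _ hp => rw [smul_assoc]; exact Submodule.smul_mem _ _ (hp w trivial)

end Groth.Agent.S14677
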