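import Groth.Statements.S14678
import Mathlib.AlgebraicGeometry.Morphisms.Preimmersion
import Mathlib.AlgebraicGeometry.ResidueField
import Mathlib.RingTheory.Finiteness.ModuleFinitePresentation
import Mathlib.RingTheory.Polynomial.ScaleRoots
-- import your own Groth.Agent.* helpers here

set_option autoImplicit false
universe u
open CategoryTheory CategoryTheory.Limits AlgebraicGeometry
open EtBase

namespace Groth.Agent.S14678

open Polynomial in
/-- Finite free lift of a finite field extension of a residue field. -/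
theorem exists_finite_free_lift {R K ℓ : Type u} [CommRing R] [Field K] [Field ℓ] [Algebra K ℓ]
    [Module.Finite K ℓ] (φ : R →+* K) (hφ : ∀ z : K, ∃ a b : R, φ b ≠ 0 ∧ z * φ b = φ a) :
    ∃ (R' : Type u) (_ : CommRing R') (_ : Algebra R R') (ψ : R' →+* ℓ),
      Module.Finite R R' ∧ Module.Free R R' ∧ ψ.comp (algebraMap R R') = (algebraMap K ℓ).comp φ ∧
      ∀ z : ℓ, ∃ a b : R', ψ b ≠ 0 ∧ z * ψ b = ψ a := by
  classical
  suffices h : ∀ t : Finset ℓ, ∃ (R' : Type u) (_ : CommRing R') (_ : Algebra R R') (ψ : R' →+* ℓ),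
      Module.Finite R R' ∧ Module.Free R R' ∧ ψ.comp (algebraMap R R') = (algebraMap K ℓ).comp φ ∧
      ∀ x ∈ t, ∃ a b : R', ψ b ≠ 0 ∧ x * ψ b = ψ a by
    obtain ⟨t, ht⟩ := Module.Finite.fg_top (R := K) (M := ℓ)
    obtain ⟨R', _, _, ψ, h1, h2, h3, h4⟩ := h t
    refine ⟨R', inferInstance, inferInstance, ψ, h1, h2, h3, fun z => ?_⟩
    have hz : z ∈ Submodule.span K (t : Set ℓ) := ht ▸ Submodule.mem_top
    induction hz using Submodule.span_induction with
    | mem x hx => exact h4 x hx
    | zero => exact ⟨0, 1, by rw [map_one]; exact one_ne_zero, by rw [map_zero, zero_mul]⟩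
    | add x y _ _ hx hy =>
      obtain ⟨a, b, hb, hab⟩ := hx
      obtain ⟨a', b', hb', hab'⟩ := hy
      refine ⟨a * b' + a' * b, b * b', by rw [map_mul]; exact mul_ne_zero hb hb', ?_⟩
      simp only [map_mul, map_add, ← hab, ← hab']
      ring
    | smul c x _ hx =>
      obtain ⟨a, b, hb, hab⟩ := hx
      obtain ⟨a', b', hb', hab'⟩ := hφ c
      have hc : ∀ r, ψ (algebraMap R R' r) = algebraMap K ℓ (φ r) := fun r => DFunLike.congr_fun h3 r
      refine ⟨algebraMap R R' a' * a, algebraMap R R' b' * b, by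
        rw [map_mul, hc]; exact mul_ne_zero ((_root_.map_ne_zero _).2 hb') hb, ?_⟩
      simp only [map_mul, hc, ← hab, ← hab', Algebra.smul_def]
      ring
  intro t
  induction t using Finset.induction_on with
  | empty =>
    exact ⟨R, inferInstance, Algebra.id R, (algebraMap K ℓ).comp φ, inferInstance, inferInstance,
      by rw [Algebra.algebraMap_self, RingHom.comp_id], fun x hx => absurd hx (Finset.notMem_empty x)⟩
  | insert α t _ ih =>
    obtain ⟨R', _, _, ψ, h1, h2, h3, h4⟩ := ih
    have hint : IsIntegral K α := IsIntegral.of_finite K α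
    have hpm : (minpoly K α).Monic := minpoly.monic hint
    choose a b hb hab using fun i => hφ ((minpoly K α).coeff i)
    let p := minpoly K α
    let B : R := ∏ i ∈ Finset.range p.natDegree, b i
    have hB : φ B ≠ 0 := by
      rw [map_prod]
      exact Finset.prod_ne_zero_iff.2 fun i _ => hb i
    have hlift : scaleRoots p (φ B) ∈ lifts φ := by
      rw [lifts_iff_coeff_lifts]
      intro i
      rw [coeff_scaleRoots]
      rcases lt_trichotomy i p.natDegree with hi | hi | hi
      · obtain ⟨k, hk⟩ : ∃ k, p.natDegree - i = k + 1 := ⟨p.natDegree - i - 1, by omega⟩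
        obtain ⟨d, hd⟩ : b i ∣ B := Finset.dvd_prod_of_mem _ (Finset.mem_range.2 hi)
        refine ⟨a i * d * B ^ k, ?_⟩
        rw [hk, pow_succ', map_mul, map_mul, map_pow, ← hab i]
        rw [show φ B = φ (b i) * φ d by rw [hd, map_mul]]
        ring
      · exact ⟨1, by rw [hi, Nat.sub_self, pow_zero, mul_one, map_one, hpm.coeff_natDegree]⟩
      · exact ⟨0, by rw [map_zero, coeff_eq_zero_of_natDegree_lt hi, zero_mul]⟩
    obtain ⟨G, hG, -, hGm⟩ := lifts_and_degree_eq_and_monic hlift ((monic_scaleRoots_iff _).2 hpm)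
    let G' := G.map (algebraMap R R')
    have hG'm : G'.Monic := hGm.map _
    have hroot : G'.eval₂ ψ (algebraMap K ℓ (φ B) * α) = 0 := by
      rw [eval₂_map, h3, ← eval₂_map, hG]
      exact scaleRoots_aeval_eq_zero (minpoly.aeval K α)
    haveI := hG'm.free_adjoinRoot
    haveI := hG'm.finite_adjoinRoot
    have hc : ∀ r, ψ (algebraMap R R' r) = algebraMap K ℓ (φ r) := fun r => DFunLike.congr_fun h3 r
    refine ⟨AdjoinRoot G', inferInstance, inferInstance, AdjoinRoot.lift ψ _ hroot,
      Module.Finite.trans R' _, Module.Free.trans (S := R'), ?_, ?_⟩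
    · ext r
      rw [RingHom.comp_apply, IsScalarTower.algebraMap_apply R R' (AdjoinRoot G'), AdjoinRoot.algebraMap_eq,
        AdjoinRoot.lift_of, hc]
      rfl
    · intro x hx
      rcases Finset.mem_insert.1 hx with rfl | hx
      · refine ⟨AdjoinRoot.root G', algebraMap R (AdjoinRoot G') B, ?_, ?_⟩
        all_goals rw [IsScalarTower.algebraMap_apply R R' (AdjoinRoot G'), AdjoinRoot.algebraMap_eq, AdjoinRoot.lift_of, hc]
        · exact (_root_.map_ne_zero _).2 hB
        · rw [AdjoinRoot.lift_root, mul_comm]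
      · obtain ⟨a, b, hb, hab⟩ := h4 x hx
        exact ⟨AdjoinRoot.of G' a, AdjoinRoot.of G' b, by rwa [AdjoinRoot.lift_of],
          by rwa [AdjoinRoot.lift_of, AdjoinRoot.lift_of]⟩

theorem isPreimmersion_of_fracSurj {R' ℓ : Type u} [CommRing R'] [Field ℓ] (ψ : R' →+* ℓ)
    (h : ∀ z : ℓ, ∃ a b : R', ψ b ≠ 0 ∧ z * ψ b = ψ a) :
    IsPreimmersion (Spec.map (CommRingCat.ofHom ψ)) := by
  refine IsPreimmersion.mk_SpecMap (Topology.IsEmbedding.of_subsingleton _) ?_
  intro P hP
  refine (RingHom.surjective_localRingHom_iff _).2 fun z => ?_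
  obtain ⟨a, b, hb, hab⟩ := h z
  have hP0 : P = ⊥ := (Ideal.eq_bot_or_top P).resolve_right hP.ne_top
  refine ⟨a, b, 1, fun h1 => hP.ne_top (Ideal.eq_top_iff_one P |>.2 h1), ?_, ?_⟩
  · show ψ b ∉ P
    rw [hP0, Ideal.mem_bot]
    exact hb
  · show 1 * ψ b * z = 1 * ψ a
    rw [one_mul, one_mul, mul_comm, hab]

/-- Let S be a scheme, s a point of S and ℓ a finite field extension of the residue field κ(s). Then,
fppf-locally around s, ℓ occurs as a residue field: there are an affine scheme U', a flat morphism b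
: U' ⟶ S locally of finite presentation (so with open image containing s) and a morphism t : Spec ℓ
⟶ U' over the canonical morphism Spec ℓ ⟶ Spec κ(s) ⟶ S which is a preimmersion, i.e. the inclusion
of a point s' of U' above s together with an identification of κ(s') with ℓ over κ(s); such a point
is closed in its fibre over s. (The published statement gives an affine open neighbourhood U of s
and an fppf morphism U' ⟶ U; this row asks only for a flat, locally finitely presented U' ⟶ S, whose
open image then contains s.) -/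
theorem result (S : Scheme.{u}) (s : ↥S)
    (ℓ : Type u) [Field ℓ] [Algebra (S.residueField s) ℓ] [Module.Finite (S.residueField s) ℓ] :
    ∃ (U' : Scheme.{u}) (b : U' ⟶ S) (t : Spec (CommRingCat.of ℓ) ⟶ U'),
      IsAffine U' ∧ Flat b ∧ LocallyOfFinitePresentation b ∧ IsPreimmersion t ∧
        t ≫ b = Spec.map (CommRingCat.ofHom (algebraMap (S.residueField s) ℓ)) ≫ S.fromSpecResidueField s := by
  obtain ⟨U, hU, hs, -⟩ := exists_isAffineOpen_mem_and_subset (x := s) (U := (⊤ : S.Opens)) trivial
  let φ : Γ(S, U) →+* S.residueField s := (S.presheaf.germ U s hs ≫ S.residue s).hom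
  have hφ : ∀ z : S.residueField s, ∃ a b : Γ(S, U), φ b ≠ 0 ∧ z * φ b = φ a := by
    intro z
    obtain ⟨w, rfl⟩ := S.residue_surjective s z
    letI := TopCat.Presheaf.algebra_section_stalk S.presheaf (⟨s, hs⟩ : U)
    haveI := hU.isLocalization_stalk ⟨s, hs⟩
    obtain ⟨⟨a, b⟩, hab⟩ := IsLocalization.surj (hU.primeIdealOf ⟨s, hs⟩).asIdeal.primeCompl w
    refine ⟨a, b.1, ?_, ?_⟩
    · exact ((IsLocalization.map_units (S.presheaf.stalk s) b).map (S.residue s).hom).ne_zero
    · exact (map_mul _ _ _).symm.trans (congrArg (S.residue s).hom hab)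
  obtain ⟨R', _, _, ψ, hfin, hfree, hcomm, hfrac⟩ := exists_finite_free_lift (ℓ := ℓ) φ hφ
  haveI := Module.finitePresentation_of_projective Γ(S, U) R'
  haveI : Algebra.FinitePresentation Γ(S, U) R' := inferInstance
  haveI : Flat (Spec.map (CommRingCat.ofHom (algebraMap Γ(S, U) R'))) :=
    (HasRingHomProperty.Spec_iff (P := @Flat)).2 (RingHom.flat_algebraMap_iff.2 inferInstance)
  haveI : LocallyOfFinitePresentation (Spec.map (CommRingCat.ofHom (algebraMap Γ(S, U) R'))) :=
    (HasRingHomProperty.Spec_iff (P := @LocallyOfFinitePresentation)).2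
      (RingHom.finitePresentation_algebraMap.2 inferInstance)
  refine ⟨Spec (CommRingCat.of R'), Spec.map (CommRingCat.ofHom (algebraMap Γ(S, U) R')) ≫ hU.fromSpec,
    Spec.map (CommRingCat.ofHom ψ), inferInstance, inferInstance, inferInstance,
    isPreimmersion_of_fracSurj ψ hfrac, ?_⟩
  rw [← Category.assoc, ← Spec.map_comp, ← CommRingCat.ofHom_comp, hcomm, CommRingCat.ofHom_comp,
    Spec.map_comp, Category.assoc]
  congr 1
  rw [Scheme.fromSpecResidueField, ← hU.fromSpecStalk_eq_fromSpecStalk hs, IsAffineOpen.fromSpecStalk]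
  show Spec.map (S.presheaf.germ U s hs ≫ S.residue s) ≫ hU.fromSpec = _
  rw [Spec.map_comp, Category.assoc]

end Groth.Agent.S14678
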