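import Groth.Statements.S14679
import Mathlib.AlgebraicGeometry.PullbackCarrier
-- import your own Groth.Agent.* helpers here

set_option autoImplicit false
universe u
open CategoryTheory CategoryTheory.Limits AlgebraicGeometry
open EtBase

namespace Groth.Agent.S14679

/-- Given a morphism of schemes f : X ⟶ Y and a point x ∈ X with image y = f(x), such that the residue
field map κ(y) → κ(x) is bijective; let ℓ be an algebraic extension field of κ(y) and form the base
change X ×_Y Spec ℓ along Spec ℓ ⟶ Spec κ(y) ⟶ Y. Then there is exactly one point of X ×_Y Spec ℓ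
mapping to x under the first projection. (The published statement takes ℓ to be an algebraic closure
of κ(y), noting that any algebraic extension works, and also identifies the local ring at the point
with O_{X,x} ⊗_{O_{Y,y}} ℓ; this row allows any algebraic extension ℓ and states only the first
assertion.) -/
theorem result {X Y : Scheme.{u}} (f : X ⟶ Y) (x : ↥X)
    (hx : Function.Bijective (f.residueFieldMap x).hom)
    (ℓ : Type u) [Field ℓ] [Algebra (Y.residueField (f.base x)) ℓ] [Algebra.IsAlgebraic (Y.residueField (f.base x)) ℓ] :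
    ∃! z : ↥(pullback f (Spec.map (CommRingCat.ofHom (algebraMap (Y.residueField (f.base x)) ℓ)) ≫ Y.fromSpecResidueField (f.base x))),
      (pullback.fst f (Spec.map (CommRingCat.ofHom (algebraMap (Y.residueField (f.base x)) ℓ)) ≫ Y.fromSpecResidueField (f.base x))).base z = x := by
  set g := Spec.map (CommRingCat.ofHom (algebraMap (Y.residueField (f.base x)) ℓ)) ≫ Y.fromSpecResidueField (f.base x) with hg
  haveI hiso : IsIso (f.residueFieldMap x) := (ConcreteCategory.isIso_iff_bijective _).2 hx
  have hgw : ∀ w, f x = g w := fun w => by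
    rw [hg, Scheme.Hom.comp_apply, Scheme.fromSpecResidueField_apply]
  obtain ⟨z, hz, -⟩ := Scheme.Pullback.exists_preimage_pullback (f := f) (g := g) x (default : ↥(Spec (CommRingCat.of ℓ))) (hgw _)
  refine ⟨z, hz, fun z' hz' => ?_⟩
  have hsub : ∀ T : Scheme.Pullback.Triplet f g, T.x = x → Subsingleton ↥(Spec T.tensor) := by
    intro T hTx
    haveI : IsIso (f.residueFieldMap T.x) := by rw [hTx]; exact hiso
    haveI : IsIso ((Y.residueFieldCongr T.hx).inv ≫ f.residueFieldMap T.x) := inferInstance
    haveI : IsIso T.tensorInr := pushout_inr_iso_of_left_iso _ _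
    exact ((Spec.map T.tensorInr).homeomorph).toEquiv.subsingleton
  apply Scheme.Pullback.carrierEquiv.injective
  have hT : Scheme.Pullback.Triplet.ofPoint z' = Scheme.Pullback.Triplet.ofPoint z :=
    Scheme.Pullback.Triplet.ext (hz'.trans hz.symm) (Subsingleton.elim _ _)
  haveI := hsub (Scheme.Pullback.Triplet.ofPoint z) hz
  refine Scheme.Pullback.carrierEquiv_eq_iff.2 ⟨hT, ?_⟩
  haveI : Subsingleton ↥(Spec (Scheme.Pullback.carrierEquiv z).fst.tensor) :=
    hsub (Scheme.Pullback.Triplet.ofPoint z) hz
  exact Subsingleton.elim _ _

end Groth.Agent.S14679
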