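import Groth.Statements.S14680
import Groth.Agent.H3CAlg.FrobSemi
import Mathlib.Algebra.Module.StablyFree.Basic
import Mathlib.RingTheory.PicardGroup
import Mathlib.RingTheory.TotallySplit

set_option autoImplicit false
universe u
open CAlg

namespace Groth.Agent.S14680

/-- Let A be a Noetherian commutative ring and f : M' → M, g : M → M'' linear maps between finitely
generated A-modules. Then the sequence 0 → M' → M → M'' → 0 is exact — f injective, the image of f
equal to the kernel of g, g surjective — if and only if for every maximal ideal m of A the sequence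
of m-adic completions 0 → M'^ → M^ → M''^ → 0 (maps induced by f and g) is exact in the same sense. -/
theorem result (A : Type u) [CommRing A] [IsNoetherianRing A]
    (M' M M'' : Type u) [AddCommGroup M'] [Module A M'] [AddCommGroup M] [Module A M] [AddCommGroup M''] [Module A M'']
    [Module.Finite A M'] [Module.Finite A M] [Module.Finite A M''] (f : M' →ₗ[A] M) (g : M →ₗ[A] M'') :
    (Function.Injective f ∧ Function.Exact f g ∧ Function.Surjective g) ↔
      ∀ (m : Ideal A) [m.IsMaximal],
        Function.Injective (AdicCompletion.map m f) ∧ Function.Exact (AdicCompletion.map m f) (AdicCompletion.map m g) ∧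
          Function.Surjective (AdicCompletion.map m g) := by
  have sep : ∀ (X : Type u) [AddCommGroup X] [Module A X] [Module.Finite A X] (x : X),
      (∀ (m : Ideal A) (_ : m.IsMaximal) (n : ℕ), x ∈ (m ^ n • ⊤ : Submodule A X)) → x = 0 := by
    intro X _ _ _ x hx
    by_contra hne
    obtain ⟨m, hm, hle⟩ := Ideal.exists_le_maximal (LinearMap.ker (LinearMap.toSpanSingleton A X x)) (by
      intro h
      exact hne (by simpa using (Ideal.eq_top_iff_one _).mp h))
    obtain ⟨⟨r, hr⟩, hrx⟩ := (m.mem_iInf_smul_pow_eq_bot_iff x).mp (Submodule.mem_iInf _ |>.mpr (hx m hm))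
    have : (1 - r) ∈ m := hle (by simp [sub_smul] at hrx ⊢; simp [hrx])
    exact hm.ne_top ((Ideal.eq_top_iff_one m).mpr (by simpa using add_mem this hr))
  constructor
  · rintro ⟨hf, hfg, hg⟩ m hm
    exact ⟨AdicCompletion.map_injective m hf, AdicCompletion.map_exact hf hfg hg, AdicCompletion.map_surjective m hg⟩
  · intro h
    refine ⟨?_, ?_, ?_⟩
    · rw [injective_iff_map_eq_zero]
      intro x hx
      refine sep _ x fun m hm n => ?_
      have h1 : AdicCompletion.of m M' x = 0 := (h m).1 (by rw [AdicCompletion.map_of, hx, map_zero, map_zero])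
      have h2 := congrArg (fun z => AdicCompletion.eval m M' n z) h1
      simpa [AdicCompletion.eval_of] using h2
    · intro x
      constructor
      · intro hx
        have key : (LinearMap.range f).mkQ x = 0 := sep _ _ fun m hm n => by
          have h1 : AdicCompletion.map m g (AdicCompletion.of m M x) = 0 := by rw [AdicCompletion.map_of, hx, map_zero]
          obtain ⟨y, hy⟩ := ((h m).2.1 _).mp h1
          have h2 := congrArg (fun z => AdicCompletion.eval m M n z) hy
          simp only [AdicCompletion.eval_of] at h2
          obtain ⟨y₀, hy₀⟩ := Submodule.mkQ_surjective _ (AdicCompletion.eval m M' n y)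
          rw [AdicCompletion.eval_apply, AdicCompletion.map_val_apply, ← AdicCompletion.eval_apply, ← hy₀] at h2
          have h3 : f y₀ - x ∈ (m ^ n • ⊤ : Submodule A M) := (Submodule.Quotient.eq _).mp h2
          have h4 := Submodule.mem_map_of_mem (f := (LinearMap.range f).mkQ) h3
          rw [Submodule.map_smul'', map_sub, Submodule.mkQ_apply, Submodule.mkQ_apply,
            (Submodule.Quotient.mk_eq_zero _).mpr (LinearMap.mem_range_self f y₀), zero_sub, neg_mem_iff] at h4
          exact Submodule.smul_mono le_rfl le_top h4
        obtain ⟨y, hy⟩ := (Submodule.Quotient.mk_eq_zero _).mp key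
        exact ⟨y, hy⟩
      · rintro ⟨y, rfl⟩
        refine sep _ _ fun m hm n => ?_
        have h1 := (h m).2.1.apply_apply_eq_zero (AdicCompletion.of m M' y)
        rw [AdicCompletion.map_of, AdicCompletion.map_of] at h1
        have h2 := congrArg (fun z => AdicCompletion.eval m M'' n z) h1
        simpa [AdicCompletion.eval_of] using h2
    · intro x
      have key : (LinearMap.range g).mkQ x = 0 := sep _ _ fun m hm n => by
        obtain ⟨y, hy⟩ := (h m).2.2 (AdicCompletion.of m M'' x)
        have h2 := congrArg (fun z => AdicCompletion.eval m M'' n z) hy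
        simp only [AdicCompletion.eval_of] at h2
        obtain ⟨y₀, hy₀⟩ := Submodule.mkQ_surjective _ (AdicCompletion.eval m M n y)
        rw [AdicCompletion.eval_apply, AdicCompletion.map_val_apply, ← AdicCompletion.eval_apply, ← hy₀] at h2
        have h3 : g y₀ - x ∈ (m ^ n • ⊤ : Submodule A M'') := (Submodule.Quotient.eq _).mp h2
        have h4 := Submodule.mem_map_of_mem (f := (LinearMap.range g).mkQ) h3
        rw [Submodule.map_smul'', map_sub, Submodule.mkQ_apply, Submodule.mkQ_apply,
          (Submodule.Quotient.mk_eq_zero _).mpr (LinearMap.mem_range_self g y₀), zero_sub, neg_mem_iff] at h4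
        exact Submodule.smul_mono le_rfl le_top h4
      exact (Submodule.Quotient.mk_eq_zero _).mp key

end Groth.Agent.S14680
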