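import Groth.Statements.S14681
import Groth.Agent.H25AbCube.StabAmple


set_option autoImplicit false
set_option linter.style.haveILetI false
set_option backward.isDefEq.respectTransparency false
set_option synthInstance.maxHeartbeats 200000
universe u
open CategoryTheory CategoryTheory.Limits MonoidalCategory CartesianMonoidalCategory MonObj GrpObj AlgebraicGeometry
open AbVar

namespace Groth.Agent.S14681

/-- (b) ⇒ (e): let k be an algebraically closed field, A an abelian variety over k (a proper k-group
scheme whose structure morphism is geometrically integral), D an effective Cartier divisor on A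
given by its ideal sheaf I, and L an invertible O_A-module with L ⊗ I ≅ O_A (so L = O_A(D)). Suppose
the set of k-points a of A whose translation x ↦ x·a maps each irreducible component of the support
of D onto itself is finite. Then L is ample. -/
theorem result (k : Type u) [Field k] [IsAlgClosed k]
    (A : Over (Spec (CommRingCat.of k))) [GrpObj A] [IsProper A.hom] [GeometricallyIntegral A.hom]
    (I : A.left.IdealSheafData) (hI : BlowUp.IsEffCartierIdeal I)
    (L : A.left.Modules) (hL : PicF.IsInvertible L) (hLI : ClSub.IsInverseOf L (ClSub.idealMod I))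
    (hb : Set.Finite {a : (𝟙_ (Over (Spec (CommRingCat.of k)))) ⟶ A |
      ∀ Z ∈ irreducibleComponents ↥(I.support : Set ↥A.left),
        (fun x : ↥A.left => (𝟙 A * (toUnit A ≫ a)).left.base x) '' (Subtype.val '' Z) = Subtype.val '' Z}) :
    CohB1.IsAmple L := by
  obtain ⟨M, t, hM, ht, hMI⟩ := Groth.Agent.H25AbCube.Stab.exists_section_inverse hI
  haveI : IsIntegral A.left := GeometricallyIntegral.isIntegral_of_subsingleton A.hom
  obtain ⟨e⟩ : Nonempty (M ≅ L) := Groth.Agent.H25AbCube.Stab.iso_of_inverse hM hL
    (Groth.Agent.H29Blow.isInvertible_of_isEffCartierIdeal I hI) hMI hLI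
  have hts : ((Groth.Agent.H11Ample.gen M t : A.left.Opens) : Set A.left)ᶜ = (I.support : Set A.left) := by
    rw [ht]; exact compl_compl _
  refine Groth.Agent.H11Ample.isAmple_of_iso e
    (Groth.Agent.H25AbCube.Stab.isAmple_of_finite_stab hM t
      (Groth.Agent.H25AbCube.Stab.nonempty_compl_support hI ht) ?_)
  rw [hts]
  exact hb

end Groth.Agent.S14681
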