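import Groth.Statements.S14683
import Groth.Agent.H27SekSuwa.Action

set_option autoImplicit false
universe u
open CategoryTheory AlgebraicGeometry MonoidalCategory CartesianMonoidalCategory MonObj GrpObj
open SekSuwa

namespace Groth.Agent.S14683

/-- Let R be a discrete valuation ring of characteristic zero and residue characteristic p, and let λ, μ
∈ R satisfy the divisibility condition under which the finite R-group schemes G_{λ,1} and G_{μ,1}
(the kernels of the isogenies ψ of the one-parameter groups with law s + t + λst, resp. μ) are
defined. Then every action of G_{μ,1} on G_{λ,1} by group automorphisms is trivial: for every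
R-scheme T and all T-valued points g of G_{μ,1} and x of G_{λ,1}, g · x = x. An action by group
automorphisms is an action of the group scheme G_{μ,1} on the scheme G_{λ,1} whose action map is
multiplicative in the second variable on points. (The published statement is made under standing
assumptions that R contains a primitive p²-th root of unity and that λ, μ have positive valuation;
this row drops both, which the argument does not use.) -/
theorem result (R : Type u) [CommRing R] [IsDomain R] [IsDiscreteValuationRing R] [CharZero R]
    (p : ℕ) [Fact p.Prime] [CharP (IsLocalRing.ResidueField R) p]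
    (lam mu : R) (h₁ : SekSuwa.DivCond lam p) (h₂ : SekSuwa.DivCond mu p)
    (a : AlgGrp.Action (SekSuwa.GK R mu p h₂) (SekSuwa.GK R lam p h₁))
    (hmul : ∀ (T : Over (Spec (CommRingCat.of R))) (g : T ⟶ SekSuwa.GK R mu p h₂)
      (x y : T ⟶ SekSuwa.GK R lam p h₁), lift g (x * y) ≫ a.act = (lift g x ≫ a.act) * (lift g y ≫ a.act))
    (T : Over (Spec (CommRingCat.of R))) (g : T ⟶ SekSuwa.GK R mu p h₂) (x : T ⟶ SekSuwa.GK R lam p h₁) :
    lift g x ≫ a.act = x := by
  rw [Groth.Agent.H27SekSuwa.act_eq_snd h₁ h₂ a hmul, lift_snd]

end Groth.Agent.S14683
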