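import Groth.Statements.S14685
import Groth.Agent.H27SekSuwa.SchemeOrder

set_option autoImplicit false
universe u
open CategoryTheory AlgebraicGeometry
open SekSuwa

namespace Groth.Agent.S14685

/-- Let R be a discrete valuation ring of characteristic zero and residue characteristic p containing a
primitive p-th root of unity, with fraction field K, and let G be a finite flat R-group scheme whose
generic fibre is isomorphic, as a K-group scheme, to the constant group ℤ/pℤ. Then G is isomorphic
as an R-group scheme to G_{λ,1} = Spec R[T]/(((1 + λT)^p − 1)/λ^p) (the kernel of the isogeny ψ on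
the one-parameter group with law s + t + λst) for some nonzero λ ∈ R for which that polynomial has
coefficients in R. -/
theorem result (R : Type u) [CommRing R] [IsDomain R] [IsDiscreteValuationRing R] [CharZero R]
    (p : ℕ) [Fact p.Prime] [CharP (IsLocalRing.ResidueField R) p]
    (ζ : R) (hζ : IsPrimitiveRoot ζ p)
    (G : Over (Spec (CommRingCat.of R))) [GrpObj G] [IsFinite G.hom] [Flat G.hom]
    (e : Red.bc (Spec.map (CommRingCat.ofHom (algebraMap R (FractionRing R)))) G ≅ TwC.const (Spec (CommRingCat.of (FractionRing R))) (Multiplicative (ZMod p)))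
    (he : TwC.IsConstGrp (Multiplicative (ZMod p)) (Red.bc (Spec.map (CommRingCat.ofHom (algebraMap R (FractionRing R)))) G) e) :
    ∃ (lam : R) (h : SekSuwa.DivCond lam p), lam ≠ 0 ∧ Nonempty (Grp.mk G ≅ Grp.mk (SekSuwa.GK R lam p h)) := by
  exact H27SekSuwa.classify_grp hζ G e he

end Groth.Agent.S14685
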