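import Groth.Statements.S14686
import Groth.Agent.H27SekSuwa.ExtensionScheme

set_option autoImplicit false
universe u
open CategoryTheory AlgebraicGeometry
open SekSuwa

namespace Groth.Agent.S14686

/-- Let R be a discrete valuation ring of characteristic zero and residue characteristic p containing a
primitive p²-th root of unity, with fraction field K, and let G be a finite flat R-group scheme of
order p² (finite locally free of degree p² over Spec R) whose generic fibre is a constant K-group
scheme (so the underlying group has order p²). Then G is an extension of G_{μ,1} by G_{λ,1} for some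
nonzero λ, μ ∈ R satisfying the divisibility condition defining these kernels: there are
homomorphisms of R-group schemes G_{λ,1} → G and G → G_{μ,1} whose composite is trivial, with G a
pseudo-torsor under G_{λ,1} over G_{μ,1} and G → G_{μ,1} admitting sections locally for the fppf
topology. -/
theorem result (R : Type u) [CommRing R] [IsDomain R] [IsDiscreteValuationRing R] [CharZero R]
    (p : ℕ) [Fact p.Prime] [CharP (IsLocalRing.ResidueField R) p]
    (ζ : R) (hζ : IsPrimitiveRoot ζ (p ^ 2))
    (G : Over (Spec (CommRingCat.of R))) [GrpObj G] (hG : Mor2.IsFinLocFreeOfDeg (p ^ 2) G.hom)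
    (M : Type) [Group M] [Finite M]
    (e : Red.bc (Spec.map (CommRingCat.ofHom (algebraMap R (FractionRing R)))) G ≅ TwC.const (Spec (CommRingCat.of (FractionRing R))) M)
    (he : TwC.IsConstGrp M (Red.bc (Spec.map (CommRingCat.ofHom (algebraMap R (FractionRing R)))) G) e) :
    ∃ (lam mu : R) (h₁ : SekSuwa.DivCond lam p) (h₂ : SekSuwa.DivCond mu p)
      (u : SekSuwa.GK R lam p h₁ ⟶ G) (v : G ⟶ SekSuwa.GK R mu p h₂),
      lam ≠ 0 ∧ mu ≠ 0 ∧ NonAbH1.IsExactSeq Scheme.fppfPrecoverage u v := by
  classical
  haveI : IsFinite G.hom := hG.1.1
  haveI : Flat G.hom := hG.1.2.1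
  haveI : Fintype M := Fintype.ofFinite M
  obtain ⟨B, _, _, _, _, ⟨iG⟩⟩ := H27SekSuwa.exists_algebra G
  obtain ⟨D, -, -⟩ := H27SekSuwa.exists_gModel G iG e he
  haveI : IsIso iG.hom.left := inferInstanceAs (IsIso ((Over.forget _).map iG.hom))
  have h1 : Module.finrank R B = p ^ 2 := by
    have h := hG.2 (IsLocalRing.closedPoint R)
    rw [← Scheme.Hom.finrank_comp_left_of_isIso iG.hom.left, Over.w iG.hom] at h
    erw [Scheme.Hom.finrank_SpecMap_algebraMap] at h
    rwa [Module.rankAtStalk_eq_finrank_of_free] at h
  have h2 : Module.finrank R B = Nat.card M := by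
    let J : B →ₗ[R] (M → R) := LinearMap.pi fun i => (D.φ i).toLinearMap
    have hJ : Function.Injective J := (injective_iff_map_eq_zero J).mpr fun z hz =>
      D.sep z fun i => congrFun hz i
    let I : (M → R) →ₗ[R] B := Fintype.linearCombination R D.b
    have hI : Function.Injective I := (injective_iff_map_eq_zero I).mpr fun v hv => by
      funext j
      have h := congrArg (D.φ j) hv
      simp only [I, Fintype.linearCombination_apply, map_sum, map_smul, D.φ_b, smul_eq_mul, mul_ite,
        mul_zero, Finset.sum_ite_eq, Finset.mem_univ, if_true, map_zero] at h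
      exact (mul_eq_zero.mp h).resolve_right D.c_ne
    have a := LinearMap.finrank_le_finrank_of_injective hJ
    have b := LinearMap.finrank_le_finrank_of_injective hI
    rw [Module.finrank_fintype_fun_eq_card, ← Nat.card_eq_fintype_card] at a b
    omega
  exact H27SekSuwa.exists_exactSeq (hζ.pow (pow_pos (Fact.out : p.Prime).pos 2) (sq p)) G (h2.symm.trans h1) e he

end Groth.Agent.S14686
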