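import Groth.Statements.S14695
import Groth.Agent.H18Torsor.NormalSection
import Mathlib.AlgebraicGeometry.Morphisms.LocalFlatDescent

set_option autoImplicit false
universe u
open CategoryTheory AlgebraicGeometry
open NonAbH1

namespace Groth.Agent.S14695

/-- In the case where the morphism Y → X is the identity of X: let X be a normal integral scheme
(integral, with every local ring an integrally closed domain), G and G' X-group schemes which are
finite and flat over X, and g : G → G' a homomorphism which becomes an isomorphism after base change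
to the spectrum of the function field of X. If an fppf G-torsor P over X becomes trivial after
extension of the structure group along g — there is an fppf G'-torsor P' over X with a g-equivariant
X-morphism P → P', and P' has a section over X — then P has a section over X. (The published
statement takes G, G' commutative and all schemes Noetherian, allows also composition with the
pull-back along a morphism Y → X admitting a rational section, and is phrased as injectivity of
H¹(X, G) → H¹(Y, G'_Y); this row is the case where Y → X is the identity of X, as the trivial-kernel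
assertion the argument establishes, for which commutativity and the Noetherian condition are not
needed.) -/
theorem result {X : Scheme.{u}} [IsIntegral X]
    (hX : Pi1.IsNormalScheme X) (G G' : Over X) [GrpObj G] [GrpObj G']
    [IsFinite G.hom] [Flat G.hom] [IsFinite G'.hom] [Flat G'.hom]
    (g : G ⟶ G') [IsMonHom g]
    (hg : IsIso ((Over.pullback (X.fromSpecStalk (genericPoint X))).map g))
    (P : Over X) (a : AlgGrp.Action G P) (hP : NonAbH1.IsTorsorFor Scheme.fppfPrecoverage a)
    (P' : Over X) (a' : AlgGrp.Action G' P') (hP' : NonAbH1.IsTorsorFor Scheme.fppfPrecoverage a')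
    (hpush : NonAbH1.IsPushforwardAlongSch g a a') (htriv : NonAbH1.HasSectionOver P' (𝟙 X)) :
    NonAbH1.HasSectionOver P (𝟙 X) := by
  open CartesianMonoidalCategory MonoidalCategory in
  have h' : NonAbH1.IsTorsorFor Scheme.fpqcPrecoverage a :=
    ⟨hP.1, hP.2.choose, Scheme.fppfPrecoverage_le_fpqcPrecoverage _ hP.2.choose_spec.1, hP.2.choose_spec.2⟩
  haveI : IsFinite P.hom := H18Torsor.property_of_isTorsorFor a @IsFinite h' inferInstance
  let T : Over X := Over.mk (X.fromSpecStalk (genericPoint X))
  obtain ⟨hps, R, hR, hsec⟩ := h'
  obtain ⟨f, hf⟩ := hpush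
  have hfg : ∀ {W : Over X} (c : W ⟶ G) (x : W ⟶ P),
      H18Torsor.smul a c x ≫ f = H18Torsor.smul a' (c ≫ g) (x ≫ f) := by
    intro W c x
    simp only [H18Torsor.smul, Category.assoc]
    rw [hf, ← Category.assoc]
    refine congrArg (· ≫ a'.act) ?_
    apply CartesianMonoidalCategory.hom_ext <;> simp
  haveI hgT : IsIso (g ▷ T) := by
    have e : (g ▷ T).left = ((Over.pullback (X.fromSpecStalk (genericPoint X))).map g).left := by
      refine Limits.pullback.hom_ext ?_ ?_
      · exact (congrArg CommaMorphism.left (whiskerRight_fst g T)).trans (Limits.pullback.lift_fst _ _ _).symm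
      · exact (congrArg CommaMorphism.left (whiskerRight_snd g T)).trans (Limits.pullback.lift_snd _ _ _).symm
    haveI := hg
    haveI : IsIso ((Over.forget X).map (g ▷ T)) := by
      show IsIso (g ▷ T).left
      rw [e]
      exact Functor.map_isIso (Over.forget _) ((Over.pullback (X.fromSpecStalk (genericPoint X))).map g)
    exact isIso_of_reflects_iso _ (Over.forget X)
  haveI : IsIso (f ▷ T) := by
    refine H18Torsor.isIso_of_bijective R hR _ fun W hW => ?_
    obtain ⟨S', k, m, hm, hk⟩ := hW
    obtain ⟨s, hs⟩ := hsec m hm
    let t : W ⟶ P := Over.homMk (k ≫ s) (by rw [Category.assoc, hs, hk])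
    refine ⟨fun z₁ z₂ e => ?_, fun z => ?_⟩
    · dsimp only at e
      have e1 := congrArg (· ≫ fst P' T) e
      have e2 := congrArg (· ≫ snd P' T) e
      simp only [Category.assoc, whiskerRight_fst, whiskerRight_snd] at e1 e2
      apply CartesianMonoidalCategory.hom_ext _ _ ?_ e2
      obtain ⟨c₁, hc₁, -⟩ := H18Torsor.existsUnique_smul a hps t (z₁ ≫ fst P T)
      obtain ⟨c₂, hc₂, -⟩ := H18Torsor.existsUnique_smul a hps t (z₂ ≫ fst P T)
      simp only [← Category.assoc] at e1
      rw [← hc₁, ← hc₂, hfg, hfg] at e1
      have h3 := (H18Torsor.existsUnique_smul a' hP'.1 (t ≫ f) _).unique e1 rfl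
      have h4 : lift c₁ (z₁ ≫ snd P T) ≫ (g ▷ T) = lift c₂ (z₁ ≫ snd P T) ≫ (g ▷ T) := by
        apply CartesianMonoidalCategory.hom_ext <;> simp [h3]
      have h5 := congrArg (· ≫ fst G T) ((cancel_mono (g ▷ T)).mp h4)
      simp only [lift_fst] at h5
      rw [← hc₁, ← hc₂, h5]
    · obtain ⟨c', hc', -⟩ := H18Torsor.existsUnique_smul a' hP'.1 (t ≫ f) (z ≫ fst P' T)
      let c : W ⟶ G := lift c' (z ≫ snd P' T) ≫ CategoryTheory.inv (g ▷ T) ≫ fst G T
      have hc : c ≫ g = c' := by
        simp only [c, Category.assoc]
        rw [← whiskerRight_fst g T, IsIso.inv_hom_id_assoc, lift_fst]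
      refine ⟨lift (H18Torsor.smul a c t) (z ≫ snd P' T), ?_⟩
      apply CartesianMonoidalCategory.hom_ext
      · simp only [Category.assoc, whiskerRight_fst, lift_fst_assoc, hfg, hc, hc']
      · simp
  obtain ⟨s', hs'⟩ := htriv
  let sT : T ⟶ P' := Over.homMk (T.hom ≫ s') (by rw [Category.assoc, hs']; exact Category.comp_id _)
  let x : T ⟶ P := lift sT (𝟙 T) ≫ CategoryTheory.inv (f ▷ T) ≫ fst P T
  exact H18Torsor.exists_section_of_generic hX P.hom x.left (Over.w x)

end Groth.Agent.S14695
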