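import Groth.Statements.S14688
import Groth.Agent.H27SekSuwa.AlphaGeneric
import Groth.Agent.S14695

set_option autoImplicit false
universe u
open CategoryTheory AlgebraicGeometry
open SekSuwa

namespace Groth.Agent.S14688

/-- Let R be a discrete valuation ring of characteristic zero and residue characteristic p, n ≥ 1, λ ∈ R
satisfying the divisibility condition under which the finite flat R-group scheme G_{λ,n} (the kernel
of ψ on the one-parameter group with law s + t + λst, of order p^n) and its homomorphism α^{λ,n} to
μ_{p^n} are defined, and X a normal integral scheme which is faithfully flat over Spec R. If an fppf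
torsor P over X under G_{λ,n} becomes trivial after extension of the structure group along α^{λ,n} —
there is an fppf μ_{p^n}-torsor P' over X with an α^{λ,n}-equivariant X-morphism P → P', and P' has
a section over X — then P has a section over X. So H¹(X, G_{λ,n}) → H¹(X, μ_{p^n}) has trivial
kernel, and the groups H¹(X, G_{π^i,n}) for decreasing i form an increasing filtration of H¹(X,
μ_{p^n}). (The published statement is the filtration itself, for the commutative groups in question
injectivity of these homomorphisms; the trivial-kernel assertion stated here is what the argument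
establishes.) -/
theorem result (R : Type u) [CommRing R] [IsDomain R] [IsDiscreteValuationRing R] [CharZero R]
    (p : ℕ) [Fact p.Prime] [CharP (IsLocalRing.ResidueField R) p]
    (n : ℕ) (hn : 0 < n) (lam : R) (h : SekSuwa.DivCond lam (p ^ n))
    (X : Scheme.{u}) [IsIntegral X] (hX : Pi1.IsNormalScheme X)
    (f : X ⟶ Spec (CommRingCat.of R)) [Flat f] [Surjective f]
    (P : Over X) (a : AlgGrp.Action (Red.bc f (SekSuwa.GK R lam (p ^ n) h)) P)
    (hP : NonAbH1.IsTorsorFor Scheme.fppfPrecoverage a)
    (P' : Over X) (a' : AlgGrp.Action (Red.bc f (Red.diag R (ZMod (p ^ n)))) P')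
    (hP' : NonAbH1.IsTorsorFor Scheme.fppfPrecoverage a')
    (hpush : NonAbH1.IsPushforwardAlongSch ((Over.pullback f).map (SekSuwa.alphaN R lam (p ^ n) h)) a a')
    (htriv : NonAbH1.HasSectionOver P' (𝟙 X)) :
    NonAbH1.HasSectionOver P (𝟙 X) := by
  classical
  haveI : Fact (0 < p ^ n) := ⟨pow_pos (Fact.out : p.Prime).pos n⟩
  haveI : NeZero (p ^ n) := ⟨(pow_pos (Fact.out : p.Prime).pos n).ne'⟩
  have hN : 0 < p ^ n := pow_pos (Fact.out : p.Prime).pos n
  obtain ⟨b, -⟩ := H27SekSuwa.exists_basis h hN
  haveI : Module.Finite R (SekSuwa.AK R lam (p ^ n) h) := Module.Finite.of_basis b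
  haveI : Module.Free R (SekSuwa.AK R lam (p ^ n) h) := Module.Free.of_basis b
  haveI : Module.Finite R (MonoidAlgebra R (Multiplicative (ZMod (p ^ n)))) :=
    Module.Finite.of_basis (MonoidAlgebra.basis _ R)
  obtain ⟨i1, i2⟩ := H27SekSuwa.finite_flat_SR (R := R) (SekSuwa.AK R lam (p ^ n) h)
  obtain ⟨i3, i4⟩ := H27SekSuwa.finite_flat_SR (R := R) (MonoidAlgebra R (Multiplicative (ZMod (p ^ n))))
  haveI : IsFinite (Red.bc f (SekSuwa.GK R lam (p ^ n) h)).hom := MorphismProperty.pullback_snd _ _ i1
  haveI : Flat (Red.bc f (SekSuwa.GK R lam (p ^ n) h)).hom := MorphismProperty.pullback_snd _ _ i2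
  haveI : IsFinite (Red.bc f (Red.diag R (ZMod (p ^ n)))).hom := MorphismProperty.pullback_snd _ _ i3
  haveI : Flat (Red.bc f (Red.diag R (ZMod (p ^ n)))).hom := MorphismProperty.pullback_snd _ _ i4
  haveI : IsMonHom ((Over.pullback f).map (SekSuwa.alphaN R lam (p ^ n) h)) := inferInstance
  refine S14695.result hX _ _ ((Over.pullback f).map (SekSuwa.alphaN R lam (p ^ n) h)) ?_ P a hP P' a' hP' hpush htriv
  let η := X.fromSpecStalk (genericPoint X)
  obtain ⟨φ, hφ⟩ := Spec.map_surjective (η ≫ f)
  letI : Algebra R X.functionField := φ.hom.toAlgebra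
  have hgen : f (genericPoint X) = (⊥ : PrimeSpectrum R) := by
    obtain ⟨x, hx⟩ := f.surjective (⊥ : PrimeSpectrum R)
    have h1 : f (genericPoint X) ⤳ f x :=
      (genericPoint_specializes x).map f.continuous
    rw [hx] at h1
    have h2 : @LE.le (PrimeSpectrum R) _ (f (genericPoint X)) (⊥ : PrimeSpectrum R) :=
      (PrimeSpectrum.le_iff_specializes (R := R) (f (genericPoint X)) ⊥).mpr h1
    exact @le_bot_iff (PrimeSpectrum R) _ _ _ |>.mp h2
  have hl : algebraMap R X.functionField lam ≠ 0 := by
    intro h0
    have h1 : Spec.map φ (IsLocalRing.closedPoint X.functionField) = (⊥ : PrimeSpectrum R) := by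
      rw [hφ, Scheme.Hom.comp_apply]
      erw [Scheme.fromSpecStalk_closedPoint]
      exact hgen
    have h2 : lam ∈ (Spec.map φ (IsLocalRing.closedPoint X.functionField) : PrimeSpectrum R).asIdeal := by
      show φ.hom lam ∈ IsLocalRing.maximalIdeal X.functionField
      exact h0 ▸ zero_mem _
    rw [h1] at h2
    exact nonZeroDivisors.ne_zero h.nzd (Ideal.mem_bot.mp h2)
  have key := H27SekSuwa.isIso_alphaN_pullback hN h X.functionField hl
  rw [show Spec.map (CommRingCat.ofHom (algebraMap R X.functionField)) = η ≫ f from hφ] at key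
  exact (NatIso.isIso_map_iff (Over.pullbackComp η f) _).mp key

end Groth.Agent.S14688
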