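import Groth.Statements.S14690
import Groth.Agent.H27SekSuwa.FromBase

set_option autoImplicit false
universe u
open CategoryTheory AlgebraicGeometry MonoidalCategory
open SekSuwa

namespace Groth.Agent.S14690

/-- Let R be a discrete valuation ring of characteristic zero and residue characteristic p with perfect
residue field k, n ≥ 1, λ ∈ R satisfying the divisibility condition under which the finite flat
R-group scheme G_{λ,n} (of order p^n, the kernel of ψ on the one-parameter group with law s + t +
λst) and its homomorphism α^{λ,n} to μ_{p^n} are defined, and X a locally Noetherian normal integral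
scheme, faithfully flat over Spec R, with reduced special fibre X ×_R k. Let P be an fppf torsor
over X under G_{λ,n} and P' an fppf μ_{p^n}-torsor over X with an α^{λ,n}-equivariant X-morphism P →
P'. If P' is equivariantly isomorphic to the pullback to X of some fppf μ_{p^n}-torsor over Spec R
(pulled-back scheme with the pulled-back action), then P is equivariantly isomorphic to the pullback
to X of some fppf G_{λ,n}-torsor over Spec R. So the map H¹(X, G_{λ,n})/H¹(R, G_{λ,n}) → H¹(X,
μ_{p^n})/H¹(R, μ_{p^n}) has trivial kernel, giving the filtration of H¹(X, μ_{p^n})/H¹(R, μ_{p^n})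
by the H¹(X, G_{π^i,n})/H¹(R, G_{π^i,n}). (The published statement is that filtration, for the
commutative groups in question injectivity of these homomorphisms; the trivial-kernel assertion
stated here is what the argument establishes. X is taken locally Noetherian; the published statement
assumes all schemes Noetherian, and the argument uses the Krull intersection property ⋂ₙ πⁿA = 0 on
affine opens.) -/
theorem result (R : Type u) [CommRing R] [IsDomain R] [IsDiscreteValuationRing R] [CharZero R]
    (p : ℕ) [Fact p.Prime] [CharP (IsLocalRing.ResidueField R) p]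
    [PerfectField (IsLocalRing.ResidueField R)]
    (n : ℕ) (hn : 0 < n) (lam : R) (h : SekSuwa.DivCond lam (p ^ n))
    (X : Scheme.{u}) [IsIntegral X] [IsLocallyNoetherian X] (hX : Pi1.IsNormalScheme X)
    (f : X ⟶ Spec (CommRingCat.of R)) [Flat f] [Surjective f]
    [IsReduced (Limits.pullback f (Spec.map (CommRingCat.ofHom (IsLocalRing.residue R))))]
    (P : Over X) (a : AlgGrp.Action (Red.bc f (SekSuwa.GK R lam (p ^ n) h)) P)
    (hP : NonAbH1.IsTorsorFor Scheme.fppfPrecoverage a)
    (P' : Over X) (a' : AlgGrp.Action (Red.bc f (Red.diag R (ZMod (p ^ n)))) P')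
    (hP' : NonAbH1.IsTorsorFor Scheme.fppfPrecoverage a')
    (hpush : NonAbH1.IsPushforwardAlongSch ((Over.pullback f).map (SekSuwa.alphaN R lam (p ^ n) h)) a a')
    (Q' : Over (Spec (CommRingCat.of R))) (b' : AlgGrp.Action (Red.diag R (ZMod (p ^ n))) Q')
    (hQ' : NonAbH1.IsTorsorFor Scheme.fppfPrecoverage b')
    (i' : P' ≅ Red.bc f Q')
    (hi' : a'.act ≫ i'.hom = (Red.bc f (Red.diag R (ZMod (p ^ n))) ◁ i'.hom) ≫
      Functor.LaxMonoidal.μ (Over.pullback f) (Red.diag R (ZMod (p ^ n))) Q' ≫ (Over.pullback f).map b'.act) :
    ∃ (Q : Over (Spec (CommRingCat.of R))) (b : AlgGrp.Action (SekSuwa.GK R lam (p ^ n) h) Q)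
      (i : P ≅ Red.bc f Q), NonAbH1.IsTorsorFor Scheme.fppfPrecoverage b ∧
      a.act ≫ i.hom = (Red.bc f (SekSuwa.GK R lam (p ^ n) h) ◁ i.hom) ≫
        Functor.LaxMonoidal.μ (Over.pullback f) (SekSuwa.GK R lam (p ^ n) h) Q ≫ (Over.pullback f).map b.act := by
  exact Groth.Agent.H27SekSuwa.exists_GK_torsor_of_push p n lam h f P a hP P' a' hpush Q' b' hQ' i' hi'

end Groth.Agent.S14690
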