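import Groth.Statements.S14692
import Groth.Agent.H3CAlg.KummerCongr
import Mathlib.Tactic.LinearCombination
import Mathlib.Tactic.Ring

set_option autoImplicit false
universe u
open CAlg

namespace Groth.Agent.S14692

/-- Let R be a discrete valuation ring of characteristic zero and residue characteristic p, with
uniformizer π and a primitive p^n-th root of unity ζ (n ≥ 1), and A a Noetherian integrally closed
domain which is a faithfully flat R-algebra, in which πA is a prime ideal and every element that is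
a unit modulo π is a unit (as when A is π-adically complete, or local). Let f, g be units of A, j a
natural number with π^{p^{n−1}(p−1)(j+1)} dividing p (that is, j is less than the valuation of ζ −
1, so that the polynomials ((1 + π^{j}T)^{p^n} − 1)/π^{jp^n} and ((1 + π^{j+1}T)^{p^n} −
1)/π^{(j+1)p^n} have coefficients in R), and f₀ ∈ A with f·g^{p^n} = 1 + π^{j p^n}·f₀; suppose j is
maximal with this property: there is no unit g' of A with f·g'^{p^n} ≡ 1 modulo π^{(j+1)p^n}.
Suppose moreover that the algebra L = A[1/π][Z]/(Z^{p^n} − f) is an integral domain (the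
μ_{p^n}-torsor Z^{p^n} = f is connected on the generic fibre) and that, B denoting the integral
closure of A in L (the normalization of Spec A in that cover), the ideal πB is radical (the
normalization has reduced special fibre). Then f₀ is not congruent modulo πA to a p^n-th power. (The
published statement phrases the hypothesis on j as: the class of the torsor Z^{p^n} = f lies in
H¹(Spec A, G_{π^j,n}) and not in H¹(Spec A, G_{π^{j+1},n}); the conditions on g and g' are its
ring-theoretic form, which is the first assertion of the same lemma; A is there factorial and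
π-adically complete, or normal local, which this row keeps only through the consequences used:
integrally closed, and units lift modulo π.) -/
theorem result
    (R : Type u) [CommRing R] [IsDomain R] [IsDiscreteValuationRing R] [CharZero R]
    (p : ℕ) [Fact p.Prime] [CharP (IsLocalRing.ResidueField R) p] (ϖ : R) (hϖ : Irreducible ϖ)
    (n : ℕ) (hn : 0 < n) (ζ : R) (hζ : IsPrimitiveRoot ζ (p ^ n))
    (A : Type u) [CommRing A] [IsDomain A] [IsNoetherianRing A] [IsIntegrallyClosed A] [Algebra R A]
    [Module.FaithfullyFlat R A]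
    (hprime : (Ideal.span {algebraMap R A ϖ}).IsPrime)
    (hlift : ∀ a : A, IsUnit (Ideal.Quotient.mk (Ideal.span {algebraMap R A ϖ}) a) → IsUnit a)
    (f g : Aˣ) (j : ℕ) (hj : ϖ ^ (p ^ (n - 1) * (p - 1) * (j + 1)) ∣ (p : R)) (f₀ : A)
    (hfg : (f : A) * (g : A) ^ (p ^ n) = 1 + (algebraMap R A ϖ) ^ (j * p ^ n) * f₀)
    (hmax : ∀ (g' : Aˣ) (c : A), (f : A) * (g' : A) ^ (p ^ n) ≠ 1 + (algebraMap R A ϖ) ^ ((j + 1) * p ^ n) * c)
    [IsDomain (AdjoinRoot (Polynomial.X ^ (p ^ n) - Polynomial.C (algebraMap A (Localization.Away (algebraMap R A ϖ)) (f : A))))]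
    (hred : (Ideal.span {algebraMap A (integralClosure A (AdjoinRoot (Polynomial.X ^ (p ^ n) - Polynomial.C (algebraMap A (Localization.Away (algebraMap R A ϖ)) (f : A))))) (algebraMap R A ϖ)}).IsRadical)
    (g₀ : A) : f₀ - g₀ ^ (p ^ n) ∉ Ideal.span {(algebraMap R A ϖ)} := by
  classical
  have hp : p.Prime := Fact.out
  intro hmem
  obtain ⟨a₀, ha₀⟩ := Ideal.mem_span_singleton'.mp hmem
  let u := algebraMap R A ϖ
  let N := p ^ n
  let Aw := Localization.Away u
  let L := AdjoinRoot (Polynomial.X ^ (p ^ n) - Polynomial.C (algebraMap A Aw (f : A)))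
  have hinjR : Function.Injective (algebraMap R A) := FaithfulSMul.algebraMap_injective R A
  have hu0 : u ≠ 0 := fun h => hϖ.ne_zero (hinjR (h.trans (map_zero _).symm))
  have hle : Submonoid.powers u ≤ nonZeroDivisors A :=
    Submonoid.powers_le.mpr (mem_nonZeroDivisors_of_ne_zero hu0)
  have hinjAw : Function.Injective (algebraMap A Aw) := IsLocalization.injective Aw hle
  haveI : IsDomain Aw := IsLocalization.isDomain_localization hle
  have hpn : 0 < p ^ n := pow_pos hp.pos n
  have hinjL : Function.Injective (algebraMap Aw L) := AdjoinRoot.of.injective_of_degree_ne_zero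
    (by rw [Polynomial.degree_X_pow_sub_C hpn]; exact_mod_cast hpn.ne')
  have htower : ∀ a, algebraMap A L a = algebraMap Aw L (algebraMap A Aw a) := fun a =>
    IsScalarTower.algebraMap_apply A Aw L a
  have hinjAL : Function.Injective (algebraMap A L) := fun a b h => hinjAw (hinjL (by rwa [← htower, ← htower]))
  have huL : IsUnit (algebraMap A L u) := by
    rw [htower]; exact (IsLocalization.Away.algebraMap_isUnit u).map _
  -- divisibility of `p`
  have hbase : u ^ (p ^ (n - 1) * (p - 1) * (j + 1)) ∣ (p : A) := by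
    rw [← map_pow, ← map_natCast (algebraMap R A)]; exact map_dvd _ hj
  have hexp : ∀ i < n, p ^ i * (p - 1) ≤ p ^ (n - 1) * (p - 1) := fun i hi =>
    Nat.mul_le_mul_right _ (Nat.pow_le_pow_right hp.pos (by omega))
  have hd1 : ∀ i < n, (u ^ (j + 1)) ^ (p ^ i * (p - 1)) ∣ (p : A) := fun i hi => by
    rw [← pow_mul, mul_comm (j + 1)]
    exact (pow_dvd_pow u (Nat.mul_le_mul_right _ (hexp i hi))).trans hbase
  have hd2 : ∀ i < n, (u ^ j) ^ (p ^ i * (p - 1)) * u ∣ (p : A) := fun i hi => by
    rw [← pow_mul, ← pow_succ]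
    refine (pow_dvd_pow u ?_).trans hbase
    have h1 : 1 ≤ p ^ i * (p - 1) := Nat.mul_pos (pow_pos hp.pos i) (Nat.sub_pos_of_lt hp.one_lt)
    calc j * (p ^ i * (p - 1)) + 1 ≤ (p ^ i * (p - 1)) * (j + 1) := by rw [mul_add, mul_one, mul_comm j]; omega
      _ ≤ _ := Nat.mul_le_mul_right _ (hexp i hi)
  have hup : u ∣ (p : A) := (dvd_pow_self u (Nat.mul_pos (Nat.mul_pos (pow_pos hp.pos _) (Nat.sub_pos_of_lt hp.one_lt)) j.succ_pos).ne').trans hbase
  -- the root
  let y : L := AdjoinRoot.root _
  have hy : y ^ (p ^ n) = algebraMap A L (f : A) := by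
    rw [htower]
    have h := AdjoinRoot.eval₂_root (Polynomial.X ^ (p ^ n) - Polynomial.C (algebraMap A Aw (f : A)))
    rw [Polynomial.eval₂_sub, Polynomial.eval₂_X_pow, Polynomial.eval₂_C, sub_eq_zero] at h
    exact h
  let x : L := y * algebraMap A L (g : A)
  have hx : x ^ p ^ n = 1 + algebraMap A L (u ^ j) ^ p ^ n * algebraMap A L f₀ := by
    rw [mul_pow, hy, ← map_pow, ← map_mul, hfg]
    simp only [u, map_add, map_one, map_mul, map_pow, ← pow_mul]
  obtain ⟨z, hz, hxz⟩ := Groth.Agent.H3CAlg.KummerCongr.bwd (A := A) (p := p) (lam := u ^ j)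
    (by rw [map_pow]; exact huL.pow j) n (fun i hi => (dvd_mul_right _ u).trans (hd2 i hi))
    isIntegral_algebraMap hx
  obtain ⟨c, d, hc, hd, hcd, hx'⟩ := Groth.Agent.H3CAlg.KummerCongr.fwd (A := A) (p := p) (lam := u ^ j) (μ := u)
    hup n hd2 hz
  rw [← hxz, hx, add_right_inj, (show IsUnit (algebraMap A L (u ^ j) ^ p ^ n) from by rw [map_pow]; exact (huL.pow j).pow _).mul_right_inj] at hx'
  -- `z ≡ g₀` by reducedness
  let B := integralClosure A L
  let zB : B := ⟨z, hz⟩
  let gB : B := algebraMap A B g₀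
  let uB : B := algebraMap A B u
  obtain ⟨r, hr⟩ := exists_add_pow_prime_pow_eq hp (zB - gB) gB n
  rw [sub_add_cancel] at hr
  obtain ⟨pp, hpp⟩ := hup
  have hrad : (zB - gB) ^ p ^ n ∈ Ideal.span {uB} := by
    refine Ideal.mem_span_singleton'.mpr ⟨algebraMap A B a₀ - (⟨d, hd⟩ : B) - algebraMap A B pp * (zB - gB) * gB * r, ?_⟩
    have hpB : (p : B) = uB * algebraMap A B pp := by rw [← map_mul, ← hpp, map_natCast]
    have hf0 : algebraMap A B f₀ = zB ^ p ^ n + uB * (⟨d, hd⟩ : B) := Subtype.ext (by
      show algebraMap A L f₀ = z ^ p ^ n + algebraMap A L u * d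
      exact hx'.trans hcd)
    have hg0 : gB ^ p ^ n = algebraMap A B f₀ - algebraMap A B a₀ * uB := by
      rw [← map_pow, ← map_mul, ← map_sub, ha₀, sub_sub_cancel]
    linear_combination hr + hf0 + hg0 + ((zB - gB) * gB * r) * hpB
  obtain ⟨b, hb⟩ := Ideal.mem_span_singleton'.mp (hred ⟨p ^ n, hrad⟩)
  have hzg : z = algebraMap A L g₀ + algebraMap A L u * (b : L) := by
    have h := congrArg Subtype.val hb
    change (b : L) * algebraMap A L u = z - algebraMap A L g₀ at h
    linear_combination -h
  -- the new unit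
  have hh : IsUnit (1 + u ^ j * g₀) := by
    refine hlift _ ?_
    let π := Ideal.Quotient.mk (Ideal.span {u})
    have hp0 : (p : A ⧸ Ideal.span {u}) = 0 := by
      rw [← map_natCast π, Ideal.Quotient.eq_zero_iff_mem, Ideal.mem_span_singleton]; exact ⟨pp, hpp⟩
    have hfg' : π ((1 + u ^ j * g₀) ^ p ^ n) = π ((f : A) * (g : A) ^ p ^ n) := by
      obtain ⟨r, hr⟩ := exists_add_pow_prime_pow_eq hp (π 1) (π (u ^ j * g₀)) n
      rw [map_pow, map_add, hr, hfg, hp0, zero_mul, zero_mul, zero_mul, add_zero, map_one, one_pow, ← map_pow,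
        map_add, map_one, add_right_inj, mul_pow, ← pow_mul, map_mul, map_mul]
      congr 1
      rw [Ideal.Quotient.eq, Ideal.mem_span_singleton]
      exact ⟨-a₀, by linear_combination -(-ha₀)⟩
    refine (isUnit_pow_iff hpn.ne').mp ?_
    rw [← map_pow, hfg']
    exact ((f * g ^ p ^ n).isUnit).map π |> fun h => by simpa using h
  obtain ⟨hU, hhU⟩ := hh
  have hbint : IsIntegral A (b : L) := b.2
  obtain ⟨c', d', hc', -, -, hx''⟩ := Groth.Agent.H3CAlg.KummerCongr.fwd (A := A) (p := p) (lam := u ^ (j + 1)) (μ := 1)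
    (one_dvd _) n (fun i hi => by rw [mul_one]; exact hd1 i hi) (z := algebraMap A L (↑hU⁻¹ : A) * (b : L))
    (isIntegral_algebraMap.mul hbint)
  have hkey : x * algebraMap A L (↑hU⁻¹ : A) = 1 + algebraMap A L (u ^ (j + 1)) * (algebraMap A L (↑hU⁻¹ : A) * (b : L)) := by
    rw [hxz, hzg]
    have h1 : algebraMap A L ((1 + u ^ j * g₀) * (↑hU⁻¹ : A)) = 1 := by rw [← hhU, Units.mul_inv, map_one]
    simp only [map_add, map_mul, map_one, map_pow] at h1 ⊢
    linear_combination h1
  rw [← hkey, mul_pow, mul_pow, hy, ← map_pow, ← map_pow, ← map_mul, ← map_mul] at hx''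
  let E := (f : A) * (g : A) ^ p ^ n * (↑hU⁻¹ : A) ^ p ^ n
  -- descend the coefficient
  obtain ⟨w, hw⟩ : ∃ w : Aw, algebraMap Aw L w = c' := by
    obtain ⟨v, hv⟩ := (IsLocalization.Away.algebraMap_isUnit (S := Aw) u).pow ((j + 1) * p ^ n)
    refine ⟨↑v⁻¹ * (algebraMap A Aw E - 1), ?_⟩
    have h2 : algebraMap A L E - 1 = algebraMap Aw L (v : Aw) * c' := by
      rw [hv, map_pow, ← htower, show E = (f : A) * (g : A) ^ p ^ n * (↑hU⁻¹ : A) ^ p ^ n from rfl, hx'', map_pow, ← pow_mul]
      ring
    rw [map_mul, map_sub, map_one, ← htower, h2, ← mul_assoc, ← map_mul, Units.inv_mul, map_one, one_mul]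
  have hwint : IsIntegral A w := (isIntegral_algHom_iff (IsScalarTower.toAlgHom A Aw L) hinjL).mp (by rw [show IsScalarTower.toAlgHom A Aw L w = c' from hw]; exact hc')
  let K := FractionRing A
  let ψ : Aw →ₐ[A] K := IsLocalization.liftAlgHom (M := Submonoid.powers u) (f := Algebra.ofId A K) fun s =>
    (IsLocalization.map_units K ⟨(s : A), hle s.2⟩)
  obtain ⟨c₀, hc₀⟩ := IsIntegrallyClosed.algebraMap_eq_of_integral (K := K) (hwint.map ψ)
  have hψinj : Function.Injective ψ := by
    rw [injective_iff_map_eq_zero]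
    intro q hq
    obtain ⟨a, s, rfl⟩ := IsLocalization.exists_mk'_eq (Submonoid.powers u) q
    have h1 : ψ (algebraMap A Aw a) = 0 := by
      rw [← IsLocalization.mk'_spec Aw a s, map_mul, hq, zero_mul]
    rw [AlgHom.commutes] at h1
    rw [IsFractionRing.injective A K (h1.trans (map_zero _).symm), IsLocalization.mk'_zero]
  have hwc : w = algebraMap A Aw c₀ := hψinj (by rw [AlgHom.commutes]; exact hc₀.symm)
  refine hmax (g * hU⁻¹) c₀ (hinjAL ?_)
  rw [Units.val_mul, mul_pow, ← mul_assoc, hx'', ← hw, hwc, ← htower, map_add, map_one, map_mul,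
    map_pow, map_pow, ← pow_mul]

end Groth.Agent.S14692
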