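import Groth.Statements.S14697
import Groth.Agent.H28RR.LeraySurf
import Groth.Agent.S7860
import Groth.Agent.H28Bertini.Regular
import Groth.Agent.H28Vert.Contracted
import Groth.Agent.LeadBC.GenBC.AppIsoApps

set_option autoImplicit false
universe u
open CategoryTheory CategoryTheory.Limits AlgebraicGeometry
open Groth.Agent
open Surf

namespace Groth.Agent.S14697

/-- Let k be an algebraically closed field and X an integral normal scheme of dimension two admitting a
closed immersion into some P^n_k over k. Let φ : Y → X be a k-morphism from an integral scheme Y of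
dimension two with all local rings regular, itself admitting a closed immersion into some P^m_k over
k, such that φ restricts to an isomorphism over an open subset U of X with finite complement (any
such resolution: φ may also fail to be an isomorphism over finitely many regular points). Let W be a
canonical module of Y, a second exterior power of Ω_{Y/k}, and L an invertible O_X-module. Then 2
χ(X, L) = (φ^*L · φ^*L) - (φ^*L · W) + 2 χ(X, O_X), the intersection numbers being taken on Y as
(A·B) = χ(O_Y) - χ(A) - χ(B) + χ(A ⊗ B) (packaged as FGA.intNum). In the published form D.D and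
D.K_* are the intersection numbers of the Cartier divisor D of L with itself and with the direct
image K_* of a canonical divisor of Y, in the rational-valued pairing defined through the
resolution; for a Cartier divisor both equal the numbers on Y written here. (The published statement
takes a resolved model, that is, φ an isomorphism exactly over the complement of the singular points
with exceptional curves nonsingular and crossing normally; this row allows any φ that is an
isomorphism over some open subset with finite complement, to which the same proof applies. The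
published display has constant term the arithmetic genus p_a(X) = χ(O_X) - 1 of the surface; the
proof given establishes the constant χ(O_X) used here, and with p_a(X) the identity already fails
for the trivial divisor, whose two sides would read χ(O_X) and χ(O_X) - 1.) -/
theorem result (k : Type u) [Field k] [IsAlgClosed k] (X : Scheme.{u}) [X.Over (Spec (CommRingCat.of k))]
    [IsIntegral X] (hdim : topologicalKrullDim X = 2)
    (hproj : ∃ (n : ℕ) (ι : X ⟶ CohB1.ProjSpace n k), IsClosedImmersion ι ∧ ι ≫ CohB1.ProjSpace.toSpec n k = (X ↘ (Spec (CommRingCat.of k))))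
    (hnorm : Pi1.IsNormalScheme X) (U : X.Opens) (hU : ((U : Set X)ᶜ).Finite)
    (Y : Scheme.{u}) (φ : Y ⟶ X) [IsIntegral Y] (hdimY : topologicalKrullDim Y = 2)
    (hregY : ∀ y : Y, IsRegularLocalRing (Y.presheaf.stalk y))
    (hprojY : ∃ (n : ℕ) (ι : Y ⟶ CohB1.ProjSpace n k), IsClosedImmersion ι ∧ ι ≫ CohB1.ProjSpace.toSpec n k = φ ≫ (X ↘ (Spec (CommRingCat.of k))))
    (hisoY : IsIso (φ ∣_ U))
    (W : Y.Modules) (hW : ExtPow.IsExtPow 2 (Omega.sheaf (φ ≫ (X ↘ (Spec (CommRingCat.of k))))) W)
    (L : X.Modules) (hL : PicF.IsInvertible L) :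
    letI : Y.Over (Spec (CommRingCat.of k)) := ⟨φ ≫ (X ↘ (Spec (CommRingCat.of k)))⟩
    2 * Curv2.euler k X L =
      FGA.intNum k Y 2 ![(Scheme.Modules.pullback φ).obj L, (Scheme.Modules.pullback φ).obj L] (Coh.structureModule Y) -
        FGA.intNum k Y 2 ![(Scheme.Modules.pullback φ).obj L, W] (Coh.structureModule Y) +
        2 * Curv2.euler k X (Coh.structureModule X) := by
  classical
  obtain ⟨n, ι, hι, hιk⟩ := hproj
  obtain ⟨m, j, hj, hjk⟩ := hprojY
  haveI := hι
  haveI := hj
  haveI : IsProper (X ↘ Spec (CommRingCat.of k)) := hιk ▸ inferInstanceAs (IsProper (ι ≫ CohB1.ProjSpace.toSpec n k))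
  letI : Y.Over (Spec (CommRingCat.of k)) := ⟨φ ≫ (X ↘ (Spec (CommRingCat.of k)))⟩
  haveI hpY : IsProper (φ ≫ (X ↘ (Spec (CommRingCat.of k)))) :=
    hjk ▸ inferInstanceAs (IsProper (j ≫ CohB1.ProjSpace.toSpec m k))
  haveI : IsProper (Y ↘ Spec (CommRingCat.of k)) := hpY
  haveI : IsProper φ := IsProper.of_comp φ (X ↘ Spec (CommRingCat.of k))
  haveI : Smooth (Y ↘ Spec (CommRingCat.of k)) := H28Bertini.smooth_of_regular _ hregY
  haveI := hisoY
  haveI : JacobsonSpace X := LocallyOfFiniteType.jacobsonSpace (X ↘ Spec (CommRingCat.of k))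
  have hUne : (U : Set X).Nonempty := by
    by_contra hemp
    rw [Set.not_nonempty_iff_eq_empty] at hemp
    rw [hemp, Set.compl_empty] at hU
    have h := H28RR.LeraySurf.dim_le_zero (X := X) hU isClosed_univ
    rw [(Homeomorph.Set.univ X).isHomeomorph.topologicalKrullDim_eq, hdim] at h
    exact absurd h (by decide)
  obtain ⟨hξ, hbir⟩ := H28Vert.birational_of_isIso_restrict φ U hUne
  have hne : (φ ⁻¹ᵁ U : Set Y).Nonempty := by
    obtain ⟨x, hx⟩ := hUne
    exact ⟨((inv (φ ∣_ U)) ⟨x, hx⟩).1, ((inv (φ ∣_ U)) ⟨x, hx⟩).2⟩
  have hA : CohB1.IsAmple ((Scheme.Modules.pullback j).obj (Twist.twistProjSpace m k 1)) :=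
    H11Ample.isAmple_pullback_of_isAffineHom j (H11Ample.isAmple_twistProjSpace m k)
  obtain ⟨K, -, -, -, -, hD, -⟩ := H28RR.LeraySurf.exists_defect k φ rfl hA (by rw [hdimY]; rfl) U hU hne L hL
  haveI : IsIso (ClSub.unitToPush φ) := LeadBC.GenBC.isIso_unitToPush_of_app φ fun V =>
    (ConcreteCategory.isIso_iff_bijective _).2 (H28Pinch.bijective_app_of_birational φ hnorm hξ hbir V)
  rw [← (H28Int.isAddFn_D k [L] (by simpa using hL)).congr (asIso (ClSub.unitToPush φ))] at hD
  have hP := H11Ample.isInvertible_pullback φ hL
  have h1 := S7860.result k Y (fun Z hZ => by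
    rw [irreducibleComponents_eq_singleton, Set.mem_singleton_iff] at hZ
    subst hZ
    rw [(Homeomorph.Set.univ Y).isHomeomorph.topologicalKrullDim_eq, hdimY]) W hW _ hP
  change Curv2.euler k Y _ - Curv2.euler k Y _ = Curv2.euler k X _ - Curv2.euler k X _ at hD
  rw [H25Euler.euler_congr (H10Coh.Tw.rightUnitIso _), H25Euler.euler_congr (H10Coh.Tw.rightUnitIso L)] at hD
  omega

end Groth.Agent.S14697
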