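-- statement Lim8.GrothFrozen.S5094 (Groth/Statements/S5094.lean; the theorem Lim8.exists_nhd_restrict_isIso_of_isolated_in_fibre_over_normal_point);
import Groth.Statements.S5094
import Groth.Agent.H7Lim.NormalPoint

set_option autoImplicit false
universe u
open CategoryTheory CategoryTheory.Limits AlgebraicGeometry TopologicalSpace
open Lim8

namespace Groth.Agent.S5094

/-- Let X and Y be integral schemes and f : X → Y a separated morphism, locally of finite type and
birational (f sends the generic point of X to the generic point of Y and its stalk map there, the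
induced homomorphism of function fields, is an isomorphism). Let y be a normal point of Y (the local
ring O_{Y,y} is integrally closed) and suppose that some point of the fibre f⁻¹(y) is isolated in
that fibre. Then y has an open neighbourhood U such that the restriction f⁻¹(U) → U of f is an
isomorphism. -/
theorem result {X Y : Scheme.{u}} [IsIntegral X]
    [IsIntegral Y] (f : X ⟶ Y) [IsSeparated f] [LocallyOfFiniteType f]
    (hgen : f (genericPoint X) = genericPoint Y) (hbir : IsIso (f.stalkMap (genericPoint X)))
    (y : ↥Y) (hy : IsIntegrallyClosed ↑(Y.presheaf.stalk y))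
    (x : ↥(f.fiber y)) (hx : IsOpen ({x} : Set ↥(f.fiber y))) :
    ∃ U : Y.Opens, y ∈ U ∧ IsIso (f ∣_ U) := by
  obtain ⟨x₀, hx₀⟩ : ∃ x₀, f.fiberι y x = x₀ := ⟨_, rfl⟩
  obtain rfl : f x₀ = y := by
    have h : f.fiberι y x ∈ ⇑f ⁻¹' {y} := by rw [← f.range_fiberι]; exact ⟨x, rfl⟩
    exact hx₀ ▸ h
  have hxe : f.asFiber x₀ = x := (f.fiberι (f x₀)).isEmbedding.injective
    (by rw [Scheme.Hom.fiberι_asFiber, hx₀])
  have : IsIso (f.stalkMap (genericPoint X)) := hbir
  exact Groth.Agent.H7Lim.exists_isIso_restrict f hgen x₀ hy
    ((Scheme.Hom.quasiFiniteAt_iff_isOpen_singleton_asFiber).mpr (hxe.symm ▸ hx))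

end Groth.Agent.S5094
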