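import Groth.Statements.S14698
-- import your own Groth.Agent.* helpers here
import Groth.Agent.S5094
import Groth.Agent.H27Weil.Geometry

set_option autoImplicit false
universe u
open CategoryTheory CategoryTheory.Limits AlgebraicGeometry
open Resolve

namespace Groth.Agent.S14698

open TopologicalSpace

theorem eq_of_specializes_of_dim_le_zero {Z : Type u} [TopologicalSpace Z] [T0Space Z] [QuasiSober Z]
    (h : topologicalKrullDim Z ≤ 0) {a b : Z} (hab : a ⤳ b) : a = b := by
  letI := specializationOrder Z
  rw [topologicalKrullDim, Order.krullDim_eq_of_orderIso (irreducibleSetEquivPoints (α := Z))] at h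
  by_contra hne
  have hlt : b < a := lt_of_le_of_ne hab (Ne.symm hne)
  have := Order.LTSeries.length_le_krullDim ((RelSeries.singleton _ b).snoc a hlt)
  exact absurd (this.trans h) (by simp)


theorem dim_le_one {Z Y : Type u} [TopologicalSpace Z] [T0Space Z] [QuasiSober Z] [TopologicalSpace Y]
    [T0Space Y] [QuasiSober Y] (f : Z → Y) (hf : Continuous f) (hinj : Function.Injective f) (η : Y)
    (hη : ∀ z, η ⤳ f z) (hne : ∀ z, f z ≠ η) (hY : topologicalKrullDim Y ≤ 2) : topologicalKrullDim Z ≤ 1 := by
  letI := specializationOrder Z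
  letI := specializationOrder Y
  rw [topologicalKrullDim, Order.krullDim_eq_of_orderIso (irreducibleSetEquivPoints (α := Z))]
  rw [topologicalKrullDim, Order.krullDim_eq_of_orderIso (irreducibleSetEquivPoints (α := Y))] at hY
  refine Order.krullDim_le_one_iff.2 fun z => ?_
  by_contra hz
  rw [not_or, not_isMin_iff, not_isMax_iff] at hz
  obtain ⟨⟨a, ha⟩, ⟨b, hb⟩⟩ := hz
  have hmono : ∀ {p q : Z}, p < q → f p < f q := fun {p q} hpq =>
    lt_of_le_of_ne ((show q ⤳ p from hpq.le).map hf) fun e => hpq.ne (hinj e)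
  have hbη : f b < η := lt_of_le_of_ne (hη b) (hne b)
  let s₀ : LTSeries Y := RelSeries.singleton _ (f a)
  let s₁ : LTSeries Y := s₀.snoc (f z) (hmono ha)
  let s₂ : LTSeries Y := s₁.snoc (f b) (by simp only [s₁, RelSeries.last_snoc]; exact hmono hb)
  let s : LTSeries Y := s₂.snoc η (by simp only [s₂, RelSeries.last_snoc]; exact hbη)
  have h3 := Order.LTSeries.length_le_krullDim s
  have h4 := h3.trans hY
  have h5 : ((3 : ℕ) : WithBot ℕ∞) ≤ (2 : ℕ) := by simpa [s, s₂, s₁, s₀] using h4
  exact absurd (Nat.cast_le.1 h5) (by norm_num)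

/-- Let k be an algebraically closed field and X an integral normal scheme of dimension two admitting a
closed immersion into some P^n_k over k. Let φ : Y → X be a k-morphism from an integral scheme Y of
dimension two with all local rings regular, itself admitting a closed immersion into some P^m_k over
k, which restricts to an isomorphism over an open subset U of X with finite complement. Then for
every point x of X at which the local ring is not regular, the fibre φ⁻¹(x) (with the topology
induced from Y) is nonempty and every irreducible component of it has dimension one: such a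
desingularization is a monoidal model. (The published statement takes φ an isomorphism exactly over
the complement of the singular points; this row allows any open U with finite complement over which
φ is an isomorphism.) -/
theorem result (k : Type u) [Field k] [IsAlgClosed k] (X : Scheme.{u}) [X.Over (Spec (CommRingCat.of k))]
    [IsIntegral X] (hdim : topologicalKrullDim X = 2)
    (hproj : ∃ (n : ℕ) (ι : X ⟶ CohB1.ProjSpace n k), IsClosedImmersion ι ∧ ι ≫ CohB1.ProjSpace.toSpec n k = (X ↘ (Spec (CommRingCat.of k))))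
    (hnorm : Pi1.IsNormalScheme X) (U : X.Opens) (hU : ((U : Set X)ᶜ).Finite)
    (Y : Scheme.{u}) (φ : Y ⟶ X) [IsIntegral Y] (hdimY : topologicalKrullDim Y = 2)
    (hregY : ∀ y : Y, IsRegularLocalRing (Y.presheaf.stalk y))
    (hprojY : ∃ (n : ℕ) (ι : Y ⟶ CohB1.ProjSpace n k), IsClosedImmersion ι ∧ ι ≫ CohB1.ProjSpace.toSpec n k = φ ≫ (X ↘ (Spec (CommRingCat.of k))))
    (hisoY : IsIso (φ ∣_ U))
    (x : X) (hx : ¬ IsRegularLocalRing (X.presheaf.stalk x)) :
    (φ.base ⁻¹' ({x} : Set X)).Nonempty ∧
      ∀ Z ∈ irreducibleComponents ↥(φ.base ⁻¹' ({x} : Set X)), topologicalKrullDim ↥Z = 1 := by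
  classical
  have hne : (U : Set X).Nonempty := by
    by_contra h
    rw [Set.not_nonempty_iff_eq_empty] at h
    rw [h, Set.compl_empty] at hU
    haveI : Finite X := Set.finite_univ_iff.1 hU
    obtain ⟨n, ι, hι, hcomp⟩ := hproj
    haveI := hι
    haveI : LocallyOfFiniteType (ι ≫ CohB1.ProjSpace.toSpec n k) := inferInstance
    haveI : JacobsonSpace X := LocallyOfFiniteType.jacobsonSpace (ι ≫ CohB1.ProjSpace.toSpec n k)
    haveI : DiscreteTopology X := inferInstance
    have := topologicalKrullDim_zero_of_discreteTopology X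
    rw [hdim] at this
    exact absurd this (by decide)
  haveI := hisoY
  -- properness
  obtain ⟨n, ι, hι, hcomp⟩ := hproj
  obtain ⟨m, κ, hκ, hcompY⟩ := hprojY
  haveI := hι; haveI := hκ
  haveI : IsProper (X ↘ Spec (CommRingCat.of k)) := by rw [← hcomp]; infer_instance
  haveI : IsProper (φ ≫ (X ↘ Spec (CommRingCat.of k))) := by rw [← hcompY]; infer_instance
  haveI : IsProper φ := IsProper.of_comp φ (X ↘ Spec (CommRingCat.of k))
  have hηU : genericPoint X ∈ U := ((genericPoint_spec X).mem_open_set_iff U.2).2 ⟨_, trivial, hne.choose_spec⟩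
  haveI : Nonempty U.toScheme := ⟨⟨_, hηU⟩⟩
  haveI : Nonempty (φ ⁻¹ᵁ U).toScheme := ⟨inv (φ ∣_ U) ⟨_, hηU⟩⟩
  haveI : IsIntegral U.toScheme := isIntegral_of_isOpenImmersion U.ι
  haveI : IsIntegral (φ ⁻¹ᵁ U).toScheme := isIntegral_of_isOpenImmersion (φ ⁻¹ᵁ U).ι
  have hgen : φ (genericPoint Y) = genericPoint X := by
    rw [← genericPoint_eq_of_isOpenImmersion (φ ⁻¹ᵁ U).ι, ← genericPoint_eq_of_isOpenImmersion U.ι]
    refine (congr($(morphismRestrict_ι φ U) (genericPoint (φ ⁻¹ᵁ U).toScheme))).symm.trans ?_
    exact congrArg U.ι (genericPoint_eq_of_isOpenImmersion (φ ∣_ U))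
  have hbir : IsIso (φ.stalkMap (genericPoint Y)) :=
    ((MorphismProperty.isomorphisms CommRingCat).arrow_mk_iso_iff
      (morphismRestrictStalkMap φ U ⟨genericPoint Y, show φ (genericPoint Y) ∈ U from hgen ▸ hηU⟩)).1
      (inferInstanceAs (IsIso ((φ ∣_ U).stalkMap _)))
  haveI : IsDominant φ := ⟨fun z =>
    closure_mono (s := ({genericPoint X} : Set X)) (t := Set.range φ.base)
      (fun w hw => ⟨genericPoint Y, hgen.trans hw.symm⟩)
      (specializes_iff_mem_closure.1 ((genericPoint_spec X).specializes trivial))⟩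
  have hsurj : Surjective φ := ⟨fun z => by
    have hd : z ∈ closure (Set.range φ) := φ.denseRange z
    rwa [φ.isClosedMap.isClosed_range.closure_eq] at hd⟩
  refine ⟨?_, fun Z hZ => ?_⟩
  · obtain ⟨y, hy⟩ := hsurj.surj x
    exact ⟨y, hy⟩
  have hxη : x ≠ genericPoint X := fun h => hx (by
    subst h
    haveI : IsIntegrallyClosed X.functionField := inferInstance
    show IsRegularLocalRing X.functionField
    infer_instance)
  -- no isolated point in the fibre
  have hiso : ∀ u : φ.fiber x, ¬ IsOpen ({u} : Set (φ.fiber x)) := by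
    intro u hu
    obtain ⟨V, hxV, hV⟩ := Groth.Agent.S5094.result φ hgen hbir x (hnorm x).2 u hu
    haveI := hV
    let y : Y := φ.fiberι x u
    have hy : φ y = x := (φ.range_fiberι x).le ⟨u, rfl⟩
    have hyV : φ y ∈ V := hy.symm ▸ hxV
    haveI : IsIso (φ.stalkMap y) :=
      ((MorphismProperty.isomorphisms CommRingCat).arrow_mk_iso_iff
        (morphismRestrictStalkMap φ V ⟨y, hyV⟩)).1 (inferInstanceAs (IsIso ((φ ∣_ V).stalkMap _)))
    haveI := hregY y
    refine hx ?_
    rw [← hy]
    exact IsRegularLocalRing.of_ringEquiv (asIso (φ.stalkMap y)).commRingCatIsoToRingEquiv.symm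
  haveI : LocallyOfFiniteType (φ.fiberToSpecResidueField x) := MorphismProperty.pullback_snd _ _ inferInstance
  haveI : IsLocallyNoetherian (φ.fiber x) := LocallyOfFiniteType.isLocallyNoetherian (φ.fiberToSpecResidueField x)
  haveI : IsNoetherian (φ.fiber x) := ⟨⟩
  let h := φ.fiberHomeo x
  haveI : NoetherianSpace ↥(φ.base ⁻¹' ({x} : Set X)) := (noetherianSpace_iff_of_homeomorph h).1 inferInstance
  haveI : QuasiSober ↥(φ.base ⁻¹' ({x} : Set X)) := h.symm.isClosedEmbedding.quasiSober
  haveI : QuasiSober ↥Z := (isClosed_of_mem_irreducibleComponents Z hZ).isClosedEmbedding_subtypeVal.quasiSober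
  refine le_antisymm ?_ ?_
  · refine dim_le_one (fun z : ↥Z => (z.1.1 : Y)) (continuous_subtype_val.comp continuous_subtype_val)
      (Subtype.val_injective.comp Subtype.val_injective) (genericPoint Y)
      (fun z => (genericPoint_spec Y).specializes trivial) (fun z e => hxη ?_) hdimY.le
    rw [← hgen, ← e]
    exact z.1.2.symm
  · by_contra hlt
    have h0 : topologicalKrullDim ↥Z ≤ 0 := by
      have h1 := lt_of_not_ge hlt
      revert h1
      induction topologicalKrullDim ↥Z using WithBot.recBotCoe with
      | bot => simp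
      | coe d =>
        intro h1
        have h2 : d < 1 := WithBot.coe_lt_coe.1 h1
        exact WithBot.coe_le_coe.2 (ENat.lt_one_iff_eq_zero.1 h2).le
    obtain ⟨g, hg⟩ := QuasiSober.sober hZ.1 (isClosed_of_mem_irreducibleComponents Z hZ)
    have hsub : Z ⊆ {g} := fun w hw =>
      (congrArg Subtype.val (eq_of_specializes_of_dim_le_zero h0 (a := ⟨g, hg.mem⟩) (b := ⟨w, hw⟩)
        (subtype_specializes_iff _ _ |>.2 (hg.specializes hw)))).symm
    obtain ⟨O, hO, hOne, hOZ⟩ := NoetherianSpace.exists_isOpen_nonempty_subset_irreducibleComponent Z hZ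
    have hOg : O = {g} := Set.Nonempty.subset_singleton_iff hOne |>.1 (hOZ.trans hsub)
    refine hiso (h.symm g) ?_
    have h1 : IsOpen (h ⁻¹' {g}) := (hOg ▸ hO).preimage h.continuous
    rwa [← Homeomorph.image_symm, Set.image_singleton] at h1

end Groth.Agent.S14698
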