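import Groth.Statements.S1470
import Groth.Agent.H8Norm.RelAssDim

set_option autoImplicit false
universe u
open FlatMor

namespace Groth.Agent.S1470

open AlgebraicGeometry CategoryTheory Limits in
/-- Let f : X → S be locally of finite type, F a quasi-coherent O_X-module of finite type, and y a point
of the relative assassin of F with image t; let Y be the closure of y. For a point s of S and a
point x of the fibre of Y over s which is generic in an irreducible component of that fibre, if F is
flat over S at x then x belongs to the relative assassin of F and the local dimension of the fibre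
of Y over s at x equals the dimension of the fibre of Y over t (fibres taken as subspaces of X). -/
theorem result {X S : Scheme.{u}} (f : X ⟶ S) [LocallyOfFiniteType f]
    (F : X.Modules) (hF : Coh.IsCoh F) (y : X) (hy : y ∈ MoreMor.relAss f F) (s : S) (x : X) (hx : x ∈ closure ({y} : Set ↑X)) (hxs : f x = s)
    (hgen : ∃ C ∈ irreducibleComponents ↑(closure ({y} : Set ↑X) ∩ f ⁻¹' {s}), IsGenericPoint (⟨x, hx, hxs⟩ : ↑(closure ({y} : Set ↑X) ∩ f ⁻¹' {s})) C)
    (hfl : FlatMod.IsFlatOverAt f F x) :
    x ∈ MoreMor.relAss f F ∧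
      FlatMor.localDim ↑(closure ({y} : Set ↑X) ∩ f ⁻¹' {s}) ⟨x, hx, hxs⟩ = topologicalKrullDim ↑(closure ({y} : Set ↑X) ∩ f ⁻¹' {f y}) := by
  subst hxs
  have hgen' : ∀ z : X, y ⤳ z → f z = f x → z ⤳ x → z = x := by
    obtain ⟨C, hC, hCx⟩ := hgen
    intro z hz hzs hzx
    let z' : ↑(closure ({y} : Set ↑X) ∩ f ⁻¹' {f x}) := ⟨z, hz.mem_closure, hzs⟩
    have h1 : z' ⤳ ⟨x, hx, rfl⟩ := (Topology.IsEmbedding.subtypeVal.isInducing.specializes_iff).1 hzx
    have h2 : C ≤ closure {z'} := by
      rw [← hCx.def]
      exact h1.closure_subset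
    have h4 : IsGenericPoint z' C := le_antisymm (hC.le_of_ge isIrreducible_singleton.closure h2) h2
    exact congrArg Subtype.val (h4.eq hCx)
  obtain ⟨h1, h2⟩ := H8Norm.relAss_and_cdim_eq f F hF.1 hF.2 hy (specializes_iff_mem_closure.2 hx) hgen' hfl
  refine ⟨h1, ?_⟩
  rw [H8Norm.localDim_closure_inter_eq f ⟨hx, rfl⟩ hgen', h2, H06EGA14.dim_inter_eq_cdim f y rfl]

end Groth.Agent.S1470
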