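import Groth.Statements.S14700
import Groth.Agent.H28RR.UnionCurves
import Groth.Agent.H28Surf.DivisorH1
import Groth.Agent.H28Bertini.Regular
import Groth.Agent.H17.Reduced
import Groth.Agent.H8Props.Reduced

set_option autoImplicit false
universe u
open CategoryTheory CategoryTheory.Limits AlgebraicGeometry
open Groth.Agent
open Surf

namespace Groth.Agent.S14700

/-- Let k be an algebraically closed field and X an integral scheme of dimension two with all local
rings regular, admitting a closed immersion into some P^n_k over k. Let C_1, …, C_n be pairwise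
distinct integral one-dimensional closed subschemes of X with ideal sheaves I_1, …, I_n, and let Y
be the reduced closed subscheme with ideal I_1 ∩ ⋯ ∩ I_n (their union); assume Y is connected. Then
χ(O_Y) ≤ 1, i.e. the arithmetic genus 1 - χ(O_Y) of Y is nonnegative. If moreover χ(O_Y) = 1, then
χ(O_{C_i}) = 1 for every i (each C_i has arithmetic genus zero) and Σ_{i<j} (C_i · C_j) = n - 1, so
that the incidence graph of the C_i, which is connected with Σ_{i<j} (C_i · C_j) edges, contains no
cycle; here (C_i · C_j) = χ(O_X) - χ(I_i) - χ(I_j) + χ(I_i ⊗ I_j) is the intersection number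
(packaged as FGA.intNum). (The published statement allows any integral projective surface regular in
codimension one; this row takes X with all local rings regular, where the intersection numbers used
by the proof are defined.) -/
theorem result (k : Type u) [Field k] [IsAlgClosed k] (X : Scheme.{u}) [X.Over (Spec (CommRingCat.of k))]
    [IsIntegral X] (hdim : topologicalKrullDim X = 2)
    (hproj : ∃ (n : ℕ) (ι : X ⟶ CohB1.ProjSpace n k), IsClosedImmersion ι ∧ ι ≫ CohB1.ProjSpace.toSpec n k = (X ↘ (Spec (CommRingCat.of k))))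
    (hreg : ∀ x : X, IsRegularLocalRing (X.presheaf.stalk x))
    (n : ℕ) (C : Fin n → X.IdealSheafData) (hCint : ∀ i, IsIntegral (C i).subscheme)
    (hCdim : ∀ i, topologicalKrullDim ((C i).support : Set X) = 1)
    (hCinj : Function.Injective fun i => ((C i).support : Set X))
    (hconn : _root_.IsConnected ((⨅ i, C i).support : Set X)) :
    Curv2.euler k X (ClSub.quotMod (⨅ i, C i)) ≤ 1 ∧
      (Curv2.euler k X (ClSub.quotMod (⨅ i, C i)) = 1 →
        (∀ i, Curv2.euler k X (ClSub.quotMod (C i)) = 1) ∧
          (∑ i : Fin n, ∑ j : Fin n,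
              if i < j then FGA.intNum k X 2 ![ClSub.idealMod (C i), ClSub.idealMod (C j)] (Coh.structureModule X) else 0) =
            (n : ℤ) - 1) := by
  classical
  obtain ⟨nn, ι, hι, hιk⟩ := hproj
  haveI := hι
  haveI : IsProper (X ↘ Spec (CommRingCat.of k)) := hιk ▸ inferInstanceAs (IsProper (ι ≫ CohB1.ProjSpace.toSpec nn k))
  haveI : Smooth (X ↘ Spec (CommRingCat.of k)) := H28Bertini.smooth_of_regular _ hreg
  haveI := H28Int.isNoetherian k (X := X)
  let f := X ↘ Spec (CommRingCat.of k)
  have hC : ∀ i, H28Surf.IsCurve (C i) := fun i => ⟨hCint i, hCdim i⟩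
  have hCe : ∀ i, FGA.IsEffCartier (C i) := fun i => H28Surf.isEffCartier_curve k hdim (hC i)
  have hCi : ∀ i, PicF.IsInvertible (ClSub.idealMod (C i)) := fun i => H28Surf.isInvertible_ideal k (hCe i)
  have hpe : ∀ s : Finset (Fin n), FGA.IsEffCartier (∏ i ∈ s, C i) := fun s => by
    have h := H28Vert.isEffCartierIdeal_prod s C (fun i _ => hCe i) fun _ => 1
    simp only [pow_one] at h
    exact h
  have hprod := H28RR.iInf_eq_prod k hdim C hC hCinj
  let Z := ⨅ i, C i
  have hZ : FGA.IsEffCartier Z := by
    show FGA.IsEffCartier (⨅ i, C i)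
    rw [hprod]; exact hpe Finset.univ
  -- functions on the union are constants
  haveI : IsReduced Z.subscheme := H8Props.isReduced_subscheme_of_isRadical Z fun U x hx => by
    obtain ⟨m, hm⟩ := hx
    have hid : Z.ideal U = ⨅ i, (C i).ideal U := by
      show (⨅ i, C i).ideal U = _
      rw [Scheme.IdealSheafData.ideal_iInf, iInf_apply]
    rw [hid, Ideal.mem_iInf] at hm ⊢
    intro i
    haveI := hCint i
    exact ((H17.isReduced_subscheme_iff (C i)).1 inferInstance U) ⟨m, hm i⟩
  haveI : ConnectedSpace Z.subscheme := by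
    have hc : _root_.IsConnected (Set.range Z.subschemeι) := by rw [Z.range_subschemeι]; exact hconn
    haveI := Subtype.connectedSpace hc
    exact (Z.subschemeι.isClosedEmbedding.isEmbedding.toHomeomorph).symm.surjective.connectedSpace
      (Z.subschemeι.isClosedEmbedding.isEmbedding.toHomeomorph).symm.continuous
  letI : Z.subscheme.Over (Spec (CommRingCat.of k)) := ⟨Z.subschemeι ≫ f⟩
  haveI : IsProper (Z.subscheme ↘ Spec (CommRingCat.of k)) := show IsProper (Z.subschemeι ≫ _) from inferInstance
  have h0 : Module.finrank k (Coh.HH X (ClSub.quotMod Z) 0) = 1 := by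
    haveI : (Coh.structureModule Z.subscheme).IsQuasicoherent := H10Coh.isQuasicoherent_unit
    show Module.finrank k (Coh.HH X ((Coh.push Z.subschemeι).obj _) 0) = 1
    rw [H28Int.Push.finrank_HH_push k Z.subschemeι rfl _ 0]
    refine H28Vert.finrank_HH0_of_isIso k ?_
    obtain ⟨z⟩ : Nonempty Z.subscheme := inferInstance
    haveI : Nonempty ↥(⊤ : Z.subscheme.Opens) := ⟨⟨z, trivial⟩⟩
    haveI : Nontrivial (Coh.Γtop Z.subscheme) := inferInstanceAs (Nontrivial Γ(Z.subscheme, ⊤))
    let ψ := Coh.toGlobal (Z.subscheme ↘ Spec (CommRingCat.of k))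
    have hψ : Function.Bijective ψ :=
      ⟨RingHom.injective _, H28Surf.surjective_toGlobal (Z.subscheme ↘ Spec (CommRingCat.of k))⟩
    rw [ConcreteCategory.isIso_iff_bijective]
    exact (Function.Bijective.of_comp_iff _
      (ConcreteCategory.bijective_of_isIso (Scheme.ΓSpecIso (CommRingCat.of k)).inv)).1 hψ
  haveI := H10Coh.finite_HH_proper k X _ (H28Surf.isCoh_quot k Z) 1
  have hle : Curv2.euler k X (ClSub.quotMod Z) ≤ 1 ∧
      (Curv2.euler k X (ClSub.quotMod Z) = 1 → Subsingleton (Coh.HH X (ClSub.quotMod Z) 1)) := by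
    rw [H28Surf.euler_eq_sub' k hdim hZ (H28Surf.isCoh_quot k Z) (H28Surf.support_quot k Z).subset, h0,
      ← Module.finrank_zero_iff (R := k)]
    omega
  refine ⟨hle.1, fun h1 => ?_⟩
  have hO := H28Int.isInvertible_structureModule X
  have hgenus : ∀ i, Curv2.euler k X (ClSub.quotMod (C i)) = 1 := fun i => by
    refine (H28Surf.euler_le_one k hdim (hC i)).2.2 ?_
    obtain ⟨S, hS, ⟨e₁⟩, e₂, e₃⟩ := H28Surf.exists_seq k (∏ j ∈ Finset.univ.erase i, C j) (C i) (hpe _) (hCe i) hO
    have hT := H11Ample.isInvertible_tensor (hCi i) hO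
    have hv1 : Subsingleton (Coh.HH X S.X₁ 2) := by
      haveI := H28Surf.subsingleton_HH_two k hdim (hpe (Finset.univ.erase i))
        (H11Ample.isCoh_tensor (H28Surf.isCoh_quot k _) hT)
        (fun x hx => (H28Surf.support_quot k _).subset (H25Euler.support_tensor_subset _ _ hx)) (le_refl 2)
      exact (H29RR.hhIso (k := k) e₁ 2).toEquiv.subsingleton
    have hv2 : Subsingleton (Coh.HH X S.X₂ 1) := by
      rw [e₂, Finset.mul_prod_erase Finset.univ C (Finset.mem_univ i), ← hprod]
      haveI := hle.2 h1
      exact (H29RR.hhIso (k := k) (H10Coh.Tw.rightUnitIso (ClSub.quotMod Z)) 1).toEquiv.subsingleton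
    have h3 := H28Surf.subsingleton_HH_right k hS 1 hv2 hv1
    rw [e₃] at h3
    exact (H29RR.hhIso (k := k) (H10Coh.Tw.rightUnitIso (ClSub.quotMod (C i))) 1).symm.toEquiv.subsingleton
  refine ⟨hgenus, ?_⟩
  obtain ⟨W, hW⟩ := H28RR.exists_canonical k hdim
  have hWi := H28RR.isInvertible_canonical k hdim hW
  let a : Fin n → Fin n → ℤ := fun i j => H28Surf.pr k (ClSub.idealMod (C i)) (ClSub.idealMod (C j))
  have hlin : ∀ {M : X.Modules}, PicF.IsInvertible M →
      H28Surf.pr k (ClSub.idealMod Z) M = ∑ i, H28Surf.pr k (ClSub.idealMod (C i)) M := fun {M} hM => by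
    show H28Surf.pr k (ClSub.idealMod (⨅ i, C i)) M = _
    rw [hprod, Finset.prod_eq_multiset_prod,
      H28Reg.pr_prod_left k hreg hdim _ (fun D hD => by obtain ⟨i, -, rfl⟩ := Multiset.mem_map.1 hD; exact hC i) hM,
      Multiset.map_map]
    rfl
  have hZi := H28Surf.isInvertible_ideal k hZ
  have hsq : H28Surf.pr k (ClSub.idealMod Z) (ClSub.idealMod Z) = ∑ i, ∑ j, a i j := by
    rw [hlin hZi]
    refine Finset.sum_congr rfl fun i _ => ?_
    rw [H28Surf.pr_symm k, hlin (hCi i)]
    exact Finset.sum_congr rfl fun j _ => H28Surf.pr_symm k _ _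
  have hq := H28RR.euler_quot k hdim hW hZ
  rw [h1, hlin hWi, hsq] at hq
  have hone : ∀ i, H28Surf.pr k (ClSub.idealMod (C i)) W = 2 + a i i := fun i => by
    have h := H28RR.euler_quot k hdim hW (hCe i)
    rw [hgenus i] at h
    show _ = 2 + H28Surf.pr k _ _
    omega
  rw [Finset.sum_congr rfl (fun i _ => hone i), Finset.sum_add_distrib] at hq
  have hsplit : ∑ i, ∑ j, a i j = ∑ i, a i i + 2 * ∑ i, ∑ j, (if i < j then a i j else 0) := by
    have h1 : ∀ i j, a i j = (if i = j then a i j else 0) + ((if i < j then a i j else 0) + (if j < i then a i j else 0)) := by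
      intro i j
      rcases lt_trichotomy i j with h | h | h
      · rw [if_pos h, if_neg h.ne, if_neg h.asymm]; ring
      · subst h; simp
      · rw [if_pos h, if_neg h.ne', if_neg h.asymm]; ring
    have h2 : ∑ i, ∑ j, (if j < i then a i j else 0) = ∑ i, ∑ j, (if i < j then a i j else 0) := by
      rw [Finset.sum_comm]
      refine Finset.sum_congr rfl fun i _ => Finset.sum_congr rfl fun j _ => ?_
      split_ifs
      · exact H28Surf.pr_symm k _ _
      · rfl
    rw [Finset.sum_congr rfl (fun i _ => Finset.sum_congr rfl (fun j _ => h1 i j))]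
    simp only [Finset.sum_add_distrib, Finset.sum_ite_eq, Finset.mem_univ, if_true, h2]
    ring
  rw [hsplit, Finset.sum_const, Finset.card_univ, Fintype.card_fin, nsmul_eq_mul] at hq
  have hgoal : ∀ i j, FGA.intNum k X 2 ![ClSub.idealMod (C i), ClSub.idealMod (C j)] (Coh.structureModule X) = a i j :=
    fun i j => H28Surf.intNum_eq_pr k hdim (hCi i) (hCi j)
  simp only [hgoal]
  linarith

end Groth.Agent.S14700
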