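import Groth.Statements.S14702
import Groth.Agent.H17.DualSh.SmoothLocus
-- import your own Groth.Agent.* helpers here

set_option autoImplicit false
universe u
open CategoryTheory CategoryTheory.Limits AlgebraicGeometry
open ProjDual

namespace Groth.Agent.S14702

/-- Let k be an algebraically closed field and X an integral closed subscheme of P^N_k of dimension two
which is a local complete intersection (every local ring is a complete intersection) with only
finitely many non-regular points; let U ⊆ X be the open subset of regular points. Let (ω, t) be a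
dualizing sheaf for X: ω coherent, t a k-linear form on H^2(X, ω), and for every coherent F and
every k-linear form ψ on H^2(X, F) there is exactly one φ : F → ω with ψ = t ∘ H^2(φ). Then the
restriction of ω to U is isomorphic to ω_U, a second exterior power of the sheaf of differentials
Ω_{U/k} (existence of an isomorphism of O_U-modules; the published statement also asserts an unnamed
isomorphism). -/
theorem result (k : Type u) [Field k] [IsAlgClosed k] (N : ℕ)
    (X : Scheme.{u}) [X.Over (Spec (CommRingCat.of k))] [IsIntegral X] (hdim : topologicalKrullDim X = 2)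
    (ι : X ⟶ CohB1.ProjSpace N k) [IsClosedImmersion ι] (hι : ι ≫ CohB1.ProjSpace.toSpec N k = X ↘ (Spec (CommRingCat.of k)))
    (hlci : ∀ x : X, Pi1.IsCompleteIntersection (X.presheaf.stalk x))
    (U : X.Opens) (hUreg : ∀ x : X, x ∈ U ↔ IsRegularLocalRing (X.presheaf.stalk x)) (hU : ((U : Set X)ᶜ).Finite)
    (ω : X.Modules) (hωcoh : Coh.IsCoh ω) (t : Coh.HH X ω 2 →ₗ[k] k)
    (hdual : ∀ F : X.Modules, Coh.IsCoh F → ∀ ψ : Coh.HH X F 2 →ₗ[k] k,
        ∃! φ : F ⟶ ω, ∀ x : Coh.HH X F 2,
          ψ x = t (Sheaf.H.map ((SheafOfModules.toSheaf X.ringCatSheaf).map φ) 2 x))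
    (W : (U : Scheme.{u}).Modules) (hW : ExtPow.IsExtPow 2 (Omega.sheaf (U.ι ≫ (X ↘ (Spec (CommRingCat.of k))))) W) :
    Nonempty ((Scheme.Modules.restrictFunctor U.ι).obj ω ≅ W) := by
  exact H17.DualSh.nonempty_restrict_iso_topForms (N := N) (r := 2) hdim ι hι U
    (fun x hx => (hUreg x).1 hx) hωcoh (H17.DualSh.repDual_of_forall hdual) hW

end Groth.Agent.S14702
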