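import Groth.Statements.S14703
import Groth.Agent.H28RR.CountStalk
import Groth.Agent.H28RR.Cor
import Groth.Agent.H28Reg.Basic
import Groth.Agent.H28Bertini.Regular
import Groth.Agent.H28Contr.Factor
import Groth.Agent.H28RR.BlowPic

set_option autoImplicit false
universe u
open CategoryTheory CategoryTheory.Limits AlgebraicGeometry
open Groth.Agent
open Surf

namespace Groth.Agent.S14703

/-- Let k be an algebraically closed field, X an integral scheme of dimension two admitting a closed
immersion into some P^n_k over k, and U ⊆ X open with finite complement. Let φ : Y → X be a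
k-morphism from an integral scheme of dimension two with all local rings regular, itself admitting a
closed immersion into some projective space over k, restricting to an isomorphism over U; let μ_1,
…, μ_s be distinct integral one-dimensional closed subschemes of Y, each mapped to a point, such
that every integral one-dimensional closed subscheme of Y mapped to a point has the support of one
of them. Let D be an effective Cartier divisor on X (an ideal sheaf I_D locally generated by one
nonzerodivisor) and D̃ an effective Cartier divisor on Y whose support contains no μ_j and whose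
ideal agrees with the inverse-image ideal φ⁻¹I_D · O_Y on every affine open contained in φ⁻¹(U) —
the strict transform of D. Then there are natural numbers γ_1, …, γ_s such that φ⁻¹I_D · O_Y =
I_{D̃} · ∏_j I_{μ_j}^{γ_j} (the total transform is the strict transform plus Σ γ_j μ_j) and Σ_j (μ_i
· μ_j) γ_j = -(D̃ · μ_i) for every i (the total transform meets every μ_i with intersection number
zero), where (A · B) = χ(O_Y) - χ(I_A) - χ(I_B) + χ(I_A ⊗ I_B) (packaged as FGA.intNum). (The
published statement writes the coefficient vector as γ = -d⁻¹ (D̃ · μ), with d = (μ_i · μ_j), for a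
locally principal divisor on a normal surface and a resolution that is an isomorphism exactly off
the singular points with exceptional fibres of pure dimension one; this row states the linear system
d γ = -(D̃ · μ), for effective Cartier divisors, any resolution that is an isomorphism over an open
subset with finite complement, and X not assumed normal.) -/
theorem result (k : Type u) [Field k] [IsAlgClosed k] (X : Scheme.{u}) [X.Over (Spec (CommRingCat.of k))]
    [IsIntegral X] (hdim : topologicalKrullDim X = 2)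
    (hproj : ∃ (n : ℕ) (ι : X ⟶ CohB1.ProjSpace n k), IsClosedImmersion ι ∧ ι ≫ CohB1.ProjSpace.toSpec n k = (X ↘ (Spec (CommRingCat.of k))))
    (U : X.Opens) (hU : ((U : Set X)ᶜ).Finite)
    (Y : Scheme.{u}) (φ : Y ⟶ X) [IsIntegral Y] (hdimY : topologicalKrullDim Y = 2)
    (hregY : ∀ y : Y, IsRegularLocalRing (Y.presheaf.stalk y))
    (hprojY : ∃ (n : ℕ) (ι : Y ⟶ CohB1.ProjSpace n k), IsClosedImmersion ι ∧ ι ≫ CohB1.ProjSpace.toSpec n k = φ ≫ (X ↘ (Spec (CommRingCat.of k))))
    (hiso : IsIso (φ ∣_ U))
    (s : ℕ) (μ : Fin s → Y.IdealSheafData) (hμint : ∀ j, IsIntegral (μ j).subscheme)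
    (hμdim : ∀ j, topologicalKrullDim ((μ j).support : Set Y) = 1)
    (hμpt : ∀ j, ∃ x : X, φ.base '' ((μ j).support : Set Y) = {x})
    (hμinj : Function.Injective fun j => ((μ j).support : Set Y))
    (hμall : ∀ E : Y.IdealSheafData, IsIntegral E.subscheme → topologicalKrullDim (E.support : Set Y) = 1 →
      (∃ x : X, φ.base '' (E.support : Set Y) = {x}) → ∃ j, (E.support : Set Y) = (μ j).support)
    (D : X.IdealSheafData) (hD : FGA.IsEffCartier D) (Dt : Y.IdealSheafData) (hDt : FGA.IsEffCartier Dt)
    (hDtexc : ∀ j, ¬ ((μ j).support : Set Y) ⊆ Dt.support)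
    (hDtU : ∀ W : Y.affineOpens, (W : Y.Opens) ≤ φ ⁻¹ᵁ U → Dt.ideal W = (D.comap φ).ideal W) :
    letI : Y.Over (Spec (CommRingCat.of k)) := ⟨φ ≫ (X ↘ (Spec (CommRingCat.of k)))⟩
    ∃ γ : Fin s → ℕ, D.comap φ = Dt * ∏ j : Fin s, μ j ^ γ j ∧
      ∀ i : Fin s, (∑ j : Fin s, FGA.intNum k Y 2 ![ClSub.idealMod (μ i), ClSub.idealMod (μ j)] (Coh.structureModule Y) * (γ j : ℤ)) =
        - FGA.intNum k Y 2 ![ClSub.idealMod Dt, ClSub.idealMod (μ i)] (Coh.structureModule Y) := by
  classical
  letI : Y.Over (Spec (CommRingCat.of k)) := ⟨φ ≫ (X ↘ (Spec (CommRingCat.of k)))⟩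
  obtain ⟨n, ι, hι, hιk⟩ := hproj
  obtain ⟨n', ι', hι', hιk'⟩ := hprojY
  haveI := hι
  haveI := hι'
  haveI : IsProper (X ↘ Spec (CommRingCat.of k)) :=
    hιk ▸ inferInstanceAs (IsProper (ι ≫ CohB1.ProjSpace.toSpec n k))
  haveI : IsProper (Y ↘ Spec (CommRingCat.of k)) := by
    show IsProper (φ ≫ (X ↘ Spec (CommRingCat.of k)))
    exact hιk' ▸ inferInstanceAs (IsProper (ι' ≫ CohB1.ProjSpace.toSpec n' k))
  haveI : Smooth (Y ↘ Spec (CommRingCat.of k)) := H28Bertini.smooth_of_regular _ hregY
  haveI := H28Int.isNoetherian k (X := X)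
  haveI := H28Int.isNoetherian k (X := Y)
  haveI : JacobsonSpace X := LocallyOfFiniteType.jacobsonSpace (X ↘ Spec (CommRingCat.of k))
  have hclosed : ∀ x : X, x ∉ U → IsClosed ({x} : Set X) := fun x hx => by
    refine isClosed_singleton_of_isLocallyClosed_singleton ?_
    set F : Set X := ((U : Set X)ᶜ ∩ closure {x})
    have hF : F.Finite := hU.subset Set.inter_subset_left
    have hFc : IsClosed F := U.isOpen.isClosed_compl.inter isClosed_closure
    obtain ⟨G, hG1, hG2⟩ : ∃ G : Set X, IsOpen G ∧ G ∩ closure {x} = {x} := by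
      refine ⟨(⋃ y ∈ F \ {x}, closure {y})ᶜ,
        ((hF.diff (t := {x})).isClosed_biUnion fun y _ => isClosed_closure).isOpen_compl,
        Set.eq_singleton_iff_unique_mem.2 ⟨⟨?_, subset_closure rfl⟩, ?_⟩⟩
      · intro hmem
        obtain ⟨y, ⟨hy, hyx⟩, hxy⟩ := Set.mem_iUnion₂.1 hmem
        exact hyx ((specializes_iff_mem_closure.2 hxy).antisymm (specializes_iff_mem_closure.2 hy.2)).eq
      · rintro y ⟨hyG, hyc⟩
        by_contra hyx
        refine hyG (Set.mem_iUnion₂.2 ⟨y, ⟨⟨?_, hyc⟩, hyx⟩, subset_closure rfl⟩)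
        exact closure_minimal (Set.singleton_subset_iff.2 hx) U.isOpen.isClosed_compl hyc
    rw [← hG2]
    exact hG1.isLocallyClosed.inter isClosed_closure.isLocallyClosed
  haveI := hiso
  have hηU : genericPoint X ∈ U := by
    by_contra h
    have h1 : topologicalKrullDim (closure ({genericPoint X} : Set X)) = 2 := by
      rw [genericPoint_closure (α := X), (Homeomorph.Set.univ X).isHomeomorph.topologicalKrullDim_eq, hdim]
    have h2 := H28Int.Curves.cdim_closed (hclosed _ h)
    change topologicalKrullDim (closure ({genericPoint X} : Set X)) = _ at h2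
    rw [h2] at h1
    exact absurd h1 (by decide)
  have hUne : (U : Set X).Nonempty := ⟨_, hηU⟩
  obtain ⟨hgen, -⟩ := H28Contr.generic_of_birational φ U hUne
  have hgenD := H28Reg.genericPoint_notMem_of_isEffCartier hD
  have hcm : BlowUp.IsEffCartierIdeal (D.comap φ) := S8862.result φ D hD fun ξ hξ h => by
    rw [← hξ _ (genericPoint_specializes ξ), hgen] at h
    exact hgenD h
  obtain ⟨M, hM, hMp⟩ := H28Surf.exists_multiset k hdimY (D.comap φ) hcm
  obtain ⟨N, hN, hNp⟩ := H28Surf.exists_multiset k hdimY Dt hDt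
  have hμc : ∀ j, H28Surf.IsCurve (μ j) := fun j => ⟨hμint j, hμdim j⟩
  have hμne : ∀ i j, μ i = μ j → i = j := fun i j h => hμinj (by simp only [h])
  have hN0 : ∀ j, N.count (μ j) = 0 := fun j => Multiset.count_eq_zero.2 fun hj => hDtexc j (by
    intro z hz
    rw [← hNp]
    exact (H28Surf.mem_support_prod k).2 ⟨μ j, hj, hz⟩)
  have hcount : ∀ C : Y.IdealSheafData, H28Surf.IsCurve C → (∀ j, C ≠ μ j) → M.count C = N.count C := by
    intro C hC hCμ
    haveI := hC.int
    let η := C.subschemeι (genericPoint C.subscheme)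
    by_cases hη : φ η ∈ U
    · obtain ⟨V, hV, hηV, hVU⟩ := exists_isAffineOpen_mem_and_subset (X := Y) (x := η) (U := φ ⁻¹ᵁ U) hη
      refine H28RR.pow_injective_gen k hdimY hC ?_
      rw [← H28RR.stalkId_prod_gen k hC M hM ⟨V, hV⟩ hηV, ← H28RR.stalkId_prod_gen k hC N hN ⟨V, hV⟩ hηV,
        hMp, hNp, H28Vert.stalkId, H28Vert.stalkId, hDtU ⟨V, hV⟩ hVU]
    · exfalso
      have himg : φ.base '' (C.support : Set Y) = {φ η} := by
        refine Set.eq_singleton_iff_unique_mem.2 ⟨⟨η, H28Surf.IsCurve.gen_mem k hC, rfl⟩, ?_⟩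
        rintro _ ⟨z, hz, rfl⟩
        rw [← hC.closure_gen] at hz
        have := map_mem_closure φ.continuous hz (t := {φ η}) fun w hw => congrArg φ hw
        rwa [(hclosed _ hη).closure_eq] at this
      obtain ⟨j, hj⟩ := hμall C hC.int hC.dim ⟨_, himg⟩
      exact hCμ j (H28Surf.eq_of_support_subset k hC (hμc j) hj.subset)
  let γ : Fin s → ℕ := fun j => M.count (μ j)
  have hMN : M = N + ∑ j : Fin s, Multiset.replicate (γ j) (μ j) := by
    refine Multiset.ext' fun C => ?_
    rw [Multiset.count_add, Multiset.count_sum']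
    simp only [Multiset.count_replicate]
    by_cases hC : ∃ j, C = μ j
    · obtain ⟨j, rfl⟩ := hC
      rw [hN0, zero_add, Finset.sum_eq_single j (fun i _ hij => if_neg fun h => hij (hμne i j h))
        (fun h => absurd (Finset.mem_univ j) h), if_pos rfl]
    · push Not at hC
      rw [Finset.sum_eq_zero fun i _ => if_neg fun h => hC i h.symm, add_zero]
      by_cases hcur : H28Surf.IsCurve C
      · exact hcount C hcur hC
      · rw [Multiset.count_eq_zero.2 fun h => hcur (hM C h), Multiset.count_eq_zero.2 fun h => hcur (hN C h)]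
  have hprod : (∑ j : Fin s, Multiset.replicate (γ j) (μ j)).prod = ∏ j : Fin s, μ j ^ γ j := by
    rw [Multiset.prod_sum]
    simp only [Multiset.prod_replicate]
  refine ⟨γ, by rw [← hMp, hMN, Multiset.prod_add, hNp, hprod], fun i => ?_⟩
  have hμi := H28Surf.isInvertible_ideal k (H28Surf.isEffCartier_curve k hdimY (hμc i))
  have hDi := H29Blow.isInvertible_of_isEffCartierIdeal D hD
  have hpD := H11Ample.isInvertible_pullback φ hDi
  -- the total transform has degree zero on a contracted curve
  have hzero : H28Surf.pr k (ClSub.idealMod (μ i)) ((Scheme.Modules.pullback φ).obj (ClSub.idealMod D)) = 0 := by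
    haveI := (hμc i).int
    obtain ⟨x, hx⟩ := hμpt i
    have hdeg := H28RR.degOn_eq_pr k hdimY (hμc i) hpD
    rw [H28Surf.degOn_eq_deg k (hμc i) hpD] at hdeg
    letI : (μ i).subscheme.Over (Spec (CommRingCat.of k)) := ⟨(μ i).subschemeι ≫ (Y ↘ Spec (CommRingCat.of k))⟩
    haveI : IsProper ((μ i).subscheme ↘ Spec (CommRingCat.of k)) :=
      inferInstanceAs (IsProper ((μ i).subschemeι ≫ (Y ↘ Spec (CommRingCat.of k))))
    have h0 : H28Int.D k [(Scheme.Modules.pullback ((μ i).subschemeι ≫ φ)).obj (ClSub.idealMod D)]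
        (Coh.structureModule (μ i).subscheme) = 0 :=
      H28Int.Curves.D_pullback_const k ((μ i).subschemeι ≫ φ) (x := x) (fun y =>
        hx.le ⟨(μ i).subschemeι y, by rw [← Scheme.IdealSheafData.range_subschemeι]; exact ⟨y, rfl⟩, rfl⟩) hDi
    have h2 := H25Euler.euler_congr (k := k) ((Scheme.Modules.pullbackComp (μ i).subschemeι φ).app (ClSub.idealMod D))
    have h3 : Curv2.euler k (μ i).subscheme (Coh.structureModule (μ i).subscheme) - Curv2.euler k (μ i).subscheme
        (CohB1.tensorMod ((Scheme.Modules.pullback ((μ i).subschemeι ≫ φ)).obj (ClSub.idealMod D))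
          (Coh.structureModule (μ i).subscheme)) = 0 := h0
    rw [H25Euler.euler_congr (H10Coh.Tw.rightUnitIso _)] at h3
    rw [Curv2.deg, Nat.cast_one, one_mul] at hdeg
    simp only [Functor.comp_obj] at h2
    omega
  obtain ⟨ψ⟩ := H12Pic.CurveFam.nonempty_pullback_idealMod_comap φ hD hcm
  have hS : ∀ C ∈ ∑ j : Fin s, Multiset.replicate (γ j) (μ j), H28Surf.IsCurve C := fun C hC => by
    obtain ⟨j, -, hj⟩ := Multiset.mem_sum.1 hC
    exact (Multiset.eq_of_mem_replicate hj).symm ▸ hμc j
  rw [H28Surf.pr_symm k, H28Surf.pr_congr_left k hμi (ψ ≪≫ eqToIso (congrArg ClSub.idealMod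
      (show D.comap φ = Dt * (∑ j : Fin s, Multiset.replicate (γ j) (μ j)).prod by
        rw [← hMp, hMN, Multiset.prod_add, hNp]))),
    H28Reg.pr_mul_left k hdimY hDt (H28Surf.isEffCartier_prod k hdimY _ hS) hμi,
    H28Reg.pr_prod_left k hregY hdimY _ hS hμi] at hzero
  have hsum : (Multiset.map (fun C => H28Surf.pr k (ClSub.idealMod C) (ClSub.idealMod (μ i)))
      (∑ j : Fin s, Multiset.replicate (γ j) (μ j))).sum =
      ∑ j : Fin s, (γ j : ℤ) * H28Surf.pr k (ClSub.idealMod (μ j)) (ClSub.idealMod (μ i)) := by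
    rw [← Multiset.coe_mapAddMonoidHom, map_sum, Multiset.sum_sum]
    simp [Multiset.map_replicate, Multiset.sum_replicate, nsmul_eq_mul]
  rw [hsum] at hzero
  have hμinv := fun j => H28Surf.isInvertible_ideal k (H28Surf.isEffCartier_curve k hdimY (hμc j))
  rw [H28Surf.intNum_eq_pr k hdimY (H28Surf.isInvertible_ideal k hDt) hμi]
  simp only [H28Surf.intNum_eq_pr k hdimY hμi (hμinv _)]
  refine eq_neg_of_add_eq_zero_right (Eq.trans ?_ hzero)
  refine congrArg₂ (· + ·) rfl (Finset.sum_congr rfl fun j _ => ?_)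
  rw [H28Surf.pr_symm k (ClSub.idealMod (μ i)), mul_comm]

end Groth.Agent.S14703
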