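import Groth.Statements.S14705
import Groth.Agent.H24Formal3.BaseChangeZero
import Groth.Agent.H24FSch.Sub
import Groth.Agent.H29Blow.Basic

set_option autoImplicit false
set_option linter.style.haveILetI false
open CategoryTheory CategoryTheory.Limits AlgebraicGeometry
universe u
open FCompl

attribute [-instance] CategoryTheory.catToReflQuiver
open AlgebraicGeometry Groth.Agent
namespace Groth.Agent.S14705

/-- Let f : X ⟶ Y be a proper morphism of Noetherian schemes, 𝓘 an ideal of O_Y, 𝓚 = 𝓘 O_X its inverse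
image ideal, X̂ and Ŷ the completions of X and Y along 𝓚 and 𝓘, f̂ : X̂ ⟶ Ŷ the extension of f to
the completions, and i : X̂ ⟶ X, j : Ŷ ⟶ Y the canonical morphisms of ringed spaces, so that f ∘ i =
j ∘ f̂. Then for every coherent O_X-module F the base-change morphism j^*(f_* F) ⟶ f̂_*(i^* F) of
this square is an isomorphism; since F and f_* F are coherent, i^* F and j^*(f_* F) are their
completions, so this says that the completion of f_* F is the direct image of the completion of F. -/
theorem result (X Y : Scheme.{u}) [IsNoetherian X] [IsNoetherian Y]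
    (f : X ⟶ Y) [IsProper f] (𝓘 : Y.IdealSheafData) (𝓚 : X.IdealSheafData) (h𝓚 : 𝓚 = 𝓘.comap f)
    (hpc : FSch.PowCompat f 𝓚 𝓘) (hX : (FSch.completionAlong X 𝓚).IsFormal) (hY : (FSch.completionAlong Y 𝓘).IsFormal)
    (F : X.Modules) (hF : Coh.IsCoh F) :
    IsIso (FSch.schBcMap (FSch.completionMap f 𝓚 𝓘 hpc) hX hY f
      (FSch.completionToX X 𝓚) (FSch.completionToX_comm X 𝓚)
      (FSch.completionToX Y 𝓘) (FSch.completionToX_comm Y 𝓘)
      (FSch.completionMap_sq f 𝓚 𝓘 hpc) F) := by
    subst h𝓚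
    haveI : ∀ n, IsClosedImmersion (FSch.completionToX X (𝓘.comap f) n) := fun n =>
      inferInstanceAs (IsClosedImmersion ((𝓘.comap f) ^ (n + 1)).subschemeι)
    haveI : ∀ n, IsClosedImmersion (FSch.completionToX Y 𝓘 n) := fun n =>
      inferInstanceAs (IsClosedImmersion (𝓘 ^ (n + 1)).subschemeι)
    have hker : ∀ {Z : Scheme.{u}} (J : Z.IdealSheafData) n (W : Z.Opens) (hW : IsAffineOpen W),
        RingHom.ker ((FSch.completionToX Z J n).app W).hom = (J.ideal ⟨W, hW⟩) ^ (n + 1) := fun J n W hW =>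
      ((J ^ (n + 1)).ker_subschemeι_app ⟨W, hW⟩).trans (by rw [Scheme.IdealSheafData.ideal_pow, Pi.pow_apply])
    exact H24Formal3.BaseChangeZero.isIso_schBcMap (H24FSch.isLocNoethFormal_completionAlong X (𝓘.comap f))
      (FSch.completionToX X (𝓘.comap f)) (FSch.completionToX_comm X (𝓘.comap f)) (FSch.complTransIso (𝓘.comap f))
      (fun _ => rfl) F hF (𝓘.comap f) (hker _) (H24FSch.isLocNoethFormal_completionAlong Y 𝓘) (FSch.completionToX Y 𝓘)
      (FSch.completionToX_comm Y 𝓘) (FSch.complTransIso 𝓘) (fun _ => rfl) 𝓘 (hker _) f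
      (fun V hV W hW l => H29Blow.ideal_comap 𝓘 f ⟨V, hV⟩ ⟨W, hW⟩ l) (FSch.completionMap f (𝓘.comap f) 𝓘 hpc)
      ⟨H24FSch.isAdicHom_completionMap f 𝓘 hpc,
        MorphismProperty.of_isPullback (P := @IsProper) (H24FSch.isPullback_completionMap f 𝓘 hpc 0) inferInstance⟩
      (FSch.completionMap_sq f (𝓘.comap f) 𝓘 hpc)

end Groth.Agent.S14705
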