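import Groth.Statements.S14712
import Groth.Agent.H20Lin.Basic
import Groth.Agent.H19Grp.UnitsProd

set_option autoImplicit false
set_option linter.style.haveILetI false
set_option linter.unusedSectionVars false
set_option backward.isDefEq.respectTransparency false
universe u
open CategoryTheory MonoidalCategory CartesianMonoidalCategory MonObj GrpObj AlgebraicGeometry Topology
open GIT

namespace Groth.Agent.S14712

open CategoryTheory.Limits
open _root_.Groth.Agent.H19Grp.UnitsProd (pb pb_comp)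

noncomputable section

variable {k : Type u} [Field k] [IsAlgClosed k] {G : Over (Spec (CommRingCat.of k))}

theorem isUnit_of_forall_point [LocallyOfFiniteType G.hom] (F : Γ(G.left, ⊤))
    (h : ∀ g : 𝟙_ (Over (Spec (CommRingCat.of k))) ⟶ G, IsUnit (pb g F)) : IsUnit F := by
  haveI : JacobsonSpace G.left := LocallyOfFiniteType.jacobsonSpace G.hom
  have hbo : G.left.basicOpen F = ⊤ := by
    refine top_le_iff.1 fun z _ => ?_
    by_contra hz
    obtain ⟨x, hxmem, hx⟩ := nonempty_inter_closedPoints (Z := ((G.left.basicOpen F : Set G.left))ᶜ) ⟨z, hz⟩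
      (G.left.basicOpen F).2.isClosed_compl.isLocallyClosed
    let g : 𝟙_ (Over (Spec (CommRingCat.of k))) ⟶ G :=
      Over.homMk (pointOfClosedPoint G.hom x hx) (pointOfClosedPoint_comp _ _ _)
    let t : (𝟙_ (Over (Spec (CommRingCat.of k)))).left := IsLocalRing.closedPoint k
    have h1 : t ∈ g.left ⁻¹ᵁ G.left.basicOpen F := by
      rw [Scheme.preimage_basicOpen_top]
      rw [Scheme.basicOpen_of_isUnit _ (h g)]
      trivial
    exact hxmem ((pointOfClosedPoint_apply G.hom x hx t) ▸ h1)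
  have h2 := RingedSpace.isUnit_res_basicOpen G.left.toRingedSpace F
  have h3 := h2.map (G.left.presheaf.map (eqToHom hbo.symm).op).hom
  refine (congrArg IsUnit ?_).mp h3
  refine (H20SS.res_res (G.left.basicOpen_le F) hbo.ge F).trans ?_
  rw [show (homOfLE (le_refl (⊤ : G.left.Opens))).op = 𝟙 _ from rfl, CategoryTheory.Functor.map_id]
  rfl

theorem eq_one_of_isCharacter [GrpObj G]
    (hχ : ∀ (χ : G ⟶ Red.Gm (Spec (CommRingCat.of k))) [IsMonHom χ], χ = 1)
    (F : Γ(G.left, ⊤)) (hF : IsUnit F) (hm : pb μ[G] F = pb (fst G G) F * pb (snd G G) F) : F = 1 := by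
  obtain ⟨u, hu⟩ := H27SekSuwa.exists_gvX (R := ULift.{u} ℤ) (f := IsTerminal.from specULiftZIsTerminal _)
    (Y := G) hF
  haveI : IsMonHom u := by
    refine H27SekSuwa.isMonHom_of_mul_hom u (H19Grp.UnitsProd.gvX_inj _ _ ?_)
    have e : (u ⊗ₘ u) ≫ μ[Red.Gm (Spec (CommRingCat.of k))] = (fst G G ≫ u) * (snd G G ≫ u) := by
      rw [Hom.mul_def]
      congr 1
      try (ext <;> simp)
    rw [H27SekSuwa.gvX_comp, hu, e, H19Grp.UnitsProd.gvX_mul', H27SekSuwa.gvX_comp, H27SekSuwa.gvX_comp, hu]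
    try exact hm
  have h1 : u * u = u := H19Grp.UnitsProd.one_idem u (hχ u)
  have h3 : F * F = F := by rw [← hu, ← H19Grp.UnitsProd.gvX_mul', h1]
  exact hF.mul_left_cancel (h3.trans (_root_.mul_one F).symm)

variable [GrpObj G] [LocallyOfFiniteType G.hom] [QuasiCompact G.hom] [ConnectedSpace G.left] [IsReduced G.left]
  {X V : Over (Spec (CommRingCat.of k))} {π : V ⟶ X}

theorem discr_eq (hχ : ∀ (χ : G ⟶ Red.Gm (Spec (CommRingCat.of k))) [IsMonHom χ], χ = 1)
    (a : AlgGrp.Action G X) (A : GLinSh.LinAtlas π)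
    (Φ₁ Φ₂ : AlgGrp.Action G V) (h₁ : Φ₁.act ≫ π = (G ◁ π) ≫ a.act) (h₂ : Φ₂.act ≫ π = (G ◁ π) ≫ a.act)
    (hl₁ : GLinSh.IsLinearLift a π Φ₁ A.chart h₁) (hl₂ : GLinSh.IsLinearLift a π Φ₂ A.chart h₂)
    (g₀ : 𝟙_ (Over (Spec (CommRingCat.of k))) ⟶ G) (v : 𝟙_ (Over (Spec (CommRingCat.of k))) ⟶ V) :
    lift g₀ v ≫ H20Lin.discr Φ₁ Φ₂ = v := by
  let T := 𝟙_ (Over (Spec (CommRingCat.of k)))
  haveI : IsAffine T.left := inferInstanceAs (IsAffine (Spec (CommRingCat.of k)))
  haveI : Subsingleton T.left := inferInstanceAs (Subsingleton (PrimeSpectrum k))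
  haveI : Nonempty T.left := inferInstanceAs (Nonempty (PrimeSpectrum k))
  let x : T ⟶ X := v ≫ π
  obtain ⟨t⟩ := ‹Nonempty T.left›
  obtain ⟨W, U, hWU, y, hW, hxW, hy, -⟩ := H20Lin.exists_affine_chart A (x.left t)
  have hx : ⊤ ≤ x.left ⁻¹ᵁ U := fun s _ => Subsingleton.elim t s ▸ hWU hxW
  obtain ⟨σ, hσ, eσ, hσ1⟩ := H20SS.exists_unitSection A hy hW hWU
  have hrange : Set.range x.left.base ⊆ Set.range W.ι.base := by
    rintro _ ⟨s, rfl⟩
    rw [W.range_ι]
    exact Subsingleton.elim t s ▸ hxW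
  let xW : T ⟶ Over.mk (W.ι ≫ X.hom) := Over.homMk (IsOpenImmersion.lift W.ι x.left hrange)
    (by
      show IsOpenImmersion.lift W.ι x.left hrange ≫ W.ι ≫ X.hom = T.hom
      rw [IsOpenImmersion.lift_fac_assoc]
      exact Over.w x)
  let σx : T ⟶ V := xW ≫ σ
  have hσx : σx ≫ π = x := by
    rw [Category.assoc, hσ]
    exact Over.OverMorphism.ext (IsOpenImmersion.lift_fac _ _ _)
  have over_U : ∀ {Y : Over (Spec (CommRingCat.of k))} (w : Y ⟶ V) (t' : Y ⟶ T), w ≫ π = t' ≫ x →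
      ⊤ ≤ w.left ⁻¹ᵁ (π.left ⁻¹ᵁ U) := fun w t' hw s _ => by
    show (w ≫ π).left s ∈ U
    rw [hw]
    exact hx (show t'.left s ∈ (⊤ : T.left.Opens) from trivial)
  have over_U' : ∀ (w : T ⟶ V), w ≫ π = x → ⊤ ≤ w.left ⁻¹ᵁ (π.left ⁻¹ᵁ U) := fun w hw =>
    over_U w (𝟙 T) (by rw [hw, Category.id_comp])
  have hσx1 : ∀ e, σx.left.appLE (π.left ⁻¹ᵁ U) ⊤ e y = 1 := fun e => by
    have e' : ⊤ ≤ σ.left ⁻¹ᵁ (π.left ⁻¹ᵁ U) := eσ.trans (σ.left.preimage_mono (π.left.preimage_mono hWU))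
    have h1 : σ.left.appLE (π.left ⁻¹ᵁ U) ⊤ e' y = 1 := by
      rw [← hσ1]
      unfold GLinSh.res
      rw [H20SS.appLE_res]
    show (xW.left ≫ σ.left).appLE (π.left ⁻¹ᵁ U) ⊤ e y = 1
    rw [← H20SS.appLE_appLE xW.left σ.left e' (O := ⊤) (le_of_eq rfl), h1, map_one]
  let m : G ⟶ V := lift (𝟙 G) (toUnit G ≫ σx) ≫ H20Lin.discr Φ₁ Φ₂
  have hm : m ≫ π = toUnit G ≫ x := by
    rw [H20Lin.lift_discr_proj a Φ₁ Φ₂ h₁ h₂, Category.assoc, hσx]
  let F : Γ(G.left, ⊤) := m.left.appLE (π.left ⁻¹ᵁ U) ⊤ (over_U m (toUnit G) hm) y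
  have hgm : ∀ g : T ⟶ G, g ≫ m = lift g σx ≫ H20Lin.discr Φ₁ Φ₂ := fun g => by
    rw [comp_lift_assoc, Category.comp_id, ← Category.assoc, toUnit_unique (g ≫ toUnit G) (𝟙 T), Category.id_comp]
  have hproj : ∀ (g : T ⟶ G) (w : T ⟶ V), w ≫ π = x → (lift g w ≫ H20Lin.discr Φ₁ Φ₂) ≫ π = x := fun g w hw => by
    rw [H20Lin.lift_discr_proj a Φ₁ Φ₂ h₁ h₂, hw]
  have hval : ∀ g : T ⟶ G, pb g F = (lift g σx ≫ H20Lin.discr Φ₁ Φ₂).left.appLE (π.left ⁻¹ᵁ U) ⊤
      (over_U' _ (hproj g σx hσx)) y := fun g => by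
    rw [← H20Lin.appLE_congr_pt (hgm g) (over_U' _ (by rw [hgm g]; exact hproj g σx hσx)) _ y]
    show g.left.appTop (m.left.appLE _ ⊤ _ y) = _
    rw [Scheme.Hom.appTop, ← Scheme.Hom.appLE_eq_app]
    exact H20SS.appLE_appLE g.left m.left (over_U m (toUnit G) hm) (le_of_eq rfl) y
  have hscal : ∀ (g : T ⟶ G) (w : T ⟶ V) (hw : w ≫ π = x),
      (lift g w ≫ H20Lin.discr Φ₁ Φ₂).left.appLE (π.left ⁻¹ᵁ U) ⊤ (over_U' _ (hproj g w hw)) y =
        pb g F * w.left.appLE (π.left ⁻¹ᵁ U) ⊤ (over_U' _ hw) y := fun g w hw => by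
    obtain ⟨c, hc⟩ := H20Lin.exists_scalar A a Φ₁ Φ₂ h₁ h₂ hl₁ hl₂ hy g x hx
    rw [hc w hw (over_U' _ hw), hval g, hc σx hσx (over_U' _ hσx), hσx1, _root_.mul_one]
  have hunit : ∀ g : T ⟶ G, IsUnit (pb g F) := fun g => by
    obtain ⟨c, hc⟩ := H20Lin.exists_scalar A a Φ₂ Φ₁ h₂ h₁ hl₂ hl₁ hy g x hx
    have h := hc _ (hproj g σx hσx) (over_U' _ (hproj g σx hσx))
      (over_U' _ (by rw [H20Lin.discr_discr, hσx]))
    rw [H20Lin.appLE_congr_pt (H20Lin.discr_discr Φ₁ Φ₂ g σx) _ (over_U' _ hσx), hσx1, ← hval g] at h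
    exact IsUnit.of_mul_eq_one_right _ h.symm
  have hF : IsUnit F := isUnit_of_forall_point F hunit
  have he : pb η[G] F = 1 := by
    have h1 : η[G] = (1 : T ⟶ G) := by rw [Hom.one_def, toUnit_unique (toUnit T) (𝟙 T), Category.id_comp]
    rw [hval, H20Lin.appLE_congr_pt (show lift η[G] σx ≫ H20Lin.discr Φ₁ Φ₂ = σx by
      rw [h1, H20Lin.discr_one]) _ (over_U' _ hσx), hσx1]
  have hF1 : F = 1 := eq_one_of_isCharacter hχ F hF (H19Grp.UnitsProd.isCharacter F hF he)
  have hx₀ : v ≫ π = x := rfl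
  refine H20Lin.point_ext A hy _ _ ((hproj g₀ v hx₀).trans hx₀.symm) (over_U' _ (hproj g₀ v hx₀))
    (over_U' _ hx₀) ?_
  rw [hscal g₀ v hx₀, hF1, map_one, _root_.one_mul]

end

end Groth.Agent.S14712

namespace Groth.Agent.S14712

/-- Over an algebraically closed field k, let G be a connected algebraic group (a smooth connected group
scheme of finite type) admitting no non-trivial homomorphism to the multiplicative group, acting on
a reduced scheme X of finite type over k (not necessarily separated), and let π : V → X be a line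
bundle over X in total-space form (an affine morphism with a linear atlas of fibre coordinates).
Then any two liftings of the action to fibrewise-linear bundle actions of G on V coincide: an
invertible sheaf on X admits at most one G-linearisation. (The published statement is over an
arbitrary field, with X geometrically reduced and the character condition imposed after extension to
an algebraically closed field; this row is the case of an algebraically closed ground field, to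
which the published proof reduces. L is taken in total-space form: a linearisation is a lifted
bundle action.) -/
theorem result (k : Type u) [Field k] [IsAlgClosed k]
    (G X V : Over (Spec (CommRingCat.of k))) [GrpObj G]
    [Smooth G.hom] [LocallyOfFiniteType G.hom] [QuasiCompact G.hom] [ConnectedSpace G.left]
    (hχ : ∀ (χ : G ⟶ Red.Gm (Spec (CommRingCat.of k))) [IsMonHom χ], χ = 1)
    [LocallyOfFiniteType X.hom] [QuasiCompact X.hom] [IsReduced X.left]
    (a : AlgGrp.Action G X) (π : V ⟶ X) (A : GLinSh.LinAtlas π)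
    (Φ₁ Φ₂ : AlgGrp.Action G V) (h₁ : Φ₁.act ≫ π = (G ◁ π) ≫ a.act) (h₂ : Φ₂.act ≫ π = (G ◁ π) ≫ a.act)
    (hl₁ : GLinSh.IsLinearLift a π Φ₁ A.chart h₁) (hl₂ : GLinSh.IsLinearLift a π Φ₂ A.chart h₂) :
    Φ₁.act = Φ₂.act := by
  haveI : IsReduced G.left := H13AlgSp.isReduced_of_smooth_mor G.hom
  haveI : GeometricallyReduced G.hom := H06Red.geometricallyReduced_of_perfectField G.hom
  haveI : Flat G.hom := H12AlgSp.flat_to_field _
  haveI := A.affine
  haveI := H20Lin.locallyOfFiniteType_proj A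
  haveI := H20Lin.isReduced_total A
  haveI : LocallyOfFiniteType V.hom := by rw [← Over.w π]; infer_instance
  haveI : IsLocallyNoetherian V.left := LocallyOfFiniteType.isLocallyNoetherian V.hom
  haveI : IsReduced (G ⊗ V).left := inferInstanceAs (IsReduced (CategoryTheory.Limits.pullback G.hom V.hom))
  haveI : LocallyOfFiniteType (G ⊗ V).hom :=
    inferInstanceAs (LocallyOfFiniteType (CategoryTheory.Limits.pullback.fst G.hom V.hom ≫ G.hom))
  haveI : JacobsonSpace (G ⊗ V).left := LocallyOfFiniteType.jacobsonSpace (G ⊗ V).hom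
  refine Over.OverMorphism.ext (ext_of_fromSpecResidueField_eq Φ₁.act.left Φ₂.act.left π.left
    (closedPoints (G ⊗ V).left) ?_ ?_ ?_)
  · rw [dense_iff_closure_eq]
    exact closure_closedPoints
  · intro z hz
    let p : 𝟙_ (Over (Spec (CommRingCat.of k))) ⟶ G ⊗ V :=
      Over.homMk (pointOfClosedPoint (G ⊗ V).hom z hz) (pointOfClosedPoint_comp _ _ _)
    have hp : p ≫ Φ₁.act = p ≫ Φ₂.act := by
      have hd := discr_eq hχ a A Φ₁ Φ₂ h₁ h₂ hl₁ hl₂ (p ≫ fst G V) (p ≫ snd G V)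
      rw [H20Lin.lift_discr] at hd
      rw [show p = lift (p ≫ fst G V) (p ≫ snd G V) by simp]
      conv_rhs => rw [← hd]
      rw [← H12AlgSp.ActionGroupoid.act_mul, mul_inv_cancel, H12AlgSp.ActionGroupoid.act_one]
    rw [← cancel_epi (Spec.map (residueFieldIsoBase (G ⊗ V).hom z hz).hom)]
    simp only [← Category.assoc]
    exact congrArg (fun m : 𝟙_ (Over (Spec (CommRingCat.of k))) ⟶ V => m.left) hp
  · exact congrArg (fun m : G ⊗ V ⟶ X => m.left) (h₁.trans h₂.symm)

end Groth.Agent.S14712
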