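import Groth.Statements.S14713
import Groth.Agent.H20SS.Quot
import Groth.Agent.H8Props.ProjOpenAmple

set_option autoImplicit false
set_option backward.isDefEq.respectTransparency false
universe u
open CategoryTheory MonoidalCategory CartesianMonoidalCategory MonObj GrpObj AlgebraicGeometry Topology
open GIT

namespace Groth.Agent.S14713

/-- Let k be a field of characteristic zero, G a connected reductive algebraic group over k (affine,
smooth, with connected reductive geometric fibre) acting by σ on a finite-type k-scheme X (not
necessarily separated), and L a G-linearised line bundle on X, taken in total-space form (a line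
bundle V → X with a linear atlas and a fibrewise-linear lifting of the action; sections of L^n are
the weight-n functions on V, invariant sections those fixed by the lifted action, X_s the locus over
which s does not vanish identically on the fibre). Let U = X^ss(L) be the open set of semi-stable
points (those x admitting an invariant section s of some L^n, n ≥ 1, with s(x) ≠ 0 and X_s affine),
with the action restricted to U. Then a uniform categorical quotient (Y, φ) of U by G exists; φ is
affine and universally submersive; and Y is separated, of finite type over k and carries an ample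
invertible sheaf, so that Y is a quasi-projective scheme. (The published statement also identifies
the pull-back of that ample sheaf with a power of L; this identification is not expressed here. The
published statement is for any reductive G in any characteristic; this row is the
characteristic-zero case with G connected. L is taken in total-space form.) -/
theorem result (k : Type u) [Field k] [CharZero k]
    (G X : Over (Spec (CommRingCat.of k))) [GrpObj G] (hG : Red.IsReductive G)
    [LocallyOfFiniteType X.hom] [QuasiCompact X.hom]
    (a : AlgGrp.Action G X) (B : GLinSh.LinBun G a)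
    (U : X.left.Opens) (hU : (U : Set X.left) = B.ssLocus)
    (aU : AlgGrp.Action G (Over.mk (U.ι ≫ X.hom)))
    (jU : Over.mk (U.ι ≫ X.hom) ⟶ X) (hjU : jU.left = U.ι)
    (haU : aU.act ≫ jU = (G ◁ jU) ≫ a.act) :
    ∃ (Y : Over (Spec (CommRingCat.of k))) (φ : Over.mk (U.ι ≫ X.hom) ⟶ Y),
      GIT.IsUnifCatQuot aU φ ∧ IsAffineHom φ.left ∧ GIT.IsUnivSubmersive φ.left ∧
      IsSeparated Y.hom ∧ LocallyOfFiniteType Y.hom ∧
      ∃ M : Y.left.Modules, CohB1.IsAmple M := by
  obtain rfl : U = H20SS.ssOpen B := TopologicalSpace.Opens.ext (hU.trans (H20SS.coe_ssOpen B).symm)
  obtain rfl : jU = H20GQ.resIncl X (H20SS.ssOpen B) := Over.OverMorphism.ext hjU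
  haveI : IsLocallyNoetherian X.left := LocallyOfFiniteType.isLocallyNoetherian X.hom
  haveI : CompactSpace X.left := QuasiCompact.compactSpace_of_compactSpace X.hom
  haveI : IsNoetherian X.left := {}
  haveI : CompactSpace (H20GQ.resObj X (H20SS.ssOpen B)).left :=
    isCompact_iff_compactSpace.1 (TopologicalSpace.NoetherianSpace.isCompact _)
  haveI : CompactSpace (H20SS.quotObj B).left :=
    (H20SS.surjective_quotMap B hG aU haU).compactSpace (H20SS.quotMap B).left.continuous
  haveI : IsSeparated (H20SS.quotObj B).hom := by
    show IsSeparated ((H20SS.quotOpen B).ι ≫ (H20SS.projOver B).hom)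
    infer_instance
  obtain ⟨d, -, hd⟩ := H8Props.ProjOpenAmple.exists_isAmple_pullback_twist (H20SS.grade B) (H20SS.quotObj B).left
    (H20SS.quotOpen B).ι
  exact ⟨H20SS.quotObj B, H20SS.quotMap B,
    H20GQ.isUnifCatQuot_of_isUnivCatQuot (H20SS.isUnivCatQuot_quotMap B hG aU haU),
    H20SS.isAffineHom_quotMap B hG aU haU, H20SS.isUnivSubmersive_quotMap B hG aU haU, inferInstance,
    H20SS.locallyOfFiniteType_quotObj B hG aU haU, _, hd⟩

end Groth.Agent.S14713
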