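import Groth.Statements.S14714
import Groth.Agent.H20SS.Stable
import Groth.Agent.H20GQ.Transfer

set_option autoImplicit false
set_option backward.isDefEq.respectTransparency false
universe u
open CategoryTheory MonoidalCategory CartesianMonoidalCategory MonObj GrpObj AlgebraicGeometry Topology
open GIT

namespace Groth.Agent.S14714

open Groth.Agent
open Groth.Agent.H20GQ (resObj resIncl)

/-- Let k be a field of characteristic zero, G a connected reductive algebraic group over k (affine,
smooth, with connected reductive geometric fibre) acting by σ on a finite-type k-scheme X (not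
necessarily separated), and L a G-linearised line bundle on X, taken in total-space form (a line
bundle V → X with a linear atlas and a fibrewise-linear lifting of the action; sections of L^n are
the weight-n functions on V, invariant sections those fixed by the lifted action, X_s the locus over
which s does not vanish identically on the fibre). Let U = X^ss(L) be the open set of semi-stable
points and U' = X^s(L) ⊆ U the open set of stable points (x admitting an invariant section s of some
L^n, n ≥ 1, with s(x) ≠ 0, X_s affine and the action of G on X_s closed; no condition on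
stabilisers), each with the restricted action, and let (Y, φ) be a categorical quotient of U by G.
Then there is an open subset Ỹ of Y with φ⁻¹(Ỹ) = U' such that (Ỹ, φ restricted to U') is a uniform
geometric quotient of U' by G. (Stated for any categorical quotient of U, which is unique up to
unique isomorphism. The published statement is for any reductive G in any characteristic; this row
is the characteristic-zero case with G connected. L is taken in total-space form.) -/
theorem result (k : Type u) [Field k] [CharZero k]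
    (G X : Over (Spec (CommRingCat.of k))) [GrpObj G] (hG : Red.IsReductive G)
    [LocallyOfFiniteType X.hom] [QuasiCompact X.hom]
    (a : AlgGrp.Action G X) (B : GLinSh.LinBun G a)
    (U : X.left.Opens) (hU : (U : Set X.left) = B.ssLocus)
    (aU : AlgGrp.Action G (Over.mk (U.ι ≫ X.hom)))
    (jU : Over.mk (U.ι ≫ X.hom) ⟶ X) (hjU : jU.left = U.ι)
    (haU : aU.act ≫ jU = (G ◁ jU) ≫ a.act)
    (Y : Over (Spec (CommRingCat.of k))) (φ : Over.mk (U.ι ≫ X.hom) ⟶ Y) (hφ : GIT.IsCatQuot aU φ)
    (Us : X.left.Opens) (hUs : (Us : Set X.left) = B.sLocus) (hle : Us ≤ U)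
    (aS : AlgGrp.Action G (Over.mk (Us.ι ≫ X.hom)))
    (jS : Over.mk (Us.ι ≫ X.hom) ⟶ X) (hjS : jS.left = Us.ι)
    (haS : aS.act ≫ jS = (G ◁ jS) ≫ a.act) :
    ∃ (Yt : Y.left.Opens) (φs : Over.mk (Us.ι ≫ X.hom) ⟶ Over.mk (Yt.ι ≫ Y.hom)),
      φs.left ≫ Yt.ι = X.left.homOfLE hle ≫ φ.left ∧
      φ.left ⁻¹ᵁ Yt = U.ι ⁻¹ᵁ Us ∧
      GIT.IsUnifGeomQuot aS φs := by
  haveI : QuasiSeparatedSpace X.left := by
    haveI := LocallyOfFiniteType.isLocallyNoetherian X.hom
    infer_instance
  haveI : CompactSpace X.left := QuasiCompact.compactSpace_of_compactSpace X.hom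
  obtain rfl : U = H20SS.ssOpen B := TopologicalSpace.Opens.ext (hU.trans (H20SS.coe_ssOpen B).symm)
  obtain rfl : jU = resIncl X (H20SS.ssOpen B) := Over.OverMorphism.ext hjU
  obtain rfl : jS = resIncl X Us := Over.OverMorphism.ext hjS
  have huq := H20SS.isUnivCatQuot_quotMap B hG aU haU
  obtain ⟨e, he⟩ := H20GQ.exists_iso_of_isCatQuot hφ huq.1
  have hu : GIT.IsUnivCatQuot aU φ := H20GQ.isUnivCatQuot_of_iso e he huq hφ
  have hs : GIT.IsUnivSubmersive φ.left :=
    H20GQ.isUnivSubmersive_of_iso e he (H20SS.isUnivSubmersive_quotMap B hG aU haU)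
  let Yt : Y.left.Opens := e.hom.left ⁻¹ᵁ H20SS.stOpen B
  have hUs' : Us = ⨆ j : H20SS.StAdm B, H20SS.nvOpen B.π j.1.sec :=
    TopologicalSpace.Opens.ext (hUs.trans (H20SS.coe_sLocus B))
  have hpre : φ.left ⁻¹ᵁ Yt = (H20SS.ssOpen B).ι ⁻¹ᵁ Us := by
    rw [hUs', ← H20SS.quotMap_preimage_stOpen B, ← he]
    rfl
  let prS : resObj X Us ⟶ resObj X (H20SS.ssOpen B) :=
    Over.homMk (X.left.homOfLE hle) (Scheme.homOfLE_ι_assoc _ hle _)
  have hprS : prS ≫ resIncl X (H20SS.ssOpen B) = resIncl X Us := Over.OverMorphism.ext (Scheme.homOfLE_ι _ hle)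
  have hr : Set.range (prS ≫ φ).left ⊆ Set.range Yt.ι := by
    rintro _ ⟨x, rfl⟩
    rw [Scheme.Opens.range_ι]
    change X.left.homOfLE hle x ∈ φ.left ⁻¹ᵁ Yt
    rw [hpre]
    change (H20SS.ssOpen B).ι (X.left.homOfLE hle x) ∈ Us
    rw [← Scheme.Hom.comp_apply, Scheme.homOfLE_ι]
    exact x.2
  let φs : resObj X Us ⟶ resObj Y Yt := Over.homMk (IsOpenImmersion.lift Yt.ι (prS ≫ φ).left hr) (by
    change _ ≫ Yt.ι ≫ Y.hom = _
    rw [IsOpenImmersion.lift_fac_assoc, Over.w])
  have hfac : φs.left ≫ Yt.ι = (prS ≫ φ).left := IsOpenImmersion.lift_fac _ _ _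
  have hsq : IsPullback prS φs φ (resIncl Y Yt) := H20GQ.isPullback_of_left (by
    haveI : IsOpenImmersion prS.left := inferInstanceAs (IsOpenImmersion (X.left.homOfLE hle))
    haveI : IsOpenImmersion (resIncl Y Yt).left := inferInstanceAs (IsOpenImmersion Yt.ι)
    refine (IsOpenImmersion.isPullback φs.left prS.left (resIncl Y Yt).left φ.left hfac.symm ?_).flip
    change φ.left ⁻¹ᵁ Yt.ι.opensRange = (X.left.homOfLE hle).opensRange
    rw [Scheme.Opens.opensRange_ι, Scheme.opensRange_homOfLE, hpre])
  have ha : aS.act ≫ prS = (G ◁ prS) ≫ aU.act := by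
    rw [← cancel_mono (resIncl X (H20SS.ssOpen B)), Category.assoc, Category.assoc, hprS, haU,
      ← whiskerLeft_comp_assoc, hprS, haS]
  have hiS : GIT.IsInvariant aS φs := by
    unfold GIT.IsInvariant
    rw [← cancel_mono (resIncl Y Yt), Category.assoc, Category.assoc, ← hsq.w, reassoc_of% ha, hφ.1,
      whiskerLeft_snd_assoc]
  have huS : GIT.IsUnivCatQuot aS φs :=
    ⟨hu.2 prS φs _ trivial hsq aS ha hiS, H20GQ.afterBaseChange_trans hu.2 hsq ha⟩
  have hsS : GIT.IsUnivSubmersive φs.left :=
    MorphismProperty.of_isPullback (P := MorphismProperty.universally (topologically @IsQuotientMap))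
      (hsq.map (Over.forget _)) hs
  refine ⟨Yt, φs, hfac, hpre,
    H20GQ.isUnifGeomQuot_of_isUnivGeomQuot ((H20GQ.isUnivGeomQuot_iff huS).2 ⟨hsS, fun z => ?_⟩)⟩
  have hw : φs.left ≫ Yt.ι ≫ e.hom.left = prS.left ≫ (H20SS.quotMap B).left := by
    rw [reassoc_of% hfac, ← he, Over.comp_left, Over.comp_left, Category.assoc]
  haveI : IsOpenImmersion prS.left := inferInstanceAs (IsOpenImmersion (X.left.homOfLE hle))
  haveI : IsIso e.hom.left := ((Over.forget _).mapIso e).isIso_hom
  let m := Limits.pullback.map φs.left φs.left (H20SS.quotMap B).left (H20SS.quotMap B).left prS.left prS.left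
    (Yt.ι ≫ e.hom.left) hw hw
  have hz : (H20SS.quotMap B).left
      (Limits.pullback.fst (H20SS.quotMap B).left (H20SS.quotMap B).left (m z)) ∈ H20SS.stOpen B := by
    rw [← Scheme.Hom.comp_apply, ← Scheme.Hom.comp_apply]
    simp only [m, Limits.pullback.lift_fst_assoc, Category.assoc]
    rw [← hw]
    simp only [Scheme.Hom.comp_apply]
    exact (φs.left (Limits.pullback.fst φs.left φs.left z)).2
  obtain ⟨w, hw'⟩ := H20SS.mem_range_psiY_of_stable B hG aU haU huq.1.1 (m z) hz
  have h2 : (snd G (resObj X (H20SS.ssOpen B))).left w = prS.left (Limits.pullback.snd φs.left φs.left z) := by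
    have h3 := congrArg (Limits.pullback.snd (H20SS.quotMap B).left (H20SS.quotMap B).left) hw'
    rw [← Scheme.Hom.comp_apply, ← Scheme.Hom.comp_apply] at h3
    simp only [m, GIT.PsiY, Limits.pullback.lift_snd] at h3
    rwa [Scheme.Hom.comp_apply] at h3
  obtain ⟨w', -, hw''⟩ := Scheme.exists_preimage_of_isPullback
    (H20GQ.isPullback_whiskerLeft prS G) (Limits.pullback.snd φs.left φs.left z) w h2.symm
  refine ⟨w', m.isOpenEmbedding.injective ?_⟩
  have e1 : (G ◁ prS).left ≫ GIT.PsiY aU (H20SS.quotMap B) huq.1.1 = GIT.PsiY aS φs huS.1.1 ≫ m := by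
    refine Limits.pullback.hom_ext ?_ ?_
    · simp only [Category.assoc, m, GIT.PsiY, Limits.pullback.lift_fst, Limits.pullback.lift_fst_assoc]
      exact congrArg (fun q : G ⊗ resObj X Us ⟶ resObj X (H20SS.ssOpen B) => q.left) ha.symm
    · simp only [Category.assoc, m, GIT.PsiY, Limits.pullback.lift_snd, Limits.pullback.lift_snd_assoc]
      exact congrArg (fun q : G ⊗ resObj X Us ⟶ resObj X (H20SS.ssOpen B) => q.left) (whiskerLeft_snd G prS)
  rw [← Scheme.Hom.comp_apply, ← e1, Scheme.Hom.comp_apply, hw'', hw']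

end Groth.Agent.S14714
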