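import Groth.Statements.S14717
import Groth.Agent.H20SS.Finset
import Mathlib.Algebra.CharZero.Defs

set_option autoImplicit false
set_option backward.isDefEq.respectTransparency false
universe u
open CategoryTheory MonoidalCategory CartesianMonoidalCategory MonObj GrpObj AlgebraicGeometry Topology
open GIT

namespace Groth.Agent.S14717

/-- Let k be a field of characteristic zero, G a connected reductive algebraic group over k (affine,
smooth, with connected reductive geometric fibre) acting by σ on a finite-type k-scheme X (not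
necessarily separated), and L a G-linearised line bundle on X, taken in total-space form (a line
bundle V → X with a linear atlas and a fibrewise-linear lifting of the action; sections of L^n are
the weight-n functions on V, invariant sections those fixed by the lifted action, X_s the locus over
which s does not vanish identically on the fibre). Let x_1, …, x_m be finitely many semi-stable
points of X. Then there is an invariant section s of some L^n, n ≥ 1, such that X_s is an affine
open containing all the x_i; if moreover all the x_i are stable (no condition on stabilisers), s can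
be chosen so that the action of G on X_s is closed. (The published statement is for any reductive G
in any characteristic; this row is the characteristic-zero case with G connected. L is taken in
total-space form.) -/
theorem result (k : Type u) [Field k] [CharZero k]
    (G X : Over (Spec (CommRingCat.of k))) [GrpObj G] (hG : Red.IsReductive G)
    [LocallyOfFiniteType X.hom] [QuasiCompact X.hom]
    (a : AlgGrp.Action G X) (B : GLinSh.LinBun G a)
    (s : Finset X.left) (hs : ∀ x ∈ s, B.IsSemistablePt x) :
    ∃ (n : ℕ) (f : Γ(B.V.left, ⊤)) (Uf : X.left.Opens), 1 ≤ n ∧ B.IsInvSection n f ∧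
      (Uf : Set X.left) = GLinSh.nonvanishing B.π f ∧ IsAffineOpen Uf ∧ (∀ x ∈ s, x ∈ Uf) ∧
      ((∀ x ∈ s, B.IsStablePt x) → GLinSh.ClosedOrbitsOn a Uf) := by
  classical
  haveI : Infinite k := Infinite.of_injective (fun n : ℕ => (n : k)) Nat.cast_injective
  have key : ∀ x : s, ∃ (n : ℕ) (f : Γ(B.V.left, ⊤)), 1 ≤ n ∧ B.IsInvSection n f ∧
      x.1 ∈ H20SS.nvOpen B.π f ∧ IsAffineOpen (H20SS.nvOpen B.π f) ∧
      ((∀ x ∈ s, B.IsStablePt x) → GLinSh.ClosedOrbitsOn a (H20SS.nvOpen B.π f)) := by
    intro x
    have conv : ∀ (n : ℕ) (f : Γ(B.V.left, ⊤)) (U : X.left.Opens), B.IsInvSection n f →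
        (U : Set X.left) = GLinSh.nonvanishing B.π f → U = H20SS.nvOpen B.π f := fun n f U hf hU =>
      TopologicalSpace.Opens.ext (hU.trans (H20SS.coe_nvOpen B.atlas hf.1).symm)
    by_cases hall : ∀ x ∈ s, B.IsStablePt x
    · obtain ⟨n, f, hn, hf, hxf, U, hU, haff, hcl⟩ := hall x.1 x.2
      obtain rfl := conv n f U hf hU
      exact ⟨n, f, hn, hf, hU.ge hxf, haff, fun _ => hcl⟩
    · obtain ⟨n, f, hn, hf, hxf, U, hU, haff⟩ := hs x.1 x.2
      obtain rfl := conv n f U hf hU
      exact ⟨n, f, hn, hf, hU.ge hxf, haff, fun h => absurd h hall⟩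
  choose n f hn hf hxf haff hcl using key
  let e := s.equivFin
  let N := ∏ x : s, n x
  have hN : 0 < N := Finset.prod_pos fun x _ => hn x
  choose q hq using fun x : s => Finset.dvd_prod_of_mem n (Finset.mem_univ x)
  have hq0 : ∀ x, 0 < q x := fun x => Nat.pos_of_ne_zero fun h => hN.ne' (by rw [show N = _ from hq x, h, mul_zero])
  let g : Fin s.card → Γ(B.V.left, ⊤) := fun i => f (e.symm i) ^ q (e.symm i)
  have hg : ∀ i, B.IsInvSection N (g i) := fun i => by
    have h := H20SS.isInvSection_pow (hf (e.symm i)) (q (e.symm i))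
    rwa [Nat.mul_comm, ← hq (e.symm i)] at h
  have hgnv : ∀ i, H20SS.nvOpen B.π (g i) = H20SS.nvOpen B.π (f (e.symm i)) := fun i =>
    H20SS.nvOpen_pow B.atlas (hf _).1 (hq0 _)
  obtain ⟨c, hc⟩ := H20SS.exists_comb_mem hg s fun x hx =>
    ⟨e ⟨x, hx⟩, by rw [hgnv, Equiv.symm_apply_apply]; exact hxf ⟨x, hx⟩⟩
  refine ⟨N, H20SS.comb B g c, H20SS.nvOpen B.π (H20SS.comb B g c), hN, H20SS.isInvSection_comb hg c,
    H20SS.coe_nvOpen B.atlas (H20SS.isInvSection_comb hg c).1,
    H20SS.isAffineOpen_comb hN hg (fun i => (hgnv i).symm ▸ haff _) c, hc, fun hall =>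
    H20SS.closedOrbitsOn_comb hg (fun i => (hgnv i).symm ▸ hcl _ hall) c⟩

end Groth.Agent.S14717
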