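import Groth.Statements.S14718
import Groth.Agent.H20LB.Pull
import Groth.Agent.H20GQ.Orbit

set_option autoImplicit false
set_option backward.isDefEq.respectTransparency false
universe u
open CategoryTheory MonoidalCategory CartesianMonoidalCategory MonObj GrpObj AlgebraicGeometry Topology
open GIT

namespace Groth.Agent.S14718

open Groth.Agent

/-- Let k be a field, G a group scheme over k acting by σ on a k-scheme X, φ : X → Y an invariant
k-morphism (φ ∘ σ = φ ∘ p₂) which is affine, and M an ample invertible sheaf on Y. Then there is a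
G-linearised line bundle L on X, taken in total-space form, with X = X^ss(L): every point x has an
invariant section s of some L^n, n ≥ 1, with s(x) ≠ 0 and X_s affine. If moreover (Y, φ) is a
geometric quotient of X by G, then X = X^s(L) for the same L (the action of G on those X_s is
closed; no condition on stabilisers). (The published statement assumes G reductive, X of finite type
and (Y, φ) a categorical quotient with Y quasi-projective; this row keeps only what the construction
uses: φ invariant and affine, M ample. L is taken in total-space form.) -/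
theorem result (k : Type u) [Field k]
    (G X Y : Over (Spec (CommRingCat.of k))) [GrpObj G]
    (a : AlgGrp.Action G X) (φ : X ⟶ Y) (hφ : GIT.IsInvariant a φ) [IsAffineHom φ.left]
    (M : Y.left.Modules) (hM : CohB1.IsAmple M) :
    ∃ B : GLinSh.LinBun G a, B.ssLocus = Set.univ ∧ (GIT.IsGeomQuot a φ → B.sLocus = Set.univ) := by
  obtain ⟨B, hB⟩ := H20LB.exists_linBun hφ M hM.1
  have key : ∀ x : X.left, ∃ (n : ℕ) (f : Γ(B.V.left, ⊤)), 1 ≤ n ∧ B.IsInvSection n f ∧
      x ∈ GLinSh.nonvanishing B.π f ∧ ∃ W : X.left.Opens, (W : Set X.left) = GLinSh.nonvanishing B.π f ∧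
        IsAffineOpen W ∧ (GIT.IsGeomQuot a φ → GLinSh.ClosedOrbitsOn a W) := fun x => by
    obtain ⟨n, s, hxs, haff⟩ := hM.2.2 (φ.left x)
    rw [H11Ample.genLocus_eq_gen] at hxs haff
    obtain ⟨f, hf, hnv⟩ := hB (n + 1) (SecTwist.val s ⊤)
    let W : X.left.Opens := φ.left ⁻¹ᵁ H11Ample.gen (CohB1.tensorPow M (n + 1)) (SecTwist.val s ⊤)
    have hW : IsAffineOpen W := haff.preimage φ.left
    have hset : (W : Set X.left) = GLinSh.nonvanishing B.π f := by
      rw [hnv]
      rfl
    have hxW : x ∈ GLinSh.nonvanishing B.π f := by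
      rw [← hset]
      exact hxs
    refine ⟨n + 1, f, n.succ_pos, hf, hxW, W, hset, hW, ?_⟩
    intro hq Ω _ _ T e g _
    have hc : IsClosed (Set.range (GIT.psi a g).left.base) :=
      H20GQ.isClosedAction_of_orbit hq.inv hq.orbit Ω T e g
    exact hc.preimage continuous_subtype_val
  refine ⟨B, Set.eq_univ_of_forall fun x => ?_, fun hq => Set.eq_univ_of_forall fun x => ?_⟩
  · obtain ⟨n, f, hn, hf, hx, W, hW, haff, -⟩ := key x
    exact ⟨n, f, hn, hf, hx, W, hW, haff⟩
  · obtain ⟨n, f, hn, hf, hx, W, hW, haff, hcl⟩ := key x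
    exact ⟨n, f, hn, hf, hx, W, hW, haff, hcl hq⟩

end Groth.Agent.S14718
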