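import Groth.Statements.S14726
import Groth.Agent.H9Hens.PtValuation
import Mathlib.RingTheory.Etale.Weakly
import Mathlib.RingTheory.Flat.TorsionFree
import Mathlib.RingTheory.TotallySplit
import Mathlib.Tactic.Ring

set_option autoImplicit false
universe u
open ValPrufer

namespace Groth.Agent.S14726

/-- Let V be a valuation ring with maximal ideal m, A an integral domain that is a smooth V-algebra, and
p a prime ideal of A minimal among the primes containing mA (a generic point of the special fibre of
Spec A over V). Then A_p is a valuation ring, V → A_p is an injective local homomorphism, and every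
nonzero element of A_p is a unit of A_p times the image of an element of V, so that V → A_p induces
a bijection on value groups. (The published statement takes A faithfully flat and a semilocalisation
of a smooth V-algebra at finitely many primes; the local ring A_p is then a local ring of the smooth
algebra itself at such a prime, and faithful flatness follows from the existence of p, so this row
states the smooth case, which carries the whole content.) -/
theorem result
    (V : Type u) [CommRing V] [IsDomain V] [ValuationRing V]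
    (A : Type u) [CommRing A] [IsDomain A] [Algebra V A] [Algebra.Smooth V A]
    (p : Ideal A) [p.IsPrime]
    (hp : p ∈ ((IsLocalRing.maximalIdeal V).map (algebraMap V A)).minimalPrimes) :
    ValuationRing (Localization.AtPrime p) ∧
      Function.Injective (algebraMap V (Localization.AtPrime p)) ∧
      IsLocalHom (algebraMap V (Localization.AtPrime p)) ∧
      ∀ x : Localization.AtPrime p, x ≠ 0 →
        ∃ (v : V) (w : (Localization.AtPrime p)ˣ), x = algebraMap V (Localization.AtPrime p) v * w := by
  classical
  let m := IsLocalRing.maximalIdeal V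
  have hVA : Function.Injective (algebraMap V A) := by
    rw [injective_iff_map_eq_zero]
    intro v hv
    by_contra hv0
    have h1 : (algebraMap V A v) * 1 = algebraMap V A v * 0 := by rw [hv, zero_mul, mul_zero]
    have hreg := Module.Flat.isSMulRegular_of_nonZeroDivisors (M := A) (mem_nonZeroDivisors_of_ne_zero hv0)
    have h10 : (1 : A) = 0 := hreg (by simpa [Algebra.smul_def] using h1)
    exact one_ne_zero h10
  let S := Localization.AtPrime p
  have hAS : Function.Injective (algebraMap A S) :=
    IsLocalization.injective S p.primeCompl_le_nonZeroDivisors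
  have hVS : Function.Injective (algebraMap V S) := by
    rw [IsScalarTower.algebraMap_eq V A S]
    exact hAS.comp hVA
  haveI hlh : IsLocalHom (algebraMap V S) := by
    refine ⟨fun v hv => ?_⟩
    by_contra hvu
    rw [IsScalarTower.algebraMap_apply V A S, IsLocalization.AtPrime.isUnit_to_map_iff S p] at hv
    exact hv (hp.1.2 (Ideal.mem_map_of_mem _ hvu))
  suffices key : ∀ x : S, ∃ (v : V) (w : Sˣ), x = algebraMap V S v * w by
    refine ⟨ValuationRing.iff_dvd_total.mpr ⟨fun x y => ?_⟩, hVS, hlh, fun x _ => key x⟩
    obtain ⟨v, w, rfl⟩ := key x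
    obtain ⟨v', w', rfl⟩ := key y
    simp only [Units.mul_right_dvd, Units.dvd_mul_right]
    exact (ValuationRing.dvd_total v v').imp (map_dvd _) (map_dvd _)
  haveI : Algebra.IsSmoothAt V p := Algebra.FormallySmooth.comp V A _
  obtain ⟨f, hf, n, alg, tower, he⟩ := Algebra.IsSmoothAt.exists_isStandardEtale_mvPolynomial (R := V) (p := p)
  let ψ : Localization.Away f →ₐ[V] S :=
    IsLocalization.Away.liftAlgHom f (f := IsScalarTower.toAlgHom V A S)
      ((IsLocalization.AtPrime.isUnit_to_map_iff S p f).mpr hf)
  have hψ : ∀ a : A, ψ (algebraMap A _ a) = algebraMap A S a := fun a =>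
    IsLocalization.Away.lift_eq f ((IsLocalization.AtPrime.isUnit_to_map_iff S p f).mpr hf) a
  let Q : Ideal (Localization.Away f) := (IsLocalRing.maximalIdeal S).comap ψ
  haveI : Q.IsPrime := Ideal.IsPrime.comap _
  have hQA : Q.comap (algebraMap A (Localization.Away f)) = p := by
    rw [← IsLocalization.AtPrime.under_maximalIdeal S p]
    ext a
    change ψ (algebraMap A _ a) ∈ IsLocalRing.maximalIdeal S ↔ algebraMap A S a ∈ IsLocalRing.maximalIdeal S
    rw [hψ]
  let qn : Ideal (MvPolynomial (Fin n) V) := m.map MvPolynomial.C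
  haveI hqn : qn.IsPrime := by
    rw [← Ideal.Quotient.isDomain_iff_prime]
    exact MulEquiv.isDomain (MvPolynomial (Fin n) (V ⧸ m))
      (MvPolynomial.quotientEquivQuotientMvPolynomial m).symm.toMulEquiv
  have hQqn : Q.comap (algebraMap (MvPolynomial (Fin n) V) (Localization.Away f)) = qn := by
    have hle : qn ≤ Q.comap (algebraMap (MvPolynomial (Fin n) V) (Localization.Away f)) := by
      rw [Ideal.map_le_iff_le_comap]
      intro v hv
      change ψ (algebraMap (MvPolynomial (Fin n) V) _ (MvPolynomial.C v)) ∈ IsLocalRing.maximalIdeal S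
      rw [← MvPolynomial.algebraMap_eq, ← IsScalarTower.algebraMap_apply, ψ.commutes,
        IsLocalRing.mem_maximalIdeal]
      exact fun hu => hv (hlh.map_nonunit v hu)
    haveI : Q.LiesOver (Q.comap (algebraMap (MvPolynomial (Fin n) V) (Localization.Away f))) := ⟨rfl⟩
    obtain ⟨P', hP'Q, hP', hP'o⟩ := Q.exists_ideal_le_liesOver_of_le (p := qn)
      (q := Q.comap (algebraMap (MvPolynomial (Fin n) V) (Localization.Away f))) hle
    have hP'A : p ≤ P'.comap (algebraMap A (Localization.Away f)) := by
      refine hp.2 ⟨Ideal.IsPrime.comap _, ?_⟩ (hQA ▸ Ideal.comap_mono hP'Q)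
      rw [Ideal.map_le_iff_le_comap]
      intro v hv
      have h1 : MvPolynomial.C v ∈ P'.comap (algebraMap (MvPolynomial (Fin n) V) (Localization.Away f)) :=
        (SetLike.ext_iff.mp hP'o.over _).mp (Ideal.mem_map_of_mem _ hv)
      rw [Ideal.mem_comap, ← MvPolynomial.algebraMap_eq, ← IsScalarTower.algebraMap_apply,
        IsScalarTower.algebraMap_apply V A (Localization.Away f)] at h1
      exact h1
    have hPQ : P' = Q := by
      refine le_antisymm hP'Q ?_
      rw [← IsLocalization.map_under (Submonoid.powers f) (Localization.Away f) Q,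
        ← IsLocalization.map_under (Submonoid.powers f) (Localization.Away f) P']
      exact Ideal.map_mono (hQA.le.trans hP'A)
    rw [← hPQ]
    exact hP'o.over.symm
  let θ : MvPolynomial (Fin n) V →+* S :=
    ψ.toRingHom.comp (algebraMap (MvPolynomial (Fin n) V) (Localization.Away f))
  have hθu : ∀ z : qn.primeCompl, IsUnit (θ z) := by
    intro z
    by_contra hz
    apply z.2
    change (z : MvPolynomial (Fin n) V) ∈ qn
    exact (SetLike.ext_iff.mp hQqn _).mp hz
  let V' := Localization.AtPrime qn
  haveI : IsDomain V' := IsLocalization.isDomain_localization qn.primeCompl_le_nonZeroDivisors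
  let _ : Algebra (MvPolynomial (Fin n) V) S := θ.toAlgebra
  let _ : Algebra V' S := (IsLocalization.lift (g := θ) hθu).toAlgebra
  haveI : IsScalarTower (MvPolynomial (Fin n) V) V' S :=
    IsScalarTower.of_algebraMap_eq fun z => (IsLocalization.lift_eq hθu z).symm
  have hθC : ∀ v : V, θ (MvPolynomial.C v) = algebraMap V S v := by
    intro v
    change ψ (algebraMap (MvPolynomial (Fin n) V) _ (MvPolynomial.C v)) = _
    rw [← MvPolynomial.algebraMap_eq, ← IsScalarTower.algebraMap_apply, ψ.commutes]
  have hcont : ∀ z : V', ∃ (v : V) (w : V'ˣ), z = algebraMap (MvPolynomial (Fin n) V) V' (MvPolynomial.C v) * w := by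
    intro z
    obtain ⟨P, ⟨s, hs⟩, rfl⟩ := IsLocalization.exists_mk'_eq qn.primeCompl z
    by_cases hP : P = 0
    · exact ⟨0, 1, by simp [hP]⟩
    obtain ⟨i₀, hi₀, hmin⟩ := Groth.Agent.H9Hens.exists_forall_dvd_of_nonempty
      (fun i => P.coeff i) P.support (MvPolynomial.support_nonempty.mpr hP)
    have hdvd : MvPolynomial.C (P.coeff i₀) ∣ P := by
      rw [MvPolynomial.C_dvd_iff_dvd_coeff]
      intro j
      by_cases hj : j ∈ P.support
      · exact hmin j hj
      · rw [MvPolynomial.notMem_support_iff.mp hj]
        exact dvd_zero _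
    obtain ⟨P₁, hP₁⟩ := hdvd
    have hP₁q : P₁ ∈ qn.primeCompl := by
      intro hmem
      have h1 := MvPolynomial.mem_map_C_iff.mp hmem i₀
      have h2 : P.coeff i₀ = P.coeff i₀ * P₁.coeff i₀ := by
        conv_lhs => rw [hP₁, MvPolynomial.coeff_C_mul]
      have h3 : P₁.coeff i₀ = 1 := mul_left_cancel₀ (MvPolynomial.mem_support_iff.mp hi₀)
        (by rw [mul_one]; exact h2.symm)
      rw [h3] at h1
      exact h1 isUnit_one
    have hu : IsUnit (IsLocalization.mk' V' P₁ (⟨s, hs⟩ : qn.primeCompl)) :=
      (IsLocalization.AtPrime.isUnit_mk'_iff V' qn P₁ ⟨s, hs⟩).mpr hP₁q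
    exact ⟨P.coeff i₀, hu.unit, by rw [IsUnit.unit_spec, IsLocalization.mul_mk'_eq_mk'_of_mul, ← hP₁]⟩
  haveI : ValuationRing V' := by
    refine ValuationRing.iff_dvd_total.mpr ⟨fun x y => ?_⟩
    obtain ⟨v, w, rfl⟩ := hcont x
    obtain ⟨v', w', rfl⟩ := hcont y
    simp only [Units.mul_right_dvd, Units.dvd_mul_right]
    exact (ValuationRing.dvd_total v v').imp (fun h => map_dvd _ (map_dvd _ h)) (fun h => map_dvd _ (map_dvd _ h))
  haveI := he
  obtain ⟨P⟩ := he.nonempty_standardEtalePresentation
  let ψR : Localization.Away f →ₐ[MvPolynomial (Fin n) V] S :=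
    { ψ.toRingHom with commutes' := fun _ => rfl }
  intro x
  obtain ⟨y, s, rfl⟩ := IsLocalization.exists_mk'_eq p.primeCompl x
  obtain ⟨h, N, hN⟩ := P.exists_mul_aeval_x_g_pow_eq_aeval_x (algebraMap A (Localization.Away f) y)
  have hugN : IsUnit (ψR (Polynomial.aeval P.x P.g) ^ N) := (P.hasMap.2.map ψR).pow N
  obtain ⟨a, h1, h2⟩ := Groth.Agent.H9Hens.exists_dvd_dvd_aeval
    (A := V') (S := S) (g := P.f.map (algebraMap (MvPolynomial (Fin n) V) V'))
    (P.monic_f.map _) (α := ψR P.x)
    (by rw [Polynomial.aeval_map_algebraMap, Polynomial.aeval_algHom_apply, P.hasMap.1, map_zero])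
    (by
      rw [Polynomial.derivative_map, Polynomial.aeval_map_algebraMap, Polynomial.aeval_algHom_apply]
      exact P.hasMap.isUnit_derivative_f.map ψR)
    (h.map (algebraMap (MvPolynomial (Fin n) V) V'))
  rw [Polynomial.aeval_map_algebraMap, Polynomial.aeval_algHom_apply, ← hN] at h1 h2
  obtain ⟨v, w, rfl⟩ := hcont a
  have hv : algebraMap V' S (algebraMap (MvPolynomial (Fin n) V) V' (MvPolynomial.C v)) = algebraMap V S v := by
    rw [← IsScalarTower.algebraMap_apply]
    exact hθC v
  have hψy : ψR (algebraMap A (Localization.Away f) y) = algebraMap A S y := hψ y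
  simp only [map_mul, map_pow, hψy, hv] at h1 h2
  obtain ⟨u, hu⟩ := associated_of_dvd_dvd h2 h1
  obtain ⟨g, hg⟩ := hugN
  rw [← hg] at hu
  obtain ⟨t, ht⟩ : IsUnit (algebraMap A S (s : A)) := IsLocalization.map_units S s
  refine ⟨v, (Units.map (algebraMap V' S).toMonoidHom w) * u * g⁻¹ * t⁻¹, ?_⟩
  rw [IsLocalization.mk'_eq_iff_eq_mul]
  change algebraMap A S y = _
  rw [← ht]
  simp only [Units.val_mul, Units.coe_map, RingHom.toMonoidHom_eq_coe, MonoidHom.coe_coe]
  have e1 : algebraMap A S y * (g : S) = algebraMap V S v * algebraMap V' S (w : V') * (u : S) := by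
    rw [← hu]
  calc algebraMap A S y = (algebraMap A S y * (g : S)) * (↑g⁻¹ : S) * ((↑t⁻¹ : S) * (t : S)) := by
        rw [mul_assoc (algebraMap A S y), Units.mul_inv, mul_one, Units.inv_mul, mul_one]
    _ = _ := by rw [e1]; ring

end Groth.Agent.S14726
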