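import Groth.Statements.S14728
import Mathlib.FieldTheory.IsAlgClosed.Spectrum
import Mathlib.LinearAlgebra.Matrix.Charpoly.Eigs
import Mathlib.RingTheory.Etale.Weakly
import Mathlib.RingTheory.Henselian
import Mathlib.RingTheory.PicardGroup
import Mathlib.RingTheory.RegularLocalRing.Defs
import Mathlib.RingTheory.SimpleRing.Principal
import Mathlib.RingTheory.TotallySplit

set_option autoImplicit false
universe u
open ValPrufer

namespace Groth.Agent.S14728

/-- Let R be a Prüfer domain, i.e. a domain all of whose local rings at primes are valuation rings. (a)
For a multiplicative subset S, any localisation B = S⁻¹R that is a domain (S not containing 0) is a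
Prüfer domain. (b) For a prime ideal I, the quotient R/I is a Prüfer domain. -/
theorem result
    (R : Type u) [CommRing R] [IsDomain R]
    (hR : ∀ (p : Ideal R) [p.IsPrime], ValuationRing (Localization.AtPrime p))
    (S : Submonoid R) (B : Type u) [CommRing B] [IsDomain B] [Algebra R B] [IsLocalization S B]
    (I : Ideal R) [I.IsPrime] :
    (∀ (q : Ideal B) [q.IsPrime], ValuationRing (Localization.AtPrime q)) ∧
      (∀ (q : Ideal (R ⧸ I)) [q.IsPrime], ValuationRing (Localization.AtPrime q)) := by
  refine ⟨fun q hq => ?_, fun q hq => ?_⟩
  · have := hR (q.comap (algebraMap R B))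
    exact Function.Surjective.valuationRing (Localization.localRingHom _ q (algebraMap R B) rfl)
      ((RingHom.surjectiveOnStalks_of_isLocalization S B).localRingHom_surjective _ q rfl)
  · have := hR (q.comap (Ideal.Quotient.mk I))
    exact Function.Surjective.valuationRing (Localization.localRingHom _ q (Ideal.Quotient.mk I) rfl)
      ((RingHom.surjectiveOnStalks_of_surjective Ideal.Quotient.mk_surjective).localRingHom_surjective _ q rfl)

end Groth.Agent.S14728
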