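import Groth.Statements.S14730
import Groth.Agent.H3CAlg.SemilocalPrufer
import Mathlib.Order.CompletePartialOrder
import Mathlib.RingTheory.SimpleRing.Principal

set_option autoImplicit false
universe u
open ValPrufer

namespace Groth.Agent.S14730

/-- Let R be a semilocal Prüfer domain (an integral domain with finitely many maximal ideals whose
localisations at primes are valuation rings). Then R is the increasing union of subrings that are
semilocal Prüfer domains of finite Krull dimension; equivalently, every finite subset of R is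
contained in such a subring. -/
theorem result
    (R : Type u) [CommRing R] [IsDomain R]
    (hR : ∀ (p : Ideal R) [p.IsPrime], ValuationRing (Localization.AtPrime p))
    (hfin : Finite (MaximalSpectrum R)) (s : Finset R) :
    ∃ R' : Subring R, (↑s : Set R) ⊆ R' ∧
      (∀ (p : Ideal R') [p.IsPrime], ValuationRing (Localization.AtPrime p)) ∧
      Finite (MaximalSpectrum R') ∧ ringKrullDim R' < ⊤ := by
  classical
  let L := FractionRing R
  obtain ⟨W, htop, hW⟩ := Groth.Agent.H3CAlg.SemilocalPrufer.exists_family_option (L := L) hR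
  haveI := hfin
  let K : Subfield L := Subfield.closure ((s.image (algebraMap R L) : Finset L) : Set L)
  let S : Subring R := K.toSubring.comap (algebraMap R L)
  let φ : S →+* L := (algebraMap R L).comp S.subtype
  have hφ : Function.Injective φ := (IsFractionRing.injective R L).comp Subtype.val_injective
  have hS : ∀ x, x ∈ φ.range ↔ x ∈ K ∧ ∀ i, x ∈ W i := fun x => by
    rw [← hW]
    exact ⟨fun ⟨a, ha⟩ => ⟨ha ▸ a.2, ⟨a.1, ha⟩⟩, fun ⟨hK, a, ha⟩ => ⟨⟨a, show algebraMap R L a ∈ K from ha ▸ hK⟩, ha⟩⟩
  refine ⟨S, fun z hz => Subfield.subset_closure (Finset.mem_image_of_mem _ hz),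
    fun p _ => Groth.Agent.H3CAlg.SemilocalPrufer.valuationRing_atPrime φ hφ W K htop hS p,
    Groth.Agent.H3CAlg.SemilocalPrufer.finite_maximalSpectrum φ hφ W K htop hS, ?_⟩
  let ψ : S →+* K := φ.codRestrict K fun a => a.2
  have hψ : Function.Injective ψ := fun a b h => hφ (congrArg Subtype.val h)
  have hf : ∀ x : K, ∃ a b : S, ψ b ≠ 0 ∧ x = ψ a / ψ b := fun x => by
    obtain ⟨a, b, hb, hab, -⟩ := Groth.Agent.H3CAlg.SemilocalPrufer.exists_frac φ W K htop hS x x.2
    exact ⟨a, b, fun h => hb (congrArg Subtype.val h), Subtype.ext hab⟩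
  have htr : ∃ d : ℕ, Algebra.trdeg (⊥ : Subfield K) K = d :=
    Cardinal.lt_aleph0.mp ((Groth.Agent.H3CAlg.SemilocalPrufer.trdeg_closure_le (s.image (algebraMap R L))).trans_lt Cardinal.natCast_lt_aleph0)
  obtain ⟨d, hd⟩ := htr
  refine lt_of_le_of_lt ((ringKrullDim_le_iff_height_le ((d + 1 : ℕ) : WithBot ℕ∞)).mpr fun p hp => ?_)
    (WithBot.coe_lt_coe.mpr (ENat.coe_lt_top (d + 1)))
  haveI := hp
  obtain ⟨V, -, hV⟩ := Groth.Agent.H3CAlg.SemilocalPrufer.exists_localVal ψ hψ hf p
    (Groth.Agent.H3CAlg.SemilocalPrufer.valuationRing_atPrime φ hφ W K htop hS p)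
  rw [← IsLocalization.AtPrime.ringKrullDim_eq_height p (Localization.AtPrime p), hV]
  exact Groth.Agent.H3CAlg.ValTrdeg.ringKrullDim_le V hd

end Groth.Agent.S14730
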