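import Groth.Statements.S14731
import Groth.Agent.H3CAlg.SmoothModel

set_option autoImplicit false
universe u
open ValPrufer

namespace Groth.Agent.S14731

/-- In characteristic zero, every field K generated as a field by a finite set is the fraction field of
a subring A of K of finite type and smooth over the integers. -/
theorem result
    (K : Type u) [Field K] [CharZero K] (s : Finset K)
    (hs : Subfield.closure (↑s : Set K) = ⊤) :
    ∃ A : Subring K, Algebra.FiniteType ℤ A ∧ Algebra.Smooth ℤ A ∧ IsFractionRing A K := by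
  classical
  let A₀ : Subalgebra ℤ K := Algebra.adjoin ℤ (↑s : Set K)
  haveI : Algebra.FiniteType ℤ A₀ := (Subalgebra.fg_iff_finiteType A₀).mp ⟨s, rfl⟩
  haveI : IsFractionRing A₀ K := by
    apply IsFractionRing.of_field
    intro x
    have hx : x ∈ Subfield.closure (↑s : Set K) := hs ▸ Subfield.mem_top x
    obtain ⟨y, hy, z, hz, rfl⟩ := Subfield.mem_closure_iff.mp hx
    have hy' : y ∈ A₀ := by
      change y ∈ Algebra.adjoin ℤ (↑s : Set K)
      rw [Algebra.adjoin_int]
      exact hy
    have hz' : z ∈ A₀ := by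
      change z ∈ Algebra.adjoin ℤ (↑s : Set K)
      rw [Algebra.adjoin_int]
      exact hz
    exact ⟨⟨y, hy'⟩, ⟨z, hz'⟩, rfl⟩
  haveI : Algebra.FormallySmooth ℤ ℚ := Algebra.FormallySmooth.of_isLocalization (nonZeroDivisors ℤ)
  haveI : Algebra.EssFiniteType A₀ K := Algebra.EssFiniteType.of_isLocalization _ (nonZeroDivisors A₀)
  haveI : Algebra.EssFiniteType ℤ K := Algebra.EssFiniteType.comp ℤ A₀ K
  haveI : Algebra.EssFiniteType ℚ K := Algebra.EssFiniteType.of_comp ℤ ℚ K
  haveI : Algebra.FormallySmooth ℚ K := Algebra.FormallySmooth.of_perfectField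
  obtain ⟨A, h1, h2, h3⟩ := Groth.Agent.H3CAlg.exists_smooth_subalgebra ℤ K A₀ ⟨s, rfl⟩
    (Algebra.FormallySmooth.comp ℤ ℚ K)
  refine ⟨A.toSubring, ?_, ?_, h3⟩
  · convert h1 using 1
    all_goals first | rfl | exact Subsingleton.elim _ _
  · convert h2 using 1
    all_goals first | rfl | exact Subsingleton.elim _ _

end Groth.Agent.S14731
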