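import Groth.Statements.S14732
import Groth.Agent.H3CAlg.SmoothModel

set_option autoImplicit false
universe u
open ValPrufer

namespace Groth.Agent.S14732

/-- In characteristic p > 0, a field K that is finitely generated over its prime subfield F (a field
with p elements) is the fraction field of an integral scheme smooth over F; concretely, there is an
F-subalgebra A of K, of finite type and smooth over F, whose fraction field is K. -/
theorem result
    (K : Type u) [Field K] (p : ℕ) [Fact p.Prime] [CharP K p] (s : Finset K)
    (hs : Subfield.closure (↑s : Set K) = ⊤) :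
    ∃ A : Subalgebra (⊥ : Subfield K) K, Algebra.FiniteType (⊥ : Subfield K) A ∧
      Algebra.Smooth (⊥ : Subfield K) A ∧ IsFractionRing A K := by
  classical
  haveI : Finite (⊥ : Subfield K) := Nat.finite_of_card_ne_zero (by
    rw [Subfield.card_bot K p]
    exact (Fact.out : p.Prime).ne_zero)
  haveI : PerfectField (⊥ : Subfield K) := PerfectField.ofFinite
  let A₀ : Subalgebra (⊥ : Subfield K) K := Algebra.adjoin (⊥ : Subfield K) (↑s : Set K)
  haveI : Algebra.FiniteType (⊥ : Subfield K) A₀ := (Subalgebra.fg_iff_finiteType A₀).mp ⟨s, rfl⟩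
  haveI : IsFractionRing A₀ K := by
    apply IsFractionRing.of_field
    intro x
    have hx : x ∈ Subfield.closure (↑s : Set K) := hs ▸ Subfield.mem_top x
    obtain ⟨y, hy, z, hz, rfl⟩ := Subfield.mem_closure_iff.mp hx
    have h : Subring.closure (↑s : Set K) ≤ A₀.toSubring :=
      Subring.closure_le.mpr Algebra.subset_adjoin
    exact ⟨⟨y, h hy⟩, ⟨z, h hz⟩, rfl⟩
  haveI : Algebra.EssFiniteType A₀ K := Algebra.EssFiniteType.of_isLocalization _ (nonZeroDivisors A₀)
  haveI : Algebra.EssFiniteType (⊥ : Subfield K) K := Algebra.EssFiniteType.comp (⊥ : Subfield K) A₀ K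
  exact Groth.Agent.H3CAlg.exists_smooth_subalgebra (⊥ : Subfield K) K A₀ ⟨s, rfl⟩
    Algebra.FormallySmooth.of_perfectField

end Groth.Agent.S14732
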