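import Groth.Statements.S14733
import Groth.Agent.H3CAlg.PruferFibreDim

set_option autoImplicit false
open CategoryTheory AlgebraicGeometry
universe u
open ValPrufer

namespace Groth.Agent.S14733

/-- Let R be a Prüfer domain (an integral domain whose localisations at primes are valuation rings), X
an irreducible scheme and f : X ⟶ Spec R a dominant morphism of finite type. If the fibre of f over
a point γ of Spec R is nonempty, then it has the same dimension as the fibre over the generic point. -/
theorem result
    (R : Type u) [CommRing R] [IsDomain R]
    (hR : ∀ (p : Ideal R) [p.IsPrime], ValuationRing (Localization.AtPrime p))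
    (X : Scheme.{u}) [IrreducibleSpace X] (f : X ⟶ Spec (CommRingCat.of R))
    [LocallyOfFiniteType f] [QuasiCompact f] [IsDominant f] (γ : Spec (CommRingCat.of R))
    (h0 : Nonempty ↥(f.fiber γ)) :
    topologicalKrullDim ↥(f.fiber γ) =
      topologicalKrullDim ↥(f.fiber (genericPoint (Spec (CommRingCat.of R)))) := by
  exact Groth.Agent.H3CAlg.PruferFibreDim.dim_fiber_eq R hR X f γ h0

end Groth.Agent.S14733
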