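import Groth.Statements.S14734
import Groth.Agent.H3CAlg.PruferDimFn
import Groth.Agent.H02CA.Catenary

set_option autoImplicit false
universe u
open ValPrufer

namespace Groth.Agent.S14734

/-- Let R be a Prüfer domain (an integral domain whose localisations at primes are valuation rings) of
finite Krull dimension and S an R-algebra of finite type. Then S, and every localisation T of S at a
multiplicative subset, is catenary and of finite Krull dimension. (The published statement is for a
scheme X of finite type over R and the spectrum of any semilocalisation of X; catenarity is local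
and finiteness of dimension is checked on a finite affine cover, so this row states the affine case
together with arbitrary localisations.) -/
theorem result
    (R : Type u) [CommRing R] [IsDomain R]
    (hR : ∀ (p : Ideal R) [p.IsPrime], ValuationRing (Localization.AtPrime p))
    (hdim : ringKrullDim R < ⊤)
    (S : Type u) [CommRing S] [Algebra R S] [Algebra.FiniteType R S]
    (M : Submonoid S) (T : Type u) [CommRing T] [Algebra S T] [IsLocalization M T] :
    CAlg.IsCatenary S ∧ ringKrullDim S < ⊤ ∧ CAlg.IsCatenary T ∧ ringKrullDim T < ⊤ := by
  open Groth.Agent.H3CAlg.PruferDimFn in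
  have hd := isCatenary_and_finite_krullDim_localization hR hdim M T
  open Groth.Agent.H3CAlg.PruferDimFn in
  refine ⟨isCatenary hR hdim, ringKrullDim_lt_top hR hdim, ?_, hd.2⟩
  let e : PrimeSpectrum T ↪o PrimeSpectrum S :=
    OrderEmbedding.ofMapLEIff (PrimeSpectrum.comap (algebraMap S T)) fun a b => hd.1.symm
  refine Groth.Agent.H02CA.catenary_transfer e ?_ (Groth.Agent.H3CAlg.PruferDimFn.isCatenary hR hdim)
  intro a b c _ hcb
  have hb : b.comap (algebraMap S T) ∈ Set.range (PrimeSpectrum.comap (algebraMap S T)) := ⟨b, rfl⟩
  show c ∈ Set.range (PrimeSpectrum.comap (algebraMap S T))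
  rw [PrimeSpectrum.localization_comap_range T M] at hb ⊢
  exact Disjoint.mono_right (show c.asIdeal ≤ (b.comap (algebraMap S T)).asIdeal from hcb) hb

end Groth.Agent.S14734
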