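import Groth.Statements.S14735
import Groth.Agent.H3CAlg.PruferDimFn
import Groth.Agent.H02CA.Catenary

set_option autoImplicit false
universe u
open ValPrufer

namespace Groth.Agent.S14735

/-- Let R be a Prüfer domain (an integral domain whose localisations at primes are valuation rings) of
finite Krull dimension and S an R-algebra of finite type. For a prime P of S over p = P ∩ R put δ(P)
= trdeg(S/P over R/p) − height(p), an integer. Then for primes P ⊊ Q of S one has δ(Q) < δ(P), and Q
covers P in the prime spectrum (no prime ideal lies strictly between P and Q) if and only if δ(P) =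
δ(Q) + 1. (The published statement is phrased for the points of a scheme of finite type over R, with
the transcendence degree of residue fields and the codimension of the closure of the image point;
this row is the affine case, where these are the transcendence degree of S/P over R/p and the height
of p.) -/
theorem result
    (R : Type u) [CommRing R] [IsDomain R]
    (hR : ∀ (p : Ideal R) [p.IsPrime], ValuationRing (Localization.AtPrime p))
    (hdim : ringKrullDim R < ⊤)
    (S : Type u) [CommRing S] [Algebra R S] [Algebra.FiniteType R S]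
    (P Q : Ideal S) [P.IsPrime] [Q.IsPrime] (hPQ : P < Q) :
    ((Cardinal.toNat (Algebra.trdeg (R ⧸ Q.under R) (S ⧸ Q)) : ℤ) - ((Q.under R).height.toNat : ℤ)
        < (Cardinal.toNat (Algebra.trdeg (R ⧸ P.under R) (S ⧸ P)) : ℤ) - ((P.under R).height.toNat : ℤ)) ∧
      ((⟨P, inferInstance⟩ : PrimeSpectrum S) ⋖ ⟨Q, inferInstance⟩ ↔ (Cardinal.toNat (Algebra.trdeg (R ⧸ P.under R) (S ⧸ P)) : ℤ) - ((P.under R).height.toNat : ℤ)
        = (Cardinal.toNat (Algebra.trdeg (R ⧸ Q.under R) (S ⧸ Q)) : ℤ) - ((Q.under R).height.toNat : ℤ) + 1) := by
  refine ⟨Groth.Agent.H3CAlg.PruferDimFn.delta_lt hR hdim hPQ, ?_⟩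
  exact Groth.Agent.H3CAlg.PruferDimFn.covBy_iff hR hdim
    (show (⟨P, inferInstance⟩ : PrimeSpectrum S) < ⟨Q, inferInstance⟩ from hPQ)

end Groth.Agent.S14735
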