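import Groth.Statements.S14737
import Groth.Agent.H02CA.PtGlue.Main
import Groth.Agent.H4Depth.Regular

set_option autoImplicit false
set_option linter.style.haveILetI false
universe u
open CategoryTheory MonoidalCategory CartesianMonoidalCategory MonObj AlgebraicGeometry
open ValPrufer Groth.Agent.H02CA.PtGlue

namespace Groth.Agent.S14737

/-- Let R be a regular local ring with fraction field K, r ∈ R, R̂ the r-adic completion of R, and G a
reductive R-group scheme. Assume the Grothendieck–Serre statement for R and G: every G-torsor for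
the fppf topology over Spec R that has a K-point has a section. Then G(R̂[1/r]) = G(R̂) · G(R[1/r]):
every point g of G over R̂[1/r] is the product, in the group of R̂[1/r]-points, of the restriction
of an R̂-point g₂ and the restriction of an R[1/r]-point g₁; the product is written through the pair
morphism h = (g₂, g₁) into G ×_R G followed by the multiplication of G. (The published statement is
the implication from the Grothendieck–Serre conjecture; only its instance for this R and this G
enters the proof, so that instance is the hypothesis here.) -/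
theorem result (R : Type u) [CommRing R] [IsRegularLocalRing R] (r : R)
    (G : Over (Spec (CommRingCat.of R))) [GrpObj G] (hG : Red.IsReductive G)
    (hGS : ∀ (X : Over (Spec (CommRingCat.of R))) (a : AlgGrp.Action G X),
      NonAbH1.IsTorsorFor Scheme.fppfPrecoverage a →
      NonAbH1.HasSectionOver X (Spec.map (CommRingCat.ofHom (algebraMap R (FractionRing R)))) →
      NonAbH1.HasSectionOver X (𝟙 (Spec (CommRingCat.of R))))
    (g : Spec (CommRingCat.of (Localization.Away
            (algebraMap R (AdicCompletion (Ideal.span {r}) R) r))) ⟶ G.left)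
    (hg : g ≫ G.hom = Spec.map (CommRingCat.ofHom (algebraMap R (Localization.Away
            (algebraMap R (AdicCompletion (Ideal.span {r}) R) r))))) :
    ∃ (g₁ : Spec (CommRingCat.of (Localization.Away r)) ⟶ G.left)
      (g₂ : Spec (CommRingCat.of (AdicCompletion (Ideal.span {r}) R)) ⟶ G.left)
      (h : Spec (CommRingCat.of (Localization.Away
            (algebraMap R (AdicCompletion (Ideal.span {r}) R) r))) ⟶ (G ⊗ G).left),
      g₁ ≫ G.hom = Spec.map (CommRingCat.ofHom (algebraMap R (Localization.Away r))) ∧
      g₂ ≫ G.hom = Spec.map (CommRingCat.ofHom (algebraMap R (AdicCompletion (Ideal.span {r}) R))) ∧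
      h ≫ (fst G G).left = Spec.map (CommRingCat.ofHom (algebraMap (AdicCompletion (Ideal.span {r}) R)
                (Localization.Away (algebraMap R (AdicCompletion (Ideal.span {r}) R) r)))) ≫ g₂ ∧
      h ≫ (snd G G).left = Spec.map (CommRingCat.ofHom (Localization.awayMap
                (algebraMap R (AdicCompletion (Ideal.span {r}) R)) r)) ≫ g₁ ∧
      g = h ≫ (μ[G]).left := by
  haveI : IsDomain R := Groth.Agent.H4Depth.isDomain_of_isRegularLocalRing R
  let C := PCpl r
  let gC : sp R C ⟶ G := Over.homMk g hg
  by_cases hr : r = 0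
  · haveI : Subsingleton C := subsingleton_of_zero_eq_one (by
      obtain ⟨u, hu⟩ := isUnit_PCpl r
      have h0 : algebraMap R C r = 0 := (congrArg (algebraMap R C) hr).trans (map_zero _)
      rw [← u.mul_inv, hu, h0]
      exact (MulZeroClass.zero_mul _).symm)
    haveI : IsEmpty ↥(Spec (CommRingCat.of C)) :=
      inferInstanceAs (IsEmpty (PrimeSpectrum C))
    let pA : sp R (Localization.Away r) ⟶ G := 1
    let pB : sp R (Cpl r) ⟶ G := 1
    refine ⟨pA.left, pB.left, (lift (m (ofCpl r) ≫ pB) (m (toPCpl r) ≫ pA)).left, Over.w pA, Over.w pB,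
      isInitialOfIsEmpty.hom_ext _ _, isInitialOfIsEmpty.hom_ext _ _, isInitialOfIsEmpty.hom_ext _ _⟩
  · obtain ⟨haff, hsm, -⟩ := hG
    haveI := haff
    haveI := hsm
    haveI : IsAffine G.left := isAffine_of_isAffineHom G.hom
    algebraize [((Scheme.ΓSpecIso (CommRingCat.of R)).inv ≫ G.hom.appTop).hom]
    let θ : sp R Γ(G.left, ⊤) ≅ G := Over.isoMk G.left.isoSpec.symm (by
      show G.left.isoSpec.inv ≫ G.hom = Spec.map _
      rw [← cancel_epi G.left.isoSpec.hom, Iso.hom_inv_id_assoc]
      show G.hom = G.left.toSpecΓ ≫ Spec.map ((Scheme.ΓSpecIso (CommRingCat.of R)).inv ≫ G.hom.appTop)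
      rw [Spec.map_comp, ← Category.assoc, ← Scheme.toSpecΓ_naturality, Category.assoc]
      simp [toSpecΓ_SpecMap_ΓSpecIso_inv])
    have hhom : θ.hom.left ≫ G.hom = Spec.map (CommRingCat.ofHom (algebraMap R Γ(G.left, ⊤))) := Over.w θ.hom
    haveI : Flat (Spec.map (CommRingCat.ofHom (algebraMap R Γ(G.left, ⊤)))) := hhom ▸ inferInstance
    haveI : LocallyOfFinitePresentation (Spec.map (CommRingCat.ofHom (algebraMap R Γ(G.left, ⊤)))) :=
      hhom ▸ inferInstance
    haveI : Module.Flat R Γ(G.left, ⊤) := RingHom.flat_algebraMap_iff.1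
      ((HasRingHomProperty.Spec_iff (P := @Flat)).1 inferInstance)
    haveI : Algebra.FinitePresentation R Γ(G.left, ⊤) := RingHom.finitePresentation_algebraMap.1
      ((HasRingHomProperty.Spec_iff (P := @LocallyOfFinitePresentation)).1 inferInstance)
    have h := isGlueData r hr
    obtain ⟨E, _, _, ⟨L⟩⟩ := exists_latData θ h gC
    haveI := L.flat h
    let kA : Localization.Away r →ₐ[R] FractionRing R :=
      { IsLocalization.Away.lift r (g := algebraMap R (FractionRing R))
          (IsUnit.mk0 _ (by simpa using hr)) with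
        commutes' := fun c => IsLocalization.Away.lift_eq r _ c }
    obtain ⟨s, hs⟩ := hGS (sp R E) (action h L) (L.isTorsorFor h)
      ⟨(m (kA.comp ((sideSection θ (Localization.Away r)).comp L.p₁))).left, Over.w _⟩
    obtain ⟨x, -⟩ := m_surjective (Over.homMk (U := sp R R) (V := sp R E) s (by
      rw [hs]
      exact (Spec.map_id _).symm))
    obtain ⟨gA, gB, hfac⟩ := L.exists_factor h x
    refine ⟨gA.left, gB.left, (lift (m (ofCpl r) ≫ gB) (m (toPCpl r) ≫ gA)).left, Over.w gA, Over.w gB,
      ?_, ?_, ?_⟩
    · exact congrArg CommaMorphism.left (lift_fst (m (ofCpl r) ≫ gB) (m (toPCpl r) ≫ gA))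
    · refine (congrArg CommaMorphism.left (lift_snd (m (ofCpl r) ≫ gB) (m (toPCpl r) ≫ gA))).trans ?_
      show Spec.map _ ≫ gA.left = _
      congr 2
    · exact congrArg CommaMorphism.left hfac

end Groth.Agent.S14737
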