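import Groth.Statements.S14738
import Mathlib.Order.CompletePartialOrder
import Mathlib.RingTheory.Ideal.Height
import Mathlib.RingTheory.Valuation.ValuationRing
import Mathlib.Tactic.LinearCombination

set_option autoImplicit false
universe u
open ValPrufer

namespace Groth.Agent.S14738

/-- Let R be a semilocal Prüfer domain (an integral domain with finitely many maximal ideals whose
localisations at primes are valuation rings) of finite Krull dimension, and m a maximal ideal of R.
Then there is a ∈ R with V(a) = {m}, i.e. m is the only prime ideal containing a, and there is b ∉ m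
such that R[1/b] is the localisation R_m (every element outside m becomes invertible after inverting
b); consequently the spectra of the local rings R_m form a Zariski open covering of Spec R. (The
published remark assumes positive Krull dimension to construct a; for R a field the assertions hold
with a = 0 and b = 1. It also takes b to be the product of the elements a_n chosen in the same way
for the other maximal ideals n; that choice fails as soon as a non-maximal prime lies in another
maximal ideal but not in m, e.g. for the intersection of two independent rank-two valuation rings of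
a field, so this row asserts only that some such b exists.) -/
theorem result
    (R : Type u) [CommRing R] [IsDomain R]
    (hR : ∀ (p : Ideal R) [p.IsPrime], ValuationRing (Localization.AtPrime p))
    (hfin : Finite (MaximalSpectrum R)) (hdim : ringKrullDim R < ⊤)
    (m : Ideal R) [m.IsMaximal] :
    (∃ a : R, ∀ (p : Ideal R), p.IsPrime → (a ∈ p ↔ p = m)) ∧
      ∃ b : R, b ∉ m ∧ IsLocalization.AtPrime (Localization.Away b) m := by
  classical
  haveI := hfin
  obtain ⟨D, hD⟩ : ∃ D : ℕ, ringKrullDim R ≤ D := by
    obtain ⟨D, hD⟩ | h := (em (∃ D : ℕ, ringKrullDim R ≤ D))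
    · exact ⟨D, hD⟩
    · exfalso
      push Not at h
      cases hh : ringKrullDim R with
      | bot => exact absurd (h 0) (by rw [hh]; simp)
      | coe x =>
        cases x with
        | top => rw [hh] at hdim; exact lt_irrefl _ hdim
        | coe k => exact absurd (h k) (by rw [hh]; exact lt_irrefl _)
  have hht : ∀ (p : Ideal R) [p.IsPrime], p.height ≤ D := fun p _ => by
    have := (Ideal.height_le_ringKrullDim_of_ne_top (Ideal.IsPrime.ne_top ‹_›) (I := p)).trans hD
    exact_mod_cast this
  have htot : ∀ (M : Ideal R) [M.IsPrime] (p q : Ideal R), p.IsPrime → q.IsPrime → p ≤ M → q ≤ M → p ≤ q ∨ q ≤ p := by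
    intro M _ p q hp hq hpM hqM
    by_contra hcon
    push Not at hcon
    obtain ⟨x, hxp, hxq⟩ := SetLike.not_le_iff_exists.mp hcon.1
    obtain ⟨y, hyq, hyp⟩ := SetLike.not_le_iff_exists.mp hcon.2
    haveI := hR M
    have key : ∀ {P : Ideal R}, P.IsPrime → P ≤ M → ∀ {a b : R}, a ∈ P →
        algebraMap R (Localization.AtPrime M) a ∣ algebraMap R (Localization.AtPrime M) b → b ∈ P := by
      intro P hP hPM a b ha hdvd
      obtain ⟨c, hc⟩ := hdvd
      obtain ⟨r, s, rfl⟩ := IsLocalization.exists_mk'_eq M.primeCompl c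
      rw [mul_comm, IsLocalization.mk'_eq_mul_mk'_one r s] at hc
      obtain ⟨t, ht⟩ : ∃ t : M.primeCompl, (t : R) * (b * s) = t * (r * a) := by
        rw [← IsLocalization.eq_iff_exists M.primeCompl (Localization.AtPrime M), map_mul, map_mul, hc]
        linear_combination (algebraMap R (Localization.AtPrime M) r * algebraMap R (Localization.AtPrime M) a) *
          IsLocalization.mk'_spec (Localization.AtPrime M) (1 : R) s + (algebraMap R (Localization.AtPrime M) r *
          algebraMap R (Localization.AtPrime M) a) * map_one (algebraMap R (Localization.AtPrime M))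
      have h1 : (t : R) * (b * s) ∈ P := ht ▸ P.mul_mem_left _ (P.mul_mem_left _ ha)
      rcases hP.mem_or_mem h1 with h | h
      · exact absurd (hPM h) t.2
      · exact (hP.mem_or_mem h).resolve_right fun h' => s.2 (hPM h')
    rcases ValuationRing.dvd_total (algebraMap R (Localization.AtPrime M) x) (algebraMap R (Localization.AtPrime M) y) with h | h
    · exact hyp (key hp hpM hxp h)
    · exact hxq (key hq hqM hyq h)
  haveI hfinP : Finite (PrimeSpectrum R) := by
    choose M hMmax hM using fun p : PrimeSpectrum R => Ideal.exists_le_maximal p.asIdeal p.isPrime.ne_top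
    haveI : Finite {n : ℕ∞ // n ≤ (D : ℕ∞)} := by
      refine Finite.of_surjective (fun k : Fin (D + 1) => (⟨(k.1 : ℕ∞), by exact_mod_cast Nat.lt_succ_iff.mp k.2⟩ : {n : ℕ∞ // n ≤ (D : ℕ∞)})) ?_
      rintro ⟨n, hn⟩
      obtain ⟨k, rfl⟩ := ENat.ne_top_iff_exists.mp (ne_top_of_le_ne_top (ENat.coe_ne_top D) hn)
      exact ⟨⟨k, Nat.lt_succ_iff.mpr (by exact_mod_cast hn)⟩, rfl⟩
    refine Finite.of_injective (fun p : PrimeSpectrum R => ((⟨M p, hMmax p⟩ : MaximalSpectrum R),
      (⟨p.asIdeal.height, hht _⟩ : {n : ℕ∞ // n ≤ (D : ℕ∞)}))) fun p q h => ?_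
    simp only [Prod.mk.injEq, MaximalSpectrum.mk.injEq, Subtype.mk.injEq] at h
    haveI := (hMmax p).isPrime
    have hfin : ∀ P : Ideal R, P.IsPrime → P.height < ⊤ := fun P hP => lt_of_le_of_lt (@hht P hP) (ENat.coe_lt_top D)
    rcases htot (M p) p.asIdeal q.asIdeal p.isPrime q.isPrime (hM p) (h.1 ▸ hM q) with hle | hle
    · refine PrimeSpectrum.ext (hle.eq_or_lt.resolve_right fun hlt => ?_)
      haveI : p.asIdeal.FiniteHeight := ⟨Or.inr (hfin _ p.isPrime).ne⟩
      exact (Ideal.height_strict_mono_of_isPrime hlt).ne h.2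
    · refine PrimeSpectrum.ext (hle.eq_or_lt.resolve_right fun hlt => ?_).symm
      haveI : q.asIdeal.FiniteHeight := ⟨Or.inr (hfin _ q.isPrime).ne⟩
      exact (Ideal.height_strict_mono_of_isPrime hlt).ne h.2.symm
  haveI : Fintype (PrimeSpectrum R) := Fintype.ofFinite _
  refine ⟨?_, ?_⟩
  · have hno : ¬ ((m : Set R) ⊆ ⋃ p ∈ (↑(Finset.univ.filter fun p : PrimeSpectrum R => p.asIdeal ≠ m) : Set (PrimeSpectrum R)), (p.asIdeal : Set R)) := by
      rw [Ideal.subset_union_prime_finite (Finset.finite_toSet _) (f := fun p : PrimeSpectrum R => p.asIdeal)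
        ⟨m, inferInstance⟩ ⟨m, inferInstance⟩ (fun p _ _ _ => p.isPrime)]
      rintro ⟨p, hp, hle⟩
      simp only [Finset.coe_filter, Finset.mem_univ, true_and, Set.mem_ofPred_eq] at hp
      exact hp (Ideal.IsMaximal.eq_of_le ‹m.IsMaximal› p.isPrime.ne_top hle).symm
    obtain ⟨a, ham, ha⟩ := Set.not_subset.mp hno
    refine ⟨a, fun p hp => ⟨fun hap => ?_, fun h => h ▸ ham⟩⟩
    by_contra hne
    exact ha (Set.mem_biUnion (x := (⟨p, hp⟩ : PrimeSpectrum R)) (by simpa using hne) hap)
  · have hx : ∀ p : PrimeSpectrum R, ∃ x : R, x ∉ m ∧ (¬ p.asIdeal ≤ m → x ∈ p.asIdeal) := by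
      intro p
      by_cases h : p.asIdeal ≤ m
      · exact ⟨1, fun h1 => (Ideal.IsMaximal.ne_top ‹_›) ((Ideal.eq_top_iff_one m).mpr h1), fun h' => absurd h h'⟩
      · obtain ⟨x, hx1, hx2⟩ := SetLike.not_le_iff_exists.mp h
        exact ⟨x, hx2, fun _ => hx1⟩
    choose x hxm hxp using hx
    have hbm : (∏ p, x p) ∉ m := fun h => by
      obtain ⟨p, -, hp⟩ := (Ideal.IsPrime.prod_mem_iff (hp := Ideal.IsMaximal.isPrime ‹_›)).mp h
      exact hxm p hp
    refine ⟨∏ p, x p, hbm, IsLocalization.of_le (M := Submonoid.powers (∏ p, x p)) (N := m.primeCompl) ?_ fun r hr => ?_⟩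
    · exact Submonoid.powers_le.mpr hbm
    · by_contra hu
      obtain ⟨Q, hQmax, hQ⟩ := exists_max_ideal_of_mem_nonunits hu
      let q : PrimeSpectrum R := ⟨Q.comap (algebraMap R _), inferInstance⟩
      by_cases hqm : q.asIdeal ≤ m
      · exact hr (hqm hQ)
      · have : (∏ p, x p) ∈ q.asIdeal := Ideal.prod_mem _ (Finset.mem_univ q) (hxp q hqm)
        exact hQmax.ne_top (Ideal.eq_top_of_isUnit_mem _ this (IsLocalization.Away.algebraMap_isUnit _))

end Groth.Agent.S14738
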