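import Groth.Statements.S14739
import Mathlib.RingTheory.LocalRing.ResidueField.Fiber
import Mathlib.Topology.NoetherianSpace
import Mathlib.RingTheory.Valuation.ValuationRing
import Mathlib.RingTheory.Spectrum.Prime.Noetherian
import Mathlib.RingTheory.KrullDimension.Basic
import Mathlib.RingTheory.FiniteType
import Mathlib.RingTheory.FiniteStability

set_option autoImplicit false
universe u
open ValPrufer

namespace Groth.Agent.S14739

/-- Let R be a semilocal Prüfer domain (an integral domain with finitely many maximal ideals whose
localisations at primes are valuation rings) of finite Krull dimension and S an R-algebra of finite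
type. Then Spec S is a Noetherian topological space, and so is Spec T for every localisation T of S.
(The published remark is for a scheme of finite type over R and the spectrum of any
semilocalisation; the affine case with arbitrary localisations is stated.) -/
theorem result
    (R : Type u) [CommRing R] [IsDomain R]
    (hR : ∀ (p : Ideal R) [p.IsPrime], ValuationRing (Localization.AtPrime p))
    (hfin : Finite (MaximalSpectrum R)) (hdim : ringKrullDim R < ⊤)
    (S : Type u) [CommRing S] [Algebra R S] [Algebra.FiniteType R S]
    (M : Submonoid S) (T : Type u) [CommRing T] [Algebra S T] [IsLocalization M T] :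
    TopologicalSpace.NoetherianSpace (PrimeSpectrum S) ∧
      TopologicalSpace.NoetherianSpace (PrimeSpectrum T) := by
  classical
  haveI := hfin
  haveI : Finite (PrimeSpectrum R) := by
    obtain ⟨N, hN⟩ : ∃ N : ℕ, ∀ p : PrimeSpectrum R, Order.height p ≤ N := by
      rcases subsingleton_or_nontrivial R with h | h
      · exact ⟨0, fun p => absurd (Subsingleton.elim _ _) p.2.ne_top⟩
      · have h0 : (0 : WithBot ℕ∞) ≤ ringKrullDim R := ringKrullDim_nonneg_of_nontrivial
        obtain ⟨e, he⟩ := WithBot.ne_bot_iff_exists.mp (ne_bot_of_le_ne_bot (by simp) h0)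
        have het : e ≠ ⊤ := fun h => by rw [← he, h] at hdim; exact lt_irrefl _ hdim
        obtain ⟨n, rfl⟩ := ENat.ne_top_iff_exists.mp het
        refine ⟨n, fun p => ?_⟩
        have := Order.height_le_krullDim p
        rw [show Order.krullDim (PrimeSpectrum R) = ringKrullDim R from rfl, ← he, WithBot.coe_le_coe] at this
        exact this
    choose m hm using fun p : PrimeSpectrum R => p.asIdeal.exists_le_maximal p.2.ne_top
    let f : PrimeSpectrum R → MaximalSpectrum R × Fin (N + 1) := fun p => (⟨m p, (hm p).1⟩,
      ⟨(Order.height p).toNat, by
        have := ENat.toNat_le_toNat (hN p) (ENat.coe_ne_top N)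
        simpa [Nat.lt_succ_iff] using this⟩)
    refine Finite.of_injective f fun p q h => ?_
    have h1 : m p = m q := congrArg (fun z => z.1.asIdeal) h
    have h2 : (Order.height p).toNat = (Order.height q).toNat := congrArg (fun z => (z.2 : ℕ)) h
    have hfinite : ∀ r : PrimeSpectrum R, Order.height r < ⊤ := fun r => (hN r).trans_lt (ENat.coe_lt_top N)
    have h3 : Order.height p = Order.height q := by
      rw [← ENat.coe_toNat (hfinite p).ne, ← ENat.coe_toNat (hfinite q).ne, h2]
    haveI := (hm p).1
    haveI : (m p).IsPrime := (hm p).1.isPrime
    haveI := hR (m p)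
    have key : ∀ r : PrimeSpectrum R, r.asIdeal ≤ m p →
        (r.asIdeal.map (algebraMap R (Localization.AtPrime (m p)))).comap (algebraMap R (Localization.AtPrime (m p))) = r.asIdeal :=
      fun r hr => IsLocalization.comap_map_of_isPrime_disjoint (m p).primeCompl (Localization.AtPrime (m p)) r.2
        (Set.disjoint_left.mpr fun x hx hxr => hx (hr hxr))
    rcases le_total (α := Ideal (Localization.AtPrime (m p))) (p.asIdeal.map (algebraMap R _))
        (q.asIdeal.map (algebraMap R _)) with hle | hle
    · have hle' := Ideal.comap_mono (f := algebraMap R (Localization.AtPrime (m p))) hle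
      rw [key p (hm p).2, key q (h1 ▸ (hm q).2)] at hle'
      by_contra hne
      exact (Order.height_strictMono (lt_of_le_of_ne (show p ≤ q from hle') hne) (hfinite p)).ne h3
    · have hle' := Ideal.comap_mono (f := algebraMap R (Localization.AtPrime (m p))) hle
      rw [key p (hm p).2, key q (h1 ▸ (hm q).2)] at hle'
      by_contra hne
      exact (Order.height_strictMono (lt_of_le_of_ne (show q ≤ p from hle') (Ne.symm hne)) (hfinite q)).ne h3.symm
  haveI hS : TopologicalSpace.NoetherianSpace (PrimeSpectrum S) := by
    have hfib : ∀ p : PrimeSpectrum R, TopologicalSpace.NoetherianSpace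
        ↥(PrimeSpectrum.comap (algebraMap R S) ⁻¹' {p}) := fun p => by
      haveI : IsNoetherianRing (p.asIdeal.Fiber S) := Algebra.FiniteType.isNoetherianRing p.asIdeal.ResidueField _
      exact TopologicalSpace.noetherianSpace_of_surjective
        (PrimeSpectrum.preimageHomeomorphFiber R S p).symm (PrimeSpectrum.preimageHomeomorphFiber R S p).symm.continuous
        (PrimeSpectrum.preimageHomeomorphFiber R S p).symm.surjective
    rw [← TopologicalSpace.noetherian_univ_iff]
    have : (Set.univ : Set (PrimeSpectrum S)) = ⋃ p : PrimeSpectrum R, PrimeSpectrum.comap (algebraMap R S) ⁻¹' {p} := by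
      ext x; simp
    rw [this]
    exact TopologicalSpace.NoetherianSpace.iUnion _
  exact ⟨hS, (PrimeSpectrum.localization_comap_isEmbedding T M).isInducing.noetherianSpace⟩

end Groth.Agent.S14739
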