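import Groth.Statements.S1474
import Groth.Agent.H8Props.RegMor.Forms
-- import your own Groth.Agent.* helpers here

set_option autoImplicit false
universe u
open FlatMor

namespace Groth.Agent.S1474

open AlgebraicGeometry CategoryTheory Limits in
/-- (2) ⇔ (3): let f : X → Y have locally Noetherian fibres. Then the ring maps O_Y(V) → O_X(U) are
regular for all affine opens U ⊆ f⁻¹(V) if and only if f is flat and every fibre X_y is
geometrically regular over κ(y), i.e. every affine open of X_y has Noetherian, geometrically regular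
coordinate ring over κ(y). -/
theorem result {X Y : Scheme.{u}} (f : X ⟶ Y) (hN : ∀ y : Y, IsLocallyNoetherian (f.fiber y)) :
    (∀ (U : X.Opens) (V : Y.Opens) (hU : IsAffineOpen U) (hV : IsAffineOpen V) (hUV : U ≤ f ⁻¹ᵁ V),
        letI := (f.appLE V U hUV).hom.toAlgebra
        CAlg.IsRegularHom Γ(Y, V) Γ(X, U)) ↔
      Flat f ∧ ∀ (y : Y) (W : (f.fiber y).Opens), IsAffineOpen W →
        letI : Algebra ↑(Y.residueField y) ↑Γ(f.fiber y, W) := ((Scheme.ΓSpecIso (Y.residueField y)).inv ≫ (f.fiberToSpecResidueField y).appTop ≫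
          (f.fiber y).presheaf.map (homOfLE le_top).op).hom.toAlgebra
        IsNoetherianRing ↑Γ(f.fiber y, W) ∧ CAlg.IsGeometricallyRegular ↑(Y.residueField y) ↑Γ(f.fiber y, W) := by
  rw [Groth.Agent.H8Props.RegMor.forall_isRegularHom_iff f hN,
    Groth.Agent.H8Props.RegMor.homProp_iff Groth.Agent.H8Props.RegMor.goodProp_regular f hN]
  exact Iff.rfl


end Groth.Agent.S1474
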