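import Groth.Statements.S14740
import Groth.Agent.H3CAlg.SerrePrufer
-- import your own Groth.Agent.* helpers here

set_option autoImplicit false
universe u
open CategoryTheory AlgebraicGeometry MonoidalCategory
open ValPrufer

namespace Groth.Agent.S14740

/-- Let R be a semilocal Prüfer domain (an integral domain with finitely many maximal ideals whose
localisations at primes are valuation rings) of finite Krull dimension, m ≥ 1, X a closed subscheme
of projective (m-1)-space over R which is flat over R, O_X(1) the pullback of O(1), and φ : F ⟶ G an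
epimorphism of finitely presented (equivalently, coherent) O_X-modules. Then there is N such that
for every n ≥ N the map induced by φ on global sections of the twists, Γ(X, F ⊗ O_X(1)^{⊗ n}) → Γ(X,
G ⊗ O_X(1)^{⊗ n}), is surjective. -/
theorem result
    (R : Type u) [CommRing R] [IsDomain R]
    (hR : ∀ (p : Ideal R) [p.IsPrime], ValuationRing (Localization.AtPrime p))
    (hfin : Finite (MaximalSpectrum R)) (hdim : ringKrullDim R < ⊤)
    (m : ℕ) (hm : 1 ≤ m) (X : Scheme.{u}) (ι : X ⟶ CohB1.ProjSpace (m - 1) R) [IsClosedImmersion ι]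
    [Flat (ι ≫ CohB1.ProjSpace.toSpec (m - 1) R)]
    (F G : X.Modules) (hF : CohB1.IsFP F) (hG : CohB1.IsFP G) (φ : F ⟶ G) [Epi φ] :
    ∃ N : ℕ, ∀ n : ℕ, N ≤ n →
      Function.Surjective (((CohB1.sheafifyMod X).map (MonoidalCategoryStruct.whiskerRight (C := CohB1.PMod X)
        φ.val (CohB1.toPMod (CohB1.tensorPow ((Scheme.Modules.pullback ι).obj (Twist.twistProjSpace (m - 1) R 1)) n)))).val.app (Opposite.op ⊤)).hom := by
  let q := CohB1.ProjSpace.toSpec (m - 1) R
  haveI : LocallyOfFinitePresentation q := H3CAlg.SerrePrufer.lfp_toSpec (R := R) (m - 1)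
  have hX : H3CAlg.CohScheme.IsCohSp X := by
    intro W hW I hI
    let a : R →+* Γ(X, W) := ((ι ≫ q).appLE ⊤ W le_top).hom.comp (Scheme.ΓSpecIso (CommRingCat.of R)).inv.hom
    have hbij := ConcreteCategory.bijective_of_isIso (Scheme.ΓSpecIso (CommRingCat.of R)).inv
    haveI : Flat (ι ≫ q) := inferInstanceAs (Flat (ι ≫ CohB1.ProjSpace.toSpec (m - 1) R))
    have hfl : a.Flat := (RingHom.Flat.of_bijective hbij).comp ((ι ≫ q).flat_appLE (isAffineOpen_top _) hW le_top)
    have hft : a.FiniteType := ((ι ≫ q).finiteType_appLE (isAffineOpen_top _) hW le_top).comp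
      (RingHom.FiniteType.of_surjective _ hbij.2)
    letI : Algebra R Γ(X, W) := a.toAlgebra
    haveI : Algebra.FiniteType R Γ(X, W) := hft
    haveI : Module.Flat R Γ(X, W) := hfl
    haveI := H3CAlg.CohRing.algebra_fp_of_flat hR Γ(X, W)
    exact H3CAlg.PruferCoherent.finitePresentation_ideal hR Γ(X, W) I hI
  obtain ⟨N, hN⟩ := H3CAlg.SerrePrufer.exists_vanishing hR (m - 1) ι (CategoryTheory.Limits.kernel φ)
    (H3CAlg.CohScheme.isFP_kernel hX φ hF hG)
  refine ⟨N, fun n hn => ?_⟩
  have hO : PicF.IsInvertible (Twist.twistProjSpace (m - 1) R 1) := H11Ample.isInvertible_twist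
  have hL : PicF.IsInvertible (CohB1.tensorPow
      ((Scheme.Modules.pullback ι).obj (Twist.twistProjSpace (m - 1) R 1)) n) :=
    H11Ample.isInvertible_tensorPow (H11Ample.isInvertible_pullback ι hO) n
  exact H10Coh.surjective_app_of_subsingleton_HnM
    (H10Coh.Tw.shortExact_seq (H10Coh.shortExact_kernel φ) hL) ⊤ (hN n hn 1 one_pos)

end Groth.Agent.S14740
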