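import Groth.Statements.S14741
import Groth.Agent.S0010
import Mathlib.AlgebraicGeometry.Morphisms.ClosedImmersion
import Groth.Agent.H29Fitt.FP
import Groth.Agent.H11Proj.ProjSpace

set_option autoImplicit false
universe u
open CategoryTheory AlgebraicGeometry
open ValPrufer

namespace Groth.Agent.S14741

/-- Let R be a semilocal Prüfer domain (an integral domain with finitely many maximal ideals whose
localisations at primes are valuation rings) of finite Krull dimension, m ≥ 1, X a closed subscheme
of projective (m-1)-space over R which is flat over R, and F a finitely presented (equivalently,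
coherent) O_X-module. Then H^q(X, F) = 0 for all q > m. -/
theorem result
    (R : Type u) [CommRing R] [IsDomain R]
    (hR : ∀ (p : Ideal R) [p.IsPrime], ValuationRing (Localization.AtPrime p))
    (hfin : Finite (MaximalSpectrum R)) (hdim : ringKrullDim R < ⊤)
    (m : ℕ) (hm : 1 ≤ m) (X : Scheme.{u}) (ι : X ⟶ CohB1.ProjSpace (m - 1) R) [IsClosedImmersion ι]
    [Flat (ι ≫ CohB1.ProjSpace.toSpec (m - 1) R)]
    (F : X.Modules) (hF : CohB1.IsFP F) (q : ℕ) (hq : m < q) :
    Subsingleton (Coh.HH X F q) := by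
  obtain ⟨n, rfl⟩ : ∃ n, m = n + 1 := ⟨m - 1, by omega⟩
  haveI : Coh.IsQCoh F := Groth.Agent.H29Fitt.isQCoh_of_isFP F hF
  haveI : (CohB1.ProjSpace (n + 1 - 1) R).IsSeparated :=
    inferInstanceAs (Proj (CohB1.polyGrading (n + 1 - 1) R)).IsSeparated
  haveI : X.IsSeparated := ⟨by
    rw [show Limits.terminal.from X = ι ≫ Limits.terminal.from _ from Limits.terminal.hom_ext _ _]
    infer_instance⟩
  refine Groth.Agent.S0010.result X (n + 1 - 1 + 1)
    (fun i => ι ⁻¹ᵁ Proj.basicOpen (CohB1.polyGrading (n + 1 - 1) R) (MvPolynomial.X i)) (fun i => ?_) ?_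
    (fun V W hV hW => hV.inf hW) F q (by omega)
  · haveI hι : IsAffineHom ι := inferInstance
    exact hι.isAffine_preimage _ (Proj.isAffineOpen_basicOpen _ _ (Groth.Agent.H11Proj.ProjSpace.X_mem _ R i) zero_lt_one)
  · refine top_le_iff.mp fun x _ => ?_
    obtain ⟨i, hi⟩ := TopologicalSpace.Opens.mem_iSup.mp ((Proj.iSup_basicOpen_eq_top _ _
      (Groth.Agent.H11Proj.ProjSpace.irrelevant_le_span (n + 1 - 1) R)).ge (show ι x ∈ (⊤ : (CohB1.ProjSpace _ R).Opens) from trivial))
    exact TopologicalSpace.Opens.mem_iSup.mpr ⟨i, hi⟩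

end Groth.Agent.S14741
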