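import Groth.Statements.S14743
import Groth.Agent.H19Grp.Kernel

set_option autoImplicit false
universe u
open CategoryTheory MonoidalCategory CartesianMonoidalCategory MonObj GrpObj AlgebraicGeometry
open AlgGrp

namespace Groth.Agent.S14743

/-- Over an algebraically closed field k let L, G, B be commutative k-group schemes, i : L → G and π : G
→ B homomorphisms with i the kernel of π, and suppose that every k-morphism B × B → L is constant
(factors through a k-point of L). If π admits a section which is a morphism of k-schemes, then it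
admits a section which is a homomorphism, so the extension splits. (The published statement is for
algebraic groups, that is, of finite type over k; finiteness plays no role and is not assumed here.) -/
theorem result (k : Type u) [Field k] [IsAlgClosed k]
    (L G B : Over (Spec (CommRingCat.of k))) [GrpObj L] [GrpObj G] [GrpObj B]
    [IsCommMonObj L] [IsCommMonObj G] [IsCommMonObj B]
    (i : L ⟶ G) [IsMonHom i] (π : G ⟶ B) [IsMonHom π] (hker : AlgGrp.IsKernel i π)
    (hconst : ∀ f : B ⊗ B ⟶ L, ∃ l : 𝟙_ (Over (Spec (CommRingCat.of k))) ⟶ L, f = toUnit (B ⊗ B) ≫ l)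
    (s : B ⟶ G) (hs : s ≫ π = 𝟙 B) :
    ∃ s' : B ⟶ G, IsMonHom s' ∧ s' ≫ π = 𝟙 B := by
  let e : 𝟙_ (Over (Spec (CommRingCat.of k))) ⟶ G := η[B] ≫ s
  let s' : B ⟶ G := s / (toUnit B ≫ e)
  have he : e ≫ π = 1 := by
    simp only [e, Category.assoc, hs, Category.comp_id]
    rw [MonObj.one_eq_one]
  have hs' : s' ≫ π = 𝟙 B := by
    simp only [s', GrpObj.div_comp, hs, Category.assoc, he, MonObj.comp_one, div_one]
  have hη : η[B] ≫ s' = 1 := by
    simp only [s', GrpObj.comp_div, toUnit_unique (η[B] ≫ toUnit B) (𝟙 _),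
      ← Category.assoc, Category.id_comp]
    simp [e]
  let d : B ⊗ B ⟶ G := (μ[B] ≫ s') / ((fst B B ≫ s') * (snd B B ≫ s'))
  have hd : d ≫ π = 1 := by
    simp only [d, GrpObj.div_comp, Category.assoc, hs', Category.comp_id, MonObj.mul_comp]
    rw [MonObj.mul_eq_mul, div_self']
  obtain ⟨f, hf⟩ := Groth.Agent.H19Grp.kernel_lift hker d hd
  obtain ⟨l, hl⟩ := hconst f
  have hl1 : l ≫ i = 1 := by
    have h0 := congrArg (fun m => lift η[B] η[B] ≫ m) hf
    simp only [d, hl, GrpObj.comp_div, MonObj.comp_mul, lift_fst_assoc, lift_snd_assoc,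
      Category.assoc] at h0
    rw [← Category.assoc, toUnit_unique (lift η[B] η[B] ≫ toUnit (B ⊗ B)) (𝟙 _),
      Category.id_comp] at h0
    rw [h0, MonObj.mul_eq_mul, MonObj.comp_mul_assoc]
    simp [hη]
    rw [MonObj.one_eq_one, _root_.mul_one, ← MonObj.one_eq_one, hη]
  refine ⟨s', ⟨?_, ?_⟩, hs'⟩
  · rw [hη, MonObj.one_eq_one]
  · have : d = 1 := by rw [← hf, hl, Category.assoc, hl1, MonObj.comp_one]
    rw [div_eq_one] at this
    rw [this, MonObj.mul_eq_mul, MonObj.comp_mul, tensorHom_fst, tensorHom_snd]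

end Groth.Agent.S14743
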