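import Groth.Statements.S14744
import Groth.Agent.H19Chev.AntiAffineImage

set_option autoImplicit false
set_option maxHeartbeats 1000000
set_option synthInstance.maxHeartbeats 100000
set_option linter.style.haveILetI false
set_option backward.isDefEq.respectTransparency false
universe u
open CategoryTheory MonoidalCategory CartesianMonoidalCategory MonObj GrpObj AlgebraicGeometry
open AlgGrp

namespace Groth.Agent.S14744

open CategoryTheory.Limits MonObj
open Groth.Agent Groth.Agent.H25AbCube Groth.Agent.H19Quot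


/-- Over an algebraically closed field k, a smooth connected k-group scheme of finite type M whose only
global functions are the constants (an anti-affine group variety; the largest anti-affine subgroup
of any group variety is of this kind) is divisible: for every n ≥ 1 the n-th power map M → M is
surjective. -/
theorem result (k : Type u) [Field k] [IsAlgClosed k]
    (M : Over (Spec (CommRingCat.of k))) [GrpObj M] [Smooth M.hom] [QuasiCompact M.hom] [ConnectedSpace ↥M.left]
    (hM : Function.Bijective ((Scheme.ΓSpecIso (CommRingCat.of k)).inv ≫ M.hom.appTop).hom)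
    (n : ℕ) (hn : 0 < n) :
    Surjective ((𝟙 M) ^ n).left := by
  haveI : IsSeparated M.hom := H19Grp.AffineQuotient.isSeparated_of_grp M
  haveI : IsIso M.hom.appTop := by
    haveI : IsIso ((Scheme.ΓSpecIso (CommRingCat.of k)).inv ≫ M.hom.appTop) :=
      (ConcreteCategory.isIso_iff_bijective _).2 hM
    exact IsIso.of_isIso_comp_left (Scheme.ΓSpecIso (CommRingCat.of k)).inv _
  haveI : IsCommMonObj M := H19Grp.AntiAffineGroup.isCommMonObj M
  let f : M ⟶ M := (𝟙 M) ^ n
  have hfe : ∀ {T : Over (Spec (CommRingCat.of k))} (a : T ⟶ M), a ≫ f = a ^ n := fun a => by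
    rw [MonObj.comp_pow, Category.comp_id]
  haveI : IsMonHom f := by
    show IsMonHom ((𝟙 M) ^ n)
    rw [← zpow_natCast]
    exact H19Grp.isMonHom_zpow (𝟙 M) (n : ℤ)
  obtain ⟨C, gC, c, iC, hc, hiC, hci, hcf, hcs, hcp, hiCc⟩ :=
    AbelianCat.exists_image f ⟨inferInstance, inferInstance⟩ ⟨inferInstance, inferInstance⟩
  haveI := hc; haveI := hiC; haveI := hcf; haveI := hcs; haveI := hcp; haveI := hiCc
  have hN : AlgGrp.IsNormalHom iC := fun T b x => ⟨x, by rw [mul_comm b, mul_inv_cancel_right]⟩
  obtain ⟨R, gR, p, hp, hRlft, hRqc, hpf, hps, hpp, hkp⟩ := H19Quot.exists_quotientGroup iC hN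
  haveI := hp; haveI := hRlft; haveI := hRqc; haveI := hpf; haveI := hps; haveI := hpp
  obtain ⟨hRs, hRc⟩ := H19Chev.smooth_connected_image p
  haveI := hRs; haveI := hRc
  obtain ⟨L, gL, l, A, gA, q, hl, -, hLa, -, -, -, hq, hqs, hqf, hqp, hk, hAp, hAs, hAn⟩ := H19Chev.exists_chevalley R
  haveI := hl; haveI := hLa; haveI := hq; haveI := hqs; haveI := hqf; haveI := hqp; haveI := hAp; haveI := hAs; haveI := hAn
  haveI := H19Chev.geometricallyIntegral_av A
  haveI : Surjective (p ≫ q).left := by rw [Over.comp_left]; infer_instance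
  have hA : (Set.univ : Set (𝟙_ _ ⟶ A)).Finite := by
    haveI := isFinite_pow (A := A) hn
    refine ((((𝟙 A) ^ n : A ⟶ A).left.finite_preimage_singleton (Stab.pnt (1 : 𝟙_ _ ⟶ A))).preimage
      (f := fun a : 𝟙_ _ ⟶ A => Stab.pnt a) fun a _ b _ hab => Stab.pnt_injective hab).subset fun a _ => ?_
    obtain ⟨m, rfl⟩ := H19Chev.exists_pt_lift (p ≫ q) a
    have h1 : (m ≫ p ≫ q) ^ n = 1 := by
      rw [← MonObj.pow_comp, ← hfe, ← hci, Category.assoc, Category.assoc, reassoc_of% (H19Grp.kernel_comp_eq_one hkp)]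
      simp
    show ((𝟙 A) ^ n : A ⟶ A).left ((m ≫ p ≫ q).left _) = _
    rw [← Scheme.Hom.comp_apply, ← Over.comp_left, MonObj.comp_pow, Category.comp_id, h1]
  haveI := H19Chev.subsingleton_of_finite_points hA
  haveI : IsAffine R.left := H19Chev.isAffine_extension l q hk
  obtain ⟨g, hg⟩ := H19Grp.kernel_lift hkp (𝟙 M) (by
    rw [Category.id_comp]
    exact H19Grp.AntiAffineGroup.eq_one_of_isAffine p (IsMonHom.one_hom p))
  obtain ⟨h1, h2, h3⟩ := AbelianCat.props_hom f ⟨inferInstance, inferInstance⟩ ⟨inferInstance, inferInstance⟩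
  haveI := h2; haveI := h3
  haveI : Surjective c.left := hcs
  haveI : LocallyOfFiniteType C.hom := by rw [← Over.w iC]; infer_instance
  refine H19Chev.surjective_of_pts f fun y => ?_
  obtain ⟨x, hx⟩ := H19Chev.exists_pt_lift c (y ≫ g)
  exact ⟨x, by rw [← hci, ← Category.assoc, hx, Category.assoc, hg, Category.comp_id]⟩

end Groth.Agent.S14744
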