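import Groth.Statements.S14751
import Groth.Agent.H19Chev.Isogeny

set_option autoImplicit false
set_option maxHeartbeats 1000000
set_option synthInstance.maxHeartbeats 100000
set_option linter.style.haveILetI false
set_option backward.isDefEq.respectTransparency false
universe u
open CategoryTheory CategoryTheory.Limits MonoidalCategory CartesianMonoidalCategory MonObj GrpObj AlgebraicGeometry
open AlgGrp

namespace Groth.Agent.S14751

open CategoryTheory.Limits MonObj
open Groth.Agent


/-- Over an algebraically closed field k let G be a group variety (smooth connected k-group scheme of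
finite type), i : N → G an affine closed subgroup scheme which is the kernel of a flat surjective
homomorphism π : G → Q, and j : A → G an abelian subvariety (a smooth connected proper closed
subgroup scheme) with A · N = G, that is, the multiplication A × N → G is surjective. Then the
multiplication A × N → G is a homomorphism and an isogeny (surjective with finite kernel), and so is
the composite A → G → Q. (In the published statement N is the largest connected affine normal
subgroup variety and Q = G/N the Albanese quotient; only the listed properties are used.) -/
theorem result (k : Type u) [Field k] [IsAlgClosed k]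
    (G N A Q : Over (Spec (CommRingCat.of k))) [GrpObj G] [GrpObj N] [GrpObj A] [GrpObj Q]
    [Smooth G.hom] [QuasiCompact G.hom] [ConnectedSpace ↥G.left]
    (i : N ⟶ G) [IsMonHom i] [IsClosedImmersion i.left] [IsAffine N.left]
    (π : G ⟶ Q) [IsMonHom π] [Flat π.left] [Surjective π.left] (hker : AlgGrp.IsKernel i π)
    (j : A ⟶ G) [IsMonHom j] [IsClosedImmersion j.left] [Smooth A.hom] [ConnectedSpace ↥A.left] [IsProper A.hom]
    (hsurj : Surjective ((j ⊗ₘ i) ≫ μ[G]).left) :
    IsMonHom ((j ⊗ₘ i) ≫ μ[G]) ∧ SGA7.IsIsogenyOver ((j ⊗ₘ i) ≫ μ[G]) ∧ SGA7.IsIsogenyOver (j ≫ π) := by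
  haveI : IsSeparated Q.hom := H19Grp.AffineQuotient.isSeparated_of_grp Q
  exact H19Chev.isogeny_of_affine_proper i π hker j hsurj

end Groth.Agent.S14751
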