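import Groth.Statements.S14754
import Groth.Agent.H21Diag.SplitSubtori
import Groth.Agent.S11937

set_option backward.isDefEq.respectTransparency false

set_option autoImplicit false
universe u
open CategoryTheory CategoryTheory.Limits MonoidalCategory CartesianMonoidalCategory MonObj GrpObj AlgebraicGeometry
open AlgGrp
open Groth.Agent.H21Diag Groth.Agent.H18Torsor.DiagExact

namespace Groth.Agent.S14754

theorem exists_chart {S : Scheme.{u}} {M : Type} [AddCommGroup M] {T : Over S} [GrpObj T]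
    (h : Red.IsSplitTorusWith M T) : ∃ (a : T ⟶ Red.DS S M) (b : Red.DS S M ⟶ T),
      IsMonHom a ∧ IsMonHom b ∧ a ≫ b = 𝟙 T ∧ b ≫ a = 𝟙 (Red.DS S M) := by
  obtain ⟨e⟩ := h
  exact ⟨e.hom.hom.hom, e.inv.hom.hom, e.hom.hom.isMonHom_hom, e.inv.hom.isMonHom_hom,
    congrArg (fun t => t.hom.hom) e.hom_inv_id, congrArg (fun t => t.hom.hom) e.inv_hom_id⟩

/-- Over an algebraically closed field k, every exact sequence of split tori splits: if K, G, Q are
split tori over k, i : K → G a closed subgroup scheme which is the kernel of a flat surjective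
homomorphism π : G → Q, then π has a section which is a homomorphism. -/
theorem result (k : Type u) [Field k] [IsAlgClosed k]
    (K G Q : Over (Spec (CommRingCat.of k))) [GrpObj K] [GrpObj G] [GrpObj Q] (nK nG nQ : ℕ)
    (hK : Red.IsSplitTorusWith (Fin nK → ℤ) K) (hG : Red.IsSplitTorusWith (Fin nG → ℤ) G)
    (hQ : Red.IsSplitTorusWith (Fin nQ → ℤ) Q)
    (i : K ⟶ G) [IsMonHom i] [IsClosedImmersion i.left]
    (π : G ⟶ Q) [IsMonHom π] [Flat π.left] [Surjective π.left] (hker : AlgGrp.IsKernel i π) :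
    ∃ s : Q ⟶ G, IsMonHom s ∧ s ≫ π = 𝟙 Q := by
  obtain ⟨fK, fK', _, _, hK1, hK2⟩ := exists_chart hK
  obtain ⟨fG, fG', _, _, hG1, hG2⟩ := exists_chart hG
  obtain ⟨fQ, fQ', _, _, hQ1, hQ2⟩ := exists_chart hQ
  have : IsIso fG := ⟨fG', hG1, hG2⟩
  have : AddGroup.FG (Fin nG → ℤ) := Module.Finite.iff_addGroup_fg.mp inferInstance
  have : AddGroup.FG (Fin nQ → ℤ) := Module.Finite.iff_addGroup_fg.mp inferInstance
  have : AddGroup.FG (Fin nK → ℤ) := Module.Finite.iff_addGroup_fg.mp inferInstance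
  have : IsMonHom (fG' ≫ π ≫ fQ) := inferInstance
  obtain ⟨φ, hφ⟩ := Groth.Agent.S11937.exists_eq_DSmap (fG' ≫ π ≫ fQ)
  have hπ : π = fG ≫ Red.DSmap _ φ ≫ fQ' := by
    rw [← hφ]
    simp only [Category.assoc, hQ1, Category.comp_id, reassoc_of% hG1]
  -- `φ` is injective
  have : Epi π.left := Flat.epi_of_flat_of_surjective _
  have : Epi π := Over.epi_of_epi_left π
  have hφi : Function.Injective φ := (injective_iff_map_eq_zero φ).mpr fun n hn => by
    let ψ : ℤ →+ (Fin nQ → ℤ) := zmultiplesHom (Fin nQ → ℤ) n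
    have h1 : Red.DSmap (Spec (CommRingCat.of k)) φ ≫ Red.DSmap _ ψ = 1 :=
      DSmap_comp_eq_one ψ φ (AddMonoidHom.ext_int (by simpa [ψ] using hn))
    have h2 : fQ ≫ Red.DSmap _ ψ = 1 := (cancel_epi π).mp (by
      rw [MonObj.comp_one, hπ]
      simp only [Category.assoc, reassoc_of% hQ2, h1, MonObj.comp_one])
    have h3 : Red.DSmap (Spec (CommRingCat.of k)) ψ = Red.DSmap _ (0 : ℤ →+ (Fin nQ → ℤ)) := by
      have h4 : Red.DSmap (Spec (CommRingCat.of k)) ψ = 1 := by
        rw [← Category.id_comp (Red.DSmap _ ψ), ← hQ2, Category.assoc, h2, MonObj.comp_one]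
      rw [h4]
      refine (chr_ext (MonoidHom.ext fun m => ?_)).symm
      rw [← Category.id_comp (Red.DSmap _ (0 : ℤ →+ (Fin nQ → ℤ))), chr_comp_DSmap, chr_one]
      change chr (𝟙 (Red.DS (Spec (CommRingCat.of k)) (Fin nQ → ℤ))) 1 = 1
      exact map_one _
    simpa [ψ] using DFunLike.congr_fun (Groth.Agent.S11937.DSmap_injective h3) 1
  -- the kernel is `D` of the cokernel of `φ`
  let q : (Fin nG → ℤ) →+ (Fin nG → ℤ) ⧸ φ.range := QuotientAddGroup.mk' φ.range
  have hqs : Function.Surjective q := QuotientAddGroup.mk'_surjective _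
  have : AddGroup.FG ((Fin nG → ℤ) ⧸ φ.range) := AddGroup.fg_of_surjective hqs
  have : Mono (Red.DSmap (Spec (CommRingCat.of k)) q) := mono_DSmap q hqs
  have : IsMonHom (Red.DSmap (Spec (CommRingCat.of k)) q) := isMonHom_DSmap _ q
  have : Mono i := by
    have : Mono i.left := inferInstance
    exact Over.mono_of_mono_left i
  have hqφ : q.comp φ = 0 := AddMonoidHom.ext fun n =>
    (QuotientAddGroup.eq_zero_iff _).mpr ⟨n, rfl⟩
  have hl : (Red.DSmap (Spec (CommRingCat.of k)) q ≫ fG') ≫ π =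
      toUnit _ ≫ η[Q] := by
    rw [← Hom.one_def (M := Q), hπ]
    simp only [Category.assoc, reassoc_of% hG2]
    rw [← Category.assoc, DSmap_comp_eq_one φ q hqφ, MonObj.one_comp]
  obtain ⟨l, hl'⟩ : ∃ l, l ≫ i = Red.DSmap (Spec (CommRingCat.of k)) q ≫ fG' :=
    ⟨hker.lift _ _ hl, hker.lift_fst _ _ _⟩
  obtain ⟨z, hz⟩ := exists_lift_kernel φ q hqs (fun m hm => (QuotientAddGroup.eq_zero_iff m).mp hm) (i ≫ fG) (by
    have : (i ≫ π) ≫ fQ = 1 := by
      rw [hker.w, ← Hom.one_def (X := K) (M := Q)]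
      exact MonObj.one_comp fQ
    rw [hπ] at this
    simpa only [Category.assoc, hQ2, Category.comp_id] using this)
  have : IsMonHom l := by
    have : IsMonHom (l ≫ i) := by rw [hl']; infer_instance
    exact isMonHom_of_comp_mono l i
  have : IsMonHom z := by
    have : IsMonHom (z ≫ Red.DSmap (Spec (CommRingCat.of k)) q) := by rw [hz]; infer_instance
    exact isMonHom_of_comp_mono z (Red.DSmap (Spec (CommRingCat.of k)) q)
  have hzl : z ≫ l = 𝟙 K := by
    rw [← cancel_mono i, Category.assoc, hl', ← Category.assoc, hz, Category.assoc, hG1, Category.id_comp,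
      Category.comp_id]
  have hlz : l ≫ z = 𝟙 _ := by
    rw [← cancel_mono (Red.DSmap (Spec (CommRingCat.of k)) q), Category.assoc, hz, ← Category.assoc, hl',
      Category.assoc, hG2, Category.comp_id, Category.id_comp]
  obtain ⟨a, ha⟩ := Groth.Agent.S11937.exists_eq_DSmap (l ≫ fK)
  obtain ⟨b, hb⟩ := Groth.Agent.S11937.exists_eq_DSmap (fK' ≫ z)
  have hba : b.comp a = AddMonoidHom.id _ := by
    apply Groth.Agent.S11937.DSmap_injective (k := k)
    rw [← Groth.Agent.H21Split.R2.DSmap_comp, ← ha, ← hb, Groth.Agent.S11937.DSmap_id]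
    simp only [Category.assoc, reassoc_of% hzl, hK2]
  have hab : a.comp b = AddMonoidHom.id _ := by
    apply Groth.Agent.S11937.DSmap_injective (k := k)
    rw [← Groth.Agent.H21Split.R2.DSmap_comp, ← ha, ← hb, Groth.Agent.S11937.DSmap_id]
    simp only [Category.assoc, reassoc_of% hK1, hlz]
  have : Module.Free ℤ ((Fin nG → ℤ) ⧸ φ.range) := Module.Free.of_equiv
    (AddEquiv.toIntLinearEquiv (AddMonoidHom.toAddEquiv a b hba hab))
  -- a retraction of `φ`
  obtain ⟨σ, hσ⟩ := Module.projective_lifting_property q.toIntLinearMap LinearMap.id hqs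
  have hσ' : ∀ c, q (σ c) = c := fun c => DFunLike.congr_fun hσ c
  let eφ := AddEquiv.ofBijective φ.rangeRestrict
    ⟨fun x y h => hφi (congrArg Subtype.val h), φ.rangeRestrict_surjective⟩
  let p : (Fin nG → ℤ) →+ φ.range := (AddMonoidHom.id (Fin nG → ℤ) - σ.toAddMonoidHom.comp q).codRestrict _ fun m => by
    rw [← QuotientAddGroup.eq_zero_iff]
    change q (m - σ (q m)) = 0
    rw [map_sub, hσ', sub_self]
  let r : (Fin nG → ℤ) →+ (Fin nQ → ℤ) := eφ.symm.toAddMonoidHom.comp p
  have hr : r.comp φ = AddMonoidHom.id (Fin nQ → ℤ) := AddMonoidHom.ext fun n => by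
    apply eφ.injective
    change eφ (eφ.symm (p (φ n))) = eφ n
    rw [AddEquiv.apply_symm_apply]
    refine Subtype.ext ?_
    change φ n - σ (q (φ n)) = φ n
    rw [show q (φ n) = 0 from DFunLike.congr_fun hqφ n, map_zero, sub_zero]
  have : IsMonHom (Red.DSmap (Spec (CommRingCat.of k)) r) := isMonHom_DSmap _ r
  refine ⟨fQ ≫ Red.DSmap _ r ≫ fG', inferInstance, ?_⟩
  rw [hπ]
  simp only [Category.assoc, reassoc_of% hG2]
  rw [reassoc_of% DSmap_comp_eq_id (S := Spec (CommRingCat.of k)) φ r hr, hQ1]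

end Groth.Agent.S14754
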