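import Groth.Statements.S14757
import Groth.Agent.H19Chev.MulSurjective
import Groth.Agent.H19Chev.QuasiComplement

set_option autoImplicit false
set_option maxHeartbeats 1000000
set_option synthInstance.maxHeartbeats 100000
set_option linter.style.haveILetI false
set_option backward.isDefEq.respectTransparency false
universe u
open CategoryTheory CategoryTheory.Limits MonoidalCategory CartesianMonoidalCategory MonObj GrpObj AlgebraicGeometry
open AlgGrp

namespace Groth.Agent.S14757

open Groth.Agent Groth.Agent.H19Quot


/-- Let k be a perfect field and G a group variety over k (smooth connected k-group scheme of finite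
type); let i : N → G be its largest smooth connected affine normal closed subgroup scheme G_lin
(every other such subgroup factors through it) and j : M → G its largest anti-affine closed subgroup
scheme G_ant (the global functions of M are the constants k, and every closed subgroup scheme with
that property factors through it). Then the multiplication G_ant × G_lin → G is a homomorphism and
is surjective. (The published statement says it is a quotient map; surjectivity is what the
published proof establishes, faithful flatness then being automatic for a surjective homomorphism of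
algebraic groups.) -/
theorem result (k : Type u) [Field k] [PerfectField k]
    (G : Over (Spec (CommRingCat.of k))) [GrpObj G] [Smooth G.hom] [QuasiCompact G.hom] [ConnectedSpace ↥G.left]
    (N : Over (Spec (CommRingCat.of k))) [GrpObj N] (i : N ⟶ G) [IsMonHom i] [IsClosedImmersion i.left]
    [Smooth N.hom] [ConnectedSpace ↥N.left] [IsAffine N.left] (hN : AlgGrp.IsNormalHom i)
    (hNmax : ∀ (N' : Over (Spec (CommRingCat.of k))) [GrpObj N'] (i' : N' ⟶ G) [IsMonHom i'] [IsClosedImmersion i'.left]
      [Smooth N'.hom] [ConnectedSpace ↥N'.left] [IsAffine N'.left], AlgGrp.IsNormalHom i' → ∃ f : N' ⟶ N, f ≫ i = i')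
    (M : Over (Spec (CommRingCat.of k))) [GrpObj M] (j : M ⟶ G) [IsMonHom j] [IsClosedImmersion j.left]
    (hM : Function.Bijective ((Scheme.ΓSpecIso (CommRingCat.of k)).inv ≫ M.hom.appTop).hom)
    (hMmax : ∀ (M' : Over (Spec (CommRingCat.of k))) [GrpObj M'] (j' : M' ⟶ G) [IsMonHom j'] [IsClosedImmersion j'.left],
      Function.Bijective ((Scheme.ΓSpecIso (CommRingCat.of k)).inv ≫ M'.hom.appTop).hom → ∃ f : M' ⟶ M, f ≫ j = j') :
    IsMonHom ((j ⊗ₘ i) ≫ μ[G]) ∧ Surjective ((j ⊗ₘ i) ≫ μ[G]).left := by
  have hiff : ∀ (X : Over (Spec (CommRingCat.of k))),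
      IsIso X.hom.appTop → Function.Bijective ((Scheme.ΓSpecIso (CommRingCat.of k)).inv ≫ X.hom.appTop).hom :=
    fun X _ => ConcreteCategory.bijective_of_isIso ((Scheme.ΓSpecIso (CommRingCat.of k)).inv ≫ X.hom.appTop)
  haveI : IsSeparated G.hom := H19Grp.AffineQuotient.isSeparated_of_grp G
  haveI : IsIso M.hom.appTop := by
    haveI : IsIso ((Scheme.ΓSpecIso (CommRingCat.of k)).inv ≫ M.hom.appTop) :=
      (ConcreteCategory.isIso_iff_bijective _).2 hM
    exact IsIso.of_isIso_comp_left (Scheme.ΓSpecIso (CommRingCat.of k)).inv _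
  haveI : LocallyOfFiniteType M.hom := by rw [← Over.w j]; infer_instance
  haveI : QuasiCompact M.hom := by rw [← Over.w j]; infer_instance
  refine ⟨H19Chev.isMonHom_mul_map j i fun T a x => H19Grp.AntiAffineGroup.central j a (x ≫ i), ?_⟩
  obtain ⟨L, gL, l, A, gA, q, hl, hlc, hLa, hLn, hnorm, hq, hqs, hqf, hqp, hk, hAp, hAs, hAc, hLs⟩ :=
    H19Chev.exists_chevalley_field G
  haveI := hl; haveI := hlc; haveI := hLa; haveI := hLn; haveI := hq; haveI := hqs; haveI := hqf; haveI := hAp
  haveI : Smooth L.hom := hLs inferInstance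
  obtain ⟨a, ha⟩ := hNmax L l hnorm
  obtain ⟨gM, hm⟩ := H19Grp.AffinizationKernel.exists_grpObj G
  haveI := hm
  obtain ⟨b, hb⟩ := hMmax _ (H19Grp.AffinizationKernel.incl G)
    (hiff _ (H19Grp.AffinizationKernel.smooth_and_connected G).1)
  haveI := H19Chev.surjective_incl_comp q
  haveI h := H19Chev.surjective_mul_left l q hk (H19Grp.AffinizationKernel.incl G)
  have he : (H19Grp.AffinizationKernel.incl G ⊗ₘ l) ≫ μ[G] = (b ⊗ₘ a) ≫ (j ⊗ₘ i) ≫ μ[G] := by
    rw [← hb, ← ha, ← tensorHom_comp_tensorHom, Category.assoc]
  rw [he, Over.comp_left] at h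
  exact Surjective.of_comp (b ⊗ₘ a).left _

end Groth.Agent.S14757
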