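import Groth.Statements.S14758
import Groth.Agent.H26EtPull.Basic
-- import your own Groth.Agent.* helpers here

set_option backward.isDefEq.respectTransparency false
set_option backward.isDefEq.respectTransparency.types false

set_option autoImplicit false
universe u
open CategoryTheory CategoryTheory.Limits MonoidalCategory CartesianMonoidalCategory MonObj GrpObj AlgebraicGeometry
open EtAdic

namespace Groth.Agent.S14758

theorem pullConst_comp {X Y Z : Scheme.{u}} (f : X ⟶ Y) (t : Y ⟶ Z) (M : Type) [AddCommGroup M] (q : ℤ →+ M)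
    (hq : Function.Surjective q) :
    (EtCore.pullConst (f ≫ t) M).inv ≫ (EtCore.pullComp f t).hom.app (EtCoh.const Z M) =
      (EtCore.pullConst f M).inv ≫ (EtCoh.pull f).map (EtCore.pullConst t M).inv := by
  let qq : AddCommGrpCat.of (ULift.{u + 1} ℤ) ⟶ AddCommGrpCat.of (ULift.{u + 1} M) :=
    AddCommGrpCat.ofHom (AddEquiv.ulift.symm.toAddMonoidHom.comp (q.comp AddEquiv.ulift.toAddMonoidHom))
  haveI : Epi qq := (AddCommGrpCat.epi_iff_surjective _).2 fun m => by
    obtain ⟨z, hz⟩ := hq m.down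
    exact ⟨⟨z⟩, congrArg ULift.up hz⟩
  haveI : (constantSheaf X.smallEtaleTopology AddCommGrpCat.{u + 1}).IsLeftAdjoint :=
    (EtCore.constAdj X).isLeftAdjoint
  rw [← cancel_epi ((constantSheaf X.smallEtaleTopology AddCommGrpCat.{u + 1}).map qq)]
  have h := H26EtPull.pullConst_comp f t
  have n1 := (EtCore.pullConstIso (f ≫ t)).inv.naturality qq
  have n2 := (EtCore.pullConstIso f).inv.naturality qq
  have n3 := (EtCore.pullConstIso t).inv.naturality qq
  have n4 := (EtCore.pullComp f t).hom.naturality ((constantSheaf Z.smallEtaleTopology AddCommGrpCat.{u + 1}).map qq)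
  dsimp only [Functor.comp_obj, Functor.comp_map] at n1 n2 n3 n4
  show _ ≫ (EtCore.pullConstIso (f ≫ t)).inv.app _ ≫ _ = _ ≫ (EtCore.pullConstIso f).inv.app _ ≫ (EtCoh.pull f).map ((EtCore.pullConstIso t).inv.app _)
  rw [reassoc_of% n1, reassoc_of% n2, n4, ← Functor.map_comp, n3, Functor.map_comp]
  exact (Category.assoc _ _ _).symm.trans ((congrArg (· ≫ _) h).trans (Category.assoc _ _ _))

theorem Hmap_comp {X Y Z : Scheme.{u}} (f : X ⟶ Y) (t : Y ⟶ Z) (ℓ r ν : ℕ)
    (hf : PreservesFiniteLimits (EtCoh.pull f)) (ht : PreservesFiniteLimits (EtCoh.pull t))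
    (hft : PreservesFiniteLimits (EtCoh.pull (f ≫ t))) (x : EtAdic.Hmod Z ℓ r ν) :
    EtAdic.Hmap ℓ f hf r ν (EtAdic.Hmap ℓ t ht r ν x) = EtAdic.Hmap ℓ (f ≫ t) hft r ν x := by
  haveI := hf
  haveI := ht
  haveI := hft
  have e : (EtCore.pullComp f t).hom.app (EtCoh.const Z (ZMod (ℓ ^ ν))) ≫
      (EtCoh.pull f).map (EtCore.pullConst t (ZMod (ℓ ^ ν))).hom ≫ (EtCore.pullConst f (ZMod (ℓ ^ ν))).hom =
      (EtCore.pullConst (f ≫ t) (ZMod (ℓ ^ ν))).hom := by
    rw [← cancel_epi (EtCore.pullConst (f ≫ t) (ZMod (ℓ ^ ν))).inv, ← Category.assoc,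
      pullConst_comp f t (ZMod (ℓ ^ ν)) (Int.castAddHom _) ZMod.intCast_surjective, Category.assoc,
      ← Functor.map_comp_assoc, Iso.inv_hom_id]
    simp
  show ((EtCoh.HF X r).map _).hom (EtCore.Hpull f _ r (((EtCoh.HF Y r).map _).hom (EtCore.Hpull t _ r x))) =
    ((EtCoh.HF X r).map _).hom (EtCore.Hpull (f ≫ t) _ r x)
  rw [H26EtPull.Hpull_map, H26EtPull.Hpull_comp, ← e, Functor.map_comp, Functor.map_comp]
  rfl

theorem Hmap_congr {X Y : Scheme.{u}} {a b : X ⟶ Y} (w : a = b) (ℓ r ν : ℕ)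
    (ha : PreservesFiniteLimits (EtCoh.pull a)) (hb : PreservesFiniteLimits (EtCoh.pull b)) (x : EtAdic.Hmod Y ℓ r ν) :
    EtAdic.Hmap ℓ a ha r ν x = EtAdic.Hmap ℓ b hb r ν x := by
  subst w
  rfl

/-- Let k be a field, ℓ, ν natural numbers, G and G' commutative k-group schemes and φ, ψ : G → G'
homomorphisms. If x ∈ H^r(G'_et, Z/ℓ^ν) is primitive, that is m^*x = p_1^*x + p_2^*x for the
multiplication m and the projections p_1, p_2 of G' × G', then (φ + ψ)^*x = φ^*x + ψ^*x, where φ + ψ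
is the sum in the group of homomorphisms. (The published lemma is for H^r_T(−, L) with T any of the
Zariski, étale or flat topologies and L any commutative algebraic group as coefficients; this row is
its case T = étale, L = Z/ℓ^ν constant, the one used later.) -/
theorem result (k : Type u) [Field k] (ℓ ν r : ℕ)
    (G G' : Over (Spec (CommRingCat.of k))) [GrpObj G] [GrpObj G'] [IsCommMonObj G] [IsCommMonObj G']
    (φ ψ : G ⟶ G') [IsMonHom φ] [IsMonHom ψ]
    [hm : PreservesFiniteLimits (EtCoh.pull (μ[G']).left)]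
    [h1 : PreservesFiniteLimits (EtCoh.pull (fst G' G').left)]
    [h2 : PreservesFiniteLimits (EtCoh.pull (snd G' G').left)]
    [hφ : PreservesFiniteLimits (EtCoh.pull φ.left)] [hψ : PreservesFiniteLimits (EtCoh.pull ψ.left)]
    [hs : PreservesFiniteLimits (EtCoh.pull (φ * ψ).left)]
    (x : EtAdic.Hmod G'.left ℓ r ν)
    (hx : EtAdic.Hmap ℓ (μ[G']).left hm r ν x =
      EtAdic.Hmap ℓ (fst G' G').left h1 r ν x + EtAdic.Hmap ℓ (snd G' G').left h2 r ν x) :
    EtAdic.Hmap ℓ (φ * ψ).left hs r ν x = EtAdic.Hmap ℓ φ.left hφ r ν x + EtAdic.Hmap ℓ ψ.left hψ r ν x := by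
  haveI hl := Groth.Agent.H18Et.pull_preservesFiniteLimits (CartesianMonoidalCategory.lift φ ψ).left
  have e : ∀ (y : G' ⊗ G' ⟶ G') (hy : PreservesFiniteLimits (EtCoh.pull y.left)) (z : G ⟶ G')
      (hz : PreservesFiniteLimits (EtCoh.pull z.left)) (w : CartesianMonoidalCategory.lift φ ψ ≫ y = z),
      EtAdic.Hmap ℓ (CartesianMonoidalCategory.lift φ ψ).left hl r ν (EtAdic.Hmap ℓ y.left hy r ν x) =
        EtAdic.Hmap ℓ z.left hz r ν x := fun y hy z hz w => by
    rw [Hmap_comp _ _ ℓ r ν hl hy (Groth.Agent.H18Et.pull_preservesFiniteLimits _)]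
    exact Hmap_congr (by rw [← Over.comp_left, w]) ℓ r ν _ hz x
  have := congrArg (EtAdic.Hmap ℓ (CartesianMonoidalCategory.lift φ ψ).left hl r ν) hx
  rw [map_add, e _ hm (φ * ψ) hs (Hom.mul_def φ ψ).symm, e _ h1 φ hφ (lift_fst _ _), e _ h2 ψ hψ (lift_snd _ _)] at this
  exact this

end Groth.Agent.S14758
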