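import Groth.Statements.S14759
import Groth.Agent.H19Chev.MinProperQuotient
import Groth.Agent.H19Grp.KernelGrp

set_option autoImplicit false
set_option maxHeartbeats 1000000
set_option synthInstance.maxHeartbeats 100000
set_option linter.style.haveILetI false
set_option backward.isDefEq.respectTransparency false
universe u
open CategoryTheory CategoryTheory.Limits MonoidalCategory CartesianMonoidalCategory MonObj GrpObj AlgebraicGeometry
open AlgGrp

namespace Groth.Agent.S14759

open Groth.Agent Groth.Agent.H19Grp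

/-- Two kernels of the same homomorphism are isomorphic. -/
theorem exists_iso_kernel {S : Scheme.{u}} {G Q N N' : Over S} [GrpObj Q] {ψ : G ⟶ Q} {n : N ⟶ G} {n' : N' ⟶ G}
    (h : AlgGrp.IsKernel n ψ) (h' : AlgGrp.IsKernel n' ψ) : ∃ e : N ≅ N', e.hom ≫ n' = n := by
  haveI := kernel_mono h; haveI := kernel_mono h'
  obtain ⟨a, ha⟩ := kernel_lift h' n (kernel_comp_eq_one h)
  obtain ⟨b, hb⟩ := kernel_lift h n' (kernel_comp_eq_one h')
  exact ⟨⟨a, b, by rw [← cancel_mono n, Category.assoc, hb, ha, Category.id_comp],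
    by rw [← cancel_mono n', Category.assoc, ha, hb, Category.id_comp]⟩, ha⟩

/-- A group covered flatly and surjectively, with open unit preimage, is étale. -/
theorem etale_finite_of_cover {k : Type u} [Field k] {N₀ N M : Over (Spec (CommRingCat.of k))} [GrpObj M]
    [LocallyOfFiniteType M.hom] [QuasiCompact M.hom] [IsFinite N.hom] (e : N₀ ⟶ N) [IsOpenImmersion e.left]
    [Nonempty N₀.left]
    (p : N ⟶ M) [Flat p.left] [Surjective p.left] [LocallyOfFinitePresentation p.left]
    (hp : e ≫ p = 1) : Etale M.hom ∧ IsFinite M.hom := by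
  haveI : IsNoetherianRing (CommRingCat.of k) := inferInstanceAs (IsNoetherianRing k)
  haveI : IsSeparated M.hom := PointsDense.isSeparated_grp M
  haveI : IsClosedImmersion (η[M]).left := (isSeparated_iff_isClosedImmersion_one M).mp ‹_›
  haveI : IsLocallyNoetherian M.left := LocallyOfFiniteType.isLocallyNoetherian M.hom
  haveI : Surjective N₀.hom := ⟨fun x => ⟨Classical.arbitrary _, Subsingleton.elim _ _⟩⟩
  haveI : Flat N₀.hom := inferInstance
  haveI : Flat ((toUnit N₀).left ≫ (η[M]).left) := by
    rw [← Over.comp_left, ← Hom.one_def, ← hp, Over.comp_left]; infer_instance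
  haveI : Flat (toUnit N₀).left := inferInstanceAs (Flat N₀.hom)
  haveI : Surjective (toUnit N₀).left := inferInstanceAs (Surjective N₀.hom)
  haveI : Flat (η[M]).left := H19Chev.flat_of_comp_faithfullyFlat (toUnit N₀).left _
  haveI : Mono (η[M]).left := inferInstance
  haveI : IsOpenImmersion (η[M]).left := IsOpenImmersion.of_flat_of_mono _
  haveI : FormallyUnramified M.hom := (formallyUnramified_iff_isOpenImmersion_one M).mpr inferInstance
  haveI : LocallyOfFinitePresentation M.hom := inferInstance
  haveI hM : Etale M.hom := Etale.of_formallyUnramified_of_flat _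
  haveI : UniversallyClosed (p.left ≫ M.hom) := by rw [Over.w p]; infer_instance
  haveI : UniversallyClosed M.hom := UniversallyClosed.of_comp_surjective p.left _
  haveI : IsProper M.hom := {}
  exact ⟨hM, IsFinite.of_isProper_of_locallyQuasiFinite _⟩


/-- Over a field k, every isogeny φ : G → H of k-group schemes of finite type (a surjective homomorphism
with finite kernel) factors as φ = χ ∘ ψ with ψ : G → Q a purely inseparable isogeny (its kernel is
connected) followed by a separable isogeny χ : Q → H (its kernel is etale over k). (The published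
definition of isogeny asks only for a finite kernel and an image of finite index in H; this row
takes φ surjective, which is the same notion when H is connected.) -/
theorem result (k : Type u) [Field k]
    (G H : Over (Spec (CommRingCat.of k))) [GrpObj G] [GrpObj H]
    [QuasiCompact G.hom] [LocallyOfFiniteType G.hom] [QuasiCompact H.hom] [LocallyOfFiniteType H.hom]
    (φ : G ⟶ H) [IsMonHom φ] (hφ : SGA7.IsIsogenyOver φ) :
    ∃ (Q : Over (Spec (CommRingCat.of k))) (_ : GrpObj Q) (ψ : G ⟶ Q) (χ : Q ⟶ H),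
      IsMonHom ψ ∧ IsMonHom χ ∧ ψ ≫ χ = φ ∧ SGA7.IsIsogenyOver ψ ∧ SGA7.IsIsogenyOver χ ∧
      (∀ (N : Over (Spec (CommRingCat.of k))) (n : N ⟶ G), AlgGrp.IsKernel n ψ → ConnectedSpace ↥N.left) ∧
      (∀ (N : Over (Spec (CommRingCat.of k))) (n : N ⟶ Q), AlgGrp.IsKernel n χ → Etale N.hom) := by
  haveI : IsNoetherianRing (CommRingCat.of k) := inferInstanceAs (IsNoetherianRing k)
  obtain ⟨hsurj, hfin⟩ := hφ
  obtain ⟨gN, hinc⟩ := H19Grp.KernelGrp.exists_grpObj φ
  let N := H19Grp.KernelGrp.ker φ
  let i : N ⟶ G := H19Grp.KernelGrp.incl φ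
  have hker : AlgGrp.IsKernel i φ := H19Grp.KernelGrp.isKernel φ
  haveI : IsFinite N.hom := hfin N i hker
  haveI : IsMonHom i := hinc
  haveI : Mono i := kernel_mono hker
  haveI : IsSeparated H.hom := PointsDense.isSeparated_grp H
  haveI : IsClosedImmersion (η[H]).left := (isSeparated_iff_isClosedImmersion_one H).mp ‹_›
  haveI : IsClosedImmersion i.left := inferInstanceAs (IsClosedImmersion (pullback.fst φ.left (η[H]).left))
  have hN : AlgGrp.IsNormalHom i := fun T g n => by
    obtain ⟨m, hm⟩ := kernel_lift hker (g * (n ≫ i) * g⁻¹) (by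
      rw [MonObj.mul_comp, MonObj.mul_comp, Category.assoc, kernel_comp_eq_one hker, MonObj.comp_one,
        _root_.mul_one, GrpObj.inv_comp, mul_inv_cancel])
    exact ⟨m, hm.symm⟩
  haveI : LocallyOfFiniteType N.hom := inferInstance
  obtain ⟨N₀, gN₀, e, he, hec, heo, hNc, hNl, hNq, -⟩ := H19Chev.exists_open_idComp N
  haveI := he; haveI := hec; haveI := heo; haveI := hNc; haveI := hNl; haveI := hNq
  have hn₀ := H19Chev.isNormalHom_idComp i hN e
  haveI : IsClosedImmersion (e ≫ i).left := by rw [Over.comp_left]; infer_instance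
  obtain ⟨Q, gQ, ψ, hψ, hQl, hQq, hψf, hψs, hψp, hk₀⟩ := H19Quot.exists_quotientGroup (e ≫ i) hn₀
  haveI := hψ; haveI := hQl; haveI := hQq; haveI := hψf; haveI := hψs; haveI := hψp
  obtain ⟨χ, hχ, -⟩ := H19Grp.QuotientDesc.existsUnique_desc ψ φ fun T a b hab => by
    obtain ⟨x, hx⟩ := kernel_lift hk₀ (a * b⁻¹) (by
      rw [MonObj.mul_comp, GrpObj.inv_comp, hab, mul_inv_cancel])
    have h1' : (a * b⁻¹) ≫ φ = 1 := by
      rw [← hx, Category.assoc, Category.assoc, kernel_comp_eq_one hker, MonObj.comp_one, MonObj.comp_one]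
    rwa [MonObj.mul_comp, GrpObj.inv_comp, mul_inv_eq_one] at h1'
  haveI : IsMonHom χ := by
    refine ⟨?_, ?_⟩
    · rw [← IsMonHom.one_hom (f := ψ), Category.assoc, hχ, IsMonHom.one_hom]
    · have := H19Grp.epi_tensorHom_of_fpqc ψ ψ
      rw [← cancel_epi (ψ ⊗ₘ ψ), ← IsMonHom.mul_hom_assoc, hχ, tensorHom_comp_tensorHom_assoc, hχ, IsMonHom.mul_hom]
  haveI : Surjective (ψ.left ≫ χ.left) := by rw [← Over.comp_left, hχ]; exact hsurj
  haveI : Surjective χ.left := Surjective.of_comp ψ.left χ.left
  haveI : IsFinite N₀.hom := by rw [← Over.w e]; infer_instance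
  have hkψ : ∀ (M : Over (Spec (CommRingCat.of k))) (m : M ⟶ G), AlgGrp.IsKernel m ψ →
      IsFinite M.hom ∧ ConnectedSpace M.left := by
    intro M m hm
    obtain ⟨ε, -⟩ := exists_iso_kernel hk₀ hm
    haveI : IsIso ε.hom.left := inferInstanceAs (IsIso ((Over.forget _).map ε.hom))
    refine ⟨by rw [← Over.w ε.inv]; infer_instance, ε.hom.left.surjective.connectedSpace ε.hom.left.continuous⟩
  obtain ⟨gM, hincM⟩ := H19Grp.KernelGrp.exists_grpObj χ
  let M := H19Grp.KernelGrp.ker χ
  let j : M ⟶ Q := H19Grp.KernelGrp.incl χ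
  have hkerM : AlgGrp.IsKernel j χ := H19Grp.KernelGrp.isKernel χ
  haveI : IsClosedImmersion j.left := inferInstanceAs (IsClosedImmersion (pullback.fst χ.left (η[H]).left))
  haveI : IsMonHom j := hincM
  haveI : Mono j := kernel_mono hkerM
  haveI : LocallyOfFiniteType M.hom := by rw [← Over.w j]; infer_instance
  haveI : QuasiCompact M.hom := by rw [← Over.w j]; infer_instance
  obtain ⟨p, hp⟩ := kernel_lift hkerM (i ≫ ψ) (by rw [Category.assoc, hχ, kernel_comp_eq_one hker])
  have sq : IsPullback i p ψ j := by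
    refine IsPullback.of_bot ?_ hp.symm hkerM
    rw [hχ, show p ≫ toUnit M = toUnit N from Subsingleton.elim _ _]
    exact hker
  haveI : Flat p.left := MorphismProperty.of_isPullback (sq.map (Over.forget _)) (inferInstanceAs (Flat ψ.left))
  haveI : Surjective p.left := MorphismProperty.of_isPullback (sq.map (Over.forget _)) (inferInstanceAs (Surjective ψ.left))
  haveI : LocallyOfFinitePresentation p.left :=
    MorphismProperty.of_isPullback (sq.map (Over.forget _)) (inferInstanceAs (LocallyOfFinitePresentation ψ.left))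
  haveI : Nonempty N₀.left := inferInstance
  have hep : e ≫ p = 1 := by
    rw [← cancel_mono j, Category.assoc, hp, ← Category.assoc, kernel_comp_eq_one hk₀, MonObj.one_comp]
  obtain ⟨hMe, hMf⟩ := etale_finite_of_cover e p hep
  have hkχ : ∀ (M' : Over (Spec (CommRingCat.of k))) (m : M' ⟶ Q), AlgGrp.IsKernel m χ →
      IsFinite M'.hom ∧ Etale M'.hom := by
    intro M' m hm
    obtain ⟨ε, -⟩ := exists_iso_kernel hkerM hm
    haveI : IsIso ε.inv.left := inferInstanceAs (IsIso ((Over.forget _).map ε.inv))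
    refine ⟨by rw [← Over.w ε.inv]; infer_instance, by rw [← Over.w ε.inv]; infer_instance⟩
  exact ⟨Q, gQ, ψ, χ, inferInstance, inferInstance, hχ, ⟨inferInstance, fun M m h => (hkψ M m h).1⟩,
    ⟨inferInstance, fun M m h => (hkχ M m h).1⟩, fun M m h => (hkψ M m h).2, fun M m h => (hkχ M m h).2⟩

end Groth.Agent.S14759
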