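import Groth.Statements.S1476
import Groth.Agent.H8Props.RegMor.Forms
-- import your own Groth.Agent.* helpers here

set_option autoImplicit false
universe u
open FlatMor

namespace Groth.Agent.S1476

open AlgebraicGeometry CategoryTheory Limits in
/-- Let Y' → Y be flat, locally of finite presentation and surjective and f' the base change of f : X →
Y. Then f has locally Noetherian fibres and is regular (affine-locally: regular ring maps) if and
only if the same holds for f'. -/
theorem result {X Y X' Y' : Scheme.{u}} (f : X ⟶ Y) (f' : X' ⟶ Y') (g' : X' ⟶ X) (g : Y' ⟶ Y) [Flat g] [LocallyOfFinitePresentation g] [Surjective g]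
    (hc : IsPullback g' f' f g) :
    ((∀ y : Y, IsLocallyNoetherian (f.fiber y)) ∧ (∀ (U : X.Opens) (V : Y.Opens) (hU : IsAffineOpen U) (hV : IsAffineOpen V) (hUV : U ≤ f ⁻¹ᵁ V),
        letI := (f.appLE V U hUV).hom.toAlgebra
        CAlg.IsRegularHom Γ(Y, V) Γ(X, U))) ↔
      ((∀ y' : Y', IsLocallyNoetherian (f'.fiber y')) ∧ (∀ (U : X'.Opens) (V : Y'.Opens) (hU : IsAffineOpen U) (hV : IsAffineOpen V) (hUV : U ≤ f' ⁻¹ᵁ V),
        letI := (f'.appLE V U hUV).hom.toAlgebra
        CAlg.IsRegularHom Γ(Y', V) Γ(X', U))) := by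
  constructor
  · rintro ⟨h1, h2⟩
    have h := (Groth.Agent.H8Props.RegMor.homProp_baseChange_iff Groth.Agent.H8Props.RegMor.goodProp_regular
      f f' g' g hc).mp ⟨h1, (Groth.Agent.H8Props.RegMor.forall_isRegularHom_iff f h1).mp h2⟩
    exact ⟨h.1, (Groth.Agent.H8Props.RegMor.forall_isRegularHom_iff f' h.1).mpr h.2⟩
  · rintro ⟨h1, h2⟩
    have h := (Groth.Agent.H8Props.RegMor.homProp_baseChange_iff Groth.Agent.H8Props.RegMor.goodProp_regular
      f f' g' g hc).mpr ⟨h1, (Groth.Agent.H8Props.RegMor.forall_isRegularHom_iff f' h1).mp h2⟩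
    exact ⟨h.1, (Groth.Agent.H8Props.RegMor.forall_isRegularHom_iff f h.1).mpr h.2⟩


end Groth.Agent.S1476
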