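import Groth.Statements.S14763
import Groth.Agent.H19Chev.AntiAffineImage
import Groth.Agent.H19Chev.Isogeny
import Groth.Agent.H19Grp.CommOrder

set_option autoImplicit false
set_option maxHeartbeats 1000000
set_option synthInstance.maxHeartbeats 100000
set_option linter.style.haveILetI false
set_option backward.isDefEq.respectTransparency false
universe u
open CategoryTheory CategoryTheory.Limits MonoidalCategory CartesianMonoidalCategory MonObj GrpObj AlgebraicGeometry
open AlgGrp

namespace Groth.Agent.S14763

open CategoryTheory.Limits MonObj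
open Groth.Agent Groth.Agent.H25AbCube Groth.Agent.H19Quot


/-- Over an algebraically closed field k let G be a commutative group variety (smooth connected
commutative k-group scheme of finite type) written as an extension 0 → L → G → A → 0 of an abelian
variety by its largest connected affine subgroup: i : L → G a smooth connected affine closed
subgroup scheme, kernel of a flat surjective homomorphism π : G → A onto an abelian variety A
(proper, smooth, connected). Then the following are equivalent: (a) for some d ≥ 1 there is a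
homomorphism s : A → G with π ∘ s equal to multiplication by d on A (the class of the extension is
killed by d: its pullback along multiplication by d splits); (b) there is an abelian subvariety A'
of G (a smooth connected proper closed subgroup scheme) with A' · L = G, that is, the multiplication
A' × L → G is surjective. (The published statement phrases (a) as the class of G having finite order
in the group of extension classes and (b) as G being isogenous to L × A; the published proof passes
through exactly the two conditions stated here.) -/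
theorem result (k : Type u) [Field k] [IsAlgClosed k]
    (G L A : Over (Spec (CommRingCat.of k))) [GrpObj G] [GrpObj L] [GrpObj A] [IsCommMonObj G]
    [Smooth G.hom] [QuasiCompact G.hom] [ConnectedSpace ↥G.left]
    (i : L ⟶ G) [IsMonHom i] [IsClosedImmersion i.left] [IsAffine L.left] [Smooth L.hom] [ConnectedSpace ↥L.left]
    (π : G ⟶ A) [IsMonHom π] [Flat π.left] [Surjective π.left] (hker : AlgGrp.IsKernel i π)
    [IsProper A.hom] [Smooth A.hom] [ConnectedSpace ↥A.left] :
    (∃ d : ℕ, 0 < d ∧ ∃ s : A ⟶ G, IsMonHom s ∧ s ≫ π = (𝟙 A) ^ d) ↔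
      (∃ (A' : Over (Spec (CommRingCat.of k))) (_ : GrpObj A') (j : A' ⟶ G), IsMonHom j ∧ IsClosedImmersion j.left ∧
        Smooth A'.hom ∧ ConnectedSpace ↥A'.left ∧ IsProper A'.hom ∧ Surjective ((j ⊗ₘ i) ≫ μ[G]).left) := by
  haveI : IsSeparated G.hom := H19Grp.AffineQuotient.isSeparated_of_grp G
  haveI := H19Chev.geometricallyIntegral_av A
  haveI : IsCommMonObj A := isCommMonObj_of_av
  constructor
  · rintro ⟨d, hd, s, hs, hsπ⟩
    haveI := hs
    obtain ⟨C, gC, p, iC, hp, hiC, hpi, hpf, hps, hpp, hiCc⟩ :=
      AbelianCat.exists_image s ⟨inferInstance, inferInstance⟩ ⟨inferInstance, inferInstance⟩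
    haveI := hp; haveI := hiC; haveI := hpf; haveI := hps; haveI := hpp; haveI := hiCc
    haveI : LocallyOfFiniteType C.hom := by rw [← Over.w iC]; infer_instance
    haveI : QuasiCompact C.hom := by rw [← Over.w iC]; infer_instance
    obtain ⟨hCs, hCc⟩ := H19Chev.smooth_connected_image p
    haveI := hCs; haveI := hCc
    haveI : IsProper C.hom := by
      haveI : IsSeparated C.hom := H19Grp.AffineQuotient.isSeparated_of_grp C
      haveI : UniversallyClosed (p.left ≫ C.hom) := by rw [Over.w p]; infer_instance
      haveI : UniversallyClosed C.hom := UniversallyClosed.of_comp_surjective p.left C.hom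
      exact {}
    refine ⟨C, gC, iC, hiC, hiCc, hCs, hCc, inferInstance, ?_⟩
    haveI : LocallyOfFiniteType (C ⊗ L).hom := by
      show LocallyOfFiniteType (pullback.fst C.hom L.hom ≫ C.hom); infer_instance
    haveI : QuasiCompact (C ⊗ L).hom := by
      show QuasiCompact (pullback.fst C.hom L.hom ≫ C.hom); infer_instance
    obtain ⟨h1, h2, h3⟩ := AbelianCat.props_hom ((iC ⊗ₘ i) ≫ μ[G]) ⟨inferInstance, inferInstance⟩
      ⟨inferInstance, inferInstance⟩
    haveI := h2; haveI := h3
    haveI := surjective_pow (A := A) hd
    refine H19Chev.surjective_of_pts _ fun g => ?_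
    obtain ⟨a, ha⟩ := H19Chev.exists_pt_lift ((𝟙 A) ^ d : A ⟶ A) (g ≫ π)
    obtain ⟨x, hx⟩ := H19Grp.kernel_lift hker ((a ≫ s)⁻¹ * g) (by
      rw [MonObj.mul_comp, GrpObj.inv_comp, Category.assoc, hsπ, ha, inv_mul_cancel])
    refine ⟨lift (a ≫ p) x, ?_⟩
    rw [← Category.assoc, lift_map, ← Hom.mul_def, hx, Category.assoc, hpi, mul_inv_cancel_left]
  · rintro ⟨A', gA', j, hj, hjc, hA's, hA'c, hA'p, hsurj⟩
    haveI := hj; haveI := hjc; haveI := hA's; haveI := hA'c; haveI := hA'p
    haveI := H19Chev.geometricallyIntegral_av A'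
    haveI : IsCommMonObj A' := isCommMonObj_of_av
    haveI : IsSeparated A.hom := inferInstance
    obtain ⟨-, -, hsφ, hfin⟩ := H19Chev.isogeny_of_affine_proper i π hker j hsurj
    let φ : A' ⟶ A := j ≫ π
    haveI : Surjective φ.left := hsφ
    haveI : QuasiCompact φ.left := (AbelianCat.props_hom φ ⟨inferInstance, inferInstance⟩ ⟨inferInstance, inferInstance⟩).2.1
    haveI : Flat φ.left := H19Grp.flat_of_surjective φ
    obtain ⟨h1, h2, h3⟩ := AbelianCat.props_hom φ ⟨inferInstance, inferInstance⟩ ⟨inferInstance, inferInstance⟩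
    haveI := h3
    obtain ⟨K, gK, κ, hκ, hκc, hkK⟩ := H19Grp.AffineQuotient.exists_kernel φ
    haveI := hκ; haveI := hκc
    haveI : IsFinite K.hom := hfin K κ hkK
    haveI : Mono κ := Over.mono_of_mono_left _
    haveI : IsCommMonObj K := AbelianCat.comm_of_mono κ
    haveI : IsNoetherianRing (CommRingCat.of k) := inferInstanceAs (IsNoetherianRing k)
    haveI : Flat K.hom := inferInstance
    let d := Scheme.Hom.finrank K.hom (IsLocalRing.closedPoint k)
    have hd : (𝟙 K : K ⟶ K) ^ d = 1 := H19Grp.CommOrder.id_pow_eq_one K d fun s => by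
      rw [Subsingleton.elim (α := PrimeSpectrum k) s (IsLocalRing.closedPoint k)]
    have hd0 : 0 < d := by
      have h := Scheme.Hom.one_le_finrank_map K.hom (η[K].left (IsLocalRing.closedPoint k))
      rwa [Subsingleton.elim (α := PrimeSpectrum k) (K.hom _) (IsLocalRing.closedPoint k)] at h
    let q : A' ⟶ A' := (𝟙 A') ^ d
    haveI : IsMonHom q := isMonHom_pow d
    obtain ⟨ψ, hψ, -⟩ := H19Grp.QuotientDesc.existsUnique_desc φ q fun T a b hab => by
      obtain ⟨x, hx⟩ := H19Grp.kernel_lift hkK (a * b⁻¹) (by
        rw [MonObj.mul_comp, GrpObj.inv_comp, hab, mul_inv_cancel])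
      have h1 : (a * b⁻¹) ≫ q = 1 := by
        have h := congrArg (fun f => x ≫ f ≫ κ) hd
        simp only [MonObj.pow_comp, MonObj.comp_pow, MonObj.one_comp, MonObj.comp_one, Category.id_comp, hx] at h
        rw [MonObj.comp_pow, Category.comp_id, h]
      rwa [MonObj.mul_comp, GrpObj.inv_comp, mul_inv_eq_one] at h1
    haveI : IsMonHom ψ := by
      refine ⟨?_, ?_⟩
      · rw [← IsMonHom.one_hom (f := φ), Category.assoc, hψ, IsMonHom.one_hom]
      · have := H19Grp.epi_tensorHom_of_fpqc φ φ
        rw [← cancel_epi (φ ⊗ₘ φ), ← IsMonHom.mul_hom_assoc, hψ, tensorHom_comp_tensorHom_assoc, hψ,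
          IsMonHom.mul_hom]
    haveI : Epi φ := ⟨fun {Z} u v huv =>
      (H19Grp.QuotientDesc.existsUnique_desc φ (φ ≫ u) fun T a b hab => by
        exact (Category.assoc a φ u).symm.trans ((congrArg (· ≫ u) hab).trans (Category.assoc b φ u))).unique rfl huv.symm⟩
    refine ⟨d, hd0, ψ ≫ j, inferInstance, ?_⟩
    rw [Category.assoc, ← cancel_epi φ, ← Category.assoc, hψ, MonObj.comp_pow, Category.comp_id, MonObj.pow_comp,
      Category.id_comp]

end Groth.Agent.S14763
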