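import Groth.Statements.S19517
import Groth.Agent.H19Grp.NormalPts

set_option autoImplicit false
set_option maxHeartbeats 1000000
set_option synthInstance.maxHeartbeats 100000
set_option linter.style.haveILetI false
set_option backward.isDefEq.respectTransparency false
universe u
open CategoryTheory CategoryTheory.Limits MonoidalCategory CartesianMonoidalCategory MonObj GrpObj AlgebraicGeometry
open AlgGrp

namespace Groth.Agent.S19517

/-- Linear part, the assertion on the kernel: over an algebraically closed field k let G be a smooth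
k-group scheme of finite type, j : K → G a closed normal subgroup scheme of finite type, i : G_lin →
G the largest smooth connected affine normal closed subgroup scheme of G and i_K : K_lin → K the
largest smooth connected affine normal closed subgroup scheme of K. Then K_lin is contained in
G_lin, and K_lin has finite index in K ∩ G_lin in the sense that K_lin and the fibre product K ×_G
G_lin have the same dimension (K_lin is the reduced identity component of K ∩ G_lin). (The published
proposition is stated for an exact sequence e → K → G → Q → e of arbitrary algebraic groups and also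
for unipotent and solvable parts; G is assumed smooth here, and only the linear part is stated.) -/
theorem result (k : Type u) [Field k] [IsAlgClosed k]
    (G : Over (Spec (CommRingCat.of k))) [GrpObj G] [Smooth G.hom] [QuasiCompact G.hom]
    (K : Over (Spec (CommRingCat.of k))) [GrpObj K] [QuasiCompact K.hom] [LocallyOfFiniteType K.hom]
    (j : K ⟶ G) [IsMonHom j] [IsClosedImmersion j.left] (hK : AlgGrp.IsNormalHom j)
    (N : Over (Spec (CommRingCat.of k))) [GrpObj N] (i : N ⟶ G) [IsMonHom i] [IsClosedImmersion i.left]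
    [Smooth N.hom] [ConnectedSpace ↥N.left] [IsAffine N.left] (hN : AlgGrp.IsNormalHom i)
    (hNmax : (∀ (N' : Over (Spec (CommRingCat.of k))) [GrpObj N'] (i' : N' ⟶ G) [IsMonHom i'] [IsClosedImmersion i'.left]
      [Smooth N'.hom] [ConnectedSpace ↥N'.left] [IsAffine N'.left], AlgGrp.IsNormalHom i' → ∃ f : N' ⟶ N, f ≫ i = i'))
    (NK : Over (Spec (CommRingCat.of k))) [GrpObj NK] (iK : NK ⟶ K) [IsMonHom iK] [IsClosedImmersion iK.left]
    [Smooth NK.hom] [ConnectedSpace ↥NK.left] [IsAffine NK.left] (hNK : AlgGrp.IsNormalHom iK)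
    (hNKmax : (∀ (N' : Over (Spec (CommRingCat.of k))) [GrpObj N'] (i' : N' ⟶ K) [IsMonHom i'] [IsClosedImmersion i'.left]
      [Smooth N'.hom] [ConnectedSpace ↥N'.left] [IsAffine N'.left], AlgGrp.IsNormalHom i' → ∃ f : N' ⟶ NK, f ≫ iK = i')) :
    (∃ g : NK ⟶ N, g ≫ i = iK ≫ j) ∧
      topologicalKrullDim ↥NK.left = topologicalKrullDim ↥(pullback j.left i.left) := by
  haveI : IsNoetherianRing (CommRingCat.of k) := inferInstanceAs (IsNoetherianRing k)
  haveI : Mono j := Over.mono_of_mono_left _
  haveI : Mono i := Over.mono_of_mono_left _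
  -- the maximal subgroup of `K` is normal in `G`
  haveI : IsClosedImmersion (iK ≫ j).left := by rw [Over.comp_left]; infer_instance
  have hNKG : AlgGrp.IsNormalHom (iK ≫ j) := by
    apply H19Grp.NormalPts.isNormalHom_of_pts
    intro g n
    obtain ⟨c, c', hc, hcc', hc'c, hcx⟩ := H19Grp.NormalPts.exists_conj j hK g
    haveI := hc
    haveI : IsIso c.left := ⟨c'.left, by rw [← Over.comp_left, hcc', Over.id_left], by rw [← Over.comp_left, hc'c, Over.id_left]⟩
    haveI : IsClosedImmersion (iK ≫ c).left := by rw [Over.comp_left]; infer_instance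
    obtain ⟨f, hf⟩ := hNKmax NK (iK ≫ c) (H19Grp.NormalPts.isNormalHom_conj iK hNK c c' hc'c)
    refine ⟨n ≫ f, ?_⟩
    have e := hcx (n ≫ iK)
    simp only [Category.assoc] at e ⊢
    rw [← e, reassoc_of% hf]
  obtain ⟨g, hg⟩ := hNmax NK (iK ≫ j) hNKG
  refine ⟨⟨g, hg⟩, ?_⟩
  -- the intersection
  let Kr : Over (Spec (CommRingCat.of k)) := Over.mk (pullback.fst j.left i.left ≫ K.hom)
  let a : Kr ⟶ K := Over.homMk (pullback.fst j.left i.left) rfl
  let b : Kr ⟶ N := Over.homMk (pullback.snd j.left i.left) (by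
    show pullback.snd j.left i.left ≫ N.hom = pullback.fst j.left i.left ≫ K.hom
    rw [← Over.w j, ← Over.w i, pullback.condition_assoc])
  have hab : a ≫ j = b ≫ i := Over.OverMorphism.ext pullback.condition
  haveI : IsClosedImmersion a.left := inferInstanceAs (IsClosedImmersion (pullback.fst j.left i.left))
  haveI : Mono a := Over.mono_of_mono_left _
  have hlift : ∀ {T : Over (Spec (CommRingCat.of k))} (x : T ⟶ K) (y : T ⟶ N), x ≫ j = y ≫ i →
      ∃ p : T ⟶ Kr, p ≫ a = x := fun x y hxy => ⟨Over.homMk (pullback.lift x.left y.left (congrArg (·.left) hxy))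
    (by show pullback.lift _ _ _ ≫ pullback.fst _ _ ≫ _ = _; rw [pullback.lift_fst_assoc]; exact Over.w x),
    Over.OverMorphism.ext (pullback.lift_fst _ _ _)⟩
  obtain ⟨e₀, he₀⟩ := hlift η[K] η[N] (by rw [IsMonHom.one_hom j, IsMonHom.one_hom i])
  obtain ⟨m₀, hm₀⟩ := hlift ((a ⊗ₘ a) ≫ μ[K]) ((b ⊗ₘ b) ≫ μ[N]) (by
    rw [Category.assoc, IsMonHom.mul_hom j, ← Category.assoc (a ⊗ₘ a), tensorHom_comp_tensorHom, hab,
      Category.assoc, IsMonHom.mul_hom i, ← Category.assoc (b ⊗ₘ b), tensorHom_comp_tensorHom])
  obtain ⟨i₀, hi₀⟩ := hlift (a ≫ ι[K]) (b ≫ ι[N]) (by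
    rw [Category.assoc, GrpObj.inv_hom j, ← Category.assoc, hab, Category.assoc, Category.assoc, GrpObj.inv_hom i])
  obtain ⟨gP, hgP⟩ := H19Grp.exists_grpObj_of_mono (G := K) a e₀ he₀ m₀ hm₀ i₀ hi₀
  haveI := hgP
  haveI : IsClosedImmersion (a ≫ j).left := by rw [Over.comp_left]; infer_instance
  have hPn : AlgGrp.IsNormalHom (a ≫ j) := fun T x p => by
    obtain ⟨y, hy⟩ := hK T x (p ≫ a)
    obtain ⟨y', hy'⟩ := hN T x (p ≫ b)
    have e : (p ≫ a) ≫ j = (p ≫ b) ≫ i := by rw [Category.assoc, hab, Category.assoc]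
    obtain ⟨q, hq⟩ := hlift y y' (by rw [← hy, ← hy', e])
    exact ⟨q, by rw [← Category.assoc q, hq, ← hy, Category.assoc]⟩
  obtain ⟨Z, gZ, z, hz, hzc, hZs, hZconn, hZn, hZd⟩ := H19Grp.NormalPts.exists_reduced_component (a ≫ j) hPn
  haveI := hz; haveI := hzc
  haveI : IsClosedImmersion (z ≫ a).left := by rw [Over.comp_left]; infer_instance
  haveI : IsAffine Z.left := by
    haveI : IsClosedImmersion b.left := inferInstanceAs (IsClosedImmersion (pullback.snd j.left i.left))
    haveI : IsAffine Kr.left := isAffine_of_isAffineHom b.left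
    exact isAffine_of_isAffineHom z.left
  obtain ⟨f, hf⟩ := hNKmax Z (z ≫ a) fun T x n => by
    obtain ⟨n', hn'⟩ := hZn T (x ≫ j) n
    refine ⟨n', ?_⟩
    rw [← cancel_mono j, MonObj.mul_comp, MonObj.mul_comp, GrpObj.inv_comp]
    simp only [Category.assoc] at hn' ⊢
    exact hn'
  obtain ⟨p, hp⟩ := hlift iK g hg.symm
  have h1 : topologicalKrullDim ↥NK.left ≤ topologicalKrullDim ↥Kr.left := by
    haveI : IsClosedImmersion (p.left ≫ a.left) := by rw [← Over.comp_left, hp]; infer_instance
    haveI : IsClosedImmersion p.left := IsClosedImmersion.of_comp p.left a.left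
    exact p.left.isEmbedding.isInducing.topologicalKrullDim_le
  have h2 : topologicalKrullDim ↥Z.left ≤ topologicalKrullDim ↥NK.left := by
    haveI : IsClosedImmersion (f.left ≫ iK.left) := by rw [← Over.comp_left, hf]; infer_instance
    haveI : IsClosedImmersion f.left := IsClosedImmersion.of_comp f.left iK.left
    exact f.left.isEmbedding.isInducing.topologicalKrullDim_le
  exact le_antisymm h1 (hZd ▸ h2)

end Groth.Agent.S19517
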