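import Groth.Statements.S14765
import Groth.Agent.H18Subtr.OverValuation
import Groth.Agent.H18HTop.SpecLiftDVR

set_option autoImplicit false
universe u
open CategoryTheory CategoryTheory.Limits AlgebraicGeometry
open Subtr

namespace Groth.Agent.S14765

/-- Let V be a valuation ring and f : X ⟶ Spec V any morphism of schemes. The following are equivalent:
(a) after every base change, every ordered pair of points of the target (a point and a
specialization of it) lifts to an ordered pair of points of the source; (b) every ordered pair of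
points of Spec V lifts to an ordered pair of points of X; (c) every point of Spec V is the image of
a point of X lying in the closure of the generic fibre; (d) the pair formed by the closed point and
the generic point of Spec V lifts to points x, x' of X with x a specialization of x'; (e) there are
a valuation ring W and a morphism Spec W ⟶ X whose composite with f is surjective; (f) there is a
closed subscheme Z of X such that Z ⟶ Spec V is flat and surjective. (The published list also
contains subtrusiveness and universal subtrusiveness, which add submersiveness for the constructible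
topology, and the lifting of arbitrary chains of points; this row omits those items and keeps the
lifting property alone in (a).) -/
theorem result (V : Type u) [CommRing V] [IsDomain V] [ValuationRing V]
    {X : Scheme.{u}} (f : X ⟶ Spec (CommRingCat.of V)) :
    List.TFAE [
      Subtr.UnivSSubtrusive f,
      Subtr.IsSSubtrusive f,
      ∀ y : Spec (CommRingCat.of V), ∃ x : X,
        x ∈ closure (f ⁻¹' {(⟨⊥, Ideal.isPrime_bot⟩ : PrimeSpectrum V)}) ∧ f x = y,
      ∃ x x' : X, x' ⤳ x ∧ f x = IsLocalRing.closedPoint V ∧
        f x' = (⟨⊥, Ideal.isPrime_bot⟩ : PrimeSpectrum V),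
      ∃ (W : Type u) (_ : CommRing W) (_ : IsDomain W) (_ : ValuationRing W)
        (g : Spec (CommRingCat.of W) ⟶ X), Surjective (g ≫ f),
      ∃ (Z : Scheme.{u}) (i : Z ⟶ X), IsClosedImmersion i ∧ Flat (i ≫ f) ∧ Surjective (i ≫ f)] := by
  tfae_have 1 → 2 := fun h => h _ _ _ (IsPullback.of_id_snd (f := f))
  tfae_have 2 → 3 := fun h y => by
    obtain ⟨x, x', hx, hxy, hx'⟩ := h (H18Subtr.bot_specializes y)
    exact ⟨x, hx.mem_closed isClosed_closure (subset_closure hx'), hxy⟩
  tfae_have 3 → 4 := fun h => by
    obtain ⟨x, hx, hxy⟩ := h (IsLocalRing.closedPoint V)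
    obtain ⟨x', hx', hx'y⟩ := H18Subtr.exists_specializes_of_mem_closure_fibre f _ hx
    exact ⟨x, x', hx', hxy, hx'y⟩
  tfae_have 4 → 5 := fun ⟨x, x', h, hx, hx'⟩ => H18Subtr.exists_valuation_surjective f h hx hx'
  tfae_have 5 → 4 := fun ⟨W, _, _, _, g, hg⟩ => by
    haveI := hg
    obtain ⟨h0, h1⟩ := H18HTop.map_bot_and_closed_of_surjective (g ≫ f)
    exact ⟨g (IsLocalRing.closedPoint W), g (⊥ : PrimeSpectrum W),
      (IsLocalRing.specializes_closedPoint _).map g.continuous,
      (Scheme.Hom.comp_apply _ _ _).symm.trans h1, (Scheme.Hom.comp_apply _ _ _).symm.trans h0⟩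
  tfae_have 4 → 6 := fun ⟨x, x', h, hx, hx'⟩ => H18Subtr.exists_closed_flat_surjective f h hx hx'
  tfae_have 6 → 1 := fun ⟨Z, i, _, hfl, hs⟩ => by
    haveI := hfl
    haveI := hs
    haveI : ∀ j, Flat ((PreZeroHypercover.singleton.{u} (i ≫ f)).f j) := fun _ => hfl
    have hZ : Subtr.UnivSSubtrusive (i ≫ f) := (H18Subtr.univSSubtrusive_iff_hasValLift.{u} _).2
      (H18HTop.hasValLift_of_flat _ fun y => ⟨PUnit.unit, (i ≫ f).surjective y⟩)
    rw [H18Subtr.univSSubtrusive_iff_exists_lift] at hZ ⊢
    intro V' _ _ _ g
    obtain ⟨W, i1, i2, i3, a, b, hb, hab⟩ := hZ V' g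
    exact ⟨W, i1, i2, i3, a ≫ i, b, hb, (Category.assoc _ _ _).trans hab⟩
  tfae_finish

end Groth.Agent.S14765
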