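import Groth.Statements.S14766
import Groth.Agent.H18Subtr.OverValuation

set_option autoImplicit false
universe u
open CategoryTheory CategoryTheory.Limits AlgebraicGeometry
open Subtr

namespace Groth.Agent.S14766

/-- Let V be a discrete valuation ring and f : X ⟶ Spec V any morphism of schemes. Then the underlying
continuous map of f is a quotient map (f is submersive) if and only if every ordered pair of points
of Spec V lifts to an ordered pair of points of X. -/
theorem result (V : Type u) [CommRing V] [IsDomain V]
    [IsDiscreteValuationRing V] {X : Scheme.{u}} (f : X ⟶ Spec (CommRingCat.of V)) :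
    Topology.IsQuotientMap f ↔ Subtr.IsSSubtrusive f := by
  have hcases : ∀ z : Spec (CommRingCat.of V), z = (⊥ : PrimeSpectrum V) ∨ z = IsLocalRing.closedPoint V := fun z => by
    rcases eq_or_ne (PrimeSpectrum.asIdeal z) ⊥ with hz | hz
    · exact Or.inl (PrimeSpectrum.ext hz)
    · exact Or.inr (PrimeSpectrum.ext (IsLocalRing.eq_maximalIdeal (Ideal.IsPrime.isMaximal inferInstance hz)))
  constructor
  · intro hq y y' hy
    rcases eq_or_ne y' y with rfl | hne
    · obtain ⟨x, hx⟩ := hq.surjective y'
      exact ⟨x, x, specializes_rfl, hx, hx⟩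
    have hy' : y' = (⊥ : PrimeSpectrum V) := (hcases y').resolve_right fun h => by
      rcases hcases y with h' | h'
      · refine hne (PrimeSpectrum.ext (le_antisymm ((PrimeSpectrum.le_iff_specializes y' y).2 hy) ?_))
        rw [h']; exact bot_le
      · exact hne (h.trans h'.symm)
    have hyc : y = IsLocalRing.closedPoint V := (hcases y).resolve_left fun h => hne (hy'.trans h.symm)
    have : ∃ x ∈ closure (f ⁻¹' {y'}), f x = y := by
      by_contra hcon
      push_neg at hcon
      have hcl : IsClosed (f ⁻¹' {y'}) := by
        refine isClosed_of_closure_subset fun x hx => ?_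
        rcases hcases (f x) with h | h
        · exact h.trans hy'.symm
        · exact absurd (h.trans hyc.symm) (hcon x hx)
      have := hy.mem_closed (hq.isClosed_preimage.1 hcl) rfl
      exact hne (Set.mem_singleton_iff.1 this).symm
    obtain ⟨x, hx, hxy⟩ := this
    obtain ⟨x', hx', hx'y⟩ := H18Subtr.exists_specializes_of_mem_closure_fibre f y' hx
    exact ⟨x, x', hx', hxy, hx'y⟩
  · intro hf
    refine Topology.isQuotientMap_iff_isClosed.2 ⟨fun y => ?_, fun A => ⟨fun h => h.preimage f.continuous, fun h => ?_⟩⟩
    · obtain ⟨x, _, _, hx, -⟩ := hf (specializes_rfl : y ⤳ y)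
      exact ⟨x, hx⟩
    by_cases h0 : ((⊥ : PrimeSpectrum V) : Spec (CommRingCat.of V)) ∈ A
    · have : A = Set.univ := Set.eq_univ_of_forall fun z => by
        obtain ⟨x, x', hx, hxz, hx0⟩ := hf (H18Subtr.bot_specializes z)
        have : x ∈ f ⁻¹' A := hx.mem_closed h (show f x' ∈ A from hx0 ▸ h0)
        exact hxz ▸ this
      exact this ▸ isClosed_univ
    · rcases A.eq_empty_or_nonempty with rfl | ⟨z, hz⟩
      · exact isClosed_empty
      have : A = {(IsLocalRing.closedPoint V : Spec (CommRingCat.of V))} := by
        refine Set.eq_singleton_iff_nonempty_unique_mem.2 ⟨⟨z, hz⟩, fun w hw => ?_⟩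
        exact (hcases w).resolve_left fun e => h0 (e ▸ hw)
      rw [this]
      exact (PrimeSpectrum.isClosed_singleton_iff_isMaximal _).2 (IsLocalRing.maximalIdeal.isMaximal V)

end Groth.Agent.S14766
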