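import Groth.Statements.S14767
import Groth.Agent.H18Subtr.OverValuation

set_option autoImplicit false
universe u
open CategoryTheory CategoryTheory.Limits AlgebraicGeometry
open Subtr

namespace Groth.Agent.S14767

/-- Let f : X ⟶ Y be a quasi-compact morphism of schemes. Then f is universally submersive if and only
if, for every valuation ring V and every morphism Spec V ⟶ Y, the base change X ×_Y Spec V ⟶ Spec V
is submersive (its underlying continuous map is a quotient map). (The published statement asks
instead that f be universally submersive for the constructible topologies, which holds for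
quasi-compact surjective morphisms; both sides here force f to be surjective.) -/
theorem result {X Y : Scheme.{u}} (f : X ⟶ Y) [QuasiCompact f] :
    SGA1.UnivSubmersive f ↔
      ∀ (V : Type u) [CommRing V] [IsDomain V] [ValuationRing V] (g : Spec (CommRingCat.of V) ⟶ Y),
        Topology.IsQuotientMap (pullback.snd f g) := by
  refine ⟨fun hf V _ _ _ g => hf _ _ _ (IsPullback.of_hasPullback f g).flip, fun h => ?_⟩
  have hsurj : ∀ y : Y, ∃ x, f x = y := fun y => by
    set_option backward.isDefEq.respectTransparency false in
    obtain ⟨a, ha⟩ := (h (Y.residueField y) (Y.fromSpecResidueField y)).surjective (IsLocalRing.closedPoint _)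
    refine ⟨pullback.fst f _ a, ?_⟩
    rw [← Scheme.Hom.comp_apply, pullback.condition, Scheme.Hom.comp_apply]
    exact Scheme.fromSpecResidueField_apply y _
  haveI : Surjective f := ⟨hsurj⟩
  intro X' Y' i₁ i₂ f' hP
  haveI : Surjective f' := MorphismProperty.of_isPullback (P := @Surjective) hP.flip ‹_›
  haveI : QuasiCompact f' := MorphismProperty.of_isPullback (P := @QuasiCompact) hP.flip ‹_›
  refine Topology.isQuotientMap_iff_isClosed.2 ⟨f'.surjective, fun A => ⟨fun hA => hA.preimage f'.continuous,
    fun hA => ?_⟩⟩
  have hst : ∀ z' z : Y', z' ⤳ z → z' ∈ A → z ∈ A := fun z' z hz hz' => by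
    obtain ⟨V, _, _, k, hk, hk'⟩ := H18HTop.exists_valuation_of_specializes hz
    have hq := h V (k ≫ i₂)
    let l : pullback f (k ≫ i₂) ⟶ X' :=
      hP.lift (pullback.snd f (k ≫ i₂) ≫ k) (pullback.fst f (k ≫ i₂)) (by rw [Category.assoc, pullback.condition])
    have hl : l ≫ f' = pullback.snd f (k ≫ i₂) ≫ k := hP.lift_fst _ _ _
    have hcl : IsClosed (k ⁻¹' A) := by
      refine hq.isClosed_preimage.1 ?_
      have e : pullback.snd f (k ≫ i₂) ⁻¹' (k ⁻¹' A) = l ⁻¹' (f' ⁻¹' A) := by
        ext a
        show k (pullback.snd f (k ≫ i₂) a) ∈ A ↔ f' (l a) ∈ A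
        rw [← Scheme.Hom.comp_apply, ← hl, Scheme.Hom.comp_apply]
      exact e ▸ hA.preimage l.continuous
    have := (IsLocalRing.specializes_closedPoint (⊥ : PrimeSpectrum V)).mem_closed hcl (show k _ ∈ A from hk.symm ▸ hz')
    exact hk' ▸ this
  refine isClosed_of_closure_subset fun y hy => ?_
  rw [← Set.image_preimage_eq A f'.surjective] at hy
  obtain ⟨x, hx, hxy⟩ := H06QFlat.exists_specializes_of_mem_closure_image f' hA hy
  exact hst _ _ hxy hx

end Groth.Agent.S14767
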