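import Groth.Statements.S14768
import Groth.Agent.H18Subtr.Basic

set_option autoImplicit false
universe u
open CategoryTheory CategoryTheory.Limits AlgebraicGeometry
open Subtr

namespace Groth.Agent.S14768

/-- Let f : X ⟶ Y be any morphism of schemes. Then every base change of f has the lifting property for
ordered pairs of points if and only if this holds for the base changes X ×_Y Spec V ⟶ Spec V along
all morphisms Spec V ⟶ Y with V a valuation ring. (The published statement is about universally
subtrusive morphisms and assumes f universally submersive for the constructible topologies; the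
lifting property alone descends from valuation rings with the same proof, and for quasi-compact f
the two statements agree.) -/
theorem result {X Y : Scheme.{u}} (f : X ⟶ Y) :
    Subtr.UnivSSubtrusive f ↔
      ∀ (V : Type u) [CommRing V] [IsDomain V] [ValuationRing V] (g : Spec (CommRingCat.of V) ⟶ Y),
        Subtr.IsSSubtrusive (pullback.snd f g) := by
  refine ⟨fun hf V _ _ _ g => H18Subtr.isSSubtrusive_pullback_snd hf g, fun h => ?_⟩
  rw [H18Subtr.univSSubtrusive_iff_hasValLift.{u} f]
  refine H18HTop.hasValLift_of_specializes _ fun V _ _ g => ?_
  obtain ⟨x, x', hx, hxc, hx0⟩ := h V g (IsLocalRing.specializes_closedPoint (⊥ : PrimeSpectrum V))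
  let e := pullbackSymmetry f g
  have he : e.hom ≫ pullback.fst g f = pullback.snd f g := pullbackSymmetry_hom_comp_fst f g
  exact ⟨PUnit.unit, e.hom x', e.hom x, hx.map e.hom.continuous,
    (Scheme.Hom.comp_apply _ _ _).symm.trans ((congrArg (fun q => q x') he).trans hx0),
    (Scheme.Hom.comp_apply _ _ _).symm.trans ((congrArg (fun q => q x) he).trans hxc)⟩

end Groth.Agent.S14768
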