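import Groth.Statements.S14770
import Groth.Agent.H18Subtr.OverValuation
import Groth.Agent.H18HTop.SpecLiftDVR
import Groth.Agent.S14766

set_option autoImplicit false
universe u
open CategoryTheory CategoryTheory.Limits AlgebraicGeometry
open Subtr

namespace Groth.Agent.S14770

/-- Let Y be a locally Noetherian scheme and f : X ⟶ Y a quasi-compact morphism. Then f is universally
submersive if and only if every base change of f has the lifting property for ordered pairs of
points. (The published statement assumes f universally submersive for the constructible topologies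
rather than quasi-compact; for quasi-compact morphisms both sides force surjectivity and that
condition follows.) -/
theorem result {X Y : Scheme.{u}}
    [IsLocallyNoetherian Y] (f : X ⟶ Y) [QuasiCompact f] :
    SGA1.UnivSubmersive f ↔ Subtr.UnivSSubtrusive f := by
  rw [H18Subtr.univSSubtrusive_iff_hasValLift.{u} f]
  haveI : ∀ i, QuasiCompact ((PreZeroHypercover.singleton.{u} f).f i) := fun _ => ‹QuasiCompact f›
  haveI : Finite (PreZeroHypercover.singleton.{u} f).I₀ := inferInstanceAs (Finite PUnit)
  refine ⟨fun hf => ?_, fun hf => (H18HTop.univSubmersive_iff_desc_singleton f).2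
    (H18HTop.univSubmersive_sigmaDesc _ (H18HTop.isVCover_singleton_of_hasValLift f hf))⟩
  refine H18HTop.hasValLift_of_liftsNoethSpecializations _ fun Y' _ g y y' h => ?_
  rcases eq_or_ne y' y with rfl | hne
  · obtain ⟨a, ha⟩ := (hf _ _ _ (IsPullback.of_hasPullback g f)).surjective y'
    exact ⟨PUnit.unit, a, a, specializes_rfl, ha, ha⟩
  obtain ⟨A, k, hA, hkc, hgen⟩ := H11Val.exists_dvr_hom_through (𝟙 Y') y y' h hne
  have hk0 : k (⊥ : PrimeSpectrum A) = y := by
    have e : Spec.map (CommRingCat.ofHom A.subtype) (IsLocalRing.closedPoint (Y'.residueField y)) =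
        (⊥ : PrimeSpectrum A) := by
      refine PrimeSpectrum.ext ?_
      show Ideal.comap A.subtype (IsLocalRing.maximalIdeal (Y'.residueField y)) = ⊥
      rw [IsLocalRing.maximalIdeal_eq_bot]
      exact Ideal.comap_bot_of_injective _ A.subtype_injective
    rw [← e, ← Scheme.Hom.comp_apply, hgen, Category.comp_id]
    exact Scheme.fromSpecResidueField_apply y _
  haveI := hA
  have hq : Topology.IsQuotientMap (pullback.fst (k ≫ g) f) := hf _ _ _ (IsPullback.of_hasPullback (k ≫ g) f)
  obtain ⟨b, a, hab, hb, ha⟩ := (S14766.result A (pullback.fst (k ≫ g) f)).1 hq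
    (show ((⊥ : PrimeSpectrum A) : Spec (CommRingCat.of A)) ⤳ (IsLocalRing.closedPoint A) from
      IsLocalRing.specializes_closedPoint _)
  let m : pullback (k ≫ g) f ⟶ pullback g f := pullback.lift (pullback.fst (k ≫ g) f ≫ k) (pullback.snd (k ≫ g) f)
    (by rw [Category.assoc, pullback.condition])
  refine ⟨PUnit.unit, m a, m b, hab.map m.continuous, ?_, ?_⟩
  · show pullback.fst g f (m a) = y
    rw [← Scheme.Hom.comp_apply, pullback.lift_fst, Scheme.Hom.comp_apply, ha, hk0]
  · show pullback.fst g f (m b) = y'
    rw [← Scheme.Hom.comp_apply, pullback.lift_fst, Scheme.Hom.comp_apply, hb, hkc]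

end Groth.Agent.S14770
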