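import Groth.Statements.S14773
import Groth.Agent.H15Subtr.EtCases
-- import your own Groth.Agent.* helpers here

set_option autoImplicit false
universe u
open CategoryTheory CategoryTheory.Limits AlgebraicGeometry
open Subtr

namespace Groth.Agent.S14773

/-- Let g : S' ⟶ S be proper, surjective and locally of finite presentation. Then every descent datum
relative to g whose underlying scheme is étale, separated and quasi-compact over S' is isomorphic to
the canonical descent datum of a scheme étale, separated and quasi-compact over S. (Descent data
relative to g are taken in functor-of-points form. The published setting takes S quasi-separated;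
the statement is local on S.) -/
theorem result {S' S : Scheme.{u}} (g : S' ⟶ S)
    [IsProper g] [Surjective g] [LocallyOfFinitePresentation g]
    (D : Desc.SchDD g) [QuasiCompact D.obj.hom] [IsSeparated D.obj.hom] [Etale D.obj.hom] :
    ∃ U : Over S, QuasiCompact U.hom ∧ IsSeparated U.hom ∧ Etale U.hom ∧ Nonempty ((Desc.toDD g).obj U ≅ D) := by
  have hg := Groth.Agent.H15Subtr.univSS_of_universallyClosed g
  obtain ⟨U, h1, h2, ⟨e⟩⟩ := Groth.Agent.H15Subtr.exists_effective_of_charts
    (Groth.Agent.H15Subtr.univSubmersive_of_univSS g hg) D (Groth.Agent.H15Subtr.hasCharts_fp hg D)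
  exact ⟨U, Groth.Agent.H15Subtr.quasiCompact_of_iso e, h1, h2, ⟨e⟩⟩

end Groth.Agent.S14773
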