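import Groth.Statements.S1478
import Groth.Agent.H17.OmegaStalk
import Groth.Agent.H8Props.FunDescent.Stalk

set_option autoImplicit false
universe u
open FlatMor

namespace Groth.Agent.S1478

open AlgebraicGeometry CategoryTheory Limits in
/-- For separated morphisms (where the sheaf of differentials is literally the conormal sheaf of the
closed diagonal): a separated morphism f : X → S is formally unramified if and only if Ω_{X/S}, the
conormal sheaf of the diagonal, is the zero O_X-module. -/
theorem result {X S : Scheme.{u}} (f : X ⟶ S) [IsSeparated f] :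
    FormallyUnramified f ↔ IsZero (Omega.sheaf f) := by
  refine ⟨fun hu => ?_, fun hz => ?_⟩
  · rw [IsZero.iff_id_eq_zero, H8Props.FunDescent.eq_zero_iff]
    intro x
    ext a
    obtain ⟨W, hxW, s, rfl⟩ := (Omega.sheaf f).presheaf.exists_germ_eq a
    obtain ⟨_, ⟨V, hV, rfl⟩, hxV, -⟩ :=
      S.isBasis_affineOpens.exists_subset_of_mem_open (Set.mem_univ (f x)) isOpen_univ
    obtain ⟨_, ⟨D, hD, rfl⟩, hxD, hle⟩ := X.isBasis_affineOpens.exists_subset_of_mem_open
      (show x ∈ (W ⊓ f ⁻¹ᵁ V : X.Opens) from ⟨hxW, hxV⟩) (W ⊓ f ⁻¹ᵁ V).isOpen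
    have hDW : D ≤ W := fun y hy => (hle hy).1
    have hDV : D ≤ f ⁻¹ᵁ V := fun y hy => (hle hy).2
    have hsub := H17.OmegaStalk.subsingleton_sections_of_formallyUnramified f hD hV hDV
      (f.formallyUnramified_appLE hV hD hDV)
    have h0 : (Omega.sheaf f).presheaf.map (homOfLE hDW).op s = 0 := Subsingleton.elim _ _
    rw [← TopCat.Presheaf.germ_res_apply (Omega.sheaf f).presheaf (homOfLE hDW) x hxD s, h0,
      map_zero, map_zero, LinearMap.zero_apply]
  · refine ⟨fun {V} hV {U} hU e => ?_⟩
    algebraize [(f.appLE V U e).hom]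
    show Algebra.FormallyUnramified Γ(S, V) Γ(X, U)
    rw [Algebra.formallyUnramified_iff]
    have := H17.OmegaLocal.isIso_toSect f hU hV e
    have hbij := (ConcreteCategory.isIso_iff_bijective (OmAff.toSect f V U e)).mp this
    have hid : ∀ z : Γ(Omega.sheaf f, U), z = 0 := fun z =>
      congr($((IsZero.iff_id_eq_zero _).mp hz).app U z)
    exact ⟨fun a b => hbij.1 ((hid _).trans (hid _).symm)⟩

end Groth.Agent.S1478
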