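import Groth.Statements.S14780
import Groth.Agent.H15Subtr.UnivOpenDescend

set_option autoImplicit false
universe u
open CategoryTheory CategoryTheory.Limits AlgebraicGeometry
open Subtr

namespace Groth.Agent.S14780

/-- Let Y be a scheme that is affine or Noetherian and f : X ⟶ Y a universally open surjective morphism
of finite presentation. Then there are a scheme Y', a proper surjective morphism q : Y' ⟶ Y of
finite presentation, a scheme X' and a surjective closed immersion r : X' ⟶ X ×_Y Y' (a
nil-immersion) such that the composite X' ⟶ X ×_Y Y' ⟶ Y' is flat, surjective and of finite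
presentation. -/
theorem result {X Y : Scheme.{u}}
    (f : X ⟶ Y) (hY : IsAffine Y ∨ IsNoetherian Y) [LocallyOfFinitePresentation f] [QuasiCompact f] [QuasiSeparated f]
    [UniversallyOpen f] [Surjective f] :
    ∃ (Y' : Scheme.{u}) (q : Y' ⟶ Y) (X' : Scheme.{u}) (r : X' ⟶ pullback f q),
      IsProper q ∧ Surjective q ∧ LocallyOfFinitePresentation q ∧
      IsClosedImmersion r ∧ Surjective r ∧
      Flat (r ≫ pullback.snd f q) ∧ Surjective (r ≫ pullback.snd f q) ∧
      LocallyOfFinitePresentation (r ≫ pullback.snd f q) ∧ QuasiCompact (r ≫ pullback.snd f q) ∧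
      QuasiSeparated (r ≫ pullback.snd f q) := by
  obtain ⟨_, _⟩ := Groth.Agent.H15Subtr.quasiSeparatedSpace_of_affine_or_noetherian hY
  obtain ⟨κ, _, W, q, hq, hsurj, hn⟩ := Groth.Agent.H15Subtr.exists_nilFlat_family f hY
  haveI : Finite (ULift.{u} κ) := inferInstance
  obtain ⟨Y', qq, X', r, h1, h2, h3, h4, h5, h6, h7, h8, h9, h10⟩ :=
    Groth.Agent.H15Subtr.exists_single_cover f (κ := ULift.{u} κ) (fun k => q k.down) (fun k => hq k.down)
      (fun y => let ⟨k, z, hz⟩ := hsurj y; ⟨⟨k⟩, z, hz⟩) fun k => hn k.down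
  exact ⟨Y', qq, X', r, h1, h2, h3, h4, h5, h6, h7 ‹_›, h8, h9, h10⟩

end Groth.Agent.S14780
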