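import Groth.Statements.S14783
import Groth.Agent.H18Subtr.LocClosed

set_option autoImplicit false
universe u
open CategoryTheory CategoryTheory.Limits AlgebraicGeometry
open Subtr

namespace Groth.Agent.S14783

/-- Let f : S' ⟶ S be a quasi-compact morphism of schemes every base change of which has the lifting
property for ordered pairs of points, and E ⊆ S any subset. For E to be both locally closed and
retrocompact it is necessary and sufficient that f⁻¹(E) be both. -/
theorem result {S' S : Scheme.{u}} (f : S' ⟶ S)
    [QuasiCompact f] (hf : Subtr.UnivSSubtrusive f) (E : Set S) :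
    (IsLocallyClosed E ∧ IsRetrocompact E) ↔
      (IsLocallyClosed (f ⁻¹' E) ∧ IsRetrocompact (f ⁻¹' E)) := by
  have hsurj : Function.Surjective f := fun y => by
    obtain ⟨x, _, -, hx, -⟩ := hf _ _ _ (IsPullback.of_id_snd (f := f)) (specializes_rfl : y ⤳ y)
    exact ⟨x, hx⟩
  haveI : Surjective f := ⟨hsurj⟩
  exact ⟨fun ⟨hl, hr⟩ => ⟨hl.preimage f.continuous, H18Subtr.isRetrocompact_preimage f hl hr⟩,
    fun ⟨hl, hr⟩ => ⟨H18Subtr.isLocallyClosed_of_preimage f hf hl hr, H18Subtr.isRetrocompact_of_preimage f hr⟩⟩

end Groth.Agent.S14783
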