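import Groth.Statements.S14784
import Groth.Agent.H15Subtr.Refine
import Mathlib.Topology.LocalAtTarget

set_option autoImplicit false
universe u
open CategoryTheory CategoryTheory.Limits AlgebraicGeometry
open Subtr

namespace Groth.Agent.S14784

theorem of_open_surjective {A B : Type*} [TopologicalSpace A] [TopologicalSpace B] {g : A → B}
    (hc : Continuous g) (ho : IsOpenMap g) (hs : Function.Surjective g) {E : Set B}
    (h : IsLocallyClosed (g ⁻¹' E)) : IsLocallyClosed E := by
  rw [isLocallyClosed_iff_isOpen_coborder] at h ⊢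
  rw [coborder_preimage ho hc] at h
  exact (ho.isQuotientMap hc hs).isOpen_preimage.1 h

theorem of_closed_surjective {A B : Type*} [TopologicalSpace A] [TopologicalSpace B] {g : A → B}
    (hc : Continuous g) (hg : IsClosedMap g) (hs : Function.Surjective g) {E : Set B}
    (h : IsLocallyClosed (g ⁻¹' E)) : IsLocallyClosed E := by
  rw [isLocallyClosed_iff_isOpen_coborder, coborder, isOpen_compl_iff] at h ⊢
  have key : g '' (closure (g ⁻¹' E) \ g ⁻¹' E) = closure E \ E := by
    refine Set.Subset.antisymm ?_ ?_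
    · rintro _ ⟨a, ⟨ha, haE⟩, rfl⟩
      exact ⟨hc.closure_preimage_subset E ha, haE⟩
    · rintro b ⟨hb, hbE⟩
      have : closure E ⊆ g '' closure (g ⁻¹' E) :=
        closure_minimal (fun e he => by
          obtain ⟨a, rfl⟩ := hs e
          exact ⟨a, subset_closure he, rfl⟩) (hg _ isClosed_closure)
      obtain ⟨a, ha, rfl⟩ := this hb
      exact ⟨a, ⟨ha, hbE⟩, rfl⟩
  rw [← key]
  exact hg _ h

/-- Let f : S' ⟶ S be a morphism of schemes of finite presentation every base change of which has the
lifting property for ordered pairs of points, and E ⊆ S a subset. Then E is locally closed if and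
only if f⁻¹(E) is locally closed. (The published statement is for algebraic spaces; this row is the
case of schemes.) -/
theorem result {S' S : Scheme.{u}} (f : S' ⟶ S)
    [LocallyOfFinitePresentation f] [QuasiCompact f] [QuasiSeparated f]
    (hf : Subtr.UnivSSubtrusive f) (E : Set S) :
    IsLocallyClosed E ↔ IsLocallyClosed (f ⁻¹' E) := by
  refine ⟨fun h => h.preimage f.continuous, fun h => ?_⟩
  rw [(TopologicalSpace.IsOpenCover.mk (iSup_affineOpens_eq_top S)).isLocallyClosed_iff_coe_preimage]
  intro U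
  haveI : IsAffine (U.1 : Scheme.{u}) := U.2
  haveI : Subtr.UnivSSubtrusive.{u}.IsStableUnderBaseChange := by
    exact MorphismProperty.universally_isStableUnderBaseChange _
  have hfU : Subtr.UnivSSubtrusive (f ∣_ U.1) :=
    MorphismProperty.of_isPullback (P := Subtr.UnivSSubtrusive) (isPullback_morphismRestrict f U.1).flip hf
  obtain ⟨X', Y', m, p, q, e, hp, -, -, hfl, hlfp, -, ⟨hq, -⟩, hqs⟩ :=
    Groth.Agent.H15Subtr.exists_refinement_proper (f ∣_ U.1) hfU
  have h1 : IsLocallyClosed ((m ≫ (f ⁻¹ᵁ U.1).ι) ⁻¹' (f ⁻¹' E)) := h.preimage (Scheme.Hom.continuous _)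
  have h2 : (m ≫ (f ⁻¹ᵁ U.1).ι) ⁻¹' (f ⁻¹' E) = p ⁻¹' (q ⁻¹' (Subtype.val ⁻¹' E)) := by
    ext x
    show f ((m ≫ (f ⁻¹ᵁ U.1).ι) x) ∈ E ↔ U.1.ι (q (p x)) ∈ E
    rw [← Scheme.Hom.comp_apply, Category.assoc, ← morphismRestrict_ι, ← Category.assoc, e,
      Scheme.Hom.comp_apply, Scheme.Hom.comp_apply]
  rw [h2] at h1
  exact of_closed_surjective q.continuous q.isClosedMap q.surjective
    (of_open_surjective p.continuous p.isOpenMap p.surjective h1)

end Groth.Agent.S14784
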