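import Groth.Statements.S14788
import Groth.Agent.H18Subtr.Basic
import Groth.Agent.H7Lim.ProCons
import Groth.Agent.H28Top.Spectral

set_option autoImplicit false
universe u
open CategoryTheory CategoryTheory.Limits AlgebraicGeometry
open Subtr

namespace Groth.Agent.S14788

/-- (i) ⇔ (iv): a morphism of schemes f : X ⟶ Y has the lifting property for ordered pairs of points if
and only if, for every pro-constructible subset Z ⊆ Y, the image under f of the closure of f⁻¹(Z) is
the closure of Z. (In the published item (iv) the right-hand side is printed as Z itself; the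
closure is meant, as the case of a non-closed point shows and as the proof uses.) -/
theorem result {X Y : Scheme.{u}} (f : X ⟶ Y) :
    Subtr.IsSSubtrusive f ↔
      ∀ Z : Set Y, ProCons.IsProConstructible Z → f '' closure (f ⁻¹' Z) = closure Z := by
  constructor
  · intro hf Z hZ
    refine Set.Subset.antisymm ((image_closure_subset_closure_image f.continuous).trans
      (closure_mono (Set.image_preimage_subset _ _))) fun y hy => ?_
    obtain ⟨_, ⟨(U : Y.Opens), hU, rfl⟩, hyU, -⟩ :=
      Y.isBasis_affineOpens.exists_subset_of_mem_open (Set.mem_univ y) isOpen_univ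
    replace hU : IsAffineOpen U := hU
    haveI : IsAffine (U : Scheme.{u}) := hU
    have hcl := H7Lim.isClosed_constr_preimage hZ U.ι
    have hy' : (⟨y, hyU⟩ : (U : Scheme.{u})) ∈ closure (U.ι ⁻¹' Z) := by
      rw [← U.ι.isOpenEmbedding.isOpenMap.preimage_closure_eq_closure_preimage U.ι.continuous]
      exact hy
    haveI : SpectralSpace (U : Scheme.{u}) := {}
    obtain ⟨e, he, hey⟩ := H28Top.exists_specializes_of_mem_closure hcl hy'
    obtain ⟨x, x', hx, hxy, hx'⟩ := hf (hey.map U.ι.continuous)
    refine ⟨x, hx.mem_closed isClosed_closure (subset_closure ?_), hxy⟩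
    show f x' ∈ Z
    rw [hx']
    exact he
  · intro h y y' hy
    obtain ⟨x, hx, hxy⟩ := (h {y'} (H18Subtr.isProConstructible_singleton y')).ge hy.mem_closure
    obtain ⟨x', hx', hx'y⟩ := H18Subtr.exists_specializes_of_mem_closure_fibre f y' hx
    exact ⟨x, x', hx', hxy, hx'y⟩

end Groth.Agent.S14788
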