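import Groth.Statements.S14789
import Groth.Agent.H18Subtr.Basic
import Mathlib.Topology.Sober

set_option autoImplicit false
universe u
open CategoryTheory CategoryTheory.Limits AlgebraicGeometry
open Subtr

namespace Groth.Agent.S14789

/-- Let f : X ⟶ Y be a morphism of schemes with the lifting property for ordered pairs of points, and U
⊆ Y a subset containing every maximal point of Y (every point all of whose generizations are equal
to it). Then the closure of f⁻¹(U) maps onto Y. -/
theorem result {X Y : Scheme.{u}} (f : X ⟶ Y)
    (hf : Subtr.IsSSubtrusive f) (U : Set Y) (hU : ∀ y : Y, (∀ y' : Y, y' ⤳ y → y' = y) → y ∈ U) :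
    f '' closure (f ⁻¹' U) = Set.univ := by
  refine Set.eq_univ_of_forall fun y => ?_
  let C := irreducibleComponent (X := Y) y
  have hC : IsIrreducible C := isIrreducible_irreducibleComponent
  let η := hC.genericPoint
  have hη : closure ({η} : Set Y) = C := hC.isGenericPoint_genericPoint isClosed_irreducibleComponent
  have hηy : η ⤳ y := specializes_iff_mem_closure.2 (hη ▸ mem_irreducibleComponent)
  have hmax : η ∈ U := hU η fun z hz => by
    have h1 : C ⊆ closure {z} := hη ▸ closure_minimal (Set.singleton_subset_iff.2 hz.mem_closure) isClosed_closure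
    have h2 : closure ({z} : Set Y) ⊆ C :=
      ((irreducibleComponent_property y).2.2 _ isIrreducible_singleton.closure.2 h1).le
    refine Inseparable.eq (hz.antisymm (specializes_iff_mem_closure.2 ?_))
    exact hη.symm ▸ h2 (subset_closure rfl)
  obtain ⟨x, x', hx, hxy, hx'⟩ := hf hηy
  exact ⟨x, hx.mem_closed isClosed_closure (subset_closure (show f x' ∈ U from hx'.symm ▸ hmax)), hxy⟩

end Groth.Agent.S14789
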