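import Groth.Statements.S14791
import Groth.Agent.H15Subtr.LimitPairs

set_option autoImplicit false
universe u
open CategoryTheory CategoryTheory.Limits AlgebraicGeometry
open Subtr

namespace Groth.Agent.S14791

/-- Let S = lim S_i be a cofiltered limit of schemes with affine transition morphisms, Y₀ a scheme over
a stage S_{i₀}, f₀ : X₀ ⟶ Y₀ a quasi-compact morphism, and write f_i, f for the base changes of f₀
to the stages S_i and to S (realised as second projections of fibre products). If there is a stage
S_{i₁} such that f_i has the lifting property for ordered pairs of points for every stage S_i over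
S_{i₁}, then f has it. (The published statement is about subtrusive morphisms and assumes f a
quotient map for the constructible topologies; this row keeps only the lifting property and assumes
f₀ quasi-compact, which makes the fibres quasi-compact as the filtered-intersection step of the
argument requires.) -/
theorem result {I : Type u} [SmallCategory I] [IsCofiltered I]
    (D : I ⥤ Scheme.{u}) (c : Limits.Cone D) (hc : Limits.IsLimit c)
    [∀ (i j : I) (a : i ⟶ j), IsAffineHom (D.map a)] (i₀ : I)
    {X₀ Y₀ : Scheme.{u}} (f₀ : X₀ ⟶ Y₀) (g₀ : Y₀ ⟶ D.obj i₀) [QuasiCompact f₀]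
    (h : ∃ (i₁ : I) (ψ : i₁ ⟶ i₀), ∀ (i : I) (φ : i ⟶ i₁),
      Subtr.IsSSubtrusive (pullback.snd f₀ (pullback.fst g₀ (D.map (φ ≫ ψ))))) :
    Subtr.IsSSubtrusive (pullback.snd f₀ (pullback.fst g₀ (c.π.app i₀))) := by
  obtain ⟨i₁, ψ, h⟩ := h
  exact Groth.Agent.H15Subtr.isSSubtrusive_of_stages D c hc i₀ f₀ g₀ ψ h

end Groth.Agent.S14791
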