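import Groth.Statements.S14792
import Groth.Agent.H15Subtr.Descend
import Groth.Agent.H7Lim.FPDescent.Noetherian
import Groth.Agent.S14770

set_option autoImplicit false
set_option linter.style.haveILetI false
set_option backward.isDefEq.respectTransparency false
universe u
open CategoryTheory CategoryTheory.Limits AlgebraicGeometry Opposite
open Subtr

namespace Groth.Agent.S14792

/-- (i) ⇔ (iii): let A be a commutative ring and f : X ⟶ Spec A a morphism of finite presentation. Then
every base change of f has the lifting property for ordered pairs of points if and only if there are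
a finitely generated subring A₀ ⊆ A, a scheme X₀ and a universally submersive morphism f₀ : X₀ ⟶
Spec A₀ of finite presentation such that f is the base change of f₀ along Spec A ⟶ Spec A₀. -/
theorem result (A : Type u) [CommRing A]
    {X : Scheme.{u}} (f : X ⟶ Spec (CommRingCat.of A))
    [LocallyOfFinitePresentation f] [QuasiCompact f] [QuasiSeparated f] :
    Subtr.UnivSSubtrusive f ↔
      ∃ (A₀ : Subalgebra ℤ A) (_ : A₀.FG) (X₀ : Scheme.{u}) (f₀ : X₀ ⟶ Spec (CommRingCat.of A₀))
        (q : X ⟶ X₀), IsPullback q f f₀ (Spec.map (CommRingCat.ofHom A₀.val.toRingHom)) ∧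
        LocallyOfFinitePresentation f₀ ∧ QuasiCompact f₀ ∧ QuasiSeparated f₀ ∧
        SGA1.UnivSubmersive f₀ := by
  open Groth.Agent.H7Lim Groth.Agent.H7Lim.FPDescent in
  constructor
  · intro hf
    let c : Cone ((subringFunctor A).op ⋙ Scheme.Spec) := Scheme.Spec.mapCone (subringCocone A).op
    have hc : IsLimit c := isLimitOfPreserves Scheme.Spec (subringIsColimit A).op
    haveI : ∀ (i j : (Finset A)ᵒᵖ) (φ : i ⟶ j), IsAffineHom (((subringFunctor A).op ⋙ Scheme.Spec).map φ) :=
      fun i j φ => inferInstanceAs (IsAffineHom (Spec.map _))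
    haveI : ∀ i, IsAffine (((subringFunctor A).op ⋙ Scheme.Spec).obj i) := fun i =>
      inferInstanceAs (IsAffine (Spec _))
    haveI : ∀ i, CompactSpace (((subringFunctor A).op ⋙ Scheme.Spec).obj i) := fun i =>
      inferInstanceAs (CompactSpace ↥(Spec _))
    haveI : ∀ i, QuasiSeparatedSpace (((subringFunctor A).op ⋙ Scheme.Spec).obj i) := fun i =>
      inferInstanceAs (QuasiSeparatedSpace ↥(Spec _))
    haveI : Nonempty (Finset A) := ⟨∅⟩
    obtain ⟨i, ⟨M⟩⟩ := exists_model hc (X := X) f
    haveI := M.compactSpace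
    haveI := M.quasiSeparatedSpace
    have hP : Subtr.UnivSSubtrusive (pullback.snd M.p (c.π.app i)) := by
      rw [← M.hpb.isoPullback_inv_snd, MorphismProperty.cancel_left_of_respectsIso (P := Subtr.UnivSSubtrusive)]
      exact hf
    obtain ⟨j, φ, hj⟩ := Groth.Agent.H15Subtr.descendsAffine_univSS _ _ c hc i M.p M.lfp hP
    let N := M.shift φ
    have hN : Subtr.UnivSSubtrusive N.p := hj
    haveI := N.compactSpace
    haveI := N.quasiSeparatedSpace
    haveI := N.lfp
    haveI : IsNoetherianRing (Algebra.adjoin ℤ ((unop j : Finset A) : Set A)) := by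
      haveI := (Algebra.adjoin ℤ ((unop j : Finset A) : Set A)).fg_iff_finiteType.1 ⟨unop j, rfl⟩
      exact Algebra.FiniteType.isNoetherianRing ℤ _
    let f₀ : N.P ⟶ Spec (CommRingCat.of (Algebra.adjoin ℤ ((unop j : Finset A) : Set A))) := N.p
    haveI : QuasiCompact f₀ := quasiCompact_of_compactSpace f₀
    refine ⟨Algebra.adjoin ℤ ((unop j : Finset A) : Set A), ⟨unop j, rfl⟩, N.P, f₀, N.g, N.hpb, N.lfp,
      inferInstance, (quasiSeparated_iff_quasiSeparatedSpace f₀).2 inferInstance, ?_⟩
    exact (Groth.Agent.S14770.result f₀).2 hN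
  · rintro ⟨A₀, hfg, X₀, f₀, q, hq, _, _, _, hf₀⟩
    haveI : IsNoetherianRing A₀ := by
      haveI := A₀.fg_iff_finiteType.1 hfg
      exact Algebra.FiniteType.isNoetherianRing ℤ _
    exact MorphismProperty.of_isPullback (P := Subtr.UnivSSubtrusive) hq
      ((Groth.Agent.S14770.result f₀).1 hf₀)

end Groth.Agent.S14792
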