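import Groth.Statements.S14793
import Groth.Agent.H15Subtr.Stable
import Groth.Agent.H15Subtr.GenericFlat
import Groth.Agent.S1273
import Groth.Agent.H7Flat.Flatten.Strict
import Groth.Agent.H29Blow.MaxPoints
import Groth.Agent.H26Blow.Proper

set_option autoImplicit false
set_option linter.style.haveILetI false
set_option backward.isDefEq.respectTransparency false
universe u
open Subtr

namespace Groth.Agent.S14793

open AlgebraicGeometry CategoryTheory Limits in
/-- Let Y be a reduced, quasi-compact and quasi-separated scheme whose set of maximal points is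
quasi-compact (for instance Y Noetherian), and f : X ⟶ Y a morphism of finite presentation every
base change of which has the lifting property for ordered pairs of points. Then there are a dense
quasi-compact open U ⊆ Y, an ideal sheaf 𝓘 admissible for U (of finite type, cosupported off U) and
a blow-up b : Y' ⟶ Y of Y in 𝓘, with b surjective, such that the strict transform X'' of X (the
closed subscheme of X' = X ×_Y Y' whose ideal consists, on each affine open, of the functions
annihilated by a power of the pulled-back exceptional ideal) is flat, surjective and of finite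
presentation over Y'. -/
theorem result {X Y : Scheme.{u}} [IsReduced Y] [CompactSpace Y]
    [QuasiSeparatedSpace Y] (hgen : IsCompact {y : Y | ∀ y' : Y, y' ⤳ y → y' = y})
    (f : X ⟶ Y) [LocallyOfFinitePresentation f] [QuasiCompact f] [QuasiSeparated f]
    (hf : Subtr.UnivSSubtrusive f) :
    ∃ (U : Y.Opens) (𝓘 : Y.IdealSheafData) (Y' : Scheme.{u}) (b : Y' ⟶ Y),
      Dense (U : Set Y) ∧ IsCompact (U : Set Y) ∧ BlowUp.IsBlowUp b 𝓘 ∧ BlowUp.IsAdmissibleFor U 𝓘 ∧
      Surjective b ∧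
      ∀ (X' : Scheme.{u}) (p₁ : X' ⟶ X) (p₂ : X' ⟶ Y'), IsPullback p₁ p₂ f b →
      ∀ (𝒥 : X'.IdealSheafData),
        (∀ (V : X'.affineOpens) (a : Γ(X', V.1)), a ∈ 𝒥.ideal V ↔
          BlowUp.KilledByPowerNear ((𝓘.comap f).comap p₁) (Coh.structureModule X') V a) →
        Flat (𝒥.subschemeι ≫ p₂) ∧ Surjective (𝒥.subschemeι ≫ p₂) ∧
          LocallyOfFinitePresentation (𝒥.subschemeι ≫ p₂) ∧
          QuasiCompact (𝒥.subschemeι ≫ p₂) ∧ QuasiSeparated (𝒥.subschemeι ≫ p₂) := by
  open Groth.Agent in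
  obtain ⟨U, hUmax, hUc, hUf⟩ := H15Subtr.exists_flat_open_maxPoints hgen f
  haveI := hUf
  haveI : LocallyOfFinitePresentation (f ∣_ U) := inferInstance
  obtain ⟨𝓘, Y', b, hb, hadm, hflat⟩ := S1273.result f U hUc
  haveI : IsProper b := H26Blow.isProper_of_isBlowUp hb fun y => by
    obtain ⟨V, hV, hyV, -⟩ := exists_isAffineOpen_mem_and_subset (U := (⊤ : Y.Opens)) (x := y) trivial
    exact ⟨⟨V, hV⟩, hyV, hadm.1 _⟩
  haveI hbs : Surjective b := ⟨fun y => by
    obtain ⟨η, hη, hmax⟩ := H29Blow.exists_maximal_generization y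
    have hηI : η ∉ (𝓘.support : Set Y) := fun h => Set.disjoint_left.1 hadm.2 h (hUmax η hmax)
    obtain ⟨η', -, hη'⟩ := (H29Blow.bijOn_maximalPoints hb).2.2 ⟨hmax, hηI⟩
    exact hη.mem_closed b.isClosedMap.isClosed_range ⟨η', hη'⟩⟩
  refine ⟨U, 𝓘, Y', b, H7Lim.dense_of_forall_isMaxPoint_mem hUmax, hUc, hb, hadm, hbs,
    fun X' p₁ p₂ hc 𝒥 h𝒥 => ?_⟩
  obtain ⟨hfl, hlfp, hqc, hqs⟩ := hflat X' p₁ p₂ hc 𝒥 h𝒥
  refine ⟨hfl, ⟨fun y => ?_⟩, hlfp, hqc, hqs⟩
  have hE : (𝓘.comap f).comap p₁ = (𝓘.comap b).comap p₂ := by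
    rw [← Scheme.IdealSheafData.comap_comp, hc.w, Scheme.IdealSheafData.comap_comp]
  have hEp : HTop.IsLocPrincipal ((𝓘.comap f).comap p₁) := by
    rw [hE]
    exact H18HTop.isLocPrincipal_comap (H18HTop.isLocPrincipal_of_isEffCartierIdeal hb.1) p₂
  obtain rfl := H7Flat.Flatten.eq_supportedOn hEp 𝒥 h𝒥
  obtain ⟨η, hη, hmax⟩ := H29Blow.exists_maximal_generization y
  have hf' : Subtr.UnivSSubtrusive p₂ := MorphismProperty.of_isPullback (P := Subtr.UnivSSubtrusive) hc hf
  obtain ⟨x, x', hx, hfx, hfx'⟩ :=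
    MorphismProperty.universally_le (fun _ _ g => Subtr.IsSSubtrusive g) _ hf' hη
  have hx' : x' ∈ HTop.awayFrom ((𝓘.comap f).comap p₁) := by
    rw [hE, H18HTop.awayFrom_comap]
    show p₂ x' ∈ HTop.awayFrom (𝓘.comap b)
    rw [hfx']
    exact H29Blow.not_mem_support_of_maximal hb.1 η hmax
  haveI := H7Flat.Flatten.isIso_subschemeι_restrict ((𝓘.comap f).comap p₁)
  obtain ⟨z, hz⟩ := ((HTop.supportedOn ((𝓘.comap f).comap p₁)).subschemeι ∣_
    HTop.awayFrom ((𝓘.comap f).comap p₁)).homeomorph.surjective ⟨x', hx'⟩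
  have hmem : x ∈ Set.range (HTop.supportedOn ((𝓘.comap f).comap p₁)).subschemeι :=
    hx.mem_closed (Scheme.Hom.isClosedEmbedding _).isClosed_range ⟨z.1, by
      have := congrArg (fun w => (HTop.awayFrom ((𝓘.comap f).comap p₁)).ι w) hz
      rw [Scheme.Hom.homeomorph_apply, ← Scheme.Hom.comp_apply, morphismRestrict_ι, Scheme.Hom.comp_apply] at this
      exact this⟩
  obtain ⟨w, hw⟩ := hmem
  exact ⟨w, by rw [Scheme.Hom.comp_apply, hw, hfx]⟩

end Groth.Agent.S14793
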