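import Groth.Statements.S14797
import Groth.Agent.H18Et.PropAB
import Mathlib.AlgebraicGeometry.ZariskisMainTheorem
import Mathlib.AlgebraicGeometry.Morphisms.Etale
import Mathlib.AlgebraicGeometry.Morphisms.UniversallyClosed

set_option autoImplicit false
universe u
open CategoryTheory CategoryTheory.Limits AlgebraicGeometry
open Subtr

namespace Groth.Agent.S14797

/-- Let g : S' ⟶ S be a quasi-compact universally submersive morphism of schemes and f : X ⟶ S an étale
morphism whose base change X ×_S S' ⟶ S' is finite. Then f is finite. (The published statement
treats the properties universally closed, separated and quasi-compact one at a time as well; this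
row is the finite case. It assumes g universally subtrusive, using it only through universal
submersiveness and, for quasi-compactness, through the constructible topology; for quasi-compact g
universal submersiveness suffices by the same proof.) -/
theorem result {X S S' : Scheme.{u}} (g : S' ⟶ S)
    [QuasiCompact g] (hg : SGA1.UnivSubmersive g) (f : X ⟶ S) [Etale f]
    [IsFinite (pullback.snd f g)] : IsFinite f := by
  let p : pullback f g ⟶ X := pullback.fst f g
  let q : pullback f g ⟶ S' := pullback.snd f g
  have hgq : Topology.IsQuotientMap g := hg _ _ _ (IsPullback.of_id_snd (f := g))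
  haveI : Surjective g := ⟨hgq.surjective⟩
  haveI : Surjective p := MorphismProperty.pullback_fst (P := @Surjective) f g ‹_›
  haveI : IsFinite q := ‹_›
  haveI : QuasiCompact f := by
    refine ⟨fun U hU hUc => ?_⟩
    have : f ⁻¹' U = p '' (q ⁻¹' (g ⁻¹' U)) := by
      have e : ∀ z, f (p z) = g (q z) := fun z => by
        rw [← Scheme.Hom.comp_apply, ← Scheme.Hom.comp_apply]
        exact congrArg (fun t => t z) (pullback.condition (f := f) (g := g))
      refine Set.Subset.antisymm (fun x hx => ?_) ?_
      · obtain ⟨z, rfl⟩ := p.surjective x
        exact ⟨z, (e z ▸ hx : g (q z) ∈ U), rfl⟩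
      · rintro _ ⟨z, hz, rfl⟩
        show f (p z) ∈ U
        rw [e]; exact hz
    rw [this]
    exact (QuasiCompact.isCompact_preimage (f := q) _ (hU.preimage g.continuous) (QuasiCompact.isCompact_preimage (f := g) U hU hUc)).image p.continuous
  haveI : UniversallyClosed f := by
    refine ⟨fun Z T i₁ i₂ f' hP C hC => ?_⟩
    let gT : pullback i₂ g ⟶ T := pullback.fst i₂ g
    have hgT : Topology.IsQuotientMap gT := hg _ _ _ (IsPullback.of_hasPullback i₂ g)
    let f'' : pullback f' gT ⟶ pullback i₂ g := pullback.snd f' gT
    have hw : (pullback.fst f' gT ≫ i₁) ≫ f = (f'' ≫ pullback.snd i₂ g) ≫ g := by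
      rw [Category.assoc, ← hP.w, Category.assoc, ← pullback.condition (f := i₂) (g := g), ← Category.assoc,
        ← Category.assoc, pullback.condition (f := f') (g := gT)]
    let k : pullback f' gT ⟶ pullback f g := pullback.lift _ _ hw
    have hout : IsPullback (k ≫ p) f'' f (pullback.snd i₂ g ≫ g) := by
      rw [pullback.lift_fst, ← pullback.condition (f := i₂) (g := g)]
      exact (IsPullback.of_hasPullback f' gT).paste_horiz hP.flip
    have hk : IsPullback k f'' q (pullback.snd i₂ g) :=
      IsPullback.of_right hout (pullback.lift_snd _ _ hw) (IsPullback.of_hasPullback f g)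
    haveI : UniversallyClosed f'' := MorphismProperty.of_isPullback (P := @UniversallyClosed) hk inferInstance
    refine hgT.isClosed_preimage.1 ?_
    have : gT ⁻¹' (f' '' C) = f'' '' (pullback.fst f' gT ⁻¹' C) := by
      refine Set.Subset.antisymm ?_ ?_
      · rintro t ⟨c, hc, hct⟩
        obtain ⟨z, hz, hz'⟩ := Scheme.Pullback.exists_preimage_pullback (f := f') (g := gT) c t hct
        exact ⟨z, (hz.symm ▸ hc : pullback.fst f' gT z ∈ C), hz'⟩
      · rintro _ ⟨z, hz, rfl⟩
        refine ⟨_, hz, ?_⟩
        rw [← Scheme.Hom.comp_apply, ← Scheme.Hom.comp_apply]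
        exact congrArg (fun t => t z) (pullback.condition (f := f') (g := gT))
    rw [this]
    exact f''.isClosedMap _ (hC.preimage (pullback.fst f' gT).continuous)
  haveI : IsSeparated f := by
    refine ⟨IsClosedImmersion.of_isPreimmersion _ ?_⟩
    let π : pullback f f ⟶ S := pullback.fst f f ≫ f
    let gP : pullback π g ⟶ pullback f f := pullback.fst π g
    have hgP : Topology.IsQuotientMap gP := hg _ _ _ (IsPullback.of_hasPullback π g)
    let a : pullback π g ⟶ pullback f g := pullback.lift (gP ≫ pullback.fst f f) (pullback.snd π g)
      (by rw [Category.assoc]; exact pullback.condition (f := π) (g := g))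
    let b : pullback π g ⟶ pullback f g := pullback.lift (gP ≫ pullback.snd f f) (pullback.snd π g)
      (by rw [Category.assoc, ← pullback.condition (f := f) (g := f)]; exact pullback.condition (f := π) (g := g))
    let c : pullback π g ⟶ pullback q q := pullback.lift a b (by rw [pullback.lift_snd, pullback.lift_snd])
    let m : pullback q q ⟶ pullback f f := pullback.map q q f f p p g
      (pullback.condition (f := f) (g := g)).symm (pullback.condition (f := f) (g := g)).symm
    have hcm : c ≫ m = gP := by
      apply pullback.hom_ext
      · rw [Category.assoc, pullback.lift_fst, ← Category.assoc, pullback.lift_fst, pullback.lift_fst]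
      · rw [Category.assoc, pullback.lift_snd, ← Category.assoc, pullback.lift_snd, pullback.lift_fst]
    have hdm : pullback.diagonal q ≫ m = p ≫ pullback.diagonal f := by
      apply pullback.hom_ext
      · rw [Category.assoc, pullback.lift_fst, ← Category.assoc, pullback.diagonal_fst, Category.id_comp,
          Category.assoc, pullback.diagonal_fst, Category.comp_id]
      · rw [Category.assoc, pullback.lift_snd, ← Category.assoc, pullback.diagonal_snd, Category.id_comp,
          Category.assoc, pullback.diagonal_snd, Category.comp_id]
    refine hgP.isClosed_preimage.1 ?_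
    have : gP ⁻¹' Set.range (pullback.diagonal f) = c ⁻¹' Set.range (pullback.diagonal q) := by
      ext z
      constructor
      · intro hz
        let γ := (pullback π g).fromSpecResidueField z
        have hr : Set.range (γ ≫ gP) ⊆ Set.range (pullback.diagonal f) := by
          rintro _ ⟨t, rfl⟩
          rw [Scheme.Hom.comp_apply, Scheme.fromSpecResidueField_apply]
          exact hz
        have hl := IsOpenImmersion.lift_fac (pullback.diagonal f) (γ ≫ gP) hr
        have hab : γ ≫ a = γ ≫ b := by
          apply pullback.hom_ext
          · rw [Category.assoc, pullback.lift_fst, Category.assoc, pullback.lift_fst, ← Category.assoc,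
              ← Category.assoc, ← hl, Category.assoc, pullback.diagonal_fst, Category.assoc, pullback.diagonal_snd]
          · rw [Category.assoc, pullback.lift_snd, Category.assoc, pullback.lift_snd]
        have hc : γ ≫ c = (γ ≫ a) ≫ pullback.diagonal q := by
          apply pullback.hom_ext
          · rw [Category.assoc, pullback.lift_fst, Category.assoc, pullback.diagonal_fst, Category.comp_id]
          · rw [Category.assoc, pullback.lift_snd, Category.assoc, pullback.diagonal_snd, Category.comp_id, hab]
        refine ⟨(γ ≫ a) (IsLocalRing.closedPoint _), ?_⟩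
        rw [← Scheme.Hom.comp_apply, ← hc, Scheme.Hom.comp_apply, Scheme.fromSpecResidueField_apply]
      · rintro ⟨w, hw⟩
        refine ⟨p w, ?_⟩
        rw [← Scheme.Hom.comp_apply, ← hdm, Scheme.Hom.comp_apply, hw, ← Scheme.Hom.comp_apply, hcm]
    rw [this]
    exact ((pullback.diagonal q).isClosedEmbedding.isClosed_range).preimage c.continuous
  haveI : IsProper f := {}
  haveI := H18Et.locallyQuasiFinite_of_etale f
  exact IsFinite.of_isProper_of_locallyQuasiFinite f

end Groth.Agent.S14797
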