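import Groth.Statements.S14798
import Groth.Prelude.Def_W4c2conddiscmodels

set_option autoImplicit false
open Finset
open HJFrac

namespace Groth.Agent.S14798

theorem hj_seq (l : ℕ) (b : ℕ → ℤ) (hb : ∀ i, 1 ≤ i → i ≤ l → 2 ≤ b i) :
    ∃ a : ℕ → ℤ, a l = 1 ∧ a (l + 1) = 0 ∧ (∀ i, i < l → a i = b (i + 1) * a (i + 1) - a (i + 2)) ∧
      (∀ i, i ≤ l → a (i + 1) < a i ∧ 0 ≤ a (i + 1)) ∧
      ∀ i, i < l → ((a i : ℚ) / a (i + 1)) = HJFrac.hjVal ((List.range (l - i)).map fun j => b (i + j + 1)) := by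
  induction l generalizing b with
  | zero => exact ⟨fun i => if i = 0 then 1 else 0, rfl, rfl, by simp, fun i hi => by
      obtain rfl : i = 0 := by omega
      simp, by simp⟩
  | succ l ih =>
    obtain ⟨a, a1, a0, hrec, hdec, hval⟩ := ih (fun i => b (i + 1)) (fun i h1 h2 => hb (i + 1) (by omega) (by omega))
    let a' : ℕ → ℤ := fun i => Nat.casesOn i (b 1 * a 0 - a 1) a
    have h1 := hdec 0 (Nat.zero_le l)
    refine ⟨a', a1, a0, fun i hi => ?_, fun i hi => ?_, fun i hi => ?_⟩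
    · rcases i with _ | i
      · rfl
      · exact hrec i (by omega)
    · rcases i with _ | i
      · show a 0 < b 1 * a 0 - a 1 ∧ 0 ≤ a 0
        have := hb 1 le_rfl (by omega)
        simp only [Nat.zero_add] at h1 ⊢
        constructor <;> nlinarith
      · exact hdec i (by omega)
    · rcases i with _ | i
      · show ((b 1 * a 0 - a 1 : ℤ) : ℚ) / (a 0 : ℚ) = _
        simp only [Nat.zero_add] at h1
        have ha0 : (a 0 : ℚ) ≠ 0 := by exact_mod_cast (by omega : a 0 ≠ 0)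
        rw [Nat.sub_zero, List.range_succ_eq_map, List.map_cons, List.map_map, HJFrac.hjVal]
        rcases Nat.eq_zero_or_pos l with rfl | hl
        · simp [HJFrac.hjVal, a1, show a 1 = 0 from a0]
        · have := hval 0 hl
          simp only [Nat.sub_zero, Nat.zero_add] at this
          simp only [Nat.zero_add, Function.comp_def, Nat.succ_eq_add_one, ← this]
          push_cast
          field_simp
      · have := hval i (by omega)
        simp only [Nat.add_sub_add_right]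
        refine this.trans ?_
        congr 1
        exact List.map_congr_left fun j _ => by congr 1; omega

theorem hj_numer (l : ℕ) (hl : 1 ≤ l) (b : ℕ → ℤ) (hb : ∀ i, 1 ≤ i → i ≤ l → 2 ≤ b i)
    (n r : ℕ) (hr : 0 < r) (hcop : Nat.Coprime r n)
    (hhj : (n : ℚ) / r = HJFrac.hjVal ((List.range l).map fun i => b (i + 1))) :
    ∃ a : ℕ → ℤ, a 0 = n ∧ a 1 = r ∧ a l = 1 ∧ a (l + 1) = 0 ∧
      ∀ i, i < l → a i = b (i + 1) * a (i + 1) - a (i + 2) := by
  obtain ⟨a, a1, a0, hrec, hdec, hval⟩ := hj_seq l b hb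
  refine ⟨a, ?_⟩
  have h1 : 0 < a 1 := by
    rcases hl.eq_or_lt with h | h
    · subst h; rw [a1]; norm_num
    · have := hdec 1 hl; omega
  have hg : ∀ i, i ≤ l → IsCoprime (a i) (a (i + 1)) := by
    intro i hi
    induction hk : l - i generalizing i with
    | zero => rw [show i = l by omega, a1]; exact isCoprime_one_left
    | succ k ih =>
      have h := ih (i + 1) (by omega) (by omega)
      rw [hrec i (by omega), sub_eq_neg_add, IsCoprime.add_mul_right_left_iff (z := b (i + 1))]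
      exact h.symm.neg_left
  have he := hval 0 hl
  simp only [Nat.sub_zero, Nat.zero_add] at he
  rw [← hhj, div_eq_div_iff (by exact_mod_cast h1.ne') (Nat.cast_ne_zero.2 hr.ne')] at he
  have he' : a 0 * (r : ℤ) = n * a 1 := by exact_mod_cast he
  have hd1 : a 1 ∣ (r : ℤ) := (hg 0 (Nat.zero_le l)).symm.dvd_of_dvd_mul_left ⟨n, by rw [he']; ring⟩
  have hd2 : (r : ℤ) ∣ a 1 := ((Int.isCoprime_iff_gcd_eq_one.2 (by simpa [Int.gcd_natCast_natCast] using hcop)) : IsCoprime (r : ℤ) (n : ℤ)).dvd_of_dvd_mul_left ⟨a 0, by rw [← he']; ring⟩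
  have h11 : a 1 = r := Int.dvd_antisymm h1.le (Int.natCast_nonneg r) hd1 hd2
  refine ⟨?_, h11, a1, a0, hrec⟩
  rw [h11] at he'
  exact mul_right_cancel₀ (by exact_mod_cast hr.ne') he'

theorem hj_wronskian (l : ℕ) (b a μ : ℕ → ℤ) (a1 : a l = 1) (a0 : a (l + 1) = 0)
    (hrec : ∀ i, i < l → a i = b (i + 1) * a (i + 1) - a (i + 2))
    (hsys : ∀ i, 1 ≤ i → i ≤ l → b i * μ i = μ (i - 1) + μ (i + 1)) :
    ∀ i, i ≤ l → a i * μ (i + 1) - a (i + 1) * μ i = μ (l + 1) := by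
  intro i hi
  induction hk : l - i generalizing i with
  | zero => rw [show i = l by omega, a1, a0]; ring
  | succ k ih =>
    have h := hsys (i + 1) (by omega) (by omega)
    simp only [Nat.add_sub_cancel] at h
    rw [← ih (i + 1) (by omega) (by omega), hrec i (by omega)]
    linear_combination a (i + 1) * h

/-- Let 0 < r < n be coprime integers and n/r = b₁ - 1/(b₂ - 1/(⋯ - 1/b_λ)) the Hirzebruch–Jung
expansion (λ ≥ 1, every b_i ≥ 2); let m₁, m₂ be positive integers prime to n with r m₂ + m₁ ≡ 0 mod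
n, and let μ₁, …, μ_λ be positive integers solving the tridiagonal system b_i μ_i - μ_{i-1} -
μ_{i+1} = 0 (1 ≤ i ≤ λ) with the conventions μ₀ = m₂ and μ_{λ+1} = m₁ (the multiplicity vector
attached to (n, r, m₂, m₁)). Then n/(m₁ m₂) = 1/(m₂ μ₁) + 1/(μ₁ μ₂) + ⋯ + 1/(μ_{λ-1} μ_λ) + 1/(μ_λ
m₁). -/
theorem result (l : ℕ) (hl : 1 ≤ l) (b : ℕ → ℤ)
    (hb : ∀ i, 1 ≤ i → i ≤ l → 2 ≤ b i)
    (n r : ℕ) (hr : 0 < r) (hrn : r < n) (hcop : Nat.Coprime r n)
    (hhj : (n : ℚ) / r = HJFrac.hjVal ((List.range l).map fun i => b (i + 1)))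
    (m₁ m₂ : ℕ) (hm₁ : 0 < m₁) (hm₂ : 0 < m₂) (h₁ : Nat.Coprime m₁ n) (h₂ : Nat.Coprime m₂ n)
    (hdvd : (n : ℤ) ∣ r * m₂ + m₁)
    (μ : ℕ → ℤ) (hμ0 : μ 0 = m₂) (hμl : μ (l + 1) = m₁) (hμpos : ∀ i, i ≤ l + 1 → 0 < μ i)
    (hsys : ∀ i, 1 ≤ i → i ≤ l → b i * μ i = μ (i - 1) + μ (i + 1)) :
    (n : ℚ) / ((m₁ : ℚ) * m₂) = ∑ i ∈ Finset.range (l + 1), 1 / ((μ i : ℚ) * (μ (i + 1) : ℚ)) := by
  obtain ⟨a, ha0, -, a1, a0, hrec⟩ := hj_numer l hl b hb n r hr hcop hhj
  have hW := hj_wronskian l b a μ a1 a0 hrec hsys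
  have hterm : ∀ i ∈ Finset.range (l + 1), 1 / ((μ i : ℚ) * (μ (i + 1) : ℚ)) =
      (1 / (m₁ : ℚ)) * ((a i : ℚ) / μ i - (a (i + 1) : ℚ) / μ (i + 1)) := by
    intro i hi
    have hi' : i ≤ l := Nat.lt_succ_iff.1 (Finset.mem_range.1 hi)
    have h1 : (μ i : ℚ) ≠ 0 := by exact_mod_cast (hμpos i (by omega)).ne'
    have h2 : (μ (i + 1) : ℚ) ≠ 0 := by exact_mod_cast (hμpos (i + 1) (by omega)).ne'
    have h3 : (m₁ : ℚ) ≠ 0 := Nat.cast_ne_zero.2 hm₁.ne'
    have h4 : (a i : ℚ) * μ (i + 1) - a (i + 1) * μ i = m₁ := by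
      have := hW i hi'
      rw [hμl] at this
      exact_mod_cast this
    field_simp
    linear_combination -h4
  rw [Finset.sum_congr rfl hterm, ← Finset.mul_sum,
    Finset.sum_range_sub' (fun i => (a i : ℚ) / μ i), a0, ha0, hμ0]
  push_cast
  field_simp
  ring

end Groth.Agent.S14798
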