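import Groth.Statements.S14799
import Groth.Agent.S14798

set_option autoImplicit false
open HJFrac

namespace Groth.Agent.S14799

/-- Let 0 < r < n be coprime integers and n/r = b₁ - 1/(b₂ - 1/(⋯ - 1/b_λ)) the Hirzebruch–Jung
expansion (λ ≥ 1, every b_i ≥ 2); let m₁, m₂ be positive integers prime to n with r m₂ + m₁ ≡ 0 mod
n, and let μ₁, …, μ_λ be positive integers with b_i μ_i = μ_{i-1} + μ_{i+1} for 1 ≤ i ≤ λ, where μ₀
= m₂ and μ_{λ+1} = m₁. Then gcd(m₁, μ₁, …, μ_λ, m₂) = gcd(m₁, m₂); equivalently gcd(m₁, m₂) divides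
every μ_i. -/
theorem result (l : ℕ) (hl : 1 ≤ l) (b : ℕ → ℤ)
    (hb : ∀ i, 1 ≤ i → i ≤ l → 2 ≤ b i)
    (n r : ℕ) (hr : 0 < r) (hrn : r < n) (hcop : Nat.Coprime r n)
    (hhj : (n : ℚ) / r = HJFrac.hjVal ((List.range l).map fun i => b (i + 1)))
    (m₁ m₂ : ℕ) (hm₁ : 0 < m₁) (hm₂ : 0 < m₂) (h₁ : Nat.Coprime m₁ n) (h₂ : Nat.Coprime m₂ n)
    (hdvd : (n : ℤ) ∣ r * m₂ + m₁)
    (μ : ℕ → ℤ) (hμ0 : μ 0 = m₂) (hμl : μ (l + 1) = m₁) (hμpos : ∀ i, i ≤ l + 1 → 0 < μ i)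
    (hsys : ∀ i, 1 ≤ i → i ≤ l → b i * μ i = μ (i - 1) + μ (i + 1)) :
    ∀ i, i ≤ l + 1 → ((Nat.gcd m₁ m₂ : ℕ) : ℤ) ∣ μ i := by
  obtain ⟨a, ha0, ha1, a1, a0, hrec⟩ := Groth.Agent.S14798.hj_numer l hl b hb n r hr hcop hhj
  have hW := Groth.Agent.S14798.hj_wronskian l b a μ a1 a0 hrec hsys 0 (Nat.zero_le l)
  rw [hμl, ha0, ha1, hμ0] at hW
  set d : ℤ := ((Nat.gcd m₁ m₂ : ℕ) : ℤ)
  have hd1 : d ∣ (m₁ : ℤ) := Int.natCast_dvd_natCast.2 (Nat.gcd_dvd_left _ _)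
  have hd2 : d ∣ (m₂ : ℤ) := Int.natCast_dvd_natCast.2 (Nat.gcd_dvd_right _ _)
  have hdn : IsCoprime d (n : ℤ) :=
    Int.isCoprime_iff_gcd_eq_one.2 (by simpa [d, Int.gcd_natCast_natCast] using Nat.Coprime.coprime_dvd_left (Nat.gcd_dvd_left m₁ m₂) h₁)
  have hμ1 : d ∣ μ 1 := hdn.dvd_of_dvd_mul_left (by
    rw [show (n : ℤ) * μ 1 = r * m₂ + m₁ by linarith]
    exact dvd_add (dvd_mul_of_dvd_right hd2 _) hd1)
  intro i hi
  induction i using Nat.strong_induction_on with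
  | _ i ih =>
    rcases i with _ | _ | i
    · rw [hμ0]; exact hd2
    · exact hμ1
    · have h := hsys (i + 1) (by omega) (by omega)
      simp only [Nat.add_sub_cancel] at h
      rw [show μ (i + 2) = b (i + 1) * μ (i + 1) - μ i by linarith]
      exact dvd_sub (dvd_mul_of_dvd_right (ih _ (by omega) (by omega)) _) (ih _ (by omega) (by omega))

end Groth.Agent.S14799
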