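import Groth.Statements.S1480
import Groth.Agent.H8Props.QFFlat.Main
-- import your own Groth.Agent.* helpers here

set_option autoImplicit false
set_option linter.style.haveILetI false
universe u
open FlatMor

namespace Groth.Agent.S1480

open TensorProduct in
theorem exists_of_localizations {A B : Type u} [CommRing A] [CommRing B] [Algebra A B]
    (h : A) (Ah Bh : Type u) [CommRing Ah] [CommRing Bh] [Algebra A Ah] [Algebra B Bh]
    [Algebra Ah Bh] [Algebra A Bh] [IsScalarTower A Ah Bh] [IsScalarTower A B Bh]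
    [IsLocalization.Away h Ah] [IsLocalization.Away (algebraMap A B h) Bh] (g : B)
    (H : (1 : Ah) ⊗ₜ[A] g ≠ 0 ∧ ∃ (F : Ideal Ah) (r : ℕ), 0 < r ∧
      ∃ φ : (Fin r → F) →ₗ[Ah] Ah ⊗[A] B, Function.Injective φ ∧
        (1 : Ah) ⊗ₜ[A] g ∈ LinearMap.range φ) :
    algebraMap B Bh g ≠ 0 ∧ ∃ (F : Ideal Ah) (r : ℕ), 0 < r ∧
      ∃ φ : (Fin r → F) →ₗ[Ah] Bh, Function.Injective φ ∧ algebraMap B Bh g ∈ LinearMap.range φ := by
  have : IsLocalization (Algebra.algebraMapSubmonoid B (Submonoid.powers h)) Bh := by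
    rw [Algebra.algebraMapSubmonoid_powers]; assumption
  have : Algebra.IsPushout A Ah B Bh :=
    (Algebra.isPushout_of_isLocalization (Submonoid.powers h) Ah B Bh).symm
  let e := Algebra.IsPushout.equiv A Ah B Bh
  have he : e ((1 : Ah) ⊗ₜ[A] g) = algebraMap B Bh g := by
    rw [Algebra.IsPushout.equiv_tmul, map_one, one_mul]
  obtain ⟨hne, F, r, hr, φ, hφ, x, hx⟩ := H
  refine ⟨fun h0 => hne (e.injective ((he.trans h0).trans (map_zero e).symm)), F, r, hr,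
    e.toLinearMap.comp φ, e.injective.comp hφ, x, ?_⟩
  show e (φ x) = _
  rw [hx, he]


open AlgebraicGeometry CategoryTheory Limits in
/-- Let f : X → S be flat, locally of finite presentation and locally quasi-finite, and g a nonzero
global function on X. Then there are affine opens V of X and U of S with f(V) ⊆ U and g nonzero on
V, an ideal F of O_S(U), a positive integer r and an injective O_S(U)-linear map from F^r to O_X(V)
whose image contains the restriction of g to V. -/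
theorem result {X S : Scheme.{u}} (f : X ⟶ S) [Flat f] [LocallyOfFinitePresentation f] [LocallyQuasiFinite f]
    (g : Γ(X, ⊤)) (hg : g ≠ 0) :
    ∃ (U : S.Opens) (hU : IsAffineOpen U) (V : X.Opens) (hV : IsAffineOpen V) (hVU : V ≤ f ⁻¹ᵁ U),
      X.presheaf.map (homOfLE le_top).op g ≠ (0 : Γ(X, V)) ∧
      ∃ (F : Ideal Γ(S, U)) (r : ℕ), 0 < r ∧
        letI := (f.appLE U V hVU).hom.toAlgebra
        ∃ φ : (Fin r → ↥F) →ₗ[Γ(S, U)] Γ(X, V), Function.Injective φ ∧ X.presheaf.map (homOfLE le_top).op g ∈ LinearMap.range φ := by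
  obtain ⟨V₀, hV₀, U₀, hU₀, e₀, hg₀⟩ : ∃ (V₀ : X.Opens) (_ : IsAffineOpen V₀) (U₀ : S.Opens)
      (_ : IsAffineOpen U₀) (_ : V₀ ≤ f ⁻¹ᵁ U₀), X.presheaf.map (homOfLE le_top).op g ≠ (0 : Γ(X, V₀)) := by
    by_contra hcon
    push Not at hcon
    refine hg (TopCat.Presheaf.section_ext X.sheaf ⊤ g 0 fun x _ => ?_)
    obtain ⟨_, ⟨U₀, hU₀, rfl⟩, hxU₀, -⟩ :=
      S.isBasis_affineOpens.exists_subset_of_mem_open (Set.mem_univ (f x)) isOpen_univ
    obtain ⟨_, ⟨V₀, hV₀, rfl⟩, hxV₀, hV₀U₀⟩ :=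
      X.isBasis_affineOpens.exists_subset_of_mem_open (show x ∈ f ⁻¹ᵁ U₀ from hxU₀) (f ⁻¹ᵁ U₀).2
    have h0 := hcon V₀ hV₀ U₀ hU₀ hV₀U₀
    have h1 := congrArg (X.presheaf.germ V₀ x hxV₀) h0
    rw [map_zero, TopCat.Presheaf.germ_res_apply] at h1
    rw [map_zero]
    exact h1
  letI := (f.appLE U₀ V₀ e₀).hom.toAlgebra
  have hflat : Module.Flat Γ(S, U₀) Γ(X, V₀) :=
    HasRingHomProperty.appLE @Flat f ‹_› ⟨U₀, hU₀⟩ ⟨V₀, hV₀⟩ e₀
  have hfp : Algebra.FinitePresentation Γ(S, U₀) Γ(X, V₀) :=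
    HasRingHomProperty.appLE @LocallyOfFinitePresentation f ‹_› ⟨U₀, hU₀⟩ ⟨V₀, hV₀⟩ e₀
  have hqf : Algebra.QuasiFinite Γ(S, U₀) Γ(X, V₀) :=
    HasRingHomProperty.appLE @LocallyQuasiFinite f ‹_› ⟨U₀, hU₀⟩ ⟨V₀, hV₀⟩ e₀
  obtain ⟨h, hh⟩ :=
    Groth.Agent.H8Props.QFFlat.exists_injective_pi (A := Γ(S, U₀)) (X.presheaf.map (homOfLE le_top).op g) hg₀
  let U := S.basicOpen h
  let V := X.basicOpen (f.appLE U₀ V₀ e₀ h)
  have hVV₀ : V ≤ V₀ := X.basicOpen_le _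
  have hUU₀ : U ≤ U₀ := S.basicOpen_le _
  have hVU : V ≤ f ⁻¹ᵁ U := by
    show X.basicOpen _ ≤ _
    rw [Scheme.preimage_basicOpen, Scheme.Hom.appLE, CommRingCat.comp_apply, Scheme.basicOpen_res]
    exact inf_le_right
  refine ⟨U, hU₀.basicOpen h, V, hV₀.basicOpen _, hVU, ?_⟩
  letI : Algebra Γ(S, U₀) Γ(S, U) := (S.presheaf.map (homOfLE hUU₀).op).hom.toAlgebra
  letI : Algebra Γ(X, V₀) Γ(X, V) := (X.presheaf.map (homOfLE hVV₀).op).hom.toAlgebra
  letI : Algebra Γ(S, U) Γ(X, V) := (f.appLE U V hVU).hom.toAlgebra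
  letI : Algebra Γ(S, U₀) Γ(X, V) := (f.appLE U₀ V (hVV₀.trans e₀)).hom.toAlgebra
  have : IsScalarTower Γ(S, U₀) Γ(S, U) Γ(X, V) := .of_algebraMap_eq' (by
    show (f.appLE U₀ V _).hom = (f.appLE U V hVU).hom.comp (S.presheaf.map (homOfLE hUU₀).op).hom
    rw [← CommRingCat.hom_comp, Scheme.Hom.map_appLE])
  have : IsScalarTower Γ(S, U₀) Γ(X, V₀) Γ(X, V) := .of_algebraMap_eq' (by
    show (f.appLE U₀ V _).hom = (X.presheaf.map (homOfLE hVV₀).op).hom.comp (f.appLE U₀ V₀ e₀).hom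
    rw [← CommRingCat.hom_comp, Scheme.Hom.appLE_map])
  have : IsLocalization.Away h Γ(S, U) := hU₀.isLocalization_of_eq_basicOpen h (homOfLE hUU₀) rfl
  have : IsLocalization.Away (algebraMap Γ(S, U₀) Γ(X, V₀) h) Γ(X, V) :=
    hV₀.isLocalization_of_eq_basicOpen _ (homOfLE hVV₀) rfl
  obtain ⟨hne, F, r, hr, φ, hφ, hmem⟩ :=
    exists_of_localizations h Γ(S, U) Γ(X, V) _ (hh Γ(S, U))
  have hres : algebraMap Γ(X, V₀) Γ(X, V) (X.presheaf.map (homOfLE le_top).op g) =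
      X.presheaf.map (homOfLE le_top).op g := by
    show (X.presheaf.map (homOfLE le_top).op ≫ X.presheaf.map (homOfLE hVV₀).op) g = _
    rw [← Functor.map_comp]
    rfl
  rw [hres] at hne hmem
  exact ⟨hne, F, r, hr, φ, hφ, hmem⟩


end Groth.Agent.S1480
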