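import Groth.Statements.S14804
import Groth.Agent.H25Graph.Stab

set_option autoImplicit false
universe u
open Finset
open LabGraph

namespace Groth.Agent.S14804

/-- In a connected finite multigraph G, a vertex v belongs to some cycle of G (here: v is an endpoint of
an edge of some circuit, a circuit being a minimal nonempty edge set meeting every vertex in an even
number of edge-ends, which includes loops and pairs of parallel edges) if and only if G has a
spanning tree T such that some edge outside T has v as an endpoint. (The published statement is for
an arbitrary multigraph; when G is disconnected it has no spanning tree while a vertex may lie on a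
cycle, so G is taken connected here, the case of dual graphs for which it is used.) -/
theorem result
    {V E : Type u} [Fintype V] [Fintype E] [DecidableEq V] [DecidableEq E]
    (ends : E → V × V) (hG : LabGraph.Connected ends) (v : V) :
    (∃ C : Finset E, LabGraph.IsCircuit ends C ∧ LabGraph.endCount ends C v ≠ 0) ↔
      ∃ T : Finset E, LabGraph.IsSpanningTree ends T ∧
        ∃ e : E, e ∉ T ∧ ((ends e).1 = v ∨ (ends e).2 = v) := by
  exact Groth.Agent.H25Graph.mem_circuit_iff hG v

end Groth.Agent.S14804
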