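import Groth.Statements.S14805
import Mathlib.GroupTheory.Index
import Mathlib.Data.ZMod.QuotientGroup
import Mathlib.RingTheory.PrincipalIdealDomain
import Mathlib.LinearAlgebra.Matrix.ToLin
import Mathlib.Algebra.GCDMonoid.Finset
import Mathlib.Tactic

set_option autoImplicit false
open Finset
open CompLat

namespace Groth.Agent.S14805

theorem card_quot {M : Type*} [AddCommGroup M] (N P : Submodule ℤ M) :
    Nat.card (N ⧸ P.comap N.subtype) = P.toAddSubgroup.relIndex N.toAddSubgroup := by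
  simp only [AddSubgroup.relIndex, AddSubgroup.index]
  rfl

/-- The coordinate sum. -/
abbrev sumMap (n : ℕ) : (Fin n → ℤ) →ₗ[ℤ] ℤ := ∑ i : Fin n, (LinearMap.proj i : (Fin n → ℤ) →ₗ[ℤ] ℤ)

theorem sumMap_apply (n : ℕ) (x : Fin n → ℤ) : sumMap n x = ∑ i, x i := by simp [sumMap]

theorem gcd_mem_span {n : ℕ} (δ : Fin n → ℤ) : Finset.univ.gcd δ ∈ Ideal.span (Set.range δ) := by
  obtain ⟨g, hg⟩ := (inferInstance : IsPrincipalIdealRing ℤ).principal (Ideal.span (Set.range δ))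
  rw [hg, ← Ideal.span, Ideal.mem_span_singleton]
  refine Finset.dvd_gcd fun i _ => ?_
  rw [← Ideal.mem_span_singleton, Ideal.span, ← hg]
  exact Ideal.subset_span ⟨i, rfl⟩

theorem index_range_diagonal {n : ℕ} (δ : Fin n → ℤ) :
    ((LinearMap.range (Matrix.mulVecLin (Matrix.diagonal δ))).toAddSubgroup).index = ∏ i, (δ i).natAbs := by
  have h : (LinearMap.range (Matrix.mulVecLin (Matrix.diagonal δ))).toAddSubgroup =
      AddSubgroup.pi Set.univ fun i => AddSubgroup.zmultiples (δ i) := by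
    ext x
    simp only [Submodule.mem_toAddSubgroup, LinearMap.mem_range, Matrix.mulVecLin_apply, AddSubgroup.mem_pi,
      Set.mem_univ, true_implies, AddSubgroup.mem_zmultiples_iff]
    constructor
    · rintro ⟨y, rfl⟩ i
      exact ⟨y i, by simp [Matrix.mulVec_diagonal, mul_comm]⟩
    · intro h
      choose y hy using h
      exact ⟨y, funext fun i => by rw [Matrix.mulVec_diagonal, ← hy i, smul_eq_mul, mul_comm]⟩
  rw [h, AddSubgroup.index_pi]
  simp only [Int.index_zmultiples]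

theorem range_sum_diagonal {n : ℕ} (δ : Fin n → ℤ) :
    (LinearMap.range (sumMap n ∘ₗ Matrix.mulVecLin (Matrix.diagonal δ))).toAddSubgroup =
      AddSubgroup.zmultiples (Finset.univ.gcd δ) := by
  ext t
  simp only [Submodule.mem_toAddSubgroup, LinearMap.mem_range, LinearMap.comp_apply, sumMap_apply,
    Matrix.mulVecLin_apply, Matrix.mulVec_diagonal, AddSubgroup.mem_zmultiples_iff, smul_eq_mul]
  constructor
  · rintro ⟨y, rfl⟩
    obtain ⟨c, hc⟩ : Finset.univ.gcd δ ∣ ∑ i, δ i * y i :=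
      Finset.dvd_sum fun i _ => dvd_mul_of_dvd_left (Finset.gcd_dvd (Finset.mem_univ i)) _
    exact ⟨c, by rw [hc, mul_comm]⟩
  · rintro ⟨c, rfl⟩
    obtain ⟨y, hy⟩ := (Ideal.mem_span_range_iff_exists_fun (R := ℤ) (v := δ)).1 (gcd_mem_span δ)
    refine ⟨fun i => c * y i, ?_⟩
    rw [← hy, Finset.mul_sum]
    exact Finset.sum_congr rfl fun i _ => by ring

theorem core {n : ℕ} (hn : 0 < n) (δ : Fin n → ℤ) (hδ : ∀ i, δ i ≠ 0) (P : Submodule ℤ (Fin n → ℤ))
    (hP : P ≤ LinearMap.ker (sumMap n ∘ₗ Matrix.mulVecLin (Matrix.diagonal δ))) :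
    (Nat.card (LinearMap.ker (sumMap n ∘ₗ Matrix.mulVecLin (Matrix.diagonal δ)) ⧸
        P.comap (LinearMap.ker (sumMap n ∘ₗ Matrix.mulVecLin (Matrix.diagonal δ))).subtype) : ℤ) * |∏ i, δ i| =
      (Finset.univ.gcd δ) * Nat.card (LinearMap.ker (sumMap n) ⧸
        (P.map (Matrix.mulVecLin (Matrix.diagonal δ))).comap (LinearMap.ker (sumMap n)).subtype) := by
  rw [card_quot, card_quot]
  set D := Matrix.mulVecLin (Matrix.diagonal δ)
  set S := sumMap n
  have hD : Function.Injective D := by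
    intro x y h
    funext i
    have := congrFun h i
    simp only [D, Matrix.mulVecLin_apply, Matrix.mulVec_diagonal] at this
    exact mul_left_cancel₀ (hδ i) this
  set R := (LinearMap.range D).toAddSubgroup with hR
  set K := (LinearMap.ker S).toAddSubgroup with hK
  set L := (LinearMap.ker (S ∘ₗ D)).toAddSubgroup
  have hmap : L.map D.toAddMonoidHom = R ⊓ K := by
    ext x
    simp [L, R, K]
    constructor
    · rintro ⟨y, hy, rfl⟩; exact ⟨⟨y, rfl⟩, hy⟩
    · rintro ⟨⟨y, rfl⟩, hy⟩; exact ⟨y, hy, rfl⟩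
  have hmapP : (P.map D).toAddSubgroup = P.toAddSubgroup.map D.toAddMonoidHom := by ext x; simp
  have h1 : (P.map D).toAddSubgroup.relIndex K = P.toAddSubgroup.relIndex L * R.relIndex K := by
    rw [hmapP, ← AddSubgroup.relIndex_map_map_of_injective (f := D.toAddMonoidHom) P.toAddSubgroup L hD, hmap,
      ← AddSubgroup.inf_relIndex_right (H := R) (K := K)]
    refine (AddSubgroup.relIndex_mul_relIndex _ _ _ ?_ inf_le_right).symm
    rw [← hmap]
    exact AddSubgroup.map_mono fun x hx => hP hx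
  have h2 : R.relIndex K * (Finset.univ.gcd δ).natAbs = ∏ i, (δ i).natAbs := by
    have hsup : K ⊔ R = (AddSubgroup.zmultiples (Finset.univ.gcd δ)).comap S.toAddMonoidHom := by
      rw [← range_sum_diagonal]
      refine le_antisymm (sup_le (fun x hx => ?_) fun x hx => ?_) fun x hx => ?_
      · refine ⟨0, ?_⟩
        simp only [K, Submodule.mem_toAddSubgroup, LinearMap.mem_ker] at hx
        simp [S, D] at hx ⊢
        simpa [S] using hx.symm
      · obtain ⟨y, rfl⟩ := hx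
        exact ⟨y, rfl⟩
      · obtain ⟨y, hy⟩ := hx
        rw [← sub_add_cancel x (D y)]
        refine add_mem (AddSubgroup.mem_sup_left ?_) (AddSubgroup.mem_sup_right ⟨y, rfl⟩)
        show S (x - D y) = 0
        rw [map_sub]; exact sub_eq_zero.2 hy.symm
    have hidx : (K ⊔ R).index = (Finset.univ.gcd δ).natAbs := by
      rw [hsup, AddSubgroup.index_comap_of_surjective, Int.index_zmultiples]
      exact fun t => ⟨Pi.single ⟨0, hn⟩ t, by show sumMap _ _ = t; rw [sumMap_apply]; simp⟩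
    rw [← index_range_diagonal δ, ← hR, ← AddSubgroup.relIndex_mul_index (le_sup_right : R ≤ K ⊔ R),
      AddSubgroup.relIndex_sup_right, hidx]
  have hd : ((Finset.univ.gcd δ).natAbs : ℤ) = Finset.univ.gcd δ :=
    Int.natAbs_of_nonneg (Int.nonneg_of_normalize_eq_self Finset.normalize_gcd)
  rw [h1, Nat.cast_mul, ← hd, Finset.abs_prod]
  have h3 := congrArg (fun t : ℕ => (t : ℤ)) h2
  push_cast at h3
  simp only [Int.natCast_natAbs] at h3 ⊢
  rw [← h3]
  ring

/-- Let n ≥ 1 and let D, D' : ℤⁿ → ℤⁿ be given by diagonal matrices with nonzero diagonal entries (rank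
n), A : ℤⁿ → ℤⁿ an integer matrix of rank n - 1, S : ℤⁿ → ℤ the sum of the coordinates and Δ : ℤ →
ℤⁿ the diagonal embedding; assume S D A = 0 and A D' Δ = 0, and let d > 0 with dℤ = im(S D), i.e. d
is the greatest common divisor of the diagonal entries of D. Then #(ker(S D)/im A) · |det D| = d ·
#(ker S/im(D A)). -/
theorem result (n : ℕ) (hn : 0 < n) (δ δ' : Fin n → ℤ) (hδ : ∀ i, δ i ≠ 0) (hδ' : ∀ i, δ' i ≠ 0)
    (A : Matrix (Fin n) (Fin n) ℤ) (hA : A.rank = n - 1)
    (hSDA : (∑ i : Fin n, (LinearMap.proj i : (Fin n → ℤ) →ₗ[ℤ] ℤ)) ∘ₗ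
        (Matrix.mulVecLin (Matrix.diagonal δ)) ∘ₗ (Matrix.mulVecLin A) = 0)
    (hADΔ : (Matrix.mulVecLin A) ∘ₗ (Matrix.mulVecLin (Matrix.diagonal δ')) ∘ₗ
        (LinearMap.pi fun _ : Fin n => (LinearMap.id : ℤ →ₗ[ℤ] ℤ)) = 0) :
    (Nat.card (LinearMap.ker ((∑ i : Fin n, (LinearMap.proj i : (Fin n → ℤ) →ₗ[ℤ] ℤ)) ∘ₗ (Matrix.mulVecLin (Matrix.diagonal δ))) ⧸
          (LinearMap.range (Matrix.mulVecLin A)).comap (LinearMap.ker ((∑ i : Fin n, (LinearMap.proj i : (Fin n → ℤ) →ₗ[ℤ] ℤ)) ∘ₗ (Matrix.mulVecLin (Matrix.diagonal δ)))).subtype) : ℤ) * |∏ i, δ i| =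
      (univ.gcd δ) * Nat.card (LinearMap.ker (∑ i : Fin n, (LinearMap.proj i : (Fin n → ℤ) →ₗ[ℤ] ℤ)) ⧸ (LinearMap.range ((Matrix.mulVecLin (Matrix.diagonal δ)) ∘ₗ (Matrix.mulVecLin A))).comap (LinearMap.ker (∑ i : Fin n, (LinearMap.proj i : (Fin n → ℤ) →ₗ[ℤ] ℤ))).subtype) := by
  have hle : LinearMap.range (Matrix.mulVecLin A) ≤
      LinearMap.ker (sumMap n ∘ₗ Matrix.mulVecLin (Matrix.diagonal δ)) := by
    rintro _ ⟨y, rfl⟩
    exact DFunLike.congr_fun hSDA y
  have h := core hn δ hδ _ hle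
  rwa [← LinearMap.range_comp] at h

end Groth.Agent.S14805
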