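import Groth.Statements.S14806
import Groth.Agent.S14805

set_option autoImplicit false
open Finset
open CompLat

namespace Groth.Agent.S14806

open Groth.Agent.S14805

theorem relIndex_range_comp {n : ℕ} (hn : 0 < n) (δ' : Fin n → ℤ) (hδ' : ∀ i, δ' i ≠ 0)
    (A : Matrix (Fin n) (Fin n) ℤ) (hA : A.rank = n - 1) (h0 : A.mulVec δ' = 0) :
    (LinearMap.range (Matrix.mulVecLin A ∘ₗ Matrix.mulVecLin (Matrix.diagonal δ'))).toAddSubgroup.relIndex
      (LinearMap.range (Matrix.mulVecLin A)).toAddSubgroup * (Finset.univ.gcd δ').natAbs = ∏ i, (δ' i).natAbs := by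
  classical
  set F := Matrix.mulVecLin A
  set D := Matrix.mulVecLin (Matrix.diagonal δ')
  set d := Finset.univ.gcd δ'
  haveI : Nonempty (Fin n) := ⟨⟨0, hn⟩⟩
  have hd : d ≠ 0 := fun h => hδ' ⟨0, hn⟩ ((Finset.gcd_eq_zero_iff.1 h) _ (Finset.mem_univ _))
  choose w hw using fun i => Finset.gcd_dvd (f := δ') (Finset.mem_univ i)
  obtain ⟨c, hc⟩ := (Ideal.mem_span_range_iff_exists_fun (R := ℤ) (v := δ')).1 (gcd_mem_span δ')
  have hcw : ∑ i, c i * w i = 1 := by
    refine mul_left_cancel₀ hd ?_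
    rw [mul_one, Finset.mul_sum]
    conv_rhs => rw [show d = Finset.univ.gcd δ' from rfl, ← hc]
    exact Finset.sum_congr rfl fun i _ => by rw [hw i]; ring
  have hδw : δ' = d • w := funext fun i => hw i
  have hFw : F w = 0 := by
    have : d • F w = 0 := by rw [← map_smul, ← hδw]; exact h0
    exact (smul_eq_zero.1 this).resolve_left hd
  have hrank : Module.finrank ℤ (LinearMap.ker F) = 1 := by
    have h1 := Submodule.finrank_quotient_add_finrank (LinearMap.ker F)
    rw [F.quotKerEquivRange.finrank_eq, Module.finrank_fin_fun] at h1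
    have h2 : Module.finrank ℤ (LinearMap.range F) = n - 1 := hA
    omega
  have hker : ∀ x, F x = 0 → ∃ t : ℤ, x = t • w := by
    intro x hx
    let b := Module.finBasisOfFinrankEq ℤ (LinearMap.ker F) hrank
    have hs : ∀ z : LinearMap.ker F, (z : Fin n → ℤ) = b.repr z 0 • (b 0 : Fin n → ℤ) := fun z => by
      conv_lhs => rw [← b.sum_repr z]
      simp
    have hxe : x = b.repr ⟨x, hx⟩ 0 • (b 0 : Fin n → ℤ) := hs ⟨x, hx⟩
    have hwe : w = b.repr ⟨w, hFw⟩ 0 • (b 0 : Fin n → ℤ) := hs ⟨w, hFw⟩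
    set t₁ := b.repr ⟨x, hx⟩ 0
    set t₂ := b.repr ⟨w, hFw⟩ 0
    have e : t₂ • x = t₁ • w := by rw [hxe, hwe, smul_smul, smul_smul, mul_comm]
    have ht₂ : t₂ ≠ 0 := fun h => by
      rw [h, zero_smul] at hwe
      simp [hwe] at hcw
    refine ⟨∑ i, c i * x i, funext fun j => mul_left_cancel₀ ht₂ ?_⟩
    have e' : ∀ i, t₂ * x i = t₁ * w i := fun i => congrFun e i
    have e2 : t₂ * ∑ i, c i * x i = t₁ := by
      calc t₂ * ∑ i, c i * x i = ∑ i, c i * (t₁ * w i) := by
            rw [Finset.mul_sum]; exact Finset.sum_congr rfl fun i _ => by rw [← e' i]; ring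
        _ = t₁ * ∑ i, c i * w i := by rw [Finset.mul_sum]; exact Finset.sum_congr rfl fun i _ => by ring
        _ = t₁ := by rw [hcw, mul_one]
    rw [e' j, Pi.smul_apply, smul_eq_mul, ← mul_assoc, e2]
  set R := (LinearMap.range D).toAddSubgroup with hR
  have hK : (F.toAddMonoidHom).ker = AddSubgroup.zmultiples w := by
    ext x
    simp only [AddMonoidHom.mem_ker, LinearMap.toAddMonoidHom_coe, AddSubgroup.mem_zmultiples_iff]
    constructor
    · intro hx; obtain ⟨t, rfl⟩ := hker x hx; exact ⟨t, rfl⟩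
    · rintro ⟨t, rfl⟩; rw [map_zsmul, hFw, smul_zero]
  have hmap1 : (LinearMap.range (F ∘ₗ D)).toAddSubgroup = R.map F.toAddMonoidHom := by
    rw [LinearMap.range_comp]; ext x; simp [R]
  have hmap2 : (LinearMap.range F).toAddSubgroup = (⊤ : AddSubgroup (Fin n → ℤ)).map F.toAddMonoidHom := by
    ext x; simp
  rw [hmap1, hmap2, ← AddSubgroup.relIndex_comap, AddSubgroup.comap_map_eq, hK, AddSubgroup.relIndex_top_right]
  -- index of `R` in `R ⊔ ℤw`
  let f : ℤ →+ (Fin n → ℤ) := (smulAddHom ℤ (Fin n → ℤ)).flip w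
  have hf : ∀ t : ℤ, f t = t • w := fun t => rfl
  have hzm : AddSubgroup.zmultiples w = f.range := by
    ext x; simp [AddSubgroup.mem_zmultiples_iff, hf]
  have hcomap : R.comap f = AddSubgroup.zmultiples d := by
    ext t
    simp only [AddSubgroup.mem_comap, hf, R, Submodule.mem_toAddSubgroup, LinearMap.mem_range,
      AddSubgroup.mem_zmultiples_iff, smul_eq_mul]
    constructor
    · rintro ⟨y, hy⟩
      refine ⟨∑ i, c i * (w i * y i), ?_⟩
      have hy' : ∀ i, d * w i * y i = t * w i := fun i => by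
        have := congrFun hy i
        simp only [D, Matrix.mulVecLin_apply, Matrix.mulVec_diagonal, Pi.smul_apply, smul_eq_mul] at this
        rw [← this, hw i]
      calc (∑ i, c i * (w i * y i)) * d = ∑ i, c i * (d * w i * y i) := by
            rw [Finset.sum_mul]; exact Finset.sum_congr rfl fun i _ => by ring
        _ = t * ∑ i, c i * w i := by
            rw [Finset.mul_sum]; exact Finset.sum_congr rfl fun i _ => by rw [hy' i]; ring
        _ = t := by rw [hcw, mul_one]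
    · rintro ⟨s, rfl⟩
      refine ⟨fun _ => s, funext fun i => ?_⟩
      simp only [D, Matrix.mulVecLin_apply, Matrix.mulVec_diagonal, Pi.smul_apply, smul_eq_mul, hw i]
      ring
  have hrel : R.relIndex (R ⊔ AddSubgroup.zmultiples w) = d.natAbs := by
    rw [sup_comm, AddSubgroup.relIndex_sup_right, hzm, f.range_eq_map, ← AddSubgroup.relIndex_comap,
      hcomap, AddSubgroup.relIndex_top_right, Int.index_zmultiples]
  rw [← hrel, mul_comm, AddSubgroup.relIndex_mul_index le_sup_left, index_range_diagonal]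

/-- Let n ≥ 1, let D, D' : ℤⁿ → ℤⁿ be given by diagonal matrices with nonzero diagonal entries, A : ℤⁿ →
ℤⁿ an integer matrix of rank n - 1, S : ℤⁿ → ℤ the sum of the coordinates and Δ : ℤ → ℤⁿ the
diagonal embedding, with S D A = 0 and A D' Δ = 0; let d, d' be the greatest common divisors of the
diagonal entries of D and of D' (dℤ = im(S D), d'ℤ = im(S D')). Then #(ker(S D)/im A) · |det D| ·
|det D'| = d d' · #(ker S/im(D A D')). -/
theorem result (n : ℕ) (hn : 0 < n) (δ δ' : Fin n → ℤ) (hδ : ∀ i, δ i ≠ 0) (hδ' : ∀ i, δ' i ≠ 0)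
    (A : Matrix (Fin n) (Fin n) ℤ) (hA : A.rank = n - 1)
    (hSDA : (∑ i : Fin n, (LinearMap.proj i : (Fin n → ℤ) →ₗ[ℤ] ℤ)) ∘ₗ
        (Matrix.mulVecLin (Matrix.diagonal δ)) ∘ₗ (Matrix.mulVecLin A) = 0)
    (hADΔ : (Matrix.mulVecLin A) ∘ₗ (Matrix.mulVecLin (Matrix.diagonal δ')) ∘ₗ
        (LinearMap.pi fun _ : Fin n => (LinearMap.id : ℤ →ₗ[ℤ] ℤ)) = 0) :
    (Nat.card (LinearMap.ker ((∑ i : Fin n, (LinearMap.proj i : (Fin n → ℤ) →ₗ[ℤ] ℤ)) ∘ₗ (Matrix.mulVecLin (Matrix.diagonal δ))) ⧸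
          (LinearMap.range (Matrix.mulVecLin A)).comap (LinearMap.ker ((∑ i : Fin n, (LinearMap.proj i : (Fin n → ℤ) →ₗ[ℤ] ℤ)) ∘ₗ (Matrix.mulVecLin (Matrix.diagonal δ)))).subtype) : ℤ) * |∏ i, δ i| * |∏ i, δ' i| =
      (univ.gcd δ) * (univ.gcd δ') * Nat.card (LinearMap.ker (∑ i : Fin n, (LinearMap.proj i : (Fin n → ℤ) →ₗ[ℤ] ℤ)) ⧸
          (LinearMap.range ((Matrix.mulVecLin (Matrix.diagonal δ)) ∘ₗ (Matrix.mulVecLin A) ∘ₗ (Matrix.mulVecLin (Matrix.diagonal δ')))).comap (LinearMap.ker (∑ i : Fin n, (LinearMap.proj i : (Fin n → ℤ) →ₗ[ℤ] ℤ))).subtype) := by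
  set D := Matrix.mulVecLin (Matrix.diagonal δ)
  set D' := Matrix.mulVecLin (Matrix.diagonal δ')
  set F := Matrix.mulVecLin A
  have h0 : A.mulVec δ' = 0 := by
    have := DFunLike.congr_fun hADΔ 1
    simp only [LinearMap.comp_apply, F, D', Matrix.mulVecLin_apply, LinearMap.zero_apply] at this
    rw [← this]
    congr 1
    funext i
    simp [Matrix.mulVec_diagonal]
  have hle : LinearMap.range F ≤ LinearMap.ker (sumMap n ∘ₗ D) := by
    rintro _ ⟨y, rfl⟩
    exact DFunLike.congr_fun hSDA y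
  have hle' : LinearMap.range (F ∘ₗ D') ≤ LinearMap.range F := LinearMap.range_comp_le_range _ _
  have h := core hn δ hδ _ (hle'.trans hle)
  rw [card_quot, ← AddSubgroup.relIndex_mul_relIndex _ _ _ (show (LinearMap.range (F ∘ₗ D')).toAddSubgroup ≤
    (LinearMap.range F).toAddSubgroup from hle') (show (LinearMap.range F).toAddSubgroup ≤
    (LinearMap.ker (sumMap n ∘ₗ D)).toAddSubgroup from hle)] at h
  rw [← LinearMap.range_comp] at h
  have hd : ((Finset.univ.gcd δ').natAbs : ℤ) = Finset.univ.gcd δ' :=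
    Int.natAbs_of_nonneg (Int.nonneg_of_normalize_eq_self Finset.normalize_gcd)
  have h2 := congrArg (fun t : ℕ => (t : ℤ)) (relIndex_range_comp hn δ' hδ' A hA h0)
  push_cast at h2 h
  rw [Finset.abs_prod Finset.univ (fun i => δ' i), ← h2, ← Int.natCast_natAbs (Finset.univ.gcd δ'), hd, card_quot]
  linear_combination (univ.gcd δ') * h

end Groth.Agent.S14806
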