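import Groth.Statements.S14808
import Groth.Agent.H26PicS.Section

set_option autoImplicit false
universe u
open CategoryTheory CategoryTheory.Limits AlgebraicGeometry
open PicF

namespace Groth.Agent.S14808

/-- Let X be an integral scheme such that Γ(X, O_X) is a field and L an invertible O_X-module. If L has
a nonzero global section (a nonzero morphism O_X → L) and its dual has a nonzero global section (a
nonzero morphism L → O_X), then L is isomorphic to O_X. -/
theorem result (X : Scheme.{u}) [IsIntegral X]
    (hfield : IsField (Γ(X, ⊤) : Type u)) (L : X.Modules) (hL : PicF.IsInvertible L)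
    (s : Coh.structureModule X ⟶ L) (hs : s ≠ 0) (t : L ⟶ Coh.structureModule X) (ht : t ≠ 0) :
    Nonempty (L ≅ Coh.structureModule X) := by
  exact Groth.Agent.H26PicS.nonempty_iso hfield hL s hs t ht

end Groth.Agent.S14808
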