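import Groth.Statements.S14809
import Groth.Agent.H26PicS.Section

set_option autoImplicit false
universe u
open CategoryTheory CategoryTheory.Limits AlgebraicGeometry
open PicF

namespace Groth.Agent.S14809

/-- Let X be an integral scheme such that Γ(X, O_X) is a field and L an invertible O_X-module with a
nonzero global section (a nonzero morphism O_X → L). If some tensor power L^{⊗d} with d ≥ 1 is
isomorphic to O_X, then L itself is isomorphic to O_X. -/
theorem result (X : Scheme.{u}) [IsIntegral X]
    (hfield : IsField (Γ(X, ⊤) : Type u)) (L : X.Modules) (hL : PicF.IsInvertible L)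
    (s : Coh.structureModule X ⟶ L) (hs : s ≠ 0) (d : ℕ) (hd : 0 < d)
    (htriv : Nonempty (CohB1.tensorPow L d ≅ Coh.structureModule X)) :
    Nonempty (L ≅ Coh.structureModule X) := by
  exact Groth.Agent.H26PicS.nonempty_iso_of_tensorPow hfield hL s hs d hd htriv

end Groth.Agent.S14809
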