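import Groth.Statements.S14810
import Groth.Agent.H12Pic.SectionCurve

set_option autoImplicit false
universe u
open CategoryTheory CategoryTheory.Limits AlgebraicGeometry
open Pic13

namespace Groth.Agent.S14810

/-- Let X be an integral scheme, proper over a field k, such that Γ(X, O_X) is a field, and let L be an
invertible O_X-module which is numerically trivial: its restriction to every closed subscheme of X
which is integral of dimension one has degree 0. If L has a nonzero global section (a nonzero
morphism O_X → L), then L is isomorphic to O_X. -/
theorem result (k : Type u) [Field k] (X : Scheme.{u})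
    [X.Over (Spec (CommRingCat.of k))] [IsProper (X ↘ Spec (CommRingCat.of k))] [IsIntegral X]
    (hfield : IsField (Γ(X, ⊤) : Type u)) (L : X.Modules) (hL : PicF.IsInvertible L)
    (hnum : Pic13.IsNumEquivZero k X L) (s : Coh.structureModule X ⟶ L) (hs : s ≠ 0) :
    Nonempty (L ≅ Coh.structureModule X) := by
  exact Groth.Agent.H12Pic.SectionCurve.nonempty_iso_of_numTrivial k hL hnum s hs

end Groth.Agent.S14810
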