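import Groth.Statements.S14812
import Groth.Agent.H12Pic.NumTriv.Euler
import Groth.Agent.S14811
import Groth.Agent.H28Int.FieldExt
import Groth.Agent.H28Int.Num

set_option autoImplicit false
universe u
open CategoryTheory CategoryTheory.Limits AlgebraicGeometry
open Pic13

namespace Groth.Agent.S14812

/-- Take any field k, a proper k-scheme X and an invertible O_X-module L. Then L is numerically trivial
(degree 0 on every closed subscheme of X which is integral of dimension one) if and only if χ(F ⊗ L)
= χ(F) for every coherent O_X-module F; here χ is the alternating sum of the dimensions dim_k H^i(X,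
·) over 0 ≤ i ≤ d, for any natural number d bounding the dimension of X. The field k is not assumed
algebraically closed. -/
theorem result (k : Type u) [Field k] (X : Scheme.{u})
    [X.Over (Spec (CommRingCat.of k))] [IsProper (X ↘ Spec (CommRingCat.of k))] (L : X.Modules) (hL : PicF.IsInvertible L) :
    Pic13.IsNumEquivZero k X L ↔
      ∀ (F : X.Modules), Coh.IsCoh F → ∀ d : ℕ, topologicalKrullDim X ≤ d →
        FGA.eulerCharLE k X (CohB1.tensorMod F L) d = FGA.eulerCharLE k X F d := by
  open Groth.Agent Groth.Agent.H12Pic Groth.Agent.H12Pic.NumTriv in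
  haveI := H28Int.isNoetherian k (X := X)
  constructor
  · intro hnum F hF d hd
    let K := AlgebraicClosure k
    let X' := pullback (X ↘ Spec (CommRingCat.of k)) (Spec.map (CommRingCat.ofHom (algebraMap k K)))
    letI : X'.Over (Spec (CommRingCat.of K)) := ⟨pullback.snd _ _⟩
    haveI : IsProper (X' ↘ Spec (CommRingCat.of K)) := inferInstanceAs (IsProper (pullback.snd _ _))
    let q : X' ⟶ X := pullback.fst _ _
    have hsq : IsPullback q (X' ↘ Spec (CommRingCat.of K)) (X ↘ Spec (CommRingCat.of k))
        (Spec.map (CommRingCat.ofHom (algebraMap k K))) := IsPullback.of_hasPullback _ _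
    haveI := H28Int.isNoetherian K (X := X')
    have hN : NT K ((Scheme.Modules.pullback q).obj L) :=
      ⟨H11Ample.isInvertible_pullback q hL, (S14811.result k X L hL K).1 hnum⟩
    have hc : Coh.IsCoh (CohB1.tensorMod F L) := H11Ample.isCoh_tensor hF hL
    rw [H28Int.eulerCharLE_eq k hd hc.1, H28Int.eulerCharLE_eq k hd hF.1,
      ← H28Int.FieldExt.euler_bc K hsq hc, ← H28Int.FieldExt.euler_bc K hsq hF]
    exact (H25Euler.euler_congr (((H16Derived.KFlat.Stalk.pullTensorLIso q L).app F) ≪≫ H10Coh.Tw.commIso _ _)).trans
      (euler_tensor_eq K (H17.ConsProp.isCoh_pullback q hF) hN)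
  · intro h
    refine (num_iff_Q k hL).2 fun Z i _ _ _ => ?_
    obtain ⟨d, hd⟩ := exists_dim k (X := X)
    have hF : Coh.IsCoh (ClSub.quotMod i.ker) := LeadDev.isCoh_push_structure _
    have e := h _ hF d hd
    rw [H28Int.eulerCharLE_eq k hd (H11Ample.isCoh_tensor hF hL).1, H28Int.eulerCharLE_eq k hd hF.1] at e
    show (-1 : ℤ) ^ 1 * (Curv2.euler k X _ - Curv2.euler k X (CohB1.tensorMod L _)) = 0
    rw [H25Euler.euler_congr (H10Coh.Tw.commIso L _), e, sub_self, mul_zero]

end Groth.Agent.S14812
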