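import Groth.Statements.S14813
import Groth.Agent.H28RR.EtaleEuler
import Groth.Agent.S4717

set_option autoImplicit false
universe u
open CategoryTheory CategoryTheory.Limits AlgebraicGeometry
open Groth.Agent
open FGA

namespace Groth.Agent.S14813

/-- Let k be an arbitrary field and let X and X' be smooth, integral, proper k-schemes, X of dimension
n, with an étale k-morphism φ : X' → X (it is then finite étale); suppose φ is finite locally free
of constant degree d. Then χ(O_{X'}) = d · χ(O_X), where χ denotes the alternating sum of dim_k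
H^i(·, O) over 0 ≤ i ≤ n (X' has dimension n as well). -/
theorem result (k : Type u) [Field k] (X X' : Scheme.{u})
    [X.Over (Spec (CommRingCat.of k))] [X'.Over (Spec (CommRingCat.of k))]
    [IsProper (X ↘ Spec (CommRingCat.of k))] [IsProper (X' ↘ Spec (CommRingCat.of k))] [Smooth (X ↘ Spec (CommRingCat.of k))] [Smooth (X' ↘ Spec (CommRingCat.of k))]
    [IsIntegral X] [IsIntegral X'] (φ : X' ⟶ X) [Etale φ] (hφ : φ ≫ (X ↘ Spec (CommRingCat.of k)) = X' ↘ Spec (CommRingCat.of k))
    (d : ℕ) (hd : Mor2.IsFinLocFreeOfDeg d φ) (n : ℕ) (hn : topologicalKrullDim X = n) :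
    FGA.eulerCharLE k X' (Coh.structureModule X') n = d * FGA.eulerCharLE k X (Coh.structureModule X) n := by
  haveI := H28Int.isNoetherian k (X := X)
  haveI := H28Int.isNoetherian k (X := X')
  haveI : IsFinite φ := hd.1.1
  haveI : Flat φ := hd.1.2.1
  have h := H28RR.EtaleEuler.euler_pullback_etale k d φ hφ (H28RR.EtaleEuler.mult0_of_deg k φ hφ d hd)
    (Coh.structureModule X) (H10Coh.isCoh_structureModule' X)
  rw [H25Euler.euler_congr (H16Derived.KFlat.Stalk.structurePullbackIso φ)] at h
  have hn' : topologicalKrullDim X' ≤ (n : WithBot ℕ∞) := ((S4717.result φ).1.le.trans Topology.IsInducing.subtypeVal.topologicalKrullDim_le).trans hn.le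
  rw [H28Int.eulerCharLE_eq k hn' H10Coh.isQuasicoherent_unit, H28Int.eulerCharLE_eq k hn.le H10Coh.isQuasicoherent_unit]
  exact h

end Groth.Agent.S14813
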