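import Groth.Statements.S14814
import Groth.Agent.H12Pic.RigidH1
import Groth.Agent.S14811
import Groth.Agent.H8Props.IsoDescent.Basic
import Groth.Agent.H7Lim.GeomConnFinite
import Groth.Agent.H17.FiniteSplit.Basic
import Groth.Agent.H12Pic.NormTrivial
import Groth.Agent.H25AbCube.Descent
import Groth.Agent.H28Int.FieldExt

set_option linter.style.haveILetI false
set_option autoImplicit false
set_option backward.isDefEq.respectTransparency.types false
universe u
open CategoryTheory CategoryTheory.Limits AlgebraicGeometry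
open Pic13

namespace Groth.Agent.S14814

/-- Take any field k and a proper k-scheme X with H^1(X, O_X) = 0. Then the group of numerically trivial
invertible sheaves is torsion: every invertible O_X-module L whose restriction to each closed
subscheme of X which is integral of dimension one has degree 0 satisfies L^{⊗d} ≅ O_X for some d ≥
1. -/
theorem result (k : Type u) [Field k] (X : Scheme.{u})
    [X.Over (Spec (CommRingCat.of k))] [IsProper (X ↘ Spec (CommRingCat.of k))]
    (h1 : Subsingleton (Coh.HH X (Coh.structureModule X) 1))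
    (L : X.Modules) (hL : PicF.IsInvertible L) (hnum : Pic13.IsNumEquivZero k X L) :
    ∃ d : ℕ, 0 < d ∧ Nonempty (CohB1.tensorPow L d ≅ Coh.structureModule X) := by
  haveI := H28Int.isNoetherian k (X := X)
  let K := AlgebraicClosure k
  let p := X ↘ Spec (CommRingCat.of k)
  let b : Spec (CommRingCat.of K) ⟶ Spec (CommRingCat.of k) := Spec.map (CommRingCat.ofHom (algebraMap k K))
  letI oY : (pullback p b).Over (Spec (CommRingCat.of K)) := ⟨pullback.snd p b⟩
  haveI : IsProper (pullback p b ↘ Spec (CommRingCat.of K)) := inferInstanceAs (IsProper (pullback.snd p b))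
  haveI := H28Int.isNoetherian K (X := pullback p b)
  let π := pullback.fst p b
  let Q := Scheme.Modules.pullback π
  have hnumK : Pic13.IsNumEquivZero K (pullback p b) (Q.obj L) := (Groth.Agent.S14811.result k X L hL K).1 hnum
  have h1K : Subsingleton (Coh.HH (pullback p b) (Coh.structureModule (pullback p b)) 1) := by
    have hO : Coh.IsCoh (Coh.structureModule X) := H10Coh.isCoh_structureModule' X
    have he := H28Int.FieldExt.finrank_HH_bc K (IsPullback.of_hasPullback p b) hO 1
    haveI := h1
    have h0 : Module.finrank k (Coh.HH X (Coh.structureModule X) 1) = 0 := Module.finrank_zero_of_subsingleton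
    rw [h0] at he
    haveI hfin := H10Coh.finite_HH_proper K (pullback p b) _
      (H11Ample.isCoh_of_isInvertible (H11Ample.isInvertible_pullback π H11Ample.isInvertible_structureModule)) 1
    exact H10Coh.subsingleton_HH_of_iso (H16Derived.KFlat.Stalk.structurePullbackIso π) 1
      (Module.finrank_zero_iff.1 he)
  obtain ⟨d, hd, ⟨e⟩⟩ := H12Pic.RigidH1.exists_pow_trivial K h1K
    ⟨H11Ample.isInvertible_pullback π hL, hnumK⟩
  obtain ⟨w⟩ := H11Ample.exists_iso_pullback_tensorPow π hL d
  -- descent to a finite extension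
  haveI : Nonempty (Finset K) := ⟨∅⟩
  let D := (H7Lim.GeomConnFinite.fieldFunctor k K).op ⋙ Scheme.Spec
  let c : Cone D := Scheme.Spec.mapCone (H7Lim.GeomConnFinite.fieldCocone k K).op
  have hc : IsLimit c := isLimitOfPreserves Scheme.Spec (H7Lim.GeomConnFinite.fieldIsColimit k K).op
  haveI : ∀ (i j : (Finset K)ᵒᵖ) (g : i ⟶ j), IsAffineHom (D.map g) := fun i j g =>
    inferInstanceAs (IsAffineHom (Spec.map _))
  haveI : ∀ i, CompactSpace (D.obj i) := fun i => inferInstanceAs (CompactSpace (Spec _))
  haveI : ∀ i, QuasiSeparatedSpace (D.obj i) := fun i => inferInstanceAs (QuasiSeparatedSpace (Spec _))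
  let st : D.obj (Opposite.op ∅) ⟶ Spec (CommRingCat.of k) := Spec.map (CommRingCat.ofHom
    (algebraMap k (IntermediateField.adjoin k ((∅ : Finset K) : Set K))))
  obtain ⟨l, φ, ⟨el⟩⟩ := H8Props.IsoDescent.exists_isoAlong_of_base (D := D) (c := c) hc p
    (F := CohB1.tensorPow L d) (G := Coh.structureModule X)
    (H25AbCube.finPres_of_inv (H11Ample.isInvertible_tensorPow hL d))
    (H25AbCube.finPres_of_inv H11Ample.isInvertible_structureModule) st b
    ((Spec.map_comp _ _).symm.trans (congrArg Spec.map (CommRingCat.hom_ext (RingHom.ext fun _ => rfl))))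
    ⟨w ≪≫ e ≪≫ (H16Derived.KFlat.Stalk.structurePullbackIso π).symm⟩
  let E := IntermediateField.adjoin k ((Opposite.unop l : Finset K) : Set K)
  have hst : D.map φ ≫ st = Spec.map (CommRingCat.ofHom (algebraMap k E)) :=
    (Spec.map_comp _ _).symm.trans (congrArg Spec.map (CommRingCat.hom_ext (RingHom.ext fun _ => rfl)))
  haveI : FiniteDimensional k E :=
    IntermediateField.finiteDimensional_adjoin fun x _ => Algebra.IsIntegral.isIntegral x
  have hfl : Mor2.IsFinLocFree (Spec.map (CommRingCat.ofHom (algebraMap k E))) :=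
    H17.FiniteSplit.isFinLocFree_SpecMap
  have hdegE : Mor2.IsFinLocFreeOfDeg (Module.finrank k E) (Spec.map (CommRingCat.ofHom (algebraMap k E))) := by
    refine ⟨hfl, fun y => ?_⟩
    rw [Scheme.Hom.finrank_SpecMap_algebraMap, Module.rankAtStalk_eq_finrank_of_free]
    rfl
  have hbase : ∀ {T : Scheme.{u}} (g : T ⟶ Spec (CommRingCat.of k)), Mor2.IsFinLocFreeOfDeg (Module.finrank k E) g →
      Mor2.IsFinLocFreeOfDeg (Module.finrank k E) (pullback.fst p g) := fun {T} g ⟨⟨h1, h2, h3⟩, h4⟩ => by
    haveI := h1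
    haveI := h2
    haveI := h3
    exact ⟨⟨MorphismProperty.pullback_fst (P := @IsFinite) _ _ h1, MorphismProperty.pullback_fst (P := @Flat) _ _ h2,
      MorphismProperty.pullback_fst (P := @LocallyOfFinitePresentation) _ _ h3⟩,
      fun y => by rw [Scheme.Hom.finrank_pullback_fst]; exact h4 _⟩
  have hdeg := hbase (D.map φ ≫ st)
    (Eq.mpr (congrArg (fun g : D.obj l ⟶ Spec (CommRingCat.of k) => Mor2.IsFinLocFreeOfDeg (Module.finrank k E) g) hst) hdegE)
  have hE := H12Pic.tensorPow_trivial_of_pullback _ _ hdeg (CohB1.tensorPow L d) (H11Ample.isInvertible_tensorPow hL d)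
    ⟨el ≪≫ H16Derived.KFlat.Stalk.structurePullbackIso _⟩
  have hmul : ∀ j, Nonempty (CohB1.tensorPow (CohB1.tensorPow L d) j ≅ CohB1.tensorPow L (d * j)) := fun j => by
    induction j with
    | zero => exact ⟨Iso.refl _⟩
    | succ j ih =>
      obtain ⟨i⟩ := ih
      obtain ⟨s⟩ := H12Pic.RigidH1.nonempty_pow_add (M := L) (d * j) d
      exact ⟨PicGrp.tensorModIso i (Iso.refl _) ≪≫ s⟩
  obtain ⟨i⟩ := hmul (Module.finrank k E)
  obtain ⟨j⟩ := hE
  exact ⟨d * Module.finrank k E, Nat.mul_pos hd Module.finrank_pos, ⟨i.symm ≪≫ j⟩⟩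

end Groth.Agent.S14814
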