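import Groth.Statements.S14816
import Groth.Agent.H25AbCube.FiniteFieldPoints


set_option autoImplicit false
set_option linter.style.haveILetI false
set_option backward.isDefEq.respectTransparency false
set_option synthInstance.maxHeartbeats 200000
universe u
open CategoryTheory MonoidalCategory CartesianMonoidalCategory MonObj GrpObj AlgebraicGeometry
open AbVar

namespace Groth.Agent.S14816

/-- Let k be an algebraically closed field of characteristic p > 0 which is algebraic over its prime
field (every element x satisfies x^(p^n) = x for some n ≥ 1) and let A be an abelian variety over k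
(a proper, geometrically integral group scheme over k). Then every k-rational point of A has finite
order in the group A(k) of k-points. -/
theorem result
    (p : ℕ) [Fact (Nat.Prime p)] (k : Type u) [Field k] [IsAlgClosed k] [CharP k p]
    (halg : ∀ x : k, ∃ n : ℕ, 0 < n ∧ x ^ (p ^ n) = x)
    (A : Over (Spec (CommRingCat.of k))) [GrpObj A] [IsProper A.hom] [GeometricallyIntegral A.hom]
    (a : 𝟙_ (Over (Spec (CommRingCat.of k))) ⟶ A) : IsOfFinOrder a := by
  classical
  haveI : CompactSpace A.left := QuasiCompact.compactSpace_of_compactSpace A.hom
  let f : A ⟶ A := 𝟙 A * (toUnit A ≫ a)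
  have hs : ∀ n : ℕ, (a ^ (n + 1)).left = (a ^ n).left ≫ f.left := fun n => by
    rw [← Over.comp_left, pow_succ, MonObj.comp_mul, Category.comp_id, ← Category.assoc, comp_toUnit,
      toUnit_unique (toUnit (𝟙_ _)) (𝟙 _), Category.id_comp]
  have hfin := H25AbCube.finite_orbit (p := p) A.hom halg f.left (Over.w f) (fun n => (a ^ n).left)
    (fun n => Over.w (a ^ n)) hs
  by_contra hinf
  exact Set.infinite_range_of_injective (fun m n h =>
    injective_pow_iff_not_isOfFinOrder.2 hinf (Over.OverMorphism.ext h)) hfin

end Groth.Agent.S14816
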