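import Groth.Statements.S14819
import Groth.Agent.H12Pic.PTorsion
import Groth.Agent.H13AlgSp.EtaleLocally
import Groth.Agent.H11Ample.Converse
import Groth.Agent.H10Coh.SerreVanishing2
import Groth.Agent.H10Coh.TensorBasics
-- import your own Groth.Agent.* helpers here

set_option autoImplicit false
universe u
open CategoryTheory CategoryTheory.Limits AlgebraicGeometry
open PicF

namespace Groth.Agent.S14819

/-- Let X be an integral Noetherian scheme which is normal (all local rings integrally closed domains)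
and whose ring of global functions Γ(X, O_X) is a field of characteristic p > 0; let L be an
invertible O_X-module of exact order d in Pic(X), i.e. L^{⊗d} ≅ O_X with d ≥ 1 and L^{⊗i} not
isomorphic to O_X for 0 < i < d, and suppose p divides d. Let X' be a connected scheme such that
every unit of Γ(X', O_{X'}) has a p-th root. Then no finite étale morphism f : X' → X (a finite
étale covering of X by X') satisfies f^*L ≅ O_{X'}. -/
theorem result (X X' : Scheme.{u})
    [IsIntegral X] [IsNoetherian X] (hnorm : Pi1.IsNormalScheme X)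
    (hfield : IsField (Γ(X, ⊤) : Type u)) (p : ℕ) [Fact (Nat.Prime p)] [CharP (Γ(X, ⊤) : Type u) p]
    (L : X.Modules) (hL : PicF.IsInvertible L) (d : ℕ) (hd : 0 < d)
    (hord : Nonempty (CohB1.tensorPow L d ≅ Coh.structureModule X))
    (hmin : ∀ i : ℕ, 0 < i → i < d → IsEmpty (CohB1.tensorPow L i ≅ Coh.structureModule X))
    (hpd : p ∣ d) [ConnectedSpace X']
    (hroot : ∀ u : (Γ(X', ⊤) : Type u), IsUnit u → ∃ v : (Γ(X', ⊤) : Type u), v ^ p = u)
    (f : X' ⟶ X) [IsFinite f] [Etale f] :
    IsEmpty ((Scheme.Modules.pullback f).obj L ≅ Coh.structureModule X') := by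
  open Groth.Agent in
  refine ⟨fun e => ?_⟩
  have hp : p.Prime := Fact.out
  obtain ⟨m, hm⟩ := hpd
  have hm0 : 0 < m := Nat.pos_of_ne_zero fun h => by rw [h, mul_zero] at hm; omega
  have hmd : m < d := hm ▸ lt_mul_of_one_lt_left hm0 hp.one_lt
  haveI : Surjective f := ⟨fun x => by
    haveI : Flat f := inferInstance
    have hop : IsOpen (Set.range f) := f.isOpenMap.isOpen_range
    have hcl : IsClosed (Set.range f) := f.isClosedMap.isClosed_range
    exact Set.mem_range.1 ((IsClopen.eq_univ ⟨hcl, hop⟩ (Set.range_nonempty f)).symm ▸ Set.mem_univ x)⟩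
  haveI : Etale (pullback.fst f f ≫ f) := inferInstance
  haveI : IsReduced (pullback f f) := H13AlgSp.isReduced_of_smooth_mor (pullback.fst f f ≫ f)
  have hL' := H11Ample.isInvertible_tensorPow hL m
  obtain ⟨φ, -⟩ := H11Ample.exists_iso_mul hL m p
  obtain ⟨ψ⟩ := hord
  obtain ⟨θ⟩ := H11Ample.exists_iso_pullback_tensorPow f hL m
  obtain ⟨χ⟩ := H12Pic.PTorsion.nonempty_iso_of_pullback f hp (CharP.cast_eq_zero _ p) hL'
    (φ ≪≫ eqToIso (by rw [mul_comm, ← hm]) ≪≫ ψ)
    (θ ≪≫ H10Coh.Tw.tensorPowIso e m ≪≫ H10Coh.Tw.powUnitIso m) hroot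
  exact (hmin m hm0 hmd).false χ

end Groth.Agent.S14819
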