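import Groth.Statements.S14821
import Groth.Agent.H10ZMT.Basic
-- import your own Groth.Agent.* helpers here

set_option autoImplicit false
universe u
open CategoryTheory CategoryTheory.Limits AlgebraicGeometry
open CohIII

namespace Groth.Agent.S14821

/-- Let k be a field and f : X → Y a surjective k-morphism between integral proper k-schemes which are
both normal (all local rings integrally closed domains). Then f is a fibration, i.e. O_Y → f_*O_X is
an isomorphism (Γ(U, O_Y) → Γ(f⁻¹U, O_X) is bijective for every open U ⊆ Y), exactly when K(Y) is
algebraically closed inside K(X): every element of the function field of X which is integral over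
the function field of Y, embedded through the stalk map of f at the generic points, lies in the
image of K(Y). (The published statement assumes only Y normal; without normality of X the forward
implication fails — for a quadratic field extension k ⊂ k', the projective line over k' with one
k'-rational point pinched to a k-rational point, mapped to Spec k, has ring of global functions k
although k is not algebraically closed in its function field k'(t) — and the published proof
resolves the indeterminacy of a rational map on the generic fibre by a graph whose projection is a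
fibration, which needs X normal; so this row assumes X normal as well. The reverse implication holds
without it.) -/
theorem result (k : Type u) [Field k]
    (X Y : Scheme.{u}) [X.Over (Spec (CommRingCat.of k))] [Y.Over (Spec (CommRingCat.of k))]
    [IsProper (X ↘ Spec (CommRingCat.of k))] [IsProper (Y ↘ Spec (CommRingCat.of k))] [IsIntegral X] [IsIntegral Y]
    (hX : Pi1.IsNormalScheme X) (hY : Pi1.IsNormalScheme Y) (f : X ⟶ Y) [Surjective f] (hf : f ≫ (Y ↘ Spec (CommRingCat.of k)) = X ↘ Spec (CommRingCat.of k))
    (h : f.base (genericPoint ↥X) ⤳ genericPoint ↥Y) :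
    (∀ U : Y.Opens, IsIso (f.app U)) ↔
      ∀ x : ↑X.functionField, (CohIII.stalkToFunctionField f (genericPoint ↥Y) h).IsIntegralElem x → x ∈ (CohIII.stalkToFunctionField f (genericPoint ↥Y) h).range := by
  let φ := CohIII.stalkToFunctionField f (genericPoint ↥Y) h
  have : IsProper f := by
    have : IsProper (f ≫ (Y ↘ Spec (CommRingCat.of k))) := by rw [hf]; infer_instance
    exact IsProper.of_comp f (Y ↘ Spec (CommRingCat.of k))
  constructor
  · intro hiso x hx
    obtain ⟨_, ⟨V, hV, rfl⟩, hηV, -⟩ :=
      Y.isBasis_affineOpens.exists_subset_of_mem_open (Set.mem_univ (genericPoint ↥Y)) isOpen_univ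
    have : Nonempty V := ⟨⟨_, hηV⟩⟩
    have hξ : genericPoint ↥X ∈ f ⁻¹ᵁ V := h.mem_open V.2 hηV
    have := functionField_isFractionRing_of_isAffineOpen Y V hV
    let : Algebra Y.functionField X.functionField := φ.toAlgebra
    let : Algebra Γ(Y, V) X.functionField :=
      (φ.comp (algebraMap Γ(Y, V) Y.functionField)).toAlgebra
    have : IsScalarTower Γ(Y, V) Y.functionField X.functionField := .of_algebraMap_eq fun _ => rfl
    obtain ⟨m, hm⟩ := IsIntegral.exists_multiple_integral_of_isLocalization (nonZeroDivisors Γ(Y, V))
      (Rₘ := Y.functionField) x hx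
    let z : X.functionField := φ (algebraMap Γ(Y, V) Y.functionField m) * x
    have hnat : ∀ a, φ (algebraMap Γ(Y, V) Y.functionField a) =
        X.presheaf.germ (f ⁻¹ᵁ V) _ hξ (f.app V a) :=
      H10ZMT.stalkToFunctionField_germ f h V hηV hξ
    obtain ⟨P, hP, hP'⟩ := hm
    obtain ⟨b, hb⟩ := H7Lim.exists_germ_eq_of_isIntegralElem (fun p => (hX p).2) hξ (z := z)
      ⟨P.map (f.app V).hom, hP.map _, by
        rw [Polynomial.eval₂_map, ← show algebraMap Γ(Y, V) X.functionField =
          (X.presheaf.germ (f ⁻¹ᵁ V) _ hξ).hom.comp (f.app V).hom from RingHom.ext hnat]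
        rwa [Submonoid.smul_def, Algebra.smul_def] at hP'⟩
    have := hiso V
    obtain ⟨a, rfl⟩ := (ConcreteCategory.bijective_of_isIso (f.app V)).2 b
    refine ⟨algebraMap Γ(Y, V) Y.functionField a / algebraMap Γ(Y, V) Y.functionField m, ?_⟩
    show φ _ = x
    rw [map_div₀, hnat a, hb]
    exact mul_div_cancel_left₀ x ((map_ne_zero φ).2 (IsFractionRing.to_map_ne_zero_of_mem_nonZeroDivisors m.2))
  · intro hint
    have halg : ∀ x : X.functionField, (∃ q : Polynomial Y.functionField, q ≠ 0 ∧
        Polynomial.eval₂ φ x q = 0) → x ∈ Set.range φ := by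
      rintro x ⟨q, hq, hq'⟩
      let : Algebra Y.functionField X.functionField := φ.toAlgebra
      exact hint x (isAlgebraic_iff_isIntegral.1 ⟨q, hq, hq'⟩)
    refine fun U => H10ZMT.isIso_app_of_affine f (fun V hV => ?_) U
    obtain ⟨hinj, hsurj⟩ := H10ZMT.app_integral_elems hY f h halg V
    exact ⟨hinj, fun b => hsurj b (H10ZMT.isIntegral_app f V hV b)⟩

end Groth.Agent.S14821
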