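import Groth.Statements.S14822
import Groth.Agent.H10ZMT.Basic
import Groth.Agent.H22Alg.VarDim
import Groth.Agent.H17.Dim
import Groth.Agent.S10830
-- import your own Groth.Agent.* helpers here

set_option autoImplicit false
universe u
open CategoryTheory CategoryTheory.Limits AlgebraicGeometry
open CohIII

namespace Groth.Agent.S14822

/-- Let k be a field and f : X → Y a surjective k-morphism between integral proper k-schemes of the same
dimension, with Y normal (all local rings integrally closed domains). Then f is a fibration (Γ(U,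
O_Y) → Γ(f⁻¹U, O_X) bijective for every open U ⊆ Y) if and only if f is birational: the embedding
K(Y) → K(X) of function fields given by the stalk map at the generic points is bijective. -/
theorem result (k : Type u) [Field k]
    (X Y : Scheme.{u}) [X.Over (Spec (CommRingCat.of k))] [Y.Over (Spec (CommRingCat.of k))]
    [IsProper (X ↘ Spec (CommRingCat.of k))] [IsProper (Y ↘ Spec (CommRingCat.of k))] [IsIntegral X] [IsIntegral Y]
    (hY : Pi1.IsNormalScheme Y) (f : X ⟶ Y) [Surjective f] (hf : f ≫ (Y ↘ Spec (CommRingCat.of k)) = X ↘ Spec (CommRingCat.of k))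
    (hdim : topologicalKrullDim ↥X = topologicalKrullDim ↥Y)
    (h : f.base (genericPoint ↥X) ⤳ genericPoint ↥Y) :
    (∀ U : Y.Opens, IsIso (f.app U)) ↔ Function.Bijective (CohIII.stalkToFunctionField f (genericPoint ↥Y) h) := by
  let φ := CohIII.stalkToFunctionField f (genericPoint ↥Y) h
  have : IsProper f := by
    have : IsProper (f ≫ (Y ↘ Spec (CommRingCat.of k))) := by rw [hf]; infer_instance
    exact IsProper.of_comp f (Y ↘ Spec (CommRingCat.of k))
  constructor
  · intro hiso
    refine ⟨φ.injective, ?_⟩
    have := H10ZMT.isIso_fromNormalization f fun V _ => by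
      have := hiso V
      exact ⟨(ConcreteCategory.bijective_of_isIso (f.app V)).1,
        fun b _ => (ConcreteCategory.bijective_of_isIso (f.app V)).2 b⟩
    obtain ⟨V, hV, hVqf⟩ := H10ZMT.exists_open_isIso_quasiFinite f
    have hgen := H10ZMT.apply_genericPoint f h
    have hfin : topologicalKrullDim ↥X ≠ ⊤ := by
      obtain ⟨s, hs, -⟩ := H22Alg.VarDim.exists_cdim_trdeg k X (genericPoint ↥X)
      rw [← H22Alg.VarDim.cdim_genericPoint, hs]
      exact fun h => ENat.coe_ne_top s (WithBot.coe_injective h)
    have hone : ∀ x : X, f x = genericPoint ↥Y → x = genericPoint ↥X := by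
      intro x hx
      by_contra hne
      have hne' : closure ({x} : Set X) ≠ Set.univ := fun hu => hne <| by
        have : x ⤳ genericPoint ↥X := specializes_iff_mem_closure.2 (hu ▸ Set.mem_univ _)
        exact (this.antisymm ((genericPoint_spec X).specializes (Set.mem_univ x))).eq
      have hlt := Groth.Agent.S10830.result ↥X hfin (closure {x}) isClosed_closure hne'
      have := (isClosed_closure (s := ({x} : Set X))).isClosedEmbedding_subtypeVal.quasiSober
      have hcl : IsClosedMap ((f : X → Y) ∘ (Subtype.val : closure ({x} : Set X) → X)) :=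
        f.isClosedMap.comp isClosed_closure.isClosedEmbedding_subtypeVal.isClosedMap
      have hle := H17.topologicalKrullDim_le_of_specializingMap
        ((f : X → Y) ∘ (Subtype.val : closure ({x} : Set X) → X)) hcl.specializingMap fun y => by
          exact ((genericPoint_spec Y).specializes (Set.mem_univ y)).mem_closed hcl.isClosed_range
            ⟨⟨x, subset_closure rfl⟩, hx⟩
      exact absurd (hdim ▸ hlt) (not_lt.2 hle)
    have : LocallyOfFiniteType (f.fiberToSpecResidueField (genericPoint ↥Y)) :=
      MorphismProperty.pullback_snd (P := @LocallyOfFiniteType) _ _ inferInstance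
    have : JacobsonSpace ↥(f.fiber (genericPoint ↥Y)) :=
      LocallyOfFiniteType.jacobsonSpace (f.fiberToSpecResidueField (genericPoint ↥Y))
    have : Finite ↥(f.fiber (genericPoint ↥Y)) := (f.fiberHomeo _).finite_iff.mpr
      ((Set.finite_singleton (genericPoint ↥X)).subset fun x hx => hone x hx).to_subtype
    obtain ⟨z, hz⟩ : genericPoint ↥X ∈ Set.range (f.fiberι (genericPoint ↥Y)) := by
      rw [Scheme.Hom.range_fiberι]; exact hgen
    obtain ⟨-, hq⟩ := H10ZMT.quasiFiniteAt_of_isOpen_singleton f (x := z) (isOpen_discrete _)
    have hξV : genericPoint ↥X ∈ f ⁻¹ᵁ V := (hVqf _).2 (hz ▸ hq)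
    have : IsIso (f.stalkMap (genericPoint ↥X)) :=
      ((MorphismProperty.isomorphisms CommRingCat).arrow_mk_iso_iff
        (morphismRestrictStalkMap f V ⟨_, hξV⟩)).1 (MorphismProperty.isomorphisms.infer_property _)
    exact H10ZMT.stalkToFunctionField_surjective f hgen
      (ConcreteCategory.bijective_of_isIso (f.stalkMap (genericPoint ↥X))).2 h
  · intro hbij U
    refine H10ZMT.isIso_app_of_affine f (fun V hV => ?_) U
    obtain ⟨hinj, hsurj⟩ := H10ZMT.app_integral_elems hY f h (fun x _ => hbij.2 x) V
    exact ⟨hinj, fun b => hsurj b (H10ZMT.isIntegral_app f V hV b)⟩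

end Groth.Agent.S14822
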