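import Groth.Statements.S14825
import Groth.Agent.H25Rig.GroupMaps
import Groth.Agent.H10Coh.Pn.Results
import Mathlib

set_option autoImplicit false
universe u
open CategoryTheory MonoidalCategory CartesianMonoidalCategory MonObj GrpObj AlgebraicGeometry
open AbVar

namespace Groth.Agent.S14825

/-- In the pointed case, let k be a field and X a proper k-scheme with H^0(X, O_X) one-dimensional and a
k-rational point x₀; let alb : X → A be the Albanese morphism (A an abelian variety over k — proper,
geometrically integral group scheme — with alb(x₀) = 0, universal among pointed k-morphisms from X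
to abelian varieties, the latter being geometrically reduced, connected, proper group schemes). Then
X has Albanese dimension zero, i.e. the image of alb is a single point of A (X is connected, so this
says the image is zero-dimensional), if and only if A is the trivial abelian variety, i.e. A → Spec
k is an isomorphism. (The published statement does not assume a rational point (it works with the
Albanese torsor); this row assumes one.) -/
theorem result (k : Type u) [Field k] (X : Scheme.{u}) [X.Over (Spec (CommRingCat.of k))]
    [IsProper (X ↘ Spec (CommRingCat.of k))] (h0 : Module.finrank k (Coh.HH X (Coh.structureModule X) 0) = 1)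
    (x₀ : 𝟙_ (Over (Spec (CommRingCat.of k))) ⟶ Over.mk (X ↘ Spec (CommRingCat.of k)))
    (A : Over (Spec (CommRingCat.of k))) [GrpObj A] [IsProper A.hom] [GeometricallyIntegral A.hom]
    (alb : Over.mk (X ↘ Spec (CommRingCat.of k)) ⟶ A) (halb : x₀ ≫ alb = η[A])
    (huniv : ∀ (B : Over (Spec (CommRingCat.of k))) [GrpObj B] [IsProper B.hom] [GeometricallyReduced B.hom] [ConnectedSpace ↥B.left]
      (g : Over.mk (X ↘ Spec (CommRingCat.of k)) ⟶ B), x₀ ≫ g = η[B] → ∃! h : A ⟶ B, IsMonHom h ∧ alb ≫ h = g) :
    (Set.range alb.left.base).Subsingleton ↔ IsIso A.hom := by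
  haveI : IsSeparated A.hom := inferInstance
  constructor
  · intro hsub
    let f := X ↘ Spec (CommRingCat.of k)
    haveI : IsProper f := ‹_›
    have hb : Function.Bijective f.appTop := by
      letI := Groth.Agent.H22Alg.GlobalFunctions.algΓ f
      let e : Coh.HH X (Coh.structureModule X) 0 ≃ₗ[k] Γ(X, ⊤) :=
        { Groth.Agent.H10Coh.HH0Equiv (Coh.structureModule X) with
          map_smul' := fun c x => (Groth.Agent.H10Coh.HH0Equiv_smul (Coh.structureModule X)
            (f.appTop ((Scheme.ΓSpecIso (CommRingCat.of k)).inv c)) x).trans rfl }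
      rw [e.finrank_eq] at h0
      haveI : FiniteDimensional k Γ(X, ⊤) := Module.finite_of_finrank_eq_succ h0
      haveI : Nontrivial Γ(X, ⊤) := Module.nontrivial_of_finrank_eq_succ h0
      have hb' : Function.Bijective (algebraMap k Γ(X, ⊤)) :=
        ⟨(algebraMap k Γ(X, ⊤)).injective,
          (LinearMap.injective_iff_surjective_of_finrank_eq_finrank (f := Algebra.linearMap k Γ(X, ⊤))
            (by rw [h0, Module.finrank_self])).mp (algebraMap k Γ(X, ⊤)).injective⟩
      exact (Function.Bijective.of_comp_iff _
        (Scheme.ΓSpecIso (CommRingCat.of k)).symm.commRingCatIsoToRingEquiv.bijective).mp hb'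
    haveI : IsIso f.appTop := (ConcreteCategory.isIso_iff_bijective _).mpr hb
    let pk : ↥((𝟙_ (Over (Spec (CommRingCat.of k)))).left) := IsLocalRing.closedPoint k
    obtain ⟨U, hU, hzU, -⟩ := exists_isAffineOpen_mem_and_subset (X := A.left) (U := ⊤)
      (TopologicalSpace.Opens.mem_top (alb.left (x₀.left pk)))
    haveI : IsAffine (U : Scheme.{u}) := hU
    have hle : (⊤ : X.Opens) ≤ alb.left ⁻¹ᵁ U := fun x _ => by
      show alb.left x ∈ U
      rw [hsub ⟨x, rfl⟩ ⟨x₀.left pk, rfl⟩]
      exact hzU
    obtain ⟨c, hc⟩ := Groth.Agent.H25Rig.exists_factor_of_isIso_appTop f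
      (X.topIso.inv ≫ alb.left.resLE U ⊤ hle)
    have halb' : f ≫ c ≫ U.ι = alb.left := by
      rw [← Category.assoc, hc, Category.assoc, Scheme.Hom.resLE_comp_ι]
      simp
    have hc' : c ≫ U.ι = η[A].left := by
      have e0 : x₀.left ≫ f = 𝟙 _ := Over.w x₀
      rw [← halb, Over.comp_left, ← halb', ← Category.assoc x₀.left, e0, Category.id_comp]
    have h1 : alb = 1 := Over.OverMorphism.ext (by rw [Hom.one_def, Over.comp_left, ← hc', ← halb']; rfl)
    haveI : GeometricallyReduced A.hom := inferInstance
    haveI : IsIntegral A.left := GeometricallyIntegral.isIntegral_of_subsingleton A.hom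
    obtain ⟨h, -, huniq⟩ := huniv A alb halb
    have e1 := huniq (𝟙 A) ⟨inferInstance, Category.comp_id alb⟩
    have e2 := huniq 1 ⟨Groth.Agent.H25Rig.isMonHom_of_one_hom _ (by rw [MonObj.comp_one, Hom.one_def, toUnit_unit, Category.id_comp]),
      by rw [MonObj.comp_one, h1]⟩
    have e3 : 𝟙 A = toUnit A ≫ η[A] := by rw [e1, ← e2, Hom.one_def]
    refine ⟨η[A].left, ?_, Over.w η[A]⟩
    exact (congrArg (fun e : A ⟶ A => e.left) e3).symm
  · intro h x _ y _
    haveI := h
    haveI : Subsingleton ↥(Spec (CommRingCat.of k)) := inferInstanceAs (Subsingleton (PrimeSpectrum k))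
    exact A.hom.homeomorph.injective (Subsingleton.elim _ _)

end Groth.Agent.S14825
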