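import Groth.Statements.S14830
import Groth.Agent.H25Rig.GroupMaps
import Mathlib

set_option autoImplicit false
universe u
open CategoryTheory MonoidalCategory CartesianMonoidalCategory MonObj GrpObj AlgebraicGeometry
open AbVar

namespace Groth.Agent.S14830

/-- Let k be a field and X, Y proper, geometrically integral k-schemes with k-rational points x₀ and y₀.
Let albX : X → A and albY : Y → B be Albanese morphisms: A, B abelian varieties over k (proper,
geometrically integral group schemes), albX(x₀) = 0, albY(y₀) = 0, each universal among pointed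
k-morphisms into abelian varieties (geometrically reduced, connected, proper group schemes). Then
the product morphism albX × albY : X ×_k Y → A ×_k B is the Albanese morphism of X ×_k Y pointed at
(x₀, y₀): for every abelian variety C and every k-morphism g : X ×_k Y → C with g(x₀, y₀) = 0 there
is a unique homomorphism h : A ×_k B → C with (albX × albY) ≫ h = g. -/
theorem result (k : Type u) [Field k] (X Y : Scheme.{u}) [X.Over (Spec (CommRingCat.of k))] [Y.Over (Spec (CommRingCat.of k))]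
    [IsProper (X ↘ Spec (CommRingCat.of k))] [IsProper (Y ↘ Spec (CommRingCat.of k))]
    [GeometricallyIntegral (X ↘ Spec (CommRingCat.of k))] [GeometricallyIntegral (Y ↘ Spec (CommRingCat.of k))]
    (x₀ : 𝟙_ (Over (Spec (CommRingCat.of k))) ⟶ Over.mk (X ↘ Spec (CommRingCat.of k))) (y₀ : 𝟙_ (Over (Spec (CommRingCat.of k))) ⟶ Over.mk (Y ↘ Spec (CommRingCat.of k)))
    (A : Over (Spec (CommRingCat.of k))) [GrpObj A] [IsProper A.hom] [GeometricallyIntegral A.hom]
    (albX : Over.mk (X ↘ Spec (CommRingCat.of k)) ⟶ A) (halbX : x₀ ≫ albX = η[A])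
    (hunivA : ∀ (C : Over (Spec (CommRingCat.of k))) [GrpObj C] [IsProper C.hom] [GeometricallyReduced C.hom] [ConnectedSpace ↥C.left]
      (g : Over.mk (X ↘ Spec (CommRingCat.of k)) ⟶ C), x₀ ≫ g = η[C] → ∃! h : A ⟶ C, IsMonHom h ∧ albX ≫ h = g)
    (B : Over (Spec (CommRingCat.of k))) [GrpObj B] [IsProper B.hom] [GeometricallyIntegral B.hom]
    (albY : Over.mk (Y ↘ Spec (CommRingCat.of k)) ⟶ B) (halbY : y₀ ≫ albY = η[B])
    (hunivB : ∀ (C : Over (Spec (CommRingCat.of k))) [GrpObj C] [IsProper C.hom] [GeometricallyReduced C.hom] [ConnectedSpace ↥C.left]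
      (g : Over.mk (Y ↘ Spec (CommRingCat.of k)) ⟶ C), y₀ ≫ g = η[C] → ∃! h : B ⟶ C, IsMonHom h ∧ albY ≫ h = g)
    (C : Over (Spec (CommRingCat.of k))) [GrpObj C] [IsProper C.hom] [GeometricallyReduced C.hom] [ConnectedSpace ↥C.left]
    (g : Over.mk (X ↘ Spec (CommRingCat.of k)) ⊗ Over.mk (Y ↘ Spec (CommRingCat.of k)) ⟶ C) (hg : lift x₀ y₀ ≫ g = η[C]) :
    ∃! h : A ⊗ B ⟶ C, IsMonHom h ∧ (albX ⊗ₘ albY) ≫ h = g := by
  let gX := lift (𝟙 (Over.mk (X ↘ Spec (CommRingCat.of k)))) (toUnit _ ≫ y₀) ≫ g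
  let gY := lift (toUnit _ ≫ x₀) (𝟙 (Over.mk (Y ↘ Spec (CommRingCat.of k)))) ≫ g
  haveI : IsProper (Over.mk (X ↘ Spec (CommRingCat.of k))).hom := ‹_›
  haveI : GeometricallyIntegral (Over.mk (X ↘ Spec (CommRingCat.of k))).hom := ‹_›
  haveI : IsProper (Over.mk (Y ↘ Spec (CommRingCat.of k))).hom := ‹_›
  haveI : GeometricallyIntegral (Over.mk (Y ↘ Spec (CommRingCat.of k))).hom := ‹_›
  obtain ⟨hA, ⟨hA1, hA2⟩, hAu⟩ := hunivA C gX (by
    simp only [gX, comp_lift_assoc, Category.comp_id]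
    rw [← Category.assoc x₀, toUnit_unique (x₀ ≫ toUnit _) (𝟙 _), Category.id_comp, hg])
  obtain ⟨hB, ⟨hB1, hB2⟩, hBu⟩ := hunivB C gY (by
    simp only [gY, comp_lift_assoc, Category.comp_id]
    rw [← Category.assoc y₀, toUnit_unique (y₀ ≫ toUnit _) (𝟙 _), Category.id_comp, hg])
  haveI := hA1
  haveI := hB1
  haveI : IsProper (A ⊗ B).hom := by rw [Over.tensorObj_hom]; infer_instance
  refine ⟨(fst A B ≫ hA) * (snd A B ≫ hB), ⟨?_, ?_⟩, fun h ⟨hh1, hh2⟩ => ?_⟩
  · refine Groth.Agent.H25Rig.isMonHom_of_one_hom _ ?_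
    rw [MonObj.comp_mul, ← Category.assoc, ← Category.assoc η[A ⊗ B] (snd A B),
      show η[A ⊗ B] ≫ fst A B = η[A] by simp, show η[A ⊗ B] ≫ snd A B = η[B] by simp,
      IsMonHom.one_hom, IsMonHom.one_hom,
      show (η[C] : 𝟙_ _ ⟶ C) = 1 by rw [Hom.one_def, toUnit_unit, Category.id_comp], _root_.mul_one]
  · rw [MonObj.comp_mul, tensorHom_fst_assoc, tensorHom_snd_assoc, hA2, hB2]
    exact (Groth.Agent.H25Rig.eq_mul g x₀ y₀ hg).symm
  · haveI := hh1
    have h0 : lift η[A] η[B] ≫ h = η[C] := by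
      have : lift η[A] η[B] = η[A ⊗ B] := by
        apply CartesianMonoidalCategory.hom_ext <;> simp
      rw [this, IsMonHom.one_hom]
    have e := Groth.Agent.H25Rig.eq_mul h η[A] η[B] h0
    have eA : lift (𝟙 A) (toUnit A ≫ η[B]) ≫ h = hA := hAu _ ⟨inferInstance, by
      rw [show gX = lift (𝟙 (Over.mk (X ↘ Spec (CommRingCat.of k)))) (toUnit _ ≫ y₀) ≫ g from rfl, ← hh2,
        ← Category.assoc, ← Category.assoc]
      congr 1
      apply CartesianMonoidalCategory.hom_ext
      · simp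
      · simp [halbY]⟩
    have eB : lift (toUnit B ≫ η[A]) (𝟙 B) ≫ h = hB := hBu _ ⟨inferInstance, by
      rw [show gY = lift (toUnit _ ≫ x₀) (𝟙 (Over.mk (Y ↘ Spec (CommRingCat.of k)))) ≫ g from rfl, ← hh2,
        ← Category.assoc, ← Category.assoc]
      congr 1
      apply CartesianMonoidalCategory.hom_ext
      · simp [halbX]
      · simp⟩
    rw [e, eA, eB]

end Groth.Agent.S14830
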