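import Groth.Statements.S14833
import Groth.Agent.H7SmoothCrit.DiffMono
import Groth.Agent.H17.GenFiniteDense
import Groth.Agent.H17.PrinOmega
import Groth.Agent.H29Omega.DerLocal
import Groth.Agent.H7Lim.ModLocFree
import Groth.Agent.H19AbSch.OmegaAbScheme
import Groth.Agent.H16Derived.KFlat.FinLocFree
-- import your own Groth.Agent.* helpers here

set_option autoImplicit false
universe u
open CategoryTheory CategoryTheory.Limits AlgebraicGeometry
open OmegaSh

namespace Groth.Agent.S14833

/-- Let k be a field and f : X → Z a surjective k-morphism between integral proper k-schemes, where X is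
geometrically normal (its base change to an algebraic closure of k has integrally closed local
domains), Z is smooth over k, and the generic fibre of f is geometrically reduced over the function
field of Z (equivalently K(Z) ⊆ K(X) is separable). Let d_Z : O_Z → Ω_Z and d_X : O_X → Ω_X be
universal k-derivations (sheaves of Kähler differentials over k) and c : f^*Ω_Z → Ω_X the O_X-linear
map compatible with them. Then for every open subscheme U ⊆ X which is smooth over k, the
restriction of c to U is a monomorphism of O_U-modules; in particular c is injective on the smooth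
locus of X. -/
theorem result (k : Type u) [Field k]
    (X Z : Scheme.{u}) [X.Over (Spec (CommRingCat.of k))] [Z.Over (Spec (CommRingCat.of k))]
    [IsProper (X ↘ Spec (CommRingCat.of k))] [IsProper (Z ↘ Spec (CommRingCat.of k))] [IsIntegral X] [IsIntegral Z]
    [Smooth (Z ↘ Spec (CommRingCat.of k))]
    (hgn : ∀ (K : Type u) [Field K] [Algebra k K] [IsAlgClosure k K],
      Pi1.IsNormalScheme (pullback (X ↘ Spec (CommRingCat.of k)) (Spec.map (CommRingCat.ofHom (algebraMap k K)))))
    (f : X ⟶ Z) [Surjective f] (hf : f ≫ (Z ↘ Spec (CommRingCat.of k)) = X ↘ Spec (CommRingCat.of k))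
    (hsep : GeometricallyReduced (pullback.snd f (Z.fromSpecResidueField (genericPoint ↥Z))))
    (ΩZ : Z.Modules) (dZ : OmegaSh.Der (Z ↘ Spec (CommRingCat.of k)) ΩZ) (hdZ : OmegaSh.IsUniversal dZ)
    (ΩX : X.Modules) (dX : OmegaSh.Der (X ↘ Spec (CommRingCat.of k)) ΩX) (hdX : OmegaSh.IsUniversal dX)
    (c : (Scheme.Modules.pullback f).obj ΩZ ⟶ ΩX) (hc : OmegaSh.IsDiffCompat f dZ dX c)
    (U : X.Opens) (hU : Smooth (U.ι ≫ (X ↘ Spec (CommRingCat.of k)))) :
    Mono ((Scheme.Modules.restrictFunctor U.ι).map c) := by
  haveI : IsLocallyNoetherian Z := LocallyOfFiniteType.isLocallyNoetherian (Z ↘ Spec (CommRingCat.of k))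
  haveI : IsLocallyNoetherian X := LocallyOfFiniteType.isLocallyNoetherian (X ↘ Spec (CommRingCat.of k))
  haveI : LocallyOfFiniteType (f ≫ (Z ↘ Spec (CommRingCat.of k))) := by rw [hf]; infer_instance
  haveI : LocallyOfFiniteType f := locallyOfFiniteType_of_comp f (Z ↘ Spec (CommRingCat.of k))
  haveI : LocallyOfFinitePresentation f := inferInstance
  haveI : IsDominant f := ⟨f.surjective.denseRange⟩
  have hη : f (genericPoint X) = genericPoint Z := H17.GenFinite.map_genericPoint_of_isDominant f
  obtain ⟨e⟩ := H29Omega.nonempty_iso_of_isUniversal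
    (H17.PrinOmega.isUniversal_dOmega (Z ↘ Spec (CommRingCat.of k))) hdZ
  have hZf : FlatMod.IsFinLocFree ΩZ :=
    H7Lim.ModLocFree.isFinLocFree_of_iso e (H19AbSch.OmegaAbScheme.isFinLocFree_omega _)
  have hPf := H16Derived.KFlat.Stalk.isFinLocFree_pullback f hZf
  haveI : Mono c := H7SmoothCrit.mono_of_injective_genericPoint hPf c (by
      refine H7SmoothCrit.injective_stalk_diffCompat f hf dZ hdZ dX hdX c hc _
        (H7SmoothCrit.formallySmooth_stalkMap_genericPoint f hη ?_)
      rw [hη]
      exact hsep)
  exact inferInstance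

end Groth.Agent.S14833
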