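import Groth.Statements.S14834
import Groth.Agent.H25Rig.GroupMaps
import Mathlib

set_option autoImplicit false
universe u
open CategoryTheory MonoidalCategory CartesianMonoidalCategory MonObj GrpObj AlgebraicGeometry
open AbVar

namespace Groth.Agent.S14834

theorem eq_of_comp_eq {X Y B : Scheme.{u}} (r : X ⟶ Y) [IsProper r] (hr : ∀ U : Y.Opens, IsIso (r.app U))
    (g₁ g₂ : Y ⟶ B) (h : r ≫ g₁ = r ≫ g₂) : g₁ = g₂ := by
  haveI : Surjective r := by
    refine ⟨fun y => ?_⟩
    by_contra hy
    let V : Y.Opens := ⟨(Set.range r)ᶜ, r.isClosedMap.isClosed_range.isOpen_compl⟩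
    have hV : r ⁻¹ᵁ V = ⊥ := TopologicalSpace.Opens.ext (Set.eq_empty_of_forall_notMem fun x hx => hx ⟨x, rfl⟩)
    have hs : Subsingleton Γ(Y, V) := by
      haveI := hr V
      haveI : Subsingleton Γ(X, r ⁻¹ᵁ V) := by rw [hV]; infer_instance
      exact ((ConcreteCategory.bijective_of_isIso (r.app V)).1).subsingleton
    have : Nontrivial Γ(Y, V) := (Y.presheaf.germ V y hy).hom.domain_nontrivial
    exact not_subsingleton Γ(Y, V) hs
  have hbase : ∀ y, g₁ y = g₂ y := fun y => by
    obtain ⟨x, rfl⟩ := r.surjective y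
    exact congrArg (fun e : X ⟶ B => e x) h
  haveI : IsDominant r := inferInstance
  refine Scheme.Hom.ext (by ext y; exact hbase y) fun U => ?_
  haveI := hr (g₁ ⁻¹ᵁ U)
  haveI := hr (g₂ ⁻¹ᵁ U)
  rw [← cancel_mono (r.app _), Category.assoc, Scheme.Hom.naturality]
  have := Scheme.Hom.congr_app h U
  simp only [Scheme.Hom.comp_app] at this
  rw [← Category.assoc, this]
  exact (Category.assoc _ _ _).trans ((congrArg (_ ≫ ·) ((X.presheaf.map_comp _ _).symm.trans
    ((congrArg X.presheaf.map (Subsingleton.elim _ (𝟙 _))).trans (X.presheaf.map_id _)))).trans (Category.comp_id _))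

/-- Let k be a field, X a proper k-scheme with H^0(X, O_X) = k (k → Γ(X, O_X) bijective) and a
k-rational point x₀, and alb : X → A the Albanese morphism (A an abelian variety — proper,
geometrically integral group scheme — with alb(x₀) = 0, universal among pointed k-morphisms from X
to geometrically reduced, connected, proper group schemes). Let X → Y → A be a Stein factorisation
of alb: Y proper over k, r : X → Y a k-morphism with O_Y → r_*O_X an isomorphism, s : Y → A finite
with r ≫ s = alb. Then s is the Albanese morphism of Y pointed at r(x₀): for every abelian variety B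
and every k-morphism g : Y → B with g(r(x₀)) = 0 there is a unique homomorphism h : A → B with s ≫ h
= g. (The published statement has no rational point and also identifies the maximal abelian
subschemes of the Picard schemes of the Albanese, of Y and of X by pullback; this row is the pointed
statement about the Albanese of Y only.) -/
theorem result (k : Type u) [Field k] (X Y : Over (Spec (CommRingCat.of k)))
    [IsProper X.hom] [IsProper Y.hom] (h0 : Function.Bijective (X.hom.appTop).hom)
    (x₀ : 𝟙_ (Over (Spec (CommRingCat.of k))) ⟶ X)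
    (A : Over (Spec (CommRingCat.of k))) [GrpObj A] [IsProper A.hom] [GeometricallyIntegral A.hom]
    (alb : X ⟶ A) (halb : x₀ ≫ alb = η[A])
    (huniv : ∀ (B : Over (Spec (CommRingCat.of k))) [GrpObj B] [IsProper B.hom] [GeometricallyReduced B.hom] [ConnectedSpace ↥B.left]
      (g : X ⟶ B), x₀ ≫ g = η[B] → ∃! h : A ⟶ B, IsMonHom h ∧ alb ≫ h = g)
    (r : X ⟶ Y) (hr : ∀ U : Y.left.Opens, IsIso (r.left.app U)) (s : Y ⟶ A) [IsFinite s.left]
    (hrs : r ≫ s = alb)
    (B : Over (Spec (CommRingCat.of k))) [GrpObj B] [IsProper B.hom] [GeometricallyReduced B.hom] [ConnectedSpace ↥B.left]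
    (g : Y ⟶ B) (hg : x₀ ≫ r ≫ g = η[B]) :
    ∃! h : A ⟶ B, IsMonHom h ∧ s ≫ h = g := by
  obtain ⟨h, ⟨hh, hh'⟩, huniq⟩ := huniv B (r ≫ g) hg
  haveI : IsProper r.left := by
    haveI : IsProper (r.left ≫ Y.hom) := by rw [Over.w r]; infer_instance
    exact IsProper.of_comp r.left Y.hom
  refine ⟨h, ⟨hh, Over.OverMorphism.ext (eq_of_comp_eq r.left hr _ _ ?_)⟩, fun h' ⟨h1, h2⟩ =>
    huniq h' ⟨h1, by rw [← hrs, Category.assoc, h2]⟩⟩
  rw [← Over.comp_left, ← Over.comp_left, ← Category.assoc, hrs, hh']

end Groth.Agent.S14834
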