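import Groth.Statements.S14835
import Groth.Agent.H29Curve.GenusPush
import Groth.Agent.H11Curve.NormFinite
import Groth.Agent.H23KS.NormFacts
import Groth.Agent.H12AlgSp.LqfDim
import Groth.Agent.H17.Dim
import Groth.Agent.H29RR.SmoothRegular
import Groth.Agent.H29Frob.GenusLeField
import Groth.Agent.S7862
import Groth.Agent.H05EGA4.DimFibre

set_option autoImplicit false
universe u
open CategoryTheory CategoryTheory.Limits AlgebraicGeometry
open Curves

namespace Groth.Agent.S14835

/-- Let k be an algebraically closed field, C and B proper curves over k (proper k-schemes of dimension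
one) with B connected and regular (all local rings regular), φ : C → B a k-morphism, and ι : C_i → C
a closed integral one-dimensional subscheme (an integral component) such that the composite C_i → B
is finite. Then dim_k H^1(C, O_C) ≥ dim_k H^1(C_i, O_{C_i}) ≥ dim_k H^1(B, O_B). -/
theorem result (k : Type u) [Field k] [IsAlgClosed k]
    (C B Ci : Scheme.{u}) [C.Over (Spec (CommRingCat.of k))] [B.Over (Spec (CommRingCat.of k))] [Ci.Over (Spec (CommRingCat.of k))]
    [IsProper (C ↘ Spec (CommRingCat.of k))] [IsProper (B ↘ Spec (CommRingCat.of k))]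
    (hC : topologicalKrullDim ↥C = 1) (hB : topologicalKrullDim ↥B = 1) [ConnectedSpace ↥B]
    (hBreg : ∀ b : B, IsRegularLocalRing (B.presheaf.stalk b))
    (φ : C ⟶ B) (hφ : φ ≫ (B ↘ Spec (CommRingCat.of k)) = C ↘ Spec (CommRingCat.of k))
    (ι : Ci ⟶ C) [IsClosedImmersion ι] [IsIntegral Ci] (hCi : topologicalKrullDim ↥Ci = 1)
    (hι : ι ≫ (C ↘ Spec (CommRingCat.of k)) = Ci ↘ Spec (CommRingCat.of k)) [IsFinite (ι ≫ φ)] :
    Module.finrank k (Coh.HH Ci (Coh.structureModule Ci) 1) ≤ Module.finrank k (Coh.HH C (Coh.structureModule C) 1) ∧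
      Module.finrank k (Coh.HH B (Coh.structureModule B) 1) ≤ Module.finrank k (Coh.HH Ci (Coh.structureModule Ci) 1) := by
  haveI : IsNoetherian C := Groth.Agent.H28Int.isNoetherian k
  haveI hCip : IsProper (Ci ↘ Spec (CommRingCat.of k)) := hι ▸ inferInstance
  refine ⟨Groth.Agent.H29Curve.GenusPush.genus_le hC.le ι hι ⊤ dense_univ, ?_⟩
  haveI : IsNoetherian Ci := Groth.Agent.H28Int.isNoetherian k
  haveI : IsNoetherian B := Groth.Agent.H28Int.isNoetherian k
  haveI : QuasiCompact (Ci.fromSpecStalk (genericPoint Ci)) := inferInstance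
  haveI : QuasiSeparated (Ci.fromSpecStalk (genericPoint Ci)) := inferInstance
  let ν := Curv2.normalizationι Ci
  haveI : IsFinite ν := Groth.Agent.H11Curve.isFinite_normalizationι (Ci ↘ Spec (CommRingCat.of k))
  haveI := Groth.Agent.H11Curve.isIntegral_normalization Ci
  let N := Curv2.normalization Ci
  letI : N.Over (Spec (CommRingCat.of k)) := ⟨ν ≫ (Ci ↘ Spec (CommRingCat.of k))⟩
  haveI hNp : IsProper (N ↘ Spec (CommRingCat.of k)) := inferInstanceAs (IsProper (ν ≫ (Ci ↘ Spec (CommRingCat.of k))))
  obtain ⟨W, hW, hiso⟩ := Groth.Agent.H26BMCoh.exists_isIso_normalization Ci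
  haveI := hiso
  refine le_trans ?_ (Groth.Agent.H29Curve.GenusPush.genus_le (Y := N) hCi.le ν rfl W (W.2.dense hW))
  -- dimension of the normalisation
  have hνsurj : Function.Surjective ν := by
    have h1 : IsClosed (Set.range ν) := ν.isClosedMap.isClosed_range
    intro x
    have hg : genericPoint Ci ∈ Set.range ν :=
      ⟨_, Groth.Agent.H23KS.NormFacts.generic_eq Ci⟩
    exact closure_minimal (Set.singleton_subset_iff.2 hg) h1 (by
      rw [show closure {genericPoint Ci} = Set.univ from genericPoint_spec Ci]; trivial)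
  have hdN : topologicalKrullDim N = 1 := by
    refine le_antisymm ((Groth.Agent.H12AlgSp.topologicalKrullDim_le_of_lqf ν).trans hCi.le) (hCi.symm.le.trans ?_)
    exact Groth.Agent.H17.topologicalKrullDim_le_of_specializingMap ν ν.isClosedMap.specializingMap hνsurj
  haveI : Smooth (N ↘ Spec (CommRingCat.of k)) := by
    refine Groth.Agent.H29RR.smooth_of_regular k N fun x => ?_
    obtain ⟨h1, h2⟩ := Groth.Agent.H11Curve.isNormal_normalization Ci x
    haveI := h1; haveI := h2
    haveI : IsLocallyNoetherian N := LocallyOfFiniteType.isLocallyNoetherian ν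
    exact Groth.Agent.H1CAlg.isRegularLocalRing_of_isIntegrallyClosed
      ((Groth.Agent.H05EGA4.DimFibre.stalkDim_le_top x).trans hdN.le)
  haveI : GeometricallyConnected (N ↘ Spec (CommRingCat.of k)) :=
    Groth.Agent.H22Alg.VarGeom.geometricallyConnected_of_isSepClosed _
  have hBd : ∀ b : B, IsDomain (B.presheaf.stalk b) := fun b => by
    haveI := hBreg b
    exact Groth.Agent.H4Depth.isDomain_of_isRegularLocalRing _
  haveI : IsIntegral B := Groth.Agent.S7862.isIntegral_of_connected B hBd
  haveI : Smooth (B ↘ Spec (CommRingCat.of k)) := Groth.Agent.H29RR.smooth_of_regular k B hBreg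
  haveI : GeometricallyConnected (B ↘ Spec (CommRingCat.of k)) :=
    Groth.Agent.H22Alg.VarGeom.geometricallyConnected_of_isSepClosed _
  exact Groth.Agent.H29Frob.genus_le_field (N ↘ Spec (CommRingCat.of k)) (B ↘ Spec (CommRingCat.of k)) hdN hB
    (ν ≫ ι ≫ φ) (by show (ν ≫ ι ≫ φ) ≫ _ = ν ≫ _; simp only [Category.assoc]; rw [hφ, hι])

end Groth.Agent.S14835
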