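import Groth.Statements.S14836
import Groth.Agent.H10Coh.ProjFormulaFLF
import Groth.Agent.H23Para.CounitDescent
import Groth.Agent.H23Para.Restrict

set_option autoImplicit false
set_option linter.style.haveILetI false
universe u
open CategoryTheory CategoryTheory.Limits AlgebraicGeometry
open Formal2

open Groth.Agent
namespace Groth.Agent.S14836

/-- Let k be a field and f : X → Y a k-morphism between proper k-schemes which is a fibration, i.e. O_Y
→ f_*O_X is an isomorphism (Γ(V, O_Y) → Γ(f⁻¹V, O_X) bijective for every open V ⊆ Y). Then N ↦ f^*N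
is injective on Picard groups: every invertible O_Y-module whose pullback to X is trivial is
trivial. -/
theorem result (k : Type u) [Field k] (X Y : Scheme.{u})
    [X.Over (Spec (CommRingCat.of k))] [Y.Over (Spec (CommRingCat.of k))] [IsProper (X ↘ Spec (CommRingCat.of k))] [IsProper (Y ↘ Spec (CommRingCat.of k))]
    (f : X ⟶ Y) (hf : f ≫ (Y ↘ Spec (CommRingCat.of k)) = X ↘ Spec (CommRingCat.of k)) (hfib : ∀ V : Y.Opens, IsIso (f.app V)) :
    Formal2.PicPullbackInjective f := by
  intro L hL ⟨t⟩
  haveI := Groth.Agent.H23Para.isIso_unitHom_of_bijective f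
    (fun V => haveI := hfib V; (ConcreteCategory.isIso_iff_bijective (f.app V)).1 inferInstance)
  let u : Coh.structureModule Y ≅ (Scheme.Modules.pushforward f).obj (Coh.structureModule X) := asIso (Groth.Agent.H23Para.unitHom f)
  haveI := Groth.Agent.H10Coh.PF.isIso_ψ_of_isFinLocFree f (Groth.Agent.H23Para.isFinLocFree_of_isInvertible hL) (Coh.structureModule X)
  exact ⟨(Groth.Agent.H10Coh.Tw.leftUnitIso L).symm ≪≫ ((DCoh.tensorBi (X := Y)).mapIso u).app L ≪≫
    asIso (Groth.Agent.H16Derived.ProjFormula.ψ f (Coh.structureModule X) L) ≪≫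
    (Scheme.Modules.pushforward f).mapIso (Groth.Agent.H10Coh.Tw.leftUnitIso _ ≪≫ t) ≪≫ u.symm⟩

end Groth.Agent.S14836
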