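import Groth.Statements.S14837
import Groth.Agent.H10Coh.EdgeInj
import Groth.Agent.LeadBC.GenBC.PullEquiv
import Groth.Agent.H10Coh.Proper
import Groth.Agent.H10Coh.Proper2
import Groth.Agent.LeadFF.Geom
import Groth.Agent.LeadFF.Gen
-- import your own Groth.Agent.* helpers here

set_option autoImplicit false
set_option linter.style.haveILetI false
universe u
open CategoryTheory CategoryTheory.Limits AlgebraicGeometry
open Coh

namespace Groth.Agent.S14837

attribute [local instance 10000] Groth.Agent.H10Coh.hasSheafifyAb Groth.Agent.H10Coh.hasWeakSheafifyAb Groth.Agent.H10Coh.hasExtAb Groth.Agent.H10Coh.enoughInjAb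

section
open Groth.Agent.LeadFF Opposite

variable {k : Type u} [Field k] {X Y : Scheme.{u}}
    [X.Over (Spec (CommRingCat.of k))] [Y.Over (Spec (CommRingCat.of k))]
    (f : X ⟶ Y) (hf : f ≫ (Y ↘ Spec (CommRingCat.of k)) = X ↘ Spec (CommRingCat.of k))

include hf in
theorem app_scal' (U : Y.Opens) (a : k) :
    f.app U (scal (Y ↘ Spec (CommRingCat.of k)) U a) = scal (X ↘ Spec (CommRingCat.of k)) (f ⁻¹ᵁ U) a := by
  refine (congr($(f.naturality (homOfLE (le_top : U ≤ ⊤)).op) (glob (Y ↘ Spec (CommRingCat.of k)) a))).trans ?_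
  show X.presheaf.map _ (f.app ⊤ (glob (Y ↘ Spec (CommRingCat.of k)) a)) = X.presheaf.map _ (glob (X ↘ Spec (CommRingCat.of k)) a)
  refine congrArg _ ?_
  rw [glob_eq, glob_eq, ← hf]
  rfl

include hf in
theorem push_smulMod (M : X.Modules) (a : k) :
    Formal.smulMod k ((Scheme.Modules.pushforward f).obj M) a =
      (Scheme.Modules.pushforward f).map (Formal.smulMod k M a) :=
  hom_ext_sections _ _ fun U m => by
    show f.app U (scal (Y ↘ Spec (CommRingCat.of k)) U a) • (show Γ(M, f ⁻¹ᵁ U) from m) =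
      scal (X ↘ Spec (CommRingCat.of k)) (f ⁻¹ᵁ U) a • (show Γ(M, f ⁻¹ᵁ U) from m)
    rw [app_scal' f hf]

end


/-- Let k be a field and f : X → Y a k-morphism between proper k-schemes which is a fibration (Γ(V, O_Y)
→ Γ(f⁻¹V, O_X) bijective for every open V ⊆ Y). Then H^1(Y, O_Y) injects naturally into H^1(X, O_X)
(edge map of the Leray spectral sequence); stated here as the inequality dim_k H^1(Y, O_Y) ≤ dim_k
H^1(X, O_X) of finite dimensions. -/
theorem result (k : Type u) [Field k] (X Y : Scheme.{u})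
    [X.Over (Spec (CommRingCat.of k))] [Y.Over (Spec (CommRingCat.of k))] [IsProper (X ↘ Spec (CommRingCat.of k))] [IsProper (Y ↘ Spec (CommRingCat.of k))]
    (f : X ⟶ Y) (hf : f ≫ (Y ↘ Spec (CommRingCat.of k)) = X ↘ Spec (CommRingCat.of k)) (hfib : ∀ V : Y.Opens, IsIso (f.app V)) :
    Module.finrank k (Coh.HH Y (Coh.structureModule Y) 1) ≤ Module.finrank k (Coh.HH X (Coh.structureModule X) 1) := by
  let u : Coh.structureModule Y ⟶ (Scheme.Modules.pushforward f).obj (Coh.structureModule X) :=
    SheafOfModules.unitToPushforwardObjUnit _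
  haveI : IsIso u := by
    rw [Scheme.Modules.Hom.isIso_iff_isIso_app]
    intro U
    haveI := hfib U
    exact (ConcreteCategory.isIso_iff_bijective _).2 (ConcreteCategory.bijective_of_isIso (f.app U))
  let φ : Coh.HH Y (Coh.structureModule Y) 1 →ₗ[k] Coh.HH X (Coh.structureModule X) 1 :=
    { toFun := fun x => CohPull.pushEdge f (Coh.structureModule X) 1 (CohPull.mapH u 1 x)
      map_add' := fun x y => by simp only [map_add]
      map_smul' := fun a x => by
        simp only [RingHom.id_apply]
        rw [← Groth.Agent.LeadFF.Hm_smulMod (Coh.structureModule Y) 1 a x,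
          ← Groth.Agent.LeadBC.GenBC.mapH_comp, ← Groth.Agent.LeadFF.smulMod_natural u a, push_smulMod f hf,
          Groth.Agent.LeadBC.GenBC.mapH_comp, Groth.Agent.LeadBC.GenBC.pushEdge_natural]
        rfl }
  haveI : Module.Finite k (Coh.HH X (Coh.structureModule X) 1) :=
    Groth.Agent.H10Coh.finite_HH_proper k X _ (Groth.Agent.H10Coh.isCoh_structureModule' X) 1
  refine LinearMap.finrank_le_finrank_of_injective (f := φ) ?_
  intro x y h
  have h1 := Groth.Agent.H10Coh.injective_pushEdge_one f (Coh.structureModule X) h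
  have h2 := congrArg (CohPull.mapH (inv u) 1) h1
  rwa [← Groth.Agent.LeadBC.GenBC.mapH_comp, ← Groth.Agent.LeadBC.GenBC.mapH_comp, IsIso.hom_inv_id,
    Groth.Agent.LeadBC.GenBC.mapH_id, Groth.Agent.LeadBC.GenBC.mapH_id] at h2

end Groth.Agent.S14837
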