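import Groth.Statements.S1484
import Mathlib

set_option autoImplicit false
universe u
open FlatMor

namespace Groth.Agent.S1484

/-- Let R be a ring, p_1, …, p_r primes of R none of which is contained in another, k_i ⊆ κ(p_i)
subfields over which κ(p_i) is not algebraic, and J an ideal of R contained in none of the p_i. Then
some x ∈ J has image in κ(p_i) transcendental over k_i for every i. -/
theorem result {R : Type u} [CommRing R] {r : ℕ} (p : Fin r → Ideal R) [∀ i, (p i).IsPrime]
    (hp : ∀ i j, i ≠ j → ¬ p i ≤ p j) (k : ∀ i, Subfield (p i).ResidueField)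
    (hk : ∀ i, ¬ Algebra.IsAlgebraic ↥(k i) (p i).ResidueField) (J : Ideal R) (hJ : ∀ i, ¬ J ≤ p i) :
    ∃ x ∈ J, ∀ i, Transcendental ↥(k i) (algebraMap R (p i).ResidueField x) := by
  classical
  have key : ∀ i, ∃ x ∈ J, (∀ j, j ≠ i → x ∈ p j) ∧
      Transcendental ↥(k i) (algebraMap R (p i).ResidueField x) := by
    intro i
    have hA : ¬ (J ⊓ (Finset.univ.erase i).inf p) ≤ p i := by
      rw [(inferInstance : (p i).IsPrime).inf_le, Ideal.IsPrime.inf_le' inferInstance]
      rintro (h | ⟨j, hj, hle⟩)
      · exact hJ i h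
      · exact hp j i (Finset.ne_of_mem_erase hj) hle
    obtain ⟨a, haA, hai⟩ := Set.not_subset.mp hA
    by_contra hcon
    push Not at hcon
    refine hk i ⟨fun z => ?_⟩
    have halg : ∀ x ∈ J ⊓ (Finset.univ.erase i).inf p,
        IsAlgebraic ↥(k i) (algebraMap R (p i).ResidueField x) := fun x hx => by
      have hmem : ∀ j, j ≠ i → x ∈ p j := fun j hj =>
        Finset.inf_le (f := p) (Finset.mem_erase.mpr ⟨hj, Finset.mem_univ j⟩) hx.2
      simpa only [Transcendental, not_not] using hcon x hx.1 hmem
    have ha0 : algebraMap R (p i).ResidueField a ≠ 0 := fun h =>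
      hai (Ideal.algebraMap_residueField_eq_zero.mp h)
    have himg : ∀ r : R, IsAlgebraic ↥(k i) (algebraMap R (p i).ResidueField r) := fun r => by
      have h1 := (halg (r * a) (Ideal.mul_mem_left _ r haA)).mul (halg a haA).inv
      rwa [map_mul, mul_inv_cancel_right₀ ha0] at h1
    obtain ⟨u, v, -, rfl⟩ := IsFractionRing.div_surjective (A := R ⧸ p i) z
    obtain ⟨u, rfl⟩ := Ideal.Quotient.mk_surjective u
    obtain ⟨v, rfl⟩ := Ideal.Quotient.mk_surjective v
    rw [div_eq_mul_inv, ← Ideal.Quotient.algebraMap_eq, ← IsScalarTower.algebraMap_apply,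
      ← IsScalarTower.algebraMap_apply]
    exact (himg u).mul (himg v).inv
  choose x hxJ hxp hxt using key
  refine ⟨∑ i, x i, J.sum_mem fun i _ => hxJ i, fun i => ?_⟩
  rw [map_sum, Finset.sum_eq_single i]
  · exact hxt i
  · exact fun j _ hj => Ideal.algebraMap_residueField_eq_zero.mpr (hxp j i hj.symm)
  · simp

end Groth.Agent.S1484
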