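import Groth.Statements.S14840
import Groth.Agent.H19Grp.FixedLocus

set_option autoImplicit false
set_option linter.style.haveILetI false
set_option backward.isDefEq.respectTransparency false
open CategoryTheory MonoidalCategory CartesianMonoidalCategory AlgebraicGeometry
universe u
open AlgGrp

namespace Groth.Agent.S14840

/-- Let G be a group scheme over a scheme S, affine over S and with structure sheaf locally free over
O_S (each point of S has an affine open neighbourhood U such that the sections of O_G over the
preimage of U form a free module over the sections of O_S over U), acting on an S-scheme Y which is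
separated over S. Then the subfunctor of G-fixed points of Y is a closed subfunctor: there are an
S-scheme Z and a closed immersion i : Z → Y over S such that a T-valued point y of Y factors through
i exactly when it is fixed, i.e. g · y = y for every S-scheme T' over T and every T'-valued point g
of G. -/
theorem result
    {S : Scheme.{u}} (G Y : Over S) [GrpObj G] (a : AlgGrp.Action G Y)
    [IsAffineHom G.hom] [IsSeparated Y.hom]
    (hfree : ∀ s : S, ∃ U : S.affineOpens, s ∈ (U : S.Opens) ∧
      @Module.Free Γ(S, U) Γ(G.left, G.hom ⁻¹ᵁ U) _ _ (G.hom.app U).hom.toAlgebra.toModule) :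
    ∃ (Z : Over S) (i : Z ⟶ Y), IsClosedImmersion i.left ∧
      ∀ (T : Over S) (y : T ⟶ Y),
        (∀ (T' : Over S) (t : T' ⟶ T) (g : T' ⟶ G), lift g (t ≫ y) ≫ a.act = t ≫ y) ↔
          ∃ z : T ⟶ Z, z ≫ i = y := by
  haveI := H19Grp.isClosedImmersion_fixLocus a.act
  refine H19Grp.exists_closed_fixed a.act (H19Grp.hasUnivLocally_fst_of_projective _ fun s => ?_)
  obtain ⟨U, hU, hf⟩ := hfree s
  refine ⟨U, hU, ?_⟩
  letI := (G.hom.app U).hom.toAlgebra
  haveI : Module.Free Γ(S, U) Γ(G.left, G.hom ⁻¹ᵁ U) := hf
  exact Module.Projective.of_free

end Groth.Agent.S14840
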