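import Groth.Statements.S14842
import Groth.Agent.H20Comod.Semisimple

set_option autoImplicit false
universe u v
open HopfRep

namespace Groth.Agent.S14842
open scoped Groth.Agent.H20Comod
open Groth.Agent.H20Comod

open TensorProduct in
/-- Over a field K, every simple subcoalgebra D of a coalgebra C is the coefficient space of a simple
comodule. Precisely: there is a subspace E of C contained in D which is a simple subcomodule of the
regular right comodule C (E is nonzero, stable under the coaction, and its only subcomodules are 0
and E) and such that D is the least subspace D' of C with comul(E) inside the image of E ⊗ D'. Here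
a subcoalgebra of C is a subspace B whose comultiplication lands in the image of B ⊗ B, and a simple
subcoalgebra is a nonzero subcoalgebra D whose only subcoalgebras contained in D are 0 and D.
(Stated for right comodules; the published statement is for left comodules.) -/
theorem result {K : Type u} {C : Type v} [Field K]
    [AddCommGroup C] [Module K C] [Coalgebra K C]
    (D : Submodule K C) (hD0 : D ≠ ⊥) (hD : (∀ b ∈ D, CoalgebraStruct.comul (R := K) b ∈ LinearMap.range (TensorProduct.map D.subtype D.subtype)))
    (hDs : ∀ B : Submodule K C, B ≤ D → (∀ b ∈ B, CoalgebraStruct.comul (R := K) b ∈ LinearMap.range (TensorProduct.map B.subtype B.subtype)) → B = ⊥ ∨ B = D) :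
    ∃ E : Submodule K C, E ≤ D ∧ E ≠ ⊥ ∧ HopfRep.IsSubcomod (k := K) (A := C) E ∧
      (∀ E' : Submodule K C, E' ≤ E → HopfRep.IsSubcomod (k := K) (A := C) E' → E' = ⊥ ∨ E' = E) ∧
      IsLeast {D' : Submodule K C |
        ∀ e ∈ E, CoalgebraStruct.comul (R := K) e ∈ LinearMap.range (TensorProduct.map E.subtype D'.subtype)} D := by
  obtain ⟨m, hms, hmD, hmeq⟩ := exists_simple_coeffIn_eq (k := K) (A := C) ⟨hD0, hD, hDs⟩
  haveI := hms
  have hat := isSimpleModule_iff_isAtom.1 hms
  refine ⟨m.restrictScalars K, hmD, fun e => hat.1 (Submodule.restrictScalars_injective K (DualAlg K C) C (e.trans rfl)),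
    isSubcomod_restrictScalars m, fun E' hle hE' => ?_, fun e he => ?_, fun D' hD' => ?_⟩
  · refine (hat.le_iff.1 (show toSub E' hE' ≤ m from hle)).imp (fun e => ?_) (fun e => ?_)
    · rw [← restrictScalars_toSub E' hE', e]; rfl
    · rw [← restrictScalars_toSub E' hE', e]
  · rw [mem_range_map_subtype_iff']
    refine ⟨fun f => m.smul_mem (DualAlg.mk f) he, fun g => ?_⟩
    exact hmeq ▸ coeff_mem_coeffIn (p := m) he g
  · rw [← hmeq]
    exact restrictScalars_coeffIn_le fun g v hv => ((mem_range_map_subtype_iff' _ _ _).1 (hD' v hv)).2 g

end Groth.Agent.S14842
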