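import Groth.Statements.S14843
import Groth.Agent.H20Comod.Semisimple

set_option autoImplicit false
universe u v
open HopfRep

namespace Groth.Agent.S14843
open scoped Groth.Agent.H20Comod
open Groth.Agent.H20Comod

open TensorProduct in
/-- Over a field K, a coalgebra C is cosemisimple, i.e. C is the internal direct sum of a family of
simple subcoalgebras, if and only if every right C-comodule is completely reducible (every
subcomodule admits a complementary subcomodule). Here a subcoalgebra of C is a subspace B whose
comultiplication lands in the image of B ⊗ B, and a simple subcoalgebra is a nonzero subcoalgebra D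
whose only subcoalgebras contained in D are 0 and D. (Comodules are quantified in the universe of C;
the published statement is for left comodules, and the equivalence of 'direct sum of simple
subcomodules' with 'every subcomodule is a direct summand' is the standard one.) -/
theorem result {K : Type u} {C : Type v} [Field K]
    [AddCommGroup C] [Module K C] [Coalgebra K C] :
    (∃ (ι : Type v) (D : ι → Submodule K C), iSupIndep D ∧ iSup D = ⊤ ∧ ∀ i,
        D i ≠ ⊥ ∧ (∀ b ∈ D i, CoalgebraStruct.comul (R := K) b ∈ LinearMap.range (TensorProduct.map (D i).subtype (D i).subtype)) ∧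
        ∀ B : Submodule K C, B ≤ D i → (∀ b ∈ B, CoalgebraStruct.comul (R := K) b ∈ LinearMap.range (TensorProduct.map B.subtype B.subtype)) → B = ⊥ ∨ B = D i) ↔
      ∀ (V : Type v) [AddCommGroup V] [Module K V] [HopfRep.Comod K C V],
        HopfRep.IsSemisimpleComod K C V := by
  constructor
  · rintro ⟨ι, D, -, htop, hD⟩ V _ _ _
    choose m hms hmD hmeq using fun i => exists_simple_coeffIn_eq (k := K) (A := C) ⟨(hD i).1, (hD i).2.1, (hD i).2.2⟩
    haveI : IsSemisimpleModule (DualAlg K C) C := by
      refine isSemisimpleModule_of_isSemisimpleModule_submodule' (p := fun i => coeffIn (m i)) (fun i => ?_) ?_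
      · haveI := hms i
        exact IsSemisimpleModule.of_injective (Submodule.inclusion (coeffIn_le_isotypicComponent (m i)))
          (Submodule.inclusion_injective _)
      · rw [← iSup_restrictScalars_eq_top_iff (k := K)]
        simpa only [hmeq] using htop
    exact (isSemisimpleComod_iff (k := K) (A := C)).2 isSemisimpleModule_of_regular
  · intro h
    haveI := (isSemisimpleComod_iff (k := K) (A := C) (V := C)).1 (h C)
    choose m hms hmD hmeq using fun i : {D : Submodule K C // IsSimpleSubcoalg D} => exists_simple_coeffIn_eq i.2
    haveI := hms
    refine ⟨{D : Submodule K C // IsSimpleSubcoalg D}, fun i => i.1, ?_, ?_, fun i => i.2⟩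
    · have h1 := iSupIndep_restrictScalars (k := K) _
        (iSupIndep_isotypicComponent_of_not_equiv (R := DualAlg K C) (M := C) (fun i => ↥(m i))
          fun i j hij => ⟨fun e => hij (Subtype.ext (by rw [← hmeq i, ← hmeq j, coeffIn_eq_of_equiv e]))⟩)
      refine h1.mono fun i => ?_
      intro x hx
      exact coeffIn_le_isotypicComponent (m i) (show x ∈ (coeffIn (m i)).restrictScalars K by rw [hmeq]; exact hx)
    · rw [eq_top_iff]
      intro x _
      have hx : x ∈ sSup {n : Submodule (DualAlg K C) C | IsSimpleModule (DualAlg K C) n} := by
        rw [IsSemisimpleModule.sSup_simples_eq_top]; exact Submodule.mem_top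
      rw [sSup_eq_iSup'] at hx
      induction hx using Submodule.iSup_induction' with
      | mem n y hy =>
        haveI : IsSimpleModule (DualAlg K C) (n : Submodule (DualAlg K C) C) := n.2
        exact Submodule.mem_iSup_of_mem ⟨(coeffIn (n : Submodule (DualAlg K C) C)).restrictScalars K,
          isSimpleSubcoalg_coeffIn _⟩ (le_coeffIn _ hy)
      | zero => exact zero_mem _
      | add a b _ _ ha hb => exact add_mem (ha trivial) (hb trivial)

end Groth.Agent.S14843
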