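import Groth.Statements.S14844
import Groth.Agent.H20Comod.Slices
import Groth.Agent.H20Comod.Diag
import Mathlib.Algebra.DirectSum.Module

set_option autoImplicit false
universe u v w w'
open HopfRep

namespace Groth.Agent.S14844
open Groth.Agent.H20Comod

open TensorProduct in
/-- Let R be a commutative ring and C an R-coalgebra, flat over R, which is the internal direct sum of
subcoalgebras D_i (submodules whose comultiplication lands in the image of D_i ⊗ D_i, independent
and with supremum C). Then every right C-comodule V is the internal direct sum of the subcomodules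
V_i, where V_i is the preimage under the coaction of the image of V ⊗ D_i in V ⊗ C, and the coaction
maps V_i into the image of V_i ⊗ D_i, so that the comodule structure of V_i reduces to a
D_i-comodule structure. (The published statement is for a flat sheaf of coalgebras over a base
scheme and left comodules on a scheme over it; this row is the case of an affine base with modules
of global sections, for right comodules.) -/
theorem result {R : Type u} {C : Type v} [CommRing R]
    [AddCommGroup C] [Module R C] [Coalgebra R C] [Module.Flat R C]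
    {ι : Type w} (D : ι → Submodule R C)
    (hD : ∀ i, ∀ d ∈ D i, CoalgebraStruct.comul (R := R) d ∈
      LinearMap.range (TensorProduct.map (D i).subtype (D i).subtype))
    (hind : iSupIndep D) (htop : iSup D = ⊤)
    {V : Type w'} [AddCommGroup V] [Module R V] [HopfRep.Comod R C V] :
    (∀ i, HopfRep.IsSubcomod (k := R) (A := C) ((LinearMap.range (LinearMap.lTensor V (D i).subtype)).comap
        (HopfRep.Comod.coact (k := R) (A := C) (V := V)))) ∧
    iSupIndep (fun i => ((LinearMap.range (LinearMap.lTensor V (D i).subtype)).comap
        (HopfRep.Comod.coact (k := R) (A := C) (V := V)))) ∧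
    (⨆ i, ((LinearMap.range (LinearMap.lTensor V (D i).subtype)).comap
        (HopfRep.Comod.coact (k := R) (A := C) (V := V)))) = ⊤ ∧
    ∀ i, ∀ v ∈ ((LinearMap.range (LinearMap.lTensor V (D i).subtype)).comap
        (HopfRep.Comod.coact (k := R) (A := C) (V := V))),
      HopfRep.Comod.coact (k := R) (A := C) v ∈
        LinearMap.range (TensorProduct.map ((LinearMap.range (LinearMap.lTensor V (D i).subtype)).comap
        (HopfRep.Comod.coact (k := R) (A := C) (V := V))).subtype (D i).subtype) := by
  classical
  have hI : DirectSum.IsInternal D := DirectSum.isInternal_submodule_of_iSupIndep_of_iSup_eq_top hind htop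
  let e' : ∀ i, C →ₗ[R] D i := fun i => DirectSum.component R ι (fun i => D i) i ∘ₗ
    (LinearEquiv.ofBijective (DirectSum.coeLinearMap D) hI).symm.toLinearMap
  let e : ι → C →ₗ[R] C := fun i => (D i).subtype ∘ₗ e' i
  have e_same : ∀ i, ∀ c ∈ D i, e i c = c := fun i c hc =>
    congrArg Subtype.val (hI.ofBijective_coeLinearMap_of_mem hc)
  have e_ne : ∀ i j, j ≠ i → ∀ c ∈ D j, e i c = 0 := fun i j hij c hc =>
    congrArg Subtype.val (hI.ofBijective_coeLinearMap_of_mem_ne hij hc)
  let p : ι → V →ₗ[R] V := fun i => actL (CoalgebraStruct.counit (R := R) (A := C) ∘ₗ e i)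
  have eR : ∀ i c, sliceR (CoalgebraStruct.counit (R := R) (A := C) ∘ₗ e i)
      (CoalgebraStruct.comul (R := R) c) = e i c ∧ sliceL (CoalgebraStruct.counit (R := R) (A := C) ∘ₗ e i)
      (CoalgebraStruct.comul (R := R) c) = e i c := by
    intro i c
    have hc : c ∈ iSup D := htop ▸ Submodule.mem_top
    induction hc using Submodule.iSup_induction' with
    | mem j c hc =>
      obtain ⟨z, hz⟩ := hD j c hc
      by_cases hij : j = i
      · subst hij
        have hc' : sliceR (CoalgebraStruct.counit (R := R) (A := C)) (CoalgebraStruct.comul (R := R) c) = c :=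
          actL_counit (V := C) c
        have hc'' : sliceL (CoalgebraStruct.counit (R := R) (A := C)) (CoalgebraStruct.comul (R := R) c) = c := by
          simp [sliceL, Coalgebra.rTensor_counit_comul]
        have he : e j ∘ₗ (D j).subtype = (D j).subtype := LinearMap.ext fun d => e_same j d d.2
        rw [e_same j c hc]
        constructor
        · conv_rhs => rw [← hc']
          rw [← hz, ← LinearMap.rTensor_comp_lTensor, LinearMap.comp_apply, sliceR_rTensor, sliceR_rTensor,
            sliceR_lTensor, sliceR_lTensor, LinearMap.comp_assoc, he]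
        · conv_rhs => rw [← hc'']
          rw [← hz, ← LinearMap.lTensor_comp_rTensor, LinearMap.comp_apply, sliceL_lTensor, sliceL_lTensor,
            sliceL_rTensor, sliceL_rTensor, LinearMap.comp_assoc, he]
      · have he : e i ∘ₗ (D j).subtype = 0 := LinearMap.ext fun d => e_ne i j hij d d.2
        rw [e_ne i j hij c hc]
        constructor
        · rw [← hz, ← LinearMap.rTensor_comp_lTensor, LinearMap.comp_apply, sliceR_rTensor,
            sliceR_lTensor, LinearMap.comp_assoc, he]
          simp [sliceR]
        · rw [← hz, ← LinearMap.lTensor_comp_rTensor, LinearMap.comp_apply, sliceL_lTensor,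
            sliceL_rTensor, LinearMap.comp_assoc, he]
          simp [sliceL]
    | zero => simp
    | add x y _ _ hx hy => simp [hx.1, hx.2, hy.1, hy.2]
  set ρ := HopfRep.Comod.coact (k := R) (A := C) (V := V)
  have hρp : ∀ i v, ρ (p i v) = (e i).lTensor V (ρ v) := by
    intro i v
    have : ρ (p i v) = (actL (CoalgebraStruct.counit (R := R) (A := C) ∘ₗ e i) : C →ₗ[R] C).lTensor V (ρ v) :=
      coact_actL' _ v
    rw [this]
    congr 2
    exact LinearMap.ext fun c => (eR i c).1
  have hpρ : ∀ i v, (p i).rTensor C (ρ v) = (e i).lTensor V (ρ v) := by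
    intro i v
    have hco := LinearMap.congr_fun (HopfRep.Comod.coassoc (k := R) (A := C) (V := V)) v
    simp only [LinearMap.coe_comp, Function.comp_apply, LinearEquiv.coe_coe] at hco
    have h1 : ∀ z : V ⊗[R] C, (sliceL (CoalgebraStruct.counit (R := R) (A := C) ∘ₗ e i)).lTensor V
        (TensorProduct.assoc R V C C (ρ.rTensor C z)) = (p i).rTensor C z := by
      intro z
      induction z using TensorProduct.induction_on with
      | zero => simp
      | tmul x a =>
        simp only [LinearMap.rTensor_tmul, p, actL_apply]
        generalize ρ x = y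
        induction y using TensorProduct.induction_on with
        | zero => simp
        | tmul q b => simp [TensorProduct.smul_tmul]
        | add x y hx hy => simp only [TensorProduct.add_tmul, map_add, hx, hy]
      | add x y hx hy => simp only [map_add, hx, hy]
    rw [← h1, hco, ← LinearMap.lTensor_comp_apply]
    congr 2
    exact LinearMap.ext fun c => (eR i c).2
  have hmem : ∀ i v, ρ v ∈ LinearMap.range (LinearMap.lTensor V (D i).subtype) ↔ p i v = v := by
    intro i v
    constructor
    · rintro ⟨y, hy⟩
      show sliceR _ (ρ v) = v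
      have he : e i ∘ₗ (D i).subtype = (D i).subtype := LinearMap.ext fun d => e_same i d d.2
      rw [← hy, sliceR_lTensor, LinearMap.comp_assoc, he, ← sliceR_lTensor, hy]
      exact actL_counit v
    · intro h
      refine ⟨(e' i).lTensor V (ρ v), ?_⟩
      rw [← LinearMap.lTensor_comp_apply]
      conv_rhs => rw [← h, hρp]
  have hpV : ∀ i v, ρ (p i v) ∈ LinearMap.range (LinearMap.lTensor V (D i).subtype) := fun i v =>
    ⟨(e' i).lTensor V (ρ v), by rw [hρp, ← LinearMap.lTensor_comp_apply]⟩
  have hmap : ∀ i, ∀ v, p i v = v → ρ v ∈ LinearMap.range (TensorProduct.map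
      ((LinearMap.range (LinearMap.lTensor V (D i).subtype)).comap ρ).subtype (D i).subtype) := by
    intro i v h
    refine ⟨TensorProduct.map ((p i).codRestrict _ (hpV i)) (e' i) (ρ v), ?_⟩
    rw [TensorProduct.map_map, LinearMap.subtype_comp_codRestrict, ← LinearMap.rTensor_comp_lTensor,
      LinearMap.comp_apply]
    conv_rhs => rw [← h, hρp]
    have h' : (e i).lTensor V (ρ v) = ρ v := by rw [← hρp, h]
    rw [h', hpρ, h']
  refine ⟨fun i v hv => ?_, ?_, ?_, fun i v hv => hmap i v ((hmem i v).1 hv)⟩
  · obtain ⟨y, hy⟩ := hmap i v ((hmem i v).1 hv)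
    refine ⟨(D i).subtype.lTensor _ y, ?_⟩
    rw [← hy, ← LinearMap.comp_apply, LinearMap.rTensor_comp_lTensor]
  · rw [iSupIndep_def]
    intro i
    rw [Submodule.disjoint_def]
    intro x hx hx'
    have hle : (⨆ j, ⨆ (_ : j ≠ i), (LinearMap.range (LinearMap.lTensor V (D j).subtype)).comap ρ) ≤
        LinearMap.ker (p i) := by
      refine iSup_le fun j => iSup_le fun hj w hw => ?_
      obtain ⟨y, hy⟩ := hw
      show sliceR _ (ρ w) = 0
      have he : e i ∘ₗ (D j).subtype = 0 := LinearMap.ext fun d => e_ne i j hj d d.2
      rw [← hy, sliceR_lTensor, LinearMap.comp_assoc, he]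
      simp [sliceR]
    rw [← (hmem i x).1 hx]
    exact hle hx'
  · rw [eq_top_iff]
    intro v _
    have hsum : ∀ x : V ⊗[R] C, ∃ s : Finset ι, ∀ t, s ⊆ t → ∑ i ∈ t, (e i).lTensor V x = x := by
      intro x
      induction x using TensorProduct.induction_on with
      | zero => exact ⟨∅, by simp⟩
      | tmul w c =>
        have hc : c ∈ iSup D := htop ▸ Submodule.mem_top
        induction hc using Submodule.iSup_induction' with
        | mem j c hc =>
          refine ⟨{j}, fun t ht => ?_⟩
          rw [Finset.sum_eq_single j (fun b _ hb => ?_)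
            (fun h => absurd (ht (Finset.mem_singleton_self j)) h), LinearMap.lTensor_tmul, e_same j c hc]
          rw [LinearMap.lTensor_tmul, e_ne b j (Ne.symm hb) c hc, TensorProduct.tmul_zero]
        | zero => exact ⟨∅, by simp⟩
        | add a b _ _ ha hb =>
          obtain ⟨s, hs⟩ := ha
          obtain ⟨t, ht⟩ := hb
          refine ⟨s ∪ t, fun u hu => ?_⟩
          simp only [TensorProduct.tmul_add, map_add, Finset.sum_add_distrib]
          rw [hs u (Finset.union_subset_left hu), ht u (Finset.union_subset_right hu)]
      | add a b ha hb =>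
        obtain ⟨s, hs⟩ := ha
        obtain ⟨t, ht⟩ := hb
        refine ⟨s ∪ t, fun u hu => ?_⟩
        simp only [map_add, Finset.sum_add_distrib]
        rw [hs u (Finset.union_subset_left hu), ht u (Finset.union_subset_right hu)]
    obtain ⟨s, hs⟩ := hsum (ρ v)
    have : ρ (∑ i ∈ s, p i v) = ρ v := by
      simp only [map_sum, hρp]
      exact hs s subset_rfl
    have h3 := congrArg (sliceR (CoalgebraStruct.counit (R := R) (A := C))) this
    have h2 : ∑ i ∈ s, p i v = v := (actL_counit (A := C) _).symm.trans (h3.trans (actL_counit (A := C) v))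
    rw [← h2]
    exact Submodule.sum_mem _ fun i _ =>
      le_iSup (fun i => (LinearMap.range (LinearMap.lTensor V (D i).subtype)).comap ρ) i (hpV i v)

end Groth.Agent.S14844
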