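import Groth.Statements.S14845
import Groth.Agent.H27HilbOne.Basic

set_option autoImplicit false
open CategoryTheory CategoryTheory.Limits AlgebraicGeometry
universe u
open HilbD

namespace Groth.Agent.S14845

/-- For a separated morphism f : X → S, the Hilbert functor of one point of X over S is represented by X
with the diagonal as universal family: the diagonal of X ×_S X (the graph of the identity section of
X over itself) is a closed subscheme finite locally free of degree 1 over X, and every closed
subscheme of X ×_S T which is finite locally free of degree 1 over T is its base change along a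
unique S-morphism T → X. (The published statement takes S Noetherian, f locally of finite type and
the Hilbert functor on locally Noetherian S-schemes with flat proper families of Hilbert polynomial
1; this row uses the functor of families finite locally free of degree 1 on all S-schemes, for which
the same argument applies without Noetherian hypotheses.) -/
theorem result {X S : Scheme.{u}} (f : X ⟶ S) [IsSeparated f] :
    ∃ Δ : HilbD.Obj f 1 (Over.mk f),
      Δ.1 = HilbD.secGraph f (Over.mk f) (𝟙 X) (Category.id_comp f) ∧
      HilbD.IsUniversal f 1 (Over.mk f) Δ := by
  refine ⟨Groth.Agent.H27HilbOne.graphObj f (Over.mk f) (𝟙 X) (Category.id_comp f), rfl, ?_⟩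
  intro T Z'
  obtain ⟨x, hx, hZ⟩ := Groth.Agent.H27HilbOne.exists_eq_secGraph f Z'
  refine ⟨Over.homMk x hx, ?_, ?_⟩
  · change HilbD.pull f _ (HilbD.secGraph f (Over.mk f) (𝟙 X) (Category.id_comp f)) = _
    rw [Groth.Agent.H27HilbOne.pull_secGraph, hZ]
    congr 1
  · intro g hg
    change HilbD.pull f g (HilbD.secGraph f (Over.mk f) (𝟙 X) (Category.id_comp f)) = _ at hg
    rw [Groth.Agent.H27HilbOne.pull_secGraph, hZ] at hg
    have h := Groth.Agent.H27HilbOne.secGraph_injective f _ _ _ _ hg
    apply Over.OverMorphism.ext
    exact (Category.comp_id g.left).symm.trans h

end Groth.Agent.S14845
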