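import Groth.Statements.S14846
import Mathlib.FieldTheory.Galois.Infinite
import Mathlib.RingTheory.TwoSidedIdeal.Operations
import Mathlib.RingTheory.SimpleRing.Basic
import Mathlib.RingTheory.TensorProduct.Free

set_option autoImplicit false
universe u v w
open Brauer

namespace Groth.Agent.S14846

open TensorProduct in
/-- Let L/K be a Galois extension with group Γ = Aut_K(L), and A a K-algebra which is a simple ring. If
L ⊗_K A is semisimple, then Γ, acting on L ⊗_K A through the first tensor factor, permutes its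
simple components, i.e. its minimal nonzero two-sided ideals, transitively: any minimal two-sided
ideal is carried onto any other by some γ ⊗ id. -/
theorem result
    {K : Type u} {L : Type v} [Field K] [Field L] [Algebra K L] [IsGalois K L]
    {A : Type w} [Ring A] [Algebra K A] [IsSimpleRing A]
    [IsSemisimpleRing (L ⊗[K] A)]
    (I J : TwoSidedIdeal (L ⊗[K] A)) (hI : IsAtom I) (hJ : IsAtom J) :
    ∃ γ : L ≃ₐ[K] L, (J : Set (L ⊗[K] A)) =
      Algebra.TensorProduct.map (γ : L →ₐ[K] L) (AlgHom.id K A) '' (I : Set (L ⊗[K] A)) := by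
  classical
  let f : (L ≃ₐ[K] L) → (L ⊗[K] A →ₐ[K] L ⊗[K] A) := fun γ =>
    Algebra.TensorProduct.map (γ : L →ₐ[K] L) (AlgHom.id K A)
  have hf : ∀ γ δ z, f γ (f δ z) = f (γ * δ) z := fun γ δ z => by
    induction z using TensorProduct.induction_on with
    | zero => simp
    | add a b ha hb => simp only [map_add, ha, hb]
    | tmul c a => simp [f]
  have hf1 : ∀ z, f 1 z = z := fun z => by
    induction z using TensorProduct.induction_on with
    | zero => simp
    | add a b ha hb => simp only [map_add, ha, hb]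
    | tmul c a => simp [f]
  let Iγ : (L ≃ₐ[K] L) → TwoSidedIdeal (L ⊗[K] A) := fun γ => TwoSidedIdeal.comap (f γ⁻¹) I
  have hmem : ∀ γ z, z ∈ Iγ γ ↔ f γ⁻¹ z ∈ I := fun γ z => TwoSidedIdeal.mem_comap _
  obtain ⟨γ, hγ⟩ : ∃ γ, J ≤ Iγ γ := by
    by_contra hc
    push Not at hc
    let Ann : TwoSidedIdeal (L ⊗[K] A) := TwoSidedIdeal.mk' {z | ∀ j ∈ J, j * z = 0}
      (fun j _ => mul_zero j) (fun {x y} hx hy j hj => by rw [mul_add, hx j hj, hy j hj, add_zero])
      (fun {x} hx j hj => by rw [mul_neg, hx j hj, neg_zero])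
      (fun {x y} hy j hj => by rw [← mul_assoc]; exact hy _ (TwoSidedIdeal.mul_mem_right _ _ _ hj))
      (fun {x y} hx j hj => by rw [← mul_assoc, hx j hj, zero_mul])
    have hAnn : ∀ z, z ∈ Ann ↔ ∀ j ∈ J, j * z = 0 := fun z => TwoSidedIdeal.mem_mk' _ _ _ _ _ _ z
    let S : TwoSidedIdeal (L ⊗[K] A) := sSup (Set.range Iγ)
    have hSle : S ≤ Ann := sSup_le (by
      rintro _ ⟨γ, rfl⟩ z hz
      refine (hAnn z).mpr fun j hj => ?_
      have h : j * z ∈ J ⊓ Iγ γ := show j * z ∈ J ∧ j * z ∈ Iγ γ from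
        ⟨TwoSidedIdeal.mul_mem_right _ _ _ hj, TwoSidedIdeal.mul_mem_left _ _ _ hz⟩
      rcases hJ.le_iff.mp (inf_le_left : J ⊓ Iγ γ ≤ J) with hb | hb
      · rw [hb] at h; exact (TwoSidedIdeal.mem_bot _).mp h
      · exact absurd (inf_eq_left.mp hb) (hc γ))
    have hstable : ∀ γ z, z ∈ S → f γ z ∈ S := fun γ z hz => by
      have : S ≤ TwoSidedIdeal.comap (f γ) S := sSup_le (by
        rintro _ ⟨δ, rfl⟩ w hw
        refine (TwoSidedIdeal.mem_comap _).mpr ((le_sSup ⟨γ * δ, rfl⟩ : Iγ (γ * δ) ≤ S) ?_)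
        rw [hmem, hf, mul_inv_rev, mul_assoc, inv_mul_cancel, mul_one]
        exact (hmem _ _).mp hw)
      exact (TwoSidedIdeal.mem_comap _).mp (this hz)
    obtain ⟨z₀, hz₀, hz₀0⟩ : ∃ z ∈ S, z ≠ 0 := by
      by_contra h0
      push Not at h0
      refine hI.1 (eq_bot_iff.mpr fun z hz => (TwoSidedIdeal.mem_bot _).mpr (h0 z
        ((le_sSup ⟨1, rfl⟩ : Iγ 1 ≤ S) ((hmem _ _).mpr (by rwa [inv_one, hf1])))))
    -- a nonzero element of `S` coming from `A`
    obtain ⟨a, ha0, haS⟩ : ∃ a : A, a ≠ 0 ∧ (1 : L) ⊗ₜ[K] a ∈ S := by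
      let b := Module.Free.chooseBasis K A
      let bL := Algebra.TensorProduct.basis L b
      have hrepr : ∀ γ z i, bL.repr (f γ z) i = γ (bL.repr z i) := fun γ z i => by
        induction z using TensorProduct.induction_on with
        | zero => simp
        | add a b ha hb => simp [map_add, ha, hb]
        | tmul c a => simp [f, bL, Algebra.TensorProduct.basis_repr_tmul]
      have hex : ∃ m, ∃ z ∈ S, z ≠ 0 ∧ (bL.repr z).support.card = m := ⟨_, z₀, hz₀, hz₀0, rfl⟩
      obtain ⟨z, hz, hz0, hcard⟩ := Nat.find_spec hex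
      obtain ⟨i₀, hi₀⟩ := Finsupp.support_nonempty_iff.mpr (show bL.repr z ≠ 0 by simpa using hz0)
      set c := bL.repr z i₀ with hc
      have hc0 : c ≠ 0 := Finsupp.mem_support_iff.mp hi₀
      let w := c⁻¹ • z
      have hw : w ∈ S := by
        rw [show w = algebraMap L (L ⊗[K] A) c⁻¹ * z from Algebra.smul_def _ _]
        exact TwoSidedIdeal.mul_mem_left _ _ _ hz
      have hwi : bL.repr w i₀ = 1 := by simp [w, ← hc, inv_mul_cancel₀ hc0]
      have hfix : ∀ γ, f γ w = w := fun γ => by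
        by_contra hne
        have hd : f γ w - w ∈ S := TwoSidedIdeal.sub_mem _ (hstable γ w hw) hw
        have hlt : (bL.repr (f γ w - w)).support.card < Nat.find hex := by
          rw [← hcard]
          refine Finset.card_lt_card (Finset.ssubset_iff_of_subset ?_ |>.mpr ⟨i₀, hi₀, ?_⟩)
          · intro i hi
            rw [Finsupp.mem_support_iff] at hi ⊢
            contrapose! hi
            simp [hrepr, w, hi]
          · simp [hrepr, hwi]
        exact Nat.find_min hex hlt ⟨_, hd, sub_ne_zero.mpr hne, rfl⟩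
      have hK : ∀ i, ∃ r : K, algebraMap K L r = bL.repr w i := fun i =>
        Set.mem_range.mp ((InfiniteGalois.mem_range_algebraMap_iff_fixed _).mpr fun γ => by
          rw [← hrepr γ w i, hfix])
      choose r hr using hK
      let a : A := ∑ i ∈ (bL.repr w).support, r i • b i
      have hwa : w = (1 : L) ⊗ₜ[K] a := by
        conv_lhs => rw [← bL.linearCombination_repr w, Finsupp.linearCombination_apply, Finsupp.sum]
        rw [TensorProduct.tmul_sum]
        refine Finset.sum_congr rfl fun i _ => ?_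
        rw [TensorProduct.tmul_smul, ← hr i, algebraMap_smul, Algebra.TensorProduct.basis_apply]
      refine ⟨a, fun ha => ?_, hwa ▸ hw⟩
      rw [hwa, ha, TensorProduct.tmul_zero, map_zero] at hwi
      exact zero_ne_one hwi
    have h1 : (1 : L ⊗[K] A) ∈ S := by
      let ι : A →ₐ[K] L ⊗[K] A := Algebra.TensorProduct.includeRight
      have htop : TwoSidedIdeal.comap ι S = ⊤ := by
        rcases eq_bot_or_eq_top (TwoSidedIdeal.comap ι S) with h | h
        · refine absurd ?_ ha0
          have : a ∈ TwoSidedIdeal.comap ι S := (TwoSidedIdeal.mem_comap _).mpr haS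
          rw [h] at this; exact (TwoSidedIdeal.mem_bot _).mp this
        · exact h
      have : (1 : A) ∈ TwoSidedIdeal.comap ι S := by rw [htop]; trivial
      rw [TwoSidedIdeal.mem_comap, map_one] at this
      exact this
    exact hJ.1 (eq_bot_iff.mpr fun j hj => (TwoSidedIdeal.mem_bot _).mpr
      (by simpa using (hAnn 1).mp (hSle h1) j hj))
  -- `J ≤ γ(I)` forces equality
  refine ⟨γ, Set.Subset.antisymm (fun z hz => ⟨f γ⁻¹ z, (hmem _ _).mp (hγ hz), by
    change f γ (f γ⁻¹ z) = z
    rw [hf, mul_inv_cancel, hf1]⟩) ?_⟩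
  rintro _ ⟨x, hx, rfl⟩
  have hle : TwoSidedIdeal.comap (f γ) J ≤ I := fun y hy => by
    have := (hmem _ _).mp (hγ ((TwoSidedIdeal.mem_comap _).mp hy))
    rwa [hf, inv_mul_cancel, hf1] at this
  rcases hI.le_iff.mp hle with h | h
  · refine absurd (eq_bot_iff.mpr fun j hj => (TwoSidedIdeal.mem_bot _).mpr ?_) hJ.1
    have : f γ⁻¹ j ∈ TwoSidedIdeal.comap (f γ) J := by
      rw [TwoSidedIdeal.mem_comap, hf, mul_inv_cancel, hf1]; exact hj
    rw [h] at this
    have h0 := congrArg (f γ) ((TwoSidedIdeal.mem_bot _).mp this)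
    rwa [hf, mul_inv_cancel, hf1, map_zero] at h0
  · exact (TwoSidedIdeal.mem_comap _).mp (h ▸ hx : x ∈ TwoSidedIdeal.comap (f γ) J)

end Groth.Agent.S14846
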