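import Groth.Statements.S14847
import Groth.Agent.H20Comod.LinRed
import Groth.Agent.H20Comod.TraceIntegral
import Groth.Agent.S14843

set_option autoImplicit false
universe u v
open HopfRep

namespace Groth.Agent.S14847
open Groth.Agent.H20Comod

open TensorProduct in
/-- When K is a field of characteristic zero and G = Spec A is a finite group scheme over K, the
coordinate Hopf algebra A is cosemisimple, i.e. A is the internal direct sum of simple
subcoalgebras. Here a subcoalgebra of A is a subspace B whose comultiplication lands in the image of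
B ⊗ B, and a simple subcoalgebra is a nonzero subcoalgebra D whose only subcoalgebras contained in D
are 0 and D. -/
theorem result {K : Type u} {A : Type v} [Field K] [CharZero K]
    [CommRing A] [HopfAlgebra K A] [Module.Finite K A] :
    ∃ (ι : Type v) (D : ι → Submodule K A), iSupIndep D ∧ iSup D = ⊤ ∧ ∀ i,
        D i ≠ ⊥ ∧ (∀ b ∈ (D i), CoalgebraStruct.comul (R := K) b ∈ LinearMap.range (TensorProduct.map (D i).subtype (D i).subtype)) ∧
        ∀ B : Submodule K A, B ≤ D i → (∀ b ∈ B, CoalgebraStruct.comul (R := K) b ∈ LinearMap.range (TensorProduct.map B.subtype B.subtype)) → B = ⊥ ∨ B = D i := by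
  refine (Groth.Agent.S14843.result (K := K) (C := A)).2 fun V _ _ _ => ?_
  haveI : Nontrivial A := by
    refine nontrivial_of_ne 0 1 fun h => ?_
    have := congrArg (Bialgebra.counitAlgHom K A) h
    simp at this
  have hn : (Module.finrank K A : K) ≠ 0 := Nat.cast_ne_zero.2 Module.finrank_pos.ne'
  refine isSemisimpleComod_of_isIntegral (α := (Module.finrank K A : K)⁻¹ • traceForm K A) (fun a => ?_) ?_
  · have hlin : ∀ (c : K) (g : A →ₗ[K] K) (z : A ⊗[K] A), sliceL (c • g) z = c • sliceL g z := by
      intro c g z
      simp [sliceL, LinearMap.rTensor_smul]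
    rw [hlin, isIntegral_traceForm a, LinearMap.smul_apply, smul_smul, smul_eq_mul]
  · rw [LinearMap.smul_apply, traceForm_one, smul_eq_mul, inv_mul_cancel₀ hn]

end Groth.Agent.S14847
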