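import Groth.Statements.S14848
import Mathlib.LinearAlgebra.Matrix.NonsingularInverse
import Mathlib.LinearAlgebra.Matrix.SpecialLinearGroup
import Mathlib.RingTheory.RootsOfUnity.PrimitiveRoots
import Mathlib.Tactic

set_option autoImplicit false
universe u v
open McKay

namespace Groth.Agent.S14848

/-- Powers of the companion matrix of `X² - 2cX + 1` are read off from the powers of a root. -/
theorem pow_eq_smul_one_iff {K : Type u} {L : Type v} [Field K] [Field L] [Algebra K L] (ξ : L) (c : K)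
    (hc : algebraMap K L (2 * c) = ξ + ξ⁻¹) (h0 : ξ ≠ 0) (hne : ξ ≠ ξ⁻¹) (k : ℕ) (s : K) :
    (!![0, -1; 1, 2 * c] : Matrix (Fin 2) (Fin 2) K) ^ k = s • 1 ↔
      ξ ^ k = algebraMap K L s ∧ ξ⁻¹ ^ k = algebraMap K L s := by
  set f := algebraMap K L
  let P : Matrix (Fin 2) (Fin 2) L := !![1, 1; -ξ, -ξ⁻¹]
  let ML : Matrix (Fin 2) (Fin 2) L := !![0, -1; 1, f (2 * c)]
  have hsem : SemiconjBy P (Matrix.diagonal ![ξ, ξ⁻¹]) ML := by
    refine Matrix.ext fun i j => ?_
    fin_cases i <;> fin_cases j <;> simp [P, ML, Matrix.mul_apply, hc, Fin.sum_univ_two] <;>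
      field_simp <;> ring
  have hpow := hsem.pow_right k
  have hP : IsUnit P := by
    rw [Matrix.isUnit_iff_isUnit_det, Matrix.det_fin_two_of, isUnit_iff_ne_zero]
    intro h
    exact hne (by linear_combination h)
  have hmap : ((!![0, -1; 1, 2 * c] : Matrix (Fin 2) (Fin 2) K) ^ k).map f = ML ^ k := by
    rw [← RingHom.mapMatrix_apply, map_pow, RingHom.mapMatrix_apply]
    congr 1
    refine Matrix.ext fun i j => ?_
    fin_cases i <;> fin_cases j <;> simp [ML]
  have hs : ((s • 1 : Matrix (Fin 2) (Fin 2) K)).map f = f s • 1 := by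
    refine Matrix.ext fun i j => ?_
    by_cases h : i = j <;> simp [Matrix.one_apply, h]
  rw [← (Matrix.map_injective f.injective).eq_iff, hmap, hs]
  constructor
  · intro h
    have h1 : P * Matrix.diagonal ![ξ, ξ⁻¹] ^ k = P * (f s • 1) := by
      rw [hpow.eq, h]; simp
    have h2 := hP.mul_left_cancel h1
    rw [Matrix.diagonal_pow] at h2
    have h00 := congrFun (congrFun h2 0) 0
    have h11 := congrFun (congrFun h2 1) 1
    simp at h00 h11
    exact ⟨h00, by simpa using h11⟩
  · rintro ⟨ha, hb⟩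
    apply hP.mul_right_cancel
    rw [← hpow.eq, Matrix.diagonal_pow]
    refine Matrix.ext fun i j => ?_
    fin_cases i <;> fin_cases j <;> simp [Matrix.mul_apply, Fin.sum_univ_two, ha, ← inv_pow, hb] <;> ring

theorem ne_inv {L : Type v} [Field L] {ξ : L} {n : ℕ} (hξ : IsPrimitiveRoot ξ n) (hn : 3 ≤ n) :
    ξ ≠ 0 ∧ ξ ≠ ξ⁻¹ := by
  have h0 : ξ ≠ 0 := hξ.ne_zero (by omega)
  refine ⟨h0, fun h => ?_⟩
  have h2 : ξ ^ 2 = 1 := by
    rw [sq]; nth_rw 2 [h]; exact mul_inv_cancel₀ h0
  have := Nat.le_of_dvd (by norm_num) (hξ.dvd_of_pow_eq_one 2 h2)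
  omega

/-- The companion matrix as an element of `SL₂`. -/
def comp {K : Type u} [CommRing K] (c : K) : Matrix.SpecialLinearGroup (Fin 2) K :=
  ⟨!![0, -1; 1, 2 * c], by rw [Matrix.det_fin_two_of]; ring⟩

/-- Let K be a field of characteristic zero, L an extension field of K and ξ ∈ L a primitive n-th root
of unity (n ≥ 1) with ξ + ξ⁻¹ ∈ K, say ξ + ξ⁻¹ = 2c with c ∈ K (the character of the natural
two-dimensional representation of the cyclic group of order n takes values in K). Then the cyclic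
group of order n is realisable over K as a subgroup of SL(2, K): there is an element of SL(2, K) of
order n. -/
theorem result {K : Type u} {L : Type v} [Field K] [Field L]
    [CharZero K] [Algebra K L] (n : ℕ) (hn : 1 ≤ n) (ξ : L) (hξ : IsPrimitiveRoot ξ n) (c : K)
    (hc : algebraMap K L (2 * c) = ξ + ξ⁻¹) :
    ∃ M : Matrix.SpecialLinearGroup (Fin 2) K, orderOf M = n := by
  rcases (show n = 1 ∨ n = 2 ∨ 3 ≤ n by omega) with rfl | rfl | h3
  · exact ⟨1, orderOf_one⟩
  · refine ⟨-1, orderOf_eq_prime (by simp) fun h => ?_⟩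
    have := congrArg (fun M : Matrix.SpecialLinearGroup (Fin 2) K => M.1 0 0) h
    norm_num at this
  · obtain ⟨h0, hne⟩ := ne_inv hξ h3
    have key : ∀ k, comp c ^ k = 1 ↔ ξ ^ k = 1 := fun k => by
      refine Subtype.ext_iff.trans ?_
      rw [Matrix.SpecialLinearGroup.coe_pow, Matrix.SpecialLinearGroup.coe_one,
        ← one_smul K (1 : Matrix (Fin 2) (Fin 2) K)]
      exact (pow_eq_smul_one_iff ξ c hc h0 hne k 1).trans ⟨fun h => by simpa using h.1, fun h => by simp [h, inv_pow]⟩
    refine ⟨comp c, (orderOf_eq_iff (by omega)).2 ⟨(key n).2 hξ.pow_eq_one, fun m hm hm0 h => ?_⟩⟩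
    exact hξ.pow_ne_one_of_pos_of_lt hm0.ne' hm ((key m).1 h)

end Groth.Agent.S14848
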