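import Groth.Statements.S14849
import Groth.Agent.S14848

set_option autoImplicit false
universe u v
open McKay

namespace Groth.Agent.S14849

open Groth.Agent.S14848 (comp pow_eq_smul_one_iff ne_inv)

/-- Let K be a field of characteristic zero, L an extension field of K, n ≥ 2, and ξ ∈ L a primitive
2n-th root of unity with ξ + ξ⁻¹ = 2c for some c ∈ K. If the Hilbert symbol of -1 and c² - 1 over K
equals 1, i.e. x² - (c² - 1) y² = -1 has a solution in K, then the binary dihedral group of order 4n
(generators σ, τ with τ² = σⁿ = (τσ)²) is isomorphic to a subgroup of SL(2, K). (The published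
statement is an equivalence; this row is the direction realising the group from a solution of the
conic.) -/
theorem result {K : Type u} {L : Type v}
    [Field K] [Field L] [CharZero K] [Algebra K L] (n : ℕ) (hn : 2 ≤ n) (ξ : L)
    (hξ : IsPrimitiveRoot ξ (2 * n)) (c : K) (hc : algebraMap K L (2 * c) = ξ + ξ⁻¹)
    (hsol : ∃ x y : K, x ^ 2 - (c ^ 2 - 1) * y ^ 2 = -1) :
    ∃ f : QuaternionGroup n →* Matrix.SpecialLinearGroup (Fin 2) K, Function.Injective f := by
  classical
  haveI : NeZero (2 * n) := ⟨by omega⟩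
  obtain ⟨h0, hne⟩ := ne_inv hξ (by omega)
  obtain ⟨x, y, hxy⟩ := hsol
  have key : ∀ k, comp c ^ k = 1 ↔ ξ ^ k = 1 := fun k => by
    refine Subtype.ext_iff.trans ?_
    rw [Matrix.SpecialLinearGroup.coe_pow, Matrix.SpecialLinearGroup.coe_one,
      ← one_smul K (1 : Matrix (Fin 2) (Fin 2) K)]
    exact (pow_eq_smul_one_iff ξ c hc h0 hne k 1).trans ⟨fun h => by simpa using h.1, fun h => by simp [h, inv_pow]⟩
  have hord : orderOf (comp c) = 2 * n :=
    (orderOf_eq_iff (by omega)).2 ⟨(key _).2 hξ.pow_eq_one,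
      fun m hm hm0 h => hξ.pow_ne_one_of_pos_of_lt hm0.ne' hm ((key m).1 h)⟩
  have hξn : ξ ^ n = -1 := by
    have h1 : ξ ^ n * ξ ^ n = 1 := by rw [← pow_add, ← two_mul, hξ.pow_eq_one]
    exact (mul_self_eq_one_iff.1 h1).resolve_left (hξ.pow_ne_one_of_pos_of_lt (by omega) (by omega))
  have hMn : comp c ^ n = -1 := by
    refine Subtype.ext ?_
    rw [Matrix.SpecialLinearGroup.coe_pow, Matrix.SpecialLinearGroup.coe_neg,
      Matrix.SpecialLinearGroup.coe_one, ← neg_one_smul K (1 : Matrix (Fin 2) (Fin 2) K)]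
    exact (pow_eq_smul_one_iff ξ c hc h0 hne n (-1)).2 ⟨by simp [hξn], by simp [inv_pow, hξn]⟩
  let M := comp c
  let T : Matrix.SpecialLinearGroup (Fin 2) K := ⟨!![y, x + c * y; x + c * y - 2 * c * y, -y], by
    rw [Matrix.det_fin_two_of]; linear_combination -hxy⟩
  have hTT : T * T = M ^ n := by
    rw [hMn]
    refine Subtype.ext (Matrix.ext fun i j => ?_)
    fin_cases i <;> fin_cases j <;>
      simp [T, Matrix.mul_apply, Fin.sum_univ_two] <;> first | ring1 | linear_combination hxy
  have hMTM : M * T * M = T := by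
    refine Subtype.ext (Matrix.ext fun i j => ?_)
    fin_cases i <;> fin_cases j <;>
      simp [T, M, comp, Matrix.mul_apply, Fin.sum_univ_two] <;> ring
  let g : ZMod (2 * n) → Matrix.SpecialLinearGroup (Fin 2) K := fun i => M ^ i.val
  have gadd : ∀ i j, g i * g j = g (i + j) := fun i j => by
    show M ^ i.val * M ^ j.val = M ^ (i + j).val
    rw [← pow_add, ZMod.val_add, pow_eq_pow_iff_modEq, hord]
    exact (Nat.mod_modEq _ _).symm
  have g0 : g 0 = 1 := by simp [g]
  have gnat : ∀ k : ℕ, g k = M ^ k := fun k => by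
    show M ^ (k : ZMod (2 * n)).val = M ^ k
    rw [ZMod.val_natCast, pow_eq_pow_iff_modEq, hord]
    exact Nat.mod_modEq _ _
  have gneg : ∀ i, g (-i) = (g i)⁻¹ := fun i => eq_inv_of_mul_eq_one_left (by rw [gadd, neg_add_cancel, g0])
  have hconj : ∀ i, g i * T = T * g (-i) := fun i => by
    rw [gneg]
    show M ^ i.val * T = T * (M ^ i.val)⁻¹
    rw [← inv_pow]
    refine ((SemiconjBy.pow_right (a := T) (x := M⁻¹) (y := M) ?_ _).eq).symm
    show T * M⁻¹ = M * T
    rw [mul_inv_eq_iff_eq_mul, hMTM]
  let f : QuaternionGroup n → Matrix.SpecialLinearGroup (Fin 2) K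
    | .a i => g i
    | .xa i => T * g i
  let F : QuaternionGroup n →* Matrix.SpecialLinearGroup (Fin 2) K :=
    MonoidHom.mk' f fun a b => by
      rcases a with i | i <;> rcases b with j | j
      · rw [QuaternionGroup.a_mul_a]; exact (gadd i j).symm
      · rw [QuaternionGroup.a_mul_xa]
        show T * g (j - i) = g i * (T * g j)
        rw [← mul_assoc, hconj, mul_assoc, gadd, neg_add_eq_sub]
      · rw [QuaternionGroup.xa_mul_a]
        show T * g (i + j) = T * g i * g j
        rw [mul_assoc, gadd]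
      · rw [QuaternionGroup.xa_mul_xa]
        show g ((n : ZMod (2 * n)) + j - i) = T * g i * (T * g j)
        rw [mul_assoc, ← mul_assoc (g i), hconj, mul_assoc, ← mul_assoc T T, hTT, ← gnat, gadd, gadd]
        congr 1; ring
  have ginj : Function.Injective g := fun i j h => by
    have h1 := pow_eq_pow_iff_modEq.1 h
    rw [hord] at h1
    exact ZMod.val_injective _ (h1.eq_of_lt_of_lt (ZMod.val_lt i) (ZMod.val_lt j))
  have hT : ∀ i j, T * g i ≠ g j := fun i j h => by
    have hT' : T = g (j - i) := by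
      rw [eq_mul_inv_of_mul_eq h, ← gneg, gadd, sub_eq_add_neg]
    have hcomm : M * T = T * M := by
      have h1 : g ((1 : ℕ) : ZMod (2 * n)) = M := by rw [gnat, pow_one]
      rw [hT', ← h1, gadd, gadd, add_comm]
    have h2 : T * (M * M) = T * 1 := by
      rw [mul_one, ← mul_assoc, ← hcomm]; exact hMTM
    have h3 : M ^ 2 = 1 := by rw [sq]; exact mul_left_cancel h2
    have := Nat.le_of_dvd (by norm_num) (orderOf_dvd_of_pow_eq_one h3)
    rw [hord] at this
    omega
  refine ⟨F, ?_⟩
  rintro (i | i) (j | j) h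
  · exact congrArg _ (ginj h)
  · exact absurd h.symm (hT j i)
  · exact absurd h (hT i j)
  · exact congrArg _ (ginj (mul_left_cancel h))

end Groth.Agent.S14849
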