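import Groth.Statements.S1485
import Groth.Agent.H7Flat.CohDim.H1Apps
import Groth.Agent.LeadBC.FlatBC
import Groth.Agent.H28Int.FieldExt
import Groth.Agent.S0403
import Groth.Agent.H8Props.FieldDimFibre

set_option autoImplicit false
set_option backward.isDefEq.respectTransparency false
set_option maxHeartbeats 1000000
set_option linter.style.haveILetI false
universe u
open FlatMor

namespace Groth.Agent.S1485

open AlgebraicGeometry CategoryTheory Limits in
/-- Let f : X → Y be proper and y a point with fibre of dimension ≤ 1. Suppose there is a morphism g :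
Y' → Y whose image contains y such that, for the base change f' : X' → Y', H^1 of the structure
sheaf vanishes over the preimage of every affine open of Y' (that is, R^1 f'_* O = 0; taking g the
identity covers the case R^1 f_* O_X = 0). Then H^1(X_y, O_{X_y}) = 0. -/
theorem result {X Y Y' : Scheme.{u}} (f : X ⟶ Y) [IsProper f] (y : Y) (hdim : topologicalKrullDim ↑(f.fiber y) ≤ 1)
    (g : Y' ⟶ Y) (hy : y ∈ Set.range ⇑g)
    (hR1 : ∀ U : Y'.Opens, IsAffineOpen U → Subsingleton (Coh.HHon (pullback f g) (Coh.structureModule (pullback f g)) (pullback.snd f g ⁻¹ᵁ U) 1)) :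
    Subsingleton (Coh.HH (f.fiber y) (Coh.structureModule (f.fiber y)) 1) := by
  classical
  obtain ⟨y', rfl⟩ := hy
  set f' := pullback.snd f g with hf'
  haveI : IsProper f' := MorphismProperty.pullback_snd _ _ inferInstance
  let φ := g.residueFieldMap y'
  let p₁ : f'.fiber y' ⟶ pullback f g := f'.fiberι y'
  have h0 : IsPullback (p₁ ≫ pullback.fst f g) (f'.fiberToSpecResidueField y') f
      (Spec.map φ ≫ Y.fromSpecResidueField (g y')) := by
    rw [Scheme.Hom.SpecMap_residueFieldMap_fromSpecResidueField]
    exact (IsPullback.of_hasPullback f' (Y'.fromSpecResidueField y')).paste_horiz (IsPullback.of_hasPullback f g)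
  let q : f'.fiber y' ⟶ pullback f (Y.fromSpecResidueField (g y')) :=
    pullback.lift (p₁ ≫ pullback.fst f g) (f'.fiberToSpecResidueField y' ≫ Spec.map φ)
      (by rw [Category.assoc _ (Spec.map φ)]; exact h0.w)
  have hq : IsPullback q (f'.fiberToSpecResidueField y') (f.fiberToSpecResidueField (g y')) (Spec.map φ) :=
    IsPullback.of_right (by rw [pullback.lift_fst]; exact h0) (pullback.lift_snd _ _ _)
      (IsPullback.of_hasPullback f (Y.fromSpecResidueField (g y')))
  -- dimension of the new fibre
  have hd' : topologicalKrullDim ↥(f'.fiber y') ≤ (1 : ℕ) := by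
    haveI := H8Props.FieldDim.locallyOfFiniteType_fiberToSpec f' y'
    rw [H8Props.FieldDim.dim_eq_iSup_cdim]
    refine iSup_le fun v => ?_
    refine le_trans ?_ ((H8Props.FieldDim.fibreDimAt_eq_localDim f' v).symm.trans_le ?_)
    · rw [H8Props.FieldDim.localDim_eq (f'.fiberToSpecResidueField y') v]
      exact le_iSup_of_le ⟨v, specializes_rfl⟩ le_rfl
    rw [Groth.Agent.H8Props.FieldDim.fibreDimAt_baseChange f (IsPullback.of_hasPullback f g)]
    refine (H7Lim.fibreDimAt_le_dim_fiber f _).trans ?_
    rw [show f (pullback.fst f g (f'.fiberι y' v)) = g y' by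
      rw [← Scheme.Hom.comp_apply, pullback.condition, Scheme.Hom.comp_apply]; exact congrArg g (Set.mem_singleton_iff.1 ((f'.range_fiberι y').le ⟨v, rfl⟩))]
    exact_mod_cast hdim
  obtain ⟨U, hU, hyU, hUs⟩ := AlgebraicGeometry.exists_isAffineOpen_mem_and_subset
    (U := (⟨_, Groth.Agent.S0403.result f' (1 : ℕ)⟩ : Y'.Opens)) (x := y') hd'
  let A := Γ(Y', U)
  let W := f' ⁻¹ᵁ U
  letI := LeadBC.preOver f' hU
  let fW : W.toScheme ⟶ Spec A := W.toScheme ↘ Spec (CommRingCat.of A)
  have hW : IsPullback W.ι fW f' hU.fromSpec :=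
    (isPullback_morphismRestrict f' U).flip.of_iso (Iso.refl _) (Iso.refl _) hU.isoSpec (Iso.refl _)
      ((Category.comp_id _).trans (Category.id_comp _).symm) rfl (by simp) (by simp)
  haveI : IsProper fW := MorphismProperty.of_isPullback hW ‹IsProper f'›
  haveI : IsProper (W.toScheme ↘ Spec (CommRingCat.of A)) := ‹IsProper fW›
  have hdW : ∀ s : Spec A, topologicalKrullDim ↥(fW.fiber s) ≤ (1 : ℕ) := fun s => by
    rw [H7Flat.CohDim.dim_fiber_eq hW s]
    exact hUs (hU.range_fromSpec ▸ Set.mem_range_self s : hU.fromSpec s ∈ (U : Set Y'))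
  have h1W : Subsingleton (Coh.HH W.toScheme (Coh.structureModule W.toScheme) 1) :=
    H7Flat.CohDim.subsingleton_HH_of_iso (Scheme.Modules.restrictUnitIso W.ι) 1 (hR1 U hU)
  -- the fibre as a closed base change of the affine chart
  letI : (f'.fiber y').Over (Spec (CommRingCat.of (Y'.residueField y'))) := ⟨f'.fiberToSpecResidueField y'⟩
  let ψ : A ⟶ Y'.residueField y' := Y'.presheaf.germ U y' hyU ≫ Y'.residue y'
  have hψ : Spec.map ψ ≫ hU.fromSpec = Y'.fromSpecResidueField y' := by
    rw [show Spec.map ψ = Spec.map (Y'.residue y') ≫ Spec.map (Y'.presheaf.germ U y' hyU) from Spec.map_comp _ _,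
      Category.assoc]
    exact congrArg (Spec.map (Y'.residue y') ≫ ·) (hU.fromSpecStalk_eq_fromSpecStalk hyU)
  have h2 : IsPullback p₁ (f'.fiberToSpecResidueField y') f' (Spec.map ψ ≫ hU.fromSpec) := by
    rw [hψ]; exact IsPullback.of_hasPullback _ _
  let q₂ : f'.fiber y' ⟶ W.toScheme :=
    hW.lift p₁ (f'.fiberToSpecResidueField y' ≫ Spec.map ψ) (by rw [Category.assoc]; exact h2.w)
  have hq₂ : IsPullback q₂ (f'.fiberToSpecResidueField y') fW (Spec.map ψ) :=
    IsPullback.of_right (by rw [hW.lift_fst]; exact h2) (hW.lift_snd _ _ _) hW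
  obtain ⟨u, -, hspan⟩ := H7Flat.CohDim.exists_pullMap (A₀ := A) (A := Y'.residueField y')
    (f'.fiberToSpecResidueField y') fW rfl rfl ψ q₂ hq₂.w
    (by rw [show pullback.lift q₂ _ hq₂.w = hq₂.isoPullback.hom from
          pullback.hom_ext ((pullback.lift_fst _ _ _).trans hq₂.isoPullback_hom_fst.symm)
            ((pullback.lift_snd _ _ _).trans hq₂.isoPullback_hom_snd.symm)]
        infer_instance)
    (fun M hM => haveI := hM; H7Flat.CohDim.subsingleton_HH fW 1 hdW M (1 + 1) (by norm_num))
  have hk' : Subsingleton (Coh.HH (f'.fiber y') (Coh.structureModule (f'.fiber y')) 1) := by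
    refine subsingleton_of_forall_eq 0 fun x => ?_
    have hx := hspan x
    rw [show Set.range u = {0} from Set.ext fun w => ⟨fun ⟨z, hz⟩ => by
        rw [Set.mem_singleton_iff, ← hz, Subsingleton.elim z 0, map_zero],
      fun hw => ⟨0, by rw [map_zero, Set.mem_singleton_iff.1 hw]⟩⟩,
      Submodule.span_singleton_eq_bot.2 rfl, Submodule.mem_bot] at hx
    exact hx
  -- descend along the extension of residue fields
  letI : (f.fiber (g y')).Over (Spec (CommRingCat.of (Y.residueField (g y')))) :=
    ⟨f.fiberToSpecResidueField (g y')⟩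
  letI : Algebra (Y.residueField (g y')) (Y'.residueField y') := φ.hom.toAlgebra
  haveI : IsProper (f.fiberToSpecResidueField (g y')) := MorphismProperty.pullback_snd _ _ inferInstance
  haveI : IsSeparated ((f.fiber (g y')) ↘ Spec (CommRingCat.of (Y.residueField (g y')))) :=
    inferInstanceAs (IsSeparated (f.fiberToSpecResidueField (g y')))
  haveI : QuasiCompact ((f.fiber (g y')) ↘ Spec (CommRingCat.of (Y.residueField (g y')))) :=
    inferInstanceAs (QuasiCompact (f.fiberToSpecResidueField (g y')))
  haveI : (Coh.structureModule (f.fiber (g y'))).IsQuasicoherent := H10Coh.isQuasicoherent_unit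
  obtain ⟨e⟩ := LeadBC.nonempty_baseChange_of_flat (A := Y.residueField (g y'))
    (F := Coh.structureModule (f.fiber (g y')))
    (H28Int.FieldExt.isFlatOver_of_field _ _)
    (fun _ => Module.Flat.of_free) (Y'.residueField y') (q := q) hq 1
  haveI : Subsingleton (Coh.HH (f'.fiber y') (LeadBC.qF q (Coh.structureModule (f.fiber (g y')))) 1) :=
    H7Flat.CohDim.subsingleton_HH_of_iso (H16Derived.KFlat.Stalk.structurePullbackIso q).symm 1 hk'
  haveI := e.symm.toEquiv.subsingleton
  exact Module.FaithfullyFlat.rTensor_reflects_triviality (R := Y.residueField (g y'))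
    (M := Y'.residueField y') _

end Groth.Agent.S1485
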