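import Groth.Statements.S14850
import Groth.Agent.H20Comod.Semisimple

set_option autoImplicit false
universe u v
open HopfRep

namespace Groth.Agent.S14850
open scoped Groth.Agent.H20Comod
open Groth.Agent.H20Comod

open TensorProduct in
/-- Over a field K, a nonzero coalgebra C is simple if and only if C is isotypic as a right comodule
over itself, i.e. C is the internal direct sum of the images of a family of injective comodule maps
from one simple right C-comodule E. Here a subcoalgebra of C is a subspace B whose comultiplication
lands in the image of B ⊗ B, and C is simple when its only subcoalgebras are 0 and C. (Stated for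
the right regular comodule; the published statement allows left or right.) -/
theorem result {K : Type u} {C : Type v} [Field K] [AddCommGroup C]
    [Module K C] [Coalgebra K C] [Nontrivial C] :
    (∀ B : Submodule K C, (∀ b ∈ B, CoalgebraStruct.comul (R := K) b ∈ LinearMap.range (TensorProduct.map B.subtype B.subtype)) → B = ⊥ ∨ B = ⊤) ↔
    ∃ (E : Type v) (_ : AddCommGroup E) (_ : Module K E) (_ : HopfRep.Comod K C E),
      HopfRep.IsSimpleComod K C E ∧
      ∃ (ι : Type v) (f : ι → (E →ₗ[K] C)),
        (∀ i, Hoch.IsComodHom C (f i) ∧ Function.Injective (f i)) ∧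
        iSupIndep (fun i => LinearMap.range (f i)) ∧ (⨆ i, LinearMap.range (f i)) = ⊤ := by
  constructor
  · intro hsimple
    have hD : IsSimpleSubcoalg (⊤ : Submodule K C) :=
      ⟨top_ne_bot, fun b _ => (mem_range_map_subtype_iff ⊤ _).2 ⟨fun _ => trivial, fun _ => trivial⟩,
        fun B _ hB => hsimple B hB⟩
    obtain ⟨m, hms, -, hmeq⟩ := exists_simple_coeffIn_eq hD
    haveI := hms
    have htop : coeffIn m = ⊤ := Submodule.restrictScalars_injective K (DualAlg K C) C (hmeq.trans rfl)
    have hct : isotypicComponent (DualAlg K C) C m = ⊤ := top_le_iff.1 (htop ▸ coeffIn_le_isotypicComponent m)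
    haveI : IsSemisimpleModule (DualAlg K C) C := by
      haveI : IsSemisimpleModule (DualAlg K C) ↥(⊤ : Submodule (DualAlg K C) C) := hct ▸ inferInstance
      exact IsSemisimpleModule.congr Submodule.topEquiv.symm
    obtain ⟨s, hind, hsup, hs⟩ := IsSemisimpleModule.exists_sSupIndep_sSup_simples_eq_top (DualAlg K C) C
    letI := subComod m
    obtain ⟨e, he⟩ := exists_equiv_subComod m
    haveI : IsSimpleModule (DualAlg K C) ↥(m.restrictScalars K) := IsSimpleModule.congr e
    have hiso : ∀ i : s, Nonempty (↥(m.restrictScalars K) ≃ₗ[DualAlg K C] (i : Submodule (DualAlg K C) C)) := fun i => by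
      haveI := hs i.1 i.2
      obtain ⟨f⟩ := linearEquiv_of_le_coeffIn (m := m) (n := i.1) (htop ▸ le_top)
      exact ⟨e.trans f.symm⟩
    choose f hf using fun i => (⟨_, rfl⟩ : ∃ g, g = (hiso i).some)
    refine ⟨↥(m.restrictScalars K), inferInstance, inferInstance, subComod m, isSimpleComod_iff.2 inferInstance, s,
      fun i => ((i : Submodule (DualAlg K C) C).subtype.comp (f i).toLinearMap).restrictScalars K,
      fun i => ⟨isComodHom_restrictScalars _, Subtype.val_injective.comp (f i).injective⟩, ?_, ?_⟩
    all_goals
      have hr : ∀ i : s, LinearMap.range (((i : Submodule (DualAlg K C) C).subtype.comp (f i).toLinearMap).restrictScalars K) =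
          (i : Submodule (DualAlg K C) C).restrictScalars K := by
        intro i
        ext x
        constructor
        · rintro ⟨y, rfl⟩; exact (f i y).2
        · intro hx; exact ⟨(f i).symm ⟨x, hx⟩, congrArg Subtype.val ((f i).apply_symm_apply ⟨x, hx⟩)⟩
      simp only [hr]
    · exact iSupIndep_restrictScalars _ ((sSupIndep_iff s).1 hind)
    · rw [iSup_restrictScalars_eq_top_iff, ← sSup_eq_iSup', hsup]
  · rintro ⟨E, iA, iM, iC, hE, ι, f, hf, -, htop⟩ B hB
    letI := iC
    haveI := (isSimpleComod_iff (k := K) (A := C)).1 hE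
    haveI : IsSimpleModule (DualAlg K C) (⊤ : Submodule (DualAlg K C) E) := IsSimpleModule.congr Submodule.topEquiv
    have hEtop : coeffIn (⊤ : Submodule (DualAlg K C) E) = ⊤ := by
      rw [eq_top_iff]
      intro x _
      have hx : x ∈ ⨆ i, LinearMap.range (f i) := htop ▸ Submodule.mem_top
      induction hx using Submodule.iSup_induction' with
      | mem i y hy =>
        obtain ⟨v, rfl⟩ := hy
        have h1 := coeff_eq_coeff_of_map (p := (⊤ : Submodule (DualAlg K C) E))
          ((homLin (f i) (hf i).1).comp Submodule.topEquiv.toLinearMap)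
          (CoalgebraStruct.counit (R := K) (A := C) ∘ₗ f i) CoalgebraStruct.counit (fun x => rfl) ⟨v, Submodule.mem_top⟩
        rw [show f i v = coeff C (CoalgebraStruct.counit (R := K) (A := C)) (f i v) from (coeff_counit _).symm]
        exact h1 ▸ coeff_mem_coeffIn Submodule.mem_top _
      | zero => exact zero_mem _
      | add a b _ _ ha hb => exact add_mem (ha trivial) (hb trivial)
    by_cases hB0 : toSub B (IsSubcoalg.isSubcomod hB) = ⊥
    · exact Or.inl (by rw [← restrictScalars_toSub B (IsSubcoalg.isSubcomod hB), hB0]; rfl)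
    obtain ⟨n, hn, hns⟩ := exists_simple_le hB0
    haveI := hns
    obtain ⟨e⟩ := linearEquiv_of_le_coeffIn (n := n) (m := (⊤ : Submodule (DualAlg K C) E)) (hEtop ▸ le_top)
    refine Or.inr (top_le_iff.1 fun x _ => coeffIn_le_of_le_subcoalg hB hn ?_)
    show x ∈ coeffIn n
    rw [coeffIn_eq_of_equiv e, hEtop]
    exact Submodule.mem_top

end Groth.Agent.S14850
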