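import Groth.Statements.S14851
import Groth.Agent.H20Comod.DualMod

set_option autoImplicit false
universe u v w w'
open HopfRep

namespace Groth.Agent.S14851
open scoped Groth.Agent.H20Comod
open Groth.Agent.H20Comod

open TensorProduct in
/-- The map E ↦ C(E) from isomorphism classes of simple comodules to simple subcoalgebras is injective,
that is: over a field K, two simple right comodules E, E' over a coalgebra C with the same
coefficient space D (the least subspace D' of C such that the coaction lands in E ⊗ D', resp. E' ⊗
D') are isomorphic as comodules. (The published statement is made for a cosemisimple coalgebra and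
for left comodules; the printed argument for this part uses neither restriction.) -/
theorem result {K : Type u} {C : Type v} [Field K]
    [AddCommGroup C] [Module K C] [Coalgebra K C]
    {E : Type w} [AddCommGroup E] [Module K E] [HopfRep.Comod K C E]
    {E' : Type w'} [AddCommGroup E'] [Module K E'] [HopfRep.Comod K C E']
    (hE : HopfRep.IsSimpleComod K C E) (hE' : HopfRep.IsSimpleComod K C E') (D : Submodule K C)
    (hD : IsLeast {D' : Submodule K C |
      ∀ e : E, HopfRep.Comod.coact (k := K) (A := C) e ∈ LinearMap.range (LinearMap.lTensor E D'.subtype)} D)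
    (hD' : IsLeast {D' : Submodule K C |
      ∀ e : E', HopfRep.Comod.coact (k := K) (A := C) e ∈ LinearMap.range (LinearMap.lTensor E' D'.subtype)} D) :
    ∃ e : E ≃ₗ[K] E', Hoch.IsComodHom C e.toLinearMap := by
  haveI := (isSimpleComod_iff (k := K) (A := C)).1 hE
  haveI := (isSimpleComod_iff (k := K) (A := C)).1 hE'
  haveI : IsSimpleModule (DualAlg K C) (⊤ : Submodule (DualAlg K C) E) := IsSimpleModule.congr Submodule.topEquiv
  haveI : IsSimpleModule (DualAlg K C) (⊤ : Submodule (DualAlg K C) E') := IsSimpleModule.congr Submodule.topEquiv
  have hne : (coeffIn (⊤ : Submodule (DualAlg K C) E)) ≠ ⊥ := fun e =>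
    (isSimpleSubcoalg_coeffIn (⊤ : Submodule (DualAlg K C) E)).1 (by rw [e]; rfl)
  have heq : coeffIn (⊤ : Submodule (DualAlg K C) E) = coeffIn (⊤ : Submodule (DualAlg K C) E') := by
    apply Submodule.restrictScalars_injective K
    rw [restrictScalars_coeffIn_top, restrictScalars_coeffIn_top, ← hD.unique isLeast_coeffs,
      hD'.unique isLeast_coeffs]
  obtain ⟨n, hn, hns⟩ := exists_simple_le hne
  haveI := hns
  obtain ⟨e1⟩ := linearEquiv_of_le_coeffIn (n := n) hn
  obtain ⟨e2⟩ := linearEquiv_of_le_coeffIn (n := n) (heq ▸ hn)
  let e := Submodule.topEquiv.symm.trans (e1.symm.trans (e2.trans Submodule.topEquiv))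
  exact ⟨e.restrictScalars K, isComodHom_restrictScalars e.toLinearMap⟩

end Groth.Agent.S14851
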