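import Groth.Statements.S14855
import Groth.Agent.H3CAlg.WittComplete

set_option autoImplicit false
universe u
open CAlg

namespace Groth.Agent.S14855

/-- Let p be a prime and R a commutative ring which is complete and separated for the p-adic topology.
Then the ring W(R) of p-typical Witt vectors of R is complete and separated for its own p-adic
topology, and it is also complete and separated for the adic topology of the ideal I_R, the kernel
of the projection of W(R) onto the zeroth Witt component. -/
theorem result (p : ℕ) [Fact p.Prime] (R : Type u) [CommRing R]
    [IsAdicComplete (Ideal.span {(p : R)}) R] :
    IsAdicComplete (Ideal.span {(p : WittVector p R)}) (WittVector p R) ∧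
      IsAdicComplete (RingHom.ker (WittVector.constantCoeff : WittVector p R →+* R)) (WittVector p R) := by
  exact ⟨Groth.Agent.H3CAlg.WittComplete.isAdicComplete_p,
    Groth.Agent.H3CAlg.WittComplete.isAdicComplete_ker⟩

end Groth.Agent.S14855
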