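import Groth.Statements.S14856
import Mathlib.Algebra.Algebra.ZMod
import Mathlib.Algebra.Order.Ring.Star
import Mathlib.Data.Int.ConditionallyCompleteOrder
import Mathlib.Data.Int.Star
import Mathlib.Order.CompletePartialOrder
import Mathlib.RingTheory.Flat.EquationalCriterion
import Mathlib.RingTheory.KrullDimension.Regular
import Mathlib.RingTheory.PowerSeries.Trunc
import Mathlib.RingTheory.Regular.Flat
import Mathlib.RingTheory.WittVector.Basic
import Mathlib.Topology.Algebra.Module.ModuleTopology
import Mathlib.Topology.Instances.Matrix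

set_option autoImplicit false
universe u
open CAlg

namespace Groth.Agent.S14856

/-- Let p be a prime and S a commutative ring in which p is a non-zero-divisor. For a p-typical Witt
vector x over S, a natural number m and an integer s ≥ 1, the power p^s divides each of the Witt
components x_0, …, x_m if and only if p^(n+s) divides the n-th ghost component w_n(x) = x_0^(p^n) +
p x_1^(p^(n-1)) + ⋯ + p^n x_n for every n ≤ m. -/
theorem result (p : ℕ) [Fact p.Prime] (S : Type u) [CommRing S]
    (hS : ∀ y : S, (p : S) * y = 0 → y = 0) (x : WittVector p S) (m s : ℕ) (hs : 1 ≤ s) :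
    (∀ i ≤ m, (p : S) ^ s ∣ x.coeff i) ↔
      (∀ n ≤ m, (p : S) ^ (n + s) ∣ WittVector.ghostComponent n x) := by
  have cancel : ∀ (n : ℕ) (a b : S), (p : S) ^ n * a = (p : S) ^ n * b → a = b := by
    intro n
    induction n with
    | zero => intro a b h; simpa using h
    | succ n ih =>
      intro a b h
      refine ih a b (sub_eq_zero.mp (hS _ ?_))
      rw [mul_sub, ← mul_assoc, ← mul_assoc, ← pow_succ', h, sub_self]
  have hexp : ∀ n i : ℕ, i ≤ n → n + s ≤ i + s * p ^ (n - i) := by
    intro n i hi
    have h2 : n - i + 1 ≤ p ^ (n - i) := Nat.lt_pow_self (Fact.out : p.Prime).one_lt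
    nlinarith [Nat.sub_add_cancel hi, Nat.mul_le_mul_left s h2, Nat.mul_le_mul_right (n - i) hs]
  have hw : ∀ n, WittVector.ghostComponent n x =
      ∑ i ∈ Finset.range (n + 1), (p : S) ^ i * x.coeff i ^ p ^ (n - i) := by
    intro n
    rw [WittVector.ghostComponent_apply, aeval_wittPolynomial]
  have hterm : ∀ n i, i ≤ n → (p : S) ^ s ∣ x.coeff i → (p : S) ^ (n + s) ∣ (p : S) ^ i * x.coeff i ^ p ^ (n - i) := by
    intro n i hi h
    refine (pow_dvd_pow _ (hexp n i hi)).trans ?_
    rw [pow_add, pow_mul]
    exact mul_dvd_mul_left _ (pow_dvd_pow_of_dvd h _)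
  constructor
  · intro h n hn
    rw [hw]
    exact Finset.dvd_sum fun i hi => hterm n i (by simp at hi; omega) (h i (by simp at hi; omega))
  · intro h i
    induction i using Nat.strong_induction_on with
    | _ i ih =>
      intro hi
      have h1 := h i hi
      rw [hw, Finset.sum_range_succ, Nat.sub_self, pow_zero, pow_one] at h1
      have h2 : (p : S) ^ (i + s) ∣ ∑ j ∈ Finset.range i, (p : S) ^ j * x.coeff j ^ p ^ (i - j) :=
        Finset.dvd_sum fun j hj => by
          simp at hj
          exact hterm i j hj.le (ih j hj (by omega))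
      obtain ⟨c, hc⟩ := (dvd_add_right h2).mp h1
      refine ⟨c, cancel i _ _ ?_⟩
      rw [hc, pow_add, mul_assoc]

end Groth.Agent.S14856
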