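import Groth.Statements.S14857
import Mathlib.NumberTheory.Padics.PadicIntegers
import Mathlib.Order.CompletePartialOrder
import Mathlib.RingTheory.Flat.FaithfullyFlat.Algebra
import Mathlib.RingTheory.HopkinsLevitzki
import Mathlib.RingTheory.Noetherian.OfPrime
import Mathlib.RingTheory.SimpleRing.Principal
import Mathlib.RingTheory.Support
import Mathlib.RingTheory.WittVector.Domain
import Mathlib.RingTheory.WittVector.Teichmuller

set_option autoImplicit false
open CAlg

namespace Groth.Agent.S14857

/-- For a prime p, the Teichmüller representative [p^p] of the element p^p of the p-adic integers is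
divisible by p in the ring of p-typical Witt vectors W(ℤ_p). -/
theorem result (p : ℕ) [Fact p.Prime] :
    (p : WittVector p ℤ_[p]) ∣ WittVector.teichmuller p ((p : ℤ_[p]) ^ p) := by
  have h1 : WittVector.constantCoeff (WittVector.teichmuller p (p : ℤ_[p]) - (p : WittVector p ℤ_[p])) = 0 := by
    rw [map_sub, map_natCast (WittVector.constantCoeff (p := p) (R := ℤ_[p]))]
    simp [WittVector.constantCoeff, WittVector.teichmuller_coeff_zero]
  set y := WittVector.teichmuller p (p : ℤ_[p]) - (p : WittVector p ℤ_[p]) with hy
  have h2 : WittVector.verschiebung (y.shift 1) = y := by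
    have := WittVector.verschiebung_shift y 0 (by
      intro i hi
      obtain rfl : i = 0 := by omega
      simpa [WittVector.constantCoeff] using h1)
    convert this using 2
    ext n; simp [WittVector.shift]
  have h3 : WittVector.frobenius (WittVector.teichmuller p (p : ℤ_[p])) = WittVector.teichmuller p ((p : ℤ_[p]) ^ p) :=
by
    have hinj : Function.Injective (WittVector.map (p := p) (algebraMap ℤ_[p] ℚ_[p])) :=
      WittVector.map_injective _ (IsFractionRing.injective ℤ_[p] ℚ_[p])
    apply hinj
    rw [WittVector.map_teichmuller]
    have : Invertible (p : ℚ_[p]) := invertibleOfNonzero (by exact_mod_cast (Fact.out : p.Prime).ne_zero)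
    apply (WittVector.ghostMap.bijective_of_invertible p ℚ_[p]).1
    funext n
    simp only [WittVector.ghostMap_apply]
    change WittVector.ghostComponent n (WittVector.map (algebraMap ℤ_[p] ℚ_[p]) (WittVector.frobenius (WittVector.teichmuller p (p : ℤ_[p])))) = _
    rw [WittVector.ghostComponent_teichmuller]
    have hmap : ∀ (z : WittVector p ℤ_[p]) n, WittVector.ghostComponent n (WittVector.map (algebraMap ℤ_[p] ℚ_[p]) z) = algebraMap ℤ_[p] ℚ_[p] (WittVector.ghostComponent n z) := by
      intro z n
      simp [WittVector.ghostComponent_apply, wittPolynomial_eq_sum_C_mul_X_pow, WittVector.map_coeff]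
    rw [hmap, WittVector.ghostComponent_frobenius, WittVector.ghostComponent_teichmuller, map_pow]
    simp [← pow_mul, pow_succ']
  have h4 : WittVector.teichmuller p (p : ℤ_[p]) = (p : WittVector p ℤ_[p]) + WittVector.verschiebung (y.shift 1) := by
    rw [h2, hy]; ring
  rw [← h3, h4, map_add, map_natCast, WittVector.frobenius_verschiebung]
  exact dvd_add dvd_rfl (dvd_mul_left _ _)

end Groth.Agent.S14857
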