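import Groth.Statements.S14858
import Mathlib
import Groth.Agent.H27Disp.Rigid
import Groth.Agent.H27Disp.IdemEnd
import Groth.Agent.H3CAlg.WittComplete

set_option autoImplicit false
universe u v
open Disp

namespace Groth.Agent.S14858

/-- Let p be a prime and R a commutative ring which is complete and separated for the p-adic topology;
write W = W(R) for the p-typical Witt vectors and I for the ideal of W generated by the image of the
Verschiebung. Let P be a finitely generated projective W-module and Q a submodule of P which admits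
a complement modulo I·P, that is a submodule C with Q + C = P and Q ∩ C = I·P (equivalently I·P ⊆ Q
and the graded pieces P/Q and Q/I·P of the filtration I·P ⊆ Q ⊆ P are finitely generated projective
R-modules). Then there is a direct sum decomposition P = L ⊕ T by submodules with Q = L + I·T, so
that together with any Frobenius-semilinear operators F and V⁻¹ satisfying the remaining axioms the
pair (P, Q) underlies a 3n-display. -/
theorem result (p : ℕ) [Fact p.Prime] (R : Type u) [CommRing R]
    [IsAdicComplete (Ideal.span {(p : R)}) R]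
    (P : Type v) [AddCommGroup P] [Module (WittVector p R) P]
    [Module.Finite (WittVector p R) P] [Module.Projective (WittVector p R) P]
    (Q : Submodule (WittVector p R) P)
    (hQ : ∃ C : Submodule (WittVector p R) P,
      Q ⊔ C = ⊤ ∧ Q ⊓ C = W4c1extbt610.IV p R • (⊤ : Submodule (WittVector p R) P)) :
    ∃ L T : Submodule (WittVector p R) P, IsCompl L T ∧ Q = L ⊔ W4c1extbt610.IV p R • T := by
  classical
  obtain ⟨C, hsup, hinf⟩ := hQ
  have hIV : W4c1extbt610.IV p R = RingHom.ker (WittVector.constantCoeff : WittVector p R →+* R) := by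
    refine le_antisymm (fun x hx => Groth.Agent.H27Disp.coeff_zero_of_mem_IV hx) fun x hx => ?_
    have h : x.coeff 0 = 0 := hx
    rw [Groth.Agent.H27Witt.eq_teichmuller_add_verschiebung x, h, WittVector.teichmuller_zero, zero_add]
    exact W4c1extbt610.verschiebung_mem_IV p R _
  haveI hc : IsAdicComplete (W4c1extbt610.IV p R) (WittVector p R) := by
    rw [hIV]; exact Groth.Agent.H3CAlg.WittComplete.isAdicComplete_ker
  haveI : HenselianRing (WittVector p R) (W4c1extbt610.IV p R) := inferInstance
  have hsurj : Function.Surjective (Q.mkQ ∘ₗ C.subtype) := by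
    intro y
    obtain ⟨x, rfl⟩ := Submodule.mkQ_surjective Q y
    obtain ⟨q, hq, c, hc', rfl⟩ := Submodule.mem_sup.mp (hsup ▸ Submodule.mem_top : x ∈ Q ⊔ C)
    exact ⟨⟨c, hc'⟩, by simp [(Submodule.Quotient.mk_eq_zero Q).mpr hq]⟩
  obtain ⟨f₀, hf₀⟩ := Module.projective_lifting_property (Q.mkQ ∘ₗ C.subtype) Q.mkQ hsurj
  let f := C.subtype ∘ₗ f₀
  have hfQ : ∀ x, f x - x ∈ Q := fun x =>
    (Submodule.Quotient.eq Q).mp (LinearMap.congr_fun hf₀ x)
  have hIQ : W4c1extbt610.IV p R • (⊤ : Submodule (WittVector p R) P) ≤ Q := hinf ▸ inf_le_left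
  have hQf : ∀ x ∈ Q, f x ∈ W4c1extbt610.IV p R • (⊤ : Submodule (WittVector p R) P) := fun x hx => by
    rw [← hinf]
    refine Submodule.mem_inf.mpr ⟨?_, (f₀ x).2⟩
    simpa using add_mem (hfQ x) hx
  obtain ⟨e, he, hef⟩ := Groth.Agent.H27Disp.exists_idem_end _ f fun x => by
    rw [← map_sub]
    exact hQf _ (hfQ x)
  have hee : ∀ x, e (e x) = e x := fun x => LinearMap.congr_fun he x
  refine ⟨LinearMap.ker e, LinearMap.range e, IsCompl.of_eq
    (eq_bot_iff.mpr fun x hx => by
      obtain ⟨hx1, y, rfl⟩ := hx
      rw [Submodule.mem_bot, ← hee y]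
      exact LinearMap.mem_ker.mp hx1)
    (eq_top_iff.mpr fun x _ => Submodule.mem_sup.mpr
      ⟨x - e x, by simp [hee], e x, ⟨x, rfl⟩, sub_add_cancel _ _⟩), ?_⟩
  refine le_antisymm (fun x hx => ?_)
    (sup_le (fun x hx => ?_) ((Submodule.smul_mono le_rfl le_top).trans hIQ))
  · have hex : e x ∈ W4c1extbt610.IV p R • (⊤ : Submodule (WittVector p R) P) := by
      rw [← sub_add_cancel (e x) (f x)]
      exact add_mem (hef x) (hQf x hx)
    refine Submodule.mem_sup.mpr ⟨x - e x, by simp [hee], e x, ?_, sub_add_cancel _ _⟩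
    have h := Submodule.mem_map_of_mem (f := e) hex
    rw [Submodule.map_smul'', hee, Submodule.map_top] at h
    exact h
  · have h1 := hef x
    rw [LinearMap.mem_ker.mp hx, zero_sub, neg_mem_iff] at h1
    rw [← sub_sub_cancel (f x) x]
    exact sub_mem (hIQ h1) (hfQ x)

end Groth.Agent.S14858
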