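import Groth.Statements.S14859
import Mathlib

set_option autoImplicit false
universe u v w
open Disp

namespace Groth.Agent.S14859

/-- Let p be a prime, R a commutative ring with p-typical Witt vectors W = W(R), and (P, Q, F, V⁻¹) a
3n-display over R with a normal decomposition P = L ⊕ T, Q = L + I_R·T. Then V⁻¹ ⊕ F : L ⊕ T → P is
a Frobenius-linear isomorphism; stated here in the case where L and T are free with bases (l_i) and
(t_j): the family consisting of the V⁻¹(l_i) and the F(t_j) is a basis of the W-module P, i.e. it is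
linearly independent over W and spans P. -/
theorem result (p : ℕ) [Fact p.Prime] (R : Type u) [CommRing R]
    (P : Type v) [AddCommGroup P] [Module (WittVector p R) P] (D : W4c1extbt610.Display3n p R P)
    (L T : Submodule (WittVector p R) P) (hLT : IsCompl L T)
    (hQ : D.Q = L ⊔ W4c1extbt610.IV p R • T) (hLQ : L ≤ D.Q)
    (ιL ιT : Type w) (bL : Module.Basis ιL (WittVector p R) L) (bT : Module.Basis ιT (WittVector p R) T) :
    LinearIndependent (WittVector p R)
        (Sum.elim (fun i : ιL => D.Vinv ⟨(bL i : P), hLQ (bL i).2⟩) (fun j : ιT => D.F (bT j : P))) ∧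
      Submodule.span (WittVector p R)
        (Set.range (Sum.elim (fun i : ιL => D.Vinv ⟨(bL i : P), hLQ (bL i).2⟩) (fun j : ιT => D.F (bT j : P)))) = ⊤ := by
  let v := Sum.elim (fun i : ιL => D.Vinv ⟨(bL i : P), hLQ (bL i).2⟩) (fun j : ιT => D.F (bT j : P))
  let S := Submodule.span (WittVector p R) (Set.range v)
  have hF : ∀ t : T, D.F (t : P) ∈ S := by
    intro t
    induction bT.mem_span t using Submodule.span_induction with
    | mem x hx => obtain ⟨j, rfl⟩ := hx; exact Submodule.subset_span ⟨.inr j, rfl⟩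
    | zero => simp
    | add x y _ _ hx hy => rw [Submodule.coe_add, map_add]; exact add_mem hx hy
    | smul a x _ hx => rw [Submodule.coe_smul, LinearMap.map_smulₛₗ]; exact Submodule.smul_mem _ _ hx
  have hL : ∀ l : L, D.Vinv ⟨(l : P), hLQ l.2⟩ ∈ S := by
    intro l
    induction bL.mem_span l using Submodule.span_induction with
    | mem x hx => obtain ⟨i, rfl⟩ := hx; exact Submodule.subset_span ⟨.inl i, rfl⟩
    | zero => exact (map_zero D.Vinv).symm ▸ zero_mem S
    | add x y _ _ hx hy =>
      rw [show (⟨((x + y : L) : P), hLQ (x + y).2⟩ : D.Q) = ⟨(x : P), hLQ x.2⟩ + ⟨(y : P), hLQ y.2⟩ from rfl,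
        map_add]
      exact add_mem hx hy
    | smul a x _ hx =>
      rw [show (⟨((a • x : L) : P), hLQ (a • x).2⟩ : D.Q) = a • ⟨(x : P), hLQ x.2⟩ from rfl,
        LinearMap.map_smulₛₗ]
      exact Submodule.smul_mem _ _ hx
  have hTQ : W4c1extbt610.IV p R • T ≤ D.Q := hQ ▸ le_sup_right
  let U : Submodule (WittVector p R) D.Q := S.comap D.Vinv
  have hIT : ∀ z ∈ W4c1extbt610.IV p R • T, ∀ hz : z ∈ D.Q, (⟨z, hz⟩ : D.Q) ∈ U := by
    have hle : W4c1extbt610.IV p R • T ≤ U.map D.Q.subtype := by
      rw [W4c1extbt610.IV, Submodule.smul_le]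
      intro a ha t ht
      induction ha using Submodule.span_induction with
      | mem a ha =>
        obtain ⟨w, rfl⟩ := ha
        refine ⟨⟨WittVector.verschiebung w • t,
          D.IV_smul_le (Submodule.smul_mem_smul (W4c1extbt610.verschiebung_mem_IV p R w) Submodule.mem_top)⟩,
          ?_, rfl⟩
        show D.Vinv _ ∈ S
        rw [D.Vinv_verschiebung_smul]
        exact Submodule.smul_mem _ _ (hF ⟨t, ht⟩)
      | zero => rw [zero_smul]; exact zero_mem _
      | add a b _ _ ha hb => rw [add_smul]; exact add_mem ha hb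
      | smul c a _ ha => rw [smul_eq_mul, mul_smul]; exact Submodule.smul_mem _ _ ha
    intro z hz hzQ
    obtain ⟨u, hu, rfl⟩ := hle hz
    exact hu
  have hspan : S = ⊤ := by
    rw [eq_top_iff, ← D.span_range_Vinv, Submodule.span_le]
    rintro _ ⟨⟨q, hq⟩, rfl⟩
    obtain ⟨l, hl, z, hz, rfl⟩ := Submodule.mem_sup.mp (hQ ▸ hq)
    rw [show (⟨l + z, hq⟩ : D.Q) = ⟨l, hLQ hl⟩ + ⟨z, hTQ hz⟩ from rfl, map_add]
    exact add_mem (hL ⟨l, hl⟩) (hIT z hz _)
  refine ⟨?_, hspan⟩
  let b := (bL.prod bT).map (Submodule.prodEquivOfIsCompl L T hLT)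
  let f : P →ₗ[WittVector p R] P := b.constr (WittVector p R) v
  have hf : Function.Surjective f := by
    rw [← LinearMap.range_eq_top, Module.Basis.constr_range]
    exact hspan
  haveI := D.finite
  have hinj := OrzechProperty.injective_of_surjective_endomorphism f hf
  have := b.linearIndependent.map' f (LinearMap.ker_eq_bot.mpr hinj)
  have e : f ∘ b = v := funext fun i => b.constr_basis (WittVector p R) v i
  rwa [e] at this

end Groth.Agent.S14859
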