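import Groth.Statements.S14862
import Groth.Agent.H3CAlg.WittDivide

set_option autoImplicit false
universe u
open CAlg

namespace Groth.Agent.S14862

/-- Let p be a prime and S a commutative ring without p-torsion which is complete and separated for the
p-adic topology; write W = W(S) for the p-typical Witt vectors, I_r ⊆ W for the ideal of Witt
vectors whose first r components vanish (the image of the r-th iterate of the Verschiebung) and
W(p^s S) ⊆ W for the ideal of Witt vectors all of whose components lie in p^s S (the kernel of W(S)
→ W(S/p^s S)). Then for every natural number u the ideal p^u W is closed for the linear topology on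
W in which the ideals I_r + W(p^s S) form a neighbourhood basis of zero: the intersection over all r
and s of p^u W + I_r + W(p^s S) equals p^u W. (The published statement asks only that S have no
p-torsion; S is moreover taken p-adically complete and separated here, the case in which the result
is applied and through which the published proof goes.) -/
theorem result (p : ℕ) [Fact p.Prime] (S : Type u) [CommRing S]
    (hS : ∀ y : S, (p : S) * y = 0 → y = 0) [IsAdicComplete (Ideal.span {(p : S)}) S] (u : ℕ) :
    (⨅ r : ℕ, ⨅ s : ℕ,
        Ideal.span {(p : WittVector p S) ^ u} ⊔ RingHom.ker (WittVector.truncate (p := p) (R := S) r) ⊔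
          RingHom.ker (WittVector.map (p := p) (Ideal.Quotient.mk (Ideal.span {(p : S) ^ s})))) =
      Ideal.span {(p : WittVector p S) ^ u} := by
  refine le_antisymm (fun a ha ↦ ?_) (le_iInf₂ fun r s ↦ le_sup_left.trans le_sup_left)
  simp only [Submodule.mem_iInf] at ha
  have hx : ∀ r, ∃ x : WittVector p S, WittVector.truncate r ((p : WittVector p S) ^ u * x) =
      WittVector.truncate (p := p) r a := by
    intro r
    obtain ⟨x, hx⟩ := Groth.Agent.H3CAlg.WittComplete.exists_solution_pow_mul hS u r a fun s ↦ by
      obtain ⟨b, hb, c, hc, rfl⟩ := Submodule.mem_sup.mp (ha r s)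
      obtain ⟨b, hb', d, hd, rfl⟩ := Submodule.mem_sup.mp hb
      obtain ⟨z, rfl⟩ := Ideal.mem_span_singleton'.mp hb'
      refine ⟨z, fun i hi ↦ ?_⟩
      let g := WittVector.map (p := p) (Ideal.Quotient.mk (Ideal.span {(p : S) ^ s}))
      have hdc : g ((p : WittVector p S) ^ u * z - (z * (p : WittVector p S) ^ u + d + c)) = -g d := by
        rw [show (p : WittVector p S) ^ u * z - (z * (p : WittVector p S) ^ u + d + c) = -d - c by ring,
          map_sub, map_neg, RingHom.mem_ker.mp hc, sub_zero]
      have h1 : (-d).coeff i = 0 := (WittVector.mem_ker_truncate r (-d)).mp (neg_mem hd) i hi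
      have := congrArg (fun v ↦ WittVector.coeff v i) hdc
      rw [← map_neg] at this
      simp only [g, WittVector.map_coeff, h1, map_zero] at this
      exact Ideal.Quotient.eq_zero_iff_mem.mp this
    refine ⟨x, sub_eq_zero.mp ?_⟩
    rw [← map_sub]
    exact (WittVector.mem_ker_truncate r _).mpr hx
  choose xs hxs using hx
  have huniq : ∀ i r, i < r → (xs (i + 1)).coeff i = (xs r).coeff i := by
    intro i r hir
    have h1 : ∀ j < i + 1, ((p : WittVector p S) ^ u * (xs (i + 1) - xs r)).coeff j = 0 := by
      intro j hj
      have e1 : WittVector.truncate (i + 1) ((p : WittVector p S) ^ u * xs r) =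
          WittVector.truncate (p := p) (i + 1) a := by
        ext l
        have := congrArg (TruncatedWittVector.coeff ⟨l, (l.2.trans_le (by omega : i + 1 ≤ r))⟩) (hxs r)
        rw [WittVector.coeff_truncate, WittVector.coeff_truncate] at this
        rw [WittVector.coeff_truncate, WittVector.coeff_truncate]
        exact this
      have e2 : WittVector.truncate (p := p) (i + 1) ((p : WittVector p S) ^ u * (xs (i + 1) - xs r)) = 0 := by
        rw [mul_sub, map_sub, hxs, e1, sub_self]
      exact (WittVector.mem_ker_truncate (i + 1) _).mp e2 j hj
    have h2 := Groth.Agent.H3CAlg.WittComplete.coeff_eq_zero_of_pow_mul hS u (i + 1) _ h1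
    have h3 : WittVector.truncate (i + 1) (xs (i + 1)) = WittVector.truncate (p := p) (i + 1) (xs r) := by
      rw [← sub_eq_zero, ← map_sub]
      exact (WittVector.mem_ker_truncate (i + 1) _).mpr h2
    simpa [WittVector.coeff_truncate] using congrArg (TruncatedWittVector.coeff ⟨i, i.lt_succ_self⟩) h3
  let x : WittVector p S := WittVector.mk p fun i ↦ (xs (i + 1)).coeff i
  refine Ideal.mem_span_singleton'.mpr ⟨x, ?_⟩
  rw [mul_comm]
  ext i
  have hx : WittVector.truncate (i + 1) x = WittVector.truncate (p := p) (i + 1) (xs (i + 1)) := by
    ext l
    simpa [WittVector.coeff_truncate, x] using huniq l (i + 1) l.2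
  have h4 : WittVector.truncate (i + 1) ((p : WittVector p S) ^ u * x) =
      WittVector.truncate (p := p) (i + 1) a := by
    rw [map_mul, hx, ← map_mul, hxs]
  have h5 := congrArg (TruncatedWittVector.coeff ⟨i, i.lt_succ_self⟩) h4
  rw [WittVector.coeff_truncate, WittVector.coeff_truncate] at h5
  exact h5

end Groth.Agent.S14862
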