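import Groth.Statements.S14863
import Mathlib
import Groth.Agent.H27Disp.Level
import Groth.Agent.H27Disp.Rigid
import Groth.Agent.H27Disp.IdemEnd
import Groth.Agent.H3CAlg.WittProjective

set_option autoImplicit false
universe u v
open Disp
open Groth.Agent

namespace Groth.Agent.S14863

/-- Let p be a prime and k a perfect commutative ring of characteristic p, so that the Frobenius σ of W
= W(k) is an automorphism. Let M be a Dieudonné module over k, that is, a projective W-module of
finite type with a σ-semilinear operator F and a σ⁻¹-semilinear operator V such that FV = VF = p.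
Then (M, VM, F, V⁻¹) is a 3n-display over k: there exists a 3n-display structure on the W-module M
whose distinguished submodule is exactly the image of V, whose Frobenius operator is F, and whose
operator V⁻¹ sends V m to m for every m. (The published statement is the equivalence of the category
of 3n-displays over k with that of Dieudonné modules, displays corresponding to topologically
nilpotent V; this row is the passage from a Dieudonné module to a 3n-display.) -/
theorem result (p : ℕ) [Fact p.Prime] (k : Type u) [CommRing k]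
    [CharP k p] [PerfectRing k p]
    (M : Type v) [AddCommGroup M] [Module (WittVector p k) M]
    [Module.Finite (WittVector p k) M] [Module.Projective (WittVector p k) M]
    (F : M →ₛₗ[(WittVector.frobenius : WittVector p k →+* WittVector p k)] M)
    (V : M →ₛₗ[((WittVector.frobeniusEquiv p k).symm : WittVector p k →+* WittVector p k)] M)
    (hFV : ∀ m : M, F (V m) = (p : WittVector p k) • m) (hVF : ∀ m : M, V (F m) = (p : WittVector p k) • m) :
    ∃ D : W4c1extbt610.Display3n p k M,
      D.F = F ∧ (∀ x : M, x ∈ D.Q ↔ x ∈ Set.range V) ∧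
        ∀ (m : M) (h : V m ∈ D.Q), D.Vinv ⟨V m, h⟩ = m := by
  classical
  haveI hred : IsReduced k := Groth.Agent.H27Disp.isReduced_perfect p k
  haveI hσs : RingHomSurjective (WittVector.frobenius : WittVector p k →+* WittVector p k) :=
    ⟨(WittVector.frobenius_bijective p k).2⟩
  haveI hτs : RingHomSurjective ((WittVector.frobeniusEquiv p k).symm : WittVector p k →+* WittVector p k) :=
    ⟨(WittVector.frobeniusEquiv p k).symm.surjective⟩
  set pM := Ideal.span {(p : WittVector p k)} • (⊤ : Submodule (WittVector p k) M) with hpM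
  have hI : H3CAlg.WittProj.VI p k = Ideal.span {(p : WittVector p k)} := by
    ext x
    rw [WittVector.mem_span_p_iff_coeff_zero_eq_zero]
    rfl
  have hIV : W4c1extbt610.IV p k = Ideal.span {(p : WittVector p k)} := by
    ext x
    rw [WittVector.mem_span_p_iff_coeff_zero_eq_zero]
    refine ⟨Groth.Agent.H27Disp.coeff_zero_of_mem_IV, fun h => ?_⟩
    rw [Groth.Agent.H27Witt.eq_teichmuller_add_verschiebung x, h, WittVector.teichmuller_zero, zero_add]
    exact W4c1extbt610.verschiebung_mem_IV p k _
  haveI hhens : HenselianRing (WittVector p k) (Ideal.span {(p : WittVector p k)}) := by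
    rw [← hI]
    exact H3CAlg.WittProj.henselianRing_VI ⟨1, by rw [pow_one, CharP.cast_eq_zero]⟩
  have hreg : ∀ w : WittVector p k, (p : WittVector p k) * w = 0 → w = 0 := fun w hw => by
    refine WittVector.ext fun i => ?_
    have h := congrArg (fun y => WittVector.coeff y (i + 1)) hw
    simp only [mul_comm (p : WittVector p k) w, WittVector.mul_charP_coeff_succ, WittVector.zero_coeff] at h
    rw [WittVector.zero_coeff]
    exact IsReduced.eq_zero _ ⟨p, h⟩
  obtain ⟨n, g, hg⟩ := Module.Finite.exists_fin' (WittVector p k) M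
  obtain ⟨s, hs⟩ := Module.projective_lifting_property g LinearMap.id hg
  have hgs : ∀ x, g (s x) = x := fun x => LinearMap.congr_fun hs x
  have hMreg : ∀ x : M, (p : WittVector p k) • x = 0 → x = 0 := fun x hx => by
    have h : s x = 0 := funext fun i => by
      have h' := congrFun (congrArg s hx) i
      rw [map_smul, map_zero, Pi.smul_apply, smul_eq_mul] at h'
      exact hreg _ h'
    rw [← hgs x, h, map_zero]
  have hVinj : Function.Injective V := fun a b hab => by
    have h := congrArg F hab
    rw [hFV, hFV, ← sub_eq_zero, ← smul_sub] at h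
    exact sub_eq_zero.mp (hMreg _ h)
  set Q : Submodule (WittVector p k) M := LinearMap.range V with hQdef
  have hspanV : Submodule.span (WittVector p k) (Set.range V) = Q := by
    rw [show Set.range V = (Q : Set M) from (LinearMap.coe_range V).symm, Submodule.span_eq]
  have hpQ : pM ≤ Q := by
    rw [hpM, Submodule.ideal_span_singleton_smul]
    rintro _ ⟨y, -, rfl⟩
    exact ⟨F y, hVF y⟩
  -- a projection mod `p` onto a complement of `VM`
  let mk : (Fin n → WittVector p k) ≃ₗ[WittVector p k]
      (Fin n → WittVector p k ⧸ (⊥ : Ideal (WittVector p k))) :=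
    LinearEquiv.piCongrRight fun _ => (Submodule.quotEquivOfEqBot ⊥ rfl).symm
  have hproj := Groth.Agent.H27Disp.projective_cotangent (p := p) (k := k) F V (n := 2) le_rfl ⊥ bot_le
    (mk.toLinearMap ∘ₗ s) (g ∘ₗ mk.symm.toLinearMap) (fun x => by simp [hgs]) hFV hVF
  set R := WittVector p k ⧸ Ideal.span {(p : WittVector p k)}
  set S' := Submodule.span R (Set.range fun m : M => pM.mkQ (V m))
  haveI : Module.Projective R ((M ⧸ pM) ⧸ S') := hproj
  obtain ⟨sec, hsec⟩ := Module.projective_lifting_property S'.mkQ LinearMap.id (Submodule.mkQ_surjective S')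
  obtain ⟨f, hf⟩ := Module.projective_lifting_property pM.mkQ
    ((sec.restrictScalars (WittVector p k)) ∘ₗ (S'.mkQ.restrictScalars (WittVector p k)) ∘ₗ pM.mkQ)
    (Submodule.mkQ_surjective pM)
  have hfQ : ∀ x, f x - x ∈ Q := fun x => by
    have h1 : S'.mkQ (pM.mkQ (f x)) = S'.mkQ (pM.mkQ x) :=
      (congrArg S'.mkQ (LinearMap.congr_fun hf x)).trans (LinearMap.congr_fun hsec _)
    simp only [Submodule.mkQ_apply] at h1
    rw [Submodule.Quotient.eq] at h1
    have h2 : ∀ y ∈ S', ∃ m, pM.mkQ (V m) = y := by
      intro y hy
      induction hy using Submodule.span_induction with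
      | mem y hy => exact hy
      | zero => exact ⟨0, by simp⟩
      | add a b _ _ ha hb =>
        obtain ⟨a', rfl⟩ := ha
        obtain ⟨b', rfl⟩ := hb
        exact ⟨a' + b', by rw [map_add, map_add]⟩
      | smul c y _ hy =>
        obtain ⟨m, rfl⟩ := hy
        obtain ⟨w, rfl⟩ := Ideal.Quotient.mk_surjective c
        refine ⟨WittVector.frobenius w • m, ?_⟩
        rw [LinearMap.map_smulₛₗ V,
          show ((WittVector.frobeniusEquiv p k).symm : WittVector p k →+* WittVector p k) (WittVector.frobenius w) = w from
            (WittVector.frobeniusEquiv p k).symm_apply_apply w, map_smul]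
        rfl
    obtain ⟨m, hm⟩ := h2 _ h1
    simp only [Submodule.mkQ_apply] at hm
    rw [← Submodule.Quotient.mk_sub, Submodule.Quotient.eq] at hm
    rw [← sub_sub_cancel (V m) (f x - x)]
    exact sub_mem ⟨m, rfl⟩ (hpQ hm)
  have hQf : ∀ x ∈ Q, f x ∈ pM := by
    rintro _ ⟨m, rfl⟩
    rw [← Submodule.Quotient.mk_eq_zero, ← Submodule.mkQ_apply]
    refine (LinearMap.congr_fun hf (V m)).trans ?_
    show sec (S'.mkQ (pM.mkQ (V m))) = 0
    have h0 : S'.mkQ (pM.mkQ (V m)) = 0 :=
      (Submodule.Quotient.mk_eq_zero S').mpr (Submodule.subset_span ⟨m, rfl⟩)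
    rw [h0, map_zero]
  obtain ⟨e, he, hef⟩ := Groth.Agent.H27Disp.exists_idem_end _ f fun x => by
    rw [← map_sub]
    exact hQf _ (hfQ x)
  have hee : ∀ x, e (e x) = e x := fun x => LinearMap.congr_fun he x
  set L := LinearMap.ker e
  set T := LinearMap.range e
  have hLT : IsCompl L T := IsCompl.of_eq
    (eq_bot_iff.mpr fun x hx => by
      obtain ⟨hx1, y, rfl⟩ := hx
      rw [Submodule.mem_bot, ← hee y]
      exact LinearMap.mem_ker.mp hx1)
    (eq_top_iff.mpr fun x _ => Submodule.mem_sup.mpr
      ⟨x - e x, by simp [L, LinearMap.mem_ker, hee], e x, ⟨x, rfl⟩, sub_add_cancel _ _⟩)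
  have hLQ : L ≤ Q := fun x hx => by
    have h1 := hef x
    rw [LinearMap.mem_ker.mp hx, zero_sub, neg_mem_iff] at h1
    rw [← sub_sub_cancel (f x) x]
    exact sub_mem (hpQ h1) (hfQ x)
  have hnormal : Q = L ⊔ Ideal.span {(p : WittVector p k)} • T := by
    refine le_antisymm (fun x hx => ?_) (sup_le hLQ ((Submodule.smul_mono le_rfl le_top).trans hpQ))
    have hex : e x ∈ pM := by
      rw [← sub_add_cancel (e x) (f x)]
      exact add_mem (hef x) (hQf x hx)
    refine Submodule.mem_sup.mpr ⟨x - e x, by simp [L, LinearMap.mem_ker, hee], e x, ?_, sub_add_cancel _ _⟩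
    rw [hpM, Submodule.ideal_span_singleton_smul] at hex
    obtain ⟨y, -, hy⟩ := hex
    rw [← hee x, ← hy]
    show e ((p : WittVector p k) • y) ∈ _
    rw [map_smul]
    exact Submodule.smul_mem_smul (Ideal.mem_span_singleton_self _) ⟨y, rfl⟩
  let Vinv : Q →ₛₗ[(WittVector.frobenius : WittVector p k →+* WittVector p k)] M :=
    { toFun := fun q => q.2.choose
      map_add' := fun a b => hVinj (by rw [map_add, (a + b).2.choose_spec, a.2.choose_spec, b.2.choose_spec]; rfl)
      map_smul' := fun w a => hVinj (by
        rw [(w • a).2.choose_spec, LinearMap.map_smulₛₗ V, a.2.choose_spec,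
          show ((WittVector.frobeniusEquiv p k).symm : WittVector p k →+* WittVector p k) (WittVector.frobenius w) = w from
            (WittVector.frobeniusEquiv p k).symm_apply_apply w]
        rfl) }
  have hVinv : ∀ (m : M) (h : V m ∈ Q), Vinv ⟨V m, h⟩ = m := fun m h => hVinj h.choose_spec
  refine ⟨{
    Q := Q
    F := F
    Vinv := Vinv
    finite := inferInstance
    projective := inferInstance
    IV_smul_le := by rw [hIV]; exact hpQ
    exists_normal := ⟨L, T, hLT, by rw [hIV]; exact hnormal⟩
    span_range_Vinv := eq_top_iff.mpr fun m _ => Submodule.subset_span ⟨⟨V m, m, rfl⟩, hVinv m _⟩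
    Vinv_verschiebung_smul := fun w x => ?_ }, rfl, fun x => Iff.rfl, hVinv⟩
  obtain ⟨u, rfl⟩ := (WittVector.frobenius_bijective p k).2 w
  refine hVinj ((Exists.choose_spec (p := fun y => V y = _) _).trans ?_)
  show WittVector.verschiebung (WittVector.frobenius u) • x = _
  rw [LinearMap.map_smulₛₗ V,
    show ((WittVector.frobeniusEquiv p k).symm : WittVector p k →+* WittVector p k) (WittVector.frobenius u) = u from
      (WittVector.frobeniusEquiv p k).symm_apply_apply u, hVF, WittVector.verschiebung_frobenius, smul_smul]

end Groth.Agent.S14863
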