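import Groth.Statements.S14867
import Groth.Agent.H3CAlg.WittProjective

set_option autoImplicit false
universe u
open CAlg

namespace Groth.Agent.S14867

/-- Let p be a prime and S → R a surjective homomorphism of commutative rings such that every element of
its kernel 𝔞 is nilpotent and p is nilpotent in S; write J = W(𝔞) for the kernel of the induced
surjection W(S) → W(R) of rings of p-typical Witt vectors. Then finitely generated projective
modules lift along W(S) → W(R), uniquely up to isomorphism: for every finitely generated projective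
W(R)-module P there is a finitely generated projective W(S)-module P̃ together with a surjection P̃
→ P, semilinear over W(S) → W(R), whose kernel is J·P̃ (that is, an isomorphism W(R) ⊗_{W(S)} P̃ ≅
P); and for any two such pairs (P̃_1, π_1), (P̃_2, π_2) there is a W(S)-linear isomorphism P̃_1 ≅
P̃_2 compatible with π_1 and π_2. -/
theorem result (p : ℕ) [Fact p.Prime] (S R : Type u)
    [CommRing S] [CommRing R] (φ : S →+* R) (hφ : Function.Surjective φ)
    (hnil : ∀ a : S, φ a = 0 → IsNilpotent a) (hp : IsNilpotent (p : S))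
    (P : Type u) [AddCommGroup P] [Module (WittVector p R) P]
    [Module.Finite (WittVector p R) P] [Module.Projective (WittVector p R) P] :
    (∃ (P' : Type u) (_ : AddCommGroup P') (_ : Module (WittVector p S) P'),
        Module.Finite (WittVector p S) P' ∧ Module.Projective (WittVector p S) P' ∧
          ∃ π : P' →ₛₗ[WittVector.map (p := p) φ] P, Function.Surjective π ∧
            LinearMap.ker π = RingHom.ker (WittVector.map (p := p) φ) • (⊤ : Submodule (WittVector p S) P')) ∧
      ∀ (P₁ : Type u) [AddCommGroup P₁] [Module (WittVector p S) P₁]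
        [Module.Finite (WittVector p S) P₁] [Module.Projective (WittVector p S) P₁]
        (P₂ : Type u) [AddCommGroup P₂] [Module (WittVector p S) P₂]
        [Module.Finite (WittVector p S) P₂] [Module.Projective (WittVector p S) P₂]
        (π₁ : P₁ →ₛₗ[WittVector.map (p := p) φ] P) (π₂ : P₂ →ₛₗ[WittVector.map (p := p) φ] P),
        Function.Surjective π₁ →
          LinearMap.ker π₁ = RingHom.ker (WittVector.map (p := p) φ) • (⊤ : Submodule (WittVector p S) P₁) →
        Function.Surjective π₂ →
          LinearMap.ker π₂ = RingHom.ker (WittVector.map (p := p) φ) • (⊤ : Submodule (WittVector p S) P₂) →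
        ∃ e : P₁ ≃ₗ[WittVector p S] P₂, ∀ x : P₁, π₂ (e x) = π₁ x := by
  let A := WittVector p S
  let f := WittVector.map (p := p) φ
  let J : Ideal A := RingHom.ker f
  have hf : Function.Surjective f := WittVector.map_surjective φ hφ
  have hH : HenselianRing A J := Groth.Agent.H3CAlg.WittProj.henselianRing_ker_map φ hnil hp
  letI : Module A P := Module.compHom P f
  have hsmul : ∀ (a : A) (x : P), a • x = f a • x := fun _ _ ↦ rfl
  have htor : Module.IsTorsionBySet A P (J : Set A) := fun x ⟨a, ha⟩ ↦ by
    rw [hsmul, RingHom.mem_ker.mp ha, zero_smul]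
  letI : Module (A ⧸ J) P := htor.module
  have hmk : ∀ (a : A) (x : P), Ideal.Quotient.mk J a • x = f a • x := fun _ _ ↦ rfl
  let σ : A ⧸ J →+* WittVector p R := (RingHom.quotientKerEquivOfSurjective hf).toRingHom
  let ρ : WittVector p R →+* A ⧸ J := (RingHom.quotientKerEquivOfSurjective hf).symm.toRingHom
  letI : RingHomInvPair ρ σ := RingHomInvPair.of_ringEquiv (RingHom.quotientKerEquivOfSurjective hf).symm
  letI : RingHomInvPair σ ρ := RingHomInvPair.of_ringEquiv (RingHom.quotientKerEquivOfSurjective hf)
  let ε : P ≃ₛₗ[ρ] P :=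
    { AddEquiv.refl P with
      map_smul' := fun r x ↦ by
        obtain ⟨a, ha⟩ := hf r
        subst ha
        have : ρ (f a) = Ideal.Quotient.mk J a :=
          (RingHom.quotientKerEquivOfSurjective hf).symm_apply_eq.mpr rfl
        show f a • x = ρ (f a) • x
        rw [this, hmk] }
  haveI : RingHomSurjective ρ := ⟨(RingHom.quotientKerEquivOfSurjective hf).symm.surjective⟩
  have : Module.Finite (A ⧸ J) P := Module.Finite.of_surjective ε.toLinearMap ε.surjective
  have : Module.Projective (A ⧸ J) P := Module.Projective.of_equiv ε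
  refine ⟨?_, ?_⟩
  · obtain ⟨P', _, _, hfin, hproj, ⟨e⟩⟩ := Groth.Agent.S0534.result A J P
    refine ⟨P', inferInstance, inferInstance, hfin, hproj,
      { toFun := fun x ↦ e (1 ⊗ₜ x)
        map_add' := fun x y ↦ by rw [TensorProduct.tmul_add, map_add]
        map_smul' := fun a x ↦ by
          rw [TensorProduct.tmul_smul, ← algebraMap_smul (A ⧸ J) a, map_smul]
          exact hmk a _ }, ?_, ?_⟩
    · intro y
      obtain ⟨x, hx⟩ := TensorProduct.mk_surjective A P' (A ⧸ J) Ideal.Quotient.mk_surjective
        (e.symm y)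
      exact ⟨x, show e (1 ⊗ₜ x) = y by
        rw [show (1 : A ⧸ J) ⊗ₜ[A] x = e.symm y from hx, e.apply_symm_apply]⟩
    · ext x
      show e (1 ⊗ₜ x) = 0 ↔ _
      rw [e.map_eq_zero_iff, ← (TensorProduct.quotTensorEquivQuotSMul P' J).map_eq_zero_iff,
        TensorProduct.quotTensorEquivQuotSMul_mk_one_tmul, Submodule.Quotient.mk_eq_zero]
  · intro P₁ _ _ _ _ P₂ _ _ _ _ π₁ π₂ h1 k1 h2 k2
    let q₁ : P₁ →ₗ[A] P := { toFun := π₁, map_add' := map_add π₁, map_smul' := fun a x ↦ π₁.map_smulₛₗ a x }
    let q₂ : P₂ →ₗ[A] P := { toFun := π₂, map_add' := map_add π₂, map_smul' := fun a x ↦ π₂.map_smulₛₗ a x }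
    obtain ⟨h, hh⟩ := Module.projective_lifting_property q₂ q₁ h2
    obtain ⟨g, hg⟩ := Module.projective_lifting_property q₁ q₂ h1
    have hjac : J ≤ Ideal.jacobson ⊥ := HenselianRing.jac (I := J)
    have hb : ∀ {P₀ : Type u} [AddCommGroup P₀] [Module A P₀] [Module.Finite A P₀]
        (π₀ : P₀ →ₛₗ[f] P) (k : P₀ →ₗ[A] P₀), (∀ x, π₀ (k x) = π₀ x) →
        LinearMap.ker π₀ = J • (⊤ : Submodule A P₀) → Function.Bijective k := by
      intro P₀ _ _ _ π₀ k hk hker
      have hs : Function.Surjective k := by
        rw [← LinearMap.range_eq_top, eq_top_iff]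
        refine Submodule.le_of_le_smul_of_le_jacobson_bot Module.Finite.fg_top hjac fun x _ ↦ ?_
        have : x - k x ∈ J • (⊤ : Submodule A P₀) := by
          rw [← hker, LinearMap.mem_ker, map_sub, hk, sub_self]
        exact Submodule.mem_sup.mpr ⟨k x, ⟨x, rfl⟩, x - k x, this, by abel⟩
      exact ⟨OrzechProperty.injective_of_surjective_endomorphism k hs, hs⟩
    have hh' : ∀ x, π₂ (h x) = π₁ x := fun x ↦ DFunLike.congr_fun hh x
    have hg' : ∀ x, π₁ (g x) = π₂ x := fun x ↦ DFunLike.congr_fun hg x
    have b1 := hb π₁ (g.comp h) (fun x ↦ by rw [LinearMap.comp_apply, hg', hh']) k1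
    have b2 := hb π₂ (h.comp g) (fun x ↦ by rw [LinearMap.comp_apply, hh', hg']) k2
    exact ⟨LinearEquiv.ofBijective h ⟨Function.Injective.of_comp (f := g) b1.1,
      Function.Surjective.of_comp (g := g) b2.2⟩, hh'⟩

end Groth.Agent.S14867
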