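import Groth.Statements.S14869
import Groth.Agent.H3CAlg.PdResolution
import Mathlib.Algebra.Category.ModuleCat.Monoidal.Basic
import Mathlib.Algebra.Category.ModuleCat.Projective
import Mathlib.CategoryTheory.Monoidal.Tor
import Mathlib.LinearAlgebra.FreeModule.PID
import Mathlib.RingTheory.Flat.TorsionFree
import Mathlib.RingTheory.Henselian
import Mathlib.RingTheory.LocalProperties.Reduced
import Mathlib.RingTheory.QuasiFinite.Basic
import Mathlib.RingTheory.RegularLocalRing.Defs
import Mathlib.RingTheory.SimpleRing.Principal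

set_option autoImplicit false
universe u v w
open CAlg

namespace Groth.Agent.S14869

open TensorProduct in
/-- Let S → R be a surjective homomorphism of commutative rings, let π : P_1 → P_2 be a surjective
homomorphism of S-modules with P_2 projective, and let π̄ : R ⊗_S P_1 → R ⊗_S P_2 be its base
change. Then every R-linear section σ̄ of π̄ lifts to a section of π: there is an S-linear map σ :
P_2 → P_1 with π ∘ σ = id whose base change R ⊗_S σ is σ̄. -/
theorem result (S R : Type u) [CommRing S] [CommRing R] [Algebra S R]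
    (hSR : Function.Surjective (algebraMap S R))
    (P₁ : Type v) [AddCommGroup P₁] [Module S P₁]
    (P₂ : Type w) [AddCommGroup P₂] [Module S P₂] [Module.Projective S P₂]
    (π : P₁ →ₗ[S] P₂) (hπ : Function.Surjective π)
    (σ' : R ⊗[S] P₂ →ₗ[R] R ⊗[S] P₁) (hσ' : (π.baseChange R).comp σ' = LinearMap.id) :
    ∃ σ : P₂ →ₗ[S] P₁, π.comp σ = LinearMap.id ∧ σ.baseChange R = σ' := by
  obtain ⟨σ₀, hσ₀⟩ := Module.projective_lifting_property π LinearMap.id hπ
  have hσ₀' : ∀ y, π (σ₀ y) = y := fun y => LinearMap.congr_fun hσ₀ y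
  let j : P₁ →ₗ[S] R ⊗[S] P₁ := TensorProduct.mk S R P₁ 1
  have hj : Function.Surjective j := by
    intro z
    induction z using TensorProduct.induction_on with
    | zero => exact ⟨0, map_zero _⟩
    | tmul r x =>
      obtain ⟨s, rfl⟩ := hSR r
      exact ⟨s • x, by simp [j, Algebra.algebraMap_eq_smul_one, TensorProduct.smul_tmul]⟩
    | add a b ha hb =>
      obtain ⟨a, rfl⟩ := ha; obtain ⟨b, rfl⟩ := hb
      exact ⟨a + b, map_add _ _ _⟩
  let δ : P₂ →ₗ[S] R ⊗[S] P₁ := (σ' - σ₀.baseChange R).restrictScalars S ∘ₗ TensorProduct.mk S R P₂ 1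
  have hδ : ∀ p, π.baseChange R (δ p) = 0 := fun p => by
    have := LinearMap.congr_fun hσ' ((1 : R) ⊗ₜ[S] p)
    simp only [LinearMap.comp_apply, LinearMap.id_apply] at this
    simp [δ, this, hσ₀']
  have hK : LinearMap.range δ ≤ LinearMap.range (j ∘ₗ (LinearMap.ker π).subtype) := by
    rintro _ ⟨p, rfl⟩
    obtain ⟨x, hx⟩ := hj (δ p)
    refine ⟨⟨x - σ₀ (π x), by simp [hσ₀']⟩, ?_⟩
    have h1 : (1 : R) ⊗ₜ[S] π x = 0 := by
      have := hδ p
      rw [← hx] at this
      simpa [j] using this
    have h2 : (1 : R) ⊗ₜ[S] σ₀ (π x) = 0 := by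
      have := congrArg (σ₀.baseChange R) h1
      simpa using this
    simp [j, TensorProduct.tmul_sub, h2, ← hx]
  obtain ⟨η, hη⟩ := Module.projective_lifting_property
    ((j ∘ₗ (LinearMap.ker π).subtype).rangeRestrict)
    (δ.codRestrict _ fun p => hK ⟨p, rfl⟩) (LinearMap.surjective_rangeRestrict _)
  refine ⟨σ₀ + (LinearMap.ker π).subtype ∘ₗ η, ?_, ?_⟩
  · ext p
    simp [hσ₀', LinearMap.mem_ker.mp (η p).2]
  · apply LinearMap.restrictScalars_injective S
    apply TensorProduct.ext'
    intro r p
    obtain ⟨s, rfl⟩ := hSR r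
    have h1 := congrArg Subtype.val (LinearMap.congr_fun hη p)
    simp only [j, δ, LinearMap.comp_apply, LinearMap.codRestrict_apply, LinearMap.rangeRestrict,
      TensorProduct.mk_apply, LinearMap.restrictScalars_apply, LinearMap.sub_apply, Submodule.subtype_apply] at h1
    simp only [Algebra.algebraMap_eq_smul_one, TensorProduct.smul_tmul, ← TensorProduct.tmul_smul]
    rw [TensorProduct.tmul_smul, map_smul, map_smul]
    congr 1
    simp only [LinearMap.restrictScalars_apply, LinearMap.baseChange_tmul, LinearMap.add_apply, LinearMap.comp_apply,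
      Submodule.subtype_apply, TensorProduct.tmul_add]
    rw [h1, LinearMap.baseChange_tmul, add_sub_cancel]

end Groth.Agent.S14869
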