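import Groth.Statements.S14871
import Groth.Agent.H20PLie.Radical

set_option autoImplicit false
universe u v
open PLie

namespace Groth.Agent.S14871

/-- Let `L` be a finite-dimensional Lie algebra over a field of characteristic `p` equipped with a
`p`-mapping `φ`. Then the solvable radical of `L` is stable under `φ` (it is a `p`-subalgebra). -/
theorem result
    (k : Type u) [Field k] (p : ℕ) [Fact p.Prime] [CharP k p]
    (L : Type v) [LieRing L] [LieAlgebra k L] [Module.Finite k L]
    (φ : PLie.PMap k p L) (x : L) (hx : x ∈ LieAlgebra.radical k L) :
    φ x ∈ LieAlgebra.radical k L := by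
  exact Groth.Agent.H20PLie.pMap_mem_radical φ hx

end Groth.Agent.S14871
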