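import Groth.Statements.S14872
import Groth.Agent.H20PLie.Radical

set_option autoImplicit false
universe u v
open PLie

namespace Groth.Agent.S14872

/-- Let `L` be a finite-dimensional Lie algebra over a field of characteristic `p` equipped with a
`p`-mapping `φ`, and let `N` be its nilradical, i.e. the ideal of `L` that is nilpotent as a Lie
ring and contains every ideal of `L` nilpotent as a Lie ring. Then `N` is stable under `φ` (it is a
`p`-subalgebra). (The nilradical is given here through its characterising property; it is not the
largest submodule on which `L` acts nilpotently.) -/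
theorem result
    (k : Type u) [Field k] (p : ℕ) [Fact p.Prime] [CharP k p]
    (L : Type v) [LieRing L] [LieAlgebra k L] [Module.Finite k L]
    (φ : PLie.PMap k p L) (N : LieIdeal k L) (hN : LieRing.IsNilpotent N)
    (hmax : ∀ I : LieIdeal k L, LieRing.IsNilpotent I → I ≤ N)
    (x : L) (hx : x ∈ N) : φ x ∈ N := by
  exact Groth.Agent.H20PLie.pMap_mem_nilradical φ N hN hmax hx

end Groth.Agent.S14872
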