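import Groth.Statements.S14873
import Mathlib.Algebra.Lie.Engel

set_option autoImplicit false
universe u v
open PLie

namespace Groth.Agent.S14873

/-- Let `L` be a finite-dimensional Lie algebra over a field of characteristic `p` equipped with a
`p`-mapping `φ`, and let `I` be an ideal of `L` stable under `φ` all of whose elements are
`p`-nilpotent (for instance the `p`-radical, the largest such ideal). Then `I` is nilpotent as a Lie
ring, hence lies in the nilradical of `L`. (The published item also records that the nilradical lies
in the solvable radical, which is immediate since nilpotent ideals are solvable.) -/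
theorem result
    (k : Type u) [Field k] (p : ℕ) [Fact p.Prime] [CharP k p]
    (L : Type v) [LieRing L] [LieAlgebra k L] [Module.Finite k L]
    (φ : PLie.PMap k p L) (I : LieIdeal k L) (hsub : ∀ x ∈ I, φ x ∈ I)
    (hnil : ∀ x ∈ I, PLie.IsPNilpotent φ x) : LieRing.IsNilpotent I := by
  rw [LieAlgebra.isNilpotent_iff_forall (R := k)]
  rintro ⟨x, hx⟩
  obtain ⟨n, hn⟩ := hnil x hx
  have hiter : ∀ m, LieAlgebra.ad k L (φ.toFun^[m] x) = LieAlgebra.ad k L x ^ p ^ m := by
    intro m
    induction m with
    | zero => simp
    | succ m ih => rw [Function.iterate_succ_apply', φ.ad_map, ih, ← pow_mul, pow_succ]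
  have hsub' : ∀ (m : ℕ) (y : I), (((LieAlgebra.ad k I ⟨x, hx⟩ ^ m) y : I) : L) = (LieAlgebra.ad k L x ^ m) y := by
    intro m
    induction m with
    | zero => intro y; simp
    | succ m ih =>
      intro y
      rw [pow_succ', pow_succ', Module.End.mul_apply, Module.End.mul_apply, LieAlgebra.ad_apply, LieAlgebra.ad_apply,
        LieIdeal.coe_bracket_of_module, LieSubmodule.coe_bracket, ih]
  refine ⟨p ^ n, LinearMap.ext fun y => Subtype.ext ?_⟩
  rw [hsub', ← hiter, hn, map_zero]
  rfl

end Groth.Agent.S14873
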