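import Groth.Statements.S14875
import Mathlib.Algebra.Lie.Engel
import Mathlib.LinearAlgebra.BilinearForm.Orthogonal
import Mathlib.RingTheory.Nilpotent.Basic
import Mathlib.Algebra.Lie.TraceForm

set_option autoImplicit false
universe u v
open PLie

namespace Groth.Agent.S14875

/-- Let `L` be a finite-dimensional Lie algebra over a field of characteristic `p` equipped with a
`p`-mapping `φ`, whose Killing form is non-degenerate. Let `U` and `H` be Lie subalgebras of `L`
such that `H` is the normaliser of `U`, `U` is the set of elements of `H` that lie in the solvable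
radical of `H` and are `p`-nilpotent, and the orthogonal of `U` for the Killing form is closed under
the bracket. Then `U` is the orthogonal of `H` for the Killing form. (The published statement is for
the Lie algebra of a reductive group over a field of characteristic `p` with its canonical
`p`-structure; this row states it for any finite-dimensional Lie algebra with a `p`-mapping.) -/
theorem result
    (k : Type u) [Field k] (p : ℕ) [Fact p.Prime] [CharP k p]
    (L : Type v) [LieRing L] [LieAlgebra k L] [Module.Finite k L]
    (φ : PLie.PMap k p L) (hκ : (killingForm k L).Nondegenerate)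
    (U H : LieSubalgebra k L) (hH : H = U.normalizer)
    (hU : ∀ x : L, x ∈ U ↔ ∃ hx : x ∈ H, (⟨x, hx⟩ : ↥H) ∈ LieAlgebra.radical k ↥H ∧ PLie.IsPNilpotent φ x)
    (hperp : ∀ a b : L, (∀ y ∈ U, killingForm k L a y = 0) → (∀ y ∈ U, killingForm k L b y = 0) →
      ∀ y ∈ U, killingForm k L ⁅a, b⁆ y = 0) :
    ∀ x : L, x ∈ U ↔ ∀ h ∈ H, killingForm k L h x = 0 := by
  classical
  have hUH : ∀ {x}, x ∈ U → x ∈ H := fun {x} hx => ((hU x).1 hx).1
  have hnil : ∀ x : U, IsNilpotent (LieModule.toEnd k U L x) := by
    intro x
    obtain ⟨-, -, n, hn⟩ := (hU x).1 x.2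
    have hpow : ∀ n (y : L), LieAlgebra.ad k L (φ.toFun^[n] y) = LieAlgebra.ad k L y ^ p ^ n := by
      intro n
      induction n with
      | zero => simp
      | succ n ih =>
        intro y
        rw [Function.iterate_succ_apply', φ.ad_map, ih, ← pow_mul, ← pow_succ]
    refine ⟨p ^ n, ?_⟩
    have := hpow n x
    rw [hn, map_zero] at this
    exact this.symm
  haveI : LieModule.IsNilpotent U L := (LieModule.isNilpotent_iff_forall' (R := k)).2 hnil
  obtain ⟨N, hN⟩ := LieModule.IsNilpotent.nilpotent k U L
  have hnorm : ∀ {x h : L}, x ∈ U → h ∈ H → ⁅h, x⁆ ∈ U := fun {x h} hx hh => by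
    rw [hH] at hh
    exact (U.mem_normalizer_iff _).1 hh x hx
  -- the filtration is stable under `H`
  have hstab : ∀ (j : ℕ) (h : L), h ∈ H → ∀ v ∈ LieModule.lowerCentralSeries k U L j,
      ⁅h, v⁆ ∈ LieModule.lowerCentralSeries k U L j := by
    intro j h hh
    induction j with
    | zero => simp
    | succ j ih =>
      intro v hv
      rw [LieModule.lowerCentralSeries_succ, ← LieSubmodule.mem_toSubmodule, LieSubmodule.lieIdeal_oper_eq_linear_span'] at hv
      induction hv using Submodule.span_induction with
      | mem v hv =>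
        obtain ⟨x, -, w, hw, rfl⟩ := hv
        rw [show ⁅x, w⁆ = ⁅(x : L), w⁆ from rfl, leibniz_lie, LieModule.lowerCentralSeries_succ]
        exact add_mem
          (LieSubmodule.lie_mem_lie (I := (⊤ : LieIdeal k U)) (x := (⟨_, hnorm x.2 hh⟩ : U)) trivial hw)
          (LieSubmodule.lie_mem_lie (I := (⊤ : LieIdeal k U)) (x := x) trivial (ih w hw))
      | zero => simp
      | add a b _ _ ha hb => rw [lie_add]; exact add_mem ha hb
      | smul c a _ ha => rw [lie_smul]; exact SMulMemClass.smul_mem c ha
  have horth : ∀ {x h : L}, x ∈ U → h ∈ H → killingForm k L h x = 0 := by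
    intro x h hx hh
    rw [killingForm_apply_apply]
    refine (LinearMap.isNilpotent_trace_of_isNilpotent ?_).eq_zero
    refine ⟨N, LinearMap.ext fun v => ?_⟩
    have hj : ∀ j, ((LieAlgebra.ad k L h ∘ₗ LieAlgebra.ad k L x) ^ j) v ∈ LieModule.lowerCentralSeries k U L j := by
      intro j
      induction j with
      | zero => simp
      | succ j ih =>
        rw [pow_succ', Module.End.mul_apply]
        refine hstab _ h hh _ ?_
        rw [LieModule.lowerCentralSeries_succ]
        exact LieSubmodule.lie_mem_lie (I := (⊤ : LieIdeal k U)) (x := (⟨x, hx⟩ : U)) trivial ih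
    have := hj N
    rw [hN] at this
    exact (LieSubmodule.mem_bot _).1 this
  let B : LinearMap.BilinForm k L := killingForm k L
  have hrefl : B.IsRefl := (LieModule.traceForm_isSymm k L L).isRefl
  have hPP : B.orthogonal (B.orthogonal U.toSubmodule) = U.toSubmodule :=
    LinearMap.BilinForm.orthogonal_orthogonal hκ hrefl _
  have hsymm : ∀ a b : L, killingForm k L a b = killingForm k L b a := LieModule.traceForm_comm k L L
  -- the orthogonal of `U` normalises `U`
  have hperpH : ∀ a : L, (∀ y ∈ U, killingForm k L a y = 0) → a ∈ H := by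
    intro a ha
    rw [hH, LieSubalgebra.mem_normalizer_iff]
    intro u hu
    rw [← LieSubalgebra.mem_toSubmodule, ← hPP]
    intro b hb
    have hb' : ∀ y ∈ U, killingForm k L b y = 0 := fun y hy => by rw [hsymm]; exact hb y hy
    show killingForm k L b ⁅a, u⁆ = 0
    rw [← LieModule.traceForm_apply_lie_apply]
    exact hperp b a hb' ha u hu
  intro x
  refine ⟨fun hx h hh => horth hx hh, fun hx => ?_⟩
  rw [← LieSubalgebra.mem_toSubmodule, ← hPP]
  intro b hb
  exact hx b (hperpH b fun y hy => by rw [hsymm]; exact hb y hy)

end Groth.Agent.S14875
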