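import Groth.Statements.S14877
import Groth.Agent.H02CA.Bundle.Isotriv

set_option autoImplicit false
universe u
open CategoryTheory MonoidalCategory CartesianMonoidalCategory MonObj GrpObj AlgebraicGeometry CategoryTheory.Limits
open AlgGrp Groth.Agent.H02CA.Bundle

namespace Groth.Agent.S14877

/-- Over an algebraically closed field k of characteristic zero, let G be an algebraic group (a smooth
k-group scheme of finite type) acting on a variety P (reduced, separated, of finite type over k),
and let π : P → X be a geometric quotient by this action onto a variety X: π is invariant,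
surjective and open, the map (g, p) ↦ (g·p, p) from G × P to P ×_X P is surjective on points, and
for every open U of X the sections of O_X over U are exactly the invariant sections of O_P over
π⁻¹U. Suppose the bundle is locally isotrivial: every point of X has an open neighbourhood U with a
finite étale surjective morphism U' → U and a morphism s : U' → P lifting U' → U → X such that (u,
g) ↦ g·s(u) exhibits U' × G as the fibre product U' ×_X P. Then the bundle is principal: (g, p) ↦
(g·p, p) is an isomorphism of G × P onto P ×_X P, and π is flat. (The published definition of an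
étale covering asks only for a finite étale morphism; this row also requires it to be surjective,
since an empty cover would make every bundle isotrivial.) -/
theorem result (k : Type u) [Field k] [IsAlgClosed k] [CharZero k]
    (G P X : Over (Spec (CommRingCat.of k))) [GrpObj G] [Smooth G.hom] [QuasiCompact G.hom]
    [LocallyOfFiniteType P.hom] [QuasiCompact P.hom] [IsSeparated P.hom] [IsReduced P.left]
    [LocallyOfFiniteType X.hom] [QuasiCompact X.hom] [IsSeparated X.hom] [IsReduced X.left]
    (a : AlgGrp.Action G P) (π : P ⟶ X) (hinv : GIT.IsInvariant a π)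
    (hq : Function.Surjective π.left.base ∧ IsOpenMap π.left.base ∧
      Function.Surjective (GIT.PsiY a π hinv).base ∧
      ∀ U : X.left.Opens, Function.Injective (π.left.app U) ∧
        Set.range (π.left.app U) = {f | GIT.IsInvSection a π U f})
    (hli : ∀ x : ↥X.left, ∃ (U : X.left.Opens) (_ : x ∈ U) (U' : Scheme.{u}) (φ : U' ⟶ ↑U)
      (_ : IsFinite φ) (_ : Etale φ) (_ : Surjective φ) (s : Over.mk (φ ≫ U.ι ≫ X.hom) ⟶ P),
      s.left ≫ π.left = φ ≫ U.ι ∧
      IsPullback (fst (Over.mk (φ ≫ U.ι ≫ X.hom)) G).left (lift (snd (Over.mk (φ ≫ U.ι ≫ X.hom)) G) (fst (Over.mk (φ ≫ U.ι ≫ X.hom)) G ≫ s) ≫ a.act).left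
        (φ ≫ U.ι) π.left) :
    IsIso (GIT.PsiY a π hinv) ∧ Flat π.left := by
  choose U hxU U' φ hfin het hsur s hsπ hE using hli
  have hrange : ∀ x, Set.range (φ x ≫ (U x).ι) = (U x : Set ↥X.left) := by
    intro x
    rw [← Scheme.Opens.range_ι (U x)]
    haveI := hsur x
    ext y
    constructor
    · rintro ⟨z, rfl⟩
      exact ⟨φ x z, (Scheme.Hom.comp_apply _ _ _).symm⟩
    · rintro ⟨z, rfl⟩
      obtain ⟨w, rfl⟩ := (φ x).surjective z
      exact ⟨w, Scheme.Hom.comp_apply _ _ _⟩
  have hjf : ∀ x, Flat (φ x ≫ (U x).ι) := fun x => by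
    haveI := het x
    infer_instance
  have hjl : ∀ x, LocallyOfFinitePresentation (φ x ≫ (U x).ι) := fun x => by
    haveI := het x
    infer_instance
  refine ⟨?_, ?_⟩
  · change MorphismProperty.isomorphisms Scheme.{u} (GIT.PsiY a π hinv)
    have hcov : (⨆ x, pullback.snd π.left π.left ⁻¹ᵁ (π.left ⁻¹ᵁ U x)) = ⊤ := by
      refine eq_top_iff.2 fun z _ => TopologicalSpace.Opens.mem_iSup.2
        ⟨π.left (pullback.snd π.left π.left z), hxU _⟩
    rw [IsZariskiLocalAtTarget.iff_of_iSup_eq_top (P := MorphismProperty.isomorphisms Scheme.{u}) _ hcov]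
    intro x
    haveI := hjf x
    haveI := hjl x
    exact isIso_psiY_restrict a π (s x) (φ x ≫ (U x).ι) (hE x) hinv (U x) (hrange x)
  · refine Flat.of_stalkMap _ fun p => ?_
    haveI := hjf (π.left p)
    refine flat_stalkMap a π (s (π.left p)) (φ (π.left p) ≫ (U (π.left p)).ι) (hE _) p ?_
    rw [hrange]
    exact hxU _

end Groth.Agent.S14877
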