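import Groth.Statements.S14879


set_option autoImplicit false
set_option maxHeartbeats 1000000
set_option synthInstance.maxHeartbeats 100000
set_option linter.style.haveILetI false
set_option backward.isDefEq.respectTransparency false
universe u
open Finset
open AlgGrp

namespace Groth.Agent.S14879

open Matrix Equiv in
theorem sum_perm_det_mul_det {R : Type u} [CommRing R] {p r : ℕ} (N : Matrix (Fin (p + r)) (Fin (p + r)) R) :
    ∑ π : Perm (Fin (p + r)), ((Perm.sign π : ℤ) : R) *
      (N.submatrix (Fin.castAdd r) (fun i => π (Fin.castAdd r i))).det *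
      (N.submatrix (Fin.natAdd p) (fun i => π (Fin.natAdd p i))).det =
    ((p.factorial * r.factorial : ℕ) : R) * N.det := by
  have key : ∀ (σ : Perm (Fin p)) (τ : Perm (Fin r)), ∑ π : Perm (Fin (p + r)), ((Perm.sign π : ℤ) : R) *
      (((Perm.sign σ : ℤ) : R) * ∏ i, N (Fin.castAdd r (σ i)) (π (Fin.castAdd r i))) *
      (((Perm.sign τ : ℤ) : R) * ∏ i, N (Fin.natAdd p (τ i)) (π (Fin.natAdd p i))) = N.det := by
    intro σ τ
    let ρ : Perm (Fin (p + r)) := finSumFinEquiv.permCongr (Perm.sumCongr σ τ)
    have hρ : Perm.sign ρ = Perm.sign σ * Perm.sign τ := by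
      rw [Perm.sign_permCongr, Perm.sign_sumCongr]
    rw [Matrix.det_apply']
    refine Fintype.sum_bijective (fun π => ρ * π⁻¹)
      ((Equiv.mulLeft ρ).bijective.comp (Equiv.inv (Perm (Fin (p + r)))).bijective) _ _ (fun π => ?_)
    have h1 : ∏ i, N ((ρ * π⁻¹) i) i = ∏ x, N (ρ x) (π x) :=
      (Fintype.prod_equiv π _ _ (fun x => by simp)).symm
    rw [h1, Fin.prod_univ_add, Perm.sign_mul, Perm.sign_inv, hρ, Units.val_mul, Units.val_mul,
      Int.cast_mul, Int.cast_mul]
    have h2 : ∀ i, ρ (Fin.castAdd r i) = Fin.castAdd r (σ i) := fun i => by simp [ρ]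
    have h3 : ∀ i, ρ (Fin.natAdd p i) = Fin.natAdd p (τ i) := fun i => by simp [ρ]
    simp only [h2, h3]
    ring
  simp only [Matrix.det_apply', Matrix.submatrix_apply] at key ⊢
  simp only [Finset.mul_sum, Finset.sum_mul]
  rw [Finset.sum_comm]
  refine (Finset.sum_congr rfl (fun σ _ => Finset.sum_comm)).trans ?_
  rw [Finset.sum_comm]
  simp only [key]
  simp [Finset.card_univ, Fintype.card_perm, ← Finset.mul_sum, Nat.cast_mul]
  ring


/-- Let k be a field of characteristic zero, n = p + r with p, r ≥ 1, M an n × n matrix over k, A a set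
of p row indices and B a set of r row indices, both listed increasingly. For a permutation π of the
indices, with permutation matrix P_π, let Y_A(M·P_π) be the minor of M·P_π on the rows A and the
first p columns, and Z_B(M·P_π) the minor on the rows B and the last r columns. Then the sum over
all π of sign(π)·Y_A(M·P_π)·Z_B(M·P_π) equals p!·r!·(−1)^N·det M when B is the complement of A,
where N is the number of pairs (a, b) with a in A, b outside A and b < a, and equals 0 otherwise.
Taking det M = 1 this says that the pairing (f, h) ↦ Σ_π sign(π) f(π) h(π) between the spans of the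
left p-minors and of the right r-minors is invariant under left translation by matrices of
determinant one and pairs Y_A with the signed complementary minor to p!·r!. (The published statement
asserts that the two families of minors are dual bases for this pairing, that is, the value 1 in
place of p!·r!; the p!·r! permutations preserving the two column blocks each contribute the same
signed term, so this row carries that factor, which is 1 only for n = 2.) -/
theorem result (k : Type u) [Field k] [CharZero k]
    (p r : ℕ) (hp : 1 ≤ p) (hr : 1 ≤ r) (M : Matrix (Fin (p + r)) (Fin (p + r)) k)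
    (A : Finset (Fin (p + r))) (hA : A.card = p) (B : Finset (Fin (p + r))) (hB : B.card = r) :
    ∑ π : Equiv.Perm (Fin (p + r)), (((Equiv.Perm.sign π : ℤˣ) : ℤ) : k) *
      ((M * π.permMatrix k).submatrix (A.orderEmbOfFin hA) (Fin.castAdd r)).det *
      ((M * π.permMatrix k).submatrix (B.orderEmbOfFin hB) (Fin.natAdd p)).det =
    if B = Aᶜ then ((p.factorial * r.factorial : ℕ) : k) *
      (-1 : k) ^ ((A ×ˢ Aᶜ).filter (fun ab => ab.2 < ab.1)).card * M.det else 0 := by
  classical
  let a := A.orderEmbOfFin hA
  let b := B.orderEmbOfFin hB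
  let g : Fin (p + r) → Fin (p + r) := Fin.append a b
  have hga : ∀ i, g (Fin.castAdd r i) = a i := fun i => Fin.append_left _ _ i
  have hgb : ∀ i, g (Fin.natAdd p i) = b i := fun i => Fin.append_right _ _ i
  have h0 : ∑ π : Equiv.Perm (Fin (p + r)), (((Equiv.Perm.sign π : ℤˣ) : ℤ) : k) *
      ((M * π.permMatrix k).submatrix (A.orderEmbOfFin hA) (Fin.castAdd r)).det *
      ((M * π.permMatrix k).submatrix (B.orderEmbOfFin hB) (Fin.natAdd p)).det =
      ((p.factorial * r.factorial : ℕ) : k) * (M.submatrix g id).det := by
    rw [← sum_perm_det_mul_det]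
    refine Fintype.sum_equiv (Equiv.inv _) _ _ (fun π => ?_)
    have e1 : (M * π.permMatrix k).submatrix (A.orderEmbOfFin hA) (Fin.castAdd r) =
        (M.submatrix g id).submatrix (Fin.castAdd r) (fun i => π⁻¹ (Fin.castAdd r i)) := by
      rw [PEquiv.mul_toMatrix_toPEquiv]
      ext i j; simp [hga, a, Equiv.Perm.inv_def]
    have e2 : (M * π.permMatrix k).submatrix (B.orderEmbOfFin hB) (Fin.natAdd p) =
        (M.submatrix g id).submatrix (Fin.natAdd p) (fun i => π⁻¹ (Fin.natAdd p i)) := by
      rw [PEquiv.mul_toMatrix_toPEquiv]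
      ext i j; simp [hgb, b, Equiv.Perm.inv_def]
    simp only [Equiv.inv_apply, Equiv.Perm.sign_inv, e1, e2]
  rw [h0]
  have hmemA : ∀ i, a i ∈ A := fun i => A.orderEmbOfFin_mem hA i
  have hmemB : ∀ i, b i ∈ B := fun i => B.orderEmbOfFin_mem hB i
  have hsurjA : ∀ x ∈ A, ∃ i, a i = x := fun x hx => by
    have : x ∈ Set.range (A.orderEmbOfFin hA) := by rw [Finset.range_orderEmbOfFin]; exact hx
    exact this
  have hsurjB : ∀ x ∈ B, ∃ i, b i = x := fun x hx => by
    have : x ∈ Set.range (B.orderEmbOfFin hB) := by rw [Finset.range_orderEmbOfFin]; exact hx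
    exact this
  split_ifs with hB'
  · subst hB'
    have hinj : Function.Injective g := by
      intro x y hxy
      induction x using Fin.addCases with
      | left i => induction y using Fin.addCases with
        | left j => rw [hga, hga] at hxy; rw [a.injective hxy]
        | right j => rw [hga, hgb] at hxy; exact absurd (hxy ▸ hmemA i) (Finset.mem_compl.mp (hmemB j))
      | right i => induction y using Fin.addCases with
        | left j => rw [hgb, hga] at hxy; exact absurd (hxy ▸ hmemA j) (Finset.mem_compl.mp (hmemB i))
        | right j => rw [hgb, hgb] at hxy; rw [b.injective hxy]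
    let π₀ : Equiv.Perm (Fin (p + r)) := Equiv.ofBijective g (Finite.injective_iff_bijective.mp hinj)
    rw [show M.submatrix g id = M.submatrix π₀ id from rfl, Matrix.det_permute, mul_assoc]
    congr 2
    rw [Equiv.Perm.sign_eq_prod_prod_Ioi, Finset.prod_sigma', Finset.prod_ite, Finset.prod_const_one,
      one_mul, Finset.prod_const]
    push_cast
    congr 1
    refine Finset.card_bij (fun x _ => (g x.1, g x.2)) ?_ ?_ ?_
    · rintro ⟨x, y⟩ h
      simp only [Finset.mem_filter, Finset.mem_sigma, Finset.mem_univ, true_and, Finset.mem_Ioi,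
        not_lt, π₀, Equiv.ofBijective_apply] at h
      obtain ⟨hlt, hle⟩ := h
      have hlt' : g y < g x := lt_of_le_of_ne hle (fun e => hlt.ne (hinj e).symm)
      simp only [Finset.mem_filter, Finset.mem_product]
      refine ⟨⟨?_, ?_⟩, hlt'⟩
      · induction x using Fin.addCases with
        | left i => rw [hga]; exact hmemA i
        | right i => induction y using Fin.addCases with
          | left j => exact absurd hlt (by simp only [Fin.lt_def, Fin.val_castAdd, Fin.val_natAdd]; omega)
          | right j =>
            rw [hgb, hgb] at hlt'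
            exact absurd (b.lt_iff_lt.mp hlt') (by simp only [Fin.lt_def, Fin.val_castAdd, Fin.val_natAdd] at hlt ⊢; omega)
      · induction y using Fin.addCases with
        | right j => rw [hgb]; exact hmemB j
        | left j => induction x using Fin.addCases with
          | right i => exact absurd hlt (by simp only [Fin.lt_def, Fin.val_castAdd, Fin.val_natAdd]; omega)
          | left i =>
            rw [hga, hga] at hlt'
            exact absurd (a.lt_iff_lt.mp hlt') (by simp only [Fin.lt_def, Fin.val_castAdd, Fin.val_natAdd] at hlt ⊢; omega)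
    · rintro ⟨x, y⟩ _ ⟨x', y'⟩ _ h
      simp only [Prod.mk.injEq] at h
      obtain ⟨rfl, rfl⟩ := And.intro (hinj h.1) (hinj h.2)
      rfl
    · rintro ⟨u, v⟩ h
      simp only [Finset.mem_filter, Finset.mem_product] at h
      obtain ⟨i, rfl⟩ := hsurjA u h.1.1
      obtain ⟨j, rfl⟩ := hsurjB v h.1.2
      refine ⟨⟨Fin.castAdd r i, Fin.natAdd p j⟩, ?_, by rw [hga, hgb]⟩
      simp only [Finset.mem_filter, Finset.mem_sigma, Finset.mem_univ, true_and, Finset.mem_Ioi,
        not_lt, π₀, Equiv.ofBijective_apply, hga, hgb]
      exact ⟨by simp only [Fin.lt_def, Fin.val_castAdd, Fin.val_natAdd]; omega, h.2.le⟩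
  · obtain ⟨x, hxA, hxB⟩ : ∃ x, x ∈ A ∧ x ∈ B := by
      by_contra hne
      push_neg at hne
      refine hB' (Finset.eq_of_subset_of_card_le (fun x hx => Finset.mem_compl.mpr fun h => hne x h hx) ?_)
      rw [Finset.card_compl, hA, hB, Fintype.card_fin]; omega
    obtain ⟨i, rfl⟩ := hsurjA x hxA
    obtain ⟨j, hj⟩ := hsurjB _ hxB
    have : (M.submatrix g id).det = 0 := by
      refine Matrix.det_zero_of_row_eq (i := Fin.castAdd r i) (j := Fin.natAdd p j) ?_ ?_
      · simp [Fin.ext_iff]; omega
      · ext l; simp [Matrix.submatrix, hga, hgb, hj]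
    rw [this, mul_zero]

end Groth.Agent.S14879
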