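import Groth.Statements.S14885
import Mathlib

set_option autoImplicit false
set_option linter.style.haveILetI false
set_option backward.isDefEq.respectTransparency false
universe u v
open CategoryTheory TopologicalSpace Opposite AlgebraicGeometry Topology
open AlgGrp

namespace Groth.Agent.S14885

open CategoryTheory TopologicalSpace Opposite AlgebraicGeometry in
private theorem invariant_app {X Z : SheafedSpace CommRingCat.{u}} (σ : X ⟶ X) (f : X ⟶ Z) (h : σ ≫ f = f)
    (W : Opens Z) (V : Opens X) (hV : (Opens.map f.hom.base).obj W = V) (hV' : op V = op ((Opens.map σ.hom.base).obj V)) :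
    (f.hom.c.app (op W) ≫ X.presheaf.map (eqToHom (congrArg op hV))) ≫ σ.hom.c.app (op V) =
      (f.hom.c.app (op W) ≫ X.presheaf.map (eqToHom (congrArg op hV))) ≫ X.presheaf.map (eqToHom hV') := by
  subst hV
  have e := PresheafedSpace.congr_app (congrArg InducedCategory.Hom.hom h) (op W)
  simp only [eqToHom_refl, CategoryTheory.Functor.map_id, Category.comp_id]
  exact e

private theorem exists_factor_ringHom {A A' B : CommRingCat.{u}} (p : A ⟶ B) (F : A' ⟶ B)
    (hp : Function.Injective p) (h : ∀ z, F z ∈ Set.range p) : ∃ G : A' ⟶ A, G ≫ p = F := by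
  let e := RingEquiv.ofBijective p.hom.rangeRestrict
    ⟨fun _ _ e => hp (congrArg Subtype.val e), p.hom.rangeRestrict_surjective⟩
  refine ⟨CommRingCat.ofHom (e.symm.toRingHom.comp (F.hom.codRestrict p.hom.range h)), ?_⟩
  ext z
  exact congrArg Subtype.val (e.apply_symm_apply ⟨F z, h z⟩)


/-- Let a group Γ act on a ringed space X (a topological space with a sheaf of rings) by automorphisms
τ_g, and let π : X → Y be a Γ-invariant morphism of ringed spaces which exhibits Y as the quotient
ringed space X/Γ: the underlying continuous map of π is a topological quotient map whose fibres are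
exactly the Γ-orbits, and for every open subset V of Y the ring map O_Y(V) → O_X(π⁻¹V) is injective
with image the sections s satisfying τ_g^♯(s) = s for all g. Then (Y, π) is a categorical quotient
for the action in the category of ringed spaces: every morphism of ringed spaces f : X → Z with f ∘
τ_g = f for all g (as morphisms of ringed spaces) factors uniquely as f = f̄ ∘ π. -/
theorem result (X Y : SheafedSpace CommRingCat.{u}) (Γ : Type v) [Group Γ]
    (τ : Γ →* Aut X) (π : X ⟶ Y) (hτ : ∀ g : Γ, (τ g).hom ≫ π = π)
    (h1 : IsQuotientMap π.hom.base)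
    (h2 : ∀ x x' : X, π.hom.base x = π.hom.base x' ↔ ∃ g : Γ, (τ g).hom.hom.base x = x')
    (h3 : ∀ V : Opens Y, Function.Injective (π.hom.c.app (op V)) ∧
      Set.range (π.hom.c.app (op V)) =
        {s | ∀ g : Γ, (τ g).hom.hom.c.app (op ((Opens.map π.hom.base).obj V)) s =
          X.presheaf.map (eqToHom (congrArg (fun f : X ⟶ Y => op ((Opens.map f.hom.base).obj V)) (hτ g).symm)) s})
    (Z : SheafedSpace CommRingCat.{u}) (f : X ⟶ Z) (hf : ∀ g : Γ, (τ g).hom ≫ f = f) :
    ∃! fbar : Y ⟶ Z, π ≫ fbar = f := by
  have hfb : ∀ x x', π.hom.base x = π.hom.base x' → f.hom.base x = f.hom.base x' := by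
    intro x x' h
    obtain ⟨g, rfl⟩ := (h2 x x').1 h
    exact (congrArg (fun m : X ⟶ Z => m.hom.base x) (hf g)).symm
  have hsurj : Function.Surjective π.hom.base := h1.surjective
  let b : Y → Z := fun y => f.hom.base (Function.surjInv hsurj y)
  have hb : ∀ x, b (π.hom.base x) = f.hom.base x := fun x => hfb _ _ (Function.surjInv_eq hsurj _)
  have hbc : Continuous b := h1.continuous_iff.2 (by
    rw [show b ∘ π.hom.base = f.hom.base from funext hb]
    exact f.hom.base.hom.continuous)
  let fb : Y.toPresheafedSpace.carrier ⟶ Z.toPresheafedSpace.carrier := TopCat.ofHom ⟨b, hbc⟩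
  have hW : ∀ W : Opens Z, (Opens.map f.hom.base).obj W = (Opens.map π.hom.base).obj ((Opens.map fb).obj W) :=
    fun W => Opens.ext (Set.ext fun x => by
      show f.hom.base x ∈ W ↔ b (π.hom.base x) ∈ W
      rw [hb])
  let F : ∀ W : Opens Z, Z.presheaf.obj (op W) ⟶ X.presheaf.obj (op ((Opens.map π.hom.base).obj ((Opens.map fb).obj W))) :=
    fun W => f.hom.c.app (op W) ≫ X.presheaf.map (eqToHom (congrArg op (hW W)))
  have hinv : ∀ W z, F W z ∈ Set.range (π.hom.c.app (op ((Opens.map fb).obj W))) := by
    intro W z
    rw [(h3 _).2]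
    intro g
    exact congrArg (fun m => (ConcreteCategory.hom m) z) (invariant_app (τ g).hom f (hf g) W _ (hW W)
      (congrArg (fun f : X ⟶ Y => op ((Opens.map f.hom.base).obj ((Opens.map fb).obj W))) (hτ g).symm))
  choose σ hσ using fun W => exists_factor_ringHom _ (F W) (h3 _).1 (hinv W)
  have hmono : ∀ V : Opens Y, Mono (π.hom.c.app (op V)) := fun V => ConcreteCategory.mono_of_injective _ (h3 V).1
  let c : Z.presheaf ⟶ fb _* Y.presheaf :=
    { app := fun W => σ W.unop
      naturality := fun W W' i => by
        haveI := hmono ((Opens.map fb).obj W'.unop)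
        refine (cancel_mono (π.hom.c.app (op ((Opens.map fb).obj W'.unop)))).1 ?_
        rw [Category.assoc, Category.assoc]
        erw [hσ, π.hom.c.naturality, ← Category.assoc (σ W.unop), hσ]
        simp only [F, Category.assoc]
        erw [f.hom.c.naturality_assoc]
        simp only [TopCat.Presheaf.pushforward_obj_map, ← Functor.map_comp]
        rfl }
  refine ⟨InducedCategory.homMk ⟨fb, c⟩, ?_, ?_⟩
  · refine SheafedSpace.ext _ _ (TopCat.hom_ext (ContinuousMap.ext hb)) ?_
    refine NatTrans.ext (funext fun W => ?_)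
    show (σ W.unop ≫ π.hom.c.app (op ((Opens.map fb).obj W.unop))) ≫ X.presheaf.map _ = _
    rw [hσ]
    simp only [F, Category.assoc, ← Functor.map_comp]
    simp
  · intro m hm
    subst hm
    have hbase : m.hom.base = fb := by
      ext y
      obtain ⟨x, rfl⟩ := hsurj y
      exact (hb x).symm
    refine SheafedSpace.ext _ _ hbase ?_
    refine NatTrans.ext (funext fun W => ?_)
    haveI := hmono ((Opens.map fb).obj W.unop)
    refine (cancel_mono (π.hom.c.app (op ((Opens.map fb).obj W.unop)))).1 ?_
    show (m.hom.c.app W ≫ Y.presheaf.map _) ≫ _ = σ W.unop ≫ _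
    rw [hσ, Category.assoc]
    erw [π.hom.c.naturality]
    simp [F]
    rfl

end Groth.Agent.S14885
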