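import Groth.Statements.S14889
import Groth.Agent.H8Norm.EtaModification

set_option autoImplicit false
universe u
open CategoryTheory CategoryTheory.Limits AlgebraicGeometry
open FlatMor

namespace Groth.Agent.S14889

/-- Let S be integral, normal (all local rings integrally closed domains), quasi-compact and
quasi-separated, with generic point η, and let φ : X → S be flat, locally of finite presentation,
quasi-compact and quasi-separated, with geometrically reduced fibres (every base change of φ to the
spectrum of a field is reduced). Let f : X' → X be a finite morphism which restricts to an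
isomorphism over an open U ⊆ X that is schematically dense in X and whose preimage is schematically
dense in X', and whose base change to the generic fibre X_η = X ×_S Spec O_{S,η} is an isomorphism.
Then f is an isomorphism: X admits no non-trivial finite η-modification. -/
theorem result
    {S X X' : Scheme.{u}} [IsIntegral S] [CompactSpace S] [QuasiSeparatedSpace S]
    (hS : Pi1.IsNormalScheme S) (φ : X ⟶ S) [Flat φ] [LocallyOfFinitePresentation φ]
    [QuasiCompact φ] [QuasiSeparated φ]
    (hred : ∀ (K : Type u) [Field K] (k : Spec (CommRingCat.of K) ⟶ S), IsReduced (pullback φ k))
    (f : X' ⟶ X) [IsFinite f] (U : X.Opens) (hU : IsSchemeTheoreticallyDominant U.ι)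
    (hU' : IsSchemeTheoreticallyDominant (f ⁻¹ᵁ U).ι) (hfU : IsIso (f ∣_ U))
    (hη : IsIso (pullback.snd f (pullback.fst φ (S.fromSpecStalk (genericPoint S))))) :
    IsIso f := by
  haveI := hU'
  haveI := hfU
  exact H8Norm.EtaClosed.isIso_of_finite_modification hS φ
    ⟨geometrically_iff_of_isClosedUnderIsomorphisms.2 fun K _ a => hred K a⟩ f U hη

end Groth.Agent.S14889
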