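import Groth.Statements.S14891
import Groth.Agent.H3CAlg.Abhyankar

set_option autoImplicit false
universe u
open CAlg

namespace Groth.Agent.S14891

/-- Let L/K be an extension of valued fields, i.e. v_L is a valuation on L whose restriction to K is
equivalent to v_K. Write E for the rational rank of the quotient of value groups |L^×|/|K^×| — here
the rank of the abelian group L^× modulo the subgroup generated by the units of the valuation ring
of v_L and the image of K^× — and F for the transcendence degree of the residue field of v_L over
that of v_K. Then E + F ≤ tr.deg(L/K) (an inequality of cardinals). -/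
theorem result
    {K L Γ₀ Γ₁ : Type u} [Field K] [Field L] [Algebra K L]
    [LinearOrderedCommGroupWithZero Γ₀] [LinearOrderedCommGroupWithZero Γ₁]
    (vK : Valuation K Γ₀) (vL : Valuation L Γ₁) [vK.HasExtension vL] :
    Module.rank ℤ (Additive Lˣ ⧸ Subgroup.toAddSubgroup
        (vL.valuationSubring.unitGroup ⊔ (Units.map (algebraMap K L).toMonoidHom).range)) +
      Algebra.trdeg (IsLocalRing.ResidueField vK.valuationSubring)
        (IsLocalRing.ResidueField vL.valuationSubring) ≤ Algebra.trdeg K L := by
  exact Groth.Agent.H3CAlg.Abhyankar.abhyankar vK vL

end Groth.Agent.S14891
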