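import Groth.Statements.S14893
import Groth.Agent.H3CAlg.ValTrdeg
import Groth.Agent.H3CAlg.SemilocalPrufer
import Mathlib.RingTheory.Valuation.ValuationRing
import Mathlib.RingTheory.KrullDimension.Basic

set_option autoImplicit false
universe u
open CAlg

namespace Groth.Agent.S14893

/-- Every valuation ring R is a filtered union of subrings which are valuation rings with finite
spectrum (finite height): there is a nonempty directed index type and a monotone family of such
subrings of R whose supremum is R. -/
theorem result
    (R : Type u) [CommRing R] [IsDomain R] [ValuationRing R] :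
    ∃ (ι : Type u) (_ : Preorder ι) (_ : IsDirected ι (fun a b ↦ a ≤ b)) (_ : Nonempty ι)
      (F : ι → Subring R), Monotone F ∧ (⨆ i, F i) = ⊤ ∧
        ∀ i, ValuationRing (F i) ∧ Finite (PrimeSpectrum (F i)) := by
  classical
  let L := FractionRing R
  let K : Finset R → Subfield L := fun s => Subfield.closure ((s.image (algebraMap R L) : Finset L) : Set L)
  let F : Finset R → Subring R := fun s => (K s).toSubring.comap (algebraMap R L)
  have hmono : Monotone F := fun s t hst x hx =>
    Subfield.closure_mono (Finset.coe_subset.mpr (Finset.image_subset_image hst)) hx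
  refine ⟨Finset R, inferInstance, inferInstance, ⟨∅⟩, F, hmono, ?_, fun s => ?_⟩
  · refine eq_top_iff.mpr fun x _ => (le_iSup F {x}) ?_
    exact Subfield.subset_closure (by simp)
  let V : ValuationSubring L :=
    { (algebraMap R L).range with
      mem_or_inv_mem' := fun x => by
        obtain h | h := (ValuationRing.iff_isInteger_or_isInteger R L).mp inferInstance x
        · exact Or.inl h
        · exact Or.inr h }
  let A : ValuationSubring (K s) := V.comap (K s).subtype
  let e : F s ≃+* A := RingEquiv.ofBijective
    (((algebraMap R L).comp (F s).subtype).codRestrict (K s) (fun x => x.2) |>.codRestrict A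
      (fun x => ⟨x.1, rfl⟩))
    ⟨fun x y h => Subtype.ext (IsFractionRing.injective R L
        (congrArg (fun z : A => ((z : K s) : L)) h)),
      fun ⟨⟨y, hy⟩, hyA⟩ => by
        obtain ⟨r, hr⟩ := hyA
        refine ⟨⟨r, ?_⟩, Subtype.ext (Subtype.ext hr)⟩
        show algebraMap R L r ∈ K s
        exact hr ▸ hy⟩
  haveI hval : ValuationRing (F s) := Function.Surjective.valuationRing e.symm.toRingHom e.symm.surjective
  refine ⟨hval, ?_⟩
  obtain ⟨d, hd⟩ := Cardinal.lt_aleph0.mp
    ((Groth.Agent.H3CAlg.SemilocalPrufer.trdeg_closure_le (s.image (algebraMap R L))).trans_lt Cardinal.natCast_lt_aleph0)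
  have hdim : ringKrullDim (F s) ≤ ((d + 1 : ℕ) : WithBot ℕ∞) :=
    (ringKrullDim_eq_of_ringEquiv e).trans_le (Groth.Agent.H3CAlg.ValTrdeg.ringKrullDim_le A hd)
  by_contra hinf
  rw [not_finite_iff_infinite] at hinf
  obtain ⟨T, hT⟩ := Infinite.exists_subset_card_eq (PrimeSpectrum (F s)) (d + 3)
  letI : LinearOrder (PrimeSpectrum (F s)) :=
    { (inferInstance : PartialOrder (PrimeSpectrum (F s))) with
      le_total := fun p q => (ValuationRing.iff_ideal_total.mp hval).total p.asIdeal q.asIdeal
      toDecidableLE := Classical.decRel _ }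
  let l : LTSeries (PrimeSpectrum (F s)) :=
    LTSeries.mk (d + 2) (T.orderEmbOfFin hT) (T.orderEmbOfFin hT).strictMono
  have h1 : ((d + 2 : ℕ) : WithBot ℕ∞) ≤ ringKrullDim (F s) := Order.LTSeries.length_le_krullDim l
  have h2 := h1.trans hdim
  norm_cast at h2
  omega

end Groth.Agent.S14893
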