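import Groth.Statements.S14894
import Groth.Agent.H8Norm.EtaUnique

set_option autoImplicit false
universe u
open CategoryTheory CategoryTheory.Limits AlgebraicGeometry
open FlatMor

namespace Groth.Agent.S14894

/-- Let S be integral, quasi-compact and quasi-separated with generic point η, φ : X → S flat, locally
of finite presentation, quasi-compact and quasi-separated, and f₁ : X₁ → X, f₂ : X₂ → X finite
morphisms, each restricting to an isomorphism over a schematically dense open of X whose preimage is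
schematically dense, and each an isomorphism after base change to the generic fibre X ×_S Spec
O_{S,η}. Suppose X₁ and X₂ are flat over S with geometrically reduced fibres. Then there are a
finite morphism g : S' → S, restricting to an isomorphism over a nonempty open V of S with g⁻¹(V)
schematically dense in S', and an isomorphism X₁ ×_S S' ≅ X₂ ×_S S' over X ×_S S'; moreover such an
isomorphism is unique. (Base changes are written as pullbacks along the projection X ×_S S' → X.) -/
theorem result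
    {S X X₁ X₂ : Scheme.{u}} [IsIntegral S] [CompactSpace S] [QuasiSeparatedSpace S]
    (φ : X ⟶ S) [Flat φ] [LocallyOfFinitePresentation φ] [QuasiCompact φ] [QuasiSeparated φ]
    (f₁ : X₁ ⟶ X) (f₂ : X₂ ⟶ X) [IsFinite f₁] [IsFinite f₂]
    (U₁ : X.Opens) (hU₁ : IsSchemeTheoreticallyDominant U₁.ι)
    (hU₁' : IsSchemeTheoreticallyDominant (f₁ ⁻¹ᵁ U₁).ι) (hf₁ : IsIso (f₁ ∣_ U₁))
    (U₂ : X.Opens) (hU₂ : IsSchemeTheoreticallyDominant U₂.ι)
    (hU₂' : IsSchemeTheoreticallyDominant (f₂ ⁻¹ᵁ U₂).ι) (hf₂ : IsIso (f₂ ∣_ U₂))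
    (hη₁ : IsIso (pullback.snd f₁ (pullback.fst φ (S.fromSpecStalk (genericPoint S)))))
    (hη₂ : IsIso (pullback.snd f₂ (pullback.fst φ (S.fromSpecStalk (genericPoint S)))))
    [Flat (f₁ ≫ φ)] [Flat (f₂ ≫ φ)]
    (hred₁ : ∀ (K : Type u) [Field K] (k : Spec (CommRingCat.of K) ⟶ S), IsReduced (pullback (f₁ ≫ φ) k))
    (hred₂ : ∀ (K : Type u) [Field K] (k : Spec (CommRingCat.of K) ⟶ S), IsReduced (pullback (f₂ ≫ φ) k)) :
    ∃ (S' : Scheme.{u}) (g : S' ⟶ S) (V : S.Opens), IsFinite g ∧ (V : Set S).Nonempty ∧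
      IsIso (g ∣_ V) ∧ IsSchemeTheoreticallyDominant (g ⁻¹ᵁ V).ι ∧
      ∃ e : pullback f₁ (pullback.fst φ g) ⟶ pullback f₂ (pullback.fst φ g), IsIso e ∧
        e ≫ pullback.snd f₂ (pullback.fst φ g) = pullback.snd f₁ (pullback.fst φ g) ∧
        ∀ e' : pullback f₁ (pullback.fst φ g) ⟶ pullback f₂ (pullback.fst φ g), IsIso e' →
          e' ≫ pullback.snd f₂ (pullback.fst φ g) = pullback.snd f₁ (pullback.fst φ g) → e' = e := by
  exact H8Norm.EtaClosed.exists_common_iso φ f₁ f₂ hη₁ hη₂
    ⟨geometrically_iff_of_isClosedUnderIsomorphisms.2 fun K _ a => hred₁ K a⟩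
    ⟨geometrically_iff_of_isClosedUnderIsomorphisms.2 fun K _ a => hred₂ K a⟩

end Groth.Agent.S14894
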