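import Groth.Statements.S14895
import Groth.Agent.H8Norm.CurveModificationIso

set_option autoImplicit false
universe u
open CategoryTheory CategoryTheory.Limits AlgebraicGeometry
open FlatMor

namespace Groth.Agent.S14895

/-- Let R be a valuation ring with finite spectrum and separably closed fraction field K, and let φ : C
→ Spec R be a connected, reduced and normal relative curve — flat, locally of finite presentation,
quasi-compact, quasi-separated, every fibre of pure dimension one — with smooth generic fibre C ×_R
K. Let x ∈ C be a generic point of an irreducible component of its fibre (no other point of the same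
fibre specializes to x), and let f : C' → C be proper and restrict to an isomorphism over an open U
⊆ C which is schematically dense in C and whose preimage is schematically dense in C'. Then f⁻¹(x)
is a single point x', the stalk map O_{C,x} → O_{C',x'} is an isomorphism, and f restricts to an
isomorphism over an open of C with finite complement (the modification locus is finite). -/
theorem result
    (R : Type u) [CommRing R] [IsDomain R] [ValuationRing R] [Finite (PrimeSpectrum R)]
    [IsSepClosed (FractionRing R)]
    {C C' : Scheme.{u}} (φ : C ⟶ Spec (CommRingCat.of R)) [Flat φ] [LocallyOfFinitePresentation φ]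
    [QuasiCompact φ] [QuasiSeparated φ] [ConnectedSpace C] [IsReduced C] (hN : Pi1.IsNormalScheme C)
    (hdim : ∀ s : Spec (CommRingCat.of R), ∀ Z ∈ irreducibleComponents (φ.fiber s : Type u),
      topologicalKrullDim Z = 1)
    (hη : Smooth (pullback.snd φ (Spec.map (CommRingCat.ofHom (algebraMap R (FractionRing R))))))
    (x : C) (hx : ∀ y : C, y ⤳ x → φ y = φ x → y = x)
    (f : C' ⟶ C) [IsProper f] (U : C.Opens) (hU : IsSchemeTheoreticallyDominant U.ι)
    (hU' : IsSchemeTheoreticallyDominant (f ⁻¹ᵁ U).ι) (hfU : IsIso (f ∣_ U)) :
    ((∃ x' : C', f x' = x) ∧ (∀ x₁ x₂ : C', f x₁ = x → f x₂ = x → x₁ = x₂) ∧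
      (∀ x' : C', f x' = x → IsIso (f.stalkMap x'))) ∧
    ∃ W : C.Opens, ((W : Set C)ᶜ).Finite ∧ IsIso (f ∣_ W) := by
  haveI := hfU
  exact H8Norm.CurveModificationIso.main φ f U hN hdim x hx hU hU'

end Groth.Agent.S14895
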