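import Groth.Statements.S14901
import Groth.Agent.H17.DimImage.Main
-- import your own Groth.Agent.* helpers here

set_option autoImplicit false
universe u
open MovLem

namespace Groth.Agent.S14901

open AlgebraicGeometry CategoryTheory in
/-- Let k be a field, let S and X be separated k-schemes of finite type that are locally equidimensional
(all irreducible components passing through a given point have the same dimension), let f : S → X be
a k-morphism and Z ⊆ X a closed subset. Let d be the dimension of the image f(S), as a subspace of
X. If every point s of S with f(s) ∈ Z satisfies dim O_{S,s} ≥ d + 1 (equivalently: the closed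
subset f⁻¹(Z) of S has local codimension at least d + 1 at each of its points), then f⁻¹(Z) is
empty. -/
theorem result (k : Type u) [Field k] (S X : Scheme.{u})
    (pS : S ⟶ Spec (CommRingCat.of k)) (pX : X ⟶ Spec (CommRingCat.of k))
    [IsSeparated pS] [LocallyOfFiniteType pS] [QuasiCompact pS]
    [IsSeparated pX] [LocallyOfFiniteType pX] [QuasiCompact pX]
    (hS : ∀ (s : S) (A B : Set S), A ∈ irreducibleComponents (S : Type u) → B ∈ irreducibleComponents (S : Type u) →
      s ∈ A → s ∈ B → topologicalKrullDim A = topologicalKrullDim B)
    (hX : ∀ (x : X) (A B : Set X), A ∈ irreducibleComponents (X : Type u) → B ∈ irreducibleComponents (X : Type u) →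
      x ∈ A → x ∈ B → topologicalKrullDim A = topologicalKrullDim B)
    (f : S ⟶ X) (hf : f ≫ pX = pS) (Z : Set X) (hZ : IsClosed Z)
    (h : ∀ s : S, f.base s ∈ Z →
      topologicalKrullDim (Set.range f.base) + 1 ≤ ringKrullDim (S.presheaf.stalk s)) :
    f.base ⁻¹' Z = ∅ := by
  subst hf
  haveI : IsLocallyNoetherian X := LocallyOfFiniteType.isLocallyNoetherian pX
  haveI : IsLocallyNoetherian S := LocallyOfFiniteType.isLocallyNoetherian (f ≫ pX)
  haveI : LocallyOfFiniteType f := locallyOfFiniteType_of_comp f pX
  haveI : QuasiCompact f := QuasiCompact.of_comp f pX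
  haveI : CompactSpace X := QuasiCompact.compactSpace_of_compactSpace pX
  haveI : QuasiSeparatedSpace X := quasiSeparatedSpace_of_quasiSeparated pX
  rw [Set.eq_empty_iff_forall_notMem]
  intro s hs
  let T : Set (f.fiber (f s)) := irreducibleComponent (f.asFiber s)
  have hT : IsIrreducible T := isIrreducible_irreducibleComponent
  let g : f.fiber (f s) := hT.genericPoint
  have hg : IsGenericPoint g T := hT.isGenericPoint_genericPoint isClosed_irreducibleComponent
  have himg : f (f.fiberι (f s) g) = f s := by
    have : f.fiberι (f s) g ∈ Set.range (f.fiberι (f s)) := ⟨g, rfl⟩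
    rw [f.range_fiberι] at this
    exact this
  have hmax : ∀ t : S, t ⤳ f.fiberι (f s) g → f.base t = f.base (f.fiberι (f s) g) → t = f.fiberι (f s) g := fun t ht he => by
    obtain ⟨g', rfl⟩ : t ∈ Set.range (f.fiberι (f s)) := by
      rw [f.range_fiberι]
      exact (he.trans himg : f t = f s)
    have hgg : g' ⤳ g := ((f.fiberι (f s)).isEmbedding.isInducing.specializes_iff).1 ht
    have hcl : T ⊆ closure {g'} := by
      rw [← hg.def]
      exact closure_minimal (Set.singleton_subset_iff.2 (specializes_iff_mem_closure.1 hgg)) isClosed_closure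
    have heq : T = closure {g'} :=
      (irreducibleComponent_mem_irreducibleComponents (f.asFiber s)).eq_of_subset isIrreducible_singleton.closure hcl
    exact congrArg (f.fiberι (f s)) ((show IsGenericPoint g' T from heq.symm).eq hg)
  have h1 := h (f.fiberι (f s) g) (show f (f.fiberι (f s) g) ∈ Z by rw [himg]; exact hs)
  have h2 := (H17.DimImage.ringKrullDim_stalk_le f _ hmax).trans (H17.DimImage.dim_closure_range_le pX f)
  have h3 := h1.trans h2
  haveI : IsNoetherianRing (S.presheaf.stalk (f.fiberι (f s) g)) := inferInstance
  obtain ⟨n, hn⟩ : ∃ n : ℕ, topologicalKrullDim (Set.range f.base) = n := by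
    have hlt : topologicalKrullDim (Set.range f.base) ≠ ⊤ := fun htop => by
      rw [htop, show ((⊤ : WithBot ℕ∞) + 1) = ⊤ from rfl, top_le_iff] at h1
      exact (lt_of_lt_of_le ringKrullDim_lt_top le_rfl).ne h1
    have hne : topologicalKrullDim (Set.range f.base) ≠ ⊥ := fun hbot => by
      rw [hbot] at h2
      exact absurd (ringKrullDim_nonneg_of_nontrivial.trans h2) (by simp)
    obtain ⟨a, ha⟩ := WithBot.ne_bot_iff_exists.1 hne
    cases a with
    | top => exact absurd ha.symm hlt
    | coe a => exact ⟨a, ha.symm⟩
  rw [hn] at h3
  exact absurd (show n + 1 ≤ n by exact_mod_cast h3) (by omega)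

end Groth.Agent.S14901
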