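import Groth.Statements.S14902
import Groth.Agent.H17.Imports
import Mathlib.AlgebraicGeometry.PullbackCarrier

set_option autoImplicit false
universe u
open MovLem

namespace Groth.Agent.S14902

open CategoryTheory CategoryTheory.Limits AlgebraicGeometry

open AlgebraicGeometry CategoryTheory CategoryTheory.Limits in
/-- Let X₁, X₂, X₃ be schemes over a field k, with the fibre products X₁₂ = X₁ ×_k X₂, X₂₃ = X₂ ×_k X₃,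
X₁₃ = X₁ ×_k X₃ and X₁₂₃ = X₁₂ ×_{X₂} X₂₃ = X₁ ×_k X₂ ×_k X₃. Write p₁₂ : X₁₂₃ → X₁₂, p₂₃ : X₁₂₃ →
X₂₃, p₁₃ : X₁₂₃ → X₁₃, p₁ : X₁₂₃ → X₁ and p₃ : X₁₂₃ → X₃ for the projections from the triple
product, and, on the double products, pr₁ : X₁₂ → X₁, pr₂ : X₁₂ → X₂, pr₁ : X₁₃ → X₁, pr₃ : X₁₃ →
X₃, pr₂ : X₂₃ → X₂ and pr₃ : X₂₃ → X₃ for the projections (indexed by the target factor). Let W₁ ⊆
X₁₂, W₂ ⊆ X₂₃ and R₁ ⊆ X₁ be arbitrary subsets of the underlying spaces, and put W₁₂ = p₁₂⁻¹(W₁) ∩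
p₂₃⁻¹(W₂), W₃ = p₁₃(W₁₂), R₂ = pr₂(W₁ ∩ pr₁⁻¹(R₁)) and R₃ = p₃(W₁₂ ∩ p₁⁻¹(R₁)). Then R₃ = pr₃(W₃ ∩
pr₁⁻¹(R₁)), computed in X₁₃, and R₃ = pr₃(W₂ ∩ pr₂⁻¹(R₂)), computed in X₂₃, as identities of point
sets. (The published statement concerns supports of algebraic cycles on smooth projective
equidimensional k-schemes; this row is stated for arbitrary subsets of the underlying spaces of
arbitrary k-schemes.) -/
theorem result (k : Type u) [Field k] (X₁ X₂ X₃ : Scheme.{u})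
    (π₁ : X₁ ⟶ Spec (CommRingCat.of k)) (π₂ : X₂ ⟶ Spec (CommRingCat.of k)) (π₃ : X₃ ⟶ Spec (CommRingCat.of k))
    (p₁₃ : pullback (pullback.snd π₁ π₂) (pullback.fst π₂ π₃) ⟶ pullback π₁ π₃)
    (h₁₃ : p₁₃ ≫ pullback.fst π₁ π₃ =
      pullback.fst (pullback.snd π₁ π₂) (pullback.fst π₂ π₃) ≫ pullback.fst π₁ π₂)
    (h₁₃' : p₁₃ ≫ pullback.snd π₁ π₃ =
      pullback.snd (pullback.snd π₁ π₂) (pullback.fst π₂ π₃) ≫ pullback.snd π₂ π₃)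
    (W₁ : Set ↥(pullback π₁ π₂)) (W₂ : Set ↥(pullback π₂ π₃)) (R₁ : Set X₁)
    (W₁₂ : Set ↥(pullback (pullback.snd π₁ π₂) (pullback.fst π₂ π₃)))
    (hW₁₂ : W₁₂ = (pullback.fst (pullback.snd π₁ π₂) (pullback.fst π₂ π₃)).base ⁻¹' W₁ ∩
      (pullback.snd (pullback.snd π₁ π₂) (pullback.fst π₂ π₃)).base ⁻¹' W₂)
    (W₃ : Set ↥(pullback π₁ π₃)) (hW₃ : W₃ = p₁₃.base '' W₁₂)
    (R₂ : Set X₂) (hR₂ : R₂ = (pullback.snd π₁ π₂).base '' (W₁ ∩ (pullback.fst π₁ π₂).base ⁻¹' R₁))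
    (R₃ : Set X₃) (hR₃ : R₃ = (pullback.snd (pullback.snd π₁ π₂) (pullback.fst π₂ π₃) ≫ pullback.snd π₂ π₃).base ''
      (W₁₂ ∩ (pullback.fst (pullback.snd π₁ π₂) (pullback.fst π₂ π₃) ≫ pullback.fst π₁ π₂).base ⁻¹' R₁)) :
    R₃ = (pullback.snd π₁ π₃).base '' (W₃ ∩ (pullback.fst π₁ π₃).base ⁻¹' R₁) ∧
      R₃ = (pullback.snd π₂ π₃).base '' (W₂ ∩ (pullback.fst π₂ π₃).base ⁻¹' R₂) := by
  subst hW₁₂ hW₃ hR₂ hR₃
  have a := fun t => congr($h₁₃ t)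
  have b := fun t => congr($h₁₃' t)
  simp only [Scheme.Hom.comp_apply] at a b
  have c := fun t => congr($(pullback.condition (f := pullback.snd π₁ π₂) (g := pullback.fst π₂ π₃)) t)
  simp only [Scheme.Hom.comp_apply] at c
  constructor
  · ext z
    constructor
    · rintro ⟨t, ⟨ht, htR⟩, rfl⟩
      exact ⟨p₁₃ t, ⟨⟨t, ht, rfl⟩, by show pullback.fst π₁ π₃ (p₁₃ t) ∈ R₁; rw [a]; exact htR⟩, b t⟩
    · rintro ⟨_, ⟨⟨t, ht, rfl⟩, htR⟩, rfl⟩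
      exact ⟨t, ⟨ht, by show pullback.fst π₁ π₂ ((pullback.fst (pullback.snd π₁ π₂) (pullback.fst π₂ π₃) : _ ⟶ pullback π₁ π₂) t) ∈ R₁; rw [← a]; exact htR⟩, (b t).symm⟩
  · ext z
    constructor
    · rintro ⟨t, ⟨⟨h1, h2⟩, htR⟩, rfl⟩
      exact ⟨_, ⟨h2, _, ⟨h1, htR⟩, c t⟩, rfl⟩
    · rintro ⟨w, ⟨hw, v, ⟨hv, hvR⟩, hvw⟩, rfl⟩
      obtain ⟨t, rfl, rfl⟩ := Scheme.Pullback.exists_preimage_pullback (f := pullback.snd π₁ π₂)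
        (g := pullback.fst π₂ π₃) v w hvw
      exact ⟨t, ⟨⟨hv, hw⟩, hvR⟩, rfl⟩

end Groth.Agent.S14902
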