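import Groth.Statements.S14909
import Groth.Agent.H28WeierAlg.TypeII

set_option autoImplicit false
universe u
open Neron

namespace Groth.Agent.S14909

/-- Let R be a discrete valuation ring with uniformizer ϖ, let a₁, a₆ ∈ R with a₁ of valuation v ≥ 1, a₆
of valuation 1, and 2 of valuation at least v (so the residue characteristic is 2; 2 = 0 is
allowed). In the power series ring S = R[[x, y]] let M = (ϖ, x, y) be the maximal ideal and I the
ideal generated by y² + a₁xy − x³ − a₆, 2y + a₁x and 3x² − a₁y, so that S/I is a local ring with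
maximal ideal m = M/I. Then the classes of y^(2v) and x·y^(2v−1) form a basis of the vector space
m^(2v)/m^(2v+1) over the residue field: M^(2v) + I = (y^(2v), x·y^(2v−1)) + I, and whenever a·y^(2v)
+ b·x·y^(2v−1) ∈ M^(2v+1) + I with a, b ∈ R, both a and b lie in the maximal ideal of R. (Generation
holds with any exponent i ≥ 1 in place of 2v: M^i + I = (y^i, x·y^(i−1)) + I.) -/
theorem result (R : Type u) [CommRing R] [IsDomain R] [IsDiscreteValuationRing R]
    (ϖ a₁ a₆ : R) (hϖ : Irreducible ϖ) (v : ℕ) (hv : 1 ≤ v) (u₁ u₆ : Rˣ) (ha₁ : a₁ = u₁ * ϖ ^ v) (ha₆ : a₆ = u₆ * ϖ)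
    (h2 : (2 : R) ∈ IsLocalRing.maximalIdeal R ^ v)
    (x y : MvPowerSeries (Fin 2) R) (hx : x = MvPowerSeries.X 0) (hy : y = MvPowerSeries.X 1)
    (I M : Ideal (MvPowerSeries (Fin 2) R))
    (hI : I = Ideal.span {y ^ 2 + a₁ • (x * y) - x ^ 3 - algebraMap R (MvPowerSeries (Fin 2) R) a₆,
      2 * y + a₁ • x, 3 * x ^ 2 - a₁ • y})
    (hM : M = Ideal.span {algebraMap R (MvPowerSeries (Fin 2) R) ϖ, x, y}) :
    M ^ (2 * v) ⊔ I = Ideal.span {y ^ (2 * v), x * y ^ (2 * v - 1)} ⊔ I ∧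
      ∀ a b : R, a • y ^ (2 * v) + b • (x * y ^ (2 * v - 1)) ∈ M ^ (2 * v + 1) ⊔ I →
        a ∈ IsLocalRing.maximalIdeal R ∧ b ∈ IsLocalRing.maximalIdeal R := by
  subst hx hy
  obtain ⟨c, hc⟩ : ϖ ^ v ∣ (2 : R) := by
    rw [← Ideal.mem_span_singleton, ← Ideal.span_singleton_pow, ← hϖ.maximalIdeal_eq]; exact h2
  have h3 : IsUnit (3 : R) := by
    by_contra h
    have h3m : (3 : R) ∈ IsLocalRing.maximalIdeal R := (IsLocalRing.mem_maximalIdeal _).2 h
    have h2m : (2 : R) ∈ IsLocalRing.maximalIdeal R := Ideal.pow_le_self (by omega) h2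
    exact (IsLocalRing.maximalIdeal.isMaximal R).ne_top ((Ideal.eq_top_iff_one _).2 (by
      simpa [show (3 : R) - 2 = 1 by norm_num] using sub_mem h3m h2m))
  obtain ⟨t, ht⟩ := h3.exists_left_inv
  have halg : ∀ r : R, algebraMap R (MvPowerSeries (Fin 2) R) r = MvPowerSeries.C r := fun r => rfl
  simp only [Algebra.smul_def, halg] at hI ⊢
  rw [halg] at hM
  obtain ⟨h1, h1'⟩ := Groth.Agent.H28WeierAlg.typeII (c := c) hv hϖ.ne_zero ha₁ ha₆ (hc.trans (mul_comm _ _)) ht I hI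
  refine ⟨?_, fun a b hab => ?_⟩
  · have := h1 (2 * v - 1)
    rw [show 2 * v - 1 + 1 = 2 * v by omega] at this
    rw [hM]; exact this
  · rw [hM] at hab
    obtain ⟨ha, hb⟩ := h1' a b hab
    rw [hϖ.maximalIdeal_eq, Ideal.mem_span_singleton, Ideal.mem_span_singleton]
    exact ⟨ha, hb⟩

end Groth.Agent.S14909
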