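import Groth.Statements.S1491
import Groth.Agent.H8Props.KoszImm.Comp

set_option autoImplicit false
universe u
attribute [local instance] HasDerivedCategory.standard
open FlatMor

namespace Groth.Agent.S1491

open AlgebraicGeometry CategoryTheory Limits in
/-- Let f : X → Y and g : Y → Z be local complete intersection morphisms, in the affine-local sense that
all ring maps between affine opens are local complete intersection homomorphisms. Then f ≫ g is a
local complete intersection morphism. -/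
theorem result {X Y Z : Scheme.{u}} (f : X ⟶ Y) (g : Y ⟶ Z)
    (hf : (∀ (U : X.Opens) (V : Y.Opens) (hU : IsAffineOpen U) (hV : IsAffineOpen V) (hUV : U ≤ f ⁻¹ᵁ V),
        letI := (f.appLE V U hUV).hom.toAlgebra
        LCI.IsLCI Γ(Y, V) Γ(X, U)))
    (hg : (∀ (U : Y.Opens) (V : Z.Opens) (hU : IsAffineOpen U) (hV : IsAffineOpen V) (hUV : U ≤ g ⁻¹ᵁ V),
        letI := (g.appLE V U hUV).hom.toAlgebra
        LCI.IsLCI Γ(Z, V) Γ(Y, U))) :
    (∀ (U : X.Opens) (V : Z.Opens) (hU : IsAffineOpen U) (hV : IsAffineOpen V) (hUV : U ≤ (f ≫ g) ⁻¹ᵁ V),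
        letI := ((f ≫ g).appLE V U hUV).hom.toAlgebra
        LCI.IsLCI Γ(Z, V) Γ(X, U)) := by
  have key : ∀ {X' Y' : Scheme.{u}} (h : X' ⟶ Y'),
      (∀ (U : X'.Opens) (V : Y'.Opens) (hU : IsAffineOpen U) (hV : IsAffineOpen V) (hUV : U ≤ h ⁻¹ᵁ V),
        letI := (h.appLE V U hUV).hom.toAlgebra
        LCI.IsLCI Γ(Y', V) Γ(X', U)) → ∀ x, Synt.IsKoszulAt h x := by
    intro X' Y' h H x
    obtain ⟨_, ⟨V, hV, rfl⟩, hxV, -⟩ :=
      Y'.isBasis_affineOpens.exists_subset_of_mem_open (Set.mem_univ (h x)) isOpen_univ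
    obtain ⟨_, ⟨U, hU, rfl⟩, hxU, hUV⟩ :=
      X'.isBasis_affineOpens.exists_subset_of_mem_open (show x ∈ (h ⁻¹ᵁ V : X'.Opens).1 from hxV) (h ⁻¹ᵁ V).2
    exact (Groth.Agent.H8Props.KoszImm.isKoszulAt_chart_iff h hU hV hUV).2 (H U V hU hV hUV) x hxU
  intro U V hU hV hUV
  exact (Groth.Agent.H8Props.KoszImm.isKoszulAt_chart_iff (f ≫ g) hU hV hUV).1 fun x _ =>
    Groth.Agent.H8Props.KoszImm.isKoszulAt_comp f g x (key f hf x) (key g hg (f x))

end Groth.Agent.S1491
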