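import Groth.Statements.S14912
import Groth.Agent.H28Neron.AlgClosedComponent
import Mathlib.RingTheory.Coprime.Lemmas


set_option autoImplicit false
universe u
open CategoryTheory MonoidalCategory CartesianMonoidalCategory MonObj GrpObj AlgebraicGeometry
open Neron

namespace Groth.Agent.S14912

open H28Neron in
theorem core {k : Type u} [Field k] [IsAlgClosed k] (p : ℕ) [Fact p.Prime] [CharP k p]
    (G : Over (Spec (CommRingCat.of k))) [GrpObj G] [IsCommMonObj G] [LocallyOfFiniteType G.hom]
    [QuasiCompact G.hom]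
    (h : ∀ x : 𝟙_ (Over (Spec (CommRingCat.of k))) ⟶ G, (∃ r : ℕ, x ^ (p ^ r) ∈ AlgClosedComponent.unitComp G) →
      ∃ y, AlgClosedComponent.pt G y ∈ connectedComponent (AlgClosedComponent.pt G x) ∧
        ∀ n : ℕ, y ^ n = 1 ↔ x ^ n ∈ AlgClosedComponent.unitComp G)
    (x : 𝟙_ (Over (Spec (CommRingCat.of k))) ⟶ G) :
    ∃ y, AlgClosedComponent.pt G y ∈ connectedComponent (AlgClosedComponent.pt G x) ∧
        ∀ n : ℕ, y ^ n = 1 ↔ x ^ n ∈ AlgClosedComponent.unitComp G := by
  let U := AlgClosedComponent.unitComp G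
  obtain ⟨n₀, hn₀, hxn₀⟩ := AlgClosedComponent.exists_pow_mem G x
  classical
  have hex : ∃ n, 0 < n ∧ x ^ n ∈ U := ⟨n₀, hn₀, hxn₀⟩
  let N₁ := Nat.find hex
  obtain ⟨hNpos, hxN⟩ : 0 < N₁ ∧ x ^ N₁ ∈ U := Nat.find_spec hex
  have hdvd : ∀ n, x ^ n ∈ U ↔ N₁ ∣ n := fun n => by
    refine ⟨fun hn => ?_, fun ⟨c, hc⟩ => by rw [hc, pow_mul]; exact pow_mem hxN c⟩
    by_contra hnd
    have hlt : n % N₁ < N₁ := Nat.mod_lt n hNpos
    refine Nat.find_min hex hlt ⟨Nat.pos_of_ne_zero fun h0 => hnd (Nat.dvd_of_mod_eq_zero h0), ?_⟩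
    rw [← Nat.mod_add_div n N₁, pow_add, pow_mul] at hn
    exact (U.mul_mem_cancel_right (pow_mem hxN _)).1 hn
  have hp : p.Prime := Fact.out
  obtain ⟨r, m, hpm, hN₁⟩ := Nat.exists_eq_pow_mul_and_not_dvd hNpos.ne' p hp.ne_one
  have hcop : Nat.Coprime (p ^ r) m := ((hp.coprime_iff_not_dvd).2 hpm).pow_left r
  have hm : (m : k) ≠ 0 := fun h0 => hpm ((CharP.cast_eq_zero_iff k p m).1 h0)
  -- Bezout
  obtain ⟨A, B, hAB⟩ : ∃ A B : ℤ, A * (p ^ r : ℕ) + B * m = 1 :=
    (Nat.Coprime.isCoprime hcop)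
  let xp := x ^ (B * (m : ℤ))
  let x' := x ^ (A * ((p ^ r : ℕ) : ℤ))
  have hxmul : x' * xp = x := by
    rw [← zpow_add, hAB, zpow_one]
  have hzN : ∀ c : ℤ, x ^ (c * (N₁ : ℤ)) ∈ U := fun c => by
    rw [mul_comm, zpow_mul, zpow_natCast]
    exact zpow_mem hxN c
  have hxp : xp ^ (p ^ r) ∈ U := by
    rw [← zpow_natCast, ← zpow_mul, _root_.mul_assoc, ← Nat.cast_mul, Nat.mul_comm m, ← hN₁]
    exact hzN B
  have hx' : x' ^ m ∈ U := by
    rw [← zpow_natCast, ← zpow_mul, _root_.mul_assoc, ← Nat.cast_mul, ← hN₁]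
    exact hzN A
  obtain ⟨yp, hyp, hypord⟩ := h xp ⟨r, hxp⟩
  obtain ⟨w, hw, hwm⟩ := AlgClosedComponent.exists_pow_eq_of_ne_zero G m hm _ hx'
  let y' := x' * w⁻¹
  have hy'm : y' ^ m = 1 := by rw [mul_pow, inv_pow, hwm, mul_inv_cancel]
  have hyp' : yp * xp⁻¹ ∈ U := (AlgClosedComponent.mem_component_iff G).1 hyp
  have hyx : (y' * yp) * x⁻¹ ∈ U := by
    have : (y' * yp) * x⁻¹ = w⁻¹ * (yp * xp⁻¹) := by
      rw [← hxmul, _root_.mul_inv, _root_.mul_mul_mul_comm, show y' * x'⁻¹ = w⁻¹ from mul_inv_cancel_comm _ _]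
    rw [this]
    exact U.mul_mem (U.inv_mem hw) hyp'
  refine ⟨y' * yp, (AlgClosedComponent.mem_component_iff G).2 hyx, fun n => ⟨fun hn => ?_, fun hn => ?_⟩⟩
  · have := U.pow_mem hyx n
    rw [mul_pow _ x⁻¹, hn, _root_.one_mul, inv_pow] at this
    exact U.inv_mem_iff.1 this
  · have hnd := (hdvd n).1 hn
    have hy'n : y' ^ n = 1 := by
      obtain ⟨c, hc⟩ : m ∣ n := (Dvd.intro_left _ hN₁.symm).trans hnd
      rw [hc, pow_mul, hy'm, one_pow]
    have hypn : yp ^ n = 1 := by
      refine (hypord n).2 ?_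
      show xp ^ n ∈ U
      rw [← zpow_natCast, ← zpow_mul, mul_comm (B * (m : ℤ)), zpow_mul, zpow_natCast]
      exact U.zpow_mem hn _
    rw [mul_pow, hy'n, hypn, _root_.mul_one]

/-- Let R be a complete discrete valuation ring with fraction field K and algebraically closed residue
field k of characteristic p > 0, and N an R-group scheme which is a Néron model of its generic fibre
N_K, an abelian variety (proper and geometrically integral over K). Then N_K has split reduction —
for every k-point x of the special fibre N_k there is a k-point y in the connected component of x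
such that for all n, y^n = 1 if and only if x^n lies in the connected component of the identity — if
and only if this holds for every k-point x such that some x^(p^r) lies in the connected component of
the identity (the p-primary part of the component sequence splits). (The published statement covers
semi-abelian varieties with their Néron lft-models; this row is the case of an abelian variety.) -/
theorem result (R : Type u) [CommRing R] [IsDomain R]
    [IsDiscreteValuationRing R] [IsAdicComplete (IsLocalRing.maximalIdeal R) R] (K : Type u) [Field K] [Algebra R K]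
    [IsFractionRing R K] [IsAlgClosed (IsLocalRing.ResidueField R)] (p : ℕ) [Fact p.Prime] [CharP (IsLocalRing.ResidueField R) p]
    (N : Over (Spec (CommRingCat.of R))) [GrpObj N] [IsCommMonObj N] (hN : SGA7.IsNeron R K N)
    [IsProper ((SGA7.genFib R K).obj N).hom] [GeometricallyIntegral ((SGA7.genFib R K).obj N).hom] :
    (∀ x : 𝟙_ (Over (Spec (CommRingCat.of (IsLocalRing.ResidueField R)))) ⟶ Red.bc (Spec.map (CommRingCat.ofHom (IsLocalRing.residue R))) N,
        ∃ y : 𝟙_ (Over (Spec (CommRingCat.of (IsLocalRing.ResidueField R)))) ⟶ Red.bc (Spec.map (CommRingCat.ofHom (IsLocalRing.residue R))) N,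
          y.left.base (IsLocalRing.closedPoint (IsLocalRing.ResidueField R)) ∈ connectedComponent (x.left.base (IsLocalRing.closedPoint (IsLocalRing.ResidueField R))) ∧
            ∀ n : ℕ, y ^ n = 1 ↔ (x ^ n).left.base (IsLocalRing.closedPoint (IsLocalRing.ResidueField R)) ∈ connectedComponent ((η[Red.bc (Spec.map (CommRingCat.ofHom (IsLocalRing.residue R))) N]).left.base (IsLocalRing.closedPoint (IsLocalRing.ResidueField R)))) ↔
      ∀ x : 𝟙_ (Over (Spec (CommRingCat.of (IsLocalRing.ResidueField R)))) ⟶ Red.bc (Spec.map (CommRingCat.ofHom (IsLocalRing.residue R))) N,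
        (∃ r : ℕ, (x ^ (p ^ r)).left.base (IsLocalRing.closedPoint (IsLocalRing.ResidueField R)) ∈ connectedComponent ((η[Red.bc (Spec.map (CommRingCat.ofHom (IsLocalRing.residue R))) N]).left.base (IsLocalRing.closedPoint (IsLocalRing.ResidueField R)))) →
          ∃ y : 𝟙_ (Over (Spec (CommRingCat.of (IsLocalRing.ResidueField R)))) ⟶ Red.bc (Spec.map (CommRingCat.ofHom (IsLocalRing.residue R))) N,
          y.left.base (IsLocalRing.closedPoint (IsLocalRing.ResidueField R)) ∈ connectedComponent (x.left.base (IsLocalRing.closedPoint (IsLocalRing.ResidueField R))) ∧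
            ∀ n : ℕ, y ^ n = 1 ↔ (x ^ n).left.base (IsLocalRing.closedPoint (IsLocalRing.ResidueField R)) ∈ connectedComponent ((η[Red.bc (Spec.map (CommRingCat.ofHom (IsLocalRing.residue R))) N]).left.base (IsLocalRing.closedPoint (IsLocalRing.ResidueField R))) := by
  obtain ⟨_, _, _, -⟩ := hN
  haveI : Smooth N.hom := ‹_›
  haveI : LocallyOfFiniteType (Red.bc (Spec.map (CommRingCat.ofHom (IsLocalRing.residue R))) N).hom :=
    inferInstanceAs (LocallyOfFiniteType (CategoryTheory.Limits.pullback.snd N.hom (Spec.map (CommRingCat.ofHom (IsLocalRing.residue R)))))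
  haveI : QuasiCompact (Red.bc (Spec.map (CommRingCat.ofHom (IsLocalRing.residue R))) N).hom :=
    inferInstanceAs (QuasiCompact (CategoryTheory.Limits.pullback.snd N.hom (Spec.map (CommRingCat.ofHom (IsLocalRing.residue R)))))
  exact ⟨fun h x _ => h x, fun h x => core p _ h x⟩

end Groth.Agent.S14912
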