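import Groth.Statements.S14917
import Groth.Agent.H27Perf.Props2

set_option autoImplicit false
universe u
open CategoryTheory AlgebraicGeometry
open PerfSch

namespace Groth.Agent.S14917

/-- Let p be a prime and let X, Y, X', Y' be schemes of characteristic p (p = 0 in the structure sheaf).
Let π_X : X' ⟶ X and π_Y : Y' ⟶ Y be perfections: X' is perfect (its absolute Frobenius is an
isomorphism) and every morphism from a perfect scheme of characteristic p to X factors uniquely
through π_X, and likewise for π_Y. Let f : X ⟶ Y be a morphism and f' : X' ⟶ Y' the induced morphism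
of perfections, the one with f' ≫ π_Y = π_X ≫ f. Then f is universally closed if and only if f' is
universally closed. -/
theorem result (p : ℕ) [Fact p.Prime] {X Y XP YP : Scheme.{u}}
    [FrobSch.IsCharP X p] [FrobSch.IsCharP Y p] [FrobSch.IsCharP XP p] [FrobSch.IsCharP YP p]
    (πX : XP ⟶ X) (πY : YP ⟶ Y) (hX : FrobSch.IsPerfection πX p) (hY : FrobSch.IsPerfection πY p)
    (f : X ⟶ Y) (fP : XP ⟶ YP) (w : fP ≫ πY = πX ≫ f) :
    AlgebraicGeometry.UniversallyClosed f ↔ AlgebraicGeometry.UniversallyClosed fP := by
  exact Groth.Agent.H27Perf.universallyClosed_iff' hX hY w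

end Groth.Agent.S14917
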