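import Groth.Statements.S14925
import Groth.Agent.H27Perf.Tower

set_option autoImplicit false
universe u
open CategoryTheory AlgebraicGeometry
open PerfSch

namespace Groth.Agent.S14925

/-- Let p be a prime and X a quasi-compact quasi-separated scheme of characteristic p. Let π : X' ⟶ X be
a perfection of X: X' is a perfect scheme of characteristic p (its absolute Frobenius is an
isomorphism) and every morphism from a perfect scheme of characteristic p to X factors uniquely
through π. For an invertible O_X-module L, the pullback π^*L is isomorphic to the structure sheaf of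
X' if and only if some tensor power L^{⊗ p^n}, n ≥ 0, is isomorphic to the structure sheaf of X.
(The published statement is that pullback along π induces an isomorphism Pic(X)[1/p] ≅ Pic(X'); this
row is the assertion that the kernel of Pic(X) → Pic(X') is the p-power torsion.) -/
theorem result (p : ℕ) [Fact p.Prime] {X XP : Scheme.{u}} [FrobSch.IsCharP X p] [FrobSch.IsCharP XP p]
    [CompactSpace X] [QuasiSeparatedSpace X] (πX : XP ⟶ X) (hX : FrobSch.IsPerfection πX p)
    (L : X.Modules) (hL : PicF.IsInvertible L) :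
    PicF.IsTrivialCl (PicF.pullCl πX (PicF.cl L)) ↔
      ∃ n : ℕ, PicF.IsTrivialCl (PicF.cl (CohB1.tensorPow L (p ^ n))) := by
  open Groth.Agent.H27Perf.Tower in
  constructor
  · intro h
    open Groth.Agent.H27Perf.Tower in
    obtain ⟨c, hc, e, he⟩ := exists_limit hX
    have h0 : PicF.pullCl (Groth.Agent.H27Perf.Tower.pr c 0) (PicF.cl L) = PicF.cl (Coh.structureModule c.pt) := by
      rw [show Groth.Agent.H27Perf.Tower.pr c 0 = e.inv ≫ πX by rw [he, Iso.inv_hom_id_assoc],
        Groth.Agent.H27Perf.Tower.pullCl_comp', show PicF.pullCl πX (PicF.cl L) = _ from h,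
        Groth.Agent.H27Perf.Tower.pullCl_trivial]
    obtain ⟨n, hn⟩ := Groth.Agent.H27Perf.Tower.exists_trivial_stage hc hL h0
    refine ⟨n, ?_⟩
    rw [PicF.IsTrivialCl, ← Groth.Agent.H27Perf.Tower.pullCl_fr hL n]
    exact hn
  · rintro ⟨n, hn⟩
    have key : ∀ n : ℕ, IsIso (Groth.Agent.H27Perf.Tower.fr p XP n) ∧
        Groth.Agent.H27Perf.Tower.fr p XP n ≫ πX = πX ≫ Groth.Agent.H27Perf.Tower.fr p X n := by
      intro n
      induction n with
      | zero => exact ⟨inferInstanceAs (IsIso (𝟙 XP)), (Category.id_comp _).trans (Category.comp_id _).symm⟩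
      | succ n ih =>
        haveI := ih.1
        haveI : IsIso (FrobSch.frob XP p) := hX.1
        refine ⟨inferInstanceAs (IsIso (Groth.Agent.H27Perf.Tower.fr p XP n ≫ FrobSch.frob XP p)), ?_⟩
        change (Groth.Agent.H27Perf.Tower.fr p XP n ≫ FrobSch.frob XP p) ≫ πX =
          πX ≫ Groth.Agent.H27Perf.Tower.fr p X n ≫ FrobSch.frob X p
        rw [Category.assoc, FrobSch.frob_comp p πX, ← Category.assoc, ih.2, Category.assoc]
    obtain ⟨hiso, hcomm⟩ := key n
    have h1 : PicF.pullCl (Groth.Agent.H27Perf.Tower.fr p XP n) (PicF.pullCl πX (PicF.cl L)) =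
        PicF.cl (Coh.structureModule XP) := by
      rw [← Groth.Agent.H27Perf.Tower.pullCl_comp', hcomm, Groth.Agent.H27Perf.Tower.pullCl_comp',
        Groth.Agent.H27Perf.Tower.pullCl_fr hL n, show PicF.cl (CohB1.tensorPow L (p ^ n)) = _ from hn,
        Groth.Agent.H27Perf.Tower.pullCl_trivial]
    have h2 := congrArg (PicF.pullCl (inv (Groth.Agent.H27Perf.Tower.fr p XP n))) h1
    rw [← Groth.Agent.H27Perf.Tower.pullCl_comp', IsIso.inv_hom_id, Groth.Agent.H27Perf.Tower.pullCl_id',
      Groth.Agent.H27Perf.Tower.pullCl_trivial] at h2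
    exact h2

end Groth.Agent.S14925
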