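import Groth.Statements.S14926
import Groth.Agent.H27Perf.Tower

set_option autoImplicit false
universe u
open CategoryTheory AlgebraicGeometry
open PerfSch

namespace Groth.Agent.S14926

/-- Let p be a prime and X a quasi-compact quasi-separated scheme of characteristic p. Let π : X' ⟶ X be
a perfection of X: X' is a perfect scheme of characteristic p (its absolute Frobenius is an
isomorphism) and every morphism from a perfect scheme of characteristic p to X factors uniquely
through π. For every invertible O_{X'}-module M there are n ≥ 0 and an invertible O_X-module L with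
M^{⊗ p^n} isomorphic to π^*L. (The published statement is that pullback along π induces an
isomorphism Pic(X)[1/p] ≅ Pic(X'); this row is the assertion that every class in Pic(X') has a
p^n-th multiple in the image of Pic(X).) -/
theorem result (p : ℕ) [Fact p.Prime] {X XP : Scheme.{u}} [FrobSch.IsCharP X p] [FrobSch.IsCharP XP p]
    [CompactSpace X] [QuasiSeparatedSpace X] (πX : XP ⟶ X) (hX : FrobSch.IsPerfection πX p)
    (M : XP.Modules) (hM : PicF.IsInvertible M) :
    ∃ (n : ℕ) (L : X.Modules), PicF.IsInvertible L ∧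
      PicF.cl (CohB1.tensorPow M (p ^ n)) = PicF.pullCl πX (PicF.cl L) := by
  obtain ⟨c, hc, e, he⟩ := Groth.Agent.H27Perf.Tower.exists_limit hX
  have hM' := Groth.Agent.H11Ample.isInvertible_pullback e.inv hM
  obtain ⟨n, L, hL, hn⟩ := Groth.Agent.H27Perf.Tower.exists_invertible_stage hc hM'
  refine ⟨n, L, hL, ?_⟩
  obtain ⟨ψ⟩ := Groth.Agent.H27Perf.Tower.iso_of_cl_eq (L' := (Scheme.Modules.pullback (Groth.Agent.H27Perf.Tower.pr c n)).obj L) hn
  obtain ⟨a₁⟩ := Groth.Agent.H11Ample.exists_iso_pullback_tensorPow (Groth.Agent.H27Perf.Tower.pr c n) hL (p ^ n)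
  obtain ⟨a₂⟩ := Groth.Agent.H11Norm.exists_iso_tensorPow_of_iso ψ hM' (p ^ n)
  obtain ⟨a₃⟩ := Groth.Agent.H11Ample.exists_iso_pullback_tensorPow e.hom hM' (p ^ n)
  let ε : M ≅ (Scheme.Modules.pullback e.hom).obj ((Scheme.Modules.pullback e.inv).obj M) :=
    ((Scheme.Modules.pullbackId XP).app M).symm ≪≫ (Scheme.Modules.pullbackCongr e.hom_inv_id.symm).app M ≪≫
      ((Scheme.Modules.pullbackComp e.hom e.inv).app M).symm
  obtain ⟨a₄⟩ := Groth.Agent.H11Norm.exists_iso_tensorPow_of_iso ε hM (p ^ n)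
  have hh : PicF.cl (CohB1.tensorPow M (p ^ n)) =
      PicF.pullCl e.hom (PicF.pullCl (Groth.Agent.H27Perf.Tower.pr c n) (PicF.cl (CohB1.tensorPow L (p ^ n)))) :=
    Quot.sound ⟨a₄ ≪≫ a₃.symm ≪≫ (Scheme.Modules.pullback e.hom).mapIso (a₂ ≪≫ a₁.symm)⟩
  rw [hh, ← Groth.Agent.H27Perf.Tower.pullCl_fr hL n, ← Groth.Agent.H27Perf.Tower.pullCl_comp',
    ← Groth.Agent.H27Perf.Tower.pullCl_comp', Category.assoc, Groth.Agent.H27Perf.Tower.cone_fr c n, ← he]

end Groth.Agent.S14926
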