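import Groth.Statements.S14927
import Groth.Agent.H27Perf.Tower

set_option autoImplicit false
universe u
open CategoryTheory AlgebraicGeometry
open PerfSch

namespace Groth.Agent.S14927

/-- Let p be a prime and X a quasi-compact quasi-separated scheme of characteristic p. Let π : X' ⟶ X be
a perfection of X: X' is a perfect scheme of characteristic p (its absolute Frobenius is an
isomorphism) and every morphism from a perfect scheme of characteristic p to X factors uniquely
through π. An invertible O_X-module L is ample (every point of the quasi-compact scheme X has an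
affine open neighbourhood of the form X_s with s a global section of a positive tensor power of L)
if and only if its pullback π^*L to X' is ample. (Invertibility of L is assumed: for the spectrum of
the dual numbers over the prime field, whose perfection is a point, the pullback of the
non-invertible module O/(ε) is the structure sheaf.) -/
theorem result (p : ℕ) [Fact p.Prime] {X XP : Scheme.{u}} [FrobSch.IsCharP X p] [FrobSch.IsCharP XP p]
    [CompactSpace X] [QuasiSeparatedSpace X] (πX : XP ⟶ X) (hX : FrobSch.IsPerfection πX p)
    (L : X.Modules) (hL : PicF.IsInvertible L) :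
    CohB1.IsAmple L ↔ CohB1.IsAmple ((Scheme.Modules.pullback πX).obj L) := by
  constructor
  · intro h
    haveI : IsAffineHom πX := Groth.Agent.H27Perf.IsPerfection.isAffineHom hX
    haveI : CompactSpace XP := QuasiCompact.compactSpace_of_compactSpace πX
    exact Groth.Agent.H11Ample.isAmple_pullback πX h fun x =>
      ⟨⊤, trivial, fun W hW _ => hW.preimage πX⟩
  · intro h
    obtain ⟨c, hc, e, he⟩ := Groth.Agent.H27Perf.Tower.exists_limit hX
    have h0 : CohB1.IsAmple ((Scheme.Modules.pullback (Groth.Agent.H27Perf.Tower.pr c 0)).obj L) := by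
      rw [show Groth.Agent.H27Perf.Tower.pr c 0 = e.inv ≫ πX by rw [he, Iso.inv_hom_id_assoc],
        Groth.Agent.H11Ample.isAmple_pullback_comp_iff]
      exact (Groth.Agent.H11Ample.isAmple_pullback_iso_iff e.symm _).2 h
    haveI : CompactSpace ((Groth.Agent.H27Perf.Tower.diag p X).obj (Groth.Agent.H27Perf.Tower.idx 0)) :=
      ‹CompactSpace X›
    haveI : QuasiSeparatedSpace ((Groth.Agent.H27Perf.Tower.diag p X).obj (Groth.Agent.H27Perf.Tower.idx 0)) :=
      ‹QuasiSeparatedSpace X›
    obtain ⟨j, φ, hj⟩ := Groth.Agent.H7Lim.AmpleDescent.exists_isAmple_stage hc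
      (i := Groth.Agent.H27Perf.Tower.idx 0) hL h0
    obtain ⟨a⟩ := Groth.Agent.H27Perf.Tower.exists_iso_fr (p := p) hL (Groth.Agent.H27Perf.Tower.lvl j)
    have h1 : CohB1.IsAmple (CohB1.tensorPow L (p ^ Groth.Agent.H27Perf.Tower.lvl j)) :=
      Groth.Agent.H11Ample.isAmple_of_iso a hj
    exact (Groth.Agent.H11Ample.isAmple_tensorPow_iff hL _ (pow_pos (Fact.out : p.Prime).pos _)).2 h1

end Groth.Agent.S14927
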