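import Groth.Statements.S14932
import Groth.Agent.S14930
import Groth.Agent.S7775
import Groth.Agent.H27RelFrobSynt.Basic
import Groth.Agent.H27Frob.SmoothFlat
import Groth.Agent.H17.LocusBC
import Groth.Agent.H8Props.FieldDimSmooth
import Groth.Agent.H8Props.FieldDimEquidim

set_option autoImplicit false
universe u
open CategoryTheory CategoryTheory.Limits AlgebraicGeometry
open Variety

namespace Groth.Agent.S14932

theorem isFractionRing_residueField (X : Scheme.{u}) [IsIntegral X] {U : X.Opens} (hU : IsAffineOpen U) {x : X}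
    (hxU : x ∈ U) (hx : x = genericPoint X) :
    letI := (X.evaluation U x hxU).hom.toAlgebra
    IsFractionRing Γ(X, U) (X.residueField x) := by
  subst hx
  haveI : Nonempty U := ⟨⟨_, hxU⟩⟩
  haveI := functionField_isFractionRing_of_isAffineOpen X U hU
  letI := (X.evaluation U (genericPoint X) hxU).hom.toAlgebra
  let e : X.functionField ≃ₐ[Γ(X, U)] X.residueField (genericPoint X) :=
    AlgEquiv.ofBijective { (show X.functionField →+* X.residueField (genericPoint X) from (X.residue (genericPoint X)).hom) with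
      commutes' := fun _ => rfl }
      ⟨(show X.functionField →+* X.residueField (genericPoint X) from (X.residue (genericPoint X)).hom).injective,
        IsLocalRing.residue_surjective⟩
  exact IsLocalization.isLocalization_of_algEquiv _ e


theorem residueDegree_eq {X Y : Scheme.{u}} [IsIntegral X] [IsIntegral Y] (g : X ⟶ Y)
    (hg : g (genericPoint X) = genericPoint Y) {U : X.Opens} (hU : IsAffineOpen U) {V : Y.Opens}
    (hV : IsAffineOpen V) [Nonempty U] [Nonempty V] (hle : U ≤ g ⁻¹ᵁ V) (m : ℕ)
    (h : letI := (g.appLE V U hle).hom.toAlgebra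
      Module.Finite Γ(Y, V) Γ(X, U) ∧ Function.Injective (algebraMap Γ(Y, V) Γ(X, U)) ∧
        Module.finrank Γ(Y, V) Γ(X, U) = m) :
    g.residueDegree (genericPoint X) = m := by
  letI := (g.appLE V U hle).hom.toAlgebra
  obtain ⟨hfin, hinj, hm⟩ := h
  have hxU : genericPoint X ∈ U := ((genericPoint_spec X).mem_open_set_iff U.2).mpr
    (by simpa using (Set.nonempty_coe_sort.mp ‹Nonempty U›))
  have hyV : g (genericPoint X) ∈ V := hle hxU
  letI : Algebra (Y.residueField (g (genericPoint X))) (X.residueField (genericPoint X)) :=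
    (g.residueFieldMap (genericPoint X)).hom.toAlgebra
  show Module.finrank (Y.residueField (g (genericPoint X))) (X.residueField (genericPoint X)) = m
  letI aV : Algebra Γ(Y, V) (Y.residueField (g (genericPoint X))) :=
    (Y.evaluation V (g (genericPoint X)) hyV).hom.toAlgebra
  letI aU : Algebra Γ(X, U) (X.residueField (genericPoint X)) :=
    (X.evaluation U (genericPoint X) hxU).hom.toAlgebra
  letI aVU : Algebra Γ(Y, V) (X.residueField (genericPoint X)) :=
    ((algebraMap Γ(X, U) (X.residueField (genericPoint X))).comp (algebraMap Γ(Y, V) Γ(X, U))).toAlgebra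
  haveI : IsScalarTower Γ(Y, V) Γ(X, U) (X.residueField (genericPoint X)) := .of_algebraMap_eq fun _ => rfl
  haveI : IsScalarTower Γ(Y, V) (Y.residueField (g (genericPoint X))) (X.residueField (genericPoint X)) :=
    .of_algebraMap_eq fun a => by
      show X.residue _ (X.presheaf.germ U _ hxU ((g.appLE V U hle) a)) =
        g.residueFieldMap _ (Y.residue _ (Y.presheaf.germ V _ hyV a))
      have h1 := congrArg (fun φ => (CommRingCat.Hom.hom φ) (Y.presheaf.germ V _ hyV a))
        (Scheme.residue_residueFieldMap g (genericPoint X))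
      simp only [CommRingCat.comp_apply] at h1
      refine Eq.trans ?_ h1.symm
      congr 1
      rw [Scheme.Hom.germ_stalkMap_apply, Scheme.Hom.appLE, CommRingCat.comp_apply,
        TopCat.Presheaf.germ_res_apply]
  haveI hfX : IsFractionRing Γ(X, U) (X.residueField (genericPoint X)) := isFractionRing_residueField X hU hxU rfl
  haveI hfY : IsFractionRing Γ(Y, V) (Y.residueField (g (genericPoint X))) := isFractionRing_residueField Y hV hyV hg
  haveI : Algebra.IsIntegral Γ(Y, V) Γ(X, U) := Algebra.IsIntegral.of_finite _ _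
  haveI : FaithfulSMul Γ(Y, V) Γ(X, U) := (faithfulSMul_iff_algebraMap_injective _ _).mpr hinj
  haveI : IsDomain Γ(X, U) := inferInstance
  rw [← hm]
  exact IsFractionRing.finrank_eq Γ(Y, V) (Y.residueField (g (genericPoint X))) Γ(X, U) (X.residueField (genericPoint X))

section Ring
open TensorProduct FrobAlg

theorem finrank_of_pushout (p : ℕ) [hp : Fact p.Prime] (d : ℕ) (A C P : Type u) [CommRing A]
    [CommRing C] [CommRing P] [IsDomain P] [CharP A p] [CharP C p] [Algebra A C]
    [Algebra.IsStandardSmoothOfRelativeDimension d A C] (ι₁ : C →+* P) (ι₂ : A →+* P)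
    (hsq : IsPushout (CommRingCat.ofHom (algebraMap A C)) (CommRingCat.ofHom (frobenius A p))
      (CommRingCat.ofHom ι₁) (CommRingCat.ofHom ι₂))
    (r : P →+* C) (hr1 : ∀ c, r (ι₁ c) = c ^ p) (hr2 : ∀ a, r (ι₂ a) = algebraMap A C a) :
    letI := r.toAlgebra
    Module.Finite P C ∧ Function.Injective r ∧ Module.finrank P C = p ^ d := by
  haveI : Algebra.IsStandardSmooth A C :=
    Algebra.IsStandardSmoothOfRelativeDimension.isStandardSmooth d
  let ι₂' : Twist p A →+* P := ι₂.comp ((toTwist p A).symm : Twist p A →+* A)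
  have hsq₁ : IsPushout (CommRingCat.ofHom (algebraMap A C))
      (CommRingCat.ofHom (algebraMap A (Twist p A))) (CommRingCat.ofHom ι₁)
      (CommRingCat.ofHom ι₂') := hsq
  have h0 := CommRingCat.isPushout_tensorProduct A C (Twist p A)
  let e := h0.isoIsPushout _ _ hsq₁
  let e' : BaseChange p A C ≃+* P := e.commRingCatIsoToRingEquiv
  have he1 : ∀ c, e' (c ⊗ₜ[A] 1) = ι₁ c := fun c =>
    ConcreteCategory.congr_hom (h0.inl_isoIsPushout_hom _ _ hsq₁) c
  have he2 : ∀ t, e' (1 ⊗ₜ[A] t) = ι₂' t := fun t =>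
    ConcreteCategory.congr_hom (h0.inr_isoIsPushout_hom _ _ hsq₁) t
  have he : r.comp (e' : BaseChange p A C →+* P) = relFrob p A C := by
    refine RingHom.ext fun z => ?_
    induction z using TensorProduct.induction_on with
    | zero => simp
    | tmul c t =>
      obtain ⟨a, rfl⟩ := (toTwist p A).surjective t
      rw [← mul_one c, ← one_mul (toTwist p A a), ← Algebra.TensorProduct.tmul_mul_tmul, map_mul,
        map_mul]
      congr 1
      · simp only [RingHom.comp_apply, RingHom.coe_coe, he1, hr1]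
        simp [relFrob, frobHom, frobenius_def]
      · simp only [RingHom.comp_apply, RingHom.coe_coe, one_mul, he2]
        change r (ι₂ a) = _
        rw [hr2]
        simp [relFrob, inclHom]
    | add x y hx hy => rw [map_add, map_add, hx, hy]
  haveI : Nontrivial C := CharP.nontrivial_of_char_ne_one hp.out.ne_one
  obtain ⟨n, ⟨b⟩, hn⟩ := H27Frob.exists_basis_standardSmooth p A C
  have hnd : n = d := by
    rw [← hn]
    exact Module.finrank_eq_of_rank_eq (Algebra.IsStandardSmoothOfRelativeDimension.rank_kaehlerDifferential d)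
  subst hnd
  letI : Algebra P C := r.toAlgebra
  let b' : Module.Basis (Fin n → Fin p) P C := by
    letI := (relFrob p A C).toAlgebra
    refine b.mapCoeffs (R' := P) e' fun c x => ?_
    show r (e' c) * x = relFrob p A C c * x
    rw [← he]; rfl
  refine ⟨Module.Finite.of_basis b', ?_, ?_⟩
  · haveI : Module.Free P C := Module.Free.of_basis b'
    haveI : FaithfulSMul P C := inferInstance
    exact FaithfulSMul.algebraMap_injective P C
  · rw [Module.finrank_eq_card_basis b']
    simp

end Ring

theorem surjective_of_univHomeo {X Y : Scheme.{u}} (g : X ⟶ Y) (h : FlatMor.IsUnivHomeo g) :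
    Function.Surjective g := (h (𝟙 _) (𝟙 _) g (IsPullback.of_vert_isIso ⟨by simp⟩)).surjective

theorem irreducibleSpace_of_surjective {X Y : Scheme.{u}} [IrreducibleSpace X] (g : X ⟶ Y) (h : FlatMor.IsUnivHomeo g) :
    IrreducibleSpace Y := by
  have h1 := (IrreducibleSpace.isIrreducible_univ X).image g g.continuous.continuousOn
  rw [Set.image_univ, (surjective_of_univHomeo g h).range_eq] at h1
  haveI : Nonempty Y := h1.nonempty.to_type
  exact { toPreirreducibleSpace := ⟨h1.2⟩, toNonempty := inferInstance }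

theorem exists_chart {k : Type u} [Field k] {X : Scheme.{u}} [IsIntegral X] (f : X ⟶ Spec (CommRingCat.of k))
    [LocallyOfFiniteType f] (d : ℕ) (hd : topologicalKrullDim X = d) (U₀ : X.Opens) (hx : genericPoint X ∈ U₀)
    [Smooth (U₀.ι ≫ f)] :
    ∃ (W : (Spec (CommRingCat.of k)).Opens) (_ : IsAffineOpen W) (U : X.Opens) (_ : IsAffineOpen U)
      (_ : genericPoint X ∈ U) (e : U ≤ f ⁻¹ᵁ W), (f.appLE W U e).hom.IsStandardSmoothOfRelativeDimension d := by
  obtain ⟨W, hW, U₁, hU₁, hxU, e, hs⟩ := Smooth.exists_isStandardSmooth (U₀.ι ≫ f) ⟨genericPoint X, hx⟩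
  let U := U₀.ι ''ᵁ U₁
  have hU : IsAffineOpen U := hU₁.image_of_isOpenImmersion _
  have e' : U ≤ f ⁻¹ᵁ W := by
    rintro _ ⟨y, hy, rfl⟩
    exact e hy
  have hs' : (f.appLE W U e').hom.IsStandardSmooth := by
    have h1 : (U₀.ι ≫ f).appLE W U₁ e = f.appLE W U e' ≫ (U₀.ι.appIso U₁).hom := by
      rw [Scheme.Hom.appIso_hom', Scheme.Hom.appLE_comp_appLE]
    rw [h1] at hs
    have h2 := RingHom.isStandardSmooth_respectsIso.1 _ (U₀.ι.appIso U₁).symm.commRingCatIsoToRingEquiv hs
    convert h2 using 1
    ext a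
    exact ((RingEquiv.symm_apply_apply (U₀.ι.appIso U₁).commRingCatIsoToRingEquiv _)).symm
  obtain ⟨n, hn⟩ : ∃ n, (f.appLE W U e').hom.IsStandardSmoothOfRelativeDimension n := by
    algebraize [(f.appLE W U e').hom]
    obtain ⟨ι, σ, hσ, hι, ⟨P⟩⟩ := (inferInstance : Algebra.IsStandardSmooth Γ(Spec (CommRingCat.of k), W) Γ(X, U)).out
    exact ⟨P.dimension, ⟨ι, σ, hσ, hι, P, rfl⟩⟩
  have hxU' : genericPoint X ∈ U := ⟨_, hxU, rfl⟩
  refine ⟨W, hW, U, hU, hxU', e', ?_⟩
  suffices hdn : d = n by rw [hdn]; exact hn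
  have hWtop : W = ⊤ := eq_top_iff.mpr fun y _ =>
    (Subsingleton.elim (α := PrimeSpectrum k) (f (genericPoint X)) y) ▸ e' hxU'
  subst hWtop
  obtain ⟨q, hq⟩ : genericPoint X ∈ Set.range hU.fromSpec := by rw [hU.range_fromSpec]; exact hxU'
  let φ : CommRingCat.of k ⟶ Γ(X, U) := (Scheme.ΓSpecIso (CommRingCat.of k)).inv ≫ f.appLE ⊤ U e'
  have hφ : φ.hom.IsStandardSmoothOfRelativeDimension n :=
    RingHom.isStandardSmoothOfRelativeDimension_respectsIso.2 _
      (Scheme.ΓSpecIso (CommRingCat.of k)).symm.commRingCatIsoToRingEquiv hn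
  haveI : SmoothOfRelativeDimension n (Spec.map φ) :=
    (HasRingHomProperty.Spec_iff (P := @SmoothOfRelativeDimension n)).mpr
      (RingHom.locally_of RingHom.isStandardSmoothOfRelativeDimension_respectsIso _ hφ)
  haveI : Smooth (Spec.map φ) := SmoothOfRelativeDimension.smooth n _
  haveI := hU.isOpenImmersion_fromSpec
  have h0 := H8Props.FieldDim.localDim_eq_of_smooth (Z := Spec (CommRingCat.of Γ(X, U))) (Spec.map φ) n q
  have h1 := H8Props.FieldDim.localDim_chart (Spec.map φ) (A := Γ(X, U)) (𝟙 _) q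
  have h2 := H8Props.FieldDim.localDim_chart f (A := Γ(X, U)) hU.fromSpec q
  rw [hq, H8Props.FieldDim.localDim_eq_dim_of_irreducible f (genericPoint X), hd] at h2
  exact_mod_cast (h2.trans h1.symm).trans h0

theorem rank_chart {d : ℕ} (p : ℕ) [hp : Fact p.Prime] {S X : Scheme.{u}} [FrobSch.IsCharP S p] (f : X ⟶ S)
    [IsIntegral X] [IsIntegral (FrobSch.frobTwist f p)] {W : S.Opens} (hW : IsAffineOpen W) {U : X.Opens}
    (hU : IsAffineOpen U) (e : U ≤ f ⁻¹ᵁ W) [Nonempty U] [Nonempty W]
    (hstd : (f.appLE W U e).hom.IsStandardSmoothOfRelativeDimension d)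
    (hle : U ≤ FrobSch.relFrob f p ⁻¹ᵁ
      (pullback.fst f (FrobSch.frob S p) ⁻¹ᵁ U ⊓ pullback.snd f (FrobSch.frob S p) ⁻¹ᵁ W)) :
    ∃ (_ : IsAffineOpen (pullback.fst f (FrobSch.frob S p) ⁻¹ᵁ U ⊓ pullback.snd f (FrobSch.frob S p) ⁻¹ᵁ W)),
      letI := ((FrobSch.relFrob f p).appLE _ U hle).hom.toAlgebra
      Module.Finite Γ(FrobSch.frobTwist f p,
          pullback.fst f (FrobSch.frob S p) ⁻¹ᵁ U ⊓ pullback.snd f (FrobSch.frob S p) ⁻¹ᵁ W) Γ(X, U) ∧
        Function.Injective ((FrobSch.relFrob f p).appLE _ U hle).hom ∧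
        Module.finrank Γ(FrobSch.frobTwist f p,
          pullback.fst f (FrobSch.frob S p) ⁻¹ᵁ U ⊓ pullback.snd f (FrobSch.frob S p) ⁻¹ᵁ W) Γ(X, U) = p ^ d := by
  open FrobSch FrobAlg in
  haveI : FrobSch.IsCharP X p := FrobSch.IsCharP.of_hom f p
  let g := FrobSch.frob S p
  let U' : (FrobSch.frobTwist f p).Opens := pullback.fst f g ⁻¹ᵁ U ⊓ pullback.snd f g ⁻¹ᵁ W
  have hUST : W ≤ g ⁻¹ᵁ W := le_rfl
  haveI := isIso_pushoutSection_of_isAffineOpen (IsPullback.of_hasPullback f g) hUST e
    (UY := U') rfl hW hW hU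
  have hsq := (isIso_pushoutSection_iff (IsPullback.of_hasPullback f g) hUST e (UY := U') rfl).1
    inferInstance
  have hU' : IsAffineOpen U' :=
    haveI := hW.preimage_of_isIso (𝟙 S)
    haveI : IsAffine _ := hW
    haveI : IsAffine _ := hU
    .of_isIso (Scheme.Hom.isPullback_resLE (IsPullback.of_hasPullback f g) hUST e
      (UY := U') rfl).isoPullback.hom
  refine ⟨hU', ?_⟩
  letI : Algebra Γ(S, W) Γ(X, U) := (f.appLE W U e).hom.toAlgebra
  haveI : Algebra.IsStandardSmoothOfRelativeDimension d Γ(S, W) Γ(X, U) := hstd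
  haveI : Algebra.IsStandardSmooth Γ(S, W) Γ(X, U) :=
    Algebra.IsStandardSmoothOfRelativeDimension.isStandardSmooth d
  haveI : CharP Γ(S, W) p := (CharP.charP_iff_prime_eq_zero hp.out).2 (FrobSch.natCast_eq_zero_app S p W)
  haveI : CharP Γ(X, U) p := (CharP.charP_iff_prime_eq_zero hp.out).2 (FrobSch.natCast_eq_zero_app X p U)
  have hg : g.appLE W W hUST = CommRingCat.ofHom (frobenius Γ(S, W) p) := by
    ext a
    change (g.appLE W W hUST).hom a = a ^ p
    rw [Scheme.Hom.appLE, CommRingCat.comp_apply, FrobSch.frob_app]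
    change (S.presheaf.map (homOfLE _).op) (a ^ p) = a ^ p
    exact congr($(S.presheaf.map_id (Opposite.op W)) (a ^ p))
  rw [hg] at hsq
  haveI : Nonempty U' := ⟨⟨_, hle (Classical.arbitrary U).2⟩⟩
  haveI : IsDomain Γ(FrobSch.frobTwist f p, U') := inferInstance
  refine finrank_of_pushout p d Γ(S, W) Γ(X, U) Γ(FrobSch.frobTwist f p, U')
    ((pullback.fst f g).appLE U U' inf_le_left).hom ((pullback.snd f g).appLE W U' inf_le_right).hom
    hsq ((FrobSch.relFrob f p).appLE U' U hle).hom (fun c => ?_) fun a => ?_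
  · rw [← CommRingCat.comp_apply, Scheme.Hom.appLE_comp_appLE]
    have key : ∀ (h : X ⟶ X) (_ : h = FrobSch.frob X p) (e' : U ≤ h ⁻¹ᵁ U),
        (h.appLE U U e').hom c = c ^ p := by
      rintro _ rfl e'
      rw [Scheme.Hom.appLE, CommRingCat.comp_apply, FrobSch.frob_app]
      change (X.presheaf.map (homOfLE (le_rfl : U ≤ U)).op) (c ^ p) = c ^ p
      exact congr($(X.presheaf.map_id (Opposite.op U)) (c ^ p))
    exact key _ (FrobSch.relFrob_fst f p) _
  · rw [← CommRingCat.comp_apply, Scheme.Hom.appLE_comp_appLE]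
    have key : ∀ (h : X ⟶ S) (_ : h = f) (e' : U ≤ h ⁻¹ᵁ W),
        (h.appLE W U e').hom a = algebraMap Γ(S, W) Γ(X, U) a := by
      rintro _ rfl e'
      rfl
    exact key _ (FrobSch.relFrob_snd f p) _

/-- Let k be a field of characteristic p > 0 and X a variety over k (an integral scheme, separated and
of finite type over k) which is geometrically reduced over k, of dimension d. Then the Frobenius
twist X^(p) = X ×_{Spec k, F_k} Spec k, the base change of X along the absolute Frobenius of Spec k,
is an integral scheme, and the relative Frobenius F_{X/k} : X → X^(p) has degree p^d: the residue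
field of the generic point of X is an extension of degree p^d of the residue field of its image in
X^(p). (The published item also says that X^(p) is separated and of finite type over k and that
F_{X/k} is finite and dominant; these hold for every base change of a separated morphism of finite
type, respectively for the relative Frobenius of every scheme locally of finite type over a base of
characteristic p, and are not restated. It also states the equivalence of: X^(p) reduced, X
geometrically reduced, X has a nonempty open smooth over k; that equivalence is not part of this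
row.) -/
theorem result (k : Type u) [Field k]
    (p : ℕ) [Fact p.Prime] [CharP k p] (X : Scheme.{u}) [X.Over (Spec (CommRingCat.of k))] [IsIntegral X]
    [IsSeparated (X ↘ (Spec (CommRingCat.of k)))] [LocallyOfFiniteType (X ↘ (Spec (CommRingCat.of k)))] [QuasiCompact (X ↘ (Spec (CommRingCat.of k)))]
    [GeometricallyReduced (X ↘ (Spec (CommRingCat.of k)))] (d : ℕ) (hd : topologicalKrullDim X = d) :
    IsIntegral (FrobSch.frobTwist (X ↘ (Spec (CommRingCat.of k))) p) ∧
      (FrobSch.relFrob (X ↘ (Spec (CommRingCat.of k))) p).residueDegree (genericPoint X) = p ^ d := by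
  set f := X ↘ Spec (CommRingCat.of k) with hf
  haveI : FrobSch.IsCharP X p := FrobSch.IsCharP.of_hom f p
  obtain ⟨hhom, hint, -⟩ := S14930.result p f
  haveI : IsReduced (FrobSch.frobTwist f p) :=
    GeometricallyReduced.geometrically_isReduced (f := f) _ _ _ (IsPullback.of_hasPullback f (FrobSch.frob (Spec (CommRingCat.of k)) p))
  haveI : IrreducibleSpace ↥(FrobSch.frobTwist f p) :=
    irreducibleSpace_of_surjective (FrobSch.relFrob f p) hhom
  haveI hI : IsIntegral (FrobSch.frobTwist f p) := isIntegral_of_irreducibleSpace_of_isReduced _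
  refine ⟨hI, ?_⟩
  haveI : Smooth f → True := fun _ => trivial
  haveI : IsDominant f := ⟨fun y => subset_closure ⟨genericPoint X, Subsingleton.elim (α := PrimeSpectrum k) _ _⟩⟩
  haveI : LocallyOfFinitePresentation f := inferInstance
  have hsm : genericPoint X ∈ f.smoothLocus := by
    have hd : Dense (f.smoothLocus : Set X) := S7775.result X _ f (MorphismProperty.pullback_snd _ _ inferInstance)
    exact ((genericPoint_spec X).mem_open_set_iff f.smoothLocus.2).mpr (by simpa using hd.nonempty)
  obtain ⟨U₀, hxU₀, hU₀⟩ := (H17.LocusBC.mem_smoothLocus_iff_exists f _).mp hsm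
  obtain ⟨W, hW, U, hU, hxU, e, hstd⟩ := exists_chart f d hd U₀ hxU₀
  haveI : Nonempty U := ⟨⟨_, hxU⟩⟩
  let g := FrobSch.frob (Spec (CommRingCat.of k)) p
  let U' : (FrobSch.frobTwist f p).Opens := pullback.fst f g ⁻¹ᵁ U ⊓ pullback.snd f g ⁻¹ᵁ W
  have hle : U ≤ FrobSch.relFrob f p ⁻¹ᵁ U' := by
    intro y hy
    refine ⟨?_, ?_⟩
    · change pullback.fst f g (FrobSch.relFrob f p y) ∈ U
      rw [← Scheme.Hom.comp_apply, FrobSch.relFrob_fst]
      exact hy
    · change pullback.snd f g (FrobSch.relFrob f p y) ∈ W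
      rw [← Scheme.Hom.comp_apply, FrobSch.relFrob_snd]
      exact e hy
  have hgen : FrobSch.relFrob f p (genericPoint X) = genericPoint ↥(FrobSch.frobTwist f p) := by
    have h := (genericPoint_spec X).image (FrobSch.relFrob f p).continuous
    rw [Set.image_univ, (surjective_of_univHomeo _ hhom).range_eq, closure_univ] at h
    exact h.eq (genericPoint_spec _)
  haveI : Nonempty U' := ⟨⟨_, hle hxU⟩⟩
  haveI : Nonempty W := ⟨⟨_, e hxU⟩⟩
  obtain ⟨hU', hrk⟩ := rank_chart (d := d) p f hW hU e hstd hle
  exact residueDegree_eq (FrobSch.relFrob f p) hgen hU hU' hle _ hrk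

end Groth.Agent.S14932
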