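import Groth.Statements.S14934
import Groth.Agent.H25AbCube.HomIndep
import Groth.Agent.H25AbCube.HomDescent

set_option autoImplicit false
set_option linter.style.haveILetI false
set_option backward.isDefEq.respectTransparency false
universe u
open CategoryTheory MonoidalCategory CartesianMonoidalCategory MonObj GrpObj AlgebraicGeometry
open AbVar

namespace Groth.Agent.S14934

open CategoryTheory.Limits

variable {k Ω : Type u} [Field k] [Field Ω] [Algebra k Ω]

noncomputable abbrev Fσ (k Ω : Type u) [Field k] [Field Ω] [Algebra k Ω] :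
    Over (Spec (CommRingCat.of k)) ⥤ Over (Spec (CommRingCat.of Ω)) :=
  Over.pullback (Spec.map (CommRingCat.ofHom (algebraMap k Ω)))

noncomputable abbrev X₀ (Ω : Type u) [Field Ω] : Over (Spec (CommRingCat.of Ω)) := Over.mk (𝟙 (Spec (CommRingCat.of Ω)))

noncomputable def jIso : (Over.map (Spec.map (CommRingCat.ofHom (algebraMap k Ω)))).obj (X₀ Ω) ≅ SGA7.pt Ω :=
  Over.isoMk (Iso.refl _)

variable (A : Over (Spec (CommRingCat.of k))) [GrpObj A]

attribute [local instance] Functor.grpObjObj

/-- Points with values in the big field are points of the base change. -/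
noncomputable def ψ : (SGA7.pt Ω ⟶ A) ≃* (X₀ Ω ⟶ (Fσ k Ω).obj A) :=
  { toEquiv := ((jIso (k := k) (Ω := Ω)).homFromEquiv).symm.trans
      ((Over.mapPullbackAdj (Spec.map (CommRingCat.ofHom (algebraMap k Ω)))).homEquiv (X₀ Ω) A)
    map_mul' := fun f g => by
      show (Over.mapPullbackAdj _).homEquiv _ _ (jIso.hom ≫ (f * g)) =
        (Over.mapPullbackAdj _).homEquiv _ _ (jIso.hom ≫ f) * (Over.mapPullbackAdj _).homEquiv _ _ (jIso.hom ≫ g)
      rw [MonObj.comp_mul, Adjunction.homEquiv_unit, Adjunction.homEquiv_unit, Adjunction.homEquiv_unit]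
      exact (congrArg _ (map_mul (Functor.homMonoidHom (Fσ k Ω)) _ _)).trans (MonObj.comp_mul _ _ _) }

theorem ψ_comp {B : Over (Spec (CommRingCat.of k))} [GrpObj B] (f : SGA7.pt Ω ⟶ A) (e : A ⟶ B) :
    ψ B (f ≫ e) = ψ A f ≫ (Fσ k Ω).map e := by
  show (Over.mapPullbackAdj _).homEquiv _ _ (jIso.hom ≫ f ≫ e) = (Over.mapPullbackAdj _).homEquiv _ _ (jIso.hom ≫ f) ≫ _
  rw [← Category.assoc]
  exact Adjunction.homEquiv_naturality_right _ _ _

/-- Let k be a finite field with algebraic closure Ω, l a prime number invertible in k, and A, B abelian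
varieties over k (proper, geometrically integral commutative group schemes over k). If homomorphisms
e_1, …, e_n : A → B are linearly independent over ℤ in the additive group of k-morphisms A → B
(pointwise product in B), then the induced ℤ_l-linear maps between the l-adic Tate modules of
Ω-points T_l A → T_l B are linearly independent over ℤ_l. Equivalently, ℤ_l ⊗ Hom_k(A, B) → Hom(T_l
A, T_l B) is injective. -/
theorem result (k Ω : Type u) [Field k] [Finite k] [Field Ω] [Algebra k Ω] [IsAlgClosure k Ω]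
    (l : ℕ) [Fact l.Prime] (hl : (l : k) ≠ 0) (A B : Over (Spec (CommRingCat.of k)))
    [GrpObj A] [IsCommMonObj A] [IsProper A.hom] [GeometricallyIntegral A.hom]
    [GrpObj B] [IsCommMonObj B] [IsProper B.hom] [GeometricallyIntegral B.hom]
    (n : ℕ) (e : Fin n → (A ⟶ B)) [∀ i, IsMonHom (e i)]
    (he : LinearIndependent ℤ (fun i => Additive.ofMul (e i))) :
    LinearIndependent ℤ_[l] (fun i => AbDual.tateMapₗ (l := l) (T := SGA7.pt Ω) (e i)) := by
  classical
  haveI : IsAlgClosed Ω := IsAlgClosure.isAlgClosed k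
  let σ := Spec.map (CommRingCat.ofHom (algebraMap k Ω))
  haveI : Surjective σ := ⟨fun y => ⟨IsLocalRing.closedPoint Ω, Subsingleton.elim (α := PrimeSpectrum k) _ _⟩⟩
  haveI : Flat σ := Flat.SpecMap_iff.2 (RingHom.flat_algebraMap_iff.2 inferInstance)
  let F := Fσ k Ω
  haveI : IsProper (F.obj A).hom := MorphismProperty.pullback_snd _ _ inferInstance
  haveI : IsProper (F.obj B).hom := MorphismProperty.pullback_snd _ _ inferInstance
  haveI : GeometricallyIntegral (F.obj A).hom := MorphismProperty.pullback_snd _ _ inferInstance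
  haveI : GeometricallyIntegral (F.obj B).hom := MorphismProperty.pullback_snd _ _ inferInstance
  haveI : IsCommMonObj (F.obj A) := H25AbCube.isCommMonObj_of_av
  haveI : IsCommMonObj (F.obj B) := H25AbCube.isCommMonObj_of_av
  have hlΩ : (l : Ω) ≠ 0 := by rw [← map_natCast (algebraMap k Ω)]; exact (map_ne_zero _).2 hl
  let Φ : Additive (A ⟶ B) →+ Additive (F.obj A ⟶ F.obj B) :=
    MonoidHom.toAdditive (Functor.homMonoidHom F (X := A) (M := B))
  have hΦ : Function.Injective Φ.toIntLinearMap := fun x y h =>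
    Additive.toMul.injective (H25AbCube.map_pullback_injective σ (congrArg Additive.toMul h))
  haveI : ∀ i, IsMonHom (F.map (e i)) := fun i => inferInstance
  have hind : LinearIndependent ℤ (fun i => Additive.ofMul (F.map (e i))) :=
    he.map_injOn Φ.toIntLinearMap hΦ.injOn
  have key := Fintype.linearIndependent_iff.1
    (H25AbCube.linearIndependent_tateMap (A := F.obj A) (B := F.obj B) l hlΩ (fun i => F.map (e i)) hind)
  rw [Fintype.linearIndependent_iff]
  intro c hc
  apply key c
  let a : Additive (SGA7.pt Ω ⟶ A) ≃+ Additive (X₀ Ω ⟶ F.obj A) := MulEquiv.toAdditive (ψ A)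
  let b : Additive (SGA7.pt Ω ⟶ B) ≃+ Additive (X₀ Ω ⟶ F.obj B) := MulEquiv.toAdditive (ψ B)
  refine LinearMap.ext fun x' => AbDual.TateMod.ext fun n => ?_
  let x : AbDual.TateMod A l (SGA7.pt Ω) := ⟨fun m => a.symm ((x' : ℕ → Additive (X₀ Ω ⟶ F.obj A)) m),
    fun m => by rw [← map_nsmul, x'.torsion m, map_zero], fun m => by rw [← map_nsmul, x'.compat m]⟩
  have h := congrArg (fun z : AbDual.TateMod B l (SGA7.pt Ω) => b (AbDual.TateMod.component B l (SGA7.pt Ω) n z))
    (LinearMap.congr_fun hc x)
  simp only [LinearMap.sum_apply, LinearMap.smul_apply, map_sum, LinearMap.zero_apply, map_zero] at h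
  show AbDual.TateMod.component (F.obj B) l (X₀ Ω) n _ = 0
  simp only [LinearMap.sum_apply, LinearMap.smul_apply, map_sum]
  refine (Finset.sum_congr rfl fun i _ => ?_).trans h
  show (c i).appr n • Additive.ofMul (((x' : ℕ → Additive (X₀ Ω ⟶ F.obj A)) n).toMul ≫ F.map (e i)) =
    b ((c i).appr n • Additive.ofMul (((x : ℕ → Additive (SGA7.pt Ω ⟶ A)) n).toMul ≫ e i))
  rw [map_nsmul]
  congr 1
  show Additive.ofMul _ = Additive.ofMul (ψ B (((ψ A).symm _) ≫ e i))
  rw [ψ_comp, MulEquiv.apply_symm_apply]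

end Groth.Agent.S14934
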