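import Groth.Statements.S14935
import Groth.Agent.H25Weilp.Hom

set_option autoImplicit false
set_option linter.style.haveILetI false
set_option backward.isDefEq.respectTransparency false
set_option synthInstance.maxHeartbeats 200000
universe u
open CategoryTheory MonoidalCategory CartesianMonoidalCategory MonObj GrpObj AlgebraicGeometry
open AbVar

namespace Groth.Agent.S14935

/-- Surjectivity half: let k be a finite field with algebraic closure Ω, l a prime number invertible in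
k, and A, B abelian varieties over k (proper, geometrically integral commutative group schemes over
k). For each k-automorphism τ of Ω let ρ_A(τ), ρ_B(τ) be the ℤ_l-linear endomorphisms of the l-adic
Tate modules of Ω-points T_l A, T_l B acting on every component by the Galois action of τ (this pins
them). Then every ℤ_l-linear map u : T_l A → T_l B commuting with the Galois action (u ∘ ρ_A(τ) =
ρ_B(τ) ∘ u for all τ) is a ℤ_l-linear combination of maps T_l(f) induced by homomorphisms f : A → B.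
Together with the injectivity of ℤ_l ⊗ Hom_k(A, B) → Hom(T_l A, T_l B) this says that ℤ_l ⊗ Hom_k(A,
B) → Hom_G(T_l A, T_l B) is bijective, G the absolute Galois group of k. -/
theorem result (k Ω : Type u) [Field k] [Finite k] [Field Ω] [Algebra k Ω] [IsAlgClosure k Ω]
    (l : ℕ) [Fact l.Prime] (hl : (l : k) ≠ 0) (A B : Over (Spec (CommRingCat.of k)))
    [GrpObj A] [IsCommMonObj A] [IsProper A.hom] [GeometricallyIntegral A.hom]
    [GrpObj B] [IsCommMonObj B] [IsProper B.hom] [GeometricallyIntegral B.hom]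
    (ρA : (Ω ≃ₐ[k] Ω) → Module.End ℤ_[l] (AbDual.TateMod A l (SGA7.pt Ω)))
    (hρA : ∀ (τ : Ω ≃ₐ[k] Ω) (z : AbDual.TateMod A l (SGA7.pt Ω)) (m : ℕ),
      (AbDual.TateMod.component A l (SGA7.pt Ω) m (ρA τ z)).toMul =
        SGA7.galAct τ (AbDual.TateMod.component A l (SGA7.pt Ω) m z).toMul)
    (ρB : (Ω ≃ₐ[k] Ω) → Module.End ℤ_[l] (AbDual.TateMod B l (SGA7.pt Ω)))
    (hρB : ∀ (τ : Ω ≃ₐ[k] Ω) (z : AbDual.TateMod B l (SGA7.pt Ω)) (m : ℕ),
      (AbDual.TateMod.component B l (SGA7.pt Ω) m (ρB τ z)).toMul =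
        SGA7.galAct τ (AbDual.TateMod.component B l (SGA7.pt Ω) m z).toMul)
    (u : AbDual.TateMod A l (SGA7.pt Ω) →ₗ[ℤ_[l]] AbDual.TateMod B l (SGA7.pt Ω))
    (hu : ∀ τ : Ω ≃ₐ[k] Ω, u ∘ₗ ρA τ = ρB τ ∘ₗ u) :
    u ∈ Submodule.span ℤ_[l] {v : AbDual.TateMod A l (SGA7.pt Ω) →ₗ[ℤ_[l]] AbDual.TateMod B l (SGA7.pt Ω) |
      ∃ (f : A ⟶ B) (_ : IsMonHom f), v = AbDual.tateMapₗ (l := l) (T := SGA7.pt Ω) f} := by
  obtain ⟨πA, hπA, hA⟩ := Groth.Agent.H25Weilp.exists_isFrob A
  obtain ⟨πB, hπB, hB⟩ := Groth.Agent.H25Weilp.exists_isFrob B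
  obtain ⟨F, hF⟩ := Groth.Agent.H25Weilp.exists_galT_eq (k := k) Ω l
  have h : u ∘ₗ Groth.Agent.H25Weilp.tm Ω l πA = Groth.Agent.H25Weilp.tm Ω l πB ∘ₗ u := by
    have := hu F
    rwa [Groth.Agent.H25TateConj.eq_galT ρA hρA, Groth.Agent.H25TateConj.eq_galT ρB hρB, hF A πA hA, hF B πB hB]
      at this
  refine Submodule.span_mono ?_ (Groth.Agent.H25Weilp.mem_span_homs Ω l hl hA hB u h)
  rintro _ ⟨φ, rfl⟩
  exact ⟨φ.toHom, inferInstance, rfl⟩

end Groth.Agent.S14935
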