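import Groth.Statements.S14937
import Groth.Agent.H25Weilp.Points

set_option autoImplicit false
set_option linter.style.haveILetI false
set_option backward.isDefEq.respectTransparency false
set_option synthInstance.maxHeartbeats 200000
universe u
open CategoryTheory MonoidalCategory CartesianMonoidalCategory MonObj GrpObj AlgebraicGeometry
open AbVar

namespace Groth.Agent.S14937

/-- Lower bound: let A be an abelian variety of dimension g over a finite field k (a proper,
geometrically integral commutative group scheme over k). Then the rank of End_k(A) is at least 2g: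
there exist 2g endomorphisms of A (homomorphisms A → A) which are linearly independent over ℤ in the
additive group of k-morphisms A → A (pointwise product). The upper bound 4g² holds over any field. -/
theorem result (k : Type u) [Field k] [Finite k]
    (A : Over (Spec (CommRingCat.of k)))
    [GrpObj A] [IsCommMonObj A] [IsProper A.hom] [GeometricallyIntegral A.hom]
    (g : ℕ) (hg : topologicalKrullDim A.left = g) :
    ∃ e : Fin (2 * g) → (A ⟶ A), (∀ i, IsMonHom (e i)) ∧
      LinearIndependent ℤ (fun i => Additive.ofMul (e i)) := by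
  classical
  let Ω := AlgebraicClosure k
  obtain ⟨l, hl, hlk⟩ := Groth.Agent.H25AbCube.exists_prime_ne_zero k
  haveI : Fact l.Prime := ⟨hl⟩
  obtain ⟨π, _, hπ⟩ := Groth.Agent.H25Weilp.exists_isFrob A
  haveI := (Groth.Agent.H25Weilp.free_finite Ω l hlk A).1
  haveI := (Groth.Agent.H25Weilp.free_finite Ω l hlk A).2
  obtain ⟨bT⟩ := Groth.Agent.H25AbCube.exists_tateBasis_pt (Ω := Ω) l hlk hg (A := A)
  haveI : Module.Finite ℤ (EndAV.End A) := Groth.Agent.H25AbCube.moduleFinite_hom
  haveI : Module.IsTorsionFree ℤ (EndAV.End A) := Module.isTorsionFree_iff_smul_eq_zero.2 fun m x h => by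
    refine or_iff_not_imp_left.2 fun hm => EndAV.End.ext ?_
    have h' := congrArg EndAV.End.toHom h
    rw [EndAV.End.toHom_zsmul] at h'
    exact congrArg Additive.toMul (Groth.Agent.H25AbCube.eq_zero_of_smul_homs (Additive.ofMul x.toHom) m
      (inferInstanceAs (IsMonHom x.toHom)) hm (congrArg Additive.ofMul h'))
  haveI : Module.Free ℤ (EndAV.End A) := Module.free_of_finite_type_torsion_free'
  have hle : 2 * g ≤ Module.finrank ℤ (EndAV.End A) := by
    refine le_trans ?_ (Groth.Agent.H25Weilp.finrank_hom_eq_pairMult Ω l hlk hπ hπ).ge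
    set P := (Groth.Agent.H25Weilp.tmQ Ω l π).charpoly.map (algebraMap ℚ_[l] (AlgebraicClosure ℚ_[l])) with hP
    have hcard : Multiset.card P.roots = 2 * g := by
      rw [hP, IsAlgClosed.card_roots_map_eq_natDegree_of_injective _ (algebraMap ℚ_[l] (AlgebraicClosure ℚ_[l])).injective,
        LinearMap.charpoly_natDegree, Module.finrank_baseChange, Module.finrank_eq_card_basis bT, Fintype.card_fin]
    have h1 : (P.roots.map fun _ => 1).sum ≤ (P.roots.map fun w => P.roots.count w).sum :=
      Multiset.sum_map_le_sum_map _ _ fun w hw => Multiset.one_le_count_iff_mem.2 hw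
    rw [Multiset.map_const', Multiset.sum_replicate, smul_eq_mul, _root_.mul_one, hcard] at h1
    exact h1
  let b := Module.finBasis ℤ (EndAV.End A)
  let Φ : EndAV.End A →+ Additive (A ⟶ A) := AddMonoidHom.mk' (fun x => Additive.ofMul x.toHom) fun _ _ => rfl
  have hΦ : Function.Injective Φ := fun x y h => EndAV.End.ext (Additive.ofMul.injective h)
  exact ⟨fun i => (b (Fin.castLE hle i)).toHom, fun i => inferInstance,
    (b.linearIndependent.comp _ (Fin.castLE_injective hle)).map_injOn Φ.toIntLinearMap hΦ.injOn⟩

end Groth.Agent.S14937
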