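import Groth.Statements.S14938
import Groth.Agent.H25Weilp.EndType

set_option autoImplicit false
set_option linter.style.haveILetI false
set_option backward.isDefEq.respectTransparency false
set_option synthInstance.maxHeartbeats 200000
universe u
open CategoryTheory MonoidalCategory CartesianMonoidalCategory MonObj GrpObj AlgebraicGeometry
open AbVar

namespace Groth.Agent.S14938

/-- Let A be an abelian variety over a finite field k with q elements (a proper, geometrically integral
commutative group scheme over k) and π_A its q-Frobenius endomorphism (the identity on points and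
the q-th power map on sections; a homomorphism). If an endomorphism f of A commutes with every
endomorphism of A, then for some integer N > 0 the multiple N·f is an integral linear combination of
the composition powers π_A^0 = id, π_A, π_A ∘ π_A, …; in other words the centre of ℚ ⊗ End_k(A) is
ℚ[π_A] (the reverse inclusion being that π_A is central). In the statement the group Hom_k(A, A) is
written multiplicatively, so N·f is f^N and the linear combination is a finite product of integer
powers. -/
theorem result (k : Type u) [Field k] [Finite k]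
    (A : Over (Spec (CommRingCat.of k)))
    [GrpObj A] [IsCommMonObj A] [IsProper A.hom] [GeometricallyIntegral A.hom]
    (πA : A ⟶ A) [IsMonHom πA] (hπAb : πA.left.base = 𝟙 _)
    (hπAle : ∀ U : A.left.Opens, U ≤ πA.left ⁻¹ᵁ U)
    (hπAapp : ∀ (U : A.left.Opens) (s : Γ(A.left, U)), (πA.left.appLE U U (hπAle U)).hom s = s ^ Nat.card k)
    (f : A ⟶ A) [IsMonHom f] (hf : ∀ h : A ⟶ A, IsMonHom h → f ≫ h = h ≫ f) :
    ∃ N : ℕ, 0 < N ∧ ∃ (d : ℕ) (a : Fin d → ℤ),
      f ^ N = ∏ i : Fin d, ((fun h : A ⟶ A => h ≫ πA)^[(i : ℕ)] (𝟙 A)) ^ (a i) := by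
  classical
  let Ω := AlgebraicClosure k
  obtain ⟨l, hl, hlk⟩ := Groth.Agent.H25AbCube.exists_prime_ne_zero k
  haveI : Fact l.Prime := ⟨hl⟩
  haveI := (Groth.Agent.H25Weilp.free_finite Ω l hlk A).1
  haveI := (Groth.Agent.H25Weilp.free_finite Ω l hlk A).2
  obtain ⟨N, P, hN, hP⟩ := Groth.Agent.H25Weilp.exists_smul_eq_aeval Ω l hlk ⟨hπAb, hπAle, hπAapp⟩ (EndAV.End.of f)
    fun h => EndAV.End.ext (show h.toHom ≫ f = f ≫ h.toHom from (hf h.toHom inferInstance).symm)
  refine ⟨N, hN, P.natDegree + 1, fun i => P.coeff i, ?_⟩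
  have hpow : ∀ i : ℕ, ((EndAV.End.of πA) ^ i).toHom = (fun h : A ⟶ A => h ≫ πA)^[i] (𝟙 A) := by
    intro i
    induction i with
    | zero => rw [pow_zero]; rfl
    | succ i ih => rw [EndAV.End.toHom_pow_succ, ih, Function.iterate_succ_apply']; rfl
  let Φ : EndAV.End A →+ Additive (A ⟶ A) := AddMonoidHom.mk' (fun x => Additive.ofMul x.toHom) fun _ _ => rfl
  rw [Polynomial.aeval_eq_sum_range] at hP
  have h := congrArg Φ hP
  rw [map_nsmul, map_sum, Finset.sum_range] at h
  have h' := congrArg Additive.toMul h
  rw [toMul_sum, toMul_nsmul] at h'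
  refine h'.trans (Finset.prod_congr rfl fun i _ => ?_)
  rw [map_zsmul, toMul_zsmul, ← hpow]
  rfl

end Groth.Agent.S14938
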