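import Groth.Statements.S14939
import Groth.Agent.H25AbCube.GeomCharPoly

set_option autoImplicit false
set_option linter.style.haveILetI false
set_option backward.isDefEq.respectTransparency false
set_option synthInstance.maxHeartbeats 200000
universe u
open CategoryTheory MonoidalCategory CartesianMonoidalCategory MonObj GrpObj AlgebraicGeometry
open AbVar

namespace Groth.Agent.S14939

/-- Any endomorphism: let A be an abelian variety over a finite field k with algebraic closure Ω (a
proper, geometrically integral commutative group scheme over k) and f an endomorphism of A (a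
homomorphism). For a prime l invertible in k let T_l(f) be the induced endomorphism of the l-adic
Tate module of Ω-points, assumed (as it is) free of finite rank over ℤ_l. Then the characteristic
polynomial of T_l(f) has rational integer coefficients and does not depend on l: for two such primes
l₁, l₂ there is a polynomial P over ℤ whose images are the characteristic polynomials of T_{l₁}(f)
and of T_{l₂}(f). (The published statement is for the Frobenius endomorphism; this row states it for
every endomorphism f.) -/
theorem result (k Ω : Type u) [Field k] [Finite k] [Field Ω] [Algebra k Ω] [IsAlgClosure k Ω]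
    (A : Over (Spec (CommRingCat.of k)))
    [GrpObj A] [IsCommMonObj A] [IsProper A.hom] [GeometricallyIntegral A.hom]
    (f : A ⟶ A) [IsMonHom f] (l₁ l₂ : ℕ) [Fact l₁.Prime] [Fact l₂.Prime] (h₁ : (l₁ : k) ≠ 0) (h₂ : (l₂ : k) ≠ 0)
    [Module.Free ℤ_[l₁] (AbDual.TateMod A l₁ (SGA7.pt Ω))] [Module.Finite ℤ_[l₁] (AbDual.TateMod A l₁ (SGA7.pt Ω))]
    [Module.Free ℤ_[l₂] (AbDual.TateMod A l₂ (SGA7.pt Ω))] [Module.Finite ℤ_[l₂] (AbDual.TateMod A l₂ (SGA7.pt Ω))] :
    ∃ P : Polynomial ℤ, (AbDual.tateMapₗ (l := l₁) (T := SGA7.pt Ω) f).charpoly = P.map (Int.castRingHom ℤ_[l₁]) ∧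
      (AbDual.tateMapₗ (l := l₂) (T := SGA7.pt Ω) f).charpoly = P.map (Int.castRingHom ℤ_[l₂]) := by
  obtain ⟨g, hg⟩ : ∃ g : ℕ, topologicalKrullDim A.left = g := by
    haveI : IsIntegral A.left := GeometricallyIntegral.isIntegral_of_subsingleton A.hom
    exact H25Grp.exists_nat_dim A.hom
  haveI : IsAlgClosed Ω := IsAlgClosure.isAlgClosed k
  haveI : Algebra.IsAlgebraic k Ω := IsAlgClosure.isAlgebraic
  obtain ⟨P, -, -, -, hP⟩ := H25AbCube.exists_charpoly_pt (Ω := Ω) hg (EndAV.End.of f)
  exact ⟨P, hP l₁ h₁, hP l₂ h₂⟩

end Groth.Agent.S14939
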