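import Groth.Statements.S1494
import Groth.Agent.H8Props.KoszImm.FibrewiseScheme

set_option autoImplicit false
universe u
attribute [local instance] HasDerivedCategory.standard
open FlatMor

namespace Groth.Agent.S1494

open AlgebraicGeometry CategoryTheory Limits in
/-- Let f : X → Y be a morphism over S with X and Y flat and locally of finite presentation over S. Then
the set of points x at which f is Koszul (some affine neighbourhood U of x maps into an affine V of
Y with O_Y(V) → O_X(U) a local complete intersection homomorphism) is open, and for any base change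
S' → S, with f' : X' → Y' the base change of f and X' → X the projection, the corresponding set for
f' is the preimage of the one for f. -/
theorem result {X Y S : Scheme.{u}} (f : X ⟶ Y) (g : Y ⟶ S)
    [Flat (f ≫ g)] [LocallyOfFinitePresentation (f ≫ g)] [Flat g] [LocallyOfFinitePresentation g] :
    IsOpen {x : ↑X | (∃ (U : X.Opens) (V : Y.Opens) (hU : IsAffineOpen U) (hV : IsAffineOpen V) (hUV : U ≤ f ⁻¹ᵁ V), x ∈ U ∧
          letI := (f.appLE V U hUV).hom.toAlgebra
          LCI.IsLCI Γ(Y, V) Γ(X, U))} ∧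
      ∀ {X' Y' S' : Scheme.{u}} (h : S' ⟶ S) (gY : Y' ⟶ Y) (g' : Y' ⟶ S') (hY : IsPullback gY g' g h)
        (gX : X' ⟶ X) (f' : X' ⟶ Y') (hX : IsPullback gX (f' ≫ g') (f ≫ g) h) (w : gX ≫ f = f' ≫ gY),
        {x' : ↑X' | (∃ (U : X'.Opens) (V : Y'.Opens) (hU : IsAffineOpen U) (hV : IsAffineOpen V) (hUV : U ≤ f' ⁻¹ᵁ V), x' ∈ U ∧
          letI := (f'.appLE V U hUV).hom.toAlgebra
          LCI.IsLCI Γ(Y', V) Γ(X', U))} = gX ⁻¹' {x : ↑X | (∃ (U : X.Opens) (V : Y.Opens) (hU : IsAffineOpen U) (hV : IsAffineOpen V) (hUV : U ≤ f ⁻¹ᵁ V), x ∈ U ∧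
          letI := (f.appLE V U hUV).hom.toAlgebra
          LCI.IsLCI Γ(Y, V) Γ(X, U))} := by
  refine ⟨?_, fun h gY g' hY gX f' hX w => ?_⟩
  · exact isOpen_iff_mem_nhds.2 fun x hx => Filter.mem_of_superset
      ((Groth.Agent.H8Props.KoszImm.isOpen_koszul f).mem_nhds
        ((Groth.Agent.H8Props.KoszImm.exists_chart_isLCI_iff f x).1 hx))
      fun y hy => (Groth.Agent.H8Props.KoszImm.exists_chart_isLCI_iff f y).2 hy
  · ext x'
    exact ((Groth.Agent.H8Props.KoszImm.exists_chart_isLCI_iff f' x').trans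
      (Groth.Agent.H8Props.KoszImm.isKoszulAt_baseChange_iff f g h gY g' hY gX f' hX w x')).trans
      (Groth.Agent.H8Props.KoszImm.exists_chart_isLCI_iff f (gX x')).symm

end Groth.Agent.S1494
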