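import Groth.Statements.S14941
import Groth.Agent.H25Bdd.Descend

set_option autoImplicit false
set_option linter.style.haveILetI false
set_option backward.isDefEq.respectTransparency false
set_option synthInstance.maxHeartbeats 400000
set_option maxHeartbeats 800000
universe u
open CategoryTheory CategoryTheory.Limits MonoidalCategory CartesianMonoidalCategory MonObj GrpObj AlgebraicGeometry
open AbVar

namespace Groth.Agent.S14941

/-- Take a finite field k and an abelian variety A over it (a proper, geometrically integral commutative
group scheme over k) and an integer d ≥ 1. Up to isomorphism, only finitely many abelian varieties B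
over k are isogenous to A and carry a polarisation of degree d² defined over k. Here: B^t is a given
dual abelian variety (B^t, φ) for the fppf topology, a polarisation is a homomorphism λ : B → B^t
which on every geometric fibre is of the form Λ(L) = φ_L for an ample invertible sheaf L, its degree
d² means λ is finite locally free of rank d², B isogenous to A means there is a finite surjective
homomorphism A → B, and isomorphism is isomorphism of k-schemes (equivalently of abelian varieties,
after a translation). -/
theorem result (k : Type u) [Field k] [Finite k]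
    (A : Over (Spec (CommRingCat.of k)))
    [GrpObj A] [IsCommMonObj A] [IsProper A.hom] [GeometricallyIntegral A.hom]
    (d : ℕ) (hd : 1 ≤ d) :
    ∃ (n : ℕ) (Bs : Fin n → Over (Spec (CommRingCat.of k))),
      ∀ (B Bt : Over (Spec (CommRingCat.of k))) [GrpObj B] [IsCommMonObj B] [IsProper B.hom] [GeometricallyIntegral B.hom]
        [GrpObj Bt] [IsCommMonObj Bt] (φ : AgPol.DualMap B Bt),
        AbDual.IsDualAV Scheme.fppfPrecoverage B Bt φ →
        ∀ lam : B ⟶ Bt, AgPol.IsPolarization B Bt φ lam → AgPol.HasDegSq lam d →
        (∃ (u : A ⟶ B) (_ : IsMonHom u), IsFinite u.left ∧ Function.Surjective u.left.base) →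
        ∃ i : Fin n, Nonempty (B ≅ Bs i) := by
  haveI : IsIntegral A.left := GeometricallyIntegral.isIntegral_of_subsingleton A.hom
  obtain ⟨g, hg⟩ := Groth.Agent.H25Grp.exists_nat_dim A.hom
  obtain ⟨n, Bs, hBs⟩ := Groth.Agent.H25Bdd.finite_isAmple k g (4 ^ g * d)
  refine ⟨n, Bs, fun B Bt _ _ _ _ _ _ φ hφ lam hlam hdeg hu => ?_⟩
  obtain ⟨u, _, hfin, hsur⟩ := hu
  obtain ⟨hlf, hlflat, hlfp, hrank⟩ := hdeg
  haveI := hlf
  haveI := hlflat
  haveI := hlfp
  haveI : Surjective lam.left := lam.left.one_le_finrank_iff_surjective.1 fun y => by
    show 1 ≤ lam.left.finrank y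
    rw [hrank]
    exact Nat.one_le_pow _ _ hd
  obtain ⟨h1, h2⟩ := Groth.Agent.H25Bdd.target_facts lam
  haveI := hfin
  haveI : Surjective u.left := ⟨hsur⟩
  have hgB : topologicalKrullDim B.left = g := by
    rw [← hg]
    refine le_antisymm ?_ ?_
    · exact Groth.Agent.H17.topologicalKrullDim_le_of_specializingMap u.left u.left.isClosedMap.specializingMap
        u.left.surjective
    · exact Groth.Agent.H17.topologicalKrullDim_le_of_noSpecializationsInFibres u.left u.left.continuous
        fun x y h e => Groth.Agent.H17.AssPts.eq_of_specializes_of_map_eq u.left h e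
  obtain ⟨L, hL, hR⟩ := Groth.Agent.H25Bdd.exists_isAmple_of_polarization hφ hgB hlam ⟨hlf, hlflat, hlfp, hrank⟩
  exact hBs B L hgB hL hR

end Groth.Agent.S14941
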