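import Groth.Statements.S14942
import Groth.Agent.H25AbCube.CharPolyIrred
import Groth.Agent.H25AbCube.EndAlgebra

set_option autoImplicit false
set_option linter.style.haveILetI false
set_option backward.isDefEq.respectTransparency false
set_option synthInstance.maxHeartbeats 200000
universe u
open CategoryTheory MonoidalCategory CartesianMonoidalCategory MonObj GrpObj AlgebraicGeometry
open AbVar

namespace Groth.Agent.S14942

/-- Part 1: let A be a simple abelian variety over a finite field k with q elements — a proper,
geometrically integral commutative group scheme over k whose only abelian subvarieties over k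
(geometrically integral closed subgroup schemes) are the trivial subgroup and A itself — with
q-Frobenius endomorphism π_A (the identity on points, the q-th power map on sections; a
homomorphism). Let Ω be an algebraic closure of k, l a prime invertible in k, and assume (as is the
case) that the l-adic Tate module of Ω-points T_l A is free of finite rank over ℤ_l. Then the
characteristic polynomial of T_l(π_A), which has rational coefficients, is a power of the minimal
polynomial of π_A over ℚ: viewed over ℚ_l it equals h^n for some polynomial h with rational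
coefficients irreducible over ℚ and some n. -/
theorem result (k Ω : Type u) [Field k] [Finite k] [Field Ω] [Algebra k Ω] [IsAlgClosure k Ω]
    (l : ℕ) [Fact l.Prime] (hl : (l : k) ≠ 0) (A : Over (Spec (CommRingCat.of k)))
    [GrpObj A] [IsCommMonObj A] [IsProper A.hom] [GeometricallyIntegral A.hom]
    (hsimple : ∀ (B : Over (Spec (CommRingCat.of k))) [GrpObj B] [GeometricallyIntegral B.hom] (i : B ⟶ A) [IsMonHom i]
      [IsClosedImmersion i.left], Subsingleton B.left ∨ IsIso i)
    (πA : A ⟶ A) [IsMonHom πA] (hπAb : πA.left.base = 𝟙 _)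
    (hπAle : ∀ U : A.left.Opens, U ≤ πA.left ⁻¹ᵁ U)
    (hπAapp : ∀ (U : A.left.Opens) (s : Γ(A.left, U)), (πA.left.appLE U U (hπAle U)).hom s = s ^ Nat.card k)
    [Module.Free ℤ_[l] (AbDual.TateMod A l (SGA7.pt Ω))] [Module.Finite ℤ_[l] (AbDual.TateMod A l (SGA7.pt Ω))] :
    ∃ (h : Polynomial ℚ) (n : ℕ), Irreducible h ∧
      ((AbDual.tateMapₗ (l := l) (T := SGA7.pt Ω) πA).charpoly).map (algebraMap ℤ_[l] ℚ_[l]) =
        (h.map (algebraMap ℚ ℚ_[l])) ^ n := by
  haveI := IsAlgClosure.isAlgClosed k (K := Ω)
  haveI : Algebra.IsAlgebraic k Ω := IsAlgClosure.isAlgebraic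
  haveI : IsIntegral A.left := GeometricallyIntegral.isIntegral_of_subsingleton A.hom
  obtain ⟨g, hg⟩ := Groth.Agent.H25Grp.exists_nat_dim A.hom
  let π := EndAV.End.of πA
  haveI : Module.Finite ℤ (EndAV.End A) := Groth.Agent.H25AbCube.moduleFinite_hom
  haveI : Module.Finite ℚ (EndAV.End0 A) := Module.Finite.base_change ℤ ℚ (EndAV.End A)
  rcases subsingleton_or_nontrivial (EndAV.End0 A) with hsub | hnt
  · refine ⟨Polynomial.X, 0, Polynomial.irreducible_X, ?_⟩
    have hirr0 : g = 0 := Groth.Agent.H25AbCube.eq_zero_of_subsingleton_end0 hg l hl Ω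
    obtain ⟨P, hm, hd, -, hP⟩ := Groth.Agent.H25AbCube.exists_charpoly_pt (Ω := Ω) hg π
    have hP1 : P = 1 := hm.natDegree_eq_zero.1 (by omega)
    show ((EndAV.End.tateRep l (SGA7.pt Ω) π).charpoly).map _ = _
    rw [hP l hl, hP1, Polynomial.map_one, Polynomial.map_one, pow_zero]
  · haveI := hnt
    have hint : _root_.IsIntegral ℚ (EndAV.toEnd0 π) := Algebra.IsIntegral.isIntegral _
    haveI : IsDomain (EndAV.End0 A) := by
      haveI : NoZeroDivisors (EndAV.End0 A) := ⟨fun {a b} h => by
        by_cases ha : a = 0
        · exact Or.inl ha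
        · exact Or.inr ((Groth.Agent.H25AbCube.isUnit_end0 hsimple a ha).mul_right_eq_zero.1 h)⟩
      exact NoZeroDivisors.to_isDomain _
    obtain ⟨P, n, h1, h2, -⟩ := Groth.Agent.H25AbCube.exists_charpoly_eq_minpoly_pow (Ω := Ω) hg l hl π (minpoly.irreducible hint)
    refine ⟨minpoly ℚ (EndAV.toEnd0 π), n, minpoly.irreducible hint, ?_⟩
    show ((EndAV.End.tateRep l (SGA7.pt Ω) π).charpoly).map _ = _
    rw [h1, ← Polynomial.map_pow, ← h2, Polynomial.map_map, Polynomial.map_map]
    congr 1

end Groth.Agent.S14942
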