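import Groth.Statements.S14948
import Groth.Agent.H25AbCube.DegreePoly

set_option autoImplicit false
set_option linter.style.haveILetI false
universe u
open CategoryTheory MonoidalCategory CartesianMonoidalCategory MonObj GrpObj AlgebraicGeometry
open AbVar

namespace Groth.Agent.S14948

/-- Let A be an abelian variety of dimension g over a field k (a proper, geometrically integral
commutative group scheme over k) and f_1, …, f_m endomorphisms of A (homomorphisms) which are
linearly independent over ℤ in the additive group of k-morphisms A → A, written multiplicatively.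
Then the degree is a homogeneous polynomial function of degree 2g: there is a homogeneous polynomial
P of degree 2g in m variables with rational coefficients such that for all integers a_1, …, a_m, if
the endomorphism a_1 f_1 + ⋯ + a_m f_m (the product of the f_i^{a_i}) is finite then its rank at
every point of A equals P(a_1, …, a_m), and if it is not finite then P(a_1, …, a_m) = 0. -/
theorem result (k : Type u) [Field k]
    (A : Over (Spec (CommRingCat.of k)))
    [GrpObj A] [IsCommMonObj A] [IsProper A.hom] [GeometricallyIntegral A.hom]
    (g : ℕ) (hg : topologicalKrullDim A.left = g) (m : ℕ) (f : Fin m → (A ⟶ A)) [∀ i, IsMonHom (f i)]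
    (hf : LinearIndependent ℤ (fun i => Additive.ofMul (f i))) :
    ∃ P : MvPolynomial (Fin m) ℚ, P.IsHomogeneous (2 * g) ∧
      ∀ a : Fin m → ℤ, (IsFinite (∏ i, f i ^ a i).left →
          ∀ x : A.left, (Scheme.Hom.finrank (∏ i, f i ^ a i).left x : ℚ) = MvPolynomial.eval (fun i => (a i : ℚ)) P) ∧
        (¬ IsFinite (∏ i, f i ^ a i).left → MvPolynomial.eval (fun i => (a i : ℚ)) P = 0) := by
  obtain ⟨P, hP, hPe⟩ := H25AbCube.exists_degree_form (A := A) (B := A) hg hg f
  refine ⟨P, hP, fun a => ⟨fun hfin x => ?_, fun hfin => ?_⟩⟩
  · haveI := hfin
    haveI : IsMonHom (∏ i, f i ^ a i) := Finset.prod_induction (fun i => f i ^ a i) (fun x => IsMonHom x)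
      (fun x y hx hy => by haveI := hx; haveI := hy; rw [Hom.mul_def]; infer_instance)
      (by rw [Hom.one_def]; infer_instance) fun i _ => H19Grp.isMonHom_zpow (f i) (a i)
    rw [H25AbCube.finrank_eq_degree _ hg hg, hPe]
  · rw [← hPe, H25AbCube.degree_of_not_finite _ hfin, Nat.cast_zero]

end Groth.Agent.S14948
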