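import Groth.Statements.S14950
import Groth.Agent.H9Hens.Milnor
-- import your own Groth.Agent.* helpers here

set_option autoImplicit false
universe u
open TensorProduct
open EtAlg

namespace Groth.Agent.S14950

/-- Let B' = B ×_A A' be a fibre product of commutative rings with A' → A surjective, let J be the
kernel of B' → B and L' a B'-module. The canonical map from L' to pairs in (B ⊗_{B'} L') × (A'
⊗_{B'} L') has kernel annihilated by J and contained in J L': if l ∈ L' satisfies 1 ⊗ l = 0 in B
⊗_{B'} L' and 1 ⊗ l = 0 in A' ⊗_{B'} L', then j • l = 0 for every j ∈ J, and l ∈ J L'. (Surjectivity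
of that map onto the compatible pairs is a separate result.) -/
theorem result (B' B A' A : Type u) [CommRing B'] [CommRing B] [CommRing A'] [CommRing A]
    [Algebra B' B] [Algebra B' A'] [Algebra B A] [Algebra A' A] [Algebra B' A] [IsScalarTower B' B A] [IsScalarTower B' A' A]
    (hsq : EtMil.IsFibreSquare B' B A' A)
    (L' : Type u) [AddCommGroup L'] [Module B' L'] (l : L')
    (h1 : ((1 : B) ⊗ₜ[B'] l : B ⊗[B'] L') = 0) (h2 : ((1 : A') ⊗ₜ[B'] l : A' ⊗[B'] L') = 0) :
    (∀ j : B', algebraMap B' B j = 0 → j • l = 0) ∧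
      l ∈ (RingHom.ker (algebraMap B' B)) • (⊤ : Submodule B' L') := by
  exact ⟨fun j hj => H9Hens.Milnor.smul_eq_zero_of_one_tmul_eq_zero hsq h2 hj,
    H9Hens.Milnor.mem_smul_top_of_one_tmul_eq_zero hsq h1⟩

end Groth.Agent.S14950
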