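import Groth.Statements.S14955
import Mathlib.RingTheory.TensorProduct.Maps
import Mathlib.RingTheory.IsTensorProduct
-- import your own Groth.Agent.* helpers here

set_option autoImplicit false
universe u
open TensorProduct
open EtAlg

namespace Groth.Agent.S14955

open scoped TensorProduct

/-- Let B' = B ×_A A' be a fibre product of commutative rings with A' → A surjective. Then the square is
also a pushout of commutative rings: the canonical map B ⊗_{B'} A' → A is an isomorphism. -/
theorem result (B' B A' A : Type u) [CommRing B'] [CommRing B] [CommRing A'] [CommRing A]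
    [Algebra B' B] [Algebra B' A'] [Algebra B A] [Algebra A' A] [Algebra B' A] [IsScalarTower B' B A] [IsScalarTower B' A' A]
    (hsq : EtMil.IsFibreSquare B' B A' A) : Algebra.IsPushout B' B A' A := by
  letI : Algebra A' (B ⊗[B'] A') := Algebra.TensorProduct.rightAlgebra
  let φ : B ⊗[B'] A' →ₐ[B] A := Algebra.TensorProduct.lift (Algebra.ofId B A)
    (IsScalarTower.toAlgHom B' A' A) (fun _ _ => Commute.all _ _)
  have hφr : ∀ a' : A', φ (1 ⊗ₜ a') = algebraMap A' A a' := fun a' => by simp [φ]
  have hBsurj : ∀ b : B, ∃ b' : B', algebraMap B' B b' = b := fun b => by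
    obtain ⟨a', ha'⟩ := hsq.1 (algebraMap B A b)
    obtain ⟨b', ⟨hb', -⟩, -⟩ := hsq.2 b a' ha'.symm
    exact ⟨b', hb'⟩
  have hgen : ∀ z : B ⊗[B'] A', ∃ a' : A', z = 1 ⊗ₜ a' := fun z => by
    induction z using TensorProduct.induction_on with
    | zero => exact ⟨0, (TensorProduct.tmul_zero _ _).symm⟩
    | tmul b a' =>
      obtain ⟨b', rfl⟩ := hBsurj b
      exact ⟨b' • a', by rw [← TensorProduct.smul_tmul, Algebra.smul_def, mul_one]⟩
    | add x y hx hy =>
      obtain ⟨a, rfl⟩ := hx
      obtain ⟨c, rfl⟩ := hy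
      exact ⟨a + c, (TensorProduct.tmul_add _ _ _).symm⟩
  have hbij : Function.Bijective φ := by
    refine ⟨(injective_iff_map_eq_zero φ).mpr fun z hz => ?_, fun a => ?_⟩
    · obtain ⟨a', rfl⟩ := hgen z
      rw [hφr] at hz
      obtain ⟨b', ⟨h1, h2⟩, -⟩ := hsq.2 0 a' (by rw [map_zero, hz])
      rw [← h2, ← mul_one (algebraMap B' A' b'), ← Algebra.smul_def, ← TensorProduct.smul_tmul,
        Algebra.smul_def, h1, zero_mul, TensorProduct.zero_tmul]
    · obtain ⟨a', rfl⟩ := hsq.1 a
      exact ⟨1 ⊗ₜ a', hφr a'⟩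
  exact Algebra.IsPushout.of_equiv (AlgEquiv.ofBijective φ hbij) (RingHom.ext hφr)

end Groth.Agent.S14955
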