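import Groth.Statements.S14958
import Groth.Agent.H9CI.TorEpi
import Mathlib
-- import your own Groth.Agent.* helpers here

set_option autoImplicit false
universe u
open TensorProduct CategoryTheory CategoryTheory.Limits
open EtAlg

namespace Groth.Agent.S14958


variable {R : Type u} [CommRing R]

theorem epi_desc_iff (F : ModuleCat.{u} R ⥤ ModuleCat.{u} R) [F.Additive] {P Q A : Type u}
    [AddCommGroup P] [Module R P] [AddCommGroup Q] [Module R Q] [AddCommGroup A] [Module R A]
    (g : P × Q →ₗ[R] A) :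
    Epi (biprod.desc (F.map (ModuleCat.ofHom (g ∘ₗ LinearMap.inl R P Q)))
      (F.map (ModuleCat.ofHom (g ∘ₗ LinearMap.inr R P Q)))) ↔
      Epi (F.map (ModuleCat.ofHom g)) := by
  let d : F.obj (ModuleCat.of R P) ⊞ F.obj (ModuleCat.of R Q) ⟶ F.obj (ModuleCat.of R (P × Q)) :=
    biprod.desc (F.map (ModuleCat.ofHom (LinearMap.inl R P Q))) (F.map (ModuleCat.ofHom (LinearMap.inr R P Q)))
  let l : F.obj (ModuleCat.of R (P × Q)) ⟶ F.obj (ModuleCat.of R P) ⊞ F.obj (ModuleCat.of R Q) :=
    biprod.lift (F.map (ModuleCat.ofHom (LinearMap.fst R P Q))) (F.map (ModuleCat.ofHom (LinearMap.snd R P Q)))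
  have hld : l ≫ d = 𝟙 _ := by
    simp only [l, d, biprod.lift_desc, ← F.map_comp, ← F.map_add]
    rw [show ModuleCat.ofHom (LinearMap.fst R P Q) ≫ ModuleCat.ofHom (LinearMap.inl R P Q) +
      ModuleCat.ofHom (LinearMap.snd R P Q) ≫ ModuleCat.ofHom (LinearMap.inr R P Q) = 𝟙 (ModuleCat.of R (P × Q)) from
        ModuleCat.hom_ext (LinearMap.ext fun x => by simp), F.map_id]
  haveI : Epi d := epi_of_epi_fac hld
  have hfac : biprod.desc (F.map (ModuleCat.ofHom (g ∘ₗ LinearMap.inl R P Q)))
      (F.map (ModuleCat.ofHom (g ∘ₗ LinearMap.inr R P Q))) = d ≫ F.map (ModuleCat.ofHom g) := by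
    refine biprod.hom_ext' _ _ ?_ ?_
    · simp only [d, biprod.inl_desc, biprod.inl_desc_assoc, ← F.map_comp]; rfl
    · simp only [d, biprod.inr_desc, biprod.inr_desc_assoc, ← F.map_comp]; rfl
  rw [hfac]
  exact ⟨fun h => epi_of_epi d _, fun h => epi_comp _ _⟩


/-- Let B' = B ×_A A' be a fibre product of commutative rings with A' → A surjective and L' a B'-module.
Then L' is a fixed point of the glueing adjunction, i.e. the canonical map from L' to the compatible
pairs in (B ⊗_{B'} L') × (A' ⊗_{B'} L') is injective (it is always surjective), if and only if the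
map Tor_1(L', B) ⊕ Tor_1(L', A') → Tor_1(L', A) over B' induced by B → A and A' → A is surjective.
Here Tor_1(L', –) is the first left derived functor of L' ⊗_{B'} – on B'-modules. -/
theorem result (B' B A' A : Type u) [CommRing B'] [CommRing B] [CommRing A'] [CommRing A]
    [Algebra B' B] [Algebra B' A'] [Algebra B A] [Algebra A' A] [Algebra B' A] [IsScalarTower B' B A] [IsScalarTower B' A' A]
    (hsq : EtMil.IsFibreSquare B' B A' A)
    (L' : Type u) [AddCommGroup L'] [Module B' L'] :
    (∀ l : L', ((1 : B) ⊗ₜ[B'] l : B ⊗[B'] L') = 0 → ((1 : A') ⊗ₜ[B'] l : A' ⊗[B'] L') = 0 → l = 0) ↔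
    Epi (biprod.desc
      (((Tor (ModuleCat.{u} B') 1).obj (ModuleCat.of B' L')).map
        (ModuleCat.ofHom (IsScalarTower.toAlgHom B' B A).toLinearMap))
      (((Tor (ModuleCat.{u} B') 1).obj (ModuleCat.of B' L')).map
        (ModuleCat.ofHom (IsScalarTower.toAlgHom B' A' A).toLinearMap))) := by
  classical
  let f : B' →ₗ[B'] B × A' := (Algebra.linearMap B' B).prod (Algebra.linearMap B' A')
  let p := (IsScalarTower.toAlgHom B' B A).toLinearMap
  let q := (IsScalarTower.toAlgHom B' A' A).toLinearMap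
  let g : B × A' →ₗ[B'] A := p.coprod (-q)
  have hex : Function.Exact f g := fun x => by
    simp only [g, LinearMap.coprod_apply, LinearMap.neg_apply, ← sub_eq_add_neg, sub_eq_zero]
    constructor
    · intro h
      obtain ⟨b', hb', -⟩ := hsq.2 x.1 x.2 h
      exact ⟨b', Prod.ext hb'.1 hb'.2⟩
    · rintro ⟨b', rfl⟩
      exact (IsScalarTower.algebraMap_apply B' B A b').symm.trans (IsScalarTower.algebraMap_apply B' A' A b')
  let S : ShortComplex (ModuleCat.{u} B') := ShortComplex.mk (X₁ := ModuleCat.of B' B') (X₂ := ModuleCat.of B' (B × A'))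
    (ModuleCat.ofHom f) (ModuleCat.ofHom g) (ModuleCat.hom_ext (LinearMap.ext fun x => hex.apply_apply_eq_zero x))
  have hS : S.ShortExact :=
    { exact := (ShortComplex.ShortExact.moduleCat_exact_iff_function_exact _).mpr hex
      mono_f := (ModuleCat.mono_iff_injective _).mpr fun x y hxy => by
        have hcomm : algebraMap B A (algebraMap B' B x) = algebraMap A' A (algebraMap B' A' x) :=
          (IsScalarTower.algebraMap_apply B' B A x).symm.trans (IsScalarTower.algebraMap_apply B' A' A x)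
        obtain ⟨z, -, hz⟩ := hsq.2 _ _ hcomm
        exact (hz x ⟨rfl, rfl⟩).trans (hz y ⟨(congrArg Prod.fst hxy).symm, (congrArg Prod.snd hxy).symm⟩).symm
      epi_g := (ModuleCat.epi_iff_surjective _).mpr fun a => by
        obtain ⟨a', ha'⟩ := hsq.1 a
        exact ⟨((0 : B), -a'), by
          show p 0 + -q (-a') = a
          rw [map_zero, map_neg, neg_neg, zero_add]; exact ha'⟩ }
  haveI : Projective S.X₁ := (inferInstance : Projective (ModuleCat.of B' B'))
  haveI : ((Tor (ModuleCat.{u} B') 1).obj (ModuleCat.of B' L')).Additive :=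
    haveI : ((MonoidalCategory.tensoringLeft (ModuleCat.{u} B')).obj (ModuleCat.of B' L')).Additive :=
      inferInstanceAs (MonoidalCategory.tensorLeft (ModuleCat.of B' L')).Additive
    Groth.Agent.H9CI.TorEpi.additive_leftDerived _ 1
  let F := (Tor (ModuleCat.{u} B') 1).obj (ModuleCat.of B' L')
  have h1 := (epi_desc_iff F g).trans (Groth.Agent.H9CI.TorEpi.epi_map_one_iff (ModuleCat.of B' L') S hS)
  have hneg : biprod.desc (F.map (ModuleCat.ofHom (g ∘ₗ LinearMap.inl B' B A')))
      (F.map (ModuleCat.ofHom (g ∘ₗ LinearMap.inr B' B A'))) =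
      biprod.map (𝟙 _) (-𝟙 _) ≫ biprod.desc (F.map (ModuleCat.ofHom p)) (F.map (ModuleCat.ofHom q)) := by
    refine biprod.hom_ext' _ _ ?_ ?_
    · simp only [biprod.inl_desc, biprod.inl_map_assoc, Category.id_comp]
      rw [show g ∘ₗ LinearMap.inl B' B A' = p from LinearMap.coprod_inl _ _]
    · simp only [biprod.inr_desc, biprod.inr_map_assoc, Preadditive.neg_comp, Category.id_comp]
      rw [show g ∘ₗ LinearMap.inr B' B A' = -q from LinearMap.coprod_inr _ _, ← F.map_neg]
      rfl
  haveI hneq1 : IsIso (-𝟙 (F.obj (ModuleCat.of B' A'))) := ⟨-𝟙 _, by simp, by simp⟩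
  haveI : IsIso (biprod.map (𝟙 (F.obj (ModuleCat.of B' B))) (-𝟙 (F.obj (ModuleCat.of B' A')))) :=
    ⟨biprod.map (𝟙 _) (-𝟙 _), biprod.hom_ext' _ _ (by simp) (by simp), biprod.hom_ext' _ _ (by simp) (by simp)⟩
  rw [hneg] at h1
  have h2 : Epi (biprod.desc (F.map (ModuleCat.ofHom p)) (F.map (ModuleCat.ofHom q))) ↔
      Function.Injective (f.lTensor L') := Iff.trans ⟨fun h => @epi_comp _ _ _ _ _ (biprod.map (𝟙 _) (-𝟙 _)) inferInstance _ h, fun h => @epi_of_epi _ _ _ _ _ (biprod.map (𝟙 _) (-𝟙 _)) _ h⟩ h1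
  refine Iff.trans ?_ h2.symm
  rw [injective_iff_map_eq_zero]
  have hfs : ∀ (l : L'), f.lTensor L' (l ⊗ₜ[B'] (1 : B')) = l ⊗ₜ[B'] ((1 : B), (1 : A')) := fun l => by
    simp [f]
  constructor
  · intro h z hz
    obtain ⟨l, rfl⟩ : ∃ l : L', l ⊗ₜ[B'] (1 : B') = z := ⟨TensorProduct.rid B' L' z, (TensorProduct.rid B' L').symm_apply_apply z⟩
    rw [hfs] at hz
    have hB := congrArg (fun w => TensorProduct.comm B' L' B ((LinearMap.fst B' B A').lTensor L' w)) hz
    have hA := congrArg (fun w => TensorProduct.comm B' L' A' ((LinearMap.snd B' B A').lTensor L' w)) hz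
    simp at hB hA
    rw [h l hB hA, TensorProduct.zero_tmul]
  · intro h l hB hA
    have h0 : f.lTensor L' (l ⊗ₜ[B'] (1 : B')) = 0 := by
      rw [hfs, show ((1 : B), (1 : A')) = LinearMap.inl B' B A' 1 + LinearMap.inr B' B A' 1 by simp, TensorProduct.tmul_add,
        ← LinearMap.lTensor_tmul, ← LinearMap.lTensor_tmul]
      have hB' : l ⊗ₜ[B'] (1 : B) = 0 := (TensorProduct.comm B' L' B).injective (hB.trans (map_zero _).symm)
      have hA' : l ⊗ₜ[B'] (1 : A') = 0 := (TensorProduct.comm B' L' A').injective (hA.trans (map_zero _).symm)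
      rw [hB', hA', map_zero, map_zero, add_zero]
    simpa using congrArg (TensorProduct.rid B' L') (h _ h0)

end Groth.Agent.S14958
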