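import Groth.Statements.S14959
import Groth.Agent.H28Pinch.SheafDescent

set_option autoImplicit false
universe u
open AlgebraicGeometry CategoryTheory CategoryTheory.Limits
open Pinch

namespace Groth.Agent.S14959

/-- Let w : X' → X, g : X' → Y', f : X → Y, u : Y' → Y be a cartesian square of schemes with f affine
and u a closed immersion which is a pinching square: for every affine open V of Y, with I(V) the
kernel of Γ(V, O_Y) → Γ(u⁻¹V, O_Y'), the kernel of Γ(V, O_Y) → Γ(f⁻¹V, O_X) meets I(V) in 0 and the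
ideal generated by the image of I(V) in Γ(f⁻¹V, O_X) consists of images of elements of I(V)
(equivalently Γ(V, O_Y) is the fibre product of Γ(u⁻¹V, O_Y') and Γ(f⁻¹V, O_X) over Γ(h⁻¹V, O_X'),
i.e. O_Y = u_*O_Y' ×_{h_*O_X'} f_*O_X). If G is a quasi-coherent O_Y-module whose pullbacks u*G and
f*G are zero, then G = 0. -/
theorem result {X X' Y Y' : Scheme.{u}} (f : X ⟶ Y) (u : Y' ⟶ Y) (w : X' ⟶ X) (g : X' ⟶ Y')
    (hP : IsPullback w g f u) [IsAffineHom f] [IsClosedImmersion u]
    (hM : ∀ V ∈ Y.affineOpens,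
      RingHom.ker (f.app V).hom ⊓ RingHom.ker (u.app V).hom = ⊥ ∧
      ∀ a ∈ Ideal.map (f.app V).hom (RingHom.ker (u.app V).hom),
        ∃ i ∈ RingHom.ker (u.app V).hom, (f.app V).hom i = a)
    (G : Y.Modules) [G.IsQuasicoherent]
    (h1 : IsZero ((Scheme.Modules.pullback u).obj G)) (h2 : IsZero ((Scheme.Modules.pullback f).obj G)) :
    IsZero G := by
  exact H28Pinch.isZero_descent (f := f) (u := u) hM G h1 h2

end Groth.Agent.S14959
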