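import Groth.Statements.S14963
import Groth.Agent.H23Az.Ops

set_option autoImplicit false
universe u v w
open TensorProduct
open Brauer

namespace Groth.Agent.S14963

/-- Let R → S be a ring homomorphism with Spec S → Spec R surjective and B an R-algebra which is
finitely generated and projective as an R-module. If S ⊗_R B is an Azumaya S-algebra, then B is an
Azumaya R-algebra. (The published statement is for a surjective morphism of schemes X → Y and a
finite locally free O_Y-algebra; this row is the case of affine X and Y. The converse direction,
base change, is omitted.) -/
theorem result (R : Type u) [CommRing R]
    (S : Type v) [CommRing S] [Algebra R S]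
    (hS : Function.Surjective (PrimeSpectrum.comap (algebraMap R S)))
    (B : Type w) [Ring B] [Algebra R B] [Module.Finite R B] [Module.Projective R B]
    [IsAzumaya S (S ⊗[R] B)] : IsAzumaya R B := by
  exact Groth.Agent.H23Az.isAzumaya_of_baseChange R S B hS

end Groth.Agent.S14963
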