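import Groth.Statements.S14965
import Groth.Agent.H23Az.Pair

set_option autoImplicit false
universe u
open TensorProduct
open Brauer

namespace Groth.Agent.S14965

/-- Let B' = B ×_A A' be a fibre product of commutative rings with A' → A surjective, N an Azumaya
B-algebra, M' an Azumaya A'-algebra and φ : A ⊗_B N ≅ A ⊗_{A'} M' an isomorphism of A-algebras. If a
B'-algebra D' with B'-algebra homomorphisms π₁ : D' → N and π₂ : D' → M' is the glued algebra N ×_φ
M', in the sense that (π₁, π₂) is injective with image the pairs (n, m') satisfying φ(1 ⊗ n) = 1 ⊗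
m', then D' is an Azumaya B'-algebra. (The published statement is for Azumaya algebras on the
pushout scheme of a closed immersion and an affine morphism, glued as u_*B' ×_{h_*} f_*A; this row
is the case of an affine pushout.) -/
theorem result (B' B A' A : Type u) [CommRing B'] [CommRing B] [CommRing A'] [CommRing A]
    [Algebra B' B] [Algebra B' A'] [Algebra B A] [Algebra A' A] [Algebra B' A] [IsScalarTower B' B A] [IsScalarTower B' A' A]
    (hsq : EtMil.IsFibreSquare B' B A' A)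
    (N : Type u) [Ring N] [Algebra B N] [Algebra B' N] [IsScalarTower B' B N] [IsAzumaya B N]
    (M' : Type u) [Ring M'] [Algebra A' M'] [Algebra B' M'] [IsScalarTower B' A' M'] [IsAzumaya A' M']
    (φ : A ⊗[B] N ≃ₐ[A] A ⊗[A'] M')
    (D' : Type u) [Ring D'] [Algebra B' D'] (π₁ : D' →ₐ[B'] N) (π₂ : D' →ₐ[B'] M')
    (hinj : ∀ d : D', π₁ d = 0 → π₂ d = 0 → d = 0)
    (himg : ∀ (n : N) (m' : M'), φ ((1 : A) ⊗ₜ[B] n) = (1 : A) ⊗ₜ[A'] m' ↔ ∃ d : D', π₁ d = n ∧ π₂ d = m') :
    IsAzumaya B' D' := by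
  let φl : A ⊗[B] N ≃ₗ[A] A ⊗[A'] M' := φ.toLinearEquiv
  let ι : D' →ₗ[B'] ↥(EtMil.glue B' φl) :=
    (π₁.toLinearMap.prod π₂.toLinearMap).codRestrict (EtMil.glue B' φl) fun d => (himg _ _).mpr ⟨d, rfl, rfl⟩
  have hι : Function.Bijective ι := by
    refine ⟨(injective_iff_map_eq_zero ι).mpr fun d hd => ?_, ?_⟩
    · have h := congrArg Subtype.val hd
      exact hinj d (congrArg Prod.fst h) (congrArg Prod.snd h)
    · rintro ⟨⟨n, m⟩, hx⟩
      obtain ⟨d, h1, h2⟩ := (himg n m).mp hx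
      exact ⟨d, Subtype.ext (Prod.ext h1 h2)⟩
  let e := LinearEquiv.ofBijective ι hι
  obtain ⟨hb₁, hb₂⟩ := Groth.Agent.S2019.result B' B A' A hsq N M' φl
  let Φ₁ : B ⊗[B'] D' →ₐ[B] N :=
    Algebra.TensorProduct.lift (Algebra.ofId B N) π₁ fun b d => Algebra.commutes b (π₁ d)
  let Φ₂ : A' ⊗[B'] D' →ₐ[A'] M' :=
    Algebra.TensorProduct.lift (Algebra.ofId A' M') π₂ fun b d => Algebra.commutes b (π₂ d)
  have h₁ : ∀ z, Φ₁ z = LinearMap.liftBaseChange B (EtMil.glueFst B' φl) (LinearEquiv.baseChange B' B _ _ e z) := by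
    intro z
    induction z using TensorProduct.induction_on with
    | zero => simp
    | add x y hx hy => rw [map_add, map_add, map_add, hx, hy]
    | tmul b d =>
      simp [Φ₁, e, ι, EtMil.glueFst, Algebra.smul_def] <;> rfl
  have h₂ : ∀ z, Φ₂ z = LinearMap.liftBaseChange A' (EtMil.glueSnd B' φl) (LinearEquiv.baseChange B' A' _ _ e z) := by
    intro z
    induction z using TensorProduct.induction_on with
    | zero => simp
    | add x y hx hy => rw [map_add, map_add, map_add, hx, hy]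
    | tmul b d =>
      simp [Φ₂, e, ι, EtMil.glueSnd, Algebra.smul_def] <;> rfl
  have hΦ₁ : Function.Bijective Φ₁ := by
    rw [show (Φ₁ : _ → N) = _ ∘ LinearEquiv.baseChange B' B _ _ e from funext h₁]
    exact hb₁.comp (LinearEquiv.baseChange B' B _ _ e).bijective
  have hΦ₂ : Function.Bijective Φ₂ := by
    rw [show (Φ₂ : _ → M') = _ ∘ LinearEquiv.baseChange B' A' _ _ e from funext h₂]
    exact hb₂.comp (LinearEquiv.baseChange B' A' _ _ e).bijective
  haveI : IsAzumaya B (B ⊗[B'] D') := IsAzumaya.of_AlgEquiv B N _ (AlgEquiv.ofBijective Φ₁ hΦ₁).symm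
  haveI : IsAzumaya A' (A' ⊗[B'] D') := IsAzumaya.of_AlgEquiv A' M' _ (AlgEquiv.ofBijective Φ₂ hΦ₂).symm
  exact H23Az.isAzumaya_of_pair hsq D'

end Groth.Agent.S14965
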