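import Groth.Statements.S14966
import Mathlib.RingTheory.Ideal.Quotient.Operations
-- import your own Groth.Agent.* helpers here

set_option autoImplicit false
universe u
open EtAlg

namespace Groth.Agent.S14966

/-- Let A → A' be an injective homomorphism of commutative rings and let I ⊆ A be the conductor, i.e.
the annihilator of the A-module A'/A. Then the conductor square formed by A → A/I, A → A', A/I →
A'/IA' and A' → A'/IA' is a fibre product square of rings with A' → A'/IA' surjective: A = A/I
×_{A'/IA'} A'. (The published Lemma is for the conductor square of a finite modification of schemes;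
this row is the underlying statement for one injective ring map, which needs no finiteness.) -/
theorem result (A A' : Type u) [CommRing A] [CommRing A'] [Algebra A A']
    (hinj : Function.Injective (algebraMap A A')) :
    EtMil.IsFibreSquare A (A ⧸ Module.annihilator A (A' ⧸ LinearMap.range (Algebra.linearMap A A'))) A'
      (A' ⧸ Ideal.map (algebraMap A A') (Module.annihilator A (A' ⧸ LinearMap.range (Algebra.linearMap A A')))) := by
  set I := Module.annihilator A (A' ⧸ LinearMap.range (Algebra.linearMap A A'))
  have hI : ∀ i ∈ I, ∀ a' : A', ∃ a, algebraMap A A' a = algebraMap A A' i * a' := by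
    intro i hi a'
    have h := Module.mem_annihilator.mp hi (Submodule.Quotient.mk a')
    rw [← Submodule.Quotient.mk_smul, Submodule.Quotient.mk_eq_zero, LinearMap.mem_range] at h
    obtain ⟨a, ha⟩ := h
    exact ⟨a, by simpa [Algebra.smul_def] using ha⟩
  have key : ∀ z ∈ I.map (algebraMap A A'), ∀ c : A', ∃ i ∈ I, algebraMap A A' i = c * z := by
    intro z hz
    induction hz using Submodule.span_induction with
    | mem w hw =>
      obtain ⟨i, hi, rfl⟩ := hw
      intro c
      obtain ⟨a, ha⟩ := hI i hi c
      refine ⟨a, Module.mem_annihilator.mpr fun q => ?_, by rw [ha, mul_comm]⟩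
      obtain ⟨a'', rfl⟩ := Submodule.Quotient.mk_surjective _ q
      rw [← Submodule.Quotient.mk_smul, Submodule.Quotient.mk_eq_zero, LinearMap.mem_range]
      obtain ⟨b, hb⟩ := hI i hi (c * a'')
      exact ⟨b, by simp only [Algebra.linearMap_apply, Algebra.smul_def, hb, ha]; ring⟩
    | zero => exact fun c => ⟨0, I.zero_mem, by simp⟩
    | add u v _ _ hu hv =>
      intro c
      obtain ⟨i, hi, ei⟩ := hu c
      obtain ⟨j, hj, ej⟩ := hv c
      exact ⟨i + j, I.add_mem hi hj, by rw [map_add, ei, ej, mul_add]⟩
    | smul r u _ hu =>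
      intro c
      obtain ⟨i, hi, ei⟩ := hu (c * r)
      exact ⟨i, hi, by rw [ei, smul_eq_mul, mul_assoc]⟩
  refine ⟨Ideal.Quotient.mk_surjective, fun b a' hba => ?_⟩
  obtain ⟨a, rfl⟩ := Ideal.Quotient.mk_surjective b
  have hd : algebraMap A A' a - a' ∈ I.map (algebraMap A A') := Ideal.Quotient.eq.mp hba
  obtain ⟨i, hi, ei⟩ := key _ hd 1
  refine ⟨a - i, ⟨?_, ?_⟩, fun y hy => hinj ?_⟩
  · show Ideal.Quotient.mk I (a - i) = Ideal.Quotient.mk I a
    rw [Ideal.Quotient.eq]; simpa using hi
  · rw [map_sub, ei, one_mul, sub_sub_cancel]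
  · rw [hy.2, map_sub, ei, one_mul, sub_sub_cancel]

end Groth.Agent.S14966
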