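import Groth.Statements.S14972
import Groth.Agent.H10Coh.Stab.HN
import Groth.Agent.H10Coh.Stab.JHUnique
import Groth.Agent.H10Coh.Stab.TwistInt
import Groth.Agent.H10Coh.Stab.ChainSet
import Groth.Agent.H10Coh.FinType2
-- import your own Groth.Agent.* helpers here

set_option autoImplicit false
open CategoryTheory CategoryTheory.Limits AlgebraicGeometry
open Coherent

namespace Groth.Agent.S14972

open Groth.Agent.H10Coh.Stab

theorem redLE_bridge {d : ℕ} {ψ φ : Polynomial ℚ} (hψ : 0 < StabCat.alpha d ψ) (hφ : 0 < StabCat.alpha d φ) :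
    W4c2simpsonmod1.RedLE d ψ φ ↔ StabCat.RedLE d ψ φ := by
  have key : ∀ m : ℚ, ψ.eval m / W4c2simpsonmod1.rankOf d ψ ≤ φ.eval m / W4c2simpsonmod1.rankOf d φ ↔
      (StabCat.alpha d φ • ψ).eval m ≤ (StabCat.alpha d ψ • φ).eval m := fun m => by
    rw [Polynomial.eval_smul, Polynomial.eval_smul, smul_eq_mul, smul_eq_mul]
    show _ / StabCat.alpha d ψ ≤ _ / StabCat.alpha d φ ↔ _
    rw [div_le_div_iff₀ hψ hφ]
    constructor <;> intro h <;> linarith
  constructor
  · rintro ⟨N, h⟩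
    exact ⟨N.toNat, fun m hm => (key _).1 (by simpa using h (m : ℤ) (by omega))⟩
  · rintro ⟨N, h⟩
    refine ⟨(N : ℤ), fun m hm => ?_⟩
    obtain ⟨j, rfl⟩ := Int.eq_ofNat_of_zero_le (show 0 ≤ m by omega)
    exact (key _).2 (by simpa using h j (by omega))

theorem redLT_bridge {d : ℕ} {ψ φ : Polynomial ℚ} (hψ : 0 < StabCat.alpha d ψ) (hφ : 0 < StabCat.alpha d φ) :
    W4c2simpsonmod1.RedLT d ψ φ ↔ StabCat.RedLT d ψ φ := by
  have key : ∀ m : ℚ, ψ.eval m / W4c2simpsonmod1.rankOf d ψ < φ.eval m / W4c2simpsonmod1.rankOf d φ ↔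
      (StabCat.alpha d φ • ψ).eval m < (StabCat.alpha d ψ • φ).eval m := fun m => by
    rw [Polynomial.eval_smul, Polynomial.eval_smul, smul_eq_mul, smul_eq_mul]
    show _ / StabCat.alpha d ψ < _ / StabCat.alpha d φ ↔ _
    rw [div_lt_div_iff₀ hψ hφ]
    constructor <;> intro h <;> linarith
  constructor
  · rintro ⟨N, h⟩
    exact ⟨N.toNat, fun m hm => (key _).1 (by simpa using h (m : ℤ) (by omega))⟩
  · rintro ⟨N, h⟩
    refine ⟨(N : ℤ), fun m hm => ?_⟩
    obtain ⟨j, rfl⟩ := Int.eq_ofNat_of_zero_le (show 0 ≤ m by omega)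
    exact (key _).2 (by simpa using h j (by omega))

/-- Over the complex numbers, let E be a coherent sheaf on projective n-space which is pure of dimension
d (its support and the support of every nonzero coherent subsheaf have dimension d). Then there is
exactly one finite chain of coherent subsheaves 0 = E_0 ⊂ E_1 ⊂ ⋯ ⊂ E_k = E such that each
successive quotient E_j/E_(j-1) is pure of dimension d and p-semistable (every nonzero coherent
subsheaf G of it with Hilbert polynomial ψ satisfies ψ(m)/r(ψ) ≤ φ(m)/r(φ) for all large integers m,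
φ being the Hilbert polynomial of the quotient and r denoting d! times the degree-d coefficient) and
the reduced Hilbert polynomials φ/r(φ) of consecutive quotients strictly decrease for large
arguments. The chain is recorded as a finite set of subobjects of E, totally ordered by inclusion,
containing 0 and E, all of whose members are coherent. (The published statement is for modules over
a sheaf of rings of differential operators and filtrations by submodules stable under it, and does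
not assume E pure, although quotients pure of dimension d force it; this row is the case of the
structure sheaf, where every coherent subsheaf is stable, and assumes E pure.) -/
theorem result (n d : ℕ)
    (E : (CohB1.ProjSpace n ℂ).Modules) (hE : Coh.IsCoh E)
    (hpure : (topologicalKrullDim ↥(CohB1.support E) = (d : WithBot ℕ∞) ∧
          ∀ (G : (CohB1.ProjSpace n ℂ).Modules) (ι : G ⟶ E), Mono ι → Coh.IsCoh G → ¬ IsZero G → topologicalKrullDim ↥(CohB1.support G) = (d : WithBot ℕ∞))) :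
    ∃! C : Finset (Subobject E),
      ⊥ ∈ C ∧ ⊤ ∈ C ∧ IsChain (fun A B : Subobject E => A ≤ B) (↑C : Set (Subobject E)) ∧
      (∀ A ∈ C, Coh.IsCoh (A : (CohB1.ProjSpace n ℂ).Modules)) ∧
      (∀ A ∈ C, ∀ B ∈ C, ∀ hAB : A < B, (∀ D ∈ C, ¬ (A < D ∧ D < B)) →
        (topologicalKrullDim ↥(CohB1.support (cokernel (Subobject.ofLE A B hAB.le))) = (d : WithBot ℕ∞) ∧
          ∀ (G : (CohB1.ProjSpace n ℂ).Modules) (ι : G ⟶ (cokernel (Subobject.ofLE A B hAB.le))), Mono ι → Coh.IsCoh G → ¬ IsZero G → topologicalKrullDim ↥(CohB1.support G) = (d : WithBot ℕ∞)) ∧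
        (∀ (G : (CohB1.ProjSpace n ℂ).Modules) (ι : G ⟶ (cokernel (Subobject.ofLE A B hAB.le))), Mono ι → Coh.IsCoh G → ¬ IsZero G →
          ∀ φ ψ : Polynomial ℚ, (∀ m : ℤ, (Curv2.euler ℂ (CohB1.ProjSpace n ℂ) (CohB1.tensorMod (cokernel (Subobject.ofLE A B hAB.le)) (Twist.twistProjSpace n ℂ m)) : ℚ) = φ.eval (m : ℚ)) → (∀ m : ℤ, (Curv2.euler ℂ (CohB1.ProjSpace n ℂ) (CohB1.tensorMod G (Twist.twistProjSpace n ℂ m)) : ℚ) = ψ.eval (m : ℚ)) →
            W4c2simpsonmod1.RedLE d ψ φ)) ∧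
      (∀ A ∈ C, ∀ B ∈ C, ∀ B' ∈ C, ∀ hAB : A < B, ∀ hBB : B < B',
        (∀ D ∈ C, ¬ (A < D ∧ D < B)) → (∀ D ∈ C, ¬ (B < D ∧ D < B')) →
        ∀ ψ ψ' : Polynomial ℚ, (∀ m : ℤ, (Curv2.euler ℂ (CohB1.ProjSpace n ℂ) (CohB1.tensorMod (cokernel (Subobject.ofLE A B hAB.le)) (Twist.twistProjSpace n ℂ m)) : ℚ) = ψ.eval (m : ℚ)) →
          (∀ m : ℤ, (Curv2.euler ℂ (CohB1.ProjSpace n ℂ) (CohB1.tensorMod (cokernel (Subobject.ofLE B B' hBB.le)) (Twist.twistProjSpace n ℂ m)) : ℚ) = ψ'.eval (m : ℚ)) →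
          W4c2simpsonmod1.RedLT d ψ' ψ) := by
  let X := CohB1.ProjSpace n ℂ
  haveI : IsProper (CohB1.ProjSpace n ℂ ↘ Spec (CommRingCat.of ℂ)) :=
    inferInstanceAs (IsProper (CohB1.ProjSpace.toSpec n ℂ))
  have hfam := isTwistFamily_projSpace n ℂ
  have hL : CohB1.IsAmple (Twist.twistProjSpace n ℂ 1) := Groth.Agent.H11Ample.isAmple_twistProjSpace n ℂ
  let L := Twist.twistProjSpace n ℂ 1
  have hp : ShStab.IsPure X E d := hpure.2
  have h0 : ¬ IsZero E := fun h => by
    have h1 := hpure.1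
    rw [support_eq_empty_of_isZero h] at h1
    haveI : IsEmpty (TopologicalSpace.IrreducibleCloseds (∅ : Set X)) :=
      ⟨fun C => let ⟨x, _⟩ := C.isIrreducible.nonempty; x.2.elim⟩
    rw [topologicalKrullDim, Order.krullDim_eq_bot] at h1
    exact WithBot.bot_ne_coe h1
  have hint : ∀ (G : X.Modules), Coh.IsCoh G → ShStab.IsPure X G d → ∀ {P : Polynomial ℚ},
      ShStab.IsHilbPoly ℂ X L G P →
      ∀ m : ℤ, (Curv2.euler ℂ X (CohB1.tensorMod G (Twist.twistProjSpace n ℂ m)) : ℚ) = P.eval (m : ℚ) :=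
    fun G hG hGp {P} hP => int_of_isHilbPoly hfam hL hG (dim_lt_succ_of_pure hGp hG) hP
  obtain ⟨s, hs⟩ := exists_hn (k := ℂ) hL hE h0 hp
  have hterm : ∀ i, Coh.IsCoh (s i : X.Modules) := by
    intro i
    induction i using Fin.induction with
    | zero =>
      rw [show s 0 = ⊥ from hs.1]
      exact (good_bot (k := ℂ) (d := 0) hL (0 : Polynomial ℚ)).1
    | succ i ih =>
      haveI := isLocallyNoetherian_of_proper (Z := X) ℂ
      exact Groth.Agent.H10Coh.isCoh_X₂ (S := ShortComplex.mk (Subobject.ofLE _ _ (le_of_lt (s.step i)))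
        (cokernel.π _) (cokernel.condition _)) { exact := ShortComplex.exact_cokernel _ } ih (hs.2.2.1 i).1
  refine ⟨termSet s, ⟨mem_termSet.2 ⟨0, hs.1⟩, mem_termSet.2 ⟨Fin.last _, hs.2.1⟩, isChain_termSet s,
    fun A hA => ?_, fun A hA B hB hAB hcov => ?_, fun A hA B hB B' hB' hAB hBB h₁ h₂ ψ ψ' hψ hψ' => ?_⟩, ?_⟩
  · obtain ⟨i, rfl⟩ := mem_termSet.1 hA
    exact hterm i
  · obtain ⟨i, rfl, rfl⟩ := exists_index_of_cover hA hB hAB hcov
    obtain ⟨hc, hn0, hip, hss⟩ := hs.2.2.1 i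
    refine ⟨⟨dim_self_of_pure hip hc hn0, hip⟩, fun G ι hι hG hG0 φ ψ hφ hψ => ?_⟩
    haveI := hι
    have hG' := isHilbPoly_of_int hfam hψ
    have hF' := isHilbPoly_of_int hfam hφ
    refine (redLE_bridge (alpha_pos_of_pure hL (fun F κ hκ hF hF0 => hip F (κ ≫ ι) (@mono_comp _ _ _ _ _ κ hκ _ hι) hF hF0) hG hG0 hG')
      (alpha_pos_of_pure hL hip hc hn0 hF')).2 ?_
    by_cases hi : IsIso ι
    · rw [Groth.Agent.H25Euler.hilbPoly_unique hG'
        (Groth.Agent.H25Euler.hilbPoly_congr (@asIso _ _ _ _ ι hi).symm hF')]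
      exact redLE_of_redEq (redEq_refl _ _)
    · exact hss G ι hι hG hG0 hi ψ φ hG' hF'
  · obtain ⟨i, rfl, rfl⟩ := exists_index_of_cover hA hB hAB h₁
    obtain ⟨j, hj, rfl⟩ := exists_index_of_cover hB hB' hBB h₂
    have hij : j.castSucc = i.succ := s.strictMono.injective hj
    have h₁' := isHilbPoly_of_int hfam hψ
    have h₂' := isHilbPoly_of_int hfam hψ'
    have hS₂ : ShStab.IsHilbPoly ℂ X L (StabCat.factor s j) ψ' :=
      Groth.Agent.H25Euler.hilbPoly_congr (cokernelOfLEIso hj rfl (le_of_lt (s.step j)) hBB.le).symm h₂'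
    exact (redLT_bridge (alpha_pos_of_pure hL (hs.2.2.1 j).2.2.1 (hs.2.2.1 j).1 (hs.2.2.1 j).2.1 hS₂)
      (alpha_pos_of_pure hL (hs.2.2.1 i).2.2.1 (hs.2.2.1 i).1 (hs.2.2.1 i).2.1 h₁')).2
      (hs.2.2.2 i j (by have := congrArg Fin.val hij; simp at this; omega) ψ ψ' h₁' hS₂)
  · rintro C ⟨hbot, htop, hchain, hcoh, hss, hdec⟩
    obtain ⟨t, rfl⟩ := exists_series_of_chain C ⟨⊥, hbot⟩ hchain
    refine congrArg termSet (hn_unique (k := ℂ) hL ?_ hs)
    have hmem : ∀ i, t i ∈ termSet t := fun i => mem_termSet.2 ⟨i, rfl⟩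
    have hlt : ∀ i : Fin t.length, t i.castSucc < t i.succ := t.step
    have hsm : ∀ i : Fin t.length, ShStab.IsSemistable ℂ X L (StabCat.factor t i) d := by
      intro i
      obtain ⟨⟨hdim, hip⟩, h⟩ := hss _ (hmem i.castSucc) _ (hmem i.succ) (hlt i) (not_between i)
      haveI := isLocallyNoetherian_of_proper (Z := X) ℂ
      have hc : Coh.IsCoh (StabCat.factor t i) :=
        Groth.Agent.H10Coh.isCoh_cokernel _ (hcoh _ (hmem i.castSucc)).1 (hcoh _ (hmem i.succ))
      have hn0 : ¬ IsZero (StabCat.factor t i) := fun hz => by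
        haveI := Preadditive.epi_of_isZero_cokernel _ hz
        haveI := isIso_of_mono_of_epi (Subobject.ofLE _ _ (hlt i).le)
        exact (hlt i).not_ge (Subobject.le_of_comm (inv (Subobject.ofLE _ _ (hlt i).le))
          (by rw [IsIso.inv_comp_eq, Subobject.ofLE_arrow]))
      refine ⟨hc, hn0, hip, fun G ι hι hG hG0 _ pG pF hpG hpF => ?_⟩
      haveI := hι
      have hGp : ShStab.IsPure X G d := fun F κ hκ hF hF0 => hip F (κ ≫ ι) (@mono_comp _ _ _ _ _ κ hκ _ hι) hF hF0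
      exact (redLE_bridge (alpha_pos_of_pure hL hGp hG hG0 hpG) (alpha_pos_of_pure hL hip hc hn0 hpF)).1
        (h G ι hι hG hG0 pF pG (hint _ hc hip hpF) (hint G hG hGp hpG))
    refine ⟨head_eq_bot hbot, last_eq_top htop, hsm, fun i j hij p q hp hq => ?_⟩
    have hj : t j.castSucc = t i.succ := congrArg t (Fin.ext (by simp; omega))
    have hlt' : t i.succ < t j.succ := hj ▸ hlt j
    have hcov : ∀ D ∈ termSet t, ¬ (t i.succ < D ∧ D < t j.succ) := hj ▸ not_between j
    obtain ⟨hQc, hQ0, hQp, -⟩ := hsm j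
    let e : StabCat.factor t j ≅ cokernel (Subobject.ofLE _ _ hlt'.le) :=
      cokernelOfLEIso hj rfl (le_of_lt (t.step j)) hlt'.le
    have hq' := hint _ (Groth.Agent.H10Coh.isCoh_of_iso e hQc) (isSemistable_congr e (hsm j)).2.2.1
      (Groth.Agent.H25Euler.hilbPoly_congr e hq)
    exact (redLT_bridge (alpha_pos_of_pure hL hQp hQc hQ0 hq)
      (alpha_pos_of_pure hL (hsm i).2.2.1 (hsm i).1 (hsm i).2.1 hp)).1
      (hdec _ (hmem i.castSucc) _ (hmem i.succ) _ (hmem j.succ) (hlt i) hlt' (not_between i) hcov p q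
        (hint _ (hsm i).1 (hsm i).2.2.1 hp) hq')
end Groth.Agent.S14972
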