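import Groth.Statements.S1498
import Groth.Agent.H8Norm.UniformFibreVanish
import Groth.Agent.LeadBC.GenBC.ZeroApply
import Groth.Agent.LeadBC.GenBC.Apply
import Groth.Agent.H17.MonoField
import Groth.Agent.H10Coh.SheafHom.Flat
import Groth.Agent.H8Props.FinLocFree.Sheaf
import Groth.Agent.H23Para.Restrict

set_option autoImplicit false
universe u
attribute [local instance] HasDerivedCategory.standard
open FlatMor

namespace Groth.Agent.S1498

open AlgebraicGeometry CategoryTheory Limits in
/-- Parts (1) and (2) (the source moreover reconstructs X' as the relative Proj of the resulting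
algebra, which is not stated here): let f : X → S be proper, flat and of finite presentation with S
quasi-compact, and let L be an O_X-module ample relative to f. Then there is d₀ ≥ 0 such that for
every thickening i : S → S', every proper flat morphism of finite presentation f' : X' → S' with a
cartesian square over i, and every invertible O_{X'}-module L' pulling back to L, for all d ≥ d₀ the
cohomology H^p, p > 0, of L'^{⊗d} vanishes over the preimage of every affine open of S' and f'_*
L'^{⊗d} is a finite locally free O_{S'}-module. -/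
theorem result {X S : Scheme.{u}} (f : X ⟶ S) [IsProper f] [Flat f] [LocallyOfFinitePresentation f] [CompactSpace ↑S]
    (L : X.Modules) (hL : RelAmple.IsRelAmple f L) :
    ∃ d₀ : ℕ, ∀ (X' S' : Scheme.{u}) (i : S ⟶ S') (i' : X ⟶ X') (f' : X' ⟶ S') (hi : MoreMor.IsThickening i) (hc : IsPullback i' f f' i)
      (hf'₁ : IsProper f') (hf'₂ : Flat f') (hf'₃ : LocallyOfFinitePresentation f') (L' : X'.Modules) (hL' : PicF.IsInvertible L')
      (e : Nonempty ((Scheme.Modules.pullback i').obj L' ≅ L)) (d : ℕ), d₀ ≤ d →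
        (∀ (U : S'.Opens) (p : ℕ), IsAffineOpen U → 0 < p → Subsingleton (Coh.HHon X' (CohB1.tensorPow L' d) (f' ⁻¹ᵁ U) p)) ∧
        FlatMod.IsFinLocFree ((Scheme.Modules.pushforward f').obj (CohB1.tensorPow L' d)) := by
  obtain ⟨n₀, hn₀⟩ := H8Norm.UniformFibreVanish.exists_bound f L hL
  refine ⟨n₀, fun X' S' i i' f' hi hc hf'₁ hf'₂ hf'₃ L' hL' e d hd => ?_⟩
  haveI := hf'₁; haveI := hf'₂; haveI := hf'₃
  haveI := hi.1; haveI := hi.2
  obtain ⟨e⟩ := e
  let F : X'.Modules := CohB1.tensorPow L' d
  have hFi : PicF.IsInvertible F := H11Ample.isInvertible_tensorPow hL' d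
  have hF : CohB1.IsFP F := H8Props.FinLocFree.isFP_of_isFinLocFree F (H23Para.isFinLocFree_of_isInvertible hFi)
  haveI : F.IsQuasicoherent := H29Fitt.isQCoh_of_isFP F hF
  have hfl : FlatMod.IsFlatOver f' F :=
    H10Coh.SheafHom.isFlatOver_of_isFinLocFree f' F (H23Para.isFinLocFree_of_isInvertible hFi)
  have hvan : ∀ (y : S') (p : ℕ), 1 ≤ p → Subsingleton (CohIII.fiberH f' F y p) := by
    intro y p hp
    obtain ⟨s, rfl⟩ := i.surjective y
    haveI := H17.MonoField.isIso_residueFieldMap_of_mono i s
    let t : Spec (S'.residueField (i s)) ⟶ S := Spec.map (inv (i.residueFieldMap s)) ≫ S.fromSpecResidueField s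
    have ht : t ≫ i = S'.fromSpecResidueField (i s) := by
      rw [Category.assoc, ← Scheme.Hom.SpecMap_residueFieldMap_fromSpecResidueField, ← Spec.map_comp_assoc,
        IsIso.hom_inv_id, Spec.map_id, Category.id_comp]
    let a : f'.fiber (i s) ⟶ X := hc.lift (f'.fiberι (i s)) (f'.fiberToSpecResidueField (i s) ≫ t)
      (by rw [Category.assoc, ht]; exact f'.fiber_fac (i s))
    have hsq : IsPullback a (f'.fiberToSpecResidueField (i s)) f t := by
      refine IsPullback.of_right ?_ (hc.lift_snd _ _ _) hc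
      rw [hc.lift_fst, ht]
      exact IsPullback.of_hasPullback f' (S'.fromSpecResidueField (i s))
    have hh := hn₀ d hd (S'.residueField (i s)) t (f'.fiber (i s)) a _ hsq p hp
    letI : (f'.fiber (i s)).Over (Spec (CommRingCat.of (S'.residueField (i s)))) := ⟨f'.fiberToSpecResidueField (i s)⟩
    obtain ⟨eP⟩ := H11Ample.exists_iso_pullback_tensorPow (f'.fiberι (i s)) hL' d
    let eL : H25Theta.pb a L ≅ H25Theta.pb (f'.fiberι (i s)) L' :=
      (Scheme.Modules.pullback a).mapIso e.symm ≪≫ H25Theta.pC a i' (hc.lift_fst _ _ _) L'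
    exact ((LeadBC.HMod (S'.residueField (i s)) p).mapIso
      (H10Coh.Tw.tensorPowIso eL d ≪≫ eP.symm)).toLinearEquiv.toEquiv.subsingleton_congr.1 hh
  haveI : HasInjectiveResolutions X'.Modules := inferInstance
  refine ⟨fun U p hU hp => ?_, ?_⟩
  · have hz : IsZero (((Coh.Rpush f' p).obj F).restrict U.ι) :=
      LeadBC.GenBC.isZero_restrict_of_local _ fun y _ => by
        obtain ⟨W, -, hy, -, -, hz, -⟩ := LeadBC.GenBC.exists_vanishing_nhd f' F hF hfl p (hvan y p hp)
        exact ⟨W, hy, hz⟩
    obtain ⟨eU, -⟩ := LeadBC.exists_rpushEquiv f' hU F p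
    haveI : Subsingleton Γ((Coh.Rpush f' p).obj F, U) := H8Norm.UniformFibreVanish.subsingleton_sections _ U hz
    exact eU.toEquiv.subsingleton
  · refine LeadBC.GenBC.isFinLocFree_push f' F hF hfl fun y => ?_
    obtain ⟨W, hW, hy, -, hm, -⟩ := LeadBC.GenBC.exists_vanishing_nhd f' F hF hfl 1 (hvan y 1 le_rfl)
    exact ⟨W, hW, hy, (LeadBC.GenBC.monoOn_succ_iff f' F hW hF hfl 0).1 hm⟩

end Groth.Agent.S1498
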