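import Groth.Statements.S14980
import Groth.Agent.H20Inertia.Points

set_option autoImplicit false
universe u
open CategoryTheory MonoidalCategory CartesianMonoidalCategory MonObj AlgebraicGeometry
open CoactBr

namespace Groth.Agent.S14980
theorem conj_fix {R A B : Type u} [CommRing R] [CommRing A] [HopfAlgebra R A] [CommRing B] [Algebra R B]
    [HopfRep.Comod R A B] [GLin.IsCoactAlg R A B] {T : Over (Spec (CommRingCat.of R))}
    (y₁ y₂ : T ⟶ CoactBr.sp R B) (g k : T ⟶ CoactBr.sp R A) (hy : y₂ = lift y₁ g ≫ CoactBr.ract R A B) :
    lift k y₁ ≫ (CoactBr.action R A B).act = y₁ ↔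
      lift (g⁻¹ * k * g) y₂ ≫ (CoactBr.action R A B).act = y₂ := by
  open Groth.Agent.H20Inertia in
  rw [lift_eq_iff, lift_eq_iff, hy, mul_inv_rev, mul_inv_rev, inv_inv, CoactBr.lift_ract_ract, mul_inv_cancel_left, ← CoactBr.lift_ract_ract y₁ k⁻¹ g]
  constructor
  · intro h; rw [h]
  · intro h
    have h2 := congrArg (fun z => lift z g⁻¹ ≫ CoactBr.ract R A B) h
    simpa only [CoactBr.lift_ract_ract, mul_inv_cancel, mul_inv_cancel_right, CoactBr.lift_one_ract, _root_.mul_one,
      _root_.mul_assoc] using h2


/-- Let `R` be a commutative ring, `A` a commutative Hopf algebra over `R` which is finite locally free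
as an `R`-module (`G = Spec A` a finite locally free group scheme over `S = Spec R`), `B` a
commutative `R`-algebra, flat over `R`, with a coaction of `A` that is an algebra map (an action of
`G` on `X = Spec B`) whose ring of invariants is `R` itself (the structure map `R → B^A` is
bijective, so `S` is the quotient of `X` by `G`), and `K` an algebraically closed field over `R`, a
geometric point of `S`. For any two `K`-points `x₁, x₂ : B → K` of `X` (which lie over that
geometric point of `S`) there is a `K`-point `g` of `G` conjugating the inertia group scheme at `x₂`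
onto the one at `x₁`: for every scheme `T` over `Spec K` and every `T`-point `k` of `G`, `k` fixes
the `T`-point of `X` induced by `x₁` if and only if `g⁻¹ k g` fixes the one induced by `x₂`. (The
published statement takes the points to be the canonical points of the primes of `B` over a prime of
`B^A`, base-changed to an algebraic closure of its residue field; any two `K`-points with `K`
algebraically closed are treated here, which is what the argument gives; and `G` finite over `S` is
read as finite locally free, the standing flatness included.) -/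
theorem result
    (R A B K : Type u) [CommRing R] [CommRing A] [HopfAlgebra R A]
    [Module.Flat R A] [Module.Finite R A] [Module.Projective R A]
    [CommRing B] [Algebra R B] [Module.Flat R B] [HopfRep.Comod R A B] [GLin.IsCoactAlg R A B]
    (hC : Function.Bijective (algebraMap R (GLin.invariants R A B)))
    [Field K] [IsAlgClosed K] [Algebra R K] (x₁ x₂ : B →ₐ[R] K) :
    ∃ g : CoactBr.sp R K ⟶ CoactBr.sp R A,
      ∀ (T : Over (Spec (CommRingCat.of R))) (h : T ⟶ CoactBr.sp R K) (k : T ⟶ CoactBr.sp R A),
        lift k (h ≫ CoactBr.pt x₁) ≫ (CoactBr.action R A B).act = h ≫ CoactBr.pt x₁ ↔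
          lift ((h ≫ g)⁻¹ * k * (h ≫ g)) (h ≫ CoactBr.pt x₂) ≫ (CoactBr.action R A B).act =
            h ≫ CoactBr.pt x₂ := by
  open Groth.Agent.H20Inertia in
  have hC' : ∀ f : B, HopfRep.Comod.coact (k := R) (A := A) f = f ⊗ₜ[R] (1 : A) → f ∈ Set.range (algebraMap R B) := by
    intro f hf
    obtain ⟨r, hr⟩ := hC.2 ⟨f, hf⟩
    exact ⟨r, congrArg Subtype.val hr⟩
  obtain ⟨γ, hγ⟩ := exists_move_eq_of_flat (A := A) hC' x₁ x₂
  refine ⟨CoactBr.pt γ, fun T h k => conj_fix _ _ _ _ ?_⟩
  rw [hγ, pt_move, ← comp_lift, Category.assoc]

end Groth.Agent.S14980
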