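import Groth.Statements.S14982
import Groth.Agent.H20Inertia.Free
import Mathlib.AlgebraicGeometry.Morphisms.Flat
import Mathlib.AlgebraicGeometry.Morphisms.FinitePresentation

set_option autoImplicit false
universe u
open CategoryTheory MonoidalCategory CartesianMonoidalCategory MonObj AlgebraicGeometry
open CoactBr

namespace Groth.Agent.S14982
open Groth.Agent.H20Inertia in
open scoped TensorProduct in
theorem exists_cover (R A B : Type u) [CommRing R] [CommRing A] [HopfAlgebra R A]
    [Module.Flat R A] [Module.Finite R A] [CommRing B] [Algebra R B] [HopfRep.Comod R A B] [GLin.IsCoactAlg R A B]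
    (c : GLin.invariants R A B)
    (hfree : ∀ (L : Type u) [CommRing L] [Algebra R L] (ζ : B →ₐ[R] L) (g : A →ₐ[R] L),
      IsUnit (ζ c) → move ζ g = ζ → g = (1 : WithConv (A →ₐ[R] L)).ofConv)
    (T : Over (Spec (CommRingCat.of R))) (ζ : T ⟶ CoactBr.sp R B)
    (t : T.left ⟶ Spec (CommRingCat.of (Localization.Away c)))
    (ht : t ≫ Spec.map (CommRingCat.ofHom (algebraMap (GLin.invariants R A B) (Localization.Away c))) =
      ζ.left ≫ Spec.map (CommRingCat.ofHom (GLin.invariants R A B).val.toRingHom))
    (g : T ⟶ CoactBr.sp R A) (hg : lift g ζ ≫ (CoactBr.action R A B).act = ζ) : g = 1 := by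
  obtain ⟨L, _, _, τ, hτ⟩ := exists_pt_factor T
  obtain ⟨ζ', rfl⟩ := (hτ B).1 ζ
  let t' : T ⟶ CoactBr.sp R (Localization.Away c) := Over.homMk t (by
    show t ≫ Spec.map (CommRingCat.ofHom (algebraMap R (Localization.Away c))) = T.hom
    rw [IsScalarTower.algebraMap_eq R (GLin.invariants R A B) (Localization.Away c), CommRingCat.ofHom_comp, Spec.map_comp, ← Category.assoc, ht]
    refine (Category.assoc _ _ _).trans (Eq.trans ?_ (Over.w (τ ≫ CoactBr.pt ζ')))
    exact congrArg _ (Spec.map_comp _ _).symm)
  obtain ⟨φ, hφ⟩ := (hτ (Localization.Away c)).1 t'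
  have heq : φ.comp (IsScalarTower.toAlgHom R (GLin.invariants R A B) (Localization.Away c)) = ζ'.comp (GLin.invariants R A B).val := by
    refine (hτ (GLin.invariants R A B)).2 _ _ ?_
    rw [CoactBr.pt_comp, CoactBr.pt_comp, ← Category.assoc, ← Category.assoc, ← hφ]
    exact Over.OverMorphism.ext ht
  have hu : IsUnit (ζ' c) := by
    rw [show ζ' c = (ζ'.comp (GLin.invariants R A B).val) c from rfl, ← heq]
    exact (IsLocalization.Away.algebraMap_isUnit c).map φ
  obtain ⟨g', hg'⟩ := (hτ A).1 g⁻¹
  rw [lift_eq_iff, hg', ← comp_lift, Category.assoc, ← pt_move] at hg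
  have := hfree L ζ' g' hu ((hτ B).2 _ _ hg)
  rw [← inv_inj, inv_one, hg', this, pt_one_eq, MonObj.comp_one]

open Groth.Agent.H20Inertia in
open scoped TensorProduct in
theorem inert_of_cover (R A B K : Type u) [CommRing R] [CommRing A] [HopfAlgebra R A]
    [Module.Flat R A] [Module.Finite R A] [CommRing B] [Algebra R B] [HopfRep.Comod R A B] [GLin.IsCoactAlg R A B]
    [Field K] [Algebra R K] (x : B →ₐ[R] K) (Y' : Scheme.{u}) (c : Y' ⟶ Spec (CommRingCat.of (GLin.invariants R A B)))
    (y' : Y') (hy : c.base y' = (Spec.map (CommRingCat.ofHom (x.toRingHom.comp (GLin.invariants R A B).val.toRingHom))).base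
            (IsLocalRing.closedPoint K))
    (hfree : ∀ (T : Over (Spec (CommRingCat.of R))) (ζ : T ⟶ CoactBr.sp R B),
          (∃ t : T.left ⟶ Y', t ≫ c = ζ.left ≫ Spec.map (CommRingCat.ofHom (GLin.invariants R A B).val.toRingHom)) →
          ∀ g : T ⟶ CoactBr.sp R A, lift g ζ ≫ (CoactBr.action R A B).act = ζ → g = 1) :
    InertTriv A x := by
  intro L _ _ h g hg
  let F := Y'.residueField y'
  let ψ : CommRingCat.of (GLin.invariants R A B) ⟶ F := Spec.preimage (Y'.fromSpecResidueField y' ≫ c)
  have hψ : Spec.map ψ = Y'.fromSpecResidueField y' ≫ c := Spec.map_preimage _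
  have hker : RingHom.ker (x.toRingHom.comp (GLin.invariants R A B).val.toRingHom) = RingHom.ker ψ.hom := by
    have h1 : (Spec.map ψ).base (IsLocalRing.closedPoint F) = c.base y' := by
      rw [hψ]
      exact congrArg c.base (Scheme.fromSpecResidueField_apply y' _)
    rw [hy] at h1
    have h2 : Ideal.comap ψ.hom (IsLocalRing.maximalIdeal F) =
        Ideal.comap (x.toRingHom.comp (GLin.invariants R A B).val.toRingHom) (IsLocalRing.maximalIdeal K) := congrArg PrimeSpectrum.asIdeal h1
    rw [IsLocalRing.maximalIdeal_eq_bot, IsLocalRing.maximalIdeal_eq_bot] at h2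
    exact h2.symm
  letI : Algebra (GLin.invariants R A B) K := (x.toRingHom.comp (GLin.invariants R A B).val.toRingHom).toAlgebra
  letI : Algebra (GLin.invariants R A B) F := ψ.hom.toAlgebra
  obtain ⟨Ω, _, _, _, i₁, i₂, -⟩ := exists_common_field (R := (GLin.invariants R A B)) (K₁ := K) (K₂ := F) hker
  letI : Algebra R Ω := ((algebraMap (GLin.invariants R A B) Ω).comp (algebraMap R (GLin.invariants R A B))).toAlgebra
  let j : K →ₐ[R] Ω := { i₁.toRingHom with
    commutes' := fun r =>
      (congrArg i₁ (x.commutes r).symm).trans (i₁.commutes (algebraMap R (GLin.invariants R A B) r)) }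
  letI : Algebra K Ω := j.toRingHom.toAlgebra
  letI : Algebra K L := h.toRingHom.toAlgebra
  haveI : IsScalarTower R K L := IsScalarTower.of_algebraMap_eq fun r => (h.commutes r).symm
  haveI : IsScalarTower R K Ω := IsScalarTower.of_algebraMap_eq fun r => (j.commutes r).symm
  let iΩ : Ω →ₐ[R] Ω ⊗[K] L := (Algebra.TensorProduct.includeLeft : Ω →ₐ[R] Ω ⊗[K] L)
  let iL : L →ₐ[R] Ω ⊗[K] L := (Algebra.TensorProduct.includeRight : L →ₐ[K] Ω ⊗[K] L).restrictScalars R
  have hcomm : iL.comp h = iΩ.comp j := AlgHom.ext fun c => by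
    show (1 : Ω) ⊗ₜ[K] (algebraMap K L c) = (algebraMap K Ω c) ⊗ₜ[K] (1 : L)
    rw [Algebra.algebraMap_eq_smul_one, Algebra.algebraMap_eq_smul_one, TensorProduct.smul_tmul]
  have hfix : move ((iL.comp h).comp x) (iL.comp g) = (iL.comp h).comp x := by
    rw [AlgHom.comp_assoc]
    exact (comp_move iL (h.comp x) g).symm.trans (congrArg iL.comp hg)
  have h5 : (CoactBr.pt (iL.comp g))⁻¹ = 1 := by
    refine hfree (CoactBr.sp R (Ω ⊗[K] L)) (CoactBr.pt ((iL.comp h).comp x))
      ⟨Spec.map (CommRingCat.ofHom iΩ.toRingHom) ≫ Spec.map (CommRingCat.ofHom i₂.toRingHom) ≫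
        Y'.fromSpecResidueField y', ?_⟩ _ ?_
    · have hc : (Spec.map (CommRingCat.ofHom iΩ.toRingHom) ≫ Spec.map (CommRingCat.ofHom i₂.toRingHom) ≫
          Y'.fromSpecResidueField y') ≫ c =
          Spec.map (CommRingCat.ofHom ((iL.comp h).comp x).toRingHom) ≫
            Spec.map (CommRingCat.ofHom (GLin.invariants R A B).val.toRingHom) := by
        rw [Category.assoc, Category.assoc, ← hψ, ← Spec.map_comp, ← Spec.map_comp, ← Spec.map_comp]
        congr 1
        refine CommRingCat.hom_ext (RingHom.ext fun f => ?_)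
        show iΩ (i₂ (ψ.hom f)) = (iL.comp h) (x f)
        rw [hcomm]
        exact congrArg iΩ ((i₂.commutes f).trans (i₁.commutes f).symm)
      exact hc
    · rw [lift_eq_iff, inv_inv, ← pt_move, hfix]
  refine AlgHom.ext fun a => Algebra.TensorProduct.includeRight_injective (A := Ω) (B := L) (algebraMap K Ω).injective ?_
  show iL (g a) = iL _
  rw [← AlgHom.comp_apply, ← AlgHom.comp_apply, Groth.Agent.H20Inertia.comp_one, CoactBr.pt_injective ((inv_eq_one.1 h5).trans pt_one_eq.symm)]


/-- Let `R` be a commutative ring, `A` a commutative Hopf algebra over `R` which is finite locally free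
as an `R`-module (`G = Spec A` a finite flat group scheme over `S = Spec R`), `B` a commutative
`R`-algebra with a coaction of `A` that is an algebra map (an action of `G` on `X = Spec B`), `C =
B^A` the ring of invariants and `π : X → Y = Spec C` the quotient map. Let `K` be a field over `R`,
`x : B → K` an `R`-algebra map (a point of `X`) and `y` the image in `Y` of the point underlying
`x`. Then the inertia group scheme at `x` is trivial (for every scheme `T` over `Spec K`, every
`T`-point of `G` fixing the point of `X` induced by `x` is the unit) if and only if there is a flat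
morphism locally of finite presentation `Y' → Y` whose image contains `y` and over which the action
becomes free: for every scheme `T` over `S` and every `T`-point `ζ` of `X` whose composite with `π`
lifts to `Y'`, every `T`-point of `G` fixing `ζ` is the unit (this is freeness of the base-changed
action of `G ×_S Y'` on `X ×_Y Y'`, written through points of `G` and `X`). (`G` finite flat is read
as finite locally free. The published result also says that `X ×_Y Y'` is then a torsor under
`G_{Y'}` and gives a third equivalent condition, that after a further fppf base change the action is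
induced from an action of the trivial group; neither is stated here.) -/
theorem result
    (R A B K : Type u) [CommRing R] [CommRing A] [HopfAlgebra R A]
    [Module.Flat R A] [Module.Finite R A] [Module.Projective R A]
    [CommRing B] [Algebra R B] [HopfRep.Comod R A B] [GLin.IsCoactAlg R A B]
    [Field K] [Algebra R K] (x : B →ₐ[R] K) :
    (∀ (T : Over (Spec (CommRingCat.of R))) (h : T ⟶ CoactBr.sp R K) (g : T ⟶ CoactBr.sp R A),
        lift g (h ≫ CoactBr.pt x) ≫ (CoactBr.action R A B).act = h ≫ CoactBr.pt x → g = 1) ↔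
      ∃ (Y' : Scheme.{u}) (c : Y' ⟶ Spec (CommRingCat.of (GLin.invariants R A B))),
        Flat c ∧ LocallyOfFinitePresentation c ∧
        (∃ y' : Y', c.base y' =
          (Spec.map (CommRingCat.ofHom (x.toRingHom.comp (GLin.invariants R A B).val.toRingHom))).base
            (IsLocalRing.closedPoint K)) ∧
        ∀ (T : Over (Spec (CommRingCat.of R))) (ζ : T ⟶ CoactBr.sp R B),
          (∃ t : T.left ⟶ Y', t ≫ c = ζ.left ≫ Spec.map (CommRingCat.ofHom (GLin.invariants R A B).val.toRingHom)) →
          ∀ g : T ⟶ CoactBr.sp R A, lift g ζ ≫ (CoactBr.action R A B).act = ζ → g = 1 := by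
  constructor
  · intro hx
    obtain ⟨c, hc, hfree⟩ := Groth.Agent.H20Inertia.exists_free_cut x ((Groth.Agent.H20Inertia.inertTriv_iff x).1 hx)
    refine ⟨Spec (CommRingCat.of (Localization.Away c)),
      Spec.map (CommRingCat.ofHom (algebraMap (GLin.invariants R A B) (Localization.Away c))), ?_, ?_, ?_, ?_⟩
    · exact inferInstance
    · exact inferInstance
    · have hm : (Spec.map (CommRingCat.ofHom (x.toRingHom.comp (GLin.invariants R A B).val.toRingHom))).base
          (IsLocalRing.closedPoint K) ∈ Set.range (PrimeSpectrum.comap (algebraMap (GLin.invariants R A B) (Localization.Away c))) := by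
        rw [PrimeSpectrum.localization_away_comap_range (Localization.Away c) c]
        show ¬ (x c.1 ∈ IsLocalRing.maximalIdeal K)
        rw [IsLocalRing.maximalIdeal_eq_bot]
        exact hc
      exact hm
    · rintro T ζ ⟨t, ht⟩ g hg
      exact exists_cover R A B c hfree T ζ t ht g hg
  · rintro ⟨Y', c, -, -, ⟨y', hy⟩, hfree⟩
    exact (Groth.Agent.H20Inertia.inertTriv_iff x).2 (inert_of_cover R A B K x Y' c y' hy hfree)

end Groth.Agent.S14982
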