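import Groth.Statements.S14983


set_option autoImplicit false
universe u v w w'
open HopfRep

namespace Groth.Agent.S14983
open TensorProduct in
theorem comul_tmul_of_sum (R : Type*) (S : Type*) (A : Type*) [CommRing R] [CommRing S] [Algebra R S]
    [CommRing A] [Bialgebra R A] {ι : Type*} (t : Finset ι) (s : S) (a : A) (a₀ a₁ : ι → A)
    (h : CoalgebraStruct.comul (R := R) a = ∑ i ∈ t, a₀ i ⊗ₜ[R] a₁ i) :
    CoalgebraStruct.comul (R := S) (s ⊗ₜ[R] a : S ⊗[R] A) = ∑ i ∈ t, ((1 : S) ⊗ₜ[R] a₀ i) ⊗ₜ[S] (s ⊗ₜ[R] a₁ i) := by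
  rw [TensorProduct.comul_def]
  simp only [LinearMap.comp_apply, AlgebraTensorModule.map_tmul, h, CommSemiring.comul_apply, tmul_sum, map_sum]
  rfl


/-- Let `R` be a commutative ring, `S` a commutative `R`-algebra, `A` a commutative Hopf algebra over
`R`, flat as an `R`-module, and `B` a commutative `R`-algebra with a coaction of `A` that is an
algebra map (an action of `G = Spec A` on `X = Spec B`). If the action is tame, i.e. admits a total
integral (a comodule map `α : A → B` for the regular coaction on `A` with `α 1 = 1`), then so is its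
base change along `R → S`: there is an `S`-linear map `S ⊗ A → S ⊗ B` which is a comodule map for
the base-changed coactions (regular coaction of the `S`-Hopf algebra `S ⊗ A` on itself, base-changed
coaction on `S ⊗ B`) and sends `1` to `1`. -/
theorem result
    (R : Type u) (S : Type v) (A : Type w) (B : Type w')
    [CommRing R] [CommRing S] [Algebra R S] [CommRing A] [HopfAlgebra R A] [Module.Flat R A]
    [CommRing B] [Algebra R B] [HopfRep.Comod R A B] [GLin.IsCoactAlg R A B]
    (htame : ∃ α : A →ₗ[R] B, Hoch.IsComodHom A α ∧ α 1 = 1) :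
    ∃ α' : TensorProduct R S A →ₗ[S] TensorProduct R S B,
      @Hoch.IsComodHom S _ (TensorProduct R S A) _ _ _ (TensorProduct R S A) _ _
        (HopfRep.Comod.regular S (TensorProduct R S A)) (TensorProduct R S B) _ _
        (CoactBr.Comod.baseChange R S A B) α' ∧ α' 1 = 1 := by
  obtain ⟨α, hα, hα1⟩ := htame
  letI := HopfRep.Comod.regular S (TensorProduct R S A)
  letI := CoactBr.Comod.baseChange R S A B
  refine ⟨α.baseChange S, ?_, by rw [Algebra.TensorProduct.one_def, LinearMap.baseChange_tmul, hα1, ← Algebra.TensorProduct.one_def]⟩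
  refine TensorProduct.AlgebraTensorModule.ext fun s a => ?_
  let r := Coalgebra.Repr.arbitrary R a
  have hb : HopfRep.Comod.coact (k := R) (A := A) (α a) = ∑ i ∈ r.index, α (r.left i) ⊗ₜ[R] r.right i := by
    have := LinearMap.congr_fun hα a
    rw [LinearMap.comp_apply, LinearMap.comp_apply, show HopfRep.Comod.coact (k := R) (A := A) (V := A) a =
      CoalgebraStruct.comul (R := R) a from rfl, ← r.eq, map_sum] at this
    exact this
  rw [LinearMap.comp_apply, LinearMap.comp_apply, LinearMap.baseChange_tmul]
  refine (CoactBr.baseChange_coact_tmul_of_sum R S A B r.index s (α a) _ _ hb).trans ?_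
  rw [show HopfRep.Comod.coact (k := S) (A := TensorProduct R S A) (V := TensorProduct R S A) (s ⊗ₜ[R] a) =
    CoalgebraStruct.comul (R := S) (s ⊗ₜ[R] a : TensorProduct R S A) from rfl,
    comul_tmul_of_sum R S A r.index s a _ _ r.eq.symm, map_sum]
  rfl

end Groth.Agent.S14983
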