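import Groth.Statements.S14984


set_option autoImplicit false
universe u v w
open HopfRep

namespace Groth.Agent.S14984
open TensorProduct in
theorem comul_tmul_of_sum (R : Type*) (S : Type*) (A : Type*) [CommRing R] [CommRing S] [Algebra R S]
    [CommRing A] [Bialgebra R A] {ι : Type*} (t : Finset ι) (s : S) (a : A) (a₀ a₁ : ι → A)
    (h : CoalgebraStruct.comul (R := R) a = ∑ i ∈ t, a₀ i ⊗ₜ[R] a₁ i) :
    CoalgebraStruct.comul (R := S) (s ⊗ₜ[R] a : S ⊗[R] A) = ∑ i ∈ t, ((1 : S) ⊗ₜ[R] a₀ i) ⊗ₜ[S] (s ⊗ₜ[R] a₁ i) := by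
  rw [TensorProduct.comul_def]
  simp only [LinearMap.comp_apply, AlgebraTensorModule.map_tmul, h, CommSemiring.comul_apply, tmul_sum, map_sum]
  rfl

open TensorProduct in
set_option synthInstance.maxHeartbeats 400000 in
set_option maxHeartbeats 1000000 in
theorem key
    (R : Type*) (A : Type*) (B : Type*)
    [CommRing R] [CommRing A] [Bialgebra R A] [CommRing B] [Algebra R B] [HopfRep.Comod R A B] [GLin.IsCoactAlg R A B]
    (C : Subalgebra R B) (hC : ∀ c : C, HopfRep.Comod.coact (k := R) (A := A) (c : B) = (c : B) ⊗ₜ[R] (1 : A))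
    (β : C ⊗[R] A →ₗ[C] C ⊗[R] B)
    (hβ : ∀ z, (CoactBr.Comod.baseChange R C A B).coact (β z) =
      LinearMap.rTensor (C ⊗[R] A) β (CoalgebraStruct.comul (R := C) z))
    (hβ1 : β 1 = 1) :
    ∃ α : A →ₗ[R] B, Hoch.IsComodHom A α ∧ α 1 = 1 := by
  let μ' : C ⊗[R] B →ₐ[C] B := Algebra.TensorProduct.lift (Algebra.ofId C B) (AlgHom.id R B) fun _ _ => .all _ _
  let f : C ⊗[R] B →ₐ[C] B ⊗[R] A := Algebra.TensorProduct.includeLeft.comp μ'
  let g : C ⊗[R] A →ₐ[C] B ⊗[R] A :=
    Algebra.TensorProduct.lift (Algebra.ofId C _) Algebra.TensorProduct.includeRight fun _ _ => .all _ _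
  let Φ : (C ⊗[R] B) ⊗[C] (C ⊗[R] A) →ₐ[C] B ⊗[R] A := Algebra.TensorProduct.lift f g fun _ _ => .all _ _
  have hcoact : ∀ z : C ⊗[R] B, HopfRep.Comod.coact (k := R) (A := A) (μ' z) =
      Φ ((CoactBr.Comod.baseChange R C A B).coact z) := by
    intro z
    induction z using TensorProduct.induction_on with
    | zero => simp
    | add x y hx hy =>
      rw [map_add, map_add, hx, hy]
      exact (map_add Φ _ _).symm.trans (congrArg Φ (map_add ((CoactBr.Comod.baseChange R C A B).coact) x y).symm)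
    | tmul c b =>
      obtain ⟨t, ht⟩ := TensorProduct.exists_finset (HopfRep.Comod.coact (k := R) (A := A) b)
      rw [CoactBr.baseChange_coact_tmul_of_sum R C A B t c b _ _ ht, map_sum]
      have hμ : μ' (c ⊗ₜ[R] b) = (c : B) * b := by simp [μ']
      rw [hμ, GLin.IsCoactAlg.coact_mul, hC, ht, Finset.mul_sum]
      refine Finset.sum_congr rfl fun i _ => ?_
      refine Eq.trans ?_ (Algebra.TensorProduct.lift_tmul f g (fun _ _ => .all _ _) _ _).symm
      show _ = ((μ' ((1 : C) ⊗ₜ[R] i.1)) ⊗ₜ[R] (1 : A)) * g (c ⊗ₜ[R] i.2)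
      rw [show μ' ((1 : C) ⊗ₜ[R] i.1) = i.1 by simp [μ'],
        show g (c ⊗ₜ[R] i.2) = ((c : B) ⊗ₜ[R] (1 : A)) * ((1 : B) ⊗ₜ[R] i.2) from Algebra.TensorProduct.lift_tmul _ _ _ _ _]
      simp only [Algebra.TensorProduct.tmul_mul_tmul, mul_one, one_mul, mul_comm]
  let α : A →ₗ[R] B := (μ'.toLinearMap.restrictScalars R) ∘ₗ (β.restrictScalars R) ∘ₗ
    (TensorProduct.mk R C A 1)
  refine ⟨α, LinearMap.ext fun a => ?_, ?_⟩
  · let r := Coalgebra.Repr.arbitrary R a
    show HopfRep.Comod.coact (k := R) (A := A) (μ' (β ((1 : C) ⊗ₜ[R] a))) =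
      LinearMap.rTensor A α (CoalgebraStruct.comul (R := R) a)
    conv_rhs => rw [← r.eq, map_sum]
    rw [hcoact, hβ, comul_tmul_of_sum R C A r.index 1 a _ _ r.eq.symm, map_sum, map_sum]
    refine Finset.sum_congr rfl fun i _ => ?_
    show Φ (β ((1 : C) ⊗ₜ[R] r.left i) ⊗ₜ[C] ((1 : C) ⊗ₜ[R] r.right i)) = μ' (β ((1 : C) ⊗ₜ[R] r.left i)) ⊗ₜ[R] r.right i
    refine (Algebra.TensorProduct.lift_tmul f g (fun _ _ => .all _ _) _ _).trans ?_
    show (μ' (β ((1 : C) ⊗ₜ[R] r.left i)) ⊗ₜ[R] (1 : A)) * g ((1 : C) ⊗ₜ[R] r.right i) = _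
    rw [show g ((1 : C) ⊗ₜ[R] r.right i) = (((1 : C) : B) ⊗ₜ[R] (1 : A)) * ((1 : B) ⊗ₜ[R] r.right i) from
      Algebra.TensorProduct.lift_tmul _ _ _ _ _]
    simp only [Algebra.TensorProduct.tmul_mul_tmul, mul_one, one_mul, OneMemClass.coe_one]
  · show μ' (β ((1 : C) ⊗ₜ[R] (1 : A))) = 1
    rw [← Algebra.TensorProduct.one_def, hβ1, map_one]


/-- Let `R` be a commutative ring, `A` a commutative Hopf algebra over `R`, flat as an `R`-module, `B` a
commutative `R`-algebra with a coaction of `A` that is an algebra map (an action of `G = Spec A` on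
`X = Spec B`), and `C = B^A` the ring of invariants. If the action base-changed along `R → C` — the
`C`-Hopf algebra `C ⊗ A` coacting on `C ⊗ B` — is tame, i.e. there is a `C`-linear comodule map `β :
C ⊗ A → C ⊗ B` (regular coaction on the source, base-changed coaction on the target) with `β 1 = 1`,
then the original action is tame: there is an `R`-linear comodule map `α : A → B` with `α 1 = 1`.
(The converse is the case `S = C` of stability of tameness under base change. The published lemma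
also lists, as a third equivalent condition, tameness of the action of `C ⊗ A` on `B` itself over
`C`; that condition is not stated here.) -/
theorem result
    (R : Type u) (A : Type v) (B : Type w)
    [CommRing R] [CommRing A] [HopfAlgebra R A] [Module.Flat R A]
    [CommRing B] [Algebra R B] [HopfRep.Comod R A B] [GLin.IsCoactAlg R A B]
    (h : ∃ β : TensorProduct R ↥(GLin.invariants R A B) A →ₗ[↥(GLin.invariants R A B)]
        TensorProduct R ↥(GLin.invariants R A B) B,
      @Hoch.IsComodHom ↥(GLin.invariants R A B) _ (TensorProduct R ↥(GLin.invariants R A B) A) _ _ _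
        (TensorProduct R ↥(GLin.invariants R A B) A) _ _
        (HopfRep.Comod.regular ↥(GLin.invariants R A B) (TensorProduct R ↥(GLin.invariants R A B) A))
        (TensorProduct R ↥(GLin.invariants R A B) B) _ _
        (CoactBr.Comod.baseChange R ↥(GLin.invariants R A B) A B) β ∧ β 1 = 1) :
    ∃ α : A →ₗ[R] B, Hoch.IsComodHom A α ∧ α 1 = 1 := by
  obtain ⟨β, hβ, hβ1⟩ := h
  exact key R A B (GLin.invariants R A B) (fun c => c.2) β (fun z => LinearMap.congr_fun hβ z) hβ1

end Groth.Agent.S14984
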