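import Groth.Statements.S14985
import Groth.Agent.H3CAlg.BassCancel
import Groth.Agent.H3CAlg.KZero
import Mathlib.Tactic.Ring
import Mathlib.Tactic.Push
import Mathlib.Tactic.Positivity

set_option autoImplicit false
universe u
open CAlg

namespace Groth.Agent.S14985

/-- Let R be a Noetherian commutative ring of finite Krull dimension and P a finitely generated
projective R-module. If the n-th tensor power of P is free for some n ≥ 1, then the direct sum of N
copies of P is free for some N ≥ 1. -/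
theorem result (R : Type u) [CommRing R] [IsNoetherianRing R]
    (hdim : ringKrullDim R < ⊤) (P : Type u) [AddCommGroup P] [Module R P] [Module.Finite R P]
    [Module.Projective R P] (n : ℕ) (hn : 1 ≤ n) (hfree : Module.Free R (TensorPower R n P)) :
    ∃ N : ℕ, 1 ≤ N ∧ Module.Free R (Fin N → P) := by
  classical
  rcases subsingleton_or_nontrivial R with hR | hR
  · haveI := Module.subsingleton R (Fin 1 → P)
    exact ⟨1, le_rfl, inferInstance⟩
  obtain ⟨d, hd⟩ : ∃ d : ℕ, ringKrullDim R ≤ d := by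
    match h : ringKrullDim R with
    | ⊥ => exact ⟨0, bot_le⟩
    | (⊤ : ℕ∞) => rw [h] at hdim; exact absurd hdim (lt_irrefl _)
    | ((k : ℕ) : ℕ∞) => exact ⟨k, le_rfl⟩
  obtain ⟨h1, h2, hpow⟩ := Groth.Agent.H3CAlg.KZero.cls_tensorPower (R := R) n P
  haveI := h1; haveI := h2; haveI := hfree
  let bT := Module.Free.chooseBasis R (TensorPower R n P)
  let N0 := Fintype.card (Module.Free.ChooseBasisIndex R (TensorPower R n P))
  have hTN : Groth.Agent.H3CAlg.KZero.cls (R := R) (TensorPower R n P) = (N0 : Groth.Agent.H3CAlg.KZero.Cls R) := by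
    rw [← Groth.Agent.H3CAlg.KZero.cls_free]
    exact Groth.Agent.H3CAlg.KZero.cls_congr
      (bT.equivFun ≪≫ₗ LinearEquiv.funCongrLeft R R (Fintype.equivFin _).symm)
  rw [hTN] at hpow
  have hrkN : ∀ p (k : ℕ), Groth.Agent.H3CAlg.KZero.rk p ((k : ℕ) : Groth.Agent.H3CAlg.KZero.Cls R) = k := by
    intro p k
    rw [← Groth.Agent.H3CAlg.KZero.cls_free, Groth.Agent.H3CAlg.KZero.rk_cls,
      Module.rankAtStalk_eq_finrank_of_free]
    simp
  have hrk : ∀ p, (Module.rankAtStalk (R := R) P p) ^ n = N0 := by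
    intro p
    have h := congrArg (Groth.Agent.H3CAlg.KZero.rk p) hpow
    rw [hrkN] at h
    have : ∀ k, Groth.Agent.H3CAlg.KZero.rk p (Groth.Agent.H3CAlg.KZero.cls (R := R) P ^ k) =
        (Module.rankAtStalk (R := R) P p) ^ k := by
      intro k
      induction k with
      | zero => rw [pow_zero, pow_zero, ← Nat.cast_one, hrkN]
      | succ k ih =>
        rw [pow_succ, pow_succ, Groth.Agent.H3CAlg.KZero.rk_mul, ih, Groth.Agent.H3CAlg.KZero.rk_cls]
    rw [this] at h
    exact h.symm
  obtain ⟨p₀⟩ : Nonempty (PrimeSpectrum R) := inferInstance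
  let r := Module.rankAtStalk (R := R) P p₀
  have hr : ∀ p, Module.rankAtStalk (R := R) P p = r := fun p =>
    Nat.pow_left_injective (by omega) ((hrk p).trans (hrk p₀).symm)
  by_cases hr0 : r = 0
  · haveI : Subsingleton P :=
      Module.rankAtStalk_eq_zero_iff_subsingleton.mp (funext fun p => (hr p).trans hr0)
    exact ⟨1, le_rfl, inferInstance⟩
  let ρ := Groth.Agent.H3CAlg.KZero.ρ (R := R)
  obtain ⟨m, hm⟩ := Groth.Agent.H3CAlg.KZero.exists_pow_sub_eq_zero P r hr
  let u : ℕ := n * r ^ (n - 1)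
  have key : ρ ((u ^ m : ℕ) * Groth.Agent.H3CAlg.KZero.cls (R := R) P) = ρ ((u ^ m * r : ℕ)) := by
    have hn1 : (ρ (Groth.Agent.H3CAlg.KZero.cls (R := R) P)) ^ n =
        ((r ^ n : ℕ) : AddMonoid.End (Groth.Agent.H3CAlg.KZero.G R)) := by
      rw [← map_pow, ← hpow, map_natCast, ← hrk p₀]
    rw [map_mul, map_natCast, map_natCast]
    let x := ρ (Groth.Agent.H3CAlg.KZero.cls (R := R) P) - (r : AddMonoid.End (Groth.Agent.H3CAlg.KZero.G R))
    let φ : Polynomial ℤ →ₐ[ℤ] AddMonoid.End (Groth.Agent.H3CAlg.KZero.G R) := Polynomial.aeval x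
    obtain ⟨q, hq⟩ := sq_dvd_add_pow_sub_sub (Polynomial.X : Polynomial ℤ) (r : Polynomial ℤ) n
    have hφX : φ Polynomial.X = x := Polynomial.aeval_X x
    have hφ1 : φ (((u : ℕ) : Polynomial ℤ) * Polynomial.X + Polynomial.X ^ 2 * q) = 0 := by
      have e : ((u : ℕ) : Polynomial ℤ) * Polynomial.X + Polynomial.X ^ 2 * q =
          ((r : Polynomial ℤ) + Polynomial.X) ^ n - ((r ^ n : ℕ) : Polynomial ℤ) := by
        rw [← hq]
        simp only [u]
        push_cast
        ring
      rw [e, map_sub, map_pow, map_add, map_natCast, map_natCast, hφX, add_sub_cancel, hn1, sub_self]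
    have hφm : φ (Polynomial.X ^ m) = 0 := by rw [map_pow, hφX]; exact hm
    have hind : ∀ j : ℕ, ∃ s, φ (((u : ℕ) : Polynomial ℤ) ^ j * Polynomial.X) =
        φ (Polynomial.X ^ (j + 1) * s) := by
      intro j
      induction j with
      | zero => exact ⟨1, by simp⟩
      | succ j ih =>
        obtain ⟨s, hs⟩ := ih
        refine ⟨-(s * q), ?_⟩
        have e1 : ((u : ℕ) : Polynomial ℤ) ^ (j + 1) * Polynomial.X =
            ((u : ℕ) : Polynomial ℤ) * (((u : ℕ) : Polynomial ℤ) ^ j * Polynomial.X) := by ring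
        have e2 : ((u : ℕ) : Polynomial ℤ) * (Polynomial.X ^ (j + 1) * s) =
            Polynomial.X ^ (j + 1 + 1) * -(s * q) + (Polynomial.X ^ j * s) *
              (((u : ℕ) : Polynomial ℤ) * Polynomial.X + Polynomial.X ^ 2 * q) := by ring
        rw [e1, map_mul, hs, ← map_mul, e2, map_add, map_mul (f := φ) _ (_ + _), hφ1, mul_zero, add_zero]
    obtain ⟨s, hs⟩ := hind m
    rw [pow_succ, mul_assoc, map_mul (f := φ) _ (_ * _), hφm, zero_mul, map_mul, map_pow, map_natCast,
      hφX, mul_sub, sub_eq_zero] at hs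
    rw [Nat.cast_mul, Nat.cast_pow]
    exact hs
  let N1 := u ^ m
  have hN1 : 0 < N1 := by
    have : 0 < r := Nat.pos_of_ne_zero hr0
    positivity
  let N := (d + 1) * N1
  have key2 : ρ ((N : ℕ) * Groth.Agent.H3CAlg.KZero.cls (R := R) P) = ρ ((N * r : ℕ)) := by
    simp only [N, N1, map_mul, map_natCast, Nat.cast_mul] at key ⊢
    rw [mul_assoc, key, mul_assoc]
  obtain ⟨c, hc⟩ := Groth.Agent.H3CAlg.KZero.exists_add_eq_of_ρ_eq key2
  induction c using Groth.Agent.H3CAlg.KZero.ind with
  | h C =>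
    obtain ⟨k, f, hf⟩ := Module.Finite.exists_fin' R C
    obtain ⟨g, hg⟩ := Module.projective_lifting_property f LinearMap.id hf
    let π : (Fin k → R) →ₗ[R] LinearMap.ker f :=
      (LinearMap.id - g ∘ₗ f).codRestrict (LinearMap.ker f) fun v => by
        rw [LinearMap.mem_ker, LinearMap.sub_apply, map_sub, LinearMap.id_apply, LinearMap.comp_apply,
          show f (g (f v)) = f v from DFunLike.congr_fun hg (f v), sub_self]
    have hπ : π ∘ₗ (LinearMap.ker f).subtype = LinearMap.id := by
      ext v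
      simp [π, LinearMap.mem_ker.mp v.2]
    haveI : Module.Projective R (LinearMap.ker f) := Module.Projective.of_split _ π hπ
    haveI : Module.Finite R (LinearMap.ker f) :=
      Module.Finite.of_surjective π fun v => ⟨v, DFunLike.congr_fun hπ v⟩
    let e : (C × LinearMap.ker f) ≃ₗ[R] (Fin k → R) :=
      LinearEquiv.ofLinear (g.coprod (LinearMap.ker f).subtype) (LinearMap.prod f π)
        (by ext v; simp [π])
        (by
          have hfg : ∀ z, f (g z) = z := fun z => DFunLike.congr_fun hg z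
          refine LinearMap.ext fun z => ?_
          obtain ⟨a, b⟩ := z
          simp only [LinearMap.comp_apply, LinearMap.coprod_apply, LinearMap.id_apply,
            LinearMap.prod_apply, Function.prod_apply, Submodule.coe_subtype]
          refine Prod.ext (by simp [hfg, LinearMap.mem_ker.mp b.2]) (Subtype.ext ?_)
          simp [π, hfg, LinearMap.mem_ker.mp b.2])
    have hk := congrArg (· + Groth.Agent.H3CAlg.KZero.cls (R := R) (LinearMap.ker f)) hc
    simp only [add_assoc] at hk
    rw [← Groth.Agent.H3CAlg.KZero.cls_prod, Groth.Agent.H3CAlg.KZero.cls_congr e,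
      ← Groth.Agent.H3CAlg.KZero.cls_pi, ← Groth.Agent.H3CAlg.KZero.cls_free (N * r),
      ← Groth.Agent.H3CAlg.KZero.cls_prod, ← Groth.Agent.H3CAlg.KZero.cls_prod] at hk
    obtain ⟨e'⟩ := Groth.Agent.H3CAlg.KZero.cls_eq_iff.mp hk
    obtain ⟨e''⟩ := Groth.Agent.H3CAlg.BassCancel.cancel hd (fun p => by
      rw [Module.rankAtStalk_pi, finsum_eq_sum_of_fintype, Finset.sum_const, Finset.card_univ, Fintype.card_fin,
        hr, smul_eq_mul]
      have : 0 < r := Nat.pos_of_ne_zero hr0
      calc d + 1 ≤ (d + 1) * N1 := Nat.le_mul_of_pos_right _ hN1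
        _ ≤ N * r := Nat.le_mul_of_pos_right _ this) k e'
    exact ⟨N, Nat.mul_pos (Nat.succ_pos d) hN1, Module.Free.of_equiv e''.symm⟩

end Groth.Agent.S14985
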