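import Groth.Statements.S14987
import Groth.Agent.H13AlgSp.FlatNbhd
import Groth.Agent.H12AlgSp.RelDimApps

set_option autoImplicit false
universe u
open CategoryTheory CategoryTheory.Limits AlgebraicGeometry Topology TopologicalSpace
open AlgSp

namespace Groth.Agent.S14987

/-- Let X be a Noetherian algebraic space (quasi-compact, quasi-separated, locally Noetherian) over a
scheme S and z a closed point of X. Then there are a Noetherian local ring R over S and a
representable flat morphism φ : h_{Spec R} ⟶ X sending the closed point to z which is a flat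
neighbourhood of z: z is represented by a closed immersion Spec k ⟶ X whose base change along φ is
an isomorphism onto Spec k, and for every n ≥ 1 and every closed subspace Z_n of X cut out by the
n-th power of the ideal sheaf of that closed immersion, the projection Spec R ×_X Z_n ⟶ Z_n is an
isomorphism; moreover dim R equals the dimension of the local ring of X at z. -/
theorem result {S : Scheme.{u}} (X : AlgSp.Space S)
    (hqc : AlgSp.IsQuasiCompactSp X.obj) (hqs : AlgSp.IsQuasiSeparatedSp X.obj)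
    (hN : AlgSp.IsLocNoethSp X.obj)
    (z : AlgSp.Points X.obj) (hz : IsClosed ({z} : Set (AlgSp.Points X.obj))) :
    ∃ (R : CommRingCat.{u}) (hR : IsLocalRing ↥R) (str : Spec R ⟶ S)
      (φ : (AlgSp.yon S).obj (Over.mk str) ⟶ X.obj) (p : AlgSp.FieldPt X.obj) (t : p.pt ⟶ Over.mk str),
      IsNoetherianRing ↥R ∧ AlgSp.RepWith @Flat φ ∧
      AlgSp.Points.ofPt φ (@IsLocalRing.closedPoint ↥R _ hR) = z ∧
      AlgSp.Points.mk p = z ∧ AlgSp.RepWith @IsClosedImmersion p.toHom ∧
      IsPullback ((AlgSp.yon S).map t) (𝟙 ((AlgSp.yon S).obj p.pt)) φ p.toHom ∧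
      (∀ (I : AlgSp.IdealEt X.obj), AlgSp.IsCutOutBy I p.toHom → ∀ n : ℕ, 1 ≤ n →
        ∀ (Zn : AlgSp.Sp S) (iZ : Zn ⟶ X.obj), AlgSp.IsCutOutBy (I ^ n) iZ →
          ∀ (P : AlgSp.Sp S) (fst : P ⟶ (AlgSp.yon S).obj (Over.mk str)) (snd : P ⟶ Zn),
            IsPullback fst snd φ iZ → IsIso snd) ∧
      AlgSp.HasAt (fun U u => ringKrullDim ↥(U.presheaf.stalk u) = ringKrullDim ↥R) X.obj z := by
  have hdec := Groth.Agent.H12AlgSp.isDecent_of_isQuasiSeparatedSp X.property hqs
  obtain ⟨U, a, u, hUa, hu, hfib⟩ := Groth.Agent.H12AlgSp.exists_affine_elemEtaleNbhd X.property hdec z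
  haveI : IsLocallyNoetherian U.left := Groth.Agent.H12AlgSp.isLocallyNoetherian_chart X.property hN hu.etale
  have hcl := Groth.Agent.H13AlgSp.FlatNbhd.repWith_closed_pt hu hfib X.property hz
  have hq : (AlgSp.FieldPt.ofPt a u).toHom = (AlgSp.yon S).map (Groth.Agent.H13AlgSp.resMap u) ≫ a := AlgSp.FieldPt.toHom_ofPt a u
  have hr : Set.range (AlgSp.Points.map (AlgSp.FieldPt.ofPt a u).toHom) = {z} := by
    rw [Groth.Agent.H12AlgSp.range_map_yon]
    refine Set.Subset.antisymm ?_ fun y hy => ?_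
    · rintro _ ⟨p, rfl⟩
      rw [AlgSp.Points.ofPt_toHom]
      exact hu.ofPt_eq
    · exact ⟨IsLocalRing.closedPoint (U.left.residueField u), (AlgSp.Points.ofPt_toHom _ _).trans (hu.ofPt_eq.trans hy.symm)⟩
  obtain ⟨W, r, k, hk, sq⟩ := Groth.Agent.H13AlgSp.FlatNbhd.exists_pullback_iso hu hfib X.property hz
    (by rw [hq]; exact hcl) hr
  obtain ⟨t, ht⟩ := (AlgSp.yon S).map_surjective (inv k ≫ (AlgSp.yon S).map r)
  refine ⟨U.left.presheaf.stalk u, inferInstance, U.left.fromSpecStalk u ≫ U.hom,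
    (AlgSp.yon S).map (Groth.Agent.H13AlgSp.FlatNbhd.locMap u) ≫ a, AlgSp.FieldPt.ofPt a u, t, inferInstance,
    Groth.Agent.H12AlgSp.repWith_comp ((AlgSp.repWith_yon_map_iff _ _).2
      (Groth.Agent.H13AlgSp.FlatNbhd.flat_fromSpecStalk _ u))
      (Groth.Agent.H12AlgSp.repWith_le (fun _ _ q (_ : Etale q) => inferInstanceAs (Flat q)) hu.etale),
    ?_, hu.ofPt_eq, by rw [hq]; exact hcl, ?_, fun I hI n hn Zn iZ hIn P fst snd sqP => ?_,
    ⟨U, a, u, hu.etale, hu.ofPt_eq, rfl⟩⟩
  · refine (Groth.Agent.H12AlgSp.ofPt_map _ a _).trans ?_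
    rw [show (Groth.Agent.H13AlgSp.FlatNbhd.locMap u).left (IsLocalRing.closedPoint _) = u from
      Scheme.fromSpecStalk_closedPoint]
    exact hu.ofPt_eq
  · exact sq.of_iso (asIso k) (Iso.refl _) (Iso.refl _) (Iso.refl _)
      (by rw [ht]; simp) (by simp) (by simp) (by simp)
  · have hrn := Groth.Agent.H13AlgSp.FlatNbhd.range_pow hu hfib X.property hUa hI hr hn hIn
    obtain ⟨W', r', k', hk', sq'⟩ := Groth.Agent.H13AlgSp.FlatNbhd.exists_pullback_iso hu hfib X.property hz
      hIn.choose hrn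
    rw [← sqP.isoIsPullback_hom_snd _ _ sq']
    infer_instance

end Groth.Agent.S14987
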