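import Groth.Statements.S14988
import Groth.Agent.H16Derived.KFlat.SheafTri
import Groth.Agent.H16Derived.KFlat.LocFreeOps
import Groth.Agent.H16Derived.KFlat.FinLocFree
import Groth.Agent.H10Coh.TensorBasics

set_option backward.isDefEq.respectTransparency false
set_option backward.isDefEq.respectTransparency.types false

set_option autoImplicit false
universe u
open CategoryTheory CategoryTheory.Limits AlgebraicGeometry
open ResProp

namespace Groth.Agent.S14988

/-- In the case of schemes, let f : X ⟶ Y be a morphism of quasi-compact quasi-separated schemes. If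
every quasi-coherent module on Y is a quotient of a direct sum of finite locally free modules (Y has
the resolution property) and some family (W_i) of finite locally free modules on X is f-generating,
i.e. every quasi-coherent module on X is a quotient of a direct sum of modules W_i ⊗ f^*N with N
quasi-coherent on Y, then every quasi-coherent module on X is a quotient of a direct sum of finite
locally free modules (X has the resolution property). (The published statement is for quasi-compact
quasi-separated morphisms of algebraic stacks and assumes the family universally f-generating; this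
row is the case of schemes and assumes the family only f-generating, which is what the argument
uses.) -/
theorem result {X Y : Scheme.{u}}
    [CompactSpace X] [QuasiSeparatedSpace X] [CompactSpace Y] [QuasiSeparatedSpace Y] (f : X ⟶ Y)
    (hY : ∀ N : Y.Modules, Coh.IsQCoh N →
      ∃ (κ : Type u) (V : κ → Y.Modules) (π : (∐ V) ⟶ N), (∀ k, FlatMod.IsFinLocFree (V k)) ∧ Epi π)
    {ι : Type u} (W : ι → X.Modules) (hW : ∀ i, FlatMod.IsFinLocFree (W i))
    (hf : ∀ M : X.Modules, Coh.IsQCoh M →
      ∃ (κ : Type u) (j : κ → ι) (N : κ → Y.Modules)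
        (π : (∐ fun k => CohB1.tensorMod (W (j k)) ((Scheme.Modules.pullback f).obj (N k))) ⟶ M),
        (∀ k, Coh.IsQCoh (N k)) ∧ Epi π) :
    ∀ M : X.Modules, Coh.IsQCoh M →
      ∃ (κ : Type u) (E : κ → X.Modules) (π : (∐ E) ⟶ M), (∀ k, FlatMod.IsFinLocFree (E k)) ∧ Epi π := by
  classical
  intro M hM
  obtain ⟨κ, j, N, π, hN, hπ⟩ := hf M hM
  choose L V p hV hp using fun k => hY (N k) (hN k)
  let G : ι → (Y.Modules ⥤ X.Modules) := fun i =>
    Scheme.Modules.pullback f ⋙ DCoh.tensorRightMod (W i)
  let c : ∀ (i : ι) (A : Y.Modules),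
      (G i).obj A ≅ CohB1.tensorMod (W i) ((Scheme.Modules.pullback f).obj A) :=
    fun i A => Groth.Agent.H10Coh.Tw.commIso _ _
  let φ : ∀ kl : (Σ k, L k), (G (j kl.1)).obj (V kl.1 kl.2) ⟶ M := fun kl =>
    (G (j kl.1)).map (Sigma.ι (V kl.1) kl.2 ≫ p kl.1) ≫ (c _ _).hom ≫
      Sigma.ι (fun k => CohB1.tensorMod (W (j k)) ((Scheme.Modules.pullback f).obj (N k))) kl.1 ≫ π
  refine ⟨Σ k, L k, fun kl => (G (j kl.1)).obj (V kl.1 kl.2), Sigma.desc φ, fun kl => ?_,
    ⟨fun {Z} g h e => ?_⟩⟩
  · exact Groth.Agent.H16Derived.KFlat.Stalk.isFinLocFree_tensor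
      (Groth.Agent.H16Derived.KFlat.Stalk.isFinLocFree_pullback f (hV _ _)) (hW _)
  · rw [← cancel_epi π]
    refine Sigma.hom_ext _ _ fun k => ?_
    haveI : PreservesColimitsOfSize.{u, u} (G (j k)) :=
      inferInstanceAs (PreservesColimitsOfSize.{u, u}
        (Scheme.Modules.pullback f ⋙ DCoh.tensorRightMod (W (j k))))
    haveI : PreservesColimitsOfSize.{0, 0} (G (j k)) :=
      preservesColimitsOfSize_shrink.{0, u, 0, u} _
    haveI : Epi (p k) := hp k
    haveI : Epi ((G (j k)).map (p k)) := inferInstance
    rw [← cancel_epi (c (j k) (N k)).hom, ← cancel_epi ((G (j k)).map (p k))]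
    refine (isColimitCofanMkObjOfIsColimit (G (j k)) _ _ (coproductIsCoproduct (V k))).hom_ext
      fun ⟨l⟩ => ?_
    change (G (j k)).map (Sigma.ι (V k) l) ≫ _ = (G (j k)).map (Sigma.ι (V k) l) ≫ _
    simpa [φ] using Sigma.ι (fun kl : Σ k, L k => (G (j kl.1)).obj (V kl.1 kl.2)) ⟨k, l⟩ ≫= e

end Groth.Agent.S14988
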