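import Groth.Statements.S14989
import Groth.Agent.H14ResProp.FlatQuotient
import Groth.Agent.H17.CohSub
import Groth.Agent.LeadDev.Basic
import Mathlib.RingTheory.Flat.TorsionFree

set_option backward.isDefEq.respectTransparency false
set_option backward.isDefEq.respectTransparency.types false

set_option autoImplicit false
universe u
open CategoryTheory CategoryTheory.Limits AlgebraicGeometry
open ResProp

namespace Groth.Agent.S14989

/-- In the case of schemes, on a Noetherian integral scheme Y with affine diagonal (any two affine opens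
meet in an affine open) every coherent module is a quotient of a torsion-free coherent module,
torsion-freeness meaning that each stalk is a torsion-free module over the local ring. (The
published statement is for Noetherian integral algebraic stacks with affine diagonal; this row is
the case of schemes.) -/
theorem result (Y : Scheme.{u}) [IsNoetherian Y] [IsIntegral Y]
    (hd : ∀ V W : Y.Opens, IsAffineOpen V → IsAffineOpen W → IsAffineOpen (V ⊓ W))
    (F : Y.Modules) (hF : Coh.IsCoh F) :
    ∃ (F' : Y.Modules) (π : F' ⟶ F), Coh.IsCoh F' ∧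
      (∀ y : Y, NoZeroSMulDivisors ↥(Y.presheaf.stalk y) ↥(F'.presheaf.stalk y)) ∧ Epi π := by
  classical
  obtain ⟨G, π, hG, hGf, hπ⟩ := Groth.Agent.H14ResProp.exists_flat_quotient hd F hF.1
  haveI : G.IsQuasicoherent := hG
  haveI : F.IsQuasicoherent := hF.1
  obtain ⟨T, hT, htop⟩ :=
    (isCompact_and_isOpen_iff_finite_and_eq_biUnion_affineOpens (U := (Set.univ : Set Y))).mp
      ⟨isCompact_univ, isOpen_univ⟩
  have hloc : ∀ V : Y.affineOpens, ∃ S : Finset Γ(G, V.1), Submodule.span Γ(Y, V.1)
      ((fun s => π.app V.1 s) '' (S : Set Γ(G, V.1))) = ⊤ := fun V => by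
    haveI := Groth.Agent.H10Coh.finite_sections F hF.2 V.2
    obtain ⟨R, hR⟩ := (Module.Finite.fg_top : (⊤ : Submodule Γ(Y, V.1) Γ(F, V.1)).FG)
    choose s hs using fun y : Γ(F, V.1) => Groth.Agent.H10Coh.surjective_app_of_epi π V.2 y
    refine ⟨R.image s, top_le_iff.1 (hR.ge.trans (Submodule.span_mono fun y hy => ?_))⟩
    exact ⟨s y, Finset.mem_coe.2 (Finset.mem_image_of_mem s hy), hs y⟩
  choose S hS using hloc
  suffices ∀ s : Finset Y.affineOpens, ∃ (H : Y.Modules) (k : H ⟶ G), Mono k ∧ Coh.IsCoh H ∧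
      ∀ V ∈ s, ∀ x ∈ S V, x ∈ Set.range (k.app V.1) by
    obtain ⟨H, k, hk, hH, hHS⟩ := this hT.toFinset
    refine ⟨H, k ≫ π, hH, fun y => ?_, ?_⟩
    · haveI : Module.Flat ↥(Y.presheaf.stalk y) ↥(G.presheaf.stalk y) := hGf y
      have hi : Function.Injective (Groth.Agent.H06Mod.stalkLin k y) :=
        Groth.Agent.H06Mod.stalk_injective (ShortComplex.mk k (cokernel.π k) (cokernel.condition k))
          { exact := ShortComplex.exact_cokernel k } y
      refine ⟨fun {c x} h => ?_⟩
      by_cases hc : c = 0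
      · exact Or.inl hc
      refine Or.inr (hi ?_)
      rw [map_zero]
      have h' : c • Groth.Agent.H06Mod.stalkLin k y x = 0 := by rw [← map_smul, h, map_zero]
      exact (smul_eq_zero.1 h').resolve_left hc
    · refine Groth.Agent.H10Coh.epi_of_surjective_on_cover (k ≫ π) hF.1 (fun V : T => V.1.1)
        (fun V => V.1.2) (fun x => ?_) fun V => ⟨_, hS V.1, ?_⟩
      · obtain ⟨V, hV, hxV⟩ := Set.mem_iUnion₂.1 (htop.le (Set.mem_univ x))
        exact ⟨⟨V, hV⟩, hxV⟩
      · rintro _ ⟨x, hx, rfl⟩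
        obtain ⟨a, rfl⟩ := hHS V.1 (hT.mem_toFinset.2 V.2) x hx
        exact ⟨a, rfl⟩
  intro s
  induction s using Finset.induction_on with
  | empty =>
    obtain ⟨H, k, hk, hH, -⟩ := Groth.Agent.H17.CohSub.exists_coh_sub G hG (isAffineOpen_bot Y) ∅
    exact ⟨H, k, hk, hH, by simp⟩
  | @insert V s _ ih =>
    obtain ⟨H, k, hk, hH, hHs⟩ := ih
    obtain ⟨H', k', hk', hH', hH's⟩ := Groth.Agent.H17.CohSub.exists_coh_sub G hG V.2 (S V)
    have hbi := Groth.Agent.LeadDev.isCoh_biprod hH hH'
    let q := biprod.desc k k'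
    refine ⟨Abelian.image q, Abelian.image.ι q, inferInstance,
      ⟨Groth.Agent.H7Lim.ModExact.isQCoh_kernel (cokernel.π q) hG (Groth.Agent.H7Lim.ModExact.isQCoh_cokernel q hbi.1 hG),
        Groth.Agent.H16Derived.KFlat.Stalk.isFT_of_epi (Abelian.factorThruImage q) hbi.2⟩,
      fun W hW x hx => ?_⟩
    have key : ∀ {A : Y.Modules} (a : A ⟶ H ⊞ H') (r : A ⟶ G) (_ : a ≫ q = r) (z : Γ(A, W.1)),
        r.app W.1 z ∈ Set.range ((Abelian.image.ι q).app W.1) := fun a r e z =>
      ⟨(a ≫ Abelian.factorThruImage q).app W.1 z, congr($(congrArg (fun m => Scheme.Modules.Hom.app m W.1)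
        ((Category.assoc a _ _).trans ((congrArg (a ≫ ·) (Abelian.image.fac q)).trans e))) z)⟩
    rcases Finset.mem_insert.1 hW with rfl | hW
    · obtain ⟨z, rfl⟩ := hH's x hx
      exact key biprod.inr k' (biprod.inr_desc _ _) z
    · obtain ⟨z, rfl⟩ := hHs W hW x hx
      exact key biprod.inl k (biprod.inl_desc _ _) z

end Groth.Agent.S14989
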