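import Groth.Statements.S14990
import Groth.Agent.H11Bertini.Jets
import Groth.Agent.H11Bertini.ZeroLocal
import Groth.Agent.H11Ample.Basic
import Groth.Agent.H22Alg.PB.Local

set_option autoImplicit false
set_option linter.style.haveILetI false
set_option backward.isDefEq.respectTransparency.types false
universe u
open Opposite CategoryTheory CategoryTheory.Limits AlgebraicGeometry
open Variety

namespace Groth.Agent.S14990

open Groth.Agent.H28Mero

variable {k : Type u} [Field k] {Y : Scheme.{u}} [Y.Over (Spec (CommRingCat.of k))]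

/-- Scalars on an open set. -/
noncomputable abbrev scalars (V : Y.Opens) : k →+* Γ(Y, V) :=
  ((Y ↘ Spec (CommRingCat.of k)).appLE ⊤ V le_top).hom.comp (Scheme.ΓSpecIso (CommRingCat.of k)).inv.hom

theorem val_smulMod_comp {L : Y.Modules} (c : k) (s : Coh.structureModule Y ⟶ L) (V : Y.Opens) :
    (SecTwist.val (Formal.smulMod k (Coh.structureModule Y) c ≫ s) V : Γ(L, V)) =
      scalars V c • (SecTwist.val s V : Γ(L, V)) := by
  refine (congrArg (s.val.app (op V)).hom ?_).trans (((s.val.app (op V)).hom).map_smul (scalars V c) _)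
  rfl

theorem val_comb {L : Y.Modules} {m : ℕ} (s : Fin m → (Coh.structureModule Y ⟶ L)) (c : Fin m → k)
    (V : Y.Opens) :
    (SecTwist.val (∑ i, Formal.smulMod k (Coh.structureModule Y) (c i) ≫ s i) V : Γ(L, V)) =
      ∑ i, scalars V (c i) • (SecTwist.val (s i) V : Γ(L, V)) := by
  let φ : (Coh.structureModule Y ⟶ L) →+ Γ(L, V) :=
    AddMonoidHom.mk' (fun t => (SecTwist.val t V : Γ(L, V))) fun _ _ => rfl
  exact (map_sum φ _ _).trans (Finset.sum_congr rfl fun i _ => val_smulMod_comp _ _ _)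

/-- A scheme smooth over a field is covered by affine opens, each with a generator of a given invertible
module and coordinates étale over affine space. -/
theorem exists_chart [Smooth (Y ↘ Spec (CommRingCat.of k))] {L : Y.Modules} (hL : PicF.IsInvertible L) (y : Y) :
    ∃ V : Y.Opens, IsAffineOpen V ∧ y ∈ V ∧ ∃ (e : Γ(L, V)), H11Tilde.IsGen L e ∧
      ∃ (d : ℕ) (g : MvPolynomial (Fin d) k →+* Γ(Y, V)), g.comp MvPolynomial.C = scalars V ∧ g.Etale := by
  obtain ⟨U, hU, V, hV, hyV, hVU, hstd⟩ := Smooth.exists_isStandardSmooth (Y ↘ Spec (CommRingCat.of k)) y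
  obtain rfl : U = ⊤ := eq_top_iff.2 fun z _ => (Subsingleton.elim (α := Spec (CommRingCat.of k)) _ z) ▸ hVU hyV
  obtain ⟨W, e, hyW, he⟩ := H11Ample.exists_gen hL y
  obtain ⟨h, hhW, hyh⟩ := hV.exists_basicOpen_le (V := W) ⟨y, hyW⟩ hyV
  haveI : IsLocalization.Away h Γ(Y, Y.basicOpen h) := hV.isLocalization_basicOpen h
  have h1 : ((Y ↘ Spec (CommRingCat.of k)).appLE ⊤ (Y.basicOpen h) le_top).hom.IsStandardSmooth := by
    have h2 := RingHom.isStandardSmooth_stableUnderComposition _ _ hstd
      (RingHom.isStandardSmooth_holdsForLocalizationAway Γ(Y, Y.basicOpen h) h)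
    convert h2 using 1
    rw [← Scheme.Hom.appLE_map _ hVU (homOfLE (Y.basicOpen_le h)).op]
    rfl
  have h3 : (scalars (k := k) (Y.basicOpen h)).IsStandardSmooth :=
    RingHom.isStandardSmooth_respectsIso.2 _ (Scheme.ΓSpecIso (CommRingCat.of k)).symm.commRingCatIsoToRingEquiv h1
  obtain ⟨d, g, hg, hge⟩ := h3.exists_etale_mvPolynomial
  exact ⟨_, hV.basicOpen h, hyh, L.presheaf.map (homOfLE hhW).op e,
    fun z hz => by simpa only [TopCat.Presheaf.germ_res_apply] using he z (hhW hz), d, g, hg, hge⟩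

/-- Let k be an algebraically closed field, Y a scheme smooth and of finite type over k, L an invertible
O_Y-module, s_1, …, s_m global sections of L (morphisms O_Y ⟶ L) such that at every closed point p
the span of the s_i maps onto L_p/m_p^2 L_p, and f a further global section of L. Then the zero
scheme of f + Σ c_i s_i is smooth over k for all c outside the zero set of some nonzero polynomial
in m variables. (The published hypothesis is stated at every point of Y; it can only hold at closed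
points, which is where the argument uses it, so this row asks it at closed points.) -/
theorem result (k : Type u) [Field k] [IsAlgClosed k]
    (Y : Scheme.{u}) [Y.Over (Spec (CommRingCat.of k))] [Smooth (Y ↘ Spec (CommRingCat.of k))]
    [QuasiCompact (Y ↘ Spec (CommRingCat.of k))]
    (L : Y.Modules) (hL : FlatMod.IsFinLocFreeOfRank 1 L) (m : ℕ)
    (s : Fin m → (Coh.structureModule Y ⟶ L)) (f : Coh.structureModule Y ⟶ L)
    (hjet : ∀ p : Y, IsClosed ({p} : Set Y) → ∀ l : ↥(L.presheaf.stalk p), ∃ c : Fin m → k,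
      (L.presheaf.germ ⊤ p trivial)
          (PicF2.secVal L (∑ i : Fin m, Formal.smulMod k (Coh.structureModule Y) (c i) ≫ s i) ⊤) - l ∈
        (IsLocalRing.maximalIdeal ↥(Y.presheaf.stalk p)) ^ 2 •
          (⊤ : Submodule ↥(Y.presheaf.stalk p) ↥(L.presheaf.stalk p))) :
    ∃ q : MvPolynomial (Fin m) k, q ≠ 0 ∧ ∀ c : Fin m → k, MvPolynomial.eval c q ≠ 0 →
      Smooth ((PicF2.zeroScheme L (f + ∑ i : Fin m, Formal.smulMod k (Coh.structureModule Y) (c i) ≫ s i)).subschemeι ≫
        (Y ↘ Spec (CommRingCat.of k))) := by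
  classical
  haveI : JacobsonSpace Y := LocallyOfFiniteType.jacobsonSpace (Y ↘ Spec (CommRingCat.of k))
  haveI : CompactSpace Y := QuasiCompact.compactSpace_of_compactSpace (Y ↘ Spec (CommRingCat.of k))
  have hLi : PicF.IsInvertible L := H22Alg.PB.isInvertible_of_rank_one hL
  choose V hV hyV e he d g hg hge using exists_chart (k := k) (Y := Y) hLi
  choose a ha using fun y i => H11Ample.exists_coeff (he y) (SecTwist.val (s i) (V y) : Γ(L, V y))
  choose a₀ ha₀ using fun y => H11Ample.exists_coeff (he y) (SecTwist.val f (V y) : Γ(L, V y))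
  have key : ∀ y : Y, ∃ q : MvPolynomial (Fin m) k, q ≠ 0 ∧ ∀ c : Fin m → k, MvPolynomial.eval c q ≠ 0 →
      RingHom.Smooth ((Ideal.Quotient.mk (Ideal.span {a₀ y + ∑ i, scalars (k := k) (V y) (c i) * a y i})).comp
        (scalars (k := k) (V y))) := by
    intro y
    letI : Algebra k Γ(Y, V y) := (scalars (k := k) (V y)).toAlgebra
    let g' : MvPolynomial (Fin (d y)) k →ₐ[k] Γ(Y, V y) :=
      { g y with commutes' := fun r => RingHom.congr_fun (hg y) r }
    haveI : Algebra.Smooth k Γ(Y, V y) := RingHom.smooth_algebraMap.1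
      (RingHom.Smooth.respectsIso.2 _ (Scheme.ΓSpecIso (CommRingCat.of k)).symm.commRingCatIsoToRingEquiv
        (HasRingHomProperty.appLE @Smooth _ inferInstance ⟨⊤, isAffineOpen_top _⟩ ⟨_, hV y⟩ le_top))
    obtain ⟨q, hq0, hq⟩ := H11Bertini.exists_poly_smooth g' (hge y) (a y) (a₀ y) fun n hn b => by
      let x : PrimeSpectrum Γ(Y, V y) := ⟨n, hn.isPrime⟩
      have hxV : (hV y).fromSpec x ∈ V y := by
        have h1 : (hV y).fromSpec x ∈ Set.range (hV y).fromSpec := ⟨_, rfl⟩
        rw [(hV y).range_fromSpec] at h1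
        exact h1
      set p := (hV y).fromSpec x
      have hclosed : IsClosed ({p} : Set Y) := by
        refine isClosed_singleton_of_isLocallyClosed_singleton ?_
        have hx : IsClosed ({x} : Set (PrimeSpectrum Γ(Y, V y))) :=
          (PrimeSpectrum.isClosed_singleton_iff_isMaximal x).2 hn
        have h := hx.isLocallyClosed.image (hV y).fromSpec.isOpenEmbedding.isInducing
          (hV y).fromSpec.isOpenEmbedding.isOpen_range.isLocallyClosed
        rw [Set.image_singleton] at h
        exact h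
      letI : Algebra Γ(Y, V y) (Y.presheaf.stalk p) := (Y.presheaf.germ (V y) p hxV).hom.toAlgebra
      haveI : IsLocalization.AtPrime (Y.presheaf.stalk p) n := (hV y).isLocalization_stalk' x hxV
      let ep := L.presheaf.germ (V y) p hxV (e y)
      obtain ⟨c, hc⟩ := hjet p hclosed (Y.presheaf.germ (V y) p hxV b • ep)
      have hval : (L.presheaf.germ ⊤ p trivial)
          (PicF2.secVal L (∑ i, Formal.smulMod k (Coh.structureModule Y) (c i) ≫ s i) ⊤) =
          Y.presheaf.germ (V y) p hxV (∑ i, algebraMap k Γ(Y, V y) (c i) * a y i) • ep := by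
        refine (germ_val (L := L) (∑ i, Formal.smulMod k (Coh.structureModule Y) (c i) ≫ s i) (V y) p hxV).symm.trans ?_
        rw [val_comb, ← H17.AssPts.germ_smul', Finset.sum_smul]
        refine congrArg (L.presheaf.germ (V y) p hxV) (Finset.sum_congr rfl fun i _ => ?_)
        rw [ha y i, mul_smul]
        rfl
      rw [hval, ← sub_smul, ← map_sub] at hc
      have hbij := he y p hxV
      have hmem : Y.presheaf.germ (V y) p hxV ((∑ i, algebraMap k Γ(Y, V y) (c i) * a y i) - b) ∈
          IsLocalRing.maximalIdeal (Y.presheaf.stalk p) ^ 2 := by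
        obtain ⟨r, hr, hre⟩ : ∃ r ∈ IsLocalRing.maximalIdeal (Y.presheaf.stalk p) ^ 2,
            r • ep = Y.presheaf.germ (V y) p hxV ((∑ i, algebraMap k Γ(Y, V y) (c i) * a y i) - b) • ep := by
          refine Submodule.smul_induction_on (p := fun z => ∃ r ∈ IsLocalRing.maximalIdeal (Y.presheaf.stalk p) ^ 2,
            r • ep = z) hc (fun r hr z _ => ?_) ?_
          · obtain ⟨w, hw⟩ := hbij.2 z
            exact ⟨r * w, Ideal.mul_mem_right _ _ hr, by rw [mul_smul]; exact congrArg (r • ·) hw⟩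
          · rintro z z' ⟨r, hr, rfl⟩ ⟨r', hr', rfl⟩
            exact ⟨r + r', add_mem hr hr', add_smul _ _ _⟩
        rwa [← hbij.1 hre]
      rw [← IsLocalization.AtPrime.map_eq_maximalIdeal n (Y.presheaf.stalk p), ← Ideal.map_pow] at hmem
      obtain ⟨⟨⟨z, hz⟩, t⟩, hzt⟩ := (IsLocalization.mem_map_algebraMap_iff n.primeCompl _).1 hmem
      rw [show Y.presheaf.germ (V y) p hxV ((∑ i, algebraMap k Γ(Y, V y) (c i) * a y i) - b) =
        algebraMap Γ(Y, V y) (Y.presheaf.stalk p) ((∑ i, algebraMap k Γ(Y, V y) (c i) * a y i) - b) from rfl,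
        ← map_mul, IsLocalization.eq_iff_exists n.primeCompl] at hzt
      obtain ⟨t', ht'⟩ := hzt
      refine ⟨c, t' * t, hn.isPrime.mul_notMem t'.2 t.2, ?_⟩
      rw [mul_assoc, mul_comm (t : Γ(Y, V y)), ht']
      exact Ideal.mul_mem_left _ _ hz
    refine ⟨q, hq0, fun c hc => ?_⟩
    exact RingHom.smooth_algebraMap.2 (hq c hc)
  choose q hq0 hq using key
  obtain ⟨t, ht⟩ := isCompact_univ.elim_finite_subcover (fun y : Y => (V y : Set Y)) (fun y => (V y).2)
    fun y _ => Set.mem_iUnion.2 ⟨y, hyV y⟩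
  refine ⟨∏ y ∈ t, q y, Finset.prod_ne_zero_iff.2 fun y _ => hq0 y, fun c hc => ?_⟩
  rw [map_prod, Finset.prod_ne_zero_iff] at hc
  set σ := f + ∑ i : Fin m, Formal.smulMod k (Coh.structureModule Y) (c i) ≫ s i with hσ
  let I := PicF2.zeroScheme L σ
  have hI : ∀ y : Y, I.ideal ⟨V y, hV y⟩ = Ideal.span {a₀ y + ∑ i, scalars (k := k) (V y) (c i) * a y i} := by
    intro y
    show (PicF2.zeroScheme L σ).ideal _ = _
    rw [H11Bertini.zeroScheme_eq_zeroIdeal hLi σ]
    refine H12Pic.PicCurve.zeroIdeal_ideal L σ hLi (hV y) (e := e y) (he y) fun z hz => ?_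
    rw [← H17.AssPts.germ_smul']
    refine (germ_val (L := L) σ (V y) z hz).symm.trans (congrArg (L.presheaf.germ (V y) z hz) ?_)
    have h1 : (SecTwist.val σ (V y) : Γ(L, V y)) = (show Γ(L, V y) from SecTwist.val f (V y)) +
        (show Γ(L, V y) from SecTwist.val (∑ i : Fin m, Formal.smulMod k (Coh.structureModule Y) (c i) ≫ s i) (V y)) := rfl
    rw [h1, val_comb, ha₀ y, add_smul, Finset.sum_smul]
    refine congrArg (_ + ·) (Finset.sum_congr rfl fun i _ => ?_)
    rw [ha y i, mul_smul]
    rfl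
  let F := I.subschemeι ≫ (Y ↘ Spec (CommRingCat.of k))
  refine HasRingHomProperty.of_iSup_eq_top (P := @Smooth)
    (fun y : t => (⟨_, (hV y.1).preimage I.subschemeι⟩ : I.subscheme.affineOpens)) ?_ fun y => ?_
  · refine eq_top_iff.2 fun z _ => ?_
    obtain ⟨y, hy, hzy⟩ := Set.mem_iUnion₂.1 (ht (Set.mem_univ (I.subschemeι z)))
    exact TopologicalSpace.Opens.mem_iSup.2 ⟨⟨y, hy⟩, hzy⟩
  let W : Y.affineOpens := ⟨V y.1, hV y.1⟩
  have happ : F.appLE ⊤ (I.subschemeι ⁻¹ᵁ W.1) le_top =
      (Y ↘ Spec (CommRingCat.of k)).appLE ⊤ W.1 le_top ≫ I.subschemeι.app W.1 := by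
    rw [Scheme.Hom.app_eq_appLE, Scheme.Hom.appLE_comp_appLE]
  show RingHom.Smooth (F.appLE ⊤ (I.subschemeι ⁻¹ᵁ W.1) le_top).hom
  rw [happ]
  have hker : RingHom.ker (I.subschemeι.app W.1).hom = Ideal.span {a₀ y.1 + ∑ i, scalars (k := k) (V y.1) (c i) * a y.1 i} :=
    (I.ker_subschemeι_app W).trans (hI y.1)
  let ψ := (Ideal.quotEquivOfEq hker.symm).trans
    (RingHom.quotientKerEquivOfSurjective (I.subschemeι_app_surjective W))
  have key := RingHom.Smooth.respectsIso.1 _ ψ (hq y.1 c (hc y.1 y.2))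
  have h2 := RingHom.Smooth.respectsIso.2 _ (Scheme.ΓSpecIso (CommRingCat.of k)).commRingCatIsoToRingEquiv key
  convert h2 using 1
  refine RingHom.ext fun z => ?_
  exact (congrArg (fun z => (I.subschemeι.app W.1).hom (((Y ↘ Spec (CommRingCat.of k)).appLE ⊤ W.1 le_top).hom z))
    (RingHom.congr_fun (congrArg CommRingCat.Hom.hom (Scheme.ΓSpecIso (CommRingCat.of k)).hom_inv_id) z)).symm

end Groth.Agent.S14990
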