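import Groth.Statements.S14991
import Groth.Agent.H14ResProp.PunctExt
import Groth.Agent.H8Props.FieldDimEquidim

set_option autoImplicit false
set_option backward.isDefEq.respectTransparency.types false
universe u
open CategoryTheory CategoryTheory.Limits AlgebraicGeometry
open ResProp

namespace Groth.Agent.S14991

/-- In the case of schemes, let X be an integral scheme of dimension 2, separated and of finite type
over a field k and regular in codimension 1, F a coherent module on X, and p ≠ q regular closed
points of X near each of which F is finite locally free. If F restricted to X minus q and F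
restricted to X minus p are both quotients of finite locally free modules, then F is a quotient of a
finite locally free module on X. (The published statement is for algebraic spaces and also assumes F
locally free off a closed subset of codimension 2, an assumption the argument does not use; this row
is the case of schemes without it.) -/
theorem result {k : Type u} [Field k] (X : Scheme.{u})
    [X.Over (Spec (CommRingCat.of k))] [IsIntegral X] [IsSeparated (X ↘ Spec (CommRingCat.of k))]
    [LocallyOfFiniteType (X ↘ Spec (CommRingCat.of k))] [QuasiCompact (X ↘ Spec (CommRingCat.of k))]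
    (hdim : topologicalKrullDim ↥X = 2)
    (hR1 : ∀ x : X, ringKrullDim ↥(X.presheaf.stalk x) ≤ 1 → IsRegularLocalRing ↥(X.presheaf.stalk x))
    (F : X.Modules) (hF : Coh.IsCoh F) (p q : X) (hpq : p ≠ q)
    (hp : IsClosed ({p} : Set X)) (hq : IsClosed ({q} : Set X))
    (hpreg : IsRegularLocalRing ↥(X.presheaf.stalk p)) (hqreg : IsRegularLocalRing ↥(X.presheaf.stalk q))
    (hFp : ∃ W : X.Opens, p ∈ W ∧ FlatMod.IsFinLocFree (F.restrict W.ι))
    (hFq : ∃ W : X.Opens, q ∈ W ∧ FlatMod.IsFinLocFree (F.restrict W.ι))
    (Up Uq : X.Opens) (hUp : (Up : Set X) = {p}ᶜ) (hUq : (Uq : Set X) = {q}ᶜ)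
    (hp' : ∃ (E : (↑Up : Scheme.{u}).Modules) (π : E ⟶ F.restrict Up.ι), FlatMod.IsFinLocFree E ∧ Epi π)
    (hq' : ∃ (E : (↑Uq : Scheme.{u}).Modules) (π : E ⟶ F.restrict Uq.ι), FlatMod.IsFinLocFree E ∧ Epi π) :
    ∃ (E : X.Modules) (π : E ⟶ F), FlatMod.IsFinLocFree E ∧ Epi π := by
  haveI := LocallyOfFiniteType.isLocallyNoetherian (X ↘ Spec (CommRingCat.of k))
  have key : ∀ x : X, IsClosed ({x} : Set X) → ringKrullDim (X.presheaf.stalk x) = 2 := by
    intro x hx
    let f := X ↘ Spec (CommRingCat.of k)
    have h := Groth.Agent.H8Props.FieldDim.localDim_eq_stalk_add_cdim (k := k) f x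
    rw [Groth.Agent.H8Props.FieldDim.localDim_eq_dim_of_irreducible (k := k) f x, hdim] at h
    have hc : Groth.Agent.H8Props.FieldDim.cdim x = 0 := by
      show topologicalKrullDim (closure ({x} : Set X)) = 0
      rw [hx.closure_eq]
      refine le_antisymm (topologicalKrullDim_zero_of_discreteTopology ({x} : Set X)) ?_
      haveI : Nonempty (TopologicalSpace.IrreducibleCloseds ({x} : Set X)) :=
        ⟨⟨{⟨x, rfl⟩}, isIrreducible_singleton, isClosed_discrete _⟩⟩
      exact Order.krullDim_nonneg (α := TopologicalSpace.IrreducibleCloseds ({x} : Set X))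
    rw [hc, add_zero] at h
    exact h.symm
  haveI := hpreg
  haveI := hqreg
  have mem : ∀ {a : X} {U : X.Opens}, (U : Set X) = {a}ᶜ → (∀ x : X, x ∉ U → x = a) ∧ a ∉ U := by
    intro a U h
    refine ⟨fun x hx => ?_, fun ha => ?_⟩
    · by_contra hne
      exact hx (show x ∈ (U : Set X) by rw [h]; exact hne)
    · exact (show a ∈ ({a}ᶜ : Set X) by rw [← h]; exact ha) rfl
  refine Groth.Agent.H14ResProp.exists_locFree_epi_of_two (U := Up) (V := Uq) (fun x => ?_)
    (Groth.Agent.H14ResProp.exists_locFree_surjective_off p Up (mem hUp).1 (mem hUp).2 (key p hp) F hF hFp hp')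
    (Groth.Agent.H14ResProp.exists_locFree_surjective_off q Uq (mem hUq).1 (mem hUq).2 (key q hq) F hF hFq hq')
  by_contra h
  simp only [not_or] at h
  exact hpq (((mem hUp).1 x h.1).symm.trans ((mem hUq).1 x h.2))

end Groth.Agent.S14991
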