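import Groth.Statements.S14994
import Mathlib.Algebra.Module.StablyFree.Basic
import Mathlib.Data.Int.ConditionallyCompleteOrder
import Mathlib.LinearAlgebra.Dual.Lemmas
import Mathlib.LinearAlgebra.FreeModule.PID
import Mathlib.RingTheory.Flat.TorsionFree
import Mathlib.RingTheory.Henselian
import Mathlib.RingTheory.RegularLocalRing.Defs
import Mathlib.RingTheory.SimpleRing.Principal

set_option autoImplicit false
universe u
open CAlg

namespace Groth.Agent.S14994

/-- Let A be a Noetherian integrally closed domain, M a finitely generated torsion-free A-module, N a
submodule of M and ι : M → M** the canonical map to the double dual. Write N** → M** for the double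
dual of the inclusion N → M. Then every m ∈ M whose image ι(m) lies in the image of N** is a torsion
element modulo N: some nonzero a ∈ A satisfies a·m ∈ N. In other words the preimage of N** under ι
is contained in the saturation of N in M (the preimage of the torsion submodule of M/N), and the two
coincide when M/N is torsion-free. (The published statement asserts equality of the preimage with
the saturation for every N; for N = xA inside M = A = k[x] the saturation is all of M while N** has
image xA = N under the identification M** = M, so only the inclusion stated here holds, and it is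
the inclusion later used, for saturated N, where the two sides agree.) -/
theorem result (A : Type u) [CommRing A] [IsDomain A]
    [IsNoetherianRing A] [IsIntegrallyClosed A]
    (M : Type u) [AddCommGroup M] [Module A M] [Module.Finite A M] [NoZeroSMulDivisors A M]
    (N : Submodule A M) :
    (LinearMap.range N.subtype.dualMap.dualMap).comap (Module.Dual.eval A M) ≤
      (Submodule.torsion A (M ⧸ N)).comap N.mkQ := by
  intro m hm
  obtain ⟨ψ, hψ⟩ := hm
  simp only [Submodule.mem_comap, Submodule.mem_torsion_iff]
  by_contra hcon
  let K := FractionRing A
  let Q := M ⧸ N
  let l := LocalizedModule.mkLinearMap (nonZeroDivisors A) Q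
  have hne : l (N.mkQ m) ≠ 0 := by
    intro h0
    obtain ⟨c, hc⟩ := (IsLocalizedModule.eq_zero_iff (nonZeroDivisors A) l).mp h0
    exact hcon ⟨c, hc⟩
  obtain ⟨μ, hμ⟩ : ∃ μ : Module.Dual K (LocalizedModule (nonZeroDivisors A) Q), μ (l (N.mkQ m)) ≠ 0 := by
    by_contra hh
    push Not at hh
    exact hne ((Module.forall_dual_apply_eq_zero_iff K _).mp hh)
  haveI : Module.FinitePresentation A Q := Module.finitePresentation_of_finite A Q
  obtain ⟨h, s, hs⟩ := Module.FinitePresentation.exists_lift_of_isLocalizedModule (nonZeroDivisors A)
    (Algebra.linearMap A K) ((μ.restrictScalars A).comp l)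
  have h1 : h (N.mkQ m) ≠ 0 := by
    intro h0
    have := LinearMap.congr_fun hs (N.mkQ m)
    rw [LinearMap.comp_apply, h0, map_zero, LinearMap.smul_apply, LinearMap.comp_apply,
      LinearMap.restrictScalars_apply, Submonoid.smul_def, Algebra.smul_def] at this
    rcases mul_eq_zero.mp this.symm with h' | h'
    · exact nonZeroDivisors.coe_ne_zero s (IsFractionRing.injective A K (by rw [h', map_zero]))
    · exact hμ h'
  apply h1
  have h2 := LinearMap.congr_fun hψ (h.comp N.mkQ)
  simp only [LinearMap.dualMap_apply', Module.Dual.eval_apply, LinearMap.comp_apply] at h2
  rw [← h2, LinearMap.comp_assoc, show N.mkQ.comp N.subtype = 0 from LinearMap.ext fun x => (Submodule.Quotient.mk_eq_zero N).mpr x.2, LinearMap.comp_zero, map_zero]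

end Groth.Agent.S14994
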