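import Groth.Statements.S14997
import Mathlib

set_option autoImplicit false
open HilbPol

namespace Groth.Agent.S14997

open Polynomial in
theorem coeff_sub_comp (a : ℚ) (S : ℚ[X]) (n : ℕ) (h : S.natDegree ≤ n + 1) :
    (S - S.comp (X - C a)).coeff n = (n + 1 : ℚ) * a * S.coeff (n + 1) := by
  rw [show X - C a = X + C (-a) by rw [C_neg]; ring, coeff_sub]
  conv_lhs => arg 2; rw [S.as_sum_range' (n + 2) (by omega)]
  rw [Finset.sum_range_succ, Finset.sum_range_succ, add_comp, add_comp, Polynomial.sum_comp, coeff_add,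
    coeff_add, finsetSum_coeff, Finset.sum_eq_zero, monomial_comp, monomial_comp, coeff_C_mul,
    coeff_C_mul, coeff_X_add_C_pow, coeff_X_add_C_pow, Nat.sub_self,
    Nat.add_sub_cancel_left, Nat.choose_self, Nat.choose_succ_self_right]
  · push_cast; ring
  · intro i hi
    rw [monomial_comp, coeff_C_mul, coeff_X_add_C_pow,
      Nat.choose_eq_zero_of_lt (Finset.mem_range.1 hi)]
    simp

theorem lex_le_iff_of_sub_eq {ℓ : ℕ} {x y x' y' : Fin ℓ → ℚ}
    (h : ∀ j, (∀ i, i < j → x i = y i) → x' j - y' j = x j - y j) :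
    toLex x ≤ toLex y ↔ toLex x' ≤ toLex y' := by
  have key : ∀ j : Fin ℓ, (∀ i, i < j → x i = y i) ↔ (∀ i, i < j → x' i = y' i) := by
    intro j
    induction j using WellFoundedLT.induction with
    | _ j ih =>
      constructor
      · intro hx i hi
        linarith [h i (fun m hm => hx m (hm.trans hi)), hx i hi]
      · intro hx i hi
        linarith [h i ((ih i hi).2 fun m hm => hx m (hm.trans hi)), hx i hi]
  have eqf : x = y ↔ x' = y' := by
    constructor
    · intro e; funext i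
      linarith [h i (fun m _ => congrFun e m), congrFun e i]
    · intro e; funext i
      linarith [h i ((key i).2 fun m _ => congrFun e m), congrFun e i]
  have ltf : toLex x < toLex y ↔ toLex x' < toLex y' := by
    constructor
    · rintro ⟨j, hj, hlt⟩
      have hj' : ∀ i, i < j → x i = y i := hj
      exact ⟨j, (key j).1 hj', by change x' j < y' j; change x j < y j at hlt; linarith [h j hj']⟩
    · rintro ⟨j, hj, hlt⟩
      have hj' : ∀ i, i < j → x i = y i := (key j).2 hj
      exact ⟨j, hj', by change x j < y j; change x' j < y' j at hlt; linarith [h j hj']⟩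
  exact le_iff_eq_or_lt.trans
    ((or_congr (toLex_inj.trans (eqf.trans toLex_inj.symm)) ltf).trans le_iff_eq_or_lt.symm)


open Polynomial in
/-- Let d and ℓ be natural numbers with ℓ + 1 ≤ d, let a be a nonzero rational number and let P, Q be
polynomials with rational coefficients, both of degree exactly d. For a polynomial R of degree e
write R(m) = Σ_i α_i(R) m^i / i! (so α_i(R) = i! · coeff_i(R)) and let r_ℓ(R) ∈ ℚ^ℓ be the vector
(α_{e−1}(R)/α_e(R), …, α_{e−ℓ}(R)/α_e(R)) of the ℓ coefficients after the leading one of the reduced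
polynomial R/α_e(R), ordered lexicographically. The polynomials P(m) − P(m − a) and Q(m) − Q(m − a)
have degree d − 1, and r_ℓ(P) ≤ r_ℓ(Q) lexicographically if and only if r_ℓ(P(m) − P(m − a)) ≤
r_ℓ(Q(m) − Q(m − a)) lexicographically (hence the same with strict inequalities, by exchanging P and
Q). When P and Q are the Hilbert polynomials of pure d-dimensional coherent sheaves E → F on a
polarized projective scheme and D is a hypersurface section of degree a containing no associated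
point of E or F, the Hilbert polynomials of E|_D and F|_D are P(m) − P(m − a) and Q(m) − Q(m − a),
and the two sides are the comparisons of the ℓ-truncated reduced Hilbert polynomials p_ℓ(E) ≥ p_ℓ(F)
and p_ℓ(E|_D) ≥ p_ℓ(F|_D). (The published statement is phrased for the sheaves; this row is the
statement about their Hilbert polynomials that the displayed coefficient formula yields.) -/
theorem result (d ℓ : ℕ) (hℓ : ℓ + 1 ≤ d) (a : ℚ) (ha : a ≠ 0)
    (P Q : ℚ[X]) (hP : P.natDegree = d) (hQ : Q.natDegree = d) (hP0 : P ≠ 0) (hQ0 : Q ≠ 0) :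
    toLex (fun j : Fin ℓ => ((P).coeff (d - 1 - (j : ℕ)) * (Nat.factorial (d - 1 - (j : ℕ)) : ℚ)) / ((P).coeff (d) * (Nat.factorial (d) : ℚ))) ≤ toLex (fun j : Fin ℓ => ((Q).coeff (d - 1 - (j : ℕ)) * (Nat.factorial (d - 1 - (j : ℕ)) : ℚ)) / ((Q).coeff (d) * (Nat.factorial (d) : ℚ))) ↔
      toLex (fun j : Fin ℓ => ((P - P.comp (X - C a)).coeff ((d - 1) - 1 - (j : ℕ)) * (Nat.factorial ((d - 1) - 1 - (j : ℕ)) : ℚ)) / ((P - P.comp (X - C a)).coeff ((d - 1)) * (Nat.factorial ((d - 1)) : ℚ))) ≤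
        toLex (fun j : Fin ℓ => ((Q - Q.comp (X - C a)).coeff ((d - 1) - 1 - (j : ℕ)) * (Nat.factorial ((d - 1) - 1 - (j : ℕ)) : ℚ)) / ((Q - Q.comp (X - C a)).coeff ((d - 1)) * (Nat.factorial ((d - 1)) : ℚ))) := by
  let F : ℚ[X] → ℚ[X] := fun R => R - R.comp (X - C a)
  let u := fun (R : ℚ[X]) (j : Fin ℓ) =>
    (R.coeff (d - 1 - (j : ℕ)) * (Nat.factorial (d - 1 - (j : ℕ)) : ℚ)) / (R.coeff d * (Nat.factorial d : ℚ))
  let v := fun (R : ℚ[X]) (j : Fin ℓ) =>
    ((F R).coeff ((d - 1) - 1 - (j : ℕ)) * (Nat.factorial ((d - 1) - 1 - (j : ℕ)) : ℚ)) /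
      ((F R).coeff (d - 1) * (Nat.factorial (d - 1) : ℚ))
  show toLex (u P) ≤ toLex (u Q) ↔ toLex (v P) ≤ toLex (v Q)
  refine lex_le_iff_of_sub_eq (fun j hj => ?_)
  let cP : ℚ := P.coeff d * (Nat.factorial d : ℚ)
  let cQ : ℚ := Q.coeff d * (Nat.factorial d : ℚ)
  have hPd : P.coeff d ≠ 0 := hP ▸ leadingCoeff_ne_zero.2 hP0
  have hQd : Q.coeff d ≠ 0 := hQ ▸ leadingCoeff_ne_zero.2 hQ0
  have hfd : (Nat.factorial d : ℚ) ≠ 0 := by exact_mod_cast Nat.factorial_ne_zero d
  let R : ℚ[X] := C cP⁻¹ * P - C cQ⁻¹ * Q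
  obtain ⟨e, he⟩ : ∃ e, d = e + 1 := ⟨d - 1, by omega⟩
  have hjl := j.2
  have hdeg : R.natDegree ≤ (d - 1 - 1 - (j : ℕ)) + 1 := by
    rw [natDegree_le_iff_coeff_eq_zero]
    intro N hN
    simp only [R, coeff_sub, coeff_C_mul, cP, cQ]
    rcases lt_trichotomy N d with h | rfl | h
    · have hi : d - 1 - N < (j : ℕ) := by omega
      have := hj ⟨d - 1 - N, hi.trans j.2⟩ hi
      simp only [u] at this
      rw [show d - 1 - (d - 1 - N) = N by omega] at this
      have hfN : (Nat.factorial N : ℚ) ≠ 0 := by exact_mod_cast Nat.factorial_ne_zero N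
      field_simp at this ⊢
      linarith
    · field_simp; ring
    · rw [coeff_eq_zero_of_natDegree_lt (show P.natDegree < N by omega),
        coeff_eq_zero_of_natDegree_lt (show Q.natDegree < N by omega)]
      simp
  have hF : ∀ (S : ℚ[X]) (n : ℕ), S.natDegree ≤ n + 1 →
      (F S).coeff n = (n + 1 : ℚ) * a * S.coeff (n + 1) := fun S n h => coeff_sub_comp a S n h
  have hlin : (F R).coeff (d - 1 - 1 - (j : ℕ)) =
      cP⁻¹ * (F P).coeff (d - 1 - 1 - (j : ℕ)) - cQ⁻¹ * (F Q).coeff (d - 1 - 1 - (j : ℕ)) := by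
    simp only [F, R, sub_comp, mul_comp, C_comp, coeff_sub, coeff_C_mul]
    ring
  have hP1 : (F P).coeff (d - 1) = (e + 1 : ℚ) * a * P.coeff d := by
    rw [show d - 1 = e by omega, hF P e (by omega), he]
  have hQ1 : (F Q).coeff (d - 1) = (e + 1 : ℚ) * a * Q.coeff d := by
    rw [show d - 1 = e by omega, hF Q e (by omega), he]
  have hfd1 : (e + 1 : ℚ) * (Nat.factorial (d - 1) : ℚ) = (Nat.factorial d : ℚ) := by
    rw [show d - 1 = e by omega, he, Nat.factorial_succ]; push_cast; ring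
  have hR := hF R _ hdeg
  rw [hlin] at hR
  simp only [R, coeff_sub, coeff_C_mul] at hR
  simp only [u, v, hP1, hQ1]
  rw [show d - 1 - (j : ℕ) = d - 1 - 1 - (j : ℕ) + 1 by omega, Nat.factorial_succ]
  push_cast
  have hfd1' : (Nat.factorial (d - 1) : ℚ) ≠ 0 := by exact_mod_cast Nat.factorial_ne_zero _
  have he0 : (e : ℚ) + 1 ≠ 0 := by positivity
  set n := d - 1 - 1 - (j : ℕ)
  rw [show (e + 1 : ℚ) * a * P.coeff d * (Nat.factorial (d - 1) : ℚ) = cP * a by simp only [cP]; rw [← hfd1]; ring,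
    show (e + 1 : ℚ) * a * Q.coeff d * (Nat.factorial (d - 1) : ℚ) = cQ * a by simp only [cQ]; rw [← hfd1]; ring]
  have hcP : cP ≠ 0 := mul_ne_zero hPd hfd
  have hcQ : cQ ≠ 0 := mul_ne_zero hQd hfd
  calc (F P).coeff n * (n.factorial : ℚ) / (cP * a) - (F Q).coeff n * (n.factorial : ℚ) / (cQ * a)
      = (n.factorial : ℚ) / a * (cP⁻¹ * (F P).coeff n - cQ⁻¹ * (F Q).coeff n) := by field_simp
    _ = (n.factorial : ℚ) / a * ((n + 1 : ℚ) * a * (cP⁻¹ * P.coeff (n + 1) - cQ⁻¹ * Q.coeff (n + 1))) := by rw [hR]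
    _ = _ := by show _ = _ / cP - _ / cQ; field_simp

end Groth.Agent.S14997
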