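import Groth.Statements.S1500
import Groth.Agent.H8Props.AmpleDivisors

set_option autoImplicit false
universe u
open FlatMor

namespace Groth.Agent.S1500

open AlgebraicGeometry CategoryTheory Limits in
/-- Let D_1, …, D_m be effective Cartier divisors on X (ideal sheaves locally generated by a
nonzerodivisor) with empty common support, and L_1, …, L_m invertible O_X-modules with L_i ample on
the open complement of D_i. Then X has an ample family of invertible modules. -/
theorem result {X : Scheme.{u}} {m : ℕ} (D : Fin m → X.IdealSheafData)
    (hD : ∀ i, BlowUp.IsEffCartierIdeal (D i)) (hcap : ⋂ i, ((D i).support : Set ↑X) = ∅)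
    (L : Fin m → X.Modules) (hL : ∀ i, PicF.IsInvertible (L i)) (hamp : ∀ i, CohB1.IsAmple ((L i).restrict (Scheme.Opens.ι (D i).support.compl))) :
    MoreMor.HasAmpleFamily X := by
    exact H8Props.Ample.hasAmpleFamily_of_effCartier D hD hcap L hL
      fun i => (H11Ample.isAmple_restrict_iff (L i) _).1 (hamp i)

end Groth.Agent.S1500
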