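import Groth.Statements.S15002
import Groth.Agent.H10Coh.Stab.Mu
import Groth.Agent.H10Coh.Stab.TwistInt
-- import your own Groth.Agent.* helpers here

set_option autoImplicit false
universe u
open CategoryTheory CategoryTheory.Limits AlgebraicGeometry
open Coherent

namespace Groth.Agent.S15002

open Polynomial in
/-- Let k be an algebraically closed field and X an integral scheme, smooth and proper over k, with a
closed immersion ι into projective N-space over k compatible with the structure maps; write E(m) = E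
⊗ ι^*O(m). Let 1 ≤ ℓ ≤ d and let E be a coherent O_X-module whose Hilbert polynomial P (χ(E(m)) =
P(m) for all integers m) is nonzero of degree d, which is pure of dimension d (every nonzero
coherent subsheaf of E has support of Krull dimension d) and ℓ-stable: writing R(m) = Σ_i α_i(R)
m^i/i! for a polynomial R, for every coherent subsheaf F of E with Hilbert polynomial Q such that 0
< α_d(Q) < α_d(P), the vector (α_{d−1}(Q)/α_d(Q), …, α_{d−ℓ}(Q)/α_d(Q)) is strictly smaller than
(α_{d−1}(P)/α_d(P), …, α_{d−ℓ}(P)/α_d(P)) in the lexicographic order. Then E is simple: every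
endomorphism φ of E is multiplication by a scalar, i.e. there is c ∈ k with φ(s) = c·s for every
local section s of E. (The published statement gives more generally, for such E, that the
endomorphisms of the restriction of E to the complement of any closed subset meeting the support of
E in codimension at least ℓ + 1 are the scalars; this row is the case of the empty closed subset.) -/
theorem result (k : Type u) [Field k] [IsAlgClosed k]
    (X : Scheme.{u}) [X.Over (Spec (CommRingCat.of k))] [IsIntegral X]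
    [Smooth (X ↘ Spec (CommRingCat.of k))] [IsProper (X ↘ Spec (CommRingCat.of k))]
    (N : ℕ) (ι : X ⟶ CohB1.ProjSpace N k) [IsClosedImmersion ι] (hι : ι ≫ CohB1.ProjSpace.toSpec N k = X ↘ Spec (CommRingCat.of k))
    (d ℓ : ℕ) (hℓ : 1 ≤ ℓ) (hℓd : ℓ ≤ d)
    (E : X.Modules) (hE : Coh.IsCoh E) (P : ℚ[X]) (hPd : P.natDegree = d) (hP0 : P ≠ 0)
    (hP : ∀ m : ℤ, (Curv2.euler k X (Pic13.twistOn k ι E m) : ℚ) = P.eval (m : ℚ))
    (hpure : ∀ (F : X.Modules) (j : F ⟶ E), Mono j → Coh.IsCoh F → ¬ IsZero F →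
      topologicalKrullDim (CohB1.support F) = (d : WithBot ℕ∞))
    (hst : ∀ (F : X.Modules) (j : F ⟶ E), Mono j → Coh.IsCoh F → ∀ Q : ℚ[X],
      (∀ m : ℤ, (Curv2.euler k X (Pic13.twistOn k ι F m) : ℚ) = Q.eval (m : ℚ)) →
        0 < Q.coeff d → Q.coeff d < P.coeff d →
          toLex (fun j : Fin ℓ => ((Q).coeff (d - 1 - (j : ℕ)) * (Nat.factorial (d - 1 - (j : ℕ)) : ℚ)) / ((Q).coeff d * (Nat.factorial d : ℚ))) < toLex (fun j : Fin ℓ => ((P).coeff (d - 1 - (j : ℕ)) * (Nat.factorial (d - 1 - (j : ℕ)) : ℚ)) / ((P).coeff d * (Nat.factorial d : ℚ))))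
    (φ : E ⟶ E) :
    ∃ c : k, ∀ (V : X.Opens) (s : E.val.obj (Opposite.op V)),
      (φ.val.app (Opposite.op V)) s = (X.ringCatSheaf.obj.map (homOfLE (le_top : V ≤ ⊤)).op (Coh.toGlobal (X ↘ Spec (CommRingCat.of k)) c : X.ringCatSheaf.obj.obj (Opposite.op ⊤))) • s := by
  have hfam := (Groth.Agent.H10Coh.Stab.isTwistFamily_projSpace N k).pullback ι
  let L : X.Modules := (Scheme.Modules.pullback ι).obj (Twist.twistProjSpace N k 1)
  haveI : CompactSpace (CohB1.ProjSpace N k) := Groth.Agent.H11Ample.compactSpace_projSpace N k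
  haveI : QuasiSeparatedSpace (CohB1.ProjSpace N k) := Groth.Agent.H11Ample.quasiSeparatedSpace_projSpace N k
  haveI : CompactSpace X := QuasiCompact.compactSpace_of_compactSpace ι
  have hL : CohB1.IsAmple L := Groth.Agent.H11Ample.isAmple_pullback ι
    (Groth.Agent.H11Ample.isAmple_twistProjSpace N k) fun x => ⟨⊤, trivial, fun W hW _ => hW.preimage ι⟩
  have hPk : ShStab.IsHilbPoly k X L E P := Groth.Agent.H10Coh.Stab.isHilbPoly_of_int hfam hP
  have h0 : ¬ IsZero E := fun h => hP0
    (Groth.Agent.H25Euler.hilbPoly_unique hPk (Groth.Agent.H25Euler.hilbPoly_zero h))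
  have hp : ShStab.IsPure X E d := hpure
  have hmono : ∀ ψ : E ⟶ E, ψ ≠ 0 → Mono ψ := by
    intro ψ hψ
    refine Preadditive.mono_of_isZero_kernel _ (by_contra fun hK0 => ?_)
    have hdE := Groth.Agent.H10Coh.Stab.dim_lt_succ_of_pure hp hE
    obtain ⟨pK, hK, hI, hpK, hpI⟩ := Groth.Agent.H10Coh.Stab.exists_image_data hL hE hE ψ hPk hdE
    have hIp := Groth.Agent.H10Coh.Stab.isPure_of_mono hp (Abelian.image.ι ψ)
    have hKp := Groth.Agent.H10Coh.Stab.isPure_of_mono hp (kernel.ι ψ)
    have hαK := Groth.Agent.H10Coh.Stab.alpha_pos_of_pure hL hKp hK hK0 hpK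
    have hαI := Groth.Agent.H10Coh.Stab.alpha_pos_of_pure hL hIp hI
      (Groth.Agent.H10Coh.Stab.not_isZero_image hψ) hpI
    have hf : (0 : ℚ) < (d.factorial : ℚ) := by exact_mod_cast d.factorial_pos
    have cK : 0 < pK.coeff d := pos_of_mul_pos_right hαK hf.le
    have cI : 0 < (P - pK).coeff d := pos_of_mul_pos_right hαI hf.le
    have h1 := hst (kernel ψ) (kernel.ι ψ) inferInstance hK pK
      (Groth.Agent.H10Coh.Stab.int_of_isHilbPoly hfam hL hK
        (Groth.Agent.H10Coh.Stab.dim_lt_succ_of_pure hKp hK) hpK) cK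
      (by rw [Polynomial.coeff_sub] at cI; linarith)
    have h2 := hst (Abelian.image ψ) (Abelian.image.ι ψ) inferInstance hI (P - pK)
      (Groth.Agent.H10Coh.Stab.int_of_isHilbPoly hfam hL hI
        (Groth.Agent.H10Coh.Stab.dim_lt_succ_of_pure hIp hI) hpI) cI
      (by rw [Polynomial.coeff_sub]; linarith)
    obtain ⟨i, hi, hi'⟩ := h1
    obtain ⟨j, hj, hj'⟩ := h2
    have hP' : 0 < P.coeff d := by rw [Polynomial.coeff_sub] at cI; linarith
    have key : ∀ l : Fin ℓ,
        ((pK.coeff (d - 1 - (l : ℕ)) * (Nat.factorial (d - 1 - (l : ℕ)) : ℚ)) / (pK.coeff d * (d.factorial : ℚ))) *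
            (pK.coeff d) +
          (((P - pK).coeff (d - 1 - (l : ℕ)) * (Nat.factorial (d - 1 - (l : ℕ)) : ℚ)) /
              ((P - pK).coeff d * (d.factorial : ℚ))) * ((P - pK).coeff d) =
          ((P.coeff (d - 1 - (l : ℕ)) * (Nat.factorial (d - 1 - (l : ℕ)) : ℚ)) / (P.coeff d * (d.factorial : ℚ))) *
            (pK.coeff d + (P - pK).coeff d) := by
      intro l
      have := cI.ne'
      rw [Polynomial.coeff_sub] at this
      rw [Polynomial.coeff_sub, Polynomial.coeff_sub]
      field_simp
      ring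
    rcases lt_trichotomy i j with h | h | h
    · have e := key i
      have := hj i h
      simp only [Pi.toLex_apply] at hi' this
      rw [this] at e
      nlinarith [mul_lt_mul_of_pos_right hi' cK]
    · subst h
      have e := key i
      simp only [Pi.toLex_apply] at hi' hj'
      nlinarith [mul_lt_mul_of_pos_right hi' cK, mul_lt_mul_of_pos_right hj' cI]
    · have e := key j
      have := hi j h
      simp only [Pi.toLex_apply] at hj' this
      rw [this] at e
      nlinarith [mul_lt_mul_of_pos_right hj' cI]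
  obtain ⟨c, rfl⟩ := Groth.Agent.H10Coh.Stab.endo_eq_smulMod k hL hp hE h0 hmono φ
  exact ⟨c, fun V s => rfl⟩

end Groth.Agent.S15002
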