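import Groth.Statements.S15005
import Groth.Agent.H28Alg.Incidence

set_option autoImplicit false
universe u v
open Harb

namespace Groth.Agent.S15005

/-- Let C be a finite family of d curves, recorded as an incidence relation between a type of points and
a finite index type, such that any two distinct curves of the family meet in exactly h points; let
t_k be the number of k-fold points (points lying on exactly k curves of the family). Then f₂ − f₁ =
Σ_{k ≥ 2} k(k − 1) t_k equals h d(d − 1), where f_i = Σ_{k ≥ 2} k^i t_k. (The published statement is
for a transversal arrangement of curves on a geometrically ruled surface with invariant e, all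
numerically equivalent to a C₀ + b f, where any two of the curves meet transversally in h = 2ab −
a²e points; only this common pairwise intersection count enters the proof, and this row states the
identity for an abstract incidence relation.) -/
theorem result (P : Type u) (ι : Type v) [Fintype ι]
    (inc : P → ι → Prop) (h : ℕ)
    (hfin : ∀ i j : ι, i ≠ j → {p : P | inc p i ∧ inc p j}.Finite)
    (hcount : ∀ i j : ι, i ≠ j → {p : P | inc p i ∧ inc p j}.ncard = h) :
    ∑ k ∈ Finset.Icc 2 (Fintype.card ι), k * (k - 1) * Nat.card {p : P // Nat.card {j : ι // inc p j} = k} =
      h * (Fintype.card ι * (Fintype.card ι - 1)) := by
  exact H28Alg.Incidence.sum_kfold hfin hcount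

end Groth.Agent.S15005
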