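import Groth.Statements.S15008
import Groth.Agent.H23TFCurv.LatticeGor
import Groth.Agent.H23TFCurv.Colength

set_option autoImplicit false
universe u
open CategoryTheory
open TFCurv

namespace Groth.Agent.S15008

/-- Let O be a one-dimensional Noetherian local domain with algebraically closed residue field whose
integral closure O~ in its fraction field K is a finite O-module, and suppose O is not Gorenstein.
If w is an O-submodule of K with O ⊆ w ⊆ O~ whose injective dimension as an O-module is at most one
(a canonical ideal placed between O and O~), then length(w/O) + length(O~/C) = 2 · length(O~/O),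
where C is the conductor of O in O~. -/
theorem result (O : Type u) [CommRing O] [IsDomain O] [IsNoetherianRing O] [IsLocalRing O] (hdim : ringKrullDim O = 1) [IsAlgClosed (IsLocalRing.ResidueField O)] (K : Type u) [Field K] [Algebra O K] [IsFractionRing O K] (hfin : Module.Finite O ↥(integralClosure O K)) (hG : ¬ LocCoh.IsGorensteinLocalRing O) (ω : Submodule O K) (hω1 : (1 : Submodule O K) ≤ ω) (hω2 : ω ≤ (Subalgebra.toSubmodule (integralClosure O K))) (hωinj : HasInjectiveDimensionLT (ModuleCat.of O ↥ω) 2) : Module.length O (↥ω ⧸ Submodule.comap ω.subtype (1 : Submodule O K)) + Module.length O (↥(integralClosure O K) ⧸ ((1 : Submodule O K).colon (Subalgebra.toSubmodule (integralClosure O K))) • (⊤ : Submodule O ↥(integralClosure O K))) = 2 * Module.length O (↥(integralClosure O K) ⧸ Submodule.comap (Subalgebra.toSubmodule (integralClosure O K)).subtype (1 : Submodule O K)) := by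
  classical
  haveI := hfin
  set T := Subalgebra.toSubmodule (integralClosure O K) with hT
  set Ck := H23TFCurv.condK O K with hCk
  haveI : IsNoetherian O ↥T := isNoetherian_of_isNoetherianRing_of_finite O ↥(integralClosure O K)
  haveI : IsNoetherian O ↥ω := isNoetherian_of_le hω2
  have hω : H23TFCurv.IsCanonical ω := ⟨hdim, fun h => by
    have : (1 : K) ∈ ω := hω1 (Submodule.one_le.mp (le_refl (1 : Submodule O K)))
    rw [h, Submodule.mem_bot] at this
    exact one_ne_zero this, Module.Finite.iff_fg.mp inferInstance, hωinj⟩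
  have h1K : (1 : K) ∈ ω := hω1 (Submodule.one_le.mp (le_refl (1 : Submodule O K)))
  have h1T : (1 : Submodule O K) ≤ T := fun x hx => by
    obtain ⟨a, rfl⟩ := Submodule.mem_one.mp hx
    exact (integralClosure O K).algebraMap_mem a
  have hdual : ∀ u : K, u ∈ Ck ↔ ∀ t ∈ T, u * t ∈ ω := by
    intro u
    refine ⟨fun hu t ht => hω1 (H23TFCurv.mem_condK.mp hu t ht), fun hu => H23TFCurv.mem_condK.mpr fun t ht => ?_⟩
    let f : ↥ω →ₗ[O] ↥ω :=
      { toFun := fun w => ⟨u * t * w, by
          rw [mul_assoc]
          exact hu _ ((integralClosure O K).mul_mem ht (hω2 w.2))⟩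
        map_add' := fun w w' => Subtype.ext (mul_add _ _ _)
        map_smul' := fun r w => Subtype.ext (mul_smul_comm _ _ _) }
    obtain ⟨r, hr⟩ := H23TFCurv.exists_eq_smul_id hω f
    have := congrArg Subtype.val (LinearMap.congr_fun hr ⟨1, h1K⟩)
    rw [Submodule.mem_one]
    refine ⟨r, ?_⟩
    simpa [f, Algebra.smul_def] using this.symm
  let P : Submodule O ↥T := (1 : Submodule O K).comap T.subtype
  let π := P.mkQ
  have hker : LinearMap.ker π = P := P.ker_mkQ
  let one' : LinearMap.ker π := ⟨⟨1, h1T (Submodule.one_le.mp (le_refl (1 : Submodule O K)))⟩,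
    hker.ge (Submodule.one_le.mp (le_refl (1 : Submodule O K)) : (1 : K) ∈ (1 : Submodule O K))⟩
  have hgen : ∀ v : LinearMap.ker π, ∃ a : O, v = a • one' := by
    intro v
    obtain ⟨a, ha⟩ := Submodule.mem_one.mp (hker.le v.2 : (v.1.1 : K) ∈ (1 : Submodule O K))
    exact ⟨a, Subtype.ext (Subtype.ext (by simp [one', Algebra.smul_def, ha]))⟩
  haveI : NoZeroSMulDivisors O ↥T := ⟨fun {c x} h => or_iff_not_imp_left.mpr fun hc =>
    H23TFCurv.smul_eq_zero_omega T hc h⟩
  have hQfin : Module.length O (↥T ⧸ P) ≠ ⊤ := by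
    obtain ⟨c, hc, hcC⟩ := H23TFCurv.exists_ne_zero_condK (O := O) (K := K) hfin
    refine H23TFCurv.length_ne_top hω _ fun q => ?_
    obtain ⟨t, rfl⟩ := Submodule.Quotient.mk_surjective _ q
    refine ⟨c, hc, ?_⟩
    rw [← Submodule.Quotient.mk_smul, Submodule.Quotient.mk_eq_zero]
    show c • (t.1 : K) ∈ (1 : Submodule O K)
    rw [Algebra.smul_def]
    exact H23TFCurv.mem_condK.mp hcC _ t.2
  have hkey : H23TFCurv.qlen ω Ck = H23TFCurv.qlen T 1 := by
    let Θ : (LinearMap.ker π →ₗ[O] ↥ω) →ₗ[O] ↥ω ⧸ Ck.comap ω.subtype :=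
      (Ck.comap ω.subtype).mkQ ∘ₗ LinearMap.applyₗ one'
    have hsurj : Function.Surjective Θ := by
      intro y
      obtain ⟨w, rfl⟩ := Submodule.Quotient.mk_surjective _ y
      have hmem : ∀ v : LinearMap.ker π, (v.1.1 : K) * w ∈ ω := fun v => by
        obtain ⟨a, ha⟩ := hgen v
        rw [ha]
        simpa [one'] using ω.smul_mem a w.2
      refine ⟨{ toFun := fun v => ⟨(v.1.1 : K) * w, hmem v⟩
                map_add' := fun v v' => Subtype.ext (add_mul _ _ _)
                map_smul' := fun r v => Subtype.ext (smul_mul_assoc _ _ _) }, ?_⟩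
      show Submodule.Quotient.mk _ = _
      congr 1
      exact Subtype.ext (one_mul _)
    have hkΘ : LinearMap.ker Θ = LinearMap.range (LinearMap.lcomp O ↥ω (LinearMap.ker π).subtype) := by
      ext φ
      rw [LinearMap.mem_ker]
      show Submodule.Quotient.mk (φ one') = 0 ↔ _
      rw [Submodule.Quotient.mk_eq_zero]
      show (φ one' : K) ∈ Ck ↔ _
      constructor
      · intro hu
        refine ⟨{ toFun := fun t => ⟨(φ one' : K) * t, (hdual _).mp hu t t.2⟩
                  map_add' := fun t t' => Subtype.ext (mul_add _ _ _)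
                  map_smul' := fun r t => Subtype.ext (mul_smul_comm _ _ _) }, LinearMap.ext fun v => ?_⟩
        obtain ⟨a, rfl⟩ := hgen v
        refine Subtype.ext ?_
        show (φ one' : K) * ((a • one').1.1 : K) = (φ (a • one') : K)
        rw [map_smul]
        simp [one']
      · rintro ⟨n, rfl⟩
        refine (hdual _).mpr fun t ht => ?_
        have := H23TFCurv.map_eq_mul n one'.1 ⟨t, ht⟩
        show (n one'.1 : K) * t ∈ ω
        rw [this]
        show (1 : K) * _ ∈ ω
        rw [one_mul]
        exact (n ⟨t, ht⟩).2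
    show Module.length O (↥ω ⧸ Ck.comap ω.subtype) = _
    rw [← (Θ.quotKerEquivOfSurjective hsurj).length_eq, (Submodule.quotEquivOfEq _ _ hkΘ).length_eq,
      H23TFCurv.length_coker_restrict hω π P.mkQ_surjective hQfin]
    rfl
  have hconv : Module.length O (↥(integralClosure O K) ⧸ ((1 : Submodule O K).colon (Subalgebra.toSubmodule (integralClosure O K))) • (⊤ : Submodule O ↥(integralClosure O K))) = H23TFCurv.qlen T Ck := by
    refine (Submodule.Quotient.equiv _ (Ck.comap T.subtype)
      { toFun := fun x => ⟨x.1, x.2⟩, invFun := fun x => ⟨x.1, x.2⟩, left_inv := fun _ => rfl, right_inv := fun _ => rfl,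
        map_add' := fun _ _ => rfl, map_smul' := fun _ _ => rfl } ?_).length_eq
    ext y
    constructor
    · rintro ⟨x, hx, rfl⟩
      show (x.1 : K) ∈ Ck
      refine Submodule.smul_induction_on hx (fun r hr z _ => ?_) (fun a b ha hb => add_mem ha hb)
      show r • (z.1 : K) ∈ Ck
      rw [Algebra.smul_def]
      refine H23TFCurv.condK_stable ?_ z.2
      rw [Algebra.algebraMap_eq_smul_one]
      exact Submodule.smul_mem_smul hr (Submodule.one_le.mp (le_refl (1 : Submodule O K)))
    · intro hy
      obtain ⟨r, hr⟩ := Submodule.mem_one.mp (H23TFCurv.condK_le_one hy)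
      refine ⟨⟨y.1, y.2⟩, ?_, rfl⟩
      have : (⟨y.1, y.2⟩ : ↥(integralClosure O K)) = r • (1 : ↥(integralClosure O K)) :=
        Subtype.ext (by simp [Algebra.smul_def, hr])
      rw [this]
      refine Submodule.smul_mem_smul (Submodule.mem_colon.mpr fun t ht => ?_) Submodule.mem_top
      rw [Algebra.smul_def, hr]
      exact H23TFCurv.mem_condK.mp hy t ht
  show H23TFCurv.qlen ω 1 + _ = 2 * H23TFCurv.qlen T 1
  rw [hconv, H23TFCurv.qlen_chain H23TFCurv.condK_le_one h1T, two_mul, ← add_assoc,
    add_comm (H23TFCurv.qlen ω 1) (H23TFCurv.qlen 1 Ck), ← H23TFCurv.qlen_chain H23TFCurv.condK_le_one hω1, hkey]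

end Groth.Agent.S15008
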