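import Groth.Statements.S15009
import Groth.Agent.H23TFCurv.Basic

set_option autoImplicit false
universe u
open TFCurv

namespace Groth.Agent.S15009

/-- Let O be a one-dimensional Noetherian local domain with algebraically closed residue field whose
integral closure O~ in its fraction field K is a finite O-module. A finitely generated torsion-free
O-module M of rank n (that is, K ⊗ M has K-dimension n) is isomorphic to an O-submodule M' of K^n
with O^n ⊆ M' ⊆ O~^n. -/
theorem result (O : Type u) [CommRing O] [IsDomain O] [IsNoetherianRing O] [IsLocalRing O] (hdim : ringKrullDim O = 1) [IsAlgClosed (IsLocalRing.ResidueField O)] (K : Type u) [Field K] [Algebra O K] [IsFractionRing O K] (hfin : Module.Finite O ↥(integralClosure O K)) (M : Type u) [AddCommGroup M] [Module O M] [Module.Finite O M] [NoZeroSMulDivisors O M] (n : ℕ) (hn : Module.finrank K (TensorProduct O K M) = n) : ∃ M' : Submodule O (Fin n → K), Submodule.pi Set.univ (fun _ : Fin n => (1 : Submodule O K)) ≤ M' ∧ M' ≤ Submodule.pi Set.univ (fun _ : Fin n => (Subalgebra.toSubmodule (integralClosure O K))) ∧ Nonempty (M ≃ₗ[O] ↥M')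 := by
  obtain ⟨M', h1, h2, h3⟩ := Groth.Agent.H23TFCurv.exists_between O K hdim hfin M n hn
  exact ⟨M', h1, h2, h3⟩

end Groth.Agent.S15009
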