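import Groth.Statements.S15010
import Mathlib

set_option autoImplicit false
universe u
open TFCurv

namespace Groth.Agent.S15010

/-- Let O be a one-dimensional Noetherian local domain with algebraically closed residue field whose
integral closure O~ in its fraction field K is a finite O-module. If M and N are O-submodules of K^n
with O^n ⊆ M ⊆ O~^n and O^n ⊆ N ⊆ O~^n, then every O-linear isomorphism M → N is the restriction of
x ↦ A·x for an invertible n × n matrix A with entries in O~. -/
theorem result (O : Type u) [CommRing O] [IsDomain O] [IsNoetherianRing O] [IsLocalRing O] (hdim : ringKrullDim O = 1) [IsAlgClosed (IsLocalRing.ResidueField O)] (K : Type u) [Field K] [Algebra O K] [IsFractionRing O K] (hfin : Module.Finite O ↥(integralClosure O K)) (n : ℕ) (M N : Submodule O (Fin n → K)) (hM1 : Submodule.pi Set.univ (fun _ : Fin n => (1 : Submodule O K)) ≤ M) (hM2 : M ≤ Submodule.pi Set.univ (fun _ : Fin n => (Subalgebra.toSubmodule (integralClosure O K)))) (hN1 : Submodule.pi Set.univ (fun _ : Fin n => (1 : Submodule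 O K)) ≤ N) (hN2 : N ≤ Submodule.pi Set.univ (fun _ : Fin n => (Subalgebra.toSubmodule (integralClosure O K)))) (φ : ↥M ≃ₗ[O] ↥N) : ∃ A : Matrix (Fin n) (Fin n) ↥(integralClosure O K), IsUnit A ∧ ∀ x : ↥M, ((φ x : ↥N) : Fin n → K) = (A.map (algebraMap ↥(integralClosure O K) K)).mulVec (x : Fin n → K) := by
  classical
  have std : ∀ (P : Submodule O (Fin n → K)), Submodule.pi Set.univ (fun _ : Fin n => (1 : Submodule O K)) ≤ P →
      ∀ c : Fin n → O, (fun j => algebraMap O K (c j)) ∈ P := fun P hP c =>
    hP (Submodule.mem_pi.mpr fun j _ => Submodule.mem_one.mpr ⟨c j, rfl⟩)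
  -- an `O`-linear map between such lattices is given by a matrix
  have key : ∀ (P Q : Submodule O (Fin n → K)),
      Submodule.pi Set.univ (fun _ : Fin n => (1 : Submodule O K)) ≤ P →
      Q ≤ Submodule.pi Set.univ (fun _ : Fin n => (Subalgebra.toSubmodule (integralClosure O K))) →
      ∀ ψ : ↥P →ₗ[O] ↥Q, ∃ A : Matrix (Fin n) (Fin n) ↥(integralClosure O K),
        ∀ x : ↥P, ((ψ x : ↥Q) : Fin n → K) = (A.map (algebraMap ↥(integralClosure O K) K)).mulVec (x : Fin n → K) := by
    intro P Q hP hQ ψ
    let b : Fin n → ↥P := fun j => ⟨fun l => algebraMap O K ((Pi.single j 1 : Fin n → O) l), std P hP _⟩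
    let A : Matrix (Fin n) (Fin n) ↥(integralClosure O K) := fun i j =>
      ⟨((ψ (b j) : ↥Q) : Fin n → K) i, Submodule.mem_pi.mp (hQ (ψ (b j)).2) i (Set.mem_univ i)⟩
    refine ⟨A, fun x => ?_⟩
    obtain ⟨d, hd⟩ := IsLocalization.exist_integer_multiples_of_finite (nonZeroDivisors O)
      (fun j => ((x : ↥P) : Fin n → K) j)
    choose c hc using hd
    have hsum : (d : O) • x = ∑ j, c j • b j := by
      apply Subtype.ext
      rw [Submodule.coe_smul, Submodule.coe_sum]
      funext l
      rw [Finset.sum_apply, Pi.smul_apply, ← hc l, Finset.sum_eq_single l]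
      · simp [b, Algebra.smul_def]
      · intro j _ hj
        simp [b, Pi.single_eq_of_ne (Ne.symm hj)]
      · simp
    have hd0 : algebraMap O K (d : O) ≠ 0 := IsFractionRing.to_map_ne_zero_of_mem_nonZeroDivisors d.2
    have h1 := congrArg (fun z : ↥P => ((ψ z : ↥Q) : Fin n → K)) hsum
    simp only [map_smul, map_sum, Submodule.coe_smul, Submodule.coe_sum] at h1
    funext i
    have h2 := congrFun h1 i
    simp only [Pi.smul_apply, Finset.sum_apply] at h2
    simp only [Algebra.smul_def] at h2
    refine mul_left_cancel₀ hd0 ?_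
    rw [h2, Matrix.mulVec, dotProduct, Finset.mul_sum]
    refine Finset.sum_congr rfl fun j _ => ?_
    rw [hc j, Algebra.smul_def]
    simp only [A, Matrix.map_apply]
    change _ = algebraMap O K (d : O) * (((ψ (b j) : ↥Q) : Fin n → K) i * _)
    ring
  obtain ⟨A, hA⟩ := key M N hM1 hN2 φ.toLinearMap
  obtain ⟨B, hB⟩ := key N M hN1 hM2 φ.symm.toLinearMap
  have hinj : Function.Injective (fun C : Matrix (Fin n) (Fin n) ↥(integralClosure O K) =>
      C.map (algebraMap ↥(integralClosure O K) K)) :=
    Matrix.map_injective Subtype.val_injective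
  have hone : ∀ (C : Matrix (Fin n) (Fin n) K) (P : Submodule O (Fin n → K)),
      Submodule.pi Set.univ (fun _ : Fin n => (1 : Submodule O K)) ≤ P →
      (∀ x ∈ P, C.mulVec x = x) → C = 1 := by
    intro C P hP h
    ext i j
    have := congrFun (h _ (std P hP (Pi.single j 1))) i
    have he : (fun l => algebraMap O K ((Pi.single j 1 : Fin n → O) l)) = Pi.single j 1 := by
      funext l
      rcases eq_or_ne l j with rfl | hl <;> simp [*]
    rw [he, Matrix.mulVec_single_one, Matrix.col_apply] at this
    rw [this, Matrix.one_apply]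
    rcases eq_or_ne i j with rfl | hij <;> simp [*]
  have hBA : B * A = 1 := by
    apply hinj
    simp only [Matrix.map_mul, Matrix.map_one _ (map_zero _) (map_one _)]
    refine hone _ M hM1 fun x hx => ?_
    rw [← Matrix.mulVec_mulVec, ← hA ⟨x, hx⟩]
    have := hB (φ ⟨x, hx⟩)
    simp at this
    exact this.symm
  refine ⟨A, ⟨⟨A, B, mul_eq_one_comm.mp hBA, hBA⟩, rfl⟩, hA⟩

end Groth.Agent.S15010
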