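import Groth.Statements.S15011
import Groth.Agent.H23TFCurv.Mult
import Groth.Agent.H22Alg.Lattice

set_option autoImplicit false
universe u
open TFCurv

namespace Groth.Agent.S15011

/-- Let O be a one-dimensional Noetherian local domain with maximal ideal m and algebraically closed
residue field, whose integral closure O~ in its fraction field K is a finite O-module; put e =
length(O~/m O~), the multiplicity of O. Then a finitely generated torsion-free O-module of rank n
can be generated by at most n·e elements. -/
theorem result (O : Type u) [CommRing O] [IsDomain O] [IsNoetherianRing O] [IsLocalRing O] (hdim : ringKrullDim O = 1) [IsAlgClosed (IsLocalRing.ResidueField O)] (K : Type u) [Field K] [Algebra O K] [IsFractionRing O K] (hfin : Module.Finite O ↥(integralClosure O K)) (M : Type u) [AddCommGroup M] [Module O M] [Module.Finite O M] [NoZeroSMulDivisors O M] (n : ℕ) (hn : Module.finrank K (TensorProduct O K M) = n) : ((⊤ : Submodule O M).spanFinrank : ℕ∞) ≤ (n : ℕ∞) * Module.length O (↥(integralClosure O K) ⧸ (IsLocalRing.maximalIdeal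 O) • (⊤ : Submodule O ↥(integralClosure O K))) := by
  classical
  haveI := hfin
  obtain ⟨M', h1, h2, ⟨e⟩⟩ := Groth.Agent.H23TFCurv.exists_between O K hdim hfin M n hn
  obtain ⟨x, hx, hx0, hxI⟩ := Groth.Agent.H23TFCurv.exists_generic_element O K hdim hfin
  let T := ↥(integralClosure O K)
  let W := Subalgebra.toSubmodule (integralClosure O K)
  let P : Submodule O (Fin n → K) := Groth.Agent.H23TFCurv.stdLattice O K n W
  let Φ : (Fin n → T) ≃ₗ[O] P :=
    { toFun := fun v => ⟨fun i => (v i : K), fun i _ => (v i).2⟩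
      invFun := fun v i => ⟨v.1 i, v.2 i trivial⟩
      map_add' := fun _ _ => rfl
      map_smul' := fun _ _ => rfl
      left_inv := fun _ => rfl
      right_inv := fun _ => rfl }
  have hPfg : P.FG := Module.Finite.iff_fg.mp (Module.Finite.equiv Φ)
  -- common denominators
  have hden : ∀ z ∈ P, ∃ a : O, a ≠ 0 ∧ a • z ∈ M' := by
    intro z _
    obtain ⟨⟨b, hb⟩, hb'⟩ := IsLocalization.exist_integer_multiples_of_finite (nonZeroDivisors O) z
    exact ⟨b, nonZeroDivisors.ne_zero hb, h1 fun i _ => Submodule.mem_one.mpr (hb' i)⟩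
  have hxinj : Function.Injective (LinearMap.lsmul O P x) := fun a b h =>
    Subtype.ext (smul_right_injective (Fin n → K) hx0 (congrArg Subtype.val h))
  let ρ : (Fin n → T) →ₗ[O] (Fin n → T ⧸ (IsLocalRing.maximalIdeal O) • (⊤ : Submodule O T)) :=
    LinearMap.pi fun i => ((IsLocalRing.maximalIdeal O) • (⊤ : Submodule O T)).mkQ.comp (LinearMap.proj i)
  have hker : (LinearMap.range (LinearMap.lsmul O (Fin n → T) x)) = LinearMap.ker ρ := by
    have hI : ∀ t : T, t ∈ (IsLocalRing.maximalIdeal O) • (⊤ : Submodule O T) ↔ ∃ s, x • s = t := by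
      intro t
      rw [Ideal.smul_top_eq_map, hxI, Submodule.restrictScalars_mem, Ideal.mem_span_singleton']
      exact exists_congr fun s => by rw [Algebra.smul_def, mul_comm]
    ext v
    constructor
    · rintro ⟨w, rfl⟩
      funext i
      exact (Submodule.Quotient.mk_eq_zero _).mpr ((hI _).mpr ⟨w i, rfl⟩)
    · intro hv
      choose w hw using fun i => (hI (v i)).mp ((Submodule.Quotient.mk_eq_zero _).mp (congrFun hv i))
      exact ⟨w, funext hw⟩
  have hsurj : Function.Surjective ρ := fun v => by
    choose w hw using fun i => Submodule.mkQ_surjective _ (v i)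
    exact ⟨w, funext hw⟩
  have hmap : (LinearMap.range (LinearMap.lsmul O (Fin n → T) x)).map Φ.toLinearMap =
      LinearMap.range (LinearMap.lsmul O P x) := by
    ext p
    constructor
    · rintro ⟨_, ⟨w, rfl⟩, rfl⟩
      exact ⟨Φ w, (map_smul Φ x w).symm⟩
    · rintro ⟨w, rfl⟩
      exact ⟨_, ⟨Φ.symm w, rfl⟩, (map_smul Φ x (Φ.symm w)).trans (congrArg (x • ·) (Φ.apply_symm_apply w))⟩
  have hP : Module.length O (P ⧸ LinearMap.range (LinearMap.lsmul O P x)) =
      (n : ℕ∞) * Module.length O (T ⧸ (IsLocalRing.maximalIdeal O) • (⊤ : Submodule O T)) := by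
    rw [← (Submodule.Quotient.equiv _ _ Φ hmap).length_eq, ((Submodule.quotEquivOfEq _ _ hker).trans
      (ρ.quotKerEquivOfSurjective hsurj)).length_eq, Module.length_pi_of_fintype]
    simp [T]
  rw [← hP]
  exact Groth.Agent.H23TFCurv.spanFinrank_le_of_equiv (M'.comap P.subtype)
    (e.trans (Submodule.submoduleOfEquivOfLe h2).symm) hx hxinj
    (Groth.Agent.H22Alg.length_ne_top_of_forall_exists_smul hdim.le hPfg hden)

end Groth.Agent.S15011
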