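import Groth.Statements.S15012
import Groth.Agent.H23TFCurv.LatticeGor
import Groth.Agent.H23TFCurv.Colength
import Mathlib.LinearAlgebra.Quotient.Pi

set_option autoImplicit false
universe u
open TFCurv

namespace Groth.Agent.S15012

/-- Let O be a one-dimensional Gorenstein local domain with algebraically closed residue field whose
integral closure O~ in its fraction field K is a finite O-module, and let C ⊆ O be the conductor of
O in O~. Every finitely generated torsion-free O-module of rank n is isomorphic to an O-submodule M'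
of K^n with C^n ⊆ M' ⊆ O~^n and length(M'/C^n) = n · length(O/C); that is, every isomorphism class
of rank-n torsion-free modules is represented by a submodule of (O~/C)^n of the same length as
(O/C)^n. -/
theorem result (O : Type u) [CommRing O] [IsDomain O] [LocCoh.IsGorensteinLocalRing O] (hdim : ringKrullDim O = 1) [IsAlgClosed (IsLocalRing.ResidueField O)] (K : Type u) [Field K] [Algebra O K] [IsFractionRing O K] (hfin : Module.Finite O ↥(integralClosure O K)) (M : Type u) [AddCommGroup M] [Module O M] [Module.Finite O M] [NoZeroSMulDivisors O M] (n : ℕ) (hn : Module.finrank K (TensorProduct O K M) = n) : ∃ M' : Submodule O (Fin n → K), Submodule.pi Set.univ (fun _ : Fin n => (((1 : Submodule O K).colon (Subalgebra.toSubmodule (integralClosure O K))) • (1 : Submodule O K))) ≤ M' ∧ M' ≤ Submodule.pi Set.univ (fun _ : Fin n => (Subalgebra.toSubmodule (integralClosure O K))) ∧ Nonempty (M ≃ₗ[O] ↥M') ∧ Module.length O (↥M' ⧸ Submodule.comap M'.subtype (Submodule.pi Set.univ (fun _ : Fin n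 => (((1 : Submodule O K).colon (Subalgebra.toSubmodule (integralClosure O K))) • (1 : Submodule O K))))) = (n : ℕ∞) * Module.length O (O ⧸ ((1 : Submodule O K).colon (Subalgebra.toSubmodule (integralClosure O K)))) := by
  classical
  haveI := hfin
  have hω := H23TFCurv.isCanonical_one O K hdim
  obtain ⟨M₂, hX2, h2Y, ⟨e2⟩⟩ := H23TFCurv.exists_between_conductor hdim hfin M n hn
  obtain ⟨M₀, hY0, h0Z, ⟨e0⟩⟩ := H23TFCurv.exists_between O K hdim hfin M n hn
  let T := integralClosure O K
  haveI := H23TFCurv.isPrincipalIdealRing_normalization O K hdim hfin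
  haveI : IsFractionRing ↥T K := integralClosure.isFractionRing_of_finite_extension K K
  haveI : IsNoetherianRing ↥T := IsNoetherianRing.of_finite O ↥T
  set X := H23TFCurv.stdLattice O K n (H23TFCurv.condK O K) with hXdef
  set Y := H23TFCurv.stdLattice O K n 1 with hYdef
  set Z := H23TFCurv.stdLattice O K n (Subalgebra.toSubmodule T) with hZdef
  have hYZ : Y ≤ Z := fun v hv l _ => by
    obtain ⟨a, ha⟩ := Submodule.mem_one.mp (hv l trivial)
    rw [← ha]
    exact T.algebraMap_mem a
  have hXY : X ≤ Y := fun v hv l _ => H23TFCurv.condK_le_one (hv l trivial)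
  have he : ∀ l, (Pi.single l (1 : K) : Fin n → K) ∈ M₀ := fun l =>
    H23TFCurv.single_mem hY0 (Submodule.one_le.mp (le_refl (1 : Submodule O K))) l
  -- `M₂` is the image of `M₀` under a linear map
  let ψ : ↥M₀ ≃ₗ[O] ↥M₂ := e0.symm.trans e2
  let u : Fin n → (Fin n → K) := fun l => (ψ ⟨_, he l⟩).1
  have huZ : ∀ l, u l ∈ Z := fun l => hYZ (h2Y (ψ ⟨_, he l⟩).2)
  let Φ : (Fin n → K) →ₗ[K] (Fin n → K) := Fintype.linearCombination K u
  have hΦ : ∀ w : ↥M₀, Φ w.1 = (ψ w).1 := fun w => by
    rw [Fintype.linearCombination_apply]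
    exact (H23TFCurv.map_eq_sum_single he (M₂.subtype ∘ₗ ψ.toLinearMap) w).symm
  have hM₂ : M₂ = M₀.map (Φ.restrictScalars O) := by
    apply le_antisymm
    · intro y hy
      refine ⟨(ψ.symm ⟨y, hy⟩).1, (ψ.symm ⟨y, hy⟩).2, ?_⟩
      show Φ _ = y
      rw [hΦ, LinearEquiv.apply_symm_apply]
    · rintro _ ⟨w, hw, rfl⟩
      show Φ w ∈ M₂
      rw [hΦ ⟨w, hw⟩]
      exact (ψ _).2
  -- the normalised lattices
  let ZT : Submodule ↥T (Fin n → K) := Submodule.span ↥T (Set.range fun l => (Pi.single l (1 : K) : Fin n → K))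
  have hZT : ∀ v, v ∈ ZT ↔ v ∈ Z := by
    intro v
    constructor
    · intro hv
      induction hv using Submodule.span_induction with
      | mem x hx =>
        obtain ⟨l, rfl⟩ := hx
        exact hYZ (H23TFCurv.single_mem le_rfl (Submodule.one_le.mp (le_refl (1 : Submodule O K))) l)
      | zero => exact zero_mem _
      | add x y _ _ hx hy => exact add_mem hx hy
      | smul t x _ hx => exact fun l hl => T.mul_mem t.2 (hx l hl)
    · intro hv
      rw [pi_eq_sum_univ' v]
      exact Submodule.sum_mem _ fun l _ => ZT.smul_mem ⟨v l, hv l trivial⟩ (Submodule.subset_span ⟨l, rfl⟩)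
  have hZTeq : ZT.restrictScalars O = Z := Submodule.ext hZT
  let L : Submodule ↥T (Fin n → K) := ZT.map (Φ.restrictScalars ↥T)
  have hLeq : L.restrictScalars O = Z.map (Φ.restrictScalars O) := by
    rw [← hZTeq]
    rfl
  have hLZ : L ≤ ZT := by
    refine Submodule.map_le_iff_le_comap.mpr (Submodule.span_le.mpr ?_)
    rintro _ ⟨l, rfl⟩
    refine (hZT _).mpr ?_
    show Φ (Pi.single l 1) ∈ Z
    simpa [Φ] using huZ l
  -- finiteness
  have hfinlen : ∀ A B : Submodule O (Fin n → K), X ≤ A → A ≤ Z → B ≤ Z → H23TFCurv.qlen B A ≠ ⊤ := by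
    intro A B hA hAZ hBZ
    obtain ⟨c, hc, hcC⟩ := H23TFCurv.exists_ne_zero_condK (O := O) (K := K) hfin
    haveI : IsNoetherian O ↥(Subalgebra.toSubmodule T) := isNoetherian_of_isNoetherianRing_of_finite O ↥T
    haveI : IsNoetherian O ↥Z := by
      let f : ↥Z →ₗ[O] (Fin n → ↥(Subalgebra.toSubmodule T)) :=
        LinearMap.pi fun l => LinearMap.codRestrict _ ((LinearMap.proj l) ∘ₗ Z.subtype) fun v => v.2 l trivial
      exact isNoetherian_of_injective f fun v w h => Subtype.ext (funext fun l => congrArg Subtype.val (congrFun h l))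
    haveI : IsNoetherian O ↥B := isNoetherian_of_le hBZ
    refine H23TFCurv.length_ne_top hω _ fun q => ?_
    obtain ⟨b, rfl⟩ := Submodule.Quotient.mk_surjective _ q
    refine ⟨c, hc, ?_⟩
    rw [← Submodule.Quotient.mk_smul, Submodule.Quotient.mk_eq_zero]
    show c • b.1 ∈ A
    refine hA fun l _ => ?_
    show (c • b.1) l ∈ H23TFCurv.condK O K
    rw [Pi.smul_apply, Algebra.smul_def]
    exact H23TFCurv.condK_stable hcC (hBZ b.2 l trivial)
  -- choose the colength
  obtain ⟨d, hd⟩ := ENat.ne_top_iff_exists.mp (hfinlen M₂ Y hX2 (h2Y.trans hYZ) hYZ)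
  have hdle : (d : ℕ∞) ≤ H23TFCurv.qlen (ZT.restrictScalars O) (L.restrictScalars O) := by
    rw [hd, hZTeq, hLeq]
    have hM2L : M₂ ≤ Z.map (Φ.restrictScalars O) := hM₂ ▸ Submodule.map_mono h0Z
    have hLZ' : Z.map (Φ.restrictScalars O) ≤ Z := by rw [← hLeq, ← hZTeq]; exact hLZ
    have h1 := (H23TFCurv.qlen_chain hM2L hLZ').symm.trans (H23TFCurv.qlen_chain h2Y hYZ)
    have h2 : H23TFCurv.qlen (Z.map (Φ.restrictScalars O)) M₂ ≤ H23TFCurv.qlen Z Y := by
      rw [hM₂]
      refine (H23TFCurv.qlen_map_le _ Z M₀).trans ?_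
      rw [H23TFCurv.qlen_chain hY0 h0Z]
      exact le_add_self
    obtain ⟨a, ha⟩ := ENat.ne_top_iff_exists.mp (hfinlen Y Z hXY hYZ le_rfl)
    obtain ⟨b, hb⟩ := ENat.ne_top_iff_exists.mp
      (hfinlen M₂ (Z.map (Φ.restrictScalars O)) hX2 (h2Y.trans hYZ) hLZ')
    obtain ⟨x, hx⟩ := ENat.ne_top_iff_exists.mp
      (hfinlen (Z.map (Φ.restrictScalars O)) Z (hX2.trans hM2L) hLZ' le_rfl)
    rw [← hb, ← hx, ← hd, ← ha] at h1
    rw [← hb, ← ha] at h2
    rw [← hd, ← hx]
    norm_cast at h1 h2 ⊢
    omega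
  obtain ⟨L', hLL', hL'Z, hL'd⟩ := H23TFCurv.exists_colength (O := O) hLZ (Submodule.fg_span (Set.finite_range _)) d hdle
  rw [hZTeq] at hL'd
  set L₁ := L'.restrictScalars O with hL₁
  have hM2L₁ : M₂ ≤ L₁ := fun y hy => hLL' (by
    rw [hM₂] at hy
    obtain ⟨w, hw, rfl⟩ := hy
    exact ⟨w, (hZT w).mpr (h0Z hw), rfl⟩)
  have hL₁Z : L₁ ≤ Z := fun y hy => (hZT y).mp (hL'Z hy)
  -- a basis of the new lattice
  haveI : IsNoetherian ↥T ↥ZT := isNoetherian_of_fg_of_noetherian ZT (Submodule.fg_span (Set.finite_range _))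
  haveI : Module.Finite ↥T ↥L' := Module.Finite.of_injective (Submodule.inclusion hL'Z) (Submodule.inclusion_injective hL'Z)
  haveI : Module.Free ↥T ↥L' := Module.free_of_finite_type_torsion_free'
  let b := Module.Free.chooseBasis ↥T ↥L'
  have hbK : LinearIndependent K (fun i => (b i : Fin n → K)) :=
    LinearIndependent.iff_fractionRing ↥T K |>.mp (b.linearIndependent.map' L'.subtype L'.ker_subtype)
  have hbspan : ⊤ ≤ Submodule.span K (Set.range fun i => (b i : Fin n → K)) := by
    rintro v -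
    rw [pi_eq_sum_univ' v]
    refine Submodule.sum_mem _ fun l _ => Submodule.smul_mem _ _ ?_
    obtain ⟨c, hc, hcC⟩ := H23TFCurv.exists_ne_zero_condK (O := O) (K := K) hfin
    have hm : (Pi.single l (algebraMap O K c) : Fin n → K) ∈ L' := hM2L₁ (H23TFCurv.single_mem hX2 hcC l)
    have h2 : (⟨_, hm⟩ : ↥L') ∈ Submodule.span ↥T (Set.range b) := by rw [b.span_eq]; trivial
    have h3 := Submodule.apply_mem_span_image_of_mem_span L'.subtype h2
    rw [← Set.range_comp] at h3
    have h4 : (Pi.single l (algebraMap O K c) : Fin n → K) ∈ Submodule.span K (Set.range fun i => (b i : Fin n → K)) :=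
      Submodule.span_subset_span ↥T K _ h3
    have hc0 : algebraMap O K c ≠ 0 := fun h => hc (IsFractionRing.injective O K (h.trans (map_zero _).symm))
    have h5 := Submodule.smul_mem _ (algebraMap O K c)⁻¹ h4
    rwa [← Pi.single_smul, smul_eq_mul, inv_mul_cancel₀ hc0] at h5
  let bK := Module.Basis.mk hbK hbspan
  haveI : Fintype (Module.Free.ChooseBasisIndex ↥T ↥L') := Module.Free.ChooseBasisIndex.fintype ↥T ↥L'
  have hcard : Fintype.card (Module.Free.ChooseBasisIndex ↥T ↥L') = n := by
    rw [← Module.finrank_eq_card_basis bK, Module.finrank_fin_fun]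
  let σ := Fintype.equivFinOfCardEq hcard
  let h : (Fin n → K) ≃ₗ[K] (Fin n → K) := (bK.reindex σ).equivFun.symm
  have hh : ∀ v : Fin n → K, h v = ∑ l, v l • (b (σ.symm l) : Fin n → K) := fun v => by
    simp [h, Module.Basis.equivFun_symm_apply, bK]
  let hO : (Fin n → K) →ₗ[O] (Fin n → K) := h.toLinearMap.restrictScalars O
  have hhZ : Z.map hO = L₁ := by
    apply le_antisymm
    · rintro _ ⟨v, hv, rfl⟩
      show h v ∈ L'
      rw [hh]
      exact L'.sum_mem fun l _ => L'.smul_mem ⟨v l, hv l trivial⟩ (b (σ.symm l)).2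
    · intro y hy
      refine ⟨fun l => ((b.reindex σ).repr ⟨y, hy⟩ l : K), fun l _ => ((b.reindex σ).repr ⟨y, hy⟩ l).2, ?_⟩
      show h _ = y
      rw [hh]
      have := congrArg Subtype.val ((b.reindex σ).sum_repr ⟨y, hy⟩)
      simp only [Submodule.coe_sum, Submodule.coe_smul, Module.Basis.reindex_apply] at this
      exact this
  have hhX : X.map hO ≤ X := by
    rintro _ ⟨v, hv, rfl⟩ l -
    show h v l ∈ H23TFCurv.condK O K
    rw [hh, Finset.sum_apply]
    refine Submodule.sum_mem _ fun l' _ => ?_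
    rw [Pi.smul_apply, smul_eq_mul]
    exact H23TFCurv.condK_stable (hv l' trivial) (hL₁Z (b (σ.symm l')).2 l trivial)
  -- the conductor is principal
  let CT : Submodule ↥T ↥T :=
    { carrier := {t | (t : K) ∈ H23TFCurv.condK O K}
      add_mem' := fun {x y} hx hy => add_mem (s := H23TFCurv.condK O K) hx hy
      zero_mem' := zero_mem (H23TFCurv.condK O K)
      smul_mem' := fun t x hx => by
        show (t : K) * (x : K) ∈ H23TFCurv.condK O K
        rw [mul_comm]
        exact H23TFCurv.condK_stable hx t.2 }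
  obtain ⟨γ, hγ⟩ := (IsPrincipalIdealRing.principal CT).principal
  have hγC : ∀ x : K, x ∈ H23TFCurv.condK O K ↔ ∃ t ∈ T, x = (γ : K) * t := by
    intro x
    constructor
    · intro hx
      have hxT : x ∈ T := by
        obtain ⟨a, ha⟩ := Submodule.mem_one.mp (H23TFCurv.condK_le_one hx)
        rw [← ha]
        exact T.algebraMap_mem a
      have hxC : (⟨x, hxT⟩ : ↥T) ∈ CT := hx
      rw [hγ, Submodule.mem_span_singleton] at hxC
      obtain ⟨t, ht⟩ := hxC
      exact ⟨t, t.2, by rw [mul_comm]; exact (congrArg Subtype.val ht).symm⟩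
    · rintro ⟨t, ht, rfl⟩
      exact H23TFCurv.condK_stable (show γ ∈ CT from hγ ▸ Submodule.mem_span_singleton_self γ) ht
  have hγ0 : (γ : K) ≠ 0 := by
    intro h0
    obtain ⟨c, hc, hcC⟩ := H23TFCurv.exists_ne_zero_condK (O := O) (K := K) hfin
    obtain ⟨t, -, ht⟩ := (hγC _).mp hcC
    rw [h0, zero_mul] at ht
    exact hc (IsFractionRing.injective O K (ht.trans (map_zero _).symm))
  let μ : (Fin n → K) →ₗ[O] (Fin n → K) := ((γ : K) • LinearMap.id : (Fin n → K) →ₗ[K] (Fin n → K)).restrictScalars O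
  have hμ : Function.Injective μ := fun v w hvw => smul_right_injective (Fin n → K) hγ0 hvw
  have hXμ : X = Z.map μ := by
    apply le_antisymm
    · intro v hv
      choose t ht htv using fun l => (hγC (v l)).mp (hv l trivial)
      exact ⟨t, fun l _ => ht l, funext fun l => (htv l).symm⟩
    · rintro _ ⟨v, hv, rfl⟩ l -
      exact (hγC _).mpr ⟨v l, hv l trivial, rfl⟩
  have hXh : H23TFCurv.qlen X (X.map hO) = d := by
    have : X.map hO = L₁.map μ := by
      rw [hXμ, ← hhZ, ← Submodule.map_comp, ← Submodule.map_comp]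
      congr 1
      ext v
      simp [hO, μ]
    rw [this]
    conv_lhs => rw [hXμ]
    rw [H23TFCurv.qlen_map_of_injective μ hμ, hL'd]
  -- the module
  let gO : (Fin n → K) →ₗ[O] (Fin n → K) := h.symm.toLinearMap.restrictScalars O
  have hgO : Function.Injective gO := h.symm.injective
  have hgh : ∀ A : Submodule O (Fin n → K), (A.map hO).map gO = A := fun A => by
    ext v
    simp [hO, gO, Submodule.mem_map]
  refine ⟨M₂.map gO, ?_, ?_, ⟨e2.trans (Submodule.equivMapOfInjective gO hgO M₂)⟩, ?_⟩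
  · show X ≤ _
    rw [← hgh X]
    exact Submodule.map_mono (hhX.trans hX2)
  · show _ ≤ Z
    rw [← hgh Z]
    exact Submodule.map_mono (hhZ.symm ▸ hM2L₁)
  show H23TFCurv.qlen (M₂.map gO) X = _
  conv_lhs => arg 2; rw [← hgh X]
  rw [H23TFCurv.qlen_map_of_injective gO hgO, H23TFCurv.qlen_chain hhX hX2, hXh, hd, add_comm,
    ← H23TFCurv.qlen_chain hX2 h2Y]
  -- the colength of the conductor
  let I : Submodule O O := (1 : Submodule O K).colon (Subalgebra.toSubmodule T)
  let f : (Fin n → O) →ₗ[O] ↥Y ⧸ X.comap Y.subtype := (X.comap Y.subtype).mkQ ∘ₗ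
    LinearMap.codRestrict Y (LinearMap.pi fun l => (Algebra.linearMap O K) ∘ₗ LinearMap.proj l)
      (fun v l _ => Submodule.mem_one.mpr ⟨v l, rfl⟩)
  have hf : Function.Surjective f := by
    intro y
    obtain ⟨y, rfl⟩ := Submodule.Quotient.mk_surjective _ y
    choose a ha using fun l => Submodule.mem_one.mp (y.2 l trivial)
    exact ⟨a, congrArg Submodule.Quotient.mk (Subtype.ext (funext ha))⟩
  have hkf : LinearMap.ker f = Submodule.pi Set.univ (fun _ : Fin n => I) := by
    ext v
    rw [LinearMap.mem_ker]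
    show Submodule.Quotient.mk _ = 0 ↔ _
    rw [Submodule.Quotient.mk_eq_zero]
    constructor
    · intro hv l _
      exact Submodule.mem_colon.mpr fun t ht => by
        rw [Algebra.smul_def]
        exact H23TFCurv.mem_condK.mp (hv l trivial) t ht
    · intro hv l _
      refine H23TFCurv.mem_condK.mpr fun t ht => ?_
      show algebraMap O K (v l) * t ∈ _
      rw [← Algebra.smul_def]
      exact Submodule.mem_colon.mp (hv l trivial) t ht
  show Module.length O (↥Y ⧸ X.comap Y.subtype) = _
  rw [← (f.quotKerEquivOfSurjective hf).length_eq, (Submodule.quotEquivOfEq _ _ hkf).length_eq,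
    (Submodule.quotientPi fun _ : Fin n => I).length_eq, Module.length_pi_of_fintype]
  simp
  rfl

end Groth.Agent.S15012
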