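import Groth.Statements.S15013
import Groth.Agent.H1CAlg.Torsion
import Mathlib.Algebra.Homology.ShortComplex.ModuleCat
import Mathlib.Algebra.Category.ModuleCat.Projective
import Mathlib.CategoryTheory.Abelian.Injective.Dimension
import Mathlib.Algebra.Homology.DerivedCategory.Ext.EnoughProjectives

set_option autoImplicit false
universe u
open CategoryTheory
open TFCurv

namespace Groth.Agent.S15013

/-- Let O be a one-dimensional Noetherian local domain with algebraically closed residue field whose
integral closure O~ in its fraction field K is a finite O-module, and let w be a canonical ideal of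
O, taken here as a nonzero finitely generated O-submodule of K whose injective dimension as an
O-module is at most one. Then Ext^i_O(M, w) vanishes for all i ≥ 1 and every finitely generated
torsion-free O-module M. -/
theorem result (O : Type u) [CommRing O] [IsDomain O] [IsNoetherianRing O] [IsLocalRing O] (hdim : ringKrullDim O = 1) [IsAlgClosed (IsLocalRing.ResidueField O)] (K : Type u) [Field K] [Algebra O K] [IsFractionRing O K] (hfin : Module.Finite O ↥(integralClosure O K)) (ω : Submodule O K) (hω0 : ω ≠ ⊥) (hωfg : ω.FG) (hωinj : HasInjectiveDimensionLT (ModuleCat.of O ↥ω) 2) (M : Type u) [AddCommGroup M] [Module O M] [Module.Finite O M] [NoZeroSMulDivisors O M] (i : ℕ) (hi : 1 ≤ i) : Subsingleton (Abelian.Ext (ModuleCat.of O M) (ModuleCat.of O ↥ω) i) := by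
  obtain ⟨a, m, v, φ, ha, hφ⟩ := Groth.Agent.H1CAlg.exists_coord_smul O M
  have hinj : Function.Injective φ := by
    rw [injective_iff_map_eq_zero]
    intro x hx
    have h := hφ x
    rw [hx] at h
    simp only [Pi.zero_apply, zero_smul, Finset.sum_const_zero] at h
    exact (smul_eq_zero.mp h).resolve_left ha
  let S : ShortComplex (ModuleCat.{u} O) := ShortComplex.mk (ModuleCat.ofHom φ)
    (ModuleCat.ofHom (LinearMap.range φ).mkQ) (by
      ext x
      exact congrFun (congrArg DFunLike.coe φ.range_mkQ_comp) x)
  have hS : S.ShortExact :=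
    { exact := (ShortComplex.ShortExact.moduleCat_exact_iff_function_exact S).mpr (LinearMap.exact_map_mkQ_range φ)
      mono_f := (ModuleCat.mono_iff_injective _).mpr hinj
      epi_g := (ModuleCat.epi_iff_surjective _).mpr (Submodule.mkQ_surjective _) }
  refine subsingleton_of_forall_eq 0 fun e => ?_
  have hex := Abelian.Ext.contravariant_sequence_exact₁' hS (ModuleCat.of O ↥ω) i (i + 1) (add_comm 1 i)
  rw [ShortComplex.ab_exact_iff] at hex
  obtain ⟨f, hf⟩ := hex e (Abelian.Ext.eq_zero_of_hasInjectiveDimensionLT _ 2 (by omega))
  rw [← hf]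
  haveI : Projective S.X₂ := inferInstanceAs (Projective (ModuleCat.of O (Fin m → O)))
  obtain ⟨j, rfl⟩ : ∃ j, i = j + 1 := ⟨i - 1, by omega⟩
  rw [Abelian.Ext.eq_zero_of_projective f]
  exact map_zero _

end Groth.Agent.S15013
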