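import Groth.Statements.S15015
import Mathlib

set_option autoImplicit false
universe u
open TFCurv

namespace Groth.Agent.S15015

/-- Let k be an algebraically closed field and A ≠ k[[t]] a k-subalgebra of k[[t]] that is closed in the
t-adic topology, over which k[[t]] is a finite module, and such that every power series is carried
into A by multiplication with some nonzero element of A (so k[[t]] lies in the fraction field of A
and is its normalisation, as for the complete local ring of a unibranch curve singularity), and let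
Γ ⊆ ℕ be the set of t-orders of the nonzero elements of A (its value semigroup). Then ℕ ∖ Γ is
finite and the k-dimension of k[[t]]/A equals the number of gaps of Γ. -/
theorem result (k : Type u) [Field k] [IsAlgClosed k] (A : Subalgebra k (PowerSeries k)) (hA : Module.Finite ↥A (PowerSeries k)) (hcl : ∀ f : PowerSeries k, (∀ n : ℕ, ∃ g ∈ A, (n : ℕ∞) ≤ PowerSeries.order (f - g)) → f ∈ A) (hsing : A ≠ ⊤) (hbir : ∀ f : PowerSeries k, ∃ a ∈ A, a ≠ 0 ∧ a * f ∈ A) (Γ : Set ℕ) (hΓ : ∀ n : ℕ, n ∈ Γ ↔ ∃ f ∈ A, PowerSeries.order f = n) : Γᶜ.Finite ∧ Module.finrank k (PowerSeries k ⧸ Subalgebra.toSubmodule A) = Γᶜ.ncard := by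
  classical
  obtain ⟨s, hs⟩ := hA.fg_top
  choose a haA ha0 haf using hbir
  set b := ∏ x ∈ s, a x with hb
  have hb0 : b ≠ 0 := Finset.prod_ne_zero_iff.mpr fun x _ => ha0 x
  have hbA : b ∈ A := prod_mem fun x _ => haA x
  have hcond : ∀ g : PowerSeries k, b * g ∈ A := by
    intro g
    have hg : g ∈ Submodule.span ↥A (s : Set (PowerSeries k)) := by rw [hs]; exact Submodule.mem_top
    induction hg using Submodule.span_induction with
    | mem x hx =>
      rw [hb, ← Finset.prod_erase_mul _ _ hx, mul_assoc]
      exact A.mul_mem (prod_mem fun y _ => haA y) (haf x)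
    | zero => simp [A.zero_mem]
    | add x y _ _ hx hy => rw [mul_add]; exact A.add_mem hx hy
    | smul c x _ hx =>
      rw [Algebra.smul_def, mul_left_comm]
      exact A.mul_mem c.2 hx
  obtain ⟨N, hN⟩ := ENat.ne_top_iff_exists.mp
    (mt PowerSeries.order_eq_top.mp hb0)
  have hhigh : ∀ g : PowerSeries k, (∀ i < N, PowerSeries.coeff i g = 0) → g ∈ A := by
    intro g hg
    obtain ⟨g₁, rfl⟩ : b ∣ g := by
      have h1 := PowerSeries.X_pow_dvd_iff.mpr hg
      have h2 := PowerSeries.X_pow_order_mul_divXPowOrder (f := b)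
      have hto : b.order.toNat = N := by rw [← hN]; rfl
      rw [hto] at h2
      have h3 : IsUnit (PowerSeries.divXPowOrder b) := by
        rw [PowerSeries.isUnit_iff_constantCoeff, PowerSeries.constantCoeff_divXPowOrder]
        exact isUnit_iff_ne_zero.mpr (PowerSeries.coeff_order hb0)
      rw [← h2]
      exact h3.mul_right_dvd.mpr h1
    exact hcond g₁
  have hgap : ∀ n, n ∉ Γ → n < N := by
    intro n hn
    by_contra hlt
    refine hn ((hΓ n).mpr ⟨PowerSeries.X ^ n, hhigh _ fun i hi => ?_, PowerSeries.order_X_pow n⟩)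
    rw [PowerSeries.coeff_X_pow, if_neg (by omega)]
  have hfin : Γᶜ.Finite := (Set.finite_lt_nat N).subset hgap
  refine ⟨hfin, ?_⟩
  haveI := hfin.fintype
  set Q := PowerSeries k ⧸ Subalgebra.toSubmodule A
  let v : ↥Γᶜ → Q := fun n => Submodule.Quotient.mk (PowerSeries.X ^ (n : ℕ))
  have hli : LinearIndependent k v := by
    rw [Fintype.linearIndependent_iff]
    intro c hc
    by_contra hne
    push Not at hne
    set g : PowerSeries k := ∑ n : ↥Γᶜ, c n • PowerSeries.X ^ (n : ℕ)
    have hgA : g ∈ A := by
      have : Submodule.mkQ (Subalgebra.toSubmodule A) g = 0 := by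
        rw [map_sum, ← hc]
        exact Finset.sum_congr rfl fun n _ => by rw [map_smul]; rfl
      exact (Submodule.Quotient.mk_eq_zero _).mp this
    have hco : ∀ i, PowerSeries.coeff i g = if h : i ∈ Γᶜ then c ⟨i, h⟩ else 0 := by
      intro i
      rw [map_sum]
      split_ifs with h
      · rw [Finset.sum_eq_single (⟨i, h⟩ : ↥Γᶜ)]
        · simp
        · intro n _ hn
          have : i ≠ (n : ℕ) := fun h' => hn (Subtype.ext h'.symm)
          simp [PowerSeries.coeff_X_pow, this]
        · simp
      · refine Finset.sum_eq_zero fun n _ => ?_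
        have : i ≠ (n : ℕ) := fun h' => h (h' ▸ n.2)
        simp [PowerSeries.coeff_X_pow, this]
    obtain ⟨m, hm⟩ := ENat.ne_top_iff_exists.mp (mt PowerSeries.order_eq_top.mp (show g ≠ 0 from fun h0 => by
      obtain ⟨n, hn⟩ := hne
      have := hco n
      rw [h0, map_zero, dif_pos n.2] at this
      exact hn this.symm))
    have h1 := (PowerSeries.order_eq_nat.mp hm.symm).1
    rw [hco] at h1
    split_ifs at h1 with h
    · exact h ((hΓ m).mpr ⟨g, hgA, hm.symm⟩)
    · exact h1 rfl
  have hsp : ⊤ ≤ Submodule.span k (Set.range v) := by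
    rintro x -
    obtain ⟨g, rfl⟩ := Submodule.Quotient.mk_surjective _ x
    suffices h : ∀ j g, j ≤ N → (∀ i, i < N - j → PowerSeries.coeff i g = 0) →
        (Submodule.Quotient.mk g : Q) ∈ Submodule.span k (Set.range v) from
      h N g le_rfl fun i hi => by omega
    intro j
    induction j with
    | zero =>
      intro g _ hg
      rw [(Submodule.Quotient.mk_eq_zero _).mpr (show g ∈ Subalgebra.toSubmodule A from hhigh g fun i hi => hg i (by omega))]
      exact Submodule.zero_mem _
    | succ j ih =>
      intro g hj hg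
      set n := N - (j + 1) with hn
      obtain ⟨f, hf, hfn, hfl⟩ : ∃ f : PowerSeries k, (Submodule.Quotient.mk f : Q) ∈
          Submodule.span k (Set.range v) ∧ PowerSeries.coeff n f ≠ 0 ∧
          ∀ i < n, PowerSeries.coeff i f = 0 := by
        by_cases hnΓ : n ∈ Γ
        · obtain ⟨f, hfA, hfn⟩ := (hΓ n).mp hnΓ
          refine ⟨f, ?_, PowerSeries.order_eq_nat.mp hfn⟩
          rw [(Submodule.Quotient.mk_eq_zero _).mpr (show f ∈ Subalgebra.toSubmodule A from hfA)]
          exact Submodule.zero_mem _
        · exact ⟨PowerSeries.X ^ n, Submodule.subset_span ⟨⟨n, hnΓ⟩, rfl⟩, by simp,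
            fun i hi => by simp [PowerSeries.coeff_X_pow, hi.ne]⟩
      set r := PowerSeries.coeff n g / PowerSeries.coeff n f
      have h := ih (g - r • f) (by omega) fun i hi => by
        rw [map_sub, PowerSeries.coeff_smul, smul_eq_mul]
        rcases lt_trichotomy i n with hin | rfl | hin
        · rw [hg i hin, hfl i hin, mul_zero, sub_zero]
        · rw [div_mul_cancel₀ _ hfn, sub_self]
        · omega
      have := Submodule.add_mem _ h (Submodule.smul_mem _ r hf)
      rwa [← Submodule.Quotient.mk_smul, ← Submodule.Quotient.mk_add, sub_add_cancel] at this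
  rw [Module.finrank_eq_card_basis (Module.Basis.mk hli hsp), ← Nat.card_coe_set_eq,
    Nat.card_eq_fintype_card]

end Groth.Agent.S15015
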