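import Groth.Statements.S15016
import Mathlib

set_option autoImplicit false
universe u
open TFCurv

namespace Groth.Agent.S15016

/-- Let k be an algebraically closed field and A ≠ k[[t]] a k-subalgebra of k[[t]] that is closed in the
t-adic topology and over which k[[t]] is a finite module (as for the complete local ring of a
unibranch curve singularity inside its normalisation), and let Γ ⊆ ℕ be the set of t-orders of the
nonzero elements of A (its value semigroup); let c be the conductor of Γ, so that every n ≥ c lies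
in Γ and c − 1 does not. Then for a power series f, f · k[[t]] ⊆ A holds exactly when the order of f
is at least c: the conductor of A in k[[t]] is t^c · k[[t]], of codimension c. -/
theorem result (k : Type u) [Field k] [IsAlgClosed k] (A : Subalgebra k (PowerSeries k)) (hA : Module.Finite ↥A (PowerSeries k)) (hcl : ∀ f : PowerSeries k, (∀ n : ℕ, ∃ g ∈ A, (n : ℕ∞) ≤ PowerSeries.order (f - g)) → f ∈ A) (hsing : A ≠ ⊤) (Γ : Set ℕ) (hΓ : ∀ n : ℕ, n ∈ Γ ↔ ∃ f ∈ A, PowerSeries.order f = n) (c : ℕ) (hc : ∀ n : ℕ, c ≤ n → n ∈ Γ) (hc0 : c ≠ 0) (hc1 : c - 1 ∉ Γ) (f : PowerSeries k) : (∀ g : PowerSeries k, g * f ∈ A) ↔ (c : ℕ∞) ≤ PowerSeries.order f := by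
  classical
  constructor
  · intro h
    by_contra hlt
    rw [not_le] at hlt
    obtain ⟨d, hd⟩ := ENat.ne_top_iff_exists.mp (ne_top_of_lt hlt)
    rw [← hd, Nat.cast_lt] at hlt
    refine hc1 ((hΓ _).mpr ⟨PowerSeries.X ^ (c - 1 - d) * f, h _, ?_⟩)
    rw [PowerSeries.order_mul, PowerSeries.order_X_pow, ← hd, ← Nat.cast_add]
    congr 1
    omega
  · intro hf g
    have hle : ∀ h : PowerSeries k, (∀ i < c, PowerSeries.coeff i h = 0) → h ∈ A := by
      intro h hh
      refine hcl h fun n => ?_
      suffices ∃ a ∈ A, ∀ i, (i < c ∨ i < n) → PowerSeries.coeff i (h - a) = 0 by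
        obtain ⟨a, ha, ha'⟩ := this
        exact ⟨a, ha, PowerSeries.nat_le_order _ _ fun i hi => ha' i (Or.inr hi)⟩
      induction n with
      | zero =>
        exact ⟨0, A.zero_mem, fun i hi => by
          rw [sub_zero]
          exact hh i (hi.resolve_right (by omega))⟩
      | succ n ih =>
        obtain ⟨a, ha, ha'⟩ := ih
        rcases lt_or_ge n c with hnc | hnc
        · exact ⟨a, ha, fun i hi => ha' i (Or.inl (by omega))⟩
        obtain ⟨b, hb, hbn⟩ := (hΓ n).mp (hc n hnc)
        obtain ⟨hb1, hb2⟩ := PowerSeries.order_eq_nat.mp hbn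
        refine ⟨a + (PowerSeries.coeff n (h - a) / PowerSeries.coeff n b) • b,
          A.add_mem ha (A.smul_mem hb _), fun i hi => ?_⟩
        rw [← sub_sub, map_sub, PowerSeries.coeff_smul, smul_eq_mul]
        rcases lt_trichotomy i n with hin | rfl | hin
        · rw [ha' i (Or.inr hin), hb2 i hin, mul_zero, sub_zero]
        · rw [div_mul_cancel₀ _ hb1, sub_self]
        · omega
    refine hle _ fun i hi => PowerSeries.coeff_of_lt_order i ?_
    calc (i : ℕ∞) < c := by exact_mod_cast hi
      _ ≤ PowerSeries.order f := hf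
      _ ≤ PowerSeries.order g + PowerSeries.order f := le_add_self
      _ ≤ PowerSeries.order (g * f) := PowerSeries.le_order_mul g f

end Groth.Agent.S15016
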