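import Groth.Statements.S15017
import Mathlib

set_option autoImplicit false
open TFCurv

namespace Groth.Agent.S15017

/-- Let Γ be a numerical semigroup (a submonoid of (ℕ, +) with finite complement), Γ ≠ ℕ, with conductor
c (every n ≥ c lies in Γ, c − 1 does not). If Γ is symmetric (for x < c, x is a gap exactly when c −
1 − x ∈ Γ) and has multiplicity greater than 2 (neither 1 nor 2 lies in Γ), then Γ is generated by
its elements smaller than c: every minimal generator of Γ is less than the conductor. -/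
theorem result (Γ : AddSubmonoid ℕ) (c : ℕ) (hc : ∀ n : ℕ, c ≤ n → n ∈ Γ) (hc0 : c ≠ 0) (hc1 : c - 1 ∉ Γ) (hsymm : ∀ x : ℕ, x < c → (x ∉ Γ ↔ c - 1 - x ∈ Γ)) (he : (1 : ℕ) ∉ Γ ∧ (2 : ℕ) ∉ Γ) : AddSubmonoid.closure {γ : ℕ | γ ∈ Γ ∧ γ < c} = Γ := by
  classical
  refine le_antisymm (AddSubmonoid.closure_le.mpr fun x hx => hx.1) fun n hn => ?_
  obtain ⟨he1, he2⟩ := he
  have hex : ∃ γ, γ ∈ Γ ∧ γ ≠ 0 := ⟨c, hc c le_rfl, hc0⟩
  let e := Nat.find hex
  obtain ⟨heΓ, he0⟩ : e ∈ Γ ∧ e ≠ 0 := Nat.find_spec hex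
  have hemin : ∀ γ ∈ Γ, γ ≠ 0 → e ≤ γ := fun γ h h' => Nat.find_min' hex ⟨h, h'⟩
  have hc3 : 3 ≤ c := by
    by_contra hh
    exact he2 (hc 2 (by omega))
  have hc2' : c - 2 ∈ Γ := by
    have := (hsymm 1 (by omega)).mp he1
    rwa [show c - 1 - 1 = c - 2 by omega] at this
  have hc3' : c - 3 ∈ Γ := by
    have := (hsymm 2 (by omega)).mp he2
    rwa [show c - 1 - 2 = c - 3 by omega] at this
  have hec : e < c := lt_of_le_of_lt (hemin _ hc2' (by omega)) (by omega)
  have he3 : 3 ≤ e := by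
    by_contra hh
    rcases (show e = 1 ∨ e = 2 by omega) with h | h <;> rw [h] at heΓ <;> contradiction
  induction n using Nat.strong_induction_on with
  | _ n ih =>
  rcases lt_or_ge n c with h | h
  · exact AddSubmonoid.subset_closure ⟨hn, h⟩
  by_cases hdec : ∃ x, x ∈ Γ ∧ 0 < x ∧ x < n ∧ n - x ∈ Γ
  · obtain ⟨x, hx, h0, hlt, hnx⟩ := hdec
    have := add_mem (ih x hlt hx) (ih (n - x) (by omega) hnx)
    rwa [Nat.add_sub_cancel' hlt.le] at this
  exfalso
  have key : ∀ x ∈ Γ, 0 < x → x < c → n - (c - 1) ≤ x ∧ x - (n - (c - 1)) ∈ Γ := by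
    intro x hx h0 hxc
    have hnx : n - x ∉ Γ := fun h' => hdec ⟨x, hx, h0, by omega, h'⟩
    have hlt : n - x < c := by
      by_contra hh
      exact hnx (hc _ (not_lt.mp hh))
    refine ⟨by omega, ?_⟩
    have := (hsymm (n - x) hlt).mp hnx
    rwa [show c - 1 - (n - x) = x - (n - (c - 1)) by omega] at this
  obtain ⟨hje, hej⟩ := key e heΓ (by omega) hec
  have hj : n - (c - 1) = e := by
    by_contra hne
    have := hemin _ hej (by omega)
    omega
  have hdvd : ∀ x, x ∈ Γ → x < c → e ∣ x := by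
    intro x
    induction x using Nat.strong_induction_on with
    | _ x ihx =>
    intro hx hxc
    rcases Nat.eq_zero_or_pos x with rfl | h0
    · exact dvd_zero e
    obtain ⟨h1, h2⟩ := key x hx h0 hxc
    rw [hj] at h1 h2
    have := dvd_add (ihx _ (by omega) h2 (by omega)) (dvd_refl e)
    rwa [Nat.sub_add_cancel h1] at this
  have := Nat.dvd_sub (hdvd _ hc2' (by omega)) (hdvd _ hc3' (by omega))
  rw [show c - 2 - (c - 3) = 1 by omega] at this
  have := Nat.le_of_dvd Nat.one_pos this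
  omega

end Groth.Agent.S15017
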