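import Groth.Statements.S15018
import Mathlib

set_option autoImplicit false
open TFCurv

namespace Groth.Agent.S15018

/-- Let Γ be a numerical semigroup (a submonoid of (ℕ, +) with finite complement), Γ ≠ ℕ, with conductor
c (every n ≥ c lies in Γ, c − 1 does not). Then Γ is symmetric (for x < c, x is a gap exactly when c
− 1 − x ∈ Γ) if and only if there is exactly one gap n of Γ such that Γ ∪ {n} is again stable under
adding elements of Γ, i.e. n + γ ∈ Γ for every nonzero γ ∈ Γ. -/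
theorem result (Γ : AddSubmonoid ℕ) (c : ℕ) (hc : ∀ n : ℕ, c ≤ n → n ∈ Γ) (hc0 : c ≠ 0) (hc1 : c - 1 ∉ Γ) : (∀ x : ℕ, x < c → (x ∉ Γ ↔ c - 1 - x ∈ Γ)) ↔ ∃! n : ℕ, n ∉ Γ ∧ ∀ γ : ℕ, γ ∈ Γ → γ ≠ 0 → n + γ ∈ Γ := by
  classical
  constructor
  · intro h
    refine ⟨c - 1, ⟨hc1, fun γ hγ h0 => hc _ (by omega)⟩, ?_⟩
    rintro n ⟨hn, hn'⟩
    have hlt : n < c := by
      by_contra hh
      exact hn (hc n (not_lt.mp hh))
    by_contra hne
    have := hn' _ ((h n hlt).mp hn) (by omega)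
    rw [show n + (c - 1 - n) = c - 1 by omega] at this
    exact hc1 this
  · rintro ⟨m, -, huniq⟩ x hx
    have hm : c - 1 = m := huniq _ ⟨hc1, fun γ hγ h0 => hc _ (by omega)⟩
    refine ⟨fun hxΓ => ?_, fun hg hxΓ => hc1 ?_⟩
    · let P := fun γ => γ ∈ Γ ∧ x + γ ∉ Γ
      have hg0 : P 0 := ⟨Γ.zero_mem, by simpa using hxΓ⟩
      obtain ⟨hγ, hγ'⟩ := Nat.findGreatest_spec (P := P) (Nat.zero_le c) hg0
      set γ := Nat.findGreatest P c
      have : x + γ = m := huniq _ ⟨hγ', fun δ hδ h0 => by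
        by_contra hh
        have hle : γ + δ ≤ c := by
          by_contra h2
          exact hh (hc _ (by omega))
        have := Nat.le_findGreatest hle (show P (γ + δ) from ⟨Γ.add_mem hγ hδ, by rwa [← add_assoc]⟩)
        omega⟩
      rwa [show c - 1 - x = γ by omega]
    · have := Γ.add_mem hxΓ hg
      rwa [show x + (c - 1 - x) = c - 1 by omega] at this

end Groth.Agent.S15018
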