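import Groth.Statements.S15019
import Mathlib

set_option autoImplicit false
open TFCurv

namespace Groth.Agent.S15019

/-- Let Γ be a numerical semigroup (a submonoid of (ℕ, +) with finite complement), Γ ≠ ℕ, with conductor
c (every n ≥ c lies in Γ, c − 1 does not), let e be its multiplicity (the least nonzero element of
Γ), and let S ⊆ ℕ be a Γ-module in normal form: 0 ∈ S and γ + s ∈ S for all γ ∈ Γ, s ∈ S. Then the
set of gaps n of S with S ∪ {n} again a Γ-module (n + γ ∈ S for every nonzero γ ∈ Γ) has at most e −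
1 elements, and so does the set of nonzero s ∈ S with S ∖ {s} again a Γ-module (s − γ ∉ S for every
nonzero γ ∈ Γ with γ ≤ s). -/
theorem result (Γ : AddSubmonoid ℕ) (c : ℕ) (hc : ∀ n : ℕ, c ≤ n → n ∈ Γ) (hc0 : c ≠ 0) (hc1 : c - 1 ∉ Γ) (e : ℕ) (he : e ∈ Γ) (he0 : e ≠ 0) (hemin : ∀ γ : ℕ, γ ∈ Γ → γ ≠ 0 → e ≤ γ) (S : Set ℕ) (hS0 : (0 : ℕ) ∈ S) (hS : ∀ γ : ℕ, γ ∈ Γ → ∀ s : ℕ, s ∈ S → γ + s ∈ S) : {n : ℕ | n ∉ S ∧ ∀ γ : ℕ, γ ∈ Γ → γ ≠ 0 → n + γ ∈ S}.encard ≤ ((e - 1 : ℕ) : ℕ∞) ∧ {s : ℕ | s ∈ S ∧ s ≠ 0 ∧ ∀ γ : ℕ, γ ∈ Γ → γ ≠ 0 → γ ≤ s → s - γ ∉ S}.encard ≤ ((e - 1 : ℕ) : ℕ∞) := by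
  classical
  have hk : ∀ k, k * e ∈ Γ := fun k => by simpa using Γ.nsmul_mem he k
  have hcard : ((Finset.Icc 1 (e - 1) : Finset ℕ) : Set ℕ).encard = ((e - 1 : ℕ) : ℕ∞) := by
    rw [Set.encard_coe_eq_coe_finsetCard, Nat.card_Icc]
    simp
  rw [← hcard]
  constructor
  · refine Set.encard_le_encard_of_injOn (f := fun n => n % e) ?_ ?_
    · rintro n ⟨hn, -⟩
      have := Nat.mod_lt n (Nat.pos_of_ne_zero he0)
      simp only [Finset.coe_Icc, Set.mem_Icc]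
      refine ⟨Nat.one_le_iff_ne_zero.mpr fun h0 => hn ?_, by omega⟩
      obtain ⟨k, rfl⟩ := Nat.dvd_of_mod_eq_zero h0
      simpa [mul_comm] using hS _ (hk k) 0 hS0
    · rintro a ⟨ha, ha'⟩ b ⟨hb, hb'⟩ hab
      wlog hle : a ≤ b generalizing a b
      · exact (this hb hb' ha ha' hab.symm (le_of_not_ge hle)).symm
      obtain ⟨k, hk'⟩ : e ∣ b - a := (Nat.modEq_iff_dvd' hle).mp hab
      by_contra hne
      have h2 := ha' (b - a) (by rw [hk', mul_comm]; exact hk k) (by omega)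
      rw [Nat.add_sub_cancel' hle] at h2
      exact hb h2
  · refine Set.encard_le_encard_of_injOn (f := fun n => n % e) ?_ ?_
    · rintro s ⟨-, hs0, hs⟩
      have := Nat.mod_lt s (Nat.pos_of_ne_zero he0)
      simp only [Finset.coe_Icc, Set.mem_Icc]
      refine ⟨Nat.one_le_iff_ne_zero.mpr fun h0 => ?_, by omega⟩
      obtain ⟨k, rfl⟩ := Nat.dvd_of_mod_eq_zero h0
      exact hs _ (by rw [mul_comm]; exact hk k) hs0 le_rfl (by simpa using hS0)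
    · rintro a ⟨ha, ha0, ha'⟩ b ⟨hb, hb0, hb'⟩ hab
      wlog hle : a ≤ b generalizing a b
      · exact (this hb hb0 hb' ha ha0 ha' hab.symm (le_of_not_ge hle)).symm
      obtain ⟨k, hk'⟩ : e ∣ b - a := (Nat.modEq_iff_dvd' hle).mp hab
      by_contra hne
      exact hb' (b - a) (by rw [hk', mul_comm]; exact hk k) (by omega) (by omega)
        (by rw [Nat.sub_sub_self hle]; exact ha)

end Groth.Agent.S15019
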