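import Groth.Statements.S15022
import Groth.Agent.H23TFCurv.ValueSetMain

set_option autoImplicit false
universe u
open CategoryTheory
open TFCurv

namespace Groth.Agent.S15022

/-- Let k be an algebraically closed field and A ≠ k[[t]] a k-subalgebra of k[[t]] that is closed in the
t-adic topology and over which k[[t]] is a finite module (as for the complete local ring of a
unibranch curve singularity inside its normalisation), and let Γ ⊆ ℕ be the set of t-orders of the
nonzero elements of A (its value semigroup); let c be the conductor of Γ (every n ≥ c lies in Γ, c −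
1 does not) and suppose A is not Gorenstein. If w is an A-submodule of k[[t]] with 1 ∈ w whose
injective dimension as an A-module is at most one (a canonical ideal of A placed between A and
k[[t]]), then the value set of w is the dual of Γ: a natural number n is the t-order of some element
of w exactly when n ≥ c or c − 1 − n is a gap of Γ. (The published statement does not exclude the
Gorenstein case; this row assumes that A is not Gorenstein.) -/
theorem result (k : Type u) [Field k] [IsAlgClosed k] (A : Subalgebra k (PowerSeries k)) (hA : Module.Finite ↥A (PowerSeries k)) (hcl : ∀ f : PowerSeries k, (∀ n : ℕ, ∃ g ∈ A, (n : ℕ∞) ≤ PowerSeries.order (f - g)) → f ∈ A) (hsing : A ≠ ⊤) (Γ : Set ℕ) (hΓ : ∀ n : ℕ, n ∈ Γ ↔ ∃ f ∈ A, PowerSeries.order f = n) (c : ℕ) (hc : ∀ n : ℕ, c ≤ n → n ∈ Γ) (hc0 : c ≠ 0) (hc1 : c - 1 ∉ Γ) (hG : ¬ LocCoh.IsGorensteinLocalRing ↥A) (ω : Submodule ↥A (PowerSeries k)) (hω1 : (1 : PowerSeries k) ∈ ω) (hωfg : ω.FG) (hωinj : HasInjectiveDimensionLT (ModuleCat.of ↥A ↥ω) 2) (n : ℕ)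 : (∃ f ∈ ω, PowerSeries.order f = n) ↔ (c ≤ n ∨ c - 1 - n ∉ Γ) := by
  have h := H23TFCurv.valueSet_multipliers A hA hcl Γ hΓ c hc hc0 hc1 ω hω1 hωfg hωinj
    (Submodule.span ↥A {(1 : PowerSeries k)}) (Submodule.fg_span_singleton _) (Submodule.mem_span_singleton_self _) n
  have hmem : ∀ m, m ∈ Submodule.span ↥A {(1 : PowerSeries k)} ↔ m ∈ A := by
    intro m
    rw [Submodule.mem_span_singleton]
    constructor
    · rintro ⟨a, rfl⟩
      rw [Subalgebra.smul_def, smul_eq_mul, mul_one]
      exact a.2
    · exact fun hm => ⟨⟨m, hm⟩, by rw [Subalgebra.smul_def, smul_eq_mul, mul_one]⟩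
  simp only [hmem] at h
  rw [hΓ (c - 1 - n)]
  refine Iff.trans ⟨?_, ?_⟩ h
  · rintro ⟨f, hf, hfn⟩
    exact ⟨f, hfn, fun m hm => by rw [mul_comm]; exact ω.smul_mem ⟨m, hm⟩ hf⟩
  · rintro ⟨u, hu, hmu⟩
    exact ⟨u, by simpa using hmu 1 A.one_mem, hu⟩

end Groth.Agent.S15022
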