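import Groth.Statements.S15023
import Groth.Agent.H23TFCurv.Monomial
import Groth.Agent.H23TFCurv.OrderSet
import Groth.Agent.S15020
import Groth.Agent.S15015
import Mathlib.RingTheory.Localization.Module
import Mathlib.RingTheory.Localization.FractionRing
import Mathlib.LinearAlgebra.Dimension.Localization

set_option autoImplicit false
universe u
open TFCurv

namespace Groth.Agent.S15023

/-- Let k be an algebraically closed field and A ≠ k[[t]] a k-subalgebra of k[[t]] that is closed in the
t-adic topology, over which k[[t]] is a finite module, and such that every power series is carried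
into A by multiplication with some nonzero element of A (so k[[t]] lies in the fraction field of A
and is its normalisation, as for the complete local ring of a unibranch curve singularity), and let
Γ ⊆ ℕ be the set of t-orders of the nonzero elements of A (its value semigroup); assume moreover
that A is the monomial ring of Γ (a power series lies in A exactly when all its exponents lie in Γ),
and let δ be the number of gaps of Γ. Then every finitely generated torsion-free A-module of rank
one is isomorphic to an A-submodule M' of k[[t]] with t^{2δ} k[[t]] ⊆ M' and dim_k(k[[t]]/M') = δ,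
equivalently dim_k(M'/t^{2δ}k[[t]]) = δ: every isomorphism class of rank-one torsion-free modules is
represented by a δ-dimensional A-stable subspace of k[[t]]/t^{2δ}k[[t]]. -/
theorem result (k : Type u) [Field k] [IsAlgClosed k] (A : Subalgebra k (PowerSeries k)) (hA : Module.Finite ↥A (PowerSeries k)) (hcl : ∀ f : PowerSeries k, (∀ n : ℕ, ∃ g ∈ A, (n : ℕ∞) ≤ PowerSeries.order (f - g)) → f ∈ A) (hsing : A ≠ ⊤) (hbir : ∀ f : PowerSeries k, ∃ a ∈ A, a ≠ 0 ∧ a * f ∈ A) (Γ : Set ℕ) (hΓ : ∀ n : ℕ, n ∈ Γ ↔ ∃ f ∈ A, PowerSeries.order f = n) (hmono : ∀ f : PowerSeries k, f ∈ A ↔ ∀ n : ℕ, PowerSeries.coeff n f ≠ 0 → n ∈ Γ) (M : Type u) [AddCommGroup M] [Module ↥A M] [Module.Finite ↥A M] [NoZeroSMulDivisors ↥A M] (hrk : Module.finrank (FractionRing ↥A) (TensorProduct ↥A (FractionRing ↥A) M) = 1) : ∃ M' : Submodule ↥A (PowerSeries k), (Ideal.span {(PowerSeries.X : PowerSeries k) ^ (2 * Γᶜ.ncard)}).restrictScalars ↥A ≤ M' ∧ Nonempty (M ≃ₗ[↥A] ↥M') ∧ Module.finrank k (PowerSeries k ⧸ M'.restrictScalars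 k) = Γᶜ.ncard := by
  classical
  have hA' : ∀ f, f ∈ A ↔ f ∈ H23TFCurv.mon k Γ := hmono
  haveI : IsDomain ↥A := inferInstance
  -- embed `M` into `A`
  obtain ⟨ψ, hψ, hne⟩ : ∃ ψ : M →ₗ[↥A] PowerSeries k, Function.Injective ψ ∧ ψ ≠ 0 := by
    let K := FractionRing ↥A
    let ι := TensorProduct.mk ↥A K M 1
    haveI : IsLocalizedModule (nonZeroDivisors ↥A) ι := (isLocalizedModule_iff_isBaseChange _ K _).mpr
      (TensorProduct.isBaseChange ↥A M K)
    haveI : Module.Finite K (TensorProduct ↥A K M) := inferInstance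
    let e : TensorProduct ↥A K M ≃ₗ[K] K := LinearEquiv.ofFinrankEq _ _ (by rw [hrk, Module.finrank_self])
    have hι : Function.Injective ι := by
      intro a b h
      obtain ⟨x, hx⟩ := (IsLocalizedModule.eq_iff_exists (nonZeroDivisors ↥A) ι).mp h
      exact smul_right_injective M (nonZeroDivisors.coe_ne_zero x) hx
    let φ : M →ₗ[↥A] K := (e.toLinearMap.restrictScalars ↥A).comp ι
    obtain ⟨s, hs⟩ := (Module.Finite.fg_top (R := ↥A) (M := M))
    obtain ⟨b, hb⟩ := IsLocalization.exist_integer_multiples_of_finset (nonZeroDivisors ↥A) (s.image φ)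
    have hint : ∀ m, b.1 • φ m ∈ LinearMap.range (Algebra.linearMap ↥A K) := by
      have : Submodule.span ↥A (s : Set M) ≤ (LinearMap.range (Algebra.linearMap ↥A K)).comap (b.1 • φ) := by
        refine Submodule.span_le.mpr fun m hm => ?_
        obtain ⟨a, ha⟩ := hb (φ m) (Finset.mem_image_of_mem _ hm)
        exact ⟨a, ha⟩
      intro m
      exact this (hs.ge Submodule.mem_top)
    let g : M →ₗ[↥A] ↥A := (LinearEquiv.ofInjective (Algebra.linearMap ↥A K) (IsFractionRing.injective ↥A K)).symm.toLinearMap ∘ₗ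
      LinearMap.codRestrict _ (b.1 • φ) hint
    have hg : ∀ m, algebraMap ↥A K (g m) = b.1 • φ m := fun m => by
      have := LinearEquiv.apply_symm_apply (LinearEquiv.ofInjective (Algebra.linearMap ↥A K) (IsFractionRing.injective ↥A K))
        (LinearMap.codRestrict _ (b.1 • φ) hint m)
      exact congrArg Subtype.val this
    have hginj : Function.Injective g := fun m m' h => by
      have h2 : b.1 • φ m = b.1 • φ m' := by rw [← hg, ← hg, h]
      exact (e.injective.comp hι) (smul_right_injective K (nonZeroDivisors.coe_ne_zero b) h2)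
    refine ⟨(Algebra.linearMap ↥A (PowerSeries k)) ∘ₗ g, (Subtype.val_injective).comp hginj, fun h0 => ?_⟩
    haveI : Subsingleton M := subsingleton_of_forall_eq 0 fun m => by
      apply (Subtype.val_injective.comp hginj)
      show ((Algebra.linearMap ↥A (PowerSeries k)) ∘ₗ g) m = ((Algebra.linearMap ↥A (PowerSeries k)) ∘ₗ g) 0
      rw [h0]
      rfl
    rw [Module.finrank_zero_of_subsingleton] at hrk
    exact zero_ne_one hrk
  -- normalise the order
  have hex : ∃ r : ℕ, ∃ m : M, PowerSeries.order (ψ m) = r := by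
    obtain ⟨m, hm⟩ := DFunLike.ne_iff.mp hne
    exact ⟨_, m, (ENat.coe_toNat (mt PowerSeries.order_eq_top.mp hm)).symm⟩
  set r := Nat.find hex
  obtain ⟨m₀, hm₀⟩ := Nat.find_spec hex
  have hdiv : ∀ m, ∃ g, ψ m = PowerSeries.X ^ r * g := fun m => by
    refine PowerSeries.X_pow_dvd_iff.mpr fun i hi => ?_
    by_contra h
    have hmne : ψ m ≠ 0 := fun h0 => h (by rw [h0, map_zero])
    have := Nat.find_le (h := hex) ⟨m, (ENat.coe_toNat (mt PowerSeries.order_eq_top.mp hmne)).symm⟩
    have h2 := PowerSeries.order_le i h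
    rw [← ENat.coe_toNat (mt PowerSeries.order_eq_top.mp hmne), Nat.cast_le] at h2
    omega
  have hX : ∀ d : ℕ, (PowerSeries.X : PowerSeries k) ^ d ≠ 0 := fun d => pow_ne_zero _ PowerSeries.X_ne_zero
  let N₀ : Submodule ↥A (PowerSeries k) := (LinearMap.range ψ).comap (LinearMap.mulLeft ↥A (PowerSeries.X ^ r))
  obtain ⟨u, hu⟩ := hdiv m₀
  have hu0 : PowerSeries.order u = (0 : ℕ) := by
    have := congrArg PowerSeries.order hu
    rw [hm₀, PowerSeries.order_mul, PowerSeries.order_X_pow] at this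
    revert this
    cases PowerSeries.order u with
    | top => simp
    | coe q => intro h; norm_cast at h ⊢; omega
  have huN : u ∈ N₀ := ⟨m₀, hu⟩
  -- the semigroup
  let Γ' : AddSubmonoid ℕ :=
    { carrier := Γ
      add_mem' := fun {a b} ha hb => H23TFCurv.add_mem_exponents hA' ha hb
      zero_mem' := H23TFCurv.zero_mem_exponents hA' }
  have hfin := (S15015.result k A hA hcl hsing hbir Γ hΓ).1
  have hexc : ∃ c, ∀ n, c ≤ n → n ∈ Γ := by
    obtain ⟨b, hb⟩ := hfin.bddAbove
    exact ⟨b + 1, fun n hn => by_contra fun h => absurd (hb h) (by omega)⟩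
  set c := Nat.find hexc
  have hc : ∀ n, c ≤ n → n ∈ Γ := Nat.find_spec hexc
  have hc0 : c ≠ 0 := fun h => hsing (eq_top_iff.mpr fun f _ => (hA' f).mpr fun n _ => hc n (by omega))
  have hc1 : c - 1 ∉ Γ := fun h => Nat.find_min hexc (show c - 1 < c by omega) fun n hn => by
    rcases hn.eq_or_lt with rfl | hlt
    · exact h
    · exact hc n (by omega)
  let V := N₀.restrictScalars k
  have hV : ∀ g : PowerSeries k, (∀ i < c, PowerSeries.coeff i g = 0) → g ∈ V := by
    intro g hg
    have hu1 : PowerSeries.constantCoeff u ≠ 0 := by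
      rw [← PowerSeries.coeff_zero_eq_constantCoeff_apply]
      exact (PowerSeries.order_eq_nat.mp hu0).1
    have hdvd : PowerSeries.X ^ c ∣ g * u⁻¹ := (PowerSeries.X_pow_dvd_iff.mpr hg).mul_right _
    have hmem : g * u⁻¹ ∈ A := (hA' _).mpr fun n hn => hc n (by
      by_contra hlt
      exact hn (PowerSeries.X_pow_dvd_iff.mp hdvd n (not_le.mp hlt)))
    have := N₀.smul_mem ⟨_, hmem⟩ huN
    rwa [Subalgebra.smul_def, smul_eq_mul, mul_assoc, PowerSeries.inv_mul_cancel _ hu1, mul_one] at this
  have h0Δ : 0 ∈ H23TFCurv.ordSet V := ⟨u, huN, hu0⟩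
  have hmod : ∀ γ, γ ∈ Γ → ∀ s, s ∈ H23TFCurv.ordSet V → γ + s ∈ H23TFCurv.ordSet V := by
    rintro γ hγ s ⟨f, hf, hfs⟩
    exact ⟨(H23TFCurv.monA hA' γ hγ) • f, N₀.smul_mem _ hf, by
      show PowerSeries.order (PowerSeries.X ^ γ * f) = _
      rw [PowerSeries.order_mul, PowerSeries.order_X_pow, hfs, Nat.cast_add]⟩
  have hexS : ∃ n₀, ∀ n, n₀ ≤ n → n ∈ H23TFCurv.ordSet V := ⟨c, fun n hn => H23TFCurv.mem_ordSet_of_le hV hn⟩
  set cS := Nat.find hexS
  have hcS : ∀ n, cS ≤ n → n ∈ H23TFCurv.ordSet V := Nat.find_spec hexS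
  have hcS1 : cS = 0 ∨ cS - 1 ∉ H23TFCurv.ordSet V := by
    refine (Nat.eq_zero_or_pos cS).imp_right fun hpos h => Nat.find_min hexS (show cS - 1 < cS by omega) fun n hn => ?_
    rcases hn.eq_or_lt with rfl | hlt
    · exact h
    · exact hcS n (by omega)
  have hbound : {s : ℕ | s ∈ H23TFCurv.ordSet V ∧ s < cS}.ncard ≤ Γᶜ.ncard :=
    S15020.result Γ' c hc hc0 hc1 _ h0Δ hmod cS hcS hcS1
  set δ := Γᶜ.ncard
  set g := (H23TFCurv.ordSet V)ᶜ.ncard with hgdef
  have hgδ : g ≤ δ := Set.ncard_le_ncard (fun n hn hγ => hn (by simpa using hmod n hγ 0 h0Δ)) hfin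
  have hsum : cS ≤ δ + g := by
    have h1 : Set.Iio cS = {s : ℕ | s ∈ H23TFCurv.ordSet V ∧ s < cS} ∪ (H23TFCurv.ordSet V)ᶜ := by
      ext n
      simp only [Set.mem_Iio, Set.mem_union, Set.mem_setOf_eq, Set.mem_compl_iff]
      exact ⟨fun h => (em (n ∈ H23TFCurv.ordSet V)).imp (fun h' => ⟨h', h⟩) id,
        fun h => h.elim (·.2) fun h' => not_le.mp fun hle => h' (hcS n hle)⟩
    have h2 := Set.ncard_union_le {s : ℕ | s ∈ H23TFCurv.ordSet V ∧ s < cS} (H23TFCurv.ordSet V)ᶜ
    rw [← h1, Set.ncard_Iio_nat] at h2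
    omega
  -- shift
  let d := δ - g
  refine ⟨N₀.map (LinearMap.mulLeft ↥A (PowerSeries.X ^ d)), ?_, ?_, ?_⟩
  · intro f hf
    rw [Submodule.restrictScalars_mem, Ideal.mem_span_singleton] at hf
    obtain ⟨h, rfl⟩ := hf
    refine ⟨PowerSeries.X ^ (2 * δ - d) * h, H23TFCurv.mem_of_conductor hV hcS fun i hi => ?_, ?_⟩
    · rw [PowerSeries.coeff_X_pow_mul', if_neg (by omega)]
    · show PowerSeries.X ^ d * (PowerSeries.X ^ (2 * δ - d) * h) = _
      rw [← mul_assoc, ← pow_add, show d + (2 * δ - d) = 2 * δ by omega]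
  · have e1 : LinearMap.range ψ = N₀.map (LinearMap.mulLeft ↥A (PowerSeries.X ^ r)) := by
      apply le_antisymm
      · rintro _ ⟨m, rfl⟩
        obtain ⟨g, hg⟩ := hdiv m
        exact ⟨g, ⟨m, hg⟩, hg.symm⟩
      · exact Submodule.map_comap_le _ _
    have inj : ∀ d : ℕ, Function.Injective (LinearMap.mulLeft ↥A ((PowerSeries.X : PowerSeries k) ^ d)) :=
      fun d => mul_right_injective₀ (hX d)
    exact ⟨(LinearEquiv.ofInjective ψ hψ).trans ((LinearEquiv.ofEq _ _ e1).trans
      ((Submodule.equivMapOfInjective _ (inj r) N₀).symm.trans (Submodule.equivMapOfInjective _ (inj d) N₀)))⟩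
  · set V' := (N₀.map (LinearMap.mulLeft ↥A (PowerSeries.X ^ d))).restrictScalars k
    have hV' : ∀ g : PowerSeries k, (∀ i < d + c, PowerSeries.coeff i g = 0) → g ∈ V' := by
      intro g hg
      obtain ⟨h, rfl⟩ := (PowerSeries.X_pow_dvd_iff (n := d) (φ := g)).mpr fun i (hi : i < d) => hg i (show i < d + c by omega)
      refine ⟨h, hV h fun i hi => ?_, rfl⟩
      have := hg (i + d) (by omega)
      rwa [PowerSeries.coeff_X_pow_mul] at this
    rw [H23TFCurv.finrank_quotient hV']
    have hset : (H23TFCurv.ordSet V')ᶜ = Set.Iio d ∪ (fun n => d + n) '' (H23TFCurv.ordSet V)ᶜ := by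
      ext n
      simp only [Set.mem_compl_iff, Set.mem_union, Set.mem_Iio, Set.mem_image]
      constructor
      · intro h
        by_cases hnd : n < d
        · exact Or.inl hnd
        · refine Or.inr ⟨n - d, fun ⟨f, hf, hfo⟩ => h ⟨PowerSeries.X ^ d * f, ⟨f, hf, rfl⟩, ?_⟩, by omega⟩
          rw [PowerSeries.order_mul, PowerSeries.order_X_pow, hfo, ← Nat.cast_add]
          congr 1
          omega
      · rintro h ⟨_, ⟨f, hf, rfl⟩, hfo⟩
        change PowerSeries.order (PowerSeries.X ^ d * f) = _ at hfo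
        rw [PowerSeries.order_mul, PowerSeries.order_X_pow] at hfo
        rcases eq_or_ne (PowerSeries.order f) ⊤ with htop | htop
        · simp [htop] at hfo
        · obtain ⟨q, hq⟩ := ENat.ne_top_iff_exists.mp htop
          rw [← hq] at hfo
          norm_cast at hfo
          rcases h with h | ⟨p, hp, hpn⟩
          · omega
          · exact hp ⟨f, hf, by rw [← hq]; congr 1; omega⟩
    rw [hset, Set.ncard_union_eq ?_ (Set.finite_Iio d) ((H23TFCurv.finite_gaps hV).image _), Set.ncard_Iio_nat,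
      Set.ncard_image_of_injective _ (add_right_injective d)]
    · omega
    · rw [Set.disjoint_left]
      rintro n hn ⟨p, -, rfl⟩
      simp only [Set.mem_Iio] at hn
      omega

end Groth.Agent.S15023
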