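import Groth.Statements.S15024
import Groth.Agent.H23TFCurv.TorTorsion
import Mathlib.RingTheory.KrullDimension.Field
import Mathlib.LinearAlgebra.TensorProduct.Pi

set_option autoImplicit false
universe u
open CategoryTheory
open TFCurv

namespace Groth.Agent.S15024

/-- Let O be a one-dimensional Noetherian local domain with algebraically closed residue field whose
integral closure O~ in its fraction field K is a finite O-module, M a finitely generated
torsion-free O-module and f : O^n → M an injective O-linear map whose cokernel T has finite length.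
Then Tor_1^O(O~, M) and Tor_1^O(O~, T) are isomorphic (existence of an isomorphism only), and O~ ⊗_O
f : O~ ⊗ O^n → O~ ⊗ M is injective, so that 0 → O~^n → O~ ⊗ M → O~ ⊗ T → 0 is exact. -/
theorem result (O : Type u) [CommRing O] [IsDomain O] [IsNoetherianRing O] [IsLocalRing O] (hdim : ringKrullDim O = 1) [IsAlgClosed (IsLocalRing.ResidueField O)] (K : Type u) [Field K] [Algebra O K] [IsFractionRing O K] (hfin : Module.Finite O ↥(integralClosure O K)) (M : Type u) [AddCommGroup M] [Module O M] [Module.Finite O M] [NoZeroSMulDivisors O M] (n : ℕ) (f : (Fin n → O) →ₗ[O] M) (hf : Function.Injective f) (hT : IsFiniteLength O (M ⧸ LinearMap.range f)) : Nonempty (((Tor (ModuleCat.{u} O) 1).obj (ModuleCat.of O ↥(integralClosure O K))).obj (ModuleCat.of O M) ≅ ((Tor (ModuleCat.{u} O) 1).obj (ModuleCat.of O ↥(integralClosure O K))).obj (ModuleCat.of O (M ⧸ LinearMap.range f))) ∧ Function.Injective (LinearMap.lTensor ↥(integralClosure O K) f) := by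
  have hO : ¬ IsField O := fun h => by
    rw [ringKrullDim_eq_zero_of_isField h] at hdim
    exact zero_ne_one hdim
  let Ot := integralClosure O K
  have htf : ∀ (a : O) (x : TensorProduct O Ot (Fin n → O)), a ≠ 0 → a • x = 0 → x = 0 := by
    intro a x ha hx
    refine (TensorProduct.piScalarRight O O Ot (Fin n)).map_eq_zero_iff.mp (funext fun i => ?_)
    have h := congrFun (congrArg (TensorProduct.piScalarRight O O Ot (Fin n)) hx) i
    rw [map_smul, Pi.smul_apply, map_zero, Pi.zero_apply] at h
    refine Subtype.ext ?_
    have h' : algebraMap O K a * ((TensorProduct.piScalarRight O O Ot (Fin n) x i : Ot) : K) = 0 := by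
      rw [← Algebra.smul_def]; exact congrArg Subtype.val h
    exact (mul_eq_zero.mp h').resolve_left ((map_ne_zero_iff _ (IsFractionRing.injective O K)).mpr ha)
  obtain ⟨a, g, ha, hgf, hfg⟩ := Groth.Agent.H23TFCurv.exists_quasiInverse hO f hf hT
  have hinj : Function.Injective (LinearMap.lTensor Ot f) := by
    rw [injective_iff_map_eq_zero]
    intro x hx
    refine htf a x ha ?_
    have h : (LinearMap.lTensor Ot (g.comp f)) x = 0 := by
      rw [LinearMap.lTensor_comp, LinearMap.comp_apply, hx, map_zero]
    rwa [hgf, LinearMap.lTensor_smul, LinearMap.lTensor_id] at h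
  let S : ShortComplex (ModuleCat.{u} O) := ShortComplex.mk (ModuleCat.ofHom f)
    (ModuleCat.ofHom (LinearMap.range f).mkQ) (ModuleCat.hom_ext f.range_mkQ_comp)
  have hS : S.ShortExact :=
    { exact := (ShortComplex.ShortExact.moduleCat_exact_iff_function_exact S).mpr (LinearMap.exact_map_mkQ_range f)
      mono_f := (ModuleCat.mono_iff_injective _).mpr hf
      epi_g := (ModuleCat.epi_iff_surjective _).mpr (Submodule.mkQ_surjective _) }
  haveI : Projective S.X₁ := inferInstanceAs (Projective (ModuleCat.of O (Fin n → O)))
  exact ⟨Groth.Agent.H23TFCurv.nonempty_iso_of_injective _ S hS hinj, hinj⟩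

end Groth.Agent.S15024
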