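import Groth.Statements.S15027
import Groth.Agent.H23KS.CurveLattice
import Groth.Agent.S15026
import Groth.Agent.H4Depth.Regular

set_option autoImplicit false
universe u
open CategoryTheory CategoryTheory.Limits AlgebraicGeometry
open TFCurv

namespace Groth.Agent.S15027

/-- Let X be an integral proper curve (integral, proper, of dimension one) over an algebraically closed
field k, and let F be a coherent torsion-free O_X-module of rank n (its stalk at the generic point
has dimension n over the function field). Then there are finite locally free modules E, E' of rank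
n, a monomorphism E → F and a monomorphism F → E', whose cokernels have zero stalk at every point of
X with regular local ring (they are torsion modules supported at the singular points). (The
published statement identifies the two cokernels with sums of the local torsion modules of minimal
length attached to the stalks at the singular points; this row asserts only that the cokernels are
supported at the singular points.) -/
theorem result (k : Type u) [Field k] [IsAlgClosed k] (X : Scheme.{u}) [X.Over (Spec (CommRingCat.of k))] [IsIntegral X] [IsProper (X ↘ Spec (CommRingCat.of k))] (hdim : topologicalKrullDim X = 1) (F : X.Modules) (hFc : Coh.IsCoh F) (hFt : TorSh.IsTorsionFree F) (n : ℕ) (hn : Module.finrank (X.presheaf.stalk (genericPoint X)) (F.presheaf.stalk (genericPoint X)) = n) : (∃ (E : X.Modules) (i : E ⟶ F), FlatMod.IsFinLocFreeOfRank n E ∧ Mono i ∧ ∀ x : X, IsRegularLocalRing (X.presheaf.stalk x) → Subsingleton ((cokernel i).presheaf.stalk x)) ∧ (∃ (E' : X.Modules) (j : F ⟶ E'), FlatMod.IsFinLocFreeOfRank n E' ∧ Mono j ∧ ∀ x : X, IsRegularLocalRing (X.presheaf.stalk x) → Subsingleton ((cokernel j).presheaf.stalk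 x)) := by
  haveI : AlgebraicGeometry.IsNoetherian X := Groth.Agent.H28Int.isNoetherian k
  have hfree : ∀ x : X, IsRegularLocalRing (X.presheaf.stalk x) →
      Module.Free (X.presheaf.stalk x) (F.presheaf.stalk x) := fun x hx => by
    haveI := hx
    haveI := H29Ref.finite_stalk F hFc.2 x
    haveI := H4Depth.isDomain_of_isRegularLocalRing (X.presheaf.stalk x)
    haveI := hFt x
    exact H29Ref.free_of_isTorsionFree _
      ((H8Props.FlatDimOneBase.ringKrullDim_stalk_le X x).trans hdim.le)
  have hη : Module.Free (X.presheaf.stalk (genericPoint X)) (F.presheaf.stalk (genericPoint X)) :=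
    H23KS.CurveLattice.free_generic F
  obtain ⟨E, i, hi, hE, -, -, hb⟩ := H23KS.CurveLattice.exists_sub hdim.le F hFc
  obtain ⟨E', j, hj, hE', hb'⟩ := H23KS.CurveLattice.exists_super hdim.le F hFc hFt
  refine ⟨⟨E, i, H23KS.CurveLattice.isFinLocFreeOfRank_of_generic E hE ?_, hi,
      fun x hx => H10Coh.subsingleton_stalk_cokernel i x (hb x (hfree x hx)).2⟩,
    ⟨E', j, H23KS.CurveLattice.isFinLocFreeOfRank_of_generic E' hE' ?_, hj,
      fun x hx => H10Coh.subsingleton_stalk_cokernel j x (hb' x (hfree x hx)).2⟩⟩
  · exact (LinearEquiv.ofBijective _ (hb _ hη)).finrank_eq.trans hn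
  · exact (LinearEquiv.ofBijective _ (hb' _ hη)).finrank_eq.symm.trans hn

end Groth.Agent.S15027
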