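import Groth.Statements.S15028
import Groth.Agent.H29RR.MonoHom

set_option autoImplicit false
universe u
open CategoryTheory CategoryTheory.Limits AlgebraicGeometry
open TFCurv

namespace Groth.Agent.S15028

/-- Let X be an integral proper curve (integral, proper, of dimension one) over an algebraically closed
field k, and let f : E → F be a monomorphism of coherent torsion-free O_X-modules which is
generically an isomorphism (the stalk of its cokernel at the generic point vanishes), with E of rank
n at the generic point. Then deg E ≤ deg F, degrees being taken as modules of rank n (Euler
characteristic minus n times that of O_X), and equality holds if and only if f is an isomorphism.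
(The published statement covers in the same words bundles with parabolic structure and a weight α <
1; only the case without parabolic structure is stated here.) -/
theorem result (k : Type u) [Field k] [IsAlgClosed k] (X : Scheme.{u}) [X.Over (Spec (CommRingCat.of k))] [IsIntegral X] [IsProper (X ↘ Spec (CommRingCat.of k))] (hdim : topologicalKrullDim X = 1) (E F : X.Modules) (hEc : Coh.IsCoh E) (hFc : Coh.IsCoh F) (hEt : TorSh.IsTorsionFree E) (hFt : TorSh.IsTorsionFree F) (n : ℕ) (hn : Module.finrank (X.presheaf.stalk (genericPoint X)) (E.presheaf.stalk (genericPoint X)) = n) (f : E ⟶ F) [Mono f] (hgen : Subsingleton ((cokernel f).presheaf.stalk (genericPoint X))) : Curv2.deg k X E n ≤ Curv2.deg k X F n ∧ (Curv2.deg k X E n = Curv2.deg k X F n ↔ IsIso f) := by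
  have hg : genericPoint X ∉ CohB1.support (cokernel f) := fun h => h hgen
  obtain ⟨h1, h2⟩ := H29RR.euler_le_and_isIso_of_eq (k := k) hdim.le hEc hFc f hg
  refine ⟨by simp only [Curv2.deg]; omega, fun h => h2 (by simp only [Curv2.deg] at h; omega), fun h => ?_⟩
  simp only [Curv2.deg, H25Euler.euler_congr (k := k) (asIso f)]

end Groth.Agent.S15028
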