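import Groth.Statements.S15029
import Mathlib

set_option autoImplicit false
open TFCurv

namespace Groth.Agent.S15029

/-- Let Γ be a numerical semigroup (a submonoid of (ℕ, +) with finite complement), Γ ≠ ℕ, with conductor
c (every n ≥ c lies in Γ, c − 1 does not), and let S ⊆ ℕ be a Γ-module in normal form (0 ∈ S and γ +
s ∈ S for γ ∈ Γ, s ∈ S). If S ≠ ℕ then some gap n of S can be added (n + γ ∈ S for every nonzero γ ∈
Γ, so S ∪ {n} is a Γ-module), and if S ≠ Γ then some s ∈ S outside Γ can be removed (s − γ ∉ S for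
every nonzero γ ∈ Γ with γ ≤ s, so S ∖ {s} is a Γ-module containing Γ); iterating, S is joined to ℕ
and to Γ by chains in the diagram of Γ-modules, which is therefore connected. -/
theorem result (Γ : AddSubmonoid ℕ) (c : ℕ) (hc : ∀ n : ℕ, c ≤ n → n ∈ Γ) (hc0 : c ≠ 0) (hc1 : c - 1 ∉ Γ) (S : Set ℕ) (hS0 : (0 : ℕ) ∈ S) (hS : ∀ γ : ℕ, γ ∈ Γ → ∀ s : ℕ, s ∈ S → γ + s ∈ S) : (S ≠ Set.univ → ∃ n : ℕ, n ∉ S ∧ ∀ γ : ℕ, γ ∈ Γ → γ ≠ 0 → n + γ ∈ S) ∧ ((↑Γ : Set ℕ) ≠ S → ∃ s : ℕ, s ∈ S ∧ s ∉ Γ ∧ ∀ γ : ℕ, γ ∈ Γ → γ ≠ 0 → γ ≤ s → s - γ ∉ S) := by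
  classical
  have hΓS : ∀ x, x ∈ Γ → x ∈ S := fun x hx => by simpa using hS x hx 0 hS0
  have hbd : ∀ x, x ∉ S → x < c := fun x hx => by
    by_contra hh
    exact hx (hΓS _ (hc x (not_lt.mp hh)))
  refine ⟨fun hne => ?_, fun hne => ?_⟩
  · obtain ⟨x, hx⟩ := (Set.ne_univ_iff_exists_notMem S).mp hne
    have hspec := Nat.findGreatest_spec (P := fun n => n ∉ S) (hbd x hx).le hx
    refine ⟨_, hspec, fun γ hγ h0 => ?_⟩
    by_contra hh
    have := Nat.le_findGreatest (P := fun n => n ∉ S) (hbd _ hh).le hh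
    omega
  · have hex : ∃ s, s ∈ S ∧ s ∉ Γ := by
      by_contra hh
      push Not at hh
      exact hne (Set.Subset.antisymm hΓS hh)
    obtain ⟨h1, h2⟩ := Nat.find_spec hex
    refine ⟨_, h1, h2, fun γ hγ h0 hle hm => h2 ?_⟩
    by_cases hg : Nat.find hex - γ ∈ Γ
    · simpa [Nat.sub_add_cancel hle] using Γ.add_mem hg hγ
    · exact absurd ⟨hm, hg⟩ (Nat.find_min hex (by omega))

end Groth.Agent.S15029
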