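import Groth.Statements.S15030
import Groth.Agent.H23TFCurv.MonomialTests

set_option autoImplicit false
universe u
open CategoryTheory
open TFCurv

namespace Groth.Agent.S15030

/-- Let k be an algebraically closed field of characteristic zero, δ ≥ 1, and A ⊂ k[[t]] the complete
local ring of the A_{2δ} singularity, i.e. the k-subalgebra of power series all of whose exponents
lie in the semigroup generated by 2 and 2δ + 1 (so A = k[[t², t^{2δ+1}]]). For 0 ≤ i ≤ δ let M_i ⊂
k[[t]] be the A-submodule generated by 1 and t^{2δ+1−2i} (these represent all rank-one torsion-free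
A-modules). Then for 0 ≤ i, j ≤ δ the A-module Ext¹_A(M_i, M_j) has length 2·min(i, j) (length over
A equals k-dimension here). (The published statement also covers the two-branch case n = 2δ − 1 with
the same value; only the one-branch case is stated.) -/
theorem result (k : Type u) [Field k] [IsAlgClosed k] [CharZero k] (δ : ℕ) (hδ : 1 ≤ δ) (A : Subalgebra k (PowerSeries k)) (hmono : ∀ f : PowerSeries k, f ∈ A ↔ ∀ n : ℕ, PowerSeries.coeff n f ≠ 0 → n ∈ AddSubmonoid.closure ({2, 2 * δ + 1} : Set ℕ)) (i j : ℕ) (hi : i ≤ δ) (hj : j ≤ δ) : Module.length ↥A (Abelian.Ext (ModuleCat.of ↥A ↥(Submodule.span ↥A ({1, (PowerSeries.X : PowerSeries k) ^ (2 * δ + 1 - 2 * i)} : Set (PowerSeries k)))) (ModuleCat.of ↥A ↥(Submodule.span ↥A ({1, (PowerSeries.X : PowerSeries k) ^ (2 * δ + 1 - 2 * j)} : Set (PowerSeries k)))) 1) = ((2 * min i j : ℕ) : ℕ∞) := by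
  classical
  have hA : ∀ f, f ∈ A ↔ f ∈ H23TFCurv.mon k ((AddSubmonoid.closure ({2, 2 * δ + 1} : Set ℕ) : AddSubmonoid ℕ) : Set ℕ) :=
    hmono
  have hΓ : ∀ m : ℕ, m ∈ AddSubmonoid.closure ({2, 2 * δ + 1} : Set ℕ) ↔ (m % 2 = 0 ∨ 2 * δ + 1 ≤ m) := by
    intro m
    constructor
    · intro h
      induction h using AddSubmonoid.closure_induction with
      | mem x hx =>
        simp only [Set.mem_insert_iff, Set.mem_singleton_iff] at hx
        omega
      | zero => omega
      | add x y _ _ hx hy => omega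
    · intro h
      rcases Nat.even_or_odd m with ⟨r, hr⟩ | ⟨r, hr⟩
      · have := AddSubmonoid.nsmul_mem _ (AddSubmonoid.subset_closure (show (2 : ℕ) ∈ ({2, 2 * δ + 1} : Set ℕ) by simp)) r
        rwa [smul_eq_mul, show r * 2 = m by omega] at this
      · have h1 := AddSubmonoid.nsmul_mem _ (AddSubmonoid.subset_closure (show (2 : ℕ) ∈ ({2, 2 * δ + 1} : Set ℕ) by simp)) (r - δ)
        have h2 := AddSubmonoid.subset_closure (show 2 * δ + 1 ∈ ({2, 2 * δ + 1} : Set ℕ) by simp)
        have := AddSubmonoid.add_mem _ h1 h2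
        rwa [smul_eq_mul, show (r - δ) * 2 + (2 * δ + 1) = m by omega] at this
  set a := 2 * δ + 1 - 2 * i with ha
  set b := 2 * δ + 1 - 2 * j with hb
  have hNm : ∀ f, f ∈ Submodule.span ↥A ({1, (PowerSeries.X : PowerSeries k) ^ b} : Set (PowerSeries k)) ↔
      f ∈ H23TFCurv.mon k {p : ℕ | p % 2 = 0 ∨ b ≤ p} := fun f => by
    rw [show ({1, (PowerSeries.X : PowerSeries k) ^ b} : Set (PowerSeries k)) =
      (fun a : ℕ => (PowerSeries.X : PowerSeries k) ^ a) '' (({0, b} : Finset ℕ) : Set ℕ) by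
        simp [Set.image_insert_eq], H23TFCurv.mem_span_monomials hA]
    refine forall₂_congr fun m _ => ?_
    simp only [Set.mem_setOf_eq, Finset.mem_insert, Finset.mem_singleton, SetLike.mem_coe, hΓ]
    constructor
    · rintro ⟨x, hx, γ, hγ, rfl⟩; omega
    · intro h
      rcases Nat.mod_two_eq_zero_or_one m with h' | h'
      · exact ⟨0, Or.inl rfl, m, Or.inl h', (zero_add m).symm⟩
      · exact ⟨b, Or.inr rfl, m - b, Or.inl (by omega), by omega⟩
  refine H23TFCurv.length_ext_one_monomial hA (fun _ : Fin 1 => a) (2 * δ) (fun m h => (hΓ m).mpr (by omega))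
    _ _ (by rw [Set.range_const]) _ hNm
    (fun _ => {m | m ∈ AddSubmonoid.closure ({2, 2 * δ + 1} : Set ℕ) ∧ m + a ∈ AddSubmonoid.closure ({2, 2 * δ + 1} : Set ℕ)})
    (fun v hv => H23TFCurv.relation_single hA v hv)
    (fun _ => {e | (e % 2 = 0 ∧ 2 * δ ≤ e + 2 * min i j) ∨ (e % 2 = 1 ∧ 4 * δ + 1 ≤ e + 2 * i + 2 * j)}) ?_ ?_
    (({0} : Finset (Fin 1)) ×ˢ ((Finset.range (min i j)).image (fun r => 2 * (δ - min i j) + 2 * r) ∪
      (Finset.range i).image (fun r => 4 * δ + 1 - 2 * i - 2 * j + 2 * r)))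
    ?_ ((Finset.range (i - j)).image (fun r => 2 * r)) ?_ _ ?_
  · intro l m hm e he
    simp only [Set.mem_setOf_eq, hΓ] at hm he
    refine ⟨m + e - 2 * δ, ?_, by omega⟩
    simp only [Set.mem_setOf_eq]
    omega
  · intro h _ hh l e he
    have j1 : 2 * i ∈ AddSubmonoid.closure ({2, 2 * δ + 1} : Set ℕ) := (hΓ _).mpr (by omega)
    have j1' : 2 * i + a ∈ AddSubmonoid.closure ({2, 2 * δ + 1} : Set ℕ) := (hΓ _).mpr (by omega)
    have j2 : 2 * δ + 1 ∈ AddSubmonoid.closure ({2, 2 * δ + 1} : Set ℕ) := (hΓ _).mpr (by omega)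
    have j2' : 2 * δ + 1 + a ∈ AddSubmonoid.closure ({2, 2 * δ + 1} : Set ℕ) := (hΓ _).mpr (by omega)
    obtain ⟨p, hp, hep⟩ := H23TFCurv.exponent_of_test hA hh l j1 j1' he
    obtain ⟨q, hq, heq⟩ := H23TFCurv.exponent_of_test hA hh l j2 j2' he
    simp only [Set.mem_setOf_eq] at hp hq ⊢
    omega
  · intro l e
    obtain rfl := Subsingleton.elim l 0
    simp only [Finset.mem_product, Finset.mem_singleton, true_and, Finset.mem_union, Finset.mem_image, Finset.mem_range,
      Set.mem_setOf_eq]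
    constructor
    · rintro (⟨r, hr, rfl⟩ | ⟨r, hr, rfl⟩) <;> exact ⟨by omega, fun p hp => by omega⟩
    · rintro ⟨he, hne⟩
      have := hne (e - 2 * δ)
      rcases he with ⟨h1, h2⟩ | ⟨h1, h2⟩
      · exact Or.inl ⟨(e - 2 * (δ - min i j)) / 2, by omega, by omega⟩
      · exact Or.inr ⟨(e - (4 * δ + 1 - 2 * i - 2 * j)) / 2, by omega, by omega⟩
  · intro p
    simp only [Finset.mem_product, Finset.mem_singleton, Finset.mem_union, Finset.mem_image, Finset.mem_range,
      Set.mem_setOf_eq]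
    constructor
    · rintro ⟨r, hr, rfl⟩
      exact ⟨by omega, 0, rfl, Or.inr ⟨r + j, by omega, by omega⟩⟩
    · rintro ⟨hp, l, -, ⟨r, hr, he⟩ | ⟨r, hr, he⟩⟩
      · omega
      · exact ⟨p / 2, by omega, by omega⟩
  · rw [Finset.card_product, Finset.card_singleton, one_mul, Finset.card_union_of_disjoint ?_,
      Finset.card_image_of_injective _ (fun x y (h : 2 * (δ - min i j) + 2 * x = _) => by omega),
      Finset.card_image_of_injective _ (fun x y (h : 4 * δ + 1 - 2 * i - 2 * j + 2 * x = _) => by omega),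
      Finset.card_image_of_injective _ (fun x y (h : 2 * x = 2 * y) => by omega), Finset.card_range, Finset.card_range,
      Finset.card_range]
    · omega
    · rw [Finset.disjoint_left]
      simp only [Finset.mem_image, Finset.mem_range]
      rintro e ⟨r, hr, rfl⟩ ⟨r', hr', h⟩
      omega

end Groth.Agent.S15030
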