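import Groth.Statements.S15031
import Groth.Agent.H23TFCurv.MonomialTests

set_option autoImplicit false
universe u
open CategoryTheory
open TFCurv

namespace Groth.Agent.S15031

/-- Let k be an algebraically closed field, n ≥ 2, and A = R_n ⊂ k[[t]] the monomial ring of the cubical
semigroup ⟨n, n+1, …, 2n−1⟩, i.e. the k-subalgebra of power series with no terms of degree 1, …,
n−1. For 0 ≤ i ≤ n − 2 let M_i ⊂ k[[t]] be the A-submodule generated by 1, t, …, t^i (the monomial
module whose value set is Γ_n together with 1, …, i). Then the A-module Ext¹_A(M_i, M_i) has length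
i·(n − 2 − i); as the A-endomorphisms of M_i are the scalars, this number is the invariant χ₁(M_i) =
dim Ext¹(M_i, M_i) − dim(End(M_i)/A). (The published statement asserts the value for every module
with this value set; only the monomial module is stated here.) -/
theorem result (k : Type u) [Field k] [IsAlgClosed k] (n : ℕ) (hn : 2 ≤ n) (A : Subalgebra k (PowerSeries k)) (hmono : ∀ f : PowerSeries k, f ∈ A ↔ ∀ m : ℕ, PowerSeries.coeff m f ≠ 0 → (m = 0 ∨ n ≤ m)) (i : ℕ) (hi : i + 2 ≤ n) : Module.length ↥A (Abelian.Ext (ModuleCat.of ↥A ↥(Submodule.span ↥A ((fun a : ℕ => (PowerSeries.X : PowerSeries k) ^ a) '' Set.Iic i))) (ModuleCat.of ↥A ↥(Submodule.span ↥A ((fun a : ℕ => (PowerSeries.X : PowerSeries k) ^ a) '' Set.Iic i))) 1) = ((i * (n - 2 - i) : ℕ) : ℕ∞) := by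
  classical
  have hA : ∀ f, f ∈ A ↔ f ∈ H23TFCurv.mon k {m : ℕ | m = 0 ∨ n ≤ m} := hmono
  set M := Submodule.span ↥A ((fun a : ℕ => (PowerSeries.X : PowerSeries k) ^ a) '' Set.Iic i) with hMdef
  have hMm : ∀ f, f ∈ M ↔ f ∈ H23TFCurv.mon k {m : ℕ | m ≤ i ∨ n ≤ m} := fun f => by
    rw [hMdef, show Set.Iic i = ((Finset.Iic i : Finset ℕ) : Set ℕ) from by simp, H23TFCurv.mem_span_monomials hA]
    refine forall₂_congr fun m _ => ?_
    simp only [Set.mem_setOf_eq, Finset.mem_Iic]
    constructor
    · rintro ⟨a, ha, γ, hγ, rfl⟩; omega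
    · rintro (h | h)
      · exact ⟨m, h, 0, Or.inl rfl, rfl⟩
      · exact ⟨0, Nat.zero_le _, m, Or.inr h, (zero_add m).symm⟩
  refine H23TFCurv.length_ext_one_monomial hA (fun l : Fin i => l.1 + 1) n (fun m h => Or.inr h) M M ?_ _ hMm
    (fun _ => {m | n ≤ m}) ?_ (fun _ => {e | n ≤ e}) ?_ ?_
    (Finset.univ ×ˢ Finset.Ioo (n + i) (2 * n)) ?_ (Finset.Icc 1 i) ?_ _ ?_
  · rw [hMdef]
    congr 1
    ext f
    simp only [Set.mem_image, Set.mem_Iic, Set.mem_insert_iff, Set.mem_range]
    constructor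
    · rintro ⟨a, ha, rfl⟩
      rcases Nat.eq_zero_or_pos a with rfl | h
      · exact Or.inl (pow_zero _)
      · exact Or.inr ⟨⟨a - 1, by omega⟩, by simp [Nat.sub_add_cancel h]⟩
    · rintro (rfl | ⟨l, rfl⟩)
      · exact ⟨0, Nat.zero_le _, pow_zero _⟩
      · exact ⟨l.1 + 1, l.2, rfl⟩
  · exact fun v hv => H23TFCurv.relation_cubical hA (fun m => Iff.rfl) (fun l => Nat.succ_pos _)
      (fun l => by have := l.2; omega) (fun a b h => Fin.ext (by simpa using h)) v hv
  · intro l j hj e he
    simp only [Set.mem_setOf_eq] at *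
    exact ⟨j + e - n, Or.inr (by omega), by omega⟩
  · intro h _ hh l e he
    simp only [Set.mem_setOf_eq]
    by_contra hlt
    obtain ⟨p, hp, hjp⟩ := H23TFCurv.exponent_of_test hA hh l (j := n + (i + 1 - e)) (Or.inr (Nat.le_add_right _ _))
      (Or.inr (by omega)) he
    simp only [Set.mem_setOf_eq] at hp
    by_cases hei : e ≤ i
    · omega
    · omega
  · intro l e
    simp only [Finset.mem_product, Finset.mem_univ, true_and, Finset.mem_Ioo, Set.mem_setOf_eq]
    constructor
    · intro h; exact ⟨by omega, fun p hp => by omega⟩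
    · rintro ⟨h1, h2⟩
      have := h2 (e - n)
      omega
  · intro p
    simp only [Finset.mem_Icc, Finset.mem_product, Finset.mem_univ, true_and, Finset.mem_Ioo, Set.mem_setOf_eq]
    constructor
    · intro h
      exact ⟨by omega, ⟨i - p, by omega⟩, by simp only; omega⟩
    · rintro ⟨hp, l, hl⟩
      have := l.2
      omega
  · rw [Finset.card_product, Finset.card_univ, Fintype.card_fin, Nat.card_Ioo, Nat.card_Icc]
    rw [show 2 * n - (n + i) - 1 = (n - 2 - i) + 1 by omega, Nat.mul_succ]
    omega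

end Groth.Agent.S15031
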