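import Groth.Statements.S15032
import Groth.Agent.H23TFCurv.MonomialTests

set_option autoImplicit false
universe u
open CategoryTheory
open TFCurv

namespace Groth.Agent.S15032

/-- Let k be an algebraically closed field, n ≥ 2, and A = R_n ⊂ k[[t]] the monomial ring of the cubical
semigroup ⟨n, n+1, …, 2n−1⟩, i.e. the k-subalgebra of power series with no terms of degree 1, …,
n−1. For the normalisation R~ = k[[t]] viewed as an A-module, χ₁(R~) = (n − 1)², where χ₁(M) = dim_k
Ext¹_A(M, M) − dim_k(End_A(M)/A): the length of the A-module Ext¹_A(k[[t]], k[[t]]) equals (n − 1)²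
plus the length of the A-linear endomorphisms of k[[t]] modulo multiplications by elements of A. -/
theorem result (k : Type u) [Field k] [IsAlgClosed k] (n : ℕ) (hn : 2 ≤ n) (A : Subalgebra k (PowerSeries k)) (hmono : ∀ f : PowerSeries k, f ∈ A ↔ ∀ m : ℕ, PowerSeries.coeff m f ≠ 0 → (m = 0 ∨ n ≤ m)) : Module.length ↥A (Abelian.Ext (ModuleCat.of ↥A (PowerSeries k)) (ModuleCat.of ↥A (PowerSeries k)) 1) = (((n - 1) ^ 2 : ℕ) : ℕ∞) + Module.length ↥A ((PowerSeries k →ₗ[↥A] PowerSeries k) ⧸ LinearMap.range (Algebra.lsmul ↥A ↥A (PowerSeries k) : ↥A →ₐ[↥A] Module.End ↥A (PowerSeries k)).toLinearMap) := by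
  classical
  have hA : ∀ f, f ∈ A ↔ f ∈ H23TFCurv.mon k {m : ℕ | m = 0 ∨ n ≤ m} := hmono
  have htop : ∀ f : PowerSeries k, f ∈ (⊤ : Submodule ↥A (PowerSeries k)) ↔ f ∈ H23TFCurv.mon k (Set.univ : Set ℕ) :=
    fun f => ⟨fun _ m _ => trivial, fun _ => trivial⟩
  have hExt : Module.length ↥A (Abelian.Ext (ModuleCat.of ↥A (PowerSeries k)) (ModuleCat.of ↥A (PowerSeries k)) 1) =
      (((n - 1) * n : ℕ) : ℕ∞) := by
    let e₀ : ModuleCat.of ↥A ↥(⊤ : Submodule ↥A (PowerSeries k)) ≅ ModuleCat.of ↥A (PowerSeries k) :=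
      { hom := ModuleCat.ofHom (Submodule.subtype ⊤)
        inv := ModuleCat.ofHom (LinearMap.codRestrict ⊤ LinearMap.id fun _ => trivial)
        hom_inv_id := by ext x; rfl
        inv_hom_id := by ext x; rfl }
    obtain ⟨e⟩ := H23TFCurv.nonempty_extEquiv_of_iso e₀ e₀ 1
    rw [← e.length_eq]
    refine H23TFCurv.length_ext_one_monomial hA (fun l : Fin (n - 1) => l.1 + 1) n (fun m h => Or.inr h) ⊤ ⊤ ?_ _ htop
      (fun _ => {m | n ≤ m}) ?_ (fun _ => Set.univ) ?_ (fun h _ _ l e _ => trivial)
      (Finset.univ ×ˢ Finset.range n) ?_ ∅ ?_ _ ?_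
    · refine eq_top_iff.mpr (fun f _ => ?_) |>.symm
      have := (H23TFCurv.mem_span_monomials hA (Finset.range n) f).mpr (fun m _ => ?_)
      · refine Submodule.span_mono ?_ this
        rintro _ ⟨a, ha, rfl⟩
        rcases Nat.eq_zero_or_pos a with rfl | h
        · exact Or.inl (pow_zero _)
        · exact Or.inr ⟨⟨a - 1, by simp at ha; omega⟩, by simp [Nat.sub_add_cancel h]⟩
      · rcases Nat.lt_or_ge m n with h | h
        · exact ⟨m, Finset.mem_range.mpr h, 0, Or.inl rfl, rfl⟩
        · exact ⟨0, Finset.mem_range.mpr (by omega), m, Or.inr h, (zero_add m).symm⟩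
    · exact fun v hv => H23TFCurv.relation_cubical hA (fun m => Iff.rfl) (fun l => Nat.succ_pos _)
        (fun l => by have := l.2; omega) (fun a b h => Fin.ext (by simpa using h)) v hv
    · intro l j hj e he
      exact ⟨j + e - n, trivial, by simp only [Set.mem_setOf_eq] at hj; omega⟩
    · intro l e
      simp only [Finset.mem_product, Finset.mem_univ, true_and, Finset.mem_range, Set.mem_univ, forall_const]
      exact ⟨fun h p => by omega, fun h => by have := h (e - n); omega⟩
    · intro p
      simp only [Finset.notMem_empty, false_iff, not_and, not_exists, Finset.mem_product, Finset.mem_univ, true_and,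
        Finset.mem_range]
      intro _ l
      omega
    · simp
  have hEnd : Module.length ↥A ((PowerSeries k →ₗ[↥A] PowerSeries k) ⧸ LinearMap.range
      (Algebra.lsmul ↥A ↥A (PowerSeries k) : ↥A →ₐ[↥A] Module.End ↥A (PowerSeries k)).toLinearMap) = ((n - 1 : ℕ) : ℕ∞) := by
    rw [H23TFCurv.length_eq_monomial hA]
    let Ψ : (PowerSeries k →ₗ[↥A] PowerSeries k) →ₗ[k] ((Finset.Icc 1 (n - 1) : Finset ℕ) → k) :=
      { toFun := fun φ m => PowerSeries.coeff m.1 (φ 1)
        map_add' := fun φ ψ => by funext m; simp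
        map_smul' := fun r φ => by funext m; simp }
    have hmul : ∀ φ : PowerSeries k →ₗ[↥A] PowerSeries k, ∀ f, φ f = φ 1 * f := by
      intro φ f
      refine mul_left_cancel₀ (pow_ne_zero n PowerSeries.X_ne_zero : (PowerSeries.X : PowerSeries k) ^ n ≠ 0) ?_
      have hg : PowerSeries.X ^ n * f ∈ A := (hA _).mpr (fun m hm => Or.inr (by
        rw [PowerSeries.coeff_X_pow_mul'] at hm
        split_ifs at hm with h
        · exact h
        · exact absurd rfl hm))
      have h1 := φ.map_smul (⟨_, hg⟩ : A) 1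
      have h2 := φ.map_smul (H23TFCurv.monA hA n (Or.inr le_rfl)) f
      simp only [H23TFCurv.monA, Subalgebra.smul_def, smul_eq_mul, mul_one] at h1 h2
      rw [← h2, h1]
      ring
    have hsurj : Function.Surjective Ψ := by
      intro u
      refine ⟨LinearMap.mul ↥A (PowerSeries k) (PowerSeries.mk fun m => if h : m ∈ Finset.Icc 1 (n - 1) then u ⟨m, h⟩ else 0),
        funext fun m => ?_⟩
      simp [Ψ]
      intro h
      exact absurd (h (Finset.mem_Icc.mp m.2).1) (not_lt.mpr (Finset.mem_Icc.mp m.2).2)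
    have hker : LinearMap.ker Ψ = (LinearMap.range
        (Algebra.lsmul ↥A ↥A (PowerSeries k) : ↥A →ₐ[↥A] Module.End ↥A (PowerSeries k)).toLinearMap).restrictScalars k := by
      ext φ
      rw [LinearMap.mem_ker, Submodule.restrictScalars_mem, LinearMap.mem_range]
      constructor
      · intro h
        refine ⟨⟨φ 1, (hA _).mpr fun m hm => ?_⟩, LinearMap.ext fun f => ?_⟩
        · by_contra hne
          simp only [Set.mem_setOf_eq] at hne
          exact hm (congrFun h ⟨m, Finset.mem_Icc.mpr ⟨by omega, by omega⟩⟩)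
        · exact (hmul φ f).symm
      · rintro ⟨a, rfl⟩
        funext m
        have hm := Finset.mem_Icc.mp m.2
        simpa [Ψ, Subalgebra.smul_def] using H23TFCurv.coeff_eq_zero_of_mem_mon ((hA _).mp a.2) (n := m.1)
          (by simp only [Set.mem_setOf_eq]; omega)
    rw [((Submodule.Quotient.restrictScalarsEquiv k _).symm.trans ((Submodule.quotEquivOfEq _ _ hker.symm).trans
      (Ψ.quotKerEquivOfSurjective hsurj))).length_eq, Module.length_eq_finrank, Module.finrank_fintype_fun_eq_card,
      Fintype.card_coe, Nat.card_Icc]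
    simp
  rw [hExt, hEnd, ← Nat.cast_add]
  congr 1
  obtain ⟨q, rfl⟩ : ∃ q, n = q + 1 := ⟨n - 1, by omega⟩
  simp only [Nat.add_sub_cancel]
  ring

end Groth.Agent.S15032
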