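import Groth.Statements.S15033
import Groth.Agent.H23TFCurv.MonomialTests

set_option autoImplicit false
universe u
open CategoryTheory
open TFCurv

namespace Groth.Agent.S15033

/-- Let k be an algebraically closed field, n ≥ 2, and A = R_n ⊂ k[[t]] the monomial ring of the cubical
semigroup ⟨n, n+1, …, 2n−1⟩, i.e. the k-subalgebra of power series with no terms of degree 1, …,
n−1. For 0 ≤ i < n − 1 let R_{n−i} ⊂ k[[t]] be the A-submodule generated by 1, t^{n−i}, t^{n−i+1},
…, t^{n−1}, i.e. the overring of A consisting of the power series with no terms of degree 1, …, n −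
i − 1. Then the A-module Ext¹_A(R_{n−i}, R_{n−i}) has length i·(n − 1). Since the A-endomorphisms of
R_{n−i} are the multiplications by elements of R_{n−i}, of colength i over A, this is the published
value χ₁(R_{n−i}) = i·(n − 2) of χ₁(M) = dim Ext¹(M, M) − dim(End(M)/A). -/
theorem result (k : Type u) [Field k] [IsAlgClosed k] (n : ℕ) (hn : 2 ≤ n) (A : Subalgebra k (PowerSeries k)) (hmono : ∀ f : PowerSeries k, f ∈ A ↔ ∀ m : ℕ, PowerSeries.coeff m f ≠ 0 → (m = 0 ∨ n ≤ m)) (i : ℕ) (hi : i + 2 ≤ n) : Module.length ↥A (Abelian.Ext (ModuleCat.of ↥A ↥(Submodule.span ↥A ((fun a : ℕ => (PowerSeries.X : PowerSeries k) ^ a) '' ({0} ∪ Set.Icc (n - i) (n - 1))))) (ModuleCat.of ↥A ↥(Submodule.span ↥A ((fun a : ℕ => (PowerSeries.X : PowerSeries k) ^ a) '' ({0} ∪ Set.Icc (n - i) (n - 1))))) 1) = ((i * (n - 1) : ℕ) : ℕ∞) := by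
  classical
  have hA : ∀ f, f ∈ A ↔ f ∈ H23TFCurv.mon k {m : ℕ | m = 0 ∨ n ≤ m} := hmono
  set M := Submodule.span ↥A ((fun a : ℕ => (PowerSeries.X : PowerSeries k) ^ a) '' ({0} ∪ Set.Icc (n - i) (n - 1))) with hMdef
  have hMm : ∀ f, f ∈ M ↔ f ∈ H23TFCurv.mon k {m : ℕ | m = 0 ∨ n - i ≤ m} := fun f => by
    rw [hMdef, show ({0} ∪ Set.Icc (n - i) (n - 1) : Set ℕ) = ((insert 0 (Finset.Icc (n - i) (n - 1)) : Finset ℕ) : Set ℕ)
      from by ext; simp, H23TFCurv.mem_span_monomials hA]
    refine forall₂_congr fun m _ => ?_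
    simp only [Set.mem_setOf_eq, Finset.mem_insert, Finset.mem_Icc]
    constructor
    · rintro ⟨a, ha, γ, hγ, rfl⟩; omega
    · intro h
      rcases Nat.lt_or_ge m n with h' | h'
      · exact ⟨m, by omega, 0, Or.inl rfl, rfl⟩
      · exact ⟨0, Or.inl rfl, m, Or.inr h', (zero_add m).symm⟩
  refine H23TFCurv.length_ext_one_monomial hA (fun l : Fin i => n - i + l.1) n (fun m h => Or.inr h) M M ?_ _ hMm
    (fun _ => {m | n ≤ m}) ?_ (fun _ => {e | n - i ≤ e}) ?_ ?_
    (Finset.univ ×ˢ (Finset.Ico (n - i) (2 * n - i)).erase n) ?_ ∅ ?_ _ ?_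
  · rw [hMdef]
    congr 1
    ext f
    simp only [Set.mem_image, Set.mem_union, Set.mem_singleton_iff, Set.mem_Icc, Set.mem_insert_iff, Set.mem_range]
    constructor
    · rintro ⟨a, rfl | ha, rfl⟩
      · exact Or.inl (pow_zero _)
      · exact Or.inr ⟨⟨a - (n - i), by omega⟩, by simp [Nat.add_sub_cancel' ha.1]⟩
    · rintro (rfl | ⟨l, rfl⟩)
      · exact ⟨0, Or.inl rfl, pow_zero _⟩
      · exact ⟨n - i + l.1, Or.inr (by have := l.2; omega), rfl⟩
  · exact fun v hv => H23TFCurv.relation_cubical hA (fun m => Iff.rfl) (fun l => by omega)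
      (fun l => by have := l.2; omega) (fun a b h => Fin.ext (by simpa using h)) v hv
  · intro l j hj e he
    simp only [Set.mem_setOf_eq] at *
    exact ⟨j + e - n, Or.inr (by omega), by omega⟩
  · intro h _ hh l e he
    simp only [Set.mem_setOf_eq]
    by_contra hlt
    obtain ⟨p, hp, hjp⟩ := H23TFCurv.exponent_of_test hA hh l (j := n + (n - i - 1 - e)) (Or.inr (Nat.le_add_right _ _))
      (Or.inr (by omega)) he
    simp only [Set.mem_setOf_eq] at hp
    omega
  · intro l e
    simp only [Finset.mem_product, Finset.mem_univ, true_and, Finset.mem_erase, Finset.mem_Ico, Set.mem_setOf_eq]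
    constructor
    · intro h; exact ⟨by omega, fun p hp => by omega⟩
    · rintro ⟨h1, h2⟩
      have := h2 (e - n)
      omega
  · intro p
    simp only [Finset.notMem_empty, false_iff, not_and, not_exists, Finset.mem_product, Finset.mem_univ, true_and,
      Finset.mem_erase, Finset.mem_Ico, Set.mem_setOf_eq]
    intro hp l
    omega
  · rw [Finset.card_product, Finset.card_univ, Fintype.card_fin, Finset.card_erase_of_mem (by simp; omega),
      Nat.card_Ico, Finset.card_empty, add_zero]
    congr 1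
    omega

end Groth.Agent.S15033
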