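import Groth.Statements.S15035
import Groth.Agent.H23TFCurv.LatticeGor

set_option autoImplicit false
universe u
open TFCurv

namespace Groth.Agent.S15035

/-- Let O be a one-dimensional Gorenstein local domain with algebraically closed residue field whose
integral closure O~ in its fraction field K is a finite O-module, and C ⊆ O the conductor of O in
O~. Then every finitely generated torsion-free O-module of rank n is isomorphic to an O-submodule
M'' of K^n with C^n ⊆ M'' ⊆ O^n. (For a general O the published statement places M'' between (O~*)^n
and ω^n for the canonical ideal ω; only the Gorenstein case ω = O, O~* = C is stated.) -/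
theorem result (O : Type u) [CommRing O] [IsDomain O] [LocCoh.IsGorensteinLocalRing O] (hdim : ringKrullDim O = 1) [IsAlgClosed (IsLocalRing.ResidueField O)] (K : Type u) [Field K] [Algebra O K] [IsFractionRing O K] (hfin : Module.Finite O ↥(integralClosure O K)) (M : Type u) [AddCommGroup M] [Module O M] [Module.Finite O M] [NoZeroSMulDivisors O M] (n : ℕ) (hn : Module.finrank K (TensorProduct O K M) = n) : ∃ M'' : Submodule O (Fin n → K), Submodule.pi Set.univ (fun _ : Fin n => (((1 : Submodule O K).colon (Subalgebra.toSubmodule (integralClosure O K))) • (1 : Submodule O K))) ≤ M'' ∧ M'' ≤ Submodule.pi Set.univ (fun _ : Fin n => (1 : Submodule O K)) ∧ Nonempty (M ≃ₗ[O] ↥M'') := by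
  exact H23TFCurv.exists_between_conductor hdim hfin M n hn

end Groth.Agent.S15035
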