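import Groth.Statements.S15036
import Mathlib

set_option autoImplicit false
open TFCurv

namespace Groth.Agent.S15036

/-- Let Γ be a numerical semigroup (a submonoid of (ℕ, +) with finite complement), Γ ≠ ℕ, with conductor
c (every n ≥ c lies in Γ, c − 1 does not); let S ⊆ ℕ be a Γ-module in normal form (0 ∈ S, γ + s ∈ S
for γ ∈ Γ, s ∈ S) with conductor c(S) (all n ≥ c(S) in S, c(S) − 1 ∉ S), and let s be a gap of S
such that S ∪ {s} is again a Γ-module. Enumerate S increasingly as s_0 < s_1 < ⋯ and put τ_i(S) =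
s_i + ℓ(S), where ℓ counts the gaps of Γ filled; since ℓ(S ∪ {s}) = ℓ(S) + 1, the termwise
comparison τ(S) ≤ τ(S ∪ {s}) says that the i-th element of S is at most one more than the i-th
element of S ∪ {s} for every i. This holds if and only if s = c(S) − 1, the largest gap of S. -/
theorem result (Γ : AddSubmonoid ℕ) (c : ℕ) (hc : ∀ n : ℕ, c ≤ n → n ∈ Γ) (hc0 : c ≠ 0) (hc1 : c - 1 ∉ Γ) (S : Set ℕ) (hS0 : (0 : ℕ) ∈ S) (hS : ∀ γ : ℕ, γ ∈ Γ → ∀ s : ℕ, s ∈ S → γ + s ∈ S) (cS : ℕ) (hcS : ∀ n : ℕ, cS ≤ n → n ∈ S) (hcS0 : cS ≠ 0) (hcS1 : cS - 1 ∉ S) (s : ℕ) (hs : s ∉ S) (hs' : ∀ γ : ℕ, γ ∈ Γ → γ ≠ 0 → s + γ ∈ S) : (∀ i : ℕ, Nat.nth (fun m => m ∈ S) i ≤ Nat.nth (fun m => m ∈ insert s S) i + 1) ↔ s + 1 = cS := by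
  classical
  set T : Set ℕ := insert s S with hT
  have hinfS : {m | m ∈ S}.Infinite := (Set.Ici_infinite cS).mono fun m hm => hcS m hm
  have hinfT : {m | m ∈ T}.Infinite := hinfS.mono fun m hm => Or.inr hm
  have hcnt : ∀ x, Nat.count (fun m => m ∈ T) x = Nat.count (fun m => m ∈ S) x + if s < x then 1 else 0 := by
    intro x
    induction x with
    | zero => simp
    | succ x ih =>
      rw [Nat.count_succ, Nat.count_succ, ih]
      rcases lt_trichotomy x s with h | rfl | h
      · have hxT : (x ∈ T) ↔ x ∈ S := ⟨fun h' => h'.resolve_left h.ne, Or.inr⟩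
        simp only [hxT, if_neg (show ¬ s < x by omega), if_neg (show ¬ s < x + 1 by omega)]
        omega
      · rw [if_pos (show x ∈ T from Or.inl rfl), if_neg hs, if_neg (lt_irrefl x), if_pos (by omega)]
      · have hxT : (x ∈ T) ↔ x ∈ S := ⟨fun h' => h'.resolve_left h.ne', Or.inr⟩
        simp only [hxT, if_pos h, if_pos (show s < x + 1 by omega)]
        omega
  constructor
  · intro h
    by_contra hne
    have hslt : s < cS := by
      by_contra hh
      exact hs (hcS s (by omega))
    have hk : Nat.nth (fun m => m ∈ S) (Nat.count (fun m => m ∈ S) cS) = cS := Nat.nth_count (hcS cS le_rfl)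
    have h1 := h (Nat.count (fun m => m ∈ S) cS)
    rw [hk] at h1
    have h2 : Nat.nth (fun m => m ∈ T) (Nat.count (fun m => m ∈ S) cS) < cS - 1 := by
      apply Nat.nth_lt_of_lt_count
      rw [hcnt, if_pos (show s < cS - 1 by omega)]
      have : Nat.count (fun m => m ∈ S) cS = Nat.count (fun m => m ∈ S) (cS - 1) := by
        conv_lhs => rw [show cS = cS - 1 + 1 by omega]
        rw [Nat.count_succ, if_neg hcS1, add_zero]
      omega
    change cS ≤ Nat.nth (fun m => m ∈ T) (Nat.count (fun m => m ∈ S) cS) + 1 at h1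
    omega
  · intro hsc i
    set a := Nat.nth (fun m => m ∈ T) i with ha
    have haT : a ∈ T := Nat.nth_mem_of_infinite hinfT i
    have hca : Nat.count (fun m => m ∈ T) a = i := Nat.count_nth_of_infinite hinfT i
    have key : i < Nat.count (fun m => m ∈ S) (a + 2) := by
      have h1 := Nat.count_succ (fun m => m ∈ T) a
      rw [if_pos haT, hca, hcnt] at h1
      have h2 := Nat.count_succ (fun m => m ∈ S) (a + 1)
      rw [show a + 1 + 1 = a + 2 by omega] at h2
      by_cases hsa : s < a + 1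
      · rw [if_pos hsa] at h1
        rw [if_pos (show a + 1 ∈ S from hcS _ (by omega))] at h2
        omega
      · rw [if_neg hsa] at h1
        have := Nat.count_monotone (fun m => m ∈ S) (show a + 1 ≤ a + 2 by omega)
        omega
    have := Nat.nth_lt_of_lt_count key
    change Nat.nth (fun m => m ∈ S) i ≤ a + 1
    omega

end Groth.Agent.S15036
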