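import Groth.Statements.S15037
import Mathlib

set_option autoImplicit false
open TFCurv

namespace Groth.Agent.S15037

/-- Let Γ be a numerical semigroup (a submonoid of (ℕ, +) with finite complement), Γ ≠ ℕ, with conductor
c (every n ≥ c lies in Γ, c − 1 does not); let S and S' ⊆ ℕ be Γ-modules in normal form with
conductors c(S), c(S'), let δ(S), δ(S') be their numbers of gaps and r(S), r(S') their numbers of
elements below the conductor, and enumerate them increasingly as s_i, s'_i (i ≥ 0). With τ_i(S) =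
s_i + ℓ(S) and ℓ(S) = δ(Γ) − δ(S), the termwise order τ(S) ≤ τ(S') reads s_i + δ(S') ≤ s'_i + δ(S)
for all i. It holds if and only if r(S') ≤ r(S) and s_i + δ(S') ≤ s'_i + δ(S) for all i < r(S')
(beyond r(S) the entries τ_i(S) = i + δ(Γ) are the largest possible). -/
theorem result (Γ : AddSubmonoid ℕ) (c : ℕ) (hc : ∀ n : ℕ, c ≤ n → n ∈ Γ) (hc0 : c ≠ 0) (hc1 : c - 1 ∉ Γ) (S : Set ℕ) (hS0 : (0 : ℕ) ∈ S) (hS : ∀ γ : ℕ, γ ∈ Γ → ∀ s : ℕ, s ∈ S → γ + s ∈ S) (cS : ℕ) (hcS : ∀ n : ℕ, cS ≤ n → n ∈ S) (hcS1 : cS = 0 ∨ cS - 1 ∉ S) (S' : Set ℕ) (hS'0 : (0 : ℕ) ∈ S') (hS' : ∀ γ : ℕ, γ ∈ Γ → ∀ s : ℕ, s ∈ S' → γ + s ∈ S') (cS' : ℕ) (hcS' : ∀ n : ℕ, cS' ≤ n → n ∈ S') (hcS'1 : cS' = 0 ∨ cS' - 1 ∉ S') : (∀ i : ℕ, Nat.nth (fun m => m ∈ S) i + S'ᶜ.ncard ≤ Nat.nth (fun m => m ∈ S') i + Sᶜ.ncard) ↔ ((S' ∩ Set.Iio cS').ncard ≤ (S ∩ Set.Iio cS).ncard ∧ ∀ i : ℕ, i < (S' ∩ Set.Iio cS').ncard → Nat.nth (fun m => m ∈ S) i + S'ᶜ.ncard ≤ Nat.nth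 (fun m => m ∈ S') i + Sᶜ.ncard) := by
  classical
  have main : ∀ (T : Set ℕ) (t : ℕ), (∀ n, t ≤ n → n ∈ T) → (t = 0 ∨ t - 1 ∉ T) →
      (T ∩ Set.Iio t).ncard + Tᶜ.ncard = t ∧
      (∀ i, (T ∩ Set.Iio t).ncard ≤ i → Nat.nth (fun m => m ∈ T) i = i + Tᶜ.ncard) ∧
      (∀ i, i < (T ∩ Set.Iio t).ncard → Nat.nth (fun m => m ∈ T) i < i + Tᶜ.ncard) := by
    intro T t ht ht1
    have hr : (T ∩ Set.Iio t).ncard = Nat.count (fun m => m ∈ T) t := by
      rw [Nat.count_eq_card_filter_range, ← Set.ncard_coe_finset]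
      congr 1
      ext x
      simp [and_comm]
    have hd : (T ∩ Set.Iio t).ncard + Tᶜ.ncard = t := by
      have h2 : Tᶜ = Set.Iio t \ (T ∩ Set.Iio t) := by
        ext x
        simp only [Set.mem_compl_iff, Set.mem_sdiff, Set.mem_Iio, Set.mem_inter_iff]
        exact ⟨fun h => ⟨not_le.mp fun h' => h (ht x h'), fun h' => h h'.1⟩, fun h h' => h.2 ⟨h', h.1⟩⟩
      rw [h2, Set.ncard_sdiff Set.inter_subset_right ((Set.finite_Iio t).inter_of_right _)]
      have := Set.ncard_le_ncard (Set.inter_subset_right : T ∩ Set.Iio t ⊆ Set.Iio t) (Set.finite_Iio t)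
      rw [Set.ncard_Iio_nat] at this ⊢
      omega
    refine ⟨hd, fun i hi => ?_, fun i hi => ?_⟩
    · obtain ⟨j, rfl⟩ : ∃ j, i = (T ∩ Set.Iio t).ncard + j := ⟨i - (T ∩ Set.Iio t).ncard, by omega⟩
      have : Nat.count (fun m => m ∈ T) (t + j) = (T ∩ Set.Iio t).ncard + j := by
        induction j with
        | zero => simp [hr]
        | succ j ih => rw [← add_assoc, Nat.count_succ, if_pos (ht _ (by omega)), ih (by omega), add_assoc]
      rw [← this, Nat.nth_count (show t + j ∈ T from ht _ (by omega))]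
      omega
    · have hlt : Nat.nth (fun m => m ∈ T) i < t := Nat.nth_lt_of_lt_count (hr ▸ hi)
      have hinf : {m | m ∈ T}.Infinite := (Set.Ici_infinite t).mono fun m hm => ht m hm
      have hmem : Nat.nth (fun m => m ∈ T) i ∈ T := Nat.nth_mem_of_infinite hinf i
      rcases ht1 with h | h
      · omega
      have hne : Nat.nth (fun m => m ∈ T) i ≠ t - 1 := fun e => h (e ▸ hmem)
      have h1 := Nat.count_succ (fun m => m ∈ T) (Nat.nth (fun m => m ∈ T) i)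
      rw [if_pos hmem, Nat.count_nth_of_infinite hinf] at h1
      have h2 : Nat.count (fun m => m ∈ T) t = Nat.count (fun m => m ∈ T) (t - 1) := by
        conv_lhs => rw [show t = t - 1 + 1 by omega]
        rw [Nat.count_succ, if_neg h, add_zero]
      obtain ⟨d, hd'⟩ : ∃ d, t - 1 = Nat.nth (fun m => m ∈ T) i + 1 + d :=
        ⟨t - 1 - (Nat.nth (fun m => m ∈ T) i + 1), by omega⟩
      rw [hd', Nat.count_add, h1] at h2
      have := Nat.count_le (p := fun k => Nat.nth (fun m => m ∈ T) i + 1 + k ∈ T) (n := d)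
      omega
  obtain ⟨-, hge, hlt⟩ := main S cS hcS hcS1
  obtain ⟨-, hge', hlt'⟩ := main S' cS' hcS' hcS'1
  constructor
  · intro h
    refine ⟨?_, fun i _ => h i⟩
    by_contra hne
    have h1 := h (S ∩ Set.Iio cS).ncard
    rw [hge _ le_rfl] at h1
    have := hlt' _ (not_le.mp hne)
    omega
  · rintro ⟨-, h⟩ i
    rcases lt_or_ge i (S' ∩ Set.Iio cS').ncard with hi | hi
    · exact h i hi
    · rw [hge' i hi]
      rcases lt_or_ge i (S ∩ Set.Iio cS).ncard with hi' | hi'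
      · have := hlt i hi'
        omega
      · rw [hge i hi']
        omega

end Groth.Agent.S15037
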