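import Groth.Statements.S15038
import Mathlib
import Groth.Agent.S15017

set_option autoImplicit false
open TFCurv

namespace Groth.Agent.S15038

/-- Let Γ be a numerical semigroup (a submonoid of (ℕ, +) with finite complement), Γ ≠ ℕ, with conductor
c (every n ≥ c lies in Γ, c − 1 does not). If Γ is symmetric (for x < c, x is a gap exactly when c −
1 − x ∈ Γ) and its multiplicity e, the least nonzero element of Γ, is greater than 2, then Γ is
generated as an additive monoid by at most e − 1 elements. -/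
theorem result (Γ : AddSubmonoid ℕ) (c : ℕ) (hc : ∀ n : ℕ, c ≤ n → n ∈ Γ) (hc0 : c ≠ 0) (hc1 : c - 1 ∉ Γ) (hsymm : ∀ x : ℕ, x < c → (x ∉ Γ ↔ c - 1 - x ∈ Γ)) (e : ℕ) (he : e ∈ Γ) (he0 : e ≠ 0) (hemin : ∀ γ : ℕ, γ ∈ Γ → γ ≠ 0 → e ≤ γ) (he2 : 2 < e) : ∃ G : Finset ℕ, G.card ≤ e - 1 ∧ AddSubmonoid.closure (↑G : Set ℕ) = Γ := by
  classical
  have h1 : (1 : ℕ) ∉ Γ := fun h => by have := hemin 1 h one_ne_zero; omega
  have h2 : (2 : ℕ) ∉ Γ := fun h => by have := hemin 2 h two_ne_zero; omega
  have hk : ∀ k, k * e ∈ Γ := fun k => by simpa using Γ.nsmul_mem he k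
  let A := (Finset.range c).filter fun x => x ∈ Γ ∧ x % e ≠ 0 ∧ ¬(e ≤ x ∧ x - e ∈ Γ)
  have hm : (c - 1) % e ≠ 0 := fun h0 => hc1 (by
    obtain ⟨k, hk'⟩ := Nat.dvd_of_mod_eq_zero h0
    rw [hk', mul_comm]
    exact hk k)
  have hmlt := Nat.mod_lt (c - 1) (Nat.pos_of_ne_zero he0)
  have hA : A.card ≤ e - 2 := by
    refine le_trans (Finset.card_le_card_of_injOn (fun x => x % e)
      (t := (Finset.Icc 1 (e - 1)).erase ((c - 1) % e)) ?_ ?_) ?_
    · intro x hx
      simp only [A, Finset.mem_coe, Finset.mem_filter, Finset.mem_range] at hx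
      obtain ⟨hxc, hxΓ, hx0, -⟩ := hx
      have := Nat.mod_lt x (Nat.pos_of_ne_zero he0)
      simp only [Finset.mem_coe, Finset.mem_erase, Finset.mem_Icc]
      refine ⟨fun heq => hc1 ?_, by omega, by omega⟩
      obtain ⟨k, hk'⟩ : e ∣ (c - 1) - x := (Nat.modEq_iff_dvd' (by omega : x ≤ c - 1)).mp heq
      have := Γ.add_mem hxΓ (hk k)
      rwa [mul_comm, ← hk', Nat.add_sub_cancel' (by omega)] at this
    · intro a ha b hb hab
      simp only [A, Finset.mem_coe, Finset.mem_filter, Finset.mem_range] at ha hb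
      wlog hle : a ≤ b generalizing a b
      · exact (this hab.symm hb ha (le_of_not_ge hle)).symm
      obtain ⟨k, hk'⟩ : e ∣ b - a := (Nat.modEq_iff_dvd' hle).mp hab
      by_contra hne
      cases k with
      | zero => simp at hk'; omega
      | succ k =>
        rw [Nat.mul_succ] at hk'
        refine hb.2.2.2 ⟨by omega, ?_⟩
        rw [show b - e = a + k * e by rw [mul_comm k e]; omega]
        exact Γ.add_mem ha.2.1 (hk k)
    · rw [Finset.card_erase_of_mem (by simp only [Finset.mem_Icc]; omega), Nat.card_Icc]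
      omega
  refine ⟨insert e A, (Finset.card_insert_le e A).trans (by omega), le_antisymm ?_ ?_⟩
  · refine AddSubmonoid.closure_le.mpr fun x hx => ?_
    simp only [Finset.coe_insert, Set.mem_insert_iff, Finset.mem_coe, A, Finset.mem_filter] at hx
    rcases hx with rfl | hx
    · exact he
    · exact hx.2.1
  · conv_lhs => rw [← Groth.Agent.S15017.result Γ c hc hc0 hc1 hsymm ⟨h1, h2⟩]
    refine AddSubmonoid.closure_le.mpr fun x hx => ?_
    obtain ⟨hxΓ, hxc⟩ := hx
    have hesub : e ∈ AddSubmonoid.closure ((insert e A : Finset ℕ) : Set ℕ) :=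
      AddSubmonoid.subset_closure (by simp)
    induction x using Nat.strong_induction_on with
    | _ x ih =>
    by_cases h0 : x % e = 0
    · obtain ⟨k, rfl⟩ := Nat.dvd_of_mod_eq_zero h0
      simpa [mul_comm] using AddSubmonoid.nsmul_mem _ hesub k
    by_cases hd : e ≤ x ∧ x - e ∈ Γ
    · have h' := add_mem (ih (x - e) (by omega) hd.2 (by omega)) hesub
      rwa [Nat.sub_add_cancel hd.1] at h'
    · exact AddSubmonoid.subset_closure (Finset.mem_coe.mpr (Finset.mem_insert_of_mem (Finset.mem_filter.mpr ⟨Finset.mem_range.mpr hxc, hxΓ, h0, hd⟩)))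

end Groth.Agent.S15038
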