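import Groth.Statements.S15039
import Groth.Agent.H23KS.PushNormal
import Groth.Agent.H23KS.CurveLattice
import Groth.Agent.H22Alg.NormalizationDimOne
import Groth.Agent.H26BMCoh.NormIso
import Groth.Agent.S15026

set_option autoImplicit false
universe u
open CategoryTheory CategoryTheory.Limits AlgebraicGeometry
open TFCurv

namespace Groth.Agent.S15039

/-- Let X be an integral proper curve (integral, proper, of dimension one) over an algebraically closed
field k, with normalisation ν : X~ → X, and write Õ_x for the integral closure of the local ring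
O_{X,x} in the function field of X. Then ν_* induces a bijection from isomorphism classes of locally
free modules of rank n on X~ to isomorphism classes of coherent O_X-modules all of whose stalks F_x
are isomorphic to Õ_x^n as O_{X,x}-modules: every such module is isomorphic to ν_*E for some locally
free E of rank n on X~, and two locally free modules of rank n on X~ with isomorphic direct images
are isomorphic. -/
theorem result (k : Type u) [Field k] [IsAlgClosed k] (X : Scheme.{u}) [X.Over (Spec (CommRingCat.of k))] [IsIntegral X] [IsProper (X ↘ Spec (CommRingCat.of k))] (hdim : topologicalKrullDim X = 1) [QuasiCompact (X.fromSpecStalk (genericPoint X))] [QuasiSeparated (X.fromSpecStalk (genericPoint X))] (n : ℕ) : (∀ F : X.Modules, Coh.IsCoh F → (∀ x : X, Nonempty (↑(F.presheaf.stalk x) ≃ₗ[↑(X.presheaf.stalk x)] (Fin n → ↥(integralClosure ↑(X.presheaf.stalk x) X.functionField)))) → ∃ E : (Curv2.normalization X).Modules, FlatMod.IsFinLocFreeOfRank n E ∧ Nonempty ((Coh.push (Curv2.normalizationι X)).obj E ≅ F)) ∧ (∀ E E' : (Curv2.normalization X).Modules, FlatMod.IsFinLocFreeOfRank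 n E → FlatMod.IsFinLocFreeOfRank n E' → Nonempty ((Coh.push (Curv2.normalizationι X)).obj E ≅ (Coh.push (Curv2.normalizationι X)).obj E') → Nonempty (E ≅ E')) := by
  let ν := Curv2.normalizationι X
  haveI : AlgebraicGeometry.IsNoetherian X := Groth.Agent.H28Int.isNoetherian k
  haveI : AlgebraicGeometry.IsIntegral (Curv2.normalization X) := by delta Curv2.normalization; infer_instance
  haveI : IsFinite ν := Groth.Agent.H11Curve.isFinite_normalizationι (X ↘ Spec (CommRingCat.of k))
  haveI := H22Alg.NormalizationDimOne.isLocallyNoetherian_normalization X hdim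
  haveI : CompactSpace ↥(Curv2.normalization X) := QuasiCompact.compactSpace_of_compactSpace ν
  haveI : AlgebraicGeometry.IsNoetherian (Curv2.normalization X) := {}
  have hpid : ∀ z : ↥(Curv2.normalization X), IsPrincipalIdealRing ((Curv2.normalization X).presheaf.stalk z) := by
    intro z
    obtain ⟨V, hV, hzV, -⟩ := exists_isAffineOpen_mem_and_subset
      (show z ∈ (⊤ : (Curv2.normalization X).Opens) from trivial)
    haveI : Nonempty V := ⟨⟨z, hzV⟩⟩
    haveI := H22Alg.NormalizationDimOne.isDedekindDomain_affineOpen X hdim hV ⟨z, hzV⟩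
    letI := TopCat.Presheaf.algebra_section_stalk (Curv2.normalization X).presheaf (⟨z, hzV⟩ : V)
    haveI := hV.isLocalization_stalk ⟨z, hzV⟩
    haveI : IsDedekindDomain ((Curv2.normalization X).presheaf.stalk z) :=
      IsLocalization.isDedekindDomain Γ(Curv2.normalization X, V)
        (Ideal.primeCompl_le_nonZeroDivisors (hV.primeIdealOf ⟨z, hzV⟩).asIdeal) _
    exact IsPrincipalIdealRing.of_finite_maximals ((Set.finite_singleton
      (IsLocalRing.maximalIdeal ((Curv2.normalization X).presheaf.stalk z))).subset
        fun I hI => IsLocalRing.eq_maximalIdeal hI)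
  have hgen : ν (genericPoint ↥(Curv2.normalization X)) = genericPoint X := by
    obtain ⟨W, ⟨x, hxW⟩, hiso⟩ := H26BMCoh.exists_isIso_normalization X
    haveI := hiso
    have hηW : genericPoint X ∈ W :=
      ((genericPoint_spec X).mem_open_set_iff W.isOpen).2 ⟨x, trivial, hxW⟩
    obtain ⟨z, hz⟩ := (ν ∣_ W).homeomorph.surjective ⟨_, hηW⟩
    have h1 : ν z.1 = genericPoint X := by
      rw [← morphismRestrict_base_coe ν W z]; exact congrArg Subtype.val hz
    have h2 : ν (genericPoint ↥(Curv2.normalization X)) ⤳ genericPoint X :=
      h1 ▸ (genericPoint_specializes z.1).map ν.continuous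
    exact (h2.antisymm (genericPoint_specializes _)).eq
  have hφ : ∀ (U : X.Opens) [Nonempty U], IsAffineOpen U →
      ∀ b : Γ(Curv2.normalization X, ν ⁻¹ᵁ U), ∃ (r : X.functionField) (s a : Γ(X, U)),
        IsIntegral Γ(X, U) r ∧ ν.app U s ≠ 0 ∧ ν.app U a = ν.app U s * b ∧
        algebraMap Γ(X, U) X.functionField a = algebraMap Γ(X, U) X.functionField s * r := by
    intro U _ hU b
    haveI := functionField_isFractionRing_of_isAffineOpen X U hU
    obtain ⟨φ, hφ⟩ := H22Alg.NormalizationDimOne.exists_obj_iso X hU
    obtain ⟨a, s, hs, h⟩ := IsFractionRing.div_surjective Γ(X, U) (φ.symm b : X.functionField)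
    have hs0 := IsFractionRing.to_map_ne_zero_of_mem_nonZeroDivisors (K := X.functionField) hs
    have h' : algebraMap Γ(X, U) X.functionField a =
        algebraMap Γ(X, U) X.functionField s * (φ.symm b : X.functionField) := by
      rw [← h, mul_div_cancel₀ _ hs0]
    refine ⟨_, s, a, (φ.symm b).2, fun h0 => ?_, ?_, h'⟩
    · rw [← hφ, map_eq_zero_iff _ φ.injective] at h0
      exact hs0 ((congrArg Subtype.val h0 :))
    · rw [← hφ, ← hφ, ← φ.apply_symm_apply b, ← map_mul]
      exact congrArg φ (Subtype.ext h')
  have hden : H23KS.PushFull.HasDen ν := fun U hU b hne => by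
    obtain ⟨z, hz⟩ := hne
    haveI : Nonempty U := ⟨⟨ν z, hz⟩⟩
    obtain ⟨r, s, a, -, hs, ha, -⟩ := hφ U hU b
    exact ⟨s, a, hs, ha⟩
  constructor
  · intro F hF he
    let e := fun x => Classical.choice (he x)
    have htf : TorSh.IsTorsionFree F := fun x => by
      refine Module.isTorsionFree_iff_smul_eq_zero.2 fun a v h => or_iff_not_imp_left.2 fun ha =>
        (e x).injective ?_
      rw [map_zero]
      funext i
      have h1 := congrFun (congrArg (e x) h) i
      rw [map_smul, map_zero] at h1
      have h2 : algebraMap (X.presheaf.stalk x) X.functionField a * ((e x v i : _) : X.functionField) = 0 := by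
        rw [← Algebra.smul_def]; exact congrArg Subtype.val h1
      exact Subtype.ext ((mul_eq_zero.1 h2).resolve_left fun h3 =>
        ha (IsFractionRing.injective (X.presheaf.stalk x) X.functionField (h3.trans (map_zero _).symm)))
    have hrank : ∀ x : X, x = genericPoint X →
        Module.finrank (X.presheaf.stalk x) (F.presheaf.stalk x) = n := by
      rintro x rfl
      have key : ∀ (R K : Type u) [CommRing R] [CommRing K] [IsDomain R] [Algebra R K],
          Function.Bijective (algebraMap R K) → Module.finrank R (Fin n → integralClosure R K) = n := by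
        intro R K _ _ _ _ hb
        let g : R ≃ₗ[R] integralClosure R K :=
          LinearEquiv.ofBijective (Algebra.linearMap _ _) ⟨fun a b h => hb.1 (congrArg Subtype.val h),
            fun y => by
              obtain ⟨a, ha⟩ := hb.2 y.1
              exact ⟨a, Subtype.ext ha⟩⟩
        exact (LinearEquiv.piCongrRight fun _ : Fin n => g).finrank_eq.symm.trans
          ((Module.finrank_pi _).trans (Fintype.card_fin n))
      letI : Algebra (X.presheaf.stalk (genericPoint X)) X.functionField :=
        stalkFunctionFieldAlgebra X (genericPoint X)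
      refine (e _).finrank_eq.trans
        (@key (X.presheaf.stalk (genericPoint X)) X.functionField _ _ _ _ ?_)
      exact IsField.localization_map_bijective
        (M := nonZeroDivisors (X.presheaf.stalk (genericPoint X)))
        zero_notMem_nonZeroDivisors (H29Ref.isField_generic (X := X))
    refine ⟨H23KS.PushNormal.pullMod ν F, H23KS.CurveLattice.isFinLocFreeOfRank_of_generic _
      (H23KS.PushNormal.isFinLocFree_pullMod ν hF hpid) ?_,
      H23KS.PushNormal.nonempty_iso ν hF hpid hgen htf fun U hU b x hx v => ?_⟩
    · refine H23KS.PushNormal.finrank_generic ν hF hpid (hrank _ hgen) ?_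
      rw [hgen]; exact H29Ref.isField_generic
    · haveI : Nonempty U := ⟨⟨x, hx⟩⟩
      obtain ⟨r, s, a, hr, hs, ha, har⟩ := hφ U hU b
      letI := TopCat.Presheaf.algebra_section_stalk X.presheaf (⟨x, hx⟩ : U)
      haveI := functionField_isScalarTower X U ⟨x, hx⟩
      let r' : integralClosure (X.presheaf.stalk x) X.functionField := ⟨r, hr.tower_top⟩
      refine ⟨s, a, (e x).symm fun i => r' * e x v i, hs, ha, (e x).injective ?_⟩
      rw [map_smul, map_smul, LinearEquiv.apply_symm_apply]
      funext i
      refine Subtype.ext ?_
      show algebraMap (X.presheaf.stalk x) X.functionField (algebraMap Γ(X, U) (X.presheaf.stalk x) s) *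
          (r * (e x v i : X.functionField)) =
        algebraMap (X.presheaf.stalk x) X.functionField (algebraMap Γ(X, U) (X.presheaf.stalk x) a) *
          (e x v i : X.functionField)
      rw [← IsScalarTower.algebraMap_apply, ← IsScalarTower.algebraMap_apply, har, mul_assoc]
  · rintro E E' hE hE' ⟨i⟩
    have h1 : ∀ G : (Curv2.normalization X).Modules, FlatMod.IsFinLocFreeOfRank n G →
        Coh.IsQCoh G ∧ H23KS.PushFull.IsTFSec G := fun G hG => by
      have hG' : FlatMod.IsFinLocFree G := fun z => let ⟨U, hU, h⟩ := hG z; ⟨U, n, hU, h⟩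
      exact ⟨H8Props.FinLocFree.isQCoh_of_isFinLocFree G hG',
        H23KS.PushNormal.isTFSec_of_free (H8Props.FinLocFree.free_stalk G hG')⟩
    exact H23KS.PushFull.nonempty_iso ν hden (h1 E hE).1 (h1 E hE).2 (h1 E' hE').1 (h1 E' hE').2 i

end Groth.Agent.S15039
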