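import Groth.Statements.S15040
import Groth.Agent.H23TFCurv.Lattice

set_option autoImplicit false
universe u
open CategoryTheory
open TFCurv

namespace Groth.Agent.S15040

/-- Let O be a one-dimensional Gorenstein local domain with algebraically closed residue field whose
integral closure O~ in its fraction field K is a finite O-module, and let M be an intermediate ring
O ⊆ M ⊆ O~ (an overring of O), viewed as an O-module. Put M⁻¹ = {x ∈ K | x·M ⊆ O}, which lies in O
and is identified with an ideal of O. Then Ext¹_O(M, M) and Hom_O(M⁻¹, O/M⁻¹) are isomorphic abelian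
groups (existence of an additive isomorphism only). -/
theorem result (O : Type u) [CommRing O] [IsDomain O] [LocCoh.IsGorensteinLocalRing O] (hdim : ringKrullDim O = 1) [IsAlgClosed (IsLocalRing.ResidueField O)] (K : Type u) [Field K] [Algebra O K] [IsFractionRing O K] (hfin : Module.Finite O ↥(integralClosure O K)) (M : Subalgebra O K) (hM : M ≤ integralClosure O K) : Nonempty (Abelian.Ext (ModuleCat.of O ↥M) (ModuleCat.of O ↥M) 1 ≃+ (↥((1 : Submodule O K) / Subalgebra.toSubmodule M) →ₗ[O] (O ⧸ Submodule.comap (Algebra.linearMap O K) ((1 : Submodule O K) / Subalgebra.toSubmodule M)))) := by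
  classical
  have hω : H23TFCurv.IsCanonical (1 : Submodule O K) := H23TFCurv.isCanonical_one O K hdim
  set MS := Subalgebra.toSubmodule M with hMS
  set J : Submodule O K := (1 : Submodule O K) / MS with hJ
  haveI : Module.Finite O ↥MS := H23TFCurv.finite_of_le_integralClosure hfin MS fun x hx => hM hx
  haveI : NoZeroSMulDivisors O ↥MS := ⟨fun {c x} h => or_iff_not_imp_left.mpr fun hc =>
    H23TFCurv.smul_eq_zero_omega MS hc h⟩
  have h1M : (1 : K) ∈ MS := M.one_mem
  -- the inverse is the dual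
  have hJmem : ∀ x, x ∈ J ↔ ∀ m ∈ MS, x * m ∈ (1 : Submodule O K) := fun x => Submodule.mem_div_iff_forall_mul_mem
  let Ψ : ↥J →ₗ[O] H23TFCurv.Dual' (1 : Submodule O K) ↥MS :=
    { toFun := fun x =>
        { toFun := fun m => ⟨x.1 * m.1, (hJmem x.1).mp x.2 m.1 m.2⟩
          map_add' := fun m m' => Subtype.ext (mul_add _ _ _)
          map_smul' := fun r m => Subtype.ext (mul_smul_comm _ _ _) }
      map_add' := fun x x' => LinearMap.ext fun m => Subtype.ext (add_mul _ _ _)
      map_smul' := fun r x => LinearMap.ext fun m => Subtype.ext (smul_mul_assoc _ _ _) }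
  have hΨ : Function.Bijective Ψ := by
    refine ⟨fun x x' h => Subtype.ext ?_, fun φ => ?_⟩
    · have := congrArg Subtype.val (LinearMap.congr_fun h ⟨1, h1M⟩)
      simpa [Ψ] using this
    · have hv : ∀ m : ↥MS, (φ ⟨1, h1M⟩ : K) * m = (φ m : K) := fun m => by
        simpa using H23TFCurv.map_eq_mul φ ⟨1, h1M⟩ m
      exact ⟨⟨_, (hJmem _).mpr fun m hm => by rw [hv ⟨m, hm⟩]; exact (φ ⟨m, hm⟩).2⟩,
        LinearMap.ext fun m => Subtype.ext (hv m)⟩
  obtain ⟨e₁⟩ := H23TFCurv.nonempty_extDualEquiv hω 1 ↥MS ↥MS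
  let eΨ := (LinearEquiv.ofBijective Ψ hΨ).symm.toModuleIso
  obtain ⟨e₂⟩ := H23TFCurv.nonempty_extAddEquiv_of_iso eΨ eΨ 1
  let eM : ModuleCat.of O ↥M ≅ ModuleCat.of O ↥MS :=
    { hom := ModuleCat.ofHom { toFun := fun m => ⟨m.1, m.2⟩, map_add' := fun _ _ => rfl, map_smul' := fun _ _ => rfl }
      inv := ModuleCat.ofHom { toFun := fun m => ⟨m.1, m.2⟩, map_add' := fun _ _ => rfl, map_smul' := fun _ _ => rfl }
      hom_inv_id := by ext; rfl
      inv_hom_id := by ext; rfl }
  obtain ⟨e₀⟩ := H23TFCurv.nonempty_extAddEquiv_of_iso eM eM 1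
  -- the inverse as an ideal
  have hJ1 : J ≤ LinearMap.range (Algebra.linearMap O K) := fun x hx => by
    have := (hJmem x).mp hx 1 h1M
    rwa [mul_one, Submodule.one_eq_range] at this
  let i : ↥J →ₗ[O] O := (LinearEquiv.ofInjective (Algebra.linearMap O K) (IsFractionRing.injective O K)).symm.toLinearMap ∘ₗ
    Submodule.inclusion hJ1
  have hi : ∀ x, algebraMap O K (i x) = x.1 := fun x =>
    congrArg Subtype.val (LinearEquiv.apply_symm_apply
      (LinearEquiv.ofInjective (Algebra.linearMap O K) (IsFractionRing.injective O K)) (Submodule.inclusion hJ1 x))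
  set I : Submodule O O := Submodule.comap (Algebra.linearMap O K) J with hI
  have hex : Function.Exact i I.mkQ := fun r => by
    rw [Submodule.mkQ_apply, Submodule.Quotient.mk_eq_zero]
    exact ⟨fun hr => ⟨⟨_, hr⟩, IsFractionRing.injective O K (hi _)⟩, by
      rintro ⟨x, rfl⟩
      show algebraMap O K (i x) ∈ J
      rw [hi]
      exact x.2⟩
  have hinj : Function.Injective i := fun x y h => Subtype.ext (by rw [← hi, h, hi])
  let S : ShortComplex (ModuleCat.{u} O) := ShortComplex.mk (ModuleCat.ofHom i) (ModuleCat.ofHom I.mkQ)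
    (ModuleCat.hom_ext hex.linearMap_comp_eq_zero)
  have hS : S.ShortExact := ModuleCat.shortComplex_shortExact S hex hinj
    I.mkQ_surjective
  let X := ModuleCat.of O ↥J
  haveI : Module.Finite O ↥J := Module.Finite.of_injective i hinj
  haveI : NoZeroSMulDivisors O ↥J := ⟨fun {c x} h => or_iff_not_imp_left.mpr fun hc =>
    H23TFCurv.smul_eq_zero_omega J hc h⟩
  have hvan : Subsingleton (Abelian.Ext X S.X₂ 1) := by
    let e : ↥(1 : Submodule O K) ≃ₗ[O] O :=
      (LinearEquiv.ofEq _ _ Submodule.one_eq_range).trans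
        (LinearEquiv.ofInjective (Algebra.linearMap O K) (IsFractionRing.injective O K)).symm
    obtain ⟨t⟩ := H23TFCurv.nonempty_extAddEquiv_of_iso (Iso.refl X) e.toModuleIso 1
    haveI := H23TFCurv.subsingleton_ext_succ hω ↥J 0
    exact t.symm.toEquiv.subsingleton
  have hzero : ∀ φ : ↥J →ₗ[O] O, I.mkQ ∘ₗ φ = 0 := fun φ => LinearMap.ext fun x => by
    rw [LinearMap.comp_apply, LinearMap.zero_apply, Submodule.mkQ_apply, Submodule.Quotient.mk_eq_zero]
    show algebraMap O K (φ x) ∈ J
    rw [hJmem]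
    intro m hm
    by_cases hx : x.1 = 0
    · rw [show x = 0 from Subtype.ext hx, map_zero, map_zero, zero_mul]
      exact zero_mem _
    have hx' : x.1 * m ∈ J := (hJmem _).mpr fun m' hm' => by
      rw [mul_assoc]
      exact (hJmem _).mp x.2 _ (M.mul_mem hm hm')
    let φ' : ↥J →ₗ[O] ↥(LinearMap.range (Algebra.linearMap O K)) := (Algebra.linearMap O K).rangeRestrict ∘ₗ φ
    have := H23TFCurv.map_eq_mul φ' x ⟨_, hx'⟩
    have h2 : algebraMap O K (φ x) * m = algebraMap O K (φ ⟨_, hx'⟩) := by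
      refine mul_left_cancel₀ hx ?_
      calc x.1 * (algebraMap O K (φ x) * m) = algebraMap O K (φ x) * (x.1 * m) := by ring
        _ = x.1 * algebraMap O K (φ ⟨_, hx'⟩) := this
    rw [h2, Submodule.one_eq_range]
    exact ⟨_, rfl⟩
  let δ : (↥J →ₗ[O] O ⧸ I) →+ Abelian.Ext X S.X₁ 1 :=
    (hS.extClass.postcomp X (zero_add 1)).comp
      ((Abelian.Ext.addEquiv₀ (X := X) (Y := S.X₃)).symm.toAddMonoidHom.comp
        (ModuleCat.homAddEquiv (M := X) (N := S.X₃)).symm.toAddMonoidHom)
  have hδ : ∀ f, δ f = (Abelian.Ext.mk₀ (ModuleCat.ofHom f : X ⟶ S.X₃)).comp hS.extClass (zero_add 1) := fun f => rfl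
  have hbij : Function.Bijective δ := by
    constructor
    · rw [injective_iff_map_eq_zero]
      intro f hf
      obtain ⟨y, hy⟩ := Abelian.Ext.covariant_sequence_exact₃ X hS _ (zero_add 1) ((hδ f).symm.trans hf)
      obtain ⟨y, rfl⟩ := (Abelian.Ext.mk₀_bijective _ _).2 y
      rw [Abelian.Ext.mk₀_comp_mk₀] at hy
      exact (congrArg ModuleCat.Hom.hom ((Abelian.Ext.mk₀_bijective _ _).1 hy)).symm.trans (hzero y.hom)
    · intro x
      obtain ⟨y, hy⟩ := Abelian.Ext.covariant_sequence_exact₁ X hS x (@Subsingleton.elim _ hvan _ _) (zero_add 1)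
      obtain ⟨y, rfl⟩ := (Abelian.Ext.mk₀_bijective _ _).2 y
      exact ⟨y.hom, hy⟩
  exact ⟨e₀.trans (e₁.trans (e₂.trans (AddEquiv.ofBijective δ hbij).symm))⟩

end Groth.Agent.S15040
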