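import Groth.Statements.S15041
import Groth.Agent.H23TFCurv.MonomialTests

set_option autoImplicit false
universe u
open CategoryTheory
open TFCurv

namespace Groth.Agent.S15041

/-- Let k be an algebraically closed field of characteristic zero and A ⊂ k[[t]] the complete local ring
of the E_6 singularity, i.e. the k-subalgebra of power series all of whose exponents lie in the
semigroup generated by 3 and 4 (A = k[[t³, t⁴]]). Its rank-one torsion-free modules are A, M₁ = A +
A·t⁵, its dual M₁* = A + A·t, M₂ = A + A·t² and M₃ = A + A·t + A·t² = k[[t]], of index 0, 1, 1, 2,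
3. Then Ext¹_A(M, M) has length 2·index(M): length 2 for M₁ and for M₁*, 4 for M₂ and 6 for M₃
(length over A equals k-dimension). As End_A(M₁) = End_A(M₁*) = M₁, End_A(M₂) = M₂, End_A(M₃) = M₃
have colength 1, 1, 2, 3 over A, this is the identity χ₁(M) = dim Ext¹(M, M) − dim(End(M)/A) =
index(M). -/
theorem result (k : Type u) [Field k] [IsAlgClosed k] [CharZero k] (A : Subalgebra k (PowerSeries k)) (hmono : ∀ f : PowerSeries k, f ∈ A ↔ ∀ n : ℕ, PowerSeries.coeff n f ≠ 0 → n ∈ AddSubmonoid.closure ({3, 4} : Set ℕ)) : Module.length ↥A (Abelian.Ext (ModuleCat.of ↥A ↥(Submodule.span ↥A ({1, (PowerSeries.X : PowerSeries k) ^ 5} : Set (PowerSeries k)))) (ModuleCat.of ↥A ↥(Submodule.span ↥A ({1, (PowerSeries.X : PowerSeries k) ^ 5} : Set (PowerSeries k)))) 1) = 2 ∧ Module.length ↥A (Abelian.Ext (ModuleCat.of ↥A ↥(Submodule.span ↥A ({1, (PowerSeries.X : PowerSeries k)} : Set (PowerSeries k)))) (ModuleCat.of ↥A ↥(Submodule.span ↥A ({1, (PowerSeries.X : PowerSeries k)} : Set (PowerSeries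 k)))) 1) = 2 ∧ Module.length ↥A (Abelian.Ext (ModuleCat.of ↥A ↥(Submodule.span ↥A ({1, (PowerSeries.X : PowerSeries k) ^ 2} : Set (PowerSeries k)))) (ModuleCat.of ↥A ↥(Submodule.span ↥A ({1, (PowerSeries.X : PowerSeries k) ^ 2} : Set (PowerSeries k)))) 1) = 4 ∧ Module.length ↥A (Abelian.Ext (ModuleCat.of ↥A ↥(Submodule.span ↥A ({1, (PowerSeries.X : PowerSeries k), (PowerSeries.X : PowerSeries k) ^ 2} : Set (PowerSeries k)))) (ModuleCat.of ↥A ↥(Submodule.span ↥A ({1, (PowerSeries.X : PowerSeries k), (PowerSeries.X : PowerSeries k) ^ 2} : Set (PowerSeries k)))) 1) = 6 := by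
  classical
  have hA : ∀ f, f ∈ A ↔ f ∈ H23TFCurv.mon k ((AddSubmonoid.closure ({3, 4} : Set ℕ) : AddSubmonoid ℕ) : Set ℕ) := hmono
  have hΓ : ∀ m : ℕ, m ∈ AddSubmonoid.closure ({3, 4} : Set ℕ) ↔ (m = 0 ∨ m = 3 ∨ m = 4 ∨ 6 ≤ m) := by
    intro m
    constructor
    · intro h
      induction h using AddSubmonoid.closure_induction with
      | mem x hx =>
        simp only [Set.mem_insert_iff, Set.mem_singleton_iff] at hx
        omega
      | zero => omega
      | add x y _ _ hx hy => omega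
    · intro h
      obtain ⟨x, y, hxy⟩ : ∃ x y, x * 3 + y * 4 = m := ⟨(m - (m % 3) * 4) / 3, m % 3, by omega⟩
      have h3 := AddSubmonoid.nsmul_mem _ (AddSubmonoid.subset_closure (show (3 : ℕ) ∈ ({3, 4} : Set ℕ) by simp)) x
      have h4 := AddSubmonoid.nsmul_mem _ (AddSubmonoid.subset_closure (show (4 : ℕ) ∈ ({3, 4} : Set ℕ) by simp)) y
      have := AddSubmonoid.add_mem _ h3 h4
      rwa [smul_eq_mul, smul_eq_mul, hxy] at this
  have h6 : ∀ m, 6 ≤ m → m ∈ ((AddSubmonoid.closure ({3, 4} : Set ℕ) : AddSubmonoid ℕ) : Set ℕ) :=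
    fun m h => (hΓ m).mpr (by omega)
  have hspan : ∀ (G : Finset ℕ) (S : Set ℕ), (∀ m, (∃ a ∈ G, ∃ γ, (γ = 0 ∨ γ = 3 ∨ γ = 4 ∨ 6 ≤ γ) ∧ m = a + γ) ↔ m ∈ S) →
      ∀ f, f ∈ Submodule.span ↥A ((fun a : ℕ => (PowerSeries.X : PowerSeries k) ^ a) '' (G : Set ℕ)) ↔
        f ∈ H23TFCurv.mon k S := by
    intro G S h f
    rw [H23TFCurv.mem_span_monomials hA]
    refine forall₂_congr fun m _ => ?_
    rw [← h m]
    simp only [Set.mem_setOf_eq, SetLike.mem_coe, hΓ]
  refine ⟨?_, ?_, ?_, ?_⟩
  · rw [show ({1, (PowerSeries.X : PowerSeries k) ^ 5} : Set (PowerSeries k)) =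
      (fun a : ℕ => (PowerSeries.X : PowerSeries k) ^ a) '' (({0, 5} : Finset ℕ) : Set ℕ) by simp [Set.image_insert_eq]]
    refine H23TFCurv.length_ext_one_monomial hA (fun _ : Fin 1 => 5) 6 h6 _ _
      (by congr 1; simp [Set.image_insert_eq, Set.range_const]) {p | p = 0 ∨ 3 ≤ p} (hspan _ _ fun m => ?_)
      (fun _ => {m | m ∈ AddSubmonoid.closure ({3, 4} : Set ℕ) ∧ m + 5 ∈ AddSubmonoid.closure ({3, 4} : Set ℕ)})
      (fun v hv => H23TFCurv.relation_single hA v hv)
      (fun _ => {e | 6 ≤ e}) ?_ ?_ (({0} : Finset (Fin 1)) ×ˢ {7, 8}) ?_ ∅ ?_ 2 (by decide)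
    · simp only [Finset.mem_insert, Finset.mem_singleton, Set.mem_setOf_eq]
      constructor
      · rintro ⟨x, hx, γ, hγ, rfl⟩; omega
      · intro h
        by_cases h5 : m = 5
        · exact ⟨5, Or.inr rfl, 0, Or.inl rfl, h5⟩
        · exact ⟨0, Or.inl rfl, m, by omega, (zero_add m).symm⟩
    · intro l m hm e he
      simp only [Set.mem_setOf_eq, hΓ] at hm he
      exact ⟨m + e - 6, by simp only [Set.mem_setOf_eq]; omega, by omega⟩
    · intro h _ hh l e he
      obtain ⟨p, hp, hep⟩ := H23TFCurv.exponent_of_test hA hh l (j := 3) ((hΓ _).mpr (by omega)) ((hΓ _).mpr (by omega)) he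
      obtain ⟨q, hq, heq⟩ := H23TFCurv.exponent_of_test hA hh l (j := 4) ((hΓ _).mpr (by omega)) ((hΓ _).mpr (by omega)) he
      simp only [Set.mem_setOf_eq] at hp hq ⊢
      omega
    · intro l e
      obtain rfl := Subsingleton.elim l 0
      simp only [Finset.mem_product, Finset.mem_singleton, true_and, Finset.mem_insert, Set.mem_setOf_eq]
      exact ⟨fun h => ⟨by omega, fun p hp => by omega⟩, fun ⟨h1, h2⟩ => by have := h2 (e - 6); omega⟩
    · intro p
      simp only [Finset.notMem_empty, false_iff, not_and, not_exists, Finset.mem_product, Finset.mem_singleton,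
        Finset.mem_insert, Set.mem_setOf_eq]
      intro hp l _
      omega
  · rw [show ({1, (PowerSeries.X : PowerSeries k)} : Set (PowerSeries k)) =
      (fun a : ℕ => (PowerSeries.X : PowerSeries k) ^ a) '' (({0, 1} : Finset ℕ) : Set ℕ) by simp [Set.image_insert_eq]]
    refine H23TFCurv.length_ext_one_monomial hA (fun _ : Fin 1 => 1) 6 h6 _ _
      (by congr 1; simp [Set.image_insert_eq, Set.range_const]) {p | p ≠ 2} (hspan _ _ fun m => ?_)
      (fun _ => {m | m ∈ AddSubmonoid.closure ({3, 4} : Set ℕ) ∧ m + 1 ∈ AddSubmonoid.closure ({3, 4} : Set ℕ)})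
      (fun v hv => H23TFCurv.relation_single hA v hv)
      (fun _ => {e | e = 3 ∨ e = 4 ∨ 6 ≤ e}) ?_ ?_ (({0} : Finset (Fin 1)) ×ˢ {3, 4, 8}) ?_ {1} ?_ 2 (by decide)
    · simp only [Finset.mem_insert, Finset.mem_singleton, Set.mem_setOf_eq]
      constructor
      · rintro ⟨x, hx, γ, hγ, rfl⟩; omega
      · intro h
        by_cases h5 : m = 1 ∨ m = 5
        · exact ⟨1, Or.inr rfl, m - 1, by omega, by omega⟩
        · exact ⟨0, Or.inl rfl, m, by omega, (zero_add m).symm⟩
    · intro l m hm e he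
      simp only [Set.mem_setOf_eq, hΓ] at hm he
      exact ⟨m + e - 6, by simp only [Set.mem_setOf_eq]; omega, by omega⟩
    · intro h _ hh l e he
      obtain ⟨p, hp, hep⟩ := H23TFCurv.exponent_of_test hA hh l (j := 3) ((hΓ _).mpr (by omega)) ((hΓ _).mpr (by omega)) he
      obtain ⟨q, hq, heq⟩ := H23TFCurv.exponent_of_test hA hh l (j := 6) ((hΓ _).mpr (by omega)) ((hΓ _).mpr (by omega)) he
      simp only [Set.mem_setOf_eq] at hp hq ⊢
      omega
    · intro l e
      obtain rfl := Subsingleton.elim l 0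
      simp only [Finset.mem_product, Finset.mem_singleton, true_and, Finset.mem_insert, Set.mem_setOf_eq]
      exact ⟨fun h => ⟨by omega, fun p hp => by omega⟩, fun ⟨h1, h2⟩ => by have := h2 (e - 6); omega⟩
    · intro p
      simp only [Finset.mem_singleton, Finset.mem_product, Finset.mem_insert, Set.mem_setOf_eq]
      constructor
      · rintro rfl
        exact ⟨by omega, 0, rfl, by omega⟩
      · rintro ⟨hp, l, -, hl⟩
        omega
  · rw [show ({1, (PowerSeries.X : PowerSeries k) ^ 2} : Set (PowerSeries k)) =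
      (fun a : ℕ => (PowerSeries.X : PowerSeries k) ^ a) '' (({0, 2} : Finset ℕ) : Set ℕ) by simp [Set.image_insert_eq]]
    refine H23TFCurv.length_ext_one_monomial hA (fun _ : Fin 1 => 2) 6 h6 _ _
      (by congr 1; simp [Set.image_insert_eq, Set.range_const]) {p | p ≠ 1} (hspan _ _ fun m => ?_)
      (fun _ => {m | m ∈ AddSubmonoid.closure ({3, 4} : Set ℕ) ∧ m + 2 ∈ AddSubmonoid.closure ({3, 4} : Set ℕ)})
      (fun v hv => H23TFCurv.relation_single hA v hv)
      (fun _ => {e | e = 2 ∨ 4 ≤ e}) ?_ ?_ (({0} : Finset (Fin 1)) ×ˢ {2, 4, 5, 7}) ?_ ∅ ?_ 4 (by decide)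
    · simp only [Finset.mem_insert, Finset.mem_singleton, Set.mem_setOf_eq]
      constructor
      · rintro ⟨x, hx, γ, hγ, rfl⟩; omega
      · intro h
        by_cases h5 : m = 2 ∨ m = 5
        · exact ⟨2, Or.inr rfl, m - 2, by omega, by omega⟩
        · exact ⟨0, Or.inl rfl, m, by omega, (zero_add m).symm⟩
    · intro l m hm e he
      simp only [Set.mem_setOf_eq, hΓ] at hm he
      exact ⟨m + e - 6, by simp only [Set.mem_setOf_eq]; omega, by omega⟩
    · intro h _ hh l e he
      obtain ⟨p, hp, hep⟩ := H23TFCurv.exponent_of_test hA hh l (j := 4) ((hΓ _).mpr (by omega)) ((hΓ _).mpr (by omega)) he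
      simp only [Set.mem_setOf_eq] at hp ⊢
      omega
    · intro l e
      obtain rfl := Subsingleton.elim l 0
      simp only [Finset.mem_product, Finset.mem_singleton, true_and, Finset.mem_insert, Set.mem_setOf_eq]
      exact ⟨fun h => ⟨by omega, fun p hp => by omega⟩, fun ⟨h1, h2⟩ => by have := h2 (e - 6); omega⟩
    · intro p
      simp only [Finset.notMem_empty, false_iff, not_and, not_exists, Finset.mem_product, Finset.mem_singleton,
        Finset.mem_insert, Set.mem_setOf_eq]
      intro hp l _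
      omega
  · rw [show ({1, (PowerSeries.X : PowerSeries k), (PowerSeries.X : PowerSeries k) ^ 2} : Set (PowerSeries k)) =
      (fun a : ℕ => (PowerSeries.X : PowerSeries k) ^ a) '' (({0, 1, 2} : Finset ℕ) : Set ℕ) by simp [Set.image_insert_eq]]
    refine H23TFCurv.length_ext_one_monomial hA (fun l : Fin 2 => l.1 + 1) 6 h6 _ _
      ?_ Set.univ (hspan _ _ fun m => ?_)
      (fun _ => {m | 3 ≤ m}) ?_ (fun _ => {e | 3 ≤ e}) ?_ ?_ (Finset.univ ×ˢ {3, 4, 5}) ?_ ∅ ?_ 6 (by decide)
    · congr 1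
      ext f
      simp [Fin.exists_fin_two, eq_comm]
    · simp only [Finset.mem_insert, Finset.mem_singleton, Set.mem_univ, iff_true]
      by_cases h1 : m = 0 ∨ m = 3 ∨ m = 4 ∨ 6 ≤ m
      · exact ⟨0, Or.inl rfl, m, h1, (zero_add m).symm⟩
      · by_cases h2 : m = 1 ∨ m = 5
        · exact ⟨1, Or.inr (Or.inl rfl), m - 1, by omega, by omega⟩
        · exact ⟨2, Or.inr (Or.inr rfl), 0, Or.inl rfl, by omega⟩
    · intro v hv l m hm
      have hm' := (hΓ m).mp ((hA _).mp (v.2 l).2 m hm)
      show 3 ≤ m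
      by_contra hlt
      obtain rfl : m = 0 := by omega
      apply hm
      rw [Fin.sum_univ_two] at hv
      have z : ∀ (x : A) (d : ℕ), d = 1 ∨ d = 2 → PowerSeries.coeff d (x : PowerSeries k) = 0 := fun x d hd =>
        H23TFCurv.coeff_eq_zero_of_mem_mon ((hA _).mp x.2) (fun h => by rw [SetLike.mem_coe, hΓ] at h; omega)
      have e1 := congrArg (PowerSeries.coeff 1) hv
      have e2 := congrArg (PowerSeries.coeff 2) hv
      simp [PowerSeries.coeff_mul_X_pow', z, -PowerSeries.coeff_zero_eq_constantCoeff] at e1 e2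
      fin_cases l
      · simpa using e1
      · simpa using e2
    · intro l m hm e he
      simp only [Set.mem_setOf_eq] at hm he
      exact ⟨m + e - 6, trivial, by omega⟩
    · intro h _ hh l e he
      have hh3 : PowerSeries.coeff 1 (h 0) = 0 := by
        by_contra hne
        obtain ⟨p, hp, hep⟩ := H23TFCurv.exponent_of_test hA hh 0 (j := 3) ((hΓ _).mpr (by omega))
          ((hΓ _).mpr (by simp)) hne
        omega
      obtain rfl | rfl : l = 0 ∨ l = 1 := by omega
      · obtain ⟨p, hp, hep⟩ := H23TFCurv.exponent_of_test hA hh 0 (j := 3) ((hΓ _).mpr (by omega))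
          ((hΓ _).mpr (by simp)) he
        simp only [Set.mem_setOf_eq]
        omega
      · obtain ⟨p, hp, hep⟩ := H23TFCurv.exponent_of_test hA hh 1 (j := 4) ((hΓ _).mpr (by omega))
          ((hΓ _).mpr (by simp)) he
        simp only [Set.mem_setOf_eq]
        by_contra hlt
        obtain rfl : e = 2 := by omega
        apply he
        have hm := hh (0, ![H23TFCurv.monA hA 4 ((hΓ _).mpr (by omega)), -H23TFCurv.monA hA 3 ((hΓ _).mpr (by omega))]) (by
          simp [Fin.sum_univ_two, H23TFCurv.monA, ← pow_add, ← pow_succ])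
        have := H23TFCurv.coeff_eq_zero_of_mem_mon hm (n := 5) (by rintro ⟨p, -, hp⟩; omega)
        simpa [Fin.sum_univ_two, H23TFCurv.monA, PowerSeries.coeff_X_pow_mul', hh3] using this
    · intro l e
      simp only [Finset.mem_product, Finset.mem_univ, true_and, Finset.mem_insert, Finset.mem_singleton,
        Set.mem_setOf_eq, Set.mem_univ, forall_const]
      exact ⟨fun h => ⟨by omega, fun p => by omega⟩, fun ⟨h1, h2⟩ => by have := h2 (e - 6); omega⟩
    · intro p
      simp only [Finset.notMem_empty, false_iff, not_and, not_exists, Finset.mem_product, Finset.mem_univ, true_and,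
        Finset.mem_singleton, Finset.mem_insert]
      intro _ l
      omega

end Groth.Agent.S15041
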