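import Groth.Statements.S15042
import Groth.Agent.H27Quiet.Local

set_option autoImplicit false
open CategoryTheory AlgebraicGeometry
universe u
open Quiet

namespace Groth.Agent.S15042

/-- Over a scheme `X` of prime characteristic `p`, if `f : Y ⟶ X` is quasi-etale (locally on the source
an extraction of `p`-th roots followed by an etale morphism) and `Y'` with its projections `g' : Y'
⟶ Y`, `f' : Y' ⟶ X'` is the fibre product of `f` and a morphism `g : X' ⟶ X`, then `f'` is
quasi-etale. -/
theorem result (p : ℕ) [Fact p.Prime] {X Y X' Y' : Scheme.{u}} [FrobSch.IsCharP X p]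
    (f : Y ⟶ X) (g : X' ⟶ X) (f' : Y' ⟶ X') (g' : Y' ⟶ Y) (H : IsPullback g' f' f g)
    (hf : Quiet.IsQuiet p f) : Quiet.IsQuiet p f' := by
  exact (Groth.Agent.H27Quiet.isQuiet_iff f').2 fun _ =>
    ((Groth.Agent.H27Quiet.isQuiet_iff f).1 hf _).baseChange H

end Groth.Agent.S15042
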