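import Groth.Statements.S15045
import Groth.Agent.H27Quiet.Thickening

set_option autoImplicit false
open CategoryTheory AlgebraicGeometry
universe u
open Quiet

namespace Groth.Agent.S15045

/-- Let `T` be a scheme of prime characteristic `p`, `i : U ⟶ T` a closed immersion which is surjective
on points, and `f' : U' ⟶ U` quasi-etale (locally on `U'` an extraction of `p`-th roots followed by
an etale morphism). Then every point of `U'` has an open neighbourhood `V` which is the base change
along `i` of a quasi-etale `T`-scheme: there are a quasi-etale `q : T' ⟶ T` and `j : V ⟶ T'` making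
`V`, with `j` and `V ⟶ U' ⟶ U`, the fibre product of `q` and `i`. (The published statement asks `U ⟶
T` to be a closed nil-immersion, a term it does not define; this row takes any closed immersion that
is surjective on points, which is all the printed argument uses.) -/
theorem result (p : ℕ) [Fact p.Prime] {T U U' : Scheme.{u}}
    [FrobSch.IsCharP T p] (i : U ⟶ T) [IsClosedImmersion i] [Surjective i] (f' : U' ⟶ U)
    (hf' : Quiet.IsQuiet p f') (u : U') :
    ∃ (V : U'.Opens) (T' : Scheme.{u}) (q : T' ⟶ T) (j : (V : Scheme.{u}) ⟶ T'),
      u ∈ V ∧ Quiet.IsQuiet p q ∧ IsPullback j (V.ι ≫ f') q i := by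
  exact Groth.Agent.H27Quiet.exists_lift_thickening i f' ((Groth.Agent.H27Quiet.isQuiet_iff f').1 hf' u)

end Groth.Agent.S15045
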