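import Groth.Statements.S15046
import Groth.Agent.H27Quiet.Frobenius

set_option autoImplicit false
open CategoryTheory AlgebraicGeometry
universe u
open Quiet

namespace Groth.Agent.S15046

/-- Let `k` be a perfect field of prime characteristic `p` and `A` a smooth `k`-algebra of
characteristic `p`. Then the Frobenius endomorphism `a ↦ a ^ p` of `A` is faithfully flat, and the
endomorphism of `Spec A` it induces is an extraction of `p`-th roots: every point has an affine open
neighbourhood with affine preimage over which the induced ring map is a tower of finitely many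
elementary extractions `B → B[x]/(x^p - b)`. -/
theorem result (p : ℕ) [Fact p.Prime]
    (k : Type u) [Field k] [CharP k p] [PerfectRing k p] (A : Type u) [CommRing A] [Algebra k A]
    [CharP A p] [Algebra.Smooth k A] :
    (frobenius A p).FaithfullyFlat ∧
      Quiet.IsPthRoot p (Spec.map (CommRingCat.ofHom (frobenius A p))) := by
  let k' : CommRingCat.{u} := CommRingCat.of k
  let A' : CommRingCat.{u} := CommRingCat.of A
  have hA : (p : A) = 0 := CharP.cast_eq_zero A p
  have hk : Function.Bijective fun x : k => x ^ p := bijective_frobenius k p
  have h := Groth.Agent.H27Quiet.locTower_frobC_of_smooth k' (CharP.cast_eq_zero k p) hk A' hA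
  have e : frobenius A p = (Groth.Agent.H27Quiet.frobC p A' hA).hom := RingHom.ext fun _ => rfl
  refine ⟨RingHom.FaithfullyFlat.iff_flat_and_comap_surjective.mpr ⟨?_, ?_⟩, ?_⟩
  · rw [e]
    exact h.flat
  · intro q
    refine ⟨q, PrimeSpectrum.ext (Ideal.ext fun x => ?_)⟩
    exact ⟨fun hx => q.isPrime.mem_of_pow_mem p hx, fun hx => q.asIdeal.pow_mem_of_mem hx p (Fact.out : p.Prime).pos⟩
  · rw [e]
    exact h.isPthRoot

end Groth.Agent.S15046
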