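import Groth.Statements.S15047
import Groth.Agent.S1156
import Mathlib.RingTheory.Flat.FaithfullyFlat.Algebra

set_option autoImplicit false
universe u
open TensorProduct
open Desc

namespace Groth.Agent.S15047

/-- Let A → A' be a faithfully flat homomorphism of commutative rings and M, N any A-modules. An
A'-linear map f : A' ⊗_A M → A' ⊗_A N whose two base changes to A' ⊗_A A' (along a ↦ a ⊗ 1 and a ↦ 1
⊗ a) coincide is the base change of a unique A-linear map h : M → N. Since (A' ⊗_A A') ⊗_A M is
generated over A' ⊗_A A' by the elements 1 ⊗ m, the agreement of the two base changes is stated on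
these generators: for every m, the two images of f (1 ⊗ m) in (A' ⊗_A A') ⊗_A N agree. Equivalently,
the sequence Hom_A(M, N) → Hom_{A'}(A' ⊗ M, A' ⊗ N) ⇉ Hom_{A' ⊗ A'}(A' ⊗ A' ⊗ M, A' ⊗ A' ⊗ N) is an
equalizer diagram. -/
theorem result (A A' : Type u) [CommRing A] [CommRing A'] [Algebra A A']
    [Module.FaithfullyFlat A A'] (M N : Type u) [AddCommGroup M] [Module A M] [AddCommGroup N] [Module A N]
    (f : A' ⊗[A] M →ₗ[A'] A' ⊗[A] N)
    (hf : ∀ m : M,
      LinearMap.rTensor N (Algebra.TensorProduct.includeLeft : A' →ₐ[A] A' ⊗[A] A').toLinearMap (f (1 ⊗ₜ[A] m)) =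
        LinearMap.rTensor N (Algebra.TensorProduct.includeRight : A' →ₐ[A] A' ⊗[A] A').toLinearMap (f (1 ⊗ₜ[A] m))) :
    ∃! h : M →ₗ[A] N, h.baseChange A' = f := by
  have hx : ∀ m : M, f (1 ⊗ₜ[A] m) ∈ LinearMap.range (TensorProduct.mk A A' N 1) := by
    intro m
    apply Groth.Agent.S1156.result A A' N
    have key1 : ∀ w : A' ⊗[A] N, TensorProduct.mk A A' (A' ⊗[A] N) 1 w =
        TensorProduct.assoc A A' A' N (LinearMap.rTensor N
          (Algebra.TensorProduct.includeRight : A' →ₐ[A] A' ⊗[A] A').toLinearMap w) := by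
      intro w
      induction w with
      | zero => simp
      | add a b ha hb => simp only [map_add, ha, hb]
      | tmul a n => simp
    have key2 : ∀ w : A' ⊗[A] N, LinearMap.lTensor A' (TensorProduct.mk A A' N 1) w =
        TensorProduct.assoc A A' A' N (LinearMap.rTensor N
          (Algebra.TensorProduct.includeLeft : A' →ₐ[A] A' ⊗[A] A').toLinearMap w) := by
      intro w
      induction w with
      | zero => simp
      | add a b ha hb => simp only [map_add, ha, hb]
      | tmul a n => simp
    rw [key1, key2, hf m]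
  let e := LinearEquiv.ofInjective (TensorProduct.mk A A' N 1)
    (Module.FaithfullyFlat.tensorProduct_mk_injective (A := A) (B := A') N)
  let h : M →ₗ[A] N := e.symm.toLinearMap ∘ₗ
    LinearMap.codRestrict _ ((f.restrictScalars A) ∘ₗ TensorProduct.mk A A' M 1) hx
  have hh : ∀ m, 1 ⊗ₜ[A] h m = f (1 ⊗ₜ[A] m) := fun m =>
    congrArg Subtype.val (e.apply_symm_apply ⟨f (1 ⊗ₜ[A] m), hx m⟩)
  refine ⟨h, ?_, fun h' h'' => ?_⟩
  · apply TensorProduct.AlgebraTensorModule.ext
    intro a m
    have := (f.map_smul a (1 ⊗ₜ[A] m)).symm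
    rw [TensorProduct.smul_tmul', smul_eq_mul, mul_one] at this
    rw [LinearMap.baseChange_tmul, ← this, ← hh, TensorProduct.smul_tmul', smul_eq_mul, mul_one]
  · ext m
    apply Module.FaithfullyFlat.tensorProduct_mk_injective (A := A) (B := A') N
    show 1 ⊗ₜ[A] h' m = 1 ⊗ₜ[A] h m
    rw [hh, ← h'', LinearMap.baseChange_tmul]

end Groth.Agent.S15047
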