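import Groth.Statements.S15049
import Mathlib
import Groth.Agent.H23LT.Series

set_option autoImplicit false
universe u
open LubinTate

namespace Groth.Agent.S15049

/-- Let O be a discrete valuation ring with finite residue field of cardinality q, π a uniformizer of O,
and f = πT + T^q ∈ O[[T]]. Then there is a one-dimensional commutative formal group law F(X,Y) over
O for which f is an endomorphism, f(F(X,Y)) = F(f(X), f(Y)); and F is the unique power series in
O[[X,Y]] with zero constant term and linear part X + Y satisfying this identity. (The published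
statement is for the ring of integers of a finite extension of ℚ_p or of 𝔽_q((X)); completeness is
not used and any discrete valuation ring with finite residue field is allowed here.) -/
theorem result (O : Type u) [CommRing O] [IsDomain O] [IsDiscreteValuationRing O]
    [Finite (IsLocalRing.ResidueField O)] (π : O) (hπ : Irreducible π) (f : PowerSeries O)
    (hf : f = π • PowerSeries.X + PowerSeries.X ^ Nat.card (IsLocalRing.ResidueField O)) :
    ∃ F : FormalGroup O, F.IsComm ∧
      PowerSeries.subst F.toPowerSeries f =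
        MvPowerSeries.subst (fun i : Fin 2 => PowerSeries.subst (MvPowerSeries.X i : MvPowerSeries (Fin 2) O) f) F.toPowerSeries ∧
      ∀ G : MvPowerSeries (Fin 2) O, G.constantCoeff = 0 → G.coeff (Finsupp.single 0 1) = 1 →
        G.coeff (Finsupp.single 1 1) = 1 →
        PowerSeries.subst G f =
        MvPowerSeries.subst (fun i : Fin 2 => PowerSeries.subst (MvPowerSeries.X i : MvPowerSeries (Fin 2) O) f) G →
        G = F.toPowerSeries := by
  classical
  subst hf
  have hq := Groth.Agent.H23LT.card_ne_zero (O := O)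
  obtain ⟨F, hF0, hF1, hF⟩ :=
    Groth.Agent.H23LT.exists_eqn_dvr (σ := Fin 2) hπ (fun _ => (1 : O))
  set q := Nat.card (IsLocalRing.ResidueField O)
  have hX0 : ∀ (n : ℕ) (i : Fin n), (MvPowerSeries.X i : MvPowerSeries (Fin n) O).constantCoeff = 0 :=
    fun n i => MvPowerSeries.constantCoeff_X i
  have hXe : ∀ (n : ℕ) (i : Fin n),
      Groth.Agent.H23LT.eqn π 1 q (MvPowerSeries.X i : MvPowerSeries (Fin n) O) = 0 :=
    fun n i => Groth.Agent.H23LT.eqn_X π hq i
  have sub : ∀ (n : ℕ) (G : Fin 2 → MvPowerSeries (Fin n) O),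
      (∀ i, (G i).constantCoeff = 0 ∧ Groth.Agent.H23LT.eqn π 1 q (G i) = 0) →
      (MvPowerSeries.subst G F).constantCoeff = 0 ∧
      Groth.Agent.H23LT.eqn π 1 q (MvPowerSeries.subst G F) = 0 ∧
      ∀ j, (MvPowerSeries.subst G F).coeff (Finsupp.single j 1) =
        (G 0).coeff (Finsupp.single j 1) + (G 1).coeff (Finsupp.single j 1) := fun n G hG =>
    ⟨MvPowerSeries.constantCoeff_subst_eq_zero
      (MvPowerSeries.hasSubst_of_constantCoeff_zero fun i => (hG i).1) (fun i => (hG i).1) hF0,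
      Groth.Agent.H23LT.eqn_subst π 1 hq hF (fun i => (hG i).1) (fun i => (hG i).2), fun j => by
      rw [Groth.Agent.H23LT.coeff_single_subst _ _ (fun i => (hG i).1) j, Fin.sum_univ_two, hF1,
        hF1, one_mul, one_mul]⟩
  have pair : ∀ (n : ℕ) (a b : MvPowerSeries (Fin n) O),
      (a.constantCoeff = 0 ∧ Groth.Agent.H23LT.eqn π 1 q a = 0) →
      (b.constantCoeff = 0 ∧ Groth.Agent.H23LT.eqn π 1 q b = 0) →
      ∀ i, (![a, b] i).constantCoeff = 0 ∧ Groth.Agent.H23LT.eqn π 1 q (![a, b] i) = 0 := by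
    intro n a b ha hb i
    fin_cases i
    exacts [ha, hb]
  have hX := fun (n : ℕ) (i : Fin n) => And.intro (hX0 n i) (hXe n i)
  obtain ⟨a0, a1, a2⟩ := sub 3 _ (pair 3 _ _ (hX 3 0) (hX 3 1))
  obtain ⟨b0, b1, b2⟩ := sub 3 _ (pair 3 _ _ (hX 3 1) (hX 3 2))
  obtain ⟨c0, c1, c2⟩ := sub 3 _ (pair 3 _ _ ⟨a0, a1⟩ (hX 3 2))
  obtain ⟨d0, d1, d2⟩ := sub 3 _ (pair 3 _ _ (hX 3 0) ⟨b0, b1⟩)
  obtain ⟨e0, e1, e2⟩ := sub 2 _ (pair 2 _ _ (hX 2 1) (hX 2 0))
  have hassoc := Groth.Agent.H23LT.ext_dvr hπ c0 d0 c1 d1 fun j => by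
    simp only [c2, d2, Matrix.cons_val_zero, Matrix.cons_val_one, Matrix.cons_val_fin_one, a2, b2]
    exact add_assoc _ _ _
  refine ⟨⟨F, hF0, hF1 0, hF1 1, hassoc⟩, ⟨?_⟩, ?_, ?_⟩
  · refine Groth.Agent.H23LT.ext_dvr hπ hF0 e0 hF e1 fun j => ?_
    simp only [e2, hF1, Matrix.cons_val_zero, Matrix.cons_val_one, Matrix.cons_val_fin_one]
    fin_cases j <;> simp [MvPowerSeries.coeff_X, Finsupp.single_left_inj]
  · exact (Groth.Agent.H23LT.eqn_iff π hF0).mpr hF
  · intro G hG0 hG1 hG2 hG
    refine Groth.Agent.H23LT.ext_dvr hπ hG0 hF0 ((Groth.Agent.H23LT.eqn_iff π hG0).mp hG) hF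
      fun j => ?_
    fin_cases j
    exacts [hG1.trans (hF1 0).symm, hG2.trans (hF1 1).symm]

end Groth.Agent.S15049
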