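import Groth.Statements.S15051
import Mathlib
import Groth.Agent.H23LT.Series

set_option autoImplicit false
universe u
open LubinTate

namespace Groth.Agent.S15051

/-- Let O be a discrete valuation ring with finite residue field of cardinality q, π a uniformizer of O,
and f = πT + T^q ∈ O[[T]]; let F be a one-dimensional formal group law over O for which f is an
endomorphism, f(F(X,Y)) = F(f(X), f(Y)), and g ∈ O[[T]] a power series with zero constant term which
commutes with f, g(f(T)) = f(g(T)). Then g is an endomorphism of F, that is g(F(X,Y)) = F(g(X),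
g(Y)); so α ↦ [α] maps O into the endomorphisms of the Lubin–Tate formal group. (The published
statement is for the ring of integers of a finite extension of ℚ_p or of 𝔽_q((X)); completeness is
not used and any discrete valuation ring with finite residue field is allowed here.) -/
theorem result (O : Type u) [CommRing O] [IsDomain O] [IsDiscreteValuationRing O]
    [Finite (IsLocalRing.ResidueField O)] (π : O) (hπ : Irreducible π) (f : PowerSeries O)
    (hf : f = π • PowerSeries.X + PowerSeries.X ^ Nat.card (IsLocalRing.ResidueField O))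
    (F : FormalGroup O)
    (hF : PowerSeries.subst F.toPowerSeries f =
        MvPowerSeries.subst (fun i : Fin 2 => PowerSeries.subst (MvPowerSeries.X i : MvPowerSeries (Fin 2) O) f) F.toPowerSeries)
    (g : PowerSeries O) (hg0 : g.constantCoeff = 0)
    (hgf : PowerSeries.subst g f = PowerSeries.subst f g) :
    PowerSeries.subst F.toPowerSeries g =
      MvPowerSeries.subst (fun i : Fin 2 => PowerSeries.subst (MvPowerSeries.X i : MvPowerSeries (Fin 2) O) g)
        F.toPowerSeries := by
  subst hf
  have hq := Groth.Agent.H23LT.card_ne_zero (O := O)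
  have hF' := (Groth.Agent.H23LT.eqn_iff π F.zero_constantCoeff).mp hF
  have hg := (Groth.Agent.H23LT.eqn_iff_series π hg0).mp hgf
  have hX0 : ∀ i : Fin 2, (MvPowerSeries.X i : MvPowerSeries (Fin 2) O).constantCoeff = 0 :=
    fun i => MvPowerSeries.constantCoeff_X i
  have hG0 : ∀ i : Fin 2, MvPowerSeries.constantCoeff
      (PowerSeries.subst (MvPowerSeries.X i : MvPowerSeries (Fin 2) O) g) = 0 := fun i =>
    Groth.Agent.H23LT.series_subst_constantCoeff hg0 (hX0 i)
  refine Groth.Agent.H23LT.ext_dvr hπ
    (Groth.Agent.H23LT.series_subst_constantCoeff hg0 F.zero_constantCoeff)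
    (MvPowerSeries.constantCoeff_subst_eq_zero (MvPowerSeries.hasSubst_of_constantCoeff_zero hG0)
      hG0 F.zero_constantCoeff)
    (Groth.Agent.H23LT.eqn_series_subst π 1 hq hg F.zero_constantCoeff hF')
    (Groth.Agent.H23LT.eqn_subst π 1 hq hF' hG0 fun i =>
      Groth.Agent.H23LT.eqn_series_subst π 1 hq hg (hX0 i) (Groth.Agent.H23LT.eqn_X π hq i))
    fun j => ?_
  rw [Groth.Agent.H23LT.coeff_single_series_subst g F.zero_constantCoeff,
    Groth.Agent.H23LT.coeff_single_subst _ _ hG0, Fin.sum_univ_two]
  simp only [Groth.Agent.H23LT.coeff_single_series_subst g (hX0 _), F.lin_coeff_X, F.lin_coeff_Y]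
  fin_cases j <;> simp [MvPowerSeries.coeff_X, F.lin_coeff_X, F.lin_coeff_Y, Finsupp.single_left_inj]

end Groth.Agent.S15051
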