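import Groth.Statements.S15052
import Mathlib
import Groth.Agent.H23LT.Series

set_option autoImplicit false
universe u
open LubinTate

namespace Groth.Agent.S15052

/-- Let O be a discrete valuation ring with finite residue field of cardinality q, π a uniformizer of O,
and f = πT + T^q ∈ O[[T]]; let K be the fraction field of O and F a one-dimensional formal group law
over O for which f is an endomorphism, f(F(X,Y)) = F(f(X), f(Y)). Then there is a unique power
series ℓ ∈ K[[T]] with zero constant term and linear coefficient 1 such that ℓ(f(T)) = π·ℓ(T); this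
logarithm is a homomorphism to the additive formal group, ℓ(F(T,S)) = ℓ(T) + ℓ(S), and it is
O-linear in the sense that ℓ(g(T)) = α·ℓ(T) for every α ∈ O and every series g ∈ O[[T]] with zero
constant term and linear coefficient α commuting with f. (The published statement is for the ring of
integers of a finite extension of ℚ_p; completeness is not used and any discrete valuation ring with
finite residue field is allowed here.) -/
theorem result (O : Type u) [CommRing O] [IsDomain O] [IsDiscreteValuationRing O]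
    [Finite (IsLocalRing.ResidueField O)] (K : Type u) [Field K] [Algebra O K] [IsFractionRing O K]
    (π : O) (hπ : Irreducible π) (f : PowerSeries O)
    (hf : f = π • PowerSeries.X + PowerSeries.X ^ Nat.card (IsLocalRing.ResidueField O))
    (F : FormalGroup O)
    (hF : PowerSeries.subst F.toPowerSeries f =
        MvPowerSeries.subst (fun i : Fin 2 => PowerSeries.subst (MvPowerSeries.X i : MvPowerSeries (Fin 2) O) f) F.toPowerSeries) :
    ∃ ℓ : PowerSeries K, (ℓ.constantCoeff = 0 ∧ ℓ.coeff 1 = 1 ∧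
      PowerSeries.subst (PowerSeries.map (algebraMap O K) f) ℓ = algebraMap O K π • ℓ) ∧
      (∀ ℓ' : PowerSeries K, ℓ'.constantCoeff = 0 → ℓ'.coeff 1 = 1 →
        PowerSeries.subst (PowerSeries.map (algebraMap O K) f) ℓ' = algebraMap O K π • ℓ' → ℓ' = ℓ) ∧
      PowerSeries.subst ((F.toPowerSeries).map (algebraMap O K)) ℓ =
        PowerSeries.subst (MvPowerSeries.X (0 : Fin 2) : MvPowerSeries (Fin 2) K) ℓ +
          PowerSeries.subst (MvPowerSeries.X (1 : Fin 2) : MvPowerSeries (Fin 2) K) ℓ ∧
      (∀ (α : O) (g : PowerSeries O), g.constantCoeff = 0 → g.coeff 1 = α →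
        PowerSeries.subst g f = PowerSeries.subst f g →
        PowerSeries.subst (PowerSeries.map (algebraMap O K) g) ℓ = algebraMap O K α • ℓ) := by
  classical
  subst hf
  have hq2 := Groth.Agent.H23LT.two_le_card_residue (O := O)
  have hq := Groth.Agent.H23LT.card_ne_zero (O := O)
  set q := Nat.card (IsLocalRing.ResidueField O)
  set φ := algebraMap O K
  have hne : ∀ m, 1 < m → φ π - φ π ^ m ≠ 0 := by
    intro m hm h
    rw [← map_pow, ← map_sub, map_eq_zero_iff φ (IsFractionRing.injective O K)] at h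
    obtain ⟨u, hu⟩ := Groth.Agent.H23LT.sub_pow_eq hπ hm
    exact mul_ne_zero hπ.ne_zero u.ne_zero (hu ▸ h)
  have hreg : ∀ m, 1 < m → ∀ x : K, (φ π - φ π ^ m) * x = 0 → x = 0 :=
    fun m hm x h => (mul_eq_zero.mp h).resolve_left (hne m hm)
  obtain ⟨l, hl0, hl1, hl⟩ := Groth.Agent.H23LT.exists_eqn (σ := Unit) (φ π) 0 hq2
    (fun ψ _ e he => (IsUnit.mk0 _ (hne _ he)).dvd) (fun _ => (1 : K))
  let ℓ : PowerSeries K := l
  have hfK : PowerSeries.map φ (π • PowerSeries.X + PowerSeries.X ^ q) =
      φ π • PowerSeries.X + PowerSeries.X ^ q := by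
    simp [PowerSeries.smul_eq_C_mul]
  have heq : ∀ m : PowerSeries K,
      PowerSeries.subst (PowerSeries.map φ (π • PowerSeries.X + PowerSeries.X ^ q)) m = φ π • m ↔
      Groth.Agent.H23LT.eqn (φ π) 0 q (m : MvPowerSeries Unit K) = 0 := by
    intro m
    rw [Groth.Agent.H23LT.eqn, zero_smul, add_zero, sub_eq_zero, hfK, eq_comm]
    rfl
  have hF' : Groth.Agent.H23LT.eqn (φ π) 1 q (F.toPowerSeries.map φ) = 0 := by
    have h := congrArg (MvPowerSeries.map φ)
      ((Groth.Agent.H23LT.eqn_iff π F.zero_constantCoeff).mp hF)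
    rwa [Groth.Agent.H23LT.eqn_map φ π 1 hq, map_one, map_zero] at h
  have hF0 : (F.toPowerSeries.map φ).constantCoeff = 0 := by
    rw [MvPowerSeries.constantCoeff_map, F.zero_constantCoeff, map_zero]
  have hX0 : ∀ i : Fin 2, (MvPowerSeries.X i : MvPowerSeries (Fin 2) K).constantCoeff = 0 :=
    fun i => MvPowerSeries.constantCoeff_X i
  have hXl : ∀ i : Fin 2, Groth.Agent.H23LT.eqn (φ π) 0 q
      (PowerSeries.subst (MvPowerSeries.X i : MvPowerSeries (Fin 2) K) ℓ) = 0 := fun i =>
    Groth.Agent.H23LT.eqn_series_subst _ 0 hq hl (hX0 i) (Groth.Agent.H23LT.eqn_X _ hq i)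
  refine ⟨ℓ, ⟨hl0, hl1 (), (heq ℓ).mpr hl⟩, fun ℓ' h0 h1 h2 =>
    Groth.Agent.H23LT.eqn_ext _ 0 hq2 hreg h0 hl0 ((heq ℓ').mp h2) hl
      (fun i => h1.trans (hl1 i).symm), ?_, ?_⟩
  · refine Groth.Agent.H23LT.eqn_ext _ 0 hq2 hreg
      (Groth.Agent.H23LT.series_subst_constantCoeff hl0 hF0)
      (by rw [map_add, Groth.Agent.H23LT.series_subst_constantCoeff hl0 (hX0 0),
        Groth.Agent.H23LT.series_subst_constantCoeff hl0 (hX0 1), add_zero])
      (Groth.Agent.H23LT.eqn_series_subst _ 0 hq hl hF0 hF')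
      (by rw [Groth.Agent.H23LT.eqn_add_zero _ hq, hXl 0, hXl 1, add_zero]) fun j => ?_
    rw [map_add, Groth.Agent.H23LT.coeff_single_series_subst ℓ hF0,
      Groth.Agent.H23LT.coeff_single_series_subst ℓ (hX0 0),
      Groth.Agent.H23LT.coeff_single_series_subst ℓ (hX0 1),
      show ℓ.coeff 1 = 1 from hl1 (), MvPowerSeries.coeff_map]
    fin_cases j <;>
      simp [MvPowerSeries.coeff_X, Finsupp.single_left_inj, F.lin_coeff_X, F.lin_coeff_Y]
  · intro α g hg0 hg1 hgf
    have hg := congrArg (MvPowerSeries.map φ)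
      ((Groth.Agent.H23LT.eqn_iff_series π hg0).mp hgf)
    rw [Groth.Agent.H23LT.eqn_map φ π 1 hq, map_one, map_zero] at hg
    have hgK : MvPowerSeries.constantCoeff (PowerSeries.map φ g : MvPowerSeries Unit K) = 0 := by
      change PowerSeries.constantCoeff (PowerSeries.map φ g) = 0
      rw [← PowerSeries.coeff_zero_eq_constantCoeff_apply, PowerSeries.coeff_map,
        PowerSeries.coeff_zero_eq_constantCoeff_apply, hg0, map_zero]
    refine Groth.Agent.H23LT.eqn_ext (φ π) 0 hq2 hreg
      (Groth.Agent.H23LT.series_subst_constantCoeff hl0 hgK) ?_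
      (Groth.Agent.H23LT.eqn_series_subst _ 0 hq hl hgK hg) ?_ fun j => ?_
    · change MvPowerSeries.constantCoeff (φ α • l) = 0
      rw [MvPowerSeries.constantCoeff_smul, hl0, smul_zero]
    · change Groth.Agent.H23LT.eqn (φ π) 0 q (φ α • l) = 0
      rw [Groth.Agent.H23LT.eqn_smul_zero _ _ hq, hl, smul_zero]
    · rw [Groth.Agent.H23LT.coeff_single_series_subst ℓ hgK, Groth.Agent.H23LT.coeff_one_unit,
        Groth.Agent.H23LT.coeff_one_unit, PowerSeries.coeff_map, hg1, PowerSeries.coeff_smul,
        smul_eq_mul, show ℓ.coeff 1 = 1 from hl1 (), one_mul, mul_one]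

end Groth.Agent.S15052
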