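import Groth.Statements.S15054
import Groth.Agent.H19Grp.Kernel

set_option autoImplicit false
universe u
open CategoryTheory CategoryTheory.Limits MonoidalCategory CartesianMonoidalCategory MonObj GrpObj AlgebraicGeometry
open BTGrp

namespace Groth.Agent.S15054

/-- Let ℓ be a prime and G = (G_ν)_ν an ℓ-divisible (Barsotti–Tate) group of height h over a scheme S,
given as the system of its finite locally free layers G_ν of order ℓ^{νh} with inclusions G_ν →
G_{ν+1} exhibiting G_ν as the ℓ^ν-torsion of G_{ν+1} and projections G_{ν+1} → G_ν (multiplication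
by ℓ). Let i_t : G_1 → G_{t+1} denote the iterated inclusions, pinned by i_0 = id and i_{t+1} = i_t
followed by G_{t+1} → G_{t+2}. Then for every t, i_t identifies G_1 with the kernel of
multiplication by ℓ on G_{t+1}: the ℓ-torsion of every layer is the first layer. (The published
statement identifies G_v with the ℓ^v-torsion of G_{v+t} for all v; this row is its case v = 1. The
published base is the spectrum of a Noetherian ring; the argument is formal and any base scheme is
allowed here.) -/
theorem result {S : Scheme.{u}} (ℓ h : ℕ) [Fact ℓ.Prime] (G : BTGrp.ProBT ℓ S h)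
    (i : (t : ℕ) → (G.G 1 ⟶ G.G (t + 1))) (hi0 : i 0 = 𝟙 (G.G 1))
    (hi : ∀ t : ℕ, i (t + 1) = i t ≫ G.incl (t + 1)) (t : ℕ) :
    AlgGrp.IsKernel (i t) ((𝟙 (G.G (t + 1))) ^ ℓ) := by
  have hmi : ∀ ν, Mono (G.incl ν) := fun ν => Groth.Agent.H19Grp.kernel_mono (G.isKernel ν)
  have hG1 : (𝟙 (G.G 1)) ^ ℓ = (1 : G.G 1 ⟶ G.G 1) := by
    have h0 : G.incl 0 = 1 := by
      have := Groth.Agent.H19Grp.kernel_comp_eq_one (G.isKernel 0)
      simpa using this
    rw [← G.proj_incl 0, h0, MonObj.comp_one]
  induction t with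
  | zero =>
    rw [hi0]
    refine Groth.Agent.H19Grp.isKernel_of ?_ (fun T a b h => by simpa using h)
      (fun T x _ => ⟨x, by simp⟩)
    rw [Category.id_comp, hG1]
  | succ t ih =>
    rw [hi t]
    have hm := Groth.Agent.H19Grp.kernel_mono ih
    have := hmi (t + 1)
    refine Groth.Agent.H19Grp.isKernel_of ?_ (fun T a b h => ?_) (fun T x hx => ?_)
    · rw [Category.assoc, MonObj.comp_pow, Category.comp_id,
        ← Category.id_comp (G.incl (t + 1)), ← MonObj.pow_comp, ← Category.assoc,
        Groth.Agent.H19Grp.kernel_comp_eq_one ih, MonObj.one_comp]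
    · rw [← cancel_mono (i t), ← cancel_mono (G.incl (t + 1))]
      simpa using h
    · have hx' : x ≫ (𝟙 (G.G (t + 1 + 1))) ^ (ℓ ^ (t + 1)) = 1 := by
        rw [MonObj.comp_pow, Category.comp_id, pow_succ' ℓ t, pow_mul]
        rw [MonObj.comp_pow, Category.comp_id] at hx
        rw [hx, one_pow]
      obtain ⟨y, rfl⟩ := Groth.Agent.H19Grp.kernel_lift (G.isKernel (t + 1)) x hx'
      have hy : y ≫ (𝟙 (G.G (t + 1))) ^ ℓ = 1 := by
        rw [← cancel_mono (G.incl (t + 1)), MonObj.one_comp, MonObj.comp_pow, Category.comp_id,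
          MonObj.pow_comp]
        simpa [MonObj.comp_pow] using hx
      obtain ⟨z, rfl⟩ := Groth.Agent.H19Grp.kernel_lift ih y hy
      exact ⟨z, by simp⟩

end Groth.Agent.S15054
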