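import Groth.Statements.S15056
import Mathlib

set_option autoImplicit false
universe u
open scoped TensorProduct
open FrobAlg

namespace Groth.Agent.S15056

/-- Let p be a prime number, R a Noetherian ring of characteristic p and A a finitely generated
commutative Hopf algebra over R (an affine algebraic R-group G = Spec A). The n-fold relative
Frobenius of G is the trivial homomorphism exactly when a^(p^n) = 0 for every a in the augmentation
ideal; G has finite Frobenius height when this holds for some n. Then G has finite Frobenius height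
if and only if A is a finite R-module and, for every algebraically closed field K and every ring
homomorphism R → K, the base change K ⊗_R A is a local ring (G is finite over R with connected
geometric fibres). -/
theorem result (p : ℕ) [Fact p.Prime] (R : Type u) [CommRing R] [CharP R p]
    [IsNoetherianRing R] (A : Type u) [CommRing A] [HopfAlgebra R A] [Algebra.FiniteType R A] :
    (∃ n : ℕ, ∀ a : A, Bialgebra.counitAlgHom R A a = 0 → a ^ p ^ n = 0) ↔
      (Module.Finite R A ∧ ∀ (K : Type u) [Field K] [IsAlgClosed K] [Algebra R K], IsLocalRing (K ⊗[R] A)) := by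
  have hp : p.Prime := Fact.out
  let ε : A →ₐ[R] R := Bialgebra.counitAlgHom R A
  constructor
  · rintro ⟨n, hn⟩
    have hn' : ∀ a : A, ε a = 0 → a ^ p ^ n = 0 := hn
    have hnil : ∀ a : A, IsNilpotent (a - algebraMap R A (ε a)) := fun a =>
      ⟨p ^ n, hn' _ (by rw [map_sub, AlgHom.commutes, Algebra.algebraMap_self, RingHom.id_apply, sub_self])⟩
    have hint : Algebra.IsIntegral R A := ⟨fun a => by
      have h1 : IsIntegral R (a - algebraMap R A (ε a)) := by
        obtain ⟨m, hm⟩ := hnil a
        exact ⟨Polynomial.X ^ m, Polynomial.monic_X_pow m, by simp [hm]⟩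
      simpa using h1.add (isIntegral_algebraMap (x := ε a))⟩
    refine ⟨Algebra.IsIntegral.finite, fun K _ _ _ => ?_⟩
    let e : K ⊗[R] A →ₐ[K] K := Algebra.TensorProduct.lift (AlgHom.id K K)
      ((Algebra.ofId R K).comp ε) (fun _ _ => Commute.all _ _)
    have key : ∀ x : K ⊗[R] A, IsNilpotent (x - algebraMap K (K ⊗[R] A) (e x)) := by
      intro x
      induction x using TensorProduct.induction_on with
      | zero => simp
      | tmul c a =>
        have h1 : c ⊗ₜ[R] a - algebraMap K (K ⊗[R] A) (e (c ⊗ₜ a)) =
            c ⊗ₜ[R] (a - algebraMap R A (ε a)) := by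
          rw [TensorProduct.tmul_sub, Algebra.TensorProduct.lift_tmul]
          congr 1
          rw [Algebra.TensorProduct.algebraMap_apply, Algebra.algebraMap_eq_smul_one (ε a),
            TensorProduct.tmul_smul, TensorProduct.smul_tmul']
          simp [Algebra.smul_def, mul_comm]
        rw [h1]
        obtain ⟨m, hm⟩ := hnil a
        exact ⟨m, by rw [Algebra.TensorProduct.tmul_pow, hm, TensorProduct.tmul_zero]⟩
      | add x y hx hy =>
        have h1 := (Commute.all _ _).isNilpotent_add hx hy
        rwa [sub_add_sub_comm, ← map_add, ← map_add] at h1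
    have : Nontrivial (K ⊗[R] A) := e.toRingHom.domain_nontrivial
    refine IsLocalRing.of_nonunits_add fun x y hx hy hxy => ?_
    have h2 : ∀ z, e z ≠ 0 → IsUnit z := fun z hz => by
      have h3 := IsNilpotent.isUnit_add_left_of_commute (key z)
        ((IsUnit.mk0 _ hz).map (algebraMap K (K ⊗[R] A))) (Commute.all _ _)
      rwa [add_sub_cancel] at h3
    have h4 : e x = 0 := by_contra fun h => hx (h2 x h)
    have h5 : e y = 0 := by_contra fun h => hy (h2 y h)
    have h6 := hxy.map e
    rw [map_add, h4, h5, add_zero] at h6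
    exact not_isUnit_zero h6
  · rintro ⟨hfin, hloc⟩
    have hI : RingHom.ker ε.toRingHom ≤ nilradical A := fun a ha => by
      rw [nilradical_eq_sInf, Ideal.mem_sInf]
      intro P (hP : P.IsPrime)
      let q := P.comap (algebraMap R A)
      let k := FractionRing (R ⧸ q)
      let K := AlgebraicClosure k
      have : P.LiesOver q := ⟨rfl⟩
      have : Algebra.IsIntegral (R ⧸ q) (A ⧸ P) := inferInstance
      have : FaithfulSMul (R ⧸ q) (A ⧸ P) := by
        rw [faithfulSMul_iff_algebraMap_injective]
        exact Ideal.quotientMap_injective' le_rfl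
      have : Module.IsTorsionFree (R ⧸ q) (A ⧸ P) := by
        refine Module.IsTorsionFree.of_smul_eq_zero fun r x h => ?_
        rw [Algebra.smul_def, mul_eq_zero, map_eq_zero_iff _ (FaithfulSMul.algebraMap_injective _ _)] at h
        exact h
      have : FaithfulSMul (R ⧸ q) K := by
        rw [faithfulSMul_iff_algebraMap_injective, IsScalarTower.algebraMap_eq (R ⧸ q) k K]
        exact (algebraMap k K).injective.comp (IsFractionRing.injective (R ⧸ q) k)
      have : Module.IsTorsionFree (R ⧸ q) K :=
        Module.IsTorsionFree.of_smul_eq_zero fun r x h => by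
          rwa [Algebra.smul_def, mul_eq_zero,
            map_eq_zero_iff _ (FaithfulSMul.algebraMap_injective (R ⧸ q) K)] at h
      let χ₀ : A ⧸ P →ₐ[R ⧸ q] K := IsAlgClosed.lift
      let χ : A →ₐ[R] K := (χ₀.restrictScalars R).comp (Ideal.Quotient.mkₐ R P)
      let χ' : A →ₐ[R] K := (Algebra.ofId R K).comp ε
      let φ₁ : K ⊗[R] A →ₐ[K] K :=
        Algebra.TensorProduct.lift (AlgHom.id K K) χ (fun _ _ => Commute.all _ _)
      let φ₂ : K ⊗[R] A →ₐ[K] K :=
        Algebra.TensorProduct.lift (AlgHom.id K K) χ' (fun _ _ => Commute.all _ _)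
      have := hloc K
      have hmax : ∀ φ : K ⊗[R] A →ₐ[K] K, RingHom.ker φ.toRingHom =
          IsLocalRing.maximalIdeal (K ⊗[R] A) := fun φ => IsLocalRing.eq_maximalIdeal
            (RingHom.ker_isMaximal_of_surjective φ.toRingHom fun c => ⟨algebraMap K _ c, φ.commutes c⟩)
      have h12 : φ₁ (1 ⊗ₜ a) = φ₂ (1 ⊗ₜ a) := by
        have h0 : 1 ⊗ₜ[R] a - algebraMap K (K ⊗[R] A) (φ₂ (1 ⊗ₜ a)) ∈ RingHom.ker φ₂.toRingHom := by
          rw [RingHom.mem_ker]
          change φ₂ (_ - _) = 0
          rw [map_sub, AlgHom.commutes]
          simp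
        rw [hmax, ← hmax φ₁, RingHom.mem_ker] at h0
        change φ₁ (_ - _) = 0 at h0
        rw [map_sub, AlgHom.commutes, sub_eq_zero] at h0
        simpa using h0
      have hεa : ε a = 0 := ha
      have h13 : χ a = 0 := by simpa [φ₁, φ₂, χ', hεa] using h12
      have hinj : Function.Injective χ₀ := by
        rw [injective_iff_map_eq_zero]
        intro x hx
        by_contra hne
        exact (Algebra.IsIntegral.isIntegral (R := R ⧸ q) x).isAlgebraic.exists_nonzero_dvd
          (mem_nonZeroDivisors_of_ne_zero hne) |>.elim fun r hr => by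
            obtain ⟨hr0, y, hy⟩ := hr
            have h14 := congrArg χ₀ hy
            rw [map_mul, hx, zero_mul, AlgHom.commutes, map_eq_zero_iff _
              (FaithfulSMul.algebraMap_injective (R ⧸ q) K)] at h14
            exact hr0 h14
      exact Ideal.Quotient.eq_zero_iff_mem.1 (hinj (h13.trans (map_zero χ₀).symm))
    have : IsNoetherianRing A := Algebra.FiniteType.isNoetherianRing R A
    obtain ⟨N, hN⟩ := IsNoetherianRing.isNilpotent_nilradical A
    refine ⟨N, fun a ha => ?_⟩
    have h1 : a ^ N ∈ nilradical A ^ N := Ideal.pow_mem_pow (hI ha) N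
    rw [hN] at h1
    exact pow_eq_zero_of_le (Nat.lt_pow_self hp.one_lt).le h1

end Groth.Agent.S15056
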