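import Groth.Statements.S15058
import Mathlib
import Groth.Agent.H23LT.Basic

set_option autoImplicit false
universe u
open FmlGrp

namespace Groth.Agent.S15058

/-- Let R be a commutative ring and F(X,Y) ∈ R[[X,Y]] a one-dimensional formal group law (zero constant
term, linear part X + Y, associative). Then there is a power series g(X) ∈ R[[X]] with zero constant
term which is a two-sided inverse for F, F(X, g(X)) = 0 = F(g(X), X), and it is unique: every power
series with zero constant term which is a right inverse or a left inverse equals g. (The published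
text proves this for formal group laws of any finite dimension with coefficients in a complete
Noetherian local ring; the argument is a formal degree-by-degree construction, and this row states
the one-dimensional case over an arbitrary commutative ring.) -/
theorem result (R : Type u) [CommRing R] (F : FormalGroup R) :
    ∃ g : PowerSeries R, g.constantCoeff = 0 ∧
      F.toPowerSeries.subst ![PowerSeries.X, g] = (0 : PowerSeries R) ∧
      F.toPowerSeries.subst ![g, PowerSeries.X] = (0 : PowerSeries R) ∧
      ∀ k : PowerSeries R, k.constantCoeff = 0 →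
        (F.toPowerSeries.subst ![PowerSeries.X, k] = (0 : PowerSeries R) ∨
          F.toPowerSeries.subst ![k, PowerSeries.X] = (0 : PowerSeries R)) → k = g := by
  classical
  let E : MvPowerSeries Unit R → MvPowerSeries Unit R := fun φ =>
    F.toPowerSeries.subst ![(PowerSeries.X : PowerSeries R), φ]
  have hs : ∀ φ : MvPowerSeries Unit R, φ.constantCoeff = 0 →
      ∀ i, MvPowerSeries.constantCoeff (![(PowerSeries.X : PowerSeries R), φ] i : MvPowerSeries Unit R) = 0 := by
    intro φ hφ i
    fin_cases i
    exacts [MvPowerSeries.constantCoeff_X (), hφ]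
  have hstep : Groth.Agent.H23LT.Step E (fun _ => (1 : R)) := by
    intro φ ψ hφ hψ m h e he
    simp only [E, MvPowerSeries.coeff_subst (MvPowerSeries.hasSubst_of_constantCoeff_zero (hs φ hφ)),
      MvPowerSeries.coeff_subst (MvPowerSeries.hasSubst_of_constantCoeff_zero (hs ψ hψ))]
    rw [← finsum_sub_distrib (MvPowerSeries.coeff_subst_finite
        (MvPowerSeries.hasSubst_of_constantCoeff_zero (hs φ hφ)) _ _)
      (MvPowerSeries.coeff_subst_finite
        (MvPowerSeries.hasSubst_of_constantCoeff_zero (hs ψ hψ)) _ _),
      finsum_eq_single _ (Finsupp.single (1 : Fin 2) 1)]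
    · simp [Finsupp.prod_single_index, F.lin_coeff_Y]
    · intro d hd
      have key : MvPowerSeries.coeff e
          ((d.prod fun i n => (![(PowerSeries.X : PowerSeries R), φ] i : MvPowerSeries Unit R) ^ n) -
            (d.prod fun i n => (![(PowerSeries.X : PowerSeries R), ψ] i : MvPowerSeries Unit R) ^ n)) = 0 := by
        rw [Finsupp.prod_fintype _ _ (fun i => pow_zero _),
          Finsupp.prod_fintype _ _ (fun i => pow_zero _), Fin.prod_univ_two, Fin.prod_univ_two]
        simp only [Matrix.cons_val_zero, Matrix.cons_val_one, Matrix.cons_val_fin_one]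
        rw [← mul_sub]
        rcases Nat.lt_trichotomy (d 1) 1 with h1 | h1 | h1
        · simp [Nat.lt_one_iff.mp h1]
        · have h0 : d 0 ≠ 0 := fun h0 => hd (by
            ext i
            fin_cases i <;> simp [h0, h1])
          rw [h1, pow_one, pow_one, mul_comm]
          exact Groth.Agent.H23LT.coeff_mul_eq_zero (fun d' hd' => by rw [map_sub, h d' hd', sub_self])
            (by rw [map_pow, show MvPowerSeries.constantCoeff (PowerSeries.X : PowerSeries R) = 0
              from MvPowerSeries.constantCoeff_X (), zero_pow h0]) e he.le
        · rw [← geom_sum₂_mul, ← mul_assoc, mul_comm]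
          exact Groth.Agent.H23LT.coeff_mul_eq_zero (fun d' hd' => by rw [map_sub, h d' hd', sub_self])
            (by rw [map_mul, Groth.Agent.H23LT.constantCoeff_geom₂ hφ hψ h1, mul_zero]) e he.le
      rw [map_sub] at key
      rw [← smul_sub, key, smul_zero]
  obtain ⟨g, hg0, -, hg⟩ := hstep.exists_solution 0 (fun φ hφ e he => one_dvd _) 0 (map_zero _)
    (fun d hd => by
      rw [(Finsupp.degree_eq_zero_iff d).mp (Nat.le_zero.mp hd),
        MvPowerSeries.coeff_zero_eq_constantCoeff_apply]
      exact MvPowerSeries.constantCoeff_subst_eq_zero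
        (MvPowerSeries.hasSubst_of_constantCoeff_zero (hs 0 (map_zero _))) (hs 0 (map_zero _))
        F.zero_constantCoeff)
  have hX : PowerSeries.HasSubst (PowerSeries.X : PowerSeries R) := PowerSeries.HasSubst.X'
  have hgS : PowerSeries.HasSubst g := PowerSeries.HasSubst.of_constantCoeff_zero hg0
  have hleft : ∀ a b : MvPowerSeries Unit R, PowerSeries.HasSubst a → PowerSeries.HasSubst b →
      F.toPowerSeries.subst ![(PowerSeries.X : PowerSeries R), b] = (0 : MvPowerSeries Unit R) →
      F.toPowerSeries.subst ![a, (PowerSeries.X : PowerSeries R)] = (0 : MvPowerSeries Unit R) →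
      a = b := by
    intro a b ha hb h1 h2
    have h := F.assoc' ha hX hb
    rw [h1, h2, F.zero_add hb, F.add_zero ha] at h
    exact h.symm
  have huniq : ∀ k : MvPowerSeries Unit R, k.constantCoeff = 0 → E k = 0 → k = g :=
    fun k hk hk' => hstep.unique 0 (fun m _ x hx => by simpa using hx) hk hg0 (hk'.trans hg.symm)
      fun d hd => by
        rw [(Finsupp.degree_eq_zero_iff d).mp (Nat.le_zero.mp hd),
          MvPowerSeries.coeff_zero_eq_constantCoeff_apply,
          MvPowerSeries.coeff_zero_eq_constantCoeff_apply, hk, hg0]
  -- a right inverse of `g`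
  have hgg : F.toPowerSeries.subst ![g, (PowerSeries.X : PowerSeries R)] = (0 : MvPowerSeries Unit R) := by
    have hgc : (fun _ : Unit => g) = fun _ => g := rfl
    -- substitute `g` for `X` in `F(X, g) = 0`
    let g' : MvPowerSeries Unit R := PowerSeries.subst g (g : PowerSeries R)
    have hg' : PowerSeries.HasSubst g' :=
      PowerSeries.HasSubst.of_constantCoeff_zero (PowerSeries.constantCoeff_subst_eq_zero hg0 _ hg0)
    have h1 : F.toPowerSeries.subst ![g, g'] = (0 : MvPowerSeries Unit R) := by
      have := congrArg (PowerSeries.subst g) (show (E g : PowerSeries R) = 0 from hg)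
      rw [← PowerSeries.coe_substAlgHom hgS, map_zero, PowerSeries.coe_substAlgHom hgS] at this
      rw [← this]
      show _ = MvPowerSeries.subst (fun _ : Unit => g)
        (MvPowerSeries.subst ![(PowerSeries.X : PowerSeries R), g] F.toPowerSeries)
      rw [MvPowerSeries.subst_comp_subst_apply
        (MvPowerSeries.hasSubst_of_constantCoeff_zero (hs g hg0)) hgS.const]
      congr 1
      funext i
      fin_cases i
      · exact (MvPowerSeries.subst_X hgS.const ()).symm
      · rfl
    have h2 := F.assoc' hX hgS hg'
    rw [h1, show F.toPowerSeries.subst ![(PowerSeries.X : PowerSeries R), g] = (0 : MvPowerSeries Unit R) from hg,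
      F.zero_add hg', F.add_zero hX] at h2
    rwa [h2] at h1
  refine ⟨g, hg0, hg, hgg, fun k hk hk' => ?_⟩
  rcases hk' with h | h
  · exact huniq k hk h
  · exact hleft k g (PowerSeries.HasSubst.of_constantCoeff_zero hk) hgS hg h

end Groth.Agent.S15058
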