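import Groth.Statements.S15061
import Groth.Agent.H20Quot.EtaleQuot
import Groth.Agent.H20Quot.Kernel
import Groth.Agent.H20Hopf.ConnComp
import Mathlib.RingTheory.Smooth.Fiber

set_option autoImplicit false
universe u
open scoped TensorProduct
open Hopf

namespace Groth.Agent.S15061

noncomputable section

open Coalgebra

/-- The quotient by a local subgroup cut out by an idempotent. -/
theorem main {R : Type*} [CommRing R] {A : Type*} {C : Type*} [CommRing A] [HopfAlgebra R A]
    [CommRing C] [HopfAlgebra R C] [Module.Finite R A] [Module.Projective R A]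
    [Module.Finite R C] [Module.Projective R C] [IsNoetherianRing R] [IsLocalRing C]
    (π : A →ₐc[R] C) (hπ : Function.Surjective π) (hS : ∀ a, π (HopfAlgebra.antipode R a) = HopfAlgebra.antipode R (π a))
    (η : A) (hη : IsIdempotentElem η) (hη0 : π η = 0)
    (hker : RingHom.ker (π : A →ₐ[R] C) ≤ Ideal.span {η})
    (B : Subalgebra R A) (hB : B = H20Quot.inv (H20Quot.rightCoaction (π : A →ₐ[R] C))) :
    ((∀ b ∈ B, comul (R := R) b ∈ LinearMap.range (TensorProduct.map B.val.toLinearMap B.val.toLinearMap)) ∧
      ∀ b ∈ B, HopfAlgebra.antipode R b ∈ B) ∧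
    Algebra.Etale R B ∧ Module.FaithfullyFlat B A ∧
    Ideal.span {a : A | a ∈ B ∧ counit (R := R) a = 0} = Ideal.span {η} := by
  subst hB
  have hρ := H20Quot.isGalois_rightCoaction π hπ
  have := hρ.finite_inv
  have := hρ.projective_inv
  have := H20Quot.formallyUnramified_inv π hπ η hη hη0 hker
  have : Algebra.FinitePresentation R (H20Quot.inv (H20Quot.rightCoaction (π : A →ₐ[R] C))) :=
    Algebra.FinitePresentation.of_finiteType.1 inferInstance
  refine ⟨⟨fun b hb => H20Quot.comul_mem_range_inv π hπ hb,
    fun b hb => H20Quot.antipode_mem_inv π hπ hS hb⟩,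
    Algebra.Etale.of_formallyUnramified_of_flat, hρ.faithfullyFlat,
    le_antisymm (Ideal.span_le.2 ?_) ((Ideal.span_le.2 (Set.singleton_subset_iff.2 hη0)).trans
      (H20Quot.ker_le_span_inv π hπ))⟩
  rintro a ⟨ha, ha0⟩
  refine hker ?_
  rw [RingHom.mem_ker]
  have h := congrArg (TensorProduct.lid R C)
    (congrArg ((counit (R := R) (A := A)).rTensor C) ((AlgHom.mem_equalizer _ _ _).1 ha))
  have h2 : (TensorProduct.lid R C) ((counit (R := R) (A := A)).rTensor C
      (H20Quot.rightCoaction (π : A →ₐ[R] C) a)) = (π : A →ₐ[R] C) a := by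
    simp only [H20Quot.rightCoaction_repr _ (ℛ R a), map_sum, LinearMap.rTensor_tmul,
      TensorProduct.lid_tmul]
    calc _ = (π : A →ₐ[R] C) (∑ i ∈ (ℛ R a).index, counit (R := R) ((ℛ R a).left i) •
          (ℛ R a).right i) := by simp [map_sum, map_smul]
      _ = (π : A →ₐ[R] C) a := by rw [Coalgebra.sum_counit_smul]
  rw [h2] at h
  simp [ha0] at h
  exact h

end


/-- Let R be a henselian Noetherian local ring and A a commutative Hopf algebra over R which is finite
and flat as an R-module (a finite flat R-group G = Spec A, not assumed commutative); let e ∈ A be an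
idempotent with ε(e) = 1 such that A/(1 − e) is a local ring, so that G⁰ = Spec A/(1 − e) is the
connected component of the unit section, and let B ⊆ A be the subalgebra of functions invariant
under right translation by G⁰: the equaliser of a ↦ (id ⊗ π)(Δ a) and a ↦ a ⊗ 1 into A ⊗_R A/(1 −
e). Then B is a sub-Hopf-algebra of A (comultiplication and antipode preserve it), B is finite étale
over R, A is faithfully flat over B, and the ideal of A generated by the elements of B killed by the
counit is exactly (1 − e). In other words G^ét := Spec B is a finite étale R-group, G → G^ét is a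
faithfully flat homomorphism, and its kernel is G⁰: the sequence 1 → G⁰ → G → G^ét → 1 is exact. -/
theorem result (R : Type u) [CommRing R] [HenselianLocalRing R] [IsNoetherianRing R]
    (A : Type u) [CommRing A] [HopfAlgebra R A] [Module.Finite R A] [Module.Flat R A]
    (e : A) (he : IsIdempotentElem e) (hε : Bialgebra.counitAlgHom R A e = 1)
    [IsLocalRing (A ⧸ Ideal.span ({1 - e} : Set A))] :
    SGA3.IsHopfSubalgebra R A
        (AlgHom.equalizer
          ((Algebra.TensorProduct.map (AlgHom.id R A) (Ideal.Quotient.mkₐ R (Ideal.span ({1 - e} : Set A)))).comp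
            (Bialgebra.comulAlgHom R A))
          (Algebra.TensorProduct.includeLeft : A →ₐ[R] A ⊗[R] (A ⧸ Ideal.span ({1 - e} : Set A)))) ∧
      Algebra.Etale R ↥(AlgHom.equalizer
          ((Algebra.TensorProduct.map (AlgHom.id R A) (Ideal.Quotient.mkₐ R (Ideal.span ({1 - e} : Set A)))).comp
            (Bialgebra.comulAlgHom R A))
          (Algebra.TensorProduct.includeLeft : A →ₐ[R] A ⊗[R] (A ⧸ Ideal.span ({1 - e} : Set A)))) ∧
      Module.FaithfullyFlat ↥(AlgHom.equalizer
          ((Algebra.TensorProduct.map (AlgHom.id R A) (Ideal.Quotient.mkₐ R (Ideal.span ({1 - e} : Set A)))).comp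
            (Bialgebra.comulAlgHom R A))
          (Algebra.TensorProduct.includeLeft : A →ₐ[R] A ⊗[R] (A ⧸ Ideal.span ({1 - e} : Set A)))) A ∧
      SGA3.augIdealSpan R A
        (AlgHom.equalizer
          ((Algebra.TensorProduct.map (AlgHom.id R A) (Ideal.Quotient.mkₐ R (Ideal.span ({1 - e} : Set A)))).comp
            (Bialgebra.comulAlgHom R A))
          (Algebra.TensorProduct.includeLeft : A →ₐ[R] A ⊗[R] (A ⧸ Ideal.span ({1 - e} : Set A)))) =
        Ideal.span ({1 - e} : Set A) := by
  have := Groth.Agent.H20Hopf.ConnComp.isHopfIdeal (R := R) he hε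
  have := Groth.Agent.H20Hopf.ConnComp.flat (R := R) he
  have : Module.Free R A := Module.free_of_flat_of_isLocalRing
  have : Module.Free R (A ⧸ Ideal.span ({1 - e} : Set A)) := Module.free_of_flat_of_isLocalRing
  have hker : RingHom.ker ((Bialgebra.Quotient.mkBialgHom (R := R) (Ideal.span ({1 - e} : Set A)) :
      A →ₐc[R] A ⧸ Ideal.span ({1 - e} : Set A)) : A →ₐ[R] A ⧸ Ideal.span ({1 - e} : Set A)) ≤
      Ideal.span {1 - e} := fun x hx => Ideal.Quotient.eq_zero_iff_mem.1 hx
  exact main (Bialgebra.Quotient.mkBialgHom (R := R) (Ideal.span ({1 - e} : Set A)))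
    Ideal.Quotient.mk_surjective (fun a => rfl) (1 - e) he.one_sub
    (Ideal.Quotient.eq_zero_iff_mem.2 (Ideal.mem_span_singleton_self _)) hker _ rfl

end Groth.Agent.S15061
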