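import Groth.Statements.S15062
import Mathlib.RingTheory.Unramified.Basic
import Mathlib.RingTheory.Filtration
import Mathlib.RingTheory.Etale.Basic

set_option autoImplicit false
universe u
open scoped TensorProduct
open Hopf

open TensorProduct

namespace Groth.Agent.S15062

/-- Let R be a henselian Noetherian local ring and A a commutative Hopf algebra over R which is finite
and flat as an R-module (a finite flat R-group G = Spec A, not assumed commutative); let e ∈ A be an
idempotent with ε(e) = 1 such that A/(1 − e) is a local ring, so that G⁰ = Spec A/(1 − e) is the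
connected component of the unit section, and let B ⊆ A be the subalgebra of functions invariant
under right translation by G⁰: the equaliser of a ↦ (id ⊗ π)(Δ a) and a ↦ a ⊗ 1 into A ⊗_R A/(1 − e)
(so Spec B = G^ét). Then: (2) for every commutative Hopf algebra C over R which is finite étale over
R (a finite étale R-group H) and every bialgebra homomorphism φ : C → A (a homomorphism G → H), the
image of φ lies in B — the homomorphism factors (necessarily uniquely, A being faithfully flat over
B) through G → G^ét; (3) for every commutative Hopf algebra D over R which is finite and flat over R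
and a local ring (a connected finite flat R-group H) and every bialgebra homomorphism ψ : A → D (a
homomorphism H → G), ψ(e) = 1, i.e. ψ kills the ideal (1 − e) and the homomorphism factors
(uniquely) through G⁰ → G. -/
theorem result (R : Type u) [CommRing R] [HenselianLocalRing R] [IsNoetherianRing R]
    (A : Type u) [CommRing A] [HopfAlgebra R A] [Module.Finite R A] [Module.Flat R A]
    (e : A) (he : IsIdempotentElem e) (hε : Bialgebra.counitAlgHom R A e = 1)
    [IsLocalRing (A ⧸ Ideal.span ({1 - e} : Set A))] :
    (∀ (C : Type u) [CommRing C] [HopfAlgebra R C] [Module.Finite R C] [Algebra.Etale R C] (φ : C →ₐc[R] A) (c : C),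
        φ c ∈ (AlgHom.equalizer
          ((Algebra.TensorProduct.map (AlgHom.id R A) (Ideal.Quotient.mkₐ R (Ideal.span ({1 - e} : Set A)))).comp
            (Bialgebra.comulAlgHom R A))
          (Algebra.TensorProduct.includeLeft : A →ₐ[R] A ⊗[R] (A ⧸ Ideal.span ({1 - e} : Set A))))) ∧
      ∀ (D : Type u) [CommRing D] [HopfAlgebra R D] [Module.Finite R D] [Module.Flat R D] [IsLocalRing D]
        (ψ : A →ₐc[R] D), ψ e = 1 := by
  refine ⟨?_, ?_⟩
  · intro C _ _ _ _ φ c
    let I : Ideal A := Ideal.span {1 - e}
    let π : A →ₐ[R] A ⧸ I := Ideal.Quotient.mkₐ R I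
    let ε : A →ₐ[R] R := Bialgebra.counitAlgHom R A
    have hI : ∀ a ∈ I, ε a = 0 := fun a ha => by
      obtain ⟨r, rfl⟩ := Ideal.mem_span_singleton'.mp ha
      rw [map_mul, map_sub, map_one, hε, sub_self, mul_zero]
    let ε₀ : (A ⧸ I) →ₐ[R] R := Ideal.Quotient.liftₐ I ε hI
    haveI : IsNoetherianRing (A ⧸ I) := IsNoetherianRing.of_finite R (A ⧸ I)
    let f : C →ₐ[R] A ⧸ I := π.comp (φ : C →ₐ[R] A)
    let g : C →ₐ[R] A ⧸ I := (Algebra.ofId R (A ⧸ I)).comp (Bialgebra.counitAlgHom R C)
    have hker : RingHom.ker ε₀ ≤ IsLocalRing.maximalIdeal (A ⧸ I) := IsLocalRing.le_maximalIdeal (by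
      rw [Ne, Ideal.eq_top_iff_one, RingHom.mem_ker, map_one]
      exact one_ne_zero)
    have hfg : f = g := by
      refine Algebra.FormallyUnramified.ext_of_iInf (I := IsLocalRing.maximalIdeal (A ⧸ I))
        (Ideal.iInf_pow_eq_bot_of_isLocalRing _ (IsLocalRing.maximalIdeal.isMaximal _).ne_top) fun x => ?_
      rw [Ideal.Quotient.eq]
      refine hker ?_
      rw [RingHom.mem_ker, map_sub]
      show ε (φ x) - ε₀ (algebraMap R _ (Coalgebra.counit (R := R) x)) = 0
      rw [AlgHom.commutes]
      show Coalgebra.counit (R := R) (φ x) - _ = 0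
      rw [CoalgHomClass.counit_comp_apply, Algebra.algebraMap_self, RingHom.id_apply, sub_self]
    show Algebra.TensorProduct.map (AlgHom.id R A) π (Coalgebra.comul (R := R) (φ c)) = φ c ⊗ₜ[R] 1
    rw [← CoalgHomClass.map_comp_comul_apply φ c]
    have h1 : ∀ z : C ⊗[R] C, Algebra.TensorProduct.map (AlgHom.id R A) π (TensorProduct.map (φ : C →ₗ[R] A) (φ : C →ₗ[R] A) z) =
        (φ (TensorProduct.rid R C ((Coalgebra.counit (R := R) (A := C)).lTensor C z))) ⊗ₜ[R] 1 := by
      intro z
      induction z using TensorProduct.induction_on with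
      | zero => simp
      | tmul x y =>
        simp only [TensorProduct.map_tmul, Algebra.TensorProduct.map_tmul, AlgHom.id_apply, LinearMap.lTensor_tmul,
          TensorProduct.rid_tmul, map_smul]
        rw [show π ((φ : C →ₗ[R] A) y) = algebraMap R (A ⧸ I) (Coalgebra.counit (R := R) y) from DFunLike.congr_fun hfg y,
          Algebra.algebraMap_eq_smul_one, TensorProduct.tmul_smul, TensorProduct.smul_tmul']
        rfl
      | add x y hx hy => simp only [map_add, hx, hy, TensorProduct.add_tmul]
    exact (h1 _).trans (by rw [Coalgebra.lTensor_counit_comul, TensorProduct.rid_tmul, one_smul])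
  · intro D _ _ _ _ _ ψ
    have hne : ψ e ≠ 0 := fun h0 => by
      have h1 : Coalgebra.counit (R := R) (ψ e) = 1 := by rw [CoalgHomClass.counit_comp_apply]; exact hε
      rw [h0, map_zero] at h1
      exact zero_ne_one h1
    have hidem : IsIdempotentElem (ψ e) := he.map ψ
    rcases IsLocalRing.isUnit_or_isUnit_one_sub_self (ψ e) with h | h
    · exact h.mul_eq_left.mp hidem
    · exact absurd (h.mul_right_eq_zero.mp (by rw [sub_mul, one_mul, hidem.eq, sub_self])) hne

end Groth.Agent.S15062
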