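import Groth.Statements.S15063
import Mathlib.RingTheory.Ideal.GoingUp
import Mathlib.RingTheory.IntegralClosure.IsIntegralClosure.Basic
import Mathlib.RingTheory.LocalRing.RingHom.Basic

set_option autoImplicit false
universe u
open Hopf

open TensorProduct

namespace Groth.Agent.S15063

/-- Let R be a henselian Noetherian local ring and A a commutative Hopf algebra over R which is finite
and flat as an R-module (a finite flat R-group G = Spec A, not assumed commutative); let e ∈ A be an
idempotent with ε(e) = 1 such that A/(1 − e) is a local ring, so that Spec A/(1 − e) is the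
connected component G⁰ of G containing the unit section. Then G⁰ is normal in G: for every
commutative R-algebra T, every T-valued point g of G and every T-valued point h of G killing the
ideal (1 − e), the conjugate g·h·g⁻¹ again kills (1 − e). (The published statement is for a flat
affine algebraic R-group and also asserts that G⁰ is an open and closed flat subgroup; this row
states the normality clause for finite flat G.) -/
theorem result (R : Type u) [CommRing R] [HenselianLocalRing R] [IsNoetherianRing R]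
    (A : Type u) [CommRing A] [HopfAlgebra R A] [Module.Finite R A] [Module.Flat R A]
    (e : A) (he : IsIdempotentElem e) (hε : Bialgebra.counitAlgHom R A e = 1)
    [IsLocalRing (A ⧸ Ideal.span ({1 - e} : Set A))] :
    SGA3.IsNormalHopfIdeal R A (Ideal.span ({1 - e} : Set A)) := by
  intro T _ _ g h hh a ha
  let I : Ideal A := Ideal.span {1 - e}
  let π : A →ₐ[R] A ⧸ I := Ideal.Quotient.mkₐ R I
  let g₀ : A →ₐ[R] (A ⊗[R] (A ⧸ I)) := Algebra.TensorProduct.includeLeft
  let h₀ : A →ₐ[R] (A ⊗[R] (A ⧸ I)) := Algebra.TensorProduct.includeRight.comp π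
  let c₀ : A →ₐ[R] (A ⊗[R] (A ⧸ I)) := Dyn.conv3 R A g₀ h₀ (g₀.comp (HopfAlgebra.antipodeAlgHom R A))
  let L : (A ⊗[R] (A ⧸ I)) →ₐ[R] T := Algebra.TensorProduct.lift g (Ideal.Quotient.liftₐ I h hh) fun _ _ => .all _ _
  have hnat : ∀ {S S' : Type u} [CommRing S] [Algebra R S] [CommRing S'] [Algebra R S'] (F : S →ₐ[R] S')
      (x y z : A →ₐ[R] S), F.comp (Dyn.conv3 R A x y z) = Dyn.conv3 R A (F.comp x) (F.comp y) (F.comp z) := by
    intro S S' _ _ _ _ F x y z
    refine AlgHom.ext fun a => ?_
    show F ((Dyn.conv3 R A x y z) a) = _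
    simp only [Dyn.conv3, AlgHom.comp_apply]
    generalize (Algebra.TensorProduct.map (Bialgebra.comulAlgHom R A) (AlgHom.id R A))
      (Bialgebra.comulAlgHom R A a) = w
    induction w using TensorProduct.induction_on with
    | zero => simp
    | tmul p q =>
      induction p using TensorProduct.induction_on with
      | zero => simp
      | tmul p₁ p₂ => simp
      | add p p' hp hp' => simp only [TensorProduct.add_tmul, map_add, hp, hp']
    | add w w' hw hw' => simp only [map_add, hw, hw']
  have hLg : L.comp g₀ = g := AlgHom.ext fun x => by simp [L, g₀]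
  have hLh : L.comp h₀ = h := AlgHom.ext fun x => by simp [L, h₀, π] <;> rfl
  have hc : L.comp c₀ = Dyn.conv3 R A g h (g.comp (HopfAlgebra.antipodeAlgHom R A)) := by
    rw [hnat, hLg, hLh, ← AlgHom.comp_assoc, hLg]
  let ε₀ : (A ⧸ I) →ₐ[R] R := Ideal.Quotient.liftₐ I (Bialgebra.counitAlgHom R A) fun x hx => by
    obtain ⟨r, rfl⟩ := Ideal.mem_span_singleton'.mp hx
    rw [map_mul, map_sub, map_one, hε, sub_self, mul_zero]
  let Φ : (A ⊗[R] (A ⧸ I)) →ₐ[R] A := Algebra.TensorProduct.lift (AlgHom.id R A) ((Algebra.ofId R A).comp ε₀) fun _ _ => .all _ _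
  let J : Ideal (A ⊗[R] (A ⧸ I)) := Ideal.span ((Algebra.TensorProduct.includeRight : (A ⧸ I) →ₐ[R] (A ⊗[R] (A ⧸ I))) '' (RingHom.ker ε₀ : Set (A ⧸ I)))
  have hJ : ∀ z : (A ⊗[R] (A ⧸ I)), z - Φ z ⊗ₜ[R] 1 ∈ J := by
    intro z
    induction z using TensorProduct.induction_on with
    | zero => simp
    | tmul x y =>
      have e1 : (x ⊗ₜ[R] y : (A ⊗[R] (A ⧸ I))) - Φ (x ⊗ₜ[R] y) ⊗ₜ[R] 1 =
          (x ⊗ₜ[R] (1 : A ⧸ I)) * ((1 : A) ⊗ₜ[R] (y - algebraMap R (A ⧸ I) (ε₀ y))) := by
        simp only [Φ, Algebra.TensorProduct.lift_tmul, AlgHom.comp_apply, AlgHom.id_apply, Algebra.ofId_apply,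
          Algebra.TensorProduct.tmul_mul_tmul, mul_one, one_mul, TensorProduct.tmul_sub, Algebra.algebraMap_eq_smul_one,
          mul_smul_comm, TensorProduct.tmul_smul, TensorProduct.smul_tmul']
        rw [mul_sub, Algebra.TensorProduct.tmul_mul_tmul, Algebra.TensorProduct.tmul_mul_tmul, mul_one, one_mul,
          mul_smul_comm, mul_one, one_mul]
      rw [e1]
      exact J.mul_mem_left _ (Ideal.subset_span ⟨_, by rw [SetLike.mem_coe, RingHom.mem_ker, map_sub, AlgHom.commutes,
        Algebra.algebraMap_self, RingHom.id_apply, sub_self], rfl⟩)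
    | add x y hx hy => rw [map_add, TensorProduct.add_tmul, add_sub_add_comm]; exact add_mem hx hy
  have hJmax : J ≤ (⊥ : Ideal (A ⊗[R] (A ⧸ I))).jacobson := by
    rw [Ideal.jacobson]
    refine le_sInf fun M hM => Ideal.span_le.mpr ?_
    rintro _ ⟨y, hy, rfl⟩
    haveI : M.IsMaximal := hM.2
    let ι : (A ⧸ I) →ₐ[R] (A ⊗[R] (A ⧸ I)) := Algebra.TensorProduct.includeRight
    haveI : Module.Finite R (A ⊗[R] (A ⧸ I)) := inferInstance
    haveI : Algebra.IsIntegral R (A ⊗[R] (A ⧸ I)) := Algebra.IsIntegral.of_finite R (A ⊗[R] (A ⧸ I))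
    haveI : Algebra.IsIntegral R (A ⧸ I) := Algebra.IsIntegral.of_finite R (A ⧸ I)
    have hR : ((M.comap ι).comap (algebraMap R (A ⧸ I))).IsMaximal := by
      show ((M.comap ι.toRingHom).comap (algebraMap R (A ⧸ I))).IsMaximal
      rw [Ideal.comap_comap, show ι.toRingHom.comp (algebraMap R (A ⧸ I)) = algebraMap R (A ⊗[R] (A ⧸ I)) from
        RingHom.ext fun r => ι.commutes r]
      exact Ideal.isMaximal_comap_of_isIntegral_of_isMaximal M
    haveI : (M.comap ι).IsPrime := Ideal.comap_isPrime ι M
    have hP := Ideal.isMaximal_of_isIntegral_of_isMaximal_comap (M.comap ι) hR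
    have hle : RingHom.ker ε₀ ≤ M.comap ι := by
      rw [IsLocalRing.eq_maximalIdeal hP]
      refine IsLocalRing.le_maximalIdeal ?_
      rw [Ne, Ideal.eq_top_iff_one, RingHom.mem_ker, map_one]
      exact one_ne_zero
    exact hle hy
  have hΦc : Φ.comp c₀ = (Algebra.ofId R A).comp (Bialgebra.counitAlgHom R A) := by
    have e1 : Φ.comp g₀ = AlgHom.id R A := AlgHom.ext fun x => by simp [Φ, g₀]
    have e2 : Φ.comp h₀ = (Algebra.ofId R A).comp (Bialgebra.counitAlgHom R A) :=
      AlgHom.ext fun x => by simp [Φ, h₀, ε₀, π] <;> rfl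
    rw [hnat, e1, e2, ← AlgHom.comp_assoc, e1, AlgHom.id_comp]
    refine AlgHom.ext fun x => ?_
    simp only [Dyn.conv3, AlgHom.comp_apply, Bialgebra.comulAlgHom_apply]
    have key : ∀ z : A ⊗[R] A,
        (Algebra.TensorProduct.lmul' (S := A) R) ((Algebra.TensorProduct.map ((Algebra.TensorProduct.lmul' (S := A) R).comp
          (Algebra.TensorProduct.map (AlgHom.id R A) ((Algebra.ofId R A).comp (Bialgebra.counitAlgHom R A))))
          (HopfAlgebra.antipodeAlgHom R A)) (Algebra.TensorProduct.map (Bialgebra.comulAlgHom R A) (AlgHom.id R A) z)) =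
        LinearMap.mul' R A ((HopfAlgebra.antipode R).lTensor A z) := by
      intro z
      induction z using TensorProduct.induction_on with
      | zero => simp
      | tmul p q =>
        simp only [Algebra.TensorProduct.map_tmul, AlgHom.id_apply, AlgHom.comp_apply, Bialgebra.comulAlgHom_apply,
          Algebra.TensorProduct.lmul'_apply_tmul, LinearMap.lTensor_tmul, LinearMap.mul'_apply]
        congr 1
        have h1 : ∀ w : A ⊗[R] A, (Algebra.TensorProduct.lmul' (S := A) R)
            (Algebra.TensorProduct.map (AlgHom.id R A) ((Algebra.ofId R A).comp (Bialgebra.counitAlgHom R A)) w) =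
            TensorProduct.rid R A ((Coalgebra.counit (R := R) (A := A)).lTensor A w) := by
          intro w
          induction w using TensorProduct.induction_on with
          | zero => simp
          | tmul u v => simp [Algebra.ofId_apply, Algebra.smul_def, mul_comm]
          | add u v hu hv => simp only [map_add, hu, hv]
        rw [h1, Coalgebra.lTensor_counit_comul, TensorProduct.rid_tmul, one_smul]
      | add p q hp hq => simp only [map_add, hp, hq]
    exact (key _).trans (HopfAlgebra.mul_antipode_lTensor_comul_apply x)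
  -- the idempotent
  let u := c₀ (1 - e)
  have hu : u ∈ (⊥ : Ideal (A ⊗[R] (A ⧸ I))).jacobson := by
    refine hJmax ?_
    have h0 : Φ u = 0 := by
      show (Φ.comp c₀) (1 - e) = 0
      rw [hΦc, AlgHom.comp_apply, map_sub, map_one, hε, sub_self, map_zero]
    have := hJ u
    rwa [h0, TensorProduct.zero_tmul, sub_zero] at this
  have hu0 : u = 0 := by
    have hid : u * u = u := by
      show c₀ (1 - e) * c₀ (1 - e) = c₀ (1 - e)
      rw [← map_mul, he.one_sub.eq]
    obtain ⟨v, hv⟩ := Ideal.mem_jacobson_bot.mp hu (-1)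
    refine (IsUnit.mul_right_eq_zero (a := u * -1 + 1) ⟨v, hv⟩).mp ?_
    linear_combination -hid
  obtain ⟨r, rfl⟩ := Ideal.mem_span_singleton'.mp ha
  rw [map_mul, ← hc, AlgHom.comp_apply L c₀ (1 - e), show c₀ (1 - e) = 0 from hu0, map_zero, mul_zero]

end Groth.Agent.S15063
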