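import Groth.Statements.S15065
import Groth.Agent.H20OT.PointsClosure
import Mathlib.RingTheory.Artinian.Ring
import Mathlib.GroupTheory.Perm.Cycle.Type
import Mathlib.FieldTheory.IsAlgClosed.Basic

set_option autoImplicit false
universe u
open Hopf

namespace Groth.Agent.S15065
open WithConv

/-- Let k be an algebraically closed field and A a finite-dimensional commutative and cocommutative Hopf
algebra over k which is reduced (a finite étale commutative k-group G = Spec A), with dim_k A > 1,
and assume G is simple: every Hopf ideal of A is either zero or the augmentation ideal (no closed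
subgroup schemes other than G and 1). Then the order dim_k A is a prime number ℓ, so that G is the
constant group ℤ/ℓℤ. (The published statement lists the simple finite commutative groups over an
algebraically closed field of characteristic p > 0; the étale case does not use the characteristic
and is stated here for any algebraically closed field.) -/
theorem result (k : Type u) [Field k] [IsAlgClosed k] (A : Type u) [CommRing A] [HopfAlgebra k A]
    [Coalgebra.IsCocomm k A] [FiniteDimensional k A] [IsReduced A] (hA : 1 < Module.finrank k A)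
    (hsimple : ∀ I : Ideal A, I.IsHopfIdeal k → I = ⊥ ∨ I = RingHom.ker (Bialgebra.counitAlgHom k A)) :
    (Module.finrank k A).Prime := by
  classical
  haveI : IsArtinianRing A := IsArtinianRing.of_finite k A
  haveI : Fintype (MaximalSpectrum A) := Fintype.ofFinite _
  -- points separate
  have hsep : ∀ a : A, (∀ g : WithConv (A →ₐ[k] k), g.ofConv a = 0) → a = 0 := by
    intro a ha
    have hn : a ∈ nilradical A := by
      rw [nilradical_eq_sInf, Ideal.mem_sInf]
      intro J hJ
      haveI : J.IsPrime := hJ
      haveI : J.IsMaximal := IsArtinianRing.isMaximal_of_isPrime J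
      letI := Ideal.Quotient.field J
      let e := (AlgEquiv.ofBijective (Algebra.ofId k (A ⧸ J)) IsAlgClosed.algebraMap_bijective_of_isIntegral).symm
      have h := ha (toConv (e.toAlgHom.comp (Ideal.Quotient.mkₐ k J)))
      have h' : e (Ideal.Quotient.mk J a) = 0 := h
      rw [EmbeddingLike.map_eq_zero_iff] at h'
      exact Ideal.Quotient.eq_zero_iff_mem.mp h'
    rw [nilradical_eq_zero A] at hn
    simpa using hn
  have hli : LinearIndependent k (fun g : A →ₐ[k] k => g.toLinearMap) := linearIndependent_toLinearMap k A k
  haveI : Finite (A →ₐ[k] k) := hli.finite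
  haveI : Fintype (A →ₐ[k] k) := Fintype.ofFinite _
  haveI : Fintype (WithConv (A →ₐ[k] k)) := Fintype.ofEquiv _ (WithConv.equiv (A →ₐ[k] k)).symm
  have hspan : Submodule.span k (Set.range fun g : A →ₐ[k] k => g.toLinearMap) = ⊤ := by
    by_contra hne
    obtain ⟨Φ, hΦ, hle⟩ := Submodule.exists_le_ker_of_lt_top _ (lt_top_iff_ne_top.mpr hne)
    obtain ⟨a, rfl⟩ := (Module.evalEquiv k A).surjective Φ
    exact hΦ (by rw [hsep a (fun g => LinearMap.mem_ker.mp (hle (Submodule.subset_span ⟨g.ofConv, rfl⟩))), map_zero])
  have hcard : Fintype.card (A →ₐ[k] k) = Module.finrank k A := by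
    rw [← finrank_span_eq_card hli, hspan, finrank_top, Subspace.dual_finrank_eq]
  have hcard' : Fintype.card (WithConv (A →ₐ[k] k)) = Module.finrank k A := by
    rw [Fintype.card_congr (WithConv.equiv (A →ₐ[k] k)), hcard]
  -- a subgroup of prime order
  obtain ⟨ℓ, hℓ, hdvd⟩ := Nat.exists_prime_and_dvd (n := Module.finrank k A) (by omega)
  haveI : Fact ℓ.Prime := ⟨hℓ⟩
  obtain ⟨g, hg⟩ := exists_prime_orderOf_dvd_card (G := WithConv (A →ₐ[k] k)) ℓ (hcard'.symm ▸ hdvd)
  let S := Subgroup.zpowers g
  haveI hI := Groth.Agent.H20OT.isHopfIdeal_pointsIdeal (S : Set (WithConv (A →ₐ[k] k))) S.one_mem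
    (fun a ha b hb => S.mul_mem ha hb) (fun a ha => S.inv_mem ha)
  rcases hsimple _ hI with h | h
  · -- the points in `S` separate
    have hall : ∀ x : WithConv (A →ₐ[k] k), x ∈ S := by
      intro x
      by_contra hx
      have hli' : LinearIndependent k (fun g : WithConv (A →ₐ[k] k) => g.ofConv.toLinearMap) :=
        hli.comp _ (WithConv.equiv (A →ₐ[k] k)).injective
      have hs : x.ofConv.toLinearMap ∈ Submodule.span k ((fun g : WithConv (A →ₐ[k] k) => g.ofConv.toLinearMap) '' (S : Set _)) := by
        by_contra hne
        obtain ⟨Φ, hΦ, hle⟩ := Submodule.exists_le_ker_of_notMem hne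
        obtain ⟨a, rfl⟩ := (Module.evalEquiv k A).surjective Φ
        have ha : a ∈ Groth.Agent.H20OT.pointsIdeal (S : Set (WithConv (A →ₐ[k] k))) :=
          Groth.Agent.H20OT.mem_pointsIdeal.mpr fun y hy =>
            LinearMap.mem_ker.mp (hle (Submodule.subset_span ⟨y, hy, rfl⟩))
        rw [h, Ideal.mem_bot] at ha
        exact hΦ (by rw [ha, map_zero]; rfl)
      exact hli'.notMem_span_image (by simpa using hx) hs
    have : Nat.card S = ℓ := by rw [Nat.card_zpowers, hg]
    rw [Subgroup.eq_top_iff' S |>.mpr hall, Subgroup.card_top, Nat.card_eq_fintype_card, hcard'] at this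
    exact this ▸ hℓ
  · exfalso
    have hg1 : g = 1 := WithConv.ofConv_injective (AlgHom.ext fun a => by
      have hm : a - algebraMap k A (Bialgebra.counitAlgHom k A a) ∈
          RingHom.ker (Bialgebra.counitAlgHom k A) := by
        rw [RingHom.mem_ker, map_sub, AlgHom.commutes, Algebra.algebraMap_self, RingHom.id_apply, sub_self]
      rw [← h] at hm
      have h1 := Groth.Agent.H20OT.mem_pointsIdeal.mp hm g (Subgroup.mem_zpowers g)
      rw [map_sub, sub_eq_zero, AlgHom.commutes] at h1
      rw [h1]
      rfl)
    rw [hg1, orderOf_one] at hg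
    exact hℓ.one_lt.ne' hg.symm

end Groth.Agent.S15065
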