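import Groth.Statements.S15066
import Groth.Agent.H20OT.Simple

set_option autoImplicit false
universe u
open Hopf

namespace Groth.Agent.S15066

/-- Let k be an algebraically closed field of characteristic p > 0 and A a finite-dimensional
commutative and cocommutative Hopf algebra over k (a finite commutative k-group G = Spec A) which is
a local ring (G connected) and whose dual algebra Hom_k(A, k) with the convolution product is
reduced (the Cartier dual of G is étale, i.e. G is multiplicative), with dim_k A > 1, and assume G
is simple: every Hopf ideal of A is either zero or the augmentation ideal (no closed subgroup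
schemes other than G and 1). Then G is isomorphic to μ_p: A has a group-like element g (Δ(g) = g ⊗
g, ε(g) = 1) with g^p = 1 whose powers 1, g, …, g^(p−1) are linearly independent over k, and dim_k A
= p (so A = k[g]/(g^p − 1)). -/
theorem result (k : Type u) [Field k] [IsAlgClosed k] (p : ℕ) [Fact p.Prime]
    [CharP k p] (A : Type u) [CommRing A] [HopfAlgebra k A] [Coalgebra.IsCocomm k A] [FiniteDimensional k A]
    [IsLocalRing A] (hdual : IsReduced (WithConv (A →ₗ[k] k))) (hA : 1 < Module.finrank k A)
    (hsimple : ∀ I : Ideal A, I.IsHopfIdeal k → I = ⊥ ∨ I = RingHom.ker (Bialgebra.counitAlgHom k A)) :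
    ∃ g : A, IsGroupLikeElem k g ∧ g ^ p = 1 ∧ LinearIndependent k (fun i : Fin p => g ^ (i : ℕ)) ∧
      Module.finrank k A = p := by
  exact Groth.Agent.H20OT.exists_muP_generator_of_simple p hdual hA hsimple

end Groth.Agent.S15066
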