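import Groth.Statements.S15067
import Groth.Agent.H20Hopf.ExtConn
import Groth.Agent.H20OT.Cotan
import Mathlib

set_option autoImplicit false
universe u
open scoped TensorProduct
open Hopf

namespace Groth.Agent.S15067

/-- Let R be a henselian Noetherian local ring, A and A'' commutative Hopf algebras over R which are
finite and flat as R-modules (finite flat R-groups G = Spec A, G'' = Spec A''), and A'' → A an
R-algebra homomorphism compatible with the comultiplications and counits (a homomorphism π : G →
G'') making A a faithfully flat A''-module (π faithfully flat). Let J ⊆ A be the ideal generated by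
the image of the augmentation ideal of A'', so that G' = Spec A/J is the kernel of π and 1 → G' → G
→ G'' → 1 is an exact sequence of finite flat R-groups. Then: (2) if A'' and A/J are local rings
(G'' and G' connected), A is a local ring (G is connected); (3) if A'' and A/J are étale over R (G''
and G' finite étale), A is étale over R (G is finite étale). -/
theorem result (R : Type u) [CommRing R] [HenselianLocalRing R] [IsNoetherianRing R]
    (A A'' : Type u) [CommRing A] [HopfAlgebra R A] [Module.Finite R A] [Module.Flat R A]
    [CommRing A''] [HopfAlgebra R A''] [Module.Finite R A''] [Module.Flat R A'']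
    [Algebra A'' A] [IsScalarTower R A'' A] [Module.FaithfullyFlat A'' A]
    (hΔ : (Bialgebra.comulAlgHom R A).comp (IsScalarTower.toAlgHom R A'' A) =
      (Algebra.TensorProduct.map (IsScalarTower.toAlgHom R A'' A) (IsScalarTower.toAlgHom R A'' A)).comp
        (Bialgebra.comulAlgHom R A''))
    (hε : (Bialgebra.counitAlgHom R A).comp (IsScalarTower.toAlgHom R A'' A) = Bialgebra.counitAlgHom R A'') :
    ((IsLocalRing A'' ∧
        IsLocalRing (A ⧸ (RingHom.ker (Bialgebra.counitAlgHom R A'')).map (algebraMap A'' A))) → IsLocalRing A) ∧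
      ((Algebra.Etale R A'' ∧
        Algebra.Etale R (A ⧸ (RingHom.ker (Bialgebra.counitAlgHom R A'')).map (algebraMap A'' A))) →
        Algebra.Etale R A) := by
  let J : Ideal A := (RingHom.ker (Bialgebra.counitAlgHom R A'')).map (algebraMap A'' A)
  haveI : Module.Finite A'' A := Module.Finite.of_restrictScalars_finite R A'' A
  let εJ : (A ⧸ J) →ₐ[R] R :=
    Ideal.Quotient.liftₐ J (Bialgebra.counitAlgHom R A) fun x hx => H20Hopf.ExtConn.counit_eq_zero_of_mem hε hx
  refine ⟨fun ⟨h1, h2⟩ => ?_, fun ⟨h1, h2⟩ => ?_⟩
  · haveI := h1
    haveI : IsLocalRing (A ⧸ J) := h2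
    refine IsLocalRing.of_unique_max_ideal ⟨(IsLocalRing.maximalIdeal (A ⧸ J)).comap (Ideal.Quotient.mk J), ?_, fun N hN => ?_⟩
    · exact Ideal.comap_isMaximal_of_surjective _ Ideal.Quotient.mk_surjective
    · haveI := hN
      have hJN : J ≤ N := by
        haveI : (N.comap (algebraMap A'' A)).IsMaximal := Ideal.isMaximal_comap_of_isIntegral_of_isMaximal N
        refine Ideal.map_le_iff_le_comap.2 ?_
        rw [IsLocalRing.eq_maximalIdeal (inferInstance : (N.comap (algebraMap A'' A)).IsMaximal)]
        exact H20Hopf.ExtConn.ker_counit_le_maximalIdeal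
      have hmax : (N.map (Ideal.Quotient.mk J)).IsMaximal :=
        Ideal.IsMaximal.map_of_surjective_of_ker_le Ideal.Quotient.mk_surjective (by rwa [Ideal.mk_ker])
      rw [← IsLocalRing.eq_maximalIdeal hmax, Ideal.comap_map_of_surjective' _ Ideal.Quotient.mk_surjective,
        Ideal.mk_ker, sup_eq_left.2 hJN]
  · haveI := h1
    haveI : Algebra.Etale R (A ⧸ J) := h2
    haveI : Module.FinitePresentation R A := Module.finitePresentation_of_finite R A
    haveI : Module.FinitePresentation R A'' := Module.finitePresentation_of_finite R A''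
    haveI : Module.Projective R A := Module.Flat.projective_of_finitePresentation
    haveI : Module.Projective R A'' := Module.Flat.projective_of_finitePresentation
    rw [H20OT.etale_iff_sq_augIdeal]
    refine le_antisymm (Ideal.pow_le_self two_ne_zero) fun x hx => ?_
    have hJ2 : J ≤ H20OT.augIdeal R A ^ 2 := by
      have h'' : H20OT.augIdeal R A'' ^ 2 = H20OT.augIdeal R A'' := H20OT.etale_iff_sq_augIdeal.1 h1
      show Ideal.map (algebraMap A'' A) (H20OT.augIdeal R A'') ≤ _
      rw [← h'', Ideal.map_pow]
      refine Ideal.pow_right_mono ?_ 2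
      exact Ideal.map_le_iff_le_comap.2 fun b hb => (show algebraMap A'' A b ∈ H20OT.augIdeal R A from (AlgHom.congr_fun hε b).trans hb)
    have hker : RingHom.ker εJ = (H20OT.augIdeal R A).map (Ideal.Quotient.mk J) := Ideal.ker_quotient_lift _ _
    have h3 := H20Hopf.ExtConn.sub_section_mem_sq εJ (Ideal.Quotient.mk J x)
    have h0 : εJ (Ideal.Quotient.mk J x) = 0 := hx
    rw [h0, map_zero, sub_zero, hker, ← Ideal.map_pow] at h3
    rw [Ideal.mem_quotient_iff_mem_sup, sup_eq_left.2 hJ2] at h3
    exact h3

end Groth.Agent.S15067
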