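import Groth.Statements.S15068
import Groth.Agent.H20Hopf.ExtConn
import Groth.Agent.H20OT.Cotan
import Mathlib

set_option autoImplicit false
universe u
open scoped TensorProduct
open Hopf

namespace Groth.Agent.S15068

/-- Let R be a henselian Noetherian local ring, A and A'' commutative Hopf algebras over R which are
finite and flat as R-modules, and A'' → A an R-algebra homomorphism compatible with
comultiplications and counits making A faithfully flat over A'' (a faithfully flat homomorphism π :
G → G'' of finite flat R-groups); let J ⊆ A be the ideal generated by the image of the augmentation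
ideal of A'' (G' = Spec A/J = ker π, so 1 → G' → G → G'' → 1 is exact). Assume A'' is a local ring
(G'' connected) and A/J is étale over R (G' finite étale), and let e ∈ A be an idempotent with ε(e)
= 1 such that A/(1 − e) is local (G⁰ = Spec A/(1 − e), the unit component of G). Then the composite
A'' → A → A/(1 − e) is bijective: the restriction G⁰ → G'' of π is an isomorphism, whose inverse
splits the extension, G ≅ G' × G''. -/
theorem result (R : Type u) [CommRing R] [HenselianLocalRing R]
    [IsNoetherianRing R] (A A'' : Type u) [CommRing A] [HopfAlgebra R A] [Module.Finite R A] [Module.Flat R A]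
    [CommRing A''] [HopfAlgebra R A''] [Module.Finite R A''] [Module.Flat R A'']
    [Algebra A'' A] [IsScalarTower R A'' A] [Module.FaithfullyFlat A'' A]
    (hΔ : (Bialgebra.comulAlgHom R A).comp (IsScalarTower.toAlgHom R A'' A) =
      (Algebra.TensorProduct.map (IsScalarTower.toAlgHom R A'' A) (IsScalarTower.toAlgHom R A'' A)).comp
        (Bialgebra.comulAlgHom R A''))
    (hε : (Bialgebra.counitAlgHom R A).comp (IsScalarTower.toAlgHom R A'' A) = Bialgebra.counitAlgHom R A'')
    [IsLocalRing A''] [Algebra.Etale R (A ⧸ (RingHom.ker (Bialgebra.counitAlgHom R A'')).map (algebraMap A'' A))]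
    (e : A) (he : IsIdempotentElem e) (heε : Bialgebra.counitAlgHom R A e = 1)
    [IsLocalRing (A ⧸ Ideal.span ({1 - e} : Set A))] :
    Function.Bijective ((Ideal.Quotient.mkₐ R (Ideal.span ({1 - e} : Set A))).comp (IsScalarTower.toAlgHom R A'' A)) := by
  let I : Ideal A := Ideal.span {1 - e}
  let J : Ideal A := (RingHom.ker (Bialgebra.counitAlgHom R A'')).map (algebraMap A'' A)
  haveI : Module.Finite A'' A := Module.Finite.of_restrictScalars_finite R A'' A
  haveI : Module.Finite A'' (A ⧸ I) := Module.Finite.of_restrictScalars_finite R A'' _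
  haveI : Module.Flat A'' (A ⧸ I) := H20Hopf.ExtConn.flat_component he
  haveI : Nontrivial (A ⧸ I) := inferInstance
  haveI : Module.Free A'' (A ⧸ I) := Module.free_of_flat_of_isLocalRing
  have hinj : Function.Injective (algebraMap A'' (A ⧸ I)) := FaithfulSMul.algebraMap_injective A'' (A ⧸ I)
  refine ⟨hinj, ?_⟩
  -- the fibre at the unit
  let B := A ⧸ (J ⊔ I)
  let εB : B →ₐ[R] R := Ideal.Quotient.liftₐ (J ⊔ I) (Bialgebra.counitAlgHom R A) fun x hx => by
    obtain ⟨j, hj, i, hi, rfl⟩ := Submodule.mem_sup.1 hx
    obtain ⟨r, rfl⟩ := Ideal.mem_span_singleton'.mp hi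
    rw [map_add, H20Hopf.ExtConn.counit_eq_zero_of_mem hε hj, map_mul, map_sub, map_one, heε, sub_self, mul_zero,
      zero_add]
  haveI : Nontrivial B := εB.toRingHom.domain_nontrivial
  haveI : IsLocalRing B :=
    IsLocalRing.of_surjective' (Ideal.Quotient.factor (le_sup_right : I ≤ J ⊔ I)) (Ideal.Quotient.factor_surjective _)
  haveI : IsNoetherianRing B := IsNoetherianRing.of_finite R B
  haveI : Algebra.FormallyUnramified R B :=
    Algebra.FormallyUnramified.of_surjective (Ideal.Quotient.factorₐ R (show J ≤ J ⊔ I from le_sup_left))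
      (Ideal.Quotient.factor_surjective (show J ≤ J ⊔ I from le_sup_left))
  have htop : (⊤ : Submodule A'' (A ⧸ I)) ≤ LinearMap.range (Algebra.linearMap A'' (A ⧸ I)) := by
    refine Submodule.le_of_le_smul_of_le_jacobson_bot (I := RingHom.ker (Bialgebra.counitAlgHom R A''))
      Module.Finite.fg_top (H20Hopf.ExtConn.ker_counit_le_maximalIdeal.trans (IsLocalRing.maximalIdeal_le_jacobson _))
      fun y _ => ?_
    obtain ⟨a, rfl⟩ := Ideal.Quotient.mk_surjective y
    have ha := H20Hopf.ExtConn.algebraMap_section_eq εB (Ideal.Quotient.mk (J ⊔ I) a)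
    obtain ⟨j, hj, i, hi, hji⟩ := Submodule.mem_sup.1 (Ideal.Quotient.eq.1 ha.symm)
    have hy : Ideal.Quotient.mk I a =
        algebraMap A'' (A ⧸ I) (algebraMap R A'' (Bialgebra.counitAlgHom R A a)) + Ideal.Quotient.mk I j := by
      rw [← IsScalarTower.algebraMap_apply, IsScalarTower.algebraMap_apply R A (A ⧸ I), Ideal.Quotient.algebraMap_eq,
        ← map_add, Ideal.Quotient.eq]
      have h1 : a - (algebraMap R A (Bialgebra.counitAlgHom R A a) + j) = i := by
        rw [sub_add_eq_sub_sub]
        exact sub_eq_iff_eq_add'.2 hji.symm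
      rw [h1]
      exact hi
    rw [hy]
    refine Submodule.add_mem_sup ⟨_, rfl⟩ ?_
    rw [Ideal.smul_top_eq_map]
    show Ideal.Quotient.mk I j ∈ Ideal.map (algebraMap A'' (A ⧸ I)) _
    rw [IsScalarTower.algebraMap_eq A'' A (A ⧸ I), ← Ideal.map_map, Ideal.Quotient.algebraMap_eq]
    exact Ideal.mem_map_of_mem _ hj
  exact fun y => htop (Submodule.mem_top (x := y))

end Groth.Agent.S15068
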