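import Groth.Statements.S15069
import Groth.Agent.H17.OverPreRing
import Mathlib.Algebra.Category.ModuleCat.Sheaf.Limits
import Mathlib.Algebra.Category.ModuleCat.Sheaf.PushforwardContinuous
import Mathlib.Algebra.Category.ModuleCat.Presheaf.Sheafification
import Mathlib.CategoryTheory.Sites.LeftExact
import Mathlib.Algebra.Category.Grp.FilteredColimits
import Mathlib.CategoryTheory.Sites.Abelian

set_option autoImplicit false
universe u
open CategoryTheory TopologicalSpace
open OrdSurf

namespace Groth.Agent.S15069

open CategoryTheory CategoryTheory.Limits TopologicalSpace Opposite
open Groth.Agent.H17.OverPreRing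

/-- Let X be a topological space, A a sheaf of rings on X (not necessarily commutative), I a sheaf of
A-modules which is an injective object of the category of sheaves of A-modules, and U an open subset
of X. Then the restriction of I to the site of opens contained in U is an injective object of the
category of sheaves of modules over the restriction of A. (The published statement is for an order
on a smooth projective surface; this row is stated for any sheaf of rings on any topological space.) -/
theorem result (X : TopCat.{u})
    (A : Sheaf (Opens.grothendieckTopology X) RingCat.{u}) (I : SheafOfModules.{u} A)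
    [Injective I] (U : Opens X) : Injective (I.over U) := by
  let sh := PresheafOfModules.sheafification (𝟙 A.obj)
  let adj := (jAdj A.obj U).comp (PresheafOfModules.sheafificationAdjunction (𝟙 A.obj))
  haveI : sh.PreservesMonomorphisms := preservesMonomorphisms_of_preservesLimitsOfShape _
  have hP := adj.map_injective I inferInstance
  haveI : (SheafOfModules.forget (A.over U)).IsRightAdjoint :=
    (PresheafOfModules.sheafificationAdjunction (𝟙 (A.over U).obj)).isRightAdjoint
  have hf := SheafOfModules.fullyFaithfulForget (A.over U)
  refine ⟨fun {M N} g f _ => ?_⟩
  have hm : Mono ((SheafOfModules.forget (A.over U)).map f) := inferInstance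
  obtain ⟨h, hh⟩ := @Injective.factors _ _ _ hP _ _ ((SheafOfModules.forget (A.over U)).map g) ((SheafOfModules.forget (A.over U)).map f) hm
  exact ⟨hf.preimage h, hf.map_injective (by rw [Functor.map_comp, hf.map_preimage]; exact hh)⟩

end Groth.Agent.S15069
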