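import Groth.Statements.S1507
import Groth.Agent.H8Props.PseudoCoh.Finite

set_option autoImplicit false
universe u
attribute [local instance] HasDerivedCategory.standard
open FlatMor

namespace Groth.Agent.S1507

/-- Let A → B be flat and of finite presentation and I an ideal of B. Then A → B/I is a pseudo-coherent
ring map if and only if I is a pseudo-coherent B-module. -/
theorem result {A B : Type u} [CommRing A] [CommRing B] [Algebra A B] [Module.Flat A B] [Algebra.FinitePresentation A B] (I : Ideal B) :
    MoreMor.IsPseudoCoherentHom A (B ⧸ I) ↔ DRing.IsPseudoCoherentModule' B ↥I := by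
  rw [Groth.Agent.H8Props.PseudoCoh.isPseudoCoherentModule'_iff, ← Groth.Agent.H8Props.PseudoCoh.fpInf_quotient_iff,
    ← Groth.Agent.H8Props.PseudoCoh.isPseudoCoherentHom_iff_of_surjective Ideal.Quotient.mk_surjective]
  have h0 := Groth.Agent.H8Props.PseudoCoh.isPseudoCoherentHom_of_flat A B
  exact ⟨fun h => Groth.Agent.H8Props.PseudoCoh.isPseudoCoherentHom_of_comp h0 h, fun h => Groth.Agent.H8Props.PseudoCoh.isPseudoCoherentHom_comp h0 h⟩

end Groth.Agent.S1507
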