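import Groth.Statements.S15070
-- import your own Groth.Agent.* helpers here
import Groth.Agent.H29Ref.Free
import Groth.Agent.H22Alg.KClOps
import Groth.Agent.H22Alg.KLFRes
import Groth.Agent.H25Par.CurveLocFree
import Mathlib

set_option autoImplicit false
universe u
open CategoryTheory CategoryTheory.Limits AlgebraicGeometry
open OrdSurf

namespace Groth.Agent.S15070

/-- Over a regular local ring of dimension at most two, syzygies of torsion-free modules are free. -/
theorem free_kernel {R : Type u} [CommRing R] [IsRegularLocalRing R] (hd : ringKrullDim R ≤ 2)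
    (K F N : Type u) [AddCommGroup K] [Module R K] [Module.Finite R K] [AddCommGroup F] [Module R F]
    [Module.Finite R F] [Module.Free R F] [AddCommGroup N] [Module R N] [Module.Finite R N]
    [Module.IsTorsionFree R N] (f : K →ₗ[R] F) (g : F →ₗ[R] N) (hf : Function.Injective f)
    (hfg : Function.Exact f g) : Module.Free R K := by
  haveI := H4Depth.isDomain_of_isRegularLocalRing R
  let e : F ≃ₗ[R] (Fin (Module.finrank R F) → R) := (Module.finBasis R F).equivFun
  obtain ⟨k, r, a, b, hr, hab⟩ := H1CAlg.exists_free_approx (R := R) N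
  have ha : Function.Injective a := fun x y hxy => by
    have h2 := (hab x).symm.trans ((congrArg b hxy).trans (hab y))
    exact smul_right_injective N hr h2
  let f' : K →ₗ[R] (Fin (Module.finrank R F) → R) := e.toLinearMap ∘ₗ f
  let g' : (Fin (Module.finrank R F) → R) →ₗ[R] (Fin k → R) := a ∘ₗ g ∘ₗ e.symm.toLinearMap
  have hf' : Function.Injective f' := e.injective.comp hf
  have hex : Function.Exact f' g' := fun y => by
    refine ⟨fun h => ?_, ?_⟩
    · obtain ⟨x, hx⟩ := (hfg (e.symm y)).1 (ha (h.trans (map_zero a).symm))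
      exact ⟨x, by show e (f x) = y; rw [hx, e.apply_symm_apply]⟩
    · rintro ⟨x, rfl⟩
      show a (g (e.symm (e (f x)))) = 0
      rw [e.symm_apply_apply, hfg.apply_apply_eq_zero, map_zero]
  have hRd := H4Depth.depth_self_eq_ringKrullDim_of_regular R
  obtain ⟨d, hd'⟩ := H4Depth.exists_nat_ringKrullDim_eq (R := R)
  refine H29Ref.free_of_dim_le_depth K ?_
  rw [hd'] at hRd hd ⊢
  have hRd' : LocCoh.idealDepth (IsLocalRing.maximalIdeal R) R = (d : ℕ∞) := by exact_mod_cast hRd
  have hd2 : d ≤ 2 := by exact_mod_cast hd
  have hpi : ∀ i : ℕ, (d : ℕ∞) ≤ LocCoh.idealDepth (IsLocalRing.maximalIdeal R) (Fin i → R) :=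
    fun i => hRd'.symm.le.trans (H4Depth.idealDepth_le_idealDepth_pi _ i)
  suffices h : (d : ℕ∞) ≤ LocCoh.depth R K by exact_mod_cast h
  interval_cases d
  · exact bot_le
  · exact H4Depth.one_le_idealDepth_of_injective _ hf' (hpi _)
  · exact H4Depth.two_le_idealDepth_of_exact _ hf' hex (hpi _) (le_trans (by norm_num) (hpi k))

end Groth.Agent.S15070

namespace Groth.Agent.S15070

/-- Let k be an algebraically closed field of characteristic zero and X a smooth projective surface over
k (an integral k-scheme, smooth over k, of dimension two, admitting a closed immersion over k into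
some projective space P^n_k). Let N be a coherent O_X-module all of whose stalks are torsion-free
modules over the local rings, M a finite locally free O_X-module and φ : M → N an epimorphism of
O_X-modules. Then the kernel of φ is a finite locally free O_X-module. -/
theorem result (k : Type u) [Field k] [IsAlgClosed k] [CharZero k]
    (X : Scheme.{u}) [X.Over (Spec (CommRingCat.of k))] [IsIntegral X]
    [Smooth (X ↘ Spec (CommRingCat.of k))] (hdim : topologicalKrullDim X = 2)
    (hproj : ∃ (n : ℕ) (ι : X ⟶ CohB1.ProjSpace n k), IsClosedImmersion ι ∧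
      ι ≫ CohB1.ProjSpace.toSpec n k = X ↘ Spec (CommRingCat.of k))
    (N : X.Modules) (hN : Coh.IsCoh N) (hNtf : TorSh.IsTorsionFree N)
    (M : X.Modules) (hM : FlatMod.IsFinLocFree M) (φ : M ⟶ N) [Epi φ] :
    FlatMod.IsFinLocFree (kernel φ) := by
  classical
  let π := X ↘ Spec (CommRingCat.of k)
  haveI : IsLocallyNoetherian X := LocallyOfFiniteType.isLocallyNoetherian π
  have hS : (ShortComplex.mk (kernel.ι φ) φ (kernel.condition φ)).ShortExact :=
    { exact := ShortComplex.exact_of_f_is_kernel _ (kernelIsKernel φ) }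
  have hMc := H16Derived.KFlat.Stalk.isCoh_of_isFinLocFree hM
  have hK : Coh.IsCoh (kernel φ) := H22Alg.KLFRes.isCoh_left hS hMc hN
  refine H29Ref.isFinLocFree_of_free_stalk _ hK fun x => ?_
  haveI := H19Grp.isRegularLocalRing_stalk_of_smooth π x
  haveI : Module.Finite (X.presheaf.stalk x) ((kernel φ).presheaf.stalk x) := H29Ref.finite_stalk _ hK.2 x
  haveI : Module.Finite (X.presheaf.stalk x) (M.presheaf.stalk x) := H29Ref.finite_stalk _ hMc.2 x
  haveI : Module.Finite (X.presheaf.stalk x) (N.presheaf.stalk x) := H29Ref.finite_stalk _ hN.2 x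
  haveI : Module.Free (X.presheaf.stalk x) (M.presheaf.stalk x) := H8Props.FinLocFree.free_stalk _ hM x
  haveI : Module.IsTorsionFree (X.presheaf.stalk x) (N.presheaf.stalk x) := hNtf x
  exact free_kernel ((H8Props.FlatDimOneBase.ringKrullDim_stalk_le X x).trans hdim.le) _ _ _
    (H06Mod.stalkLin (kernel.ι φ) x) (H06Mod.stalkLin φ x)
    (H06Mod.stalk_injective _ hS x) (H06Mod.stalk_exact _ hS x)

end Groth.Agent.S15070
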