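import Groth.Statements.S15071
-- import your own Groth.Agent.* helpers here
import Groth.Agent.H29Ref.DepthCriterion
import Groth.Agent.H29Ref.BigOpen
import Groth.Agent.H29Ref.Free
import Groth.Agent.H8Props.NormalLowDim
import Groth.Agent.H28Neron.NormalSmooth
import Groth.Agent.H8Props.FibreStalk
import Groth.Agent.H25Par.CurveLocFree
import Groth.Agent.H25Euler.Degree
import Mathlib

set_option autoImplicit false
universe u
open CategoryTheory CategoryTheory.Limits AlgebraicGeometry
open OrdSurf

namespace Groth.Agent.S15071

/-- Let k be an algebraically closed field of characteristic zero and X a smooth projective surface over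
k (an integral k-scheme, smooth over k, of dimension two, admitting a closed immersion over k into
some projective space P^n_k). Let φ : M → N be a monomorphism between finite locally free
O_X-modules. Then either φ is an isomorphism, or the support of the cokernel of φ contains a point
of X whose local ring has Krull dimension at most one, i.e. the support has codimension at most one
in X. (The published statement phrases the first alternative as M and N being isomorphic; the
argument shows that the given monomorphism is an isomorphism, which is the form stated here.) -/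
theorem result (k : Type u) [Field k] [IsAlgClosed k] [CharZero k]
    (X : Scheme.{u}) [X.Over (Spec (CommRingCat.of k))] [IsIntegral X]
    [Smooth (X ↘ Spec (CommRingCat.of k))] (hdim : topologicalKrullDim X = 2)
    (hproj : ∃ (n : ℕ) (ι : X ⟶ CohB1.ProjSpace n k), IsClosedImmersion ι ∧
      ι ≫ CohB1.ProjSpace.toSpec n k = X ↘ Spec (CommRingCat.of k))
    (M N : X.Modules) (hM : FlatMod.IsFinLocFree M) (hN : FlatMod.IsFinLocFree N)
    (φ : M ⟶ N) [Mono φ] :
    IsIso φ ∨ ∃ x : X, x ∈ CohB1.support (cokernel φ) ∧ ringKrullDim (X.presheaf.stalk x) ≤ 1 := by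
  classical
  refine or_iff_not_imp_right.2 fun hne => ?_
  simp only [not_exists, not_and] at hne
  let π := X ↘ Spec (CommRingCat.of k)
  haveI : IsLocallyNoetherian X := LocallyOfFiniteType.isLocallyNoetherian π
  have hX : Pi1.IsNormalScheme X := H28Neron.isNormalScheme_of_smooth π (fun t => by
    have h := H8Props.FibreStalk.isField_stalk_Spec (CommRingCat.of k) (Field.toIsField k) t
    exact ⟨h.isDomain, letI := h.toField; inferInstance⟩)
  have hMc := H16Derived.KFlat.Stalk.isCoh_of_isFinLocFree hM
  have hNc := H16Derived.KFlat.Stalk.isCoh_of_isFinLocFree hN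
  have hNt := H25Par.isTorsionFree_of_locFree hN
  refine H29Ref.isIso_of_depth_two φ hMc hNc.1 fun x => ?_
  let T := DerSch.stalkFunctor X x
  by_cases hx : ringKrullDim (X.presheaf.stalk x) ≤ 1
  · left
    have hz : IsZero (T.obj (cokernel φ)) := (H25Euler.notMem_support_iff _ x).1 fun h => hne x h hx
    have hS := (ShortComplex.exact_cokernel φ).map T
    haveI : Epi (T.map φ) := hS.epi_f (hz.eq_of_tgt _ _)
    exact ⟨(ModuleCat.mono_iff_injective (T.map φ)).1 inferInstance,
      (ModuleCat.epi_iff_surjective (T.map φ)).1 inferInstance⟩
  · right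
    haveI := (hX x).1
    haveI := (hX x).2
    have hR := H8Props.NormalLowDim.two_le_depth (X.presheaf.stalk x) hx
    haveI := H29Ref.finite_stalk M hMc.2 x
    haveI : Module.Flat (X.presheaf.stalk x) (M.presheaf.stalk x) := H16Derived.KFlat.Stalk.isFlat_of_isFinLocFree hM x
    haveI : Module.Free (X.presheaf.stalk x) (M.presheaf.stalk x) := Module.free_of_flat_of_isLocalRing
    refine ⟨H29Ref.two_le_depth_of_isReflexive _ hR, fun hass => ?_⟩
    obtain ⟨hp, t, ht⟩ := isAssociatedPrime_iff.mp hass
    haveI : Module.IsTorsionFree (X.presheaf.stalk x) (N.presheaf.stalk x) := hNt x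
    obtain ⟨a, ha, ha0⟩ := Submodule.exists_mem_ne_zero_of_ne_bot
      (p := IsLocalRing.maximalIdeal (X.presheaf.stalk x)) fun h0 => hx (by
        rw [ringKrullDim_eq_zero_of_isField (IsLocalRing.isField_iff_maximalIdeal_eq.mpr h0)]
        exact zero_le_one)
    have h0 : a • t = 0 := (Submodule.mem_bot _).1 (Submodule.mem_colon_singleton.1 (ht.le ha))
    have ht0 : t = 0 := (smul_eq_zero.1 h0).resolve_left ha0
    refine hp.ne_top ?_
    rw [ht, ht0, Ideal.eq_top_iff_one, Submodule.mem_colon_singleton, Submodule.mem_bot, smul_zero]

end Groth.Agent.S15071
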