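import Groth.Statements.S15075
-- import your own Groth.Agent.* helpers here
import Groth.Agent.H29Ref.Rational
import Mathlib

set_option autoImplicit false
universe u
open CategoryTheory CategoryTheory.Limits AlgebraicGeometry TopologicalSpace Opposite
open OrdSurf

namespace Groth.Agent.S15075

open TopologicalSpace

/-- A morphism of sheaves of modules that is injective on sections is a monomorphism. -/
theorem mono_of_injective {C : Type u} [SmallCategory C] {J : GrothendieckTopology C} {A : Sheaf J RingCat.{u}}
    {M N : SheafOfModules.{u} A} (ψ : M ⟶ N) (h : ∀ U, Function.Injective (ψ.val.app U).hom) : Mono ψ := by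
  refine ⟨fun {Z} a b e => ?_⟩
  ext U z
  exact h U (congrArg (fun F : Z ⟶ N => (F.val.app U).hom z) e)

/-- The map on stalks at a point induced by a morphism of sheaves of modules, as a linear map. -/
noncomputable def stalkLin {X : TopCat.{u}} {A : X.Presheaf RingCat.{u}} {M N : PresheafOfModules.{u} A} (ψ : M ⟶ N) (x : X) :
    ↑(TopCat.Presheaf.stalk M.presheaf x) →ₗ[↑(A.stalk x)] ↑(TopCat.Presheaf.stalk N.presheaf x) where
  toFun := fun m => (TopCat.Presheaf.stalkFunctor Ab.{u} x).map ((PresheafOfModules.toPresheaf A).map ψ) m
  map_add' := fun a b => map_add _ a b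
  map_smul' := fun r m => by
    obtain ⟨U, hU, r', rfl⟩ := TopCat.Presheaf.germ_exist A r
    obtain ⟨V, hV, m', rfl⟩ := TopCat.Presheaf.germ_exist M.presheaf m
    let W := U ⊓ V
    have hW : x ∈ W := ⟨hU, hV⟩
    rw [RingHom.id_apply, ← TopCat.Presheaf.germ_res_apply A (homOfLE inf_le_left : W ⟶ U) x hW r',
      ← TopCat.Presheaf.germ_res_apply M.presheaf (homOfLE inf_le_right : W ⟶ V) x hW m']
    erw [← PresheafOfModules.germ_ringCat_smul M x W hW, TopCat.Presheaf.stalkFunctor_map_germ_apply,
      TopCat.Presheaf.stalkFunctor_map_germ_apply, ← PresheafOfModules.germ_ringCat_smul N x W hW]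
    exact congrArg _ (map_smul (ψ.app _).hom _ _)

end Groth.Agent.S15075

namespace Groth.Agent.S15075

/-- Let k be an algebraically closed field of characteristic zero and X a smooth projective surface over
k (an integral k-scheme, smooth over k, of dimension two, admitting a closed immersion over k into
some projective space P^n_k), with generic point η. Let A be a sheaf of rings on X with a morphism φ
: O_X → A of sheaves of rings with central image (a sheaf of O_X-algebras) whose generic stalk A_η
is a division ring, i.e. simple as a left module over itself. Let M and N be sheaves of A-modules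
whose underlying O_X-modules (through φ) are coherent with torsion-free stalks, and whose generic
stalks M_η and N_η are simple A_η-modules (one-dimensional over the division ring A_η). Then every
nonzero morphism of sheaves of A-modules M → N is a monomorphism. (The published statement takes A
to be an order on X — coherent and torsion-free over O_X with A_η a central division algebra over
k(X) — and M, N torsion-free A-modules of rank one; of these hypotheses only the ones listed are
assumed here, the others playing no role in the argument.) -/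
theorem result (k : Type u) [Field k] [IsAlgClosed k] [CharZero k]
    (X : Scheme.{u}) [X.Over (Spec (CommRingCat.of k))] [IsIntegral X]
    [Smooth (X ↘ Spec (CommRingCat.of k))] (hdim : topologicalKrullDim X = 2)
    (hproj : ∃ (n : ℕ) (ι : X ⟶ CohB1.ProjSpace n k), IsClosedImmersion ι ∧
      ι ≫ CohB1.ProjSpace.toSpec n k = X ↘ Spec (CommRingCat.of k))
    (A : Sheaf (Opens.grothendieckTopology X) RingCat.{u}) (φ : X.ringCatSheaf ⟶ A)
    (hcen : ∀ (U : (Opens X)ᵒᵖ) (s : X.ringCatSheaf.obj.obj U) (a : A.obj.obj U),
      φ.hom.app U s * a = a * φ.hom.app U s)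
    (hAη : IsSimpleModule (↑(TopCat.Presheaf.stalk (C := RingCat.{u}) (X := X.carrier) A.obj (genericPoint X))) (↑(TopCat.Presheaf.stalk (C := RingCat.{u}) (X := X.carrier) A.obj (genericPoint X))))
    (M N : SheafOfModules.{u} A)
    (hMc : Coh.IsCoh (X := X) ((SheafOfModules.restrictScalars φ).obj M))
    (hNc : Coh.IsCoh (X := X) ((SheafOfModules.restrictScalars φ).obj N))
    (hMt : TorSh.IsTorsionFree (X := X) ((SheafOfModules.restrictScalars φ).obj M))
    (hNt : TorSh.IsTorsionFree (X := X) ((SheafOfModules.restrictScalars φ).obj N))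
    (hMη : IsSimpleModule (↑(TopCat.Presheaf.stalk (C := RingCat.{u}) (X := X.carrier) A.obj (genericPoint X))) (↑(TopCat.Presheaf.stalk (C := Ab.{u}) (X := X.carrier) M.val.presheaf (genericPoint X))))
    (hNη : IsSimpleModule (↑(TopCat.Presheaf.stalk (C := RingCat.{u}) (X := X.carrier) A.obj (genericPoint X))) (↑(TopCat.Presheaf.stalk (C := Ab.{u}) (X := X.carrier) N.val.presheaf (genericPoint X))))
    (ψ : M ⟶ N) (hψ : ψ ≠ 0) : Mono ψ := by
  classical
  let η := genericPoint X
  let Mo := (SheafOfModules.restrictScalars φ).obj M
  let No := (SheafOfModules.restrictScalars φ).obj N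
  have gM : ∀ {U : X.Opens} (hU : η ∈ U), Function.Injective (TopCat.Presheaf.germ (C := Ab.{u}) (X := X.carrier) M.val.presheaf U η hU) :=
    fun {U} hU => H29Ref.germ_generic_injective Mo hMc.1 hMt hU
  have gN : ∀ {U : X.Opens} (hU : η ∈ U), Function.Injective (TopCat.Presheaf.germ (C := Ab.{u}) (X := X.carrier) N.val.presheaf U η hU) :=
    fun {U} hU => H29Ref.germ_generic_injective No hNc.1 hNt hU
  let L := stalkLin (X := X.carrier) ψ.val η
  have hsec : ∀ (U : X.Opens), η ∈ U ∨ (U : Set X) = ∅ := fun U => by
    rcases (U : Set X).eq_empty_or_nonempty with h | ⟨y, hy⟩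
    · exact Or.inr h
    · exact Or.inl ((genericPoint_specializes y).mem_open U.2 hy)
  have hzero : ∀ (U : X.Opens), (U : Set X) = ∅ → ∀ (P : SheafOfModules.{u} A) (a b : P.val.obj (Opposite.op U)), a = b := by
    intro U hU P a b
    exact TopCat.Presheaf.section_ext (C := Ab.{u}) (X := X.carrier) ⟨P.val.presheaf, P.isSheaf⟩ U a b
      fun y hy => absurd (hU ▸ hy : y ∈ (∅ : Set X)) (Set.notMem_empty y)
  haveI := hMη
  haveI := hNη
  rcases L.injective_or_eq_zero with hinj | h0
  · refine mono_of_injective ψ fun ⟨U⟩ a b e => ?_
    rcases hsec U with hη | hU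
    · apply gM hη
      apply hinj
      show (TopCat.Presheaf.stalkFunctor Ab.{u} η).map _ _ = (TopCat.Presheaf.stalkFunctor Ab.{u} η).map _ _
      erw [TopCat.Presheaf.stalkFunctor_map_germ_apply, TopCat.Presheaf.stalkFunctor_map_germ_apply]
      exact congrArg _ e
    · exact hzero U hU M a b
  · refine absurd ?_ hψ
    ext ⟨U⟩ a
    rcases hsec U with hη | hU
    · apply gN hη
      have h : L (TopCat.Presheaf.germ (C := Ab.{u}) (X := X.carrier) M.val.presheaf U η hη a) = 0 := by rw [h0]; rfl
      change (TopCat.Presheaf.stalkFunctor Ab.{u} η).map _ _ = 0 at h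
      erw [TopCat.Presheaf.stalkFunctor_map_germ_apply] at h
      erw [h]
      exact (map_zero _).symm
    · exact hzero U hU N _ _

end Groth.Agent.S15075
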