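import Groth.Statements.S15073
-- import your own Groth.Agent.* helpers here
import Groth.Agent.S15075
import Groth.Agent.S15076
import Mathlib

set_option autoImplicit false
universe u
open CategoryTheory AlgebraicGeometry TopologicalSpace Opposite
open OrdSurf

namespace Groth.Agent.S15073

open TopologicalSpace Opposite Limits
open Groth.Agent.S15076 (St MSt smul_eq unitEquiv)

set_option backward.isDefEq.respectTransparency.types false
set_option backward.isDefEq.respectTransparency false

variable {X : Scheme.{u}} (A : Sheaf (Opens.grothendieckTopology X) RingCat.{u}) (M : SheafOfModules.{u} A)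

/-- The free presheaf of modules on the sections of `M`. -/
noncomputable abbrev Pre : PresheafOfModules.{u} A.obj :=
  PresheafOfModules.freeObj (M.val.presheaf ⋙ forget Ab.{u})

/-- The stalk of the free presheaf. -/
abbrev PSt (x : X) : Type u := ↑(TopCat.Presheaf.stalk (C := Ab.{u}) (X := X.carrier) (Pre A M).presheaf x)

/-- Sections of the free presheaf mapped to combinations of germs. -/
noncomputable def toSum (x : X) (V : X.Opens) (hV : x ∈ V) :
    (M.val.presheaf.obj (op V) →₀ A.obj.obj (op V)) →+ (MSt M x →₀ St A x) :=
  Finsupp.liftAddHom fun m =>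
    (Finsupp.singleAddHom (show MSt M x from TopCat.Presheaf.germ (C := Ab.{u}) (X := X.carrier) M.val.presheaf V x hV m)).comp
      (TopCat.Presheaf.germ (C := RingCat.{u}) (X := X.carrier) A.obj V x hV).hom.toAddMonoidHom

theorem toSum_single (x : X) (V : X.Opens) (hV : x ∈ V) (m : M.val.presheaf.obj (op V)) (a : A.obj.obj (op V)) :
    toSum A M x V hV (Finsupp.single m a) =
      Finsupp.single (TopCat.Presheaf.germ (C := Ab.{u}) (X := X.carrier) M.val.presheaf V x hV m)
        (TopCat.Presheaf.germ (C := RingCat.{u}) (X := X.carrier) A.obj V x hV a) :=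
  Finsupp.liftAddHom_apply_single _ _ _

theorem toSum_res (x : X) {V W : X.Opens} (i : W ⟶ V) (hW : x ∈ W) (v : (Pre A M).obj (op V)) :
    toSum A M x W hW ((Pre A M).map i.op v) = toSum A M x V (i.le hW) v := by
  induction v using Finsupp.induction_linear with
  | zero => erw [map_zero]
  | add a b ha hb => erw [map_add, map_add, map_add, ha, hb]
  | single m a =>
    have h : (Pre A M).map i.op (Finsupp.single m a) =
        (show (Pre A M).obj (op W) from Finsupp.single (M.val.presheaf.map i.op m) (A.obj.map i.op a)) := by
      have h1 : (Finsupp.single m a : M.val.presheaf.obj (op V) →₀ A.obj.obj (op V)) = a • Finsupp.single m 1 := by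
        rw [Finsupp.smul_single, smul_eq_mul, mul_one]
      erw [h1, PresheafOfModules.map_smul]
      erw [ModuleCat.freeDesc_apply]
      show _ • Finsupp.single _ 1 = _
      rw [Finsupp.smul_single, smul_eq_mul, mul_one]
      rfl
    erw [h, toSum_single, toSum_single, TopCat.Presheaf.germ_res_apply, TopCat.Presheaf.germ_res_apply]

/-- The comparison of the stalk of the free presheaf with combinations of germs. -/
noncomputable def toSumSt (x : X) : TopCat.Presheaf.stalk (C := Ab.{u}) (X := X.carrier) (Pre A M).presheaf x ⟶
    AddCommGrpCat.of (MSt M x →₀ St A x) :=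
  colimit.desc ((OpenNhds.inclusion x).op ⋙ (Pre A M).presheaf)
    { pt := AddCommGrpCat.of (MSt M x →₀ St A x)
      ι :=
        { app := fun V => AddCommGrpCat.ofHom (toSum A M x V.unop.1 V.unop.2)
          naturality := fun V W f => by
            ext v
            exact toSum_res A M x ((OpenNhds.inclusion x).map f.unop) W.unop.2 v } }

theorem toSumSt_germ (x : X) (V : X.Opens) (hV : x ∈ V) (v : (Pre A M).obj (op V)) :
    toSumSt A M x (TopCat.Presheaf.germ (C := Ab.{u}) (X := X.carrier) (Pre A M).presheaf V x hV v) = toSum A M x V hV v := by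
  have h := colimit.ι_desc
    ({ pt := AddCommGrpCat.of (MSt M x →₀ St A x)
       ι :=
        { app := fun V => AddCommGrpCat.ofHom (toSum A M x V.unop.1 V.unop.2)
          naturality := fun V W f => by
            ext v
            exact toSum_res A M x ((OpenNhds.inclusion x).map f.unop) W.unop.2 v } } :
      Cocone ((OpenNhds.inclusion x).op ⋙ (Pre A M).presheaf)) (op ⟨V, hV⟩)
  exact ConcreteCategory.congr_hom h v

/-- The stalk of the free presheaf is linearly embedded into combinations of germs. -/
noncomputable def embLin (x : X) : PSt A M x →ₗ[St A x] (MSt M x →₀ St A x) where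
  toFun := fun v => toSumSt A M x v
  map_add' := fun a b => map_add _ a b
  map_smul' := fun r v => by
    obtain ⟨U, hU, r', rfl⟩ := TopCat.Presheaf.germ_exist A.obj r
    obtain ⟨V, hV, v', rfl⟩ := TopCat.Presheaf.germ_exist (Pre A M).presheaf v
    let W := U ⊓ V
    have hW : x ∈ W := ⟨hU, hV⟩
    rw [RingHom.id_apply, ← TopCat.Presheaf.germ_res_apply A.obj (homOfLE inf_le_left : W ⟶ U) x hW r',
      ← TopCat.Presheaf.germ_res_apply (Pre A M).presheaf (homOfLE inf_le_right : W ⟶ V) x hW v']
    erw [← PresheafOfModules.germ_ringCat_smul (Pre A M) x W hW, toSumSt_germ, toSumSt_germ]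
    generalize (Pre A M).presheaf.map (homOfLE inf_le_right : W ⟶ V).op v' = w
    induction w using Finsupp.induction_linear with
    | zero => erw [smul_zero, map_zero, smul_zero]
    | add a b ha hb => erw [smul_add, map_add, map_add, smul_add, ha, hb]
    | single m a =>
      erw [Finsupp.smul_single, toSum_single, toSum_single, Finsupp.smul_single]
      exact congrArg _ (map_mul (TopCat.Presheaf.germ A.obj W x hW).hom _ a)

theorem injective_embLin (x : X) : Function.Injective (embLin A M x) := by
  classical
  have hrep : ∀ g : MSt M x, ∃ (V : X.Opens) (hV : x ∈ V) (m : M.val.presheaf.obj (op V)),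
      TopCat.Presheaf.germ (C := Ab.{u}) (X := X.carrier) M.val.presheaf V x hV m = g := fun g =>
    TopCat.Presheaf.germ_exist M.val.presheaf g
  choose V hV m hm using hrep
  let e : MSt M x → PSt A M x := fun g => TopCat.Presheaf.germ (C := Ab.{u}) (X := X.carrier) (Pre A M).presheaf (V g) x (hV g)
    (show (Pre A M).obj (op (V g)) from Finsupp.single (m g) 1)
  have he : ∀ (W : X.Opens) (hW : x ∈ W) (n : M.val.presheaf.obj (op W)),
      e (TopCat.Presheaf.germ (C := Ab.{u}) (X := X.carrier) M.val.presheaf W x hW n) =
        TopCat.Presheaf.germ (C := Ab.{u}) (X := X.carrier) (Pre A M).presheaf W x hW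
          (show (Pre A M).obj (op W) from Finsupp.single n 1) := by
    intro W hW n
    obtain ⟨O, hO, i, j, h⟩ := TopCat.Presheaf.germ_eq M.val.presheaf x (hV _) hW _ _ (hm _)
    show TopCat.Presheaf.germ (C := Ab.{u}) (X := X.carrier) (Pre A M).presheaf _ x (hV _) _ = _
    rw [← TopCat.Presheaf.germ_res_apply (Pre A M).presheaf i x hO,
      ← TopCat.Presheaf.germ_res_apply (Pre A M).presheaf j x hO]
    refine congrArg _ ?_
    erw [ModuleCat.freeDesc_apply, ModuleCat.freeDesc_apply]
    show Finsupp.single _ _ = Finsupp.single _ _
    exact congrArg (fun z => Finsupp.single z 1) h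
  let p : (MSt M x →₀ St A x) →ₗ[St A x] PSt A M x := Finsupp.linearCombination (St A x) e
  refine Function.LeftInverse.injective (g := p) fun v => ?_
  obtain ⟨W, hW, w, rfl⟩ := TopCat.Presheaf.germ_exist (Pre A M).presheaf v
  show p (toSumSt A M x _) = _
  rw [toSumSt_germ]
  induction w using Finsupp.induction_linear with
  | zero => erw [map_zero, map_zero]
  | add a b ha hb => erw [map_add, map_add, map_add, ha, hb]
  | single n a =>
    erw [toSum_single, Finsupp.linearCombination_single, he, ← PresheafOfModules.germ_ringCat_smul (Pre A M) x W hW]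
    refine congrArg _ ?_
    erw [Finsupp.smul_single, smul_eq_mul, mul_one]

theorem surjective_embLin (x : X) : Function.Surjective (embLin A M x) := fun f => by
  induction f using Finsupp.induction_linear with
  | zero => exact ⟨0, map_zero _⟩
  | add a b ha hb =>
    obtain ⟨a', rfl⟩ := ha; obtain ⟨b', rfl⟩ := hb
    exact ⟨a' + b', map_add _ _ _⟩
  | single g c =>
    obtain ⟨V, hV, m, rfl⟩ := TopCat.Presheaf.germ_exist M.val.presheaf g
    refine ⟨c • (show PSt A M x from TopCat.Presheaf.germ (C := Ab.{u}) (X := X.carrier) (Pre A M).presheaf V x hV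
      (show (Pre A M).obj (op V) from Finsupp.single m 1)), ?_⟩
    rw [map_smul]
    show c • toSumSt A M x _ = _
    erw [toSumSt_germ, toSum_single, map_one, Finsupp.smul_single, smul_eq_mul, mul_one]

/-- The free cover. -/
noncomputable abbrev Cov : SheafOfModules.{u} A :=
  (PresheafOfModules.sheafification (R := A) (𝟙 A.obj)).obj (Pre A M)

/-- The stalks of the free cover are free. -/
noncomputable def covEquiv (x : X) : MSt (Cov A M) x ≃ₗ[St A x] (MSt M x →₀ St A x) :=
  let η : Pre A M ⟶ (Cov A M).val := (PresheafOfModules.sheafificationAdjunction (R := A) (𝟙 A.obj)).unit.app (Pre A M)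
  let L := Groth.Agent.S15075.stalkLin (X := X.carrier) η x
  haveI : IsIso ((TopCat.Presheaf.stalkFunctor Ab.{u} x).map
      (CategoryTheory.toSheafify (Opens.grothendieckTopology X) (Pre A M).presheaf)) :=
    TopCat.Presheaf.stalkFunctor_map_unit_toSheafify_isIso x Ab.{u} (Pre A M).presheaf
  (LinearEquiv.ofBijective L ((ConcreteCategory.isIso_iff_bijective _).1 this)).symm.trans
    (LinearEquiv.ofBijective (embLin A M x) ⟨injective_embLin A M x, surjective_embLin A M x⟩)

end Groth.Agent.S15073

namespace Groth.Agent.S15073

/-- Let X be a scheme, A a sheaf of rings on X (not necessarily commutative) and φ : O_X → A a morphism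
of sheaves of rings with central image, such that A regarded as an O_X-module through φ is flat (all
stalks flat over the local rings). Then for every sheaf of A-modules M there exist a sheaf of
A-modules F, flat as an O_X-module through φ, and an epimorphism of A-modules F → M. (The published
statement is for a maximal order on a smooth projective surface, which is locally free over O_X; the
argument uses only that A is flat over O_X, and the row is stated for any scheme and any such sheaf
of algebras.) -/
theorem result (X : Scheme.{u})
    (A : Sheaf (Opens.grothendieckTopology X) RingCat.{u}) (φ : X.ringCatSheaf ⟶ A)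
    (hcen : ∀ (U : (Opens X)ᵒᵖ) (s : X.ringCatSheaf.obj.obj U) (a : A.obj.obj U),
      φ.hom.app U s * a = a * φ.hom.app U s)
    (hA : FlatMod.IsFlat (X := X) ((SheafOfModules.restrictScalars φ).obj (SheafOfModules.unit A)))
    (M : SheafOfModules.{u} A) :
    ∃ (F : SheafOfModules.{u} A) (π : F ⟶ M), Epi π ∧
      FlatMod.IsFlat (X := X) ((SheafOfModules.restrictScalars φ).obj F) := by
  classical
  let adj := PresheafOfModules.sheafificationAdjunction (R := A) (𝟙 A.obj)
  let d : Pre A M ⟶ M.val := PresheafOfModules.freeObjDesc (𝟙 _)
  let π : Cov A M ⟶ M := (adj.homEquiv _ M).symm d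
  refine ⟨Cov A M, π, ⟨fun {Z} g h e => ?_⟩, fun x => ?_⟩
  · refine SheafOfModules.Hom.ext (PresheafOfModules.hom_ext fun U => ?_)
    ext m
    have hfac : adj.unit.app (Pre A M) ≫ π.val = d := (adj.homEquiv (Pre A M) M).apply_symm_apply d
    let z : (Pre A M).obj U := (show (Pre A M).obj U from Finsupp.single m 1)
    have hz : (d.app U).hom z = m := ModuleCat.freeDesc_apply _ _
    rw [← hz, ← hfac]
    exact congrArg (fun F : Cov A M ⟶ Z => (F.val.app U).hom ((adj.unit.app (Pre A M)).app U z)) e
  · let R := X.presheaf.stalk x
    let Uo : X.Modules := (SheafOfModules.restrictScalars φ).obj (SheafOfModules.unit A)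
    let Fo : X.Modules := (SheafOfModules.restrictScalars φ).obj (Cov A M)
    haveI : Module.Flat R (Uo.presheaf.stalk x) := hA x
    choose cR hcR using S15076.smul_eq φ x
    let E : S15076.MSt (Cov A M) x ≃ₗ[S15076.St A x] (S15076.MSt M x →₀ S15076.MSt (SheafOfModules.unit A) x) :=
      (covEquiv A M x).trans (Finsupp.mapRange.linearEquiv (S15076.unitEquiv A x))
    let i : Fo.presheaf.stalk x →ₗ[R] (S15076.MSt M x →₀ Uo.presheaf.stalk x) :=
      { toFun := fun m => E m
        map_add' := map_add E
        map_smul' := fun r m => by
          rw [RingHom.id_apply, hcR r (Cov A M) m]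
          refine (map_smul E (cR r) (show S15076.MSt (Cov A M) x from m)).trans (Finsupp.ext fun a => ?_)
          show cR r • (E m a) = r • (show Uo.presheaf.stalk x from E m a)
          exact (hcR r (SheafOfModules.unit A) _).symm }
    haveI : Module.Flat R (S15076.MSt M x →₀ Uo.presheaf.stalk x) :=
      Module.Flat.of_linearEquiv (finsuppLequivDFinsupp R)
    exact Module.Flat.of_linearEquiv (LinearEquiv.ofBijective i E.bijective)

end Groth.Agent.S15073
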