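import Groth.Statements.S15074
import Groth.Agent.H3CAlg.AlgSky
import Groth.Agent.H10Coh.ModGroth

set_option autoImplicit false
universe u
open CategoryTheory AlgebraicGeometry TopologicalSpace Opposite
open OrdSurf

set_option backward.isDefEq.respectTransparency.types false

namespace Groth.Agent.S15074

open CategoryTheory.Limits CategoryTheory.Abelian

variable {C D : Type*} [Category C] [Abelian C] [Category D] [Abelian D] [EnoughInjectives C]

/-- An exact functor with a left adjoint that preserves injectives induces bijections on `Ext`. -/
theorem ext_adj_bijective [HasExt.{u} C] [HasExt.{u} D] (R : C ⥤ D) [R.Additive] [PreservesFiniteLimits R]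
    [PreservesFiniteColimits R] {L : D ⥤ C} (adj : L ⊣ R) (hinj : ∀ J : C, Injective J → Injective (R.obj J))
    (M : D) (i : ℕ) : ∀ N : C, Function.Bijective (fun e : Ext.{u} (L.obj M) N i =>
      (Ext.mk₀ (adj.unit.app M)).comp (e.mapExactFunctor R) (zero_add i)) := by
  induction i with
  | zero =>
    intro N
    refine ⟨fun a b h => ?_, fun y => ?_⟩
    · obtain ⟨f, rfl⟩ := (Ext.mk₀_bijective _ _).2 a
      obtain ⟨g, rfl⟩ := (Ext.mk₀_bijective _ _).2 b
      simp only [Ext.mapExactFunctor_mk₀, Ext.mk₀_comp_mk₀] at h
      have h' := (Ext.mk₀_bijective _ _).1 h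
      rw [(adj.homEquiv M N).injective ((adj.homEquiv_unit M N f).trans (h'.trans (adj.homEquiv_unit M N g).symm))]
    · obtain ⟨f, rfl⟩ := (Ext.mk₀_bijective _ _).2 y
      refine ⟨Ext.mk₀ ((adj.homEquiv _ _).symm f), ?_⟩
      simp only [Ext.mapExactFunctor_mk₀, Ext.mk₀_comp_mk₀]
      exact congrArg Ext.mk₀ ((adj.homEquiv_unit M N _).symm.trans (Equiv.apply_symm_apply _ f))
  | succ i ih =>
    intro N
    let S := ShortComplex.mk (Injective.ι N) (cokernel.π (Injective.ι N)) (cokernel.condition _)
    have hS : S.ShortExact := { exact := ShortComplex.exact_of_g_is_cokernel _ (cokernelIsCokernel _) }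
    haveI : Injective S.X₂ := inferInstanceAs (Injective (Injective.under N))
    haveI : Injective (S.map R).X₂ := hinj S.X₂ inferInstance
    have natδ : ∀ x : Ext.{u} (L.obj M) S.X₃ i,
        (Ext.mk₀ (adj.unit.app M)).comp ((x.comp hS.extClass rfl : Ext.{u} (L.obj M) S.X₁ (i + 1)).mapExactFunctor R)
          (zero_add _) =
        ((Ext.mk₀ (adj.unit.app M)).comp (x.mapExactFunctor R) (zero_add i)).comp (hS.map_of_exact R).extClass rfl := by
      intro x
      rw [Ext.mapExactFunctor_comp, Ext.mapExactFunctor_extClass]
      exact (Ext.comp_assoc _ _ _ _ _ (by omega)).symm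
    refine ⟨fun a b h => ?_, fun y => ?_⟩
    · rw [← sub_eq_zero]
      obtain ⟨x, hx⟩ := Ext.covariant_sequence_exact₁ _ hS (a - b) (Ext.eq_zero_of_injective _) rfl
      rw [← hx]
      have h0 : (Ext.mk₀ (adj.unit.app M)).comp
          ((a - b : Ext.{u} (L.obj M) N (i + 1)).mapExactFunctor R) (zero_add _) = 0 := by
        have h1 : (a - b : Ext.{u} (L.obj M) N (i + 1)).mapExactFunctor R =
            a.mapExactFunctor R - b.mapExactFunctor R := map_sub (R.mapExtAddHom (L.obj M) N (i + 1)) a b
        rw [h1]
        exact (map_sub ((Ext.mk₀ (adj.unit.app M)).precomp (R.obj N) (zero_add (i + 1))) _ _).trans (sub_eq_zero.mpr h)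
      rw [← hx] at h0
      rw [natδ] at h0
      obtain ⟨y, hy⟩ := Ext.covariant_sequence_exact₃ _ (hS.map_of_exact R) _ rfl h0
      obtain ⟨z, rfl⟩ := (ih S.X₂).2 y
      have : x = z.comp (Ext.mk₀ S.g) (add_zero i) := (ih S.X₃).1 (by
        dsimp only
        rw [Ext.mapExactFunctor_comp, Ext.mapExactFunctor_mk₀, ← Ext.comp_assoc_of_third_deg_zero]
        exact hy.symm)
      rw [this, Ext.comp_assoc_of_second_deg_zero, hS.comp_extClass, Ext.comp_zero]
    · obtain ⟨x, hx⟩ := Ext.covariant_sequence_exact₁ _ (hS.map_of_exact R) y (Ext.eq_zero_of_injective _) rfl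
      obtain ⟨z, rfl⟩ := (ih S.X₃).2 x
      exact ⟨z.comp hS.extClass rfl, (natδ z).trans hx⟩

end Groth.Agent.S15074

namespace Groth.Agent.S15074

/-- Let X be a scheme, A a sheaf of rings on X (not necessarily commutative) and φ : O_X → A a morphism
of sheaves of rings with central image, such that A regarded as an O_X-module through φ is finite
locally free; let L be a functor from O_X-modules to sheaves of A-modules together with an
adjunction making it left adjoint to restriction of scalars along φ (so L is extension of scalars M
↦ A ⊗ M, determined up to isomorphism). Assume, as instance hypotheses, that restriction of scalars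
along φ preserves finite limits and finite colimits, and that the two module categories have Ext
groups. Then for every O_X-module M, every sheaf of A-modules N and every i, the map from Ext^i(L M,
N), computed in sheaves of A-modules, to Ext^i(M, N), computed in O_X-modules with N regarded as an
O_X-module through φ, which applies restriction of scalars to an Ext class and then composes it with
the degree-zero class of the unit M → L M of the adjunction, is bijective. (The published statement
is for a maximal order on a smooth projective surface and coherent modules over it, and asserts that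
the two Ext groups are isomorphic; this row is stated for any scheme, any central sheaf of algebras
that is finite locally free over O_X and arbitrary modules, with M an O_X-module, and names the
comparison map.) -/
theorem result (X : Scheme.{u})
    (A : Sheaf (Opens.grothendieckTopology X) RingCat.{u}) (φ : X.ringCatSheaf ⟶ A)
    (hcen : ∀ (U : (Opens X)ᵒᵖ) (s : X.ringCatSheaf.obj.obj U) (a : A.obj.obj U),
      φ.hom.app U s * a = a * φ.hom.app U s)
    (hA : FlatMod.IsFinLocFree (X := X) ((SheafOfModules.restrictScalars φ).obj (SheafOfModules.unit A)))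
    [Limits.PreservesFiniteLimits (SheafOfModules.restrictScalars.{u} φ)]
    [Limits.PreservesFiniteColimits (SheafOfModules.restrictScalars.{u} φ)]
    (L : SheafOfModules.{u} X.ringCatSheaf ⥤ SheafOfModules.{u} A)
    (adj : L ⊣ SheafOfModules.restrictScalars φ)
    [HasExt.{u} (SheafOfModules.{u} A)] [HasExt.{u} (SheafOfModules.{u} X.ringCatSheaf)]
    (M : SheafOfModules.{u} X.ringCatSheaf) (N : SheafOfModules.{u} A) (i : ℕ) :
    Function.Bijective (fun e : Abelian.Ext.{u} (L.obj M) N i =>
      (Abelian.Ext.mk₀ (adj.unit.app M)).comp
        (e.mapExactFunctor (SheafOfModules.restrictScalars φ)) (zero_add i)) := by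
  haveI := H10Coh.enoughInjectives_sheafOfModules A
  exact ext_adj_bijective _ adj (fun J hJ => by
    haveI := H3CAlg.AlgSky.mono_map adj hcen hA
    exact Injective.injective_of_adjoint adj J) M i N

end Groth.Agent.S15074
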