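import Groth.Statements.S15077
-- import your own Groth.Agent.* helpers here
import Groth.Agent.H23KS.RankOne
import Groth.Agent.H24Formal.ModPow
import Groth.Agent.LeadFF.ProIso.Quot
import Groth.Agent.H22Alg.VolPush
import Groth.Agent.H29RR.MonoHom
import Groth.Agent.H27Weil.Dimension
import Mathlib

set_option autoImplicit false
universe u
open CategoryTheory CategoryTheory.Limits AlgebraicGeometry
open OrdSurf

namespace Groth.Agent.S15077

open Limits

variable {C : Type*} [Category C] [Preadditive C] [HasBinaryBiproducts C]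

/-- Exchange the summands in pairs. -/
noncomputable def perm₁ (a b c d : C) : (a ⊞ b ⊞ c ⊞ d) ≅ (b ⊞ a ⊞ d ⊞ c) where
  hom := biprod.lift (biprod.snd ≫ biprod.fst) (biprod.lift biprod.fst
    (biprod.lift (biprod.snd ≫ biprod.snd ≫ biprod.snd) (biprod.snd ≫ biprod.snd ≫ biprod.fst)))
  inv := biprod.lift (biprod.snd ≫ biprod.fst) (biprod.lift biprod.fst
    (biprod.lift (biprod.snd ≫ biprod.snd ≫ biprod.snd) (biprod.snd ≫ biprod.snd ≫ biprod.fst)))
  hom_inv_id := by ext <;> simp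
  inv_hom_id := by ext <;> simp

/-- Exchange the two pairs of summands. -/
noncomputable def perm₂ (a b c d : C) : (a ⊞ b ⊞ c ⊞ d) ≅ (c ⊞ d ⊞ a ⊞ b) where
  hom := biprod.lift (biprod.snd ≫ biprod.snd ≫ biprod.fst) (biprod.lift (biprod.snd ≫ biprod.snd ≫ biprod.snd)
    (biprod.lift biprod.fst (biprod.snd ≫ biprod.fst)))
  inv := biprod.lift (biprod.snd ≫ biprod.snd ≫ biprod.fst) (biprod.lift (biprod.snd ≫ biprod.snd ≫ biprod.snd)
    (biprod.lift biprod.fst (biprod.snd ≫ biprod.fst)))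
  hom_inv_id := by ext <;> simp
  inv_hom_id := by ext <;> simp

/-- An object with division-ring endomorphisms that is a retract of a sum is a retract of a summand. -/
theorem retract_summand {L X Y : C} (hL : 𝟙 L ≠ 0) (hend : ∀ φ : L ⟶ L, φ ≠ 0 → IsIso φ)
    (i : L ⟶ X ⊞ Y) (r : X ⊞ Y ⟶ L) (h : i ≫ r = 𝟙 L) :
    (∃ (a : L ⟶ X) (b : X ⟶ L), a ≫ b = 𝟙 L) ∨ (∃ (a : L ⟶ Y) (b : Y ⟶ L), a ≫ b = 𝟙 L) := by
  have hsum : (i ≫ biprod.fst) ≫ biprod.inl ≫ r + (i ≫ biprod.snd) ≫ biprod.inr ≫ r = 𝟙 L := by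
    rw [Category.assoc, Category.assoc, ← Preadditive.comp_add, ← Category.assoc biprod.fst,
      ← Category.assoc biprod.snd, ← Preadditive.add_comp, biprod.total, Category.id_comp, h]
  by_cases h1 : (i ≫ biprod.fst) ≫ biprod.inl ≫ r = 0
  · rw [h1, zero_add] at hsum
    exact Or.inr ⟨_, _, hsum⟩
  · haveI := hend _ h1
    exact Or.inl ⟨i ≫ biprod.fst, (biprod.inl ≫ r) ≫ inv ((i ≫ biprod.fst) ≫ biprod.inl ≫ r),
      by rw [← Category.assoc]; exact IsIso.hom_inv_id _⟩

/-- A retract with nonzero identity of an object with division-ring endomorphisms is everything. -/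
theorem iso_of_retract {L X : C} (hL : 𝟙 L ≠ 0) (hend : ∀ φ : X ⟶ X, φ ≠ 0 → IsIso φ)
    (a : L ⟶ X) (b : X ⟶ L) (h : a ≫ b = 𝟙 L) : Nonempty (L ≅ X) := by
  have hne : b ≫ a ≠ 0 := fun e => hL (by
    have : (a ≫ b) ≫ a ≫ b = a ≫ (b ≫ a) ≫ b := by simp only [Category.assoc]
    rw [e, h, zero_comp, comp_zero, Category.id_comp] at this
    exact this)
  haveI := hend _ hne
  refine ⟨⟨a, b, h, ?_⟩⟩
  apply (cancel_epi (b ≫ a)).1
  rw [Category.comp_id, Category.assoc, ← Category.assoc a, h, Category.id_comp]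

end Groth.Agent.S15077

namespace Groth.Agent.S15077

/-- Let k be an algebraically closed field of characteristic zero and X a smooth projective surface over
k (an integral k-scheme, smooth over k, of dimension two, admitting a closed immersion over k into
some projective space P^n_k). Let I and J be invertible O_X-modules that are two-torsion, I ⊗ I ≅
O_X and J ⊗ J ≅ O_X, let K = I ⊗ J, and let F = O_X ⊕ I ⊕ J ⊕ K (so that O_X, I, J, K form a Klein
four-group of classes in Pic X when I, J, K are nontrivial and distinct). Then for every invertible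
O_X-module L, the O_X-modules F ⊗ L and F are isomorphic if and only if L is isomorphic to one of
O_X, I, J, K. (The published statement is for the abelian surface E_1 × E_2, with I and J pulled
back from two-torsion line bundles on the two elliptic curves and F the underlying module of the
quaternion algebra built from them; this row is stated on any smooth projective surface for any
two-torsion invertible I and J.) -/
theorem result (k : Type u) [Field k] [IsAlgClosed k] [CharZero k]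
    (X : Scheme.{u}) [X.Over (Spec (CommRingCat.of k))] [IsIntegral X]
    [Smooth (X ↘ Spec (CommRingCat.of k))] (hdim : topologicalKrullDim X = 2)
    (hproj : ∃ (n : ℕ) (ι : X ⟶ CohB1.ProjSpace n k), IsClosedImmersion ι ∧
      ι ≫ CohB1.ProjSpace.toSpec n k = X ↘ Spec (CommRingCat.of k))
    (I J : X.Modules) (hI : PicF.IsInvertible I) (hJ : PicF.IsInvertible J)
    (hI2 : Nonempty (CohB1.tensorMod I I ≅ Coh.structureModule X))
    (hJ2 : Nonempty (CohB1.tensorMod J J ≅ Coh.structureModule X))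
    (L : X.Modules) (hL : PicF.IsInvertible L) :
    Nonempty (CohB1.tensorMod (Coh.structureModule X ⊞ I ⊞ J ⊞ CohB1.tensorMod I J) L ≅
        Coh.structureModule X ⊞ I ⊞ J ⊞ CohB1.tensorMod I J) ↔
      (Nonempty (L ≅ Coh.structureModule X) ∨ Nonempty (L ≅ I) ∨ Nonempty (L ≅ J) ∨
        Nonempty (L ≅ CohB1.tensorMod I J)) := by
  classical
  obtain ⟨N, emb, hemb, hembk⟩ := hproj
  haveI : IsProper (CohB1.ProjSpace.toSpec N k) := H27Weil.isProper_toSpec N k
  haveI : IsProper (X ↘ Spec (CommRingCat.of k)) := hembk ▸ inferInstance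
  haveI : IsLocallyNoetherian X := LocallyOfFiniteType.isLocallyNoetherian (X ↘ Spec (CommRingCat.of k))
  have hIJ := H11Ample.isInvertible_tensor hI hJ
  have hne : ∀ {M : X.Modules}, PicF.IsInvertible M → ¬ IsZero M := fun {M} hM hz => by
    obtain ⟨-, -, hr⟩ := H25Par.finrank_stalk (H29RR.rank_one_of_isInvertible hM) (genericPoint X)
    haveI : Subsingleton ((DerSch.stalkFunctor X (genericPoint X)).obj M) :=
      ModuleCat.isZero_iff_subsingleton.1 ((DerSch.stalkFunctor X (genericPoint X)).map_isZero hz)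
    have h0 : Module.finrank (X.presheaf.stalk (genericPoint X)) ((DerSch.stalkFunctor X (genericPoint X)).obj M) = 0 :=
      Module.finrank_zero_of_subsingleton
    exact one_ne_zero ((show Module.finrank (X.presheaf.stalk (genericPoint X)) ((DerSch.stalkFunctor X (genericPoint X)).obj M) = 1 from hr).symm.trans h0)
  have hid : ∀ {M : X.Modules}, PicF.IsInvertible M → 𝟙 M ≠ 0 := fun {M} hM e =>
    hne hM ((IsZero.iff_id_eq_zero _).2 e)
  have hend : ∀ {M : X.Modules}, PicF.IsInvertible M → ∀ φ : M ⟶ M, φ ≠ 0 → IsIso φ := fun {M} hM φ hφ => by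
    obtain ⟨c, rfl⟩ := H23KS.end_invertible_scalar (K := k) hM (hne hM) φ
    have hc : c ≠ 0 := fun e => hφ (e ▸ LeadFF.ProIso.smulMod_zero M)
    exact ⟨⟨Formal.smulMod k M c⁻¹, by rw [H24Formal.smulMod_mul, inv_mul_cancel₀ hc, LeadFF.ProIso.smulMod_one],
      by rw [H24Formal.smulMod_mul, mul_inv_cancel₀ hc, LeadFF.ProIso.smulMod_one]⟩⟩
  let B := (DCoh.tensorBi (X := X)).flip.obj L
  haveI : B.Additive := inferInstanceAs (((DCoh.tensorBi (X := X)).flip.obj L).Additive)
  let u : CohB1.tensorMod (Coh.structureModule X) L ≅ L := H10Coh.Tw.leftUnitIso L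
  haveI : PreservesFiniteBiproducts B := Functor.preservesFiniteBiproductsOfAdditive _
  haveI : PreservesBinaryBiproducts B := preservesBinaryBiproducts_of_preservesBiproducts B
  let split : CohB1.tensorMod (Coh.structureModule X ⊞ I ⊞ J ⊞ CohB1.tensorMod I J) L ≅
      (CohB1.tensorMod (Coh.structureModule X) L ⊞ CohB1.tensorMod I L ⊞ CohB1.tensorMod J L ⊞
        CohB1.tensorMod (CohB1.tensorMod I J) L) :=
    B.mapBiprod (Coh.structureModule X) (I ⊞ J ⊞ CohB1.tensorMod I J) ≪≫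
      biprod.mapIso (Iso.refl _) (B.mapBiprod I (J ⊞ CohB1.tensorMod I J) ≪≫
        biprod.mapIso (Iso.refl _) (B.mapBiprod J (CohB1.tensorMod I J)))
  constructor
  · rintro ⟨e⟩
    let i : L ⟶ (Coh.structureModule X ⊞ I ⊞ J ⊞ CohB1.tensorMod I J) := u.inv ≫ biprod.inl ≫ split.inv ≫ e.hom
    let r : (Coh.structureModule X ⊞ I ⊞ J ⊞ CohB1.tensorMod I J) ⟶ L := e.inv ≫ split.hom ≫ biprod.fst ≫ u.hom
    have hir : i ≫ r = 𝟙 L := by
      simp only [i, r, Category.assoc, e.hom_inv_id_assoc, split.inv_hom_id_assoc, biprod.inl_fst_assoc,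
        u.inv_hom_id]
    rcases retract_summand (hid hL) (hend hL) i r hir with ⟨a, b, h⟩ | ⟨a, b, h⟩
    · exact Or.inl (iso_of_retract (hid hL) (hend H11Ample.isInvertible_structureModule) a b h)
    rcases retract_summand (hid hL) (hend hL) a b h with ⟨a, b, h⟩ | ⟨a, b, h⟩
    · exact Or.inr (Or.inl (iso_of_retract (hid hL) (hend hI) a b h))
    rcases retract_summand (hid hL) (hend hL) a b h with ⟨a, b, h⟩ | ⟨a, b, h⟩
    · exact Or.inr (Or.inr (Or.inl (iso_of_retract (hid hL) (hend hJ) a b h)))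
    · exact Or.inr (Or.inr (Or.inr (iso_of_retract (hid hL) (hend hIJ) a b h)))
  · intro h
    obtain ⟨eI⟩ := hI2
    obtain ⟨eJ⟩ := hJ2
    let T := fun {P Q : X.Modules} (a : P ≅ Q) (M : X.Modules) => PicGrp.tensorModIso (Iso.refl M) a
    have J_I : CohB1.tensorMod J I ≅ CohB1.tensorMod I J := H10Coh.Tw.commIso J I
    have IJ_J : CohB1.tensorMod (CohB1.tensorMod I J) J ≅ I :=
      H10Coh.Tw.assoc I J J ≪≫ T eJ I ≪≫ H10Coh.Tw.commIso _ _ ≪≫ H10Coh.Tw.leftUnitIso I
    have IJ_I : CohB1.tensorMod (CohB1.tensorMod I J) I ≅ J :=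
      PicGrp.tensorModIso (H10Coh.Tw.commIso I J) (Iso.refl I) ≪≫
        H10Coh.Tw.assoc J I I ≪≫ T eI J ≪≫ H10Coh.Tw.commIso _ _ ≪≫ H10Coh.Tw.leftUnitIso J
    rcases h with ⟨⟨e⟩⟩ | ⟨⟨e⟩⟩ | ⟨⟨e⟩⟩ | ⟨⟨e⟩⟩
    · exact ⟨T e _ ≪≫ H10Coh.Tw.commIso _ _ ≪≫ H10Coh.Tw.leftUnitIso _⟩
    · exact ⟨split ≪≫ biprod.mapIso (u ≪≫ e) (biprod.mapIso (T e I ≪≫ eI)
        (biprod.mapIso (T e J ≪≫ J_I) (T e _ ≪≫ IJ_I))) ≪≫ perm₁ _ _ _ _⟩
    · exact ⟨split ≪≫ biprod.mapIso (u ≪≫ e) (biprod.mapIso (T e I)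
        (biprod.mapIso (T e J ≪≫ eJ) (T e _ ≪≫ IJ_J))) ≪≫ perm₂ _ _ _ _⟩
    · exact ⟨split ≪≫ biprod.mapIso (u ≪≫ e) (biprod.mapIso
        (T e I ≪≫ (H10Coh.Tw.assoc I I J).symm ≪≫ PicGrp.tensorModIso eI (Iso.refl J) ≪≫ H10Coh.Tw.leftUnitIso J)
        (biprod.mapIso (T e J ≪≫ H10Coh.Tw.commIso _ _ ≪≫ IJ_J)
          (T e _ ≪≫ (H10Coh.Tw.assoc (CohB1.tensorMod I J) I J).symm ≪≫
            PicGrp.tensorModIso IJ_I (Iso.refl J) ≪≫ eJ))) ≪≫ perm₂ _ _ _ _ ≪≫ perm₁ _ _ _ _⟩

end Groth.Agent.S15077
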