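import Groth.Statements.S15079
import Groth.Agent.H17.MovLem.Translate
-- import your own Groth.Agent.* helpers here

set_option autoImplicit false
universe u v
open MovLem

namespace Groth.Agent.S15079

/-- Let k be an infinite perfect field, r, m ≥ 1, and let f be an irreducible polynomial in t over
k[x_1, …, x_r] whose constant term in t is a unit of k[x_1, …, x_r], so that the hypersurface Z : f
= 0 in affine (r+1)-space with coordinates x_1, …, x_r, t is integral and does not meet the divisor
t = 0 (the modulus condition in cubical degree one). Then there are a nonzero polynomial h in k[x_1,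
…, x_r] and an integer s₀ such that for every s ≥ s₀, every field K over k and every point g of K^r
with h(g) ≠ 0, the translate of Z_K by the automorphism x_i ↦ x_i + t^{s(m+1)} g_i, t ↦ t is finite
and surjective over affine r-space over K: the quotient of K[x_1, …, x_r][t] by the translated
equation is a finitely generated K[x_1, …, x_r]-module and K[x_1, …, x_r] maps injectively into it.
(The published statement allows every nonzero point g of affine r-space; for r = 2 and f = x_1 t − 1
the point g = (0, 1) translates Z to itself, which is not finite over the affine plane, so the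
conclusion is stated here for g in a nonempty open subset h ≠ 0, which is what the published proof
establishes.) -/
theorem result
    {k : Type u} [Field k] [Infinite k] [PerfectField k] (r m : ℕ) (hr : 1 ≤ r) (hm : 1 ≤ m)
    (f : Polynomial (MvPolynomial (Fin r) k)) (hirr : Irreducible f) (h0 : IsUnit (f.coeff 0)) :
    ∃ h : MvPolynomial (Fin r) k, h ≠ 0 ∧ ∃ s₀ : ℕ, ∀ s : ℕ, s₀ ≤ s →
      ∀ (K : Type v) [Field K] [Algebra k K] (g : Fin r → K), MvPolynomial.aeval g h ≠ 0 →
        ∀ F : Polynomial (MvPolynomial (Fin r) K),
          F = Polynomial.eval₂ (MvPolynomial.aeval (fun i : Fin r => Polynomial.C (MvPolynomial.X i) + Polynomial.C (MvPolynomial.C (g i)) * Polynomial.X ^ (s * (m + 1))) : MvPolynomial (Fin r) k →ₐ[k] Polynomial (MvPolynomial (Fin r) K)).toRingHom Polynomial.X f →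
          Module.Finite (MvPolynomial (Fin r) K) (Polynomial (MvPolynomial (Fin r) K) ⧸ Ideal.span {F}) ∧
          Function.Injective ((Ideal.Quotient.mk (Ideal.span {F})).comp (algebraMap (MvPolynomial (Fin r) K) (Polynomial (MvPolynomial (Fin r) K)))) := by
  have hf : f ≠ 0 := hirr.ne_zero
  have hpos : 0 < f.natDegree := by
    rcases Nat.eq_zero_or_pos f.natDegree with h | h
    · exact absurd (Polynomial.eq_C_of_natDegree_eq_zero h ▸ Polynomial.isUnit_C.2 h0) hirr.not_isUnit
    · exact h
  obtain ⟨h, hh, H⟩ := H17.MovLem.leadingCoeff_twist.{u, v} f hf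
  refine ⟨h, hh, f.natDegree + 1, fun s hs K _ _ g hg F hF => ?_⟩
  obtain ⟨c, hc, hl, hd⟩ := H (s * (m + 1)) (hs.trans (Nat.le_mul_of_pos_right s m.succ_pos)) K g hg
  have hl' : F.leadingCoeff = MvPolynomial.C c := hF ▸ hl
  have hd' : 0 < F.natDegree := hF ▸ hd hpos
  have hu : IsUnit F.leadingCoeff := hl' ▸ (isUnit_iff_ne_zero.2 hc).map MvPolynomial.C
  refine ⟨?_, ?_⟩
  · have hm : (Polynomial.C (↑hu.unit⁻¹ : MvPolynomial (Fin r) K) * F).Monic :=
      Polynomial.monic_C_mul_of_mul_leadingCoeff_eq_one hu.val_inv_mul
    have := hm.finite_quotient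
    rwa [Ideal.span_singleton_mul_left_unit (Polynomial.isUnit_C.2 (Units.isUnit _))] at this
  · rw [injective_iff_map_eq_zero]
    intro p hp
    obtain ⟨q, hq⟩ := Ideal.mem_span_singleton.1 (Ideal.Quotient.eq_zero_iff_mem.1 hp)
    by_contra hp0
    have hne : F * q ≠ 0 := hq ▸ (Polynomial.C_ne_zero.2 hp0)
    have := congrArg Polynomial.natDegree hq
    rw [Polynomial.natDegree_mul (left_ne_zero_of_mul hne) (right_ne_zero_of_mul hne)] at this
    simp at this
    omega

end Groth.Agent.S15079
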