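import Groth.Statements.S15083
import Groth.Agent.H17.Imports
import Mathlib.RingTheory.Ideal.AssociatedPrime.Localization
import Mathlib.LinearAlgebra.Matrix.SpecialLinearGroup
import Mathlib.LinearAlgebra.Matrix.Transvection
import Mathlib.RingTheory.IntegralClosure.IntegrallyClosed
import Mathlib.RingTheory.Length
import Mathlib.RingTheory.Nakayama
import Mathlib.RingTheory.LocalRing.Basic

set_option autoImplicit false
universe u
open MovLem

namespace Groth.Agent.S15083

open CategoryTheory Limits AlgebraicGeometry TopologicalSpace

/-- Let K be a field and r ≥ 1. For every element A of the special linear group SL_{r+1}(K) there is an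
algebraic path in SL_{r+1} from the identity to A defined over K: a matrix M of determinant 1 with
entries in the polynomial ring K[y] such that M(0) is the identity matrix and M(1) = A. (The
published statement takes K to be the function field of SL_{r+1} over the ground field, A its
generic point viewed as a K-rational point, and the parameter space to be the projective line minus
the point 1, with endpoints 0 and ∞; this row gives the path for an arbitrary K-point A on the
affine line with endpoints 0 and 1, which is what the published construction provides before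
composing with the coordinate change y ↦ y/(y − 1).) -/
theorem result
    (K : Type u) [Field K] (r : ℕ) (hr : 1 ≤ r)
    (A : Matrix.SpecialLinearGroup (Fin (r + 1)) K) :
    ∃ M : Matrix.SpecialLinearGroup (Fin (r + 1)) (Polynomial K),
      Matrix.SpecialLinearGroup.map (Polynomial.evalRingHom (0 : K)) M = 1 ∧
      Matrix.SpecialLinearGroup.map (Polynomial.evalRingHom (1 : K)) M = A := by
  classical
  let ev : K → (Polynomial K →+* K) := fun a => Polynomial.evalRingHom a
  let G : Matrix (Fin (r + 1)) (Fin (r + 1)) K → Prop := fun B => ∃ M : Matrix (Fin (r + 1)) (Fin (r + 1)) (Polynomial K),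
    M.det = 1 ∧ M.map (ev 0) = 1 ∧ M.map (ev 1) = B
  have hmul : ∀ B C, G B → G C → G (B * C) := by
    rintro _ _ ⟨M, h1, h2, rfl⟩ ⟨M', h1', h2', rfl⟩
    exact ⟨M * M', by rw [Matrix.det_mul, h1, h1', one_mul], by rw [Matrix.map_mul, h2, h2', one_mul], Matrix.map_mul⟩
  have hone : G 1 := ⟨1, Matrix.det_one, Matrix.map_one _ (map_zero _) (map_one _), Matrix.map_one _ (map_zero _) (map_one _)⟩
  have htr : ∀ i j (c : K), i ≠ j → G (Matrix.transvection i j c) := by
    intro i j c hij
    have hmap : ∀ a : K, (Matrix.transvection i j (Polynomial.C c * Polynomial.X)).map (ev a) = Matrix.transvection i j (c * a) := by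
      intro a
      rw [Matrix.transvection, Matrix.transvection, Matrix.map_add _ (map_add _), Matrix.map_one _ (map_zero _) (map_one _)]
      congr 1
      ext k l
      simp [Matrix.single, ev, apply_ite (Polynomial.eval a)]
    exact ⟨_, Matrix.det_transvection_of_ne i j hij _, by rw [hmap, mul_zero, Matrix.transvection_zero], by rw [hmap, mul_one]⟩
  have hlist : ∀ L : List (Matrix.TransvectionStruct (Fin (r + 1)) K), G (L.map Matrix.TransvectionStruct.toMatrix).prod := by
    intro L
    induction L with
    | nil => simpa using hone
    | cons t L ih => rw [List.map_cons, List.prod_cons]; exact hmul _ _ (htr t.i t.j t.c t.hij) ih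
  have hrot : ∀ (i j : Fin (r + 1)) (c : K) (d : Fin (r + 1) → K), i ≠ j → c ≠ 0 →
      G (Matrix.diagonal d) → G (Matrix.diagonal (Function.update (Function.update d i (c * d i)) j (c⁻¹ * d j))) := by
    intro i j c d hij hc hd
    let w : K → Matrix (Fin (r + 1)) (Fin (r + 1)) K := fun a =>
      Matrix.transvection i j a * Matrix.transvection j i (-a⁻¹) * Matrix.transvection i j a
    have hw : ∀ a, G (w a) := fun a => hmul _ _ (hmul _ _ (htr i j a hij) (htr j i _ hij.symm)) (htr i j a hij)
    have := hmul _ _ (hw c) (hmul _ _ (hw (-1)) hd)
    convert this using 1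
    ext a b
    simp only [w, mul_assoc]
    rcases eq_or_ne a i with rfl | hai
    · simp [hij, hij.symm, Matrix.diagonal_apply]
      rcases eq_or_ne a b with rfl | hab
      · simp [hij, hij.symm, Matrix.transvection, Matrix.one_apply, Matrix.single_apply]; field_simp; first | simp | ring
      · rcases eq_or_ne j b with rfl | hjb
        · simp [hab, hab.symm, Matrix.transvection, Matrix.one_apply, Matrix.single_apply]; field_simp; first | simp | ring
        · simp [hab, hjb, Matrix.transvection, Matrix.one_apply, Matrix.single_apply]
    · rcases eq_or_ne a j with rfl | haj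
      · simp [hij, hij.symm, Matrix.diagonal_apply]
        rcases eq_or_ne a b with rfl | hab
        · simp [hij, hij.symm, Matrix.transvection, Matrix.one_apply, Matrix.single_apply]
        · rcases eq_or_ne i b with rfl | hib
          · simp [hab, hab.symm, Matrix.transvection, Matrix.one_apply, Matrix.single_apply]; field_simp; first | simp | ring
          · simp [hab, hib, Matrix.transvection, Matrix.one_apply, Matrix.single_apply]
      · simp [hai, haj, Matrix.diagonal_apply]
        rcases eq_or_ne a b with rfl | hab
        · simp [Matrix.transvection, hai.symm]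
        · simp [Matrix.transvection, hai.symm, hab]
  have hdiag : ∀ (s : Finset (Fin (r + 1))) (d : Fin (r + 1) → K), (0 : Fin (r + 1)) ∉ s →
      (∀ i, i ∉ s → i ≠ 0 → d i = 1) → ∏ i, d i = 1 → G (Matrix.diagonal d) := by
    intro s
    induction s using Finset.induction_on with
    | empty =>
      intro d _ h1 hp
      have h0 : d 0 = 1 := by rw [← hp, Fintype.prod_eq_single 0 (fun i hi => h1 i (by simp) hi)]
      have : d = fun _ => 1 := funext fun i => (eq_or_ne i 0).elim (fun e => e ▸ h0) (h1 i (by simp))
      rw [this, Matrix.diagonal_one]; exact hone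
    | @insert i s his ih =>
      intro d h0s h1 hp
      have hi0 : i ≠ 0 := fun e => h0s (e ▸ Finset.mem_insert_self i s)
      have hdi : d i ≠ 0 := fun e => zero_ne_one ((Finset.prod_eq_zero (Finset.mem_univ i) e).symm.trans hp)
      let d' := Function.update (Function.update d i 1) 0 (d i * d 0)
      have hd'i : d' i = 1 := by simp [d', hi0]
      have hd'0 : d' 0 = d i * d 0 := by simp [d']
      have hd'o : ∀ k, k ≠ i → k ≠ 0 → d' k = d k := fun k a b => by simp [d', a, b]
      have hp' : ∏ k, d' k = 1 := by
        rw [← hp, ← Finset.mul_prod_erase _ d' (Finset.mem_univ i), ← Finset.mul_prod_erase _ d (Finset.mem_univ i),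
          ← Finset.mul_prod_erase _ d' (Finset.mem_erase.mpr ⟨hi0.symm, Finset.mem_univ 0⟩),
          ← Finset.mul_prod_erase _ d (Finset.mem_erase.mpr ⟨hi0.symm, Finset.mem_univ 0⟩), hd'i, hd'0, one_mul, mul_assoc]
        congr 2
        refine Finset.prod_congr rfl fun k hk => ?_
        simp only [Finset.mem_erase] at hk
        exact hd'o k hk.2.1 hk.1
      have hG' := ih d' (fun h => h0s (Finset.mem_insert_of_mem h)) (fun k hk hk0 => by
        rcases eq_or_ne k i with rfl | hki
        · exact hd'i
        · rw [hd'o k hki hk0]; exact h1 k (by simp [hki, hk]) hk0) hp'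
      have := hrot i 0 (d i) d' hi0 hdi hG'
      convert this using 2
      funext k
      rcases eq_or_ne k i with rfl | hki
      · simp [hi0, hd'i]
      · rcases eq_or_ne k 0 with rfl | hk0
        · rw [Function.update_self, hd'0, inv_mul_cancel_left₀ hdi]
        · simp [hki, hk0, hd'o k hki hk0]
  obtain ⟨L, L', D, hA⟩ := Matrix.Pivot.exists_list_transvec_mul_diagonal_mul_list_transvec (A : Matrix (Fin (r + 1)) (Fin (r + 1)) K)
  have hD : ∏ i, D i = 1 := by
    have := A.det_coe
    rwa [hA, Matrix.det_mul, Matrix.det_mul, Matrix.TransvectionStruct.det_toMatrix_prod,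
      Matrix.TransvectionStruct.det_toMatrix_prod, Matrix.det_diagonal, one_mul, mul_one] at this
  obtain ⟨M, h1, h2, h3⟩ : G A := by
    rw [hA]
    exact hmul _ _ (hmul _ _ (hlist L) (hdiag (Finset.univ.erase 0) D (by simp) (by simp) hD)) (hlist L')
  exact ⟨⟨M, h1⟩, Subtype.ext h2, Subtype.ext h3⟩

end Groth.Agent.S15083
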