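import Groth.Statements.S15084
import Groth.Agent.H17.Imports
import Mathlib.RingTheory.Ideal.AssociatedPrime.Localization
import Mathlib.LinearAlgebra.Matrix.SpecialLinearGroup
import Mathlib.LinearAlgebra.Matrix.Transvection
import Mathlib.RingTheory.IntegralClosure.IntegrallyClosed
import Mathlib.RingTheory.Length
import Mathlib.RingTheory.Nakayama
import Mathlib.RingTheory.LocalRing.Basic

set_option autoImplicit false
universe u
open MovLem

namespace Groth.Agent.S15084

open CategoryTheory Limits AlgebraicGeometry TopologicalSpace

/-- Let A be a Noetherian integrally closed domain with fraction field K, let B be a domain with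
fraction field L, and let A → B be an injective ring homomorphism, with K → L the induced map of
fraction fields, such that Spec B → Spec A is surjective (every prime ideal of A is the contraction
of a prime ideal of B). If a ∈ K is such that its image in L lies in B, then a ∈ A. (The published
statement: for a surjective morphism f : Y → X of normal integral separated schemes of finite type
over a perfect field and a Cartier divisor D on X, if f^*D is effective then D is effective; a
Cartier divisor is locally the divisor of a nonzero rational function a, effectivity of div(a) on a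
normal scheme means that a is a regular function, and this row is that local statement, which is
what the published proof establishes.) -/
theorem result
    (A B K L : Type u) [CommRing A] [IsDomain A] [IsNoetherianRing A] [IsIntegrallyClosed A]
    [CommRing B] [IsDomain B] [Field K] [Field L]
    [Algebra A B] [Algebra A K] [IsFractionRing A K] [Algebra B L] [IsFractionRing B L]
    [Algebra K L] [Algebra A L] [IsScalarTower A K L] [IsScalarTower A B L]
    (hinj : Function.Injective (algebraMap A B))
    (hsurj : ∀ p : Ideal A, p.IsPrime → ∃ q : Ideal B, q.IsPrime ∧ q.comap (algebraMap A B) = p)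
    (a : K) (ha : algebraMap K L a ∈ (algebraMap B L).range) :
    a ∈ (algebraMap A K).range := by
  let R : Submodule A K := LinearMap.range (Algebra.linearMap A K)
  by_contra hne
  have hne' : (R.mkQ a) ≠ 0 := fun h => hne ((Submodule.Quotient.mk_eq_zero R).mp h)
  let S : Submodule A (K ⧸ R) := Submodule.span A {R.mkQ a}
  let ā : S := ⟨R.mkQ a, Submodule.mem_span_singleton_self _⟩
  obtain ⟨p, hp, hle⟩ := exists_le_isAssociatedPrime_of_isNoetherianRing A ā (fun h => hne' congr(Subtype.val $h))
  obtain ⟨hpp, ⟨y, hyS⟩, hy⟩ := (isAssociatedPrime_iff (I := p)).mp hp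
  obtain ⟨x, rfl⟩ := Submodule.mem_span_singleton.mp hyS
  let b : K := x • a
  have hmem : ∀ c : A, c ∈ p ↔ c • b ∈ R := fun c => by
    rw [hy, Submodule.mem_colon_singleton, Submodule.mem_bot, Subtype.ext_iff]
    show c • x • R.mkQ a = 0 ↔ _
    rw [← map_smul, ← map_smul, Submodule.mkQ_apply, Submodule.Quotient.mk_eq_zero]
  have hp0 : p ≠ ⊥ := by
    obtain ⟨⟨num, den⟩, hnd⟩ := IsLocalization.surj (nonZeroDivisors A) a
    intro h0
    have hmem' : (den : A) ∈ (⊥ : Submodule A S).colon {ā} := by
      rw [Submodule.mem_colon_singleton, Submodule.mem_bot, Subtype.ext_iff]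
      show (den : A) • R.mkQ a = 0
      rw [← map_smul, Submodule.mkQ_apply, Submodule.Quotient.mk_eq_zero]
      refine ⟨num, ?_⟩
      rw [Algebra.linearMap_apply, Algebra.smul_def, mul_comm]
      exact hnd.symm
    exact nonZeroDivisors.ne_zero den.2 ((h0 ▸ hle) hmem' : (den : A) ∈ (⊥ : Ideal A))
  let P : Submodule A K := Submodule.map (Algebra.linearMap A K) p
  obtain ⟨c, hcp, s, hsp, hcs⟩ : ∃ c ∈ p, ∃ s ∉ p, algebraMap A K s = b * algebraMap A K c := by
    by_contra! hcon
    have hint : IsIntegral A b := by
      refine isIntegral_of_smul_mem_submodule P ?_ ((IsNoetherian.noetherian p).map _) b ?_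
      · intro h
        apply hp0
        refine (Submodule.eq_bot_iff _).mpr fun x hx => ?_
        have : Algebra.linearMap A K x ∈ P := Submodule.mem_map_of_mem hx
        rw [h, Submodule.mem_bot] at this
        exact IsFractionRing.injective A K (this.trans (map_zero _).symm)
      · rintro _ ⟨c, hc, rfl⟩
        obtain ⟨s, hs⟩ := (hmem c).mp hc
        rw [Algebra.linearMap_apply, Algebra.smul_def, mul_comm] at hs
        by_cases hsp : s ∈ p
        · exact ⟨s, hsp, by rw [Algebra.linearMap_apply, hs, smul_eq_mul]; rfl⟩
        · exact absurd hs (hcon c hc s hsp)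
    obtain ⟨b₀, hb₀⟩ := IsIntegrallyClosed.isIntegral_iff.mp hint
    exact hpp.ne_top ((Ideal.eq_top_iff_one p).mpr ((hmem 1).mpr ⟨b₀, by simpa using hb₀⟩))
  obtain ⟨q, hq, hqp⟩ := hsurj p hpp
  -- `b` lies in `B`
  have hbB : algebraMap K L b ∈ (algebraMap B L).range := by
    simp only [b, Algebra.smul_def, map_mul, ← IsScalarTower.algebraMap_apply A K L]
    exact mul_mem ⟨algebraMap A B x, (IsScalarTower.algebraMap_apply A B L x).symm⟩ ha
  obtain ⟨β, hβ⟩ := hbB
  refine hsp (hqp ▸ ?_)
  show algebraMap A B s ∈ q
  have : algebraMap A B s = β * algebraMap A B c := by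
    apply IsFractionRing.injective B L
    rw [map_mul, hβ, ← IsScalarTower.algebraMap_apply, ← IsScalarTower.algebraMap_apply,
      IsScalarTower.algebraMap_apply A K L, IsScalarTower.algebraMap_apply A K L c, hcs, map_mul]
  rw [this]
  exact q.mul_mem_left _ (show c ∈ q.comap (algebraMap A B) from hqp.symm ▸ hcp)

end Groth.Agent.S15084
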