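import Groth.Statements.S15085
import Mathlib
import Groth.Agent.H17.Dim
-- import your own Groth.Agent.* helpers here

set_option autoImplicit false
universe u
open CategoryTheory CategoryTheory.Limits AlgebraicGeometry
open MovLem

namespace Groth.Agent.S15085

theorem dim_range_eq {Y Z : Scheme.{u}} (g : Y ⟶ Z) [IsFinite g] :
    topologicalKrullDim (Set.range g) = topologicalKrullDim Y := by
  have hc : IsClosed (Set.range g) := g.isClosedMap.isClosed_range
  haveI : QuasiSober (Set.range g) := hc.isClosedEmbedding_subtypeVal.quasiSober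
  haveI : QuasiSober (Y : Type u) := inferInstance
  let f : Y → Set.range g := Set.rangeFactorization g
  have hf : Continuous f := g.continuous.rangeFactorization
  have hcl : IsClosedMap f := fun S hS => by
    have h := g.isClosedMap S hS
    have e : f '' S = Subtype.val ⁻¹' (g '' S) := by
      ext ⟨y, hy⟩
      simp [f, Set.rangeFactorization, Subtype.ext_iff]
    rw [e]; exact h.preimage continuous_subtype_val
  refine le_antisymm (Groth.Agent.H17.topologicalKrullDim_le_of_specializingMap f
    hcl.specializingMap Set.rangeFactorization_surjective)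
    (Groth.Agent.H17.topologicalKrullDim_le_of_noSpecializationsInFibres f hf fun a b hab hfab => ?_)
  have heq : g a = g b := congrArg Subtype.val hfab
  obtain ⟨V, hV, hVeq⟩ := isDiscrete_iff_forall_mem_exists_isOpen.mp
    (g.isDiscrete_preimage_singleton (g b)) b rfl
  exact hVeq.le ⟨hab.mem_open hV (hVeq.ge rfl).1, heq⟩

theorem eq_of_subset_of_dim_eq {α : Type u} [TopologicalSpace α] {S T : Set α} (hS : IsClosed S)
    (hTi : IsIrreducible T) (hTc : IsClosed T) (hST : S ⊆ T) {d : ℕ}
    (hdS : topologicalKrullDim S = d) (hdT : topologicalKrullDim T = d) : S = T := by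
  by_contra hne
  obtain ⟨l, hl⟩ : ∃ l : LTSeries (TopologicalSpace.IrreducibleCloseds S), l.length = d :=
    Order.le_krullDim_iff.mp hdS.ge
  let ι : S → T := Set.inclusion hST
  have hι : Topology.IsClosedEmbedding ι := Topology.IsClosedEmbedding.inclusion hST (hS.preimage continuous_subtype_val)
  let m : TopologicalSpace.IrreducibleCloseds S → TopologicalSpace.IrreducibleCloseds T := fun W =>
    ⟨ι '' W, W.isIrreducible'.image ι hι.continuous.continuousOn, hι.isClosedMap _ W.isClosed'⟩
  have hm : StrictMono m := fun a b hab => by
    refine lt_of_le_not_ge (Set.image_mono hab.le) fun h => hab.not_ge ?_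
    exact (Set.image_subset_image_iff hι.injective).mp h
  haveI : IrreducibleSpace T := Subtype.irreducibleSpace hTi
  let top : TopologicalSpace.IrreducibleCloseds T :=
    ⟨Set.univ, IrreducibleSpace.isIrreducible_univ _, isClosed_univ⟩
  have hlast : (l.map m hm).last < top := by
    refine lt_of_le_not_ge (Set.subset_univ _) fun h => hne (Set.Subset.antisymm hST fun t ht => ?_)
    have h2 : (⟨t, ht⟩ : T) ∈ ((l.map m hm).last : Set T) := h (Set.mem_univ _)
    rw [LTSeries.last_map] at h2
    obtain ⟨s, -, hs⟩ := h2
    have h3 : (s : α) = t := congrArg Subtype.val hs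
    exact h3 ▸ s.2
  have h1 := Order.LTSeries.length_le_krullDim ((l.map m hm).snoc top hlast)
  simp only [RelSeries.snoc_length, LTSeries.map_length, hl] at h1
  have h2 : ((d + 1 : ℕ) : WithBot ℕ∞) ≤ (d : WithBot ℕ∞) := le_trans (by exact_mod_cast h1) hdT.le
  exact Nat.not_succ_le_self d (by exact_mod_cast h2)

theorem exists_dim_eq_nat {k : Type u} [Field k] {X : Scheme.{u}} (sX : X ⟶ Spec (CommRingCat.of k))
    [IsAffine X] [LocallyOfFiniteType sX] [Nonempty X] :
    ∃ d : ℕ, topologicalKrullDim X = d := by
  have hft : sX.appTop.hom.FiniteType :=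
    (HasRingHomProperty.iff_of_isAffine (P := @LocallyOfFiniteType)).mp ‹_›
  let φ : k →+* Γ(X, ⊤) := sX.appTop.hom.comp (Scheme.ΓSpecIso (CommRingCat.of k)).inv.hom
  have hφ : φ.FiniteType := hft.comp (RingHom.FiniteType.of_surjective _
    ((ConcreteCategory.bijective_of_isIso (Scheme.ΓSpecIso (CommRingCat.of k)).inv).2))
  letI := φ.toAlgebra
  haveI : Algebra.FiniteType k Γ(X, ⊤) := hφ
  obtain ⟨n, f, hf⟩ := Algebra.FiniteType.iff_quotient_mvPolynomial''.mp this
  have h1 : ringKrullDim Γ(X, ⊤) ≤ (n : WithBot ℕ∞) := by
    refine (ringKrullDim_le_of_surjective f.toRingHom hf).trans ?_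
    rw [MvPolynomial.ringKrullDim_of_isNoetherianRing, ringKrullDim_eq_zero_of_field, zero_add]
    simp
  have h2 : topologicalKrullDim X = ringKrullDim Γ(X, ⊤) :=
    (IsHomeomorph.topologicalKrullDim_eq _ X.isoSpec.hom.homeomorph.isHomeomorph).trans
      (PrimeSpectrum.topologicalKrullDim_eq_ringKrullDim _)
  have h0 : (0 : WithBot ℕ∞) ≤ topologicalKrullDim X := Order.krullDim_nonneg_iff.mpr
    ⟨⟨closure {Classical.arbitrary X}, isIrreducible_singleton.closure, isClosed_closure⟩⟩
  rw [h2] at h0 ⊢
  generalize ringKrullDim Γ(X, ⊤) = e at h0 h1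
  induction e using WithBot.recBotCoe with
  | bot => exact absurd h0 (by simp)
  | coe e =>
    induction e using ENat.recTopCoe with
    | top => exact absurd (WithBot.coe_le_coe.mp h1) (not_le.mpr (ENat.natCast_lt_top n))
    | coe e => exact ⟨e, rfl⟩

end Groth.Agent.S15085

namespace Groth.Agent.S15085

/-- Let k be a field, X an affine scheme of finite type over k which is equidimensional (all irreducible
components have the same dimension), B̂ a proper smooth geometrically integral k-scheme and B ⊆ B̂ a
nonempty affine open subscheme. Let Z be an integral closed subscheme of X ×_k B of dimension dim X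
(that is, of codimension dim B, the product X ×_k B being equidimensional of dimension dim X + dim
B). Then the projection Z → X is finite and maps Z onto an irreducible component of X if and only if
Z is closed in X ×_k B̂. (The published statement allows X to be essentially of finite type, i.e.
also a localization of such a scheme at finitely many points, takes B̂ projective of positive
dimension, and phrases the dimension condition as codimension dim B; this row is the finite-type
case with properness in place of projectivity.) -/
theorem result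
    {k : Type u} [Field k] {X Bhat Z : Scheme.{u}}
    (sX : X ⟶ Spec (CommRingCat.of k)) (sB : Bhat ⟶ Spec (CommRingCat.of k))
    [IsAffine X] [LocallyOfFiniteType sX]
    (hXeq : ∀ T ∈ irreducibleComponents (X : Type u), topologicalKrullDim T = topologicalKrullDim X)
    [IsProper sB] [Smooth sB] [GeometricallyIntegral sB]
    (B : Bhat.Opens) (hB : IsAffineOpen B) (hBne : (B : Set Bhat).Nonempty)
    [IsIntegral Z] (ι : Z ⟶ ((pullback.snd sX sB) ⁻¹ᵁ B).toScheme) [IsClosedImmersion ι]
    (hZ : topologicalKrullDim Z = topologicalKrullDim X)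
    (j : Z ⟶ pullback sX sB) (hj : j = ι ≫ ((pullback.snd sX sB) ⁻¹ᵁ B).ι) :
    (IsFinite (j ≫ pullback.fst sX sB) ∧
        Set.range (j ≫ pullback.fst sX sB).base ∈ irreducibleComponents (X : Type u)) ↔
      IsClosed (Set.range j.base) := by
  have hBaff : IsAffineOpen ((pullback.snd sX sB) ⁻¹ᵁ B) := by
    haveI : IsAffineHom sX := inferInstance
    haveI : IsAffineHom (pullback.snd sX sB) := MorphismProperty.pullback_snd _ _ ‹_›
    exact hB.preimage (pullback.snd sX sB)
  haveI : IsAffine ((pullback.snd sX sB) ⁻¹ᵁ B).toScheme := hBaff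
  haveI : IsAffine Z := isAffine_of_isAffineHom ι
  haveI : IsPreimmersion j := by rw [hj]; infer_instance
  constructor
  · rintro ⟨hfin, -⟩
    haveI : IsProper (j ≫ pullback.fst sX sB) := inferInstance
    haveI : IsProper j := IsProper.of_comp j (pullback.fst sX sB)
    exact j.isClosedMap.isClosed_range
  · intro hcl
    haveI : IsClosedImmersion j := IsClosedImmersion.of_isPreimmersion _ hcl
    haveI : IsProper (j ≫ pullback.fst sX sB) := inferInstance
    haveI hfin : IsFinite (j ≫ pullback.fst sX sB) :=
      IsFinite.iff_isProper_and_isAffineHom.mpr ⟨inferInstance, inferInstance⟩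
    refine ⟨hfin, ?_⟩
    set g := j ≫ pullback.fst sX sB
    have hirr : IsIrreducible (Set.range g) := by
      rw [← Set.image_univ]
      exact (IrreducibleSpace.isIrreducible_univ _).image g g.continuous.continuousOn
    have hc : IsClosed (Set.range g) := g.isClosedMap.isClosed_range
    obtain ⟨T, hT, hsub⟩ := exists_mem_irreducibleComponents_subset_of_isIrreducible _ hirr
    haveI : Nonempty X := ⟨g (Classical.arbitrary Z)⟩
    obtain ⟨d, hd⟩ := exists_dim_eq_nat sX
    have he : Set.range g = T := eq_of_subset_of_dim_eq hc hT.1 (isClosed_of_mem_irreducibleComponents T hT)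
      hsub ((dim_range_eq g).trans (hZ.trans hd)) ((hXeq T hT).trans hd)
    show Set.range g ∈ _
    rw [he]; exact hT

end Groth.Agent.S15085
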