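import Groth.Statements.S15086
import Mathlib
-- import your own Groth.Agent.* helpers here

set_option autoImplicit false
universe u
open CategoryTheory CategoryTheory.Limits AlgebraicGeometry
open MovLem

namespace Groth.Agent.S15086

open TensorProduct

theorem card_primeSpectrum_tensor (k F : Type u) [Field k] [PerfectField k] [Field F] [Algebra k F]
    [Module.Finite k F] :
    Finite (PrimeSpectrum (F ⊗[k] AlgebraicClosure k)) ∧
      Nat.card (PrimeSpectrum (F ⊗[k] AlgebraicClosure k)) = Module.finrank k F := by
  haveI : Algebra.IsSeparable k F := inferInstance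
  haveI : Algebra.FormallyEtale k F := Algebra.FormallyEtale.of_isSeparable k F
  haveI : Algebra.Etale k F := ⟨inferInstance, Algebra.FinitePresentation.of_finiteType.mp inferInstance⟩
  let K := AlgebraicClosure k
  let A := K ⊗[k] F
  haveI : IsArtinianRing A := isArtinian_of_tower K inferInstance
  haveI : Finite (PrimeSpectrum A) := inferInstance
  let e := (PrimeSpectrum.comapEquiv (Algebra.TensorProduct.comm k F K).toRingEquiv).toEquiv
  refine ⟨Finite.of_equiv _ e.symm, ?_⟩
  rw [Nat.card_congr e, ← Module.finrank_baseChange (R := K) (S := k) (M' := F),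
    (Algebra.FormallyEtale.equivPiOfIsSepClosed K A).toLinearEquiv.finrank_eq]
  haveI : Fintype (PrimeSpectrum A) := Fintype.ofFinite _
  rw [Module.finrank_pi, Nat.card_eq_fintype_card]

theorem encard_fibre {k : Type u} [Field k] [PerfectField k] {X : Scheme.{u}}
    (sX : X ⟶ Spec (CommRingCat.of k)) [LocallyOfFiniteType sX]
    (i : Spec (CommRingCat.of (AlgebraicClosure k)) ⟶ Spec (CommRingCat.of k))
    (hi : i = Spec.map (CommRingCat.ofHom (algebraMap k (AlgebraicClosure k))))
    (x : X) (hx : IsClosed ({x} : Set X)) (φ : k →+* X.residueField x)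
    (hφ : Spec.map (CommRingCat.ofHom φ) = X.fromSpecResidueField x ≫ sX) :
    φ.Finite ∧ ((pullback.fst sX i).base ⁻¹' {x}).encard =
      ((letI := φ.toAlgebra; Module.finrank k (X.residueField x)) : ℕ∞) := by
  letI : Algebra k (X.residueField x) := φ.toAlgebra
  haveI : IsClosedImmersion (X.fromSpecResidueField x) :=
    .of_isPreimmersion _ (by rw [Scheme.range_fromSpecResidueField]; exact hx)
  haveI : LocallyOfFiniteType (Spec.map (CommRingCat.ofHom φ)) := by rw [hφ]; infer_instance
  have hft : φ.FiniteType :=
    (HasRingHomProperty.Spec_iff (P := @LocallyOfFiniteType)).mp ‹_›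
  haveI : Algebra.FiniteType k (X.residueField x) := hft
  haveI hfin : Module.Finite k (X.residueField x) := finite_of_finite_type_of_isJacobsonRing k _
  refine ⟨hfin, ?_⟩
  obtain ⟨hf, hc⟩ := card_primeSpectrum_tensor k (X.residueField x)
  let P := pullback (X.fromSpecResidueField x) (pullback.fst sX i)
  have hrange : Set.range (pullback.snd (X.fromSpecResidueField x) (pullback.fst sX i)).base =
      (pullback.fst sX i).base ⁻¹' {x} :=
    (Scheme.Pullback.range_snd (f := X.fromSpecResidueField x) (g := pullback.fst sX i)).trans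
      (by rw [Scheme.range_fromSpecResidueField])
  have hinj : Function.Injective (pullback.snd (X.fromSpecResidueField x) (pullback.fst sX i)).base :=
    (Scheme.Hom.isEmbedding _).injective
  let e1 : P ≅ Spec (CommRingCat.of ((X.residueField x) ⊗[k] AlgebraicClosure k)) :=
    pullbackRightPullbackFstIso sX i (X.fromSpecResidueField x) ≪≫
      pullback.congrHom hφ.symm hi ≪≫ pullbackSpecIso k (X.residueField x) (AlgebraicClosure k)
  let eq : P ≃ PrimeSpectrum ((X.residueField x) ⊗[k] AlgebraicClosure k) := e1.hom.homeomorph.toEquiv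
  haveI : Finite P := Finite.of_equiv _ eq.symm
  rw [← hrange, ← Set.image_univ, hinj.encard_image, Set.encard_univ, ENat.card_eq_coe_natCard,
    Nat.card_congr eq, hc]

end Groth.Agent.S15086

namespace Groth.Agent.S15086

/-- Let k be an infinite perfect field with algebraic closure k̄, let φ : X → Y be a finite morphism of
k-schemes locally of finite type, let x be a closed point of X and y = φ(x). Let π_X : X_{k̄} → X
and π_Y : Y_{k̄} → Y be the base-change projections and φ_{k̄} : X_{k̄} → Y_{k̄} the induced
morphism. Then the number of points of π_Y⁻¹(y) is at most the number of points of π_X⁻¹(x);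
equality holds if and only if the residue field extension k(y) → k(x) is an isomorphism; and
equality holds whenever φ_{k̄} is injective on π_X⁻¹(x). (Cardinalities are taken in ℕ ∪ {∞}; both
fibres are in fact finite.) -/
theorem result
    {k : Type u} [Field k] [Infinite k] [PerfectField k] {X Y : Scheme.{u}}
    (sX : X ⟶ Spec (CommRingCat.of k)) (sY : Y ⟶ Spec (CommRingCat.of k))
    [LocallyOfFiniteType sX] [LocallyOfFiniteType sY]
    (φ : X ⟶ Y) (hφ : φ ≫ sY = sX) [IsFinite φ]
    (i : Spec (CommRingCat.of (AlgebraicClosure k)) ⟶ Spec (CommRingCat.of k))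
    (hi : i = Spec.map (CommRingCat.ofHom (algebraMap k (AlgebraicClosure k))))
    (φbar : pullback sX i ⟶ pullback sY i)
    (h1 : φbar ≫ pullback.fst sY i = pullback.fst sX i ≫ φ)
    (h2 : φbar ≫ pullback.snd sY i = pullback.snd sX i)
    (x : X) (hx : IsClosed ({x} : Set X)) :
    ((pullback.fst sY i).base ⁻¹' {φ.base x}).encard ≤ ((pullback.fst sX i).base ⁻¹' {x}).encard ∧
      (((pullback.fst sY i).base ⁻¹' {φ.base x}).encard = ((pullback.fst sX i).base ⁻¹' {x}).encard ↔
          Function.Bijective (φ.residueFieldMap x).hom) ∧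
      (Set.InjOn φbar.base ((pullback.fst sX i).base ⁻¹' {x}) →
        ((pullback.fst sY i).base ⁻¹' {φ.base x}).encard = ((pullback.fst sX i).base ⁻¹' {x}).encard) := by
  set y := φ.base x with hy
  have hyc : IsClosed ({y} : Set Y) := by
    have h := φ.isClosedMap _ hx
    rwa [Set.image_singleton] at h
  let ψx : k →+* X.residueField x := (Spec.preimage (X.fromSpecResidueField x ≫ sX)).hom
  let ψy : k →+* Y.residueField y := (Spec.preimage (Y.fromSpecResidueField y ≫ sY)).hom
  have hψx : Spec.map (CommRingCat.ofHom ψx) = X.fromSpecResidueField x ≫ sX := Spec.map_preimage _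
  have hψy : Spec.map (CommRingCat.ofHom ψy) = Y.fromSpecResidueField y ≫ sY := Spec.map_preimage _
  obtain ⟨hfx, hcx⟩ := encard_fibre sX i hi x hx ψx hψx
  obtain ⟨hfy, hcy⟩ := encard_fibre sY i hi y hyc ψy hψy
  have hcomp : (φ.residueFieldMap x).hom.comp ψy = ψx := by
    have h : CommRingCat.ofHom ψy ≫ φ.residueFieldMap x = CommRingCat.ofHom ψx := by
      apply Spec.map_injective
      rw [Spec.map_comp, hψy, hψx, ← hφ,
        Scheme.Hom.SpecMap_residueFieldMap_fromSpecResidueField_assoc]
    exact congrArg CommRingCat.Hom.hom h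
  letI : Algebra k (X.residueField x) := ψx.toAlgebra
  letI : Algebra k (Y.residueField y) := ψy.toAlgebra
  letI : Algebra (Y.residueField y) (X.residueField x) := (φ.residueFieldMap x).hom.toAlgebra
  haveI : IsScalarTower k (Y.residueField y) (X.residueField x) :=
    IsScalarTower.of_algebraMap_eq' hcomp.symm
  haveI : Module.Finite k (X.residueField x) := hfx
  haveI : Module.Finite k (Y.residueField y) := hfy
  haveI : Module.Finite (Y.residueField y) (X.residueField x) :=
    Module.Finite.of_restrictScalars_finite k _ _
  have hmul := Module.finrank_mul_finrank k (Y.residueField y) (X.residueField x)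
  have hpos : 0 < Module.finrank (Y.residueField y) (X.residueField x) := Module.finrank_pos
  have hypos : 0 < Module.finrank k (Y.residueField y) := Module.finrank_pos
  change _ ≤ _ ∧ _
  rw [hcx, hcy]
  have hle : Module.finrank k (Y.residueField y) ≤ Module.finrank k (X.residueField x) := by
    rw [← hmul]; exact Nat.le_mul_of_pos_right _ hpos
  refine ⟨by exact_mod_cast hle, ⟨fun h => ?_, fun h => ?_⟩, fun hinj => ?_⟩
  · have h' : Module.finrank k (Y.residueField y) = Module.finrank k (X.residueField x) := by
      exact_mod_cast h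
    have h1 : Module.finrank (Y.residueField y) (X.residueField x) = 1 := by
      rw [h'] at hmul
      exact Nat.eq_of_mul_eq_mul_left (h' ▸ hypos) (hmul.trans (mul_one _).symm)
    refine ⟨RingHom.injective _, fun a => ?_⟩
    obtain ⟨c, hc⟩ := (finrank_eq_one_iff_of_nonzero' (1 : X.residueField x) one_ne_zero).mp h1 a
    exact ⟨c, by rw [← hc, Algebra.smul_def, mul_one]; rfl⟩
  · have h1 : Module.finrank (Y.residueField y) (X.residueField x) = 1 :=
      (LinearEquiv.ofBijective (Algebra.linearMap (Y.residueField y) (X.residueField x)) h).finrank_eq.symm.trans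
        (Module.finrank_self _)
    rw [← hmul, h1, mul_one]
  · have hmaps : Set.MapsTo φbar.base ((pullback.fst sX i).base ⁻¹' {x}) ((pullback.fst sY i).base ⁻¹' {y}) := by
      intro z hz
      simp only [Set.mem_preimage, Set.mem_singleton_iff] at hz ⊢
      show (φbar ≫ pullback.fst sY i).base z = y
      rw [h1]
      show φ.base ((pullback.fst sX i).base z) = y
      rw [hz]
    have h3 := Set.encard_le_encard_of_injOn hmaps hinj
    rw [hcx, hcy] at h3
    exact le_antisymm (by exact_mod_cast hle) h3

end Groth.Agent.S15086
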