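import Groth.Statements.S1509
import Groth.Agent.H8Props.PseudoCoh.Regular

set_option autoImplicit false
universe u
attribute [local instance] HasDerivedCategory.standard
open FlatMor

namespace Groth.Agent.S1509

open AlgebraicGeometry CategoryTheory Limits in
/-- A regular closed immersion (kernel ideal locally generated by a regular sequence) is a perfect
morphism. -/
theorem result {Z X : Scheme.{u}} (i : Z ⟶ X) (hi : Mor2.IsRegularClosedImmersion i) : MoreMor.IsPerfectMor i := by
  obtain ⟨hcl, hloc⟩ := hi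
  haveI := hcl
  rw [HasRingHomProperty.iff_exists_appLE (P := @MoreMor.IsPerfectMor)
    (fun R S T _ _ _ _ r _ g hg => (Groth.Agent.H8Props.PseudoCoh.perfRing_away r S).comp hg)]
  intro z
  obtain ⟨U, hU, hzU, rs, hrs, hker⟩ := hloc z
  refine ⟨⟨U, hU⟩, ⟨i ⁻¹ᵁ U, hU.preimage i⟩, hzU, le_rfl, ?_⟩
  rw [← Scheme.Hom.app_eq_appLE]
  letI := (i.app U).hom.toAlgebra
  refine Groth.Agent.H8Props.PseudoCoh.isPerfectHom_of_regular_kernel (i.app_surjective U hU) rs hrs.toIsWeaklyRegular ?_
  exact (Scheme.Hom.ker_apply i ⟨U, hU⟩).symm.trans hker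

end Groth.Agent.S1509
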