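import Groth.Statements.S15092
import Groth.Agent.H28RR.Vertical
import Groth.Agent.S7861
import Groth.Agent.H29CurveDual.Canonical

set_option autoImplicit false
universe u
open CategoryTheory CategoryTheory.Limits AlgebraicGeometry TopologicalSpace
open Groth.Agent
open Surf

namespace Groth.Agent.S15092

/-- Let k be an algebraically closed field, X a smooth projective surface over k (integral, proper and
smooth, of dimension 2), C a smooth projective curve over k (integral, proper and smooth, of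
dimension 1) and f : X → C a semi-stable fibration: a surjective k-morphism with O_C → f_*O_X an
isomorphism which is an at-worst-nodal family (flat, of finite presentation, all fibres
one-dimensional with at worst nodal singularities), whose fibre over some closed point q₀ is smooth
with χ(O) = 1 − g for some g ≥ 2 (computed on X through the direct image of the structure sheaf of
the fibre), and with no exceptional curve of the first kind in a fibre (no integral vertical curve E
with χ(O_E) = 1 and E² = −1). Let ω_{X/C} = ω_X ⊗ (f^*Ω_{C/k})^{-1} be the relative dualizing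
module, ω_X a second exterior power of Ω_{X/k} and (f^*Ω_{C/k})^{-1} a tensor inverse of f^*Ω_{C/k}.
Let D ⊆ X be an integral curve (integral closed subscheme of dimension 1) lying in a fibre of f, and
O_X(D) a tensor inverse of its ideal sheaf. Then (ω_{X/C}·O_X(D)) ≥ 0; and if (ω_{X/C}·O_X(D)) = 0
then χ(O_D) = 1 and (D·D) = −2, that is, D is a smooth rational curve of self-intersection −2. Here
(L·L') = χ(O_X) − χ(L) − χ(L') + χ(L ⊗ L') for invertible L, L'. -/
theorem result (k : Type u) [Field k] [IsAlgClosed k]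
    (X : Scheme.{u}) [X.Over (Spec (CommRingCat.of k))] [IsProper (X ↘ (Spec (CommRingCat.of k)))]
    [Smooth (X ↘ (Spec (CommRingCat.of k)))] [IsIntegral X] (hdim : topologicalKrullDim X = 2)
    (C : Scheme.{u}) [C.Over (Spec (CommRingCat.of k))] [IsProper (C ↘ (Spec (CommRingCat.of k)))]
    [Smooth (C ↘ (Spec (CommRingCat.of k)))] [IsIntegral C] (hdimC : topologicalKrullDim C = 1)
    (f : X ⟶ C) [f.IsOver (Spec (CommRingCat.of k))] [Surjective f] (hconn : IsIso (ClSub.unitToPush f))
    (hss : Curv2.IsNodalFamily f)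
    (q₀ : C) (hq₀ : IsClosed ({q₀} : Set C)) (hsm : Smooth (f.fiberToSpecResidueField q₀))
    (g : ℕ) (hg2 : 2 ≤ g) (hg : Curv2.euler k X (ClSub.quotMod (f.fiberι q₀).ker) = 1 - (g : ℤ))
    (hmin : ∀ E : X.IdealSheafData, IsIntegral E.subscheme → topologicalKrullDim (E.support : Set X) = 1 →
      (∃ c : C, ∀ x : X, x ∈ E.support → f.base x = c) → Curv2.euler k X (ClSub.quotMod E) = 1 →
      FGA.intNum k X 2 ![ClSub.idealMod E, ClSub.idealMod E] (Coh.structureModule X) ≠ -1)
    (WX : X.Modules) (hWX : ExtPow.IsExtPow 2 (Omega.sheaf (X ↘ (Spec (CommRingCat.of k)))) WX)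
    (M : X.Modules) (hM : ClSub.IsInverseOf M ((Scheme.Modules.pullback f).obj (Omega.sheaf (C ↘ (Spec (CommRingCat.of k))))))
    (D : X.IdealSheafData) (hD : IsIntegral D.subscheme) (hD1 : topologicalKrullDim (D.support : Set X) = 1)
    (hDv : ∃ c : C, ∀ x : X, x ∈ D.support → f.base x = c)
    (LD : X.Modules) (hLD : ClSub.IsInverseOf LD (ClSub.idealMod D)) :
    0 ≤ FGA.intNum k X 2 ![(CohB1.tensorMod WX M), LD] (Coh.structureModule X) ∧
      (FGA.intNum k X 2 ![(CohB1.tensorMod WX M), LD] (Coh.structureModule X) = 0 →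
        Curv2.euler k X (ClSub.quotMod D) = 1 ∧ FGA.intNum k X 2 ![LD, LD] (Coh.structureModule X) = -2) := by
  classical
  haveI := H28Int.isNoetherian k (X := X)
  obtain ⟨H, hH⟩ := H28RR.exists_ample k hdim
  have hHi := (H11Ample.isAmple_iff.1 hH).1
  let i0 := (f.fiberι q₀).ker
  obtain ⟨hFF, hFv, hFH⟩ := H28RR.fibre_facts k hdim hdimC f hq₀
  have hFe : FGA.IsEffCartier i0 := H28RR.isEffCartier_fibre k hdimC f (hp := hq₀)
  have hFi : PicF.IsInvertible (ClSub.idealMod i0) := H28Surf.isInvertible_ideal k hFe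
  have hDc : H28Surf.IsCurve D := ⟨hD, hD1⟩
  have hDi : PicF.IsInvertible (ClSub.idealMod D) := H28Surf.isInvertible_ideal k (H28Surf.isEffCartier_curve k hdim hDc)
  obtain ⟨c, hc⟩ := hDv
  have hW := H28RR.isInvertible_canonical k hdim hWX
  obtain ⟨eM⟩ := hM
  obtain ⟨eD⟩ := hLD
  let PΩ := (Scheme.Modules.pullback f).obj (Omega.sheaf (C ↘ (Spec (CommRingCat.of k))))
  have hΩ : PicF.IsInvertible (Omega.sheaf (C ↘ (Spec (CommRingCat.of k)))) :=
    H29CurveDual.isInvertible_omega_curve (k := k) hdimC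
  have hP : PicF.IsInvertible PΩ := H11Ample.isInvertible_pullback f hΩ
  have hMi : PicF.IsInvertible M := H17.InvertibleTensor.isInvertible_of_tensor_iso M PΩ eM
  have hLi : PicF.IsInvertible LD := H17.InvertibleTensor.isInvertible_of_tensor_iso LD _ eD
  have hadj : ∀ {I : X.IdealSheafData}, PicF.IsInvertible (ClSub.idealMod I) →
      H28Surf.pr k (ClSub.idealMod I) (ClSub.idealMod I) - H28Surf.pr k (ClSub.idealMod I) WX =
        -2 * Curv2.euler k X (ClSub.quotMod I) := by
    intro I hI
    have hI' : PicF.IsInvertible (ClSub.idealMod I.subschemeι.ker) := by rwa [Scheme.IdealSheafData.ker_subschemeι]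
    have h := S7861.result k X hdim WX hWX I.subscheme I.subschemeι hI'
    letI : I.subscheme.Over (Spec (CommRingCat.of k)) := ⟨I.subschemeι ≫ (X ↘ Spec (CommRingCat.of k))⟩
    haveI : (Coh.structureModule I.subscheme).IsQuasicoherent := H10Coh.isQuasicoherent_unit
    rw [← H28Surf.intNum_eq_pr k hdim hI hI, ← H28Surf.intNum_eq_pr k hdim hI hW]
    rw [show Curv2.euler k X (ClSub.quotMod I) = Curv2.euler k I.subscheme (Coh.structureModule I.subscheme) from
      H28Int.Push.euler_push k I.subschemeι rfl _]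
    rw [Scheme.IdealSheafData.ker_subschemeι] at h
    exact h
  have hWD : H28Surf.pr k M (ClSub.idealMod D) = 0 := by
    rw [H28Surf.pr_inv_left k hdim hP hMi hDi (H10Coh.Tw.commIso PΩ M ≪≫ eM),
      H28RR.pr_pullback_vertical k hdim f hΩ hDc hc, neg_zero]
  have eD' : CohB1.tensorMod (ClSub.idealMod D) LD ≅ Coh.structureModule X := H10Coh.Tw.commIso _ _ ≪≫ eD
  have hv : FGA.intNum k X 2 ![(CohB1.tensorMod WX M), LD] (Coh.structureModule X) =
      - H28Surf.pr k (ClSub.idealMod D) WX := by
    rw [H28Surf.intNum_eq_pr k hdim (H11Ample.isInvertible_tensor hW hMi) hLi, H28Surf.pr_symm k (CohB1.tensorMod WX M) LD,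
      H28Surf.pr_inv_left k hdim hDi hLi (H11Ample.isInvertible_tensor hW hMi) eD',
      H28Surf.pr_symm k (ClSub.idealMod D) (CohB1.tensorMod WX M), H28Surf.pr_tensor_left k hdim hW hMi hDi, hWD,
      H28Surf.pr_symm k WX (ClSub.idealMod D)]
    omega
  have hL2 : FGA.intNum k X 2 ![LD, LD] (Coh.structureModule X) = H28Surf.pr k (ClSub.idealMod D) (ClSub.idealMod D) := by
    rw [H28Surf.intNum_eq_pr k hdim hLi hLi, H28Surf.pr_inv_left k hdim hDi hLi hLi eD',
      H28Surf.pr_symm k (ClSub.idealMod D) LD, H28Surf.pr_inv_left k hdim hDi hLi hDi eD']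
    omega
  rw [hv, hL2]
  have hA := hadj hDi
  have hB : H28Surf.pr k (ClSub.idealMod i0) WX < 0 := by
    have h := hadj hFi
    rw [hFF] at h
    have h2 : Curv2.euler k X (ClSub.quotMod i0) = 1 - (g : ℤ) := hg
    omega
  set a := H28Surf.pr k (ClSub.idealMod D) WX with ha
  set s := H28Surf.pr k (ClSub.idealMod D) (ClSub.idealMod D) with hs
  have hu : H28Surf.pr k (ClSub.idealMod i0) H < 0 := hFH H hH
  have hdH : H28Surf.pr k (ClSub.idealMod D) H < 0 := by
    have h1 := H28RR.degOn_eq_pr k hdim hDc hHi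
    have h2 := H28RR.ample_deg_pos k hdim hH hDc
    omega
  obtain ⟨N, hN, hNc⟩ := H28RR.HodgeIndex.exists_comb k hdim (H28Surf.pr k (ClSub.idealMod i0) H)
    (- H28Surf.pr k (ClSub.idealMod D) H) hDi hFi
  have hNH : H28Surf.pr k N H = 0 := by rw [hNc H hHi]; ring
  have hNN : H28Surf.pr k N N = H28Surf.pr k (ClSub.idealMod i0) H ^ 2 * s := by
    rw [hNc N hN, H28Surf.pr_symm k (ClSub.idealMod D) N, H28Surf.pr_symm k (ClSub.idealMod i0) N, hNc _ hDi,
      hNc _ hFi, hFF, H28Surf.pr_symm k (ClSub.idealMod D) (ClSub.idealMod i0), hFv D hDc ⟨c, hc⟩, hs]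
    ring
  have hle : s ≤ 0 := by
    have h := H28RR.HodgeIndex.pr_self_nonpos k hdim hH hN hNH
    rw [hNN] at h
    exact nonpos_of_mul_nonpos_right h (pow_two_pos_of_ne_zero hu.ne)
  have hzero : s = 0 → a < 0 := by
    intro h0
    rw [h0, mul_zero] at hNN
    have h := H28RR.HodgeIndex.pr_eq_zero_of_orth k hdim hH hHi hN
      (H28RR.HodgeIndex.pr_ample_self_pos k hdim hH) (by rw [H28Surf.pr_symm k H N]; exact hNH) hNN hW
    rw [hNc WX hW, ← ha] at h
    by_contra hcon
    have h1 : 0 ≤ - H28Surf.pr k (ClSub.idealMod i0) H * a := mul_nonneg (by omega) (by omega)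
    have h2 : 0 < H28Surf.pr k (ClSub.idealMod D) H * H28Surf.pr k (ClSub.idealMod i0) WX := mul_pos_of_neg_of_neg hdH hB
    linarith
  have hle1 : Curv2.euler k X (ClSub.quotMod D) ≤ 1 := (H28Surf.euler_le_one k hdim hDc).1
  have hmin' : Curv2.euler k X (ClSub.quotMod D) = 1 → s ≠ -1 := fun h1 h2 =>
    hmin D hD hD1 ⟨c, hc⟩ h1 (by rw [H28Surf.intNum_eq_pr k hdim hDi hDi]; exact h2)
  rcases eq_or_lt_of_le hle with h0 | hlt
  · have := hzero h0
    exact ⟨by omega, fun h => by omega⟩
  refine ⟨?_, fun h => ⟨by omega, by omega⟩⟩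
  by_contra hneg
  exact hmin' (by omega) (by omega)

end Groth.Agent.S15092
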