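import Groth.Statements.S15094
import Groth.Agent.H27KodV.Line
import Groth.Agent.H28Neron.NormalSmooth
import Groth.Agent.H8Props.FibreStalk

set_option backward.isDefEq.respectTransparency false
set_option backward.isDefEq.respectTransparency.types false
set_option linter.style.haveILetI false

set_option autoImplicit false
universe u
open CategoryTheory CategoryTheory.Limits AlgebraicGeometry TopologicalSpace
open KodV

namespace Groth.Agent.S15094

/-- Let k be an algebraically closed field of characteristic p > 0, X a smooth proper integral scheme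
over k, and L an invertible O_X-module with tensor inverse L⁻¹. If H⁰(X, (L⁻¹)^{⊗p^n} ⊗ Ω¹_{X/k}) =
0 for every n ≥ 1 and H¹(X, (L⁻¹)^{⊗p^{n₀}}) = 0 for some n₀, then H¹(X, L⁻¹) = 0. (The published
statement says smooth projective variety over a field of characteristic p; smooth, proper and
integral over an algebraically closed field is assumed here, the setting of the proposition it is
deduced from.) -/
theorem result (k : Type u) [Field k] [IsAlgClosed k] (p : ℕ) [Fact p.Prime] [CharP k p]
    (X : Scheme.{u}) [X.Over (Spec (CommRingCat.of k))] [IsProper (X ↘ (Spec (CommRingCat.of k)))] [Smooth (X ↘ (Spec (CommRingCat.of k)))] [IsIntegral X]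
    (L Linv : X.Modules) (hL : PicF.IsInvertible L) (hLinv : ClSub.IsInverseOf Linv L)
    (h0 : ∀ n : ℕ, 1 ≤ n → Subsingleton (Coh.HH X (CohB1.tensorMod (CohB1.tensorPow Linv (p ^ n)) (Omega.sheaf (X ↘ (Spec (CommRingCat.of k))))) 0))
    (h1 : ∃ n₀ : ℕ, Subsingleton (Coh.HH X (CohB1.tensorPow Linv (p ^ n₀)) 1)) :
    Subsingleton (Coh.HH X Linv 1) := by
  obtain ⟨e⟩ := hLinv
  have hM := H17.InvertibleTensor.isInvertible_of_tensor_iso Linv L e
  have hk : Pi1.IsNormalScheme (Spec (CommRingCat.of k)) := fun x => by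
    have h := H8Props.FibreStalk.isField_stalk_Spec (CommRingCat.of k) (Field.toIsField k) x
    exact ⟨h.isDomain, letI := h.toField; inferInstance⟩
  have hN := H28Neron.isNormalScheme_of_smooth (X ↘ Spec (CommRingCat.of k)) hk
  obtain ⟨n₀, hn₀⟩ := h1
  have key : ∀ j i : ℕ, i + j = n₀ → Subsingleton (Coh.HH X (CohB1.tensorPow Linv (p ^ i)) 1) := by
    intro j
    induction j with
    | zero => intro i hi; rwa [show i = n₀ by omega]
    | succ j ih =>
      intro i hi
      obtain ⟨φ, -⟩ := H11Ample.exists_iso_mul hM (p ^ i) p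
      let φ' : CohB1.tensorPow (CohB1.tensorPow Linv (p ^ i)) p ≅ CohB1.tensorPow Linv (p ^ (i + 1)) :=
        φ ≪≫ eqToIso (by rw [pow_succ])
      exact H27KodV.subsingleton_H1_of_frobenius (p := p) (X ↘ Spec (CommRingCat.of k)) (fun x => (hN x).2)
        (H11Ample.isInvertible_tensorPow hM _)
        (H10Coh.subsingleton_HH_of_iso (PicGrp.tensorModIso φ'.symm (Iso.refl _)) 0 (h0 (i + 1) (by omega)))
        (H10Coh.subsingleton_HH_of_iso φ'.symm 1 (ih (i + 1) (by omega)))
  let u : CohB1.tensorPow Linv 1 ≅ Linv := H10Coh.Tw.leftUnitIso Linv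
  exact H10Coh.subsingleton_HH_of_iso (eqToIso (by rw [pow_zero]) ≪≫ u) 1 (key n₀ 0 (zero_add n₀))

end Groth.Agent.S15094
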