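import Groth.Statements.S15095
import Groth.Agent.H28RR.NefBigVan

set_option autoImplicit false
universe u
open CategoryTheory CategoryTheory.Limits AlgebraicGeometry TopologicalSpace
open Groth.Agent
open Surf

namespace Groth.Agent.S15095

/-- Let k be an algebraically closed field of characteristic p > 0 and X a smooth projective surface
over k (integral, proper and smooth, of dimension 2); let L be an invertible O_X-module with tensor
inverse L⁻¹, L numerically positive: (L·L) > 0 and deg(L|_Γ) = χ(O_Γ ⊗ L) − χ(O_Γ) ≥ 0 for every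
integral curve Γ ⊆ X, where (L·L) = χ(O_X) − 2χ(L) + χ(L ⊗ L). Then there is n₀ such that H¹(X,
(L⁻¹)^{⊗n}) = 0 for all n ≥ n₀. -/
theorem result (k : Type u) [Field k] [IsAlgClosed k] (p : ℕ) [Fact p.Prime] [CharP k p]
    (X : Scheme.{u}) [X.Over (Spec (CommRingCat.of k))] [IsProper (X ↘ (Spec (CommRingCat.of k)))]
    [Smooth (X ↘ (Spec (CommRingCat.of k)))] [IsIntegral X] (hdim : topologicalKrullDim X = 2)
    (L Linv : X.Modules) (hL : PicF.IsInvertible L) (hLinv : ClSub.IsInverseOf Linv L)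
    (hpos : 0 < FGA.intNum k X 2 ![L, L] (Coh.structureModule X))
    (hnef : ∀ Γ : X.IdealSheafData, IsIntegral Γ.subscheme → topologicalKrullDim (Γ.support : Set X) = 1 →
      0 ≤ Curv2.euler k X (CohB1.tensorMod (ClSub.quotMod Γ) L) - Curv2.euler k X (ClSub.quotMod Γ)) :
    ∃ n₀ : ℕ, ∀ n : ℕ, n₀ ≤ n → Subsingleton (Coh.HH X (CohB1.tensorPow Linv n) 1) := by
  set c := PicGrp.cls L hL with hc'
  have hc₁ : ∀ (C : X.IdealSheafData) (hC : H28Surf.IsCurve C), 0 ≤ H28RR.PicNum.dot k c (H28RR.PicNum.curveCls k hdim hC) := by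
    intro C hC
    have h := hnef C hC.int hC.dim
    rw [← H28RR.ZariskiVol.degOn_eq_dot k hdim hC c]
    show 0 ≤ Curv2.euler k X _ - Curv2.euler k X _
    rw [H25Euler.euler_congr (PicGrp.tensorModIso (Iso.refl (ClSub.quotMod C)) (H28RR.PicNum.nonempty_rep_iso hL).some)]
    exact h
  have hsq : 0 < H28RR.PicNum.dot k c c := by
    rw [H28RR.PicNum.dot_cls k hdim hL hL, ← H28Surf.intNum_eq_pr k hdim hL hL]
    exact hpos
  obtain ⟨n₀, hn₀⟩ := H28RR.NefBigVan.exists_h1_inv_pow_vanishing k hdim hsq hc₁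
  refine ⟨n₀, fun n hn => ?_⟩
  letI := H28Vert.picLaw (Y := X)
  haveI := H28Int.isNoetherian k (X := X)
  have hLi : PicF.IsInvertible Linv := hLinv.elim fun e => H17.InvertibleTensor.isInvertible_of_tensor_iso Linv L e
  have hcinv : PicGrp.cls Linv hLi = c⁻¹ := by
    refine eq_inv_of_mul_eq_one_left (G := PicLoc.PicSet X) ?_
    exact Subtype.ext (by rw [PicGrp.cls_mul_cls_val, PicGrp.one_val]; exact Quot.sound hLinv)
  have h := hn₀ n hn
  rw [← inv_pow, ← hcinv, ← H28Vert.cls_tensorPow hLi, H28RR.PicNum.hc_cls] at h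
  haveI := H10Coh.finite_HH_proper k X _
    (H11Ample.isCoh_of_isInvertible (H11Ample.isInvertible_tensorPow hLi n)) 1
  exact (Module.finrank_zero_iff (R := k)).1 h

end Groth.Agent.S15095
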