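import Groth.Statements.S15098
import Groth.Agent.H28Reg.Ample

set_option autoImplicit false
universe u
open CategoryTheory CategoryTheory.Limits AlgebraicGeometry TopologicalSpace
open Groth.Agent
open Surf

namespace Groth.Agent.S15098

/-- Let k be an algebraically closed field, X a smooth projective surface over k (integral, proper and
smooth, of dimension 2) and D an effective Cartier divisor on X, given by its ideal sheaf I_D, which
is numerically positive: (D·D) > 0 and (D·Γ) ≥ 0 for every integral curve Γ ⊆ X, that is χ(O_Γ ⊗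
I_D) − χ(O_Γ) ≤ 0. Then D is numerically connected: whenever D = D₁ + D₂ with D₁, D₂ non-zero
effective Cartier divisors (I_D = I_{D₁}·I_{D₂} with both ideal sheaves different from O_X), (D₁·D₂)
> 0. Intersection numbers of divisors are computed on their ideal sheaves: (D₁·D₂) = χ(O_X) −
χ(I_{D₁}) − χ(I_{D₂}) + χ(I_{D₁} ⊗ I_{D₂}). (The published lemma sits in a positive-characteristic
setting; its argument does not use the characteristic, so none is assumed here.) -/
theorem result (k : Type u) [Field k] [IsAlgClosed k]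
    (X : Scheme.{u}) [X.Over (Spec (CommRingCat.of k))] [IsProper (X ↘ (Spec (CommRingCat.of k)))]
    [Smooth (X ↘ (Spec (CommRingCat.of k)))] [IsIntegral X] (hdim : topologicalKrullDim X = 2)
    (D : X.IdealSheafData) (hD : FGA.IsEffCartier D)
    (hpos : 0 < FGA.intNum k X 2 ![(ClSub.idealMod D), (ClSub.idealMod D)] (Coh.structureModule X))
    (hnef : ∀ Γ : X.IdealSheafData, IsIntegral Γ.subscheme → topologicalKrullDim (Γ.support : Set X) = 1 →
      Curv2.euler k X (CohB1.tensorMod (ClSub.quotMod Γ) (ClSub.idealMod D)) - Curv2.euler k X (ClSub.quotMod Γ) ≤ 0)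
    (D₁ D₂ : X.IdealSheafData) (hD₁ : FGA.IsEffCartier D₁) (hD₂ : FGA.IsEffCartier D₂)
    (hne₁ : D₁ ≠ ⊤) (hne₂ : D₂ ≠ ⊤) (hsum : D = D₁ * D₂) :
    0 < FGA.intNum k X 2 ![(ClSub.idealMod D₁), (ClSub.idealMod D₂)] (Coh.structureModule X) := by
  have hI := H29Blow.isInvertible_of_isEffCartierIdeal D hD
  have hI₁ := H29Blow.isInvertible_of_isEffCartierIdeal D₁ hD₁
  have hI₂ := H29Blow.isInvertible_of_isEffCartierIdeal D₂ hD₂
  rw [H28Surf.intNum_eq_pr k hdim hI₁ hI₂]
  refine H28Reg.numerically_connected k hdim hD₁ hD₂ hne₁ hne₂ hsum ?_ fun C hC => ?_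
  · rwa [← H28Surf.intNum_eq_pr k hdim hI hI]
  · have hCi := H29Blow.isInvertible_of_isEffCartierIdeal C (H28Reg.isEffCartier_curve k
      (fun x => H19Grp.isRegularLocalRing_stalk_of_smooth (X ↘ Spec (CommRingCat.of k)) x) hdim hC)
    have h : H28Surf.degOn k C (ClSub.idealMod D) ≤ 0 := hnef C hC.int hC.dim
    rw [H28Surf.degOn_eq] at h
    rw [← H28Surf.intNum_eq_pr k hdim hCi hI, H28Surf.intNum_idealMod k hdim.le C hCi hI]
    omega

end Groth.Agent.S15098
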