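import Groth.Statements.S15100
import Groth.Agent.H3CAlg.PrincipalRel

set_option autoImplicit false
universe u
open TensorProduct
open CAlg

namespace Groth.Agent.S15100

/-- Let V be a discrete valuation ring with uniformizer u and V → R → A commutative V-algebras with A an
R-algebra compatibly; assume A is a Noetherian local domain of Krull dimension 3 with u in its
maximal ideal, that Ω_{A/V} is a free A-module of rank 2 and that A ⊗_R Ω_{R/V} is a free A-module
of rank 1. Suppose that on the special fibre Ω_{A/R} is locally free exactly away from the closed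
point: for every prime P of A containing u other than the maximal ideal the localization (Ω_{A/R})_P
is free over A_P, while Ω_{A/R} is not free over A. Then Ω_{A/R} is not locally free on the generic
fibre: there is a prime Q of A not containing u with (Ω_{A/R})_Q not free over A_Q. (In the
published statement R is a regular local ring of dimension 2 and A a local ring of dimension 3, both
smooth over V, which yields the two freeness hypotheses used here, and the hypothesis is phrased as
local freeness of Ω of the special fibre of A over that of R away from the closed point.) -/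
theorem result
    (V R A : Type u) [CommRing V] [IsDomain V] [IsDiscreteValuationRing V] [CommRing R] [CommRing A]
    [IsDomain A] [IsNoetherianRing A] [IsLocalRing A]
    [Algebra V R] [Algebra V A] [Algebra R A] [IsScalarTower V R A]
    (u : V) (hu : Irreducible u) (huA : algebraMap V A u ∈ IsLocalRing.maximalIdeal A)
    (hdimA : ringKrullDim A = 3)
    (hΩA : Module.Free A (Ω[A⁄V])) (hrkA : Module.finrank A (Ω[A⁄V]) = 2)
    (hΩR : Module.Free A (A ⊗[R] Ω[R⁄V])) (hrkR : Module.finrank A (A ⊗[R] Ω[R⁄V]) = 1)
    (h0 : ∀ P : PrimeSpectrum A, algebraMap V A u ∈ P.asIdeal → P.asIdeal ≠ IsLocalRing.maximalIdeal A →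
      Module.Free (Localization.AtPrime P.asIdeal) (LocalizedModule P.asIdeal.primeCompl (Ω[A⁄R])))
    (hm : ¬ Module.Free A (Ω[A⁄R])) :
    ∃ Q : PrimeSpectrum A, algebraMap V A u ∉ Q.asIdeal ∧
      ¬ Module.Free (Localization.AtPrime Q.asIdeal) (LocalizedModule Q.asIdeal.primeCompl (Ω[A⁄R])) := by
  haveI := hΩA
  haveI := hΩR
  haveI : Module.Finite A (Ω[A⁄V]) := Module.finite_of_finrank_pos (by rw [hrkA]; norm_num)
  haveI : Module.Finite A (TensorProduct R A (Ω[R⁄V])) := Module.finite_of_finrank_pos (by rw [hrkR]; norm_num)
  let e := Module.finBasisOfFinrankEq A _ hrkR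
  let π := KaehlerDifferential.map V R A A
  let β := KaehlerDifferential.mapBaseChange V R A
  have hπ : Function.Surjective π := KaehlerDifferential.map_surjective V R A
  have hker : LinearMap.ker π = Submodule.span A {β (e 0)} := by
    rw [(KaehlerDifferential.exact_mapBaseChange_map V R A).linearMap_ker_eq, LinearMap.range_eq_map, ← e.span_eq,
      Submodule.map_span, Set.range_unique, Set.image_singleton]
    rfl
  have hv : β (e 0) ≠ 0 := by
    intro h0
    have hinj : Function.Injective π := by
      rw [← LinearMap.ker_eq_bot, hker, h0, Submodule.span_singleton_eq_bot]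
    exact hm (Module.Free.of_equiv (LinearEquiv.ofBijective π ⟨hinj, hπ⟩))
  obtain ⟨Q, hQm, hQ⟩ := Groth.Agent.H3CAlg.PrincipalRel.exists_prime π hπ _ hker
    (by rw [hrkA, hdimA]; exact_mod_cast (by norm_num : (2 : ℕ) < 3)) hv hm
  exact ⟨Q, fun hu' => hQ (h0 Q hu' hQm), hQ⟩

end Groth.Agent.S15100
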