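import Groth.Statements.S15115
import Groth.Agent.H20Comod.Invariants
import Mathlib.RingTheory.IsTensorProduct


set_option autoImplicit false
universe u
open HopfRep

namespace Groth.Agent.S15115

open TensorProduct in
/-- Let k be an algebraically closed field, H a finite-dimensional commutative Hopf algebra over k all
of whose finite-dimensional comodules are semisimple (a finite linearly reductive group scheme G
over k), A a commutative k-algebra, and M an A-module with an H-coaction that is A-linear (G acts on
M by A-module maps, A carrying the trivial action). Let A' be a commutative A-algebra and N = A' ⊗_A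
M its base change, exhibited by an A-linear map φ : M → N, with the induced coaction: A'-linear and
compatible with φ. Then invariants commute with this base change: writing M^G for the A-submodule of
coinvariant elements of M, the natural map A' ⊗_A M^G → N, a' ⊗ m ↦ a' φ(m), is injective and its
image is exactly the set of coinvariant elements of N. (The published statement is the isomorphism
ρ^* π_* F → π'_* σ^* F for a tame Deligne–Mumford stack with coarse moduli space π and any base
change ρ of the coarse space; this row is the statement about invariants to which its proof reduces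
it, for modules that need not be finitely generated.) -/
theorem result (k : Type u) [Field k] [IsAlgClosed k]
    (H : Type u) [CommRing H] [HopfAlgebra k H] [Module.Finite k H] (hred : HopfRep.IsLinearlyReductive k H)
    (A : Type u) [CommRing A] [Algebra k A]
    (M : Type u) [AddCommGroup M] [Module k M] [Module A M] [IsScalarTower k A M] [HopfRep.Comod k H M]
    (hlin : ∀ (a : A) (m : M), HopfRep.Comod.coact (k := k) (A := H) (a • m) = a • HopfRep.Comod.coact (k := k) (A := H) m)
    (A' : Type u) [CommRing A'] [Algebra k A'] [Algebra A A'] [IsScalarTower k A A']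
    (N : Type u) [AddCommGroup N] [Module k N] [Module A N] [Module A' N]
    [IsScalarTower k A N] [IsScalarTower A A' N] [IsScalarTower k A' N] [HopfRep.Comod k H N]
    (φ : M →ₗ[A] N) (hφ : IsBaseChange A' φ)
    (hcomp : ∀ m : M, HopfRep.Comod.coact (k := k) (A := H) (φ m) =
      LinearMap.rTensor H (φ.restrictScalars k) (HopfRep.Comod.coact (k := k) (A := H) m))
    (hlinN : ∀ (a' : A') (n : N), HopfRep.Comod.coact (k := k) (A := H) (a' • n) = a' • HopfRep.Comod.coact (k := k) (A := H) n)
    (P : Submodule A M) (hP : (P : Set M) = (HopfRep.fixedPts k H M : Set M)) :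
    Function.Injective (TensorProduct.lift (((Algebra.lsmul A A N : A' →ₐ[A] Module.End A N).toLinearMap).compl₂ (φ ∘ₗ P.subtype))) ∧
      Set.range (TensorProduct.lift (((Algebra.lsmul A A N : A' →ₐ[A] Module.End A N).toLinearMap).compl₂ (φ ∘ₗ P.subtype))) =
        (HopfRep.fixedPts k H N : Set N) := by
  classical
  obtain ⟨α, hα, h1⟩ := H20Comod.exists_isIntegral_of_isLinearlyReductive hred
  have hsl : ∀ {C : Type u} [CommRing C] [Algebra k C] {X : Type u} [AddCommGroup X] [Module k X] [Module C X]
      [IsScalarTower k C X] (c : C) (z : X ⊗[k] H), H20Comod.sliceR α (c • z) = c • H20Comod.sliceR α z := by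
    intro C _ _ X _ _ _ _ c z
    induction z using TensorProduct.induction_on with
    | zero => simp
    | tmul v a => rw [TensorProduct.smul_tmul', H20Comod.sliceR_tmul, H20Comod.sliceR_tmul, smul_comm]
    | add u v hu hv => simp only [smul_add, map_add, hu, hv]
  let eM : M →ₗ[A] P :=
    { toFun := fun m => ⟨H20Comod.actL α m, by
        rw [← SetLike.mem_coe, hP]; exact H20Comod.actL_mem_fixedPts hα h1 m⟩
      map_add' := fun x y => Subtype.ext (map_add _ x y)
      map_smul' := fun a m => Subtype.ext (by
        show H20Comod.actL α (a • m) = a • H20Comod.actL α m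
        rw [H20Comod.actL_apply, hlin, hsl, H20Comod.actL_apply]) }
  have heP : eM ∘ₗ P.subtype = LinearMap.id := LinearMap.ext fun m => Subtype.ext
    (H20Comod.actL_eq_self_of_fixed h1 (by rw [← SetLike.mem_coe, ← hP]; exact m.2))
  have hφe : ∀ m, φ (eM m : M) = H20Comod.actL α (φ m) := fun m => by
    rw [H20Comod.actL_apply, hcomp, H20Comod.sliceR_rTensor]
    rfl
  set L := TensorProduct.lift (((Algebra.lsmul A A N : A' →ₐ[A] Module.End A N).toLinearMap).compl₂ (φ ∘ₗ P.subtype))
  have hL : L = (hφ.equiv.restrictScalars A).toLinearMap ∘ₗ P.subtype.lTensor A' := by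
    refine TensorProduct.ext' fun a m => ?_
    simp [L, IsBaseChange.equiv_tmul]
  refine ⟨?_, ?_⟩
  · rw [hL, LinearMap.coe_comp]
    refine (hφ.equiv.injective).comp (Function.HasLeftInverse.injective ⟨eM.lTensor A', fun z => ?_⟩)
    rw [← LinearMap.comp_apply, ← LinearMap.lTensor_comp, heP, LinearMap.lTensor_id, LinearMap.id_apply]
  · ext n
    constructor
    · rintro ⟨z, rfl⟩
      show L z ∈ HopfRep.fixedPts k H N
      induction z using TensorProduct.induction_on with
      | zero => rw [map_zero]; exact zero_mem _
      | tmul a m =>
        rw [show L (a ⊗ₜ[A] m) = a • φ (m : M) by simp [L],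
          show (m : M) = (eM (m : M) : M) from (congrArg Subtype.val (LinearMap.congr_fun heP m)).symm, hφe]
        show HopfRep.Comod.coact (k := k) (A := H) _ = _
        rw [hlinN, show HopfRep.Comod.coact (k := k) (A := H) (H20Comod.actL α (φ (m : M))) = _ from
          H20Comod.actL_mem_fixedPts hα h1 _]
        exact TensorProduct.smul_tmul' a _ _
      | add x y hx hy => rw [map_add]; exact add_mem hx hy
    · intro hn
      obtain ⟨z, hz⟩ := hφ.equiv.surjective n
      refine ⟨eM.lTensor A' z, ?_⟩
      rw [← H20Comod.actL_eq_self_of_fixed (A := H) h1 hn, ← hz]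
      clear hz hn
      induction z using TensorProduct.induction_on with
      | zero => simp
      | tmul a m =>
        rw [LinearMap.lTensor_tmul, show L (a ⊗ₜ[A] eM m) = a • φ (eM m : M) by simp [L], hφe, hφ.equiv_tmul,
          H20Comod.actL_apply, H20Comod.actL_apply, hlinN, hsl]
      | add x y hx hy => simp only [map_add, hx, hy]

end Groth.Agent.S15115
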