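import Groth.Statements.S15116


set_option autoImplicit false
universe u v
open NRGIT

namespace Groth.Agent.S15116

/-- Let k be a characteristic-zero field and A a commutative k-algebra, graded by the integers with all
pieces of positive degree zero, and D a k-derivation of A that raises degrees by a fixed positive
integer l. If no maximal ideal of A contains both every piece of negative degree and the image of D,
then there is f with D f = 1. (The published statement is for an affine variety with an action of
the semidirect product of the additive and multiplicative groups, the multiplicative group acting on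
the coordinate ring with non-positive weights and on the Lie algebra of the additive group with
positive weight: the derivation is a generator of that Lie algebra, the maximal ideals containing
the pieces of negative degree are the limit points under the multiplicative group, and a limit point
has trivial additive stabiliser exactly when the image of D is not contained in its ideal; this row
keeps only this algebraic content, for any such graded algebra. The first assertion of the published
lemma, that every point has a limit in the variety under the multiplicative group as t → 0, is not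
part of this row.) -/
theorem result (k : Type u) [Field k] [CharZero k]
    (A : Type v) [CommRing A] [Algebra k A] (𝒜 : ℤ → Submodule k A) [GradedAlgebra 𝒜]
    (hpos : ∀ i : ℤ, 0 < i → 𝒜 i = ⊥)
    (D : Derivation k A A) (l : ℤ) (hl : 0 < l)
    (hD : ∀ (i : ℤ) (a : A), a ∈ 𝒜 i → D a ∈ 𝒜 (i + l))
    (hfree : ∀ m : Ideal A, m.IsMaximal → (∀ i : ℤ, i < 0 → (𝒜 i : Set A) ⊆ m) → ∃ a : A, D a ∉ m) :
    ∃ f : A, D f = 1 := by
  classical
  have hz : ∀ {i : ℤ} {x : A}, 0 < i → x ∈ 𝒜 i → x = 0 := fun hi hx => (Submodule.mem_bot k).1 ((hpos _ hi) ▸ hx)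
  let J : Ideal (𝒜 0) :=
    { carrier := {x | ∃ b ∈ 𝒜 (-l), D b = (x : A)}
      add_mem' := by
        rintro x y ⟨b, hb, hx⟩ ⟨c, hc, hy⟩
        exact ⟨b + c, add_mem hb hc, by simp [hx, hy]⟩
      zero_mem' := ⟨0, zero_mem _, by simp⟩
      smul_mem' := by
        rintro r x ⟨b, hb, hx⟩
        have hr : D (r : A) = 0 := by
          have := hD 0 r r.2
          rw [zero_add, hpos l hl, Submodule.mem_bot] at this
          exact this
        refine ⟨(r : A) * b, by simpa using SetLike.mul_mem_graded r.2 hb, ?_⟩
        rw [D.leibniz, hr, smul_zero, add_zero, hx]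
        simp }
  by_contra hne
  have hJ : J ≠ ⊤ := by
    intro h
    obtain ⟨b, -, hb⟩ : (1 : 𝒜 0) ∈ J := h ▸ Submodule.mem_top
    exact hne ⟨b, by simpa using hb⟩
  obtain ⟨P, hP, hJP⟩ := Ideal.exists_le_maximal J hJ
  let N : Ideal A := Ideal.span ((⋃ i ∈ {i : ℤ | i < 0}, (𝒜 i : Set A)) ∪ ((↑) '' (P : Set (𝒜 0))))
  have key : ∀ x ∈ N, (DirectSum.decompose 𝒜 x 0 : 𝒜 0) ∈ P := by
    intro x hx
    induction hx using Submodule.span_induction with
    | mem x hx =>
      rcases hx with hx | ⟨p, hp, rfl⟩
      · simp only [Set.mem_iUnion] at hx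
        obtain ⟨i, hi, hx⟩ := hx
        have : (DirectSum.decompose 𝒜 x 0 : 𝒜 0) = 0 := Subtype.ext (by
          rw [DirectSum.decompose_of_mem_ne 𝒜 hx (ne_of_lt hi)]; rfl)
        rw [this]; exact zero_mem _
      · rw [DirectSum.decompose_coe, DirectSum.of_eq_same]; exact hp
    | zero => simp
    | add x y _ _ hx hy => rw [DirectSum.decompose_add, DirectSum.add_apply]; exact add_mem hx hy
    | smul a x hxN hx =>
      rw [smul_eq_mul]
      induction a using DirectSum.Decomposition.inductionOn 𝒜 with
      | zero => simp
      | add a b ha hb => rw [add_mul, DirectSum.decompose_add, DirectSum.add_apply]; exact add_mem ha hb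
      | @homogeneous i a =>
        rcases lt_trichotomy i 0 with hi | hi | hi
        · have h0 : (DirectSum.decompose 𝒜 ((a : A) * x) 0 : 𝒜 0) = 0 := Subtype.ext (by
            show ((DirectSum.decompose 𝒜 ((a : A) * x)) 0 : A) = 0
            rw [show (0 : ℤ) = i + (-i) by ring, DirectSum.coe_decompose_mul_add_of_left_mem 𝒜 a.2]
            have : ((DirectSum.decompose 𝒜 x) (-i) : A) = 0 := hz (by omega) ((DirectSum.decompose 𝒜 x) (-i)).2
            rw [this, mul_zero])
          rw [h0]; exact zero_mem _
        · subst hi
          have h0 : (DirectSum.decompose 𝒜 ((a : A) * x) 0 : 𝒜 0) = a * DirectSum.decompose 𝒜 x 0 := Subtype.ext (by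
            show ((DirectSum.decompose 𝒜 ((a : A) * x)) 0 : A) = (a : A) * ((DirectSum.decompose 𝒜 x) 0 : A)
            have e := DirectSum.coe_decompose_mul_add_of_left_mem 𝒜 (a := (a : A)) (b := x) (i := 0) (j := 0) a.2
            simpa using e)
          rw [h0]; exact P.mul_mem_left _ hx
        · have : (a : A) = 0 := hz hi a.2
          rw [this, zero_mul]; simp
  have hN : N ≠ ⊤ := fun h => hP.ne_top (P.eq_top_iff_one.2 (by
    have := key 1 (h ▸ Submodule.mem_top)
    rwa [show (DirectSum.decompose 𝒜 (1 : A) 0 : 𝒜 0) = 1 from Subtype.ext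
      (DirectSum.decompose_of_mem_same 𝒜 (SetLike.GradedOne.one_mem))] at this))
  obtain ⟨m, hm, hNm⟩ := Ideal.exists_le_maximal N hN
  obtain ⟨a, ha⟩ := hfree m hm (fun i hi x hx => hNm (Ideal.subset_span (Or.inl (Set.mem_biUnion hi hx))))
  apply ha
  apply hNm
  clear ha
  induction a using DirectSum.Decomposition.inductionOn 𝒜 with
  | zero => simp
  | add a b ia ib => rw [map_add]; exact add_mem ia ib
  | @homogeneous i a =>
    rcases lt_trichotomy (i + l) 0 with h | h | h
    · exact Ideal.subset_span (Or.inl (Set.mem_biUnion h (hD i a a.2)))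
    · refine Ideal.subset_span (Or.inr ⟨⟨D a, h ▸ hD i a a.2⟩, hJP ⟨a, ?_, rfl⟩, rfl⟩)
      rw [show -l = i by omega]; exact a.2
    · rw [hz h (hD i a a.2)]; exact zero_mem _

end Groth.Agent.S15116
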