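import Groth.Statements.S15117
import Mathlib.RingTheory.Flat.Basic

set_option autoImplicit false
universe u v w
open TensorProduct
open NRGIT

namespace Groth.Agent.S15117

/-- Let k be a field, π : A → B a map of commutative bialgebras over k, W a right A-comodule and V ⊆ W a
subcomodule all of whose elements are coinvariant for the B-coaction induced through π. Then the
coaction of every v ∈ V lies in V ⊗ A' ⊆ W ⊗ A, where A' ⊆ A is the set of elements a with (π ⊗
id)(Δ a) = 1 ⊗ a, i.e. coinvariant for the coaction of B on A through π on the left factor; the row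
states membership in the span of the pure tensors w ⊗ a with w ∈ V and a ∈ A'. (The published
statement is for a linear algebraic group H over an algebraically closed field of characteristic
zero, a normal subgroup N and an H-stable space V of N-invariant sections of a linearised line
bundle, with the coaction landing in O(H)^N ⊗ V, where O(H)^N is the ring of functions on H
invariant under N acting by right multiplication; this row is the comodule form, for any bialgebra
map over a field, where normality of N is not needed.) -/
theorem result (k : Type u) [Field k]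
    (A B : Type v) [CommRing A] [CommRing B] [Bialgebra k A] [Bialgebra k B] (π : A →ₐc[k] B)
    (W : Type w) [AddCommGroup W] [Module k W] [HopfRep.Comod k A W]
    (V : Submodule k W) (hV : HopfRep.IsSubcomod (k := k) (A := A) V)
    (hfix : ∀ v ∈ V, (π.toLinearMap.lTensor W) (HopfRep.Comod.coact (k := k) (A := A) v) = v ⊗ₜ[k] (1 : B))
    (v : W) (hv : v ∈ V) :
    HopfRep.Comod.coact (k := k) (A := A) v ∈
      Submodule.span k {x : W ⊗[k] A | ∃ w ∈ V, ∃ a : A,
        (π.toLinearMap.rTensor A) (Coalgebra.comul (R := k) a) = (1 : B) ⊗ₜ[k] a ∧ x = w ⊗ₜ[k] a} := by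
  obtain ⟨y, hy⟩ := hV v hv
  let q : A →ₗ[k] B ⊗[k] A := π.toLinearMap.rTensor A ∘ₗ CoalgebraStruct.comul (R := k) -
    TensorProduct.mk k B A 1
  have hco := LinearMap.congr_fun (HopfRep.Comod.coassoc (k := k) (A := A) (V := W)) v
  simp only [LinearMap.coe_comp, Function.comp_apply, LinearEquiv.coe_coe] at hco
  have h1 : ∀ z : (W ⊗[k] A) ⊗[k] A, (π.toLinearMap.rTensor A).lTensor W (TensorProduct.assoc k W A A z) =
      TensorProduct.assoc k W B A ((π.toLinearMap.lTensor W).rTensor A z) := by
    intro z
    induction z using TensorProduct.induction_on with
    | zero => simp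
    | tmul x a =>
      induction x using TensorProduct.induction_on with
      | zero => simp
      | tmul p b => simp
      | add x y hx hy => simp only [TensorProduct.add_tmul, map_add, hx, hy]
    | add x y hx hy => simp only [map_add, hx, hy]
  have h2 : ∀ z : V ⊗[k] A, TensorProduct.assoc k W B A ((π.toLinearMap.lTensor W).rTensor A
      ((HopfRep.Comod.coact (k := k) (A := A) (V := W)).rTensor A (V.subtype.rTensor A z))) =
      (TensorProduct.mk k B A 1).lTensor W (V.subtype.rTensor A z) := by
    intro z
    induction z using TensorProduct.induction_on with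
    | zero => simp
    | tmul x a =>
      simp only [LinearMap.rTensor_tmul, Submodule.coe_subtype, hfix x x.2]
      simp
    | add x y hx hy => simp only [map_add, hx, hy]
  have h0 : q.lTensor W (V.subtype.rTensor A y) = 0 := by
    rw [LinearMap.lTensor_sub, LinearMap.sub_apply, sub_eq_zero, ← h2, ← h1, hy, hco,
      LinearMap.lTensor_comp_apply]
  have h3 : q.lTensor V y = 0 := by
    apply Module.Flat.rTensor_preserves_injective_linearMap (M := B ⊗[k] A) _ V.injective_subtype
    rw [map_zero, ← LinearMap.comp_apply, LinearMap.rTensor_comp_lTensor, ← LinearMap.lTensor_comp_rTensor,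
      LinearMap.comp_apply]
    exact h0
  obtain ⟨z, hz⟩ := (Module.Flat.lTensor_exact V (LinearMap.exact_subtype_ker_map q) y).1 h3
  rw [← hy, ← hz]
  clear h3 h0 hy hz hco y
  induction z using TensorProduct.induction_on with
  | zero => simp
  | tmul x a =>
    refine Submodule.subset_span ⟨x, x.2, a, ?_, rfl⟩
    have := LinearMap.mem_ker.1 a.2
    exact sub_eq_zero.1 this
  | add x y hx hy => rw [map_add, map_add]; exact add_mem hx hy

end Groth.Agent.S15117
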