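import Groth.Statements.S15119
import Groth.Agent.H20Prop.SolSet
-- import your own Groth.Agent.* helpers here

set_option autoImplicit false
universe u
open CategoryTheory MonoidalCategory CartesianMonoidalCategory MonObj GrpObj AlgebraicGeometry Topology
open NRGIT

namespace Groth.Agent.S15119
open Groth.Agent

/-- Over an algebraically closed field k of characteristic zero, let H be a linear algebraic group
(affine, reduced, of finite type) with a closed normal subgroup N and quotient q : H → Q (a
surjective homomorphism with kernel N), acting on a variety X (reduced, separated, of finite type);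
let the restricted action of N have a geometric quotient π : X → Y with Y a variety, and let Q act
on Y so that π is equivariant along q, and assume the stabilisers of the geometric points of X under
N are finite. Then for every geometric point x of X, the stabiliser of π(x) in Q is finite exactly
when the stabiliser of x in H is finite (stabilisers are group schemes over the field of definition
of the point, and finite replaces 'a finite group of points', the same for group schemes of finite
type over an algebraically closed field; the published lemma takes geometric quotients in the sense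
of affine good quotients that are orbit spaces, while this row uses a universally submersive
geometric quotient that need not be affine; the induced action of Q on Y is taken as a datum
together with the equivariance of π). -/
theorem result (k : Type u) [Field k] [IsAlgClosed k] [CharZero k]
    (H N Q X Y : Over (Spec (CommRingCat.of k))) [GrpObj H] [GrpObj N] [GrpObj Q]
    [IsAffine H.left] [LocallyOfFiniteType H.hom] [IsReduced H.left]
    [IsAffine N.left] [LocallyOfFiniteType N.hom] [IsReduced N.left]
    [IsAffine Q.left] [LocallyOfFiniteType Q.hom] [IsReduced Q.left]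
    [LocallyOfFiniteType X.hom] [QuasiCompact X.hom] [IsSeparated X.hom] [IsReduced X.left]
    [LocallyOfFiniteType Y.hom] [QuasiCompact Y.hom] [IsSeparated Y.hom] [IsReduced Y.left]
    (i : N ⟶ H) [IsMonHom i] [IsClosedImmersion i.left] (hnorm : AlgGrp.IsNormalHom i)
    (q : H ⟶ Q) [IsMonHom q] [Surjective q.left] (hker : AlgGrp.IsKernel i q)
    (a : AlgGrp.Action H X) (aN : AlgGrp.Action N X) (haN : aN.act = (i ▷ X) ≫ a.act)
    (hfin : ∀ (Ω : Type u) [Field Ω] [IsAlgClosed Ω] (T : Over (Spec (CommRingCat.of k)))
      (_ : T.left ≅ Spec (CommRingCat.of Ω)) (f : T ⟶ X), IsFinite (GLinSh.stabTo aN f))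
    (π : X ⟶ Y) (hπ : GIT.IsGeomQuot aN π)
    (aQ : AlgGrp.Action Q Y) (hequiv : (q ⊗ₘ π) ≫ aQ.act = a.act ≫ π)
    (Ω : Type u) [Field Ω] [IsAlgClosed Ω] (T : Over (Spec (CommRingCat.of k)))
    (e : T.left ≅ Spec (CommRingCat.of Ω)) (x : T ⟶ X) :
    IsFinite (GLinSh.stabTo aQ (x ≫ π)) ↔ IsFinite (GLinSh.stabTo a x) := by
  haveI : QuasiCompact H.hom := inferInstance
  haveI : QuasiCompact N.hom := inferInstance
  haveI : QuasiCompact Q.hom := inferInstance
  haveI : LocallyOfFiniteType q.left := by
    haveI : LocallyOfFiniteType (q.left ≫ Q.hom) := by rw [Over.w q]; infer_instance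
    exact locallyOfFiniteType_of_comp q.left Q.hom
  rw [H20Prop.isFinite_stabTo_iff aQ e, H20Prop.isFinite_stabTo_iff a e]
  haveI hN := (H20Prop.isFinite_stabTo_iff aN e x).1 (hfin Ω T e x)
  have hiq : ∀ n : T ⟶ N, (n ≫ i) ≫ q = 1 := fun n => by
    rw [Category.assoc, hker.w, ← Category.assoc, comp_toUnit]
    rfl
  have hN' : ∀ n : T ⟶ N, lift (n ≫ i) x ≫ a.act = lift n x ≫ aN.act := fun n => by
    rw [haN, lift_whiskerRight_assoc]
  let F : {g : T ⟶ H // lift g x ≫ a.act = x} → {g : T ⟶ Q // lift g (x ≫ π) ≫ aQ.act = x ≫ π} := fun g =>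
    ⟨g.1 ≫ q, by rw [← lift_map_assoc, hequiv, reassoc_of% g.2]⟩
  have hsurj : Function.Surjective F := by
    intro g
    obtain ⟨h, hh⟩ := H20Prop.exists_lift_point e q q.left.surjective g.1
    have h1 : (lift h x ≫ a.act) ≫ π = x ≫ π := by
      rw [Category.assoc, ← hequiv, lift_map_assoc, hh]
      exact g.2
    obtain ⟨n, hn⟩ := H20Prop.exists_orbit_point aN e hπ.inv hπ.orbit x _ h1
    refine ⟨⟨(n ≫ i)⁻¹ * h, ?_⟩, Subtype.ext ?_⟩
    · rw [H20GIT.act_mul, ← hn, ← hN', ← H20GIT.act_mul, inv_mul_cancel, H20GIT.act_one]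
    · show ((n ≫ i)⁻¹ * h) ≫ q = g.1
      rw [MonObj.mul_comp, GrpObj.inv_comp, hiq, inv_one, _root_.one_mul, hh]
  constructor
  · intro hQ
    have hfib : ∀ g, (F ⁻¹' {g}).Finite := by
      intro g
      rcases (F ⁻¹' {g}).eq_empty_or_nonempty with h0 | ⟨h₀, hh₀⟩
      · rw [h0]; exact Set.finite_empty
      refine Set.Finite.of_finite_image (f := Subtype.val) (Set.Finite.subset (Set.finite_range
        fun n : {n : T ⟶ N // lift n x ≫ aN.act = x} => (n.1 ≫ i) * h₀.1) ?_) Subtype.val_injective.injOn
      rintro _ ⟨h, hh, rfl⟩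
      have hq : h.1 ≫ q = h₀.1 ≫ q := congrArg Subtype.val (hh.trans hh₀.symm)
      have h2 : (h.1 * h₀.1⁻¹) ≫ q = toUnit T ≫ η[Q] := by
        rw [MonObj.mul_comp, GrpObj.inv_comp, hq, mul_inv_cancel]
        rfl
      obtain ⟨n, hn, -⟩ : ∃ n : T ⟶ N, n ≫ i = h.1 * h₀.1⁻¹ ∧ n ≫ toUnit N = toUnit T :=
        ⟨hker.lift _ _ h2, hker.lift_fst _ _ _, hker.lift_snd _ _ _⟩
      refine ⟨⟨n, ?_⟩, ?_⟩
      · rw [← hN', hn, H20GIT.act_mul]
        have : lift h₀.1⁻¹ x ≫ a.act = x := by
          obtain ⟨g₀, hg₀⟩ := h₀
          show lift g₀⁻¹ x ≫ a.act = x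
          conv_lhs => rw [← hg₀, ← H20GIT.act_mul, inv_mul_cancel, H20GIT.act_one]
        rw [this, h.2]
      · show (n ≫ i) * h₀.1 = h.1
        rw [hn, inv_mul_cancel_right]
    exact Set.finite_univ_iff.1 ((Set.finite_univ.preimage' fun g _ => hfib g).subset fun _ _ => trivial)
  · intro hH
    exact Finite.of_surjective F hsurj

end Groth.Agent.S15119
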