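import Groth.Statements.S15120
import Groth.Agent.S15118
import Groth.Agent.S11433
import Groth.Agent.H20Comod.FiniteQuot
-- import your own Groth.Agent.* helpers here

set_option autoImplicit false
universe u
open CategoryTheory MonoidalCategory CartesianMonoidalCategory MonObj GrpObj AlgebraicGeometry Topology
open NRGIT

namespace Groth.Agent.S15120
open Groth.Agent

/-- Over an algebraically closed field k of characteristic zero, let H be a linear algebraic group
(affine, reduced, of finite type) with a closed normal subgroup N and quotient q : H → Q (a
surjective homomorphism with kernel N), acting on a variety X (reduced, separated, of finite type);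
let the restricted action of N have a geometric quotient π : X → Y with Y a variety, and let Q act
on Y so that π is equivariant along q; assume Y affine and Q connected reductive. Then Y admits a
geometric quotient by Q whose target is a variety (separated, reduced, of finite type) exactly when
every orbit of a geometric point of X under H is closed. (The published lemma allows any reductive
Q, not necessarily connected, and assumes in addition that the stabilisers of the N-action are
finite, which this part does not use; geometric quotients there are affine good quotients that are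
orbit spaces, while this row uses universally submersive geometric quotients that need not be
affine, and the induced action of Q on Y is taken as a datum together with the equivariance of π;
this row takes Q connected reductive.) -/
theorem result (k : Type u) [Field k] [IsAlgClosed k] [CharZero k]
    (H N Q X Y : Over (Spec (CommRingCat.of k))) [GrpObj H] [GrpObj N] [GrpObj Q]
    [IsAffine H.left] [LocallyOfFiniteType H.hom] [IsReduced H.left]
    [IsAffine N.left] [LocallyOfFiniteType N.hom] [IsReduced N.left]
    [IsAffine Q.left] [LocallyOfFiniteType Q.hom] [IsReduced Q.left]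
    [LocallyOfFiniteType X.hom] [QuasiCompact X.hom] [IsSeparated X.hom] [IsReduced X.left]
    [LocallyOfFiniteType Y.hom] [QuasiCompact Y.hom] [IsSeparated Y.hom] [IsReduced Y.left]
    (i : N ⟶ H) [IsMonHom i] [IsClosedImmersion i.left] (hnorm : AlgGrp.IsNormalHom i)
    (q : H ⟶ Q) [IsMonHom q] [Surjective q.left] (hker : AlgGrp.IsKernel i q)
    (a : AlgGrp.Action H X) (aN : AlgGrp.Action N X) (haN : aN.act = (i ▷ X) ≫ a.act)
    (π : X ⟶ Y) (hπ : GIT.IsGeomQuot aN π)
    (aQ : AlgGrp.Action Q Y) (hequiv : (q ⊗ₘ π) ≫ aQ.act = a.act ≫ π)
    [IsAffine Y.left] (hQ : Red.IsReductive Q) :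
    (∃ (Z : Over (Spec (CommRingCat.of k))) (ψ : Y ⟶ Z), LocallyOfFiniteType Z.hom ∧ QuasiCompact Z.hom ∧
        IsSeparated Z.hom ∧ IsReduced Z.left ∧ GIT.IsGeomQuot aQ ψ) ↔ GIT.IsClosedAction a := by
  rw [← S15118.result k H N Q X Y i hnorm q hker a aN haN π hπ aQ hequiv]
  constructor
  · rintro ⟨Z, ψ, -, -, -, -, hψ⟩
    exact H20GQ.isClosedAction_of_orbit hψ.inv hψ.orbit
  · intro hcl
    obtain ⟨A, _, _, v, _, _⟩ := H20LRQ.exists_grp_model Q
    obtain ⟨B, _, _, ⟨u⟩⟩ := H20LRQ.exists_affine_model Y
    obtain ⟨c, hc, hr⟩ := H20LRQ.exists_coaction_of_action aQ v u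
    letI := c
    haveI := hc
    obtain ⟨α, hα, h1⟩ := H20Comod.isLinearlyReductive_iff_exists_isIntegral.1
      (H20Red.isLinearlyReductive_of_iso_isReductive hQ v)
    have hC : H20LRQ.IsInvRing k A B (GLin.invariants k A B) := H20LRQ.isInvRing_invariants
    have huq := H20LRQ.isUnivCatQuot_quotMap aQ v u hr hC hα h1
    haveI : IsIso u.inv.left := inferInstanceAs (IsIso ((Over.forget _).map u.inv))
    haveI : LocallyOfFiniteType (CoactBr.sp k B).hom := by rw [← Over.w u.inv]; infer_instance
    have hB : LocallyOfFiniteType (Spec.map (CommRingCat.ofHom (algebraMap k B))) :=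
      inferInstanceAs (LocallyOfFiniteType (CoactBr.sp k B).hom)
    haveI : Algebra.FiniteType k B := RingHom.finiteType_algebraMap.1
      ((HasRingHomProperty.Spec_iff (P := @LocallyOfFiniteType)).1 hB)
    haveI : IsReduced (CoactBr.sp k B).left := isReduced_of_isOpenImmersion u.inv.left
    haveI : _root_.IsReduced B := (affine_isReduced_iff (CommRingCat.of B)).1 (inferInstanceAs (IsReduced (CoactBr.sp k B).left))
    haveI : _root_.IsReduced (GLin.invariants k A B) :=
      isReduced_of_injective (GLin.invariants k A B).val Subtype.val_injective
    obtain ⟨s, hs'⟩ := H20Comod.exists_finset_invariants_adjoin (R := B) hα h1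
    haveI : Algebra.FiniteType k (GLin.invariants k A B) := (Subalgebra.fg_iff_finiteType _).1 ⟨s, hs'.symm⟩
    exact ⟨_, _, (HasRingHomProperty.Spec_iff (P := @LocallyOfFiniteType)).2
      (RingHom.finiteType_algebraMap.2 inferInstance),
      inferInstanceAs (QuasiCompact (Spec.map (CommRingCat.ofHom (algebraMap k (GLin.invariants k A B))))),
      inferInstanceAs (IsSeparated (Spec.map (CommRingCat.ofHom (algebraMap k (GLin.invariants k A B))))),
      inferInstanceAs (IsReduced (Spec (CommRingCat.of (GLin.invariants k A B)))),
      ((S11433.result k Q Y _ hQ aQ _ huq.1).1).2 hcl⟩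

end Groth.Agent.S15120
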