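import Groth.Statements.S15121
import Mathlib.RingTheory.Ideal.Maps
import Mathlib.RingTheory.Ideal.Quotient.Operations

set_option autoImplicit false
universe u v w
open InvQ

namespace Groth.Agent.S15121

/-- Let k be a field of characteristic zero and A a commutative k-algebra graded by a finitely generated
free abelian group Λ (the character group of a torus acting on Spec A) whose grading monoid is
positive: if the pieces of degrees w and −w are both non-zero then w = 0. Let δ be a locally
nilpotent k-derivation of A (an action of the additive group) that is homogeneous of degree d, with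
the piece of degree d equal to zero (the graded condition on the Lie algebra weight). Suppose that
no maximal ideal of A contains both all graded pieces of non-zero degree and the image of δ (every
torus-fixed closed point has trivial stabiliser under the additive group). Then δ has a homogeneous
slice: some s of degree −d with δ s = 1. (The published statement is for the coordinate ring of an
affine variety over an algebraically closed field of characteristic zero and concludes moreover that
the quotient map by the additive group is a trivial principal bundle, which follows from the slice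
by a standard argument not restated here; this row keeps the algebraic content, for any such graded
algebra.) -/
theorem result
    (k : Type u) [Field k] [CharZero k]
    (A : Type v) [CommRing A] [Algebra k A]
    (Λ : Type w) [AddCommGroup Λ] [DecidableEq Λ] [Module.Free ℤ Λ] [Module.Finite ℤ Λ]
    (𝒜 : Λ → Submodule k A) [GradedAlgebra 𝒜]
    (hpos : ∀ w : Λ, 𝒜 w ≠ ⊥ → 𝒜 (-w) ≠ ⊥ → w = 0)
    (δ : Derivation k A A) (hnil : ∀ a : A, ∃ n : ℕ, ((δ : A →ₗ[k] A) ^ n) a = 0)
    (d : Λ) (hhom : ∀ (w : Λ) (a : A), a ∈ 𝒜 w → δ a ∈ 𝒜 (w + d)) (hd : 𝒜 d = ⊥)
    (hfix : ∀ m : Ideal A, m.IsMaximal → (∀ w : Λ, w ≠ 0 → (𝒜 w : Set A) ⊆ m) → ¬ (Set.range δ ⊆ m)) :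
    ∃ s ∈ 𝒜 (-d), δ s = 1 := by
  classical
  let J : Ideal (𝒜 0) :=
    { carrier := {x | ∃ b ∈ 𝒜 (-d), δ b = (x : A)}
      add_mem' := by
        rintro x y ⟨b, hb, hx⟩ ⟨c, hc, hy⟩
        exact ⟨b + c, add_mem hb hc, by simp [hx, hy]⟩
      zero_mem' := ⟨0, zero_mem _, by simp⟩
      smul_mem' := by
        rintro r x ⟨b, hb, hx⟩
        have hr : δ (r : A) = 0 := (Submodule.mem_bot k).1 (hd ▸ (zero_add d ▸ hhom 0 r r.2))
        refine ⟨(r : A) * b, by simpa using SetLike.mul_mem_graded r.2 hb, ?_⟩
        rw [δ.leibniz, hr, smul_zero, add_zero, hx]
        simp }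
  by_contra hne
  have hJ : J ≠ ⊤ := by
    intro h
    obtain ⟨b, hb', hb⟩ : (1 : 𝒜 0) ∈ J := h ▸ Submodule.mem_top
    exact hne ⟨b, hb', by simpa using hb⟩
  obtain ⟨P, hP, hJP⟩ := Ideal.exists_le_maximal J hJ
  let π : A →+* 𝒜 0 :=
    { toFun := fun x => DirectSum.decompose 𝒜 x 0
      map_one' := Subtype.ext (DirectSum.decompose_of_mem_same 𝒜 (SetLike.GradedOne.one_mem))
      map_zero' := by simp
      map_add' := fun x y => by simp
      map_mul' := by
        intro x y
        induction x using DirectSum.Decomposition.inductionOn 𝒜 with
        | zero => simp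
        | add a b ha hb => simp only [add_mul, DirectSum.decompose_add, DirectSum.add_apply, ha, hb]
        | @homogeneous i a =>
          induction y using DirectSum.Decomposition.inductionOn 𝒜 with
          | zero => simp
          | add a b ha hb => simp only [mul_add, DirectSum.decompose_add, DirectSum.add_apply, ha, hb]
          | @homogeneous j b =>
            have hab : (a : A) * b ∈ 𝒜 (i + j) := SetLike.mul_mem_graded a.2 b.2
            refine Subtype.ext ?_
            show (DirectSum.decompose 𝒜 ((a : A) * b) 0 : A) = (DirectSum.decompose 𝒜 (a : A) 0 : A) * (DirectSum.decompose 𝒜 (b : A) 0 : A)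
            by_cases hi : i = 0
            · subst hi
              rw [DirectSum.decompose_of_mem_same 𝒜 a.2]
              by_cases hj : j = 0
              · subst hj
                rw [DirectSum.decompose_of_mem_same 𝒜 b.2]
                exact DirectSum.decompose_of_mem_same 𝒜 (by simpa using hab)
              · rw [DirectSum.decompose_of_mem_ne 𝒜 b.2 hj, mul_zero, DirectSum.decompose_of_mem_ne 𝒜 hab (by simpa using hj)]
            · rw [DirectSum.decompose_of_mem_ne 𝒜 a.2 hi, zero_mul]
              by_cases hij : i + j = 0
              · have hj : j = -i := eq_neg_of_add_eq_zero_right hij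
                have h0 : (a : A) * b = 0 := by
                  by_cases ha : (a : A) = 0
                  · rw [ha, zero_mul]
                  by_cases hb : (b : A) = 0
                  · rw [hb, mul_zero]
                  exact absurd (hpos i (fun h => ha ((Submodule.mem_bot k).1 (h ▸ a.2)))
                    (fun h => hb ((Submodule.mem_bot k).1 (h ▸ hj ▸ b.2)))) hi
                simp [h0]
              · exact DirectSum.decompose_of_mem_ne 𝒜 hab hij }
  have hπs : Function.Surjective π := fun y => ⟨y, by simp [π, DirectSum.decompose_coe]⟩
  haveI : (P.comap π).IsMaximal := Ideal.comap_isMaximal_of_surjective π hπs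
  refine hfix (P.comap π) inferInstance (fun w hw x hx => ?_) ?_
  · show π x ∈ P
    rw [show π x = 0 from Subtype.ext (DirectSum.decompose_of_mem_ne 𝒜 hx hw)]
    exact P.zero_mem
  · rintro _ ⟨a, rfl⟩
    show π (δ a) ∈ P
    induction a using DirectSum.Decomposition.inductionOn 𝒜 with
    | zero => simp
    | add a b ia ib => rw [map_add, map_add]; exact add_mem ia ib
    | @homogeneous i a =>
      by_cases hi : i + d = 0
      · refine hJP ⟨a, by rw [show -d = i from (eq_neg_of_add_eq_zero_left hi).symm]; exact a.2, ?_⟩
        exact (DirectSum.decompose_of_mem_same 𝒜 (hi ▸ hhom i a a.2)).symm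
      · rw [show π (δ a) = 0 from Subtype.ext (DirectSum.decompose_of_mem_ne 𝒜 (hhom i a a.2) hi)]
        exact P.zero_mem

end Groth.Agent.S15121
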