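import Groth.Statements.S15122


set_option autoImplicit false
universe u v w
open GIT

namespace Groth.Agent.S15122

/-- Let R be a commutative ring, A a commutative R-algebra graded by the natural numbers, σ a
homogeneous element of degree zero, and B the localisation of A away from σ, equipped with a grading
by the natural numbers for which the localisation map ι : A → B is a graded ring homomorphism (such
a grading is necessarily the one induced from A). Then the homogeneous ideal of B generated by the
image of the irrelevant ideal of A is the whole irrelevant ideal of B; in other words the induced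
rational map from Proj B to Proj A is defined everywhere. (The published statement also assumes σ a
non-zero-divisor, which this step does not use, and goes on to conclude that Proj B → Proj A is an
open immersion onto the basic open set of σ.) -/
theorem result
    (R : Type u) (A : Type v) (B : Type w) [CommRing R] [CommRing A] [CommRing B] [Algebra R A] [Algebra R B]
    [Algebra A B] [IsScalarTower R A B]
    (𝒜 : ℕ → Submodule R A) [GradedAlgebra 𝒜] (ℬ : ℕ → Submodule R B) [GradedAlgebra ℬ]
    (σ : A) (hσ0 : σ ∈ 𝒜 0) [IsLocalization.Away σ B]
    (ι : 𝒜 →+*ᵍ ℬ) (hι : ∀ a : A, ι a = algebraMap A B a) :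
    (HomogeneousIdeal.irrelevant 𝒜).map ι = HomogeneousIdeal.irrelevant ℬ := by
  classical
  refine le_antisymm ?_ ?_
  · rw [HomogeneousIdeal.map_le_iff_le_comap, HomogeneousIdeal.irrelevant_le]
    intro i hi x hx
    exact HomogeneousIdeal.mem_irrelevant_of_mem ℬ hi (GradedRingHom.map_mem ι hx)
  · rw [HomogeneousIdeal.irrelevant_le]
    intro i hi b hb
    replace hb : b ∈ ℬ i := hb
    obtain ⟨⟨a, ⟨t, n, rfl⟩⟩, e⟩ := IsLocalization.surj (Submonoid.powers σ) b
    have hu : IsUnit (algebraMap A B (σ ^ n)) := IsLocalization.map_units B (⟨σ ^ n, n, rfl⟩ : Submonoid.powers σ)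
    have hmem : algebraMap A B a ∈ ℬ i := by
      rw [← e]
      have h0 : algebraMap A B (σ ^ n) ∈ ℬ 0 := by
        rw [← hι]
        exact GradedRingHom.map_mem ι (by simpa using SetLike.pow_mem_graded n hσ0)
      simpa using SetLike.mul_mem_graded hb h0
    have ha : algebraMap A B a = ι (DirectSum.decompose 𝒜 a i : A) := by
      rw [← DirectSum.decompose_of_mem_same ℬ hmem, ← hι a, GradedRingHom.map_directSumDecompose]
    have he : b = ι (DirectSum.decompose 𝒜 a i : A) * ↑hu.unit⁻¹ := by
      rw [← ha, ← e, _root_.mul_assoc, IsUnit.mul_val_inv, _root_.mul_one]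
    rw [he]
    show _ ∈ (HomogeneousIdeal.irrelevant 𝒜).toIdeal.map ι
    exact Ideal.mul_mem_right _ _ (Ideal.mem_map_of_mem _
      (HomogeneousIdeal.mem_irrelevant_of_mem 𝒜 hi (SetLike.coe_mem _)))

end Groth.Agent.S15122
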