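import Groth.Statements.S15123
import Groth.Agent.H20Comod.MonAlgGrade
import Mathlib.RingTheory.Spectrum.Prime.Topology
import Mathlib.RingTheory.Jacobson.Ring

set_option autoImplicit false
universe u v w
open InvQ

namespace Groth.Agent.S15123
open Groth.Agent.H20Comod.MonAlgGrade TensorProduct in
theorem key
    {k : Type*} [Field k] {Λ : Type*} [AddCommGroup Λ] {R : Type*} [CommRing R] [Algebra k R]
    [HopfRep.Comod k (AddMonoidAlgebra k Λ) R] [GLin.IsCoactAlg k (AddMonoidAlgebra k Λ) R]
    (hpos : ∀ w : Λ, HopfRep.eigenspace k (AddMonoidAlgebra k Λ) R (AddMonoidAlgebra.single w 1) ≠ ⊥ →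
      HopfRep.eigenspace k (AddMonoidAlgebra k Λ) R (AddMonoidAlgebra.single (-w) 1) ≠ ⊥ → w = 0)
    (x : R →ₐ[k] k) :
    GLin.IsClosedOrbit k (AddMonoidAlgebra k Λ) x ↔ GLin.IsFixedPt k (AddMonoidAlgebra k Λ) x := by
  classical
  let A := AddMonoidAlgebra k Λ
  let o := GLin.orbitHom k A x
  have ho : ∀ {a : Λ} {f : R}, f ∈ HopfRep.eigenspace k A R (AddMonoidAlgebra.single a 1) →
      o f = x f • AddMonoidAlgebra.single a (1 : k) := fun {a f} hf => by
    show GLin.orbitHom k A x f = _
    simp only [GLin.orbitHom, AlgHom.comp_apply, GLin.coactAlgHom_apply]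
    rw [show HopfRep.Comod.coact (k := k) (A := A) f = f ⊗ₜ[k] AddMonoidAlgebra.single a 1 from hf]
    simp
    exact (AddMonoidAlgebra.smul_single _ _ _).trans (by rw [smul_eq_mul, mul_one])
  constructor
  · intro hcl
    let x₀ : R →ₐ[k] k := x.comp (projZeroHom k Λ R hpos)
    have hsub : RingHom.ker o.toRingHom ≤ RingHom.ker x₀ := by
      intro f hf
      have hf0 : o f = 0 := hf
      have hgen : ∀ g : R, co k Λ 0 (o g) = x₀ g := fun g => by
        induction g using induction_weight k Λ R with
        | h0 => simp
        | hadd u v hu hv => simp [hu, hv]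
        | hw a u hu =>
          show co k Λ 0 (o u) = x (proj k Λ R 0 u)
          rw [ho hu, map_smul, co_single, proj_of_mem_eigenspace k Λ R hu]
          split_ifs <;> simp
      show x₀ f = 0
      rw [← hgen, hf0, map_zero]
    haveI : (RingHom.ker x₀).IsMaximal :=
      RingHom.ker_isMaximal_of_surjective x₀ fun c => ⟨algebraMap k R c, AlgHom.commutes _ _⟩
    have hmem : (⟨RingHom.ker x₀, inferInstance⟩ : PrimeSpectrum R) ∈ closure (Set.range (PrimeSpectrum.comap o.toRingHom)) := by
      rw [PrimeSpectrum.closure_range_comap]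
      exact hsub
    rw [IsClosed.closure_eq hcl] at hmem
    obtain ⟨q, hq⟩ := hmem
    have hzero : ∀ {a : Λ} {f : R}, f ∈ HopfRep.eigenspace k A R (AddMonoidAlgebra.single a 1) → a ≠ 0 → x f = 0 := by
      intro a f hf ha
      by_contra hx
      have h1 : f ∈ RingHom.ker x₀ := by
        show x (proj k Λ R 0 f) = 0
        rw [proj_of_mem_eigenspace k Λ R hf, if_neg ha, map_zero]
      have h2 : o f ∈ q.asIdeal := by
        have hq' := congrArg PrimeSpectrum.asIdeal hq
        change _ = RingHom.ker x₀ at hq'
        rw [← hq'] at h1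
        exact h1
      refine q.2.ne_top (Ideal.eq_top_of_isUnit_mem _ h2 ?_)
      rw [ho hf, Algebra.smul_def]
      refine ((Ne.isUnit hx).map _).mul ?_
      exact IsUnit.of_mul_eq_one (AddMonoidAlgebra.single (-a) (1 : k))
        (by rw [AddMonoidAlgebra.single_mul_single, add_neg_cancel, one_mul, AddMonoidAlgebra.one_def])
    refine AlgHom.ext fun f => ?_
    induction f using induction_weight k Λ R with
    | h0 => simp
    | hadd u v hu hv => simp [hu, hv]
    | hw a u hu =>
      show o u = Algebra.ofId k A (x u)
      rw [ho hu]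
      by_cases ha : a = 0
      · subst ha; rw [← AddMonoidAlgebra.one_def, ← Algebra.algebraMap_eq_smul_one]; rfl
      · rw [hzero hu ha, zero_smul, map_zero]
  · intro hfix
    haveI : (RingHom.ker x).IsMaximal :=
      RingHom.ker_isMaximal_of_surjective x fun c => ⟨algebraMap k R c, AlgHom.commutes _ _⟩
    have hr : Set.range (PrimeSpectrum.comap o.toRingHom) = {(⟨RingHom.ker x, inferInstance⟩ : PrimeSpectrum R)} := by
      have hc : ∀ q : PrimeSpectrum A, PrimeSpectrum.comap o.toRingHom q = ⟨RingHom.ker x, inferInstance⟩ := by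
        intro q
        refine PrimeSpectrum.ext ((‹(RingHom.ker x).IsMaximal›.eq_of_le (PrimeSpectrum.comap o.toRingHom q).2.ne_top ?_).symm)
        intro f hf
        show o f ∈ q.asIdeal
        rw [show o f = Algebra.ofId k A (x f) from AlgHom.congr_fun hfix f, (RingHom.mem_ker).1 hf, map_zero]
        exact q.asIdeal.zero_mem
      refine Set.eq_singleton_iff_unique_mem.2 ⟨?_, fun p ⟨q, hq⟩ => hq ▸ hc q⟩
      obtain ⟨q⟩ : Nonempty (PrimeSpectrum A) := inferInstance
      exact ⟨q, hc q⟩
    show IsClosed (Set.range _)
    rw [hr]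
    exact (PrimeSpectrum.isClosed_singleton_iff_isMaximal _).2 inferInstance


/-- Let k be an algebraically closed field of characteristic zero, Λ a finitely generated free abelian
group and k[Λ] its group algebra, the coordinate Hopf algebra of the torus with character group Λ.
Let R be a reduced finitely generated commutative k-algebra with a multiplicative coaction of k[Λ]
(an action of the torus on the affine variety Spec R), and suppose the grading monoid is positive:
if R has a non-zero eigenvector of weight w and one of weight −w then w = 0. Then for every k-point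
x of Spec R, the orbit of x is closed if and only if x is a fixed point. (The published statement
also asserts that the fixed-point subvariety is affine and is a good quotient for the action; only
the description of the closed orbits is stated here.) -/
theorem result
    (k : Type u) [Field k] [IsAlgClosed k] [CharZero k]
    (Λ : Type v) [AddCommGroup Λ] [Module.Free ℤ Λ] [Module.Finite ℤ Λ]
    (R : Type w) [CommRing R] [Algebra k R] [Algebra.FiniteType k R] [IsReduced R]
    [HopfRep.Comod k (AddMonoidAlgebra k Λ) R] [GLin.IsCoactAlg k (AddMonoidAlgebra k Λ) R]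
    (hpos : ∀ w : Λ, HopfRep.eigenspace k (AddMonoidAlgebra k Λ) R (AddMonoidAlgebra.single w 1) ≠ ⊥ →
      HopfRep.eigenspace k (AddMonoidAlgebra k Λ) R (AddMonoidAlgebra.single (-w) 1) ≠ ⊥ → w = 0)
    (x : R →ₐ[k] k) :
    GLin.IsClosedOrbit k (AddMonoidAlgebra k Λ) x ↔ GLin.IsFixedPt k (AddMonoidAlgebra k Λ) x := by
  exact key hpos x

end Groth.Agent.S15123
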