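import Groth.Statements.S15124
import Groth.Agent.H20Comod.MonAlgGrade

set_option autoImplicit false
universe u v w
open InvQ

namespace Groth.Agent.S15124
open Groth.Agent.H20Comod.MonAlgGrade in
theorem key
    {k : Type*} [CommRing k] {Λ : Type*} [AddCommGroup Λ] {R : Type*} [CommRing R] [Algebra k R]
    [HopfRep.Comod k (AddMonoidAlgebra k Λ) R] [GLin.IsCoactAlg k (AddMonoidAlgebra k Λ) R]
    (hpos : ∀ w : Λ, HopfRep.eigenspace k (AddMonoidAlgebra k Λ) R (AddMonoidAlgebra.single w 1) ≠ ⊥ →
      HopfRep.eigenspace k (AddMonoidAlgebra k Λ) R (AddMonoidAlgebra.single (-w) 1) ≠ ⊥ → w = 0) :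
    Function.Bijective
      ((Ideal.Quotient.mkₐ k (Ideal.span {f : R | ∃ w : Λ, w ≠ 0 ∧
          f ∈ HopfRep.eigenspace k (AddMonoidAlgebra k Λ) R (AddMonoidAlgebra.single w 1)})).comp
        (GLin.invariants k (AddMonoidAlgebra k Λ) R).val) := by
  classical
  set I := Ideal.span {f : R | ∃ w : Λ, w ≠ 0 ∧
    f ∈ HopfRep.eigenspace k (AddMonoidAlgebra k Λ) R (AddMonoidAlgebra.single w 1)}
  let p := projZeroHom k Λ R hpos
  have hI : I ≤ RingHom.ker p := Ideal.span_le.2 fun f ⟨w, hw, hf⟩ => by
    show proj k Λ R 0 f = 0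
    rw [proj_of_mem_eigenspace k Λ R hf, if_neg hw]
  have hinv : ∀ f : R, f ∈ GLin.invariants k (AddMonoidAlgebra k Λ) R ↔
      f ∈ HopfRep.eigenspace k (AddMonoidAlgebra k Λ) R (AddMonoidAlgebra.single (0 : Λ) 1) := fun f => by
    rw [← AddMonoidAlgebra.one_def]; rfl
  constructor
  · rw [injective_iff_map_eq_zero]
    intro f hf
    have h := hI (Ideal.Quotient.eq_zero_iff_mem.1 hf)
    rw [RingHom.mem_ker] at h
    have h' : proj k Λ R 0 (f : R) = (f : R) := by rw [proj_of_mem_eigenspace k Λ R ((hinv _).1 f.2), if_pos rfl]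
    exact Subtype.ext (h'.symm.trans h)
  · intro z
    obtain ⟨f, rfl⟩ := Ideal.Quotient.mk_surjective z
    refine ⟨⟨proj k Λ R 0 f, (hinv _).2 (proj_mem_eigenspace k Λ R 0 f)⟩, ?_⟩
    show Ideal.Quotient.mk I (proj k Λ R 0 f) = Ideal.Quotient.mk I f
    induction f using induction_weight k Λ R with
    | h0 => simp
    | hadd x y hx hy => simp [hx, hy]
    | hw a x hx =>
      rw [proj_of_mem_eigenspace k Λ R hx]
      split_ifs with ha
      · rfl
      · rw [map_zero, eq_comm, Ideal.Quotient.eq_zero_iff_mem]
        exact Ideal.subset_span ⟨a, ha, hx⟩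


/-- Let k be an algebraically closed field of characteristic zero, Λ a finitely generated free abelian
group with group algebra k[Λ] (the coordinate Hopf algebra of a torus T), and R a reduced finitely
generated commutative k-algebra with a multiplicative coaction of k[Λ] (an action of T on the affine
variety X = Spec R) whose grading monoid is positive: if R has non-zero eigenvectors of weights w
and −w then w = 0. Let I be the ideal of R generated by all eigenvectors of non-zero weight (the
ideal of the fixed-point subscheme X^T). Then the composite of the inclusion of the ring of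
invariants R^T into R with the projection R → R/I is bijective: the fixed-point subscheme maps
isomorphically onto the affine quotient Spec R^T. (The published statement phrases this as: X^T is
affine and X → X^T is a good quotient; the good-quotient property itself is not restated here.) -/
theorem result
    (k : Type u) [Field k] [IsAlgClosed k] [CharZero k]
    (Λ : Type v) [AddCommGroup Λ] [Module.Free ℤ Λ] [Module.Finite ℤ Λ]
    (R : Type w) [CommRing R] [Algebra k R] [Algebra.FiniteType k R] [IsReduced R]
    [HopfRep.Comod k (AddMonoidAlgebra k Λ) R] [GLin.IsCoactAlg k (AddMonoidAlgebra k Λ) R]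
    (hpos : ∀ w : Λ, HopfRep.eigenspace k (AddMonoidAlgebra k Λ) R (AddMonoidAlgebra.single w 1) ≠ ⊥ →
      HopfRep.eigenspace k (AddMonoidAlgebra k Λ) R (AddMonoidAlgebra.single (-w) 1) ≠ ⊥ → w = 0) :
    Function.Bijective
      ((Ideal.Quotient.mkₐ k (Ideal.span {f : R | ∃ w : Λ, w ≠ 0 ∧
          f ∈ HopfRep.eigenspace k (AddMonoidAlgebra k Λ) R (AddMonoidAlgebra.single w 1)})).comp
        (GLin.invariants k (AddMonoidAlgebra k Λ) R).val) := by
  exact key hpos

end Groth.Agent.S15124
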