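import Groth.Statements.S15125
import Mathlib

set_option autoImplicit false
universe u
open scoped TensorProduct
open Fields

namespace Groth.Agent.S15125

/-- Let L be a finitely generated field extension of K, and I ⊆ L ⊗_K L the kernel of multiplication L
⊗_K L → L. An element x of L has the property that x ⊗ 1 and 1 ⊗ x have the same image in the I-adic
completion of L ⊗_K L if and only if x is separable algebraic over K. Equivalently, the equaliser of
the two natural maps from L to that completion is the separable algebraic closure of K in L. -/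
theorem result
    (K L : Type u) [Field K] [Field L] [Algebra K L]
    (hfg : (⊤ : IntermediateField K L).FG) (x : L) :
    AdicCompletion.of (KaehlerDifferential.ideal K L) (L ⊗[K] L) (x ⊗ₜ[K] (1 : L)) =
        AdicCompletion.of (KaehlerDifferential.ideal K L) (L ⊗[K] L) ((1 : L) ⊗ₜ[K] x) ↔
      x ∈ separableClosure K L := by
  classical
  haveI : Algebra.EssFiniteType K L := IntermediateField.fg_top_iff.mp hfg
  haveI : IsNoetherianRing (L ⊗[K] L) := Algebra.EssFiniteType.isNoetherianRing L (L ⊗[K] L)
  set μ := Algebra.TensorProduct.lmul' (S := L) K with hμdef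
  set I := KaehlerDifferential.ideal K L with hIdef
  have hI : ∀ {z : L ⊗[K] L}, z ∈ I ↔ μ z = 0 := Iff.rfl
  set d : L ⊗[K] L := x ⊗ₜ[K] (1 : L) - (1 : L) ⊗ₜ[K] x with hd
  have hiff : AdicCompletion.of I (L ⊗[K] L) (x ⊗ₜ[K] (1 : L)) =
      AdicCompletion.of I (L ⊗[K] L) ((1 : L) ⊗ₜ[K] x) ↔
      d ∈ (⨅ n : ℕ, I ^ n • ⊤ : Submodule (L ⊗[K] L) (L ⊗[K] L)) := by
    rw [Submodule.mem_iInf, hd]
    constructor
    · intro h n
      have h1 := congrArg (fun c => c.1 n) h
      simp only [AdicCompletion.of_apply, Submodule.mkQ_apply, Submodule.Quotient.eq] at h1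
      exact h1
    · intro h
      refine Subtype.ext (funext fun n => ?_)
      simp only [AdicCompletion.of_apply, Submodule.mkQ_apply, Submodule.Quotient.eq]
      exact h n
  rw [hiff, Ideal.mem_iInf_smul_pow_eq_bot_iff]
  have hdI : μ d = 0 := by simp [hd, μ]
  constructor
  · rintro ⟨⟨r, hr⟩, hrd⟩
    have hsd : (1 - r) * d = 0 := by rw [sub_mul, one_mul, ← smul_eq_mul r d, hrd, sub_self]
    have hs1 : μ (1 - r) = 1 := by rw [map_sub, map_one, hI.mp hr, sub_zero]
    set s := 1 - r
    -- descend to `F = K(x)`
    let F := IntermediateField.adjoin K {x}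
    let xF : F := ⟨x, IntermediateField.mem_adjoin_simple_self K x⟩
    haveI hF : Algebra.EssFiniteType K F :=
      IntermediateField.fg_top_iff.mp ⟨{xF}, by
        apply IntermediateField.map_injective F.val
        rw [IntermediateField.adjoin_map, ← AlgHom.fieldRange_eq_map, IntermediateField.fieldRange_val]
        simp [F, xF]⟩
    let b := Module.Free.chooseBasis F L
    let q : L ⊗[K] L →ₗ[K] L ⊗[F] L := TensorProduct.lift
      (LinearMap.mk₂ K (fun a a' => a ⊗ₜ[F] a') (fun a a' c => TensorProduct.add_tmul a a' c)
        (fun k a c => (TensorProduct.smul_tmul' k a c).symm) (fun a c c' => TensorProduct.tmul_add a c c')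
        (fun k a c => TensorProduct.tmul_smul k a c))
    have hq : q s ≠ 0 := by
      intro h0
      have h1 : ∀ z, Algebra.TensorProduct.lmul' (S := L) F (q z) = μ z := by
        intro z
        induction z using TensorProduct.induction_on with
        | zero => simp
        | tmul a a' => simp [q, μ]
        | add z z' hz hz' => rw [map_add, map_add, map_add, hz, hz']
      have h2 := h1 s
      rw [h0, map_zero, hs1] at h2
      exact zero_ne_one h2
    obtain ⟨⟨i, j⟩, hij⟩ : ∃ p, (b.tensorProduct b).repr (q s) p ≠ 0 := by
      by_contra h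
      push Not at h
      exact hq ((b.tensorProduct b).repr.map_eq_zero_iff.mp (Finsupp.ext h))
    let π : L ⊗[K] L →ₗ[K] F ⊗[K] F :=
      TensorProduct.map ((b.coord i).restrictScalars K) ((b.coord j).restrictScalars K)
    have hlin : ∀ (w : F ⊗[K] F) (z : L ⊗[K] L),
        π (Algebra.TensorProduct.map (IsScalarTower.toAlgHom K F L) (IsScalarTower.toAlgHom K F L) w * z) =
          w * π z := by
      intro w z
      induction z using TensorProduct.induction_on with
      | zero => simp
      | add z z' hz hz' => rw [mul_add, map_add, hz, hz', map_add, mul_add]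
      | tmul a a' =>
        induction w using TensorProduct.induction_on with
        | zero => simp
        | add w w' hw hw' => rw [map_add, add_mul, map_add, hw, hw', add_mul]
        | tmul c c' =>
          simp only [Algebra.TensorProduct.map_tmul, Algebra.TensorProduct.tmul_mul_tmul, π,
            TensorProduct.map_tmul, LinearMap.restrictScalars_apply, IsScalarTower.toAlgHom_apply,
            ← Algebra.smul_def, map_smul, smul_eq_mul]
    set dF : F ⊗[K] F := (1 : F) ⊗ₜ[K] xF - xF ⊗ₜ[K] (1 : F) with hdF
    have hkill : π s * dF = 0 := by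
      have h1 : Algebra.TensorProduct.map (IsScalarTower.toAlgHom K F L) (IsScalarTower.toAlgHom K F L) dF = -d := by
        simp [hdF, hd, xF]
      refine (mul_comm (π s) dF).trans ?_
      rw [← hlin, h1, neg_mul, show d * s = 0 from (mul_comm d s).trans hsd, neg_zero, map_zero]
    set c := Algebra.TensorProduct.lmul' (S := F) K (π s) with hc
    have hc0 : c ≠ 0 := by
      have h1 : ∀ z, Algebra.TensorProduct.lmul' (S := F) K (π z) = (b.tensorProduct b).repr (q z) (i, j) := by
        intro z
        induction z using TensorProduct.induction_on with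
        | zero => simp
        | add z z' hz hz' => simp only [map_add, Finsupp.add_apply, hz, hz']
        | tmul a a' =>
          simp [π, q, Module.Basis.tensorProduct_repr_tmul_apply, mul_comm]
      rw [hc, h1]
      exact hij
    have hD : KaehlerDifferential.D K F xF = 0 := by
      rw [KaehlerDifferential.D_apply]
      refine (Ideal.toCotangent_eq_zero _ _).mpr ?_
      have hm : (c ⊗ₜ[K] (1 : F) - π s) * dF ∈ KaehlerDifferential.ideal K F ^ 2 := by
        rw [pow_two]
        refine Ideal.mul_mem_mul ?_ (KaehlerDifferential.one_smul_sub_smul_one_mem_ideal K xF)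
        show Algebra.TensorProduct.lmul' (S := F) K _ = 0
        simp [hc]
      rw [sub_mul, hkill, sub_zero] at hm
      have h2 := Ideal.mul_mem_left _ (c⁻¹ ⊗ₜ[K] (1 : F)) hm
      rw [← mul_assoc, Algebra.TensorProduct.tmul_mul_tmul, inv_mul_cancel₀ hc0, one_mul,
        ← Algebra.TensorProduct.one_def, one_mul] at h2
      exact h2
    let D := KaehlerDifferential.D K F
    let Z : IntermediateField K F :=
      { carrier := {y | D y = 0}
        mul_mem' := fun {a a'} (ha : D a = 0) (ha' : D a' = 0) => show D (a * a') = 0 by
          rw [Derivation.leibniz, ha, ha']; simp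
        one_mem' := show D 1 = 0 from D.map_one_eq_zero
        add_mem' := fun {a a'} (ha : D a = 0) (ha' : D a' = 0) => show D (a + a') = 0 by
          rw [map_add, ha, ha', add_zero]
        zero_mem' := show D 0 = 0 from map_zero _
        algebraMap_mem' := fun k => show D _ = 0 from D.map_algebraMap k
        inv_mem' := fun a (ha : D a = 0) => show D a⁻¹ = 0 by
          rw [Derivation.leibniz_inv, ha, smul_zero] }
    have hZ : ∀ y : F, y ∈ Z := by
      intro y
      have h1 : F ≤ Z.map F.val := by
        rw [IntermediateField.adjoin_simple_le_iff]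
        exact ⟨xF, hD, rfl⟩
      obtain ⟨y', hy', hyy⟩ := h1 y.2
      exact (Subtype.ext hyy : y' = y) ▸ hy'
    haveI : Algebra.FormallyUnramified K F := ⟨by
      refine subsingleton_of_forall_eq 0 fun z => ?_
      have h1 : z ∈ Submodule.span F (Set.range D) :=
        KaehlerDifferential.span_range_derivation K F ▸ Submodule.mem_top
      induction h1 using Submodule.span_induction with
      | mem w hw => obtain ⟨y, rfl⟩ := hw; exact hZ y
      | zero => rfl
      | add a a' _ _ ha ha' => rw [ha, ha', add_zero]
      | smul r a _ ha => rw [ha, smul_zero]⟩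
    haveI : Algebra.IsSeparable K F := Algebra.FormallyUnramified.isSeparable K F
    rw [mem_separableClosure_iff]
    have h5 : IsSeparable K xF := Algebra.IsSeparable.isSeparable K xF
    have h6 : minpoly K (F.val xF) = minpoly K xF := minpoly.algHom_eq F.val F.val.injective xF
    unfold IsSeparable at h5 ⊢
    rw [← h6] at h5
    exact h5
  · intro hx
    rw [mem_separableClosure_iff] at hx
    obtain ⟨k, hk⟩ := Polynomial.binomExpansion ((minpoly K x).map (algebraMap K (L ⊗[K] L))) ((1 : L) ⊗ₜ[K] x) d
    have hsum : (1 : L) ⊗ₜ[K] x + d = x ⊗ₜ[K] (1 : L) := by rw [hd]; abel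
    have e1 : ∀ (g : L →ₐ[K] L ⊗[K] L) (P : Polynomial K),
        (P.map (algebraMap K (L ⊗[K] L))).eval (g x) = g (Polynomial.aeval x P) := by
      intro g P
      rw [Polynomial.eval_map_algebraMap, Polynomial.aeval_algHom_apply]
    have hl := e1 Algebra.TensorProduct.includeLeft (minpoly K x)
    have hr := e1 Algebra.TensorProduct.includeRight (minpoly K x)
    have hr' := e1 Algebra.TensorProduct.includeRight (minpoly K x).derivative
    simp only [minpoly.aeval, map_zero, Algebra.TensorProduct.includeLeft_apply,
      Algebra.TensorProduct.includeRight_apply] at hl hr hr'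
    rw [hsum, hl, hr, Polynomial.derivative_map, hr', zero_add] at hk
    have hu : Polynomial.aeval x (minpoly K x).derivative ≠ 0 :=
      hx.aeval_derivative_ne_zero (minpoly.aeval K x)
    set u := Polynomial.aeval x (minpoly K x).derivative
    refine ⟨⟨-((1 : L) ⊗ₜ[K] u⁻¹ * k * d), ?_⟩, ?_⟩
    · rw [hI]; simp [hdI]
    · show -((1 : L) ⊗ₜ[K] u⁻¹ * k * d) * d = d
      have h3 : (1 : L) ⊗ₜ[K] u⁻¹ * ((1 : L) ⊗ₜ[K] u) = 1 := by
        rw [Algebra.TensorProduct.tmul_mul_tmul, one_mul, inv_mul_cancel₀ hu, Algebra.TensorProduct.one_def]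
      linear_combination ((1 : L) ⊗ₜ[K] u⁻¹) * hk + d * h3

end Groth.Agent.S15125
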