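import Groth.Statements.S15126
import Mathlib.RingTheory.MvPowerSeries.Basic
import Mathlib.RingTheory.Adjoin.Basic
import Mathlib.RingTheory.Ideal.Quotient.Operations
import Mathlib.Algebra.MvPolynomial.Eval
import Mathlib.Data.Finsupp.Encodable
import Mathlib.Data.Set.Countable

set_option autoImplicit false
set_option linter.style.haveILetI false
universe u
open Formal

namespace Groth.Agent.S15126

/-- Affine case. Let k be a field, n > 0, and R a commutative algebra over the power series ring
k[[z_1,…,z_n]]; for a commutative k-algebra Q regard Q[[z_1,…,z_n]] as a k[[z]]-algebra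
coefficientwise. Then the functor Q ↦ Hom_{k[[z]]-alg}(R, Q[[z]]) on commutative k-algebras is
corepresentable: there exist a commutative k-algebra P and a k[[z]]-algebra homomorphism u : R →
P[[z]] such that every k[[z]]-algebra homomorphism R → Q[[z]] arises from u by applying a unique
k-algebra homomorphism P → Q coefficientwise. If moreover R is countably generated as a
k[[z]]-algebra, P may be taken countably generated over k. (The published statement is for an adic
formal scheme Y over the formal disc Spf k[[z]], asserting that the sheaf of sections of Y over the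
disc is a scheme, affine over the fibre of Y at the origin, and of pro-finite type when Y is; this
row is the case Y = Spf R, to which the published argument reduces, stated for the underlying
algebra R; k is algebraically closed there, which is not used.) -/
theorem result
    (k : Type u) [Field k] (n : ℕ) (hn : 0 < n)
    (R : Type u) [CommRing R] [Algebra (MvPowerSeries (Fin n) k) R] :
    ∃ (P : Type u) (_ : CommRing P) (_ : Algebra k P)
      (u : R →ₐ[MvPowerSeries (Fin n) k] MvPowerSeries (Fin n) P),
      (∀ (Q : Type u) [CommRing Q] [Algebra k Q]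
          (f : R →ₐ[MvPowerSeries (Fin n) k] MvPowerSeries (Fin n) Q),
          ∃! g : P →ₐ[k] Q,
            (MvPowerSeries.map (σ := Fin n) (g : P →+* Q)).comp (u : R →+* MvPowerSeries (Fin n) P) =
              (f : R →+* MvPowerSeries (Fin n) Q)) ∧
      ((∃ s : Set R, s.Countable ∧ Algebra.adjoin (MvPowerSeries (Fin n) k) s = ⊤) →
        ∃ t : Set P, t.Countable ∧ Algebra.adjoin k t = ⊤) := by
  classical
  let σ := Fin n →₀ ℕ
  let P0 := MvPolynomial (R × σ) k
  let U : R → MvPowerSeries (Fin n) P0 := fun r d => MvPolynomial.X (r, d)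
  let al : MvPowerSeries (Fin n) k →+* MvPowerSeries (Fin n) P0 := MvPowerSeries.map (algebraMap k P0)
  let rel : Set P0 :=
    {x | (∃ r s d, MvPowerSeries.coeff d (U (r + s) - U r - U s) = x) ∨
      (∃ r s d, MvPowerSeries.coeff d (U (r * s) - U r * U s) = x) ∨
      (∃ (c : MvPowerSeries (Fin n) k) (d : σ),
        MvPowerSeries.coeff d (U (algebraMap (MvPowerSeries (Fin n) k) R c) - al c) = x)}
  let I : Ideal P0 := Ideal.span rel
  let π : P0 →ₐ[k] P0 ⧸ I := Ideal.Quotient.mkₐ k I
  let Pm := MvPowerSeries.map (σ := Fin n) (π : P0 →+* P0 ⧸ I)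
  have hrel : ∀ {x : MvPowerSeries (Fin n) P0}, (∀ d, MvPowerSeries.coeff d x ∈ rel) → Pm x = 0 := fun {x} hx => by
    ext d
    rw [MvPowerSeries.coeff_map, map_zero]
    exact Ideal.Quotient.eq_zero_iff_mem.mpr (Ideal.subset_span (hx d))
  have halg : ∀ (Q : Type u) [CommRing Q] [Algebra k Q],
      (algebraMap (MvPowerSeries (Fin n) k) (MvPowerSeries (Fin n) Q)) = MvPowerSeries.map (algebraMap k Q) :=
    fun Q _ _ => rfl
  have hadd : ∀ r s, Pm (U (r + s)) = Pm (U r) + Pm (U s) := fun r s => by
    rw [← sub_eq_zero, ← sub_sub, ← map_sub, ← map_sub]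
    exact hrel fun d => Or.inl ⟨r, s, d, rfl⟩
  have hmul : ∀ r s, Pm (U (r * s)) = Pm (U r) * Pm (U s) := fun r s => by
    rw [← sub_eq_zero, ← map_mul, ← map_sub]
    exact hrel fun d => Or.inr (Or.inl ⟨r, s, d, rfl⟩)
  have hal : ∀ c, Pm (U (algebraMap (MvPowerSeries (Fin n) k) R c)) =
      algebraMap (MvPowerSeries (Fin n) k) (MvPowerSeries (Fin n) (P0 ⧸ I)) c := fun c => by
    have h1 : Pm (al c) = algebraMap (MvPowerSeries (Fin n) k) (MvPowerSeries (Fin n) (P0 ⧸ I)) c := by
      ext d
      rw [halg]
      simp only [Pm, al, MvPowerSeries.coeff_map]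
      exact π.commutes _
    rw [← h1, ← sub_eq_zero, ← map_sub]
    exact hrel fun d => Or.inr (Or.inr ⟨c, d, rfl⟩)
  let u : R →ₐ[MvPowerSeries (Fin n) k] MvPowerSeries (Fin n) (P0 ⧸ I) :=
    { toFun := fun r => Pm (U r)
      map_one' := by simpa using hal 1
      map_mul' := hmul
      map_zero' := by simpa using hal 0
      map_add' := hadd
      commutes' := hal }
  have hu : ∀ r d, MvPowerSeries.coeff d (u r) = π (MvPolynomial.X (r, d)) := fun r d =>
    MvPowerSeries.coeff_map (π : P0 →+* P0 ⧸ I) d (U r)
  refine ⟨P0 ⧸ I, inferInstance, inferInstance, u, fun Q _ _ f => ?_, fun hs => ?_⟩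
  · let g0 : P0 →ₐ[k] Q := MvPolynomial.aeval fun p : R × σ => MvPowerSeries.coeff p.2 (f p.1)
    let G := MvPowerSeries.map (σ := Fin n) (g0 : P0 →+* Q)
    have hG : ∀ r, G (U r) = f r := fun r => MvPowerSeries.ext fun d => by
      rw [MvPowerSeries.coeff_map]
      exact MvPolynomial.aeval_X _ _
    have hGal : ∀ c, G (al c) = algebraMap (MvPowerSeries (Fin n) k) (MvPowerSeries (Fin n) Q) c := fun c => by
      ext d
      rw [halg]
      simp only [G, al, MvPowerSeries.coeff_map]
      exact g0.commutes _
    have hI : ∀ a ∈ I, g0 a = 0 := by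
      intro a ha
      have : I ≤ RingHom.ker g0 := by
        refine Ideal.span_le.mpr ?_
        rintro x (⟨r, s, d, rfl⟩ | ⟨r, s, d, rfl⟩ | ⟨c, d, rfl⟩)
        · show (g0 : P0 →+* Q) _ = 0
          rw [← MvPowerSeries.coeff_map]
          show MvPowerSeries.coeff d (G (U (r + s) - U r - U s)) = 0
          rw [map_sub G, map_sub G, hG, hG, hG, map_add, add_sub_cancel_left, sub_self, map_zero]
        · show (g0 : P0 →+* Q) _ = 0
          rw [← MvPowerSeries.coeff_map]
          show MvPowerSeries.coeff d (G (U (r * s) - U r * U s)) = 0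
          rw [map_sub G, map_mul G, hG, hG, hG, map_mul, sub_self, map_zero]
        · show (g0 : P0 →+* Q) _ = 0
          rw [← MvPowerSeries.coeff_map, map_sub]
          show MvPowerSeries.coeff d (G (U _) - G (al c)) = 0
          rw [hG, hGal, AlgHom.commutes, sub_self, map_zero]
      exact this ha
    refine ⟨Ideal.Quotient.liftₐ I g0 hI, RingHom.ext fun r => MvPowerSeries.ext fun d => ?_, fun g hg => ?_⟩
    · simp only [RingHom.coe_comp, Function.comp_apply, MvPowerSeries.coeff_map, RingHom.coe_coe, hu]
      exact MvPolynomial.aeval_X _ _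
    · apply Ideal.Quotient.algHom_ext
      apply MvPolynomial.algHom_ext
      rintro ⟨r, d⟩
      have := congrArg (MvPowerSeries.coeff d) (RingHom.congr_fun hg r)
      simp only [RingHom.coe_comp, Function.comp_apply, MvPowerSeries.coeff_map, RingHom.coe_coe, hu] at this
      exact this.trans (MvPolynomial.aeval_X (fun p : R × σ => MvPowerSeries.coeff p.2 (f p.1)) (r, d)).symm
  · obtain ⟨s, hsc, hs⟩ := hs
    refine ⟨⋃ r ∈ s, Set.range fun d => MvPowerSeries.coeff d (u r), hsc.biUnion fun r _ => Set.countable_range _, ?_⟩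
    set t := ⋃ r ∈ s, Set.range fun d => MvPowerSeries.coeff d (u r) with ht
    have hall : ∀ r, ∀ d, MvPowerSeries.coeff d (u r) ∈ Algebra.adjoin k t := by
      intro r
      have hr : r ∈ Algebra.adjoin (MvPowerSeries (Fin n) k) s := hs ▸ Algebra.mem_top
      induction hr using Algebra.adjoin_induction with
      | mem x hx => exact fun d => Algebra.subset_adjoin (Set.mem_biUnion hx ⟨d, rfl⟩)
      | algebraMap c =>
        intro d
        rw [AlgHom.commutes, halg, MvPowerSeries.coeff_map]
        exact Subalgebra.algebraMap_mem _ _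
      | add x y _ _ hx hy => intro d; rw [map_add, map_add]; exact add_mem (hx d) (hy d)
      | mul x y _ _ hx hy =>
        intro d
        rw [map_mul, MvPowerSeries.coeff_mul]
        exact sum_mem fun p _ => mul_mem (hx p.1) (hy p.2)
    refine eq_top_iff.mpr fun p hp => ?_
    clear hp
    obtain ⟨q, rfl⟩ := Ideal.Quotient.mk_surjective p
    induction q using MvPolynomial.induction_on with
    | C a => exact Subalgebra.algebraMap_mem _ a
    | add a b ha hb => rw [map_add]; exact add_mem ha hb
    | mul_X a i ha =>
      rw [map_mul]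
      refine mul_mem ha ?_
      have := hall i.1 i.2
      rw [hu] at this
      exact this

end Groth.Agent.S15126
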