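import Groth.Statements.S15129
import Groth.Agent.H3CAlg.ArtinFlat

set_option autoImplicit false
universe u v
open CAlg

namespace Groth.Agent.S15129

/-- Over an Artinian local ring A with residue field k, for an exact sequence 0 → M → N → P → 0 of
A-modules with N flat: if k ⊗_A M → k ⊗_A N is injective then P is flat; if P is flat then M is flat
and k ⊗_A M → k ⊗_A N is injective. (The published statement is for local Artinian algebras over an
algebraically closed field of characteristic zero having that field as residue field; this row
allows any Artinian local ring.) -/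
theorem result
    (A : Type u) [CommRing A] [IsLocalRing A] [IsArtinianRing A]
    (M N P : Type v) [AddCommGroup M] [Module A M] [AddCommGroup N] [Module A N]
    [AddCommGroup P] [Module A P] [Module.Flat A N] (f : M →ₗ[A] N) (g : N →ₗ[A] P)
    (hf : Function.Injective f) (hg : Function.Surjective g) (hfg : Function.Exact f g) :
    (Function.Injective (f.lTensor (IsLocalRing.ResidueField A)) → Module.Flat A P) ∧
    (Module.Flat A P → Module.Flat A M ∧ Function.Injective (f.lTensor (IsLocalRing.ResidueField A))) := by
  constructor
  · intro hi
    obtain ⟨⟨r, hr⟩, -⟩ := Groth.Agent.H3CAlg.exists_leftInverse_and_flat f hi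
    let t : N →ₗ[A] N := LinearMap.id - f.comp r
    have ht : LinearMap.ker g ≤ LinearMap.ker t := by
      intro y hy
      obtain ⟨x, rfl⟩ := (hfg y).mp hy
      simp [t, show r (f x) = x from LinearMap.congr_fun hr x]
    let s : P →ₗ[A] N := ((LinearMap.ker g).liftQ t ht).comp (g.quotKerEquivOfSurjective hg).symm.toLinearMap
    refine Module.Flat.of_retract s g (LinearMap.ext fun p => ?_)
    obtain ⟨y, rfl⟩ := hg p
    have : (g.quotKerEquivOfSurjective hg).symm (g y) = Submodule.Quotient.mk y := by
      rw [LinearEquiv.symm_apply_eq]; rfl
    simp [s, this, t, hfg.apply_apply_eq_zero]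
  · intro _
    have hi : Function.Injective (f.lTensor (IsLocalRing.ResidueField A)) :=
      LinearMap.lTensor_injective_of_exact_of_flat g hg f hf hfg _
    exact ⟨(Groth.Agent.H3CAlg.exists_leftInverse_and_flat f hi).2, hi⟩

end Groth.Agent.S15129
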