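import Groth.Statements.S15132
import Groth.Agent.H24Art.Double

set_option autoImplicit false
universe u v
open CategoryTheory
open ArtFun

namespace Groth.Agent.S15132

/-- Let k be a field and F a functor on local Artinian k-algebras with residue field k with F(k) a
single point. If F satisfies (H1), (H2) and (H4) — surjectivity of the comparison map F(A₁ ×_A A₂) →
F(A₁) ×_{F(A)} F(A₂) when A₂ → A is a small extension, bijectivity when A = k and A₂ = k[ε], and
bijectivity for A₂ ×_A A₂ with A₂ → A a small extension — then F is homogeneous: the comparison map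
is bijective for every fibre-product square in which A₂ → A is surjective. (The converse
implications are immediate.) -/
theorem result
    {k : Type u} [Field k] (F : ArtFun.Art k k ⥤ Type v)
    (h0 : ArtFun.H0 F) (h1 : ArtFun.Hbar F) (h2 : ArtFun.Heps F) (h4 : ArtFun.HSq F)
    ⦃B A A' A'' : ArtFun.Art k k⦄ (p' : B ⟶ A') (p'' : B ⟶ A'') (f' : A' ⟶ A) (f'' : A'' ⟶ A)
    (h : ArtFun.Art.IsFibreProd p' p'' f' f'') (hf : Function.Surjective f'') :
    Function.Bijective (ArtFun.cmp F h) := by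
  refine ⟨Groth.Agent.H24Art.injective_cmp_of_smallExt F ?_ p' p'' f' f'' h hf,
    Groth.Agent.H24Art.surjective_cmp_of_smallExt F h1 p' p'' f' f'' h hf⟩
  intro B A A' A'' p' p'' f' f'' h hf z z' hz
  have hz₁ : F.map p' z = F.map p' z' := congrArg (fun w => w.1.1) hz
  have hz₂ : F.map p'' z = F.map p'' z' := congrArg (fun w => w.1.2) hz
  have hp' : ArtFun.Art.IsSmallExt p' := Groth.Agent.H24Art.isSmallExt_fst h hf
  obtain ⟨b, hb⟩ := Groth.Agent.H24Art.exists_gen hp'
  have hb0 : p' b = 0 := by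
    refine RingHom.mem_ker.mp ?_
    rw [hb]; exact Ideal.mem_span_singleton_self b
  have ht : RingHom.ker f''.toAlgHom = Ideal.span {p'' b} := by
    obtain ⟨t, ht⟩ := Groth.Agent.H24Art.exists_gen hf
    have hmem : p'' b ∈ RingHom.ker f''.toAlgHom := by
      rw [RingHom.mem_ker, ← h.w_apply, hb0, map_zero]
    rw [ht] at hmem
    obtain ⟨a, ha⟩ := Ideal.mem_span_singleton'.mp hmem
    have hu : IsUnit a := by
      by_contra hn
      have h0 : p'' b = 0 := by
        rw [← ha, Groth.Agent.H24Art.mul_eq_zero_iff_res hf ht, ← ArtFun.Art.mem_maximalIdeal_iff]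
        exact (IsLocalRing.mem_maximalIdeal a).mpr hn
      exact hp'.2.1 (by
        rw [hb, Ideal.span_singleton_eq_bot]
        exact h.inj b 0 (hb0.trans (map_zero _).symm) (h0.trans (map_zero _).symm))
    rw [ht, ← ha, Ideal.span_singleton_mul_left_unit hu]
  obtain ⟨P, q₁, q₂, hP⟩ := Groth.Agent.H24Art.exists_fibre_of_surjective p' p' hp'.1
  obtain ⟨P₂, s₁, s₂, hP₂⟩ := Groth.Agent.H24Art.exists_fibre_of_surjective f'' f'' hf.1
  obtain ⟨g, hg⟩ := Groth.Agent.H24Art.exists_diff hp' hb hP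
  obtain ⟨g₂, hg₂⟩ := Groth.Agent.H24Art.exists_diff hf ht hP₂
  obtain ⟨d, hd₁, hd₂⟩ := Groth.Agent.H24Art.IsFibreProd.exists_lift hP (𝟙 B) (𝟙 B) rfl
  obtain ⟨d₂, hd₁', hd₂'⟩ := Groth.Agent.H24Art.IsFibreProd.exists_lift hP₂ (𝟙 A'') (𝟙 A'') rfl
  obtain ⟨r, hr₁, hr₂⟩ := Groth.Agent.H24Art.IsFibreProd.exists_lift hP₂ (q₁ ≫ p'') (q₂ ≫ p'') (by
    rw [Category.assoc, Category.assoc, ← h.w, ← Category.assoc, ← Category.assoc, hP.w])
  have hrg : r ≫ g₂ = g := by
    refine ArtFun.Art.hom_ext (AlgHom.ext fun x => TrivSqZeroExt.ext ?_ ?_)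
    · change TrivSqZeroExt.fst (g₂ (r x)) = TrivSqZeroExt.fst (g x)
      rw [Groth.Agent.H24Art.fst_dual, Groth.Agent.H24Art.fst_dual, ArtFun.Art.res_app]
    · change TrivSqZeroExt.snd (g₂ (r x)) = TrivSqZeroExt.snd (g x)
      obtain ⟨c, hc⟩ := B.res_surjective (TrivSqZeroExt.snd (g x))
      obtain ⟨c', hc'⟩ := A''.res_surjective (TrivSqZeroExt.snd (g₂ (r x)))
      have e := congrArg p''.toAlgHom (hg x c hc)
      have e' := hg₂ (r x) c' hc'
      rw [← ArtFun.Art.comp_apply r s₁, ← ArtFun.Art.comp_apply r s₂, hr₁, hr₂,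
        ArtFun.Art.comp_apply, ArtFun.Art.comp_apply] at e'
      rw [map_sub, map_mul, e', ← sub_eq_zero, ← sub_mul,
        Groth.Agent.H24Art.mul_eq_zero_iff_res hf ht, map_sub, ArtFun.Art.res_app, sub_eq_zero] at e
      rw [← hc', e, hc]
  obtain ⟨w, hw⟩ := h1 q₁ q₂ p' p' hP hp' ⟨(z, z'), hz₁⟩
  have e₁ : F.map q₁ w = z := congrArg (fun c => c.1.1) hw
  have e₂ : F.map q₂ w = z' := congrArg (fun c => c.1.2) hw
  have e : F.map r w = F.map d₂ (F.map p'' z) := (h4 s₁ s₂ f'' hP₂ hf).injective (FibProd.ext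
    (by change F.map s₁ (F.map r w) = F.map s₁ (F.map d₂ (F.map p'' z))
        rw [← Groth.Agent.H24Art.map_comp_apply' F r, hr₁, Groth.Agent.H24Art.map_comp_apply', e₁,
          ← Groth.Agent.H24Art.map_comp_apply' F d₂, hd₁', Groth.Agent.H24Art.map_id_apply'])
    (by change F.map s₂ (F.map r w) = F.map s₂ (F.map d₂ (F.map p'' z))
        rw [← Groth.Agent.H24Art.map_comp_apply' F r, hr₂, Groth.Agent.H24Art.map_comp_apply', e₂,
          ← Groth.Agent.H24Art.map_comp_apply' F d₂, hd₂', Groth.Agent.H24Art.map_id_apply', hz₂]))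
  rw [← e₁, ← e₂]
  refine (Groth.Agent.H24Art.snd_eq_fst_of_diff F h2
    (Groth.Agent.H24Art.isFibreProd_diff hb hP hp' hg) hd₁ hd₂
    (Groth.Agent.H24Art.eq_baseToDual_of_diff hp' hb hg d (hd₁.trans hd₂.symm)) w ?_).symm
  rw [← hrg, Groth.Agent.H24Art.map_comp_apply', e, ← Groth.Agent.H24Art.map_comp_apply',
    Groth.Agent.H24Art.eq_baseToDual_of_diff hf ht hg₂ d₂ (hd₁'.trans hd₂'.symm)]
  exact Groth.Agent.H24Art.baseToDual_eq F h0 _ _

end Groth.Agent.S15132
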