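import Groth.Statements.S15133
import Groth.Agent.H3CAlg.ArtinRegular
import Groth.Agent.S15130
import Mathlib.Algebra.Category.ModuleCat.Monoidal.Basic
import Mathlib.Algebra.Homology.ShortComplex.HomologicalComplex
import Mathlib.Algebra.Homology.ShortComplex.ModuleCat
import Mathlib.RingTheory.Flat.FaithfullyFlat.Basic
import Mathlib.RingTheory.MvPolynomial.IrreducibleQuadratic

set_option autoImplicit false
universe u
open CategoryTheory
open CAlg

namespace Groth.Agent.S15133

/-- Let A be an Artinian local ring with residue field k, n ≥ 1, and 0 → I → P₀ → P₁ → ⋯ → Pₙ a complex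
of A-modules with P₀, …, Pₙ flat whose reduction 0 → k ⊗ I → k ⊗ P₀ → ⋯ → k ⊗ Pₙ is exact. Then I
and coker(Pₙ₋₁ → Pₙ) are flat. The complex is written as a cochain complex C indexed by ℕ with C⁰ =
I and Cⁱ⁺¹ = Pᵢ; its terms in degrees above n + 1 play no role. (The published statement adds that I
maps onto the kernel of k ⊗ P₀ → k ⊗ P₁, which is already part of the exactness hypothesis, and is
for local Artinian algebras over an algebraically closed field of characteristic zero having that
field as residue field; this row allows any Artinian local ring.) -/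
theorem result
    (A : Type u) [CommRing A] [IsLocalRing A] [IsArtinianRing A] (n : ℕ) (hn : 0 < n)
    (C : CochainComplex (ModuleCat.{u} A) ℕ)
    (hflat : ∀ i, i ≤ n → Module.Flat A (C.X (i + 1)))
    (hred : ∀ j, j ≤ n →
      (((MonoidalCategory.tensorLeft (ModuleCat.of A (IsLocalRing.ResidueField A))).mapHomologicalComplex
        (ComplexShape.up ℕ)).obj C).ExactAt j) :
    Module.Flat A (C.X 0) ∧ Module.Flat A (C.X (n + 1) ⧸ LinearMap.range (C.d n (n + 1)).hom) := by
  have := hflat 0 (Nat.zero_le n)
  have hi : Function.Injective ((C.d 0 1).hom.lTensor (IsLocalRing.ResidueField A)) := by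
    have h := (HomologicalComplex.exactAt_iff' _ 0 0 1 (by simp [CochainComplex.prev_nat_zero]) (by simp)).mp (hred 0 (Nat.zero_le n))
    rw [CategoryTheory.ShortComplex.moduleCat_exact_iff_range_eq_ker] at h
    simp only [HomologicalComplex.sc', HomologicalComplex.shortComplexFunctor'_obj_f, HomologicalComplex.shortComplexFunctor'_obj_g, Functor.mapHomologicalComplex_obj_d] at h
    rw [show C.d 0 0 = 0 from C.shape 0 0 (by simp)] at h
    simp only [Functor.map_zero, ModuleCat.hom_zero, LinearMap.range_zero] at h
    refine (injective_iff_map_eq_zero _).mpr fun z hz => ?_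
    obtain ⟨y, hy⟩ := h.ge (LinearMap.mem_ker.mpr hz)
    exact hy.symm
  have hX0 := (Groth.Agent.H3CAlg.exists_leftInverse_and_flat (C.d 0 1).hom hi).2
  refine ⟨hX0, ?_⟩
  obtain ⟨m, rfl⟩ : ∃ m, n = m + 1 := ⟨n - 1, by omega⟩
  have hP : Module.Flat A (C.X m) := by
    rcases m with _ | m
    · exact hX0
    · exact hflat m (by omega)
  have hQ := hflat m (by omega)
  have hR := hflat (m + 1) le_rfl
  have h := (HomologicalComplex.exactAt_iff' _ m (m + 1) (m + 1 + 1) (by simp) (by simp)).mp (hred (m + 1) le_rfl)
  rw [CategoryTheory.ShortComplex.moduleCat_exact_iff_range_eq_ker] at h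
  have hex : Function.Exact ((C.d m (m+1)).hom.lTensor (IsLocalRing.ResidueField A)) ((C.d (m+1) (m+1+1)).hom.lTensor (IsLocalRing.ResidueField A)) :=
    LinearMap.exact_iff.mpr h.symm
  exact (Groth.Agent.S15130.result A (C.X m) (C.X (m+1)) (C.X (m+1+1)) _ (C.d m (m+1)).hom (C.d (m+1) (m+1+1)).hom
    (LinearMap.range (C.d (m+1) (m+1+1)).hom).mkQ (by rw [← ModuleCat.hom_comp, C.d_comp_d]; rfl)
    (LinearMap.exact_map_mkQ_range _) (Submodule.mkQ_surjective _) hex).1

end Groth.Agent.S15133
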