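import Groth.Statements.S15134
import Mathlib.RingTheory.Ideal.Quotient.Operations

set_option autoImplicit false
set_option linter.style.haveILetI false
universe u v
open CategoryTheory
open ArtFun

namespace Groth.Agent.S15134

/-- Let k be a field and F a functor on local Artinian k-algebras with residue field k with F(k) a
point. If F satisfies (H2') — the comparison map F(A₁ ×_k A₂) → F(A₁) × F(A₂) is bijective for every
pair of objects — then F satisfies condition (L): for every small extension f : B → A with kernel J,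
writing P = B ×_k B, Q = A ×_k A, r : P → Q for the map induced by f, and C = P/K with K the ideal
of P consisting of the pairs (b, b) with b ∈ J, every element of F(Q) whose two images in F(A) agree
lifts along F(C) → F(Q). Here P and Q are pinned as fibre products over k, K is described through
the two projections, and the two inequalities on K (it lies in the maximal ideal of P and is killed
by r), which always hold, are taken as hypotheses so that the quotient object and the factored map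
can be named. -/
theorem result
    {k : Type u} [Field k] (F : ArtFun.Art k k ⥤ Type v) (h0 : ArtFun.H0 F)
    (h2' : ∀ ⦃P A' A'' : ArtFun.Art k k⦄ (p' : P ⟶ A') (p'' : P ⟶ A'')
      (h : ArtFun.Art.IsFibreProd p' p'' (ArtFun.Art.toBase A') (ArtFun.Art.toBase A'')),
      Function.Bijective (ArtFun.cmp F h))
    ⦃B A : ArtFun.Art k k⦄ (f : B ⟶ A) (hf : ArtFun.Art.IsSmallExt f)
    ⦃P : ArtFun.Art k k⦄ (p₁ p₂ : P ⟶ B)
    (hP : ArtFun.Art.IsFibreProd p₁ p₂ (ArtFun.Art.toBase B) (ArtFun.Art.toBase B))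
    ⦃Q : ArtFun.Art k k⦄ (q₁ q₂ : Q ⟶ A)
    (hQ : ArtFun.Art.IsFibreProd q₁ q₂ (ArtFun.Art.toBase A) (ArtFun.Art.toBase A))
    (r : P ⟶ Q) (hr₁ : r ≫ q₁ = p₁ ≫ f) (hr₂ : r ≫ q₂ = p₂ ≫ f)
    (hK : Ideal.span {z : P | p₁ z = p₂ z ∧ f (p₁ z) = 0} ≤ IsLocalRing.maximalIdeal P)
    (hKr : Ideal.span {z : P | p₁ z = p₂ z ∧ f (p₁ z) = 0} ≤ RingHom.ker r.toAlgHom)
    (y : F.obj Q) (hy : F.map q₁ y = F.map q₂ y) :
    ∃ z : F.obj (ArtFun.Art.quot P (Ideal.span {z : P | p₁ z = p₂ z ∧ f (p₁ z) = 0}) hK),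
      F.map (ArtFun.Art.quotFactor hK r hKr) z = y := by
  classical
  have hd : ∀ b : B, ∃ z : P, p₁ z = b ∧ p₂ z = b := fun b => hP.surj b b rfl
  choose d hd1 hd2 using hd
  let K : Ideal P := Ideal.span {z : P | p₁ z = p₂ z ∧ f (p₁ z) = 0}
  have hd_eq : ∀ (b : B) (z : P), p₁ z = b → p₂ z = b → d b = z := fun b z h1 h2 =>
    hP.inj _ _ ((hd1 b).trans h1.symm) ((hd2 b).trans h2.symm)
  let δ : B ⟶ P := ArtFun.Art.homMk
    { toFun := d
      map_one' := hd_eq 1 1 (map_one _) (map_one _)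
      map_mul' := fun a b => hd_eq _ _ (by rw [map_mul, hd1, hd1]) (by rw [map_mul, hd2, hd2])
      map_zero' := hd_eq 0 0 (map_zero _) (map_zero _)
      map_add' := fun a b => hd_eq _ _ (by rw [map_add, hd1, hd1]) (by rw [map_add, hd2, hd2])
      commutes' := fun c => hd_eq _ _ (AlgHom.commutes _ c) (AlgHom.commutes _ c) }
    (AlgHom.ext fun b => by
      show P.res (d b) = B.res b
      rw [← ArtFun.Art.res_app p₁, hd1])
  let g : B ⟶ ArtFun.Art.quot P K hK := δ ≫ ArtFun.Art.quotMk P K hK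
  have hg0 : ∀ b ∈ RingHom.ker f.toAlgHom, g.toAlgHom b = 0 := fun b hb => by
    refine Ideal.Quotient.eq_zero_iff_mem.mpr (Ideal.subset_span ⟨?_, ?_⟩)
    · show p₁ (d b) = p₂ (d b)
      rw [hd1, hd2]
    · show f (p₁ (d b)) = 0
      rw [hd1]; exact hb
  let s' : A →ₐ[k] (ArtFun.Art.quot P K hK) := AlgHom.liftOfSurjective f.toAlgHom hf.1 g.toAlgHom hg0
  have hs' : ∀ b, s' (f b) = g b := fun b => AlgHom.liftOfSurjective_apply f.toAlgHom hf.1 g.toAlgHom hg0 b
  let s : A ⟶ ArtFun.Art.quot P K hK := ArtFun.Art.homMk s' (AlgHom.ext fun a => by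
    obtain ⟨b, rfl⟩ := hf.1 a
    show (ArtFun.Art.quot P K hK).res (s' (f b)) = A.res (f b)
    rw [hs', ArtFun.Art.res_app, ArtFun.Art.res_app])
  let π := ArtFun.Art.quotFactor hK r hKr
  have hkey : ∀ (q : Q ⟶ A) (p : P ⟶ B), r ≫ q = p ≫ f → (∀ b, p (d b) = b) → s ≫ π ≫ q = 𝟙 A := by
    intro q p hrq hpd
    apply ArtFun.Art.hom_ext
    apply AlgHom.ext
    intro a
    obtain ⟨b, rfl⟩ := hf.1 a
    show q (π (s' (f b))) = f b
    rw [hs']
    show (r ≫ q) (d b) = f b
    rw [hrq]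
    show f (p (d b)) = f b
    rw [hpd]
  refine ⟨F.map s (F.map q₁ y), ?_⟩
  apply (h2' q₁ q₂ hQ).1
  apply Subtype.ext
  have h1 := hkey q₁ p₁ hr₁ hd1
  have h2 := hkey q₂ p₂ hr₂ hd2
  apply Prod.ext
  · show F.map q₁ (F.map π (F.map s (F.map q₁ y))) = F.map q₁ y
    change (F.map s ≫ F.map π ≫ F.map q₁) (F.map q₁ y) = _
    rw [← F.map_comp, ← F.map_comp, h1, F.map_id]
    rfl
  · show F.map q₂ (F.map π (F.map s (F.map q₁ y))) = F.map q₂ y
    change (F.map s ≫ F.map π ≫ F.map q₂) (F.map q₁ y) = _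
    rw [← F.map_comp, ← F.map_comp, h2, F.map_id]
    exact hy

end Groth.Agent.S15134
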