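import Groth.Statements.S15135
import Mathlib.Tactic
import Mathlib.RingTheory.AdicCompletion.Basic
import Mathlib.RingTheory.Finiteness.Projective

set_option autoImplicit false
set_option linter.style.haveILetI false
universe u v
open Deform

namespace Groth.Agent.S15135

/-- For R-modules M ⊆ N, the first-order embedded deformations of M in N are in canonical bijection with
Hom_R(M, N/M). Writing N ⊗ k[ε] = N ⊕ εN as N × N (the pair (x, y) standing for x + εy), such a
deformation is an R-submodule L of N × N which is stable under multiplication by ε (if (x, y) ∈ L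
then (0, x) ∈ L), reduces to M (x ∈ M exactly when (x, y) ∈ L for some y) and is flat over the dual
numbers, flatness being stated elementwise as: (0, y) ∈ L only if y ∈ M (for a submodule reducing to
M this is the equality of the kernel and the image of ε on L, i.e. flatness over k[ε] when R is an
algebra over a field k). To φ : M → N/M corresponds the submodule of all (x, y) with x ∈ M and y ≡
φ(x) mod M. The first clause says this rule defines exactly one submodule for each φ; the second
says that a submodule has the three properties precisely when its membership is given by this rule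
for some φ. (The published statement is a linear isomorphism t_G ≅ Hom_R(M, N/M) for the functor G
of flat deformations of M inside N ⊗ A over local Artinian algebras A; this row states only the
underlying bijection, and the obstruction half is not stated here.) -/
theorem result
    (R : Type u) [CommRing R] (N : Type v) [AddCommGroup N] [Module R N] (M : Submodule R N) :
    (∀ φ : M →ₗ[R] (N ⧸ M), ∃! L : Submodule R (N × N),
        ∀ x y : N, (x, y) ∈ L ↔ ∃ h : x ∈ M, Submodule.Quotient.mk y = φ ⟨x, h⟩) ∧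
    (∀ L : Submodule R (N × N),
      ((∀ x y : N, (x, y) ∈ L → ((0 : N), x) ∈ L) ∧
        (∀ x : N, x ∈ M ↔ ∃ y : N, (x, y) ∈ L) ∧
        (∀ y : N, ((0 : N), y) ∈ L → y ∈ M)) ↔
      ∃ φ : M →ₗ[R] (N ⧸ M), ∀ x y : N, (x, y) ∈ L ↔ ∃ h : x ∈ M, Submodule.Quotient.mk y = φ ⟨x, h⟩) := by
    classical
    refine ⟨fun φ => ?_, fun L => ⟨fun ⟨h1, h2, h3⟩ => ?_, ?_⟩⟩
    · let L : Submodule R (N × N) :=
        { carrier := {p | ∃ h : p.1 ∈ M, Submodule.Quotient.mk p.2 = φ ⟨p.1, h⟩}
          add_mem' := fun {p q} ⟨hp, hp'⟩ ⟨hq, hq'⟩ => ⟨add_mem hp hq, by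
            rw [Prod.snd_add, Submodule.Quotient.mk_add, hp', hq', ← map_add]; rfl⟩
          zero_mem' := ⟨zero_mem _, by rw [show (⟨(0 : N × N).1, _⟩ : ↥M) = 0 from rfl, map_zero]; rfl⟩
          smul_mem' := fun r p ⟨hp, hp'⟩ => ⟨M.smul_mem r hp, by
            rw [Prod.smul_snd, Submodule.Quotient.mk_smul, hp', ← map_smul]; rfl⟩ }
      refine ⟨L, fun x y => Iff.rfl, fun L' hL' => Submodule.ext fun p => ?_⟩
      exact hL' p.1 p.2
    · choose β hβ using fun a : ↥M => (h2 a.1).mp a.2
      have hchar : ∀ (a : ↥M) y, (a.1, y) ∈ L → (Submodule.Quotient.mk y : N ⧸ M) = Submodule.Quotient.mk (β a) := fun a y hy => by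
        rw [Submodule.Quotient.eq]
        refine h3 _ ?_
        simpa using L.sub_mem hy (hβ a)
      let φ : ↥M →ₗ[R] (N ⧸ M) :=
        { toFun := fun a => Submodule.Quotient.mk (β a)
          map_add' := fun a b => (hchar (a + b) (β a + β b) (L.add_mem (hβ a) (hβ b))).symm.trans (by simp)
          map_smul' := fun c a => (hchar (c • a) (c • β a) (L.smul_mem c (hβ a))).symm.trans (by simp) }
      refine ⟨φ, fun x y => ⟨fun h => ⟨(h2 x).mpr ⟨y, h⟩, hchar ⟨x, (h2 x).mpr ⟨y, h⟩⟩ y h⟩, fun ⟨h, h'⟩ => ?_⟩⟩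
      obtain ⟨z, hz⟩ := (h2 _).mp ((Submodule.Quotient.eq M).mp h')
      simpa using L.add_mem (hβ ⟨x, h⟩) (h1 _ _ hz)
    · rintro ⟨φ, hφ⟩
      have h0M : ∀ y : N, ((0 : N), y) ∈ L ↔ y ∈ M := fun y => by
        rw [hφ]
        refine ⟨fun ⟨h, h'⟩ => ?_, fun h => ⟨zero_mem _, ?_⟩⟩
        · rwa [show (⟨(0 : N), h⟩ : ↥M) = 0 from rfl, map_zero, Submodule.Quotient.mk_eq_zero] at h'
        · rw [show (⟨(0 : N), zero_mem M⟩ : ↥M) = 0 from rfl, map_zero, Submodule.Quotient.mk_eq_zero]; exact h
      refine ⟨fun x y h => (h0M x).mpr ((hφ x y).mp h).1, fun x => ⟨fun hx => ?_, fun ⟨y, h⟩ => ((hφ x y).mp h).1⟩,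
        fun y h => (h0M y).mp h⟩
      obtain ⟨y, hy⟩ := Submodule.Quotient.mk_surjective M (φ ⟨x, hx⟩)
      exact ⟨y, (hφ x y).mpr ⟨hx, hy⟩⟩

end Groth.Agent.S15135
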