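import Groth.Statements.S15136
import Groth.Agent.H28Vert.BaseSeq

set_option autoImplicit false
universe u
open CategoryTheory CategoryTheory.Limits AlgebraicGeometry Opposite
open Models

namespace Groth.Agent.S15136

/-- Let R be a discrete valuation ring with residue field k and let X be a scheme proper and flat over
Spec R, with closed fibre X_s = X ×_R Spec k, the closed subscheme cut out by the ideal sheaf 𝔪_R ·
O_X. Then X is cohomologically flat over R in dimension 0, in the sense that the restriction map
H^0(X, O_X) → H^0(X_s, O_{X_s}) is surjective (equivalently H^0(X, O_X) ⊗_R k ≅ H^0(X_s, O_{X_s})),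
precisely when H^1(X, O_X) has no R-torsion. (The published statement is for a proper relative curve
over R, normal with smooth geometrically connected generic fibre and with the fraction field of R of
characteristic zero, and phrases cohomological flatness as the formation of the direct image of O_X
commuting with every base change; the argument uses only properness and flatness, and for X proper
and flat over R that condition amounts to surjectivity onto the sections of the closed fibre, which
is the form taken here.) -/
theorem result (R : Type u) [CommRing R] [IsDomain R]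
    [IsDiscreteValuationRing R] (X : Scheme.{u}) [X.Over (Spec (CommRingCat.of R))]
    [IsProper (X ↘ Spec (CommRingCat.of R))] [Flat (X ↘ Spec (CommRingCat.of R))] :
    Function.Surjective (Sheaf.H.map ((SheafOfModules.toSheaf X.ringCatSheaf).map
      (ClSub.toSubscheme (Models.specialFibreIdeal R (Over.mk (X ↘ Spec (CommRingCat.of R)))))) 0) ↔
      NoZeroSMulDivisors R (Coh.HH X (Coh.structureModule X) 1) := by
  classical
  let P := Over.mk (X ↘ Spec (CommRingCat.of R))
  haveI : Flat P.hom := ‹Flat (X ↘ Spec (CommRingCat.of R))›
  haveI : IsLocallyNoetherian P.left := LocallyOfFiniteType.isLocallyNoetherian (X ↘ Spec (CommRingCat.of R))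
  obtain ⟨ϖ, hϖ⟩ := IsDiscreteValuationRing.exists_irreducible R
  let I := Models.specialFibreIdeal R P
  let π : Coh.structureModule X ⟶ ClSub.quotMod I := ClSub.toSubscheme I
  let μ : Coh.structureModule X ⟶ Coh.structureModule X := Formal.smulMod R (Coh.structureModule X) ϖ
  have hμ : μ = H28Vert.baseMul P ϖ := LeadFF.hom_ext_sections _ _ fun U m => rfl
  obtain ⟨s, hsi, hs⟩ := H28Vert.exists_iso_idealMod_baseMul (X := P) hϖ
  haveI := hsi
  have w : μ ≫ π = 0 := by rw [hμ, ← hs, Category.assoc, kernel.condition, comp_zero]
  let S : ShortComplex X.Modules := ShortComplex.mk μ π w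
  have hS : S.ShortExact := by
    haveI : Epi π := H10Coh.epi_toSubscheme I
    let e : S ≅ ShortComplex.mk (kernel.ι π) π (kernel.condition π) :=
      ShortComplex.isoMk (asIso s) (Iso.refl _) (Iso.refl _)
        (by show s ≫ kernel.ι π = μ ≫ 𝟙 _; rw [Category.comp_id, hμ]; exact hs)
        (by show 𝟙 _ ≫ π = π ≫ 𝟙 _; rw [Category.id_comp, Category.comp_id])
    exact ShortComplex.shortExact_of_iso e.symm (H10Coh.shortExact_kernel π)
  have hS' := hS.map_of_exact (H10Coh.shF X)
  have hf : ∀ (n : ℕ) (x : Coh.HH X (Coh.structureModule X) n), LeadFF.Hm μ n x = ϖ • x := fun n x => rfl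
  constructor
  · intro hsurj
    haveI : IsDomain R := inferInstance
    constructor
    intro a x hax
    by_cases ha : a = 0
    · exact Or.inl ha
    refine Or.inr ?_
    obtain ⟨k, u, rfl⟩ := IsDiscreteValuationRing.eq_unit_mul_pow_irreducible ha hϖ
    rw [mul_smul] at hax
    have h1 : ϖ ^ k • x = 0 := (u.isUnit.smul_eq_zero).1 hax
    clear ha hax
    induction k generalizing x with
    | zero => simpa using h1
    | succ k ih =>
      refine ih ?_
      rw [pow_succ', mul_smul] at h1
      generalize ϖ ^ k • x = y at h1
      rw [← hf 1 y] at h1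
      obtain ⟨z, hz⟩ := Abelian.Ext.covariant_sequence_exact₁ _ hS' y h1 (zero_add 1)
      obtain ⟨t, ht⟩ := hsurj z
      rw [← hz, ← ht]
      exact H28Vert.ext_g_comp_extClass hS' t
  · intro hT z
    have h1 : ((z.comp hS'.extClass (zero_add 1) : Coh.HH X (Coh.structureModule X) 1)) = 0 := by
      have h2 : LeadFF.Hm μ 1 (z.comp hS'.extClass (zero_add 1)) = 0 := H28Vert.ext_extClass_comp_f hS' z
      exact (eq_zero_or_eq_zero_of_smul_eq_zero ((hf 1 _).symm.trans h2)).resolve_left hϖ.ne_zero
    obtain ⟨t, ht⟩ := Abelian.Ext.covariant_sequence_exact₃ _ hS' z (zero_add 1) h1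
    exact ⟨t, ht⟩

end Groth.Agent.S15136
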