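import Groth.Statements.S15140
import Groth.Agent.H8Props.FlatDimOneBase
import Groth.Agent.H8Props.NormalLowDim
import Groth.Agent.H8Props.FlatLocus.Scheme
import Groth.Agent.H22Alg.AffineImage
import Groth.Agent.S9821

set_option autoImplicit false
universe u
open CategoryTheory CategoryTheory.Limits AlgebraicGeometry
open Models

namespace Groth.Agent.S15140

/-- Let R be a discrete valuation ring whose fraction field has characteristic zero and let X and Y be
relative curves over R: flat, of finite type and separated over Spec R, normal and integral, of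
dimension two (pure relative dimension one; properness is not assumed). Let f : X → Y be a finite
surjective morphism over R. Then there is an open subset V ⊆ Y such that the complement of V in Y
and the complement of f⁻¹(V) in X are finite sets of points at which the local rings have Krull
dimension two (closed points of the closed fibres), and f is flat over V. -/
theorem result (R : Type u) [CommRing R] [IsDomain R]
    [IsDiscreteValuationRing R] [CharZero (FractionRing R)]
    (X Y : Scheme.{u}) (pX : X ⟶ Spec (CommRingCat.of R)) (pY : Y ⟶ Spec (CommRingCat.of R))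
    [Flat pX] [LocallyOfFiniteType pX] [QuasiCompact pX] [IsSeparated pX]
    [Flat pY] [LocallyOfFiniteType pY] [QuasiCompact pY] [IsSeparated pY]
    [IsIntegral X] [IsIntegral Y] (hnX : Pi1.IsNormalScheme X) (hnY : Pi1.IsNormalScheme Y)
    (hdX : topologicalKrullDim X = 2) (hdY : topologicalKrullDim Y = 2)
    (f : X ⟶ Y) [IsFinite f] [Surjective f] (hf : f ≫ pY = pX) :
    ∃ V : Y.Opens, ((V : Set Y)ᶜ).Finite ∧ (∀ y : Y, y ∉ V → ringKrullDim (Y.presheaf.stalk y) = 2) ∧
      (((f ⁻¹ᵁ V : X.Opens) : Set X)ᶜ).Finite ∧ (∀ x : X, x ∉ f ⁻¹ᵁ V → ringKrullDim (X.presheaf.stalk x) = 2) ∧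
      Flat (f ∣_ V) := by
  classical
  haveI : IsLocallyNoetherian Y := LocallyOfFiniteType.isLocallyNoetherian pY
  haveI : IsLocallyNoetherian X := LocallyOfFiniteType.isLocallyNoetherian pX
  haveI : CompactSpace Y := QuasiCompact.compactSpace_of_compactSpace pY
  haveI : IsNoetherian Y := ⟨⟩
  haveI : LocallyOfFinitePresentation f := inferInstance
  have hη : f (genericPoint X) = genericPoint Y :=
    ((genericPoint_spec X).image f.continuous).eq (by
      simpa [Set.image_univ, f.surjective.range_eq] using genericPoint_spec Y)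
  have hdimY : ∀ y : Y, ringKrullDim (Y.presheaf.stalk y) ≤ 2 := fun y =>
    (H8Props.FlatDimOneBase.ringKrullDim_stalk_le Y y).trans hdY.le
  have hinj : ∀ x : X, Function.Injective (f.stalkMap x).hom := by
    intro x
    obtain ⟨V, hV, hxV, -⟩ := exists_isAffineOpen_mem_and_subset (U := (⊤ : Y.Opens)) (x := f x) trivial
    refine hV.stalkMap_injective f x hxV fun g hg => ?_
    rw [Scheme.Hom.germ_stalkMap_apply, ← map_zero (X.presheaf.germ (f ⁻¹ᵁ V) x hxV).hom] at hg
    have h1 := germ_injective_of_isIntegral (X := X) x hxV hg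
    rw [← map_zero (f.app V).hom] at h1
    rw [H22Alg.AffineImage.app_injective f hη ⟨_, hxV⟩ h1, map_zero]
  have hflat : ∀ x : X, ringKrullDim (Y.presheaf.stalk (f x)) ≤ 1 → (f.stalkMap x).hom.Flat := by
    intro x hd
    haveI := (hnY (f x)).2
    haveI := H8Props.NormalLowDim.isRegularLocalRing_of_dim_le_one (Y.presheaf.stalk (f x)) hd
    letI := (f.stalkMap x).hom.toAlgebra
    refine (H8Props.FlatDimOneBase.flat_iff_forall_isSMulRegular hd).2 fun a ha => ?_
    exact IsSMulRegular.of_ne_zero ((map_ne_zero_iff _ (hinj x)).2 ha)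
  let U : X.Opens := ⟨_, H8Props.FlatLocus.isOpen_setOf_flat_stalkMap f⟩
  let V : Y.Opens := ⟨(f '' (U : Set X)ᶜ)ᶜ, (f.isClosedMap _ U.isOpen.isClosed_compl).isOpen_compl⟩
  have hmem : ∀ x : X, f x ∈ V → (f.stalkMap x).hom.Flat := fun x hx => by
    by_contra h
    exact hx ⟨x, h, rfl⟩
  have hV2 : ∀ y : Y, y ∉ V → ringKrullDim (Y.presheaf.stalk y) = 2 := by
    intro y hy
    obtain ⟨x, hx, rfl⟩ : y ∈ f '' (U : Set X)ᶜ := not_not.1 hy
    refine le_antisymm (hdimY _) (not_lt.1 fun hlt => hx (hflat x ?_))
    rw [ringKrullDim_stalk_eq_coheight] at hlt ⊢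
    revert hlt
    generalize Order.coheight (f x) = c
    intro hlt
    induction c using ENat.recTopCoe with
    | top => exact absurd hlt (by simp)
    | coe n =>
      have h2 : (n : ℕ∞) < 2 := WithBot.coe_lt_coe.1 hlt
      have : n < 2 := by exact_mod_cast h2
      exact_mod_cast (by omega : n ≤ 1)
  have hclosed : ∀ y : Y, y ∉ V → IsClosed ({y} : Set Y) := by
    intro y hy
    rw [← closure_subset_iff_isClosed]
    intro z hz
    have hsp : y ⤳ z := specializes_iff_mem_closure.2 hz
    by_contra hne
    have hlt : z < y := lt_iff_le_not_ge.2 ⟨hsp, fun h => hne (Set.mem_singleton_iff.2 (Inseparable.eq (h.antisymm hsp)))⟩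
    have hzV : z ∉ V := fun h => hy (hsp.mem_open V.isOpen h)
    have h1 := hV2 y hy
    have h2 := hV2 z hzV
    rw [ringKrullDim_stalk_eq_coheight] at h1 h2
    have hfin : Order.coheight y < ⊤ := by
      rw [show Order.coheight y = 2 from WithBot.coe_inj.1 h1]
      exact WithTop.coe_lt_top _
    exact absurd (WithBot.coe_inj.1 (h1.trans h2.symm)) (Order.coheight_strictAnti hlt hfin).ne
  have hfinV : ((V : Set Y)ᶜ).Finite := by
    let Z := ((V : Set Y)ᶜ)
    haveI : TopologicalSpace.NoetherianSpace Z := inferInstance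
    haveI : QuasiSober Z := Topology.IsClosedEmbedding.quasiSober V.isOpen.isClosed_compl.isClosedEmbedding_subtypeVal
    haveI : Finite Z := by
      rw [← Set.finite_univ_iff]
      refine Set.Finite.subset (TopologicalSpace.NoetherianSpace.finite_irreducibleComponents.sUnion fun T hT => ?_)
        (s := ⋃₀ irreducibleComponents Z) (fun x _ => ⟨_, irreducibleComponent_mem_irreducibleComponents x,
          mem_irreducibleComponent⟩)
      obtain ⟨z, hz⟩ := QuasiSober.sober hT.1 (isClosed_of_mem_irreducibleComponents T hT)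
      have hzc : IsClosed ({z} : Set Z) := by
        rw [← Set.preimage_image_eq ({z} : Set Z) Subtype.val_injective, Set.image_singleton]
        exact (hclosed z.1 z.2).preimage continuous_subtype_val
      rw [← hz.def, hzc.closure_eq]
      exact Set.finite_singleton z
    exact Set.toFinite _
  refine ⟨V, hfinV, hV2, ?_, fun x hx => ?_, ?_⟩
  · exact hfinV.preimage' fun y _ => f.finite_preimage_singleton y
  · have h2 := hV2 (f x) hx
    refine le_antisymm ((H8Props.FlatDimOneBase.ringKrullDim_stalk_le X x).trans hdX.le) ?_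
    rw [← h2]
    obtain ⟨W, hW, hxW, -⟩ := exists_isAffineOpen_mem_and_subset (U := (⊤ : Y.Opens)) (x := f x) trivial
    haveI : Nonempty W := ⟨⟨_, hxW⟩⟩
    haveI : Nonempty (f ⁻¹ᵁ W : X.Opens) := ⟨⟨x, hxW⟩⟩
    haveI : IsIntegrallyClosed Γ(Y, W) := (S9821.result Y).1 hnY W hW
    letI := (f.app W).hom.toAlgebra
    haveI : Algebra.IsIntegral Γ(Y, W) Γ(X, f ⁻¹ᵁ W) := ⟨(f.finite_app W hW).to_isIntegral⟩
    haveI : FaithfulSMul Γ(Y, W) Γ(X, f ⁻¹ᵁ W) :=
      (faithfulSMul_iff_algebraMap_injective _ _).2 (H22Alg.AffineImage.app_injective f hη ⟨_, hxW⟩)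
    haveI : IsNoetherianRing Γ(Y, W) := IsLocallyNoetherian.component_noetherian ⟨W, hW⟩
    haveI : IsNoetherianRing Γ(X, f ⁻¹ᵁ W) := IsLocallyNoetherian.component_noetherian ⟨_, hW.preimage f⟩
    let P := ((hW.preimage f).primeIdealOf ⟨x, hxW⟩)
    let p := hW.primeIdealOf ⟨f x, hxW⟩
    have hc : P.comap (f.app W).hom = p := by
      have := IsAffineOpen.comap_primeIdealOf_appLE (f := f) W hW _ (hW.preimage f) le_rfl (x := x) hxW
      rwa [← Scheme.Hom.app_eq_appLE] at this
    haveI : P.asIdeal.LiesOver p.asIdeal := ⟨(congrArg PrimeSpectrum.asIdeal hc).symm⟩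
    letI := TopCat.Presheaf.algebra_section_stalk Y.presheaf (⟨f x, hxW⟩ : W)
    letI := TopCat.Presheaf.algebra_section_stalk X.presheaf (⟨x, hxW⟩ : (f ⁻¹ᵁ W : X.Opens))
    haveI := hW.isLocalization_stalk ⟨f x, hxW⟩
    haveI := (hW.preimage f).isLocalization_stalk ⟨x, hxW⟩
    rw [IsLocalization.AtPrime.ringKrullDim_eq_height p.asIdeal (Y.presheaf.stalk (f x)),
      IsLocalization.AtPrime.ringKrullDim_eq_height P.asIdeal (X.presheaf.stalk x),
      Ideal.height_eq_height_add_of_liesOver_of_hasGoingDown p.asIdeal P.asIdeal]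
    exact WithBot.coe_le_coe.2 le_self_add
  · refine Flat.of_stalkMap _ fun x => ?_
    haveI : (RingHom.toMorphismProperty RingHom.Flat).RespectsIso :=
      RingHom.toMorphismProperty_respectsIso_iff.mp RingHom.Flat.respectsIso
    exact ((RingHom.toMorphismProperty RingHom.Flat).arrow_mk_iso_iff (morphismRestrictStalkMap f V x)).2
      (hmem x.1 x.2)

end Groth.Agent.S15140
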