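import Groth.Statements.S1648
import Groth.Agent.H28Contr.Rational

set_option autoImplicit false
universe u
open CategoryTheory CategoryTheory.Limits AlgebraicGeometry
open Resolve

namespace Groth.Agent.S1648

/-- A Nagata regular local ring of dimension two defines a rational singularity: every normal
modification of its spectrum has vanishing H^1 of the structure sheaf. -/
theorem result (A : Type u) [CommRing A] [IsRegularLocalRing A] (hN : CAlg.IsNagata A)
    (hdim : ringKrullDim A = 2) : Curv2.IsRationalSing A := by
  intro X f hf hint hnorm hU
  obtain ⟨U, hU, hiso⟩ := hU
  haveI := hf
  haveI := hint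
  haveI := hiso
  exact H28Contr.subsingleton_HH_modification A hdim X f hnorm U hU

end Groth.Agent.S1648
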