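import Groth.Statements.S15142
import Groth.Agent.H05EGA4.TraceSplit.Descent
import Groth.Agent.S2654
import Groth.Agent.S4710
import Groth.Agent.S1648
import Groth.Agent.H05EGA4.CompleteNormalization

set_option autoImplicit false
universe u
open CategoryTheory CategoryTheory.Limits AlgebraicGeometry
open Resolve

namespace Groth.Agent.S15142

/-- Let R be a Noetherian domain, let A be an excellent Noetherian regular domain of Krull dimension two
(all localizations at primes are regular local rings) which is essentially of finite type over R,
and suppose a finite group G acts on A through ring automorphisms that commute with the R-action. If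
the order of G is a unit in A, then the ring of invariants A^G has rational singularities: its
localization at every maximal ideal of height two defines a rational singularity (every proper
morphism onto the spectrum from an integral normal scheme which is an isomorphism over a nonempty
open has H^1 of the structure sheaf zero). (The published statement does not assume the ring of
invariants excellent; its argument passes through the finite extension A^G ⊆ A of two-dimensional
excellent normal domains of degree dividing the order of G, and this row carries the excellence of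
A^G as a hypothesis.) -/
theorem result (R A : Type u) [CommRing R] [IsDomain R]
    [IsNoetherianRing R] [CommRing A] [IsDomain A] [IsNoetherianRing A] [Algebra R A] [Algebra.EssFiniteType R A]
    (hAe : EGA4.IsExcellent A) (hA2 : ringKrullDim A = 2)
    (hreg : ∀ (p : Ideal A) [p.IsPrime], IsRegularLocalRing (Localization.AtPrime p))
    (G : Type u) [Group G] [Finite G] [MulSemiringAction G A] [SMulCommClass G R A]
    (hG : IsUnit ((Nat.card G : ℕ) : A))
    (hGe : EGA4.IsExcellent (FixedPoints.subring A G))
    (m : Ideal (FixedPoints.subring A G)) [m.IsMaximal] (hm : ringKrullDim (Localization.AtPrime m) = 2) :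
    Curv2.IsRationalSing (Localization.AtPrime m) := by
  classical
  let S := FixedPoints.subring A G
  have hAN : CAlg.IsNagata A := Groth.Agent.S2654.result A ⟨hAe.1, hAe.2.2.1, hAe.2.2.2⟩
  have hSN : CAlg.IsNagata S := Groth.Agent.S2654.result S ⟨hGe.1, hGe.2.2.1, hGe.2.2.2⟩
  haveI : IsNoetherianRing S := hGe.1
  haveI : IsIntegrallyClosed A := IsIntegrallyClosed.of_localization_maximal fun p _ hp => by
    haveI := hp
    haveI := hreg p
    exact Groth.Agent.H05EGA4.isIntegrallyClosed_of_isRegularLocalRing _
  -- a faithful quotient of `G`
  let φ := MulSemiringAction.toRingAut G A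
  let H := φ.range
  haveI : FaithfulSMul H A := ⟨fun {g g'} h => Subtype.ext (RingEquiv.ext h)⟩
  haveI : Finite H := Finite.of_surjective φ.rangeRestrict φ.rangeRestrict_surjective
  haveI hinv : Algebra.IsInvariant S A H := ⟨fun a ha => ⟨⟨a, fun g => ha ⟨φ g, g, rfl⟩⟩, rfl⟩⟩
  haveI : SMulCommClass H S A := ⟨fun g s a => by
    obtain ⟨_, g₀, rfl⟩ := g
    show g₀ • (s.1 * a) = s.1 * g₀ • a
    rw [smul_mul', s.2 g₀]⟩
  haveI : IsGaloisGroup H S A := ⟨inferInstance, inferInstance, hinv⟩
  haveI : Algebra.IsIntegral S A := Algebra.IsInvariant.isIntegral S A H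
  haveI : FaithfulSMul S A := (faithfulSMul_iff_algebraMap_injective S A).2 Subtype.val_injective
  let K := FractionRing S
  let L := FractionRing A
  letI := FractionRing.liftAlgebra S L
  letI := IsFractionRing.mulSemiringAction H A L
  haveI := IsGaloisGroup.to_isFractionRing_of_isIntegral H S A K L
  haveI : FiniteDimensional K L := IsGaloisGroup.finiteDimensional H K L
  haveI : IsIntegrallyClosed S := by
    refine (isIntegrallyClosed_iff K).2 fun {x} hx => ?_
    obtain ⟨a, ha⟩ := IsIntegrallyClosed.isIntegral_iff.1
      ((hx.map (IsScalarTower.toAlgHom S K L)).tower_top (A := A))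
    obtain ⟨s, hs⟩ := hinv.isInvariant a fun g => IsFractionRing.injective A L <| by
      rw [algebraMap.smul', ha]
      exact smul_algebraMap g x
    refine ⟨s, (algebraMap K L).injective ?_⟩
    rw [← IsScalarTower.algebraMap_apply S K L, IsScalarTower.algebraMap_apply S A L, hs, ha]
    rfl
  haveI : IsIntegralClosure A S L := IsIntegralClosure.of_isIntegrallyClosed _ _ _
  have hfin : Module.Finite S A := by
    obtain ⟨-, hJ⟩ := hSN
    haveI : Algebra.EssFiniteType S K := Algebra.EssFiniteType.of_isLocalization K (nonZeroDivisors S)
    haveI : Algebra.EssFiniteType S L := Algebra.EssFiniteType.comp S K L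
    haveI := Groth.Agent.H17.NagataNorm.finite_integralClosure_field S ⟨hGe.1, hJ⟩ L
    exact Module.Finite.equiv (IsIntegralClosure.equiv S (integralClosure S L) L A).toLinearEquiv
  haveI := hfin
  have hdvd : Module.finrank K L ∣ Nat.card G := by
    rw [← IsGaloisGroup.card_eq_finrank H K L]
    exact Subgroup.card_range_dvd φ
  have hu : IsUnit ((Module.finrank K L : ℕ) : S) := by
    have hG' : IsUnit ((Nat.card G : ℕ) : S) := by
      obtain ⟨u, hu⟩ := hG
      refine IsUnit.of_mul_eq_one ⟨(↑u⁻¹ : A), fun g => ?_⟩ (Subtype.ext ?_)
      · refine (u.isUnit.mul_right_inj).1 ?_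
        have hfix : g • (↑u : A) = ↑u := by rw [hu]; exact map_natCast (MulSemiringAction.toRingHom G A g) _
        conv_lhs => rw [← hfix]
        rw [← smul_mul', Units.mul_inv, smul_one]
      · show (↑((Nat.card G : ℕ) : S) : A) * ↑u⁻¹ = 1
        rw [show (↑((Nat.card G : ℕ) : S) : A) = (Nat.card G : A) from map_natCast (algebraMap S A) _, ← hu]
        exact Units.mul_inv u
    obtain ⟨c, hc⟩ := hdvd
    rw [hc, Nat.cast_mul] at hG'
    exact (IsUnit.mul_iff.1 hG').1
  refine Groth.Agent.H05EGA4.TraceSplit.isRationalSing_of_isUnit S A K L hSN Subtype.val_injective hu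
    (fun n _ => Groth.Agent.H05EGA4.TraceSplit.rationalSing_all A hA2.le (fun n _ hn => ?_) n) m
  haveI := hreg n
  exact Groth.Agent.S1648.result _ (Groth.Agent.S4710.result A hAN n.primeCompl) hn

end Groth.Agent.S15142
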