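import Groth.Statements.S15144
import Groth.Agent.H19AbSch.OmegaAbScheme
import Groth.Agent.H17.PullSectLocal

set_option autoImplicit false
set_option maxHeartbeats 1000000
set_option synthInstance.maxHeartbeats 100000
set_option linter.style.haveILetI false
set_option backward.isDefEq.respectTransparency false
universe u
open CategoryTheory CategoryTheory.Limits MonoidalCategory CartesianMonoidalCategory MonObj GrpObj AlgebraicGeometry Opposite
open AbSch

namespace Groth.Agent.S15144

/-- The unit at a section is bijective on global sections of a module pulled back from the base. -/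
theorem bijective_pullSect_section {A S : Scheme.{u}} (f : A ⟶ S) (e : S ⟶ A) (he : e ≫ f = 𝟙 S) (N : S.Modules)
    (hN : FlatMod.IsFinLocFree N) (hu : IsIso ((Scheme.Modules.pullbackPushforwardAdjunction f).unit.app N))
    (M : A.Modules) (a : M ≅ (Scheme.Modules.pullback f).obj N) :
    Function.Bijective (OmegaSh.pullSect e M ⊤) := by
  haveI : IsIso (e ≫ f) := by rw [he]; infer_instance
  haveI := Groth.Agent.H28Pinch.isIso_unit_of_isFinLocFree (e ≫ f)
    (fun U => ConcreteCategory.bijective_of_isIso ((e ≫ f).app U)) N hN
  have h1 : Function.Bijective (OmegaSh.pullSect f N ⊤) :=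
    Groth.Agent.H17.PullSect.bijective_app ((Scheme.Modules.pullbackPushforwardAdjunction f).unit.app N) ⊤
  have h2 : Function.Bijective (OmegaSh.pullSect (e ≫ f) N ⊤) :=
    Groth.Agent.H17.PullSect.bijective_app ((Scheme.Modules.pullbackPushforwardAdjunction (e ≫ f)).unit.app N) ⊤
  have h3 := Groth.Agent.H17.PullSect.bijective_app ((Scheme.Modules.pullbackComp e f).inv.app N) ((e ≫ f) ⁻¹ᵁ ⊤)
  have hc : Function.Bijective (OmegaSh.pullSect e ((Scheme.Modules.pullback f).obj N) ⊤) := by
    refine (Function.Bijective.of_comp_iff _ h1).1 ?_
    exact Eq.mp (congrArg Function.Bijective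
      (funext fun m => Groth.Agent.H17.PullSect.pullSect_comp e f N ⊤ m)) (h3.comp h2)
  have h4 := Groth.Agent.H17.PullSect.bijective_app ((Scheme.Modules.pullback e).map a.hom) ⊤
  refine (Function.Bijective.of_comp_iff' h4 _).1 ?_
  exact Eq.mp (congrArg Function.Bijective
    (funext fun m => Groth.Agent.H17.PullSect.pullSect_natural e a.hom ⊤ m))
    (hc.comp (Groth.Agent.H17.PullSect.bijective_app a.hom ⊤))


/-- Let S be a scheme and A an abelian scheme over S, an S-group scheme whose structure morphism is
proper, flat and locally of finite presentation with geometrically reduced and geometrically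
connected fibres, with unit section e : S → A. Then every global section of Ω_{A/S} is invariant;
equivalently, the canonical map Γ(A, Ω_{A/S}) → Γ(S, e^*Ω_{A/S}) to the sections of the sheaf of
invariant differentials ω_A = e^*Ω_{A/S}, namely the map on global sections of the unit Ω_{A/S} →
e_*e^*Ω_{A/S} of the adjunction between pullback and pushforward along e, is bijective. -/
theorem result {S : Scheme.{u}} (A : Over S) [GrpObj A]
    [IsProper A.hom] [Flat A.hom] [LocallyOfFinitePresentation A.hom]
    [GeometricallyReduced A.hom] [GeometricallyConnected A.hom] :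
    Function.Bijective
      (((Scheme.Modules.pullbackPushforwardAdjunction η[A].left).unit.app (Omega.sheaf A.hom)).val.app (op ⊤)).hom := by
  obtain ⟨hF, ⟨a⟩⟩ := Groth.Agent.H19AbSch.OmegaAbScheme.main A
  exact bijective_pullSect_section A.hom η[A].left (Over.w η[A]) _ hF
    (Groth.Agent.H19AbSch.OmegaAbScheme.isIso_unit A) _ a

end Groth.Agent.S15144
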