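import Groth.Statements.S15148
import Groth.Agent.H27Hilb.Branches
import Mathlib

set_option autoImplicit false
universe u
open HilbZeta

namespace Groth.Agent.S15148

/-- Let k be a field, s a natural number and R a k-subalgebra of the product of s copies of the power
series ring k[[x]], of finite codimension δ over k and local with residue field k (all components of
an element of R have the same constant term); write v_i for the x-adic order of the i-th component
of an s-tuple, and let c = (c_1, …, c_s) be the conductor exponents, so that an s-tuple f satisfies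
f·g ∈ R for every s-tuple g exactly when v_i(f) ≥ c_i for all i (over an algebraically closed field
such an R is precisely the completed local ring of a reduced curve singularity having s branches
sitting inside its normalisation, δ is its delta invariant and the conductor ideal is generated by
the x_i^{c_i}), and put C = c_1 + ⋯ + c_s. Let I be an ideal of R of finite colength d with
branch-length vector a (for every i the ideal of k[[x]] generated by the i-th components of the
elements of I is (x^{a_i})). Then −δ ≤ d − Σ a_i ≤ C − δ, and the second inequality is strict when R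
is not the whole product (the singularity is not smooth). (The published statement is over an
algebraically closed field; this row allows any field.) -/
theorem result (k : Type u) [Field k] (s : ℕ)
    (R : Subalgebra k (Fin s → PowerSeries k))
    (hfin : Module.Finite k ((Fin s → PowerSeries k) ⧸ Subalgebra.toSubmodule R))
    (hloc : ∀ f ∈ R, ∀ i j : Fin s, PowerSeries.constantCoeff (f i) = PowerSeries.constantCoeff (f j))
    (c : Fin s → ℕ)
    (hc : ∀ f : Fin s → PowerSeries k,
      (∀ g : Fin s → PowerSeries k, g * f ∈ R) ↔ ∀ i, ((c i : ℕ) : ℕ∞) ≤ (f i).order)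
    (I : Ideal ↥R) (hI : Module.Finite k (↥R ⧸ I)) (a : Fin s → ℕ)
    (ha : (∀ i : Fin s, Ideal.map ((Pi.evalAlgHom k (fun _ : Fin s => PowerSeries k) i).comp R.val) I = Ideal.span {PowerSeries.X ^ (a i)})) :
    (∑ i, a i) ≤ Module.finrank k (↥R ⧸ I) + Module.finrank k ((Fin s → PowerSeries k) ⧸ Subalgebra.toSubmodule R) ∧
    Module.finrank k (↥R ⧸ I) + Module.finrank k ((Fin s → PowerSeries k) ⧸ Subalgebra.toSubmodule R) ≤ (∑ i, a i) + ∑ i, c i ∧
    (R ≠ ⊤ → Module.finrank k (↥R ⧸ I) + Module.finrank k ((Fin s → PowerSeries k) ⧸ Subalgebra.toSubmodule R) < (∑ i, a i) + ∑ i, c i) := by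
  obtain ⟨hge, hatt⟩ := Groth.Agent.H27Hilb.order_ge_and_attained R I a ha
  have hin := Groth.Agent.H27Hilb.mem_of_order_ge R c hc I a hatt
  let R' : Submodule k (Fin s → PowerSeries k) := Subalgebra.toSubmodule R
  let W : Submodule k (Fin s → PowerSeries k) := (I.restrictScalars k).map R.val.toLinearMap
  let A := LinearMap.ker (Groth.Agent.H27Hilb.trunc (k := k) a)
  let B := LinearMap.ker (Groth.Agent.H27Hilb.trunc (k := k) fun i => a i + c i)
  have hWA : W ≤ A := by
    rintro _ ⟨f, hf, rfl⟩
    exact (Groth.Agent.H27Hilb.mem_ker_trunc a _).mpr (hge f hf)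
  have hBW : B ≤ W := by
    intro g hg
    obtain ⟨hgR, hgI⟩ := hin g ((Groth.Agent.H27Hilb.mem_ker_trunc _ _).mp hg)
    exact ⟨⟨g, hgR⟩, hgI, rfl⟩
  have hWR : W ≤ R' := by rintro _ ⟨f, -, rfl⟩; exact f.2
  haveI hB := Groth.Agent.H27Hilb.finite_quot_ker_trunc (k := k) (fun i => a i + c i)
  haveI : Module.Finite k ((Fin s → PowerSeries k) ⧸ W) :=
    Module.Finite.of_surjective (Submodule.factor hBW) (Submodule.factor_surjective hBW)
  have hWdim : Module.finrank k ((Fin s → PowerSeries k) ⧸ W) =
      Module.finrank k (↥R ⧸ I) + Module.finrank k ((Fin s → PowerSeries k) ⧸ R') := by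
    rw [← Submodule.finrank_quotient_add_finrank (R'.map W.mkQ),
      (Submodule.quotientQuotientEquivQuotient W R' hWR).finrank_eq, add_comm]
    congr 1
    let φ : ↥R →ₗ[k] (Fin s → PowerSeries k) ⧸ W := W.mkQ ∘ₗ R.val.toLinearMap
    have hker : LinearMap.ker φ = I.restrictScalars k := by
      ext f
      simp only [φ, LinearMap.mem_ker, LinearMap.comp_apply, Submodule.mkQ_apply,
        Submodule.Quotient.mk_eq_zero, Submodule.restrictScalars_mem]
      exact ⟨fun ⟨f', hf', he⟩ => (Subtype.ext he : f' = f) ▸ hf', fun hf => ⟨f, hf, rfl⟩⟩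
    have hrange : LinearMap.range φ = R'.map W.mkQ := by
      rw [LinearMap.range_comp]
      congr 1
      ext g
      exact ⟨fun ⟨f, hf⟩ => hf ▸ f.2, fun hg => ⟨⟨g, hg⟩, rfl⟩⟩
    rw [← hrange, ← φ.quotKerEquivRange.finrank_eq, hker]
    exact (Submodule.Quotient.restrictScalarsEquiv k I).finrank_eq
  rw [← hWdim]
  have hA : Module.finrank k ((Fin s → PowerSeries k) ⧸ A) = ∑ i, a i :=
    Groth.Agent.H27Hilb.finrank_quot_ker_trunc a
  have hB' : Module.finrank k ((Fin s → PowerSeries k) ⧸ B) = (∑ i, a i) + ∑ i, c i :=
    (Groth.Agent.H27Hilb.finrank_quot_ker_trunc (k := k) fun i => a i + c i).trans Finset.sum_add_distrib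
  have h2 := LinearMap.finrank_le_finrank_of_surjective (Submodule.factor_surjective hBW)
  refine ⟨hA ▸ LinearMap.finrank_le_finrank_of_surjective (Submodule.factor_surjective hWA), hB' ▸ h2,
    fun hR => ?_⟩
  by_contra hlt
  push Not at hlt
  apply hR
  have hinj : Function.Injective (Submodule.factor hBW) :=
    (LinearMap.injective_iff_surjective_of_finrank_eq_finrank (le_antisymm (hB' ▸ hlt) h2)).mpr
      (Submodule.factor_surjective hBW)
  have hWB : W ≤ B := fun x hx => by
    rw [← Submodule.Quotient.mk_eq_zero]
    apply hinj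
    rw [map_zero]
    exact (Submodule.Quotient.mk_eq_zero W).mpr hx
  have hc0 : ∀ i, c i = 0 := by
    intro i
    obtain ⟨f, hf, hfo⟩ := hatt i
    have := (Groth.Agent.H27Hilb.mem_ker_trunc _ _).mp (hWB ⟨f, hf, rfl⟩) i
    rw [show (R.val.toLinearMap f) i = (f : Fin s → PowerSeries k) i from rfl, hfo, Nat.cast_le] at this
    omega
  refine eq_top_iff.mpr fun f _ => ?_
  simpa using (hc f).mpr (fun i => by simp [hc0 i]) 1

end Groth.Agent.S15148
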