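import Groth.Statements.S15149
import Groth.Agent.H27Hilb.Shift

set_option autoImplicit false
universe u
open HilbZeta

namespace Groth.Agent.S15149

/-- Let k be a field, s a natural number and R a k-subalgebra of the product of s copies of the power
series ring k[[x]], of finite codimension δ over k and local with residue field k (all components of
an element of R have the same constant term); write v_i for the x-adic order of the i-th component
of an s-tuple, and let c = (c_1, …, c_s) be the conductor exponents, so that an s-tuple f satisfies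
f·g ∈ R for every s-tuple g exactly when v_i(f) ≥ c_i for all i (over an algebraically closed field
such an R is precisely the completed local ring of a reduced curve singularity having s branches
sitting inside its normalisation, δ is its delta invariant and the conductor ideal is generated by
the x_i^{c_i}). Fix a branch j, a colength d and a branch-length vector a = (a_1, …, a_s) with a_j ≥
c_j, and let ξ be the s-tuple with x in the j-th place and 1 elsewhere. Call an ideal I of R of type
(d, a) when it has colength d and, for every i, the ideal of k[[x]] generated by the i-th components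
of its elements is (x^{a_i}). Then multiplication by ξ is a bijection from the ideals of type (d, a)
onto the ideals of type (d + 1, a + e_j), where a + e_j is a with its j-th entry raised by one: for
every ideal I of type (d, a) the set ξ·I is (the image of) an ideal of type (d + 1, a + e_j), and
every ideal of type (d + 1, a + e_j) is ξ·I for some ideal I of type (d, a). (The published
statement is the equality, in the Grothendieck ring of varieties, of the classes of the two
corresponding branch-length strata of the punctual Hilbert scheme; this row states the bijection on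
ideals underlying it, which is what the argument establishes; the published statement is over an
algebraically closed field, and this row allows any field.) -/
theorem result (k : Type u) [Field k] (s : ℕ)
    (R : Subalgebra k (Fin s → PowerSeries k))
    (hfin : Module.Finite k ((Fin s → PowerSeries k) ⧸ Subalgebra.toSubmodule R))
    (hloc : ∀ f ∈ R, ∀ i j : Fin s, PowerSeries.constantCoeff (f i) = PowerSeries.constantCoeff (f j))
    (c : Fin s → ℕ)
    (hc : ∀ f : Fin s → PowerSeries k,
      (∀ g : Fin s → PowerSeries k, g * f ∈ R) ↔ ∀ i, ((c i : ℕ) : ℕ∞) ≤ (f i).order)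
    (j : Fin s) (d : ℕ) (a : Fin s → ℕ) (hj : c j ≤ a j) :
    (∀ I ∈ {I : Ideal ↥R | Module.Finite k (↥R ⧸ I) ∧ Module.finrank k (↥R ⧸ I) = d ∧ (∀ i : Fin s, Ideal.map ((Pi.evalAlgHom k (fun _ : Fin s => PowerSeries k) i).comp R.val) I = Ideal.span {PowerSeries.X ^ (a i)})},
      ∃ J ∈ {I : Ideal ↥R | Module.Finite k (↥R ⧸ I) ∧ Module.finrank k (↥R ⧸ I) = d + 1 ∧ (∀ i : Fin s, Ideal.map ((Pi.evalAlgHom k (fun _ : Fin s => PowerSeries k) i).comp R.val) I = Ideal.span {PowerSeries.X ^ ((Function.update a j (a j + 1)) i)})},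
        (Subtype.val '' (J : Set ↥R)) = (fun f => Pi.mulSingle j PowerSeries.X * f) '' (Subtype.val '' (I : Set ↥R))) ∧
    (∀ J ∈ {I : Ideal ↥R | Module.Finite k (↥R ⧸ I) ∧ Module.finrank k (↥R ⧸ I) = d + 1 ∧ (∀ i : Fin s, Ideal.map ((Pi.evalAlgHom k (fun _ : Fin s => PowerSeries k) i).comp R.val) I = Ideal.span {PowerSeries.X ^ ((Function.update a j (a j + 1)) i)})},
      ∃ I ∈ {I : Ideal ↥R | Module.Finite k (↥R ⧸ I) ∧ Module.finrank k (↥R ⧸ I) = d ∧ (∀ i : Fin s, Ideal.map ((Pi.evalAlgHom k (fun _ : Fin s => PowerSeries k) i).comp R.val) I = Ideal.span {PowerSeries.X ^ (a i)})},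
        (Subtype.val '' (J : Set ↥R)) = (fun f => Pi.mulSingle j PowerSeries.X * f) '' (Subtype.val '' (I : Set ↥R))) := by
  classical
  let ξ := Groth.Agent.H27Hilb.xi (k := k) j
  have hξ : (fun f : Fin s → PowerSeries k => Pi.mulSingle j PowerSeries.X * f) = ξ := rfl
  simp only [hξ]
  have hmul : ∀ f g : Fin s → PowerSeries k, ξ (g * f) = g * ξ f := fun f g => mul_left_comm _ _ _
  have hup : ∀ i, Function.update a j (a j + 1) i = if i = j then a i + 1 else a i := by
    intro i
    rcases eq_or_ne i j with rfl | h <;> simp [*]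
  constructor
  · rintro I ⟨hI1, hI2, hI3⟩
    obtain ⟨hge, -⟩ := Groth.Agent.H27Hilb.order_ge_and_attained R I a hI3
    have hmem : ∀ f ∈ I, ξ (f : Fin s → PowerSeries k) ∈ R := by
      intro f hf
      refine Groth.Agent.H27Hilb.mem_of_sub_supported R j c hc f.2
        (fun i hi => by simp [ξ, Groth.Agent.H27Hilb.xi_apply, hi]) ?_
      rw [Groth.Agent.H27Hilb.xi_apply, if_pos rfl, ← sub_one_mul]
      refine le_trans ?_ (PowerSeries.le_order_mul _ _)
      exact le_trans (le_trans (by exact_mod_cast hj) (hge f hf j)) le_add_self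
    let J : Ideal ↥R :=
      { carrier := {h | ∃ f ∈ I, (h : Fin s → PowerSeries k) = ξ (f : Fin s → PowerSeries k)}
        add_mem' := by
          rintro h h' ⟨f, hf, e⟩ ⟨f', hf', e'⟩
          exact ⟨f + f', add_mem hf hf', by rw [AddMemClass.coe_add, e, e', AddMemClass.coe_add, map_add]⟩
        zero_mem' := ⟨0, zero_mem _, by simp⟩
        smul_mem' := by
          rintro r h ⟨f, hf, e⟩
          exact ⟨r * f, I.mul_mem_left r hf, by
            rw [smul_eq_mul, MulMemClass.coe_mul, MulMemClass.coe_mul, e, hmul]⟩ }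
    have himage : Subtype.val '' (J : Set ↥R) = ξ '' (Subtype.val '' (I : Set ↥R)) := by
      ext g
      constructor
      · rintro ⟨h, ⟨f, hf, e⟩, rfl⟩
        exact ⟨f.1, ⟨f, hf, rfl⟩, e.symm⟩
      · rintro ⟨_, ⟨f, hf, rfl⟩, rfl⟩
        exact ⟨⟨_, hmem f hf⟩, ⟨f, hf, rfl⟩, rfl⟩
    obtain ⟨h1, h2⟩ := (Groth.Agent.H27Hilb.colength_iff R hfin I d).mp ⟨hI1, hI2⟩
    have h3 := (Groth.Agent.H27Hilb.finrank_quot_map_xi j _ _).mpr ⟨h1, h2⟩
    rw [← Groth.Agent.H27Hilb.img_eq_of_image R j himage, add_right_comm] at h3
    obtain ⟨h4, h5⟩ := (Groth.Agent.H27Hilb.colength_iff R hfin J (d + 1)).mpr h3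
    refine ⟨J, ⟨h4, h5, fun i => ?_⟩, himage⟩
    rw [Groth.Agent.H27Hilb.map_eval_shift R j himage i, hI3 i, hup, Ideal.span_singleton_mul_span_singleton]
    congr 2
    split_ifs <;> ring
  · rintro J ⟨hJ1, hJ2, hJ3⟩
    obtain ⟨hge, -⟩ := Groth.Agent.H27Hilb.order_ge_and_attained R J _ hJ3
    let I : Ideal ↥R :=
      { carrier := {g | ∃ h ∈ J, (h : Fin s → PowerSeries k) = ξ (g : Fin s → PowerSeries k)}
        add_mem' := by
          rintro g g' ⟨h, hh, e⟩ ⟨h', hh', e'⟩
          exact ⟨h + h', add_mem hh hh', by rw [AddMemClass.coe_add, AddMemClass.coe_add, map_add, e, e']⟩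
        zero_mem' := ⟨0, zero_mem _, by simp⟩
        smul_mem' := by
          rintro r g ⟨h, hh, e⟩
          exact ⟨r * h, J.mul_mem_left r hh, by
            rw [smul_eq_mul, MulMemClass.coe_mul, MulMemClass.coe_mul, e, hmul]⟩ }
    have himage : Subtype.val '' (J : Set ↥R) = ξ '' (Subtype.val '' (I : Set ↥R)) := by
      ext f
      constructor
      · rintro ⟨h, hh, rfl⟩
        have hj1 : ((a j + 1 : ℕ) : ℕ∞) ≤ ((h : Fin s → PowerSeries k) j).order := by
          simpa using hge h hh j
        obtain ⟨v, hv⟩ : PowerSeries.X ^ (a j + 1) ∣ (h : Fin s → PowerSeries k) j := by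
          rw [PowerSeries.X_pow_dvd_iff]
          exact fun m hm => PowerSeries.coeff_of_lt_order m (lt_of_lt_of_le (by exact_mod_cast hm) hj1)
        let g : Fin s → PowerSeries k := Function.update (h : Fin s → PowerSeries k) j (PowerSeries.X ^ a j * v)
        have hξg : ξ g = (h : Fin s → PowerSeries k) := by
          funext i
          rw [Groth.Agent.H27Hilb.xi_apply]
          rcases eq_or_ne i j with rfl | hi
          · simp [g, hv]; ring
          · simp [g, hi]
        have hgR : g ∈ R := by
          refine Groth.Agent.H27Hilb.mem_of_sub_supported R j c hc h.2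
            (fun i hi => by simp [g, hi]) ?_
          have : g j - (h : Fin s → PowerSeries k) j = PowerSeries.X ^ a j * (v - PowerSeries.X * v) := by
            simp [g, hv]; ring
          rw [this]
          refine le_trans ?_ (PowerSeries.le_order_mul _ _)
          rw [PowerSeries.order_X_pow]
          exact le_trans (by exact_mod_cast hj) le_self_add
        exact ⟨g, ⟨⟨g, hgR⟩, ⟨h, hh, hξg.symm⟩, rfl⟩, hξg⟩
      · rintro ⟨_, ⟨g, ⟨h, hh, e⟩, rfl⟩, rfl⟩
        exact ⟨h, hh, e⟩
    obtain ⟨h1, h2⟩ := (Groth.Agent.H27Hilb.colength_iff R hfin J (d + 1)).mp ⟨hJ1, hJ2⟩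
    rw [Groth.Agent.H27Hilb.img_eq_of_image R j himage] at h1 h2
    have h3 := (Groth.Agent.H27Hilb.finrank_quot_map_xi j (Groth.Agent.H27Hilb.img R I)
      (d + Module.finrank k ((Fin s → PowerSeries k) ⧸ Subalgebra.toSubmodule R))).mp
      ⟨h1, h2.trans (by ring)⟩
    obtain ⟨h4, h5⟩ := (Groth.Agent.H27Hilb.colength_iff R hfin I d).mpr h3
    refine ⟨I, ⟨h4, h5, fun i => ?_⟩, himage⟩
    have e := (Groth.Agent.H27Hilb.map_eval_shift R j himage i).symm.trans (hJ3 i)
    rw [hup] at e
    rcases eq_or_ne i j with rfl | hi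
    · rw [if_pos rfl, if_pos rfl, pow_succ', ← Ideal.span_singleton_mul_span_singleton] at e
      exact (Ideal.span_singleton_mul_right_inj PowerSeries.X_ne_zero).mp e
    · rw [if_neg hi, if_neg hi, Ideal.span_singleton_one, Ideal.top_mul] at e
      exact e

end Groth.Agent.S15149
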