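import Groth.Statements.S1515
import Groth.Agent.H8Props.DiagonalPerfectSmooth
import Groth.Agent.S1676
import Groth.Agent.S1509

set_option autoImplicit false
universe u
attribute [local instance] HasDerivedCategory.standard
open FlatMor

namespace Groth.Agent.S1515

open AlgebraicGeometry CategoryTheory Limits in
/-- (1) ⇔ (2) ⇔ (4): let f : X → Y be separated and of finite type between locally Noetherian schemes,
with diagonal Δ (a closed immersion). Then f is smooth iff f is flat and Δ is a regular closed
immersion, iff f is flat and Δ is a perfect morphism. -/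
theorem result {X Y : Scheme.{u}} (f : X ⟶ Y) [IsSeparated f] [LocallyOfFiniteType f] [QuasiCompact f] [IsLocallyNoetherian X] [IsLocallyNoetherian Y] :
    (Smooth f ↔ Flat f ∧ Mor2.IsRegularClosedImmersion (pullback.diagonal f)) ∧
    (Smooth f ↔ Flat f ∧ MoreMor.IsPerfectMor (pullback.diagonal f)) := by
  haveI : LocallyOfFinitePresentation f :=
    LocallyOfFinitePresentation.iff_locallyOfFiniteType.2 inferInstance
  have hreg : Smooth f → Mor2.IsRegularClosedImmersion (pullback.diagonal f) := fun hs => by
    haveI : Smooth (pullback.fst f f) := MorphismProperty.pullback_fst f f hs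
    exact Groth.Agent.S1676.result (pullback.fst f f) (pullback.diagonal f) (pullback.diagonal_fst f)
  have hback : Flat f ∧ MoreMor.IsPerfectMor (pullback.diagonal f) → Smooth f := fun ⟨hf, hp⟩ =>
    haveI := hf
    Groth.Agent.H8Props.DiagTor.smooth_of_perfect_diagonal f hp
  have hperf : Mor2.IsRegularClosedImmersion (pullback.diagonal f) →
      MoreMor.IsPerfectMor (pullback.diagonal f) := Groth.Agent.S1509.result _
  exact ⟨⟨fun hs => ⟨inferInstance, hreg hs⟩, fun h => hback ⟨h.1, hperf h.2⟩⟩,
    ⟨fun hs => ⟨inferInstance, hperf (hreg hs)⟩, hback⟩⟩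

end Groth.Agent.S1515
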