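import Groth.Statements.S15150
import Mathlib

set_option autoImplicit false
universe u
open HilbZeta

namespace Groth.Agent.S15150

/-- Let A be a reduced commutative ring, S an A-algebra together with an A-algebra homomorphism π : S →
A (a section of Spec S → Spec A), with kernel m, and I an ideal of S such that S/I is a finite
projective A-module of constant rank d and m is contained in the radical of I (the finite flat
subscheme Spec S/I of degree d lies, as a set, on the section). Then m^d ⊆ I: the subscheme lies in
the (d−1)-st infinitesimal neighbourhood of the section. (The published statement is for a closed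
subscheme, flat and proper of degree d over a Noetherian base, of a family of reduced curve
singularities with a section, with no reducedness assumption on the base; over the dual numbers k[ε]
the ideal (x − ε) of k[ε][x] has quotient free of rank one and radical containing x but does not
contain x, so the base is taken reduced here, and the statement is given in its affine form, to
which the argument reduces at once; the curve hypotheses play no role and are dropped; the condition
that Spec S/I lies set-theoretically on the section, which the published argument deduces from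
properness of Z inside the germ, is a hypothesis here.) -/
theorem result (A : Type u) [CommRing A] [IsReduced A]
    (S : Type u) [CommRing S] [Algebra A S] (π : S →ₐ[A] A) (I : Ideal S) (d : ℕ)
    [Module.Finite A (S ⧸ I)] [Module.Projective A (S ⧸ I)]
    (hrank : ∀ p : PrimeSpectrum A, Module.rankAtStalk (R := A) (S ⧸ I) p = d)
    (hsupp : RingHom.ker π ≤ I.radical) :
    RingHom.ker π ^ d ≤ I := by
  classical
  let q : S →+* S ⧸ I := Ideal.Quotient.mk I
  let J₀ : Ideal (S ⧸ I) := (RingHom.ker π).map q
  have hJ₀ : J₀ ≤ nilradical (S ⧸ I) := by
    refine Ideal.map_le_iff_le_comap.mpr fun x hx => ?_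
    obtain ⟨n, hn⟩ := hsupp hx
    exact mem_nilradical.mpr ⟨n, by rw [← map_pow]; exact Ideal.Quotient.eq_zero_iff_mem.mpr hn⟩
  have key : ∀ z ∈ J₀ ^ d, ∀ P : PrimeSpectrum A,
      (1 : P.asIdeal.ResidueField) ⊗ₜ[A] z = (0 : TensorProduct A P.asIdeal.ResidueField (S ⧸ I)) := by
    intro z hz P
    let K := P.asIdeal.ResidueField
    let B := TensorProduct A K (S ⧸ I)
    let ι : S ⧸ I →+* B := (Algebra.TensorProduct.includeRight : S ⧸ I →ₐ[A] B).toRingHom
    haveI : Module.Finite K B := inferInstance
    haveI : IsArtinianRing B := IsArtinianRing.of_finite K B
    have hd : Module.finrank K B = d := by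
      rw [← hrank P, Module.rankAtStalk_eq]
    let J : Ideal B := J₀.map ι
    have hJ : J ≤ nilradical B := Ideal.map_le_iff_le_comap.mpr fun x hx =>
      mem_nilradical.mpr ((mem_nilradical.mp (hJ₀ hx)).map ι)
    have hjac : J ≤ Ideal.jacobson ⊥ := hJ.trans (Ideal.radical_le_jacobson)
    let fr : ℕ → ℕ := fun i => Module.finrank K ((J ^ i).restrictScalars K)
    have hfr : ∀ i, fr i + i ≤ d ∨ J ^ i = ⊥ := by
      intro i
      induction i with
      | zero =>
        refine Or.inl (hd ▸ ?_)
        exact Submodule.finrank_le _
      | succ i ih =>
        by_cases hb : J ^ (i + 1) = ⊥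
        · exact Or.inr hb
        have hlt : J ^ (i + 1) < J ^ i := by
          refine lt_of_le_of_ne (Ideal.pow_le_pow_right (by omega)) fun heq => hb ?_
          refine Submodule.eq_bot_of_le_smul_of_le_jacobson_bot J _ (IsNoetherian.noetherian _) ?_ hjac
          rw [smul_eq_mul]
          exact le_of_eq ((pow_succ' J i).trans (congrArg (J * ·) heq.symm))
        rcases ih with ih | ih
        · left
          have : fr (i + 1) < fr i := Submodule.finrank_lt_finrank_of_lt (show
            (J ^ (i + 1)).restrictScalars K < (J ^ i).restrictScalars K from hlt)
          omega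
        · exact absurd (le_bot_iff.mp (hlt.le.trans ih.le)) hb
    have hJd : J ^ d = ⊥ := by
      rcases hfr d with h | h
      · have h0 : fr d = 0 := by omega
        exact (Submodule.restrictScalars_eq_bot_iff K B B).mp (Submodule.finrank_eq_zero.mp h0)
      · exact h
    have h1 : ι z ∈ J ^ d := by
      rw [← Ideal.map_pow]; exact Ideal.mem_map_of_mem _ hz
    rw [hJd, Ideal.mem_bot] at h1
    exact h1
  intro x hx
  rw [← Ideal.Quotient.eq_zero_iff_mem]
  have hz : q x ∈ J₀ ^ d := by
    rw [← Ideal.map_pow]; exact Ideal.mem_map_of_mem _ hx
  refine (Module.forall_dual_apply_eq_zero_iff A _).mp fun φ => ?_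
  have hn : φ (q x) ∈ nilradical A := by
    rw [nilradical_eq_sInf, Submodule.mem_sInf]
    intro P hP
    haveI : Ideal.IsPrime P := hP
    have h := congrArg (fun t => TensorProduct.rid A (Ideal.ResidueField P) (φ.lTensor (Ideal.ResidueField P) t))
      (key _ hz ⟨P, hP⟩)
    simp only [LinearMap.lTensor_tmul, TensorProduct.rid_tmul, map_zero, Algebra.smul_def, mul_one] at h
    exact Ideal.algebraMap_residueField_eq_zero.mp h
  rwa [nilradical_eq_zero A] at hn

end Groth.Agent.S15150
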