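import Groth.Statements.S15151
import Groth.Agent.H27Misc.FlatImage

set_option autoImplicit false
universe u
open CategoryTheory AlgebraicGeometry
open HilbZeta

namespace Groth.Agent.S15151

/-- Let k be a field, and let f : X → Y and g : Y → Spec k[t] be morphisms of schemes with f
quasi-compact and with zero kernel ideal sheaf (Y is the scheme-theoretic image of f), such that the
composite X → Spec k[t] is flat. Then g is flat; in particular a k[t]-subalgebra of a flat
k[t]-algebra is flat. (The published statement has no quasi-compactness hypothesis on f and is over
an algebraically closed field; this row assumes f quasi-compact and allows any field.) -/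
theorem result (k : Type u) [Field k]
    (X Y : Scheme.{u}) (f : X ⟶ Y) (g : Y ⟶ Spec (CommRingCat.of (Polynomial k)))
    [QuasiCompact f] (hker : f.ker = ⊥) [Flat (f ≫ g)] : Flat g := by
  exact Groth.Agent.H27Misc.flat_of_ker_eq_bot f g hker

end Groth.Agent.S15151
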