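import Groth.Statements.S15152
import Mathlib

set_option autoImplicit false
universe u
open HilbZeta

namespace Groth.Agent.S15152

/-- Let k be a field, s a natural number and R a k-subalgebra of the product of s copies of the power
series ring k[[x]], of finite codimension δ over k and local with residue field k (all components of
an element of R have the same constant term); write v_i for the x-adic order of the i-th component
of an s-tuple, and let c = (c_1, …, c_s) be the conductor exponents, so that an s-tuple f satisfies
f·g ∈ R for every s-tuple g exactly when v_i(f) ≥ c_i for all i (over an algebraically closed field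
such an R is precisely the completed local ring of a reduced curve singularity having s branches
sitting inside its normalisation, δ is its delta invariant and the conductor ideal is generated by
the x_i^{c_i}). Let A be the k-subalgebra of the product of s polynomial rings k[x] consisting of
the tuples whose image in the power series product lies in R, and m₀ its ideal of tuples with zero
constant terms. Then: A is of finite type over k and has no idempotents besides 0 and 1; the product
of polynomial rings is a finite A-module, and for some N every product of N elements of m₀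
multiplies all of it into A; every element of R is approximated to any x-adic order by elements of
A; and for every N there is an M such that every element of A whose components are all divisible by
x^M lies in m₀^N. In words: Y = Spec A is a connected affine curve whose normalisation is the
disjoint union of s affine lines and is an isomorphism away from the origin, and the completed local
ring of Y at the origin is R, compatibly with the inclusion of the polynomial product in the power
series product. (The published statement asserts the existence of such a curve Y and is over an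
algebraically closed field; this row names Y and allows any field.) -/
theorem result (k : Type u) [Field k] (s : ℕ)
    (R : Subalgebra k (Fin s → PowerSeries k))
    (hfin : Module.Finite k ((Fin s → PowerSeries k) ⧸ Subalgebra.toSubmodule R))
    (hloc : ∀ f ∈ R, ∀ i j : Fin s, PowerSeries.constantCoeff (f i) = PowerSeries.constantCoeff (f j))
    (c : Fin s → ℕ)
    (hc : ∀ f : Fin s → PowerSeries k,
      (∀ g : Fin s → PowerSeries k, g * f ∈ R) ↔ ∀ i, ((c i : ℕ) : ℕ∞) ≤ (f i).order)
    (A : Subalgebra k (Fin s → Polynomial k))
    (hA : ∀ g : Fin s → Polynomial k, g ∈ A ↔ (fun i => ((g i : Polynomial k) : PowerSeries k)) ∈ R) :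
    Algebra.FiniteType k ↥A ∧
    (∀ e ∈ A, e * e = e → e = 0 ∨ e = 1) ∧
    Module.Finite ↥A (Fin s → Polynomial k) ∧
    (∃ N : ℕ, ∀ g : Fin N → (Fin s → Polynomial k),
      (∀ n, g n ∈ A ∧ ∀ i, (g n i).coeff 0 = 0) → ∀ p : Fin s → Polynomial k, p * ∏ n, g n ∈ A) ∧
    (∀ f ∈ R, ∀ N : ℕ, ∃ g ∈ A, ∀ i : Fin s, (N : ℕ∞) ≤ (f i - ((g i : Polynomial k) : PowerSeries k)).order) ∧
    (∀ N : ℕ, ∃ M : ℕ, ∀ g : ↥A, (∀ i : Fin s, Polynomial.X ^ M ∣ (g : Fin s → Polynomial k) i) →
      g ∈ (Ideal.span {h : ↥A | ∀ i : Fin s, ((h : Fin s → Polynomial k) i).coeff 0 = 0}) ^ N) := by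
  classical
  let M : ℕ := (∑ i, c i) + 1
  have hM : ∀ i, c i ≤ M := fun i =>
    (Finset.single_le_sum (fun j _ => Nat.zero_le (c j)) (Finset.mem_univ i)).trans (Nat.le_succ _)
  have memR : ∀ f : Fin s → PowerSeries k, (∀ i, ((c i : ℕ) : ℕ∞) ≤ (f i).order) → f ∈ R := fun f hf => by
    simpa using (hc f).mpr hf 1
  have memA : ∀ g : Fin s → Polynomial k, (∀ i, Polynomial.X ^ M ∣ g i) → g ∈ A := by
    intro g hg
    rw [hA]
    refine memR _ fun i => PowerSeries.nat_le_order _ _ fun m hm => ?_
    rw [Polynomial.coeff_coe]
    exact Polynomial.X_pow_dvd_iff.mp (hg i) m (lt_of_lt_of_le hm (hM i))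
  let t : ↥A := ⟨fun _ => Polynomial.X ^ M, memA _ fun i => dvd_rfl⟩
  have htn : ∀ q i, ((t ^ q : ↥A) : Fin s → Polynomial k) i = Polynomial.X ^ (M * q) := fun q i => by
    rw [SubmonoidClass.coe_pow, Pi.pow_apply, ← pow_mul]
  -- finiteness of the polynomial product
  let gens : Finset (Fin s → Polynomial k) :=
    (Finset.univ : Finset (Fin s × Fin M)).image fun q => Pi.single q.1 (Polynomial.X ^ q.2.val)
  have hspan : Submodule.span ↥A (gens : Set (Fin s → Polynomial k)) = ⊤ := by
    refine eq_top_iff.mpr fun g _ => ?_
    rw [← Finset.univ_sum_single g]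
    refine sum_mem fun i _ => ?_
    induction g i using Polynomial.induction_on' with
    | add a b ha hb => rw [Pi.single_add]; exact add_mem ha hb
    | monomial m a =>
      have e : (Pi.single i (Polynomial.monomial m a) : Fin s → Polynomial k) =
          (algebraMap k ↥A a * t ^ (m / M)) • (Pi.single i (Polynomial.X ^ (m % M)) : Fin s → Polynomial k) := by
        funext j
        show _ = ((algebraMap k ↥A a * t ^ (m / M) : ↥A) : Fin s → Polynomial k) j *
          (Pi.single i (Polynomial.X ^ (m % M)) : Fin s → Polynomial k) j
        rw [MulMemClass.coe_mul, Pi.mul_apply, htn, Subalgebra.coe_algebraMap, Pi.algebraMap_apply]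
        rcases eq_or_ne j i with rfl | hj
        · rw [Pi.single_eq_same, Pi.single_eq_same, mul_assoc, ← pow_add, Nat.div_add_mod,
            Polynomial.algebraMap_eq, Polynomial.C_mul_X_pow_eq_monomial]
        · rw [Pi.single_eq_of_ne hj, Pi.single_eq_of_ne hj, mul_zero]
      rw [e]
      refine Submodule.smul_mem _ _ (Submodule.subset_span ?_)
      simp only [gens, Finset.coe_image, Finset.coe_univ, Set.image_univ, Set.mem_range]
      exact ⟨(i, ⟨m % M, Nat.mod_lt _ (Nat.succ_pos _)⟩), rfl⟩
  have hfinP : Module.Finite ↥A (Fin s → Polynomial k) := ⟨⟨gens, hspan⟩⟩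
  refine ⟨?_, ?_, hfinP, ⟨M, ?_⟩, ?_, ?_⟩
  · haveI : Algebra.FiniteType k (Fin s → Polynomial k) := by
      haveI : Module.Finite (Polynomial k) (Fin s → Polynomial k) := inferInstance
      exact Algebra.FiniteType.trans (S := Polynomial k) inferInstance inferInstance
    exact ⟨fg_of_fg_of_fg k ↥A (Fin s → Polynomial k) Algebra.FiniteType.out hfinP.1 Subtype.coe_injective⟩
  · intro e he hee
    have h01 : ∀ i, e i = 0 ∨ e i = 1 := fun i => IsIdempotentElem.iff_eq_zero_or_one.mp (congrFun hee i)
    have hcc := hloc _ ((hA e).mp he)
    by_cases h : ∃ i, e i = 1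
    · obtain ⟨i, hi⟩ := h
      right
      funext j
      rcases h01 j with hj | hj
      · have := hcc i j
        simp [hi, hj] at this
      · exact hj
    · left
      funext j
      exact (h01 j).resolve_right fun hj => h ⟨j, hj⟩
  · intro g hg q
    refine memA _ fun i => ?_
    rw [Pi.mul_apply]
    refine Dvd.dvd.mul_left ?_ _
    rw [Finset.prod_apply, show (Polynomial.X : Polynomial k) ^ M = ∏ _n : Fin M, Polynomial.X by
      rw [Finset.prod_const, Finset.card_univ, Fintype.card_fin]]
    exact Finset.prod_dvd_prod_of_dvd _ _ fun n _ => Polynomial.X_dvd_iff.mpr ((hg n).2 i)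
  · intro f hf N
    let g : Fin s → Polynomial k := fun i => PowerSeries.trunc (N + M) (f i)
    have hord : ∀ i, ((N + M : ℕ) : ℕ∞) ≤ (f i - (g i : PowerSeries k)).order := fun i =>
      PowerSeries.nat_le_order _ _ fun m hm => by simp [g, PowerSeries.coeff_trunc, hm]
    refine ⟨g, (hA g).mpr ?_, fun i => le_trans (by exact_mod_cast Nat.le_add_right N M) (hord i)⟩
    have hd : (fun i => f i - (g i : PowerSeries k)) ∈ R := memR _ fun i =>
      le_trans (by exact_mod_cast (hM i).trans (Nat.le_add_left M N)) (hord i)
    have := R.sub_mem hf hd
    convert this using 1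
    funext i
    exact (sub_sub_cancel _ _).symm
  · intro N
    refine ⟨M * N, fun g hg => ?_⟩
    cases N with
    | zero => simp
    | succ n =>
      have hdiv : ∀ i, ∃ q, (g : Fin s → Polynomial k) i = Polynomial.X ^ (M * n) * (Polynomial.X ^ M * q) := by
        intro i
        obtain ⟨q, hq⟩ := hg i
        exact ⟨q, by rw [hq, ← mul_assoc, ← pow_add, Nat.mul_succ]⟩
      choose q hq using hdiv
      let h : ↥A := ⟨fun i => Polynomial.X ^ M * q i, memA _ fun i => dvd_mul_right _ _⟩
      have e : g = t ^ n * h := by
        apply Subtype.ext
        funext i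
        rw [MulMemClass.coe_mul, Pi.mul_apply, htn]
        exact hq i
      have hM0 : (0 : ℕ) < M := Nat.succ_pos _
      rw [e, pow_succ]
      refine Ideal.mul_mem_mul (Ideal.pow_mem_pow (Ideal.subset_span fun i => ?_) n) (Ideal.subset_span fun i => ?_)
      · simp [t, Polynomial.coeff_X_pow, hM0.ne]
      · simp [h, Polynomial.coeff_X_pow_mul', hM0]

end Groth.Agent.S15152
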