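import Groth.Statements.S15153
import Mathlib

set_option autoImplicit false
universe u
open TensorProduct
open HilbZeta

namespace Groth.Agent.S15153

/-- Let A be a Noetherian commutative ring, S a commutative A-algebra and Q an S-module which is finite
and flat as an A-module. For a prime p of A with residue field κ(p), multiplication by an element of
S induces a κ(p)-linear endomorphism of the fibre κ(p) ⊗_A Q; let φ(p) be the κ(p)-dimension of the
span of these endomorphisms, which is the colength of the annihilator of the fibre module κ(p) ⊗_A Q
in the fibre algebra κ(p) ⊗_A S (the length of the smallest subscheme of the fibre carrying it).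
Then p ↦ φ(p) is a constructible function: for every n the primes with φ(p) = n form a constructible
subset of Spec A. (The published statement is for a coherent sheaf, flat and finite over a
Noetherian base, on a family of reduced curve singularities with a section, and its function of the
base point is this colength; the curve hypotheses play no role and the row is the affine form over
any Noetherian ring.) -/
theorem result (A : Type u) [CommRing A] [IsNoetherianRing A]
    (S : Type u) [CommRing S] [Algebra A S]
    (Q : Type u) [AddCommGroup Q] [Module A Q] [Module S Q] [IsScalarTower A S Q]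
    [Module.Finite A Q] [Module.Flat A Q] (n : ℕ) :
    Topology.IsConstructible {p : PrimeSpectrum A |
      Module.finrank p.asIdeal.ResidueField
        (Submodule.span p.asIdeal.ResidueField
          (Set.range fun s : S =>
            LinearMap.baseChange p.asIdeal.ResidueField (DistribSMul.toLinearMap A Q s))) = n} := by
  classical
  haveI : Module.FinitePresentation A Q := Module.finitePresentation_of_finite A Q
  haveI : Module.Projective A Q := Module.Flat.projective_of_finitePresentation
  obtain ⟨r, π, hπ⟩ := Module.Finite.exists_fin' A Q
  obtain ⟨i, hi⟩ := Module.projective_lifting_property π LinearMap.id hπ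
  let T : S → (Fin r × Fin r → A) := fun s ab => i (s • π (Pi.single ab.2 1)) ab.1
  -- fibre dimension through minors
  have key : ∀ (P : PrimeSpectrum A) (m : ℕ),
      m ≤ Module.finrank P.asIdeal.ResidueField (Submodule.span P.asIdeal.ResidueField
          (Set.range fun s : S => LinearMap.baseChange P.asIdeal.ResidueField (DistribSMul.toLinearMap A Q s))) ↔
      ∃ (s : Fin m → S) (j : Fin m → Fin r × Fin r),
        (Matrix.of fun a b => T (s a) (j b)).det ∉ P.asIdeal := by
    intro P m
    let κ := P.asIdeal.ResidueField
    let co : (κ ⊗[A] Q →ₗ[κ] κ ⊗[A] Q) →ₗ[κ] (Fin r × Fin r → κ) :=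
      { toFun := fun X ab => TensorProduct.piScalarRight A κ κ (Fin r)
          (i.baseChange κ (X (π.baseChange κ ((1 : κ) ⊗ₜ[A] Pi.single ab.2 1)))) ab.1
        map_add' := fun X Y => by ext; simp
        map_smul' := fun c X => by ext; simp }
    have hco : ∀ s, co (LinearMap.baseChange κ (DistribSMul.toLinearMap A Q s)) =
        fun ab => algebraMap A κ (T s ab) := by
      intro s
      ext ab
      simp [co, T, Algebra.smul_def]
    have hinj : ∀ X, co X = 0 → X = 0 := by
      intro X hX
      have h1 : ∀ b : Fin r, X (π.baseChange κ ((1 : κ) ⊗ₜ[A] Pi.single b 1)) = 0 := by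
        intro b
        have hz : TensorProduct.piScalarRight A κ κ (Fin r)
            (i.baseChange κ (X (π.baseChange κ ((1 : κ) ⊗ₜ[A] Pi.single b 1)))) = 0 :=
          funext fun a => congrFun hX (a, b)
        rw [LinearEquiv.map_eq_zero_iff] at hz
        have := congrArg (π.baseChange κ) hz
        rwa [map_zero, ← LinearMap.comp_apply, ← LinearMap.baseChange_comp, hi, LinearMap.baseChange_id,
          LinearMap.id_apply] at this
      refine LinearMap.ext fun z => ?_
      rw [LinearMap.zero_apply]
      induction z using TensorProduct.induction_on with
      | zero => exact map_zero X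
      | tmul c q =>
        obtain ⟨v, rfl⟩ := hπ q
        rw [show c ⊗ₜ[A] π v = c • ((1 : κ) ⊗ₜ[A] π v) by rw [TensorProduct.smul_tmul', smul_eq_mul, mul_one],
          map_smul, show π v = ∑ b, v b • π (Pi.single b 1) by
            conv_lhs => rw [pi_eq_sum_univ' v]
            simp, TensorProduct.tmul_sum, map_sum, Finset.sum_eq_zero, smul_zero]
        intro b _
        rw [TensorProduct.tmul_smul, LinearMap.map_smul_of_tower,
          show (1 : κ) ⊗ₜ[A] π (Pi.single b 1) = π.baseChange κ ((1 : κ) ⊗ₜ[A] Pi.single b 1) from
            (LinearMap.baseChange_tmul _ _ _).symm, h1, smul_zero]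
      | add y z hy hz => rw [map_add, hy, hz, add_zero]
    let e := fun s : S => LinearMap.baseChange κ (DistribSMul.toLinearMap A Q s)
    have hdet : ∀ (s : Fin m → S) (j : Fin m → Fin r × Fin r),
        (Matrix.of fun a b => T (s a) (j b)).det ∉ P.asIdeal ↔
          LinearIndependent κ fun a => (fun b => algebraMap A κ (T (s a) (j b))) := by
      intro s j
      rw [← Ideal.algebraMap_residueField_eq_zero.not, RingHom.map_det]
      have h := Matrix.linearIndependent_rows_iff_isUnit
        (A := (algebraMap A κ).mapMatrix (Matrix.of fun a b => T (s a) (j b)))
      rw [Matrix.isUnit_iff_isUnit_det, isUnit_iff_ne_zero] at h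
      exact h.symm
    constructor
    · intro hm
      obtain ⟨b, hbs, hbspan, hbli⟩ := exists_linearIndependent κ (Set.range e)
      have hbfin : b.Finite := hbli.setFinite
      haveI := hbfin.fintype
      have hcard : m ≤ Fintype.card b := by
        refine hm.trans (le_of_eq ?_)
        show Module.finrank κ (Submodule.span κ (Set.range e)) = _
        rw [← hbspan, finrank_span_set_eq_card hbli, Set.toFinset_card]
      let emb : Fin m ↪ b := (Fin.castLEEmb hcard).trans (Fintype.equivFin b).symm.toEmbedding
      choose s hs using fun a : Fin m => hbs (emb a).2
      have hli : LinearIndependent κ fun a : Fin m => (fun ab => algebraMap A κ (T (s a) ab)) := by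
        have hfun : (fun a : Fin m => co (e (s a))) = co ∘ (fun a : Fin m => (emb a).1) :=
          funext fun a => congrArg co (hs a)
        have := (hbli.comp emb emb.injective).map' co (LinearMap.ker_eq_bot'.mpr hinj)
        rw [show (co ∘ ((fun x : b => x.1) ∘ emb)) = fun a : Fin m => (fun ab => algebraMap A κ (T (s a) ab)) from
          hfun.symm.trans (funext fun a => hco (s a))] at this
        exact this
      let Φ : Fin r × Fin r → (Fin m → κ) := fun ab a => algebraMap A κ (T (s a) ab)
      have hspanΦ : Submodule.span κ (Set.range Φ) = ⊤ := by
        by_contra hne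
        obtain ⟨g, hg, hle⟩ := Submodule.exists_le_ker_of_lt_top _ (lt_top_iff_ne_top.mpr hne)
        apply hg
        have hzero : ∀ a, g (Pi.single a 1) = 0 := Fintype.linearIndependent_iff.mp hli (fun a => g (Pi.single a 1)) (by
          ext ab
          have h2 : g (Φ ab) = 0 := hle (Submodule.subset_span ⟨ab, rfl⟩)
          have h3 : g (Φ ab) = ∑ a, g (Φ ab a • Pi.single a 1) := by
            conv_lhs => rw [pi_eq_sum_univ' (Φ ab)]
            rw [map_sum]
          rw [h3] at h2
          simp only [Finset.sum_apply, Pi.smul_apply, Pi.zero_apply, smul_eq_mul]
          refine Eq.trans ?_ h2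
          refine Finset.sum_congr rfl fun a _ => ?_
          rw [map_smul, smul_eq_mul, mul_comm])
        refine LinearMap.pi_ext' fun a => LinearMap.ext_ring ?_
        simpa using hzero a
      obtain ⟨c, hcs, hcspan, hcli⟩ := exists_linearIndependent κ (Set.range Φ)
      have hcfin : c.Finite := hcli.setFinite
      haveI := hcfin.fintype
      have hc : Fintype.card c = m := by
        have := finrank_span_set_eq_card hcli
        rw [hcspan, hspanΦ, finrank_top, Module.finrank_fin_fun, Set.toFinset_card] at this
        exact this.symm
      let ec : Fin m ≃ c := ((finCongr hc.symm).trans (Fintype.equivFin c).symm)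
      choose j hj using fun a : Fin m => hcs (ec a).2
      refine ⟨s, j, (hdet s j).mpr ?_⟩
      have hcol : LinearIndependent κ fun b : Fin m => fun a => algebraMap A κ (T (s a) (j b)) := by
        have := hcli.comp ec ec.injective
        rwa [show ((fun x : c => x.1) ∘ ec) = fun b : Fin m => fun a => algebraMap A κ (T (s a) (j b)) from
          funext fun b => (hj b).symm] at this
      exact (Matrix.linearIndependent_rows_iff_isUnit (A := Matrix.of fun a b => algebraMap A κ (T (s a) (j b)))).mpr
        ((Matrix.linearIndependent_cols_iff_isUnit (A := Matrix.of fun a b => algebraMap A κ (T (s a) (j b)))).mp hcol)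
    · rintro ⟨s, j, h⟩
      have hli := (hdet s j).mp h
      have hli2 : LinearIndependent κ fun a => e (s a) := by
        refine LinearIndependent.of_comp ((LinearMap.funLeft κ κ j).comp co) ?_
        convert hli using 1
        funext a b
        exact congrFun (hco (s a)) (j b)
      calc m = Fintype.card (Fin m) := (Fintype.card_fin m).symm
        _ = Module.finrank κ (Submodule.span κ (Set.range fun a => e (s a))) := (finrank_span_eq_card hli2).symm
        _ ≤ _ := by
          refine Submodule.finrank_mono (Submodule.span_mono ?_)
          rintro _ ⟨a, rfl⟩
          exact ⟨s a, rfl⟩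
  let U : ℕ → Set (PrimeSpectrum A) := fun m => {P |
    m ≤ Module.finrank P.asIdeal.ResidueField (Submodule.span P.asIdeal.ResidueField
      (Set.range fun s : S => LinearMap.baseChange P.asIdeal.ResidueField (DistribSMul.toLinearMap A Q s)))}
  have hU : ∀ m, Topology.IsConstructible (U m) := by
    intro m
    have hopen : IsOpen (U m) := by
      have : U m = ⋃ (s : Fin m → S), ⋃ (j : Fin m → Fin r × Fin r),
          (PrimeSpectrum.basicOpen (Matrix.of fun a b => T (s a) (j b)).det : Set (PrimeSpectrum A)) := by
        ext P
        simp only [Set.mem_iUnion, SetLike.mem_coe, PrimeSpectrum.mem_basicOpen]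
        exact key P m
      rw [this]
      exact isOpen_iUnion fun s => isOpen_iUnion fun j => (PrimeSpectrum.basicOpen _).2
    exact ((TopologicalSpace.NoetherianSpace.isCompact (U m)).isRetrocompact hopen).isConstructible hopen
  convert (hU n).sdiff (hU (n + 1)) using 1
  ext P
  simp only [U, Set.mem_sdiff, Set.mem_setOf_eq]
  omega

end Groth.Agent.S15153
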