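import Groth.Statements.S15155
import Groth.Agent.H3CAlg.AltDet
import Mathlib.LinearAlgebra.Matrix.Charpoly.Coeff
import Mathlib.FieldTheory.IsAlgClosed.Basic
import Mathlib.Analysis.Complex.Polynomial.Basic

set_option autoImplicit false
open CAlg

namespace Groth.Agent.S15155

/-- Let J be the 2m × 2m block matrix with blocks 0, I_m in the first row and −I_m, 0 in the second,
over the complex numbers. On the set of complex 2m × 2m matrices A with ᵗA · J = J · A (equivalently
ᵗA = J A J⁻¹, J being invertible), the characteristic polynomial is the square of a single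
polynomial in the entries of A with coefficients in ℂ[X], and the determinant is the square of a
single polynomial in the entries of A. -/
theorem result (m : ℕ) :
    (∃ P : MvPolynomial ((Fin m ⊕ Fin m) × (Fin m ⊕ Fin m)) (Polynomial ℂ),
      ∀ A : Matrix (Fin m ⊕ Fin m) (Fin m ⊕ Fin m) ℂ,
        A.transpose * Matrix.fromBlocks 0 1 (-1) 0 = Matrix.fromBlocks 0 1 (-1) 0 * A →
        A.charpoly = (MvPolynomial.eval (fun ij => Polynomial.C (A ij.1 ij.2)) P) ^ 2) ∧
    (∃ Q : MvPolynomial ((Fin m ⊕ Fin m) × (Fin m ⊕ Fin m)) ℂ,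
      ∀ A : Matrix (Fin m ⊕ Fin m) (Fin m ⊕ Fin m) ℂ,
        A.transpose * Matrix.fromBlocks 0 1 (-1) 0 = Matrix.fromBlocks 0 1 (-1) 0 * A →
        A.det = (MvPolynomial.eval (fun ij => A ij.1 ij.2) Q) ^ 2) := by
  classical
  let ι := Fin m ⊕ Fin m
  let R := MvPolynomial (ι × ι) (Polynomial ℂ)
  let J : Matrix ι ι ℂ := Matrix.fromBlocks 0 1 (-1) 0
  let cst : ℂ →+* R := (MvPolynomial.C).comp Polynomial.C
  let G : Matrix ι ι R := J.map cst *
    (Matrix.scalar ι (MvPolynomial.C Polynomial.X) - Matrix.of fun i j => MvPolynomial.X (i, j))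
  let o := Fintype.equivFin ι
  let S : Matrix ι ι R := Matrix.of fun i j =>
    if o i < o j then G i j else if o j < o i then -G j i else 0
  have hSd : ∀ i, S i i = 0 := fun i => by simp [S]
  have hSs : ∀ i j, S j i = -S i j := fun i j => by
    rcases lt_trichotomy (o i) (o j) with h | h | h
    · simp [S, h, h.not_gt]
    · obtain rfl := o.injective h
      simp [S]
    · simp [S, h, h.not_gt]
      exact (neg_neg _).symm
  obtain ⟨Q, hQ⟩ := Groth.Agent.H3CAlg.isSquare_det_of_alternating S hSd hSs
  have hJ2 : J * J = -1 := by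
    simp only [J]
    rw [Matrix.fromBlocks_multiply, ← Matrix.fromBlocks_one, Matrix.fromBlocks_neg]
    simp
  have hJt : J.transpose = -J := by
    ext (i | i) (j | j) <;> simp [J, Matrix.one_apply, eq_comm]
  have hJdet : J.det ≠ 0 := fun h0 => by
    have := congrArg Matrix.det hJ2
    rw [Matrix.det_mul, h0, zero_mul, Matrix.det_neg, Matrix.det_one, mul_one] at this
    exact pow_ne_zero _ (neg_ne_zero.mpr one_ne_zero) this.symm
  obtain ⟨r, hr⟩ := IsAlgClosed.exists_pow_nat_eq (J.det)⁻¹ two_pos
  have key : ∀ A : Matrix ι ι ℂ, A.transpose * J = J * A →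
      A.charpoly = (MvPolynomial.eval (fun ij => Polynomial.C (A ij.1 ij.2)) (MvPolynomial.C (Polynomial.C r) * Q)) ^ 2 := by
    intro A hA
    let φ : R →+* Polynomial ℂ := MvPolynomial.eval (fun ij => Polynomial.C (A ij.1 ij.2))
    have hφc : ∀ c, φ (cst c) = Polynomial.C c := fun c => MvPolynomial.eval_C _
    have hφX : ∀ i j, φ (MvPolynomial.X (i, j)) = Polynomial.C (A i j) := fun i j => MvPolynomial.eval_X _
    have hφXX : φ (MvPolynomial.C Polynomial.X) = Polynomial.X := MvPolynomial.eval_C _
    have hG : G.map φ = J.map Polynomial.C * A.charmatrix := by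
      rw [Matrix.map_mul, Matrix.map_map]
      congr 1
      · exact Matrix.ext fun i j => hφc _
      · refine Matrix.ext fun i j => ?_
        by_cases hij : i = j
        · subst hij
          simp [hφX, hφXX, Matrix.charmatrix_apply_eq]
        · simp [hφX, Matrix.charmatrix_apply_ne A i j hij, Matrix.diagonal_apply_ne _ hij]
    have hGs : (G.map φ).transpose = -(G.map φ) := by
      have hAC : (A.map Polynomial.C).transpose * J.map Polynomial.C = J.map Polynomial.C * A.map Polynomial.C := by
        rw [← Matrix.transpose_map, ← Matrix.map_mul, ← Matrix.map_mul, hA]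
      have hJC : (J.map (Polynomial.C : ℂ →+* Polynomial ℂ)).transpose = -(J.map Polynomial.C) := by
        rw [← Matrix.transpose_map, hJt]
        ext i j
        simp
      rw [hG, Matrix.transpose_mul, hJC, Matrix.charmatrix, RingHom.mapMatrix_apply, Matrix.transpose_sub,
        Matrix.scalar_apply, Matrix.diagonal_transpose, mul_neg, sub_mul, hAC, mul_sub, ← Matrix.scalar_apply,
        (Matrix.scalar_commute (Polynomial.X : Polynomial ℂ) (fun r => mul_comm _ r) _).eq]
    have hSG : S.map φ = G.map φ := by
      have hsym : ∀ i j, φ (G j i) = -φ (G i j) := fun i j => congrFun (congrFun hGs i) j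
      refine Matrix.ext fun i j => ?_
      rcases lt_trichotomy (o i) (o j) with h | h | h
      · simp [S, h]
      · obtain rfl := o.injective h
        simp only [Matrix.map_apply, hSd, map_zero]
        have := hsym i i
        exact ((mul_eq_zero.mp (by linear_combination this : (2 : Polynomial ℂ) * φ (G i i) = 0)).resolve_left two_ne_zero).symm
      · simp only [Matrix.map_apply, S, Matrix.of_apply, if_neg h.not_gt, if_pos h, map_neg, hsym i j, neg_neg]
    have hdet : φ Q * φ Q = Polynomial.C J.det * A.charpoly := by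
      rw [← map_mul, ← hQ, RingHom.map_det, RingHom.mapMatrix_apply, hSG, hG, Matrix.det_mul, RingHom.map_det]
      rfl
    rw [map_mul, MvPolynomial.eval_C, mul_pow, sq (φ Q), hdet, ← map_pow, hr, ← mul_assoc, ← map_mul,
      inv_mul_cancel₀ hJdet, map_one, one_mul]
  refine ⟨⟨_, key⟩, ⟨(MvPolynomial.map (Polynomial.evalRingHom (0 : ℂ))) (MvPolynomial.C (Polynomial.C r) * Q), fun A hA => ?_⟩⟩
  have h := congrArg (Polynomial.eval (0 : ℂ)) (key A hA)
  rw [Matrix.eval_charpoly, map_zero, zero_sub, Matrix.det_neg, Polynomial.eval_pow] at h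
  have heven : (-1 : ℂ) ^ Fintype.card ι = 1 := Even.neg_one_pow ⟨m, by simp [ι]⟩
  rw [heven, one_mul] at h
  rw [h, MvPolynomial.eval_map, ← Polynomial.coe_evalRingHom, ← MvPolynomial.eval₂_id]
  erw [MvPolynomial.hom_eval₂]
  simp [Function.comp_def]
  rfl

end Groth.Agent.S15155
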