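import Groth.Statements.S15159
import Mathlib.Algebra.Order.Ring.Star
import Mathlib.Analysis.Normed.Ring.Lemmas
import Mathlib.Data.Complex.Basic
import Mathlib.Data.Int.Star
import Mathlib.LinearAlgebra.DirectSum.Finite
import Mathlib.LinearAlgebra.FiniteDimensional.Lemmas
import Mathlib.LinearAlgebra.FreeModule.PID
import Mathlib.LinearAlgebra.FreeModule.StrongRankCondition
import Mathlib.RingTheory.Flat.TorsionFree
import Mathlib.RingTheory.SimpleRing.Principal
import Mathlib.Tactic.NormNum
import Mathlib.Tactic.Ring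
import Mathlib.Tactic.Push
import Mathlib.Tactic.Positivity

set_option autoImplicit false
open CAlg

namespace Groth.Agent.S15159

/-- Let W be a finite-dimensional complex vector space with an involution s, H a finite-dimensional
complex vector space and q : H → H → W a nonzero bilinear map with q(x)(y) = s(q(y)(x)). Write V^⊥ =
{x | q(x)(y) = 0 for all y ∈ V} and call V totally isotropic when q vanishes on V × V. The pair (H,
q) is semistable (dim V + dim V^⊥ ≤ dim H for every nonzero totally isotropic subspace V),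
respectively stable (strict inequality), if and only if the line of q is semistable, respectively
stable, for the action of SL(H), the latter being expressed through one-parameter subgroups: for
every decomposition H = ⊕_i H_i into subspaces with integer weights m_i such that Σ_i m_i dim H_i =
0 and some nonzero H_i has nonzero weight, there are indices i, j with q(H_i, H_j) ≠ 0 and m_i + m_j
≤ 0, respectively m_i + m_j < 0. (The published statement speaks of semistability and stability of
the point of the projective space of such forms under SL(H); this row states the numerical condition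
on one-parameter subgroups to which that is equivalent and which the published argument verifies.) -/
theorem result
    (W : Type) [AddCommGroup W] [Module ℂ W] [FiniteDimensional ℂ W]
    (s : W →ₗ[ℂ] W) (hs : s ∘ₗ s = LinearMap.id)
    (H : Type) [AddCommGroup H] [Module ℂ H] [FiniteDimensional ℂ H]
    (q : H →ₗ[ℂ] H →ₗ[ℂ] W) (hq : ∀ x y : H, q x y = s (q y x)) (hq0 : q ≠ 0) :
    ((∀ V : Submodule ℂ H, V ≠ ⊥ → (∀ x ∈ V, ∀ y ∈ V, q x y = 0) →
        Module.finrank ℂ V + Module.finrank ℂ ↥(⨅ (y : H) (_ : y ∈ V), LinearMap.ker (q.flip y) : Submodule ℂ H) ≤ Module.finrank ℂ H) ↔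
      (∀ (ι : Type) [Fintype ι] [DecidableEq ι] (Hs : ι → Submodule ℂ H) (m : ι → ℤ),
        DirectSum.IsInternal Hs → (∑ i, m i * (Module.finrank ℂ (Hs i) : ℤ)) = 0 →
        (∃ i, m i ≠ 0 ∧ Hs i ≠ ⊥) →
        ∃ i j, (∃ x ∈ Hs i, ∃ y ∈ Hs j, q x y ≠ 0) ∧ m i + m j ≤ 0)) ∧
    ((∀ V : Submodule ℂ H, V ≠ ⊥ → (∀ x ∈ V, ∀ y ∈ V, q x y = 0) →
        Module.finrank ℂ V + Module.finrank ℂ ↥(⨅ (y : H) (_ : y ∈ V), LinearMap.ker (q.flip y) : Submodule ℂ H) < Module.finrank ℂ H) ↔
      (∀ (ι : Type) [Fintype ι] [DecidableEq ι] (Hs : ι → Submodule ℂ H) (m : ι → ℤ),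
        DirectSum.IsInternal Hs → (∑ i, m i * (Module.finrank ℂ (Hs i) : ℤ)) = 0 →
        (∃ i, m i ≠ 0 ∧ Hs i ≠ ⊥) →
        ∃ i j, (∃ x ∈ Hs i, ∃ y ∈ Hs j, q x y ≠ 0) ∧ m i + m j < 0)) := by
  classical
  have hswap : ∀ x y : H, q x y = 0 → q y x = 0 := by
    intro x y h
    rw [hq y x, h, map_zero]
  let orth : Submodule ℂ H → Submodule ℂ H := fun V =>
    ⨅ (y : H) (_ : y ∈ V), LinearMap.ker (q.flip y)
  have hn : 0 < Module.finrank ℂ H := by
    by_contra h
    have h0 : Module.finrank ℂ H = 0 := by omega
    haveI := (Module.finrank_zero_iff (R := ℂ) (M := H)).mp h0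
    apply hq0
    ext x y
    rw [Subsingleton.elim x 0]
    simp
  -- filtrations attached to weights
  have key : ∀ (ι : Type) [Fintype ι] [DecidableEq ι] (Hs : ι → Submodule ℂ H) (m : ι → ℤ),
      DirectSum.IsInternal Hs → (∑ i, m i * (Module.finrank ℂ (Hs i) : ℤ)) = 0 →
      ∃ (F : ℤ → Submodule ℂ H) (M : ℕ),
        (∀ t, (Module.finrank ℂ (F t) : ℤ) =
          ∑ i, if m i ≤ t then (Module.finrank ℂ (Hs i) : ℤ) else 0) ∧
        (∀ t u, (∀ i j, m i ≤ t → m j ≤ u → ∀ x ∈ Hs i, ∀ y ∈ Hs j, q x y = 0) →
          ∀ x ∈ F t, ∀ y ∈ F u, q x y = 0) ∧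
        (∀ i, -(M : ℤ) ≤ m i ∧ m i ≤ M) ∧ 0 < M ∧
        (∑ k ∈ Finset.range M, ((Module.finrank ℂ (F (-((k : ℤ) + 1))) : ℤ) +
            Module.finrank ℂ (F k)) = (Module.finrank ℂ H : ℤ) * M) ∧
        (Module.finrank ℂ (F M) = Module.finrank ℂ H) ∧
        (∀ t u, t ≤ u → F t ≤ F u) := by
    intro ι _ _ Hs m hint hsum
    let F : ℤ → Submodule ℂ H := fun t => (Finset.univ.filter (fun i => m i ≤ t)).sup Hs
    let M : ℕ := (∑ i, (m i).natAbs) + 1
    have hF : ∀ s : Finset ι, (Module.finrank ℂ (s.sup Hs : Submodule ℂ H) : ℤ) =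
        ∑ i ∈ s, (Module.finrank ℂ (Hs i) : ℤ) := by
      intro s
      induction s using Finset.induction_on with
      | empty => simp
      | @insert a s ha ih =>
        rw [Finset.sup_insert, Finset.sum_insert ha, ← ih]
        have hdis : Disjoint (Hs a) (s.sup Hs) :=
          (hint.submodule_iSupIndep.supIndep' (insert a s)) (Finset.subset_insert a s)
            (Finset.mem_insert_self a s) ha
        have := Submodule.finrank_sup_add_finrank_inf_eq (Hs a) (s.sup Hs)
        rw [disjoint_iff.mp hdis, finrank_bot, add_zero] at this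
        exact_mod_cast this
    have hFt : ∀ t, (Module.finrank ℂ (F t) : ℤ) =
        ∑ i, if m i ≤ t then (Module.finrank ℂ (Hs i) : ℤ) else 0 := by
      intro t
      rw [hF, Finset.sum_filter]
    have hM : ∀ i, -(M : ℤ) ≤ m i ∧ m i ≤ M := by
      intro i
      have h1 : (m i).natAbs ≤ ∑ j, (m j).natAbs :=
        Finset.single_le_sum (f := fun j => (m j).natAbs) (fun _ _ => Nat.zero_le _) (Finset.mem_univ i)
      have h2 := Int.le_natAbs (a := m i)
      have h3 := Int.le_natAbs (a := -(m i))
      rw [Int.natAbs_neg] at h3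
      constructor <;> omega
    have hdim : (∑ i, (Module.finrank ℂ (Hs i) : ℤ)) = (Module.finrank ℂ H : ℤ) := by
      rw [← (LinearEquiv.ofBijective (DirectSum.coeLinearMap Hs) hint).finrank_eq,
        Module.finrank_directSum]
      push_cast
      rfl
    refine ⟨F, M, hFt, ?_, hM, Nat.succ_pos _, ?_, ?_, ?_⟩
    · intro t u h x hx y hy
      have h1 : ∀ i, m i ≤ t → ∀ a ∈ Hs i, q a y = 0 := by
        intro i hi a ha
        have : F u ≤ LinearMap.ker (q a) :=
          Finset.sup_le fun j hj b hb => h i j hi (Finset.mem_filter.mp hj).2 a ha b hb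
        exact this hy
      have : F t ≤ LinearMap.ker (q.flip y) :=
        Finset.sup_le fun i hi a ha => h1 i (Finset.mem_filter.mp hi).2 a ha
      exact this hx
    · have hident : ∀ (K : ℕ) (a d : ℤ), ∑ k ∈ Finset.range K,
          ((if a ≤ -((k : ℤ) + 1) then d else 0) + if a ≤ (k : ℤ) then d else 0) =
            ((K : ℤ) - max (-(K : ℤ)) (min (K : ℤ) a)) * d := by
        intro K a d
        induction K with
        | zero => simp
        | succ K ih =>
          rw [Finset.sum_range_succ, ih]
          push_cast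
          split_ifs with h1 h2 h2
          · rw [max_eq_left (by omega), max_eq_left (by omega)]; ring
          · omega
          · rw [min_eq_right (by omega), min_eq_right (by omega), max_eq_right (by omega),
              max_eq_right (by omega)]; ring
          · rw [min_eq_left (by omega), min_eq_left (by omega), max_eq_right (by omega),
              max_eq_right (by omega)]; ring
      simp only [hFt, ← Finset.sum_add_distrib]
      rw [Finset.sum_comm]
      rw [Finset.sum_congr rfl fun i _ => hident M (m i) (Module.finrank ℂ (Hs i) : ℤ)]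
      have : ∀ i, max (-(M : ℤ)) (min (M : ℤ) (m i)) = m i := fun i => by
        rw [min_eq_right (hM i).2, max_eq_right (hM i).1]
      simp only [this, sub_mul]
      rw [Finset.sum_sub_distrib, hsum, sub_zero, ← Finset.mul_sum, hdim, mul_comm]
    · have h := hFt M
      simp only [(hM _).2, if_true] at h
      rw [hdim] at h
      exact_mod_cast h
    · intro t u htu
      exact Finset.sup_mono fun i hi => by
        simp only [Finset.mem_filter, Finset.mem_univ, true_and] at hi ⊢
        omega
  -- weights attached to an isotropic subspace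
  have build : ∀ V : Submodule ℂ H, V ≠ ⊥ → (∀ x ∈ V, ∀ y ∈ V, q x y = 0) →
      Module.finrank ℂ H ≤ Module.finrank ℂ V + Module.finrank ℂ (orth V) →
      ∃ (Hs : Fin 3 → Submodule ℂ H) (m : Fin 3 → ℤ), DirectSum.IsInternal Hs ∧
        (∑ i, m i * (Module.finrank ℂ (Hs i) : ℤ)) = 0 ∧ (∃ i, m i ≠ 0 ∧ Hs i ≠ ⊥) ∧
        ∀ i j, (∃ x ∈ Hs i, ∃ y ∈ Hs j, q x y ≠ 0) →
          (0 ≤ m i + m j ∧
            (Module.finrank ℂ H < Module.finrank ℂ V + Module.finrank ℂ (orth V) → 0 < m i + m j)) := by
    intro V hV hiso hle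
    have hVO : V ≤ orth V := by
      intro x hx
      simp only [orth, Submodule.mem_iInf, LinearMap.mem_ker, LinearMap.flip_apply]
      exact fun y hy => hiso x hx y hy
    obtain ⟨C', hC'⟩ := Submodule.exists_isCompl V
    obtain ⟨C, hC⟩ := Submodule.exists_isCompl (orth V)
    obtain ⟨Mm, hMm⟩ : ∃ Mm : Submodule ℂ H, Mm = C' ⊓ orth V := ⟨_, rfl⟩
    have hsupM : V ⊔ Mm = orth V := by
      rw [hMm, ← sup_inf_assoc_of_le _ hVO, hC'.sup_eq_top, top_inf_eq]
    have hinfM : V ⊓ Mm = ⊥ := by
      rw [hMm, ← le_bot_iff, ← hC'.inf_eq_bot]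
      exact inf_le_inf_left _ inf_le_left
    have hb : Module.finrank ℂ V + Module.finrank ℂ Mm = Module.finrank ℂ (orth V) := by
      have := Submodule.finrank_sup_add_finrank_inf_eq V Mm
      rw [hsupM, hinfM, finrank_bot, add_zero] at this
      exact this.symm
    have hc : Module.finrank ℂ (orth V) + Module.finrank ℂ C = Module.finrank ℂ H :=
      Submodule.finrank_add_eq_of_isCompl hC
    have ha : 0 < Module.finrank ℂ V := by
      rw [Nat.pos_iff_ne_zero]
      exact fun h => hV (Submodule.finrank_eq_zero.mp h)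
    let a : ℤ := Module.finrank ℂ V
    let b : ℤ := Module.finrank ℂ Mm
    let c : ℤ := Module.finrank ℂ C
    refine ⟨![V, Mm, C], ![-(b + c), a - c, a + b], ?_, ?_, ⟨0, ?_, hV⟩, ?_⟩
    · have hsurj : Function.Surjective (DirectSum.coeLinearMap ![V, Mm, C]) := by
        rw [← LinearMap.range_eq_top, DirectSum.range_coeLinearMap, eq_top_iff, ← hC.sup_eq_top,
          ← hsupM]
        refine sup_le (sup_le ?_ ?_) ?_
        · exact le_iSup ![V, Mm, C] 0
        · exact le_iSup ![V, Mm, C] 1
        · exact le_iSup ![V, Mm, C] 2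
      refine ⟨?_, hsurj⟩
      refine (LinearMap.injective_iff_surjective_of_finrank_eq_finrank ?_).mpr hsurj
      rw [Module.finrank_directSum, Fin.sum_univ_three]
      change Module.finrank ℂ V + Module.finrank ℂ Mm + Module.finrank ℂ C = Module.finrank ℂ H
      omega
    · rw [Fin.sum_univ_three]
      change -(b + c) * a + (a - c) * b + (a + b) * c = 0
      ring
    · intro h
      simp [a, b, c] at h
      have hb0 : Module.finrank ℂ Mm = 0 := by omega
      have hVtop : V = ⊤ := by
        apply Submodule.eq_top_of_finrank_eq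
        omega
      apply hq0
      ext x y
      exact hiso x (hVtop ▸ Submodule.mem_top) y (hVtop ▸ Submodule.mem_top)
    · rintro i j ⟨x, hx, y, hy, hxy⟩
      have h1 : ∀ x ∈ orth V, ∀ y ∈ V, q x y = 0 := by
        intro x hx y hy
        simp only [orth, Submodule.mem_iInf, LinearMap.mem_ker, LinearMap.flip_apply] at hx
        exact hx y hy
      have hMO : Mm ≤ orth V := hMm ▸ inf_le_right
      fin_cases i <;> fin_cases j <;> simp at hx hy ⊢ <;>
        first
        | exact absurd (h1 x (hVO hx) y hy) hxy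
        | exact absurd (h1 x (hMO hx) y hy) hxy
        | exact absurd (hswap y x (h1 y (hMO hy) x hx)) hxy
        | (simp only [a, b, c]; omega)
  refine ⟨⟨?_, ?_⟩, ⟨?_, ?_⟩⟩
  · intro hss ι _ _ Hs m hint hsum hne
    by_contra hcon
    have horth : ∀ i j, m i + m j ≤ 0 → ∀ x ∈ Hs i, ∀ y ∈ Hs j, q x y = 0 := by
      intro i j hij x hx y hy
      by_contra h
      exact hcon ⟨i, j, ⟨x, hx, y, hy, h⟩, hij⟩
    obtain ⟨F, M, hFt, hForth, hM, hM0, hsumF, hFM, hmono⟩ := key ι Hs m hint hsum
    have hb : ∀ t : ℤ, t ≤ 0 → Module.finrank ℂ (F t) + Module.finrank ℂ (F (-t)) ≤ Module.finrank ℂ H := by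
      intro t ht
      by_cases h0 : F t = ⊥
      · rw [h0, finrank_bot, zero_add]
        exact Submodule.finrank_le _
      · have hiso := hForth t t (fun i j hi hj => horth i j (by omega))
        have hle : F (-t) ≤ orth (F t) := by
          intro x hx
          simp only [orth, Submodule.mem_iInf, LinearMap.mem_ker, LinearMap.flip_apply]
          exact fun y hy => hForth (-t) t (fun i j hi hj => horth i j (by omega)) x hx y hy
        have h1 := Submodule.finrank_mono hle
        have h2 : Module.finrank ℂ (F t) + Module.finrank ℂ (orth (F t)) ≤ Module.finrank ℂ H :=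
          hss (F t) h0 hiso
        omega
    have h1 : ∑ k ∈ Finset.range M, ((Module.finrank ℂ (F (-((k : ℤ) + 1))) : ℤ) +
            Module.finrank ℂ (F k)) ≤
        ∑ k ∈ Finset.range M, ((Module.finrank ℂ H : ℤ) -
          ((fun k : ℕ => (Module.finrank ℂ (F k) : ℤ)) (k + 1) - (fun k : ℕ => (Module.finrank ℂ (F k) : ℤ)) k)) := by
      apply Finset.sum_le_sum
      intro k _
      have := hb (-((k : ℤ) + 1)) (by omega)
      rw [neg_neg] at this
      push_cast
      omega
    rw [hsumF, Finset.sum_sub_distrib,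
      Finset.sum_range_sub (fun k : ℕ => (Module.finrank ℂ (F k) : ℤ)) M, Finset.sum_const,
      Finset.card_range, nsmul_eq_mul] at h1
    have h2 := hb 0 le_rfl
    rw [neg_zero] at h2
    have h3 : (Module.finrank ℂ (F ((0 : ℕ) : ℤ)) : ℤ) = Module.finrank ℂ (F 0) := by rw [Nat.cast_zero]
    rw [mul_comm (M : ℤ), hFM, h3] at h1
    omega
  · intro hw V hV hiso
    by_contra hcon
    change ¬ (Module.finrank ℂ V + Module.finrank ℂ (orth V) ≤ Module.finrank ℂ H) at hcon
    obtain ⟨Hs, m, hint, hsum, hne, hall⟩ := build V hV hiso (by omega)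
    obtain ⟨i, j, hij, hle⟩ := hw (Fin 3) Hs m hint hsum hne
    have := (hall i j hij).2 (by omega)
    omega
  · intro hss ι _ _ Hs m hint hsum hne
    by_contra hcon
    have horth : ∀ i j, m i + m j < 0 → ∀ x ∈ Hs i, ∀ y ∈ Hs j, q x y = 0 := by
      intro i j hij x hx y hy
      by_contra h
      exact hcon ⟨i, j, ⟨x, hx, y, hy, h⟩, hij⟩
    obtain ⟨F, M, hFt, hForth, hM, hM0, hsumF, hFM, hmono⟩ := key ι Hs m hint hsum
    have hb : ∀ t : ℤ, t < 0 →
        Module.finrank ℂ (F t) + Module.finrank ℂ (F (-t - 1)) ≤ Module.finrank ℂ H ∧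
        (F t ≠ ⊥ → Module.finrank ℂ (F t) + Module.finrank ℂ (F (-t - 1)) < Module.finrank ℂ H) := by
      intro t ht
      have hlt : F t ≠ ⊥ → Module.finrank ℂ (F t) + Module.finrank ℂ (F (-t - 1)) < Module.finrank ℂ H := by
        intro h0
        have hiso := hForth t t (fun i j hi hj => horth i j (by omega))
        have hle : F (-t - 1) ≤ orth (F t) := by
          intro x hx
          simp only [orth, Submodule.mem_iInf, LinearMap.mem_ker, LinearMap.flip_apply]
          exact fun y hy => hForth (-t - 1) t (fun i j hi hj => horth i j (by omega)) x hx y hy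
        have h1 := Submodule.finrank_mono hle
        have h2 : Module.finrank ℂ (F t) + Module.finrank ℂ (orth (F t)) < Module.finrank ℂ H :=
          hss (F t) h0 hiso
        omega
      refine ⟨?_, hlt⟩
      by_cases h0 : F t = ⊥
      · rw [h0, finrank_bot, zero_add]
        exact Submodule.finrank_le _
      · exact (hlt h0).le
    have h0 : F (-1) = ⊥ := by
      by_contra h0
      have h1 : ∑ k ∈ Finset.range M, ((Module.finrank ℂ (F (-((k : ℤ) + 1))) : ℤ) +
            Module.finrank ℂ (F k)) < ∑ k ∈ Finset.range M, (Module.finrank ℂ H : ℤ) := by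
        apply Finset.sum_lt_sum
        · intro k _
          have := (hb (-((k : ℤ) + 1)) (by omega)).1
          rw [show -(-((k : ℤ) + 1)) - 1 = (k : ℤ) by ring] at this
          omega
        · refine ⟨0, Finset.mem_range.mpr hM0, ?_⟩
          have := (hb (-1) (by omega)).2 h0
          norm_num at this ⊢
          exact_mod_cast this
      rw [hsumF, Finset.sum_const, Finset.card_range, nsmul_eq_mul, mul_comm] at h1
      omega
    have hpos : ∀ i, 0 ≤ m i * (Module.finrank ℂ (Hs i) : ℤ) := by
      intro i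
      by_cases hi : 0 ≤ m i
      · positivity
      · have h1 := hFt (-1)
        rw [h0, finrank_bot] at h1
        have h2 := (Finset.sum_eq_zero_iff_of_nonneg (fun j _ => by split_ifs <;> positivity)).mp
          h1.symm i (Finset.mem_univ i)
        rw [if_pos (by omega : m i ≤ -1)] at h2
        rw [h2, mul_zero]
    obtain ⟨i, hi, hHi⟩ := hne
    have h2 := (Finset.sum_eq_zero_iff_of_nonneg (fun j _ => hpos j)).mp hsum i (Finset.mem_univ i)
    rcases mul_eq_zero.mp h2 with h | h
    · exact hi h
    · exact hHi (Submodule.finrank_eq_zero.mp (by exact_mod_cast h))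
  · intro hw V hV hiso
    by_contra hcon
    change ¬ (Module.finrank ℂ V + Module.finrank ℂ (orth V) < Module.finrank ℂ H) at hcon
    obtain ⟨Hs, m, hint, hsum, hne, hall⟩ := build V hV hiso (by omega)
    obtain ⟨i, j, hij, hlt⟩ := hw (Fin 3) Hs m hint hsum hne
    have := (hall i j hij).1
    omega

end Groth.Agent.S15159
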