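import Groth.Statements.S15162
import Groth.Agent.H26Misc.GL2Z

set_option autoImplicit false
open Matrix
open BddFin

namespace Groth.Agent.S15162

/-- Let Γ be a finite subgroup of GL_2(ℤ) acting on ℤ² by matrix multiplication. If every element of Γ
has a non-zero fixed vector in ℤ², then there is a non-zero vector of ℤ² fixed by all of Γ. -/
theorem result
    (Γ : Subgroup (Matrix.GeneralLinearGroup (Fin 2) ℤ)) [Finite Γ]
    (h : ∀ γ ∈ Γ, ∃ v : Fin 2 → ℤ, v ≠ 0 ∧ (γ : Matrix (Fin 2) (Fin 2) ℤ) *ᵥ v = v) :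
    ∃ v : Fin 2 → ℤ, v ≠ 0 ∧ ∀ γ ∈ Γ, (γ : Matrix (Fin 2) (Fin 2) ℤ) *ᵥ v = v := by
  exact Groth.Agent.H26Misc.exists_common_fixed Γ h

end Groth.Agent.S15162
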