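import Groth.Statements.S15163
import Groth.Agent.H26Misc.GL2Z

set_option autoImplicit false
open Matrix
open BddFin

namespace Groth.Agent.S15163

/-- Let Γ be a finite subgroup of GL_2(ℤ) and d > 6 an integer. Suppose some vector w of (ℤ/dℤ)², with
m·w ≠ 0 for all 0 < m < d, is fixed by the reduction modulo d of every element of Γ. Then some
non-zero vector of ℤ² is fixed by all of Γ. -/
theorem result
    (Γ : Subgroup (Matrix.GeneralLinearGroup (Fin 2) ℤ)) [Finite Γ] (d : ℕ) (hd : 6 < d)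
    (w : Fin 2 → ZMod d) (hw : ∀ m : ℕ, 0 < m → m < d → m • w ≠ 0)
    (hfix : ∀ γ ∈ Γ, ((γ : Matrix (Fin 2) (Fin 2) ℤ).map (Int.castRingHom (ZMod d))) *ᵥ w = w) :
    ∃ v : Fin 2 → ℤ, v ≠ 0 ∧ ∀ γ ∈ Γ, (γ : Matrix (Fin 2) (Fin 2) ℤ) *ᵥ v = v := by
  refine Groth.Agent.H26Misc.exists_common_fixed Γ fun γ hγ => ?_
  obtain ⟨m, hm, hγm⟩ := (isOfFinOrder_iff_pow_eq_one).mp (isOfFinOrder_of_finite (⟨γ, hγ⟩ : Γ))
  refine Groth.Agent.H26Misc.fixed_of_fixed_mod _ hm ?_ d hd w hw (hfix γ hγ)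
  have := congrArg (fun x : Γ => ((x : Matrix.GeneralLinearGroup (Fin 2) ℤ) : Matrix (Fin 2) (Fin 2) ℤ)) hγm
  simpa using this

end Groth.Agent.S15163
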