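import Groth.Statements.S15166
import Groth.Agent.H26Misc.Anisotropic
import Mathlib.LinearAlgebra.FiniteDimensional.Lemmas
import Mathlib.SetTheory.Cardinal.Finite
import Mathlib.Data.Finite.Prod

set_option autoImplicit false
universe u v
open Polynomial
open BddFin

namespace Groth.Agent.S15166

theorem card_le (K : Type u) [Field K] (h2 : (2 : K) ≠ 0) : ∀ (d : ℕ) (V : Type v) [AddCommGroup V] [Module K V]
    [FiniteDimensional K V], Module.finrank K V ≤ d →
    ∀ (S : Set (Module.End K V)), (∀ g ∈ S, g ^ 2 = 1) → (∀ g ∈ S, ∀ h ∈ S, Commute g h) →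
    S.Finite ∧ S.ncard ≤ 2 ^ Module.finrank K V := by
  intro d
  induction d with
  | zero =>
    intro V _ _ _ hd S _ _
    have hsub : Subsingleton V := Module.finrank_zero_iff.mp (Nat.le_zero.mp hd)
    have hS : S ⊆ {1} := fun g _ => LinearMap.ext fun x => Subsingleton.elim _ _
    exact ⟨(Set.finite_singleton _).subset hS, (Set.ncard_le_ncard hS).trans (by simp [Nat.one_le_pow])⟩
  | succ d ih =>
    intro V _ _ _ hd S hsq hcomm
    rcases subsingleton_or_nontrivial V with hsub | hnt
    · have hS : S ⊆ {1} := fun g _ => LinearMap.ext fun x => Subsingleton.elim _ _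
      exact ⟨(Set.finite_singleton _).subset hS, (Set.ncard_le_ncard hS).trans (by simp [Nat.one_le_pow])⟩
    by_cases hall : ∀ g ∈ S, g = 1 ∨ g = -1
    · have hS : S ⊆ {1, -1} := fun g hg => hall g hg
      refine ⟨Set.toFinite _ |>.subset hS, ((Set.ncard_le_ncard hS).trans ((Set.ncard_insert_le _ _).trans ?_))⟩
      rw [Set.ncard_singleton]
      exact Nat.le_self_pow (Nat.pos_iff_ne_zero.mp (Module.finrank_pos)) 2
    push Not at hall
    obtain ⟨g, hg, hg1, hg2⟩ := hall
    set P := LinearMap.ker (g - 1) with hP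
    set M := LinearMap.ker (g + 1) with hM
    have hcompl : IsCompl P M := by
      constructor
      · rw [Submodule.disjoint_def]
        intro x hx hy
        simp only [hP, hM, LinearMap.mem_ker, LinearMap.sub_apply, LinearMap.add_apply, Module.End.one_apply] at hx hy
        have : (2 : K) • x = 0 := by linear_combination (norm := module) hy - hx
        exact (smul_eq_zero.mp this).resolve_left h2
      · rw [codisjoint_iff, eq_top_iff]
        intro x _
        have hgg : g (g x) = x := by rw [← Module.End.mul_apply, ← pow_two, hsq g hg]; rfl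
        refine Submodule.mem_sup.mpr ⟨(2⁻¹ : K) • (x + g x), ?_, (2⁻¹ : K) • (x - g x), ?_, ?_⟩
        · simp [hP, hgg, add_comm]
        · simp [hM, hgg]
        · rw [← smul_add, show x + g x + (x - g x) = (2 : K) • x by module, smul_smul, inv_mul_cancel₀ h2, one_smul]
    have hsum := Submodule.finrank_add_eq_of_isCompl hcompl
    have hPne : P ≠ ⊥ := fun h => hg2 (by
      have : M = ⊤ := by simpa [h] using hcompl.sup_eq_top
      exact eq_neg_of_add_eq_zero_left (LinearMap.ker_eq_top.mp this))
    have hMne : M ≠ ⊥ := fun h => hg1 (by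
      have : P = ⊤ := by simpa [h] using hcompl.sup_eq_top
      exact sub_eq_zero.mp (LinearMap.ker_eq_top.mp this))
    have hP0 : 1 ≤ Module.finrank K P := Submodule.one_le_finrank_iff.mpr hPne
    have hM0 : 1 ≤ Module.finrank K M := Submodule.one_le_finrank_iff.mpr hMne
    have hmapP : ∀ h ∈ S, ∀ x ∈ P, h x ∈ P := by
      intro h hh x hx
      simp only [hP, LinearMap.mem_ker, LinearMap.sub_apply, Module.End.one_apply, sub_eq_zero] at hx ⊢
      rw [← Module.End.mul_apply, hcomm g hg h hh, Module.End.mul_apply, hx]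
    have hmapM : ∀ h ∈ S, ∀ x ∈ M, h x ∈ M := by
      intro h hh x hx
      simp only [hM, LinearMap.mem_ker, LinearMap.add_apply, Module.End.one_apply, add_eq_zero_iff_eq_neg] at hx ⊢
      rw [← Module.End.mul_apply, hcomm g hg h hh, Module.End.mul_apply, hx, map_neg]
    classical
    let resP : Module.End K V → Module.End K P := fun h => if hh : ∀ x ∈ P, h x ∈ P then h.restrict hh else 0
    let resM : Module.End K V → Module.End K M := fun h => if hh : ∀ x ∈ M, h x ∈ M then h.restrict hh else 0
    have eP : ∀ h ∈ S, ∀ x : P, ((resP h x : P) : V) = h x := fun h hh x => by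
      simp only [resP, dif_pos (hmapP h hh)]; rfl
    have eM : ∀ h ∈ S, ∀ x : M, ((resM h x : M) : V) = h x := fun h hh x => by
      simp only [resM, dif_pos (hmapM h hh)]; rfl
    obtain ⟨fP, cP⟩ := ih P (by omega) (resP '' S)
      (by rintro _ ⟨h, hh, rfl⟩; refine LinearMap.ext fun x => Subtype.ext ?_
          rw [pow_two, Module.End.mul_apply, eP h hh, eP h hh, ← Module.End.mul_apply, ← pow_two, hsq h hh]; rfl)
      (by rintro _ ⟨h, hh, rfl⟩ _ ⟨h', hh', rfl⟩; refine LinearMap.ext fun x => Subtype.ext ?_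
          rw [Module.End.mul_apply, Module.End.mul_apply, eP h hh, eP h' hh', eP h' hh', eP h hh,
            ← Module.End.mul_apply, hcomm h hh h' hh', Module.End.mul_apply])
    obtain ⟨fM, cM⟩ := ih M (by omega) (resM '' S)
      (by rintro _ ⟨h, hh, rfl⟩; refine LinearMap.ext fun x => Subtype.ext ?_
          rw [pow_two, Module.End.mul_apply, eM h hh, eM h hh, ← Module.End.mul_apply, ← pow_two, hsq h hh]; rfl)
      (by rintro _ ⟨h, hh, rfl⟩ _ ⟨h', hh', rfl⟩; refine LinearMap.ext fun x => Subtype.ext ?_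
          rw [Module.End.mul_apply, Module.End.mul_apply, eM h hh, eM h' hh', eM h' hh', eM h hh,
            ← Module.End.mul_apply, hcomm h hh h' hh', Module.End.mul_apply])
    have hinj : Set.InjOn (fun h => (resP h, resM h)) S := by
      intro h hh h' hh' he
      simp only [Prod.mk.injEq] at he
      refine LinearMap.ext fun x => ?_
      obtain ⟨a, ha, b, hb, rfl⟩ := Submodule.mem_sup.mp (hcompl.sup_eq_top ▸ Submodule.mem_top : x ∈ P ⊔ M)
      rw [map_add, map_add, ← eP h hh ⟨a, ha⟩, he.1, eP h' hh', ← eM h hh ⟨b, hb⟩, he.2, eM h' hh']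
    have hsub : (fun h => (resP h, resM h)) '' S ⊆ (resP '' S) ×ˢ (resM '' S) := by
      rintro _ ⟨h, hh, rfl⟩; exact ⟨⟨h, hh, rfl⟩, ⟨h, hh, rfl⟩⟩
    refine ⟨Set.Finite.of_finite_image ((fP.prod fM).subset hsub) hinj, ?_⟩
    rw [← hinj.ncard_image, ← hsum, pow_add]
    exact ((Set.ncard_le_ncard hsub (fP.prod fM)).trans (Set.ncard_prod).le).trans (Nat.mul_le_mul cP cM)

/-- Let K be a field of characteristic different from 2 such that K contains all roots of unity (for
every n ≥ 1 the polynomial X^n − 1 splits into linear factors over K), V a finite-dimensional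
K-vector space and q a quadratic form on V that does not represent zero. Then every finite subgroup
of the group of K-linear automorphisms of V preserving q is abelian and has order at most 2 ^ (dim
V). (The published statement also covers perfect fields of characteristic 2; this row is the case of
characteristic ≠ 2.) -/
theorem result
    (K : Type u) [Field K] (hK : ∀ n : ℕ, 0 < n → (X ^ n - 1 : K[X]).Splits) (h2 : (2 : K) ≠ 0)
    (V : Type v) [AddCommGroup V] [Module K V] [FiniteDimensional K V]
    (q : QuadraticForm K V) (hq : q.Anisotropic)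
    (G : Subgroup (V ≃ₗ[K] V)) [Finite G] (hG : ∀ g ∈ G, ∀ x : V, q (g x) = q x) :
    (∀ g ∈ G, ∀ h ∈ G, g * h = h * g) ∧ Nat.card G ≤ 2 ^ Module.finrank K V := by
  let φ : G → Module.End K V := fun g => ((g : V ≃ₗ[K] V) : V →ₗ[K] V)
  have hφ : Function.Injective φ := fun a b h => Subtype.ext (LinearEquiv.toLinearMap_injective h)
  have hmul : ∀ a b : G, φ (a * b) = φ a * φ b := fun a b => rfl
  have hφ1 : φ 1 = 1 := rfl
  have hsq : ∀ g : G, φ g ^ 2 = 1 := by
    intro g
    obtain ⟨d, hd, hgd⟩ := isOfFinOrder_iff_pow_eq_one.mp (isOfFinOrder_of_finite g)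
    refine Groth.Agent.H26Misc.isometry_sq_eq_one hK h2 q hq _ (hG g g.2) d hd ?_
    let Φ : G →* Module.End K V := ⟨⟨φ, hφ1⟩, hmul⟩
    show Φ g ^ d = 1
    rw [← map_pow, hgd, map_one]
  have hgsq : ∀ g : G, g * g = 1 := fun g => hφ (by rw [hmul, hφ1, ← pow_two, hsq])
  have hcomm : ∀ g h : G, g * h = h * g := by
    intro g h
    have inv : ∀ x : G, x⁻¹ = x := fun x => inv_eq_of_mul_eq_one_right (hgsq x)
    calc g * h = (g * h)⁻¹ := (inv _).symm
      _ = h * g := by rw [mul_inv_rev, inv, inv]
  refine ⟨fun g hg h hh => congrArg Subtype.val (hcomm ⟨g, hg⟩ ⟨h, hh⟩), ?_⟩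
  obtain ⟨-, hc⟩ := card_le K h2 (Module.finrank K V) V le_rfl (Set.range φ)
    (by rintro _ ⟨g, rfl⟩; exact hsq g)
    (by rintro _ ⟨g, rfl⟩ _ ⟨h, rfl⟩; rw [Commute, SemiconjBy, ← hmul, ← hmul, hcomm])
  rwa [Set.ncard_range_of_injective hφ] at hc

end Groth.Agent.S15166
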