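import Groth.Statements.S15167
import Groth.Agent.H26Misc.RedCharpoly
import Mathlib.FieldTheory.IsAlgClosed.AlgebraicClosure
import Mathlib.RingTheory.Polynomial.UniqueFactorization
import Mathlib.FieldTheory.IntermediateField.Adjoin.Basic
import Mathlib.Tactic

set_option autoImplicit false
universe u v
open Polynomial
open BddFin

namespace Groth.Agent.S15167

/-- All irreducible factors of a binomial `X ^ m - a`, `a ≠ 0`, are binomials of one degree. -/
theorem factor_binomial (K : Type u) [Field K] (m : ℕ) (hm : 0 < m)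
    (hK : (X ^ m - 1 : K[X]).Splits) (a : K) (ha : a ≠ 0) :
    ∃ r : ℕ, 0 < r ∧ ∀ g : K[X], Irreducible g → g.Monic → g ∣ X ^ m - C a →
      ∃ b : K, g = X ^ r - C b := by
  classical
  let Ω := AlgebraicClosure K
  have hroot1 : ∀ z : Ω, z ^ m = 1 → z ∈ (algebraMap K Ω).range := by
    intro z hz
    have hne : (X ^ m - 1 : K[X]) ≠ 0 := (monic_X_pow_sub_C (1 : K) hm.ne').ne_zero
    have h1 : z ∈ ((X ^ m - 1 : K[X]).map (algebraMap K Ω)).roots := by
      rw [mem_roots (map_ne_zero hne)]
      simp [IsRoot, hz]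
    rw [hK.roots_map] at h1
    obtain ⟨c, -, rfl⟩ := Multiset.mem_map.mp h1
    exact ⟨c, rfl⟩
  obtain ⟨α, hα⟩ := IsAlgClosed.exists_pow_nat_eq (algebraMap K Ω a) hm
  have hα0 : α ≠ 0 := by
    intro h
    rw [h, zero_pow hm.ne', eq_comm, map_eq_zero] at hα
    exact ha hα
  have hint : IsIntegral K α := Algebra.IsIntegral.isIntegral α
  refine ⟨(minpoly K α).natDegree, minpoly.natDegree_pos hint, fun g hg hgm hdvd => ?_⟩
  set r := (minpoly K α).natDegree with hr
  obtain ⟨β, hβ⟩ := IsAlgClosed.exists_aeval_eq_zero Ω g hg.degree_pos.ne'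
  have hgβ : g = minpoly K β := minpoly.eq_of_irreducible_of_monic hg hβ hgm
  have hintβ : IsIntegral K β := Algebra.IsIntegral.isIntegral β
  have hβm : β ^ m = algebraMap K Ω a := by
    obtain ⟨q, hq⟩ := hdvd
    have := congrArg (aeval β) hq
    rw [map_mul, hβ, zero_mul] at this
    simpa [sub_eq_zero] using this
  obtain ⟨c, hc⟩ := hroot1 (β / α) (by
    rw [div_pow, hβm, hα, div_self ((_root_.map_ne_zero _).mpr ha)])
  have hc0 : c ≠ 0 := by
    rintro rfl
    rw [map_zero, eq_comm, div_eq_zero_iff] at hc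
    rcases hc with h | h
    · rw [h, zero_pow hm.ne', eq_comm, map_eq_zero] at hβm
      exact ha hβm
    · exact hα0 h
  have hβα : β = algebraMap K Ω c * α := by rw [hc, div_mul_cancel₀ _ hα0]
  have hdeg : g.natDegree = r := by
    rw [hgβ, hr, ← IntermediateField.adjoin.finrank hintβ, ← IntermediateField.adjoin.finrank hint]
    have : IntermediateField.adjoin K ({β} : Set Ω) = IntermediateField.adjoin K ({α} : Set Ω) := by
      refine le_antisymm (IntermediateField.adjoin_simple_le_iff.mpr ?_) (IntermediateField.adjoin_simple_le_iff.mpr ?_)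
      · rw [hβα]
        exact mul_mem (IntermediateField.algebraMap_mem _ c) (IntermediateField.mem_adjoin_simple_self K α)
      · have hαβ : α = algebraMap K Ω c⁻¹ * β := by
          rw [hβα, ← mul_assoc, ← map_mul, inv_mul_cancel₀ hc0, map_one, one_mul]
        rw [hαβ]
        exact mul_mem (IntermediateField.algebraMap_mem _ c⁻¹) (IntermediateField.mem_adjoin_simple_self K β)
    rw [this]
  -- the product of the roots
  set gΩ := g.map (algebraMap K Ω) with hgΩ
  have hprod : (-1 : Ω) ^ gΩ.natDegree * gΩ.roots.prod = gΩ.coeff 0 :=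
    ((IsAlgClosed.splits gΩ).coeff_zero_eq_prod_roots_of_monic (hgm.map _)).symm
  have hroots : ∀ z ∈ gΩ.roots, z / β ∈ (algebraMap K Ω).range := by
    intro z hz
    apply hroot1
    have hzg : aeval z g = 0 := by
      have := (mem_roots'.mp hz).2
      rwa [IsRoot, hgΩ, eval_map, ← aeval_def] at this
    obtain ⟨q, hq⟩ := hdvd
    have := congrArg (aeval z) hq
    rw [map_mul, hzg, zero_mul] at this
    have hzm : z ^ m = algebraMap K Ω a := by simpa [sub_eq_zero] using this
    rw [div_pow, hzm, hβm, div_self ((_root_.map_ne_zero _).mpr ha)]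
  have hβ0 : β ≠ 0 := by rw [hβα]; exact mul_ne_zero ((_root_.map_ne_zero _).mpr hc0) hα0
  have hkey : gΩ.roots.prod / β ^ gΩ.roots.card ∈ (algebraMap K Ω).range := by
    clear hprod
    generalize gΩ.roots = s at hroots
    induction s using Multiset.induction_on with
    | empty => simp
    | cons z s ih =>
      have h1 := ih fun w hw => hroots w (Multiset.mem_cons_of_mem hw)
      rw [Multiset.prod_cons, Multiset.card_cons, pow_succ', mul_div_mul_comm]
      exact mul_mem (hroots z (Multiset.mem_cons_self _ _)) h1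
  have hcard : gΩ.roots.card = r := by
    rw [splits_iff_card_roots.mp (IsAlgClosed.splits gΩ), hgΩ, natDegree_map, hdeg]
  obtain ⟨d, hd⟩ := hkey
  rw [hcard] at hd
  have hg0 : g.coeff 0 ≠ 0 := by
    intro h0
    have hX : X ∣ g := X_dvd_iff.mpr h0
    have := (irreducible_X.associated_of_dvd hg hX)
    rw [← eq_of_monic_of_associated monic_X hgm this, aeval_X] at hβ
    exact hβ0 hβ
  have hp : gΩ.roots.prod = algebraMap K Ω ((-1) ^ r * g.coeff 0) := by
    have := hprod
    rw [hgΩ, natDegree_map, hdeg, ← hgΩ, hgΩ, coeff_map] at this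
    rw [map_mul, ← this, map_pow, map_neg, map_one, ← mul_assoc, ← mul_pow]
    rw [neg_one_mul, neg_neg, one_pow, one_mul]
  have hd0 : d ≠ 0 := by
    rintro rfl
    rw [map_zero, eq_comm, div_eq_zero_iff, hp] at hd
    rcases hd with h | h
    · rw [map_eq_zero] at h
      exact hg0 (by simpa using h)
    · exact pow_ne_zero r hβ0 h
  have hbr : β ^ r = algebraMap K Ω ((-1) ^ r * g.coeff 0 * d⁻¹) := by
    rw [map_mul, ← hp, map_inv₀, hd]
    have hp0 : gΩ.roots.prod ≠ 0 := by
      intro h; rw [h, zero_div, map_eq_zero] at hd; exact hd0 hd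
    rw [inv_div, mul_div_cancel₀ _ hp0]
  have hr0 : r ≠ 0 := (minpoly.natDegree_pos hint).ne'
  refine ⟨(-1) ^ r * g.coeff 0 * d⁻¹, (eq_of_monic_of_dvd_of_natDegree_le hgm (monic_X_pow_sub_C _ hr0) ?_ ?_).symm⟩
  · rw [hgβ]
    exact minpoly.dvd K β (by rw [map_sub, map_pow, aeval_X, aeval_C, ← hgβ, hbr, sub_self])
  · rw [natDegree_X_pow_sub_C, hdeg]

/-- Let K be a field such that K contains all roots of unity (for every n ≥ 1 the polynomial X^n − 1
splits into linear factors over K), A a central simple K-algebra of dimension n ^ 2, and x an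
invertible element of A some power x ^ m (m ≥ 1) of which lies in K. Then there are a positive
integer r dividing n and elements a_i of K such that the minimal polynomial of x over K is the
product of the polynomials X ^ r − a_i. -/
theorem result
    (K : Type u) [Field K] (hK : ∀ n : ℕ, 0 < n → (X ^ n - 1 : K[X]).Splits)
    (A : Type v) [Ring A] [Algebra K A] [Algebra.IsCentral K A] [IsSimpleRing A] [FiniteDimensional K A]
    (n : ℕ) (hn : Module.finrank K A = n ^ 2)
    (x : A) (hx : IsUnit x) (hxm : ∃ m : ℕ, 0 < m ∧ x ^ m ∈ (algebraMap K A).range) :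
    ∃ r : ℕ, 0 < r ∧ r ∣ n ∧ ∃ s : Multiset K, minpoly K x = (s.map fun a : K => X ^ r - C a).prod := by
  classical
  obtain ⟨m, hm, a, ha⟩ := hxm
  haveI : Nontrivial A := inferInstance
  have ha0 : a ≠ 0 := by
    rintro rfl
    rw [map_zero] at ha
    exact (hx.pow m).ne_zero ha.symm
  obtain ⟨r, hr, hfac⟩ := factor_binomial K m hm (hK m hm) a ha0
  have hint : IsIntegral K x := Algebra.IsIntegral.isIntegral x
  set μ := minpoly K x with hμ
  have hμm : μ.Monic := minpoly.monic hint
  have hμd : μ ∣ X ^ m - C a := minpoly.dvd K x (by rw [map_sub, map_pow, aeval_X, aeval_C, ha, sub_self])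
  have hfacμ : ∀ g : K[X], Irreducible g → g.Monic → g ∣ μ → ∃ b : K, g = X ^ r - C b :=
    fun g h1 h2 h3 => hfac g h1 h2 (h3.trans hμd)
  refine ⟨r, hr, ?_, ?_⟩
  · obtain ⟨P, hPm, hPd, hP⟩ := H26Misc.exists_redCharpoly hn x
    have hs := UniqueFactorizationMonoid.prod_normalizedFactors_eq hPm.ne_zero
    rw [hPm.normalize_eq_self] at hs
    have hall : ∀ g ∈ UniqueFactorizationMonoid.normalizedFactors P, g.Monic ∧ g.natDegree = r := by
      intro g hg
      have hirr := UniqueFactorizationMonoid.irreducible_of_normalized_factor g hg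
      have hgm : g.Monic := by
        rw [← UniqueFactorizationMonoid.normalize_normalized_factor g hg]
        exact monic_normalize hirr.ne_zero
      obtain ⟨b, hb⟩ := hfacμ g hirr hgm (hP g hirr (UniqueFactorizationMonoid.dvd_of_mem_normalizedFactors hg))
      exact ⟨hgm, by rw [hb, natDegree_X_pow_sub_C]⟩
    refine ⟨(UniqueFactorizationMonoid.normalizedFactors P).card, ?_⟩
    have := congrArg natDegree hs
    rw [natDegree_multiset_prod_of_monic _ fun g hg => (hall g hg).1,
      Multiset.map_congr rfl fun g hg => (hall g hg).2, Multiset.map_const', Multiset.sum_replicate,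
      smul_eq_mul] at this
    rw [← hPd, ← this, mul_comm]
  · have hs := UniqueFactorizationMonoid.prod_normalizedFactors_eq hμm.ne_zero
    rw [hμm.normalize_eq_self] at hs
    have hall : ∀ g ∈ UniqueFactorizationMonoid.normalizedFactors μ, ∃ b : K, g = X ^ r - C b := by
      intro g hg
      have hirr := UniqueFactorizationMonoid.irreducible_of_normalized_factor g hg
      refine hfacμ g hirr ?_ (UniqueFactorizationMonoid.dvd_of_mem_normalizedFactors hg)
      rw [← UniqueFactorizationMonoid.normalize_normalized_factor g hg]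
      exact monic_normalize hirr.ne_zero
    refine ⟨(UniqueFactorizationMonoid.normalizedFactors μ).map fun g => -(g.coeff 0), ?_⟩
    rw [Multiset.map_map]
    conv_lhs => rw [← hs]
    congr 1
    conv_lhs => rw [← Multiset.map_id' (UniqueFactorizationMonoid.normalizedFactors μ)]
    refine Multiset.map_congr rfl fun g hg => ?_
    obtain ⟨b, hb⟩ := hall g hg
    show g = X ^ r - C (-(g.coeff 0))
    rw [hb]
    simp [coeff_X_pow, hr.ne]

end Groth.Agent.S15167
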