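import Groth.Statements.S15168
import Groth.Agent.S15167
import Mathlib.RingTheory.SimpleRing.Basic

set_option autoImplicit false
universe u v
open Polynomial
open BddFin

namespace Groth.Agent.S15168

/-- Let K be a field such that K contains all roots of unity (for every n ≥ 1 the polynomial X^n − 1
splits into linear factors over K), A a central division algebra of dimension n ^ 2 over K, and x an
element of A some power x ^ m (m ≥ 1) of which lies in K. Then x ^ n lies in K; that is, the order
of the class of x in the quotient of the unit group of A by that of K divides n. -/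
theorem result
    (K : Type u) [Field K] (hK : ∀ n : ℕ, 0 < n → (X ^ n - 1 : K[X]).Splits)
    (A : Type v) [DivisionRing A] [Algebra K A] [Algebra.IsCentral K A] [FiniteDimensional K A]
    (n : ℕ) (hn : Module.finrank K A = n ^ 2)
    (x : A) (hxm : ∃ m : ℕ, 0 < m ∧ x ^ m ∈ (algebraMap K A).range) :
    x ^ n ∈ (algebraMap K A).range := by
  obtain ⟨m, hm, hxm⟩ := hxm
  rcases eq_or_ne x 0 with rfl | hx
  · have hn0 : n ≠ 0 := by
      rintro rfl
      have := Module.finrank_pos (R := K) (M := A)
      omega
    rw [zero_pow hn0]; exact zero_mem _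
  obtain ⟨r, hr, ⟨c, hc⟩, s, hs⟩ := S15167.result K hK A n hn x (IsUnit.mk0 x hx) ⟨m, hm, hxm⟩
  have h0 := minpoly.aeval K x
  rw [hs] at h0
  have key : ∃ a ∈ s, x ^ r = algebraMap K A a := by
    clear hs
    induction s using Multiset.induction_on with
    | empty => simp at h0
    | cons a s ih =>
      rw [Multiset.map_cons, Multiset.prod_cons, map_mul, mul_eq_zero] at h0
      rcases h0 with h0 | h0
      · exact ⟨a, Multiset.mem_cons_self _ _, sub_eq_zero.mp (by simpa using h0)⟩
      · obtain ⟨b, hb, h⟩ := ih h0
        exact ⟨b, Multiset.mem_cons_of_mem hb, h⟩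
  obtain ⟨a, -, ha⟩ := key
  refine ⟨a ^ c, ?_⟩
  rw [hc, pow_mul, ha, map_pow]

end Groth.Agent.S15168
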