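import Groth.Statements.S15169
import Groth.Agent.H26Misc.DivDeg
import Mathlib.FieldTheory.Separable
import Mathlib.Algebra.Polynomial.Expand

set_option autoImplicit false
universe u v
open BddFin

namespace Groth.Agent.S15169

/-- (1) ⇒ (2): let K be a field with char K = p > 0 and A a central division K-algebra with dim_K A = p
^ 2. If some element of A is not separable over K, then there are v, u in A with v ^ p and u ^ p in
K and v * u - u * v = 1 which generate A as a K-algebra. -/
theorem result
    (K : Type u) [Field K] (p : ℕ) [Fact p.Prime] [CharP K p]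
    (A : Type v) [DivisionRing A] [Algebra K A] [Algebra.IsCentral K A] [FiniteDimensional K A]
    (hA : Module.finrank K A = p ^ 2) (h : ∃ v : A, ¬ IsSeparable K v) :
    ∃ v u : A, v ^ p ∈ (algebraMap K A).range ∧ u ^ p ∈ (algebraMap K A).range ∧ v * u - u * v = 1 ∧
      Algebra.adjoin K {v, u} = ⊤ := by
  classical
  have hp : p.Prime := Fact.out
  obtain ⟨v, hv⟩ := h
  have hint : IsIntegral K v := Algebra.IsIntegral.isIntegral v
  have hvK : v ∉ (algebraMap K A).range := by
    rintro ⟨k, rfl⟩
    apply hv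
    show (minpoly K _).Separable
    rw [minpoly.eq_X_sub_C]
    exact Polynomial.separable_X_sub_C
  have hd := H26Misc.DivDeg.minpoly_natDegree_eq hp hA hvK
  have hvp : v ^ p ∈ (algebraMap K A).range := by
    have hirr : Irreducible (minpoly K v) := minpoly.irreducible hint
    have hder : Polynomial.derivative (minpoly K v) = 0 := by
      by_contra hne
      exact hv ((Polynomial.separable_iff_derivative_ne_zero hirr).mpr hne)
    have hexp := Polynomial.expand_contract p hder hp.ne_zero
    have hc : (Polynomial.contract p (minpoly K v)).natDegree = 1 := by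
      have := congrArg Polynomial.natDegree hexp
      rw [Polynomial.natDegree_expand, hd] at this
      exact (Nat.mul_eq_right hp.ne_zero).mp this
    obtain ⟨a, ha, b, hab⟩ := Polynomial.natDegree_eq_one.mp hc
    have h0 := minpoly.aeval K v
    rw [← hexp, Polynomial.expand_aeval, ← hab] at h0
    simp only [map_add, map_mul, Polynomial.aeval_C, Polynomial.aeval_X] at h0
    refine ⟨-(b / a), ?_⟩
    have h1 : algebraMap K A a * v ^ p = -algebraMap K A b := eq_neg_of_add_eq_zero_left h0
    have h2 : v ^ p = algebraMap K A a⁻¹ * (algebraMap K A a * v ^ p) := by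
      rw [← mul_assoc, ← map_mul, inv_mul_cancel₀ ha, map_one, one_mul]
    rw [h2, h1, mul_neg, ← map_mul, ← map_neg]
    congr 1
    ring
  obtain ⟨y, hy⟩ : ∃ y, v * y - y * v ≠ 0 := by
    by_contra h
    push Not at h
    apply hvK
    have : v ∈ Subalgebra.center K A := Subalgebra.mem_center_iff.mpr fun y => (sub_eq_zero.mp (h y)).symm
    obtain ⟨k, hk⟩ := Algebra.mem_bot.mp (Algebra.IsCentral.out this)
    exact ⟨k, hk⟩
  set D := LinearMap.mulLeft K v - LinearMap.mulRight K v with hD
  have hDp : (D ^ p) y = 0 := by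
    rw [hD, H26Misc.DivDeg.ad_pow_prime, (H26Misc.DivDeg.commute_of_mem_range hvp y).eq, sub_self]
  have hex : ∃ n, (D ^ n) y = 0 := ⟨p, hDp⟩
  have hn := Nat.find_spec hex
  have hmin : ∀ m < Nat.find hex, (D ^ m) y ≠ 0 := fun m hm => Nat.find_min hex hm
  have hn2 : 2 ≤ Nat.find hex := by
    by_contra h
    interval_cases hk : Nat.find hex
    · rw [pow_zero] at hn; apply hy; have : y = 0 := hn; simp [this]
    · rw [pow_one, hD, H26Misc.DivDeg.ad_apply] at hn; exact hy hn
  obtain ⟨j, hj⟩ : ∃ j, Nat.find hex = j + 2 := ⟨Nat.find hex - 2, by omega⟩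
  rw [hj] at hn hmin
  set w := (D ^ j) y
  have hb : D w ≠ 0 := by
    have := hmin (j + 1) (by omega)
    rwa [pow_succ'] at this
  have hbc : D (D w) = 0 := by
    rw [pow_succ', pow_succ'] at hn
    exact hn
  rw [hD, H26Misc.DivDeg.ad_apply] at hb
  rw [hD, H26Misc.DivDeg.ad_apply, H26Misc.DivDeg.ad_apply, sub_eq_zero] at hbc
  set b := v * w - w * v with hbdef
  have hbi : Commute v b⁻¹ := (show Commute v b from hbc).inv_right₀
  set u := w * b⁻¹ with hu
  have hvu : v * u - u * v = 1 := by
    rw [hu, mul_assoc w b⁻¹ v, ← hbi.eq, ← mul_assoc, ← mul_assoc, ← sub_mul, ← hbdef, mul_inv_cancel₀ hb]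
  have hnc : ¬ Commute v u := fun h => one_ne_zero (α := A) (by rw [← hvu, h.eq, sub_self])
  have hgen := H26Misc.DivDeg.adjoin_pair_eq_top hp hA hnc
  refine ⟨v, u, hvp, H26Misc.DivDeg.mem_range_of_commute_gen hgen ?_ (Commute.pow_self u p), hvu, hgen⟩
  have huv : (LinearMap.mulLeft K u - LinearMap.mulRight K u) v = -1 := by
    rw [H26Misc.DivDeg.ad_apply, ← hvu, neg_sub]
  have h2 : ((LinearMap.mulLeft K u - LinearMap.mulRight K u) ^ 2) v = 0 := by
    rw [pow_two, Module.End.mul_apply, huv, H26Misc.DivDeg.ad_apply]; simp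
  obtain ⟨i, hi⟩ : ∃ i, p = i + 2 := ⟨p - 2, by have := hp.two_le; omega⟩
  have h3 := H26Misc.DivDeg.ad_pow_prime (K := K) (p := p) u v
  have h4 : ((LinearMap.mulLeft K u - LinearMap.mulRight K u) ^ p) v = 0 := by
    rw [hi, pow_add, Module.End.mul_apply, h2, map_zero]
  rw [h4] at h3
  exact sub_eq_zero.mp h3.symm

end Groth.Agent.S15169
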