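import Groth.Statements.S1517
import Mathlib

set_option autoImplicit false
universe u
open Brauer

namespace Groth.Agent.S1517

/-- Let A be a ring with no nontrivial two-sided ideals and M a nonzero right ideal, viewed as a right
A-module with endomorphism ring A'. Then every A'-linear endomorphism of M is right multiplication
by exactly one element of A; that is, the natural map from A to the bicommutant of M is a bijection. -/
theorem result (A : Type u) [Ring A] [IsSimpleRing A]
    (M : Submodule Aᵐᵒᵖ A) (hM : M ≠ ⊥)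
    (g : Module.End (Module.End Aᵐᵒᵖ M) M) :
    ∃! a : A, ∀ m : M, (g m : A) = (m : A) * a := by
  classical
  let I : TwoSidedIdeal A := TwoSidedIdeal.mk'
    ((Ideal.span (M : Set A) : Ideal A) : Set A) (Submodule.zero_mem _)
    (fun hx hy => Submodule.add_mem _ hx hy) (fun hx => Submodule.neg_mem _ hx)
    (fun hy => Ideal.mul_mem_left _ _ hy)
    (fun {x y} hx => by
      induction hx using Submodule.span_induction with
      | mem z hz => exact Submodule.subset_span (M.smul_mem (MulOpposite.op y) hz)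
      | zero => simp
      | add u v _ _ hu hv => rw [add_mul]; exact Submodule.add_mem _ hu hv
      | smul c z _ hz => rw [smul_eq_mul, mul_assoc]; exact Ideal.mul_mem_left _ _ hz)
  have hI : ∀ x : A, x ∈ I ↔ x ∈ Ideal.span (M : Set A) := fun x => TwoSidedIdeal.mem_mk' ..
  have htop : (1 : A) ∈ Ideal.span (M : Set A) := by
    rcases eq_bot_or_eq_top I with h | h
    · exfalso
      apply hM
      refine (Submodule.eq_bot_iff M).mpr fun z hz => ?_
      have := (hI z).mpr (Submodule.subset_span hz)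
      rwa [h, TwoSidedIdeal.mem_bot] at this
    · exact (hI 1).mp (by rw [h]; trivial)
  let L : M → Module.End Aᵐᵒᵖ M := fun m =>
    { toFun := fun x => ⟨(m : A) * x, M.smul_mem (MulOpposite.op (x : A)) m.2⟩
      map_add' := fun x y => Subtype.ext (mul_add _ _ _)
      map_smul' := fun r x => Subtype.ext (mul_assoc _ _ _).symm }
  have hg : ∀ m x : M, ((g ⟨(m : A) * x, M.smul_mem (MulOpposite.op (x : A)) m.2⟩ : M) : A) =
      (m : A) * (g x : M) := fun m x => congrArg Subtype.val (g.map_smul (L m) x)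
  have key : ∀ z ∈ Ideal.span (M : Set A), ∃ a : A, ∀ (m : M) (h : (m : A) * z ∈ M),
      ((g ⟨(m : A) * z, h⟩ : M) : A) = (m : A) * a := by
    intro z hz
    suffices h : ∃ a : A, ∀ m : A, m ∈ M → ∃ h : m * z ∈ M,
        ((g ⟨m * z, h⟩ : M) : A) = m * a by
      obtain ⟨a, ha⟩ := h
      exact ⟨a, fun m _ => (ha m m.2).2⟩
    induction hz using Submodule.span_induction with
    | mem w hw => exact ⟨(g ⟨w, hw⟩ : M), fun m hm => ⟨_, hg ⟨m, hm⟩ ⟨w, hw⟩⟩⟩
    | zero =>
      refine ⟨0, fun m hm => ⟨by simp, ?_⟩⟩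
      simp only [mul_zero]
      rw [show (⟨0, M.zero_mem⟩ : M) = 0 from rfl, map_zero]
      rfl
    | add u v _ _ hu hv =>
      obtain ⟨a, ha⟩ := hu
      obtain ⟨b, hb⟩ := hv
      refine ⟨a + b, fun m hm => ?_⟩
      obtain ⟨h1, e1⟩ := ha m hm
      obtain ⟨h2, e2⟩ := hb m hm
      refine ⟨by rw [mul_add]; exact M.add_mem h1 h2, ?_⟩
      have : (⟨m * (u + v), by rw [mul_add]; exact M.add_mem h1 h2⟩ : M) = ⟨m * u, h1⟩ + ⟨m * v, h2⟩ :=
        Subtype.ext (mul_add _ _ _)
      rw [this, map_add, Submodule.coe_add, e1, e2, mul_add]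
    | smul c w _ hw =>
      obtain ⟨a, ha⟩ := hw
      refine ⟨c * a, fun m hm => ?_⟩
      obtain ⟨h1, e1⟩ := ha (m * c) (M.smul_mem (MulOpposite.op c) hm)
      refine ⟨by rw [smul_eq_mul, ← mul_assoc]; exact h1, ?_⟩
      have : (⟨m * (c • w), by rw [smul_eq_mul, ← mul_assoc]; exact h1⟩ : M) = ⟨m * c * w, h1⟩ :=
        Subtype.ext (mul_assoc _ _ _).symm
      rw [this, e1, mul_assoc]
  obtain ⟨a, ha⟩ := key 1 htop
  have hfin : ∀ m : M, (g m : A) = (m : A) * a := fun m => by
    have := ha m (by simp)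
    simpa using this
  refine ⟨a, hfin, fun a' ha' => ?_⟩
  have h0 : ∀ z ∈ Ideal.span (M : Set A), z * (a' - a) = 0 := by
    intro z hz
    induction hz using Submodule.span_induction with
    | mem w hw => rw [mul_sub, ← ha' ⟨w, hw⟩, ← hfin ⟨w, hw⟩, sub_self]
    | zero => rw [zero_mul]
    | add u v _ _ hu hv => rw [add_mul, hu, hv, add_zero]
    | smul c w _ hw => rw [smul_eq_mul, mul_assoc, hw, mul_zero]
  simpa [sub_eq_zero] using h0 1 htop

end Groth.Agent.S1517
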