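import Groth.Statements.S15170
import Groth.Agent.H26Misc.DivDeg
import Mathlib.FieldTheory.Galois.Basic
import Mathlib.FieldTheory.Normal.Basic
import Mathlib.Algebra.Ring.Subring.Basic

set_option autoImplicit false
universe u v
open BddFin

namespace Groth.Agent.S15170

/-- (2) ⇒ (3): let K be a field with char K = p > 0 and A a central division K-algebra with dim_K A = p
^ 2. If v, u in A satisfy v ^ p ∈ K, u ^ p ∈ K and v * u - u * v = 1, then some Galois extension L
of K with [L : K] = p admits a K-algebra embedding into A (so A has a Galois subfield of degree p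
over K). -/
theorem result
    (K : Type u) [Field K] (p : ℕ) [Fact p.Prime] [CharP K p]
    (A : Type v) [DivisionRing A] [Algebra K A] [Algebra.IsCentral K A] [FiniteDimensional K A]
    (hA : Module.finrank K A = p ^ 2) (v u : A) (hv : v ^ p ∈ (algebraMap K A).range)
    (hu : u ^ p ∈ (algebraMap K A).range) (hvu : v * u - u * v = 1) :
    ∃ (L : Type v) (_ : Field L) (_ : Algebra K L), IsGalois K L ∧ Module.finrank K L = p ∧
      Nonempty (L →ₐ[K] A) := by
  classical
  have hp : p.Prime := Fact.out
  haveI : CharP A p := charP_of_injective_algebraMap (algebraMap K A).injective p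
  have hu0 : u ≠ 0 := by
    intro h
    rw [h, mul_zero, zero_mul, sub_self] at hvu
    exact zero_ne_one hvu
  set θ := u * v with hθdef
  have hconj : u * (θ + 1) = θ * u := by
    have hvu' : v * u = u * v + 1 := by rw [← hvu]; abel
    rw [hθdef, mul_assoc u v u, hvu']
  have hθu : ¬ Commute θ u := by
    intro h
    rw [h.eq, mul_add, mul_one, add_eq_left] at hconj
    exact hu0 hconj
  have hθK : θ ∉ (algebraMap K A).range := fun h => hθu (H26Misc.DivDeg.commute_of_mem_range h u)
  have hd := H26Misc.DivDeg.minpoly_natDegree_eq hp hA hθK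
  have hint : IsIntegral K θ := Algebra.IsIntegral.isIntegral θ
  set g := minpoly K θ with hg
  let φ : A →ₐ[K] A :=
    { toFun := fun x => u⁻¹ * x * u
      map_one' := by simp [hu0]
      map_mul' := fun x y => by simp [mul_assoc, hu0]
      map_zero' := by simp
      map_add' := fun x y => by simp [mul_add, add_mul]
      commutes' := fun r => by
        show u⁻¹ * algebraMap K A r * u = algebraMap K A r
        rw [← (Algebra.commutes r u⁻¹), mul_assoc, inv_mul_cancel₀ hu0, mul_one] }
  have hφ : φ θ = θ + 1 := by
    show u⁻¹ * θ * u = θ + 1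
    rw [mul_assoc, ← hconj, inv_mul_cancel_left₀ hu0]
  have hroots : ∀ i : ℕ, Polynomial.aeval (θ + (i : A)) g = 0 := by
    intro i
    induction i with
    | zero => simp [g]
    | succ i ih =>
      have : θ + ((i + 1 : ℕ) : A) = φ (θ + (i : A)) := by
        rw [map_add, map_natCast, hφ]; push_cast; abel
      rw [this, Polynomial.aeval_algHom_apply, ih, map_zero]
  set S := Algebra.adjoin K ({θ} : Set A) with hS
  letI : CommRing S :=
    { (inferInstance : Ring S) with
      mul_comm := fun a b => Subtype.ext (by
        have h1 : Commute (b : A) θ := (Algebra.commute_of_mem_adjoin_singleton_of_commute b.2 (Commute.refl θ)).symm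
        exact (Algebra.commute_of_mem_adjoin_singleton_of_commute a.2 h1).symm.eq) }
  letI : Field S := Field.ofIsUnitOrEqZero fun y => by
    by_cases h : y = 0
    · exact Or.inr h
    · obtain ⟨z, hz⟩ := FiniteDimensional.exists_mul_eq_one K h
      exact Or.inl ⟨⟨y, z, hz, by rw [mul_comm]; exact hz⟩, rfl⟩
  let t : S := ⟨θ, Algebra.subset_adjoin rfl⟩
  have hrk : Module.finrank K S = p := by rw [H26Misc.DivDeg.finrank_adjoin_eq]; exact hd
  have hgS : ∀ i : ℕ, Polynomial.aeval (t + (i : S)) g = 0 := fun i => by
    apply Subtype.val_injective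
    show (S.val (Polynomial.aeval (t + (i : S)) g)) = ((0 : S) : A)
    rw [← Polynomial.aeval_algHom_apply, map_add, map_natCast]
    exact hroots i
  haveI : CharP S p := charP_of_injective_algebraMap (algebraMap K S).injective p
  set R : Multiset S := (Multiset.range p).map fun i : ℕ => t + (i : S) with hR
  have hRn : R.Nodup := by
    refine Multiset.Nodup.map_on (fun a ha b hb he => ?_) (Multiset.nodup_range p)
    rw [Multiset.mem_range] at ha hb
    have := (CharP.natCast_eq_natCast S p).mp (add_left_cancel he)
    exact Nat.ModEq.eq_of_lt_of_lt this ha hb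
  set gS := g.map (algebraMap K S) with hgSdef
  have hgm : gS.Monic := (minpoly.monic hint).map _
  have hgd : gS.natDegree = p := by rw [hgSdef, Polynomial.natDegree_map, hd]
  have hle : R ≤ gS.roots := by
    rw [Multiset.le_iff_subset hRn]
    intro r hr
    obtain ⟨i, -, rfl⟩ := Multiset.mem_map.mp hr
    rw [Polynomial.mem_roots hgm.ne_zero, Polynomial.IsRoot, hgSdef, Polynomial.eval_map,
      ← Polynomial.aeval_def, hgS]
  have heq : R = gS.roots := by
    refine Multiset.eq_of_le_of_card_le hle ?_
    rw [hR, Multiset.card_map, Multiset.card_range]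
    exact (Polynomial.card_roots' gS).trans hgd.le
  have hsplit : gS.Splits := by
    rw [Polynomial.splits_iff_card_roots, ← heq, hgd, hR, Multiset.card_map, Multiset.card_range]
  have hsep : g.Separable := by
    rw [← Polynomial.separable_map (algebraMap K S), ← hgSdef]
    exact (Polynomial.nodup_roots_iff_of_splits hgm.ne_zero hsplit).mp (heq ▸ hRn)
  haveI : Polynomial.IsSplittingField K S g := by
    refine ⟨hsplit, ?_⟩
    rw [eq_top_iff]
    rintro ⟨y, hy⟩ -
    have hmem : t ∈ Algebra.adjoin K (g.rootSet S) := Algebra.subset_adjoin (by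
      rw [Polynomial.mem_rootSet]
      exact ⟨(minpoly.monic hint).ne_zero, by simpa using hgS 0⟩)
    have hle2 : Algebra.adjoin K ({θ} : Set A) ≤ (Algebra.adjoin K (g.rootSet S)).map S.val :=
      Algebra.adjoin_le (by rintro z rfl; exact ⟨t, hmem, rfl⟩)
    obtain ⟨z, hz, hzy⟩ := hle2 hy
    have : z = ⟨y, hy⟩ := Subtype.ext hzy
    exact this ▸ hz
  exact ⟨S, inferInstance, inferInstance, IsGalois.of_separable_splitting_field hsep, hrk, ⟨S.val⟩⟩

end Groth.Agent.S15170
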