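import Groth.Statements.S15171
import Groth.Agent.H26Misc.DivDeg
import Groth.Agent.H29CSA.Centralizer
import Mathlib.FieldTheory.Galois.Basic
import Mathlib.RingTheory.SimpleRing.Basic

set_option autoImplicit false
universe u v w
open BddFin

namespace Groth.Agent.S15171

/-- (3) ⇒ (1): let K be a field with char K = p > 0 and A a central division K-algebra with dim_K A = p
^ 2. If some Galois extension L of K with [L : K] = p admits a K-algebra embedding into A, then some
element of A is not separable over K. -/
theorem result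
    (K : Type u) [Field K] (p : ℕ) [Fact p.Prime] [CharP K p]
    (A : Type v) [DivisionRing A] [Algebra K A] [Algebra.IsCentral K A] [FiniteDimensional K A]
    (hA : Module.finrank K A = p ^ 2) (L : Type w) [Field L] [Algebra K L] [IsGalois K L]
    (hL : Module.finrank K L = p) (ι : L →ₐ[K] A) :
    ∃ v : A, ¬ IsSeparable K v := by
  have hp : p.Prime := Fact.out
  haveI : FiniteDimensional K L := Module.finite_of_finrank_eq_succ (n := p - 1) (by
    rw [hL]; have := hp.pos; omega)
  have hcard : Nat.card (L ≃ₐ[K] L) = p := by rw [IsGalois.card_aut_eq_finrank, hL]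
  obtain ⟨σ, hσ⟩ : ∃ σ : L ≃ₐ[K] L, σ ≠ 1 := by
    by_contra h
    push Not at h
    haveI : Subsingleton (L ≃ₐ[K] L) := ⟨fun a b => by rw [h a, h b]⟩
    have := Nat.card_of_subsingleton (1 : L ≃ₐ[K] L)
    rw [hcard] at this
    exact hp.ne_one this
  obtain ⟨x, hx⟩ := H29CSA.skolem_noether ι (ι.comp σ.toAlgHom)
  obtain ⟨l, hl⟩ : ∃ l, σ l ≠ l := by
    by_contra h
    push Not at h
    exact hσ (AlgEquiv.ext h)
  have hconj : ∀ b, ι b * (x : A) = (x : A) * ι (σ b) := fun b => by
    rw [hx b, AlgHom.comp_apply]; simp [mul_assoc]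
  have hpow : ∀ (k : ℕ) (b : L), ι b * (x : A) ^ k = (x : A) ^ k * ι ((σ ^ k) b) := by
    intro k
    induction k with
    | zero => intro b; simp
    | succ k ih =>
      intro b
      rw [pow_succ, ← mul_assoc, ih, mul_assoc, hconj, ← mul_assoc, pow_succ']
      rfl
  refine H26Misc.DivDeg.exists_insep_of_twist hA (θ := ι l) (w := (x : A)) ?_ ?_
  · intro h
    have h1 := hconj l
    rw [h.eq] at h1
    exact hl (ι.toRingHom.injective (mul_left_cancel₀ x.ne_zero h1)).symm
  · have hσp : σ ^ p = 1 := by rw [← hcard]; exact pow_card_eq_one'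
    show (x : A) ^ p * ι l = ι l * (x : A) ^ p
    rw [hpow p l, hσp, AlgEquiv.one_apply]

end Groth.Agent.S15171
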