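import Groth.Statements.S15172
import Mathlib.Algebra.Polynomial.AlgebraMap
import Mathlib.Algebra.Polynomial.Roots
import Mathlib.Algebra.Polynomial.Eval.Degree
import Mathlib.Algebra.Polynomial.BigOperators
import Mathlib.Algebra.Polynomial.Degree.Monomial
import Mathlib.Algebra.Polynomial.Taylor
import Mathlib.LinearAlgebra.Lagrange
import Mathlib.Tactic

set_option autoImplicit false
universe u v
open Polynomial
open BddFin

namespace Groth.Agent.S15172

theorem key (L : Type u) [Field L] (p : ℕ) [Fact p.Prime] [CharP L p] (s : Finset L) (h0 : (0 : L) ∈ s)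
    (hadd : ∀ a ∈ s, ∀ b ∈ s, a + b ∈ s) :
    ((∏ a ∈ s, (X - C a)).map (C : L →+* L[X])).comp (X + C X) =
      (∏ a ∈ s, (X - C a)).map (C : L →+* L[X]) + C (∏ a ∈ s, (X - C a)) := by
  classical
  set P : L[X] := ∏ a ∈ s, (X - C a) with hP
  have hPm : P.Monic := monic_prod_X_sub_C _ _
  have hPd : P.natDegree = s.card := natDegree_finsetProd_X_sub_C_eq_card s id
  have hs : 1 ≤ s.card := Finset.card_pos.mpr ⟨0, h0⟩
  have hper : ∀ a ∈ s, P.comp (X + C a) = P := by
    intro a ha
    rw [hP, prod_comp]
    have him : s.image (fun b => b + a) = s :=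
      Finset.eq_of_subset_of_card_le (Finset.image_subset_iff.mpr fun b hb => hadd b hb a ha)
        (by rw [Finset.card_image_of_injective _ (add_left_injective a)])
    conv_lhs => rw [← him]
    rw [Finset.prod_image (fun _ _ _ _ h => add_left_injective a h)]
    refine Finset.prod_congr rfl fun b _ => ?_
    simp only [C_add, sub_comp, add_comp, X_comp, C_comp]; ring
  set PP := P.map (C : L →+* L[X]) with hPP
  set D := PP.comp (X + C X) - (PP + C P) with hD
  rw [← sub_eq_zero]
  apply eq_zero_of_degree_lt_of_eval_index_eq_zero (s := s) (v := fun a => (C a : L[X]))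
      (fun _ _ _ _ h => C_injective h)
  · show D.degree < (s.card : WithBot ℕ)
    rw [degree_lt_iff_coeff_zero]
    intro m hm
    have hPPm : PP.Monic := hPm.map _
    have hPPd : PP.natDegree = s.card := by rw [hPP, hPm.natDegree_map, hPd]
    have hcd : (PP.comp (X + C X)).natDegree = s.card := by
      rw [natDegree_comp, natDegree_X_add_C, mul_one, hPPd]
    have hcm : (PP.comp (X + C X)).Monic := hPPm.comp_X_add_C _
    rw [hD, coeff_sub, coeff_add, coeff_C, if_neg (by omega), add_zero]
    rcases eq_or_lt_of_le hm with h | h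
    · rw [← h]
      conv_lhs => arg 1; rw [← hcd, hcm.coeff_natDegree]
      rw [← hPPd, hPPm.coeff_natDegree, sub_self]
    · rw [coeff_eq_zero_of_natDegree_lt (by omega), coeff_eq_zero_of_natDegree_lt (by omega), sub_self]
  · intro a ha
    have e1 : P.eval₂ (C : L →+* L[X]) (C a + X) = P := by
      conv_rhs => rw [← hper a ha]
      rw [comp, add_comm]
    have e2 : eval a P = 0 := by
      rw [hP, eval_prod]
      exact Finset.prod_eq_zero ha (by simp)
    show eval (C a) D = 0
    simp only [hD, eval_sub, eval_add, eval_comp, eval_X, eval_C, hPP, eval_map, e1, eval₂_at_apply, e2,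
      map_zero, zero_add, sub_self]

/-- Let L be a field of characteristic p > 0 and s a finite subset of L containing 0 and closed under
addition (a finite additive subgroup). Then the polynomial f = ∏_{a ∈ s} (X - a) is additive: f (x +
y) = f x + f y for all x, y in any commutative L-algebra (equivalently, as an identity of
polynomials in two variables). -/
theorem result
    (L : Type u) [Field L] (p : ℕ) [Fact p.Prime] [CharP L p] (s : Finset L) (h0 : (0 : L) ∈ s)
    (hadd : ∀ a ∈ s, ∀ b ∈ s, a + b ∈ s) (R : Type v) [CommRing R] [Algebra L R] (x y : R) :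
    aeval (x + y) (∏ a ∈ s, (X - C a)) = aeval x (∏ a ∈ s, (X - C a)) + aeval y (∏ a ∈ s, (X - C a)) := by
  have h := congrArg (fun Q : L[X][X] => Polynomial.eval₂ (aeval y : L[X] →ₐ[L] R).toRingHom x Q) (key L p s h0 hadd)
  have hc : (aeval y : L[X] →ₐ[L] R).toRingHom.comp C = algebraMap L R := by
    ext; simp
  simp only [eval₂_comp, eval₂_add, eval₂_map, eval₂_X, eval₂_C, hc] at h
  simpa [aeval_def, eval₂_finsetProd] using h

end Groth.Agent.S15172
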