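import Groth.Statements.S15173
import Mathlib.GroupTheory.Index
import Mathlib.GroupTheory.FiniteAbelian.Basic
import Mathlib.RingTheory.LittleWedderburn
import Mathlib.Algebra.CharP.Lemmas
import Mathlib.Algebra.CharP.Algebra
import Mathlib.LinearAlgebra.FiniteDimensional.Basic
import Mathlib.Tactic

set_option autoImplicit false
universe u v
open Polynomial
open BddFin

namespace Groth.Agent.S15173

/-- Let K be a field of characteristic p > 0 such that K contains all roots of unity (for every n ≥ 1
the polynomial X^n − 1 splits into linear factors over K), and A a finite-dimensional central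
division algebra over K. If A contains an element w not in K with w ^ p in K, then the quotient of
the unit group of A by that of K has unbounded finite subgroups: for every N there is a subgroup H
of the units of A containing the units of K as a subgroup of finite index greater than N. (The
published statement assumes only that some element of A is inseparable over K and passes at once to
a purely inseparable subfield of degree p; this row assumes an element generating such a subfield
directly, which is what the rest of the printed argument uses.) -/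
theorem result
    (K : Type u) [Field K] (p : ℕ) [Fact p.Prime] [CharP K p] (hK : ∀ n : ℕ, 0 < n → (X ^ n - 1 : K[X]).Splits)
    (A : Type v) [DivisionRing A] [Algebra K A] [Algebra.IsCentral K A] [FiniteDimensional K A]
    (w : A) (hw : w ^ p ∈ (algebraMap K A).range) (hwK : w ∉ (algebraMap K A).range) (N : ℕ) :
    ∃ H : Subgroup Aˣ, (Units.map (algebraMap K A : K →* A)).range ≤ H ∧
      N < ((Units.map (algebraMap K A : K →* A)).range).relIndex H := by
  classical
  haveI hKi : Infinite K := by
    by_contra hfin
    rw [not_infinite_iff_finite] at hfin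
    haveI : Finite A := Module.finite_of_finite K
    letI : Field A := littleWedderburn A
    apply hwK
    have : w ∈ Subalgebra.center K A := Subalgebra.mem_center_iff.mpr fun y => mul_comm y w
    obtain ⟨k, hk⟩ := Algebra.mem_bot.mp (Algebra.IsCentral.out this)
    exact ⟨k, hk⟩
  haveI : CharP A p := charP_of_injective_algebraMap (algebraMap K A).injective p
  have hw0 : ∀ c : K, w + algebraMap K A c ≠ 0 := fun c h =>
    hwK ⟨-c, by rw [map_neg]; exact (eq_neg_of_add_eq_zero_left h).symm⟩
  set Z : Subgroup Aˣ := (Units.map (algebraMap K A : K →* A)).range with hZ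
  have hcen : ∀ z ∈ Z, ∀ y : Aˣ, Commute z y := by
    rintro _ ⟨k, rfl⟩ y
    exact Units.ext (Algebra.commutes (k : K) (y : A))
  haveI : Z.Normal := ⟨fun z hz g => by rwa [← (hcen z hz g).eq, mul_inv_cancel_right]⟩
  obtain ⟨t, ht⟩ := Infinite.exists_subset_card_eq K (N + 1)
  let el : K → Aˣ := fun c => Units.mk0 _ (hw0 c)
  have hcomm : ∀ a b : K, el a * el b = el b * el a := by
    intro a b
    apply Units.ext
    show (w + algebraMap K A a) * (w + algebraMap K A b) = (w + algebraMap K A b) * (w + algebraMap K A a)
    have c1 : Commute w (algebraMap K A a) := Algebra.commute_algebraMap_right a w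
    have c2 : Commute w (algebraMap K A b) := Algebra.commute_algebraMap_right b w
    simp only [mul_add, add_mul, c1.eq, c2.eq, ← map_mul, mul_comm b a]
    abel
  let Q := Aˣ ⧸ Z
  let S : Subgroup Q := Subgroup.closure ((fun c => QuotientGroup.mk' Z (el c)) '' (t : Set K))
  refine ⟨S.comap (QuotientGroup.mk' Z), ?_, ?_⟩
  · intro z hz
    show QuotientGroup.mk' Z z ∈ S
    rw [show QuotientGroup.mk' Z z = 1 from (QuotientGroup.eq_one_iff z).mpr hz]
    exact one_mem _
  have hidx : Z.relIndex (S.comap (QuotientGroup.mk' Z)) = Nat.card S := by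
    have hker : Z = (⊥ : Subgroup Q).comap (QuotientGroup.mk' Z) := by
      rw [MonoidHom.comap_bot, QuotientGroup.ker_mk']
    conv_lhs => arg 1; rw [hker]
    rw [Subgroup.relIndex_comap, Subgroup.map_comap_eq_self_of_surjective (QuotientGroup.mk'_surjective Z),
      Subgroup.relIndex_bot_left]
  rw [hidx]
  haveI : IsMulCommutative S := Subgroup.isMulCommutative_closure (by
    rintro _ ⟨a, -, rfl⟩ _ ⟨b, -, rfl⟩
    rw [← map_mul, ← map_mul, hcomm])
  letI : CommGroup S := IsMulCommutative.instCommGroup
  haveI : Group.FG S := (Group.fg_iff_subgroup_fg S).mpr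
    (Subgroup.fg_iff _ |>.mpr ⟨_, rfl, (t.finite_toSet.image _)⟩)
  have hexp : ∀ g ∈ S, g ^ p = 1 := by
    intro g hg
    induction hg using Subgroup.closure_induction with
    | mem g hg =>
      obtain ⟨c, -, rfl⟩ := hg
      rw [← map_pow]
      refine (QuotientGroup.eq_one_iff _).mpr ?_
      obtain ⟨k, hk⟩ := hw
      have hk0 : k + c ^ p ≠ 0 := by
        intro h
        apply pow_ne_zero p (hw0 c)
        rw [add_pow_char_of_commute p (Algebra.commute_algebraMap_right c w), ← hk, ← map_pow, ← map_add, h, map_zero]
      refine ⟨Units.mk0 _ hk0, Units.ext ?_⟩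
      show algebraMap K A (k + c ^ p) = (w + algebraMap K A c) ^ p
      rw [add_pow_char_of_commute p (Algebra.commute_algebraMap_right c w), ← hk, ← map_pow, ← map_add]
    | one => exact one_pow p
    | mul x y hx hy ihx ihy =>
      have hc : Commute x y := congrArg Subtype.val (mul_comm (⟨x, hx⟩ : S) ⟨y, hy⟩)
      rw [hc.mul_pow, ihx, ihy, one_mul]
    | inv x _ ihx => rw [inv_pow, ihx, inv_one]
  haveI : Finite S := CommGroup.finite_of_fg_isMulTorsion S fun g =>
    isOfFinOrder_iff_pow_eq_one.mpr ⟨p, (Fact.out : p.Prime).pos, Subtype.ext (by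
      rw [SubmonoidClass.coe_pow]; exact hexp g g.2)⟩
  let F : t → S := fun c => ⟨QuotientGroup.mk' Z (el c), Subgroup.subset_closure ⟨c, c.2, rfl⟩⟩
  have hF : Function.Injective F := by
    intro a b hab
    have h : (el a)⁻¹ * el b ∈ Z := QuotientGroup.eq.mp (congrArg Subtype.val hab)
    obtain ⟨k, hk⟩ := h
    have h2' : el b = el a * Units.map (algebraMap K A : K →* A) k := by rw [hk, mul_inv_cancel_left]
    have h2 : (el b : A) = (el a : A) * algebraMap K A (k : K) := congrArg Units.val h2'
    have h3 : w + algebraMap K A (b : K) = (w + algebraMap K A (a : K)) * algebraMap K A (k : K) := h2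
    by_contra hne
    apply hwK
    have h4 : algebraMap K A (1 - (k : K)) * w = algebraMap K A ((a : K) * k - b) := by
      rw [add_mul, ← map_mul, ← (Algebra.commutes (k : K) w)] at h3
      rw [map_sub, map_one, sub_mul, one_mul, map_sub]
      linear_combination (norm := abel) h3
    have hk1 : (1 - (k : K)) ≠ 0 := by
      intro h0
      rw [h0, map_zero, zero_mul, eq_comm, map_eq_zero, ← sub_eq_zero.mp h0, mul_one, sub_eq_zero] at h4
      exact hne (Subtype.ext h4)
    refine ⟨(1 - (k : K))⁻¹ * ((a : K) * k - b), ?_⟩
    rw [map_mul, ← h4, ← mul_assoc, ← map_mul, inv_mul_cancel₀ hk1, map_one, one_mul]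
  have := Nat.card_le_card_of_injective F hF
  rw [Nat.card_eq_finsetCard, ht] at this
  omega

end Groth.Agent.S15173
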