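import Groth.Statements.S15175
import Groth.Agent.H02CA.Tori.Points

set_option autoImplicit false
universe u
open CategoryTheory MonoidalCategory CartesianMonoidalCategory MonObj GrpObj AlgebraicGeometry
open Polynomial
open BddFin

namespace Groth.Agent.S15175

/-- Let K be a field such that K contains all roots of unity (for every n ≥ 1 the polynomial X^n − 1
splits into linear factors over K), and T a K-group scheme that is an n-dimensional torus (it
becomes isomorphic, as a group scheme, to the split torus D(ℤ^n) = 𝔾_m^n after some field extension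
L of K) and is anisotropic (no homomorphism 𝔾_m → T of K-group schemes is a monomorphism, i.e. T
contains no subtorus isomorphic to 𝔾_m); T(K) is the group of sections Spec K → T. Then a torsion
element of T(K) has order invertible in K (prime to the characteristic) and at most |H| for some
finite subgroup H of GL_n(ℤ) (that is, at most Υ(n), the largest such order), and a finite subgroup
of T(K) has at most |H| ^ n elements for some finite subgroup H of GL_n(ℤ) (at most Υ(n) ^ n). (The
published corollary also records that a finite subgroup of T(K) has order prime to the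
characteristic; that follows from the first clause applied to its elements of prime order and is not
restated.) -/
theorem result
    (K : Type u) [Field K] (hK : ∀ n : ℕ, 0 < n → (X ^ n - 1 : K[X]).Splits) (n : ℕ)
    (T : Over (Spec (CommRingCat.of K))) [GrpObj T]
    (hT : ∃ (L : Type u) (_ : Field L) (_ : Algebra K L),
      Red.IsSplitTorusWith (Fin n → ℤ) (Red.bc (Spec.map (CommRingCat.ofHom (algebraMap K L))) T))
    (haniso : ∀ i : Red.Gm (Spec (CommRingCat.of K)) ⟶ T, IsMonHom i → Mono i → False) :
    (∀ x : 𝟙_ (Over (Spec (CommRingCat.of K))) ⟶ T, IsOfFinOrder x →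
        ((orderOf x : ℕ) : K) ≠ 0 ∧
        ∃ H : Subgroup (Matrix.GeneralLinearGroup (Fin n) ℤ), Finite H ∧ orderOf x ≤ Nat.card H) ∧
    (∀ G : Subgroup (𝟙_ (Over (Spec (CommRingCat.of K))) ⟶ T), Finite G →
        ∃ H : Subgroup (Matrix.GeneralLinearGroup (Fin n) ℤ), Finite H ∧ Nat.card G ≤ Nat.card H ^ n) := by
  classical
  obtain ⟨A, _, _, P, Θ, hmono⟩ := H02CA.Tori.exists_torus_data T hT
  have h : P.Aniso := by
    by_contra hn
    obtain ⟨i, hi, hm⟩ := hmono hn
    exact haniso i hi hm
  have hpow : ∀ φ : WithConv (A →ₐ[K] K), IsOfFinOrder φ → φ ^ Nat.card P.image = 1 := fun φ hφ =>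
    P.pow_card_image h (P.fixed_of_roots (pow_orderOf_eq_one φ) fun y hy =>
      H02CA.Tori.mem_range_of_splits hφ.orderOf_pos (hK _ hφ.orderOf_pos) hy)
  refine ⟨fun x hx => ⟨?_, P.image, inferInstance, ?_⟩, fun G hG => ⟨P.image, inferInstance, ?_⟩⟩
  · rw [← MulEquiv.orderOf_eq Θ]
    exact P.orderOf_cast_ne_zero (Θ.toMonoidHom.isOfFinOrder hx)
  · rw [← MulEquiv.orderOf_eq Θ]
    exact orderOf_le_of_pow_eq_one Nat.card_pos (hpow _ (Θ.toMonoidHom.isOfFinOrder hx))
  · haveI : Finite G := hG
    rw [← Subgroup.card_map_of_injective (K := G) (f := Θ.toMonoidHom) Θ.injective]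
    refine P.card_le_pow _ _ Nat.card_pos ?_
    rintro φ ⟨x, hx, rfl⟩
    exact hpow _ (Θ.toMonoidHom.isOfFinOrder (H02CA.Tori.isOfFinOrder_of_mem G hx))


end Groth.Agent.S15175
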