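import Groth.Statements.S15176
import Groth.Agent.H02CA.Tori.Points

set_option autoImplicit false
universe u
open CategoryTheory MonoidalCategory CartesianMonoidalCategory MonObj GrpObj AlgebraicGeometry
open Polynomial
open BddFin

namespace Groth.Agent.S15176

/-- Let K be a field such that K contains all roots of unity (for every n ≥ 1 the polynomial X^n − 1
splits into linear factors over K), and T a K-group scheme that is a 2-dimensional torus (it becomes
isomorphic, as a group scheme, to the split torus D(ℤ^2) = 𝔾_m^2 after some field extension L of K)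
and is anisotropic (no homomorphism 𝔾_m → T of K-group schemes is a monomorphism, i.e. T contains no
subtorus isomorphic to 𝔾_m); T(K) is the group of sections Spec K → T. Then torsion elements of T(K)
have order ≤ 6, and finite subgroups of T(K) have at most 36 elements. -/
theorem result
    (K : Type u) [Field K] (hK : ∀ n : ℕ, 0 < n → (X ^ n - 1 : K[X]).Splits)
    (T : Over (Spec (CommRingCat.of K))) [GrpObj T]
    (hT : ∃ (L : Type u) (_ : Field L) (_ : Algebra K L),
      Red.IsSplitTorusWith (Fin 2 → ℤ) (Red.bc (Spec.map (CommRingCat.ofHom (algebraMap K L))) T))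
    (haniso : ∀ i : Red.Gm (Spec (CommRingCat.of K)) ⟶ T, IsMonHom i → Mono i → False) :
    (∀ x : 𝟙_ (Over (Spec (CommRingCat.of K))) ⟶ T, IsOfFinOrder x → orderOf x ≤ 6) ∧
    (∀ G : Subgroup (𝟙_ (Over (Spec (CommRingCat.of K))) ⟶ T), Finite G → Nat.card G ≤ 36) := by
  classical
  obtain ⟨A, _, _, P, Θ, hmono⟩ := H02CA.Tori.exists_torus_data T hT
  have h : P.Aniso := by
    by_contra hn
    obtain ⟨i, hi, hm⟩ := hmono hn
    exact haniso i hi hm
  obtain ⟨N, hN0, hN4, hN⟩ := P.exists_exponent_two h
  have hpow : ∀ φ : WithConv (A →ₐ[K] K), IsOfFinOrder φ → φ ^ N = 1 := fun φ hφ =>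
    hN φ (P.fixed_of_roots (pow_orderOf_eq_one φ) fun y hy =>
      H02CA.Tori.mem_range_of_splits hφ.orderOf_pos (hK _ hφ.orderOf_pos) hy)
  refine ⟨fun x hx => ?_, fun G hG => ?_⟩
  · rw [← MulEquiv.orderOf_eq Θ]
    exact (orderOf_le_of_pow_eq_one hN0 (hpow _ (Θ.toMonoidHom.isOfFinOrder hx))).trans (by omega)
  · haveI : Finite G := hG
    rw [← Subgroup.card_map_of_injective (K := G) (f := Θ.toMonoidHom) Θ.injective]
    refine (P.card_le_pow _ N hN0 ?_).trans ((Nat.pow_le_pow_left hN4 2).trans (by norm_num))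
    rintro φ ⟨x, hx, rfl⟩
    exact hpow _ (Θ.toMonoidHom.isOfFinOrder (H02CA.Tori.isOfFinOrder_of_mem G hx))


end Groth.Agent.S15176
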