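import Groth.Statements.S15177
import Groth.Agent.H20Comod.UniPow

set_option autoImplicit false
universe u v
open BddFin

namespace Groth.Agent.S15177

/-- Let K be a field and Γ a unipotent linear algebraic group over K, given here by its coordinate Hopf
algebra A (a finitely generated, formally smooth commutative Hopf algebra over K all of whose
non-zero finite-dimensional comodules have a non-zero fixed vector). Then the group Γ(K) of K-points
(K-algebra maps A → K under convolution) has no non-trivial element of finite order coprime to the
characteristic of K: an element of finite order whose order is non-zero in K is the identity. -/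
theorem result
    (K : Type u) [Field K] (A : Type v) [CommRing A] [HopfAlgebra K A] [Algebra.FiniteType K A]
    [Algebra.FormallySmooth K A] (hU : HopfRep.IsUnipotent K A)
    (g : WithConv (A →ₐ[K] K)) (hg : IsOfFinOrder g) (hcop : ((orderOf g : ℕ) : K) ≠ 0) : g = 1 := by
  obtain ⟨p, _⟩ := CharP.exists K
  rcases Nat.eq_zero_or_pos p with hp | hp
  · subst hp
    haveI : CharZero K := CharP.charP_to_charZero K
    refine (Groth.Agent.H20Comod.pow_bijective_of_charZero hU (orderOf g) hg.orderOf_pos.ne').1 ?_
    show g ^ orderOf g = 1 ^ orderOf g
    rw [one_pow, pow_orderOf_eq_one]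
  · haveI : NeZero p := ⟨hp.ne'⟩
    haveI : Fact p.Prime := CharP.char_is_prime_of_pos K p
    obtain ⟨m, hm⟩ := Groth.Agent.H20Comod.exists_pow_char_pow_eq_one (k := K) (A := A) (S := K) hU p
    have h1 : orderOf g ∣ p ^ m := orderOf_dvd_of_pow_eq_one (hm g)
    obtain ⟨i, -, hi⟩ := (Nat.dvd_prime_pow (Fact.out : p.Prime)).1 h1
    rcases i with _ | i
    · exact orderOf_eq_one_iff.1 (by rw [hi, pow_zero])
    · exfalso
      refine hcop ?_
      rw [hi, pow_succ, Nat.cast_mul, CharP.cast_eq_zero K p, mul_zero]

end Groth.Agent.S15177
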