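import Groth.Statements.S15178
import Groth.Agent.H02CA.GQSmooth.Main
import Groth.Agent.H20GQ.Quot
import Groth.Agent.H20GQ.Fppf

set_option autoImplicit false
universe u
open CategoryTheory MonoidalCategory CartesianMonoidalCategory MonObj GrpObj AlgebraicGeometry
open BddFin

namespace Groth.Agent.S15178

/-- Let K be a field, Γ a smooth algebraic group over K (a smooth K-group scheme of finite type), X an
integral separated K-scheme of finite type with an action of Γ, and π : X → Y a geometric quotient
of X by Γ over K (π is Γ-invariant and surjective, Γ × X → X ×_Y X is surjective, π is universally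
submersive, and the functions on Y are the invariant functions on X). Then π is generically smooth:
the fibre of π over the generic point η of Y is smooth over the residue field κ(η). (The quotient
notion used here asks for universal submersiveness, where the published definition asks only for
submersiveness; the row is the corresponding case.) -/
theorem result
    (K : Type u) [Field K]
    (Γ X Y : Over (Spec (CommRingCat.of K))) [GrpObj Γ]
    [Smooth Γ.hom] [LocallyOfFiniteType Γ.hom] [QuasiCompact Γ.hom]
    [IsIntegral X.left] [LocallyOfFiniteType X.hom] [QuasiCompact X.hom] [IsSeparated X.hom]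
    (a : AlgGrp.Action Γ X) (π : X ⟶ Y) (hπ : GIT.IsGeomQuot a π) [IrreducibleSpace Y.left] :
    Smooth (π.left.fiberToSpecResidueField (genericPoint Y.left)) := by
  haveI : LocallyOfFiniteType π.left := by
    haveI : LocallyOfFiniteType (π.left ≫ Y.hom) := by rw [Over.w π]; infer_instance
    exact locallyOfFiniteType_of_comp π.left Y.hom
  have hpb : IsPullback (snd Γ X).left (fst Γ X).left X.hom Γ.hom :=
    (IsPullback.of_hasPullback Γ.hom X.hom).flip
  haveI : Smooth (snd Γ X).left := MorphismProperty.of_isPullback hpb.flip inferInstance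
  -- the action is the projection composed with the shear automorphism
  let e : Γ ⊗ X ⟶ Γ ⊗ X := lift (fst Γ X) a.act
  let e' : Γ ⊗ X ⟶ Γ ⊗ X := lift (fst Γ X) (lift (fst Γ X)⁻¹ (snd Γ X) ≫ a.act)
  haveI : IsIso e := by
    refine ⟨⟨e', ?_, ?_⟩⟩ <;> (apply CartesianMonoidalCategory.hom_ext)
    · simp [e, e']
    · simp only [e, e', Category.id_comp, Category.assoc, lift_snd]
      rw [← Category.assoc, comp_lift, lift_snd, GrpObj.comp_inv, lift_fst,
        show lift (fst Γ X)⁻¹ a.act = lift (fst Γ X)⁻¹ (lift (fst Γ X) (snd Γ X) ≫ a.act) by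
          rw [lift_fst_snd, Category.id_comp],
        ← Groth.Agent.H20GQ.act_mul (a := a), inv_mul_cancel, Groth.Agent.H20GQ.act_one (a := a)]
    · simp [e, e']
    · simp only [e, e', Category.id_comp, Category.assoc, lift_snd]
      rw [← Groth.Agent.H20GQ.act_mul (a := a), mul_inv_cancel, Groth.Agent.H20GQ.act_one (a := a)]
  haveI : Smooth a.act.left := by
    haveI : IsIso e.left := inferInstanceAs (IsIso ((Over.forget _).map e))
    rw [show a.act = e ≫ snd Γ X from (lift_snd _ _).symm, Over.comp_left]
    infer_instance
  exact Groth.Agent.H02CA.GQSmooth.smooth_fiber_genericPoint π.left a.act.left (snd Γ X).left hπ.inv.left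
    hπ.surj (fun x x' h => by
      obtain ⟨q, hq₁, hq₂⟩ := Scheme.Pullback.exists_preimage_pullback (f := π.left) (g := π.left) x x' h
      obtain ⟨w, hw⟩ := hπ.orbit q
      refine ⟨w, ?_, ?_⟩
      · rw [← hq₁, ← hw, ← Scheme.Hom.comp_apply, GIT.PsiY, Limits.pullback.lift_fst]
      · rw [← hq₂, ← hw, ← Scheme.Hom.comp_apply, GIT.PsiY, Limits.pullback.lift_snd])
    (Groth.Agent.H20GQ.isQuotientMap_of_univSubmersive hπ.subm) (fun U => (hπ.sections U).1)
    (fun U f hf => by
      have : f ∈ Set.range (π.left.app U) := by rw [(hπ.sections U).2]; exact hf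
      exact this)

end Groth.Agent.S15178
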