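import Groth.Statements.S15179
import Groth.Agent.H26Misc.ConicAut
import Mathlib.RingTheory.AdjoinRoot
import Mathlib.Tactic

set_option autoImplicit false
universe u
attribute [local instance] MvPolynomial.gradedAlgebra
open BddFin

namespace Groth.Agent.S15179

theorem expand_quadratic {K : Type u} [Field K] {q : MvPolynomial (Fin 2) K} (hq : q.IsHomogeneous 2) :
    q = MvPolynomial.C (q.coeff (Finsupp.single 0 2)) * MvPolynomial.X 0 ^ 2 +
      MvPolynomial.C (q.coeff (Finsupp.single 0 1 + Finsupp.single 1 1)) * (MvPolynomial.X 0 * MvPolynomial.X 1) +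
      MvPolynomial.C (q.coeff (Finsupp.single 1 2)) * MvPolynomial.X 1 ^ 2 := by
  classical
  have e1 : (MvPolynomial.X 0 * MvPolynomial.X 1 : MvPolynomial (Fin 2) K) =
      MvPolynomial.monomial (Finsupp.single 0 1 + Finsupp.single 1 1) 1 := by
    rw [MvPolynomial.X, MvPolynomial.X, MvPolynomial.monomial_mul, one_mul]
  simp only [MvPolynomial.X_pow_eq_monomial, e1, MvPolynomial.C_mul_monomial, mul_one]
  refine MvPolynomial.ext _ _ fun e => ?_
  simp only [MvPolynomial.coeff_add, MvPolynomial.coeff_monomial]
  have hext : ∀ a b : Fin 2 →₀ ℕ, a = b ↔ a 0 = b 0 ∧ a 1 = b 1 := fun a b =>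
    ⟨fun h => h ▸ ⟨rfl, rfl⟩, fun h => Finsupp.ext fun i => by fin_cases i <;> [exact h.1; exact h.2]⟩
  by_cases he : e 0 + e 1 = 2
  · obtain ⟨h0, h1⟩ | ⟨h0, h1⟩ | ⟨h0, h1⟩ : (e 0 = 2 ∧ e 1 = 0) ∨ (e 0 = 1 ∧ e 1 = 1) ∨ (e 0 = 0 ∧ e 1 = 2) := by omega
    · obtain rfl : e = Finsupp.single 0 2 := (hext _ _).mpr ⟨by simpa using h0, by simpa using h1⟩
      simp [hext]
    · obtain rfl : e = Finsupp.single 0 1 + Finsupp.single 1 1 := (hext _ _).mpr ⟨by simpa using h0, by simpa using h1⟩
      simp [hext]
    · obtain rfl : e = Finsupp.single 1 2 := (hext _ _).mpr ⟨by simpa using h0, by simpa using h1⟩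
      simp [hext]
  · have h0 : q.coeff e = 0 := hq.coeff_eq_zero (by rw [Finsupp.degree_eq_sum, Fin.sum_univ_two]; exact he)
    rw [h0, if_neg, if_neg, if_neg] <;> first | simp | (intro h; rw [hext] at h; simp at h; omega)

theorem not_isUnit_of_constantCoeff {K : Type u} [Field K] {p : MvPolynomial (Fin 2) K}
    (hp : MvPolynomial.constantCoeff p = 0) : ¬ IsUnit p := fun h =>
  not_isUnit_zero (hp ▸ h.map MvPolynomial.constantCoeff)

/-- Let K be a field such that K contains all roots of unity (for every n ≥ 1 the polynomial X^n − 1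
splits into linear factors over K). Let q be an irreducible binary quadratic form over K with
non-zero discriminant, so that its zero locus in the projective line over K is a single closed point
with separable quadratic residue field over K (a pair of distinct conjugate geometric points), and
let U be the complement of that point: the affine curve whose coordinate ring is the ring of
degree-0 fractions f / q ^ k (f a binary form of degree 2k). Then for every finite group G of
K-automorphisms of U (K-linear ring automorphisms of its coordinate ring), every g ∈ G satisfies g ^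
2 = 1 and G has at most 4 elements. -/
theorem result
    (K : Type u) [Field K] (hK : ∀ n : ℕ, 0 < n → (Polynomial.X ^ n - 1 : Polynomial K).Splits)
    (q : MvPolynomial (Fin 2) K) (hq : q.IsHomogeneous 2) (hirr : Irreducible q)
    (hdisc : (q.coeff (Finsupp.single 0 1 + Finsupp.single 1 1)) ^ 2 -
      4 * q.coeff (Finsupp.single 0 2) * q.coeff (Finsupp.single 1 2) ≠ 0)
    (G : Subgroup (HomogeneousLocalization.Away (MvPolynomial.homogeneousSubmodule (Fin 2) K) q ≃+* HomogeneousLocalization.Away (MvPolynomial.homogeneousSubmodule (Fin 2) K) q)) [Finite G]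
    (hG : ∀ g ∈ G, ∀ (k : K) (z : HomogeneousLocalization.Away (MvPolynomial.homogeneousSubmodule (Fin 2) K) q), g (k • z) = k • g z) :
    (∀ g ∈ G, g ^ 2 = 1) ∧ Nat.card G ≤ 4 := by
  classical
  set A := q.coeff (Finsupp.single 0 2) with hAdef
  set B := q.coeff (Finsupp.single 0 1 + Finsupp.single 1 1) with hBdef
  set D := q.coeff (Finsupp.single 1 2) with hDdef
  have he := expand_quadratic hq
  rw [← hAdef, ← hBdef, ← hDdef] at he
  have hA : A ≠ 0 := by
    intro h
    have h2 : q = MvPolynomial.X 1 * (MvPolynomial.C B * MvPolynomial.X 0 + MvPolynomial.C D * MvPolynomial.X 1) := by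
      rw [he, h, map_zero]; ring
    rcases hirr.isUnit_or_isUnit h2 with h3 | h3
    · exact not_isUnit_of_constantCoeff (by simp) h3
    · exact not_isUnit_of_constantCoeff (by simp) h3
  set β := B / A with hβ
  set γ := D / A with hγ
  let f : Polynomial K := Polynomial.X ^ 2 + Polynomial.C β * Polynomial.X + Polynomial.C γ
  have hfm : f.Monic := by unfold f; monicity!
  have hfd : f.natDegree = 2 := by unfold f; compute_degree!
  have hirrf : Irreducible f := by
    rw [hfm.irreducible_iff_roots_eq_zero_of_degree_le_three (by omega) (by omega)]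
    refine Multiset.eq_zero_of_forall_notMem fun r hr => ?_
    rw [Polynomial.mem_roots hfm.ne_zero] at hr
    have hr' : A * r ^ 2 + B * r + D = 0 := by
      have : r ^ 2 + β * r + γ = 0 := by simpa [Polynomial.IsRoot, f] using hr
      rw [hβ, hγ] at this
      field_simp at this
      linear_combination this
    have h2 : q = (MvPolynomial.X 0 - MvPolynomial.C r * MvPolynomial.X 1) *
        (MvPolynomial.C A * MvPolynomial.X 0 + MvPolynomial.C (A * r + B) * MvPolynomial.X 1) := by
      have hD : D = -(A * r ^ 2 + B * r) := by linear_combination hr'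
      rw [he, hD]
      simp only [map_neg, map_add, map_mul, map_pow]
      ring
    rcases hirr.isUnit_or_isUnit h2 with h3 | h3
    · exact not_isUnit_of_constantCoeff (by simp) h3
    · exact not_isUnit_of_constantCoeff (by simp) h3
  haveI : Fact (Irreducible f) := ⟨hirrf⟩
  let L := AdjoinRoot f
  let ω : L := AdjoinRoot.root f
  have hω : ω * ω + algebraMap K L β * ω + algebraMap K L γ = 0 := by
    have h : Polynomial.eval₂ (algebraMap K L) ω f = 0 := AdjoinRoot.eval₂_root f
    simpa [f, sq] using h
  let ω' : L := -algebraMap K L β - ω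
  let σ : L →ₐ[K] L := AdjoinRoot.liftAlgHom f (Algebra.ofId K L) ω' (by
    show Polynomial.eval₂ (algebraMap K L) ω' f = 0
    simp only [f, ω', Polynomial.eval₂_add, Polynomial.eval₂_mul, Polynomial.eval₂_pow, Polynomial.eval₂_X, Polynomial.eval₂_C]
    linear_combination hω)
  have hne : ω ≠ ω' := by
    intro h
    apply hdisc
    show B ^ 2 - 4 * A * D = 0
    have h2 : algebraMap K L (β ^ 2 - 4 * γ) = 0 := by
      have h3 : 2 * ω + algebraMap K L β = 0 := by
        simp only [ω'] at h; linear_combination h
      simp only [map_sub, map_mul, map_pow, map_ofNat]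
      linear_combination (-4 : L) * hω + (2 * ω + algebraMap K L β) * h3
    rw [map_eq_zero, hβ, hγ] at h2
    field_simp at h2
    linear_combination h2
  have hdec : ∀ l : L, ∃ a b : K, l = algebraMap K L a + algebraMap K L b * ω := by
    intro l
    induction l using AdjoinRoot.induction_on with
    | ih p =>
      refine ⟨(p %ₘ f).coeff 0, (p %ₘ f).coeff 1, ?_⟩
      have h1 : AdjoinRoot.mk f p = AdjoinRoot.mk f (p %ₘ f) := by
        rw [AdjoinRoot.mk_eq_mk]; exact Dvd.intro _ (eq_sub_of_add_eq' (Polynomial.modByMonic_add_div p f))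
      have h2 : p %ₘ f = Polynomial.C ((p %ₘ f).coeff 1) * Polynomial.X + Polynomial.C ((p %ₘ f).coeff 0) :=
        Polynomial.eq_X_add_C_of_natDegree_le_one (by
          have := Polynomial.natDegree_modByMonic_lt p hfm (fun h => by rw [h] at hfd; simp at hfd)
          omega)
      rw [h1]
      conv_lhs => rw [h2, map_add, map_mul, AdjoinRoot.mk_C, AdjoinRoot.mk_C, AdjoinRoot.mk_X]
      rw [add_comm, AdjoinRoot.algebraMap_eq]
  refine H26Misc.ConicAut.main hK σ ω ω' β γ A hA hω rfl (AdjoinRoot.liftAlgHom_root _ _ _ _) hne hdec q ?_ hq G hG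
  conv_lhs => rw [he]
  have eB : B = A * β := by rw [hβ]; field_simp
  have eD : D = A * γ := by rw [hγ]; field_simp
  rw [eB, eD, map_mul, map_mul]; ring

end Groth.Agent.S15179
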