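import Groth.Statements.S15180
import Groth.Agent.H02CA.GaGmQuotient

set_option autoImplicit false
set_option linter.style.haveILetI false
universe u
open CategoryTheory MonoidalCategory CartesianMonoidalCategory MonObj GrpObj AlgebraicGeometry
open BddFin

namespace Groth.Agent.S15180

open Groth.Agent.H02CA Groth.Agent.H19Grp
open Groth.Agent.H19Grp.AffineLineLaw (T Tmap)

variable {k : Type u} [Field k] {G H : Over (Spec (CommRingCat.of k))} [GrpObj G] [GrpObj H]

theorem additive_case (e : G ≅ Red.Ga (Spec (CommRingCat.of k))) [IsMonHom e.hom]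
    (i : H ⟶ G) [IsMonHom i] [Mono i] [IsFinite H.hom] :
    ∃ φ : G ⟶ G, IsMonHom φ ∧ AlgGrp.IsKernel i φ ∧ Flat φ.left ∧ Surjective φ.left := by
  obtain ⟨c, -, hlaw⟩ := AffineLineLaw.add_law (k := k) inferInstance
  let u0 : T k (Polynomial k) ⟶ Red.Ga (Spec (CommRingCat.of k)) :=
    AffineLineLaw.pt (Polynomial.X + Polynomial.C c)
  have hv : ∀ (R : Type u) [CommRing R] [Algebra k R] (χ : Polynomial k →ₐ[k] R),
      AffineLineLaw.val (Tmap χ ≫ u0) = χ Polynomial.X + algebraMap k R c := fun R _ _ χ => by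
    rw [AffineLineLaw.val_comp, AffineLineLaw.val_pt, map_add]
    congr 1
    exact χ.commutes c
  haveI : IsIso u0 := by
    haveI : IsAffine (Red.Ga (Spec (CommRingCat.of k))).left := by
      haveI : IsAffine (Red.GaZ.{u}).left := inferInstanceAs (IsAffine (Spec _))
      dsimp [Red.Ga, Red.bc]; infer_instance
    refine GaGm.isIso_of_bijective_points u0 fun R _ _ => ⟨fun χ χ' h => ?_, fun x => ?_⟩
    · refine Polynomial.algHom_ext ?_
      have := congrArg AffineLineLaw.val h
      rwa [hv, hv, add_left_inj] at this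
    · refine ⟨Polynomial.aeval (AffineLineLaw.val x - algebraMap k R c), AffineLineLaw.val_injective ?_⟩
      rw [hv]; simp
  refine GaGm.exists_quotient_additive (asIso u0 ≪≫ e.symm) (fun R _ _ χ χ' χ'' => ?_) i
  have key : ∀ a b : T k R ⟶ G, (a * b) ≫ e.hom = (a ≫ e.hom) * (b ≫ e.hom) := fun a b => MonObj.mul_comp a b e.hom
  have hu : ∀ χ : Polynomial k →ₐ[k] R, (Tmap χ ≫ (asIso u0 ≪≫ e.symm).hom) ≫ e.hom = Tmap χ ≫ u0 := fun χ => by simp
  constructor
  · intro h
    have h1 := congrArg (fun z => AffineLineLaw.val (z ≫ e.hom)) h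
    rw [key, hu, hu, hu, Hom.mul_def, hlaw, hv, hv, hv] at h1
    linear_combination h1
  · intro h
    refine (cancel_mono e.hom).mp (AffineLineLaw.val_injective ?_)
    rw [key, hu, hu, hu, Hom.mul_def, hlaw, hv, hv, hv]
    linear_combination h

theorem multiplicative_case (e : G ≅ Red.Gm (Spec (CommRingCat.of k))) [IsMonHom e.hom]
    (i : H ⟶ G) [IsMonHom i] [Mono i] [IsFinite H.hom] :
    ∃ φ : G ⟶ G, IsMonHom φ ∧ AlgGrp.IsKernel i φ ∧ Flat φ.left ∧ Surjective φ.left := by
  obtain ⟨c, -, hlaw⟩ := PuncturedLineLaw.mul_law (k := k) inferInstance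
  let u0 : T k (LaurentPolynomial k) ⟶ Red.Gm (Spec (CommRingCat.of k)) :=
    PuncturedLineLaw.pt ((LaurentPolynomial.isUnit_T 1).unit *
      Units.map (algebraMap k (LaurentPolynomial k)).toMonoidHom c)
  have hv : ∀ (R : Type u) [CommRing R] [Algebra k R] (χ : LaurentPolynomial k →ₐ[k] R),
      (PuncturedLineLaw.val (Tmap χ ≫ u0) : R) = χ (LaurentPolynomial.T 1) * algebraMap k R c := fun R _ _ χ => by
    rw [PuncturedLineLaw.val_comp, PuncturedLineLaw.val_pt]
    simp only [Units.coe_map, Units.val_mul, IsUnit.unit_spec, MonoidHom.coe_coe, RingHom.toMonoidHom_eq_coe, map_mul, AlgHom.toRingHom_eq_coe, RingHom.coe_coe, AlgHom.commutes]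
  haveI : IsIso u0 := by
    haveI : IsAffine (Red.Gm (Spec (CommRingCat.of k))).left := by
      haveI : IsAffine (Red.diag (ULift.{u} ℤ) ℤ).left := inferInstanceAs (IsAffine (Spec _))
      dsimp [Red.Gm, Red.DS, Red.bc]; infer_instance
    refine GaGm.isIso_of_bijective_points u0 fun R _ _ => ⟨fun χ χ' h => ?_, fun x => ?_⟩
    · refine GaGm.laurent_ext ?_
      have := congrArg (fun z => ((PuncturedLineLaw.val z : Rˣ) : R)) h
      dsimp only at this
      rw [hv, hv] at this
      exact ((c.isUnit).map (algebraMap k R)).mul_right_cancel this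
    · obtain ⟨χ, hχ⟩ := GaGm.exists_laurent_hom (k := k)
        (PuncturedLineLaw.val x * (Units.map (algebraMap k R).toMonoidHom c)⁻¹)
      refine ⟨χ, PuncturedLineLaw.val_injective (Units.ext ?_)⟩
      rw [hv, hχ, Units.val_mul, _root_.mul_assoc]
      simp [← map_mul]
  refine GaGm.exists_quotient_multiplicative (asIso u0 ≪≫ e.symm) (fun R _ _ χ χ' χ'' => ?_) i
  have key : ∀ a b : T k R ⟶ G, (a * b) ≫ e.hom = (a ≫ e.hom) * (b ≫ e.hom) := fun a b => MonObj.mul_comp a b e.hom
  have hu : ∀ χ : LaurentPolynomial k →ₐ[k] R, (Tmap χ ≫ (asIso u0 ≪≫ e.symm).hom) ≫ e.hom = Tmap χ ≫ u0 := fun χ => by simp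
  have hcu : algebraMap k R c * algebraMap k R ↑c⁻¹ = 1 := by rw [← map_mul, Units.mul_inv, map_one]
  constructor
  · intro h
    have h1 := congrArg (fun z => ((PuncturedLineLaw.val (z ≫ e.hom) : Rˣ) : R)) h
    rw [key, hu, hu, hu, Hom.mul_def, hlaw] at h1
    simp only [← map_inv, Units.val_mul, Units.coe_map, RingHom.toMonoidHom_eq_coe, MonoidHom.coe_coe, hv] at h1
    refine (c.isUnit.map (algebraMap k R)).mul_right_cancel ?_
    linear_combination h1 - χ (LaurentPolynomial.T 1) * χ' (LaurentPolynomial.T 1) * algebraMap k R c * hcu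
  · intro h
    refine (cancel_mono e.hom).mp (PuncturedLineLaw.val_injective (Units.ext ?_))
    rw [key, hu, hu, hu, Hom.mul_def, hlaw]
    simp only [← map_inv, Units.val_mul, Units.coe_map, RingHom.toMonoidHom_eq_coe, MonoidHom.coe_coe, hv]
    linear_combination algebraMap k R c * h + χ (LaurentPolynomial.T 1) * χ' (LaurentPolynomial.T 1) * algebraMap k R c * hcu

end Groth.Agent.S15180

namespace Groth.Agent.S15180

/-- Let K be an arbitrary field, G a K-group scheme isomorphic (as a group scheme) to 𝔾_a (additive) or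
to 𝔾_m (multiplicative), and H a finite subgroup scheme of G (a monomorphic homomorphism H → G with
H finite over K). Then the quotient G/H is isomorphic to G; equivalently, there is a homomorphism of
K-group schemes G → G which is flat and surjective and whose kernel is H. -/
theorem result
    (K : Type u) [Field K] (G H : Over (Spec (CommRingCat.of K))) [GrpObj G] [GrpObj H]
    (hG : Nonempty (Grp.mk G ≅ Grp.mk (Red.Ga (Spec (CommRingCat.of K)))) ∨
      Nonempty (Grp.mk G ≅ Grp.mk (Red.Gm (Spec (CommRingCat.of K)))))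
    (i : H ⟶ G) [IsMonHom i] [Mono i] [IsFinite H.hom] :
    ∃ φ : G ⟶ G, IsMonHom φ ∧ AlgGrp.IsKernel i φ ∧ Flat φ.left ∧ Surjective φ.left := by
  rcases hG with ⟨⟨e⟩⟩ | ⟨⟨e⟩⟩
  · let eG : G ≅ Red.Ga (Spec (CommRingCat.of K)) := (Grp.forget _).mapIso e
    haveI : IsMonHom eG.hom := e.hom.hom.isMonHom_hom
    exact additive_case eG i
  · let eG : G ≅ Red.Gm (Spec (CommRingCat.of K)) := (Grp.forget _).mapIso e
    haveI : IsMonHom eG.hom := e.hom.hom.isMonHom_hom
    exact multiplicative_case eG i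

end Groth.Agent.S15180
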