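import Groth.Statements.S15181
import Groth.Agent.H02CA.GaGmRat.Multiplicative
import Groth.Agent.H02CA.GaGmRat.Params
import Groth.Agent.H02CA.GaGmRat.Birat

set_option autoImplicit false
universe u
open CategoryTheory MonoidalCategory CartesianMonoidalCategory MonObj GrpObj AlgebraicGeometry
open BddFin

namespace Groth.Agent.S15181

open Groth.Agent.H02CA.GaGmRat
open Groth.Agent.H19Grp.AffineLineLaw (T Tmap)

theorem invariants_ne_top {K : Type u} [Field K] {G X : Over (Spec (CommRingCat.of K))} [GrpObj G]
    [IsIntegral X.left] [IsSeparated X.hom] {a : AlgGrp.Action G X} (ha : a.act ≠ snd G X) (P : Param G)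
    (hP : P.Universal) :
    letI := functionFieldAlgebra X
    ∀ σ : X.left.functionField →ₐ[K] RatFunc X.left.functionField,
      Tmap σ ≫ genPt X = lift (P.p (RatFunc.X : RatFunc X.left.functionField))
        (Tmap (IsScalarTower.toAlgHom K X.left.functionField (RatFunc X.left.functionField)) ≫ genPt X) ≫ a.act →
      invariants σ ≠ ⊤ := by
  letI := functionFieldAlgebra X
  intro σ hσ h
  apply ha
  refine act_eq_snd_of_generic a P hP ?_
  rw [← hσ]
  congr 2
  exact AlgHom.ext fun f => (mem_invariants σ).1 (by rw [h]; trivial)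


/-- Let K be a field, G a K-group scheme isomorphic (as a group scheme) to 𝔾_a or to 𝔾_m, and X an
integral separated K-scheme of finite type with an action of G that is not the trivial action. Then
X is birational over K to ℙ¹ × Y for some K-variety Y: there are an integral K-scheme Y locally of
finite type, a non-empty open subscheme U of X and an open subscheme V of the affine line over Y,
with U and V isomorphic over K. -/
theorem result
    (K : Type u) [Field K] (G X : Over (Spec (CommRingCat.of K))) [GrpObj G]
    (hG : Nonempty (Grp.mk G ≅ Grp.mk (Red.Ga (Spec (CommRingCat.of K)))) ∨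
      Nonempty (Grp.mk G ≅ Grp.mk (Red.Gm (Spec (CommRingCat.of K)))))
    [IsIntegral X.left] [LocallyOfFiniteType X.hom] [QuasiCompact X.hom] [IsSeparated X.hom]
    (a : AlgGrp.Action G X) (ha : a.act ≠ snd G X) :
    ∃ (Y : Over (Spec (CommRingCat.of K))) (_ : IsIntegral Y.left) (_ : LocallyOfFiniteType Y.hom)
      (U : X.left.Opens) (V : (𝔸(ULift.{u} (Fin 1); Y.left)).Opens), (U : Set X.left).Nonempty ∧
      Nonempty (Over.mk (U.ι ≫ X.hom) ≅
        Over.mk (V.ι ≫ (𝔸(ULift.{u} (Fin 1); Y.left) ↘ Y.left) ≫ Y.hom)) := by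
  letI := functionFieldAlgebra X
  refine exists_birational_affineLine X ?_
  rcases hG with ⟨⟨e⟩⟩ | ⟨⟨e⟩⟩
  · obtain ⟨P, hP, hc, hop⟩ := exists_param_Ga e
    obtain ⟨σ, hσ, hev⟩ := exists_sigma (a := a) P (isGenericPt_genPt X)
    refine ⟨invariants σ, exists_generator_additive σ (fun f => by have := hev f; rwa [hc] at this)
      (fun f => sigma_coassoc P (isGenericPt_genPt X) hσ (Polynomial.X + Polynomial.C RatFunc.X) (hop _ _ _)
        (by rw [Polynomial.natDegree_X_add_C]; exact one_ne_zero) f) (invariants_ne_top ha P hP σ hσ)⟩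
  · obtain ⟨P, hP, hc, hop⟩ := exists_param_Gm e
    obtain ⟨σ, hσ, hev⟩ := exists_sigma (a := a) P (isGenericPt_genPt X)
    refine ⟨invariants σ, exists_generator_multiplicative σ (fun f => by have := hev f; rwa [hc] at this)
      (fun f => sigma_coassoc P (isGenericPt_genPt X) hσ (Polynomial.C RatFunc.X * Polynomial.X)
        (by rw [hop, mul_comm]) (by rw [Polynomial.natDegree_C_mul_X _ RatFunc.X_ne_zero]; exact one_ne_zero) f)
      (invariants_ne_top ha P hP σ hσ)⟩

end Groth.Agent.S15181
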