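import Groth.Statements.S15183
import Mathlib.RingTheory.SimpleModule.WedderburnArtin
import Mathlib.RingTheory.Polynomial.Cyclotomic.Roots
import Mathlib.RingTheory.Artinian.Module
import Mathlib.LinearAlgebra.Matrix.Basis
import Mathlib.FieldTheory.Separable
import Mathlib.Tactic

set_option autoImplicit false
universe u v
open Polynomial
open BddFin

namespace Groth.Agent.S15183

theorem exists_prim (K : Type u) [Field K] (d : ℕ) (hd : 0 < d) (hdK : (d : K) ≠ 0)
    (h : (Polynomial.X ^ d - 1 : Polynomial K).Splits) : ∃ ζ : K, IsPrimitiveRoot ζ d := by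
  haveI : NeZero (d : K) := ⟨hdK⟩
  have hne : (Polynomial.X ^ d - 1 : Polynomial K) ≠ 0 := (Polynomial.monic_X_pow_sub_C (1 : K) hd.ne').ne_zero
  have hs : (Polynomial.cyclotomic d K).Splits := h.of_dvd hne (Polynomial.cyclotomic.dvd_X_pow_sub_one d K)
  obtain ⟨ζ, hζ⟩ := hs.exists_eval_eq_zero (Polynomial.degree_cyclotomic_pos d K hd).ne'
  exact ⟨ζ, Polynomial.isRoot_cyclotomic_iff.mp hζ⟩

/-- Let K be a field such that K contains all roots of unity (for every n ≥ 1 the polynomial X^n − 1
splits into linear factors over K), and A a finite-dimensional central simple K-algebra which is not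
a division algebra (some non-zero element is not a unit). Then the quotient of the unit group of A
by that of K has elements of every finite order invertible in K: for every d ≥ 1 with d ≠ 0 in K
there is a unit x of A with x ^ d in K and x ^ k not in K for 0 < k < d. (The published assertion is
phrased for the automorphism group of the Severi–Brauer variety of A, which is isomorphic to the
units of A modulo those of K; this row is the algebra-side statement its proof establishes.) -/
theorem result
    (K : Type u) [Field K] (hK : ∀ n : ℕ, 0 < n → (X ^ n - 1 : K[X]).Splits)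
    (A : Type v) [Ring A] [Algebra K A] [Algebra.IsCentral K A] [IsSimpleRing A] [FiniteDimensional K A]
    (hA : ∃ y : A, y ≠ 0 ∧ ¬ IsUnit y) (d : ℕ) (hd : 0 < d) (hdK : (d : K) ≠ 0) :
    ∃ x : A, IsUnit x ∧ x ^ d ∈ (algebraMap K A).range ∧
      ∀ k : ℕ, 0 < k → k < d → x ^ k ∉ (algebraMap K A).range := by
  classical
  obtain ⟨ζ, hζ⟩ := exists_prim K d hd hdK (hK d hd)
  haveI : IsArtinianRing A := IsArtinianRing.of_finite K A
  obtain ⟨n, hn, D, _, _, _, ⟨e⟩⟩ := IsSimpleRing.exists_algEquiv_matrix_divisionRing_finite K A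
  obtain ⟨E, hE, hE0, hE1⟩ : ∃ E : A, E * E = E ∧ E ≠ 0 ∧ E ≠ 1 := by
    have h2 : 2 ≤ n := by
      by_contra h
      obtain ⟨y, hy, hyu⟩ := hA
      have hn1 : n = 1 := by
        have := hn.out
        omega
      subst hn1
      apply hyu
      set M := e y with hM
      have h00 : M 0 0 ≠ 0 := by
        intro h0
        apply hy
        apply e.injective
        rw [map_zero]
        ext i j
        rw [Subsingleton.elim i 0, Subsingleton.elim j 0]
        exact h0
      have : IsUnit M := ⟨⟨M, Matrix.of fun _ _ => (M 0 0)⁻¹,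
        by ext i j; simp [Matrix.mul_apply, Matrix.one_apply, Subsingleton.elim i 0, Subsingleton.elim j 0, h00],
        by ext i j; simp [Matrix.mul_apply, Matrix.one_apply, Subsingleton.elim i 0, Subsingleton.elim j 0, h00]⟩, rfl⟩
      simpa [hM] using this.map e.symm
    refine ⟨e.symm (Matrix.single ⟨0, by omega⟩ ⟨0, by omega⟩ 1), ?_, ?_, ?_⟩
    · rw [← map_mul, Matrix.single_mul_single_same, mul_one]
    · intro h
      have := congrArg e h
      rw [AlgEquiv.apply_symm_apply, map_zero] at this
      have := congrFun (congrFun this ⟨0, by omega⟩) ⟨0, by omega⟩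
      simp at this
    · intro h
      have := congrArg e h
      rw [AlgEquiv.apply_symm_apply, map_one] at this
      have := congrFun (congrFun this ⟨1, by omega⟩) ⟨1, by omega⟩
      simp [Matrix.single] at this
  set x := algebraMap K A ζ * E + (1 - E) with hx
  have hpow : ∀ k : ℕ, x ^ k = algebraMap K A (ζ ^ k) * E + (1 - E) := by
    intro k
    induction k with
    | zero => simp
    | succ k ih =>
      rw [pow_succ, ih, hx]
      have c1 : ∀ (a : K) (z : A), z * (algebraMap K A a) = algebraMap K A a * z := fun a z => (Algebra.commutes a z).symm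
      simp only [mul_add, add_mul, mul_sub, sub_mul, mul_one, one_mul, mul_assoc]
      rw [← mul_assoc E (algebraMap K A ζ) E, c1 ζ E, mul_assoc (algebraMap K A ζ) E E, hE, pow_succ, map_mul]
      noncomm_ring
  have hxd : x ^ d = 1 := by rw [hpow, hζ.pow_eq_one, map_one, one_mul]; abel
  refine ⟨x, (IsUnit.of_pow_eq_one hxd hd.ne'), ⟨1, by rw [map_one, hxd]⟩, fun k hk hkd => ?_⟩
  rintro ⟨c, hc⟩
  apply hζ.pow_ne_one_of_pos_of_lt hk.ne' hkd
  rw [hpow] at hc
  have e1 : algebraMap K A (c - ζ ^ k) * E = 0 := by
    have := congrArg (· * E) hc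
    simp only [add_mul, sub_mul, one_mul, mul_assoc, hE, sub_self, add_zero] at this
    rw [map_sub, sub_mul, this, sub_self]
  have e2 : algebraMap K A (c - 1) * (1 - E) = 0 := by
    have hE' : E * (1 - E) = 0 := by rw [mul_sub, mul_one, hE, sub_self]
    have hF : (1 - E) * (1 - E) = 1 - E := by rw [sub_mul, one_mul, hE', sub_zero]
    have := congrArg (· * (1 - E)) hc
    simp only [add_mul, mul_assoc, hE', hF, mul_zero, zero_add] at this
    rw [map_sub, map_one, sub_mul, one_mul, this, sub_self]
  have hc1 : c = ζ ^ k := by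
    by_contra h
    exact hE0 ((IsUnit.mul_right_eq_zero ((isUnit_iff_ne_zero.mpr (sub_ne_zero.mpr h)).map (algebraMap K A))).mp e1)
  by_contra h
  exact hE1 (sub_eq_zero.mp ((IsUnit.mul_right_eq_zero ((isUnit_iff_ne_zero.mpr (sub_ne_zero.mpr (hc1 ▸ h : c ≠ 1))).map (algebraMap K A))).mp e2)).symm

end Groth.Agent.S15183
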