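import Groth.Statements.S15185
import Groth.Agent.S15168
import Groth.Agent.H23CSA.RedCharpoly

set_option autoImplicit false
universe u v
open Polynomial
open BddFin

namespace Groth.Agent.S15185

theorem redNorm_algebraMap {K : Type u} [Field K] {A : Type v} [DivisionRing A] [Algebra K A] [Algebra.IsCentral K A]
    [FiniteDimensional K A] {n : ℕ} (hA : Module.finrank K A = n ^ 2) (N : A →* K) (hN : CSAGal.IsRedNorm K A N) (c : K) :
    N (algebraMap K A c) = c ^ n := by
  obtain ⟨L, _, _, f, hf⟩ := Groth.Agent.H23CSA.exists_of_isRedNorm n hA N hN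
  apply (algebraMap K L).injective
  rw [hf, AlgHom.commutes, Matrix.algebraMap_eq_diagonal, Matrix.det_diagonal, map_pow]
  simp

theorem mem_range_of_pow_char {K : Type u} [Field K] (p : ℕ) [Fact p.Prime] [CharP K p] {A : Type v} [DivisionRing A]
    [Algebra K A] [Algebra.IsCentral K A] [FiniteDimensional K A] {n n' m : ℕ} (hA : Module.finrank K A = n ^ 2)
    (hn : n = n' * p ^ m) (hn' : ¬ p ∣ n') (N : A →* K) (hN : CSAGal.IsRedNorm K A N) {z : A} (hz : z ≠ 0) {b : K}
    (hNz : N z = b ^ p ^ m) : ∀ t, z ^ p ^ t ∈ (algebraMap K A).range → z ∈ (algebraMap K A).range := by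
  intro t
  induction t with
  | zero => rw [pow_zero, pow_one]; exact id
  | succ t ih =>
    rintro ⟨c, hc⟩
    apply ih
    haveI : CharP A p := charP_of_injective_algebraMap (algebraMap K A).injective p
    have hp : p.Prime := Fact.out
    have h1 : c ^ n = (b ^ p ^ m) ^ p ^ (t + 1) := by
      rw [← redNorm_algebraMap hA N hN, hc, map_pow, hNz]
    have h2 : c ^ n' = b ^ p ^ (t + 1) := by
      apply (iterateFrobenius K p m).injective
      rw [iterateFrobenius_def, iterateFrobenius_def, ← pow_mul, ← hn, h1, ← pow_mul, ← pow_mul, mul_comm]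
    have hc0 : c ≠ 0 := by
      rintro rfl
      rw [map_zero, eq_comm] at hc
      exact hz (eq_zero_of_pow_eq_zero hc)
    obtain ⟨d, hd⟩ : ∃ d : K, d ^ p = c := by
      have hcop : IsCoprime (n' : ℤ) (p : ℤ) :=
        Nat.isCoprime_iff_coprime.mpr (hp.coprime_iff_not_dvd.mpr hn').symm
      obtain ⟨u, v, huv⟩ := hcop
      refine ⟨(b ^ p ^ t) ^ u * c ^ v, ?_⟩
      have h3 : (b ^ p ^ t) ^ (p : ℤ) = c ^ (n' : ℤ) := by
        rw [zpow_natCast, zpow_natCast, ← pow_mul, ← pow_succ, h2]
      rw [← zpow_natCast, mul_zpow, ← zpow_mul, mul_comm u, zpow_mul, h3, ← zpow_mul, ← zpow_mul,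
        ← zpow_add₀ hc0, show (n' : ℤ) * u + v * (p : ℤ) = 1 by linarith, zpow_one]
    refine ⟨d, ?_⟩
    have h4 : (z ^ p ^ t - algebraMap K A d) ^ p = 0 := by
      rw [sub_pow_char_of_commute (p := p) (Algebra.commute_algebraMap_right d (z ^ p ^ t)), ← pow_mul, ← pow_succ,
        ← map_pow, hd, hc, sub_self]
    exact (sub_eq_zero.mp (eq_zero_of_pow_eq_zero h4)).symm

/-- Let K be a field of characteristic p > 0 such that K contains all roots of unity (for every n ≥ 1
the polynomial X^n − 1 splits into linear factors over K), A a central division algebra of dimension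
n ^ 2 over K, and write n = n' · p ^ m with n' prime to p; let N be the reduced norm of A. Consider
the kernel of the homomorphism from the units of A modulo those of K to Kˣ/(Kˣ)^(p^m) induced by N.
Every element of finite order of that kernel has order dividing n': if x ≠ 0 in A has x ^ r in K for
some r ≥ 1 and N x is a (p ^ m)-th power of a non-zero element of K, then x ^ n' lies in K. -/
theorem result
    (K : Type u) [Field K] (p : ℕ) [Fact p.Prime] [CharP K p] (hK : ∀ n : ℕ, 0 < n → (X ^ n - 1 : K[X]).Splits)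
    (A : Type v) [DivisionRing A] [Algebra K A] [Algebra.IsCentral K A] [FiniteDimensional K A]
    (n n' m : ℕ) (hA : Module.finrank K A = n ^ 2) (hn : n = n' * p ^ m) (hn' : ¬ p ∣ n')
    (N : A →* K) (hN : CSAGal.IsRedNorm K A N)
    (x : A) (hx : x ≠ 0) (hxr : ∃ r : ℕ, 0 < r ∧ x ^ r ∈ (algebraMap K A).range)
    (hNx : ∃ b : K, b ≠ 0 ∧ N x = b ^ (p ^ m)) :
    x ^ n' ∈ (algebraMap K A).range := by
  obtain ⟨b, -, hb⟩ := hNx
  have hxn := S15168.result K hK A n hA x hxr
  refine mem_range_of_pow_char p hA hn hn' N hN (pow_ne_zero _ hx) (b := b ^ n') ?_ m ?_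
  · rw [map_pow, hb, ← pow_mul, ← pow_mul, mul_comm]
  · rw [← pow_mul, ← hn]
    exact hxn

end Groth.Agent.S15185
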