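import Groth.Statements.S15189
import Groth.Agent.H02CA.SB.Aut
import Groth.Agent.S15184
import Groth.Agent.S15169
import Mathlib.GroupTheory.FiniteAbelian.Basic

set_option autoImplicit false
universe u
open CategoryTheory CategoryTheory.Limits AlgebraicGeometry
open BddFin

namespace Groth.Agent.S15189

theorem exists_pth_root {k : Type u} [Field k] (p : ℕ) [Fact p.Prime] [CharP k p] (hp : p = 2 ∨ p = 3)
    (A : Type u) [Ring A] [Algebra k A] [Algebra.IsCentral k A] [IsSimpleRing A] [FiniteDimensional k A]
    (hA : Module.finrank k A = p ^ 2) :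
    ∃ (w : A) (c : k), w ^ p = algebraMap k A c ∧ w ∉ (algebraMap k A).range := by
  classical
  haveI : IsArtinianRing A := IsArtinianRing.of_finite k A
  obtain ⟨n, hn, D, _, _, _, ⟨e⟩⟩ := IsSimpleRing.exists_algEquiv_matrix_divisionRing_finite k A
  haveI := hn
  by_cases h2 : 2 ≤ n
  · let i : Fin n := ⟨0, by omega⟩
    let j : Fin n := ⟨1, by omega⟩
    have hij : i ≠ j := fun h => by simp [i, j] at h
    refine ⟨e.symm (Matrix.single i j 1), 0, ?_, ?_⟩
    · have h : Matrix.single i j (1 : D) * Matrix.single i j 1 = 0 := Matrix.single_mul_single_of_ne _ _ _ _ hij.symm _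
      obtain ⟨q, rfl⟩ : ∃ q, p = q + 2 := ⟨p - 2, by rcases hp with rfl | rfl <;> rfl⟩
      rw [← map_pow, map_zero, pow_add, pow_two, h, mul_zero, map_zero]
    · rintro ⟨t, ht⟩
      have h := congrArg e ht
      rw [AlgEquiv.apply_symm_apply, AlgEquiv.commutes] at h
      have h1 := congrFun (congrFun h i) j
      simp [Matrix.algebraMap_matrix_apply, hij] at h1
  · obtain rfl : n = 1 := by have := hn.out; omega
    let e' : A ≃ₐ[k] D := e.trans
      { (Matrix.uniqueRingEquiv : Matrix (Fin 1) (Fin 1) D ≃+* D) with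
        commutes' := fun t => by simp [Matrix.algebraMap_matrix_apply] }
    haveI : FiniteDimensional k D := Module.Finite.equiv e'.toLinearEquiv
    haveI : Algebra.IsCentral k D := Algebra.IsCentral.of_algEquiv k A D e'
    have hD : Module.finrank k D = p ^ 2 := e'.toLinearEquiv.finrank_eq.symm.trans hA
    obtain ⟨v, u, ⟨c, hc⟩, -, hvu, -⟩ := S15169.result k p D hD (S15184.result k p D hD hp)
    refine ⟨e'.symm v, c, ?_, ?_⟩
    · rw [← map_pow, ← hc, AlgEquiv.commutes]
    · rintro ⟨t, ht⟩
      have h := congrArg e' ht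
      rw [AlgEquiv.apply_symm_apply, AlgEquiv.commutes] at h
      rw [← h, Algebra.commutes, sub_self] at hvu
      exact zero_ne_one hvu

/-- Let p be 2 or 3, k an infinite field of characteristic p, A a central simple k-algebra of dimension
p², and X → Spec k the Severi–Brauer variety of A (X represents the functor of left ideals of A with
projective quotient of corank p² − p; X has dimension p − 1). Then the group of automorphisms of X
over k has unbounded finite subgroups: for every N it has a finite subgroup of order greater than N. -/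
theorem result
    (k : Type u) [Field k] [Infinite k] (p : ℕ) [Fact p.Prime] [CharP k p] (hp : p = 2 ∨ p = 3)
    (A : Type u) [Ring A] [Algebra k A] [Algebra.IsCentral k A] [IsSimpleRing A]
    (hA : Module.finrank k A = p * p)
    {X : Scheme.{u}} (f : X ⟶ Spec (CommRingCat.of k)) (hX : BrSev.IsSBOf k A (p * p - p) f) (N : ℕ) :
    ∃ G : Subgroup (Aut (Over.mk f)), Finite G ∧ N < Nat.card G := by
  classical
  obtain ⟨str⟩ := hX
  have hp0 : 0 < p := (Fact.out : p.Prime).pos
  obtain ⟨ξ, hξ, hker⟩ := Groth.Agent.H02CA.SB.exists_surjective_units_to_aut hp0 hA str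
  haveI : Module.Finite k A := Module.finite_of_finrank_pos (by rw [hA]; positivity)
  obtain ⟨w, c, hwc, hw⟩ := exists_pth_root p hp A (hA.trans (sq p).symm)
  haveI : CharP A p := charP_of_injective_algebraMap (algebraMap k A).injective p
  have hbad : ({t : k | 1 + t ^ p * c = 0}).Finite := by
    apply Set.Subsingleton.finite
    intro t ht s hs
    rw [Set.mem_setOf_eq] at ht hs
    have hc : c ≠ 0 := fun h => by simp [h] at ht
    apply frobenius_inj k p
    simp only [frobenius_def]
    apply mul_right_cancel₀ hc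
    linear_combination ht - hs
  obtain ⟨S, hS, hScard⟩ := hbad.infinite_compl.exists_subset_card_eq (N + 1)
  have hpow : ∀ t : k, (1 + t • w) ^ p = algebraMap k A (1 + t ^ p * c) := fun t => by
    rw [add_pow_char_of_commute (p := p) (Commute.one_left (t • w)), one_pow, smul_pow, hwc, map_add, map_one, map_mul,
      Algebra.smul_def]
  have hunit : ∀ t : S, IsUnit (1 + (t : k) • w) := fun t => by
    rw [← isUnit_pow_iff hp0.ne', hpow]
    exact (isUnit_iff_ne_zero.mpr (hS t.2)).map (algebraMap k A)
  let g : S → Aut (CategoryTheory.Over.mk f) := fun t => ξ (hunit t).unit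
  have hgp : ∀ t, g t ^ p = 1 := fun t => by
    rw [← map_pow, ← MonoidHom.mem_ker, hker]
    exact ⟨Units.mk0 _ (hS t.2), Units.ext (hpow t).symm⟩
  have hcomm : ∀ t s, g t * g s = g s * g t := fun t s => by
    rw [← map_mul, ← map_mul]
    refine congrArg ξ (Units.ext ?_)
    show (1 + (t : k) • w) * (1 + (s : k) • w) = (1 + (s : k) • w) * (1 + (t : k) • w)
    simp only [mul_add, add_mul, one_mul, mul_one, smul_mul_smul_comm, mul_comm (t : k)]
    abel
  have hinj : Function.Injective g := fun t s hts => by
    have h1 : (hunit t).unit * (hunit s).unit⁻¹ ∈ ξ.ker := by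
      rw [MonoidHom.mem_ker, map_mul, map_inv, show ξ (hunit t).unit = ξ (hunit s).unit from hts, mul_inv_cancel]
    rw [hker] at h1
    obtain ⟨r, hr⟩ := h1
    rw [eq_mul_inv_iff_mul_eq] at hr
    have h2 : algebraMap k A r * (1 + (s : k) • w) = 1 + (t : k) • w := congrArg Units.val hr
    by_contra hne
    have h3 : ((r : k) * s - t) • w = algebraMap k A (1 - r) := by
      rw [sub_smul, mul_smul, map_sub, map_one, Algebra.smul_def (r : k)]
      linear_combination (norm := (simp only [mul_add, mul_one]; abel)) h2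
    rcases eq_or_ne ((r : k) * s - t) 0 with h0 | h0
    · rw [h0, zero_smul, eq_comm, map_eq_zero_iff _ (algebraMap k A).injective, sub_eq_zero] at h3
      rw [← h3, one_mul, sub_eq_zero] at h0
      exact hne (Subtype.ext h0.symm)
    · apply hw
      refine ⟨((r : k) * s - t)⁻¹ * (1 - r), ?_⟩
      rw [map_mul, ← h3, ← Algebra.smul_def, smul_smul, inv_mul_cancel₀ h0, one_smul]
  let G := Subgroup.closure (Set.range g)
  have hGc : IsMulCommutative G := ⟨⟨by
    haveI := Subgroup.isMulCommutative_closure (k := Set.range g) (by rintro _ ⟨t, rfl⟩ _ ⟨s, rfl⟩; exact hcomm t s)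
    intro a b
    exact mul_comm' a b⟩⟩
  letI : CommGroup G := { (inferInstance : Group G) with mul_comm := hGc.is_comm.comm }
  haveI : Group.FG G := (Group.fg_iff_subgroup_fg G).mpr ⟨Finset.univ.image g, by simp [G]⟩
  have hG : ∀ x : G, IsOfFinOrder x := fun x => by
    refine isOfFinOrder_iff_pow_eq_one.mpr ⟨p, hp0, ?_⟩
    obtain ⟨x, hx⟩ := x
    induction hx using Subgroup.closure_induction with
    | mem x hx =>
      obtain ⟨t, rfl⟩ := hx
      exact Subtype.ext (hgp t)
    | one => exact one_pow p
    | mul a b ha hb iha ihb =>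
      have : (⟨a * b, mul_mem ha hb⟩ : G) = ⟨a, ha⟩ * ⟨b, hb⟩ := rfl
      rw [this, mul_pow, iha, ihb, mul_one]
    | inv a ha iha =>
      have : (⟨a⁻¹, inv_mem ha⟩ : G) = (⟨a, ha⟩ : G)⁻¹ := rfl
      rw [this, inv_pow, iha, inv_one]
  haveI hfin : Finite G := CommGroup.finite_of_fg_torsion G hG
  refine ⟨G, hfin, ?_⟩
  have h := Nat.card_le_card_of_injective (fun t : S => (⟨g t, Subgroup.subset_closure ⟨t, rfl⟩⟩ : G))
    (fun a b h => hinj (congrArg Subtype.val h))
  rw [Nat.card_eq_finsetCard, hScard] at h
  omega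

end Groth.Agent.S15189
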