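import Groth.Statements.S15190
import Groth.Agent.H02CA.SB.Aut
import Groth.Agent.S15185
import Groth.Agent.H29CSA.Subfield
import Groth.Agent.H23CSA.RedCharpoly
import Mathlib.GroupTheory.SchurZassenhaus

set_option autoImplicit false
universe u
open CategoryTheory CategoryTheory.Limits AlgebraicGeometry Polynomial
open BddFin

namespace Groth.Agent.S15190

theorem split_of_hom {Γ Q : Type*} [Group Γ] [Group Q] {p m n' : ℕ} [Fact p.Prime] {k : Type*} [Field k] [CharP k p]
    (hn' : ¬ p ∣ n') (G : Subgroup Γ) [Finite G] (π : G →* Q) (hQc : ∀ x y : Q, x * y = y * x) (hQ : ∀ x : Q, x ^ p ^ m = 1)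
    (hord : ∀ h : G, h ∈ π.ker → h ^ n' = 1) :
    ∃ H S : Subgroup Γ, H ≤ G ∧ S ≤ G ∧
      (∀ g ∈ G, ∀ h ∈ H, g * h * g⁻¹ ∈ H) ∧ H ⊓ S = ⊥ ∧ H ⊔ S = G ∧
      (∀ h ∈ H, ((orderOf h : ℕ) : k) ≠ 0) ∧
      (∀ s ∈ S, ∀ t ∈ S, s * t = t * s) ∧ (∀ s ∈ S, s ^ (p ^ m) = 1) := by
  classical
  have hp : p.Prime := Fact.out
  have hgm : ∀ g : G, g ^ p ^ m ∈ π.ker := fun g => by rw [MonoidHom.mem_ker, map_pow, hQ]
  have hcop : Nat.Coprime (Nat.card π.ker) π.ker.index := by
    have h1 : ¬ p ∣ Nat.card π.ker := by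
      intro hdvd
      obtain ⟨x, hx⟩ := exists_prime_orderOf_dvd_card' p hdvd
      have hxn : x ^ n' = 1 := Subtype.ext (hord x.1 x.2)
      exact hn' (hx ▸ orderOf_dvd_of_pow_eq_one hxn)
    have h2 : IsPGroup p (G ⧸ π.ker) := fun x => by
      obtain ⟨g, rfl⟩ := QuotientGroup.mk'_surjective _ x
      exact ⟨m, by rw [← map_pow]; exact (QuotientGroup.eq_one_iff _).mpr (hgm g)⟩
    obtain ⟨j, hj⟩ := IsPGroup.iff_card.mp h2
    rw [Subgroup.index, hj]
    exact ((hp.coprime_iff_not_dvd.mpr h1).symm).pow_right j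
  obtain ⟨K, hK⟩ := Subgroup.exists_right_complement'_of_coprime hcop
  refine ⟨π.ker.map G.subtype, K.map G.subtype, Subgroup.map_subtype_le _, Subgroup.map_subtype_le _, ?_, ?_, ?_, ?_, ?_, ?_⟩
  · rintro g hg _ ⟨h, hh, rfl⟩
    exact ⟨⟨g, hg⟩ * h * ⟨g, hg⟩⁻¹, (MonoidHom.normal_ker π).conj_mem h hh _, rfl⟩
  · rw [← Subgroup.map_inf _ _ _ G.subtype_injective, hK.disjoint.eq_bot, Subgroup.map_bot]
  · rw [← Subgroup.map_sup, hK.sup_eq_top, ← MonoidHom.range_eq_map, Subgroup.range_subtype]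
  · rintro _ ⟨h, hh, rfl⟩ h0
    rw [orderOf_injective G.subtype G.subtype_injective] at h0
    rw [CharP.cast_eq_zero_iff k p] at h0
    exact hn' (h0.trans (orderOf_dvd_of_pow_eq_one (hord h hh)))
  · rintro _ ⟨s, hs, rfl⟩ _ ⟨t, ht, rfl⟩
    have h1 : s * t * s⁻¹ * t⁻¹ ∈ π.ker ⊓ K :=
      Subgroup.mem_inf.mpr ⟨by
        rw [MonoidHom.mem_ker, map_mul, map_mul, map_mul, map_inv, map_inv, hQc (π s) (π t),
          mul_inv_cancel_right, mul_inv_cancel],
       mul_mem (mul_mem (mul_mem hs ht) (inv_mem hs)) (inv_mem ht)⟩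
    rw [hK.disjoint.eq_bot, Subgroup.mem_bot] at h1
    rw [mul_inv_eq_one, mul_inv_eq_iff_eq_mul] at h1
    exact congrArg G.subtype h1
  · rintro _ ⟨s, hs, rfl⟩
    have h1 : s ^ p ^ m ∈ π.ker ⊓ K := ⟨hgm s, pow_mem hs _⟩
    rw [hK.disjoint.eq_bot, Subgroup.mem_bot] at h1
    rw [← map_pow, h1, map_one]

theorem exists_redNorm {k : Type u} [Field k] (A : Type u) [DivisionRing A] [Algebra k A] [Algebra.IsCentral k A]
    [FiniteDimensional k A] {n : ℕ} (hn : Module.finrank k A = n ^ 2) :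
    ∃ N : A →* k, CSAGal.IsRedNorm k A N := by
  classical
  obtain ⟨L, _, _, hLf, hLg, m, hm, ⟨e⟩⟩ := Groth.Agent.H29CSA.exists_galois_splitting (k := k) A
  haveI := hLf
  haveI := hLg
  obtain rfl : n = m := Nat.pow_left_injective two_ne_zero
    (hn.symm.trans (Groth.Agent.H29CSA.finrank_eq_sq_of_splits A L e))
  let φ : A →ₐ[k] Matrix (Fin n) (Fin n) L := (e.toAlgHom.restrictScalars k).comp Algebra.TensorProduct.includeRight
  have hfix : ∀ a, (φ a).det ∈ Set.range (algebraMap k L) := fun a => by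
    refine (IsGalois.mem_range_algebraMap_iff_fixed (F := k) _).mpr fun σ => ?_
    have h := Groth.Agent.H23CSA.eq_of_pow_eq (Matrix.charpoly_monic _) (Matrix.charpoly_monic _) hm
      ((Groth.Agent.H23CSA.charpoly_pow hn (σ.toAlgHom.mapMatrix.comp φ) a).trans
        (Groth.Agent.H23CSA.charpoly_pow hn φ a).symm)
    have hdet : ((σ.toAlgHom.mapMatrix.comp φ) a).det = (φ a).det := by
      rw [Matrix.det_eq_sign_charpoly_coeff, Matrix.det_eq_sign_charpoly_coeff, h]
    exact (AlgHom.map_det σ.toAlgHom (φ a)).trans hdet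
  choose N hN using hfix
  exact ⟨{ toFun := N
           map_one' := (algebraMap k L).injective (by rw [hN, map_one, Matrix.det_one, map_one])
           map_mul' := fun a b => (algebraMap k L).injective (by rw [hN, map_mul, Matrix.det_mul, map_mul, hN, hN]) },
    L, _, _, hLf, n, e, hN⟩

/-- Let k be a field of characteristic p > 0 such that k contains all roots of unity (for every r ≥ 1
the polynomial X^r − 1 splits into linear factors over k), A a central division algebra of dimension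
n² over k with n = n' · p ^ m and n' prime to p, and X → Spec k the Severi–Brauer variety of A (X
represents the functor of left ideals of A with projective quotient of corank n² − n). Then every
finite subgroup G of the group of automorphisms of X over k is a semidirect product: there are
subgroups H and S of G with H normal in G, H ∩ S trivial and H S = G, such that every element of H
has order prime to p and S is abelian with s ^ (p ^ m) = 1 for all s in S. (The published statement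
also bounds the order of H; that bound is not part of this row.) -/
theorem result
    (k : Type u) [Field k] (p : ℕ) [Fact p.Prime] [CharP k p]
    (hk : ∀ r : ℕ, 0 < r → (X ^ r - 1 : k[X]).Splits)
    (A : Type u) [DivisionRing A] [Algebra k A] [Algebra.IsCentral k A]
    (n n' m : ℕ) (hn0 : 0 < n) (hA : Module.finrank k A = n * n) (hn : n = n' * p ^ m) (hn' : ¬ p ∣ n')
    {X : Scheme.{u}} (f : X ⟶ Spec (CommRingCat.of k)) (hX : BrSev.IsSBOf k A (n * n - n) f)
    (G : Subgroup (Aut (Over.mk f))) [Finite G] :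
    ∃ H S : Subgroup (Aut (Over.mk f)), H ≤ G ∧ S ≤ G ∧
      (∀ g ∈ G, ∀ h ∈ H, g * h * g⁻¹ ∈ H) ∧ H ⊓ S = ⊥ ∧ H ⊔ S = G ∧
      (∀ h ∈ H, ((orderOf h : ℕ) : k) ≠ 0) ∧
      (∀ s ∈ S, ∀ t ∈ S, s * t = t * s) ∧ (∀ s ∈ S, s ^ (p ^ m) = 1) := by
  classical
  obtain ⟨str⟩ := hX
  obtain ⟨ξ, hξ, hker⟩ := Groth.Agent.H02CA.SB.exists_surjective_units_to_aut hn0 hA str
  haveI : Module.Finite k A := Module.finite_of_finrank_pos (by rw [hA]; positivity)
  have hA2 : Module.finrank k A = n ^ 2 := hA.trans (sq n).symm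
  obtain ⟨N, hN⟩ := exists_redNorm A hA2
  let P : Subgroup kˣ := (powMonoidHom (p ^ m) : kˣ →* kˣ).range
  let χ : Aˣ →* kˣ ⧸ P := (QuotientGroup.mk' P).comp (Units.map N)
  have hχ : ξ.ker ≤ χ.ker := by
    rw [hker]
    rintro _ ⟨t, rfl⟩
    rw [MonoidHom.mem_ker]
    refine (QuotientGroup.eq_one_iff _).mpr ⟨t ^ n', Units.ext ?_⟩
    obtain ⟨L, _, _, F, hF⟩ := Groth.Agent.H23CSA.exists_of_isRedNorm n hA2 N hN
    apply (algebraMap k L).injective
    show algebraMap k L (((t : k) ^ n') ^ p ^ m) = algebraMap k L (N (algebraMap k A t))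
    rw [hF, AlgHom.commutes, Matrix.algebraMap_eq_diagonal, Matrix.det_diagonal, ← pow_mul, ← hn, map_pow]
    simp
  let ψ : Aut (CategoryTheory.Over.mk f) →* kˣ ⧸ P := ξ.liftOfSurjective hξ ⟨χ, hχ⟩
  have hψ : ∀ u, ψ (ξ u) = χ u := fun u => MonoidHom.liftOfRightInverse_comp_apply _ _ _ _ u
  let π : G →* kˣ ⧸ P := ψ.comp G.subtype
  have hord : ∀ h : G, h ∈ π.ker → h ^ n' = 1 := by
    intro h hh
    obtain ⟨u, hu⟩ := hξ h.1
    have hfo : IsOfFinOrder h := isOfFinOrder_of_finite h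
    obtain ⟨r, hr, hhr⟩ := isOfFinOrder_iff_pow_eq_one.mp hfo
    have hur : u ^ r ∈ ξ.ker := by
      rw [MonoidHom.mem_ker, map_pow, hu, ← SubmonoidClass.coe_pow, hhr]
      rfl
    rw [hker] at hur
    obtain ⟨t, ht⟩ := hur
    have h1 : χ u = 1 := by rw [← hψ, hu]; exact hh
    obtain ⟨b, hb⟩ := (QuotientGroup.eq_one_iff _).mp h1
    obtain ⟨s, hs⟩ := S15185.result k p hk A n n' m hA2 hn hn' N hN (u : A) u.ne_zero
      ⟨r, hr, (t : k), (congrArg Units.val ht).trans (Units.val_pow_eq_pow_val u r)⟩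
      ⟨(b : k), b.ne_zero, (congrArg Units.val hb).symm.trans (Units.val_pow_eq_pow_val b (p ^ m))⟩
    have hs0 : s ≠ 0 := by
      rintro rfl
      rw [map_zero] at hs
      exact pow_ne_zero n' u.ne_zero hs.symm
    have hun : u ^ n' ∈ ξ.ker := by
      rw [hker]
      exact ⟨Units.mk0 s hs0, Units.ext (hs.trans (Units.val_pow_eq_pow_val u n').symm)⟩
    rw [MonoidHom.mem_ker, map_pow, hu] at hun
    exact Subtype.ext hun
  have hQ : ∀ x : kˣ ⧸ P, x ^ p ^ m = 1 := fun x => by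
    obtain ⟨y, rfl⟩ := QuotientGroup.mk'_surjective P x
    rw [← map_pow]
    exact (QuotientGroup.eq_one_iff _).mpr ⟨y, rfl⟩
  exact split_of_hom (Q := kˣ ⧸ P) (k := k) hn' G π (fun x y => mul_comm x y) hQ hord

end Groth.Agent.S15190
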