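import Groth.Statements.S15220
import Groth.Agent.H10Coh.RelHN.Main
import Groth.Agent.H10Coh.OpenSS.Product

set_option autoImplicit false
set_option linter.style.haveILetI false
set_option backward.isDefEq.respectTransparency.types false
open CategoryTheory CategoryTheory.Limits AlgebraicGeometry Polynomial
universe u
open ShStab

namespace Groth.Agent.S15220

/-- Let k be a field and X an integral scheme, smooth and proper over k, with a closed immersion ι into
projective N-space over k compatible with the structure maps, polarised by the ample O_X(1) =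
ι^*O(1); let 1 ≤ ℓ ≤ d. Let S be a finite-type integral k-scheme and F a coherent sheaf on X ×_k S,
flat over S, whose fibre F_s on X_s = (X ×_k S) ×_S Spec κ(s) is nonzero and pure of dimension d for
every point s of S. Then there are a non-empty open subset U of S and a finite increasing filtration
0 = F_0 ⊂ F_1 ⊂ ⋯ ⊂ F_m = F by coherent submodules such that (1) every factor F_i/F_{i-1} is flat
over S at all points lying over U, and (2) for every closed point s of U the images of the F_{i,s} →
F_s form a strictly increasing chain of submodules of F_s which is an ℓ-Harder–Narasimhan filtration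
of F_s over κ(s) with respect to O_X(1)|_{X_s}: its factors are ℓ-semistable of dimension d and the
reduced ℓ-truncated Hilbert polynomials of consecutive factors strictly decrease (in the
cross-multiplied form). Here a sheaf G on X_s is ℓ-semistable of dimension d when it is coherent,
nonzero, pure of dimension d, and p_ℓ(G') ≤ p_ℓ(G) for every coherent submodule G' with 0 < α_d(G')
< α_d(G), p_ℓ denoting the reduced truncation of the Hilbert polynomial to the degrees d − ℓ, …, d.
(The published statement calls F a flat family of ℓ-semistable sheaves of dimension d, for which the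
assertion is immediate with m = 1; the printed argument treats a flat family whose fibres are pure
of dimension d, the hypothesis taken here, and this row asks purity and non-vanishing of the fibre
at every point of S.) -/
theorem result (k : Type u) [Field k]
    (X : Scheme.{u}) [X.Over (Spec (CommRingCat.of k))] [IsIntegral X]
    [Smooth (X ↘ Spec (CommRingCat.of k))] [IsProper (X ↘ Spec (CommRingCat.of k))]
    (N : ℕ) (ι : X ⟶ CohB1.ProjSpace N k) [IsClosedImmersion ι]
    (hι : ι ≫ CohB1.ProjSpace.toSpec N k = X ↘ Spec (CommRingCat.of k))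
    (hL : CohB1.IsAmple ((Scheme.Modules.pullback ι).obj (Twist.twistProjSpace N k 1)))
    (S : Scheme.{u}) (q : S ⟶ Spec (CommRingCat.of k)) [IsIntegral S] [LocallyOfFiniteType q] [CompactSpace S]
    (d ℓ : ℕ) (hℓ : 1 ≤ ℓ) (hℓd : ℓ ≤ d)
    (F : (pullback (X ↘ Spec (CommRingCat.of k)) q).Modules) (hF : Coh.IsCoh F)
    (hfl : FlatMod.IsFlatOver (pullback.snd (X ↘ Spec (CommRingCat.of k)) q) F)
    (hfib : ∀ s : S, ¬ IsZero (CohIII.fiberMod (pullback.snd (X ↘ Spec (CommRingCat.of k)) q) F s) ∧
      ShStab.IsPure (Over.mk ((pullback.snd (X ↘ Spec (CommRingCat.of k)) q).fiberToSpecResidueField s)).left (CohIII.fiberMod (pullback.snd (X ↘ Spec (CommRingCat.of k)) q) F s) d) :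
    ∃ (U : S.Opens) (t : LTSeries (Subobject F)), (U : Set S).Nonempty ∧ t.head = ⊥ ∧ t.last = ⊤ ∧
      (∀ (i : Fin t.length) (x : ↥(pullback (X ↘ Spec (CommRingCat.of k)) q)),
        (pullback.snd (X ↘ Spec (CommRingCat.of k)) q).base x ∈ U → FlatMod.IsFlatOverAt (pullback.snd (X ↘ Spec (CommRingCat.of k)) q) (StabCat.factor t i) x) ∧
      ∀ s : S, s ∈ U → IsClosed ({s} : Set S) →
        ∃ ts : LTSeries (Subobject (CohIII.fiberMod (pullback.snd (X ↘ Spec (CommRingCat.of k)) q) F s)),
          ts.length = t.length ∧
          (∀ (j : Fin (t.length + 1)) (j' : Fin (ts.length + 1)), j.val = j'.val →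
            ts j' = imageSubobject ((Scheme.Modules.pullback ((pullback.snd (X ↘ Spec (CommRingCat.of k)) q).fiberι s)).map (t j).arrow)) ∧
          StabCat.IsHNWith
            (fun G => ShStab.IsEllSemistable (S.residueField s) (Over.mk ((pullback.snd (X ↘ Spec (CommRingCat.of k)) q).fiberToSpecResidueField s)).left (CohIII.fiberMod (pullback.snd (X ↘ Spec (CommRingCat.of k)) q) ((Scheme.Modules.pullback (pullback.fst (X ↘ Spec (CommRingCat.of k)) q)).obj ((Scheme.Modules.pullback ι).obj (Twist.twistProjSpace N k 1))) s) G d ℓ)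
            (fun G P => ∃ Q : Polynomial ℚ,
              ShStab.IsHilbPoly (S.residueField s) (Over.mk ((pullback.snd (X ↘ Spec (CommRingCat.of k)) q).fiberToSpecResidueField s)).left (CohIII.fiberMod (pullback.snd (X ↘ Spec (CommRingCat.of k)) q) ((Scheme.Modules.pullback (pullback.fst (X ↘ Spec (CommRingCat.of k)) q)).obj ((Scheme.Modules.pullback ι).obj (Twist.twistProjSpace N k 1))) s) G Q ∧
                P = StabCat.topPart ℓ d Q)
            d (CohIII.fiberMod (pullback.snd (X ↘ Spec (CommRingCat.of k)) q) F s) ts := by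
  obtain ⟨i₀, hi₀, hs₀, ⟨e₀⟩⟩ := H10Coh.OpenSS.exists_over ι
  haveI := hi₀
  haveI := H10Coh.OpenSS.isNoetherian_base q
  rw [hι] at hs₀
  revert F hF hfl hfib
  generalize (X ↘ Spec (CommRingCat.of k)) = f₀ at hs₀ ⊢
  subst hs₀
  intro F hF hfl hfib
  obtain ⟨i, hi, hstr, ⟨eL⟩⟩ := H10Coh.OpenSS.exists_family i₀ q e₀
  haveI := hi
  revert hfl hfib
  generalize Limits.pullback.snd (H17.QuotSch.str i₀) q = f at hstr ⊢
  subst hstr
  intro hfl hfib
  obtain ⟨U, t, hη, h0, h1, hflat, hts⟩ := H10Coh.RelHN.exists_open_ellHN i eL hF ℓ hℓ hℓd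
    (hfib (genericPoint S)).1 (hfib (genericPoint S)).2
  exact ⟨U, t, ⟨_, hη⟩, h0, h1, fun a x hx => hflat a x hx, fun s hs _ => hts s hs⟩

end Groth.Agent.S15220
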