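import Groth.Statements.S15221
import Groth.Agent.H10Coh.Stab.Mu
import Groth.Agent.H10Coh.Stab.ReflexivePure
import Groth.Agent.H10Coh.Stab.Degree
import Groth.Agent.H25Euler.RankCoeff
import Groth.Agent.H25Euler.ParOne
import Groth.Agent.H25Par.FiniteSupport
import Groth.Agent.H02CA.SurfStab.Alpha
import Groth.Agent.H05EGA4.LefConn
import Groth.Agent.H28Alg.ExtOne
import Groth.Agent.H15Site.ModExtH
import Groth.Agent.H10Coh.ModGroth
import Groth.Agent.H10Coh.HHSeq
import Groth.Agent.H10Coh.FinType2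
import Groth.Agent.H16Derived.GTheory.Closed
import Groth.Agent.H17.ConsModModels

set_option autoImplicit false
open CategoryTheory CategoryTheory.Limits AlgebraicGeometry Polynomial
universe u
open ShStab

namespace Groth.Agent.S15221

open Groth.Agent

set_option backward.isDefEq.respectTransparency.types false
set_option synthInstance.maxHeartbeats 400000
set_option maxHeartbeats 1000000
set_option linter.style.haveILetI false

open Polynomial CategoryTheory.Abelian StabCat Groth.Agent.H10Coh.Stab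

section helpers

variable {k : Type u} [Field k] {X : Scheme.{u}} [X.Over (Spec (CommRingCat.of k))]
  [IsProper (X ↘ Spec (CommRingCat.of k))] {L : X.Modules} {n : ℕ}

theorem exists_hilb (hL : CohB1.IsAmple L) (hn : topologicalKrullDim X = (n : WithBot ℕ∞)) {G : X.Modules}
    (hG : Coh.IsCoh G) : ∃ P, ShStab.IsHilbPoly k X L G P :=
  H25Euler.exists_hilbPoly (k := k) hL hG (d := n + 1) (lt_of_le_of_lt
    ((Topology.IsEmbedding.subtypeVal.isInducing.topologicalKrullDim_le).trans hn.le)
    (by exact_mod_cast Nat.lt_succ_self n))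

theorem hilb_add (hL : CohB1.IsAmple L) {S : ShortComplex X.Modules} (hS : S.ShortExact)
    (h₁ : Coh.IsCoh S.X₁) (h₂ : Coh.IsCoh S.X₂) (h₃ : Coh.IsCoh S.X₃) {P₁ P₂ P₃ : ℚ[X]}
    (q₁ : ShStab.IsHilbPoly k X L S.X₁ P₁) (q₂ : ShStab.IsHilbPoly k X L S.X₂ P₂)
    (q₃ : ShStab.IsHilbPoly k X L S.X₃ P₃) : P₂ = P₁ + P₃ :=
  H25Euler.hilbPoly_unique q₂ fun m => by
    rw [eval_add, ← q₁ m, ← q₃ m]
    exact_mod_cast H25Euler.chi_add (k := k) hL.1 hS h₁ h₂ h₃ m

theorem dim_le_zero_of_const (hL : CohB1.IsAmple L) (hn : topologicalKrullDim X = (n : WithBot ℕ∞))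
    {Q : X.Modules} (hQ : Coh.IsCoh Q) (h0 : ¬ IsZero Q) {P : ℚ[X]} (hP : ShStab.IsHilbPoly k X L Q P)
    (hd : P.natDegree = 0) : topologicalKrullDim (CohB1.support Q) ≤ 0 := by
  haveI : Nonempty (CohB1.support Q) := (H25Euler.support_nonempty h0).to_subtype
  have h1 : topologicalKrullDim (CohB1.support Q) ≤ (n : WithBot ℕ∞) :=
    (Topology.IsEmbedding.subtypeVal.isInducing.topologicalKrullDim_le).trans hn.le
  haveI : Nonempty (TopologicalSpace.IrreducibleCloseds (CohB1.support Q)) :=
    ⟨⟨closure {Classical.arbitrary _}, isIrreducible_singleton.closure, isClosed_closure⟩⟩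
  have h2 : (0 : WithBot ℕ∞) ≤ topologicalKrullDim (CohB1.support Q) := Order.krullDim_nonneg
  obtain ⟨d, hd'⟩ : ∃ d : ℕ, topologicalKrullDim (CohB1.support Q) = (d : WithBot ℕ∞) := by
    generalize hD : topologicalKrullDim (CohB1.support Q) = D at h1 h2
    induction D with
    | bot => exact absurd h2 (by simp)
    | coe a =>
      induction a with
      | top => exact absurd (WithBot.coe_le_coe.1 h1) (by simp)
      | coe d => exact ⟨d, rfl⟩
  rw [hd', show d = 0 from (degree_hilbPoly hL hQ hd' hP).1.symm.trans hd]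
  exact le_refl _

variable [IsIntegral X]

include k in
theorem isPure_structure (hn : topologicalKrullDim X = (n : WithBot ℕ∞)) :
    ShStab.IsPure X (Coh.structureModule X) n := by
  haveI := isLocallyNoetherian_of_proper (Z := X) k
  exact isPure_of_isReflexive k (H02CA.SurfStab.isReflexive_of_vb
    (H05EGA4.LefConn.isFinLocFree_unit X) (H10Coh.isCoh_structureModule' X)) hn

/-- A proper nonzero ideal: the quotient has smaller dimension. -/
theorem sub_data (hL : CohB1.IsAmple L) (hn : topologicalKrullDim X = (n : WithBot ℕ∞)) {G : X.Modules}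
    (m : G ⟶ Coh.structureModule X) [Mono m] (hG : Coh.IsCoh G) (hG0 : ¬ IsZero G) (hm : ¬ IsIso m)
    {pO pG : ℚ[X]} (hpO : ShStab.IsHilbPoly k X L (Coh.structureModule X) pO)
    (hpG : ShStab.IsHilbPoly k X L G pG) :
    alpha n pG = alpha n pO ∧ Pos (pO - pG) ∧ Coh.IsCoh (cokernel m) ∧ ¬ IsZero (cokernel m) ∧
      ShStab.IsHilbPoly k X L (cokernel m) (pO - pG) := by
  haveI := isLocallyNoetherian_of_proper (Z := X) k
  have hO : Coh.IsCoh (Coh.structureModule X) := H10Coh.isCoh_structureModule' X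
  have hC : Coh.IsCoh (cokernel m) := H10Coh.isCoh_cokernel m hG.1 hO
  have hC0 : ¬ IsZero (cokernel m) := fun h => hm (by
    haveI : Epi m := Preadditive.epi_of_isZero_cokernel _ h
    exact isIso_of_mono_of_epi m)
  have hpC := (H25Euler.polyLE_of_mono hL hG hO m hpG hpO).2
  have hS : (ShortComplex.mk m (cokernel.π m) (cokernel.condition _)).ShortExact :=
    { exact := ShortComplex.exact_cokernel _ }
  have hr := H25Euler.genRank_add hS hO
  rw [H25Euler.genRank_structure] at hr
  have hrG : H25Euler.genRank G = 1 := by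
    by_contra hne
    have h0 : H25Euler.genRank G = 0 := by
      change 1 = H25Euler.genRank G + H25Euler.genRank (cokernel m) at hr
      omega
    have h1 := H25Euler.coeff_hilbPoly_eq_genRank_mul k hL hn hpO hG hpG
    rw [h0, Nat.cast_zero, zero_mul] at h1
    have h2 := alpha_pos_of_pure hL (isPure_of_mono (isPure_structure (k := k) hn) m) hG hG0 hpG
    rw [alpha, h1, mul_zero] at h2
    exact lt_irrefl _ h2
  refine ⟨?_, hilbPoly_pos hL hC hC0 hpC, hC, hC0, hpC⟩
  rw [alpha, alpha, H25Euler.coeff_hilbPoly_eq_genRank_mul k hL hn hpO hG hpG, hrG, Nat.cast_one, one_mul]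

end helpers

theorem pos_two_smul_sub {q : ℚ[X]} (h : Pos q) {c : ℕ} (hmin : q.natDegree = 0 → (c : ℚ) ≤ q.coeff 0) :
    Pos ((2 : ℚ) • q - Polynomial.C (c : ℚ)) := by
  refine pos_of_leadingCoeff_pos ?_
  rcases Nat.eq_zero_or_pos q.natDegree with hd | hd
  · have hq : 0 < q.coeff 0 := by have := pos_iff.1 h; rwa [leadingCoeff, hd] at this
    have hc := hmin hd
    rw [eq_C_of_natDegree_eq_zero hd, smul_C, ← map_sub, leadingCoeff_C, smul_eq_mul]
    linarith
  · rw [sub_eq_add_neg, ← map_neg, leadingCoeff_add_of_degree_lt']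
    · exact pos_iff.1 (h.smul two_pos)
    · refine lt_of_le_of_lt degree_C_le ?_
      rw [Polynomial.smul_eq_C_mul, degree_C_mul (two_ne_zero' ℚ),
        degree_eq_natDegree (by intro e; rw [e, natDegree_zero] at hd; exact absurd hd (lt_irrefl 0))]
      exact_mod_cast hd

/-- An extension with nonzero class is not split. -/
theorem not_split_of_extClass {C : Type*} [Category C] [Abelian C] [HasExt C] {S : ShortComplex C} (hS : S.ShortExact)
    (h : hS.extClass ≠ 0) (s : S.X₃ ⟶ S.X₂) : s ≫ S.g ≠ 𝟙 _ := fun e => h (by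
  have h1 : (Ext.mk₀ (s ≫ S.g)).comp hS.extClass (zero_add 1) = hS.extClass := by rw [e, Ext.mk₀_id_comp]
  rw [← h1, ← Ext.mk₀_comp_mk₀, Ext.comp_assoc_of_second_deg_zero, hS.comp_extClass, Ext.comp_zero])

/-- Let k be an algebraically closed field and X an integral scheme, smooth and proper over k, of
dimension n ≥ 2, with a closed immersion ι into projective N-space over k compatible with the
structure maps, polarised by the ample O_X(1) = ι^*O(1), and suppose H^1(X, O_X) ≠ 0. Then there is
an O_X-module E which is stable of dimension n in the sense of Gieseker (coherent, nonzero,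
torsion-free, with reduced Hilbert polynomial p(F) < p(E) for every nonzero proper coherent
submodule F), of rank 2 in the sense that α_n(E) = 2 α_n(O_X) for the multiplicities of the Hilbert
polynomials, and which is not slope-stable: E has a nonzero proper coherent submodule F with 0 <
α_n(F) < α_n(E) whose ratio α_{n-1}(F)/α_n(F) equals α_{n-1}(E)/α_n(E). Here a Hilbert polynomial is
written Σ_i α_i m^i/i!. (The published example is stated over an arbitrary field and without a
dimension bound; it uses a closed point with residue field k, so k is taken algebraically closed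
here, and for n = 1 the sheaf it constructs, a non-split extension of O_X by the ideal of a point on
a curve of positive genus, is slope-stable, so n ≥ 2 is assumed.) -/
theorem result (k : Type u) [Field k] [IsAlgClosed k]
    (X : Scheme.{u}) [X.Over (Spec (CommRingCat.of k))] [IsIntegral X]
    [Smooth (X ↘ Spec (CommRingCat.of k))] [IsProper (X ↘ Spec (CommRingCat.of k))]
    (N : ℕ) (ι : X ⟶ CohB1.ProjSpace N k) [IsClosedImmersion ι]
    (hι : ι ≫ CohB1.ProjSpace.toSpec N k = X ↘ Spec (CommRingCat.of k))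
    (hL : CohB1.IsAmple ((Scheme.Modules.pullback ι).obj (Twist.twistProjSpace N k 1)))
    (n : ℕ) (hn : topologicalKrullDim ↥X = (n : WithBot ℕ∞)) (h2 : 2 ≤ n)
    (h1 : Nontrivial (Coh.HH X (Coh.structureModule X) 1)) :
    ∃ E : X.Modules, ShStab.IsStable k X ((Scheme.Modules.pullback ι).obj (Twist.twistProjSpace N k 1)) E n ∧
      (∀ pO pE : Polynomial ℚ, ShStab.IsHilbPoly k X ((Scheme.Modules.pullback ι).obj (Twist.twistProjSpace N k 1)) (Coh.structureModule X) pO →
        ShStab.IsHilbPoly k X ((Scheme.Modules.pullback ι).obj (Twist.twistProjSpace N k 1)) E pE → StabCat.alpha n pE = 2 * StabCat.alpha n pO) ∧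
      ∃ (F : X.Modules) (j : F ⟶ E), Mono j ∧ Coh.IsCoh F ∧ ¬ IsZero F ∧ ¬ IsIso j ∧
        ∀ pF pE : Polynomial ℚ, ShStab.IsHilbPoly k X ((Scheme.Modules.pullback ι).obj (Twist.twistProjSpace N k 1)) F pF → ShStab.IsHilbPoly k X ((Scheme.Modules.pullback ι).obj (Twist.twistProjSpace N k 1)) E pE →
          0 < StabCat.alpha n pF ∧ StabCat.alpha n pF < StabCat.alpha n pE ∧
            StabCat.hatSlope n pF = StabCat.hatSlope n pE := by
  let L := (Scheme.Modules.pullback ι).obj (Twist.twistProjSpace N k 1)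
  let O := Coh.structureModule X
  haveI := isLocallyNoetherian_of_proper (Z := X) k
  haveI : CompactSpace X := hL.2.1
  haveI : AlgebraicGeometry.IsNoetherian X := {}
  have hO : Coh.IsCoh O := H10Coh.isCoh_structureModule' X
  obtain ⟨pO, hpO⟩ := exists_hilb (k := k) hL hn hO
  have hOp : ShStab.IsPure X O n := isPure_structure (k := k) hn
  have hO0 : ¬ IsZero O := fun h => (by
    have := H25Euler.mem_support_structure (X := X) (genericPoint X)
    rw [support_eq_empty_of_isZero h] at this
    exact this)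
  have haO : 0 < alpha n pO := alpha_pos_of_pure hL hOp hO hO0 hpO
  let Small : ℕ → Prop := fun r => ∃ (Q : X.Modules) (π : O ⟶ Q), Epi π ∧ Coh.IsCoh Q ∧ ¬ IsZero Q ∧
    topologicalKrullDim (CohB1.support Q) ≤ 0 ∧ ShStab.IsHilbPoly k X L Q (Polynomial.C (r : ℚ))
  have small_of : ∀ (Q : X.Modules) (π : O ⟶ Q) (P : ℚ[X]), Epi π → Coh.IsCoh Q → ¬ IsZero Q →
      ShStab.IsHilbPoly k X L Q P → topologicalKrullDim (CohB1.support Q) ≤ 0 →
      ∃ r : ℕ, P = Polynomial.C (r : ℚ) ∧ Small r := by
    intro Q π P hπ hQ hQ0 hP hd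
    have hdeg : P.natDegree = 0 := by
      refine Nat.le_zero.1 (natDegree_le_iff_coeff_eq_zero.2 fun i hi => ?_)
      exact H25Euler.coeff_hilbPoly_eq_zero hL hQ hP (d := 1) (lt_of_le_of_lt hd (by exact_mod_cast one_pos)) hi
    obtain ⟨z, hz⟩ : ∃ z : ℤ, P.coeff 0 = z := ⟨_, (coeff_zero_eq_eval_zero P).trans (by
      have := hP 0
      rw [Nat.cast_zero] at this
      exact this.symm)⟩
    have hpos : 0 < P.coeff 0 := by
      have := pos_iff.1 (hilbPoly_pos hL hQ hQ0 hP)
      rwa [leadingCoeff, hdeg] at this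
    lift z to ℕ using (by rw [hz] at hpos; exact_mod_cast hpos.le)
    have hPC : P = Polynomial.C (z : ℚ) := by rw [eq_C_of_natDegree_eq_zero hdeg, hz, Int.cast_natCast]
    exact ⟨z, hPC, Q, π, hπ, hQ, hQ0, hd, hPC ▸ hP⟩
  have hex : ∃ r, Small r := by
    obtain ⟨x, -, hx⟩ := (isClosed_univ (X := X)).exists_closed_singleton Set.univ_nonempty
    let J := Scheme.IdealSheafData.vanishingIdeal (⟨{x}, hx⟩ : TopologicalSpace.Closeds X)
    let j := J.subschemeι
    let G := (Scheme.Modules.pullback j).obj O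
    let Q := (Scheme.Modules.pushforward j).obj G
    have hQ : Coh.IsCoh Q :=
      H24FSch.isCoh_pushforward_of_isClosedImmersion j (H17.ConsProp.isCoh_pullback j hO)
    have hrange : Set.range j.base = {x} := by
      rw [Scheme.IdealSheafData.range_subschemeι, Scheme.IdealSheafData.coe_support_vanishingIdeal]
      rfl
    have hsupp : CohB1.support Q ⊆ {x} := fun y hy => by
      by_contra hne
      haveI := H16Derived.ProjFormula.subsingleton_stalk_push j G y (by rw [hrange]; exact hne)
      exact hy (inferInstance : Subsingleton (Q.presheaf.stalk y))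
    haveI := (Set.subsingleton_coe _).2 ((Set.subsingleton_singleton).anti hsupp)
    have hd : topologicalKrullDim (CohB1.support Q) ≤ 0 :=
      @Order.krullDim_nonpos_of_subsingleton _ _ ⟨fun a b => TopologicalSpace.IrreducibleCloseds.ext (by
        ext z
        exact ⟨fun _ => b.isIrreducible.1.elim fun w hw => Subsingleton.elim w z ▸ hw,
          fun _ => a.isIrreducible.1.elim fun w hw => Subsingleton.elim w z ▸ hw⟩)⟩
    have hQ0 : ¬ IsZero Q := fun h => by
      haveI := H16Derived.ProjFormula.isIso_counit_of_isClosedImmersion j G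
      have hG : IsZero G := IsZero.of_iso (Functor.map_isZero _ h)
        (asIso ((Scheme.Modules.pullbackPushforwardAdjunction j).counit.app G)).symm
      obtain ⟨z, -⟩ : x ∈ Set.range j.base := by rw [hrange]; rfl
      have hz := H25Euler.mem_support_structure (X := J.subscheme) z
      rw [support_eq_empty_of_isZero (hG.of_iso (H16Derived.KFlat.Stalk.structurePullbackIso j).symm)] at hz
      exact hz
    haveI := H16Derived.GTheory.epi_unit j O
    obtain ⟨P, hP⟩ := exists_hilb (k := k) hL hn hQ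
    obtain ⟨r, -, hr⟩ := small_of Q ((Scheme.Modules.pullbackPushforwardAdjunction j).unit.app O) P inferInstance hQ hQ0 hP hd
    exact ⟨r, hr⟩
  classical
  let c := Nat.find hex
  obtain ⟨Q₀, π₀, hπ₀, hQ₀, hQ₀0, hQ₀d, hpQ₀⟩ := Nat.find_spec hex
  haveI := hπ₀
  change ShStab.IsHilbPoly k X L Q₀ (Polynomial.C (c : ℚ)) at hpQ₀
  let I := kernel π₀
  have hI : Coh.IsCoh I := H10Coh.isCoh_kernel π₀ hO hQ₀.1
  obtain ⟨pI, hpI⟩ := exists_hilb (k := k) hL hn hI
  have hSI : (ShortComplex.mk (kernel.ι π₀) π₀ (kernel.condition _)).ShortExact :=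
    { exact := ShortComplex.exact_kernel _ }
  have hpI' : pI = pO - Polynomial.C (c : ℚ) := by
    rw [hilb_add hL hSI hI hO hQ₀ hpI hpO hpQ₀, add_sub_cancel_right]
  have haI : alpha n pI = alpha n pO := by
    rw [hpI', alpha_sub, alpha, alpha, coeff_C_of_ne_zero (by omega), mul_zero, sub_zero]
  have hI0 : ¬ IsZero I := fun h => by
    rw [H25Euler.hilbPoly_unique hpI (H25Euler.hilbPoly_zero h), alpha, coeff_zero, mul_zero] at haI
    exact haO.ne haI
  haveI : Nontrivial (Coh.HH X I 1) := by
    by_contra hnt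
    rw [not_nontrivial_iff_subsingleton] at hnt
    have := H10Coh.HHSeq.subsingleton₂ hSI hnt (H25Par.subsingleton_HH_of_dim_support_le_zero hQ₀ hQ₀d one_pos)
    exact not_nontrivial _ h1
  haveI : EnoughInjectives X.Modules := H10Coh.enoughInjectives_sheafOfModules X.ringCatSheaf
  letI : HasExt.{u} X.Modules := hasExt_of_enoughInjectives.{u} _
  haveI : EnoughInjectives (SheafOfModules.{u} X.ringCatSheaf) := H10Coh.enoughInjectives_sheafOfModules X.ringCatSheaf
  letI : HasExt.{u} (SheafOfModules.{u} X.ringCatSheaf) := ‹HasExt.{u} X.Modules›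
  obtain ⟨eExt⟩ := H15Site.ModExtH.nonempty_ext_unit_addEquiv X.ringCatSheaf I 1
  obtain ⟨h, hh⟩ := exists_ne (0 : Coh.HH X I 1)
  let ξ : Ext.{u} (C := X.Modules) O I 1 := eExt.symm h
  obtain ⟨E, i, p, w, hS, hξ⟩ := H28Alg.exists_shortExact_extClass_eq ξ
  have hne : hS.extClass ≠ 0 := fun e => hh
    ((eExt.apply_symm_apply h).symm.trans ((congrArg eExt (hξ.symm.trans e)).trans (map_zero eExt)))
  haveI := hS.mono_f
  have hE : Coh.IsCoh E := H10Coh.isCoh_X₂ hS hI hO
  obtain ⟨pE, hpE⟩ := exists_hilb (k := k) hL hn hE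
  have hpE' : pE = pI + pO := hilb_add hL hS hI hE hO hpI hpE hpO
  have haE : alpha n pE = 2 * alpha n pO := by rw [hpE', alpha_add, haI]; ring
  have hE0 : ¬ IsZero E := fun hz => hI0 ((IsZero.iff_id_eq_zero _).2 ((cancel_mono i).1 (hz.eq_of_tgt _ _)))
  have hEp : ShStab.IsPure X E n :=
    isPure_extension hS (isPure_of_mono hOp (kernel.ι π₀)) hOp hO k hn
  have rankOne : ∀ (G : X.Modules) (g : G ⟶ O), Mono g → Coh.IsCoh G → ¬ IsZero G → ¬ IsIso g →
      ∀ pG, ShStab.IsHilbPoly k X L G pG → RedLT n pG pE := by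
    intro G g hg hG hG0 hgi pG hpG
    obtain ⟨hα, hq, hC, hC0, hpC⟩ := sub_data hL hn g hG hG0 hgi hpO hpG
    have hmin : (pO - pG).natDegree = 0 → (c : ℚ) ≤ (pO - pG).coeff 0 := fun hd => by
      obtain ⟨r, hr, hS'⟩ := small_of _ (cokernel.π g) _ inferInstance hC hC0 hpC (dim_le_zero_of_const hL hn hC hC0 hpC hd)
      rw [hr, coeff_C_zero]
      exact_mod_cast Nat.find_le hS'
    rw [redLT_iff]
    have e : cross n pG pE = alpha n pO • ((2 : ℚ) • (pO - pG) - Polynomial.C (c : ℚ)) := by
      rw [cross, hα, haE, hpE', hpI']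
      simp only [Polynomial.smul_eq_C_mul, map_mul]
      rw [show Polynomial.C (2 : ℚ) = 2 from map_ofNat Polynomial.C 2]
      ring
    rw [e]
    exact (pos_two_smul_sub hq hmin).smul haO
  refine ⟨E, ⟨hE, hE0, hEp, ?_⟩, ?_, I, i, inferInstance, hI, hI0, ?_, ?_⟩
  · intro G m hm hG hG0 hmi pG pE₁ hpG hpE₁
    rw [H25Euler.hilbPoly_unique hpE₁ hpE]
    haveI := hm
    by_cases hφ : m ≫ p = 0
    · obtain ⟨l, hl⟩ := KernelFork.IsLimit.lift' hS.exact.fIsKernel m hφ
      replace hl : l ≫ i = m := hl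
      haveI : Mono (l ≫ i) := by rw [hl]; infer_instance
      haveI : Mono l := mono_of_mono l i
      refine rankOne G (l ≫ kernel.ι π₀) inferInstance hG hG0 (fun hiso => hQ₀0 ?_) pG hpG
      haveI : Epi (kernel.ι π₀) := epi_of_epi l (kernel.ι π₀)
      exact (IsZero.iff_id_eq_zero _).2 (by
        rw [← cancel_epi π₀, ← cancel_epi (kernel.ι π₀), ← Category.assoc, kernel.condition, Limits.zero_comp, Limits.comp_zero, Limits.comp_zero])
    by_cases hK0 : IsZero (kernel (m ≫ p))
    · haveI : Mono (m ≫ p) := Preadditive.mono_of_isZero_kernel _ hK0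
      refine rankOne G (m ≫ p) inferInstance hG hG0 (fun hiso => ?_) pG hpG
      exact not_split_of_extClass hS hne (inv (m ≫ p) ≫ m) (by
        show (inv (m ≫ p) ≫ m) ≫ p = 𝟙 O
        rw [Category.assoc, IsIso.inv_hom_id])
    obtain ⟨pK, hK, hJ, hpK, hpJ⟩ := exists_image_data hL hG hO (m ≫ p) hpG
      (dim_lt_succ_of_pure (isPure_of_mono hEp m) hG)
    obtain ⟨l, hl⟩ := KernelFork.IsLimit.lift' hS.exact.fIsKernel (kernel.ι (m ≫ p) ≫ m)
      (by rw [Category.assoc, kernel.condition])
    replace hl : l ≫ i = kernel.ι (m ≫ p) ≫ m := hl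
    haveI : Mono (l ≫ i) := by rw [hl]; infer_instance
    haveI : Mono l := mono_of_mono l i
    have hKα : alpha n pK = alpha n pO := by
      refine (sub_data hL hn (l ≫ kernel.ι π₀) hK hK0 (fun hiso => hQ₀0 ?_) hpO hpK).1
      haveI : Epi (kernel.ι π₀) := epi_of_epi l (kernel.ι π₀)
      exact (IsZero.iff_id_eq_zero _).2 (by
        rw [← cancel_epi π₀, ← cancel_epi (kernel.ι π₀), ← Category.assoc, kernel.condition, Limits.zero_comp, Limits.comp_zero, Limits.comp_zero])
    have hJα : alpha n (pG - pK) = alpha n pO := by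
      by_cases hJi : IsIso (Abelian.image.ι (m ≫ p))
      · rw [H25Euler.hilbPoly_unique hpO (H25Euler.hilbPoly_congr (asIso (Abelian.image.ι (m ≫ p))) hpJ)]
      · exact (sub_data hL hn (Abelian.image.ι (m ≫ p)) hJ (not_isZero_image hφ) hJi hpO hpJ).1
    have hGα : alpha n pG = 2 * alpha n pO := by rw [alpha_sub, hKα] at hJα; linarith
    have hpC := (H25Euler.polyLE_of_mono hL hG hE m hpG hpE).2
    have hC0 : ¬ IsZero (cokernel m) := fun hz => hmi (by
      haveI : Epi m := Preadditive.epi_of_isZero_cokernel _ hz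
      exact isIso_of_mono_of_epi m)
    rw [redLT_iff, cross, hGα, haE, ← smul_sub]
    exact (hilbPoly_pos hL (H10Coh.isCoh_cokernel m hG.1 hE) hC0 hpC).smul (by linarith)
  · intro pO₁ pE₁ h₁ h₂
    rw [H25Euler.hilbPoly_unique h₁ hpO, H25Euler.hilbPoly_unique h₂ hpE, haE]
  · intro hiso
    haveI := hiso
    refine hO0 ((IsZero.iff_id_eq_zero _).2 ?_)
    haveI := hS.epi_g
    rw [← cancel_epi p, ← cancel_epi i, ← Category.assoc, w, Limits.zero_comp, Limits.comp_zero, Limits.comp_zero]
  · intro pF pE₁ h₁ h₂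
    rw [H25Euler.hilbPoly_unique h₁ hpI, H25Euler.hilbPoly_unique h₂ hpE, haI, haE]
    refine ⟨haO, by linarith, ?_⟩
    have hI1 : alpha (n - 1) pI = alpha (n - 1) pO := by
      rw [hpI', alpha_sub, alpha, alpha, coeff_C_of_ne_zero (by omega), mul_zero, sub_zero]
    rw [hatSlope, hatSlope, haI, haE, hI1, hpE', alpha_add, hI1, ← two_mul, mul_div_mul_left _ _ two_ne_zero]

end Groth.Agent.S15221
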