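import Groth.Statements.S15222
import Groth.Agent.H10Coh.Stab.Criteria
-- import your own Groth.Agent.* helpers here

set_option autoImplicit false
open CategoryTheory CategoryTheory.Limits AlgebraicGeometry Polynomial
universe u
open ShStab

namespace Groth.Agent.S15222

/-- Let X be a scheme proper over a field k with an ample invertible sheaf L, all Hilbert polynomials
being taken with respect to L, and let 1 ≤ ℓ ≤ d. If an O_X-module E is semistable of dimension d in
the sense of Gieseker (coherent, nonzero, pure of dimension d, with reduced Hilbert polynomial p(F)
≤ p(E) for every nonzero proper coherent submodule F), then E is ℓ-semistable of dimension d: for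
every coherent submodule F whose multiplicity satisfies 0 < α_d(F) < α_d(E), the reduced ℓ-truncated
Hilbert polynomials (the coefficients α_{d-1}/α_d, …, α_{d-ℓ}/α_d, compared lexicographically)
satisfy p_ℓ(F) ≤ p_ℓ(E). (The published text records the case ℓ = d − 1, for sheaves on a connected
smooth projective variety with a very ample polarisation; this row states the implication for every
1 ≤ ℓ ≤ d, for X proper over any field with L ample.) -/
theorem result (k : Type u) [Field k] (X : Scheme.{u})
    [X.Over (Spec (CommRingCat.of k))] [IsProper (X ↘ Spec (CommRingCat.of k))]
    (L : X.Modules) (hL : CohB1.IsAmple L) (d ℓ : ℕ) (hℓ : 1 ≤ ℓ) (hℓd : ℓ ≤ d) (E : X.Modules)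
    (hE : ShStab.IsSemistable k X L E d) : ShStab.IsEllSemistable k X L E d ℓ := by
  exact Groth.Agent.H10Coh.Stab.isEllSemistable_of_isSemistable hL ℓ hE

end Groth.Agent.S15222
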