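import Groth.Statements.S15224
import Mathlib.Data.Nat.Choose.Sum
import Mathlib.Algebra.Order.BigOperators.Group.LocallyFinite
import Mathlib.Algebra.Algebra.Basic
import Mathlib.Tactic

set_option autoImplicit false
open Finset
open W4c2rk2extmaps

namespace Groth.Agent.S15224

/-- In a commutative ℚ-algebra R let y be an element and put c_k = y^k / k! for every k. Then for k ≥ 2,
Σ_{i=1}^{k-1} (-1)^(i-1) c_i c_(k-i) + (-1)^(k-1) c_k = c_k. (The published statement concerns the
Chern classes of a specific vector bundle on a Jacobian, which are of the form c_k = (4θ)^k / k!;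
the printed argument establishes the identity for every sequence of this form in a commutative
ℚ-algebra, which is the form stated here.) -/
theorem result (R : Type*) [CommRing R] [Algebra ℚ R] (y : R)
    (c : ℕ → R) (hc : ∀ k : ℕ, c k = ((Nat.factorial k : ℚ)⁻¹) • y ^ k)
    (k : ℕ) (hk : 2 ≤ k) :
    (∑ i ∈ Finset.Ico 1 k, (-1 : R) ^ (i - 1) * c i * c (k - i)) + (-1 : R) ^ (k - 1) * c k = c k := by
  have hcc : ∀ i ∈ Finset.range (k + 1), c i * c (k - i) = (k.choose i : ℚ) • c k := by
    intro i hi
    have hik : i ≤ k := Nat.lt_succ_iff.mp (Finset.mem_range.mp hi)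
    rw [hc, hc, hc, smul_mul_smul_comm, ← pow_add, Nat.add_sub_cancel' hik, smul_smul]
    congr 1
    rw [Nat.cast_choose ℚ hik]
    field_simp
  have hfull : ∑ i ∈ Finset.range (k + 1), (-1 : R) ^ i * (c i * c (k - i)) = 0 := by
    rw [Finset.sum_congr rfl (fun i hi => show (-1 : R) ^ i * (c i * c (k - i)) =
        ((-1 : ℚ) ^ i * (k.choose i : ℚ)) • c k by
      rw [hcc i hi, Algebra.smul_def, Algebra.smul_def, map_mul, map_pow, map_neg, map_one, mul_assoc])]
    rw [← Finset.sum_smul]
    have h' := congrArg (fun z : ℤ => (z : ℚ)) (Int.alternating_sum_range_choose_of_ne (n := k) (by omega))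
    push_cast at h'
    rw [h', zero_smul]
  rw [Finset.range_eq_Ico, Finset.sum_Ico_succ_top (by omega), Finset.sum_eq_sum_Ico_succ_bot (by omega : 0 < k)] at hfull
  have hc0 : c 0 = 1 := by simp [hc 0]
  simp only [Nat.sub_self, Nat.sub_zero, pow_zero, one_mul, hc0, mul_one, zero_add] at hfull
  have e1 : ∀ i ∈ Finset.Ico 1 k, (-1 : R) ^ (i - 1) * c i * c (k - i) = -((-1 : R) ^ i * (c i * c (k - i))) := by
    intro i hi
    obtain ⟨j, rfl⟩ := Nat.exists_eq_add_of_le (Finset.mem_Ico.mp hi).1
    simp only [Nat.add_sub_cancel_left, pow_add]; ring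
  rw [Finset.sum_congr rfl e1, Finset.sum_neg_distrib]
  obtain ⟨j, rfl⟩ := Nat.exists_eq_add_of_le (by omega : 1 ≤ k)
  simp only [Nat.add_sub_cancel_left, pow_add, pow_one] at hfull ⊢
  linear_combination -hfull

end Groth.Agent.S15224
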