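import Groth.Statements.S15225
import Groth.Agent.H29Pairs.Basic
import Groth.Agent.H29CurveDual.Canonical
import Groth.Agent.H11Tilde.Local
import Groth.Agent.H22Alg.KExists

set_option autoImplicit false
open CategoryTheory CategoryTheory.Limits AlgebraicGeometry MonoidalCategory
open VBCurve

namespace Groth.Agent.S15225

/-- Let X be a smooth proper integral curve over ℂ of genus at least 2 which is non-hyperelliptic (no
invertible module of degree 2 has two independent global sections), K a module isomorphic to its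
sheaf of differentials, and E a slope-stable finite locally free module of rank 2 and degree 0 or 1
(degrees are χ(−) minus rank times χ(O_X)). Call E very stable when every O_X-linear map α : E → E ⊗
K with α ∘ α = 0 (the composite E → E ⊗ K → (E ⊗ K) ⊗ K) is zero; for rank 2 this is the absence of
non-zero nilpotent K-valued endomorphisms. Then E fails to be very stable exactly when E has a line
subbundle L, i.e. an invertible submodule whose quotient E/L is invertible, together with a non-zero
O_X-linear map E/L → L ⊗ K. (With det E = Λ and L the dual of a line bundle L₀ the space of such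
maps is H^0(K ⊗ L₀^{-2} ⊗ Λ^{-1}), which is how the criterion is usually written.) -/
theorem result
    (X : Scheme.{0}) [X.Over (Spec (CommRingCat.of ℂ))] [IsIntegral X]
    [IsProper (X ↘ Spec (CommRingCat.of ℂ))] [Smooth (X ↘ Spec (CommRingCat.of ℂ))]
    (hdim : topologicalKrullDim X = 1) (hg : 2 ≤ Curv2.genus ℂ X)
    (hnh : ∀ M : X.Modules, PicF.IsInvertible M → Curv2.deg ℂ X M 1 = 2 →
      Module.finrank ℂ (Coh.HH X M 0) ≤ 1)
    (K : X.Modules) (eK : K ≅ Omega.sheaf (X ↘ Spec (CommRingCat.of ℂ)))
    (E : X.Modules) (hE : FlatMod.IsFinLocFreeOfRank 2 E)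
    (hdegE : Curv2.deg ℂ X E 2 = 0 ∨ Curv2.deg ℂ X E 2 = 1)
    (hst : ModFun.IsSlopeStable ℂ X E 2) :
    (¬ ∀ α : E ⟶ CohB1.tensorMod E K,
        α ≫ (CohB1.sheafifyMod X).map
          (MonoidalCategoryStruct.whiskerRight (C := CohB1.PMod X) α.val (CohB1.toPMod K)) = 0 → α = 0) ↔
      ∃ (L : X.Modules) (j : L ⟶ E), PicF.IsInvertible L ∧ Mono j ∧ PicF.IsInvertible (cokernel j) ∧
        ∃ β : cokernel j ⟶ CohB1.tensorMod L K, β ≠ 0 := by
  haveI := H29RR.isNoetherian_of_proper (k := ℂ) (X := X)
  have hK : PicF.IsInvertible K :=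
    H11Tilde.isInvertible_of_iso eK.symm (H29CurveDual.isInvertible_omega_curve (k := ℂ) hdim)
  let T := H29RR.twist K
  haveI : T.IsEquivalence := H29Pairs.isEquivalence_twist hK
  haveI : T.Additive := inferInstanceAs ((DCoh.tensorBi (X := X)).flip.obj K).Additive
  constructor
  · intro h
    push Not at h
    obtain ⟨α₀, hα, hne⟩ := h
    obtain ⟨α, rfl⟩ : ∃ α : E ⟶ T.obj E, α = α₀ := ⟨α₀, rfl⟩
    have hα' : α ≫ T.map α = 0 := (congrArg (α ≫ ·) (H29Pairs.sheafify_whisker_eq K α).symm).trans hα
    obtain ⟨a, m, hKa, hI, ham, -, hm0, hmono, -⟩ :=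
      H29RR.exists_image_data (k := ℂ) hdim.le hE (H29RR.rank_tensor hE hK) α
    have ha : a ≠ 0 := by
      intro h0
      haveI : @Mono X.Modules _ E (T.obj E) α := hmono h0
      haveI : Mono (T.map α) := T.map_mono α
      exact hne ((cancel_mono (T.map α)).1 (hα'.trans zero_comp.symm))
    have := hm0 hne
    obtain rfl : a = 1 := by omega
    obtain rfl : m = 1 := by omega
    let e : cokernel (kernel.ι α) ≅ Abelian.image α := Abelian.coimageIsoImage α
    have hπ : cokernel.π (kernel.ι α) ≫ e.hom ≫ Abelian.image.ι α = α := Abelian.coimage_image_factorisation α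
    have hz : Abelian.image.ι α ≫ T.map α = 0 := by
      rw [← cancel_epi e.hom, ← cancel_epi (cokernel.π (kernel.ι α)), comp_zero, comp_zero,
        ← Category.assoc e.hom, ← Category.assoc]
      exact (congrArg (· ≫ T.map α) hπ).trans hα'
    let β : cokernel (kernel.ι α) ⟶ T.obj (kernel α) :=
      e.hom ≫ kernel.lift (T.map α) (Abelian.image.ι α) hz ≫ (PreservesKernel.iso T α).inv
    refine ⟨kernel α, kernel.ι α, H22Alg.KExists.isInvertible_of_rank_one hKa, inferInstance,
      H11Tilde.isInvertible_of_iso e.symm (H22Alg.KExists.isInvertible_of_rank_one hI), β, fun h0 => hne ?_⟩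
    have hβ : β ≫ T.map (kernel.ι α) = e.hom ≫ Abelian.image.ι α := by
      simp only [β, Category.assoc]
      rw [PreservesKernel.iso_inv_ι, kernel.lift_ι]
    have hβ0 : (0 : cokernel (kernel.ι α) ⟶ T.obj (kernel α)) ≫ T.map (kernel.ι α) = e.hom ≫ Abelian.image.ι α :=
      (congrArg (· ≫ T.map (kernel.ι α)) h0.symm).trans hβ
    rw [zero_comp] at hβ0
    rw [← hπ]
    exact (congrArg (cokernel.π (kernel.ι α) ≫ ·) hβ0.symm).trans comp_zero
  · rintro ⟨L, j, hL, hj, hC, β, hβ⟩ h
    haveI := hj
    let α : E ⟶ T.obj E := cokernel.π j ≫ (show cokernel j ⟶ T.obj L from β) ≫ T.map j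
    refine hβ ?_
    have h0 : α = 0 := h α ((congrArg (α ≫ ·) (H29Pairs.sheafify_whisker_eq K α)).trans (by
      show (cokernel.π j ≫ (show cokernel j ⟶ T.obj L from β) ≫ T.map j) ≫
        T.map (cokernel.π j ≫ (show cokernel j ⟶ T.obj L from β) ≫ T.map j) = 0
      rw [T.map_comp, Category.assoc, Category.assoc, ← T.map_comp_assoc j, cokernel.condition, T.map_zero,
        zero_comp, comp_zero, comp_zero]))
    haveI : Mono (T.map j) := T.map_mono j
    exact (cancel_mono (T.map j)).1 ((cancel_epi (cokernel.π j)).1 (h0.trans comp_zero.symm) |>.trans zero_comp.symm)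

end Groth.Agent.S15225
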