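import Groth.Statements.S15227
import Groth.Agent.H29Pairs.Basic
import Groth.Agent.H29CurveDual.Canonical
import Groth.Agent.H11Tilde.Local
import Groth.Agent.H29RR.Consts

set_option autoImplicit false
open CategoryTheory CategoryTheory.Limits AlgebraicGeometry MonoidalCategory
open VBCurve

namespace Groth.Agent.S15227

/-- Let X be a smooth proper integral curve over ℂ of genus g ≥ 3 which is non-hyperelliptic, K a module
isomorphic to its sheaf of differentials, and N an invertible module of degree g − 1 with H^0(N) =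
0, so that the complete linear system of K ⊗ N maps X to a projective space of dimension 2g − 3 as a
curve of degree 3g − 3. An effective divisor D of degree d, recorded through its invertible ideal
sheaf I ⊂ O_X (of degree −d), is a d-secant when its linear span has dimension d − 2, i.e. h^0(I ⊗ K
⊗ N) = h^0(K ⊗ N) − d + 1. Then there is no (g − 1)-secant: no invertible ideal I ⊂ O_X of degree 1
− g satisfies h^0(I ⊗ K ⊗ N) + (g − 2) = h^0(K ⊗ N). -/
theorem result
    (X : Scheme.{0}) [X.Over (Spec (CommRingCat.of ℂ))] [IsIntegral X]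
    [IsProper (X ↘ Spec (CommRingCat.of ℂ))] [Smooth (X ↘ Spec (CommRingCat.of ℂ))]
    (hdim : topologicalKrullDim X = 1) (hg : 2 ≤ Curv2.genus ℂ X)
    (hnh : ∀ M : X.Modules, PicF.IsInvertible M → Curv2.deg ℂ X M 1 = 2 →
      Module.finrank ℂ (Coh.HH X M 0) ≤ 1)
    (K : X.Modules) (eK : K ≅ Omega.sheaf (X ↘ Spec (CommRingCat.of ℂ)))
    (g : ℕ) (hg3 : 3 ≤ g) (hgen : Curv2.genus ℂ X = g)
    (N : X.Modules) (hN : PicF.IsInvertible N) (hdN : Curv2.deg ℂ X N 1 = (g : ℤ) - 1)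
    (h0 : Module.finrank ℂ (Coh.HH X N 0) = 0) :
    ¬ ∃ (I : X.Modules) (ι : I ⟶ Coh.structureModule X),
        PicF.IsInvertible I ∧ Mono ι ∧ Curv2.deg ℂ X I 1 = -((g : ℤ) - 1) ∧
        Module.finrank ℂ (Coh.HH X (CohB1.tensorMod I (CohB1.tensorMod K N)) 0) + (g - 2) =
          Module.finrank ℂ (Coh.HH X (CohB1.tensorMod K N) 0) := by
  rintro ⟨I, ι, hI, hι, hdI, hsec⟩
  haveI := hι
  haveI := H29RR.isNoetherian_of_proper (k := ℂ) (X := X)
  let ω := Omega.sheaf (X ↘ Spec (CommRingCat.of ℂ))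
  have hΩ : PicF.IsInvertible ω := H29CurveDual.isInvertible_omega_curve (k := ℂ) hdim
  have hK : PicF.IsInvertible K := H11Tilde.isInvertible_of_iso eK.symm hΩ
  have h0O := H29RR.finrank_h0_structure ℂ X
  have hdω : Curv2.deg ℂ X ω 1 = 2 * (g : ℤ) - 2 := by
    rw [H29CurveDual.deg_omega_of_h0 (k := ℂ) hdim h0O, hgen]
  have hKN := H11Ample.isInvertible_tensor hK hN
  let M := CohB1.tensorMod I (CohB1.tensorMod K N)
  have hM : PicF.IsInvertible M := H11Ample.isInvertible_tensor hI hKN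
  have hdKN : Curv2.deg ℂ X (CohB1.tensorMod K N) 1 = 3 * (g : ℤ) - 3 := by
    rw [H29RR.deg_tensor (k := ℂ) hdim.le hK hN, H29RR.deg_congr (k := ℂ) eK, hdω, hdN]; omega
  have hdM : Curv2.deg ℂ X M 1 = 2 * (g : ℤ) - 2 := by
    rw [H29RR.deg_tensor (k := ℂ) hdim.le hI hKN, hdKN, hdI]; omega
  haveI := H29CurveDual.subsingleton_h1_of_deg (k := ℂ) hdim hKN
    (show Curv2.deg ℂ X ω 1 < _ by rw [hdω, hdKN]; omega)
  have hrr := H29RR.riemann_roch (k := ℂ) hdim.le (CohB1.tensorMod K N)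
  have hrrM := H29RR.riemann_roch (k := ℂ) hdim.le M
  rw [h0O, hgen, hdKN, Module.finrank_zero_of_subsingleton (R := ℂ) (M := Coh.HH X (CohB1.tensorMod K N) 1)] at hrr
  rw [h0O, hgen, hdM] at hrrM
  have hpos : 0 < Module.finrank ℂ (Coh.HH X M 1) := by
    have hsec' : Module.finrank ℂ (Coh.HH X M 0) + (g - 2) = Module.finrank ℂ (Coh.HH X (CohB1.tensorMod K N) 0) := hsec
    omega
  letI := H29CurveDual.homModule (k := ℂ) M ω
  rw [H29CurveDual.finrank_h1_eq (k := ℂ) hdim (H29CurveDual.isCoh_of_isInvertible hM)] at hpos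
  obtain ⟨f, hf⟩ : ∃ f : M ⟶ ω, f ≠ 0 := by
    by_contra! hz
    haveI : Subsingleton (M ⟶ ω) := subsingleton_of_forall_eq 0 hz
    rw [Module.finrank_zero_of_subsingleton] at hpos
    exact lt_irrefl _ hpos
  haveI : IsIso f := (H29RR.deg_le_of_ne_zero (k := ℂ) hdim.le hM hΩ hf).2 (by rw [hdM, hdω])
  obtain ⟨J, hJ, ⟨eJ⟩⟩ := H29RR.exists_inverse_comm hK
  let e : CohB1.tensorMod I N ≅ Coh.structureModule X :=
    (H10Coh.Tw.rightUnitIso (CohB1.tensorMod I N)).symm ≪≫ PicGrp.tensorModIso (Iso.refl _) eJ.symm ≪≫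
      (H10Coh.Tw.assoc (CohB1.tensorMod I N) K J).symm ≪≫
      PicGrp.tensorModIso (H10Coh.Tw.assoc I N K ≪≫ PicGrp.tensorModIso (Iso.refl I) (H10Coh.Tw.commIso N K) ≪≫
        asIso f ≪≫ eK.symm) (Iso.refl J) ≪≫ eJ
  haveI : ((H29RR.twist N).IsEquivalence) := H29Pairs.isEquivalence_twist hN
  haveI : Mono ((H29RR.twist N).map ι) := Functor.map_mono _ _
  let σ : Coh.structureModule X ⟶ N := e.inv ≫ (H29RR.twist N).map ι ≫ (H10Coh.Tw.leftUnitIso N).hom
  haveI hm1 : Mono ((H29RR.twist N).map ι ≫ (H10Coh.Tw.leftUnitIso N).hom) := mono_comp' ‹_› inferInstance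
  haveI : Mono σ := mono_comp' inferInstance hm1
  haveI := H29RR.finite_HH (k := ℂ) N hN 0
  have hle := LinearMap.finrank_le_finrank_of_injective (f := Canon.HHlin ℂ σ 0)
    (hf := H29RR.hhlin_zero_injective (k := ℂ) σ)
  omega

end Groth.Agent.S15227
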