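import Groth.Statements.S15228
import Groth.Agent.H29Pairs.Basic
import Groth.Agent.H29CurveDual.Canonical
import Groth.Agent.H11Tilde.Local
import Groth.Agent.H29RR.Consts

set_option autoImplicit false
open CategoryTheory CategoryTheory.Limits AlgebraicGeometry MonoidalCategory
open VBCurve

namespace Groth.Agent.S15228

/-- Let X be a smooth proper integral curve over ℂ of genus g ≥ 3 which is non-hyperelliptic, K a module
isomorphic to its sheaf of differentials, and N an invertible module of degree g with h^0(N) ≤ 1, so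
that the complete linear system of K ⊗ N maps X to a projective space of dimension 2g − 2 as a curve
of degree 3g − 2. An effective divisor D of degree d, recorded through its invertible ideal sheaf I
⊂ O_X (of degree −d), is a d-secant when its linear span has dimension d − 2, i.e. h^0(I ⊗ K ⊗ N) =
h^0(K ⊗ N) − d + 1. Then X has exactly one g-secant: some invertible ideal I ⊂ O_X of degree −g
satisfies h^0(I ⊗ K ⊗ N) + (g − 1) = h^0(K ⊗ N), and any two such ideals are equal as subobjects of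
O_X (an isomorphism between them commutes with the inclusions). -/
theorem result
    (X : Scheme.{0}) [X.Over (Spec (CommRingCat.of ℂ))] [IsIntegral X]
    [IsProper (X ↘ Spec (CommRingCat.of ℂ))] [Smooth (X ↘ Spec (CommRingCat.of ℂ))]
    (hdim : topologicalKrullDim X = 1) (hg : 2 ≤ Curv2.genus ℂ X)
    (hnh : ∀ M : X.Modules, PicF.IsInvertible M → Curv2.deg ℂ X M 1 = 2 →
      Module.finrank ℂ (Coh.HH X M 0) ≤ 1)
    (K : X.Modules) (eK : K ≅ Omega.sheaf (X ↘ Spec (CommRingCat.of ℂ)))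
    (g : ℕ) (hg3 : 3 ≤ g) (hgen : Curv2.genus ℂ X = g)
    (N : X.Modules) (hN : PicF.IsInvertible N) (hdN : Curv2.deg ℂ X N 1 = (g : ℤ))
    (h0 : Module.finrank ℂ (Coh.HH X N 0) ≤ 1) :
    (∃ (I : X.Modules) (ι : I ⟶ Coh.structureModule X),
        PicF.IsInvertible I ∧ Mono ι ∧ Curv2.deg ℂ X I 1 = -((g : ℤ)) ∧
        Module.finrank ℂ (Coh.HH X (CohB1.tensorMod I (CohB1.tensorMod K N)) 0) + (g - 1) =
          Module.finrank ℂ (Coh.HH X (CohB1.tensorMod K N) 0)) ∧
      ∀ (I I' : X.Modules) (ι : I ⟶ Coh.structureModule X) (ι' : I' ⟶ Coh.structureModule X),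
        (PicF.IsInvertible I ∧ Mono ι ∧ Curv2.deg ℂ X I 1 = -((g : ℤ)) ∧
        Module.finrank ℂ (Coh.HH X (CohB1.tensorMod I (CohB1.tensorMod K N)) 0) + (g - 1) =
          Module.finrank ℂ (Coh.HH X (CohB1.tensorMod K N) 0)) →
        (PicF.IsInvertible I' ∧ Mono ι' ∧ Curv2.deg ℂ X I' 1 = -((g : ℤ)) ∧
        Module.finrank ℂ (Coh.HH X (CohB1.tensorMod I' (CohB1.tensorMod K N)) 0) + (g - 1) =
          Module.finrank ℂ (Coh.HH X (CohB1.tensorMod K N) 0)) →
        ∃ φ : I' ≅ I, φ.hom ≫ ι = ι' := by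
  haveI := H29RR.isNoetherian_of_proper (k := ℂ) (X := X)
  let ω := Omega.sheaf (X ↘ Spec (CommRingCat.of ℂ))
  have hΩ : PicF.IsInvertible ω := H29CurveDual.isInvertible_omega_curve (k := ℂ) hdim
  have hK : PicF.IsInvertible K := H11Tilde.isInvertible_of_iso eK.symm hΩ
  have h0O := H29RR.finrank_h0_structure ℂ X
  have hdω : Curv2.deg ℂ X ω 1 = 2 * (g : ℤ) - 2 := by
    rw [H29CurveDual.deg_omega_of_h0 (k := ℂ) hdim h0O, hgen]
  have hh0ω : Module.finrank ℂ (Coh.HH X ω 0) = g := by rw [H29CurveDual.finrank_h1_structure (k := ℂ) hdim, hgen]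
  have hKN := H11Ample.isInvertible_tensor hK hN
  have hdKN : Curv2.deg ℂ X (CohB1.tensorMod K N) 1 = 3 * (g : ℤ) - 2 := by
    rw [H29RR.deg_tensor (k := ℂ) hdim.le hK hN, H29RR.deg_congr (k := ℂ) eK, hdω, hdN]; omega
  haveI := H29CurveDual.subsingleton_h1_of_deg (k := ℂ) hdim hKN
    (show Curv2.deg ℂ X ω 1 < _ by rw [hdω, hdKN]; omega)
  have hrr := H29RR.riemann_roch (k := ℂ) hdim.le (CohB1.tensorMod K N)
  rw [h0O, hgen, hdKN, Module.finrank_zero_of_subsingleton (R := ℂ) (M := Coh.HH X (CohB1.tensorMod K N) 1)] at hrr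
  have hhKN : Module.finrank ℂ (Coh.HH X (CohB1.tensorMod K N) 0) = 2 * g - 1 := by omega
  have hrrN := H29RR.riemann_roch (k := ℂ) hdim.le N
  rw [h0O, hgen, hdN] at hrrN
  have hN1 : Module.finrank ℂ (Coh.HH X N 0) = 1 := by omega
  obtain ⟨N', hN', ⟨eN⟩⟩ := H29RR.exists_inverse_comm hN
  -- a secant has ideal inverse to `N`
  have key : ∀ (I : X.Modules) (ι : I ⟶ Coh.structureModule X),
      (PicF.IsInvertible I ∧ Mono ι ∧ Curv2.deg ℂ X I 1 = -((g : ℤ)) ∧
        Module.finrank ℂ (Coh.HH X (CohB1.tensorMod I (CohB1.tensorMod K N)) 0) + (g - 1) =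
          Module.finrank ℂ (Coh.HH X (CohB1.tensorMod K N) 0)) →
      Nonempty (CohB1.tensorMod I N ≅ Coh.structureModule X) := by
    rintro I ι ⟨hI, -, hdI, hsec⟩
    let M := CohB1.tensorMod I (CohB1.tensorMod K N)
    have hM : PicF.IsInvertible M := H11Ample.isInvertible_tensor hI hKN
    have hdM : Curv2.deg ℂ X M 1 = 2 * (g : ℤ) - 2 := by
      rw [H29RR.deg_tensor (k := ℂ) hdim.le hI hKN, hdKN, hdI]; omega
    have hrrM := H29RR.riemann_roch (k := ℂ) hdim.le M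
    rw [h0O, hgen, hdM] at hrrM
    have hpos : 0 < Module.finrank ℂ (Coh.HH X M 1) := by
      have hsec' : Module.finrank ℂ (Coh.HH X M 0) + (g - 1) =
          Module.finrank ℂ (Coh.HH X (CohB1.tensorMod K N) 0) := hsec
      omega
    letI := H29CurveDual.homModule (k := ℂ) M ω
    rw [H29CurveDual.finrank_h1_eq (k := ℂ) hdim (H29CurveDual.isCoh_of_isInvertible hM)] at hpos
    obtain ⟨f, hf⟩ : ∃ f : M ⟶ ω, f ≠ 0 := by
      by_contra! hz
      haveI : Subsingleton (M ⟶ ω) := subsingleton_of_forall_eq 0 hz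
      rw [Module.finrank_zero_of_subsingleton] at hpos
      exact lt_irrefl _ hpos
    haveI : IsIso f := (H29RR.deg_le_of_ne_zero (k := ℂ) hdim.le hM hΩ hf).2 (by rw [hdM, hdω])
    obtain ⟨J, hJ, ⟨eJ⟩⟩ := H29RR.exists_inverse_comm hK
    exact ⟨(H10Coh.Tw.rightUnitIso (CohB1.tensorMod I N)).symm ≪≫ PicGrp.tensorModIso (Iso.refl _) eJ.symm ≪≫
      (H10Coh.Tw.assoc (CohB1.tensorMod I N) K J).symm ≪≫
      PicGrp.tensorModIso (H10Coh.Tw.assoc I N K ≪≫ PicGrp.tensorModIso (Iso.refl I) (H10Coh.Tw.commIso N K) ≪≫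
        asIso f ≪≫ eK.symm) (Iso.refl J) ≪≫ eJ⟩
  refine ⟨?_, ?_⟩
  · haveI : Nontrivial (Coh.HH X N 0) := Module.nontrivial_of_finrank_eq_succ hN1
    obtain ⟨s, hs⟩ := H29RR.exists_global_ne_zero N inferInstance
    haveI : Mono (H11Tilde.homOfGlobal N s) := (H29RR.mono_homOfGlobal hN hs).1
    haveI : ((H29RR.twist N').IsEquivalence) := H29Pairs.isEquivalence_twist hN'
    haveI : Mono ((H29RR.twist N').map (H11Tilde.homOfGlobal N s)) := Functor.map_mono _ _
    have hdN' : Curv2.deg ℂ X N' 1 = -(g : ℤ) := by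
      have h := H29RR.deg_tensor (k := ℂ) hdim.le hN hN'
      rw [H29RR.deg_congr (k := ℂ) eN, H29RR.deg_structureModule, hdN] at h
      omega
    refine ⟨N', (H10Coh.Tw.leftUnitIso N').inv ≫ (H29RR.twist N').map (H11Tilde.homOfGlobal N s) ≫ eN.hom,
      hN', mono_comp' inferInstance (mono_comp' ‹_› inferInstance), hdN', ?_⟩
    let e : CohB1.tensorMod N' (CohB1.tensorMod K N) ≅ ω :=
      H10Coh.Tw.commIso _ _ ≪≫ H10Coh.Tw.assoc K N N' ≪≫ PicGrp.tensorModIso (Iso.refl K) eN ≪≫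
        H10Coh.Tw.rightUnitIso K ≪≫ eK
    rw [H29CurveDual.finrank_h0_congr (k := ℂ) e 0, hh0ω, hhKN]
    omega
  intro I I' ι ι' h h'
  obtain ⟨eI⟩ := key I ι h
  obtain ⟨eI'⟩ := key I' ι' h'
  obtain ⟨hI, hmι, -, -⟩ := h
  obtain ⟨hI', hmι', -, -⟩ := h'
  let φ₀ : I' ≅ I :=
    (H10Coh.Tw.rightUnitIso I').symm ≪≫ PicGrp.tensorModIso (Iso.refl I') eI.symm ≪≫
      PicGrp.tensorModIso (Iso.refl I') (H10Coh.Tw.commIso I N) ≪≫ (H10Coh.Tw.assoc I' N I).symm ≪≫
      PicGrp.tensorModIso eI' (Iso.refl I) ≪≫ H10Coh.Tw.leftUnitIso I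
  letI := H29CurveDual.homModule (k := ℂ) I' (Coh.structureModule X)
  have hdimH : Module.finrank ℂ (I' ⟶ Coh.structureModule X) = 1 := by
    rw [H29CurveDual.finrank_hom_invertible ℂ hN eI', H29CurveDual.finrank_h0_congr (k := ℂ) (H10Coh.Tw.leftUnitIso N) 0, hN1]
  have hne : ∀ {A : X.Modules}, PicF.IsInvertible A → ∀ (u : A ⟶ Coh.structureModule X), Mono u → u ≠ 0 := by
    intro A hA u hu h0
    have hz : IsZero A := @Limits.IsZero.of_mono_eq_zero _ _ _ _ _ u hu h0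
    obtain ⟨-, -, hr⟩ := H25Par.finrank_stalk (H29RR.rank_one_of_isInvertible hA) (genericPoint X)
    haveI : Subsingleton ((DerSch.stalkFunctor X (genericPoint X)).obj A) :=
      ModuleCat.subsingleton_of_isZero (Functor.map_isZero _ hz)
    have := Module.finrank_zero_of_subsingleton (R := X.presheaf.stalk (genericPoint X))
      (M := (DerSch.stalkFunctor X (genericPoint X)).obj A)
    exact zero_ne_one (this.symm.trans hr)
  have hv : φ₀.hom ≫ ι ≠ 0 := fun h0 => hne hI ι hmι (by rw [← cancel_epi φ₀.hom, h0, comp_zero])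
  obtain ⟨c, hc⟩ := exists_smul_eq_of_finrank_eq_one hdimH hv ι'
  have hc0 : c ≠ 0 := fun h0 => hne hI' ι' hmι' (by rw [← hc, h0, zero_smul])
  let u : Γ(X, ⊤) := H10Coh.globA (A := ℂ) (X := X) c
  let v : Γ(X, ⊤) := H10Coh.globA (A := ℂ) (X := X) c⁻¹
  have huv : u * v = 1 := by simp only [u, v, ← map_mul, mul_inv_cancel₀ hc0, map_one]
  let σ : I ≅ I := ⟨H29CurveDual.scal I u, H29CurveDual.scal I v,
    by rw [← H29CurveDual.scal_mul, mul_comm v, huv, H29CurveDual.scal_one],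
    by rw [← H29CurveDual.scal_mul, huv, H29CurveDual.scal_one]⟩
  refine ⟨φ₀ ≪≫ σ, ?_⟩
  show (φ₀.hom ≫ H29CurveDual.scal I u) ≫ ι = ι'
  rw [Category.assoc, H29CurveDual.scal_natural, ← Category.assoc]
  exact hc

end Groth.Agent.S15228
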