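import Groth.Statements.S15229
import Mathlib.Data.Nat.Choose.Sum
import Mathlib.Data.Nat.Choose.Cast
import Mathlib.Tactic.FieldSimp
import Mathlib.Tactic.LinearCombination

set_option autoImplicit false
open Finset
open W4c2rk2extmaps

namespace Groth.Agent.S15229

/-- In a commutative ℚ-algebra R let θ, η be elements and g a natural number, and put c_k = (4θ)^k / k!.
Suppose θ^(g+1) = 0 and that η satisfies the relation η^(g+1) = Σ_{i=1}^{g+1} (-1)^(i-1) c_i
η^(g+1-i). Then η^(g+k) θ^(g-k) = c_k η^g θ^(g-k) for every 1 ≤ k ≤ g. (The published statement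
concerns the first Chern class η of the tautological line bundle on a projective bundle P(U) over a
g-dimensional Jacobian, with c_k the Chern classes of U, which are (4θ)^k / k!; there θ^(g+1)
vanishes for dimension reasons and the displayed relation is the projective-bundle relation, and the
printed argument derives the identity from exactly these three inputs, which is the form stated
here.) -/
theorem result (R : Type*) [CommRing R] [Algebra ℚ R]
    (θ η : R) (g : ℕ) (c : ℕ → R) (hc : ∀ k : ℕ, c k = ((Nat.factorial k : ℚ)⁻¹) • ((4 : R) * θ) ^ k)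
    (hθ : θ ^ (g + 1) = 0)
    (hrel : η ^ (g + 1) = ∑ i ∈ Finset.Ico 1 (g + 2), (-1 : R) ^ (i - 1) * c i * η ^ (g + 1 - i))
    (k : ℕ) (hk1 : 1 ≤ k) (hkg : k ≤ g) :
    η ^ (g + k) * θ ^ (g - k) = c k * η ^ g * θ ^ (g - k) := by
  classical
  have hcc : ∀ i j : ℕ, c i * c j = ((i + j).choose i : R) * c (i + j) := by
    intro i j
    rw [hc, hc, hc, smul_mul_smul_comm, ← pow_add, ← map_natCast (algebraMap ℚ R), ← Algebra.smul_def, smul_smul]
    congr 1
    rw [Nat.cast_choose ℚ (Nat.le_add_right i j), Nat.add_sub_cancel_left]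
    field_simp [Nat.cast_ne_zero.mpr (Nat.factorial_ne_zero i), Nat.cast_ne_zero.mpr (Nat.factorial_ne_zero j)]
  have hc0 : c 0 = 1 := by simp [hc]
  suffices H : ∀ k, k ≤ g → η ^ (g + k) * θ ^ (g - k) = c k * η ^ g * θ ^ (g - k) from H k hkg
  intro k
  induction k using Nat.strong_induction_on with
  | _ k ih =>
    intro hk
    rcases Nat.eq_zero_or_pos k with rfl | hk0
    · simp [hc0]
    have hterm : ∀ i ∈ Finset.Ico 1 (g + 2), η ^ (k - 1) * ((-1 : R) ^ (i - 1) * c i * η ^ (g + 1 - i)) * θ ^ (g - k) =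
        if i ≤ k then ((-1 : R) ^ (i - 1) * (k.choose i : R)) * (c k * η ^ g * θ ^ (g - k)) else 0 := by
      intro i hi
      rw [Finset.mem_Ico] at hi
      have hη : η ^ (k - 1) * η ^ (g + 1 - i) = η ^ (g + k - i) := by
        rw [← pow_add]; congr 1; omega
      have hθ' : c i * θ ^ (g - k) = ((i.factorial : ℚ)⁻¹ • (4 : R) ^ i) * θ ^ (g - k + i) := by
        rw [hc, mul_pow, smul_mul_assoc, smul_mul_assoc, pow_add, mul_assoc, mul_comm (θ ^ i)]
      have hrw : η ^ (k - 1) * ((-1 : R) ^ (i - 1) * c i * η ^ (g + 1 - i)) * θ ^ (g - k) =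
          (-1 : R) ^ (i - 1) * ((c i * θ ^ (g - k)) * η ^ (g + k - i)) := by rw [← hη]; ring
      rw [hrw]
      split_ifs with hik
      · have h1 := ih (k - i) (by omega) (by omega)
        have e1 : g + (k - i) = g + k - i := by omega
        have e2 : g - (k - i) = g - k + i := by omega
        rw [e1, e2] at h1
        have h2 : (c i * θ ^ (g - k)) * η ^ (g + k - i) = c i * c (k - i) * η ^ g * θ ^ (g - k) := by
          calc (c i * θ ^ (g - k)) * η ^ (g + k - i)
              = ((i.factorial : ℚ)⁻¹ • (4 : R) ^ i) * (η ^ (g + k - i) * θ ^ (g - k + i)) := by rw [hθ']; ring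
            _ = (((i.factorial : ℚ)⁻¹ • (4 : R) ^ i) * θ ^ (g - k + i)) * (c (k - i) * η ^ g) := by rw [h1]; ring
            _ = c i * c (k - i) * η ^ g * θ ^ (g - k) := by rw [← hθ']; ring
        rw [h2, hcc, Nat.add_sub_cancel' hik]
        ring
      · rw [hθ', pow_eq_zero_of_le (by omega) hθ, mul_zero, zero_mul, mul_zero]
    have hsum : (∑ i ∈ Finset.Ico 1 (k + 1), (-1 : R) ^ (i - 1) * (k.choose i : R)) = 1 := by
      have h0 : (∑ i ∈ Finset.range (k + 1), (-1 : R) ^ i * (k.choose i : R)) = 0 := by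
        have := congrArg (fun z : ℤ => (z : R)) (Int.alternating_sum_range_choose_of_ne hk0.ne')
        simpa using this
      rw [Finset.sum_range_succ'] at h0
      rw [Finset.sum_Ico_eq_sum_range, Nat.add_sub_cancel]
      simp only [pow_zero, Nat.choose_zero_right, Nat.cast_one, one_mul] at h0
      have : ∀ i ∈ Finset.range k, (-1 : R) ^ (1 + i - 1) * (k.choose (1 + i) : R) = -((-1 : R) ^ (i + 1) * (k.choose (i + 1) : R)) :=
        fun i _ => by rw [Nat.add_sub_cancel_left, Nat.add_comm 1 i, pow_succ]; ring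
      rw [Finset.sum_congr rfl this, Finset.sum_neg_distrib]
      linear_combination -h0
    have h3 : η ^ (g + k) * θ ^ (g - k) = ∑ i ∈ Finset.Ico 1 (g + 2),
        η ^ (k - 1) * ((-1 : R) ^ (i - 1) * c i * η ^ (g + 1 - i)) * θ ^ (g - k) := by
      rw [← Finset.sum_mul, ← Finset.mul_sum, ← hrel, ← pow_add]
      congr 2
      omega
    rw [h3, Finset.sum_congr rfl hterm, ← Finset.sum_filter,
      show (Finset.Ico 1 (g + 2)).filter (· ≤ k) = Finset.Ico 1 (k + 1) by ext i; simp; omega,
      ← Finset.sum_mul, hsum, one_mul]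

end Groth.Agent.S15229
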