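import Groth.Statements.S1523
import Groth.Agent.H29RR.Choice
import Groth.Agent.H29RR.PointAux
import Groth.Agent.H29RR.Clifford

set_option autoImplicit false
universe u
open CategoryTheory CategoryTheory.Limits AlgebraicGeometry
open Variety

namespace Groth.Agent.S1523

/-- A regular closed point in a neighbourhood of the generic point, with invertible ideal. -/
theorem exists_point (k : Type u) [Field k] [IsAlgClosed k] {X : Scheme.{u}} [X.Over (Spec (CommRingCat.of k))]
    [IsIntegral X] [IsProper (X ↘ Spec (CommRingCat.of k))] (hdim : topologicalKrullDim X = 1) (U : X.Opens)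
    (hU : genericPoint X ∈ U) :
    ∃ x ∈ U, IsClosed ({x} : Set X) ∧ PicF.IsInvertible (ClSub.idealMod (H29RR.ptIdeal x)) := by
  haveI : IsLocallyNoetherian X := LocallyOfFiniteType.isLocallyNoetherian (X ↘ Spec (CommRingCat.of k))
  haveI : LocallyOfFinitePresentation (X ↘ Spec (CommRingCat.of k)) := inferInstance
  haveI : JacobsonSpace X := LocallyOfFiniteType.jacobsonSpace (X ↘ Spec (CommRingCat.of k))
  let V := U ⊓ (X ↘ Spec (CommRingCat.of k)).smoothLocus
  have hV : genericPoint X ∈ V := ⟨hU, Scheme.Hom.genericPoint_mem_smoothLocus_of_perfectField _⟩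
  obtain ⟨x, hxV, hx⟩ := nonempty_inter_closedPoints (Z := (V : Set X)) ⟨_, hV⟩ V.2.isLocallyClosed
  rw [mem_closedPoints_iff] at hx
  obtain ⟨W, hxW, hW⟩ := (H17.LocusBC.mem_smoothLocus_iff_exists _ x).mp hxV.2
  haveI := hW
  haveI := H19Grp.isRegularLocalRing_stalk_of_smooth (W.ι ≫ (X ↘ Spec (CommRingCat.of k))) ⟨x, hxW⟩
  haveI : IsRegularLocalRing (X.presheaf.stalk x) :=
    IsRegularLocalRing.of_ringEquiv (W.stalkIso ⟨x, hxW⟩).commRingCatIsoToRingEquiv
  exact ⟨x, hxV.1, hx, H29RR.isInvertible_pt_of_regular (k := k) hdim hx⟩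

/-- On a proper curve over an algebraically closed field there is an invertible module whose H^0 is
one-dimensional and whose H^1 vanishes, and an invertible module whose H^0 and H^1 both vanish. -/
theorem result (k : Type u) [Field k] [IsAlgClosed k] (X : Scheme.{u}) [X.Over (Spec (CommRingCat.of k))]
    [IsIntegral X] [IsProper (X ↘ (Spec (CommRingCat.of k)))] (hdim : topologicalKrullDim X = 1) :
    (∃ L : X.Modules, PicF.IsInvertible L ∧ Module.finrank k (Coh.HH X L 0) = 1 ∧ Subsingleton (Coh.HH X L 1)) ∧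
    (∃ N : X.Modules, PicF.IsInvertible N ∧ Subsingleton (Coh.HH X N 0) ∧ Subsingleton (Coh.HH X N 1)) := by
  have h00 := H29RR.finrank_h0_structure k X
  let g := Curv2.genus k X
  -- large degree
  obtain ⟨x, -, hx, hI⟩ := exists_point k hdim ⊤ trivial
  have hbig : ∀ n : ℕ, ∃ L : X.Modules, PicF.IsInvertible L ∧ (n : ℤ) ≤ Curv2.deg k X L 1 := by
    intro n
    induction n with
    | zero => exact ⟨_, H11Ample.isInvertible_structureModule, by simp [Curv2.deg]⟩
    | succ n ih =>
      obtain ⟨L, hL, hd⟩ := ih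
      obtain ⟨L', hL', -, hd', -⟩ := H29RR.exists_add_point (k := k) hx hI hL
      rw [H29RR.finrank_residue_eq_one (k := k) hx] at hd'
      exact ⟨L', hL', by omega⟩
  -- descending one section at a time
  have hdown : ∀ (n : ℕ) (L : X.Modules), PicF.IsInvertible L → Subsingleton (Coh.HH X L 1) →
      Module.finrank k (Coh.HH X L 0) = n → ∀ m ≤ n, ∃ M : X.Modules, PicF.IsInvertible M ∧
        Subsingleton (Coh.HH X M 1) ∧ Module.finrank k (Coh.HH X M 0) = m := by
    intro n
    induction n with
    | zero => intro L hL h1 h0 m hm; exact ⟨L, hL, h1, by omega⟩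
    | succ n ih =>
      intro L hL h1 h0 m hm
      rcases Nat.eq_or_lt_of_le hm with rfl | hlt
      · exact ⟨L, hL, h1, h0⟩
      haveI : IsLocallyNoetherian X := LocallyOfFiniteType.isLocallyNoetherian (X ↘ Spec (CommRingCat.of k))
      haveI : Nontrivial (Coh.HH X L 0) := Module.nontrivial_of_finrank_pos (R := k) (by omega)
      obtain ⟨v, hv⟩ := exists_ne (0 : Coh.HH X L 0)
      have hg : H29RR.sec L v ≠ 0 := fun h => hv ((H29RR.sec L).injective (h.trans (map_zero _).symm))
      obtain ⟨y, hy, hyc, hJ⟩ := exists_point k hdim _ (H29RR.genericPoint_mem_gen hL hg)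
      have hJc := H16Derived.KFlat.Stalk.isCoh_of_isFinLocFree (H28Pinch.isFinLocFree_of_isInvertible hJ)
      have hy1 := H29RR.finrank_residue_eq_one (k := k) hyc
      have hdrop := (H29RR.h0_add_one_iff (k := k) hyc hy1 hL hJc).2 ⟨_, hy⟩
      obtain ⟨-, -, he⟩ := H29RR.twist_point (k := k) hyc hL hJc
      let L' := CohB1.tensorMod (ClSub.idealMod (H29RR.ptIdeal y)) L
      have hL' : PicF.IsInvertible L' := H11Ample.isInvertible_tensor hJ hL
      haveI := H29RR.finite_HH (k := k) L' hL' 1
      have e1 := H29RR.euler_eq_sub (k := k) hdim.le L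
      have e2 := H29RR.euler_eq_sub (k := k) hdim.le L'
      haveI := h1
      rw [Module.finrank_zero_of_subsingleton (R := k) (M := Coh.HH X L 1)] at e1
      rw [hy1] at he
      change Module.finrank k (Coh.HH X L' 0) + 1 = _ at hdrop
      change _ = Curv2.euler k X L' + _ at he
      have h1' : Module.finrank k (Coh.HH X L' 1) = 0 := by omega
      exact ih L' hL' (Module.finrank_zero_iff.1 h1') (by omega) m (by omega)
  obtain ⟨L, hL, hd⟩ := hbig (2 * g + 1)
  have h1 : Subsingleton (Coh.HH X L 1) := H29RR.h1_vanish_of_deg (k := k) hdim.le h00 hL (by omega)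
  have hrr := H29RR.riemann_roch (k := k) hdim.le L
  haveI := h1
  rw [Module.finrank_zero_of_subsingleton (R := k) (M := Coh.HH X L 1), h00] at hrr
  refine ⟨?_, ?_⟩
  · obtain ⟨M, hM, hM1, hM0⟩ := hdown _ L hL h1 rfl 1 (by omega)
    exact ⟨M, hM, hM0, hM1⟩
  · obtain ⟨M, hM, hM1, hM0⟩ := hdown _ L hL h1 rfl 0 (by omega)
    haveI := H29RR.finite_HH (k := k) M hM 0
    exact ⟨M, hM, Module.finrank_zero_iff.1 hM0, hM1⟩

end Groth.Agent.S1523
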