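import Groth.Statements.S15231
import Groth.Agent.H4DR.TorAmp.Quotient
import Mathlib.RingTheory.Artinian.Module

set_option autoImplicit false
universe u
open CategoryTheory CategoryTheory.Limits
attribute [local instance] HasDerivedCategory.standard
open DRing

namespace Groth.Agent.S15231

/-- Let R be a Noetherian local commutative ring with residue field κ, let P be any object of D(R) and
a, b integers. Suppose that H^i(P ⊗^L_R κ) = 0 for every i outside [a, b] (over the field κ this
says exactly that P ⊗^L_R κ has tor amplitude in [a, b] as an object of D(κ)). Then for every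
R-module N of finite length, H^i(P ⊗^L_R N) = 0 for every i outside [a, b]. The derived base change
to κ and the derived tensor products with R-modules are the total left derived functors on D(R),
assumed to exist for every R-module (as they do). -/
theorem result (R : Type u) [CommRing R] [IsNoetherianRing R]
    [IsLocalRing R] [DRing.HasLBaseChange (IsLocalRing.residue R)] [∀ M : ModuleCat.{u} R, DRing.HasLTensor R M]
    (P : Dual.D R) (a b : ℤ)
    (h : ∀ i : ℤ, (i < a ∨ b < i) →
      Subsingleton (Dual.HD (IsLocalRing.ResidueField R) ((DRing.LBaseChange (IsLocalRing.residue R)).obj P) i))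
    (N : Type u) [AddCommGroup N] [Module R N] (hN : IsFiniteLength R N) (i : ℤ) (hi : i < a ∨ b < i) :
    Subsingleton (Dual.HD R ((DRing.LTensor R (ModuleCat.of R N)).obj P) i) := by
  obtain ⟨Q, hQ, hflat, ⟨e⟩⟩ := Groth.Agent.H4DR.TorAmp.exists_kflatRep P
  obtain ⟨hNoeth, hArt⟩ := isFiniteLength_iff_isNoetherian_isArtinian.1 hN
  haveI : Module.Finite R N := inferInstance
  obtain ⟨n, hn⟩ : ∃ n : ℕ, IsLocalRing.maximalIdeal R ^ n • (⊤ : Submodule R N) = ⊥ := by
    obtain ⟨n, hn⟩ := IsArtinian.monotone_stabilizes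
      ⟨fun n => OrderDual.toDual (IsLocalRing.maximalIdeal R ^ n • (⊤ : Submodule R N)),
        fun a b hab => Submodule.smul_mono (Ideal.pow_le_pow_right hab) le_rfl⟩
    refine ⟨n, Submodule.eq_bot_of_le_smul_of_le_jacobson_bot (IsLocalRing.maximalIdeal R) _
      (IsNoetherian.noetherian _) ?_ (IsLocalRing.maximalIdeal_le_jacobson _)⟩
    rw [← smul_assoc, smul_eq_mul, ← pow_succ']
    exact le_of_eq (congrArg OrderDual.ofDual (hn (n + 1) (Nat.le_succ n)))
  have hκ : (((ModuleCat.extendScalars.{u, u, u} (IsLocalRing.residue R)).mapHomologicalComplex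
      (ComplexShape.up ℤ)).obj Q).ExactAt i := by
    haveI := h i hi
    exact (Groth.Agent.H4DR.TorAmp.subsingleton_HD_toD_iff _ i).1 (Groth.Agent.H4DR.PCoh.hEquiv i
      ((Groth.Agent.H4DR.TorAmp.lbaseObj (IsLocalRing.residue R) Q hQ).symm ≪≫
        (DRing.LBaseChange _).mapIso e)).injective.subsingleton
  have hex : ((Groth.Agent.H4DR.TorAmp.tens (ModuleCat.of R N)).obj Q).ExactAt i :=
    Groth.Agent.H4DR.TorAmp.exactAt_tens_of_pow hflat (IsLocalRing.maximalIdeal R) i
      (fun M hM => Groth.Agent.H4DR.TorAmp.exactAt_tens_of_surjective IsLocalRing.residue_surjective M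
        (by rwa [IsLocalRing.ker_residue])
        fun V => Groth.Agent.H4DR.TorAmp.exactAt_tens_of_field _ V hκ) n _ hn
  haveI := (Groth.Agent.H4DR.TorAmp.subsingleton_HD_toD_iff _ i).2 hex
  exact (Groth.Agent.H4DR.PCoh.hEquiv i ((DRing.LTensor R (ModuleCat.of R N)).mapIso e.symm ≪≫
    Groth.Agent.H4DR.TorAmp.ltensorObj (ModuleCat.of R N) Q hQ)).injective.subsingleton

end Groth.Agent.S15231
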