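import Groth.Statements.S15232
import Groth.Agent.H4DR.TorAmp.Quotient

set_option autoImplicit false
universe u
open CategoryTheory CategoryTheory.Limits
attribute [local instance] HasDerivedCategory.standard
open DRing

namespace Groth.Agent.S15232

/-- Let R be a Noetherian commutative ring and I an ideal contained in the Jacobson radical of R, and
assume the derived base change D(R) → D(R/I) exists. Let P be a pseudo-coherent object of D(R) and
a, b integers. If P ⊗^L_R R/I has tor amplitude in [a, b] as an object of D(R/I), then P has tor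
amplitude in [a, b] as an object of D(R). Tor amplitude is taken in the flat-representative form
(isomorphic in the derived category to a complex of flat modules vanishing outside [a, b]). -/
theorem result (R : Type u) [CommRing R] [IsNoetherianRing R]
    (I : Ideal R) (hI : I ≤ Ideal.jacobson (⊥ : Ideal R)) [DRing.HasLBaseChange (Ideal.Quotient.mk I)]
    (P : Dual.D R) (hP : DRing.IsPseudoCoherent' R P) (a b : ℤ)
    (h : DRing.HasTorAmplitudeIn (R ⧸ I) a b ((DRing.LBaseChange (Ideal.Quotient.mk I)).obj P)) :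
    DRing.HasTorAmplitudeIn R a b P := by
  obtain ⟨F, c, hb, hF, ⟨e⟩⟩ := hP
  have hflat : DRing.TermwiseFlat F := fun i => haveI := (hF i).2; inferInstance
  have hK := Groth.Agent.H4DR.TorAmp.isKFlat_of_flat hb hflat
  have hta : DRing.HasTorAmplitudeIn (R ⧸ I) a b (DRing.toD
      (((ModuleCat.extendScalars.{u, u, u} (Ideal.Quotient.mk I)).mapHomologicalComplex
        (ComplexShape.up ℤ)).obj F)) :=
    Groth.Agent.H4DR.TorAmp.ta_of_iso (((DRing.LBaseChange _).mapIso e).symm ≪≫
      Groth.Agent.H4DR.TorAmp.lbaseObj (Ideal.Quotient.mk I) F hK) h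
  refine Groth.Agent.H4DR.TorAmp.ta_of_tv (Groth.Agent.H4DR.TorAmp.tv_of_rep hb hflat e fun M i hi =>
    Groth.Agent.H4DR.TorAmp.exactAt_tens_of_residue hF i (fun m hm => ?_) M)
  have hIm : I ≤ m := hI.trans (sInf_le ⟨bot_le, hm⟩)
  let N : ModuleCat.{u} (R ⧸ I) :=
    (ModuleCat.restrictScalars.{u} (Ideal.Quotient.factor hIm)).obj (ModuleCat.of (R ⧸ m) (R ⧸ m))
  have h1 := (Groth.Agent.H4DR.TorAmp.exactAt_tens_restrict_iff (Ideal.Quotient.mk I) F N i).1
    (Groth.Agent.H4DR.TorAmp.exactAt_tens_of_ta (H25DTen.isKFlat_extCx _ hK) hta N hi)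
  rw [Groth.Agent.H4DR.TorAmp.exactAt_ext_iff_tens]
  let X₁ : ModuleCat.{u} R := (ModuleCat.restrictScalars.{u} (Ideal.Quotient.mk I)).obj N
  let X₂ : ModuleCat.{u} R := (ModuleCat.restrictScalars.{u} (Ideal.Quotient.mk m)).obj (ModuleCat.of (R ⧸ m) (R ⧸ m))
  let e₁ : X₁ ≃ₗ[R] X₂ :=
    { toFun := fun x => (x : R ⧸ m)
      invFun := fun x => (x : R ⧸ m)
      map_add' := fun _ _ => rfl
      left_inv := fun _ => rfl
      right_inv := fun _ => rfl
      map_smul' := fun r x => rfl }
  exact h1.of_iso ((NatIso.mapHomologicalComplex ((MonoidalCategory.curriedTensor (ModuleCat.{u} R)).flip.mapIso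
    e₁.toModuleIso) (ComplexShape.up ℤ)).app F)

end Groth.Agent.S15232
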