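import Groth.Statements.S15233

set_option linter.style.haveILetI false

set_option autoImplicit false
universe u
open CategoryTheory CategoryTheory.Limits Opposite
open CohSite

namespace Groth.Agent.S15233

/-- Let C be a small category with a Grothendieck topology J, and let B be a class of objects forming a
prebasis: for every object V and every covering sieve S of V, the arrows of S whose domain lies in B
generate a covering sieve of V. If F is a presheaf of abelian groups on C such that F(U) = 0 for
every object U in B, then the sheafification of F is zero. -/
theorem result {C : Type u} [SmallCategory C] (J : GrothendieckTopology C)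
    (B : ObjectProperty C)
    (hB : ∀ (V : C) (S : Sieve V), S ∈ J V →
      Sieve.generate (fun (U : C) => {g : U ⟶ V | S.arrows g ∧ B U}) ∈ J V)
    (F : Cᵒᵖ ⥤ AddCommGrpCat.{u}) (hF : ∀ U : C, B U → IsZero (F.obj (op U))) :
    IsZero ((presheafToSheaf J AddCommGrpCat.{u}).obj F) := by
  have h0 : toSheafify J F = 0 := by
    ext V x
    refine Presheaf.IsSheaf.isSeparated ((presheafToSheaf J AddCommGrpCat.{u}).obj F).property _ _
      (hB V.unop ⊤ (J.top_mem _)) _ _ ?_
    rintro W g ⟨U, a, b, ⟨-, hU⟩, rfl⟩
    rw [← NatTrans.naturality_apply, ← NatTrans.naturality_apply, op_comp, F.map_comp,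
      ConcreteCategory.comp_apply]
    have : F.map b.op x = 0 := by
      have h := (hF U hU).eq_of_tgt (F.map b.op) 0
      rw [h]; rfl
    simp [this]
  rw [IsZero.iff_id_eq_zero]
  apply ((sheafificationAdjunction J AddCommGrpCat.{u}).homEquiv _ _).injective
  rw [Adjunction.homEquiv_unit, Adjunction.homEquiv_unit, sheafificationAdjunction_unit_app]
  erw [h0]
  simp

end Groth.Agent.S15233
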