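import Groth.Statements.S15235
import Groth.Agent.H16Derived.ML

set_option autoImplicit false
universe u
open CategoryTheory Opposite
open HomAlg3

namespace Groth.Agent.S15235

open Groth.Agent.H16Derived.ML

/-- Let (G_j) be an inverse system of abelian groups indexed by the natural numbers, with transition
maps G_{j+1} → G_j, and let j₀ be a natural number such that the transition map G_{j+1} → G_j is
surjective for every j ≥ j₀. Then: (a) the system satisfies the Mittag-Leffler condition; (b) the
evaluation map from the inverse limit (realised as the set of compatible families) to G_{j₀} is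
surjective; (c) if in addition the transition maps G_{j+1} → G_j are injective for every j ≥ j₀,
that evaluation map is bijective. (The published statement indexes the system by the negative
integers and assumes j₀ ≥ 1; this row indexes it by the natural numbers and allows j₀ = 0, which
changes nothing.) -/
theorem result (G : ℕᵒᵖ ⥤ AddCommGrpCat.{u})
    (j₀ : ℕ) (hs : ∀ j : ℕ, j₀ ≤ j → Function.Surjective (G.map (homOfLE (Nat.le_succ j)).op).hom) :
    (G ⋙ forget AddCommGrpCat.{u}).IsMittagLeffler ∧
      Function.Surjective (fun s : (G ⋙ forget AddCommGrpCat.{u}).sections => s.1 (op j₀)) ∧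
      ((∀ j : ℕ, j₀ ≤ j → Function.Injective (G.map (homOfLE (Nat.le_succ j)).op).hom) →
        Function.Bijective (fun s : (G ⋙ forget AddCommGrpCat.{u}).sections => s.1 (op j₀))) := by
  have hsurj : ∀ (i j : ℕ) (hij : i ≤ j), j₀ ≤ i → Function.Surjective (trHom G hij) := by
    intro i j hij hi
    induction j, hij using Nat.le_induction with
    | base => exact fun x => ⟨x, tr_refl (G ⋙ forget AddCommGrpCat) x⟩
    | succ n hn ih =>
      intro x
      obtain ⟨y, rfl⟩ := ih x
      obtain ⟨z, rfl⟩ := hs n (hi.trans hn) y
      exact ⟨z, (trHom_trHom G hn (Nat.le_succ n) z).symm⟩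
  have hML : (G ⋙ forget AddCommGrpCat.{u}).IsMittagLeffler := by
    refine (isMittagLeffler_iff_ab G).2 fun i => ⟨max i j₀, le_max_left _ _, fun k hk x => ?_⟩
    obtain ⟨y, rfl⟩ := hsurj _ k hk (le_max_right _ _) x
    exact ⟨y, (trHom_trHom G _ hk y).symm⟩
  have hs' : Function.Surjective
      (fun s : (G ⋙ forget AddCommGrpCat.{u}).sections => s.1 (op j₀)) := by
    intro x
    obtain ⟨s, hs₁, hs₂⟩ := exists_section_through countable_cofinal_nat _ hML (i₀ := j₀) x
      ((mem_eventualRange _ _).2 fun k hk => hsurj j₀ k hk le_rfl x)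
    exact ⟨⟨fun i => s i.unop, fun {i j} f => hs₁ j.unop i.unop (leOfHom f.unop)⟩, hs₂⟩
  refine ⟨hML, hs', fun hinj => ⟨?_, hs'⟩⟩
  have hinj' : ∀ (j : ℕ) (hj : j₀ ≤ j), Function.Injective (trHom G hj) := by
    intro j hj
    induction j, hj using Nat.le_induction with
    | base =>
      intro x y h
      exact (tr_refl (G ⋙ forget AddCommGrpCat) x).symm.trans
        (h.trans (tr_refl (G ⋙ forget AddCommGrpCat) y))
    | succ n hn ih =>
      intro x y h
      rw [← trHom_trHom G hn (Nat.le_succ n), ← trHom_trHom G hn (Nat.le_succ n)] at h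
      exact hinj n hn (ih h)
  intro s t (h : s.1 (op j₀) = t.1 (op j₀))
  apply Subtype.ext
  funext i
  have e₁ := s.2 (homOfLE (le_max_left i.unop j₀)).op
  have e₂ := t.2 (homOfLE (le_max_left i.unop j₀)).op
  rw [← e₁, ← e₂]
  refine congrArg _ (hinj' _ (le_max_right i.unop j₀) ?_)
  exact (s.2 (homOfLE (le_max_right i.unop j₀)).op).trans
    (h.trans (t.2 (homOfLE (le_max_right i.unop j₀)).op).symm)

end Groth.Agent.S15235
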