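import Groth.Statements.S15236
import Groth.Agent.H7GeomGen.Main
-- import your own Groth.Agent.* helpers here

set_option autoImplicit false
open CategoryTheory CategoryTheory.Limits AlgebraicGeometry
universe u
open Variety

namespace Groth.Agent.S15236

/-- Let k be an uncountable algebraically closed field of characteristic zero, T an integral k-scheme of
finite type and f : X → T a flat morphism of finite type. Then there are countably many closed
subsets Z₀, Z₁, … of T, none of them equal to T, such that for every closed point t of T lying in no
Zₙ the fibre X_t = X ×_T Spec κ(t) is isomorphic, as a scheme, to the geometric generic fibre X ×_T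
Spec L, where L is an algebraic closure of the residue field of T at its generic point (existence of
an isomorphism of schemes only; that such an isomorphism preserves rational equivalence of algebraic
cycles, as the published statement adds, is automatic and is not restated). (The published statement
fixes the countable family of closed subsets before the family X → T and allows any flat T-scheme X
over any integral k-scheme T. Both fail: for T the affine line and X the spectrum of its function
field every closed fibre is empty while the geometric generic fibre is a point, and for any fixed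
countable family of proper closed subsets of the affine line, X the complement of a closed point
outside all of them has an empty fibre there. This row takes T and f of finite type and lets the
closed subsets depend on f.) -/
theorem result (k : Type u) [Field k] [IsAlgClosed k]
    [CharZero k] [Uncountable k] (T X : Scheme.{u}) (sT : T ⟶ Spec (CommRingCat.of k)) [IsIntegral T]
    [LocallyOfFiniteType sT] [QuasiCompact sT] (f : X ⟶ T) [Flat f] [LocallyOfFiniteType f]
    [QuasiCompact f] :
    ∃ Z : ℕ → TopologicalSpace.Closeds T, (∀ n, (Z n : Set T) ≠ Set.univ) ∧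
      ∀ t : T, IsClosed ({t} : Set T) → (∀ n, t ∉ Z n) →
        Nonempty (f.fiber t ≅ pullback f (Spec.map (CommRingCat.ofHom (algebraMap
          (T.residueField (genericPoint T)) (AlgebraicClosure (T.residueField (genericPoint T))))) ≫
            T.fromSpecResidueField (genericPoint T))) := by
  classical
  obtain ⟨T₀, X₀, f₀, g, h, hsq, hT₀, hres⟩ := H7GeomGen.exists_countable_model sT f
  haveI := hT₀
  let η₀ : T₀ := h (genericPoint T)
  let Zf : T₀ → TopologicalSpace.Closeds T := fun τ =>
    if η₀ ∈ closure ({τ} : Set T₀) then ⊥
    else ⟨h ⁻¹' closure {τ}, IsClosed.preimage h.continuous isClosed_closure⟩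
  haveI : Nonempty T₀ := ⟨η₀⟩
  obtain ⟨en, hen⟩ := exists_surjective_nat T₀
  have hne : ∀ n, (Zf (en n) : Set T) ≠ Set.univ := fun n hu => by
    have hmem : genericPoint T ∈ (Zf (en n) : Set T) := hu ▸ Set.mem_univ _
    by_cases hc : η₀ ∈ closure ({en n} : Set T₀)
    · simp [Zf, hc] at hmem
    · simp only [Zf, hc, ↓reduceIte] at hmem
      exact hc hmem
  refine ⟨fun n => Zf (en n), hne, fun t ht htZ => ?_⟩
  obtain ⟨n, hn⟩ := hen (h t)
  have hspec : h t = η₀ := by
    have h1 : η₀ ⤳ h t := (genericPoint_specializes t).map h.continuous
    have h2 : η₀ ∈ closure ({h t} : Set T₀) := by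
      by_contra hc
      refine htZ n ?_
      simp only [hn, Zf, hc, ↓reduceIte]
      exact subset_closure rfl
    exact ((specializes_iff_mem_closure.2 h2).antisymm h1).eq
  haveI := hres η₀
  let K := T.residueField (genericPoint T)
  let L := AlgebraicClosure K
  let m : Spec (CommRingCat.of L) ⟶ T :=
    Spec.map (CommRingCat.ofHom (algebraMap K L)) ≫ T.fromSpecResidueField (genericPoint T)
  let ι : T.residueField t ≅ CommRingCat.of k := residueFieldIsoBase sT t ht
  haveI : IsAlgClosed (T.residueField t) := IsAlgClosed.of_ringEquiv _ _ ι.commRingCatIsoToRingEquiv.symm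
  have hk : Cardinal.aleph0 < Cardinal.mk k := Cardinal.aleph0_lt_mk
  have hcard : Cardinal.mk (T.residueField t) = Cardinal.mk k :=
    Cardinal.mk_congr ι.commRingCatIsoToRingEquiv.toEquiv
  have hL : Cardinal.mk k = Cardinal.mk L := by
    refine le_antisymm (Cardinal.mk_le_of_injective
      (f := (Spec.preimage (m ≫ sT)).hom) (RingHom.injective _)) ?_
    refine (Algebra.IsAlgebraic.cardinalMk_le_max K L).trans (max_le ?_ hk.le)
    exact (H7GeomGen.mk_residueField_le sT _).trans (max_le le_rfl hk.le)
  obtain ⟨e, he⟩ := H7GeomGen.exists_iso_spec η₀ (K := T.residueField t) (L := L) (hcard ▸ hk) (hcard.trans hL)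
    (T.fromSpecResidueField t ≫ h) (m ≫ h)
    (by rw [Scheme.Hom.comp_apply, Scheme.fromSpecResidueField_apply]; exact hspec)
    (by simp only [m, Scheme.Hom.comp_apply, η₀]; exact congrArg h (Scheme.fromSpecResidueField_apply _ _))
  have s1 : IsPullback (pullback.fst f (T.fromSpecResidueField t) ≫ g) (pullback.snd f (T.fromSpecResidueField t)) f₀
      (T.fromSpecResidueField t ≫ h) :=
    (IsPullback.of_hasPullback f (T.fromSpecResidueField t)).paste_horiz hsq
  have s2 : IsPullback (pullback.fst f m ≫ g) (pullback.snd f m ≫ e.hom) f₀ (T.fromSpecResidueField t ≫ h) :=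
    ((IsPullback.of_hasPullback f m).paste_horiz hsq).of_iso (Iso.refl _) (Iso.refl _) e (Iso.refl _)
      (by simp) (by simp) (by simp) (by simp [he])
  exact ⟨s1.isoIsPullback _ _ s2⟩

end Groth.Agent.S15236
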