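import Groth.Statements.S15245
import Groth.Agent.H21Root.Inversions

set_option autoImplicit false
universe u
open CategoryTheory AlgebraicGeometry
open RedSub

namespace Groth.Agent.S15245


/-- Let Φ be a finite reduced root system (a reduced root pairing over ℤ on a finite index set) with a
base b, w an element of its Weyl group, given as the product of the reflections along a word l and
acting on the roots, and γ a positive root. Writing ℓ(u) for the number of positive roots a with
u(a) negative, one has ℓ(w) < ℓ(σ_γ w) if and only if w⁻¹(γ) is positive. (Here the length is taken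
as the number of inverted positive roots.) -/
theorem result {idx M N : Type}
    [AddCommGroup M] [AddCommGroup N] [Finite idx]
    (P : RootPairing idx ℤ M N) [P.IsReduced] (b : P.Base) (l : List idx) (c : idx)
    (hc : c ∈ RedSub.posRoots P b) :
    Set.ncard {a : idx | a ∈ RedSub.posRoots P b ∧ RedSub.wordPerm P l a ∈ RedSub.negRoots P b} <
        Set.ncard {a : idx | a ∈ RedSub.posRoots P b ∧
          (P.reflectionPerm c * RedSub.wordPerm P l) a ∈ RedSub.negRoots P b} ↔
      (RedSub.wordPerm P l)⁻¹ c ∈ RedSub.posRoots P b := by
  have hS := (H21Root.simpleZ_base b).isPosSys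
  rw [H21Root.mem_posRoots] at hc ⊢
  simp only [H21Root.mem_posRoots, H21Root.mem_negRoots, Equiv.Perm.mul_apply,
    H21Root.wordPerm_apply, ← H21Root.sr_smul, ← mul_smul, Equiv.Perm.inv_def,
    H21Root.wordPerm_symm_apply]
  set g := H21Root.wl P l
  set S := RootD.posOf P (b.support : Set idx)
  have hconj : g * H21Root.sr P (g⁻¹ • c) = H21Root.sr P c * g := by
    rw [← H21Root.conj_sr, inv_inv, ← mul_assoc, ← mul_assoc, mul_inv_cancel, one_mul]
  constructor
  · intro h
    by_contra hn
    have ho : H21Root.opp P (g⁻¹ • c) ∈ S := (hS.cover _).resolve_left hn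
    have := H21Root.inversions_lt hS (g := H21Root.sr P c * g) ho (by
      rw [mul_smul, H21Root.smul_opp, smul_inv_smul, H21Root.sr_smul, P.reflectionPerm_self]
      exact hc)
    rw [show H21Root.sr P c * g * H21Root.sr P (H21Root.opp P (g⁻¹ • c)) = g by
      rw [← hconj, mul_assoc]
      rw [show H21Root.sr P (H21Root.opp P (g⁻¹ • c)) = H21Root.sr P (g⁻¹ • c) from
        (H21Root.conj_sr P (H21Root.sr P (g⁻¹ • c)) (g⁻¹ • c)).symm.trans (mul_inv_cancel_right _ _)]
      rw [H21Root.sr_mul_self, mul_one]] at this
    exact lt_asymm h this
  · intro h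
    have := H21Root.inversions_lt hS (g := g) h (by rwa [smul_inv_smul])
    rwa [hconj] at this

end Groth.Agent.S15245
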