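import Groth.Statements.S15247
import Mathlib
import Groth.Agent.H8Props.FieldDimRing

set_option autoImplicit false
open Fano

namespace Groth.Agent.S15247

open MvPolynomial

lemma finite_homogeneous {K : Type} [Field K] {σ : Type} [Finite σ] (n : ℕ) :
    Module.Finite K ↥(homogeneousSubmodule σ K n) := by
  refine Submodule.finiteDimensional_of_le (S₂ := MvPolynomial.restrictTotalDegree σ K n) fun f hf => ?_
  rw [mem_restrictTotalDegree]
  exact IsHomogeneous.totalDegree_le hf


/-- Over ℂ, let Y be an irreducible closed subscheme of projective m-space of dimension m − d, where 1 ≤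
d and d + 1 ≤ m. Then the hypersurfaces of degree d + 1 containing Y form a linear family of
codimension at least m + 1 (that is, greater than m) in the projective space of all hypersurfaces of
degree d + 1. Here Y is given by a homogeneous ideal I of ℂ[x_0, …, x_m] whose radical is prime and
with dim ℂ[x_0, …, x_m]/I = m + 1 − d, a hypersurface contains Y when its form lies in I, and the
conclusion reads: the forms of degree d + 1 in I span a subspace of codimension at least m + 1 in
the space of all forms of degree d + 1. -/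
theorem result (m d : ℕ) (hd : 1 ≤ d) (hdm : d + 1 ≤ m)
    (I : Ideal (MvPolynomial (Fin (m + 1)) ℂ))
    (hI : I.IsHomogeneous (CohB1.polyGrading m ℂ))
    (hirr : I.radical.IsPrime)
    (hdim : ringKrullDim (MvPolynomial (Fin (m + 1)) ℂ ⧸ I) = ((m + 1 - d : ℕ) : WithBot ℕ∞)) :
    m + 1 + Module.finrank ℂ ↥(CohB1.polyGrading m ℂ (d + 1) ⊓ Submodule.restrictScalars ℂ I)
      ≤ Module.finrank ℂ (LefPen.Form m ℂ (d + 1)) := by
  classical
  let S := MvPolynomial (Fin (m + 1)) ℂ
  let p := I.radical
  haveI := hirr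
  haveI : IsDomain (S ⧸ p) := Ideal.Quotient.isDomain p
  haveI : Algebra.FiniteType ℂ (S ⧸ p) :=
    Algebra.FiniteType.of_surjective (Ideal.Quotient.mkₐ ℂ p) Ideal.Quotient.mk_surjective
  let π : S →ₐ[ℂ] S ⧸ p := Ideal.Quotient.mkₐ ℂ p
  obtain ⟨e, he1, he2⟩ := Groth.Agent.H8Props.FieldDim.exists_dim_trdeg ℂ (S ⧸ p)
  have he : e = m + 1 - d := by
    have h : ringKrullDim (S ⧸ p) = ringKrullDim (S ⧸ I) := by
      rw [ringKrullDim_quotient, ringKrullDim_quotient]
      have : PrimeSpectrum.zeroLocus (p : Set S) = PrimeSpectrum.zeroLocus (I : Set S) :=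
        PrimeSpectrum.zeroLocus_radical I
      rw [this]
    rw [he1, hdim] at h
    exact_mod_cast h
  let s : Set (S ⧸ p) := Set.range fun i => π (X i)
  have hs : Algebra.adjoin ℂ s = ⊤ := by
    rw [show s = π '' Set.range (X : Fin (m + 1) → S) by rw [← Set.range_comp]; rfl,
      ← AlgHom.map_adjoin, adjoin_range_X, Algebra.map_top,
      (AlgHom.range_eq_top _).mpr Ideal.Quotient.mk_surjective]
  haveI : Algebra.IsAlgebraic (Algebra.adjoin ℂ s) (S ⧸ p) :=
    ⟨fun x => isAlgebraic_algebraMap (⟨x, hs ▸ Algebra.mem_top⟩ : Algebra.adjoin ℂ s)⟩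
  obtain ⟨t, hts, ht⟩ := exists_isTranscendenceBasis_subset (R := ℂ) s
  have htc : Cardinal.mk t = e := by rw [ht.cardinalMk_eq_trdeg, he2]
  haveI : Finite t := ((Set.finite_range _).subset hts).to_subtype
  have htn : Nat.card t = e := by
    have h := congr_arg Cardinal.toNat htc
    rwa [Cardinal.toNat_natCast] at h
  obtain ⟨σ⟩ : Nonempty (Fin e ≃ t) := ⟨(Finite.equivFinOfCardEq htn).symm⟩
  choose idx hidx using fun i : Fin e => hts (σ i).2
  have hind : AlgebraicIndependent ℂ (fun i : Fin e => π (X (idx i))) := by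
    have : (fun i : Fin e => π (X (idx i))) = ((↑) : t → S ⧸ p) ∘ σ := funext fun i => hidx i
    rw [this]
    exact ht.1.comp σ σ.injective
  let i0 : Fin e := ⟨0, by omega⟩
  let i1 : Fin e := ⟨1, by omega⟩
  have h01 : i1 ≠ i0 := by simp [i0, i1]
  let E : Fin e ⊕ Fin d → (Fin e →₀ ℕ) := Sum.elim (fun i => Finsupp.single i (d + 1))
    (fun j => Finsupp.single i0 (j.1 + 1) + Finsupp.single i1 (d - j.1))
  have hEdeg : ∀ z, (E z).degree = d + 1 := by
    rintro (i | j) <;> simp only [E, Sum.elim_inl, Sum.elim_inr, map_add, Finsupp.degree_single]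
    omega
  have hEinj : Function.Injective E := by
    rintro (i | j) (i' | j') h <;> simp only [E, Sum.elim_inl, Sum.elim_inr] at h
    · exact congr_arg _ (Finsupp.single_left_injective (by omega) h)
    · exfalso
      have h0 := DFunLike.congr_fun h i0
      have h1 := DFunLike.congr_fun h i1
      have := j'.2
      rcases eq_or_ne i i0 with rfl | hi
      · simp [Finsupp.single_eq_of_ne h01] at h1
        omega
      · simp [Finsupp.single_eq_of_ne hi.symm, Finsupp.single_eq_of_ne h01.symm] at h0
    · exfalso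
      have h0 := DFunLike.congr_fun h i0
      have h1 := DFunLike.congr_fun h i1
      have := j.2
      rcases eq_or_ne i' i0 with rfl | hi
      · simp [Finsupp.single_eq_of_ne h01] at h1
        omega
      · simp [Finsupp.single_eq_of_ne hi.symm, Finsupp.single_eq_of_ne h01.symm] at h0
    · have h0 := DFunLike.congr_fun h i0
      simp [Finsupp.single_eq_of_ne h01.symm] at h0
      exact congr_arg _ (Fin.ext (by omega))
  let V := CohB1.polyGrading m ℂ (d + 1)
  haveI : Module.Finite ℂ ↥V := finite_homogeneous (d + 1)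
  let ψ : ↥V →ₗ[ℂ] S ⧸ p := π.toLinearMap.comp V.subtype
  let ρ : MvPolynomial (Fin e) ℂ →ₐ[ℂ] S := rename idx
  have hmem : ∀ z, ρ (monomial (E z) 1) ∈ V := fun z =>
    (isHomogeneous_monomial _ (hEdeg z)).rename_isHomogeneous
  let v : Fin e ⊕ Fin d → LinearMap.range ψ := fun z => ⟨ψ ⟨_, hmem z⟩, ⟨_, rfl⟩⟩
  have hv : LinearIndependent ℂ v := by
    apply LinearIndependent.of_comp (LinearMap.range ψ).subtype
    have : (LinearMap.range ψ).subtype ∘ v =
        (aeval (fun i : Fin e => π (X (idx i)))).toLinearMap ∘ fun z => monomial (E z) (1 : ℂ) := by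
      funext z
      show π (ρ (monomial (E z) 1)) = _
      simp only [Function.comp_apply, AlgHom.toLinearMap_apply]
      have e2 : (π.comp ρ) = aeval (fun i : Fin e => π (X (idx i))) := by
        apply MvPolynomial.algHom_ext
        intro i
        rw [AlgHom.comp_apply, aeval_X]
        exact congr_arg π (rename_X _ _)
      rw [← e2]; rfl
    rw [this]
    refine LinearIndependent.map' ?_ _ (LinearMap.ker_eq_bot.mpr hind)
    have hb := (basisMonomials (Fin e) ℂ).linearIndependent.comp E hEinj
    simpa [Function.comp_def, coe_basisMonomials] using hb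
  have hcard := hv.fintype_card_le_finrank
  rw [Fintype.card_sum, Fintype.card_fin, Fintype.card_fin] at hcard
  have hker : Module.finrank ℂ ↥(V ⊓ Submodule.restrictScalars ℂ I) ≤ Module.finrank ℂ (LinearMap.ker ψ) := by
    rw [← (Submodule.comapSubtypeEquivOfLe (inf_le_left : V ⊓ Submodule.restrictScalars ℂ I ≤ V)).finrank_eq]
    refine Submodule.finrank_mono fun x hx => ?_
    rw [LinearMap.mem_ker]
    exact Ideal.Quotient.eq_zero_iff_mem.mpr (Ideal.le_radical hx.2)
  have hrn := LinearMap.finrank_range_add_finrank_ker ψ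
  change m + 1 + Module.finrank ℂ ↥(V ⊓ Submodule.restrictScalars ℂ I) ≤ Module.finrank ℂ ↥V
  omega

end Groth.Agent.S15247
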