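import Groth.Statements.S15251
import Groth.Agent.H14AlgSt.EtaleStackDiag

set_option autoImplicit false
set_option backward.isDefEq.respectTransparency false
set_option backward.isDefEq.respectTransparency.types false
open CategoryTheory AlgebraicGeometry
universe u
open AlgSt

namespace Groth.Agent.S15251

/-- Let S be a scheme and f : 𝒳 → 𝒴 a 1-morphism of stacks in groupoids over the category of schemes
over S. If 𝒴 is a Deligne–Mumford stack and for every scheme U over S and every 1-morphism g : U → 𝒴
the 2-fibre product U ×_𝒴 𝒳 is a Deligne–Mumford stack, then 𝒳 is a Deligne–Mumford stack. All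
stacks here are for the étale topology on schemes over S; an algebraic stack is a stack in groupoids
whose diagonal is representable by algebraic spaces and which has a smooth surjective atlas from a
scheme, and a Deligne–Mumford stack is an algebraic stack with an étale surjective atlas from a
scheme. (The published statement asks the fibre-product condition only for affine schemes U and uses
Deligne–Mumford stacks whose diagonal is moreover separated and quasi-compact; this row asks the
condition for every scheme U over S and uses Deligne–Mumford stacks with no condition on the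
diagonal beyond representability by algebraic spaces.) -/
theorem result {S : Scheme.{u}} {𝒳 𝒴 : AlgSt.Cat S}
    (h𝒳 : Stk.IsStack (QuotSh.J Scheme.etalePrecoverage S) 𝒳)
    (h𝒴 : AlgSt.IsDM Scheme.etalePrecoverage 𝒴) (f : 𝒳 ⥤ᵇ 𝒴)
    (hf : ∀ (U : Over S) (g : FibCat.overCat U ⥤ᵇ 𝒴),
      AlgSt.IsDM Scheme.etalePrecoverage (FibCat.fp g f)) :
    AlgSt.IsDM Scheme.etalePrecoverage 𝒳 := by
  obtain ⟨V, y, hy, hys⟩ := Groth.Agent.H14AlgSt.hasAtlas_etale_iff.1 h𝒴.2
  obtain ⟨A, a, ha, has⟩ := Groth.Agent.H14AlgSt.hasAtlas_etale_iff.1 (hf V y).2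
  open Groth.Agent.H14AlgSt Groth.Agent.H14Fib in
  have h1 : AlgSt.HasAtlas (AlgSp.LocP @Etale) 𝒳 := ⟨A, BasedFunctor.comp a (FibCat.fpSnd y f),
    repWith_locP_comp Groth.Agent.H12AlgSp.etLocal_etale (fibGrpd_overCat A) (hf V y).1.isStack.1 ha
      (repWith_fpSnd f hy),
    repWith_surjective_comp (fibGrpd_overCat A) (hf V y).1.isStack.1 has (repWith_fpSnd f hys)⟩
  obtain ⟨W, w, hw, hws⟩ := h1
  exact ⟨Groth.Agent.H14AlgSt.isAlgStack_etale_of_atlas h𝒳 ⟨W, w,
      Groth.Agent.H14AlgSt.repWith_locP_mono (fun _ _ g (_ : Etale g) => (inferInstance : Smooth g)) hw, hws⟩,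
    Groth.Agent.H14AlgSt.hasAtlas_etale_iff.2 ⟨W, w, hw, hws⟩⟩

end Groth.Agent.S15251
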