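import Groth.Statements.S15253
import Groth.Agent.H23Jets.Tensor

set_option autoImplicit false
universe u
open CategoryTheory CategoryTheory.Limits AlgebraicGeometry TopologicalSpace
open W4c2seshadripos

namespace Groth.Agent.S15253

/-- Let X be a scheme, x a closed point of X with ideal sheaf m_x, and F, G quasi-coherent O_X-modules
of finite type (coherent modules when X is locally Noetherian). A module M separates l-jets at x
when the restriction map H^0(X, M) → H^0(X, M / m_x^(l+1) M) is surjective. If F separates i-jets at
x and G separates j-jets at x, with i, j ≥ 0, then F ⊗ G separates (i+j)-jets at x; in other words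
s(F; x) + s(G; x) ≤ s(F ⊗ G; x) whenever both terms are ≥ 0, where s(M; x) is the largest l such
that M separates l-jets at x. -/
theorem result (X : Scheme.{u}) (x : X) (hx : IsClosed ({x} : Set X))
    (F G : X.Modules) (hF : Coh.IsCoh F) (hG : Coh.IsCoh G) (i j : ℕ)
    (hi : W4c2seshadripos.SeparatesJets F x hx i) (hj : W4c2seshadripos.SeparatesJets G x hx j) :
    W4c2seshadripos.SeparatesJets (CohB1.tensorMod F G) x hx (i + j) := by
  haveI : F.IsQuasicoherent := hF.1
  haveI : G.IsQuasicoherent := hG.1
  exact H23Jets.separatesJets_tensor x hx i j hi hj

end Groth.Agent.S15253
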