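import Groth.Statements.S15254
import Groth.Agent.H10Coh.SerreVanishing2
import Groth.Agent.H10Coh.Pn.Hyper
import Groth.Agent.H25Par.FiniteSupport
import Groth.Agent.H25Par.GPDeg
import Groth.Agent.H25Euler.Mult
import Groth.Agent.H17.GabRos.Complement
import Groth.Agent.H11Strict.BirFinite
import Groth.Agent.H17.Seshadri.Jets
import Groth.Agent.H7Flat.CohDim.AffineStrat

set_option autoImplicit false
universe u
open CategoryTheory CategoryTheory.Limits AlgebraicGeometry TopologicalSpace
open W4c2seshadripos

namespace Groth.Agent.S15254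

/-- Let X be an integral scheme proper over a field k (the published statement: a projective variety), x
a closed point of X with ideal sheaf m_x, and L an ample invertible O_X-module. Then there is m₀
such that for every m ≥ m₀, every i > 1 and every a ≥ 0 the cohomology group H^i(X, m_x^a ⊗ L^{⊗m})
vanishes (here m_x^a ⊗ L^{⊗m} = m_x^a · L^{⊗m}, the ideal sheaf m_x^a being taken as an O_X-module). -/
theorem result (k : Type u) [Field k] (X : Scheme.{u})
    [X.Over (Spec (CommRingCat.of k))] [IsProper (X ↘ (Spec (CommRingCat.of k)))] [IsIntegral X]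
    (x : X) (hx : IsClosed ({x} : Set X)) (L : X.Modules) (hL : CohB1.IsAmple L) :
    ∃ m₀ : ℕ, ∀ m : ℕ, m₀ ≤ m → ∀ i : ℕ, 1 < i → ∀ a : ℕ,
      Subsingleton (Coh.HH X (CohB1.tensorMod (ClSub.idealMod ((W4c2seshadripos.pointIdeal x hx) ^ a))
        (CohB1.tensorPow L m)) i) := by
  haveI : IsNoetherian X := H29RR.isNoetherian_of_proper (k := k)
  obtain ⟨m₀, hm₀⟩ := H10Coh.Tw.exists_vanishing_ample (X ↘ Spec (CommRingCat.of k)) hL
    (Coh.structureModule X) (H10Coh.isCoh_structureModule' X)
  refine ⟨m₀, fun m hm i hi a => ?_⟩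
  obtain ⟨j, rfl⟩ : ∃ j, i = j + 1 := ⟨i - 1, by omega⟩
  let J := W4c2seshadripos.pointIdeal x hx ^ a
  have hN := H11Ample.isInvertible_tensorPow hL.1 m
  let S := H10Coh.Hyper.idealSeq J
  have hS := H10Coh.Tw.shortExact_seq (H10Coh.Hyper.idealSeq_shortExact J) hN
  refine H7Flat.CohDim.subsingleton_HH_left hS j ?_ ?_
  · exact (H10Coh.topEquiv _ (j + 1)).toEquiv.subsingleton_congr.2 (hm₀ m hm (j + 1) (Nat.succ_pos j))
  have hQ : Coh.IsCoh (ClSub.quotMod J) := H25Par.isCoh_quotMod J
  have hsub : CohB1.support (CohB1.tensorMod (ClSub.quotMod J) (CohB1.tensorPow L m)) ⊆ {x} := by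
    rw [H25Euler.support_tensor_invertible hQ hN, H17.GabRos.support_quotMod]
    intro y hy
    change y ∈ ((W4c2seshadripos.pointIdeal x hx ^ a).support : Set X) at hy
    rcases a with _ | b
    · rw [pow_zero, Scheme.IdealSheafData.one_eq_top, Scheme.IdealSheafData.support_top] at hy
      exact absurd hy (by simp)
    · rw [H11Strict.support_pow] at hy
      exact (H17.Seshadri.mem_support_pointIdeal x hx y).1 hy
  exact H25Par.subsingleton_HH_of_finite_support _ ((Set.finite_singleton x).subset hsub)
    (fun z hz => by rw [Set.mem_singleton_iff.1 (hsub hz)]; exact hx)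
    (fun y hy => not_not.1 hy) (by omega)

end Groth.Agent.S15254
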