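import Groth.Statements.S15255
import Groth.Agent.H17.KoszTwist.Terms
import Groth.Agent.H10Coh.Pn.Hyper
import Groth.Agent.H25Par.FiniteSupport
import Groth.Agent.H25Par.GPDeg
import Groth.Agent.H25Euler.Mult
import Groth.Agent.H17.GabRos.Complement
import Groth.Agent.H11Strict.BirFinite
import Groth.Agent.H17.Seshadri.Jets
import Groth.Agent.H7Flat.CohDim.AffineStrat

set_option autoImplicit false
universe u
open CategoryTheory CategoryTheory.Limits AlgebraicGeometry TopologicalSpace
open W4c2seshadripos

namespace Groth.Agent.S15255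

/-- Let X be an integral scheme proper over a field k (the published statement: a projective variety), x
a closed point of X with ideal sheaf m_x, L an invertible O_X-module and a, m > 0 integers. If
H^1(X, m_x^a ⊗ L^{⊗m}) is nonzero then so is H^1(X, m_x^(a+1) ⊗ L^{⊗m}) (the ideal sheaves m_x^a
being taken as O_X-modules, so that m_x^a ⊗ L^{⊗m} = m_x^a · L^{⊗m}). -/
theorem result (k : Type u) [Field k]
    (X : Scheme.{u}) [X.Over (Spec (CommRingCat.of k))] [IsProper (X ↘ (Spec (CommRingCat.of k)))]
    [IsIntegral X] (x : X) (hx : IsClosed ({x} : Set X)) (L : X.Modules) (hL : PicF.IsInvertible L)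
    (a m : ℕ) (ha : 0 < a) (hm : 0 < m)
    (h : Nontrivial (Coh.HH X (CohB1.tensorMod (ClSub.idealMod ((W4c2seshadripos.pointIdeal x hx) ^ a))
      (CohB1.tensorPow L m)) 1)) :
    Nontrivial (Coh.HH X (CohB1.tensorMod (ClSub.idealMod ((W4c2seshadripos.pointIdeal x hx) ^ (a + 1)))
      (CohB1.tensorPow L m)) 1) := by
  haveI : IsNoetherian X := H29RR.isNoetherian_of_proper (k := k)
  let P := W4c2seshadripos.pointIdeal x hx
  have hN := H11Ample.isInvertible_tensorPow hL m
  have hle : P ^ (a + 1) ≤ P ^ a := fun U => by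
    rw [pow_succ]
    exact (congrFun (Scheme.IdealSheafData.ideal_mul (I := P ^ a) (J := P)) U).trans_le Ideal.mul_le_left
  obtain ⟨f, hf⟩ := H17.KoszTwist.exists_idealModMap hle
  haveI : Mono (ClSub.idealModι (P ^ (a + 1))) := inferInstanceAs (Mono (kernel.ι _))
  haveI : Mono f := mono_of_mono_fac hf
  have hS₀ : (ShortComplex.mk f (cokernel.π f) (cokernel.condition f)).ShortExact :=
    { exact := ShortComplex.exact_cokernel f }
  have hc : ∀ J : X.IdealSheafData, Coh.IsCoh (ClSub.idealMod J) := fun J =>
    H10Coh.isCoh_kernel (ClSub.toSubscheme J) (H10Coh.isCoh_structureModule' X) (H25Par.isCoh_quotMod J).1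
  have hQ : Coh.IsCoh (cokernel f) := H10Coh.isCoh_cokernel f (hc _).1 (hc _)
  have hiso : ∀ n, ∀ y, y ∉ ((P ^ (n + 1)).support : Set X) →
      IsIso ((DerSch.stalkFunctor X y).map (ClSub.idealModι (P ^ (n + 1)))) := fun n y hy => by
    have h := (H10Coh.Hyper.idealSeq_shortExact (P ^ (n + 1))).map_of_exact (DerSch.stalkFunctor X y)
    refine h.isIso_f_iff.2 (ModuleCat.isZero_iff_subsingleton.2 ?_)
    rw [← H17.GabRos.support_quotMod] at hy
    exact not_not.1 hy
  have hsupp : CohB1.support (cokernel f) ⊆ {x} := by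
    intro y hy
    by_contra hne
    have hP : ∀ n, y ∉ ((P ^ (n + 1)).support : Set X) := fun n h => by
      rw [H11Strict.support_pow] at h
      exact hne ((H17.Seshadri.mem_support_pointIdeal x hx y).1 h)
    haveI := hiso a y (hP a)
    haveI : IsIso ((DerSch.stalkFunctor X y).map (ClSub.idealModι (P ^ a))) := by
      have := hiso (a - 1) y (hP (a - 1))
      rwa [Nat.sub_add_cancel ha] at this
    haveI : IsIso ((DerSch.stalkFunctor X y).map f) := by
      haveI : IsIso ((DerSch.stalkFunctor X y).map f ≫
          (DerSch.stalkFunctor X y).map (ClSub.idealModι (P ^ a))) := by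
        rw [← Functor.map_comp, hf]; infer_instance
      exact IsIso.of_isIso_comp_right _ ((DerSch.stalkFunctor X y).map (ClSub.idealModι (P ^ a)))
    exact (H25Euler.notMem_support_kernel_cokernel f inferInstance).2 hy
  by_contra hcon
  haveI := not_nontrivial_iff_subsingleton.1 hcon
  have hS := H10Coh.Tw.shortExact_seq hS₀ hN
  have hsub := (H25Euler.support_tensor_invertible hQ hN).trans_subset hsupp
  have h3 := H25Par.subsingleton_HH_of_finite_support
    (CohB1.tensorMod (cokernel f) (CohB1.tensorPow L m)) ((Set.finite_singleton x).subset hsub)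
    (fun z hz => by rw [Set.mem_singleton_iff.1 (hsub hz)]; exact hx)
    (fun y hy => not_not.1 hy) one_pos
  exact not_subsingleton_iff_nontrivial.2 h (H7Flat.CohDim.subsingleton_HH_mid hS 1 ‹_› h3)

end Groth.Agent.S15255
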