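import Groth.Statements.S15259
import Groth.Agent.H17.LocEFT
-- import your own Groth.Agent.* helpers here

set_option autoImplicit false
universe u
open CategoryTheory CategoryTheory.Limits AlgebraicGeometry TopologicalSpace
open W4c2seshadripos

namespace Groth.Agent.S15259

/-- Call f : X → Y locally essentially of finite type when Y has a cover by affine opens U = Spec A such
that each f⁻¹(U) has a cover by affine opens Spec B with A → B essentially of finite type (a
localization of a finite-type A-algebra; Mathlib's RingHom.EssFiniteType), and essentially of finite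
type when moreover f is quasi-compact. Then f is essentially of finite type exactly when every
affine open U = Spec A of Y has f⁻¹(U) covered by finitely many affine opens V = Spec B of X with A
→ B essentially of finite type. -/
theorem result {X Y : Scheme.{u}} (f : X ⟶ Y) :
    ((∃ S : Set Y.affineOpens, (⋃ U ∈ S, ((U : Y.Opens) : Set ↥Y)) = Set.univ ∧
      ∀ U ∈ S, ∃ T : Set X.affineOpens, (⋃ V ∈ T, ((V : X.Opens) : Set ↥X)) = ((f ⁻¹ᵁ (U : Y.Opens)) : Set ↥X) ∧
        ∀ V ∈ T, ∃ e : (V : X.Opens) ≤ f ⁻¹ᵁ (U : Y.Opens), (f.appLE (U : Y.Opens) (V : X.Opens) e).hom.EssFiniteType) ∧ QuasiCompact f) ↔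
    ∀ U : Y.affineOpens, ∃ T : Set X.affineOpens, T.Finite ∧ (⋃ V ∈ T, ((V : X.Opens) : Set ↥X)) = ((f ⁻¹ᵁ (U : Y.Opens)) : Set ↥X) ∧
        ∀ V ∈ T, ∃ e : (V : X.Opens) ≤ f ⁻¹ᵁ (U : Y.Opens), (f.appLE (U : Y.Opens) (V : X.Opens) e).hom.EssFiniteType := by
  refine ⟨fun ⟨⟨S, hS, h⟩, hq⟩ => (Groth.Agent.H17.LocEFT.quasiCompact_cover_iff f).mp ⟨Groth.Agent.H17.LocEFT.locEss_of_cover f S hS h, hq⟩, fun h => ?_⟩
  obtain ⟨H, hq⟩ := (Groth.Agent.H17.LocEFT.quasiCompact_cover_iff f).mpr h
  refine ⟨⟨Set.univ, ?_, fun U _ => (Groth.Agent.H17.LocEFT.coverOn_iff f).mp H U⟩, hq⟩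
  refine Set.eq_univ_of_forall fun y => ?_
  obtain ⟨U, hU, hy, -⟩ := exists_isAffineOpen_mem_and_subset (Opens.mem_top y)
  exact Set.mem_biUnion (x := (⟨U, hU⟩ : Y.affineOpens)) trivial hy

end Groth.Agent.S15259
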