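import Groth.Statements.S15262
import Groth.Agent.H10Coh.SatSub.Main

set_option autoImplicit false
open CategoryTheory CategoryTheory.Limits AlgebraicGeometry
open Coherent

namespace Groth.Agent.S15262

/-- Over the complex numbers, let X be a proper scheme with an ample invertible sheaf L, let F be a
coherent sheaf on X which is pure of dimension d with d at least 1 (every nonzero coherent subsheaf
of F has support of dimension d), and fix a rational number b. Then the family of coherent
subsheaves G of F which are saturated (the quotient F/G is pure of dimension d, the zero sheaf
counting as pure) and whose slope is at least b is bounded: all of them occur, up to isomorphism,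
among the fibres at complex points of a single coherent sheaf on X × T for some scheme T of finite
type. Here the slope of G is ((d-1)! times the coefficient of degree d-1) divided by (d! times the
coefficient of degree d) of a Hilbert polynomial of G with respect to L (Euler characteristics of
the twists G ⊗ L^m, m ≥ 0), and the slope condition is imposed for every polynomial so related to G.
(The published statement is relative: F is a sheaf on a projective scheme over a base of finite
type, flat over the base, with fibres over closed points pure of dimension d, and the subsheaves are
taken in the fibres over geometric points; this row is the case of a single complex fibre, and L is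
any ample invertible sheaf rather than a very ample one, which changes nothing up to rescaling b
since the slopes for a power L^k are the slopes for L divided by k.) -/
theorem result
    (X : Scheme.{0}) [X.Over (Spec (CommRingCat.of ℂ))] [IsProper (X ↘ Spec (CommRingCat.of ℂ))]
    (L : X.Modules) (hL : CohB1.IsAmple L) (d : ℕ) (hd : 1 ≤ d)
    (F : X.Modules) (hF : Coh.IsCoh F) (hpure : ShStab.IsPure X F d) (b : ℚ) :
    Pic13.IsBounded ℂ X (fun G =>
      Coh.IsCoh G ∧ ∃ ι : G ⟶ F, Mono ι ∧ ShStab.IsPure X (cokernel ι) d ∧
        ∀ pG : Polynomial ℚ, ShStab.IsHilbPoly ℂ X L G pG → b ≤ StabCat.hatSlope d pG) := by
  exact H10Coh.SatSub.isBounded_saturated hL d hd hF hpure b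

end Groth.Agent.S15262
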