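import Groth.Statements.S15267
import Groth.Agent.H10Coh.Stab.HomFibre

set_option backward.isDefEq.respectTransparency.types false
set_option linter.style.haveILetI false

set_option autoImplicit false
open CategoryTheory CategoryTheory.Limits AlgebraicGeometry
open Coherent

namespace Groth.Agent.S15267

/-- Over the complex numbers, let X be an irreducible proper scheme of dimension d with an ample
invertible sheaf L, and let ξ be a complex point of X. Let E and F be coherent sheaves on X which
are semistable of dimension d with respect to L (nonzero, pure of dimension d, and the reduced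
Hilbert polynomial of every nonzero proper coherent subsheaf is at most that of the sheaf for large
arguments), with the same reduced Hilbert polynomial (r(F)·p_E = r(E)·p_F for Hilbert polynomials
p_E, p_F, r denoting d! times the degree-d coefficient), and suppose that each of E and F has a
filtration by coherent subsheaves with stable d-dimensional successive quotients of the same reduced
Hilbert polynomial whose associated graded sheaf (the direct sum of the quotients) is finite locally
free on some open neighbourhood of ξ. Then every morphism f from E to F whose pull-back along ξ is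
the zero map is zero. (The published statement is for modules over a sheaf of rings of differential
operators on a projective flat family X over S with irreducible fibres of dimension d and a section
ξ, the conditions being imposed on all closed fibres; this row is the case of the structure sheaf
over a single complex fibre, to which the published proof reduces.) -/
theorem result
    (X : Scheme.{0}) [X.Over (Spec (CommRingCat.of ℂ))] [IsProper (X ↘ Spec (CommRingCat.of ℂ))]
    [IrreducibleSpace X] (d : ℕ) (hX : topologicalKrullDim X = (d : WithBot ℕ∞))
    (L : X.Modules) (hL : CohB1.IsAmple L)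
    (E F : X.Modules) (hE : ShStab.IsSemistable ℂ X L E d) (hF : ShStab.IsSemistable ℂ X L F d)
    (pE pF : Polynomial ℚ) (hpE : ShStab.IsHilbPoly ℂ X L E pE) (hpF : ShStab.IsHilbPoly ℂ X L F pF)
    (hred : StabCat.RedEq d pE pF)
    (ξ : Spec (CommRingCat.of ℂ) ⟶ X) (hξ : ξ ≫ (X ↘ Spec (CommRingCat.of ℂ)) = 𝟙 (Spec (CommRingCat.of ℂ)))
    (sE : LTSeries (Subobject E)) (hsE : ShStab.IsJHFiltration ℂ X L E d sE)
    (hgrE : ∀ x ∈ Set.range ξ.base, ∃ U : X.Opens, x ∈ U ∧ FlatMod.IsFinLocFree ((StabCat.grObj sE).restrict U.ι))
    (sF : LTSeries (Subobject F)) (hsF : ShStab.IsJHFiltration ℂ X L F d sF)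
    (hgrF : ∀ x ∈ Set.range ξ.base, ∃ U : X.Opens, x ∈ U ∧ FlatMod.IsFinLocFree ((StabCat.grObj sF).restrict U.ι))
    (f : E ⟶ F) (hf : (Scheme.Modules.pullback ξ).map f = 0) : f = 0 := by
  exact H10Coh.Stab.eq_zero_of_pullback_eq_zero hX hL hE hF hpE hpF hred ξ sF hsF hgrF f hf

end Groth.Agent.S15267
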