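import Groth.Statements.S15270
import Groth.Agent.H10Coh.Stab.SectionFlat
import Groth.Agent.H11Proj.ProperQProj

set_option backward.isDefEq.respectTransparency.types false
set_option linter.style.haveILetI false

set_option autoImplicit false
open CategoryTheory CategoryTheory.Limits AlgebraicGeometry
open Coherent

namespace Groth.Agent.S15270

/-- Over the complex numbers, let S be a separated scheme of finite type, X a closed subscheme of
projective n-space over S which is flat over S, and ξ a section of X over S. Let F be a coherent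
sheaf on X, flat over S, such that for every complex point t of S the restriction F_t to the fibre
X_t, polarised by the pull-back of O(1), is semistable of dimension d (nonzero, pure of dimension d,
reduced Hilbert polynomials of nonzero proper coherent subsheaves at most that of F_t for large
arguments) and has a filtration by coherent subsheaves with stable d-dimensional successive
quotients of the reduced Hilbert polynomial of F_t whose associated graded sheaf is finite locally
free on an open neighbourhood of the point ξ(t). Then F is locally free along ξ: for every complex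
point t of S, F is finite locally free on an open neighbourhood of the point ξ(t) of X. (The
published statement is for modules over a sheaf of rings of differential operators, on a projective
flat family with irreducible fibres of dimension d, and uses closed points; this row is the case of
the structure sheaf with complex points, which are the closed points here, and does not assume the
fibres irreducible.) -/
theorem result
    (S : Scheme.{0}) (sS : S ⟶ Spec (CommRingCat.of ℂ)) [LocallyOfFiniteType sS] [QuasiCompact sS] [IsSeparated sS]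
    (n : ℕ) (X : Scheme.{0}) (i : X ⟶ CohB1.ProjSpaceOver n S) [IsClosedImmersion i] [Flat (i ≫ (CohB1.ProjSpaceOver n S ↘ S))] (d : ℕ)
    (ξ : S ⟶ X) (hξ : ξ ≫ (i ≫ (CohB1.ProjSpaceOver n S ↘ S)) = 𝟙 S)
    (F : X.Modules) (hF : Coh.IsCoh F) (hFfl : FlatMod.IsFlatOver (i ≫ (CohB1.ProjSpaceOver n S ↘ S)) F)
    (hss : ∀ (t : Spec (CommRingCat.of ℂ) ⟶ S), t ≫ sS = 𝟙 (Spec (CommRingCat.of ℂ)) →
      @ShStab.IsSemistable ℂ _ (PicF.XT (i ≫ (CohB1.ProjSpaceOver n S ↘ S)) (Over.mk t)) ⟨PicF.XTproj (i ≫ (CohB1.ProjSpaceOver n S ↘ S)) (Over.mk t)⟩ ((Scheme.Modules.pullback (pullback.fst (i ≫ (CohB1.ProjSpaceOver n S ↘ S)) (Over.mk t).hom ≫ i)).obj (Twist.twistOver n S 1)) ((Scheme.Modules.pullback (pullback.fst (i ≫ (CohB1.ProjSpaceOver n S ↘ S)) (Over.mk t).hom)).obj F) d)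
    (hLF : ∀ (t : Spec (CommRingCat.of ℂ) ⟶ S), t ≫ sS = 𝟙 (Spec (CommRingCat.of ℂ)) →
      ∃ sF : LTSeries (Subobject ((Scheme.Modules.pullback (pullback.fst (i ≫ (CohB1.ProjSpaceOver n S ↘ S)) (Over.mk t).hom)).obj F)), @ShStab.IsJHFiltration ℂ _ (PicF.XT (i ≫ (CohB1.ProjSpaceOver n S ↘ S)) (Over.mk t)) ⟨PicF.XTproj (i ≫ (CohB1.ProjSpaceOver n S ↘ S)) (Over.mk t)⟩ ((Scheme.Modules.pullback (pullback.fst (i ≫ (CohB1.ProjSpaceOver n S ↘ S)) (Over.mk t).hom ≫ i)).obj (Twist.twistOver n S 1)) ((Scheme.Modules.pullback (pullback.fst (i ≫ (CohB1.ProjSpaceOver n S ↘ S)) (Over.mk t).hom)).obj F) d sF ∧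
        ∀ x ∈ Set.range (PicF.secT (i ≫ (CohB1.ProjSpaceOver n S ↘ S)) ξ hξ (Over.mk t)).base, ∃ V : (PicF.XT (i ≫ (CohB1.ProjSpaceOver n S ↘ S)) (Over.mk t)).Opens, x ∈ V ∧ FlatMod.IsFinLocFree ((StabCat.grObj sF).restrict V.ι))
    (t : Spec (CommRingCat.of ℂ) ⟶ S) (ht : t ≫ sS = 𝟙 (Spec (CommRingCat.of ℂ))) :
    ∀ x ∈ Set.range (t ≫ ξ).base, ∃ U : X.Opens, x ∈ U ∧ FlatMod.IsFinLocFree (F.restrict U.ι) := by
  intro x hx
  haveI : IsLocallyNoetherian S := LocallyOfFiniteType.isLocallyNoetherian sS
  haveI : IsProper (CohB1.ProjSpaceOver n S ↘ S) := H27Weil.isProper_toBase n S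
  haveI : IsLocallyNoetherian X := LocallyOfFiniteType.isLocallyNoetherian (i ≫ (CohB1.ProjSpaceOver n S ↘ S))
  obtain ⟨sF, hsF, hgr⟩ := hLF t ht
  exact H10Coh.Stab.exists_finLocFree_nhd_of_jh sS ξ hξ hF hFfl t ht sF hsF.1 hsF.2.1 hgr x hx

end Groth.Agent.S15270
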