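import Groth.Statements.S15285

set_option autoImplicit false
set_option backward.isDefEq.respectTransparency false
set_option backward.isDefEq.respectTransparency.types false
universe v v' u u'
open PicCat

namespace Groth.Agent.S15285

--- pre
open CategoryTheory MonoidalCategory Functor.LaxMonoidal

lemma endUnit_bijective {C : Type u} [Category.{v} C] [MonoidalCategory C] (X : C)
    (h : (tensorRight X).IsEquivalence) :
    Function.Bijective (fun φ : 𝟙_ C ⟶ 𝟙_ C => (λ_ X).inv ≫ (φ ▷ X) ≫ (λ_ X).hom) := by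
  refine ⟨fun φ ψ e => ?_, fun χ => ?_⟩
  · refine (tensorRight X).map_injective ?_
    show φ ▷ X = ψ ▷ X
    simpa using e
  · refine ⟨(tensorRight X).preimage ((λ_ X).hom ≫ χ ≫ (λ_ X).inv), ?_⟩
    show (λ_ X).inv ≫ (tensorRight X).map _ ≫ (λ_ X).hom = χ
    rw [(tensorRight X).map_preimage]
    simp

lemma map_endUnit {C : Type u} [Category.{v} C] [MonoidalCategory C]
    {D : Type u'} [Category.{v'} D] [MonoidalCategory D] [IsGroupoid D]
    (F : C ⥤ D) [F.LaxMonoidal] (X : C) (φ : 𝟙_ C ⟶ 𝟙_ C) :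
    F.map ((λ_ X).inv ≫ (φ ▷ X) ≫ (λ_ X).hom) =
      (λ_ (F.obj X)).inv ≫ ((ε F ≫ F.map φ ≫ inv (ε F)) ▷ F.obj X) ≫ (λ_ (F.obj X)).hom := by
  have h := μ_natural_left F φ X
  rw [left_unitality F X, Functor.map_comp, Functor.map_comp,
    ← left_unitality_inv F X]
  simp only [Category.assoc, ← comp_whiskerRight_assoc]
  rw [← reassoc_of% h]
  simp

open CategoryTheory MonoidalCategory in
/-- Let C and D be Picard categories (monoidal groupoids in which tensoring on either side with any
object is an equivalence of categories) and F : C ⥤ D a lax monoidal functor. If F induces a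
bijection on isomorphism classes of objects (it is essentially surjective, and F X ≅ F Y only when X
≅ Y) and a bijection on endomorphisms of the unit object, then F is an equivalence of categories. -/
theorem result
    {C : Type u} [Category.{v} C] [MonoidalCategory C] [IsGroupoid C]
    {D : Type u'} [Category.{v'} D] [MonoidalCategory D] [IsGroupoid D]
    (hC : ∀ X : C, (tensorLeft X).IsEquivalence ∧ (tensorRight X).IsEquivalence)
    (hD : ∀ X : D, (tensorLeft X).IsEquivalence ∧ (tensorRight X).IsEquivalence)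
    (F : C ⥤ D) [F.LaxMonoidal] [F.EssSurj]
    (h0 : ∀ X Y : C, Nonempty (F.obj X ≅ F.obj Y) → Nonempty (X ≅ Y))
    (h1 : Function.Bijective (fun φ : 𝟙_ C ⟶ 𝟙_ C => F.map φ)) :
    F.IsEquivalence := by
  have hbij : ∀ X : C, Function.Bijective (fun f : X ⟶ X => F.map f) := fun X => by
    have e₁ := endUnit_bijective X (hC X).2
    have e₂ := endUnit_bijective (F.obj X) (hD (F.obj X)).2
    have hc : Function.Bijective (fun ψ : F.obj (𝟙_ C) ⟶ F.obj (𝟙_ C) => ε F ≫ ψ ≫ inv (ε F)) :=
      ⟨fun a b e => (cancel_mono (inv (ε F))).1 ((cancel_epi (ε F)).1 e), fun b => ⟨inv (ε F) ≫ b ≫ ε F, by simp⟩⟩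
    have h3 := e₂.comp (hc.comp h1)
    have he : (fun f : X ⟶ X => F.map f) ∘ (fun φ => (λ_ X).inv ≫ (φ ▷ X) ≫ (λ_ X).hom) = _ :=
      funext (map_endUnit F X)
    exact (Function.Bijective.of_comp_iff _ e₁).1 (he ▸ h3)
  have : F.Full := ⟨fun {X Y} g => by
    obtain ⟨i⟩ := h0 X Y ⟨asIso g⟩
    obtain ⟨f, hf⟩ := (hbij X).2 (g ≫ F.map i.inv)
    refine ⟨f ≫ i.hom, ?_⟩
    rw [F.map_comp, show F.map f = _ from hf, Category.assoc, ← F.map_comp, i.inv_hom_id, F.map_id,
      Category.comp_id]⟩
  have : F.Faithful := ⟨fun {X Y} f g e => by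
    have := (hbij X).1 (a₁ := f ≫ inv g) (a₂ := 𝟙 X) (by simp [e])
    simpa using this =≫ g⟩
  exact { }

end Groth.Agent.S15285
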