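import Groth.Statements.S15286
import Groth.Agent.H14Cat.PicardHull

set_option autoImplicit false
set_option backward.isDefEq.respectTransparency false
set_option backward.isDefEq.respectTransparency.types false
universe v v' u u'
open PicCat

namespace Groth.Agent.S15286

--- pre
section
open CategoryTheory MonoidalCategory

variable {D : Type u'} [Category.{v'} D] [MonoidalCategory D] [BraidedCategory D]

/-- The action of an endomorphism of the unit. -/
def act (Z : D) (φ : 𝟙_ D ⟶ 𝟙_ D) : Z ⟶ Z := (λ_ Z).inv ≫ (φ ▷ Z) ≫ (λ_ Z).hom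

lemma act_bijective (Z : D) (h : (tensorRight Z).IsEquivalence) : Function.Bijective (act Z) := by
  refine ⟨fun φ ψ e => ?_, fun χ => ?_⟩
  · refine (tensorRight Z).map_injective ?_
    show φ ▷ Z = ψ ▷ Z
    simpa [act] using e
  · refine ⟨(tensorRight Z).preimage ((λ_ Z).hom ≫ χ ≫ (λ_ Z).inv), ?_⟩
    show (λ_ Z).inv ≫ (tensorRight Z).map _ ≫ (λ_ Z).hom = χ
    rw [(tensorRight Z).map_preimage]
    simp

lemma act_natural {Z W : D} (f : Z ⟶ W) (φ : 𝟙_ D ⟶ 𝟙_ D) : act Z φ ≫ f = f ≫ act W φ := by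
  simp only [act, Category.assoc, ← leftUnitor_naturality]
  rw [← whisker_exchange_assoc, leftUnitor_inv_naturality_assoc]

lemma act_unit (φ : 𝟙_ D ⟶ 𝟙_ D) : act (𝟙_ D) φ = φ := by
  rw [act, MonoidalCategory.unitors_equal, rightUnitor_naturality, MonoidalCategory.unitors_inv_equal, Iso.inv_hom_id_assoc]

lemma act_comp (Z : D) (φ ψ : 𝟙_ D ⟶ 𝟙_ D) : act Z (φ ≫ ψ) = act Z φ ≫ act Z ψ := by
  simp [act]

lemma unit_comm (φ ψ : 𝟙_ D ⟶ 𝟙_ D) : φ ≫ ψ = ψ ≫ φ := by
  have := act_natural ψ φ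
  rwa [act_unit] at this

lemma act_tensor_right (Z W : D) (φ : 𝟙_ D ⟶ 𝟙_ D) : act (Z ⊗ W) φ = act Z φ ▷ W := by
  simp [act]

lemma act_tensor_left (Z W : D) (φ : 𝟙_ D ⟶ 𝟙_ D) : act (Z ⊗ W) φ = Z ◁ act W φ := by
  rw [← cancel_mono (β_ Z W).hom, act_natural, act_tensor_right,
    BraidedCategory.braiding_naturality_right]

lemma act_tensor (Z W : D) (φ ψ : 𝟙_ D ⟶ 𝟙_ D) :
    act Z φ ⊗ₘ act W ψ = act (Z ⊗ W) (φ ≫ ψ) := by
  rw [tensorHom_def, act_comp, act_tensor_left Z W ψ, act_tensor_right Z W φ]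

end

open CategoryTheory MonoidalCategory in
/-- Let C be a Picard category, D a commutative (braided) Picard category, F, G : C ⥤ D lax monoidal
functors and θ₀ : F ⟶ G a monoidal natural transformation. Identify an endomorphism φ of the unit of
D with the automorphism λ⁻¹ ≫ (φ ▷ Z) ≫ λ of any object Z. Then the monoidal natural transformations
F ⟶ G form a torsor under the monoid homomorphisms χ from the monoid of isomorphism classes of C to
End(𝟙_D): every monoidal θ : F ⟶ G is X ↦ θ₀_X ≫ (action of χ[X] on G X) for a unique such χ, and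
for every χ this formula defines a monoidal natural transformation. (The published statement allows
D non-commutative; for a non-braided monoidal groupoid the classes so obtained are crossed rather
than plain homomorphisms, so D is taken braided here.) -/
theorem result
    {C : Type u} [Category.{v} C] [MonoidalCategory C] [IsGroupoid C]
    {D : Type u'} [Category.{v'} D] [MonoidalCategory D] [BraidedCategory D] [IsGroupoid D]
    (hC : ∀ X : C, (tensorLeft X).IsEquivalence ∧ (tensorRight X).IsEquivalence)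
    (hD : ∀ X : D, (tensorLeft X).IsEquivalence ∧ (tensorRight X).IsEquivalence)
    (F G : C ⥤ D) [F.LaxMonoidal] [G.LaxMonoidal] (θ₀ : F ⟶ G) [NatTrans.IsMonoidal θ₀] :
    (∀ θ : F ⟶ G, NatTrans.IsMonoidal θ →
      ∃! χ : Skeleton C →* End (𝟙_ D), ∀ X : C,
        θ.app X = θ₀.app X ≫ (λ_ (G.obj X)).inv ≫
          ((χ (toSkeleton X) : 𝟙_ D ⟶ 𝟙_ D) ▷ G.obj X) ≫ (λ_ (G.obj X)).hom) ∧
    (∀ χ : Skeleton C →* End (𝟙_ D), ∃ θ : F ⟶ G, NatTrans.IsMonoidal θ ∧ ∀ X : C,
        θ.app X = θ₀.app X ≫ (λ_ (G.obj X)).inv ≫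
          ((χ (toSkeleton X) : 𝟙_ D ⟶ 𝟙_ D) ▷ G.obj X) ≫ (λ_ (G.obj X)).hom) := by
  have key : ∀ θ : F ⟶ G, ∀ X : C, ∃ φ : 𝟙_ D ⟶ 𝟙_ D, θ.app X = θ₀.app X ≫ act (G.obj X) φ := fun θ X => by
    obtain ⟨φ, hφ⟩ := (act_bijective (G.obj X) (hD _).2).2 (inv (θ₀.app X) ≫ θ.app X)
    exact ⟨φ, by rw [hφ, IsIso.hom_inv_id_assoc]⟩
  have uniq : ∀ (X : C) (φ ψ : 𝟙_ D ⟶ 𝟙_ D),
      θ₀.app X ≫ act (G.obj X) φ = θ₀.app X ≫ act (G.obj X) ψ → φ = ψ := fun X φ ψ h =>
    (act_bijective (G.obj X) (hD _).2).1 ((cancel_epi _).1 h)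
  have hiso : ∀ X : C, Nonempty ((toSkeleton X).out ≅ X) := fun X => Quotient.exact (Quotient.out_eq (toSkeleton X))
  refine ⟨fun θ hθ => ?_, fun χ => ?_⟩
  · choose φ hφ using key θ
    have hcongr : ∀ {X Y : C}, (X ≅ Y) → φ X = φ Y := fun {X Y} e => by
      apply uniq Y
      rw [← cancel_epi (F.map e.hom), ← hφ, θ.naturality, hφ, Category.assoc, act_natural,
        ← θ₀.naturality_assoc]
    have h1 : φ (𝟙_ C) = 𝟙 (𝟙_ D) := by
      have h := NatTrans.IsMonoidal.unit (τ := θ)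
      rw [hφ, NatTrans.IsMonoidal.unit_assoc, ← act_natural, act_unit] at h
      exact (cancel_mono (Functor.LaxMonoidal.ε G)).1 (h.trans (Category.id_comp _).symm)
    have hmul : ∀ X Y : C, φ (X ⊗ Y) = φ X ≫ φ Y := fun X Y => by
      apply uniq (X ⊗ Y)
      rw [← cancel_epi (Functor.LaxMonoidal.μ F X Y), ← hφ, NatTrans.IsMonoidal.tensor,
        NatTrans.IsMonoidal.tensor_assoc, hφ, hφ, ← tensorHom_comp_tensorHom, act_tensor,
        Category.assoc, act_natural]
    have hφout : ∀ X : C, φ (toSkeleton X).out = φ X := fun X => hcongr (hiso X).some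
    let χ : Skeleton C →* End (𝟙_ D) :=
      { toFun := fun s => φ s.out
        map_one' := by
          show φ _ = 𝟙 _
          rw [← h1]
          exact hφout (𝟙_ C)
        map_mul' := fun s t => by
          rw [Skeleton.mul_eq, hφout, hmul]
          exact unit_comm _ _ }
    refine ⟨χ, fun X => ?_, fun χ' hχ' => ?_⟩
    · show θ.app X = θ₀.app X ≫ act (G.obj X) (φ (toSkeleton X).out)
      rw [hφout, ← hφ]
    · ext s
      induction s using Quotient.inductionOn with
      | h X => exact (uniq X _ _ ((hχ' X).symm.trans (hφ X))).trans (hφout X).symm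
  · have hnat : ∀ {X Y : C} (f : X ⟶ Y), toSkeleton X = toSkeleton Y := fun f =>
      Quotient.sound ⟨asIso f⟩
    refine ⟨⟨fun X => θ₀.app X ≫ act (G.obj X) (χ (toSkeleton X)), fun X Y f => ?_⟩, ⟨?_, fun X Y => ?_⟩,
      fun X => rfl⟩
    · rw [← hnat f, θ₀.naturality_assoc, ← act_natural, Category.assoc]
    · have h : χ (toSkeleton (𝟙_ C)) = 𝟙 (𝟙_ D) := by
        rw [show toSkeleton (𝟙_ C) = (1 : Skeleton C) from rfl, map_one]
        rfl
      dsimp only
      rw [h, NatTrans.IsMonoidal.unit_assoc, ← act_natural, act_unit, Category.id_comp]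
    · dsimp only
      have hm : χ (toSkeleton (X ⊗ Y)) =
          ((χ (toSkeleton X) : 𝟙_ D ⟶ 𝟙_ D) ≫ (χ (toSkeleton Y) : 𝟙_ D ⟶ 𝟙_ D)) := by
        rw [Skeleton.toSkeleton_tensorObj, map_mul]
        exact unit_comm _ _
      rw [hm, NatTrans.IsMonoidal.tensor_assoc, ← tensorHom_comp_tensorHom, act_tensor,
        Category.assoc, act_natural]

end Groth.Agent.S15286
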