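import Groth.Statements.S15288
import Groth.Agent.H7Flat.CohDim.Fibre
import Groth.Agent.H12AlgSp.DimFormula
import Groth.Agent.H26Canon.Basic
import Groth.Agent.H16Derived.TorTest.RpushAmpLoc
import Groth.Agent.H16Derived.TorTest.AbsStalk
import Groth.Agent.H16Derived.Dual.PerfQCoh
import Groth.Agent.H16Derived.QCohD.RpushUnb
import Groth.Agent.H16Derived.BaseChange.RelFlatPull

set_option autoImplicit false
universe u
open CategoryTheory CategoryTheory.Limits AlgebraicGeometry
attribute [local instance] HasDerivedCategory.standard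
open Perf

namespace Groth.Agent.S15288

open Groth.Agent.H16Derived Groth.Agent.H16Derived.KFlat.Stalk

/-- Let f : X ⟶ Y be locally projective (locally on Y, X is a closed subscheme of some projective space
ℙ^N_Y), flat, surjective and locally of finite presentation, with every fibre of local dimension n
at each of its points, and assume the derived direct image Rf_* exists on D(O_X). If E ∈ D(O_X) is
perfect and is represented by a complex of flat O_X-modules concentrated in degrees [a, b], then
Rf_*E has tor amplitude in [a, b + n]: for every O_Y-module F the cohomology sheaves of Rf_*E ⊗^L F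
vanish outside [a, b + n]. (Rf_*E is moreover perfect; that part is the flat proper finitely
presented case stated separately.) -/
theorem result
    {X Y : Scheme.{u}} (f : X ⟶ Y) (n : ℕ)
    (hproj : RedSub.IsLocallyProjective (Over.mk f))
    [Flat f] [Surjective f] [LocallyOfFinitePresentation f]
    (hdim : ∀ x : ↥X, FlatMor.fibreDimAt f x = n)
    [DCoh.HasRpush f] (E : DCoh.D X) (hE : DCoh.IsPerfect E) (a b : ℤ)
    (hab : DCoh.HasFlatAmplitudeIn a b E) :
    DCoh.HasTorAmplitudeIn a (b + n) ((DCoh.Rpush f).obj E) := by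
  haveI : IsProper f := H26Canon.isProper_of_isLocallyProjective f hproj
  haveI := QCohD.hasInjectiveResolutions_modules (X := X)
  have hd : ∀ y : Y, topologicalKrullDim ↥(f.fiber y) ≤ (n : WithBot ℕ∞) := fun y => by
    refine H12AlgSp.topologicalKrullDim_le_of_stalks _ fun z => ?_
    obtain ⟨x, rfl⟩ : ∃ x, f.base x = y := ⟨(f.fiberι y).base z, by
      have hz : (f.fiberι y).base z ∈ Set.range (f.fiberι y).base := ⟨z, rfl⟩
      rw [Scheme.Hom.range_fiberι] at hz
      exact hz⟩
    have hz : (f.fiberι (f.base x)).base z ∈ Set.range (f.fiberι (f.base x)).base := ⟨z, rfl⟩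
    rw [Scheme.Hom.range_fiberι] at hz
    obtain ⟨x', hx', rfl⟩ : ∃ x' : X, ∃ h : f.base x' = f.base x,
        cast (by rw [h]) (f.asFiber x') = z := ⟨(f.fiberι (f.base x)).base z, hz, by
      refine (f.fiberι (f.base x)).isEmbedding.injective ?_
      have key : ∀ (x' : X) (w : Y) (h : f.base x' = w),
          (f.fiberι w).base (cast (by rw [h]) (f.asFiber x')) = x' := by
        intro x' w h; subst h; exact f.fiberι_asFiber x'
      exact key _ _ hz⟩
    have key : ∀ (w : Y) (h : f.base x' = w),
        FlatMor.localDim (f.fiber w) (cast (by rw [h]) (f.asFiber x')) = (n : WithBot ℕ∞) := by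
      intro w h; subst h; exact hdim x'
    rw [← key _ hx']
    refine le_iInf fun U => ?_
    let F' := f.fiber (f.base x)
    let W : F'.Opens := U.1
    have e := RingEquiv.ringKrullDim (asIso (W.ι.stalkMap ⟨_, U.2⟩)).commRingCatIsoToRingEquiv
    refine e.le.trans ?_
    rw [ringKrullDim_stalk_eq_coheight]
    exact (le_iSup (fun v : (W : Scheme.{u}) => ((Order.coheight v : ℕ∞) : WithBot ℕ∞)) _).trans
      (H19Grp.topologicalKrullDim_eq_iSup_coheight (W : Scheme.{u})).ge
  obtain ⟨F, hFv, hFf, ⟨eF⟩⟩ := hab
  have hFq : DCoh.IsQCohD (DCoh.toD X F) := QCohD.isQCohD_iso eF.symm (Dual.isQCohD_of_isPerfect hE)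
  have hN : ∀ M : X.Modules, Coh.IsQCoh M → ∀ i : ℤ, ((n : ℕ) : ℤ) < i →
      IsZero (DCoh.HD ((DCoh.Rpush f).obj (DCoh.inD X M)) i) := fun M hM i hi => by
    haveI : Coh.IsQCoh M := hM
    obtain ⟨e⟩ := QCohD.nonempty_hd_rpush_single f M i.toNat
    rw [Int.toNat_of_nonneg (by omega)] at e
    refine IsZero.of_iso ?_ e
    rw [IsZero.iff_id_eq_zero]
    exact (H10Coh.shF Y).map_injective
      (((H7Flat.CohDim.isZero_rpushAb f n hd M i.toNat (by omega)).of_iso
        (H10Coh.nonempty_toAb_rpush f M i.toNat).some).eq_of_src _ _)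
  have hta : DerSch.HasTorAmplitude f a b F :=
    TorTest.hasTorAmplitude_of_flat f hFv fun i => BaseChange.isFlatOver_of_isFlat f (hFf i)
  have h := TorTest.hasTorAmplitudeD_rpush_bound f (𝟙 Y) f F (Category.comp_id f) hFq n hN hta
  let K := DerivedCategory.Q.objPreimage ((DCoh.Rpush f).obj E)
  let eK : DCoh.toD Y K ≅ (DCoh.Rpush f).obj E := DerivedCategory.Q.objObjPreimageIso _
  have h' := TorTest.hasTorAmplitudeIn_of_stalk (h K ⟨eK ≪≫ (DCoh.Rpush f).mapIso eF.symm⟩)
  intro M _ i hi
  exact (h' M i hi).of_iso ((DerivedCategory.homologyFunctor Y.Modules i).mapIso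
    ((DCoh.LTensorMod M).mapIso eK.symm))

end Groth.Agent.S15288
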