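import Groth.Statements.S15295
import Groth.Agent.H27DR.Basic
import Groth.Agent.H27DR.ExtBaseChange
import Mathlib

set_option autoImplicit false
universe u
open DeRham

namespace Groth.Agent.S15295

open exteriorPower TensorProduct in
/-- The de Rham complex commutes with base change. Let R → A and R → S be ring maps and B = S ⊗_R A (an
R-algebra over A and S with the pushout property), and let ψ be the induced map of de Rham complexes
from the p-forms of A over R to the p-forms of B over S (additive maps sending b₀ db₁ ∧ … ∧ db_p to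
g(b₀) d(g b₁) ∧ … ∧ d(g b_p), g : A → B the structure map). Then in each degree p the S-linear
extension S ⊗_R ⋀^p Ω_{A/R} → ⋀^p Ω_{B/S}, s ⊗ x ↦ s · ψ_p(x), is bijective. (This row states the
degreewise bijectivity, with the base change written S ⊗_R − rather than − ⊗_R S; the compatibility
of ψ with the differentials, which makes this an isomorphism of complexes, holds for any square of
ring maps.) -/
theorem result (R S A B : Type u) [CommRing R] [CommRing S] [CommRing A] [CommRing B]
    [Algebra R S] [Algebra R A] [Algebra R B] [Algebra A B] [Algebra S B]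
    [IsScalarTower R A B] [IsScalarTower R S B] [Algebra.IsPushout R S A B]
    (ψ : ∀ p : ℕ, ↥(⋀[A]^p (Ω[A⁄R])) →+ ↥(⋀[B]^p (Ω[B⁄S])))
    (hψ : DeRham.IsCxMap (KaehlerDifferential.D R A) (KaehlerDifferential.D S B) (algebraMap A B) ψ)
    (p : ℕ) (Φ : S ⊗[R] ↥(⋀[A]^p (Ω[A⁄R])) →+ ↥(⋀[B]^p (Ω[B⁄S])))
    (hΦ : ∀ (s : S) (x : ↥(⋀[A]^p (Ω[A⁄R]))), Φ (s ⊗ₜ[R] x) = s • ψ p x) :
    Function.Bijective Φ := by
  haveI hpo : Algebra.IsPushout R S A B := inferInstance
  let f : Ω[A⁄R] →ₗ[A] Ω[B⁄S] := KaehlerDifferential.map R S A B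
  have hfS := KaehlerDifferential.isBaseChange R S A B
  haveI : Algebra.IsPushout R A S B := hpo.symm
  have hf : IsBaseChange B f := by
    refine IsBaseChange.of_equiv (KaehlerDifferential.tensorKaehlerEquiv R S A B) fun x => ?_
    have h : (KaehlerDifferential.tensorKaehlerEquiv R S A B).toLinearMap.restrictScalars A ∘ₗ
        TensorProduct.mk A B _ 1 = f := by
      refine LinearMap.ext_on_range (KaehlerDifferential.span_range_derivation R A) fun a => ?_
      simp [f, KaehlerDifferential.map_D]
    exact LinearMap.congr_fun h x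
  let F : ↥(⋀[A]^p (Ω[A⁄R])) →ₗ[A] ↥(⋀[B]^p (Ω[B⁄S])) :=
    exteriorPower.alternatingMapLinearEquiv (Groth.Agent.H27DR.kaehlerAlt p)
  have hF : ∀ m : Fin p → Ω[A⁄R], F (exteriorPower.ιMulti A p m) =
      exteriorPower.ιMulti B p (fun i => f (m i)) := fun m => by
    simp [F, Groth.Agent.H27DR.kaehlerAlt, f]
  have hb := Groth.Agent.H27DR.isBaseChange_exteriorPower hf F hF
  have hψF : ∀ x, ψ p x = F x := by
    intro x
    refine Groth.Agent.H27DR.gen_induction _ (KaehlerDifferential.span_range_derivation R A) p
      (P := fun x => ψ p x = F x) ?_ (by simp) (fun a b ha hb => by rw [map_add, map_add, ha, hb]) x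
    intro b₀ b
    rw [hψ]
    simp only [DeRham.gen, map_smul, hF]
    simp [f, KaehlerDifferential.map_D, IsScalarTower.algebraMap_smul]
  haveI : Algebra.IsPushout R S A B := hpo
  let e := (Algebra.IsPushout.cancelBaseChange R S A B ↥(⋀[A]^p (Ω[A⁄R]))).symm
  have he : ∀ z, Φ z = hb.equiv (e z) := by
    intro z
    induction z using TensorProduct.induction_on with
    | zero => simp
    | add a b ha hb' => simp [ha, hb']
    | tmul s x =>
      rw [hΦ, hψF]
      simp only [e, Algebra.IsPushout.cancelBaseChange_symm_tmul, IsBaseChange.equiv_tmul]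
      rw [IsScalarTower.algebraMap_smul]
  have : (Φ : _ → _) = hb.equiv ∘ e := funext he
  rw [this]
  exact hb.equiv.bijective.comp e.bijective

end Groth.Agent.S15295
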