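import Groth.Statements.S15296
import Mathlib
import Groth.Agent.H27DR.Quotient

set_option autoImplicit false
universe u
open DeRham

namespace Groth.Agent.S15296

open exteriorPower in
/-- Let R → A be a ring map, π a surjective A-linear map from the Kähler differentials of A over R onto
an A-module Ω', δ = π ∘ d the induced derivation A → Ω', and d_A a de Rham differential of the
Kähler differentials. Suppose the kernel of π is generated over A by elements ω with π(ω) = 0 whose
differential d_A(ω) is killed by the second exterior power of π. Then the exterior powers of Ω' over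
A carry a de Rham differential for δ: a family of R-linear maps d from p-forms to (p+1)-forms with
d(f₀ δf₁ ∧ … ∧ δf_p) = δf₀ ∧ δf₁ ∧ … ∧ δf_p and d ∘ d = 0; moreover d is compatible with d_A through
the exterior powers of π. -/
theorem result (R A Ω' : Type u) [CommRing R] [CommRing A] [Algebra R A]
    [AddCommGroup Ω'] [Module A Ω'] [Module R Ω'] [IsScalarTower R A Ω']
    (π : Ω[A⁄R] →ₗ[A] Ω') (hπ : Function.Surjective π)
    (dA : ∀ p : ℕ, ↥(⋀[A]^p (Ω[A⁄R])) →ₗ[R] ↥(⋀[A]^(p + 1) (Ω[A⁄R])))
    (hdA : DeRham.IsDiff (KaehlerDifferential.D R A) dA)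
    (hker : LinearMap.ker π ≤ Submodule.span A {ω : Ω[A⁄R] | π ω = 0 ∧
      exteriorPower.map 2 π (dA 1 ((exteriorPower.oneEquiv A (Ω[A⁄R])).symm ω)) = 0}) :
    ∃ d : ∀ p : ℕ, ↥(⋀[A]^p Ω') →ₗ[R] ↥(⋀[A]^(p + 1) Ω'),
      DeRham.IsDiff (π.compDer (KaehlerDifferential.D R A)) d ∧
        ∀ (p : ℕ) (x : ↥(⋀[A]^p (Ω[A⁄R]))),
          d p (exteriorPower.map p π x) = exteriorPower.map (p + 1) π (dA p x) := by
  classical
  set D := KaehlerDifferential.D R A with hD
  have hDspan := Groth.Agent.H27DR.kaehler_span R A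
  let mapR : ∀ p, ↥(⋀[A]^p (Ω[A⁄R])) →ₗ[R] ↥(⋀[A]^p Ω') := fun p => (exteriorPower.map p π).restrictScalars R
  have hsurj : ∀ p, Function.Surjective (mapR p) := fun p => exteriorPower.map_surjective hπ
  have hker' : ∀ p, ∀ x, exteriorPower.map p π x = 0 → exteriorPower.map (p + 1) π (dA p x) = 0 := by
    intro p x hx
    cases p with
    | zero =>
      have h := congrArg (exteriorPower.zeroEquiv A Ω') hx
      rw [map_zero] at h
      have h0 : exteriorPower.zeroEquiv A (Ω[A⁄R]) x = 0 := by
        rw [← h]; exact (LinearMap.congr_fun (exteriorPower.zeroEquiv_naturality π) x).symm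
      rw [(LinearEquiv.map_eq_zero_iff _).mp h0, map_zero, map_zero]
    | succ n =>
      have hmem := Groth.Agent.H27DR.ker_map_le D hDspan π hπ _ hker n (LinearMap.mem_ker.mpr hx)
      suffices ∀ c : A, exteriorPower.map (n + 1 + 1) π (dA (n + 1) (c • x)) = 0 by simpa using this 1
      clear hx
      induction hmem using Submodule.span_induction with
      | mem y hy =>
        obtain ⟨ω, ⟨hω, hω2⟩, b, rfl⟩ := hy
        intro c
        apply Subtype.ext
        rw [Groth.Agent.H27DR.coe_map,
          Groth.Agent.H27DR.coe_d_smul_cons D hDspan dA hdA.1 n b ω c, map_add, map_smul, map_mul,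
          map_mul, map_mul, ExteriorAlgebra.map_apply_ι, ExteriorAlgebra.map_apply_ι, hω,
          ← Groth.Agent.H27DR.coe_map π (dA 1 ((exteriorPower.oneEquiv A (Ω[A⁄R])).symm ω)), hω2]
        simp
      | zero => intro c; simp
      | add y z _ _ hy hz =>
        intro c
        rw [smul_add, map_add, map_add, hy, hz, add_zero]
      | smul a y _ hy =>
        intro c
        rw [smul_smul]
        exact hy _
  have hle : ∀ p, LinearMap.ker (mapR p) ≤ LinearMap.ker ((mapR (p + 1)).comp (dA p)) :=
    fun p x hx => hker' p x hx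
  let d : ∀ p : ℕ, ↥(⋀[A]^p Ω') →ₗ[R] ↥(⋀[A]^(p + 1) Ω') := fun p =>
    ((LinearMap.ker (mapR p)).liftQ _ (hle p)).comp
      ((mapR p).quotKerEquivOfSurjective (hsurj p)).symm.toLinearMap
  have hd : ∀ (p : ℕ) (x : ↥(⋀[A]^p (Ω[A⁄R]))),
      d p (exteriorPower.map p π x) = exteriorPower.map (p + 1) π (dA p x) := by
    intro p x
    have h : ((mapR p).quotKerEquivOfSurjective (hsurj p)).symm (exteriorPower.map p π x) =
        Submodule.Quotient.mk x := by
      rw [LinearEquiv.symm_apply_eq]
      rfl
    simp only [d, LinearMap.comp_apply, LinearEquiv.coe_coe, h]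
    rfl
  have hrule : DeRham.IsRule (π.compDer D) d := by
    intro p b₀ b
    have h1 : DeRham.gen (π.compDer D) p b₀ b = exteriorPower.map p π (DeRham.gen D p b₀ b) := by
      simp only [DeRham.gen, map_smul, exteriorPower.map_apply_ιMulti]
      rfl
    rw [h1, hd, hdA.1, exteriorPower.map_apply_ιMulti]
    congr 1
    ext i; refine Fin.cases ?_ ?_ i <;> simp
  have hspan : Submodule.span A (Set.range (π.compDer D)) = ⊤ := by
    rw [show Set.range (π.compDer D) = π '' Set.range D from (Set.range_comp π D),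
      Submodule.span_image, hDspan, Submodule.map_top, LinearMap.range_eq_top.mpr hπ]
  exact ⟨d, ⟨hrule, fun p => Groth.Agent.H27DR.comp_eq_zero_of_isRule _ hspan d hrule p⟩, hd⟩

end Groth.Agent.S15296
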