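import Groth.Statements.S15297
import Groth.Agent.H27DR.Basic

set_option autoImplicit false
universe u
open DeRham

namespace Groth.Agent.S15297

open exteriorPower in
/-- Let R → A be a ring map and d a de Rham differential of the Kähler differentials of A over R. Then
each d from p-forms to (p+1)-forms, an R-linear map between A-modules, is a differential operator of
order at most 1 relative to R → A: every commutator of d with multiplication by an element of A is
A-linear. -/
theorem result (R A : Type u) [CommRing R] [CommRing A] [Algebra R A]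
    (d : ∀ p : ℕ, ↥(⋀[A]^p (Ω[A⁄R])) →ₗ[R] ↥(⋀[A]^(p + 1) (Ω[A⁄R])))
    (hd : DeRham.IsDiff (KaehlerDifferential.D R A) d) (p : ℕ) :
    Diff16.IsDiffOpLE R A ↥(⋀[A]^p (Ω[A⁄R])) ↥(⋀[A]^(p + 1) (Ω[A⁄R])) 1 (d p) := by
  intro f a x
  refine H27DR.gen_induction (KaehlerDifferential.D R A) (H27DR.kaehler_span R A) p
    (P := fun x => Diff16.commutator R A _ _ (d p) f (a • x) = a • Diff16.commutator R A _ _ (d p) f x) ?_
    (by simp) (fun u v hu hv => by simp [smul_add, hu, hv]) x
  intro b₀ b
  have hr := fun c => hd.1 p c b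
  have hs : ∀ c : A, c • DeRham.gen (KaehlerDifferential.D R A) p b₀ b =
      DeRham.gen (KaehlerDifferential.D R A) p (c * b₀) b := fun c => smul_smul c b₀ _
  set D := KaehlerDifferential.D R A with hD
  have hc : ∀ (u v : Ω[A⁄R]), ιMulti A (p + 1) (Fin.cons (u + v) (fun i => D (b i))) =
      ιMulti A (p + 1) (Fin.cons u (fun i => D (b i))) + ιMulti A (p + 1) (Fin.cons v (fun i => D (b i))) :=
    fun u v => by
      classical
      simpa [Fin.update_cons_zero] using
        (ιMulti A (p + 1)).map_update_add (Fin.cons (0 : Ω[A⁄R]) (fun i => D (b i))) 0 u v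
  have hm : ∀ (c : A) (u : Ω[A⁄R]), ιMulti A (p + 1) (Fin.cons (c • u) (fun i => D (b i))) =
      c • ιMulti A (p + 1) (Fin.cons u (fun i => D (b i))) :=
    fun c u => by
      classical
      simpa [Fin.update_cons_zero] using
        (ιMulti A (p + 1)).map_update_smul (Fin.cons (0 : Ω[A⁄R]) (fun i => D (b i))) 0 c u
  have hs2 : ∀ c e : A, c • (e • DeRham.gen D p b₀ b) = DeRham.gen D p (c * e * b₀) b := fun c e => by
    simp [DeRham.gen, smul_smul, mul_assoc]
  simp only [Diff16.commutator, LinearMap.sub_apply, LinearMap.comp_apply, LinearMap.restrictScalars_apply, LinearMap.lsmul_apply, hs2]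
  simp only [hs, hr, Derivation.leibniz, hc, hm, smul_add, smul_sub, smul_smul, mul_assoc]
  module

end Groth.Agent.S15297
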