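import Groth.Statements.S15298
import Mathlib.RingTheory.Smooth.AdicCompletion
import Mathlib.RingTheory.PowerSeries.Trunc
import Mathlib.RingTheory.Ideal.Operations

set_option autoImplicit false
universe u
open CAlg

namespace Groth.Agent.S15298

/-- Let k be a field, A a Noetherian k-algebra and x a non-zero-divisor of A such that A is separated
and complete for the (x)-adic topology, and assume that B = A/xA is formally smooth over k. Then A
is a power series ring over B in the variable x: there is a k-algebra isomorphism e : B[[T]] ≅ A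
with e(T) = x whose reduction modulo x is the constant-coefficient map, i.e. e(f) ≡ f(0) mod x for
every power series f. -/
theorem result (k A : Type u) [Field k]
    [CommRing A] [Algebra k A] [IsNoetherianRing A] (x : A) (hx : x ∈ nonZeroDivisors A)
    [IsAdicComplete (Ideal.span {x}) A] [Algebra.FormallySmooth k (A ⧸ Ideal.span {x})] :
    ∃ e : PowerSeries (A ⧸ Ideal.span {x}) ≃ₐ[k] A,
      e PowerSeries.X = x ∧
      ∀ f : PowerSeries (A ⧸ Ideal.span {x}),
        Ideal.Quotient.mk (Ideal.span {x}) (e f) = PowerSeries.constantCoeff f := by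
  classical
  set I : Ideal A := Ideal.span {x} with hI
  obtain ⟨σ, hσ⟩ := Algebra.FormallySmooth.exists_mkₐ_comp_eq_of_isAdicComplete (AlgHom.id k (A ⧸ I))
  have hσ' : ∀ b, Ideal.Quotient.mk I (σ b) = b := fun b => DFunLike.congr_fun hσ b
  have hpow : ∀ (n : ℕ) (a : A), a ∈ I ^ n ↔ x ^ n ∣ a := fun n a => by
    rw [hI, Ideal.span_singleton_pow, Ideal.mem_span_singleton]
  have hsep : ∀ a b : A, (∀ n : ℕ, x ^ n ∣ a - b) → a = b := by
    intro a b h
    refine sub_eq_zero.mp (IsHausdorff.haus (I := I) inferInstance (a - b) fun n => ?_)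
    rw [SModEq.zero, smul_eq_mul, Ideal.mul_top, hpow]
    exact h n
  let ev : ℕ → PowerSeries (A ⧸ I) → A := fun n f => ((PowerSeries.trunc n f).eval₂ σ.toRingHom x)
  have hev : ∀ n f, ev n f = ∑ i ∈ Finset.range n, σ (PowerSeries.coeff i f) * x ^ i := by
    intro n f
    simp only [ev, PowerSeries.trunc_apply, Polynomial.eval₂_finsetSum, Polynomial.eval₂_monomial,
      Finset.range_eq_Ico]
    rfl
  have hev_dvd : ∀ (n : ℕ) (p : Polynomial (A ⧸ I)) (f : PowerSeries (A ⧸ I)),
      (∀ i < n, p.coeff i = PowerSeries.coeff i f) → x ^ n ∣ p.eval₂ σ.toRingHom x - ev n f := by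
    intro n p f h
    rw [show ev n f = (PowerSeries.trunc n f).eval₂ σ.toRingHom x from rfl, ← Polynomial.eval₂_sub]
    obtain ⟨q, hq⟩ : Polynomial.X ^ n ∣ p - PowerSeries.trunc n f :=
      Polynomial.X_pow_dvd_iff.mpr fun i hi => by
        rw [Polynomial.coeff_sub, PowerSeries.coeff_trunc, if_pos hi, h i hi, sub_self]
    rw [hq, Polynomial.eval₂_mul, Polynomial.eval₂_X_pow]
    exact dvd_mul_right _ _
  have hcauchy : ∀ f, ∃ a : A, ∀ n, x ^ n ∣ ev n f - a := by
    intro f
    obtain ⟨a, ha⟩ := IsPrecomplete.prec (I := I) inferInstance (f := fun n => ev n f) (fun {m n} hmn => by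
      rw [SModEq.sub_mem, smul_eq_mul, Ideal.mul_top, hpow, ← neg_sub, dvd_neg]
      exact hev_dvd m _ f fun i hi => by rw [PowerSeries.coeff_trunc, if_pos (lt_of_lt_of_le hi hmn)])
    refine ⟨a, fun n => ?_⟩
    have := ha n
    rwa [SModEq.sub_mem, smul_eq_mul, Ideal.mul_top, hpow] at this
  choose Φ hΦ using hcauchy
  have huniq : ∀ f a, (∀ n, x ^ n ∣ ev n f - a) → Φ f = a := fun f a h => hsep _ _ fun n => by
    rw [← sub_sub_sub_cancel_left _ _ (ev n f)]
    exact dvd_sub (h n) (hΦ f n)
  have hadd : ∀ f g, Φ (f + g) = Φ f + Φ g := fun f g => huniq _ _ fun n => by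
    rw [show ev n (f + g) = ev n f + ev n g by simp [ev, map_add, Polynomial.eval₂_add],
      add_sub_add_comm]
    exact dvd_add (hΦ f n) (hΦ g n)
  have hmul : ∀ f g, Φ (f * g) = Φ f * Φ g := fun f g => huniq _ _ fun n => by
    have h1 : x ^ n ∣ ev n f * ev n g - ev n (f * g) := by
      simp only [ev]
      rw [← Polynomial.eval₂_mul]
      refine hev_dvd n _ (f * g) fun i hi => ?_
      rw [Polynomial.coeff_mul, PowerSeries.coeff_mul]
      refine Finset.sum_congr rfl fun ij hij => ?_
      rw [PowerSeries.coeff_trunc, PowerSeries.coeff_trunc,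
        if_pos (by rw [Finset.HasAntidiagonal.mem_antidiagonal] at hij; omega),
        if_pos (by rw [Finset.HasAntidiagonal.mem_antidiagonal] at hij; omega)]
    have h2 : ev n (f * g) - Φ f * Φ g = (ev n f - Φ f) * ev n g + Φ f * (ev n g - Φ g) -
        (ev n f * ev n g - ev n (f * g)) := by ring
    rw [h2]
    exact dvd_sub (dvd_add (Dvd.dvd.mul_right (hΦ f n) _) (Dvd.dvd.mul_left (hΦ g n) _)) h1
  have hpoly : ∀ p : Polynomial (A ⧸ I), Φ (p : PowerSeries (A ⧸ I)) = p.eval₂ σ.toRingHom x :=
    fun p => huniq _ _ fun n => by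
      rw [← neg_sub, dvd_neg]
      exact hev_dvd n p _ fun i _ => (Polynomial.coeff_coe p i).symm
  have hC : ∀ b, Φ (PowerSeries.C b) = σ b := fun b => by
    rw [← Polynomial.coe_C, hpoly, Polynomial.eval₂_C]; rfl
  have h1 : Φ 1 = 1 := by rw [← Polynomial.coe_one, hpoly, Polynomial.eval₂_one]
  have h0 : Φ 0 = 0 := by rw [← Polynomial.coe_zero, hpoly, Polynomial.eval₂_zero]
  let Φh : PowerSeries (A ⧸ I) →ₐ[k] A :=
    { toFun := Φ, map_one' := h1, map_mul' := hmul, map_zero' := h0, map_add' := hadd
      commutes' := fun c => by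
        show Φ (algebraMap k (PowerSeries (A ⧸ I)) c) = algebraMap k A c
        rw [IsScalarTower.algebraMap_apply k (A ⧸ I) (PowerSeries (A ⧸ I)), ← PowerSeries.C_eq_algebraMap, hC,
          AlgHom.commutes] }
  have hsurj : Function.Surjective Φh := by
    intro a
    choose q hq using fun r : A => show ∃ q, r - σ (Ideal.Quotient.mk I r) = x * q from by
      have : r - σ (Ideal.Quotient.mk I r) ∈ I := by
        rw [← Ideal.Quotient.eq_zero_iff_mem, map_sub, hσ', sub_self]
      exact Ideal.mem_span_singleton.mp this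
    let r : ℕ → A := fun n => Nat.rec a (fun _ z => q z) n
    refine ⟨PowerSeries.mk fun i => Ideal.Quotient.mk I (r i), huniq _ _ fun n => ?_⟩
    have key : ev n (PowerSeries.mk fun i => Ideal.Quotient.mk I (r i)) - a = -(x ^ n * r n) := by
      induction n with
      | zero => simp [hev, r]
      | succ n ih =>
        rw [hev, Finset.sum_range_succ, ← hev, PowerSeries.coeff_mk, add_sub_right_comm, ih,
          show r (n + 1) = q (r n) from rfl, pow_succ]
        linear_combination (-(x ^ n)) * hq (r n)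
    rw [key, dvd_neg]
    exact dvd_mul_right _ _
  have hinj : Function.Injective Φh := by
    rw [injective_iff_map_eq_zero]
    intro f hf
    refine PowerSeries.ext fun n => ?_
    induction n using Nat.strong_induction_on with
    | _ n ih =>
      have h := hΦ f (n + 1)
      rw [show Φ f = 0 from hf, sub_zero, hev, Finset.sum_range_succ,
        Finset.sum_eq_zero (fun i hi => by rw [ih i (Finset.mem_range.mp hi), map_zero, map_zero, zero_mul]),
        zero_add] at h
      obtain ⟨c, hc⟩ := h
      have hzero : x ^ n * (σ (PowerSeries.coeff n f) - x * c) = 0 := by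
        rw [mul_sub, mul_comm, hc, pow_succ, mul_assoc, sub_self]
      rw [mul_comm] at hzero
      have := (pow_mem hx n).2 _ hzero
      rw [sub_eq_zero] at this
      rw [map_zero, ← hσ' (PowerSeries.coeff n f), this, Ideal.Quotient.eq_zero_iff_mem, hI, Ideal.mem_span_singleton]
      exact dvd_mul_right _ _
  refine ⟨AlgEquiv.ofBijective Φh ⟨hinj, hsurj⟩, ?_, fun f => ?_⟩
  · show Φ PowerSeries.X = x
    rw [← Polynomial.coe_X, hpoly, Polynomial.eval₂_X]
  · show Ideal.Quotient.mk I (Φ f) = _
    have h := hΦ f 1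
    rw [pow_one, hev, Finset.sum_range_one, pow_zero, mul_one, ← Ideal.mem_span_singleton, ← hI,
      ← Ideal.Quotient.eq_zero_iff_mem, map_sub, hσ', sub_eq_zero] at h
    rw [← h, PowerSeries.coeff_zero_eq_constantCoeff]

end Groth.Agent.S15298
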