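import Groth.Statements.S15300
import Groth.Agent.H16Derived.LimHomology

set_option autoImplicit false
universe u
open HomAlg3

namespace Groth.Agent.S15300

open Groth.Agent.H16Derived

open CategoryTheory CategoryTheory.Limits Opposite in
/-- For abelian groups, let (A_n)_n be a tower of cochain complexes of abelian groups, indexed by the
natural numbers, all of whose transition maps A_{n+1}^p → A_n^p are surjective. Then for every p
there is a short exact sequence 0 → lim¹_n h^(p-1)(A_n) → h^p(lim_n A_n) → lim_n h^p(A_n) → 0: the
comparison map h^p(lim A_n) → lim h^p(A_n) is surjective and its kernel is isomorphic to lim¹ of the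
tower of the (p-1)-st cohomology groups (existence of an isomorphism only). (The published statement
is made in an axiomatic setting that also covers quasi-coherent sheaves; this row is the case of
abelian groups.) -/
theorem result
    (K : ℕᵒᵖ ⥤ HomologicalComplex AddCommGrpCat.{u} (ComplexShape.up ℤ))
    (hK : ∀ (n : ℕ) (q : ℤ), Function.Surjective ((K.map (homOfLE (Nat.le_succ n)).op).f q).hom)
    (p q : ℤ) (hqp : q + 1 = p) :
    Function.Surjective (limit.post K (HomologicalComplex.homologyFunctor _ _ p)).hom ∧
      Nonempty ((limit.post K (HomologicalComplex.homologyFunctor _ _ p)).hom.ker ≃+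
        Formal2.limOne (fun n => (K.obj (op n)).homology q)
          (fun n => (HomologicalComplex.homologyMap (K.map (homOfLE (Nat.le_succ n)).op) q).hom)) := by
  exact ⟨LimHom.post_surjective hK p, LimHom.kernel_equiv hK hqp⟩

end Groth.Agent.S15300
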