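import Groth.Statements.S15302
import Mathlib.CategoryTheory.Abelian.Injective.Resolution
import Mathlib.CategoryTheory.Preadditive.Injective.Basic
import Mathlib.CategoryTheory.Abelian.Refinements
import Mathlib.Algebra.Homology.Refinements
import Mathlib.Algebra.Homology.HomologicalComplexBiprod
import Mathlib.Algebra.Homology.ShortComplex.Exact

set_option autoImplicit false
universe v u
open HomAlg3

namespace Groth.Agent.S15302

open CategoryTheory CategoryTheory.Limits ZeroObject

variable {C : Type u} [Category.{v} C] [Abelian C] (K : CochainComplex C ℕ)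

/-- The shifted object. -/
noncomputable def prevX : ℕ → C
  | 0 => 0
  | p + 1 => K.X p

/-- The differential into a degree. -/
noncomputable def prevD : ∀ p : ℕ, prevX K p ⟶ K.X p
  | 0 => 0
  | p + 1 => K.d p (p + 1)

lemma prevD_d : ∀ p : ℕ, prevD K p ≫ K.d p (p + 1) = 0
  | 0 => zero_comp
  | p + 1 => K.d_comp_d p (p + 1) (p + 1 + 1)

/-- The contractible complex mapping onto `K`. -/
noncomputable def cover : CochainComplex C ℕ :=
  CochainComplex.of (fun p => K.X p ⊞ prevX K p)
    (fun p => biprod.fst ≫ (biprod.inr : prevX K (p + 1) ⟶ K.X (p + 1) ⊞ prevX K (p + 1)))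
    (fun p => by simp)

lemma cover_d (p : ℕ) : (cover K).d p (p + 1) =
    biprod.fst ≫ (biprod.inr : prevX K (p + 1) ⟶ K.X (p + 1) ⊞ prevX K (p + 1)) :=
  CochainComplex.of_d (fun p => K.X p ⊞ prevX K p)
    (fun p => biprod.fst ≫ (biprod.inr : prevX K (p + 1) ⟶ K.X (p + 1) ⊞ prevX K (p + 1))) p

/-- The map onto `K`. -/
noncomputable def coverπ : cover K ⟶ K where
  f p := (biprod.fst + biprod.snd ≫ prevD K p : K.X p ⊞ prevX K p ⟶ K.X p)
  comm' i j h := by
    obtain rfl : i + 1 = j := h
    rw [cover_d]
    show (biprod.fst + biprod.snd ≫ prevD K i : K.X i ⊞ prevX K i ⟶ K.X i) ≫ K.d i (i + 1) = _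
    rw [Preadditive.add_comp, Category.assoc, prevD_d, comp_zero, add_zero]
    refine Eq.trans ?_ (Category.assoc _ _ _).symm
    refine congrArg (fun t => biprod.fst ≫ t) ?_
    show K.d i (i + 1) = (biprod.inr : prevX K (i + 1) ⟶ K.X (i + 1) ⊞ prevX K (i + 1)) ≫
      (biprod.fst + biprod.snd ≫ prevD K (i + 1))
    simp [prevD]

lemma coverπ_section (p : ℕ) :
    (biprod.inl : K.X p ⟶ K.X p ⊞ prevX K p) ≫ (coverπ K).f p = 𝟙 _ := by
  show (biprod.inl : K.X p ⟶ K.X p ⊞ prevX K p) ≫ (biprod.fst + biprod.snd ≫ prevD K p) = 𝟙 _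
  simp

lemma exactAt_cover : ∀ p : ℕ, (cover K).ExactAt p := by
  intro p
  have key : ∀ (W : C) (x : W ⟶ K.X p ⊞ prevX K p),
      x ≫ (cover K).d p (p + 1) = 0 → x ≫ biprod.fst = 0 := by
    intro W x hx
    rw [cover_d] at hx
    have h : ((x ≫ biprod.fst) ≫ (biprod.inr : prevX K (p + 1) ⟶ K.X (p + 1) ⊞ prevX K (p + 1))) ≫
        biprod.snd = 0 := by
      rw [show (x ≫ biprod.fst) ≫ (biprod.inr : prevX K (p + 1) ⟶ K.X (p + 1) ⊞ prevX K (p + 1)) = 0
        from (Category.assoc _ _ _).trans hx, zero_comp]
    simp only [Category.assoc] at h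
    erw [biprod.inr_snd] at h
    erw [Category.comp_id] at h
    exact h
  have dec : ∀ (W : C) (x : W ⟶ K.X p ⊞ prevX K p), x ≫ biprod.fst = 0 →
      x = (x ≫ biprod.snd) ≫ biprod.inr := by
    intro W x hx
    apply biprod.hom_ext <;> simp [hx]
  cases p with
  | zero =>
    rw [HomologicalComplex.exactAt_iff_exact_up_to_refinements _ 0 0 1 (by simp) (by simp)]
    intro W x hx
    refine ⟨W, 𝟙 W, inferInstance, 0, ?_⟩
    rw [Category.id_comp, zero_comp]
    refine (dec W x (key W x hx)).trans ?_
    exact (congrArg (· ≫ (biprod.inr : prevX K 0 ⟶ K.X 0 ⊞ prevX K 0))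
      ((isZero_zero C).eq_of_tgt _ 0)).trans zero_comp
  | succ p =>
    rw [HomologicalComplex.exactAt_iff_exact_up_to_refinements _ p (p + 1) (p + 1 + 1) (by simp)
      (by simp)]
    intro W x hx
    refine ⟨W, 𝟙 W, inferInstance,
      (x ≫ (biprod.snd : K.X (p + 1) ⊞ prevX K (p + 1) ⟶ K.X p)) ≫
        (biprod.inl : K.X p ⟶ K.X p ⊞ prevX K p), ?_⟩
    rw [Category.id_comp, cover_d]
    refine (dec W x (key W x hx)).trans ?_
    refine Eq.trans ?_ (Category.assoc _ _ _).symm
    refine congrArg ((x ≫ (biprod.snd : K.X (p + 1) ⊞ prevX K (p + 1) ⟶ K.X p)) ≫ ·) ?_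
    exact (biprod.inl_fst_assoc _).symm

open CategoryTheory CategoryTheory.Limits in
/-- In an abelian category with enough injectives, let α : G ⟶ F be a morphism and I an injective
resolution of F. Then G has an injective resolution J together with a morphism of cochain complexes
β : J ⟶ I lying over α (the augmentations commute with α and β) such that for every p there are an
object K^p and an isomorphism J^p ≅ I^p ⊕ K^p identifying β^p with the projection onto the first
factor (so K^p is injective as well). (The published statement is for abelian sheaves on a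
topological space; its proof uses only an embedding of G into an injective object and cokernels, so
the row is stated in any abelian category with enough injectives.) -/
theorem result {C : Type u} [Category.{v} C] [Abelian C]
    [EnoughInjectives C] {G F : C} (α : G ⟶ F) (I : InjectiveResolution F) :
    ∃ (J : InjectiveResolution G) (β : J.cocomplex ⟶ I.cocomplex),
      J.ι ≫ β = (CochainComplex.single₀ C).map α ≫ I.ι ∧
      ∀ p : ℕ, ∃ (K : C) (e : J.cocomplex.X p ≅ I.cocomplex.X p ⊞ K), β.f p = e.hom ≫ biprod.fst := by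
  let J₀ := injectiveResolution G
  let φ := InjectiveResolution.desc α I J₀
  let D := cover I.cocomplex
  let J : CochainComplex C ℕ := J₀.cocomplex ⊞ D
  have hP : ∀ p, Injective (prevX I.cocomplex p) := by
    intro p
    cases p with
    | zero => exact (isZero_zero C).injective
    | succ p => exact I.injective p
  have hDX : ∀ p, Injective (D.X p) := fun p =>
    haveI := hP p
    inferInstanceAs (Injective (I.cocomplex.X p ⊞ prevX I.cocomplex p))
  have hJX : ∀ p, Injective (J.X p) := fun p =>
    haveI := hDX p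
    Injective.of_iso (HomologicalComplex.biprodXIso J₀.cocomplex D p).symm inferInstance
  have hqinl : QuasiIso (biprod.inl : J₀.cocomplex ⟶ J) := by
    refine ⟨fun n => ?_⟩
    rw [quasiIsoAt_iff_isIso_homologyMap]
    refine ⟨HomologicalComplex.homologyMap biprod.fst n, ?_, ?_⟩
    · rw [← HomologicalComplex.homologyMap_comp, biprod.inl_fst, HomologicalComplex.homologyMap_id]
    · have h : (HomologicalComplex.homologyMap (biprod.snd : J ⟶ D) n) = 0 :=
        ((HomologicalComplex.exactAt_iff_isZero_homology _ _).1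
          (exactAt_cover I.cocomplex n)).eq_of_tgt _ _
      have t := congrArg (fun f => HomologicalComplex.homologyMap f n)
        (biprod.total (X := J₀.cocomplex) (Y := D))
      simp only [HomologicalComplex.homologyMap_add, HomologicalComplex.homologyMap_comp, h,
        zero_comp, add_zero, HomologicalComplex.homologyMap_id] at t
      exact t
  let J' : InjectiveResolution G :=
    { cocomplex := J
      injective := hJX
      ι := J₀.ι ≫ biprod.inl }
  let β : J ⟶ I.cocomplex := biprod.desc φ (coverπ I.cocomplex)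
  refine ⟨J', β, ?_, fun p => ?_⟩
  · show (J₀.ι ≫ biprod.inl) ≫ biprod.desc φ (coverπ I.cocomplex) = _
    rw [Category.assoc, biprod.inl_desc]
    exact InjectiveResolution.desc_commutes α I J₀
  · let s : I.cocomplex.X p ⟶ J.X p :=
      (biprod.inl : I.cocomplex.X p ⟶ I.cocomplex.X p ⊞ prevX I.cocomplex p) ≫
        (biprod.inr : D ⟶ J).f p
    have hs : s ≫ β.f p = 𝟙 _ := by
      show ((biprod.inl : I.cocomplex.X p ⟶ I.cocomplex.X p ⊞ prevX I.cocomplex p) ≫
        (biprod.inr : D ⟶ J).f p) ≫ β.f p = 𝟙 _
      have hb : (biprod.inr : D ⟶ J).f p ≫ β.f p = (coverπ I.cocomplex).f p :=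
        HomologicalComplex.congr_hom (biprod.inr_desc φ (coverπ I.cocomplex)) p
      exact ((Category.assoc _ _ _).trans (congrArg (_ ≫ ·) hb)).trans
        (coverπ_section I.cocomplex p)
    let S := ShortComplex.mk (kernel.ι (β.f p)) (β.f p) (kernel.condition _)
    let sp : S.Splitting := ShortComplex.Splitting.ofExactOfSection S
      (ShortComplex.exact_kernel (β.f p)) s hs
      (inferInstanceAs (Mono (kernel.ι (β.f p))))
    refine ⟨kernel (β.f p), sp.isoBinaryBiproduct ≪≫ biprod.braiding _ _, ?_⟩
    simp [S]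

end Groth.Agent.S15302
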