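import Groth.Statements.S15303
import Groth.Agent.H3CAlg.EtaleSlice
import Groth.Agent.H17.AssPts
import Mathlib.AlgebraicGeometry.Morphisms.Etale
-- import your own Groth.Agent.* helpers here

set_option autoImplicit false
universe u
open EtBase

namespace Groth.Agent.S15303

open CategoryTheory AlgebraicGeometry in
/-- Let k be a field of characteristic zero, X and Y smooth k-schemes, f : X ⟶ Y a smooth k-morphism and
i : Z ⟶ X a closed immersion such that the composite Z ⟶ Y is again a closed immersion. Then for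
every point z of Z there are an open neighbourhood U of i(z) in X and a closed subscheme j : W ⟶ U
of U which is étale over Y (through U ⊆ X ⟶ Y) and contains Z ∩ U, i.e. the restriction of i over U
factors through j. -/
theorem result (k : Type u) [Field k] [CharZero k]
    {X Y Z : Scheme.{u}} [X.Over (Spec (CommRingCat.of k))] [Y.Over (Spec (CommRingCat.of k))]
    [Smooth (X ↘ Spec (CommRingCat.of k))] [Smooth (Y ↘ Spec (CommRingCat.of k))]
    (f : X ⟶ Y) [f.IsOver (Spec (CommRingCat.of k))] [Smooth f]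
    (i : Z ⟶ X) [IsClosedImmersion i] [IsClosedImmersion (i ≫ f)] (z : Z) :
    ∃ (U : X.Opens) (_ : i.base z ∈ U) (W : Scheme.{u}) (j : W ⟶ (U : Scheme.{u})) (_ : IsClosedImmersion j)
      (_ : Etale (j ≫ U.ι ≫ f)) (g : ((i ⁻¹ᵁ U : Z.Opens) : Scheme.{u}) ⟶ W), g ≫ j = i ∣_ U := by
  classical
  obtain ⟨V, hV, hyV, -⟩ := exists_isAffineOpen_mem_and_subset (x := f (i z)) (U := (⊤ : Y.Opens)) trivial
  obtain ⟨U₀, hU₀, hxU₀, hU₀V⟩ := exists_isAffineOpen_mem_and_subset (x := i z) (U := f ⁻¹ᵁ V) hyV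
  obtain ⟨O, hO, hOeq'⟩ := (i ≫ f).isClosedEmbedding.isInducing.isOpen_iff.1 (i ⁻¹ᵁ U₀).2
  have hOeq : ⇑(i ≫ f) ⁻¹' O = ((i ⁻¹ᵁ U₀ : Z.Opens) : Set Z) := hOeq'
  have hzO : f (i z) ∈ O := by
    have h1 : z ∈ ((i ⁻¹ᵁ U₀ : Z.Opens) : Set Z) := hxU₀
    rw [← hOeq] at h1
    exact h1
  obtain ⟨h, hhO, hyh⟩ := hV.exists_basicOpen_le (V := ⟨O, hO⟩) ⟨f (i z), hzO⟩ hyV
  set V₁ := Y.basicOpen h with hV₁def
  have hV₁ : IsAffineOpen V₁ := hV.basicOpen h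
  set U₁ := X.basicOpen (f.appLE V U₀ hU₀V h) with hU₁def
  have hU₁ : IsAffineOpen U₁ := hU₀.basicOpen _
  have hU₁eq : U₁ = U₀ ⊓ f ⁻¹ᵁ V₁ := by
    rw [hU₁def, Scheme.basicOpen_appLE, hV₁def]
  have hle : U₁ ≤ f ⁻¹ᵁ V₁ := hU₁eq.le.trans inf_le_right
  have hZeq : i ⁻¹ᵁ U₁ = (i ≫ f) ⁻¹ᵁ V₁ := by
    apply TopologicalSpace.Opens.ext
    ext w
    show i w ∈ U₁ ↔ f (i w) ∈ V₁
    rw [hU₁eq]
    refine ⟨fun hw => hw.2, fun hw => ⟨?_, hw⟩⟩
    have h1 : w ∈ ((i ⁻¹ᵁ U₀ : Z.Opens) : Set Z) := by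
      rw [← hOeq]
      exact hhO hw
    exact h1
  have hsurjC : ∀ y : Γ(Z, i ⁻¹ᵁ U₁), ∃ c, (f.appLE V₁ U₁ hle ≫ i.app U₁) c = y := by
    intro y
    obtain ⟨c, hc⟩ := (i ≫ f).app_surjective V₁ hV₁ ((Z.presheaf.map (eqToHom hZeq.symm).op) y)
    refine ⟨c, ?_⟩
    have hcomp : f.appLE V₁ U₁ hle ≫ i.app U₁ = (i ≫ f).app V₁ ≫ Z.presheaf.map (eqToHom hZeq).op := by
      rw [Scheme.Hom.app_eq_appLE i, Scheme.Hom.appLE_comp_appLE, Scheme.Hom.app_eq_appLE (f := i ≫ f), Scheme.Hom.appLE_map]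
    rw [hcomp]
    show (Z.presheaf.map (eqToHom hZeq).op) ((i ≫ f).app V₁ c) = y
    rw [hc, ← ConcreteCategory.comp_apply, ← Functor.map_comp]
    simp
  letI : Algebra Γ(Y, V₁) Γ(X, U₁) := (f.appLE V₁ U₁ hle).hom.toAlgebra
  haveI : Algebra.Smooth Γ(Y, V₁) Γ(X, U₁) := f.smooth_appLE hV₁ hU₁ hle
  let J : Ideal Γ(X, U₁) := RingHom.ker (i.app U₁).hom
  have hx₁ : i z ∈ U₁ := by rw [hU₁eq]; exact ⟨hxU₀, hyh⟩
  let p := hU₁.primeIdealOf ⟨i z, hx₁⟩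
  haveI := p.isPrime
  obtain ⟨g, hg, J₀, hJ₀, het⟩ := Groth.Agent.H3CAlg.EtaleSlice.exists_slice J (fun y => by
    obtain ⟨c, hc⟩ := hsurjC (i.app U₁ y)
    refine ⟨c, ?_⟩
    rw [RingHom.mem_ker, map_sub, sub_eq_zero]
    exact hc.symm) p.asIdeal
  haveI := hU₁.isLocalization_basicOpen g
  haveI : IsAffineOpen (X.basicOpen g) := hU₁.basicOpen g
  let eL : Localization.Away g ≃ₐ[Γ(X, U₁)] Γ(X, X.basicOpen g) := IsLocalization.algEquiv (Submonoid.powers g) _ _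
  letI : Algebra Γ(Y, V₁) Γ(X, X.basicOpen g) := ((algebraMap Γ(X, U₁) Γ(X, X.basicOpen g)).comp (algebraMap Γ(Y, V₁) Γ(X, U₁))).toAlgebra
  haveI : IsScalarTower Γ(Y, V₁) Γ(X, U₁) Γ(X, X.basicOpen g) := IsScalarTower.of_algebraMap_eq fun _ => rfl
  let eC : Localization.Away g ≃ₐ[Γ(Y, V₁)] Γ(X, X.basicOpen g) := eL.restrictScalars Γ(Y, V₁)
  let J₁ : Ideal Γ(X, X.basicOpen g) := J₀.map eC
  haveI het' : Algebra.Etale Γ(Y, V₁) (Γ(X, X.basicOpen g) ⧸ J₁) :=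
    Algebra.Etale.of_equiv (Ideal.quotientEquivAlg J₀ J₁ eC rfl)
  have hgU : i z ∈ X.basicOpen g :=
    (Groth.Agent.H17.AssPts.mem_primeIdealOf hU₁ hx₁ g).not_left.1 hg
  have hres : X.basicOpen g ≤ U₁ := X.basicOpen_le g
  have hJ₁ : J₁ ≤ RingHom.ker (i.app (X.basicOpen g)).hom := by
    refine (Ideal.map_mono hJ₀).trans ?_
    rw [Ideal.map_le_iff_le_comap, Ideal.map_le_iff_le_comap]
    intro b hb
    show i.app (X.basicOpen g) (eL (algebraMap Γ(X, U₁) _ b)) = 0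
    rw [eL.commutes]
    show (X.presheaf.map (homOfLE hres).op ≫ i.app (X.basicOpen g)) b = 0
    rw [i.naturality, ConcreteCategory.comp_apply]
    exact (congrArg _ (RingHom.mem_ker.1 hb)).trans (map_zero _)
  have hU : IsAffineOpen (X.basicOpen g) := hU₁.basicOpen g
  have hZU : IsAffineOpen (i ⁻¹ᵁ X.basicOpen g) := hU.preimage i
  let φ : CommRingCat.of (Γ(X, X.basicOpen g) ⧸ J₁) ⟶ Γ(Z, i ⁻¹ᵁ X.basicOpen g) :=
    CommRingCat.ofHom (Ideal.Quotient.lift J₁ (i.app (X.basicOpen g)).hom fun a ha => hJ₁ ha)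
  refine ⟨X.basicOpen g, hgU, Spec (CommRingCat.of (Γ(X, X.basicOpen g) ⧸ J₁)),
    Spec.map (CommRingCat.ofHom (Ideal.Quotient.mk J₁)) ≫ hU.isoSpec.inv, ?_, ?_,
    hZU.isoSpec.hom ≫ Spec.map φ, ?_⟩
  · haveI : IsClosedImmersion (Spec.map (CommRingCat.ofHom (Ideal.Quotient.mk J₁))) :=
      IsClosedImmersion.spec_of_surjective _ Ideal.Quotient.mk_surjective
    infer_instance
  · rw [Category.assoc, ← Category.assoc hU.isoSpec.inv, IsAffineOpen.isoSpec_inv_ι,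
      ← IsAffineOpen.SpecMap_appLE_fromSpec f hV₁ hU ((hres.trans hle)), ← Category.assoc, ← Spec.map_comp]
    haveI : Etale (Spec.map (f.appLE V₁ (X.basicOpen g) (hres.trans hle) ≫ CommRingCat.ofHom (Ideal.Quotient.mk J₁))) := by
      refine (HasRingHomProperty.Spec_iff (P := @Etale)).2 ?_
      have h1 : (f.appLE V₁ (X.basicOpen g) (hres.trans hle) ≫ CommRingCat.ofHom (Ideal.Quotient.mk J₁)).hom
          = algebraMap Γ(Y, V₁) (Γ(X, X.basicOpen g) ⧸ J₁) := by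
        rw [← Scheme.Hom.appLE_map f hle (homOfLE hres).op]
        rfl
      rw [h1]
      exact RingHom.etale_algebraMap.2 het'
    infer_instance
  · rw [← cancel_mono (X.basicOpen g).ι, morphismRestrict_ι]
    simp only [Category.assoc]
    rw [IsAffineOpen.isoSpec_inv_ι, ← Category.assoc (Spec.map φ), ← Spec.map_comp]
    have h1 : CommRingCat.ofHom (Ideal.Quotient.mk J₁) ≫ φ = i.app (X.basicOpen g) := by
      ext a
      rfl
    rw [h1, Scheme.Hom.app_eq_appLE, IsAffineOpen.SpecMap_appLE_fromSpec i hU hZU le_rfl, IsAffineOpen.isoSpec_hom_fromSpec_assoc]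

end Groth.Agent.S15303
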