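import Groth.Statements.S15305
import Groth.Agent.H10Coh.LimStab.Quot
import Groth.Agent.H10Coh.FinType2
-- import your own Groth.Agent.* helpers here

set_option autoImplicit false
universe u
open Coh

namespace Groth.Agent.S15305

open CategoryTheory CategoryTheory.Limits AlgebraicGeometry Opposite in
/-- Let X be a finite-type scheme over a field k, and let (F_n) be a tower of quasi-coherent O_X-modules
whose limit lim F_n receives an epimorphism from a countably quasi-coherent module G
(quasi-coherent, with countably generated sections over every affine open), resp. from a coherent G.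
Then lim F_n is itself countably quasi-coherent, resp. coherent. -/
theorem result (k : Type u) [Field k] (X : Scheme.{u})
    [X.Over (Spec (CommRingCat.of k))] [LocallyOfFiniteType (X ↘ Spec (CommRingCat.of k))] [CompactSpace X]
    (F : ℕᵒᵖ ⥤ X.Modules) (hF : ∀ n : ℕ, Coh.IsQCoh (F.obj (op n)))
    (G : X.Modules) (hG : Coh.IsQCoh G)
    (hGc : (∀ U : X.affineOpens, ∃ s : Set (G.val.obj (op (U : X.Opens))),
        s.Countable ∧ Submodule.span (X.ringCatSheaf.obj.obj (op (U : X.Opens))) s = ⊤))
    (φ : G ⟶ limit F) [Epi φ] :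
    Coh.IsQCoh (limit F) ∧
      (∀ U : X.affineOpens, ∃ s : Set ((limit F).val.obj (op (U : X.Opens))),
        s.Countable ∧ Submodule.span (X.ringCatSheaf.obj.obj (op (U : X.Opens))) s = ⊤) ∧
      (Coh.IsCoh G → Coh.IsCoh (limit F)) := by
  have hq : Coh.IsQCoh (limit F) :=
    H10Coh.LimStab.isQCoh_limit F φ k hF hG (fun U => hGc U)
  haveI : G.IsQuasicoherent := hG
  haveI : (limit F).IsQuasicoherent := hq
  have hsurj : ∀ U : X.Opens, IsAffineOpen U → Function.Surjective (φ.app U) := fun U hU =>
    H10Coh.surjective_app_of_epi φ hU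
  let ψ : ∀ U : X.Opens, Γ(G, U) →ₗ[Γ(X, U)] Γ(limit F, U) := fun U =>
    { toFun := fun s => φ.app U s, map_add' := map_add _, map_smul' := fun r s => φ.app_smul r s }
  refine ⟨hq, fun U => ?_, fun hc => ?_⟩
  · obtain ⟨s, hs, hspan⟩ := hGc U
    have key : ∀ t : Set Γ(G, (U : X.Opens)), Submodule.span Γ(X, (U : X.Opens)) t = ⊤ →
        Submodule.span Γ(X, (U : X.Opens)) (ψ U '' t) = ⊤ := fun t ht => by
      rw [Submodule.span_image, ht, Submodule.map_top, LinearMap.range_eq_top]
      exact hsurj U U.2
    exact ⟨ψ U '' s, hs.image _, key s hspan⟩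
  · refine (H10Coh.isCoh_iff_finite_sections _).2 ⟨hq, fun U hU => ?_⟩
    haveI := ((H10Coh.isCoh_iff_finite_sections _).1 hc).2 U hU
    exact Module.Finite.of_surjective (ψ U) (hsurj U hU)


end Groth.Agent.S15305
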