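import Groth.Statements.S15306
import Groth.Agent.H10Coh.LimStab.Tensor
-- import your own Groth.Agent.* helpers here

set_option autoImplicit false
universe u
open Coh

namespace Groth.Agent.S15306

open CategoryTheory CategoryTheory.Limits AlgebraicGeometry Opposite in
/-- Let X be a finite-type scheme over a field k, (F_n) a tower of countably quasi-coherent O_X-modules
(quasi-coherent, countably generated sections over affine opens), E a flat O_X-module (every stalk
flat), and α : (lim F_n) ⊗ E → lim (F_n ⊗ E) the natural comparison map. If lim F_n is countably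
quasi-coherent then α is a monomorphism; if moreover lim¹ F, the cokernel of (x_n) ↦ (x_n −
φ_n(x_{n+1})) on ∏ F_n, vanishes, then α is an isomorphism. (The published statement assumes for the
second assertion only that lim¹ F is countably quasi-coherent; this row assumes that lim¹ F
vanishes, which the weaker hypothesis implies at least over a countable field.) -/
theorem result (k : Type u) [Field k] (X : Scheme.{u})
    [X.Over (Spec (CommRingCat.of k))] [LocallyOfFiniteType (X ↘ Spec (CommRingCat.of k))] [CompactSpace X]
    (F : ℕᵒᵖ ⥤ X.Modules) (hF : ∀ n : ℕ, Coh.IsQCoh (F.obj (op n)))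
    (hFc : ∀ n : ℕ, (∀ U : X.affineOpens, ∃ s : Set ((F.obj (op n)).val.obj (op (U : X.Opens))),
          s.Countable ∧ Submodule.span (X.ringCatSheaf.obj.obj (op (U : X.Opens))) s = ⊤))
    (E : X.Modules) (hE : FlatMod.IsFlat E)
    (hL : Coh.IsQCoh (limit F)) (hLc : (∀ U : X.affineOpens, ∃ s : Set ((limit F).val.obj (op (U : X.Opens))),
        s.Countable ∧ Submodule.span (X.ringCatSheaf.obj.obj (op (U : X.Opens))) s = ⊤)) :
    Mono (limit.post F (LimSh.tensorRight E)) ∧
      (IsZero (LimSh.limOneSh F) → IsIso (limit.post F (LimSh.tensorRight E))) := by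
  obtain ⟨N, hN⟩ := H10Coh.LimStab.exists_mono_π F k hF hL (fun U => hLc U)
  refine ⟨?_, fun h => ?_⟩
  · haveI := hN N le_rfl
    exact H10Coh.LimStab.mono_post F hE N
  · haveI : ∀ U : X.Opens, Subsingleton Γ(LimSh.limOneSh F, U) := fun U => ⟨fun a b => by
      have e := congr(($(h.eq_of_src (𝟙 _) 0)).app U (a - b))
      exact sub_eq_zero.1 e⟩
    have hW : Coh.IsQCoh (LimSh.limOneSh F) := by
      haveI : (Coh.structureModule X).IsQuasicoherent := H10Coh.isQuasicoherent_unit
      haveI := H10Coh.isQuasicoherent_kernel (𝟙 (Coh.structureModule X))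
      exact H10Coh.isQuasicoherent_of_iso ((isZero_kernel_of_mono (𝟙 (Coh.structureModule X))).iso h)
    have hML := H10Coh.LimStab.ml_of_limOne F k hF (fun n U => hFc n U) hW (fun U => ⟨∅, Set.countable_empty,
      Submodule.eq_top_iff'.2 fun a => by rw [show a = 0 from (this U.1).elim a 0]; exact zero_mem _⟩)
    refine H10Coh.LimStab.isIso_post F E N hN fun n hn => ?_
    haveI := hN n hn
    exact H10Coh.LimStab.exists_retraction F hF hML n


end Groth.Agent.S15306
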