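import Groth.Statements.S15308
import Groth.Agent.H26Hyper.DR
import Groth.Agent.H26Hyper.SmoothTerm
import Groth.Agent.H22Alg.ExtPowHom
import Groth.Agent.H29Omega.SheafFinite

set_option autoImplicit false
universe u
open DeRhamSh

namespace Groth.Agent.S15308

open CategoryTheory AlgebraicGeometry TopologicalSpace in
/-- Let k be a field of characteristic zero and U a smooth k-scheme of finite type of dimension at most
n whose cohomological dimension is less than r, in the sense that H^q(U, F) vanishes for every
quasi-coherent O_U-module F and every q ≥ r. Then the algebraic de Rham cohomology H^i_dR(U/k), the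
hypercohomology of the de Rham complex of U over k, vanishes for all i ≥ n + r. (The published
statement is the Lefschetz-type comparison H^i(X) → H^i(Y) for a proper X of dimension n with X − Y
smooth of cohomological dimension less than r; this row is the first step of its proof, the
vanishing on the smooth open part, stated for any de Rham complex of U over k and with the
conclusion as vanishing of an additive group.) -/
theorem result (k : Type u) [Field k] [CharZero k] (X : Scheme.{u})
    (f : X ⟶ Spec (CommRingCat.of k)) [QuasiCompact f] [QuasiSeparated f] [Smooth f]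
    (n : ℕ) (hn : topologicalKrullDim ↥X ≤ n) (r : ℕ)
    (hcd : ∀ (F : X.Modules), Coh.IsQCoh F → ∀ q : ℕ, r ≤ q → Subsingleton (Coh.HH X F q))
    (D : DeRhamSh.OmegaCx f)
    [HasDerivedCategory.{u} (Sheaf (Opens.grothendieckTopology ↥X) AddCommGrpCat.{u})]
    (i : ℤ) (hi : (n : ℤ) + r ≤ i) :
    Subsingleton (DeRhamSh.HdR D i) := by
  refine H26Hyper.subsingleton_HdR D n i (fun p hp => H26Hyper.isZero_term f hn hp D) fun p q hp hpq => ?_
  exact hcd _ (H22Alg.ExtPowHom.isQCoh_of_isExtPow (H29Omega.isQCoh_sheaf f) (D.isExtPow p)) q (by omega)

end Groth.Agent.S15308
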