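import Groth.Statements.S15309
import Groth.Agent.H26Hyper.DR
import Groth.Agent.H26Hyper.SmoothTerm
import Groth.Agent.H10Coh.Affine
import Groth.Agent.H22Alg.ExtPowHom
import Groth.Agent.H29Omega.SheafFinite

set_option autoImplicit false
universe u
open DeRhamSh

namespace Groth.Agent.S15309

open CategoryTheory AlgebraicGeometry TopologicalSpace in
/-- Let k be a field of characteristic zero and X a smooth affine k-scheme of finite type of dimension
at most n. Then the algebraic de Rham cohomology H^i_dR(X/k), the hypercohomology of the de Rham
complex of X over k, vanishes for every i > n. (The published statement gives vanishing above n + 1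
for an arbitrary affine scheme of dimension n of finite type over k, possibly singular, whose de
Rham cohomology is defined through a smooth embedding; for smooth X the sharper bound n holds, and
that case is stated here, for any de Rham complex of X over k.) -/
theorem result (k : Type u) [Field k] [CharZero k] (X : Scheme.{u})
    (f : X ⟶ Spec (CommRingCat.of k)) [IsAffine X] [QuasiSeparated f] [Smooth f]
    (n : ℕ) (hn : topologicalKrullDim ↥X ≤ n)
    (D : DeRhamSh.OmegaCx f)
    [HasDerivedCategory.{u} (Sheaf (Opens.grothendieckTopology ↥X) AddCommGrpCat.{u})]
    (i : ℤ) (hi : (n : ℤ) < i) :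
    Subsingleton (DeRhamSh.HdR D i) := by
  refine H26Hyper.subsingleton_HdR D n i (fun p hp => H26Hyper.isZero_term f hn hp D) fun p r hp hpr => ?_
  haveI : (D.term p).IsQuasicoherent :=
    H22Alg.ExtPowHom.isQCoh_of_isExtPow (H29Omega.isQCoh_sheaf f) (D.isExtPow p)
  exact H10Coh.subsingleton_HH_of_isAffine (D.term p) (show 0 < r by omega)

end Groth.Agent.S15309
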