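import Groth.Statements.S15311
import Groth.Agent.H26Hyper.AffineDR
import Groth.Agent.H26Hyper.Poincare
import Groth.Agent.H10Coh.Affine
import Groth.Agent.H22Alg.ExtPowHom
import Groth.Agent.H29Omega.SheafFinite

set_option autoImplicit false
universe u
open DeRhamSh

namespace Groth.Agent.S15311

open CategoryTheory AlgebraicGeometry TopologicalSpace in
/-- Let k be a field of characteristic zero and n ≥ 0. Then the algebraic de Rham cohomology of affine
n-space Spec k[x_1, …, x_n] over k, the hypercohomology of its de Rham complex, vanishes in every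
degree i ≠ 0, and in degree 0 it is additively isomorphic to k (existence of an additive
isomorphism; the identification of H^0 with the constants is canonical). (The published computation
also gives the de Rham homology of affine space; this row is the cohomology statement, for any de
Rham complex of affine n-space over k.) -/
theorem result (k : Type u) [Field k] [CharZero k] (n : ℕ)
    [QuasiSeparated (Spec.map (CommRingCat.ofHom (algebraMap k (MvPolynomial (Fin n) k))))]
    (D : DeRhamSh.OmegaCx (Spec.map (CommRingCat.ofHom (algebraMap k (MvPolynomial (Fin n) k)))))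
    [HasDerivedCategory.{u} (Sheaf (Opens.grothendieckTopology ↥(Spec (CommRingCat.of (MvPolynomial (Fin n) k)))) AddCommGrpCat.{u})] :
    (∀ i : ℤ, i ≠ 0 → Subsingleton (DeRhamSh.HdR D i)) ∧ Nonempty (DeRhamSh.HdR D 0 ≃+ k) := by
  have hac : ∀ p q : ℕ, Subsingleton (Abelian.Ext.{u} (CohCx.freeSheaf (Opens.grothendieckTopology _)
      (⊤ : (Spec (CommRingCat.of (MvPolynomial (Fin n) k))).Opens)) (D.K.X p) (q + 1)) := fun p q => by
    haveI : (D.term p).IsQuasicoherent :=
      H22Alg.ExtPowHom.isQCoh_of_isExtPow (H29Omega.isQCoh_sheaf _) (D.isExtPow p)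
    haveI := H10Coh.subsingleton_HH_of_isAffine (D.term p) (Nat.succ_pos q)
    exact ((E1Deg.extCongrRight _ (D.iso p) (q + 1)).trans
      (E1Deg.extCongrLeft (E1Deg.freeSheafIsoConstant (Opens.grothendieckTopology _)
        (Limits.isTerminalTop : Limits.IsTerminal (⊤ : (Spec (CommRingCat.of (MvPolynomial (Fin n) k))).Opens))) _ _)).toEquiv.subsingleton
  obtain ⟨d, hd⟩ := H26Hyper.exists_isDiff_of_omegaCx D
  obtain ⟨e, he⟩ := H26Hyper.exists_sectionsEquiv D d hd.1
  have hP := H26Hyper.trivial_mvPolynomial (R := k) n d hd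
  have key := fun m => H26Hyper.nonempty_HT_addEquiv D.K hac
    (fun p => ↥(⋀[MvPolynomial (Fin n) k]^p (Ω[MvPolynomial (Fin n) k⁄k]))) (fun p => (d p).toAddMonoidHom) e he m
  refine ⟨fun i hi => ?_, ?_⟩
  · by_cases h : 0 ≤ i
    · obtain ⟨m, rfl⟩ : ∃ m : ℕ, i = ((m + 1 : ℕ) : ℤ) := ⟨(i - 1).toNat, by omega⟩
      obtain ⟨φ⟩ := key (m + 1) (DeRham.coboundaries d (m + 1)).toAddSubgroup (fun x => by
        show x ∈ LinearMap.range (d m) ↔ _
        constructor
        · rintro ⟨y, rfl⟩
          exact Or.inr ⟨m, rfl, y, rfl⟩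
        · rintro (⟨h', -⟩ | ⟨m', h', y, hy⟩)
          · omega
          · obtain rfl : m' = m := by omega
            exact ⟨y, hy⟩)
      refine @Equiv.subsingleton _ _ φ.toEquiv ?_
      refine QuotientAddGroup.subsingleton_iff.2 (AddSubgroup.addSubgroupOf_eq_top.2 fun x hx => ?_)
      exact hP.1 m hx
    · have hz : Limits.IsZero ((H26Hyper.ext0 D.K).X i) := by
        refine D.K.isZero_extend_X _ i fun p hp => ?_
        rw [ComplexShape.embeddingUpNat_f] at hp
        omega
      have hneg : ∀ m : ℤ, m < 0 → Limits.IsZero ((H26Hyper.ext0 D.K).X m) := fun m hm => by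
        refine D.K.isZero_extend_X _ m fun p hp => ?_
        rw [ComplexShape.embeddingUpNat_f] at hp
        omega
      haveI : Subsingleton (CohCx.freeSheaf (Opens.grothendieckTopology _)
          (⊤ : (Spec (CommRingCat.of (MvPolynomial (Fin n) k))).Opens) ⟶ (H26Hyper.ext0 D.K).X i) :=
        ⟨fun a b => hz.eq_of_tgt a b⟩
      exact (H26Hyper.surjective_cocycleHom.{u, u} (T := CohCx.freeSheaf (Opens.grothendieckTopology _)
        (⊤ : (Spec (CommRingCat.of (MvPolynomial (Fin n) k))).Opens)) (H26Hyper.ext0 D.K) 0 i hneg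
        (fun p q hp hpq => by
          refine subsingleton_of_forall_eq 0 fun x => ?_
          rw [← Abelian.Ext.comp_mk₀_id x, (hneg p (by omega)).eq_of_src (𝟙 _) 0, Abelian.Ext.mk₀_zero,
            Abelian.Ext.comp_zero])).subsingleton
  · obtain ⟨φ⟩ := key 0 ⊥ (fun x => by simp)
    let c : k →+ (d 0).toAddMonoidHom.ker :=
      AddMonoidHom.mk' (fun c => ⟨DeRham.gen (KaehlerDifferential.D k _) 0 (algebraMap k _ c) Fin.elim0, by
        show d 0 _ = 0
        rw [hd.1]
        exact AlternatingMap.map_coord_zero _ (0 : Fin 1) (by simp)⟩)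
        fun a b => Subtype.ext (by simp [DeRham.gen, add_smul])
    have hc : Function.Bijective c := by
      refine ⟨(injective_iff_map_eq_zero _).2 fun a ha => ?_, fun x => ?_⟩
      · have h1 := congrArg (exteriorPower.zeroEquiv (MvPolynomial (Fin n) k) (Ω[MvPolynomial (Fin n) k⁄k]))
          (congrArg Subtype.val ha)
        change exteriorPower.zeroEquiv _ _ (_ • _) = exteriorPower.zeroEquiv _ _ 0 at h1
        rw [map_smul, exteriorPower.zeroEquiv_ιMulti, map_zero, smul_eq_mul, mul_one] at h1
        exact (algebraMap k _).injective (h1.trans (map_zero _).symm)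
      · obtain ⟨a, ha⟩ := hP.2 x.1 x.2
        exact ⟨a, Subtype.ext ha.symm⟩
    exact ⟨φ.trans ((QuotientAddGroup.quotientAddEquivOfEq (AddSubgroup.bot_addSubgroupOf _)).trans
      (QuotientAddGroup.quotientBot.trans (AddEquiv.ofBijective c hc).symm))⟩

end Groth.Agent.S15311
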