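import Groth.Statements.S15315
import Mathlib.RingTheory.Length

set_option autoImplicit false
universe u
open ArLef

namespace Groth.Agent.S15315

theorem mem_sup_span_iff {A : Type u} [CommRing A] {J : Ideal A} {b x : A} :
    x ∈ J ⊔ Ideal.span ({b} : Set A) ↔ ∃ c, x - c * b ∈ J := by
  constructor
  · intro h
    obtain ⟨j, hj, y, hy, rfl⟩ := Submodule.mem_sup.1 h
    obtain ⟨c, rfl⟩ := Ideal.mem_span_singleton'.1 hy
    exact ⟨c, by rwa [add_sub_cancel_right]⟩
  · rintro ⟨c, hc⟩
    have := Submodule.add_mem_sup hc (Ideal.mul_mem_left (Ideal.span ({b} : Set A)) c (Ideal.mem_span_singleton_self b))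
    rwa [sub_add_cancel] at this

/-- For a Noetherian commutative ring A, elements a, b with a a non-zero-divisor on A/(b), and an ideal
I, one has length(A/(aI + bA)) = length(A/(a, b)) + length(A/(I + bA)) as extended natural numbers;
in particular when two of the three quotients have finite length so does the third. -/
theorem result (A : Type u) [CommRing A] [IsNoetherianRing A] (a b : A) (I : Ideal A)
    (ha : IsSMulRegular (A ⧸ Ideal.span ({b} : Set A)) a) :
    Module.length A (A ⧸ (Ideal.span {a} * I ⊔ Ideal.span {b})) =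
      Module.length A (A ⧸ Ideal.span ({a, b} : Set A)) + Module.length A (A ⧸ (I ⊔ Ideal.span {b})) := by
  set K := Ideal.span {a} * I ⊔ Ideal.span {b} with hK
  set L := I ⊔ Ideal.span {b} with hL
  have hle : L ≤ Submodule.comap (LinearMap.mul A A a) K := by
    intro x hx
    obtain ⟨c, hc⟩ := mem_sup_span_iff.1 hx
    refine mem_sup_span_iff.2 ⟨a * c, ?_⟩
    show a * x - a * c * b ∈ _
    rw [mul_assoc, ← mul_sub]
    exact Ideal.mul_mem_mul (Ideal.mem_span_singleton_self a) hc
  have hK' : K ≤ Ideal.span ({a, b} : Set A) := by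
    refine sup_le (Ideal.mul_le_left.trans ?_) ?_ <;> exact Ideal.span_le.2 (Set.singleton_subset_iff.2 (Ideal.subset_span (by simp)))
  let φ : (A ⧸ L) →ₗ[A] A ⧸ K := Submodule.mapQ L K (LinearMap.mul A A a) hle
  let ψ : (A ⧸ K) →ₗ[A] A ⧸ Ideal.span ({a, b} : Set A) := Submodule.factor hK'
  have hφ : Function.Injective φ := by
    rw [← LinearMap.ker_eq_bot, Submodule.ker_mapQ, eq_bot_iff, Submodule.map_le_iff_le_comap,
      Submodule.comap_bot, Submodule.ker_mkQ]
    intro x hx
    obtain ⟨c, hc⟩ := mem_sup_span_iff.1 (show a * x ∈ K from hx)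
    obtain ⟨i, hi, hai⟩ := Ideal.mem_span_singleton_mul.1 hc
    have h0 : a • (Ideal.Quotient.mk (Ideal.span ({b} : Set A)) (x - i)) = a • (0 : A ⧸ Ideal.span ({b} : Set A)) := by
      rw [smul_zero, Algebra.smul_def]
      show Ideal.Quotient.mk _ a * Ideal.Quotient.mk _ (x - i) = 0
      rw [← map_mul, Ideal.Quotient.eq_zero_iff_mem, mul_sub, hai, sub_sub_cancel]
      exact Ideal.mul_mem_left _ c (Ideal.mem_span_singleton_self b)
    have h1 := Ideal.Quotient.eq_zero_iff_mem.1 (ha h0)
    have := Submodule.add_mem_sup hi h1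
    rwa [add_sub_cancel] at this
  have hex : Function.Exact φ ψ := by
    intro y
    obtain ⟨y, rfl⟩ := Submodule.Quotient.mk_surjective K y
    constructor
    · intro hy
      obtain ⟨s, t, hst⟩ := Ideal.mem_span_pair.1 ((Submodule.Quotient.mk_eq_zero _).1 hy)
      refine ⟨Submodule.Quotient.mk s, (Submodule.Quotient.eq K).2 (mem_sup_span_iff.2 ⟨-t, ?_⟩)⟩
      show a * s - y - -t * b ∈ _
      rw [show a * s - y - -t * b = a * s - (s * a + t * b) - -t * b by rw [show s * a + t * b = y from hst],
        show a * s - (s * a + t * b) - -t * b = 0 by ring]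
      exact zero_mem _
    · rintro ⟨x, hx⟩
      obtain ⟨x, rfl⟩ := Submodule.Quotient.mk_surjective L x
      rw [← hx]
      exact (Submodule.Quotient.mk_eq_zero _).2 (Ideal.mul_mem_right x _ (Ideal.subset_span (by simp)))
  rw [Module.length_eq_add_of_exact φ ψ hφ (Submodule.factor_surjective hK') hex, add_comm]

end Groth.Agent.S15315
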