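import Groth.Statements.S15316
import Groth.Agent.H26Node.Basic

set_option autoImplicit false
universe u
open ArLef ArLef.NodeAlg

namespace Groth.Agent.S15316

/-- Let B be a discrete valuation ring with uniformizer π and N = B[[t, e]]/(te - π) the complete local
ring of a semi-stable arithmetic surface at a singular point of the closed fibre. A ring
automorphism σ of N with σ(π) associated to π (for instance a B-algebra automorphism, or one lying
over an automorphism of B) either stabilizes the two branches, σ(t) = α t and σ(e) = β e for units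
α, β, or switches them, σ(t) = α e and σ(e) = β t for units α, β. (The published setting has B
complete with algebraically closed residue field and σ linear over B or over an automorphism of B;
the argument uses only that σ(π) generates (π).) -/
theorem result (B : Type u) [CommRing B] [IsDomain B] [IsDiscreteValuationRing B] (π : B) (hπ : Irreducible π)
    (σ : ArLef.NodeAlg B π ≃+* ArLef.NodeAlg B π)
    (hσ : Associated (σ (algebraMap B (ArLef.NodeAlg B π) π)) (algebraMap B (ArLef.NodeAlg B π) π)) :
    (∃ α β : (ArLef.NodeAlg B π)ˣ, σ (ArLef.NodeAlg.t π) = (α : ArLef.NodeAlg B π) * ArLef.NodeAlg.t π ∧ σ (ArLef.NodeAlg.e π) = (β : ArLef.NodeAlg B π) * ArLef.NodeAlg.e π) ∨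
      (∃ α β : (ArLef.NodeAlg B π)ˣ, σ (ArLef.NodeAlg.t π) = (α : ArLef.NodeAlg B π) * ArLef.NodeAlg.e π ∧ σ (ArLef.NodeAlg.e π) = (β : ArLef.NodeAlg B π) * ArLef.NodeAlg.t π) := by
  rcases Groth.Agent.H26Node.branches hπ.maximalIdeal_eq σ hσ with ⟨⟨a, ha⟩, ⟨b, hb⟩⟩ | ⟨⟨a, ha⟩, ⟨b, hb⟩⟩
  · exact Or.inl ⟨a, b, ha.symm.trans (mul_comm _ _), hb.symm.trans (mul_comm _ _)⟩
  · exact Or.inr ⟨a, b, ha.symm.trans (mul_comm _ _), hb.symm.trans (mul_comm _ _)⟩

end Groth.Agent.S15316
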