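import Groth.Statements.S15317
import Groth.Agent.H26Node.Fixed

set_option autoImplicit false
universe u
open ArLef ArLef.NodeAlg

namespace Groth.Agent.S15317

/-- Let B be a discrete valuation ring with uniformizer π, N = B[[t, e]]/(te - π), and σ a non-trivial
B-algebra automorphism of N stabilizing both branches of the closed fibre (σ(t) associated to t,
σ(e) associated to e). Then the fixed-point ideal of σ, generated by all σ(r) - r, is g·(t, e) for a
non-zero g: the divisorial part of the fixed locus is cut out by g and its residual part is the
reduced closed point, of multiplicity one. (Stated in the complete local ring, where the published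
argument takes place; the published setting has B complete with algebraically closed residue field.) -/
theorem result (B : Type u) [CommRing B] [IsDomain B] [IsDiscreteValuationRing B] (π : B) (hπ : Irreducible π)
    (σ : ArLef.NodeAlg B π ≃ₐ[B] ArLef.NodeAlg B π) (hσ : σ ≠ AlgEquiv.refl)
    (ht : Associated (σ (ArLef.NodeAlg.t π)) (ArLef.NodeAlg.t π))
    (he : Associated (σ (ArLef.NodeAlg.e π)) (ArLef.NodeAlg.e π)) :
    ∃ g : ArLef.NodeAlg B π, g ≠ 0 ∧
      ArLef.fixIdeal σ = Ideal.span {g} * Ideal.span ({ArLef.NodeAlg.t π, ArLef.NodeAlg.e π} : Set (ArLef.NodeAlg B π)) := by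
  exact Groth.Agent.H26Node.fixIdeal_eq hπ σ hσ ht he

end Groth.Agent.S15317
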