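import Groth.Statements.S15318
import Groth.Agent.H26Node.Length

set_option autoImplicit false
universe u
open ArLef ArLef.NodeAlg

namespace Groth.Agent.S15318

open Groth.Agent.H26Node in
/-- The fixed locus of a switching automorphism. -/
theorem switch_aux {B : Type u} [CommRing B] [IsDomain B] [IsDiscreteValuationRing B] {π : B} (hπ : Irreducible π)
    (σ : ArLef.NodeAlg B π →+* ArLef.NodeAlg B π) (hσB : ∀ b : B, σ (algebraMap B _ b) = algebraMap B _ b)
    (a b : (ArLef.NodeAlg B π)ˣ) (ha : σ (br π 0) = (a : ArLef.NodeAlg B π) * br π 1)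
    (hb : σ (br π 1) = (b : ArLef.NodeAlg B π) * br π 0) :
    ArLef.fixIdeal σ = Ideal.span {σ (br π 0) - br π 0} := by
  have hte := br_mul_br π (show (0 : Fin 2) ≠ 1 by decide)
  have hab : (a : ArLef.NodeAlg B π) * b = 1 := by
    have h := congrArg σ hte
    rw [map_mul, hσB, ha, hb, ← hte] at h
    exact sub_eq_zero.1 (e_regular hπ.ne_zero (t_regular hπ.ne_zero (by linear_combination h)))
  refine le_antisymm (fixIdeal_le hπ.maximalIdeal_eq σ _ (fun c => ?_) (Ideal.mem_span_singleton_self _) ?_)
    (Ideal.span_le.2 (by rintro _ rfl; exact mem_fixIdeal (br π 0)))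
  · rw [hσB, sub_self]; exact zero_mem _
  · refine Ideal.mem_span_singleton'.2 ⟨-(b : ArLef.NodeAlg B π), ?_⟩
    rw [ha]
    show _ = σ (br π 1) - br π 1
    rw [hb]
    linear_combination -(br π 1) * hab

/-- Let B be a discrete valuation ring with uniformizer π, N = B[[t, e]]/(te - π), and σ a B-algebra
automorphism of N switching the two branches of the closed fibre (σ(t) associated to e, σ(e)
associated to t). Then the fixed-point ideal of σ is principal, generated by an element h of order
one (h is not in (t, e)²), and π is a non-zero-divisor modulo h: the fixed locus is a horizontal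
regular divisor through the point with empty residual part. (Stated in the complete local ring,
where the published argument takes place; the published setting has B complete with algebraically
closed residue field.) -/
theorem result (B : Type u) [CommRing B] [IsDomain B] [IsDiscreteValuationRing B] (π : B) (hπ : Irreducible π)
    (σ : ArLef.NodeAlg B π ≃ₐ[B] ArLef.NodeAlg B π)
    (ht : Associated (σ (ArLef.NodeAlg.t π)) (ArLef.NodeAlg.e π))
    (he : Associated (σ (ArLef.NodeAlg.e π)) (ArLef.NodeAlg.t π)) :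
    ∃ h : ArLef.NodeAlg B π, ArLef.fixIdeal σ = Ideal.span {h} ∧
      h ∉ (Ideal.span ({ArLef.NodeAlg.t π, ArLef.NodeAlg.e π} : Set (ArLef.NodeAlg B π))) ^ 2 ∧
      IsSMulRegular (ArLef.NodeAlg B π ⧸ Ideal.span ({h} : Set (ArLef.NodeAlg B π))) π := by
  open Groth.Agent.H26Node in
  obtain ⟨a, ha⟩ := ht.symm
  obtain ⟨b, hb⟩ := he.symm
  have hmax := hπ.maximalIdeal_eq
  have ha' : σ (br π 0) = (a : ArLef.NodeAlg B π) * br π 1 := ha.symm.trans (mul_comm _ _)
  have hb' : σ (br π 1) = (b : ArLef.NodeAlg B π) * br π 0 := hb.symm.trans (mul_comm _ _)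
  refine ⟨σ (br π 0) - br π 0, switch_aux hπ (σ : ArLef.NodeAlg B π →+* ArLef.NodeAlg B π) σ.commutes a b ha' hb', ?_, ?_⟩
  · intro hmem
    have h0 : restrictNode hmax 0 (σ (br π 0) - br π 0) = -MvPowerSeries.X () := by
      rw [map_sub, ha', map_mul, restrictNode_br hmax (show (1 : Fin 2) ≠ 0 by decide), restrictNode_br_self, mul_zero, zero_sub]
    have h1 := Ideal.mem_map_of_mem (restrictNode hmax 0) hmem
    rw [Ideal.map_pow, Ideal.map_span, Set.image_pair, h0, neg_mem_iff] at h1
    have h2 : Ideal.span ({restrictNode hmax 0 (ArLef.NodeAlg.t π), restrictNode hmax 0 (ArLef.NodeAlg.e π)} : Set _) ≤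
        Ideal.span {(MvPowerSeries.X () : MvPowerSeries Unit (IsLocalRing.ResidueField B))} := by
      rw [t_eq, e_eq, restrictNode_br_self, restrictNode_br hmax (show (1 : Fin 2) ≠ 0 by decide)]
      exact Ideal.span_le.2 (by
        rintro _ (rfl | rfl)
        · exact Ideal.mem_span_singleton_self _
        · exact zero_mem _)
    have h3 := Ideal.pow_right_mono h2 2 h1
    rw [Ideal.span_singleton_pow, Ideal.mem_span_singleton] at h3
    obtain ⟨w, hw⟩ := h3
    have h6 : (1 : MvPowerSeries Unit (IsLocalRing.ResidueField B)) = MvPowerSeries.X () * w :=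
      mul_left_cancel₀ (X_ne_zero' _) (show MvPowerSeries.X () * 1 = MvPowerSeries.X () * (MvPowerSeries.X () * w) by
        linear_combination hw)
    simpa using congrArg MvPowerSeries.constantCoeff h6
  · intro x y hxy
    obtain ⟨x, rfl⟩ := Submodule.Quotient.mk_surjective _ x
    obtain ⟨y, rfl⟩ := Submodule.Quotient.mk_surjective _ y
    simp only [← Submodule.Quotient.mk_smul, Submodule.Quotient.eq, Ideal.mem_span_singleton] at hxy ⊢
    replace hxy : σ (br π 0) - br π 0 ∣ algebraMap B (ArLef.NodeAlg B π) π * x - algebraMap B (ArLef.NodeAlg B π) π * y := by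
      convert hxy using 2 <;> exact (Algebra.smul_def π _).symm
    rw [← mul_sub, ← br_mul_br π (show (0 : Fin 2) ≠ 1 by decide)] at hxy
    obtain ⟨w, hw⟩ := hxy
    rw [ha'] at hw
    have hd1 : br π 0 ∣ br π 1 * w :=
      (Units.dvd_mul_left (u := a)).1 ⟨br π 1 * (x - y) + w, by linear_combination -hw⟩
    obtain ⟨w1, rfl⟩ := dvd_of_dvd_mul hmax (show (0 : Fin 2) ≠ 1 by decide) (not_br_dvd_br hmax (by decide)) hd1
    have hd2 : br π 1 ∣ br π 0 * w1 := by
      have h4 : br π 0 * (br π 1 * (x - y) - ((a : ArLef.NodeAlg B π) * br π 1 - br π 0) * w1) = 0 := by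
        linear_combination hw
      have h5 := t_regular hπ.ne_zero h4
      exact ⟨(a : ArLef.NodeAlg B π) * w1 - (x - y), by linear_combination h5⟩
    obtain ⟨w2, rfl⟩ := dvd_of_dvd_mul hmax (show (1 : Fin 2) ≠ 0 by decide) (not_br_dvd_br hmax (by decide)) hd2
    refine ⟨w2, ?_⟩
    rw [ha']
    refine sub_eq_zero.1 (e_regular hπ.ne_zero (t_regular hπ.ne_zero ?_))
    linear_combination hw

end Groth.Agent.S15318
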