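import Groth.Statements.S15319
import Mathlib.RingTheory.MvPowerSeries.Inverse
import Mathlib.Tactic

set_option autoImplicit false
universe u
open ArLef ArLef.NodeAlg

namespace Groth.Agent.S15319

open MvPowerSeries in
lemma C_pow_notMem {B : Type u} [CommRing B] [IsDomain B] [IsDiscreteValuationRing B] (π : B)
    (hπ : Irreducible π) (m : ℕ) :
    (C π : MvPowerSeries (Fin 2) B) ^ (m + 1) ∉
      Ideal.span {(X 0 * X 1 - C π : MvPowerSeries (Fin 2) B)} := by
  intro h
  obtain ⟨g, hg⟩ := Ideal.mem_span_singleton'.1 h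
  let d : ℕ → Fin 2 →₀ ℕ := fun i => Finsupp.single 0 i + Finsupp.single 1 i
  have hX : (X 0 * X 1 : MvPowerSeries (Fin 2) B) = monomial (d 1) 1 := by
    rw [X, X, monomial_mul_monomial, mul_one]
  have hc : ∀ i, coeff (d (i + 1)) ((C π : MvPowerSeries (Fin 2) B) ^ (m + 1)) =
      coeff (d i) g - π * coeff (d (i + 1)) g := fun i => by
    rw [← hg, mul_sub, map_sub, hX]
    have e : d (i + 1) = d i + d 1 := by
      simp only [d, Finsupp.single_add]; abel
    congr 1
    · rw [e, coeff_add_mul_monomial, mul_one]
    · rw [mul_comm g, coeff_C_mul]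
  have h0 : π ^ (m + 1) = -(π * coeff (d 0) g) := by
    have := congrArg (coeff (0 : Fin 2 →₀ ℕ)) hg
    rw [coeff_zero_eq_constantCoeff_apply, coeff_zero_eq_constantCoeff_apply] at this
    have hd0 : d 0 = 0 := by simp [d]
    rw [hd0, coeff_zero_eq_constantCoeff_apply]
    simpa [map_mul, map_sub, map_pow, mul_comm] using this.symm
  have hstep : ∀ i, coeff (d i) g = π * coeff (d (i + 1)) g := fun i => by
    have := hc i
    rw [← map_pow, coeff_C, if_neg] at this
    · exact sub_eq_zero.1 this.symm
    · intro hh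
      have := DFunLike.congr_fun hh 0
      simp [d] at this
  have hall : ∀ i, coeff (d 0) g = π ^ i * coeff (d i) g := fun i => by
    induction i with
    | zero => simp
    | succ i ih => rw [ih, hstep i, pow_succ, mul_assoc]
  apply hπ.not_isUnit
  rw [hall (m + 1)] at h0
  have h1 : π ^ (m + 1) * 1 = π ^ (m + 1) * -(π * coeff (d (m + 1)) g) := by
    linear_combination h0
  have h2 := mul_left_cancel₀ (pow_ne_zero (m + 1) hπ.ne_zero) h1
  exact IsUnit.of_mul_eq_one (-(coeff (d (m + 1)) g)) (by linear_combination -h2)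

/-- Let B be a discrete valuation ring with uniformizer π, N = B[[t, e]]/(te - π) the complete local
ring of a semi-stable arithmetic surface over B at a singular point of the closed fibre, and σ a
ring automorphism of N sending π to π + γ π^j with γ a unit of B and j ≥ 1 (σ lies over an
automorphism τ of B with v(τ(π) - π) = j). Then the fixed-point ideal of σ is not contained in (π^j)
= (t^j e^j): the two branches through the point cannot both occur with multiplicity j in the
divisorial part of the fixed locus. (The published setting has B complete with algebraically closed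
residue field.) -/
theorem result (B : Type u) [CommRing B] [IsDomain B] [IsDiscreteValuationRing B] (π : B) (hπ : Irreducible π)
    (j : ℕ) (hj : 1 ≤ j) (γ : B) (hγ : IsUnit γ)
    (σ : ArLef.NodeAlg B π ≃+* ArLef.NodeAlg B π)
    (hσ : σ (algebraMap B (ArLef.NodeAlg B π) π) = algebraMap B (ArLef.NodeAlg B π) (π + γ * π ^ j)) :
    ¬ ArLef.fixIdeal σ ≤ Ideal.span ({algebraMap B (ArLef.NodeAlg B π) (π ^ j)} : Set (ArLef.NodeAlg B π)) := by
  intro hI
  let mk := algebraMap B (ArLef.NodeAlg B π)
  let t := ArLef.NodeAlg.t π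
  let e := ArLef.NodeAlg.e π
  have hte : t * e = mk π := by
    refine (map_mul _ _ _).symm.trans (Ideal.Quotient.eq.2 ?_)
    exact Ideal.mem_span_singleton_self _
  obtain ⟨a, ha⟩ := Ideal.mem_span_singleton'.1 (hI (Ideal.subset_span ⟨t, rfl⟩))
  obtain ⟨b, hb⟩ := Ideal.mem_span_singleton'.1 (hI (Ideal.subset_span ⟨e, rfl⟩))
  have key : mk (π ^ j) * (mk γ - (t * b + e * a + mk (π ^ j) * a * b)) = 0 := by
    have h1 : σ t * σ e = mk π + mk γ * mk (π ^ j) := by
      rw [← map_mul, hte, hσ, map_add, map_mul]
    rw [show σ t = t + a * mk (π ^ j) by linear_combination -ha,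
      show σ e = e + b * mk (π ^ j) by linear_combination -hb] at h1
    linear_combination -h1 + hte
  obtain ⟨a', ha'⟩ := Ideal.Quotient.mk_surjective a
  obtain ⟨b', hb'⟩ := Ideal.Quotient.mk_surjective b
  let w : MvPowerSeries (Fin 2) B := MvPowerSeries.C γ -
    (MvPowerSeries.X 0 * b' + MvPowerSeries.X 1 * a' + MvPowerSeries.C (π ^ j) * a' * b')
  have hw : IsUnit w := by
    rw [MvPowerSeries.isUnit_iff_constantCoeff]
    have hm : π ^ j * MvPowerSeries.constantCoeff a' * MvPowerSeries.constantCoeff b' ∈
        IsLocalRing.maximalIdeal B := by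
      refine Ideal.mul_mem_right _ _ (Ideal.mul_mem_right _ _ (Ideal.pow_mem_of_mem _ ?_ j hj))
      exact hπ.not_isUnit
    simp only [w, map_sub, map_add, map_mul, MvPowerSeries.constantCoeff_C, MvPowerSeries.constantCoeff_X,
      zero_mul, zero_add]
    by_contra hu
    exact (IsLocalRing.maximalIdeal B).ne_top_iff_one.1 (IsLocalRing.maximalIdeal.isMaximal B).ne_top
      (by
        have := Ideal.add_mem _ (show _ ∈ IsLocalRing.maximalIdeal B from hu) hm
        rw [sub_add_cancel] at this
        exact (absurd hγ this))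
  have hz : mk (π ^ j) = 0 := by
    refine (IsUnit.mul_left_eq_zero (hw.map (Ideal.Quotient.mk _))).1 ?_
    simp only [w, map_sub, map_add, map_mul]
    erw [ha', hb']
    exact key
  obtain ⟨m, rfl⟩ : ∃ m, j = m + 1 := ⟨j - 1, by omega⟩
  refine C_pow_notMem π hπ m ?_
  rw [← map_pow]
  exact Ideal.Quotient.eq_zero_iff_mem.1 hz

end Groth.Agent.S15319
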