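import Groth.Statements.S1532
import Groth.Agent.H29CurveDual.SingularVanish

set_option autoImplicit false
universe u
open CategoryTheory CategoryTheory.Limits AlgebraicGeometry
open Curves

namespace Groth.Agent.S1532

attribute [local instance 10000] H10Coh.hasSheafifyAb H10Coh.hasWeakSheafifyAb H10Coh.hasExtAb H10Coh.enoughInjAb


/-- Let X be a proper integral one-dimensional scheme over k whose global functions are k, of genus g, L
an invertible module and Z a closed subscheme of dimension zero with ideal sheaf I, with deg L > 2g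
- 2 + deg Z. Then H^1(X, I ⊗ L) = 0, and if moreover H^0(X, I ⊗ L) = 0 then g = 0 and deg L = deg Z
- 1. -/
theorem result (k : Type u) [Field k] (X : Scheme.{u}) [X.Over (Spec (CommRingCat.of k))]
    [IsProper (X ↘ (Spec (CommRingCat.of k)))] [IsIntegral X] (hdim : topologicalKrullDim X = 1)
    (h0 : Module.finrank k (Coh.HH X (Coh.structureModule X) 0) = 1)
    (L : X.Modules) (hL : PicF.IsInvertible L) (Z : X.IdealSheafData) (hZ : topologicalKrullDim (Z.support : Set X) ≤ 0)
    (hdeg : 2 * (Curv2.genus k X : ℤ) - 2 + Module.finrank k (Coh.HH X (ClSub.quotMod Z) 0) < Curv2.deg k X L 1) :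
    Subsingleton (Coh.HH X (CohB1.tensorMod (ClSub.idealMod Z) L) 1) ∧
      (Subsingleton (Coh.HH X (CohB1.tensorMod (ClSub.idealMod Z) L) 0) →
        Curv2.genus k X = 0 ∧ Curv2.deg k X L 1 = Module.finrank k (Coh.HH X (ClSub.quotMod Z) 0) - 1) := by
  obtain ⟨hc, -, he⟩ := H29CurveDual.exists_idealTensor_data (k := k) hL Z hZ
  haveI := H10Coh.finite_HH_proper k X _ hc 1
  rcases subsingleton_or_nontrivial (Coh.HH X (CohB1.tensorMod (ClSub.idealMod Z) L) 1) with hs | hn
  · refine ⟨hs, fun hs0 => ?_⟩
    rw [H29RR.euler_eq_sub (k := k) hdim.le (CohB1.tensorMod _ L),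
      Module.finrank_zero_of_subsingleton (R := k) (M := Coh.HH X (CohB1.tensorMod (ClSub.idealMod Z) L) 1),
      Module.finrank_zero_of_subsingleton (R := k) (M := Coh.HH X (CohB1.tensorMod (ClSub.idealMod Z) L) 0)] at he
    have hO := H29RR.euler_eq_sub (k := k) hdim.le (Coh.structureModule X)
    rw [h0] at hO
    rw [H29RR.deg_def] at hdeg ⊢
    rw [Curv2.genus] at hdeg ⊢
    omega
  · have hpos := Module.finrank_pos (R := k) (M := Coh.HH X (CohB1.tensorMod (ClSub.idealMod Z) L) 1)
    have h := H29CurveDual.h1_idealTensor_le (k := k) hdim.le h0 hL Z hZ hn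
    omega

end Groth.Agent.S1532
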