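import Groth.Statements.S15320
import Groth.Agent.H26Node.Length

set_option autoImplicit false
universe u
open ArLef ArLef.NodeAlg

namespace Groth.Agent.S15320

/-- Let B be a discrete valuation ring with uniformizer π, N = B[[t, e]]/(te - π) the complete local
ring of a semi-stable arithmetic surface over B at a singular point x of the closed fibre, and σ a
ring automorphism of N over an automorphism τ of B with v(τ(π) - π) = j ≥ 1, that is σ(π) = π + γ
π^j with γ a unit of B, and with σ(b) - b ∈ π^j N for every b ∈ B (automatic when B is totally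
ramified over the fixed ring of τ, as in the published setting, where the residue field is
algebraically closed). If σ switches the two branches through x (σ(t) associated to e and σ(e) to
t), then the fixed-point ideal I of σ is contained in no proper principal ideal (x is not on the
divisorial part of the fixed locus) and N/I has length 2j - 1 (the multiplicity of x in the residual
fixed-point scheme). -/
theorem result (B : Type u) [CommRing B] [IsDomain B] [IsDiscreteValuationRing B] (π : B) (hπ : Irreducible π)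
    (j : ℕ) (hj : 1 ≤ j) (γ : B) (hγ : IsUnit γ)
    (σ : ArLef.NodeAlg B π ≃+* ArLef.NodeAlg B π)
    (hσB : ∀ b : B, σ (algebraMap B (ArLef.NodeAlg B π) b) - algebraMap B (ArLef.NodeAlg B π) b ∈
      Ideal.span ({algebraMap B (ArLef.NodeAlg B π) (π ^ j)} : Set (ArLef.NodeAlg B π)))
    (hσπ : σ (algebraMap B (ArLef.NodeAlg B π) π) = algebraMap B (ArLef.NodeAlg B π) (π + γ * π ^ j))
    (ht : Associated (σ (ArLef.NodeAlg.t π)) (ArLef.NodeAlg.e π)) (he : Associated (σ (ArLef.NodeAlg.e π)) (ArLef.NodeAlg.t π)) :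
    (∀ g : ArLef.NodeAlg B π, ArLef.fixIdeal σ ≤ Ideal.span ({g} : Set (ArLef.NodeAlg B π)) → IsUnit g) ∧
      Module.length (ArLef.NodeAlg B π) (ArLef.NodeAlg B π ⧸ ArLef.fixIdeal σ) = ((2 * j - 1 : ℕ) : ℕ∞) := by
  classical
  open Groth.Agent.H26Node in
  have hmax := hπ.maximalIdeal_eq
  have h01 : (0 : Fin 2) ≠ 1 := by decide
  have h10 : (1 : Fin 2) ≠ 0 := by decide
  letI := isLocalRing hmax
  obtain ⟨a, ha⟩ := ht.symm
  obtain ⟨b, hb⟩ := he.symm
  rw [t_eq, e_eq] at ha hb
  have hcancel : ∀ (l : ℕ) (w : ArLef.NodeAlg B π), br π 1 ^ l * w = 0 → w = 0 := by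
    intro l
    induction l with
    | zero => intro w hw; simpa using hw
    | succ l ihl =>
      intro w hw
      exact ihl w (br_regular hπ.ne_zero 1 (by linear_combination hw))
  obtain ⟨T, hT⟩ : ∃ T, T = br π 0 := ⟨_, rfl⟩
  obtain ⟨E, hE⟩ : ∃ E, E = br π 1 := ⟨_, rfl⟩
  have hte : T * E = algebraMap B (ArLef.NodeAlg B π) π := hT ▸ hE ▸ br_mul_br π h01
  obtain ⟨G, hG⟩ : ∃ G, G = algebraMap B (ArLef.NodeAlg B π) γ := ⟨_, rfl⟩
  have hGu : IsUnit G := hG ▸ hγ.map _
  obtain ⟨n, rfl⟩ : ∃ n, j = n + 1 := ⟨j - 1, by omega⟩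
  have hπ' : σ (algebraMap B (ArLef.NodeAlg B π) π) = T * E + G * (T * E) ^ (n + 1) := by
    rw [hσπ, map_add, map_mul, map_pow, hte, hG]
  rw [← hT, ← hE] at ha hb
  have hab : (a : ArLef.NodeAlg B π) * b = 1 + G * (T * E) ^ n := by
    have h : σ T * σ E = T * E + G * (T * E) ^ (n + 1) := by rw [← map_mul, hte, ← hte, ← hπ', hte]
    rw [← ha, ← hb] at h
    refine sub_eq_zero.1 (e_regular hπ.ne_zero (t_regular hπ.ne_zero ?_))
    rw [t_eq, e_eq, ← hT, ← hE]
    linear_combination h
  obtain ⟨h, hh⟩ : ∃ h, h = (a : ArLef.NodeAlg B π) * E - T := ⟨_, rfl⟩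
  have hσT : σ T - T = h := by rw [hh, ← ha]; ring
  have hσE : σ E - E = -(b : ArLef.NodeAlg B π) * h + G * (T * E) ^ n * E := by
    rw [hh, ← hb]; linear_combination E * hab
  have hI : ArLef.fixIdeal σ = Ideal.span {h, (T * E) ^ n * E} := by
    refine le_antisymm ?_ (Ideal.span_le.2 ?_)
    · refine fixIdeal_le hmax (σ : ArLef.NodeAlg B π →+* ArLef.NodeAlg B π) _ (fun c => ?_) ?_ ?_
      · refine (Ideal.span_le.2 ?_) (hσB c)
        rintro _ rfl
        rw [map_pow, ← hte, SetLike.mem_coe, Ideal.mem_span_pair]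
        exact ⟨-(T * E) ^ n * E, (a : ArLef.NodeAlg B π) * E, by rw [hh]; ring⟩
      · rw [t_eq, ← hT]
        show σ T - T ∈ _
        rw [hσT]; exact Ideal.subset_span (Or.inl rfl)
      · rw [e_eq, ← hE]
        show σ E - E ∈ _
        rw [hσE, Ideal.mem_span_pair]
        exact ⟨-(b : ArLef.NodeAlg B π), G, by ring⟩
    · rintro _ (rfl | rfl)
      · rw [← hσT]; exact mem_fixIdeal _
      · obtain ⟨g, hg⟩ := hGu
        have h1 : (σ E - E) + (b : ArLef.NodeAlg B π) * (σ T - T) ∈ ArLef.fixIdeal σ :=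
          add_mem (mem_fixIdeal _) (Ideal.mul_mem_left _ _ (mem_fixIdeal _))
        rw [hσE, hσT] at h1
        have h2 := Ideal.mul_mem_left _ (↑g⁻¹ : ArLef.NodeAlg B π) h1
        have h3 : (↑g⁻¹ : ArLef.NodeAlg B π) * G = 1 := by rw [← hg]; exact g.inv_mul
        have h4 : (T * E) ^ n * E = (↑g⁻¹ : ArLef.NodeAlg B π) *
            (-(b : ArLef.NodeAlg B π) * h + G * (T * E) ^ n * E + (b : ArLef.NodeAlg B π) * h) := by
          linear_combination (-((T * E) ^ n * E)) * h3
        rw [h4]; exact h2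
  have hpow : Ideal.span {h, (T * E) ^ n * E} = Ideal.span {h, E ^ (2 * n + 1)} := by
    obtain ⟨q, hq⟩ : ((a : ArLef.NodeAlg B π) * E * E) - T * E ∣ ((a : ArLef.NodeAlg B π) * E * E) ^ n - (T * E) ^ n :=
      sub_dvd_pow_sub_pow _ _ n
    refine le_antisymm (Ideal.span_le.2 ?_) (Ideal.span_le.2 ?_)
    · rintro _ (rfl | rfl)
      · exact Ideal.subset_span (Or.inl rfl)
      · rw [SetLike.mem_coe, Ideal.mem_span_pair]
        refine ⟨-(E * E * q), (a : ArLef.NodeAlg B π) ^ n, ?_⟩
        rw [show E ^ (2 * n + 1) = (E * E) ^ n * E by ring, ← mul_assoc, ← mul_pow, hh]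
        linear_combination E * hq
    · rintro _ (rfl | rfl)
      · exact Ideal.subset_span (Or.inl rfl)
      · rw [SetLike.mem_coe, Ideal.mem_span_pair]
        refine ⟨(↑a⁻¹ : ArLef.NodeAlg B π) ^ n * (E * E * q), (↑a⁻¹ : ArLef.NodeAlg B π) ^ n, ?_⟩
        have h3 : (↑a⁻¹ : ArLef.NodeAlg B π) ^ n * (a : ArLef.NodeAlg B π) ^ n = 1 := by
          rw [← mul_pow, Units.inv_mul, one_pow]
        rw [hh]
        linear_combination (-E * (↑a⁻¹ : ArLef.NodeAlg B π) ^ n) * hq + (E ^ (2 * n + 1)) * h3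
  have hEh : ¬ E ∣ h := fun hd => by
    rw [hh] at hd
    have := (dvd_sub_right (Dvd.intro_left (a : ArLef.NodeAlg B π) rfl)).1 hd
    rw [hT, hE] at this
    exact not_br_dvd_br hmax h10 this
  have hlen : ∀ m : ℕ, Module.length (ArLef.NodeAlg B π) (ArLef.NodeAlg B π ⧸ Ideal.span {h, E ^ (m + 1)}) =
      ((m + 1 : ℕ) : ℕ∞) := by
    intro m
    induction m with
    | zero =>
      have : Ideal.span {h, E ^ (0 + 1)} = nodeIdeal π := by
        rw [zero_add, pow_one, nodeIdeal, t_eq, e_eq, ← hT, ← hE, hh]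
        refine le_antisymm (Ideal.span_le.2 ?_) (Ideal.span_le.2 ?_) <;> rintro _ (rfl | rfl)
        · rw [SetLike.mem_coe, Ideal.mem_span_pair]; exact ⟨-1, (a : ArLef.NodeAlg B π), by ring⟩
        · exact Ideal.subset_span (Or.inr rfl)
        · rw [SetLike.mem_coe, Ideal.mem_span_pair]; exact ⟨-1, (a : ArLef.NodeAlg B π), by ring⟩
        · exact Ideal.subset_span (Or.inr rfl)
      rw [this, length_nodeIdeal hmax]; norm_num
    | succ m ih =>
      rw [length_step (Ideal.span {h, E ^ (m + 1 + 1)}) (Ideal.span {h, E}) (E ^ (m + 1)) (fun y => ?_)]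
      · have h1 : Ideal.span {h, E ^ (m + 1 + 1)} ⊔ Ideal.span {E ^ (m + 1)} = Ideal.span {h, E ^ (m + 1)} := by
          refine le_antisymm (sup_le (Ideal.span_le.2 ?_) (Ideal.span_mono (by intro z hz; exact Or.inr hz))) (Ideal.span_le.2 ?_)
          · rintro _ (rfl | rfl)
            · exact Ideal.subset_span (Or.inl rfl)
            · rw [pow_succ _ (m + 1)]; exact Ideal.mul_mem_right _ _ (Ideal.subset_span (Or.inr rfl))
          · rintro _ (rfl | rfl)
            · exact Ideal.mem_sup_left (Ideal.subset_span (Or.inl rfl))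
            · exact Ideal.mem_sup_right (Ideal.mem_span_singleton_self _)
        have h2 : Ideal.span {h, E} = nodeIdeal π := by
          rw [nodeIdeal, t_eq, e_eq, ← hT, ← hE, hh]
          refine le_antisymm (Ideal.span_le.2 ?_) (Ideal.span_le.2 ?_) <;> rintro _ (rfl | rfl)
          · rw [SetLike.mem_coe, Ideal.mem_span_pair]; exact ⟨-1, (a : ArLef.NodeAlg B π), by ring⟩
          · exact Ideal.subset_span (Or.inr rfl)
          · rw [SetLike.mem_coe, Ideal.mem_span_pair]; exact ⟨-1, (a : ArLef.NodeAlg B π), by ring⟩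
          · exact Ideal.subset_span (Or.inr rfl)
        rw [h1, h2, ih, length_nodeIdeal hmax]; push_cast; ring
      · rw [Ideal.mem_span_pair, Ideal.mem_span_pair]
        constructor
        · rintro ⟨u, v, huv⟩
          obtain ⟨u', rfl⟩ : E ^ (m + 1) ∣ u := by
            rw [hE]
            refine pow_dvd_of_dvd_mul hπ h10 (hE ▸ hEh) (m + 1) ⟨y - v * br π 1, ?_⟩
            rw [← hE]; linear_combination huv
          refine ⟨u', v, sub_eq_zero.1 ?_⟩
          have hz : E ^ (m + 1) * (u' * h + v * E - y) = 0 := by linear_combination huv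
          exact hcancel (m + 1) _ (hE ▸ hz)
        · rintro ⟨u, v, rfl⟩
          exact ⟨u * E ^ (m + 1), v, by ring⟩
  refine ⟨fun g hg => ?_, ?_⟩
  · by_contra hgu
    rw [hI, hpow] at hg
    obtain ⟨w, hw⟩ := Ideal.mem_span_singleton.1 (hg (Ideal.subset_span (Or.inl rfl)))
    obtain ⟨q, hq⟩ := Ideal.mem_span_singleton.1 (hg (Ideal.subset_span (Or.inr rfl)))
    have hwu : IsUnit w := by
      by_contra hwn
      have hgm : g ∈ nodeIdeal π := by
        rw [IsLocalRing.eq_maximalIdeal (isMaximal_nodeIdeal hmax)] ; exact hgu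
      have hwm : w ∈ nodeIdeal π := by
        rw [IsLocalRing.eq_maximalIdeal (isMaximal_nodeIdeal hmax)] ; exact hwn
      have h1 := Ideal.mem_map_of_mem (restrictNode hmax 0) (Ideal.mul_mem_mul hgm hwm)
      rw [← hw, hh, hT, hE, map_sub, map_mul, restrictNode_br hmax h10, restrictNode_br_self, mul_zero, zero_sub,
        neg_mem_iff, Ideal.map_mul] at h1
      have h2 : (nodeIdeal π).map (restrictNode hmax 0) ≤
          Ideal.span {(MvPowerSeries.X () : MvPowerSeries Unit (IsLocalRing.ResidueField B))} := by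
        rw [nodeIdeal, Ideal.map_span, Set.image_pair, t_eq, e_eq, restrictNode_br_self, restrictNode_br hmax h10]
        exact Ideal.span_le.2 (by
          rintro _ (rfl | rfl)
          · exact Ideal.mem_span_singleton_self _
          · exact zero_mem _)
      have h3 := Ideal.mul_mono h2 h2 h1
      rw [Ideal.span_singleton_mul_span_singleton, Ideal.mem_span_singleton] at h3
      obtain ⟨r, hr⟩ := h3
      have h4 : (1 : MvPowerSeries Unit (IsLocalRing.ResidueField B)) = MvPowerSeries.X () * r :=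
        mul_left_cancel₀ (X_ne_zero' _) (show MvPowerSeries.X () * 1 = MvPowerSeries.X () * (MvPowerSeries.X () * r) by
          linear_combination hr)
      simpa using congrArg MvPowerSeries.constantCoeff h4
    obtain ⟨y, hy⟩ : h ∣ E ^ (2 * n + 1) := by
      obtain ⟨wu, rfl⟩ := hwu
      exact ⟨↑wu⁻¹ * q, by rw [hw, hq]; linear_combination (-g * q) * wu.mul_inv⟩
    obtain ⟨y', rfl⟩ : E ^ (2 * n + 1) ∣ y := by
      rw [hE]
      exact pow_dvd_of_dvd_mul hπ h10 (hE ▸ hEh) _ ⟨1, by rw [← hE, mul_one, ← hy]⟩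
    have hu : IsUnit h := by
      refine IsUnit.of_mul_eq_one y' (sub_eq_zero.1 ?_)
      have hz : E ^ (2 * n + 1) * (h * y' - 1) = 0 := by linear_combination -hy
      exact hcancel (2 * n + 1) _ (hE ▸ hz)
    rw [hw] at hu
    exact hgu (isUnit_of_mul_isUnit_left hu)
  · rw [hI, hpow, hlen]
    congr 1

end Groth.Agent.S15320
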