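import Groth.Statements.S15321
import Groth.Agent.H26Node.Length

set_option autoImplicit false
universe u
open ArLef

namespace Groth.Agent.S15321

/-- In the case of a smooth point with the closed fibre outside the divisorial part, let B be a discrete
valuation ring with uniformizer π and residue field k, B[[t]] the complete local ring of a
semi-stable arithmetic surface over B at a point x where the closed fibre is smooth, and σ a ring
automorphism of B[[t]] over an automorphism τ of B with v(τ(π) - π) = j ≥ 1, that is σ(π) = π + γ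
π^j with γ a unit, and σ(b) - b ∈ π^j B[[t]] for all b ∈ B (automatic for B totally ramified over
the fixed ring of τ, as in the published setting). If π does not divide f = σ(t) - t (the closed
fibre is not in the divisorial part of the fixed locus near x), then the length of B[[t]] modulo the
fixed-point ideal of σ is j m, where m, the length of k[[t]]/(f mod π), is the multiplicity of x as
a fixed point of σ on the closed fibre. -/
theorem result (B : Type u) [CommRing B] [IsDomain B] [IsDiscreteValuationRing B] (π : B) (hπ : Irreducible π)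
    (j : ℕ) (hj : 1 ≤ j) (γ : B) (hγ : IsUnit γ)
    (σ : PowerSeries B ≃+* PowerSeries B)
    (hσB : ∀ b : B, σ (algebraMap B (PowerSeries B) b) - algebraMap B (PowerSeries B) b ∈
      Ideal.span ({algebraMap B (PowerSeries B) (π ^ j)} : Set (PowerSeries B)))
    (hσπ : σ (algebraMap B (PowerSeries B) π) = algebraMap B (PowerSeries B) (π + γ * π ^ j))
    (h0 : ¬ (algebraMap B (PowerSeries B) π ∣ σ PowerSeries.X - PowerSeries.X)) :
    Module.length (PowerSeries B) (PowerSeries B ⧸ ArLef.fixIdeal σ) =
      (j : ℕ∞) * Module.length (PowerSeries (IsLocalRing.ResidueField B)) (PowerSeries (IsLocalRing.ResidueField B) ⧸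
        Ideal.span ({PowerSeries.map (IsLocalRing.residue B) (σ PowerSeries.X - PowerSeries.X)} : Set (PowerSeries (IsLocalRing.ResidueField B)))) := by
  classical
  open Groth.Agent.H26Node in
  obtain ⟨p, hp⟩ : ∃ p, p = algebraMap B (PowerSeries B) π := ⟨_, rfl⟩
  obtain ⟨f, hf⟩ : ∃ f, f = σ PowerSeries.X - PowerSeries.X := ⟨_, rfl⟩
  rw [← hp, ← hf] at h0
  rw [← hf]
  have hI : ArLef.fixIdeal σ = Ideal.span {p ^ j, f} := by
    refine le_antisymm (Ideal.span_le.2 ?_) (Ideal.span_le.2 ?_)
    · rintro _ ⟨r, rfl⟩
      refine sub_mem_gen (Ideal.span {(PowerSeries.X : PowerSeries B)}) (Ideal.span_le.2 ?_)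
        {(PowerSeries.X : PowerSeries B)} rfl (Set.range (algebraMap B (PowerSeries B))) (fun r => ?_)
        (σ : PowerSeries B →+* PowerSeries B) _ ?_ ?_ r
      · rintro _ rfl
        rw [SetLike.mem_coe, IsLocalRing.mem_maximalIdeal, mem_nonunits_iff, PowerSeries.isUnit_iff_constantCoeff]
        simp
      · refine ⟨_, ⟨PowerSeries.constantCoeff r, rfl⟩, Ideal.mem_span_singleton.2 (PowerSeries.X_dvd_iff.2 ?_)⟩
        simp [PowerSeries.algebraMap_apply]
      · rintro _ ⟨b, rfl⟩
        refine Ideal.span_le.2 ?_ (hσB b)
        rintro _ rfl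
        exact Ideal.subset_span (Or.inl (by rw [map_pow, hp]))
      · rintro _ rfl
        exact Ideal.subset_span (Or.inr hf.symm)
    · rintro _ (rfl | rfl)
      · have h1 : (σ : PowerSeries B → PowerSeries B) (algebraMap B _ π) - algebraMap B _ π ∈ ArLef.fixIdeal σ :=
          mem_fixIdeal _
        rw [hσπ, map_add, add_sub_cancel_left, map_mul, map_pow, ← hp] at h1
        obtain ⟨g, hg⟩ := (hγ.map (algebraMap B (PowerSeries B)))
        have h2 := Ideal.mul_mem_left _ (↑g⁻¹ : PowerSeries B) h1
        rwa [← mul_assoc, ← hg, Units.inv_mul, one_mul] at h2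
      · rw [hf]; exact mem_fixIdeal _
  have hp0 : p ≠ 0 := by
    rw [hp]; intro h
    have := congrArg PowerSeries.constantCoeff h
    simp [PowerSeries.algebraMap_apply, hπ.ne_zero] at this
  have hprime : Prime p := by
    have hk : RingHom.ker (PowerSeries.map (IsLocalRing.residue B)) = Ideal.span {p} := by
      ext g
      rw [RingHom.mem_ker, Ideal.mem_span_singleton, hp, PowerSeries.algebraMap_apply, Algebra.algebraMap_self,
        RingHom.id_apply]
      constructor
      · intro hg
        have hd : ∀ n, π ∣ PowerSeries.coeff n g := fun n => by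
          have := congrArg (PowerSeries.coeff n) hg
          rwa [PowerSeries.coeff_map, map_zero, IsLocalRing.residue_eq_zero_iff, hπ.maximalIdeal_eq,
            Ideal.mem_span_singleton] at this
        choose c hc using hd
        exact ⟨PowerSeries.mk c, PowerSeries.ext fun n => by rw [PowerSeries.coeff_C_mul, PowerSeries.coeff_mk, hc]⟩
      · rintro ⟨g', rfl⟩
        rw [map_mul, PowerSeries.map_C, (IsLocalRing.residue_eq_zero_iff π).2 hπ.not_isUnit, map_zero, zero_mul]
    rw [← Ideal.span_singleton_prime hp0, ← hk]
    exact RingHom.ker_isPrime _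
  have hstep : ∀ n : ℕ, Module.length (PowerSeries B) (PowerSeries B ⧸ Ideal.span {p ^ n, f}) =
      (n : ℕ∞) * Module.length (PowerSeries B) (PowerSeries B ⧸ Ideal.span {p, f}) := by
    intro n
    induction n with
    | zero =>
      have : Ideal.span {p ^ 0, f} = ⊤ := Ideal.eq_top_of_isUnit_mem _ (Ideal.subset_span (Or.inl rfl)) (by simp)
      haveI : Subsingleton (PowerSeries B ⧸ Ideal.span {p ^ 0, f}) := Ideal.Quotient.subsingleton_iff.2 this
      rw [Module.length_eq_zero, Nat.cast_zero, zero_mul]
    | succ n ih =>
      rw [length_step (Ideal.span {p ^ (n + 1), f}) (Ideal.span {p, f}) (p ^ n) (fun y => ?_)]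
      · have : Ideal.span {p ^ (n + 1), f} ⊔ Ideal.span {p ^ n} = Ideal.span {p ^ n, f} := by
          refine le_antisymm (sup_le (Ideal.span_le.2 ?_) (Ideal.span_mono (by intro z hz; exact Or.inl hz))) (Ideal.span_le.2 ?_)
          · rintro _ (rfl | rfl)
            · rw [pow_succ]; exact Ideal.mul_mem_right _ _ (Ideal.subset_span (Or.inl rfl))
            · exact Ideal.subset_span (Or.inr rfl)
          · rintro _ (rfl | rfl)
            · exact Ideal.mem_sup_right (Ideal.mem_span_singleton_self _)
            · exact Ideal.mem_sup_left (Ideal.subset_span (Or.inr rfl))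
        rw [this, ih]; push_cast; ring
      · rw [Ideal.mem_span_pair, Ideal.mem_span_pair]
        constructor
        · rintro ⟨u, v, huv⟩
          obtain ⟨v', rfl⟩ := hprime.pow_dvd_of_dvd_mul_right n h0 (a := v)
            (⟨y - u * p, by linear_combination huv⟩)
          exact ⟨u, v', mul_left_cancel₀ (pow_ne_zero n hp0) (by linear_combination huv)⟩
        · rintro ⟨u, v, rfl⟩
          exact ⟨u, p ^ n * v, by ring⟩
  rw [hI, hstep]
  congr 1
  let φ := PowerSeries.map (IsLocalRing.residue B)
  have hφ : Function.Surjective φ := PowerSeries.map_surjective _ IsLocalRing.residue_surjective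
  letI := φ.toAlgebra
  have hker : ∀ g, φ g ∈ Ideal.span {φ f} ↔ g ∈ Ideal.span {p, f} := by
    intro g
    have hpφ : φ p = 0 := by
      rw [hp, PowerSeries.algebraMap_apply, Algebra.algebraMap_self, RingHom.id_apply, PowerSeries.map_C,
        (IsLocalRing.residue_eq_zero_iff π).2 hπ.not_isUnit, map_zero]
    constructor
    · intro hg
      rw [← Set.image_singleton, ← Ideal.map_span, Ideal.mem_map_iff_of_surjective _ hφ] at hg
      obtain ⟨a, ha, hga⟩ := hg
      have hd : ∀ n, π ∣ PowerSeries.coeff n (g - a) := fun n => by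
        have := congrArg (PowerSeries.coeff n) (show φ (g - a) = 0 by rw [map_sub, hga, sub_self])
        rwa [PowerSeries.coeff_map, map_zero, IsLocalRing.residue_eq_zero_iff, hπ.maximalIdeal_eq,
          Ideal.mem_span_singleton] at this
      choose c hc using hd
      rw [show g = p * PowerSeries.mk c + a by
        rw [← sub_eq_iff_eq_add]
        exact PowerSeries.ext fun n => by
          rw [hp, PowerSeries.algebraMap_apply, Algebra.algebraMap_self, RingHom.id_apply, PowerSeries.coeff_C_mul,
            PowerSeries.coeff_mk, hc]]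
      exact add_mem (Ideal.mul_mem_right _ _ (Ideal.subset_span (Or.inl rfl)))
        (Ideal.span_le.2 (by rintro _ rfl; exact Ideal.subset_span (Or.inr rfl)) ha)
    · intro hg
      obtain ⟨u, v, rfl⟩ := Ideal.mem_span_pair.1 hg
      rw [map_add, map_mul, map_mul, hpφ, mul_zero, zero_add]
      exact Ideal.mul_mem_left _ _ (Ideal.mem_span_singleton_self _)
  let K := Ideal.span ({φ f} : Set (PowerSeries (IsLocalRing.ResidueField B)))
  let g : PowerSeries B →ₗ[PowerSeries B] PowerSeries (IsLocalRing.ResidueField B) ⧸ K :=
    ((Ideal.Quotient.mkₐ (PowerSeries B) K).toLinearMap).comp (Algebra.linearMap (PowerSeries B) _)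
  have hgs : Function.Surjective g := fun z => by
    obtain ⟨z, rfl⟩ := Ideal.Quotient.mk_surjective z
    obtain ⟨w, rfl⟩ := hφ z
    exact ⟨w, rfl⟩
  have hgk : LinearMap.ker g = Ideal.span {p, f} := by
    ext z
    exact Ideal.Quotient.eq_zero_iff_mem.trans (hker z)
  rw [← hgk, (g.quotKerEquivOfSurjective hgs).length_eq]
  exact Module.length_eq_of_surjective hφ

end Groth.Agent.S15321
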