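import Groth.Statements.S15323
import Groth.Agent.H26Node.Length

set_option autoImplicit false
universe u
open ArLef ArLef.NodeAlg

namespace Groth.Agent.S15323

/-- In the cases where the branches through the point do not lie in the divisorial part of the fixed
locus, let B be a discrete valuation ring with uniformizer π, N = B[[t, e]]/(te - π) the complete
local ring of a semi-stable arithmetic surface over B at a singular point x of the closed fibre, and
σ a ring automorphism of N with σ(π) = π + γ π^j (γ a unit of B, j ≥ 1) and σ(b) - b ∈ π^j N for all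
b ∈ B (σ lies over an automorphism τ of B with v(τ(π) - π) = j, B totally ramified over the fixed
ring as in the published setting). Suppose σ fixes the branches, σ(t) = α t and σ(e) = β e with
units α, β, and that t does not divide β - 1 and e does not divide α - 1. Then the length of N
modulo the fixed-point ideal of σ (the multiplicity of x in the residual fixed-point scheme) is j
(s₁ + s₂) + 1, where s₁ = length N/(t, β - 1) and s₂ = length N/(e, α - 1) are the fixed-point
multiplicities of σ at x along the two branches, each lowered by one. -/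
theorem result (B : Type u) [CommRing B] [IsDomain B] [IsDiscreteValuationRing B] (π : B) (hπ : Irreducible π)
    (j : ℕ) (hj : 1 ≤ j) (γ : B) (hγ : IsUnit γ)
    (σ : ArLef.NodeAlg B π ≃+* ArLef.NodeAlg B π)
    (hσB : ∀ b : B, σ (algebraMap B (ArLef.NodeAlg B π) b) - algebraMap B (ArLef.NodeAlg B π) b ∈
      Ideal.span ({algebraMap B (ArLef.NodeAlg B π) (π ^ j)} : Set (ArLef.NodeAlg B π)))
    (hσπ : σ (algebraMap B (ArLef.NodeAlg B π) π) = algebraMap B (ArLef.NodeAlg B π) (π + γ * π ^ j))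
    (α β : (ArLef.NodeAlg B π)ˣ) (ht : σ (ArLef.NodeAlg.t π) = (α : ArLef.NodeAlg B π) * ArLef.NodeAlg.t π) (he : σ (ArLef.NodeAlg.e π) = (β : ArLef.NodeAlg B π) * ArLef.NodeAlg.e π)
    (htb : ¬ (ArLef.NodeAlg.t π ∣ (β : ArLef.NodeAlg B π) - 1)) (hea : ¬ (ArLef.NodeAlg.e π ∣ (α : ArLef.NodeAlg B π) - 1)) :
    Module.length (ArLef.NodeAlg B π) (ArLef.NodeAlg B π ⧸ ArLef.fixIdeal σ) =
      (j : ℕ∞) * (Module.length (ArLef.NodeAlg B π) (ArLef.NodeAlg B π ⧸ Ideal.span ({ArLef.NodeAlg.t π, (β : ArLef.NodeAlg B π) - 1} : Set (ArLef.NodeAlg B π))) +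
        Module.length (ArLef.NodeAlg B π) (ArLef.NodeAlg B π ⧸ Ideal.span ({ArLef.NodeAlg.e π, (α : ArLef.NodeAlg B π) - 1} : Set (ArLef.NodeAlg B π)))) + 1 := by
  classical
  open Groth.Agent.H26Node in
  have hmax := hπ.maximalIdeal_eq
  have h01 : (0 : Fin 2) ≠ 1 := by decide
  have h10 : (1 : Fin 2) ≠ 0 := by decide
  letI := isLocalRing hmax
  rw [t_eq, e_eq] at *
  obtain ⟨T, hT⟩ : ∃ T, T = br π 0 := ⟨_, rfl⟩
  obtain ⟨E, hE⟩ : ∃ E, E = br π 1 := ⟨_, rfl⟩
  obtain ⟨a, ha⟩ : ∃ a, a = (α : ArLef.NodeAlg B π) - 1 := ⟨_, rfl⟩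
  obtain ⟨c, hc⟩ : ∃ c, c = (β : ArLef.NodeAlg B π) - 1 := ⟨_, rfl⟩
  obtain ⟨P, hP⟩ : ∃ P, P = algebraMap B (ArLef.NodeAlg B π) π := ⟨_, rfl⟩
  obtain ⟨G, hG⟩ : ∃ G, G = algebraMap B (ArLef.NodeAlg B π) γ := ⟨_, rfl⟩
  have hGu : IsUnit G := hG ▸ hγ.map _
  have hte : T * E = P := hT ▸ hE ▸ hP ▸ br_mul_br π h01
  rw [← hT] at ht htb
  rw [← hE] at he hea
  rw [← ha] at hea
  rw [← hc] at htb
  rw [← hT, ← hE, ← ha, ← hc]
  obtain ⟨n, rfl⟩ : ∃ n, j = n + 1 := ⟨j - 1, by omega⟩
  have hrel : (1 + a) * (1 + c) = 1 + G * P ^ n := by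
    have h : σ T * σ E = P + G * P ^ (n + 1) := by rw [← map_mul, hte, hP, hσπ, map_add, map_mul, map_pow, hG]
    rw [ht, he] at h
    refine sub_eq_zero.1 (e_regular hπ.ne_zero (t_regular hπ.ne_zero ?_))
    rw [t_eq, e_eq, ← hT, ← hE, ha, hc]
    linear_combination h + (-1 - G * P ^ n) * hte
  have hσT : σ T - T = T * a := by rw [ht, ha]; ring
  have hσE : σ E - E = E * c := by rw [he, hc]; ring
  have hI : ArLef.fixIdeal σ = Ideal.span {P ^ (n + 1), T * a, E * c} := by
    refine le_antisymm ?_ (Ideal.span_le.2 ?_)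
    · refine fixIdeal_le hmax (σ : ArLef.NodeAlg B π →+* ArLef.NodeAlg B π) _ (fun b => ?_) ?_ ?_
      · refine (Ideal.span_le.2 ?_) (hσB b)
        rintro _ rfl
        rw [map_pow, ← hP]
        exact Ideal.subset_span (Or.inl rfl)
      · rw [t_eq, ← hT]
        show σ T - T ∈ _
        rw [hσT]; exact Ideal.subset_span (Or.inr (Or.inl rfl))
      · rw [e_eq, ← hE]
        show σ E - E ∈ _
        rw [hσE]; exact Ideal.subset_span (Or.inr (Or.inr rfl))
    · rintro _ (rfl | rfl | rfl)
      · have h1 : σ P - P ∈ ArLef.fixIdeal σ := mem_fixIdeal _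
        rw [hP, hσπ, map_add, add_sub_cancel_left, map_mul, map_pow, ← hG, ← hP] at h1
        obtain ⟨g, hg⟩ := hGu
        have h2 := Ideal.mul_mem_left _ (↑g⁻¹ : ArLef.NodeAlg B π) h1
        rwa [← mul_assoc, ← hg, Units.inv_mul, one_mul] at h2
      · rw [← hσT]; exact mem_fixIdeal _
      · rw [← hσE]; exact mem_fixIdeal _
  obtain ⟨s₁, hs₁⟩ : ∃ s, s = Module.length (ArLef.NodeAlg B π) (ArLef.NodeAlg B π ⧸ Ideal.span {T, c}) := ⟨_, rfl⟩
  obtain ⟨s₂, hs₂⟩ : ∃ s, s = Module.length (ArLef.NodeAlg B π) (ArLef.NodeAlg B π ⧸ Ideal.span {E, a}) := ⟨_, rfl⟩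
  rw [← hs₁, ← hs₂, hI]
  have hdT : ∀ {x y : ArLef.NodeAlg B π}, ¬ T ∣ x → T ∣ x * y → T ∣ y := fun {x y} hx hxy => by
    rw [hT] at *; exact dvd_of_dvd_mul hmax h01 hx hxy
  have hdE : ∀ {x y : ArLef.NodeAlg B π}, ¬ E ∣ x → E ∣ x * y → E ∣ y := fun {x y} hx hxy => by
    rw [hE] at *; exact dvd_of_dvd_mul hmax h10 hx hxy
  have hET : ¬ E ∣ T := by rw [hT, hE]; exact not_br_dvd_br hmax h10
  have hTE : ¬ T ∣ E := by rw [hT, hE]; exact not_br_dvd_br hmax h01
  -- the first layer
  have h1 : Module.length (ArLef.NodeAlg B π) (ArLef.NodeAlg B π ⧸ Ideal.span {P ^ 1, T * a, E * c}) = s₂ + (s₁ + 1) := by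
    rw [length_step _ (Ideal.span {E, a}) T (fun y => ?_)]
    · have hsup : Ideal.span {P ^ 1, T * a, E * c} ⊔ Ideal.span {T} = Ideal.span {br π 0, br π 1 * c} := by
        rw [← hT, ← hE, pow_one, ← hte]
        refine le_antisymm (sup_le (Ideal.span_le.2 ?_) (Ideal.span_mono (by intro z hz; exact Or.inl hz))) (Ideal.span_le.2 ?_)
        · rintro _ (rfl | rfl | rfl)
          · exact Ideal.mul_mem_right _ _ (Ideal.subset_span (Or.inl rfl))
          · exact Ideal.mul_mem_right _ _ (Ideal.subset_span (Or.inl rfl))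
          · exact Ideal.subset_span (Or.inr rfl)
        · rintro _ (rfl | rfl)
          · exact Ideal.mem_sup_right (Ideal.mem_span_singleton_self _)
          · exact Ideal.mem_sup_left (Ideal.subset_span (Or.inr (Or.inr rfl)))
      rw [hsup, length_span_br hmax h01, ← hs₂, hs₁, hT]
    · rw [pow_one, ← hte]
      constructor
      · intro hy
        obtain ⟨u, z, hz, hyz⟩ := Ideal.mem_span_insert.1 hy
        obtain ⟨v, w, hvw⟩ := Ideal.mem_span_pair.1 hz
        obtain ⟨w', rfl⟩ := hdT htb (hdT hTE (⟨y - u * E - v * a, by linear_combination -hyz + (-1) * hvw.symm⟩ :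
          T ∣ E * (c * w)))
        refine Ideal.mem_span_pair.2 ⟨u + c * w', v, sub_eq_zero.1 (t_regular hπ.ne_zero ?_)⟩
        rw [t_eq, ← hT]
        linear_combination -hyz + (-1) * hvw.symm
      · intro hy
        obtain ⟨u, v, rfl⟩ := Ideal.mem_span_pair.1 hy
        rw [show T * (u * E + v * a) = u * (T * E) + v * (T * a) by ring]
        exact add_mem (Ideal.mul_mem_left _ _ (Ideal.subset_span (Or.inl rfl)))
          (Ideal.mul_mem_left _ _ (Ideal.subset_span (Or.inr (Or.inl rfl))))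
  rcases Nat.eq_zero_or_pos n with rfl | hn
  · rw [zero_add, h1]; push_cast; ring
  obtain ⟨m, rfl⟩ : ∃ m, n = m + 1 := ⟨n - 1, by omega⟩
  have hTP : T ∣ P := ⟨E, hte.symm⟩
  have hEP : E ∣ P := ⟨T, by rw [mul_comm]; exact hte.symm⟩
  have hTa : ¬ T ∣ a := fun hd => by
    have h2 : T ∣ c * (1 + a) := by
      have : c * (1 + a) = G * P ^ (m + 1) - a := by linear_combination hrel
      rw [this]; exact dvd_sub ((hTP.trans (dvd_pow_self _ m.succ_ne_zero)).mul_left _) hd
    exact htb ((IsUnit.dvd_mul_right (by rw [ha, add_sub_cancel]; exact α.isUnit)).1 h2)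
  have hTac : Ideal.span {T, a} = Ideal.span {T, c} := by
    refine le_antisymm (Ideal.span_le.2 ?_) (Ideal.span_le.2 ?_)
    · rintro z (hz | hz)
      · exact Ideal.subset_span (Or.inl hz)
      · rw [show z = a from hz, SetLike.mem_coe, Ideal.mem_span_pair]
        exact ⟨G * P ^ m * E, -(1 + a), by linear_combination (G * P ^ m) * hte - hrel⟩
    · rintro z (hz | hz)
      · exact Ideal.subset_span (Or.inl hz)
      · rw [show z = c from hz, SetLike.mem_coe, Ideal.mem_span_pair]
        refine ⟨(↑α⁻¹ : ArLef.NodeAlg B π) * (G * P ^ m * E), -(↑α⁻¹ : ArLef.NodeAlg B π), ?_⟩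
        have h3 : (↑α⁻¹ : ArLef.NodeAlg B π) * (1 + a) = 1 := by rw [ha, add_sub_cancel, Units.inv_mul]
        linear_combination (↑α⁻¹ * G * P ^ m) * hte + (-(↑α⁻¹ : ArLef.NodeAlg B π)) * hrel + c * h3
  have hmid : Module.length (ArLef.NodeAlg B π) (ArLef.NodeAlg B π ⧸ Ideal.span {P, a}) = s₂ + s₁ := by
    rw [length_step _ (Ideal.span {E, a}) T (fun y => ?_)]
    · have hsup : Ideal.span {P, a} ⊔ Ideal.span {T} = Ideal.span {T, a} := by
        refine le_antisymm (sup_le (Ideal.span_le.2 ?_) (Ideal.span_mono (by intro z hz; exact Or.inl hz))) (Ideal.span_le.2 ?_)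
        · rintro _ (rfl | rfl)
          · obtain ⟨q, hq⟩ := hTP
            rw [hq]; exact Ideal.mul_mem_right _ _ (Ideal.subset_span (Or.inl rfl))
          · exact Ideal.subset_span (Or.inr rfl)
        · rintro _ (rfl | rfl)
          · exact Ideal.mem_sup_right (Ideal.mem_span_singleton_self _)
          · exact Ideal.mem_sup_left (Ideal.subset_span (Or.inr rfl))
      rw [hsup, hTac, ← hs₁, ← hs₂]
    · rw [Ideal.mem_span_pair, Ideal.mem_span_pair]
      constructor
      · rintro ⟨u, v, huv⟩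
        obtain ⟨v', rfl⟩ := hdT hTa (⟨y - u * E, by linear_combination huv + u * hte⟩ : T ∣ a * v)
        refine ⟨u, v', sub_eq_zero.1 (t_regular hπ.ne_zero ?_)⟩
        rw [t_eq, ← hT]
        linear_combination huv + u * hte
      · rintro ⟨u, v, rfl⟩
        exact ⟨u, v * T, by linear_combination (-u) * hte⟩
  have hlayer : ∀ l : ℕ, l ≤ m + 1 → Module.length (ArLef.NodeAlg B π)
      (ArLef.NodeAlg B π ⧸ Ideal.span {P ^ (l + 1), T * a, E * c}) = ((l + 1 : ℕ) : ℕ∞) * (s₁ + s₂) + 1 := by
    intro l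
    induction l with
    | zero => intro _; rw [zero_add, h1]; push_cast; ring
    | succ l ih =>
      intro hl
      rw [length_step (Ideal.span {P ^ (l + 1 + 1), T * a, E * c}) (Ideal.span {P, a}) (P ^ (l + 1)) (fun y => ?_)]
      · have hsup : Ideal.span {P ^ (l + 1 + 1), T * a, E * c} ⊔ Ideal.span {P ^ (l + 1)} =
            Ideal.span {P ^ (l + 1), T * a, E * c} := by
          refine le_antisymm (sup_le (Ideal.span_le.2 ?_) (Ideal.span_mono (by intro z hz; exact Or.inl hz))) (Ideal.span_le.2 ?_)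
          · rintro _ (rfl | rfl | rfl)
            · rw [pow_succ _ (l + 1)]; exact Ideal.mul_mem_right _ _ (Ideal.subset_span (Or.inl rfl))
            · exact Ideal.subset_span (Or.inr (Or.inl rfl))
            · exact Ideal.subset_span (Or.inr (Or.inr rfl))
          · rintro _ (rfl | rfl | rfl)
            · exact Ideal.mem_sup_right (Ideal.mem_span_singleton_self _)
            · exact Ideal.mem_sup_left (Ideal.subset_span (Or.inr (Or.inl rfl)))
            · exact Ideal.mem_sup_left (Ideal.subset_span (Or.inr (Or.inr rfl)))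
        rw [hsup, ih (by omega), hmid]; push_cast; ring
      · obtain ⟨e', he'⟩ : ∃ e', m = l + e' := ⟨m - l, by omega⟩
        constructor
        · intro hy
          obtain ⟨z, q, hq, hyq⟩ := Ideal.mem_span_insert.1 hy
          obtain ⟨u, w, huw⟩ := Ideal.mem_span_pair.1 hq
          obtain ⟨w1, rfl⟩ := hdT htb (hdT hTE (⟨E * P ^ l * y - z * E * P ^ (l + 1) - u * a, by
            linear_combination -hyq + (-1) * huw.symm + (P ^ (l + 1) * z - P ^ l * y) * hte⟩ : T ∣ E * (c * w)))
          obtain ⟨u1, rfl⟩ := hdE hea (hdE hET (⟨T * P ^ l * y - z * T * P ^ (l + 1) - T * w1 * c, by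
            linear_combination -hyq + (-1) * huw.symm + (P ^ (l + 1) * z - P ^ l * y) * hte⟩ : E ∣ T * (a * u)))
          have key : P ^ l * y = P ^ (l + 1) * z + a * u1 + c * w1 := by
            refine sub_eq_zero.1 (e_regular hπ.ne_zero (t_regular hπ.ne_zero ?_))
            rw [t_eq, e_eq, ← hT, ← hE]
            linear_combination hyq + huw.symm + (P ^ l * y - P ^ (l + 1) * z) * hte
          obtain ⟨ai, hai⟩ : ∃ ai, ai = (↑α⁻¹ : ArLef.NodeAlg B π) := ⟨_, rfl⟩
          have h3 : ai * (1 + a) = 1 := by rw [hai, ha, add_sub_cancel, Units.inv_mul]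
          have hP' : P ^ (m + 1) = P * P ^ l * P ^ e' := by rw [he']; ring
          obtain ⟨u3, hu3⟩ : P ^ l ∣ u1 - ai * w1 := by
            rw [hP]
            refine pi_pow_dvd_of_dvd_mul hπ (hT ▸ hTa) (hE ▸ hea)
              ⟨y - P * (z + ai * G * P ^ e' * w1), ?_⟩
            rw [← hP]
            linear_combination -key + (c * w1) * h3 - (ai * w1) * hrel +
              (-(ai * G * w1)) * hP'
          refine Ideal.mem_span_pair.2 ⟨z + ai * G * P ^ e' * w1, u3, ?_⟩
          have h4 : P ^ l * ((z + ai * G * P ^ e' * w1) * P + u3 * a - y) = 0 := by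
            linear_combination -key + (-a) * hu3 + (c * w1) * h3 - (ai * w1) * hrel +
              (-(ai * G * w1)) * hP'
          refine sub_eq_zero.1 ?_
          generalize (z + ai * G * P ^ e' * w1) * P + u3 * a - y = d at h4 ⊢
          clear key hu3 hyq huw hy he' hl ih hP'
          induction l with
          | zero => simpa using h4
          | succ l ihl =>
            refine ihl (e_regular hπ.ne_zero (t_regular hπ.ne_zero ?_))
            rw [t_eq, e_eq, ← hT, ← hE]
            linear_combination h4 + (P ^ l * d) * hte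
        · intro hy
          obtain ⟨p, q, rfl⟩ := Ideal.mem_span_pair.1 hy
          rw [show P ^ (l + 1) * (p * P + q * a) = p * P ^ (l + 1 + 1) + (E * P ^ l * q) * (T * a) by
            linear_combination (-(P ^ l * q * a)) * hte]
          exact add_mem (Ideal.mul_mem_left _ _ (Ideal.subset_span (Or.inl rfl)))
            (Ideal.mul_mem_left _ _ (Ideal.subset_span (Or.inr (Or.inl rfl))))
  rw [hlayer (m + 1) le_rfl]

end Groth.Agent.S15323
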