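import Groth.Statements.S15325
import Groth.Agent.H26Node.Length

set_option autoImplicit false
universe u
open ArLef ArLef.NodeAlg

namespace Groth.Agent.S15325

/-- Let k be a field, A = k[[t, e]]/(te) the complete local ring of a nodal curve at a node x, and σ a
k-algebra automorphism of A fixing the two branches, σ(t) = α t and σ(e) = β e with units α, β.
Writing I for the fixed-point ideal of σ (generated by all σ(r) - r), the fixed-point multiplicity
length(A/I) of σ at x and the fixed-point multiplicities length(A/(I + (t))), length(A/(I + (e))) of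
the automorphisms induced on the two branches satisfy length(A/I) + 1 = length(A/(I + (t))) +
length(A/(I + (e))), as extended natural numbers (both sides are infinite when σ fixes a branch
pointwise). (The published setting has k algebraically closed.) -/
theorem result (k : Type u) [Field k]
    (σ : ArLef.NodeAlg k 0 ≃ₐ[k] ArLef.NodeAlg k 0) (α β : (ArLef.NodeAlg k 0)ˣ)
    (ht : σ (ArLef.NodeAlg.t (0 : k)) = (α : ArLef.NodeAlg k 0) * ArLef.NodeAlg.t (0 : k)) (he : σ (ArLef.NodeAlg.e (0 : k)) = (β : ArLef.NodeAlg k 0) * ArLef.NodeAlg.e (0 : k)) :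
    Module.length (ArLef.NodeAlg k 0) (ArLef.NodeAlg k 0 ⧸ ArLef.fixIdeal σ) + 1 =
      Module.length (ArLef.NodeAlg k 0) (ArLef.NodeAlg k 0 ⧸ (ArLef.fixIdeal σ ⊔ Ideal.span ({ArLef.NodeAlg.t (0 : k)} : Set (ArLef.NodeAlg k 0)))) +
        Module.length (ArLef.NodeAlg k 0) (ArLef.NodeAlg k 0 ⧸ (ArLef.fixIdeal σ ⊔ Ideal.span ({ArLef.NodeAlg.e (0 : k)} : Set (ArLef.NodeAlg k 0)))) := by
  open Groth.Agent.H26Node in
  have hmax : IsLocalRing.maximalIdeal k = Ideal.span {(0 : k)} := by
    rw [Ideal.span_singleton_zero]; exact IsLocalRing.maximalIdeal_eq_bot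
  have h01 : (0 : Fin 2) ≠ 1 := by decide
  have h10 : (1 : Fin 2) ≠ 0 := by decide
  rw [t_eq, e_eq] at *
  obtain ⟨a, ha⟩ : ∃ a, a = (α : ArLef.NodeAlg k 0) - 1 := ⟨_, rfl⟩
  obtain ⟨c, hc⟩ : ∃ c, c = (β : ArLef.NodeAlg k 0) - 1 := ⟨_, rfl⟩
  have hte : br (0 : k) 0 * br (0 : k) 1 = 0 := by rw [br_mul_br _ h01, map_zero]
  have hI : ArLef.fixIdeal σ = Ideal.span {br (0 : k) 0 * a, br (0 : k) 1 * c} := by
    refine le_antisymm (fixIdeal_le hmax (σ : ArLef.NodeAlg k 0 →+* ArLef.NodeAlg k 0) _ (fun b => ?_) ?_ ?_)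
      (Ideal.span_le.2 ?_)
    · show σ _ - _ ∈ _
      rw [σ.commutes, sub_self]; exact zero_mem _
    · refine Ideal.subset_span (Or.inl ?_)
      show σ (br (0 : k) 0) - br (0 : k) 0 = _
      rw [ht, ha]; ring
    · refine Ideal.subset_span (Or.inr ?_)
      show σ (br (0 : k) 1) - br (0 : k) 1 = _
      rw [he, hc]; ring
    · rintro _ (rfl | rfl)
      · rw [show br (0 : k) 0 * a = σ (br (0 : k) 0) - br (0 : k) 0 by rw [ht, ha]; ring]
        exact mem_fixIdeal _
      · rw [show br (0 : k) 1 * c = σ (br (0 : k) 1) - br (0 : k) 1 by rw [he, hc]; ring]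
        exact mem_fixIdeal _
  have hP : ArLef.fixIdeal σ ⊔ Ideal.span {br (0 : k) 0} = Ideal.span {br (0 : k) 0, br (0 : k) 1 * c} := by
    rw [hI, ← Ideal.span_union]
    refine le_antisymm (Ideal.span_le.2 ?_) (Ideal.span_mono (by intro z hz; aesop))
    rintro _ ((rfl | rfl) | rfl)
    · exact Ideal.mul_mem_right _ _ (Ideal.subset_span (Set.mem_insert _ _))
    · exact Ideal.subset_span (Set.mem_insert_of_mem _ rfl)
    · exact Ideal.subset_span (Set.mem_insert _ _)
  have hQ : ArLef.fixIdeal σ ⊔ Ideal.span {br (0 : k) 1} = Ideal.span {br (0 : k) 1, br (0 : k) 0 * a} := by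
    rw [hI, ← Ideal.span_union]
    refine le_antisymm (Ideal.span_le.2 ?_) (Ideal.span_mono (by intro z hz; aesop))
    rintro _ ((rfl | rfl) | rfl)
    · exact Ideal.subset_span (Set.mem_insert_of_mem _ rfl)
    · exact Ideal.mul_mem_right _ _ (Ideal.subset_span (Set.mem_insert _ _))
    · exact Ideal.subset_span (Set.mem_insert _ _)
  rw [length_step (ArLef.fixIdeal σ) (Ideal.span {br (0 : k) 1, a}) (br (0 : k) 0) (fun y => ?_), hP, hQ,
    length_span_br hmax h10 (a := a)]
  · ring
  · rw [hI, Ideal.mem_span_pair, Ideal.mem_span_pair]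
    constructor
    · rintro ⟨u, v, huv⟩
      have h1 : br (0 : k) 1 ∣ br (0 : k) 0 * (y - u * a) := ⟨v * c, by linear_combination -huv⟩
      obtain ⟨q, hq⟩ := dvd_of_dvd_mul hmax h10 (not_br_dvd_br hmax h10) h1
      exact ⟨q, u, by linear_combination -hq⟩
    · rintro ⟨u, v, rfl⟩
      exact ⟨v, 0, by linear_combination -u * hte⟩

end Groth.Agent.S15325
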