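import Groth.Statements.S15327
import Mathlib.LinearAlgebra.Matrix.NonsingularInverse
import Mathlib.LinearAlgebra.Matrix.ToLinearEquiv
import Mathlib.Algebra.BigOperators.Ring.Finset
import Mathlib.Algebra.Order.BigOperators.Ring.Finset
import Mathlib.Tactic

set_option autoImplicit false
open ArLef ArLef.BlowupGraph

namespace Groth.Agent.S15327

/-- The incidence matrix `[p ∈ par m]`. -/
def inc {n : ℕ} (G : BlowupGraph n) : Matrix (Fin n) (Fin n) ℚ :=
  fun p m => if p ∈ G.par m then 1 else 0

theorem tt_rec {n : ℕ} (G : BlowupGraph n) (k m : Fin n) :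
    (G.tt k m : ℚ) = (if k = m then 1 else 0) + ∑ p, (G.tt k p : ℚ) * inc G p m := by
  classical
  have hsum : ∑ p, (G.tt k p : ℚ) * inc G p m = ∑ p ∈ G.par m, (G.tt k p : ℚ) := by
    simp [inc, mul_ite, Finset.sum_ite_mem]
  rw [hsum]
  rcases lt_trichotomy (m : ℕ) (k : ℕ) with h | h | h
  · rw [if_neg (fun e => by rw [e] at h; exact lt_irrefl _ h), zero_add]
    rw [show G.tt k m = 0 by rw [tt, ttN, if_pos h], Int.cast_zero]
    refine (Finset.sum_eq_zero fun p hp => ?_).symm
    have hp' : (p : ℕ) < m := G.par_lt m p hp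
    rw [show G.tt k p = 0 by rw [tt, ttN, if_pos (by omega)], Int.cast_zero]
  · obtain rfl : m = k := Fin.ext h
    rw [if_pos rfl, show G.tt m m = 1 by rw [tt, ttN, if_neg (lt_irrefl _), if_pos rfl], Int.cast_one]
    rw [Finset.sum_eq_zero fun p hp => ?_, add_zero]
    have hp' : (p : ℕ) < m := G.par_lt m p hp
    rw [show G.tt m p = 0 by rw [tt, ttN, if_pos (by omega)], Int.cast_zero]
  · rw [if_neg (fun e => by rw [e] at h; exact lt_irrefl _ h), zero_add]
    conv_lhs => rw [tt, ttN, if_neg (by omega), if_neg (by omega), Finset.sum_attach _ (fun p => G.ttN k p)]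
    rw [parN, dif_pos m.2, Finset.sum_map]
    push_cast
    rfl

theorem card_both {n : ℕ} (G : BlowupGraph n) {p q : Fin n} (hpq : p < q) :
    ((Finset.univ.filter fun m => p ∈ G.par m ∧ q ∈ G.par m).card : ℚ) =
      (if p ∈ G.par q then 1 else 0) - (if G.Adj p q then 1 else 0) := by
  classical
  have hqp : q ∉ G.par p := fun h => absurd (G.par_lt p q h) (not_lt.mpr hpq.le)
  have hset : ∀ m, p ∈ G.par m → q ∈ G.par m → G.par m = {p, q} := by
    intro m h1 h2
    refine (Finset.eq_of_subset_of_card_le (by simp [Finset.insert_subset_iff, h1, h2]) ?_).symm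
    rw [Finset.card_pair hpq.ne]
    exact G.card_le_two m
  by_cases hp : p ∈ G.par q
  · by_cases hadj : G.Adj p q
    · rw [if_pos hp, if_pos hadj, sub_self, Nat.cast_eq_zero, Finset.card_eq_zero]
      refine Finset.filter_eq_empty_iff.mpr fun m _ ⟨h1, h2⟩ => ?_
      rcases hadj with ⟨-, h⟩ | ⟨h, -⟩
      · exact h m (G.par_lt m q h2) (hset m h1 h2)
      · exact hqp h
    · rw [if_pos hp, if_neg hadj, sub_zero, Nat.cast_eq_one, Finset.card_eq_one]
      obtain ⟨m, hm, hme⟩ : ∃ m, q < m ∧ G.par m = {p, q} := by
        by_contra h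
        push Not at h
        exact hadj (Or.inl ⟨hp, h⟩)
      refine ⟨m, Finset.eq_singleton_iff_unique_mem.mpr ⟨by simp [hme], fun m' hm' => ?_⟩⟩
      simp only [Finset.mem_filter, Finset.mem_univ, true_and] at hm'
      have hm'q := G.par_lt m' q hm'.2
      rcases lt_trichotomy m m' with h | h | h
      · exact absurd hme ((G.meet_of_two m' p q hm'.1 hm'.2 hpq).2 m hm h)
      · exact h.symm
      · exact absurd (hset m' hm'.1 hm'.2) ((G.meet_of_two m p q (by simp [hme]) (by simp [hme]) hpq).2 m' hm'q h)
  · have hadj : ¬ G.Adj p q := fun h => h.elim (fun h => hp h.1) (fun h => hqp h.1)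
    rw [if_neg hp, if_neg hadj, sub_zero, Nat.cast_eq_zero, Finset.card_eq_zero]
    exact Finset.filter_eq_empty_iff.mpr fun m _ ⟨h1, h2⟩ => hp (G.meet_of_two m p q h1 h2 hpq).1

theorem mat_eq {n : ℕ} (G : BlowupGraph n) :
    G.mat = -((1 - inc G) * (1 - inc G).transpose) := by
  classical
  ext p q
  have hprod : (inc G * (inc G).transpose) p q =
      ((Finset.univ.filter fun m => p ∈ G.par m ∧ q ∈ G.par m).card : ℚ) := by
    simp [Matrix.mul_apply, inc, ← ite_and, Finset.sum_boole, and_comm]
  simp only [Matrix.transpose_sub, Matrix.transpose_one, sub_mul, mul_sub, one_mul, mul_one,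
    Matrix.neg_apply, Matrix.sub_apply, hprod, Matrix.transpose_apply]
  rcases lt_trichotomy p q with h | h | h
  · rw [card_both G h, mat, if_neg h.ne, Matrix.one_apply_ne h.ne]
    have : q ∉ G.par p := fun h' => absurd (G.par_lt p q h') (not_lt.mpr h.le)
    simp [inc, this]
  · subst h
    have : p ∉ G.par p := fun h' => lt_irrefl _ (G.par_lt p p h')
    simp [mat, inc, this, selfInt]
    ring
  · have e : (Finset.univ.filter fun m => p ∈ G.par m ∧ q ∈ G.par m) =
        Finset.univ.filter fun m => q ∈ G.par m ∧ p ∈ G.par m := by ext; simp [and_comm]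
    rw [e, card_both G h, mat, if_neg h.ne', Matrix.one_apply_ne h.ne']
    have : p ∉ G.par q := fun h' => absurd (G.par_lt q p h') (not_lt.mpr h.le)
    have hsym : G.Adj p q ↔ G.Adj q p := ⟨Or.symm, Or.symm⟩
    simp [inc, this, hsym]

/-- Let Φ be the labelled dual graph of the exceptional curves of n successive blow-ups of closed points
starting from a regular surface with algebraically closed residue fields (vertices = exceptional
curves in order of creation, labels = intersection numbers), I any set of vertices (the curves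
contracted to a normal surface) and σ a permutation of the vertices preserving all intersection
numbers and the set I. Let e_{ij} be the multiplicity of E_i × E_j in the fibre square of the
composite blow-down (the sum over k of c^k_i c^k_j, c^k the total transform of the k-th exceptional
curve) and (E_i · E_j)_I Mumford's rational intersection number of the images after contracting I.
Then the sum over i, j outside I of e_{ij} (σ E_i · E_j)_I equals minus the number of σ-fixed
vertices outside I. (Stated for the dual graphs realized with all residue fields equal to the base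
field, which is the case the published argument realizes geometrically.) -/
theorem result (n : ℕ) (G : ArLef.BlowupGraph n) (I : Finset (Fin n))
    (σ : Equiv.Perm (Fin n)) (hσ : ∀ i j : Fin n, G.mat (σ i) (σ j) = G.mat i j)
    (hσI : ∀ i : Fin n, σ i ∈ I ↔ i ∈ I) :
    G.lNum I σ = ArLef.BlowupGraph.rNum I σ := by
  classical
  set C : Matrix (Fin n) (Fin n) ℚ := fun k m => (G.tt k m : ℚ) with hC
  set D : Matrix (Fin n) (Fin n) ℚ := 1 - inc G with hD
  have hCD : C * D = 1 := by
    ext k m
    rw [hD, mul_sub, mul_one, Matrix.sub_apply, Matrix.mul_apply, sub_eq_iff_eq_add, Matrix.one_apply]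
    exact tt_rec G k m
  have hDC : D * C = 1 := mul_eq_one_comm.mp hCD
  set Q : Matrix (Fin n) (Fin n) ℚ := C.transpose * C with hQ
  have hM : G.mat = -(D * D.transpose) := mat_eq G
  have hMQ : G.mat * Q = -1 := by
    rw [hM, hQ, neg_mul, mul_assoc, ← mul_assoc D.transpose, ← Matrix.transpose_mul, hCD, Matrix.transpose_one,
      one_mul, hDC]
  set A : Matrix I I ℚ := G.mat.submatrix (fun x : I => x.1) (fun x : I => x.1) with hA
  have hAu : IsUnit A.det := by
    rw [isUnit_iff_ne_zero]
    intro h0
    obtain ⟨x, hx, hAx⟩ := Matrix.exists_mulVec_eq_zero_iff.mpr h0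
    let y : Fin n → ℚ := fun i => if h : i ∈ I then x ⟨i, h⟩ else 0
    have hy0 : ∑ i, ∑ j, y i * G.mat i j * y j = 0 := by
      have e : ∀ i : I, ∑ j, y i * G.mat i j * y j = 0 := by
        intro i
        rw [← Finset.sum_subset (Finset.subset_univ I) (fun j _ hj => by simp [y, hj]), ← Finset.sum_coe_sort]
        have := congrFun hAx i
        simp only [Matrix.mulVec, dotProduct, hA, Matrix.submatrix_apply, Pi.zero_apply] at this
        have e2 : ∀ j : I, y i * G.mat i j * y j = y i * (G.mat i j * x j) := fun j => by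
          simp [y, j.2, mul_assoc]
        rw [Finset.sum_congr rfl fun j _ => e2 j, ← Finset.mul_sum, this, mul_zero]
      rw [← Finset.sum_subset (Finset.subset_univ I) (fun i _ hi => by simp [y, hi]), ← Finset.sum_coe_sort]
      exact Finset.sum_eq_zero fun i _ => e i
    have hsq : ∑ l, (∑ i, y i * D i l) ^ 2 = 0 := by
      have : ∑ l, (∑ i, y i * D i l) ^ 2 = -∑ i, ∑ j, y i * G.mat i j * y j := by
        simp only [hM, Matrix.neg_apply, Matrix.mul_apply, Matrix.transpose_apply, pow_two, Finset.sum_mul_sum,
          mul_neg, neg_mul, Finset.sum_neg_distrib, neg_neg, Finset.mul_sum, Finset.sum_mul]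
        rw [Finset.sum_comm]
        refine Finset.sum_congr rfl fun i _ => ?_
        rw [Finset.sum_comm]
        refine Finset.sum_congr rfl fun j _ => Finset.sum_congr rfl fun l _ => ?_
        ring
      rw [this, hy0, neg_zero]
    have hzero : Matrix.vecMul y D = 0 := funext fun l => by
      have := (Finset.sum_eq_zero_iff_of_nonneg fun l _ => sq_nonneg _).mp hsq l (Finset.mem_univ _)
      simpa [Matrix.vecMul, dotProduct] using this
    have hy : y = 0 := by
      calc y = Matrix.vecMul y (D * C) := by rw [hDC, Matrix.vecMul_one]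
        _ = 0 := by rw [← Matrix.vecMul_vecMul, hzero, Matrix.zero_vecMul]
    apply hx
    funext i
    have := congrFun hy i
    simpa [y, i.2] using this
  set O := Finset.univ.filter (fun i => i ∉ I) with hO
  have hsplit : ∀ f : Fin n → ℚ, ∑ j, f j = ∑ j ∈ O, f j + ∑ a : I, f a := by
    intro f
    rw [Finset.sum_coe_sort, hO, Finset.filter_not, Finset.filter_mem_eq_inter, Finset.univ_inter,
      ← Finset.compl_eq_univ_sdiff, Finset.sum_compl_add_sum]
  have key : ∀ p i, i ∈ O → ∑ j ∈ O, G.pairing I p j * Q j i = -(if p = i then 1 else 0) := by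
    intro p i hi
    have hrow : ∀ r, ∑ j ∈ O, G.mat r j * Q j i = -(if r = i then 1 else 0) - ∑ a : I, G.mat r a * Q a i := by
      intro r
      have h1 := congrFun (congrFun hMQ r) i
      rw [Matrix.mul_apply, hsplit, Matrix.neg_apply, Matrix.one_apply] at h1
      linear_combination h1
    have hb : ∀ b : I, ∑ j ∈ O, G.mat b j * Q j i = -∑ c : I, A b c * Q c i := by
      intro b
      rw [hrow, if_neg (fun e : (b : Fin n) = i => (Finset.mem_filter.mp hi).2 (e ▸ b.2))]
      simp [hA]
    have hsum : ∑ j ∈ O, G.pairing I p j * Q j i =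
        ∑ j ∈ O, G.mat p j * Q j i - ∑ a : I, ∑ b : I, G.mat p a * A⁻¹ a b * ∑ j ∈ O, G.mat b j * Q j i := by
      simp only [BlowupGraph.pairing, sub_mul, Finset.sum_sub_distrib, Finset.sum_mul, Finset.mul_sum, ← hA]
      congr 1
      rw [Finset.sum_comm]
      refine Finset.sum_congr rfl fun a _ => ?_
      rw [Finset.sum_comm]
      refine Finset.sum_congr rfl fun b _ => Finset.sum_congr rfl fun j _ => ?_
      ring
    have hinv : ∀ a : I, ∑ b : I, A⁻¹ a b * ∑ c : I, A b c * Q c i = Q a i := by
      intro a
      have h1 := congrFun (Matrix.mulVec_mulVec (fun c : I => Q c i) A⁻¹ A) a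
      rw [Matrix.nonsing_inv_mul _ hAu, Matrix.one_mulVec] at h1
      simpa [Matrix.mulVec, dotProduct] using h1
    rw [hsum, hrow p]
    simp only [hb, mul_neg, Finset.sum_neg_distrib, sub_neg_eq_add]
    simp only [mul_assoc, ← Finset.mul_sum, hinv]
    ring
  have hmult : ∀ i j, (G.mult i j : ℚ) = Q j i := by
    intro i j
    simp only [BlowupGraph.mult, hQ, Matrix.mul_apply, Matrix.transpose_apply, hC]
    push_cast
    exact Finset.sum_congr rfl fun k _ => mul_comm _ _
  show ∑ i ∈ O, ∑ j ∈ O, (G.mult i j : ℚ) * G.pairing I (σ i) j = _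
  have : ∀ i ∈ O, ∑ j ∈ O, (G.mult i j : ℚ) * G.pairing I (σ i) j = -(if σ i = i then 1 else 0) := by
    intro i hi
    rw [← key (σ i) i hi]
    exact Finset.sum_congr rfl fun j _ => by rw [hmult, mul_comm]
  rw [Finset.sum_congr rfl this, Finset.sum_neg_distrib, Finset.sum_boole, hO, Finset.filter_filter]
  rfl

end Groth.Agent.S15327
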