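import Groth.Statements.S15328
import Groth.Agent.H7Higgs.Basic
-- import your own Groth.Agent.* helpers here

set_option autoImplicit false
open CategoryTheory AlgebraicGeometry CategoryTheory.Limits
open VBCurve

namespace Groth.Agent.S15328

/-- Let X be a smooth proper integral curve over the complex numbers, L an invertible module on X and
(E, φ) an L-valued Higgs bundle on X: E finite locally free of rank r ≥ 1 and φ : E → E ⊗ L. A
submodule j : G → E (a monomorphism) is a Higgs submodule when φ restricts to it, that is, some ψ :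
G → G ⊗ L followed by j ⊗ L equals j followed by φ; (E, φ) is semistable when deg G · r ≤ deg E · r'
for every finite locally free Higgs submodule G of rank r' ≥ 1, degrees being χ − rank · χ(O).
Suppose (E, φ) is semistable and F is a finite locally free Higgs submodule of rank r' ≥ 1 with the
same slope, deg F · r = deg E · r'. Then the quotient E/F is finite locally free of rank r − r' and
is semistable of the same slope for its induced Higgs field: for every φ' : E/F → (E/F) ⊗ L
compatible with φ along the projection and every finite locally free submodule G of E/F of rank s ≥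
1 to which φ' restricts, deg G · (r − r') ≤ deg(E/F) · s. (The published statement also assumes F
semistable, which the published argument does not use; this row omits it.) -/
theorem result
    (X : Scheme.{0}) [X.Over (Spec (CommRingCat.of ℂ))] [IsIntegral X]
    [IsProper (X ↘ Spec (CommRingCat.of ℂ))] [Smooth (X ↘ Spec (CommRingCat.of ℂ))]
    (hdim : topologicalKrullDim X = 1)
    (L : X.Modules) (hL : PicF.IsInvertible L)
    (r : ℕ) (hr : 0 < r) (E : X.Modules) (hE : FlatMod.IsFinLocFreeOfRank r E)
    (φ : E ⟶ CohB1.tensorMod E L)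
    (hss : ∀ (G : X.Modules) (s : ℕ) (j : G ⟶ E) (ψ : G ⟶ CohB1.tensorMod G L), Mono j → 0 < s →
      FlatMod.IsFinLocFreeOfRank s G →
      ψ ≫ (CohB1.sheafifyMod X).map (MonoidalCategoryStruct.whiskerRight (C := CohB1.PMod X) j.val (CohB1.toPMod L)) = j ≫ φ →
      Curv2.deg ℂ X G s * (r : ℤ) ≤ Curv2.deg ℂ X E r * (s : ℤ))
    (F : X.Modules) (r' : ℕ) (hr' : 0 < r') (hF : FlatMod.IsFinLocFreeOfRank r' F)
    (i : F ⟶ E) [Mono i] (ψF : F ⟶ CohB1.tensorMod F L)
    (hψF : ψF ≫ (CohB1.sheafifyMod X).map (MonoidalCategoryStruct.whiskerRight (C := CohB1.PMod X) i.val (CohB1.toPMod L)) = i ≫ φ)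
    (hslope : Curv2.deg ℂ X F r' * (r : ℤ) = Curv2.deg ℂ X E r * (r' : ℤ)) :
    FlatMod.IsFinLocFreeOfRank (r - r') (cokernel i) ∧
    ∀ (φ' : cokernel i ⟶ CohB1.tensorMod (cokernel i) L),
      cokernel.π i ≫ φ' = φ ≫ (CohB1.sheafifyMod X).map (MonoidalCategoryStruct.whiskerRight (C := CohB1.PMod X) (cokernel.π i).val (CohB1.toPMod L)) →
      ∀ (G : X.Modules) (s : ℕ) (j : G ⟶ cokernel i) (ψ : G ⟶ CohB1.tensorMod G L), Mono j → 0 < s →
        FlatMod.IsFinLocFreeOfRank s G →
        ψ ≫ (CohB1.sheafifyMod X).map (MonoidalCategoryStruct.whiskerRight (C := CohB1.PMod X) j.val (CohB1.toPMod L)) = j ≫ φ' →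
        Curv2.deg ℂ X G s * ((r - r' : ℕ) : ℤ) ≤ Curv2.deg ℂ X (cokernel i) (r - r') * (s : ℤ) := by
  refine ⟨H7Higgs.rank_cokernel (k := ℂ) hdim.le hL hE hss hF i ψF hψF hslope, fun φ' hφ' G s j ψ hj hs hG hψ => ?_⟩
  exact H7Higgs.ss_cokernel (k := ℂ) hdim.le hL hE hss hF i ψF hψF hslope φ' hφ' G s j ψ hj hs hG hψ

end Groth.Agent.S15328
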