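import Groth.Statements.S15329
import Mathlib.Algebra.Module.StablyFree.Basic
import Mathlib.Data.Int.ConditionallyCompleteOrder
import Mathlib.LinearAlgebra.Dual.Lemmas
import Mathlib.LinearAlgebra.FreeModule.PID
import Mathlib.RingTheory.Flat.TorsionFree
import Mathlib.RingTheory.Henselian
import Mathlib.RingTheory.RegularLocalRing.Defs
import Mathlib.RingTheory.SimpleRing.Principal
import Mathlib.Tactic.Ring

set_option autoImplicit false
open TensorProduct LaurentPolynomial
universe u v
open CAlg

namespace Groth.Agent.S15329

/-- Let k be a field, E a k-vector space and F an increasing ℤ-indexed filtration of E by subspaces. In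
E[T, T⁻¹] = k[T, T⁻¹] ⊗ E the Rees module of (E, F) is the k-span of the elements T^n ⊗ v with v ∈ F
n; it is the module of global sections of the equivariant bundle on the affine line attached to (E,
F), and E[T, T⁻¹] that of its sections away from the origin. For a linear form α on E and an integer
p, the k[T, T⁻¹]-linear form m ↦ T^p · (id ⊗ α)(m) is the invariant section α of the dual bundle
away from the origin multiplied by T^p, and it extends over the origin exactly when it maps the Rees
module into the polynomial subring k[T]. This happens if and only if α vanishes on F(−p − 1); so the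
dual equivariant bundle corresponds to the dual space filtered by the annihilators of the F(−p − 1).
(The published statement has the annihilator of F(−p + 1), over the complex numbers; for E = k with
F n = 0 for n < 0 and F n = E for n ≥ 0 the form with p = 0 and α ≠ 0 maps the Rees module into k[T]
although α does not vanish on F(1) = E, and the published argument gives the index −p − 1, which
this row states, over any field.) -/
theorem result
    (k : Type u) [Field k] (E : Type v) [AddCommGroup E] [Module k E]
    (F : ℤ → Submodule k E) (hF : Monotone F)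
    (α : Module.Dual k E) (p : ℤ) :
    (∀ m ∈ Submodule.span k {x : k[T;T⁻¹] ⊗[k] E | ∃ (n : ℤ) (v : E), v ∈ F n ∧ x = T n ⊗ₜ[k] v},
      T p * (TensorProduct.AlgebraTensorModule.rid k k[T;T⁻¹] k[T;T⁻¹]) (LinearMap.baseChange k[T;T⁻¹] α m)
        ∈ (Polynomial.toLaurent : Polynomial k →+* k[T;T⁻¹]).range) ↔
    ∀ v ∈ F (-p - 1), α v = 0 := by
  have hval : ∀ (n : ℤ) (v : E), T p * (TensorProduct.AlgebraTensorModule.rid k k[T;T⁻¹] k[T;T⁻¹])
      (LinearMap.baseChange k[T;T⁻¹] α (T n ⊗ₜ[k] v)) = LaurentPolynomial.C (α v) * T (p + n) := by
    intro n v
    simp only [LinearMap.baseChange_tmul, TensorProduct.AlgebraTensorModule.rid_tmul, Algebra.smul_def,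
      LaurentPolynomial.algebraMap_apply, Algebra.algebraMap_self, RingHom.id_apply, T_add]
    ring
  constructor
  · intro h v hv
    obtain ⟨f, hf⟩ := h _ (Submodule.subset_span ⟨-p - 1, v, hv, rfl⟩)
    rw [hval, show p + (-p - 1) = -1 by ring] at hf
    have h1 : Polynomial.toLaurent (f * Polynomial.X) = Polynomial.toLaurent (Polynomial.C (α v)) := by
      rw [map_mul, hf, Polynomial.toLaurent_X, Polynomial.toLaurent_C, mul_assoc, ← T_add]
      simp
    have h2 := congrArg (Polynomial.coeff · 0) (Polynomial.toLaurent_injective h1)
    simpa using h2.symm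
  · intro h m hm
    induction hm using Submodule.span_induction with
    | mem x hx =>
      obtain ⟨n, v, hv, rfl⟩ := hx
      rw [hval]
      rcases le_or_gt 0 (p + n) with hn | hn
      · refine ⟨Polynomial.C (α v) * Polynomial.X ^ (p + n).toNat, ?_⟩
        rw [map_mul, Polynomial.toLaurent_C, Polynomial.toLaurent_X_pow, Int.toNat_of_nonneg hn]
      · rw [h v (hF (by omega) hv), map_zero, zero_mul]
        exact zero_mem _
    | zero => simp
    | add x y _ _ hx hy => simpa [mul_add] using add_mem hx hy
    | smul c x _ hx =>
      obtain ⟨f, hf⟩ := hx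
      refine ⟨Polynomial.C c * f, ?_⟩
      rw [← algebraMap_smul k[T;T⁻¹] c x, map_smul, map_smul, smul_eq_mul, mul_left_comm, ← hf, map_mul,
        Polynomial.toLaurent_C, LaurentPolynomial.algebraMap_apply, Algebra.algebraMap_self, RingHom.id_apply]

end Groth.Agent.S15329
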