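import Groth.Statements.S15330
import Groth.Agent.H7Higgs.Filt
-- import your own Groth.Agent.* helpers here

set_option autoImplicit false
open CategoryTheory AlgebraicGeometry CategoryTheory.Limits
open VBCurve

namespace Groth.Agent.S15330

/-- Let X be a smooth proper integral curve over the complex numbers, L an invertible module on X, and
(E, φ_E), (F, φ_F) two L-valued Higgs bundles on X of the same rank r ≥ 1 and the same degree d
(degree = χ − rank · χ(O)), each semistable: deg G · r ≤ d · s for every finite locally free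
submodule G of rank s ≥ 1 to which the Higgs field restricts. Let E_0 ⊂ E_1 ⊂ … ⊂ E_n = E with E_0 =
0 and F = F_0 ⊃ F_1 ⊃ … ⊃ F_n = 0 be chains of finite locally free submodules to which the Higgs
fields restrict, of ranks with rk E_i + rk F_i = r, which are opposite: E_{i+1}/E_i ≅ F_i/F_{i+1} as
O-modules for i < n. Then every E_i of positive rank and every F_i of positive rank has slope d/r,
that is deg · r = d · rank, and is semistable for its restricted Higgs field; and each graded piece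
E_{i+1}/E_i of positive rank is finite locally free of rank rk E_{i+1} − rk E_i, of slope d/r, and
semistable for every Higgs field on it compatible with that of E_{i+1} along the projection. (The
published statement indexes the second chain so that F_i/F_{i+1} matches E_i/E_{i−1} and takes the
isomorphisms of graded pieces as Higgs bundles; here they are assumed as O-modules only, together
with the rank bookkeeping rk E_i + rk F_i = r that they imply.) -/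
theorem result
    (X : Scheme.{0}) [X.Over (Spec (CommRingCat.of ℂ))] [IsIntegral X]
    [IsProper (X ↘ Spec (CommRingCat.of ℂ))] [Smooth (X ↘ Spec (CommRingCat.of ℂ))]
    (hdim : topologicalKrullDim X = 1)
    (L : X.Modules) (hL : PicF.IsInvertible L) (r : ℕ) (hr : 0 < r) (d : ℤ)
    (E : X.Modules) (hE : FlatMod.IsFinLocFreeOfRank r E) (φE : E ⟶ CohB1.tensorMod E L)
    (hEd : Curv2.deg ℂ X E r = d)
    (hEss : (∀ (G : X.Modules) (s : ℕ) (j : G ⟶ E) (χ : G ⟶ CohB1.tensorMod G L), Mono j → 0 < s →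
        FlatMod.IsFinLocFreeOfRank s G →
        χ ≫ (CohB1.sheafifyMod X).map (MonoidalCategoryStruct.whiskerRight (C := CohB1.PMod X) j.val (CohB1.toPMod L)) = j ≫ φE →
        Curv2.deg ℂ X G s * (r : ℤ) ≤ Curv2.deg ℂ X E r * (s : ℤ)))
    (F : X.Modules) (hF : FlatMod.IsFinLocFreeOfRank r F) (φF : F ⟶ CohB1.tensorMod F L)
    (hFd : Curv2.deg ℂ X F r = d)
    (hFss : (∀ (G : X.Modules) (s : ℕ) (j : G ⟶ F) (χ : G ⟶ CohB1.tensorMod G L), Mono j → 0 < s →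
        FlatMod.IsFinLocFreeOfRank s G →
        χ ≫ (CohB1.sheafifyMod X).map (MonoidalCategoryStruct.whiskerRight (C := CohB1.PMod X) j.val (CohB1.toPMod L)) = j ≫ φF →
        Curv2.deg ℂ X G s * (r : ℤ) ≤ Curv2.deg ℂ X F r * (s : ℤ)))
    (n : ℕ)
    (Es : ℕ → X.Modules) (rE : ℕ → ℕ) (hEs : ∀ i, FlatMod.IsFinLocFreeOfRank (rE i) (Es i))
    (ιE : ∀ i, Es i ⟶ E) (hιE : ∀ i, Mono (ιE i))
    (ψE : ∀ i, Es i ⟶ CohB1.tensorMod (Es i) L)
    (hψE : ∀ i, ψE i ≫ (CohB1.sheafifyMod X).map (MonoidalCategoryStruct.whiskerRight (C := CohB1.PMod X) (ιE i).val (CohB1.toPMod L)) = ιE i ≫ φE)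
    (a : ∀ i, Es i ⟶ Es (i + 1)) (ha : ∀ i, a i ≫ ιE (i + 1) = ιE i)
    (hE0 : IsZero (Es 0)) (hEn : IsIso (ιE n))
    (Fs : ℕ → X.Modules) (rF : ℕ → ℕ) (hFs : ∀ i, FlatMod.IsFinLocFreeOfRank (rF i) (Fs i))
    (ιF : ∀ i, Fs i ⟶ F) (hιF : ∀ i, Mono (ιF i))
    (ψF : ∀ i, Fs i ⟶ CohB1.tensorMod (Fs i) L)
    (hψF : ∀ i, ψF i ≫ (CohB1.sheafifyMod X).map (MonoidalCategoryStruct.whiskerRight (C := CohB1.PMod X) (ιF i).val (CohB1.toPMod L)) = ιF i ≫ φF)
    (b : ∀ i, Fs (i + 1) ⟶ Fs i) (hb : ∀ i, b i ≫ ιF i = ιF (i + 1))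
    (hF0 : IsIso (ιF 0)) (hFn : IsZero (Fs n))
    (hrk : ∀ i, i ≤ n → rE i + rF i = r)
    (hopp : ∀ i, i < n → Nonempty (cokernel (a i) ≅ cokernel (b i))) :
    (∀ i, i ≤ n → 0 < rE i →
      Curv2.deg ℂ X (Es i) (rE i) * (r : ℤ) = d * (rE i : ℤ) ∧
      (∀ (G : X.Modules) (s : ℕ) (j : G ⟶ (Es i)) (χ : G ⟶ CohB1.tensorMod G L), Mono j → 0 < s →
        FlatMod.IsFinLocFreeOfRank s G →
        χ ≫ (CohB1.sheafifyMod X).map (MonoidalCategoryStruct.whiskerRight (C := CohB1.PMod X) j.val (CohB1.toPMod L)) = j ≫ ψE i →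
        Curv2.deg ℂ X G s * (rE i : ℤ) ≤ Curv2.deg ℂ X (Es i) (rE i) * (s : ℤ))) ∧
    (∀ i, i ≤ n → 0 < rF i →
      Curv2.deg ℂ X (Fs i) (rF i) * (r : ℤ) = d * (rF i : ℤ) ∧
      (∀ (G : X.Modules) (s : ℕ) (j : G ⟶ (Fs i)) (χ : G ⟶ CohB1.tensorMod G L), Mono j → 0 < s →
        FlatMod.IsFinLocFreeOfRank s G →
        χ ≫ (CohB1.sheafifyMod X).map (MonoidalCategoryStruct.whiskerRight (C := CohB1.PMod X) j.val (CohB1.toPMod L)) = j ≫ ψF i →
        Curv2.deg ℂ X G s * (rF i : ℤ) ≤ Curv2.deg ℂ X (Fs i) (rF i) * (s : ℤ))) ∧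
    (∀ i, i < n → rE i < rE (i + 1) →
      FlatMod.IsFinLocFreeOfRank (rE (i + 1) - rE i) (cokernel (a i)) ∧
      Curv2.deg ℂ X (cokernel (a i)) (rE (i + 1) - rE i) * (r : ℤ) = d * ((rE (i + 1) - rE i : ℕ) : ℤ) ∧
      ∀ (φ' : cokernel (a i) ⟶ CohB1.tensorMod (cokernel (a i)) L),
        cokernel.π (a i) ≫ φ' = ψE (i + 1) ≫ (CohB1.sheafifyMod X).map (MonoidalCategoryStruct.whiskerRight (C := CohB1.PMod X) (cokernel.π (a i)).val (CohB1.toPMod L)) →
        (∀ (G : X.Modules) (s : ℕ) (j : G ⟶ cokernel (a i)) (χ : G ⟶ CohB1.tensorMod G L), Mono j → 0 < s →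
        FlatMod.IsFinLocFreeOfRank s G →
        χ ≫ (CohB1.sheafifyMod X).map (MonoidalCategoryStruct.whiskerRight (C := CohB1.PMod X) j.val (CohB1.toPMod L)) = j ≫ φ' →
        Curv2.deg ℂ X G s * ((rE (i + 1) - rE i : ℕ) : ℤ) ≤ Curv2.deg ℂ X (cokernel (a i)) (rE (i + 1) - rE i) * (s : ℤ))) := by
  haveI := fun i => hιE i
  haveI := fun i => hιF i
  haveI : ∀ i, Mono (a i) := fun i => mono_of_mono_fac (ha i)
  haveI : ∀ i, Mono (b i) := fun i => mono_of_mono_fac (hb i)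
  haveI := H29RR.isNoetherian_of_proper (k := ℂ) (X := X)
  have hsum : ∀ i, i ≤ n → Curv2.deg ℂ X (Es i) (rE i) + Curv2.deg ℂ X (Fs i) (rF i) = d := by
    intro i hi
    have h := H7Higgs.euler_opposite (k := ℂ) n Es Fs (fun j => H29RR.isCoh_of_rank (hEs j))
      (fun j => H29RR.isCoh_of_rank (hFs j)) a inferInstance b inferInstance hopp hi
    rw [H25Euler.euler_congr (k := ℂ) (@asIso _ _ _ _ (ιE n) hEn), H25Euler.euler_eq_zero_of_isZero (k := ℂ) hFn] at h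
    have hz : ((rE i : ℕ) : ℤ) + (rF i : ℤ) = r := by exact_mod_cast hrk i hi
    simp only [Curv2.deg] at hEd ⊢
    linear_combination h + hEd - Curv2.euler ℂ X (Coh.structureModule X) * hz
  have hlE : ∀ i, Curv2.deg ℂ X (Es i) (rE i) * (r : ℤ) ≤ d * (rE i : ℤ) := fun i =>
    hEd ▸ H7Higgs.SS.le (k := ℂ) hEss (hEs i) (ιE i) (ψE i) (hψE i)
  have hlF : ∀ i, Curv2.deg ℂ X (Fs i) (rF i) * (r : ℤ) ≤ d * (rF i : ℤ) := fun i =>
    hFd ▸ H7Higgs.SS.le (k := ℂ) hFss (hFs i) (ιF i) (ψF i) (hψF i)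
  have heq : ∀ i, i ≤ n → Curv2.deg ℂ X (Es i) (rE i) * (r : ℤ) = d * (rE i : ℤ) ∧
      Curv2.deg ℂ X (Fs i) (rF i) * (r : ℤ) = d * (rF i : ℤ) := by
    intro i hi
    have hz : ((rE i : ℕ) : ℤ) + (rF i : ℤ) = r := by exact_mod_cast hrk i hi
    have hs : Curv2.deg ℂ X (Es i) (rE i) * (r : ℤ) + Curv2.deg ℂ X (Fs i) (rF i) * (r : ℤ) =
        d * (rE i : ℤ) + d * (rF i : ℤ) := by
      rw [← add_mul, hsum i hi, ← mul_add, hz]
    exact ⟨by linarith [hlE i, hlF i], by linarith [hlE i, hlF i]⟩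
  refine ⟨fun i hi _ => ⟨(heq i hi).1, ?_⟩, fun i hi _ => ⟨(heq i hi).2, ?_⟩, fun i hi hlt => ?_⟩
  · exact H7Higgs.ss_sub (k := ℂ) hr hEss (ιE i) (ψE i) (hψE i) (by rw [(heq i hi).1, hEd])
  · exact H7Higgs.ss_sub (k := ℂ) hr hFss (ιF i) (ψF i) (hψF i) (by rw [(heq i hi).2, hFd])
  have e0 := (heq i (by omega)).1
  have e1 := (heq (i + 1) hi).1
  have hss1 : H7Higgs.SS ℂ L (rE (i + 1)) (ψE (i + 1)) :=
    H7Higgs.ss_sub (k := ℂ) hr hEss (ιE (i + 1)) (ψE (i + 1)) (hψE (i + 1)) (by rw [e1, hEd])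
  have hrZ : (r : ℤ) ≠ 0 := by omega
  have hslope : Curv2.deg ℂ X (Es i) (rE i) * (rE (i + 1) : ℤ) =
      Curv2.deg ℂ X (Es (i + 1)) (rE (i + 1)) * (rE i : ℤ) := by
    apply mul_right_cancel₀ hrZ
    linear_combination (rE (i + 1) : ℤ) * e0 - (rE i : ℤ) * e1
  have hinv : ψE i ≫ H7Higgs.tw L (a i) = a i ≫ ψE (i + 1) :=
    H7Higgs.comm_of_fac hL (a i) (ιE i) (ιE (i + 1)) (ha i) (ψE i) (hψE i) (ψE (i + 1)) (hψE (i + 1))
  have hC := H7Higgs.rank_cokernel (k := ℂ) hdim.le hL (hEs (i + 1)) hss1 (hEs i) (a i) (ψE i) hinv hslope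
  obtain ⟨-, hdE⟩ := H29RR.deg_add_of_shortExact (k := ℂ)
    (S := ShortComplex.mk (a i) (cokernel.π (a i)) (cokernel.condition (a i)))
    { exact := ShortComplex.exact_cokernel _ } (hEs i) (hEs (i + 1)) hC
  refine ⟨hC, ?_, fun φ' hφ' => ?_⟩
  · rw [Nat.cast_sub hlt.le]
    dsimp only at hdE
    linear_combination e1 - e0 - (r : ℤ) * hdE
  · exact H7Higgs.ss_cokernel (k := ℂ) hdim.le hL (hEs (i + 1)) hss1 (hEs i) (a i) (ψE i) hinv hslope φ' hφ'

end Groth.Agent.S15330
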