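import Groth.Statements.S15335
import Groth.Agent.H29RR.SubBundle
import Groth.Agent.H16Derived.KFlat.StrictPerfCone

set_option autoImplicit false
universe u
open CategoryTheory CategoryTheory.Limits AlgebraicGeometry
open VBCurve

namespace Groth.Agent.S15335

/-- Let X be a smooth proper integral curve (integral, smooth and proper of dimension one) over an
algebraically closed field k, and E₁, E₂ finite locally free O_X-modules of ranks r₁ ≥ 1, r₂ ≥ 1.
The maximal slope of E₁ ⊕ E₂ is at most the larger of the maximal slopes of E₁ and E₂: if m₁, m₂ are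
rational numbers such that every finite locally free submodule of positive rank of E₁ (resp. E₂) has
slope deg/rank ≤ m₁ (resp. ≤ m₂), degree meaning χ − rank·χ(O_X), then every finite locally free
submodule F of the biproduct E₁ ⊞ E₂ of rank r' ≥ 1 has slope deg F / r' ≤ max(m₁, m₂). -/
theorem result (k : Type u) [Field k] [IsAlgClosed k] (X : Scheme.{u}) [X.Over (Spec (CommRingCat.of k))]
    [IsIntegral X] [IsProper (X ↘ Spec (CommRingCat.of k))] [Smooth (X ↘ Spec (CommRingCat.of k))]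
    (hdim : topologicalKrullDim X = 1)
    (r₁ r₂ : ℕ) (hr₁ : 0 < r₁) (hr₂ : 0 < r₂) (E₁ E₂ : X.Modules)
    (hE₁ : FlatMod.IsFinLocFreeOfRank r₁ E₁) (hE₂ : FlatMod.IsFinLocFreeOfRank r₂ E₂) (m₁ m₂ : ℚ)
    (h₁ : ∀ (G : X.Modules) (r' : ℕ) (i : G ⟶ E₁), Mono i → 0 < r' → FlatMod.IsFinLocFreeOfRank r' G →
      (Curv2.deg k X G r' : ℚ) / r' ≤ m₁)
    (h₂ : ∀ (G : X.Modules) (r' : ℕ) (i : G ⟶ E₂), Mono i → 0 < r' → FlatMod.IsFinLocFreeOfRank r' G →
      (Curv2.deg k X G r' : ℚ) / r' ≤ m₂)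
    (F : X.Modules) (r' : ℕ) (i : F ⟶ E₁ ⊞ E₂) (hi : Mono i) (hr' : 0 < r')
    (hF : FlatMod.IsFinLocFreeOfRank r' F) :
    (Curv2.deg k X F r' : ℚ) / r' ≤ max m₁ m₂ := by
  haveI := H29RR.isNoetherian_of_proper (k := k) (X := X)
  haveI := hi
  let S := ShortComplex.mk (biprod.inl : E₁ ⟶ E₁ ⊞ E₂) biprod.snd biprod.inl_snd
  have hS : S.ShortExact := (ShortComplex.Splitting.ofHasBinaryBiproduct E₁ E₂).shortExact
  have hE : FlatMod.IsFinLocFree (E₁ ⊞ E₂) := H16Derived.KFlat.Stalk.isFinLocFree_biprod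
    (H29RR.locFree_of_rank hE₁) (H29RR.locFree_of_rank hE₂)
  obtain ⟨n, hn⟩ := H25Par.exists_rank k hdim.le (H16Derived.KFlat.Stalk.isCoh_of_isFinLocFree hE)
    (H25Par.isTorsionFree_of_locFree hE)
  have hq : (0 : ℚ) < r' := by exact_mod_cast hr'
  have hd : ∀ {G : X.Modules} {s : ℕ} {m : ℚ}, (Curv2.deg k X G s : ℚ) / s ≤ m → 0 < s →
      (Curv2.deg k X G s : ℚ) ≤ max m₁ m₂ * s ∨ max m₁ m₂ < m := fun {G s m} h hs => by
    rcases lt_or_ge (max m₁ m₂) m with h' | h'
    · exact Or.inr h'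
    · exact Or.inl ((div_le_iff₀ (by exact_mod_cast hs)).1 (h.trans h'))
  rw [div_le_iff₀ hq]
  exact H29RR.slope_le_of_extension (k := k) hdim.le hS hn hE₂ (max m₁ m₂)
    (fun G s j hj hs hG => ((hd (h₁ G s j hj hs hG) hs).resolve_right (not_lt.2 (le_max_left _ _))))
    (fun G s j hj hs hG => ((hd (h₂ G s j hj hs hG) hs).resolve_right (not_lt.2 (le_max_right _ _))))
    hF i

end Groth.Agent.S15335
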