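import Groth.Statements.S15336
import Groth.Agent.H12AlgSp.UnivInj
import Groth.Agent.H26Def.AdicPic
import Groth.Agent.H28Int.Push
import Groth.Agent.H25Hat.Omega
import Groth.Agent.H29RR.Consts
import Groth.Agent.H29CurveDual.Canonical
import Groth.Agent.H23KS.Exists
import Groth.Agent.H7KS.Torsor
-- import your own Groth.Agent.* helpers here

set_option autoImplicit false
universe u
open CategoryTheory CategoryTheory.Limits AlgebraicGeometry
open VBCurve

namespace Groth.Agent.S15336

/-- Let X be a smooth proper integral curve (integral, smooth and proper of dimension one) over an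
algebraically closed field k, G a finite group scheme over k of order n, meaning dim_k H^0(G, O_G) =
n, and j : P → X a torsor (fppf-locally trivial) under the X-group scheme G ×_k X. Put E = j_*O_P.
Then there is an isomorphism of O_X-modules E ⊗ E ≅ E ⊕ ⋯ ⊕ E (n copies); in particular E is a
finite vector bundle in the sense of Weil (two distinct polynomials in E agree). Existence of an
isomorphism only. (The published statement asserts only that E is finite in this sense; this row
states the isomorphism its argument gives, with n = dim_k H^0(G, O_G).) -/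
theorem result (k : Type u) [Field k] [IsAlgClosed k] (X : Scheme.{u}) [X.Over (Spec (CommRingCat.of k))]
    [IsIntegral X] [IsProper (X ↘ Spec (CommRingCat.of k))] [Smooth (X ↘ Spec (CommRingCat.of k))]
    (hdim : topologicalKrullDim X = 1)
    (G : Scheme.{u}) [G.Over (Spec (CommRingCat.of k))] [GrpObj (G.asOver (Spec (CommRingCat.of k)))]
    [IsFinite (G ↘ Spec (CommRingCat.of k))] (n : ℕ)
    (hn : Module.finrank k (Coh.HH G (Coh.structureModule G) 0) = n)
    (P : Over X) (a : AlgGrp.Action (Red.bc (X ↘ Spec (CommRingCat.of k)) (G.asOver (Spec (CommRingCat.of k)))) P)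
    (hP : NonAbH1.IsTorsorFor Scheme.fppfPrecoverage a) :
    Nonempty (CohB1.tensorMod ((Coh.push P.hom).obj (Coh.structureModule P.left))
        ((Coh.push P.hom).obj (Coh.structureModule P.left)) ≅
      ∐ fun _ : Fin n => (Coh.push P.hom).obj (Coh.structureModule P.left)) := by
  classical

  haveI := H29RR.isNoetherian_of_proper (k := k) (X := X)
  let GX := Red.bc (X ↘ Spec (CommRingCat.of k)) (G.asOver (Spec (CommRingCat.of k)))
  let gG : G ⟶ Spec (CommRingCat.of k) := G ↘ Spec (CommRingCat.of k)
  haveI : Flat gG := H12AlgSp.flat_to_field gG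
  haveI hGXf : Flat GX.hom := by show Flat (pullback.snd _ _); infer_instance
  have hGXfin : IsFinite GX.hom := by
    haveI : IsFinite (G.asOver (Spec (CommRingCat.of k))).hom := inferInstanceAs (IsFinite gG)
    show IsFinite (pullback.snd _ _); infer_instance
  have hP' : NonAbH1.IsTorsorFor Scheme.fpqcPrecoverage a :=
    ⟨hP.1, hP.2.choose, Scheme.fppfPrecoverage_le_fpqcPrecoverage _ hP.2.choose_spec.1, hP.2.choose_spec.2⟩
  haveI : IsFinite P.hom := H18Torsor.property_of_isTorsorFor a @IsFinite hP' hGXfin
  haveI : Flat P.hom := H18Torsor.property_of_isTorsorFor a @Flat hP' hGXf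
  let O := Coh.structureModule P.left
  haveI : O.IsQuasicoherent := (H11Ample.isCoh_of_isInvertible H11Ample.isInvertible_structureModule).1
  let E := (Scheme.Modules.pushforward P.hom).obj O
  have hE : FlatMod.IsFinLocFree E := H29Disc.isFinLocFree_pushO P.hom
  -- the shear isomorphism
  haveI : IsIso (CartesianMonoidalCategory.lift a.act (CartesianMonoidalCategory.snd GX P)) := hP.1
  let e := asIso (CartesianMonoidalCategory.lift a.act (CartesianMonoidalCategory.snd GX P))
  let eL := (Over.forget X).mapIso e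
  have heL : eL.hom ≫ pullback.snd P.hom P.hom = pullback.snd GX.hom P.hom :=
    congrArg CommaMorphism.left (CartesianMonoidalCategory.lift_snd a.act (CartesianMonoidalCategory.snd GX P))
  have hGX : IsPullback (pullback.fst GX.hom P.hom ≫ pullback.fst gG (X ↘ Spec (CommRingCat.of k)))
      (pullback.snd GX.hom P.hom) gG (P.hom ≫ (X ↘ Spec (CommRingCat.of k))) :=
    (IsPullback.of_hasPullback GX.hom P.hom).paste_horiz
      (IsPullback.of_hasPullback gG (X ↘ Spec (CommRingCat.of k)))
  have hPP : IsPullback (eL.inv ≫ pullback.fst GX.hom P.hom ≫ pullback.fst gG (X ↘ Spec (CommRingCat.of k)))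
      (pullback.snd P.hom P.hom) gG (P.hom ≫ (X ↘ Spec (CommRingCat.of k))) :=
    IsPullback.of_iso hGX eL (Iso.refl _) (Iso.refl _) (Iso.refl _) (by simp) (by simpa using heL.symm)
      (by simp) (by simp)
  haveI : Flat (P.hom ≫ (X ↘ Spec (CommRingCat.of k))) := H12AlgSp.flat_to_field _
  let OG := Coh.structureModule G
  have hOG : Coh.IsCoh OG := H10Coh.isCoh_structureModule' G
  haveI : OG.IsQuasicoherent := hOG.1
  obtain ⟨r, ⟨eG⟩⟩ := H26Def.exists_iso_freeMod_of_field k ((Scheme.Modules.pushforward gG).obj OG)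
    (H10Coh.isCoh_push_of_isFinite gG OG hOG)
  have hr : r = n := by
    letI : (Spec (CommRingCat.of k)).Over (Spec (CommRingCat.of k)) := ⟨𝟙 _⟩
    haveI : IsProper (Spec (CommRingCat.of k) ↘ Spec (CommRingCat.of k)) := inferInstanceAs (IsProper (𝟙 _))
    haveI : IsAffineHom gG := inferInstance
    have h1 := H28Int.Push.finrank_HH_push k gG (Category.comp_id _) OG 0
    rw [hn, H29CurveDual.finrank_h0_congr (k := k) eG 0, H25Hat.finrank_freeMod (k := k) 0 r,
      H29RR.finrank_h0_structure k (Spec (CommRingCat.of k)), mul_one] at h1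
    exact h1
  subst hr
  obtain ⟨b₁⟩ := H23KS.Exists.nonempty_baseChange (IsPullback.of_hasPullback P.hom P.hom) O
  obtain ⟨b₂⟩ := H23KS.Exists.nonempty_baseChange hPP OG
  let ePE : (Scheme.Modules.pullback P.hom).obj E ≅ FlatMod.freeMod P.left r :=
    b₁ ≪≫ (Scheme.Modules.pushforward _).mapIso (H16Derived.KFlat.Stalk.structurePullbackIso _ ≪≫
      (H16Derived.KFlat.Stalk.structurePullbackIso _).symm) ≪≫ b₂.symm ≪≫
      (Scheme.Modules.pullback _).mapIso eG ≪≫ H16Derived.KFlat.Stalk.freeModPullbackIso _ r
  have hψ : IsIso (H10Coh.PF.ψT P.hom E O) := H10Coh.PF.isIso_ψ_of_isFinLocFree P.hom hE O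
  let e₁ := @asIso _ _ _ _ (H10Coh.PF.ψT P.hom E O) hψ
  let e₂ : CohB1.tensorMod O ((Scheme.Modules.pullback P.hom).obj E) ≅ ⨁ fun _ : Fin r => O :=
    H10Coh.Tw.leftUnitIso _ ≪≫ ePE ≪≫ (biproduct.isoCoproduct fun _ : Fin r => O).symm
  haveI : (Scheme.Modules.pushforward P.hom).Additive := inferInstance
  exact ⟨e₁ ≪≫ (Scheme.Modules.pushforward P.hom).mapIso e₂ ≪≫ (Scheme.Modules.pushforward P.hom).mapBiproduct _ ≪≫
    biproduct.isoCoproduct _⟩

end Groth.Agent.S15336
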