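import Groth.Statements.S15340
import Groth.Agent.H29RR.SubBundle
import Groth.Agent.H29RR.CurveIntegral

set_option autoImplicit false
universe u
open CategoryTheory CategoryTheory.Limits AlgebraicGeometry
open VBCurve

namespace Groth.Agent.S15340

/-- Let X be a smooth proper integral curve (integral, smooth and proper of dimension one) over an
algebraically closed field k and E a finite locally free O_X-module of rank r ≥ 1 which is
slope-semistable and slope-stable (deg G · r ≤ deg E · r' for finite locally free submodules G of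
rank r' ≥ 1, strictly when r' < r; degree = χ − rank·χ(O_X)). Then E is indecomposable: it is
nonzero and whenever E ≅ E₁ ⊞ E₂ as O_X-modules, one of E₁, E₂ is zero. -/
theorem result (k : Type u) [Field k] [IsAlgClosed k] (X : Scheme.{u}) [X.Over (Spec (CommRingCat.of k))]
    [IsIntegral X] [IsProper (X ↘ Spec (CommRingCat.of k))] [Smooth (X ↘ Spec (CommRingCat.of k))]
    (hdim : topologicalKrullDim X = 1)
    (r : ℕ) (hr : 0 < r) (E : X.Modules) (hE : FlatMod.IsFinLocFreeOfRank r E)
    (hEss : ModFun.IsSlopeSemistable k X E r) (hEst : ModFun.IsSlopeStable k X E r) :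
    ¬ IsZero E ∧ ∀ (E₁ E₂ : X.Modules), Nonempty (E ≅ E₁ ⊞ E₂) → IsZero E₁ ∨ IsZero E₂ := by
  haveI := H29RR.isNoetherian_of_proper (k := k) (X := X)
  have hE0 : ¬ IsZero E := fun h => by
    obtain ⟨-, -, h3⟩ := H25Par.finrank_stalk hE (genericPoint X)
    haveI : Subsingleton (E.presheaf.stalk (genericPoint X)) :=
      ModuleCat.isZero_iff_subsingleton.1 ((DerSch.stalkFunctor X (genericPoint X)).map_isZero h)
    rw [Module.finrank_zero_of_subsingleton] at h3
    omega
  refine ⟨hE0, fun E₁ E₂ ⟨e⟩ => ?_⟩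
  let f : E ⟶ E := e.hom ≫ biprod.fst ≫ biprod.inl ≫ e.inv
  by_cases hf : f = 0
  · refine Or.inl ((IsZero.iff_id_eq_zero _).2 ?_)
    have : biprod.inl ≫ e.inv ≫ f ≫ e.hom ≫ biprod.fst = (0 : E₁ ⟶ E₁) := by rw [hf]; simp
    simpa [f] using this
  · refine Or.inr ((IsZero.iff_id_eq_zero _).2 ?_)
    haveI := H29RR.isIso_endo_of_stable (k := k) hdim.le hE hEst f hf
    have h2 : (biprod.inr ≫ e.inv) ≫ f = 0 := by simp [f]
    have h3 : biprod.inr ≫ e.inv = 0 := (cancel_mono f).1 (h2.trans zero_comp.symm)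
    calc 𝟙 E₂ = (biprod.inr ≫ e.inv) ≫ e.hom ≫ biprod.snd := by simp
      _ = 0 := by rw [h3, zero_comp]

end Groth.Agent.S15340
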