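import Groth.Statements.S15341
import Groth.Agent.H7KS.Weil
-- import your own Groth.Agent.* helpers here

set_option autoImplicit false
universe u
open CategoryTheory CategoryTheory.Limits AlgebraicGeometry
open VBCurve

namespace Groth.Agent.S15341

/-- Let X be a smooth proper integral curve (integral, smooth and proper of dimension one) over an
algebraically closed field k, and E₁, E₂ finite locally free O_X-modules of ranks r₁, r₂, each
finite in the sense of Weil: for E = E₁ and E = E₂ there are distinct polynomials P ≠ Q with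
natural-number coefficients and P(E) ≅ Q(E), where P(E) is the direct sum over i of P_i copies of
E^{⊗ i} (E^{⊗ 0} = O_X). Then the direct sum E₁ ⊞ E₂ and the tensor product E₁ ⊗ E₂ are finite in
the same sense. -/
theorem result (k : Type u) [Field k] [IsAlgClosed k] (X : Scheme.{u}) [X.Over (Spec (CommRingCat.of k))]
    [IsIntegral X] [IsProper (X ↘ Spec (CommRingCat.of k))] [Smooth (X ↘ Spec (CommRingCat.of k))]
    (hdim : topologicalKrullDim X = 1)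
    (r₁ r₂ : ℕ) (E₁ E₂ : X.Modules) (hE₁ : FlatMod.IsFinLocFreeOfRank r₁ E₁) (hE₂ : FlatMod.IsFinLocFreeOfRank r₂ E₂)
    (h₁ : (∃ P₁ Q₁ : Polynomial ℕ, P₁ ≠ Q₁ ∧ Nonempty ((∐ fun i : Fin (P₁.natDegree + 1) => ∐ fun _ : Fin (P₁.coeff ↑i) => CohB1.tensorPow E₁ ↑i) ≅
      (∐ fun i : Fin (Q₁.natDegree + 1) => ∐ fun _ : Fin (Q₁.coeff ↑i) => CohB1.tensorPow E₁ ↑i))))
    (h₂ : (∃ P₂ Q₂ : Polynomial ℕ, P₂ ≠ Q₂ ∧ Nonempty ((∐ fun i : Fin (P₂.natDegree + 1) => ∐ fun _ : Fin (P₂.coeff ↑i) => CohB1.tensorPow E₂ ↑i) ≅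
      (∐ fun i : Fin (Q₂.natDegree + 1) => ∐ fun _ : Fin (Q₂.coeff ↑i) => CohB1.tensorPow E₂ ↑i)))) :
    (∃ P Q : Polynomial ℕ, P ≠ Q ∧ Nonempty ((∐ fun i : Fin (P.natDegree + 1) => ∐ fun _ : Fin (P.coeff ↑i) => CohB1.tensorPow (E₁ ⊞ E₂) ↑i) ≅
      (∐ fun i : Fin (Q.natDegree + 1) => ∐ fun _ : Fin (Q.coeff ↑i) => CohB1.tensorPow (E₁ ⊞ E₂) ↑i))) ∧
    (∃ P' Q' : Polynomial ℕ, P' ≠ Q' ∧ Nonempty ((∐ fun i : Fin (P'.natDegree + 1) => ∐ fun _ : Fin (P'.coeff ↑i) => CohB1.tensorPow (CohB1.tensorMod E₁ E₂) ↑i) ≅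
      (∐ fun i : Fin (Q'.natDegree + 1) => ∐ fun _ : Fin (Q'.coeff ↑i) => CohB1.tensorPow (CohB1.tensorMod E₁ E₂) ↑i))) := by
  exact H7KS.wf_biprod_tensor k (H7KS.isFinLocFree_of_rank hE₁) (H7KS.isFinLocFree_of_rank hE₂) h₁ h₂

end Groth.Agent.S15341
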