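import Groth.Statements.S15344
import Groth.Agent.H17.MonoField
import Mathlib.AlgebraicGeometry.Noetherian
import Mathlib.AlgebraicGeometry.Morphisms.UniversallyInjective
import Mathlib.AlgebraicGeometry.Morphisms.FinitePresentation

set_option autoImplicit false
universe u
open CategoryTheory CategoryTheory.Limits AlgebraicGeometry
open Mor

namespace Groth.Agent.S15344

open CategoryTheory CategoryTheory.Limits AlgebraicGeometry TopologicalSpace
open IsLocalRing in

/-- Let f : Y ⟶ X be a monomorphism of schemes, X quasi-separated. Then the projection Y ×_X X' ⟶ X'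
reflects specializations (if the image of y₁ specializes to the image of y₀ then y₁ specializes to
y₀) after every base change X' ⟶ X if and only if, for every valuation ring A with fraction field K
and every commutative square Spec K ⟶ Y, Spec A ⟶ X over f such that, in addition, some morphism
from the spectrum of the residue field of A to Y lies over Spec A ⟶ X, the square admits a lift Spec
A ⟶ Y. -/
theorem result {X Y : Scheme.{u}} [QuasiSeparatedSpace ↥X]
    (f : Y ⟶ X) [Mono f] :
    (∀ (X' : Scheme.{u}) (g : X' ⟶ X) (y₀ y₁ : ↥(pullback f g)),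
        (pullback.snd f g).base y₁ ⤳ (pullback.snd f g).base y₀ → y₁ ⤳ y₀) ↔
      ∀ S : ValuativeCommSq f,
        (∃ l₀ : Spec (CommRingCat.of (IsLocalRing.ResidueField S.R)) ⟶ Y,
            l₀ ≫ f = Spec.map (CommRingCat.ofHom (IsLocalRing.residue S.R)) ≫ S.i₂) →
          S.commSq.HasLift := by
  constructor
  · rintro H ⟨R, K, i₁, i₂, ⟨w⟩⟩ ⟨l₀, hl₀⟩
    dsimp only at *
    let lft := pullback.lift i₁ (Spec.map (CommRingCat.ofHom (algebraMap R K))) w
    let lft₀ := pullback.lift l₀ (Spec.map (CommRingCat.ofHom (IsLocalRing.residue R))) hl₀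
    let x := lft₀ (closedPoint (IsLocalRing.ResidueField R))
    have h₂ : pullback.snd f i₂ x = closedPoint R := by
      show pullback.snd f i₂ (lft₀ _) = _
      rw [← Scheme.Hom.comp_apply, pullback.lift_snd]
      exact IsLocalRing.comap_closedPoint (IsLocalRing.residue R)
    have h₁ : lft (closedPoint K) ⤳ x := H _ i₂ _ _ (by
      show pullback.snd f i₂ (lft _) ⤳ pullback.snd f i₂ x
      rw [h₂]
      exact specializes_closedPoint (R := R) _)
    let e : CommRingCat.of R ≅ (Spec <| .of R).presheaf.stalk (pullback.snd f i₂ x) :=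
      (stalkClosedPointIso (.of R)).symm ≪≫
        (Spec <| .of R).presheaf.stalkCongr (.of_eq h₂.symm)
    let α := e.hom ≫ (pullback.snd f i₂).stalkMap x
    have : IsLocalHom e.hom.hom := isLocalHom_of_isIso e.hom
    have : IsLocalHom α.hom := inferInstanceAs
      (IsLocalHom (((pullback.snd f i₂).stalkMap x).hom.comp e.hom.hom))
    let β := (pullback f i₂).presheaf.stalkSpecializes h₁ ≫ Scheme.stalkClosedPointTo lft
    have hαβ : α ≫ β = CommRingCat.ofHom (algebraMap R K) := by
      set_option backward.isDefEq.respectTransparency false in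
        simp only [CommRingCat.coe_of, Iso.trans_hom, Iso.symm_hom, TopCat.Presheaf.stalkCongr_hom,
          Category.assoc, α, e, β, stalkClosedPointIso_inv, StructureSheaf.toStalk]
        change (Scheme.ΓSpecIso (.of R)).inv ≫ (Spec <| .of R).presheaf.germ _ _ _ ≫ _ = _
        simp only [TopCat.Presheaf.germ_stalkSpecializes_assoc, Scheme.Hom.germ_stalkMap_assoc]
        simp only [TopologicalSpace.Opens.map_top]
        rw [Scheme.germ_stalkClosedPointTo lft ⊤ trivial]
        erw [← Scheme.Hom.comp_app_assoc lft (pullback.snd f i₂)]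
        rw [pullback.lift_snd]
        simp
    have hbij := (bijective_rangeRestrict_comp_of_valuationRing (R := R) (K := K) α.hom β.hom
      (CommRingCat.hom_ext_iff.mp hαβ))
    let φ : (pullback f i₂).presheaf.stalk x ⟶ CommRingCat.of R := CommRingCat.ofHom <|
      (RingEquiv.ofBijective _ hbij).symm.toRingHom.comp β.hom.rangeRestrict
    have hαφ : α ≫ φ = 𝟙 _ := by ext r; exact (RingEquiv.ofBijective _ hbij).symm_apply_apply r
    have hαφ' : (pullback.snd f i₂).stalkMap x ≫ φ = e.inv := by
      rw [← cancel_epi e.hom, ← Category.assoc, hαφ, e.hom_inv_id]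
    have hl : (Spec.map ((pullback.fst f i₂).stalkMap x ≫ φ) ≫ Y.fromSpecStalk _) ≫ f = i₂ := by
      simp only [Spec.map_comp, Category.assoc, Scheme.SpecMap_stalkMap_fromSpecStalk_assoc,
        pullback.condition]
      rw [← Scheme.SpecMap_stalkMap_fromSpecStalk_assoc, ← Spec.map_comp_assoc, hαφ']
      simp only [e, Iso.trans_inv, TopCat.Presheaf.stalkCongr_inv, Iso.symm_inv, Spec.map_comp,
        Category.assoc, Scheme.SpecMap_stalkSpecializes_fromSpecStalk_assoc]
      rw [← Spec_stalkClosedPointIso, ← Spec.map_comp_assoc,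
        Iso.inv_hom_id, Spec.map_id, Category.id_comp]
    refine ⟨⟨⟨_, ?_, hl⟩⟩⟩
    rw [← cancel_mono f, Category.assoc, hl, w]
  · intro H X' g y₀ y₁ hsp
    let sn := pullback.snd f g
    let K := (pullback f g).residueField y₁
    let φ : X'.presheaf.stalk (sn y₀) ⟶ K :=
      X'.presheaf.stalkSpecializes hsp ≫ sn.stalkMap y₁ ≫ (pullback f g).residue y₁
    obtain ⟨A, hA, hA_local⟩ := exists_factor_valuationRing φ.hom
    let φA : X'.presheaf.stalk (sn y₀) ⟶ .of A := CommRingCat.ofHom (φ.hom.codRestrict _ hA)
    let t := Spec.map φA ≫ X'.fromSpecStalk (sn y₀)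
    have ht : t (closedPoint A) = sn y₀ := by
      show (Spec.map φA ≫ X'.fromSpecStalk _) _ = _
      rw [Scheme.Hom.comp_apply]
      have : Spec.map φA (closedPoint A) = closedPoint (X'.presheaf.stalk (sn y₀)) :=
        IsLocalRing.comap_closedPoint (S := A) (φ.hom.codRestrict A.toSubring hA)
      rw [this, Scheme.fromSpecStalk_closedPoint]
    have wK : (pullback f g).fromSpecResidueField y₁ ≫ sn =
        Spec.map (CommRingCat.ofHom (algebraMap A K)) ≫ t := by
      rw [Scheme.fromSpecResidueField, Category.assoc, ← Scheme.SpecMap_stalkMap_fromSpecStalk,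
        ← Scheme.SpecMap_stalkSpecializes_fromSpecStalk hsp]
      simp_rw [t, ← Spec.map_comp_assoc]
      rfl
    have w : ((pullback f g).fromSpecResidueField y₁ ≫ pullback.fst f g) ≫ f =
        Spec.map (CommRingCat.ofHom (algebraMap A K)) ≫ t ≫ g := by
      rw [Category.assoc, pullback.condition, reassoc_of% wK]
    obtain ⟨l₀, hl₀⟩ := Groth.Agent.H17.MonoField.exists_lift_of_mem_range f
      (K := IsLocalRing.ResidueField A) (Spec.map (CommRingCat.ofHom (IsLocalRing.residue A)) ≫ t ≫ g) (by
        refine ⟨pullback.fst f g y₀, ?_⟩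
        rw [← Scheme.Hom.comp_apply, pullback.condition, Scheme.Hom.comp_apply]
        show _ = g (t (Spec.map (CommRingCat.ofHom (IsLocalRing.residue A)) (closedPoint _)))
        rw [show Spec.map (CommRingCat.ofHom (IsLocalRing.residue A)) (closedPoint (IsLocalRing.ResidueField A)) =
          closedPoint A from IsLocalRing.comap_closedPoint (IsLocalRing.residue A), ht])
    obtain ⟨l, hl₁, hl₂⟩ := (H { R := A, K := K, i₁ := _, i₂ := t ≫ g, commSq := ⟨w⟩ } ⟨l₀, hl₀⟩).exists_lift
    dsimp only at hl₁ hl₂
    let L := pullback.lift l t hl₂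
    have hz : L (closedPoint A) = y₀ := by
      apply sn.injective
      rw [← Scheme.Hom.comp_apply, pullback.lift_snd, ht]
    have hgen : Spec.map (CommRingCat.ofHom (algebraMap A K)) ≫ L = (pullback f g).fromSpecResidueField y₁ := by
      rw [← cancel_mono sn, Category.assoc, pullback.lift_snd]
      exact wK.symm
    have e1 : y₁ = L (Spec.map (CommRingCat.ofHom (algebraMap A K)) (closedPoint K)) :=
      (Scheme.fromSpecResidueField_apply y₁ (closedPoint K)).symm.trans (congr($hgen.symm (closedPoint K)))
    exact (specializes_of_eq e1).trans (((specializes_closedPoint _).map L.continuous).trans (specializes_of_eq hz))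

end Groth.Agent.S15344
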