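import Groth.Statements.S15346
import Groth.Agent.H17.SpecReflect
import Groth.Agent.H11Val.Point
import Mathlib.AlgebraicGeometry.Morphisms.UniversallyInjective
import Mathlib.AlgebraicGeometry.Noetherian

set_option autoImplicit false
universe u
open CategoryTheory CategoryTheory.Limits AlgebraicGeometry
open Mor

namespace Groth.Agent.S15346

open CategoryTheory CategoryTheory.Limits AlgebraicGeometry TopologicalSpace IsLocalRing

/-- Let X be a locally Noetherian scheme and f : Y ⟶ X a monomorphism. Suppose that for every discrete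
valuation ring A with fraction field K and every commutative square Spec K ⟶ Y, Spec A ⟶ X over f
such that some morphism from the spectrum of the residue field of A to Y lies over Spec A ⟶ X, the
square admits a lift Spec A ⟶ Y. Then after every base change X' ⟶ X the projection Y ×_X X' ⟶ X'
reflects specializations. -/
theorem result {X Y : Scheme.{u}} [IsLocallyNoetherian X]
    (f : Y ⟶ X) [Mono f]
    (h : ∀ S : ValuativeCommSq f, IsDiscreteValuationRing S.R →
        (∃ l₀ : Spec (CommRingCat.of (IsLocalRing.ResidueField S.R)) ⟶ Y,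
            l₀ ≫ f = Spec.map (CommRingCat.ofHom (IsLocalRing.residue S.R)) ≫ S.i₂) →
          S.commSq.HasLift) :
    ∀ (X' : Scheme.{u}) (g : X' ⟶ X) (y₀ y₁ : ↥(pullback f g)),
        (pullback.snd f g).base y₁ ⤳ (pullback.snd f g).base y₀ → y₁ ⤳ y₀ := by
  refine fun X' g => Groth.Agent.H17.SpecReflect.reflects_of_lft f g fun X' g _ y₀ y₁ hsp => ?_
  have : IsLocallyNoetherian X' := LocallyOfFiniteType.isLocallyNoetherian g
  let sn := pullback.snd f g
  by_cases hne : sn y₀ = sn y₁
  · exact specializes_of_eq (sn.injective hne).symm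
  obtain ⟨A, t, hA, ht, htK⟩ := Groth.Agent.H11Val.exists_dvr_hom_through (𝟙 X') (sn y₁) (sn y₀) hsp hne
  rw [Category.comp_id] at htK
  obtain ⟨a, ha⟩ := Groth.Agent.H17.MonoField.exists_lift_of_mem_range sn
    (K := X'.residueField (sn y₁)) (X'.fromSpecResidueField (sn y₁))
    ⟨y₁, (Scheme.fromSpecResidueField_apply _ _).symm⟩
  have w : (a ≫ pullback.fst f g) ≫ f =
      Spec.map (CommRingCat.ofHom (algebraMap A (X'.residueField (sn y₁)))) ≫ t ≫ g := by
    rw [Category.assoc, pullback.condition, reassoc_of% ha, ← reassoc_of% htK]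
    rfl
  obtain ⟨l₀, hl₀⟩ := Groth.Agent.H17.MonoField.exists_lift_of_mem_range f
    (K := IsLocalRing.ResidueField A) (Spec.map (CommRingCat.ofHom (IsLocalRing.residue A)) ≫ t ≫ g) (by
      refine ⟨pullback.fst f g y₀, ?_⟩
      rw [← Scheme.Hom.comp_apply, pullback.condition, Scheme.Hom.comp_apply]
      show _ = g (t (Spec.map (CommRingCat.ofHom (IsLocalRing.residue A)) (closedPoint _)))
      rw [show Spec.map (CommRingCat.ofHom (IsLocalRing.residue A)) (closedPoint (IsLocalRing.ResidueField A)) =
        closedPoint A from IsLocalRing.comap_closedPoint (IsLocalRing.residue A), ht])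
  obtain ⟨l, hl₁, hl₂⟩ := (h { R := A, K := X'.residueField (sn y₁), i₁ := _, i₂ := t ≫ g, commSq := ⟨w⟩ }
    hA ⟨l₀, hl₀⟩).exists_lift
  dsimp only at hl₁ hl₂
  let L := pullback.lift l t hl₂
  have hz : L (closedPoint A) = y₀ := by
    apply sn.injective
    rw [← Scheme.Hom.comp_apply, pullback.lift_snd, ht]
  have hgen : Spec.map (CommRingCat.ofHom (algebraMap A (X'.residueField (sn y₁)))) ≫ L = a := by
    rw [← cancel_mono sn, Category.assoc, pullback.lift_snd, ha]
    exact htK
  have ha₁ : a (closedPoint (X'.residueField (sn y₁))) = y₁ := sn.injective (by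
    rw [← Scheme.Hom.comp_apply, ha, Scheme.fromSpecResidueField_apply])
  have e1 : y₁ = L (Spec.map (CommRingCat.ofHom (algebraMap A (X'.residueField (sn y₁))))
      (closedPoint (X'.residueField (sn y₁)))) :=
    ha₁.symm.trans (congr($hgen.symm (closedPoint (X'.residueField (sn y₁)))))
  exact (specializes_of_eq e1).trans (((specializes_closedPoint _).map L.continuous).trans (specializes_of_eq hz))

end Groth.Agent.S15346
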