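import Groth.Statements.S15347
import Groth.Agent.H17.Reduced
import Mathlib.AlgebraicGeometry.ValuativeCriterion

set_option autoImplicit false
universe u
open CategoryTheory CategoryTheory.Limits AlgebraicGeometry
open Mor

namespace Groth.Agent.S15347

open CategoryTheory Limits AlgebraicGeometry TopologicalSpace
open Groth.Agent.H17

/-- Let f : Y ⟶ X be an immersion of schemes. Then: for every valuation ring A with fraction field K and
every commutative square Spec K ⟶ Y, Spec A ⟶ X over f such that some morphism from the spectrum of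
the residue field of A to Y lies over Spec A ⟶ X, the square admits a lift; and for every integral
domain A and every morphism s : Spec A ⟶ X such that the points of a dense subset of Spec A lift to
Y (the residue field of each such point maps to Y over s), there is a nonempty open subscheme U of
Spec A with a morphism U ⟶ Y over s. (The published statement is for a representable, locally
finitely presented morphism of algebraic stacks with locally Noetherian target and a quasi-compact
immersion, and also lists that f is a monomorphism; this row is the case of schemes, for any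
immersion and any target.) -/
theorem result {X Y : Scheme.{u}} (f : Y ⟶ X) [IsImmersion f] :
    (∀ S : ValuativeCommSq f,
        (∃ l₀ : Spec (CommRingCat.of (IsLocalRing.ResidueField S.R)) ⟶ Y,
            l₀ ≫ f = Spec.map (CommRingCat.ofHom (IsLocalRing.residue S.R)) ≫ S.i₂) →
          S.commSq.HasLift) ∧
      ∀ (A : Type u) [CommRing A] [IsDomain A] (s : Spec (CommRingCat.of A) ⟶ X) (D : Set ↥(Spec (CommRingCat.of A))),
        Dense D →
        (∀ p ∈ D, ∃ l : Spec ((Spec (CommRingCat.of A)).residueField p) ⟶ Y,
            l ≫ f = (Spec (CommRingCat.of A)).fromSpecResidueField p ≫ s) →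
          ∃ U : (Spec (CommRingCat.of A)).Opens, (U : Set ↥(Spec (CommRingCat.of A))).Nonempty ∧
            ∃ l : (U : Scheme.{u}) ⟶ Y, l ≫ f = U.ι ≫ s := by
  have hY : Set.range f = closure (Set.range f) ∩ (f.coborderRange : Set X) :=
    (closure_inter_coborder).symm
  constructor
  · rintro ⟨R, K, i₁, i₂, ⟨w⟩⟩ ⟨l₀, hl₀⟩
    dsimp only at *
    have hc : i₂ (IsLocalRing.closedPoint R) ∈ Set.range f := by
      refine ⟨l₀ (IsLocalRing.closedPoint _), ?_⟩
      rw [← Scheme.Hom.comp_apply, hl₀, Scheme.Hom.comp_apply]
      exact congrArg i₂ (IsLocalRing.comap_closedPoint (IsLocalRing.residue R))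
    let g : Spec (.of R) := Spec.map (CommRingCat.ofHom (algebraMap R K)) (IsLocalRing.closedPoint K)
    have hg : i₂ g ∈ Set.range f := ⟨i₁ (IsLocalRing.closedPoint K), by
      rw [← Scheme.Hom.comp_apply, w]; rfl⟩
    have hgen : ∀ p : Spec (.of R), g ⤳ p := fun p => by
      refine (PrimeSpectrum.le_iff_specializes _ _).mp ?_
      show (IsLocalRing.maximalIdeal K).comap (algebraMap R K) ≤ p.asIdeal
      rw [IsLocalRing.maximalIdeal_eq_bot, ← RingHom.ker_eq_comap_bot,
        (RingHom.injective_iff_ker_eq_bot _).mp (IsFractionRing.injective R K)]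
      exact bot_le
    have : IsDomain (CommRingCat.of R) := ‹IsDomain R›
    obtain ⟨l, hl⟩ := exists_lift_immersion_of_range_subset i₂ f (by
      rintro _ ⟨p, rfl⟩
      rw [hY]
      refine ⟨?_, ?_⟩
      · exact ((hgen p).map i₂.continuous).mem_closed isClosed_closure (subset_closure hg)
      · exact ((IsLocalRing.specializes_closedPoint p).map i₂.continuous).mem_open f.coborderRange.2
          (hY ▸ hc).2)
    exact ⟨⟨⟨l, (cancel_mono f).mp (by rw [Category.assoc, hl]; exact w.symm), hl⟩⟩⟩
  · intro A _ _ s D hD hlift
    have hDf : D ⊆ s ⁻¹' Set.range f := fun p hp => by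
      obtain ⟨l, hl⟩ := hlift p hp
      refine ⟨l (IsLocalRing.closedPoint _), ?_⟩
      rw [← Scheme.Hom.comp_apply, hl, Scheme.Hom.comp_apply, Scheme.fromSpecResidueField_apply]
    have : IsDomain (CommRingCat.of A) := ‹IsDomain A›
    let U : (Spec (CommRingCat.of A)).Opens := s ⁻¹ᵁ f.coborderRange
    obtain ⟨p, hp⟩ := hD.nonempty
    refine ⟨U, ⟨p, (hY ▸ hDf hp).2⟩, ?_⟩
    refine exists_lift_immersion_of_range_subset (U.ι ≫ s) f ?_
    rintro _ ⟨z, rfl⟩
    rw [hY]
    refine ⟨?_, z.2⟩
    have h1 : s '' closure D ⊆ closure (Set.range f) :=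
      (image_closure_subset_closure_image s.continuous).trans
        (closure_mono (by rintro _ ⟨q, hq, rfl⟩; exact hDf hq))
    exact h1 ⟨_, hD.closure_eq ▸ trivial, rfl⟩

end Groth.Agent.S15347
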