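import Groth.Statements.S15349
import Groth.Agent.H17.MonoField
import Mathlib.AlgebraicGeometry.Noetherian
import Mathlib.AlgebraicGeometry.Morphisms.UniversallyInjective
import Mathlib.AlgebraicGeometry.Morphisms.FinitePresentation

set_option autoImplicit false
universe u
open CategoryTheory CategoryTheory.Limits AlgebraicGeometry
open Mor

namespace Groth.Agent.S15349

open CategoryTheory CategoryTheory.Limits AlgebraicGeometry TopologicalSpace
open IsLocalRing in

/-- Let X be a locally Noetherian scheme and f : Y ⟶ X a monomorphism locally of finite presentation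
such that, for every integral domain A and every morphism s : Spec A ⟶ X for which the points of a
dense subset of Spec A lift to Y (the residue field of each such point maps to Y over s), some
nonempty open subscheme of Spec A maps to Y over s. Then f is quasi-compact. (The published remark
is for a representable morphism of algebraic stacks; this row is the case of schemes.) -/
theorem result {X Y : Scheme.{u}} [IsLocallyNoetherian X]
    (f : Y ⟶ X) [LocallyOfFinitePresentation f] [Mono f]
    (hc : ∀ (A : Type u) [CommRing A] [IsDomain A] (s : Spec (CommRingCat.of A) ⟶ X) (D : Set ↥(Spec (CommRingCat.of A))),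
        Dense D →
        (∀ p ∈ D, ∃ l : Spec ((Spec (CommRingCat.of A)).residueField p) ⟶ Y,
            l ≫ f = (Spec (CommRingCat.of A)).fromSpecResidueField p ≫ s) →
          ∃ U : (Spec (CommRingCat.of A)).Opens, (U : Set ↥(Spec (CommRingCat.of A))).Nonempty ∧
            ∃ l : (U : Scheme.{u}) ⟶ Y, l ≫ f = U.ι ≫ s) :
    QuasiCompact f := by
  rw [quasiCompact_iff_forall_isAffineOpen]
  intro V hV
  haveI : IsNoetherianRing Γ(X, V) := IsLocallyNoetherian.component_noetherian ⟨V, hV⟩
  let φ : PrimeSpectrum Γ(X, V) → X := fun q => hV.fromSpec q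
  suffices h : ∀ I : Ideal Γ(X, V), IsCompact (f ⁻¹' (φ '' PrimeSpectrum.zeroLocus (I : Set Γ(X, V)))) by
    have := h ⊥
    rw [Submodule.bot_coe, PrimeSpectrum.zeroLocus_singleton_zero, Set.image_univ] at this
    rw [show Set.range φ = (V : Set X) from hV.range_fromSpec] at this
    exact this
  intro I
  induction I using WellFoundedGT.induction with
  | ind I ih =>
    by_cases htop : I = ⊤
    · subst htop
      rw [Submodule.top_coe, PrimeSpectrum.zeroLocus_univ, Set.image_empty, Set.preimage_empty]
      exact isCompact_empty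
    have hsup : ∀ c ∉ I, I < I ⊔ Ideal.span {c} := fun c hc => by
      refine lt_of_le_of_ne le_sup_left fun h => hc ?_
      rw [h]; exact Ideal.mem_sup_right (Ideal.mem_span_singleton_self c)
    by_cases hp : I.IsPrime
    swap
    · obtain ⟨a, b, ha, hb, hab⟩ : ∃ a b, a ∉ I ∧ b ∉ I ∧ a * b ∈ I := by
        by_contra hne
        push_neg at hne
        exact hp ⟨htop, fun {a b} h => by_contra fun h' => by
          rw [not_or] at h'; exact hne a b h'.1 h'.2 h⟩
      have e : PrimeSpectrum.zeroLocus (I : Set Γ(X, V)) =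
          PrimeSpectrum.zeroLocus ((I ⊔ Ideal.span {a} : Ideal Γ(X, V)) : Set Γ(X, V)) ∪
          PrimeSpectrum.zeroLocus ((I ⊔ Ideal.span {b} : Ideal Γ(X, V)) : Set Γ(X, V)) := by
        ext q
        simp only [Set.mem_union, PrimeSpectrum.mem_zeroLocus, SetLike.coe_subset_coe, sup_le_iff,
          Ideal.span_singleton_le_iff_mem]
        refine ⟨fun h => (q.isPrime.mem_or_mem (h hab)).imp (⟨h, ·⟩) (⟨h, ·⟩), ?_⟩
        rintro (h | h) <;> exact h.1
      rw [e, Set.image_union, Set.preimage_union]
      exact (ih _ (hsup a ha)).union (ih _ (hsup b hb))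
    haveI := hp
    let s : Spec (CommRingCat.of (Γ(X, V) ⧸ I)) ⟶ X :=
      Spec.map (CommRingCat.ofHom (Ideal.Quotient.mk I)) ≫ hV.fromSpec
    have hs : ∀ p, s p = hV.fromSpec (PrimeSpectrum.comap (Ideal.Quotient.mk I) p) := fun p => rfl
    have hrange : ∀ q : PrimeSpectrum Γ(X, V), q ∈ PrimeSpectrum.zeroLocus (I : Set Γ(X, V)) →
        ∃ p, PrimeSpectrum.comap (Ideal.Quotient.mk I) p = q := fun q hq => by
      have := range_comap_of_surjective (R := Γ(X, V)) (Γ(X, V) ⧸ I) (Ideal.Quotient.mk I) Ideal.Quotient.mk_surjective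
      rw [Ideal.mk_ker] at this
      exact this.ge hq
    have hbig : ∀ (c : Γ(X, V)), ∀ p : PrimeSpectrum (Γ(X, V) ⧸ I), p ∉ PrimeSpectrum.basicOpen (Ideal.Quotient.mk I c) →
        PrimeSpectrum.comap (Ideal.Quotient.mk I) p ∈ PrimeSpectrum.zeroLocus ((I ⊔ Ideal.span {c} : Ideal Γ(X, V)) : Set Γ(X, V)) := by
      intro c p hp
      rw [PrimeSpectrum.mem_basicOpen, not_not] at hp
      simp only [PrimeSpectrum.mem_zeroLocus, SetLike.coe_subset_coe, sup_le_iff, Ideal.span_singleton_le_iff_mem]
      exact ⟨fun r hr => by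
        show Ideal.Quotient.mk I r ∈ p.asIdeal
        rw [Ideal.Quotient.eq_zero_iff_mem.2 hr]; exact p.asIdeal.zero_mem, hp⟩
    let D : Set ↥(Spec (CommRingCat.of (Γ(X, V) ⧸ I))) := s ⁻¹' Set.range f
    by_cases hD : Dense D
    · obtain ⟨U, hU, l, hl⟩ := hc _ s D hD fun p hp => by
        refine Groth.Agent.H17.MonoField.exists_lift_of_mem_range f _ ?_
        show s ((Spec (CommRingCat.of (Γ(X, V) ⧸ I))).fromSpecResidueField p _) ∈ Set.range f
        rw [Scheme.fromSpecResidueField_apply]
        exact hp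
      obtain ⟨u, hu⟩ := hU
      obtain ⟨_, ⟨c, rfl⟩, huc, hcU⟩ :=
        PrimeSpectrum.isTopologicalBasis_basic_opens.exists_subset_of_mem_open hu U.2
      obtain ⟨c, rfl⟩ := Ideal.Quotient.mk_surjective c
      have hcI : c ∉ I := fun h => by
        simp [Ideal.Quotient.eq_zero_iff_mem.2 h] at huc
      have hcpt : IsCompact (l '' (U.ι ⁻¹'
          ((PrimeSpectrum.basicOpen (Ideal.Quotient.mk I c) : Opens (PrimeSpectrum (Γ(X, V) ⧸ I))) :
            Set (PrimeSpectrum (Γ(X, V) ⧸ I))))) := by
        refine IsCompact.image ?_ l.continuous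
        rw [U.ι.isOpenEmbedding.isInducing.isCompact_iff, Set.image_preimage_eq_of_subset
          (by rw [Scheme.Opens.range_ι]; exact hcU)]
        exact PrimeSpectrum.isCompact_basicOpen _
      convert hcpt.union (ih _ (hsup c hcI)) using 1
      apply Set.Subset.antisymm
      · rintro y ⟨q, hq, hqy⟩
        obtain ⟨p, rfl⟩ := hrange q hq
        by_cases hpc : p ∈ PrimeSpectrum.basicOpen (Ideal.Quotient.mk I c)
        · refine Or.inl ⟨⟨p, hcU hpc⟩, hpc, f.injective ?_⟩
          rw [← Scheme.Hom.comp_apply, hl]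
          exact hqy
        · exact Or.inr ⟨_, hbig c p hpc, hqy⟩
      · rintro y (⟨w, hw, rfl⟩ | ⟨q, hq, hqy⟩)
        · refine ⟨PrimeSpectrum.comap (Ideal.Quotient.mk I) w.1, ?_, ?_⟩
          · intro r hr
            show Ideal.Quotient.mk I r ∈ (w.1 : PrimeSpectrum _).asIdeal
            rw [Ideal.Quotient.eq_zero_iff_mem.2 hr]; exact Ideal.zero_mem _
          · show s (U.ι w) = f (l w)
            rw [← Scheme.Hom.comp_apply l f, hl]; rfl
        · exact ⟨q, PrimeSpectrum.zeroLocus_anti_mono (by exact (le_sup_left : I ≤ _)) hq, hqy⟩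
    · rw [dense_iff_inter_open] at hD
      push_neg at hD
      obtain ⟨O, hO, ⟨u, hu⟩, hOD⟩ := hD
      obtain ⟨_, ⟨c, rfl⟩, huc, hcO⟩ :=
        PrimeSpectrum.isTopologicalBasis_basic_opens.exists_subset_of_mem_open hu hO
      obtain ⟨c, rfl⟩ := Ideal.Quotient.mk_surjective c
      have hcI : c ∉ I := fun h => by
        simp [Ideal.Quotient.eq_zero_iff_mem.2 h] at huc
      convert ih _ (hsup c hcI) using 1
      apply Set.Subset.antisymm
      · rintro y ⟨q, hq, hqy⟩
        obtain ⟨p, rfl⟩ := hrange q hq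
        refine ⟨_, hbig c p fun hpc => ?_, hqy⟩
        exact (Set.eq_empty_iff_forall_notMem.1 hOD) p ⟨hcO hpc, ⟨y, hqy.symm⟩⟩
      · exact Set.preimage_mono (Set.image_mono (PrimeSpectrum.zeroLocus_anti_mono (by exact (le_sup_left : I ≤ _))))

end Groth.Agent.S15349
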