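import Groth.Statements.S15350
import Groth.Agent.H8Norm.ComponentsMeeting

set_option autoImplicit false
universe u
open CategoryTheory CategoryTheory.Limits AlgebraicGeometry
open MoreMor

namespace Groth.Agent.S15350

/-- Let f : X ⟶ S be smooth, quasi-compact and quasi-separated, let g : S' ⟶ S be universally open and
let e : S' ⟶ X satisfy e ≫ f = g. Then there is an open subset U of X (necessarily unique) such that
for every point s of S, U ∩ f⁻¹(s) is the union of those connected components of the fibre f⁻¹(s),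
with its subspace topology, which meet e(S'). -/
theorem result {S S' X : Scheme.{u}} (f : X ⟶ S)
    [Smooth f] [QuasiCompact f] [QuasiSeparated f] (g : S' ⟶ S) [UniversallyOpen g] (e : S' ⟶ X)
    (he : e ≫ f = g) :
    ∃ U : X.Opens, ∀ s : S, (U : Set ↥X) ∩ f.base ⁻¹' {s} =
      ⋃ x ∈ Set.range e.base ∩ f.base ⁻¹' {s}, connectedComponentIn (f.base ⁻¹' {s}) x := by
  let 𝒰 := S'.affineCover
  choose U hU using fun i => H8Norm.exists_open_components_of_affine f (𝒰.f i ≫ g) (𝒰.f i ≫ e)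
    (by rw [Category.assoc, he])
  refine ⟨⨆ i, U i, fun s => ?_⟩
  rw [TopologicalSpace.Opens.coe_iSup, Set.iUnion_inter]
  ext x
  simp only [Set.mem_iUnion, exists_prop]
  constructor
  · rintro ⟨i, hx⟩
    rw [hU i s] at hx
    simp only [Set.mem_iUnion, exists_prop] at hx
    obtain ⟨a, ⟨⟨t, rfl⟩, hts⟩, hx⟩ := hx
    exact ⟨_, ⟨⟨𝒰.f i t, rfl⟩, hts⟩, hx⟩
  · rintro ⟨a, ⟨⟨t, rfl⟩, hts⟩, hx⟩
    obtain ⟨i, t', rfl⟩ := 𝒰.exists_eq t
    refine ⟨i, ?_⟩
    rw [hU i s]
    exact Set.mem_iUnion₂.2 ⟨_, ⟨⟨t', rfl⟩, hts⟩, hx⟩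

end Groth.Agent.S15350
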