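import Groth.Statements.S15352
import Groth.Agent.H19Grp.Products

set_option autoImplicit false
universe u
open CategoryTheory CategoryTheory.Limits MonoidalCategory CartesianMonoidalCategory MonObj GrpObj AlgebraicGeometry
open GrpSch

namespace Groth.Agent.S15352

/-- Let k be an algebraically closed field, G a group scheme locally of finite type over k, G⁰ ⊆ G the
connected component of the unit point, and U a nonempty open subscheme of G contained in G⁰. Then
every point of G⁰ is in the image of the morphism U ×_k U ⟶ G, (g, h) ↦ g·h⁻¹. (The published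
statement writes U as an open of G mapping to G⁰ × G⁰; this row makes the containment U ⊆ G⁰
explicit.) -/
theorem result (k : Type u) [Field k] [IsAlgClosed k]
    (G : Over (Spec (CommRingCat.of k))) [GrpObj G] [LocallyOfFiniteType G.hom] (U : G.left.Opens)
    (hne : (U : Set ↥G.left).Nonempty)
    (hU : (U : Set ↥G.left) ⊆ connectedComponent (η[G].left.base (IsLocalRing.closedPoint k))) :
    connectedComponent (η[G].left.base (IsLocalRing.closedPoint k)) ⊆ Set.range
      ((((Over.homMk U.ι rfl : Over.mk (U.ι ≫ G.hom) ⟶ G) ⊗ₘ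
          ((Over.homMk U.ι rfl : Over.mk (U.ι ≫ G.hom) ⟶ G) ≫ ι[G])) ≫ μ[G]).left.base) := by
  intro y hy
  have hy' : y ∈ irreducibleComponent (Groth.Agent.H19Grp.ePt (Groth.Agent.H19Grp.grpToGrpd G) (Iso.refl _)) := by
    rw [← Groth.Agent.H19Grp.connectedComponent_eq_irreducibleComponent
      (Groth.Agent.H19Grp.grpToGrpd G) (Iso.refl _)]
    exact hy
  have hU' : (U : Set G.left) ⊆ irreducibleComponent
      (Groth.Agent.H19Grp.ePt (Groth.Agent.H19Grp.grpToGrpd G) (Iso.refl _)) := by
    rw [← Groth.Agent.H19Grp.connectedComponent_eq_irreducibleComponent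
      (Groth.Agent.H19Grp.grpToGrpd G) (Iso.refl _)]
    exact hU
  obtain ⟨w, h1, h2, rfl⟩ := Groth.Agent.H19Grp.exists_div_mem
    (Groth.Agent.H19Grp.grpToGrpd G) (Iso.refl _) U hne hU' y hy'
  have hw : w ∈ Set.range ((Over.homMk U.ι rfl : Over.mk (U.ι ≫ G.hom) ⟶ G) ⊗ₘ
      ((Over.homMk U.ι rfl : Over.mk (U.ι ≫ G.hom) ⟶ G) ≫ ι[G])).left.base := by
    rw [Over.tensorHom_left]
    erw [Scheme.Pullback.range_map]
    refine ⟨⟨⟨_, h1⟩, rfl⟩, ⟨⟨_, h2⟩, ?_⟩⟩
    show ι[G].left (ι[G].left _) = _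
    have := Groth.Agent.H19Grp.invR_invR (Groth.Agent.H19Grp.grpToGrpd G) (𝟙 G.left)
    rw [← Scheme.Hom.comp_apply]
    rw [show ι[G].left ≫ ι[G].left = 𝟙 G.left by simpa [Groth.Agent.H19Grp.invR] using this]
    rfl
  obtain ⟨v, hv⟩ := hw
  exact ⟨v, by rw [← hv]; rfl⟩

end Groth.Agent.S15352
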