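import Groth.Statements.S15353
import Groth.Agent.S3168
import Groth.Agent.S3169
import Mathlib.Algebra.Lie.OfAssociative
import Mathlib.RingTheory.Etale.Weakly
import Mathlib.RingTheory.Flat.TorsionFree
import Mathlib.RingTheory.PicardGroup

set_option autoImplicit false
universe u
open CAlg

namespace Groth.Agent.S15353

open scoped TensorProduct in
/-- Let f : A' → A be a surjective ring homomorphism whose kernel is a nilpotent ideal. Then the induced
homomorphism of Picard groups Pic(A') → Pic(A), base change of invertible modules along f, is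
bijective. -/
theorem result {A' A : Type u} [CommRing A'] [CommRing A]
    (f : A' →+* A) (hf : Function.Surjective f) (hker : IsNilpotent (RingHom.ker f)) :
    Function.Bijective (CommRing.Pic.mapRingHom f) := by
  obtain ⟨e, hef⟩ : ∃ e : A' ⧸ RingHom.ker f ≃+* A, f = e.toRingHom.comp (Ideal.Quotient.mk (RingHom.ker f)) :=
    ⟨RingHom.quotientKerEquivOfSurjective hf, RingHom.ext fun x => (RingHom.quotientKerEquivOfSurjective_apply_mk hf x).symm⟩
  suffices key : Function.Bijective (CommRing.Pic.mapRingHom (Ideal.Quotient.mk (RingHom.ker f))) by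
    rw [hef, ← CommRing.Pic.mapRingHom_comp_mapRingHom, MonoidHom.coe_comp]
    refine Function.Bijective.comp ?_ key
    exact Function.bijective_iff_has_inverse.mpr ⟨CommRing.Pic.mapRingHom e.symm.toRingHom,
      fun M => by rw [CommRing.Pic.mapRingHom_mapRingHom, RingEquiv.toRingHom_eq_coe, RingEquiv.toRingHom_eq_coe, RingEquiv.symm_comp, CommRing.Pic.mapRingHom_id_apply],
      fun M => by rw [CommRing.Pic.mapRingHom_mapRingHom, RingEquiv.toRingHom_eq_coe, RingEquiv.toRingHom_eq_coe, RingEquiv.comp_symm, CommRing.Pic.mapRingHom_id_apply]⟩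
  rw [show Ideal.Quotient.mk (RingHom.ker f) = algebraMap A' (A' ⧸ (RingHom.ker f)) from rfl, CommRing.Pic.mapRingHom_algebraMap]
  constructor
  · rw [injective_iff_map_eq_one]
    intro M hM
    letI : AddCommGroup M := Module.addCommMonoidToAddCommGroup A'
    rw [CommRing.Pic.mapAlgebra_apply, CommRing.Pic.mk_eq_one_iff] at hM
    obtain ⟨g⟩ := hM
    obtain ⟨g'⟩ := Groth.Agent.S3169.result (RingHom.ker f) hker M A' (g.trans (TensorProduct.AlgebraTensorModule.rid A' (A' ⧸ (RingHom.ker f)) (A' ⧸ (RingHom.ker f))).symm)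
    rw [← CommRing.Pic.mk_eq_self (M := M), CommRing.Pic.mk_eq_one_iff]
    exact ⟨g'⟩
  · intro M₀
    letI : AddCommGroup M₀ := Module.addCommMonoidToAddCommGroup (A' ⧸ (RingHom.ker f))
    obtain ⟨P, _, _, hP, ⟨gP⟩⟩ := Groth.Agent.S3168.result (RingHom.ker f) hker M₀
    obtain ⟨Q, _, _, hQ, ⟨gQ⟩⟩ := Groth.Agent.S3168.result (RingHom.ker f) hker (Module.Dual (A' ⧸ (RingHom.ker f)) M₀)
    let g1 : (A' ⧸ (RingHom.ker f)) ⊗[A'] (Q ⊗[A'] P) ≃ₗ[A' ⧸ (RingHom.ker f)] (A' ⧸ (RingHom.ker f)) ⊗[A'] A' :=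
      (TensorProduct.AlgebraTensorModule.distribBaseChange A' (A' ⧸ (RingHom.ker f)) Q P).trans
        (((TensorProduct.congr gQ gP).trans (Module.Invertible.linearEquiv (A' ⧸ (RingHom.ker f)) M₀)).trans
          (TensorProduct.AlgebraTensorModule.rid A' (A' ⧸ (RingHom.ker f)) (A' ⧸ (RingHom.ker f))).symm)
    obtain ⟨g2⟩ := Groth.Agent.S3169.result (RingHom.ker f) hker (Q ⊗[A'] P) A' g1
    have : Module.Invertible A' P := .right g2
    refine ⟨CommRing.Pic.mk A' P, ?_⟩
    rw [CommRing.Pic.mapAlgebra_apply, CommRing.Pic.mk_eq_iff]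
    obtain ⟨g3⟩ := CommRing.Pic.mk_eq_iff.mp (rfl : CommRing.Pic.mk A' P = CommRing.Pic.mk A' P)
    exact ⟨(TensorProduct.AlgebraTensorModule.congr (LinearEquiv.refl (A' ⧸ (RingHom.ker f)) (A' ⧸ (RingHom.ker f))) g3.symm).trans gP⟩

end Groth.Agent.S15353
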