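import Groth.Statements.S15354
import Groth.Agent.H17.Imports
import Mathlib.AlgebraicGeometry.ZariskisMainTheorem

set_option autoImplicit false
universe u
open CategoryTheory CategoryTheory.Limits AlgebraicGeometry
open Mor

namespace Groth.Agent.S15354

open CategoryTheory Limits AlgebraicGeometry TopologicalSpace

/-- Let f : Y ⟶ X be a morphism of schemes, A a valuation ring with fraction field K and residue field
k, and ξ, η : Spec A ⟶ Y two A-points of Y over the same A-point of X. If ξ and η restrict to the
same K-point and to the same k-point of Y, then ξ = η. (The published statement is an equivalence,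
for algebraic spaces locally of finite presentation over a Noetherian scheme, between local
separatedness of f and conditions (a), (b); this row is the necessity of (a) in the case of schemes,
where no hypothesis on f is needed.) -/
theorem result {X Y : Scheme.{u}} (f : Y ⟶ X)
    (A : Type u) [CommRing A] [IsDomain A] [ValuationRing A] (K : Type u) [Field K] [Algebra A K]
    [IsFractionRing A K] (ξ η : Spec (CommRingCat.of A) ⟶ Y) (hf : ξ ≫ f = η ≫ f)
    (hK : Spec.map (CommRingCat.ofHom (algebraMap A K)) ≫ ξ = Spec.map (CommRingCat.ofHom (algebraMap A K)) ≫ η)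
    (hk : Spec.map (CommRingCat.ofHom (IsLocalRing.residue A)) ≫ ξ =
      Spec.map (CommRingCat.ofHom (IsLocalRing.residue A)) ≫ η) :
    ξ = η := by
  let c : Spec (CommRingCat.of A) := IsLocalRing.closedPoint A
  have hc : ξ c = η c := by
    have hres : Spec.map (CommRingCat.ofHom (IsLocalRing.residue A)) (IsLocalRing.closedPoint (IsLocalRing.ResidueField A)) = c :=
      IsLocalRing.comap_closedPoint (IsLocalRing.residue A)
    have := congr($hk (IsLocalRing.closedPoint (IsLocalRing.ResidueField A)))
    rwa [Scheme.Hom.comp_apply, Scheme.Hom.comp_apply, hres] at this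
  obtain ⟨_, ⟨(U : Y.Opens), hU, rfl⟩, hyU, -⟩ :=
    Y.isBasis_affineOpens.exists_subset_of_mem_open (Set.mem_univ (ξ c)) isOpen_univ
  have : IsAffine U.toScheme := hU
  have hsub : ∀ g : Spec (CommRingCat.of A) ⟶ Y, g c ∈ U → Set.range g ⊆ Set.range U.ι := by
    rintro g hg _ ⟨t, rfl⟩
    rw [Scheme.Opens.range_ι]
    exact ((IsLocalRing.specializes_closedPoint t).map g.continuous).mem_open U.2 hg
  let a := IsOpenImmersion.lift U.ι ξ (hsub ξ hyU)
  let b := IsOpenImmersion.lift U.ι η (hsub η (hc ▸ hyU))
  have : IsDominant (Spec.map (CommRingCat.ofHom (algebraMap A K))) := ⟨by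
    refine PrimeSpectrum.denseRange_comap_iff_ker_le_nilRadical _ |>.mpr ?_
    rw [(RingHom.injective_iff_ker_eq_bot _).mp]
    · exact bot_le
    · exact IsFractionRing.injective A K⟩
  have hab : a = b := by
    refine ext_of_isDominant_of_isSeparated (terminal.from _) (Subsingleton.elim _ _)
      (Spec.map (CommRingCat.ofHom (algebraMap A K))) ?_
    rw [← cancel_mono U.ι, Category.assoc, Category.assoc, IsOpenImmersion.lift_fac, IsOpenImmersion.lift_fac, hK]
  rw [← IsOpenImmersion.lift_fac U.ι ξ (hsub ξ hyU), ← IsOpenImmersion.lift_fac U.ι η (hsub η (hc ▸ hyU))]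
  exact congrArg (· ≫ U.ι) hab

end Groth.Agent.S15354
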