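import Groth.Statements.S15355
import Groth.Agent.H17.Imports
import Mathlib.AlgebraicGeometry.ZariskisMainTheorem

set_option autoImplicit false
universe u
open CategoryTheory CategoryTheory.Limits AlgebraicGeometry
open Mor

namespace Groth.Agent.S15355

open CategoryTheory Limits AlgebraicGeometry TopologicalSpace

/-- Let f : Y ⟶ X be a morphism of schemes, A an integral domain and ξ, η : Spec A ⟶ Y two A-points of Y
over the same A-point of X. If ξ and η induce the same κ(p)-point of Y at every point p of some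
dense subset of Spec A, then ξ and η agree on a nonempty open subscheme of Spec A. (The published
statement is an equivalence, for algebraic spaces locally of finite presentation over a Noetherian
scheme, between local separatedness of f and conditions (a), (b); this row is the necessity of (b)
in the case of schemes, where no hypothesis on f is needed.) -/
theorem result {X Y : Scheme.{u}} (f : Y ⟶ X)
    (A : Type u) [CommRing A] [IsDomain A] (ξ η : Spec (CommRingCat.of A) ⟶ Y) (hf : ξ ≫ f = η ≫ f)
    (D : Set ↥(Spec (CommRingCat.of A))) (hD : Dense D)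
    (hpt : ∀ p ∈ D, (Spec (CommRingCat.of A)).fromSpecResidueField p ≫ ξ =
      (Spec (CommRingCat.of A)).fromSpecResidueField p ≫ η) :
    ∃ U : (Spec (CommRingCat.of A)).Opens, (U : Set ↥(Spec (CommRingCat.of A))).Nonempty ∧ U.ι ≫ ξ = U.ι ≫ η := by
  obtain ⟨p, hp⟩ := hD.nonempty
  have hpe : ∀ q ∈ D, ξ q = η q := fun q hq => by
    have := congr($(hpt q hq) (IsLocalRing.closedPoint ((Spec (CommRingCat.of A)).residueField q)))
    rwa [Scheme.Hom.comp_apply, Scheme.Hom.comp_apply, Scheme.fromSpecResidueField_apply] at this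
  obtain ⟨_, ⟨(V : Y.Opens), hV, rfl⟩, hyV, -⟩ :=
    Y.isBasis_affineOpens.exists_subset_of_mem_open (Set.mem_univ (ξ p)) isOpen_univ
  have : IsAffine V.toScheme := hV
  let U : (Spec (CommRingCat.of A)).Opens := ξ ⁻¹ᵁ V ⊓ η ⁻¹ᵁ V
  refine ⟨U, ⟨p, hyV, (show η p ∈ V from hpe p hp ▸ hyV)⟩, ?_⟩
  have h1 : Set.range (U.ι ≫ ξ) ⊆ Set.range V.ι := by
    rintro _ ⟨t, rfl⟩; rw [Scheme.Opens.range_ι]; exact t.2.1
  have h2 : Set.range (U.ι ≫ η) ⊆ Set.range V.ι := by
    rintro _ ⟨t, rfl⟩; rw [Scheme.Opens.range_ι]; exact t.2.2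
  let a := IsOpenImmersion.lift V.ι _ h1
  let b := IsOpenImmersion.lift V.ι _ h2
  have : IsReduced U.toScheme := isReduced_of_isOpenImmersion U.ι
  have hab : a = b := by
    refine ext_of_fromSpecResidueField_eq a b (terminal.from _) (U.ι ⁻¹' D) ?_ (fun t ht => ?_) (Subsingleton.elim _ _)
    · exact hD.preimage U.ι.isOpenEmbedding.isOpenMap
    · have h3 := congrArg (fun w => Spec.map (U.ι.residueFieldMap t) ≫ w) (hpt (U.ι t) ht)
      simp only [Scheme.Hom.SpecMap_residueFieldMap_fromSpecResidueField_assoc] at h3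
      rw [← cancel_mono V.ι, Category.assoc, Category.assoc, IsOpenImmersion.lift_fac, IsOpenImmersion.lift_fac]
      exact h3
  rw [← IsOpenImmersion.lift_fac V.ι (U.ι ≫ ξ) h1, ← IsOpenImmersion.lift_fac V.ι (U.ι ≫ η) h2]
  exact congrArg (· ≫ V.ι) hab

end Groth.Agent.S15355
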