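import Groth.Statements.S15357
import Groth.Agent.H14AlgSt.MonoQC

set_option autoImplicit false
set_option backward.isDefEq.respectTransparency false
set_option backward.isDefEq.respectTransparency.types false
universe u
open CategoryTheory AlgebraicGeometry
open AlgSt

namespace Groth.Agent.S15357

/-- Let S be a scheme, 𝒳 a locally Noetherian algebraic stack over S and f : 𝒴 ⟶ 𝒳 a morphism of
algebraic stacks over S which is representable by algebraic spaces, locally of finite presentation
and a monomorphism. Suppose that for every integral domain A and every a : Spec A ⟶ 𝒳 whose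
restrictions to the points of a dense subset of Spec A (through their residue fields) lift to 𝒴 up
to 2-isomorphism, the restriction of a to some nonempty open subscheme of Spec A lifts to 𝒴. Then f
is quasi-compact. (The published statement takes all algebraic stacks and algebraic spaces
quasi-separated; this row does not assume that.) -/
theorem result (S : Scheme.{u})
    (𝒳 𝒴 : AlgSt.Cat S) (h𝒳 : AlgSt.IsAlgStack Scheme.fppfPrecoverage 𝒳)
    (h𝒴 : AlgSt.IsAlgStack Scheme.fppfPrecoverage 𝒴)
    (hnoeth : AlgSt.SmoothLocally (fun X => IsLocallyNoetherian X) 𝒳) (f : 𝒴 ⥤ᵇ 𝒳)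
    (hrep : AlgSt.RepByAlgSp1 f) (hlfp : AlgSt.RepByAlgSpWith (AlgSp.LocP @LocallyOfFinitePresentation) f)
    (ha : AlgSt.IsMono f)
    (hc : ∀ (A : Type u) [CommRing A] [IsDomain A] (sA : Spec (CommRingCat.of A) ⟶ S)
      (a : FibCat.overCat (Over.mk sA) ⥤ᵇ 𝒳) (D : Set ↥(Spec (CommRingCat.of A))), Dense D →
      (∀ p ∈ D, ∃ yp : FibCat.overCat (Over.mk ((Spec (CommRingCat.of A)).fromSpecResidueField p ≫ sA)) ⥤ᵇ 𝒴,
          Nonempty (BasedFunctor.comp yp f ≅ BasedFunctor.comp (AlgSt.overMap (Over.homMk ((Spec (CommRingCat.of A)).fromSpecResidueField p) rfl : Over.mk (((Spec (CommRingCat.of A)).fromSpecResidueField p) ≫ sA) ⟶ Over.mk sA)) a)) →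
      ∃ U : (Spec (CommRingCat.of A)).Opens, (U : Set ↥(Spec (CommRingCat.of A))).Nonempty ∧
        ∃ yU : FibCat.overCat (Over.mk (U.ι ≫ sA)) ⥤ᵇ 𝒴,
          Nonempty (BasedFunctor.comp yU f ≅ BasedFunctor.comp (AlgSt.overMap (Over.homMk (U.ι) rfl : Over.mk ((U.ι) ≫ sA) ⟶ Over.mk sA)) a)) :
    AlgSt.RepByAlgSpWith AlgSp.IsQuasiCompactMor f := by
  exact H14AlgSt.repWith_qc_of_mono_dense h𝒳 hnoeth hlfp ha hc

end Groth.Agent.S15357
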