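import Groth.Statements.S15358
import Groth.Agent.H14AlgSt.DiagQC
-- import your own Groth.Agent.* helpers here

set_option autoImplicit false
universe u
open CategoryTheory AlgebraicGeometry
open AlgSt

namespace Groth.Agent.S15358

/-- Let S be a locally Noetherian scheme and 𝒳 an algebraic stack over S in the weak sense (no
quasi-separatedness assumed) which is locally of finite presentation over S (every scheme smooth
over 𝒳 is locally of finite presentation over S). Assume: for every affine scheme U over S and every
object x of 𝒳 over U, the sheaf Aut(x) = Isom(x, x) is an algebraic space quasi-compact over U; and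
for every integral affine scheme U over S and all objects x, y of 𝒳 over U such that, at each point
t of some dense subset of U, x and y become isomorphic after pulling back to the spectrum of some
field mapping onto t, the objects x and y become isomorphic over some dense open subscheme of U.
Then the diagonal of 𝒳 over S is quasi-compact. (The published statement, for stacks whose diagonal
is representable by quasi-separated algebraic spaces, concludes that 𝒳 is quasi-separated; this row
assumes nothing on the diagonal beyond representability and concludes that it is quasi-compact.) -/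
theorem result (S : Scheme.{u})
    [IsLocallyNoetherian S] (𝒳 : AlgSt.Cat S) (h𝒳 : AlgSt.IsAlgStack Scheme.fppfPrecoverage 𝒳)
    (hlfp : ∀ (U : Over S) (x : FibCat.overCat U ⥤ᵇ 𝒳),
      AlgSt.RepByAlgSpWith (AlgSp.LocP @Smooth) x → LocallyOfFinitePresentation U.hom)
    (hi : ∀ (U : Over S), IsAffine U.left → ∀ (x : FibCat.overCat U ⥤ᵇ 𝒳),
      ∃ (F : AlgSp.Space S) (e : AlgSt.ofSp F.obj ⥤ᵇ FibCat.fp (FibCat.fpLift x x (Iso.refl _)) (FibCat.diag (FibCat.toSelf 𝒳))),
        FibCat.IsEquivOver e ∧
          AlgSp.IsQuasiCompactMor (AlgSt.spMapOfOver (BasedFunctor.comp e (FibCat.fpFst _ _))))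
    (hii : ∀ (U : Over S), IsAffine U.left → IsIntegral U.left → ∀ (x y : FibCat.overCat U ⥤ᵇ 𝒳)
      (D : Set ↥U.left), Dense D →
      (∀ t ∈ D, ∃ (L : Type u) (_ : Field L) (g : Spec (CommRingCat.of L) ⟶ U.left), Set.range g.base = {t} ∧
        Nonempty (BasedFunctor.comp (AlgSt.overMap (Over.homMk g rfl : Over.mk (g ≫ U.hom) ⟶ U)) x ≅
          BasedFunctor.comp (AlgSt.overMap (Over.homMk g rfl : Over.mk (g ≫ U.hom) ⟶ U)) y)) →
      ∃ V : U.left.Opens, Dense (V : Set ↥U.left) ∧
        Nonempty (BasedFunctor.comp (AlgSt.overMap (Over.homMk V.ι rfl : Over.mk (V.ι ≫ U.hom) ⟶ U)) x ≅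
          BasedFunctor.comp (AlgSt.overMap (Over.homMk V.ι rfl : Over.mk (V.ι ≫ U.hom) ⟶ U)) y)) :
    AlgSt.RepByAlgSpWith AlgSp.IsQuasiCompactMor (FibCat.diag (FibCat.toSelf 𝒳)) := by
  exact H14AlgSt.repWith_qc_diag_of_generic_isom h𝒳 hlfp hi hii

end Groth.Agent.S15358
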