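import Groth.Statements.S15360
import Mathlib.NumberTheory.Padics.RingHoms
import Mathlib.NumberTheory.Padics.ProperSpace
import Mathlib.LinearAlgebra.Matrix.GeneralLinearGroup.Defs
import Mathlib.Tactic.Module
-- import your own Groth.Agent.* helpers here

set_option autoImplicit false
universe u
open GalCoh

namespace Groth.Agent.S15360

open Matrix in
theorem addSubgroup_eq_top_of_conj {F : Type*} [Field F] (hF : ∀ c : F, ∃ n : ℕ, (n : F) = c)
    (W : AddSubgroup (Matrix (Fin 2) (Fin 2) F))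
    (hconj : ∀ U : GL (Fin 2) F, ∀ X ∈ W, (U : Matrix (Fin 2) (Fin 2) F) * X * (↑U⁻¹ : Matrix (Fin 2) (Fin 2) F) ∈ W)
    (a : F) (ha : a ≠ 0) (h : !![a, 0; 0, 0] ∈ W) : W = ⊤ := by
  have hs : ∀ (c : F) (X : Matrix (Fin 2) (Fin 2) F), X ∈ W → c • X ∈ W := fun c X hX => by
    obtain ⟨n, rfl⟩ := hF c
    rw [Nat.cast_smul_eq_nsmul]
    exact W.nsmul_mem hX n
  have e11 : !![(1 : F), 0; 0, 0] ∈ W := by
    have h2 := hs a⁻¹ _ h
    simpa [Matrix.smul_of, inv_mul_cancel₀ ha] using h2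
  have key : ∀ (A B X Y : Matrix (Fin 2) (Fin 2) F) (h1 : A * B = 1) (h2 : B * A = 1), X ∈ W → A * X * B = Y → Y ∈ W :=
    fun A B X Y h1 h2 hX e => e ▸ hconj ⟨A, B, h1, h2⟩ X hX
  have e22 : !![(0 : F), 0; 0, 1] ∈ W := key !![0, 1; 1, 0] !![0, 1; 1, 0] _ _
    (by simp [Matrix.one_fin_two]) (by simp [Matrix.one_fin_two]) e11 (by ext i j; fin_cases i <;> fin_cases j <;> simp)
  have hu : !![(1 : F), 1; 0, 0] ∈ W := key !![1, 0; 0, 1] !![1, 0; 0, 1] _ _
    (by simp [Matrix.one_fin_two]) (by simp [Matrix.one_fin_two])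
    (key !![1, -1; 0, 1] !![1, 1; 0, 1] _ _ (by simp [Matrix.one_fin_two]) (by simp [Matrix.one_fin_two]) e11 rfl)
    (by ext i j; fin_cases i <;> fin_cases j <;> simp)
  have hl : !![(1 : F), 0; 1, 0] ∈ W := key !![1, 0; 1, 1] !![1, 0; -1, 1] _ _
    (by simp [Matrix.one_fin_two]) (by simp [Matrix.one_fin_two]) e11 (by ext i j; fin_cases i <;> fin_cases j <;> simp)
  refine eq_top_iff.2 fun M _ => ?_
  have e : M = M 0 0 • !![(1 : F), 0; 0, 0] + M 0 1 • (!![(1 : F), 1; 0, 0] - !![(1 : F), 0; 0, 0]) +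
      M 1 0 • (!![(1 : F), 0; 1, 0] - !![(1 : F), 0; 0, 0]) + M 1 1 • !![(0 : F), 0; 0, 1] := by
    ext i j
    fin_cases i <;> fin_cases j <;> simp
  rw [e]
  exact W.add_mem (W.add_mem (W.add_mem (hs _ _ e11) (hs _ _ (W.sub_mem hu e11))) (hs _ _ (W.sub_mem hl e11))) (hs _ _ e22)

/-- Let 𝔊 be a profinite group and ϕ : 𝔊 → GL₂(ℤ_p) a continuous homomorphism. Then ϕ is surjective if
and only if (i) the composite of ϕ with reduction modulo p, 𝔊 → GL₂(𝔽_p), is surjective, and (ii)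
for every integer n ≥ 1 there is g ∈ 𝔊 such that ϕ(g) has the form [[1 + pⁿa, pⁿ⁺¹b], [pⁿ⁺¹c, 1 +
pⁿ⁺¹d]] with a, b, c, d ∈ ℤ_p and a not divisible by p (equivalently: the image of ϕ⁻¹(1 +
pⁿM₂(ℤ_p)) in M₂(𝔽_p) under g ↦ (ϕ(g) − 1)/pⁿ contains a matrix [[x, 0], [0, 0]] with x ≠ 0).
Continuity of ϕ is expressed through its matrix entries. -/
theorem result (p : ℕ) [Fact p.Prime]
    (𝔊 : Type u) [Group 𝔊] [TopologicalSpace 𝔊] [IsTopologicalGroup 𝔊] [CompactSpace 𝔊] [T2Space 𝔊]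
    [TotallyDisconnectedSpace 𝔊]
    (ϕ : 𝔊 →* GL (Fin 2) ℤ_[p])
    (hϕ : Continuous fun g => ((ϕ g : GL (Fin 2) ℤ_[p]) : Matrix (Fin 2) (Fin 2) ℤ_[p])) :
    Function.Surjective ϕ ↔
      (Function.Surjective ((Matrix.GeneralLinearGroup.map (n := Fin 2) (PadicInt.toZMod (p := p))).comp ϕ) ∧
        ∀ n : ℕ, 1 ≤ n → ∃ (g : 𝔊) (a b c d : ℤ_[p]), ¬ ((p : ℤ_[p]) ∣ a) ∧
          ((ϕ g : GL (Fin 2) ℤ_[p]) : Matrix (Fin 2) (Fin 2) ℤ_[p]) =
            !![1 + (p : ℤ_[p]) ^ n * a, (p : ℤ_[p]) ^ (n + 1) * b;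
               (p : ℤ_[p]) ^ (n + 1) * c, 1 + (p : ℤ_[p]) ^ (n + 1) * d]) := by
  classical
  constructor
  · intro h
    refine ⟨fun y => ?_, fun n hn => ?_⟩
    · have hlift : Function.Surjective (PadicInt.toZMod (p := p)) := ZMod.ringHom_surjective _
      obtain ⟨m, hm⟩ : ∃ m : Matrix (Fin 2) (Fin 2) ℤ_[p], m.map (PadicInt.toZMod (p := p)) = y := by
        choose f hf using hlift
        exact ⟨(y : Matrix (Fin 2) (Fin 2) (ZMod p)).map f, by ext i j; simp [hf]⟩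
      have hu : IsUnit m := by
        have h1 : IsUnit (y : Matrix (Fin 2) (Fin 2) (ZMod p)).det := (Matrix.isUnit_iff_isUnit_det _).1 y.isUnit
        rw [← hm, ← RingHom.mapMatrix_apply, ← RingHom.map_det] at h1
        rw [Matrix.isUnit_iff_isUnit_det]
        by_contra hc
        exact h1.ne_zero (RingHom.mem_ker.1 (by rw [PadicInt.ker_toZMod]; exact hc))
      obtain ⟨g, hg⟩ := h hu.unit
      refine ⟨g, Units.ext ?_⟩
      rw [MonoidHom.comp_apply, hg]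
      exact hm
    · have hu : IsUnit (!![1 + (p : ℤ_[p]) ^ n, 0; 0, 1] : Matrix (Fin 2) (Fin 2) ℤ_[p]) := by
        rw [Matrix.isUnit_iff_isUnit_det, Matrix.det_fin_two_of, mul_one, mul_zero, sub_zero]
        by_contra hc
        have h2 : (p : ℤ_[p]) ^ n ∈ IsLocalRing.maximalIdeal ℤ_[p] := by
          rw [PadicInt.maximalIdeal_eq_span_p]
          exact Ideal.mem_span_singleton.2 (dvd_pow_self _ (by omega))
        exact IsLocalRing.maximalIdeal.isMaximal ℤ_[p] |>.ne_top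
          ((Ideal.eq_top_iff_one _).2 (by simpa using Ideal.sub_mem _ (show (1 + (p : ℤ_[p]) ^ n) ∈ IsLocalRing.maximalIdeal ℤ_[p] from hc) h2))
      obtain ⟨g, hg⟩ := h hu.unit
      refine ⟨g, 1, 0, 0, 0, fun hd => PadicInt.p_nonunit (isUnit_of_dvd_one hd), ?_⟩
      rw [hg, IsUnit.unit_spec]
      simp
  · rintro ⟨hred, hdiag⟩ y
    let π : Matrix (Fin 2) (Fin 2) ℤ_[p] →+* Matrix (Fin 2) (Fin 2) (ZMod p) := (PadicInt.toZMod (p := p)).mapMatrix
    have hker : ∀ X : Matrix (Fin 2) (Fin 2) ℤ_[p], π X = 0 → ∃ R : Matrix (Fin 2) (Fin 2) ℤ_[p], X = (p : ℤ_[p]) • R := by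
      intro X hX
      have h1 : ∀ i j, ∃ r, X i j = (p : ℤ_[p]) * r := fun i j => by
        have h2 : X i j ∈ RingHom.ker (PadicInt.toZMod (p := p)) := congr_fun (congr_fun hX i) j
        rw [PadicInt.ker_toZMod, PadicInt.maximalIdeal_eq_span_p, Ideal.mem_span_singleton] at h2
        exact h2
      choose R hR using h1
      exact ⟨Matrix.of R, by ext i j; exact hR i j⟩
    have hπp : ∀ X : Matrix (Fin 2) (Fin 2) ℤ_[p], π ((p : ℤ_[p]) • X) = 0 := fun X => by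
      ext i j
      simp [π, RingHom.mapMatrix_apply]
    have hall : ∀ n : ℕ, 1 ≤ n → ∀ X : Matrix (Fin 2) (Fin 2) ℤ_[p], ∃ (g : 𝔊) (R : Matrix (Fin 2) (Fin 2) ℤ_[p]),
        (ϕ g : Matrix (Fin 2) (Fin 2) ℤ_[p]) = 1 + (p : ℤ_[p]) ^ n • X + (p : ℤ_[p]) ^ (n + 1) • R := by
      intro n hn
      let Pn : Matrix (Fin 2) (Fin 2) (ZMod p) → Prop := fun Xb =>
        ∃ (g : 𝔊) (X R : Matrix (Fin 2) (Fin 2) ℤ_[p]), π X = Xb ∧ (ϕ g : Matrix (Fin 2) (Fin 2) ℤ_[p]) = 1 + (p : ℤ_[p]) ^ n • X + (p : ℤ_[p]) ^ (n + 1) • R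
      obtain ⟨n', rfl⟩ : ∃ n', n = n' + 1 := ⟨n - 1, by omega⟩
      have hadd : ∀ a b, Pn a → Pn b → Pn (a + b) := by
        rintro _ _ ⟨g, X, R, rfl, hg⟩ ⟨g', X', R', rfl, hg'⟩
        refine ⟨g * g', X + X', R + R' + (p : ℤ_[p]) ^ n' • ((X + (p : ℤ_[p]) • R) * (X' + (p : ℤ_[p]) • R')), map_add _ _ _, ?_⟩
        rw [map_mul, Units.val_mul, hg, hg']
        simp only [mul_add, add_mul, one_mul, mul_one, smul_add, Matrix.smul_mul, Matrix.mul_smul, smul_smul]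
        module
      have hzero : Pn 0 := ⟨1, 0, 0, map_zero _, by simp⟩
      have hnsmul : ∀ a (k : ℕ), Pn a → Pn (k • a) := fun a k ha => by
        induction k with
        | zero => simpa using hzero
        | succ k ih => rw [succ_nsmul]; exact hadd _ _ ih ha
      let W : AddSubgroup (Matrix (Fin 2) (Fin 2) (ZMod p)) :=
        { carrier := {a | Pn a}
          add_mem' := fun ha hb => hadd _ _ ha hb
          zero_mem' := hzero
          neg_mem' := fun {a} ha => by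
            have e : -a = (p - 1) • a := by
              have h1 : ((p - 1 : ℕ) : ZMod p) = -1 := by
                rw [Nat.cast_sub (Fact.out : p.Prime).one_le, ZMod.natCast_self]; simp
              rw [← Nat.cast_smul_eq_nsmul (ZMod p), h1, neg_one_smul]
            show Pn (-a)
            rw [e]
            exact hnsmul _ _ ha }
      have hW : W = ⊤ := by
        obtain ⟨g, a, b, c, d, ha, hg⟩ := hdiag (n' + 1) hn
        refine addSubgroup_eq_top_of_conj (fun c => ⟨c.val, ZMod.natCast_zmod_val c⟩) W ?_ (PadicInt.toZMod a) ?_ ?_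
        · rintro U X ⟨g, X, R, rfl, hg⟩
          obtain ⟨u, hu⟩ := hred U
          refine ⟨u * g * u⁻¹, (ϕ u : Matrix (Fin 2) (Fin 2) ℤ_[p]) * X * (↑(ϕ u)⁻¹ : Matrix (Fin 2) (Fin 2) ℤ_[p]), (ϕ u : Matrix (Fin 2) (Fin 2) ℤ_[p]) * R * (↑(ϕ u)⁻¹ : Matrix (Fin 2) (Fin 2) ℤ_[p]), ?_, ?_⟩
          · rw [map_mul, map_mul, ← hu]
            rfl
          · rw [map_mul, map_mul, map_inv, Units.val_mul, Units.val_mul, hg]
            simp only [mul_add, add_mul, mul_one, Matrix.mul_smul, Matrix.smul_mul]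
            rw [Units.mul_inv]
        · intro h0
          apply ha
          rw [← Ideal.mem_span_singleton, ← PadicInt.maximalIdeal_eq_span_p, ← PadicInt.ker_toZMod]
          exact h0
        · refine ⟨g, !![a, (p : ℤ_[p]) * b; (p : ℤ_[p]) * c, (p : ℤ_[p]) * d], 0, ?_, ?_⟩
          · ext i j; fin_cases i <;> fin_cases j <;> simp [π]
          · rw [hg]
            ext i j
            fin_cases i <;> fin_cases j <;> simp [pow_succ] <;> ring
      intro X
      obtain ⟨g, X', R, hX', hg⟩ := (hW ▸ AddSubgroup.mem_top (π X) : π X ∈ W)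
      obtain ⟨D, hD⟩ := hker (X' - X) (by rw [map_sub, hX', sub_self])
      refine ⟨g, D + R, ?_⟩
      rw [hg, show X' = X + (p : ℤ_[p]) • D by rw [← hD, add_sub_cancel]]
      simp only [smul_add, smul_smul, ← pow_succ]
      abel
    have happrox : ∀ n : ℕ, ∃ (g : 𝔊) (R : Matrix (Fin 2) (Fin 2) ℤ_[p]), (ϕ g : Matrix (Fin 2) (Fin 2) ℤ_[p]) = (y : Matrix (Fin 2) (Fin 2) ℤ_[p]) + (p : ℤ_[p]) ^ (n + 1) • R := by
      intro n
      induction n with
      | zero =>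
        obtain ⟨g, hg⟩ := hred (Matrix.GeneralLinearGroup.map (PadicInt.toZMod (p := p)) y)
        have h1 : π (ϕ g : Matrix (Fin 2) (Fin 2) ℤ_[p]) = π (y : Matrix (Fin 2) (Fin 2) ℤ_[p]) := congrArg Units.val hg
        obtain ⟨R, hR⟩ := hker ((ϕ g : Matrix (Fin 2) (Fin 2) ℤ_[p]) - (y : Matrix (Fin 2) (Fin 2) ℤ_[p])) (by rw [map_sub, h1, sub_self])
        exact ⟨g, R, by rw [zero_add, pow_one, ← hR, add_sub_cancel]⟩
      | succ n ih =>
        obtain ⟨g, R, hg⟩ := ih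
        obtain ⟨h, R', hh⟩ := hall (n + 1) (by omega) (-((↑(ϕ g)⁻¹ : Matrix (Fin 2) (Fin 2) ℤ_[p]) * R))
        refine ⟨g * h, (ϕ g : Matrix (Fin 2) (Fin 2) ℤ_[p]) * R', ?_⟩
        rw [map_mul, Units.val_mul, hh]
        simp only [mul_add, mul_one, Matrix.mul_smul, Matrix.mul_neg, smul_neg, ← mul_assoc, Units.mul_inv, one_mul]
        rw [hg]
        abel
    have hclosed : IsClosed (Set.range fun g => (ϕ g : Matrix (Fin 2) (Fin 2) ℤ_[p])) := (isCompact_range hϕ).isClosed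
    choose g R hgR using happrox
    have hlim : Filter.Tendsto (fun n => (ϕ (g n) : Matrix (Fin 2) (Fin 2) ℤ_[p])) Filter.atTop (nhds (y : Matrix (Fin 2) (Fin 2) ℤ_[p])) := by
      refine tendsto_pi_nhds.2 fun i => tendsto_pi_nhds.2 fun j => ?_
      rw [tendsto_iff_norm_sub_tendsto_zero]
      refine squeeze_zero (fun n => norm_nonneg _) (fun n => ?_)
        ((tendsto_pow_atTop_nhds_zero_of_lt_one (norm_nonneg (p : ℤ_[p])) ((PadicInt.norm_lt_one_iff_dvd _).2 dvd_rfl)).comp (Filter.tendsto_add_atTop_nat 1))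
      rw [hgR n, Matrix.add_apply, add_sub_cancel_left, Matrix.smul_apply, smul_eq_mul, norm_mul, norm_pow]
      exact mul_le_of_le_one_right (pow_nonneg (norm_nonneg _) _) (PadicInt.norm_le_one _)
    obtain ⟨g, hg⟩ := hclosed.mem_of_tendsto hlim (Filter.Eventually.of_forall fun n => ⟨g n, rfl⟩)
    exact ⟨g, Units.ext hg⟩

end Groth.Agent.S15360
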