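import Groth.Statements.S15361
import Mathlib

set_option autoImplicit false
open GalCoh

namespace Groth.Agent.S15361

/-- Let p be a prime and H a subgroup of GL₂(𝔽_p). Then H = GL₂(𝔽_p) if and only if (i) some non-split
Cartan subgroup lies in H, i.e. some subgroup C ≤ H such that C ∪ {0} is a subfield of the matrix
algebra M₂(𝔽_p) with p² elements, and (ii) p divides the order of H. -/
theorem result (p : ℕ) [Fact p.Prime]
    (H : Subgroup (GL (Fin 2) (ZMod p))) :
    H = ⊤ ↔
      (∃ (C : Subgroup (GL (Fin 2) (ZMod p))) (E : Subring (Matrix (Fin 2) (Fin 2) (ZMod p))),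
          C ≤ H ∧ IsField E ∧ Nat.card E = p ^ 2 ∧
            (E : Set (Matrix (Fin 2) (Fin 2) (ZMod p))) =
              insert 0 ((fun g : GL (Fin 2) (ZMod p) => (g : Matrix (Fin 2) (Fin 2) (ZMod p))) ''
                (C : Set (GL (Fin 2) (ZMod p))))) ∧
        p ∣ Nat.card H := by
  classical
  have hp := (Fact.out : p.Prime)
  constructor
  · rintro rfl
    refine ⟨?_, ?_⟩
    · let F := GaloisField p 2
      let b := Module.finBasisOfFinrankEq (ZMod p) F (GaloisField.finrank p two_ne_zero)
      let φ : F →+* (Matrix (Fin 2) (Fin 2) (ZMod p)) := (Algebra.leftMulMatrix b).toRingHom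
      have hφ : Function.Injective φ := Algebra.leftMulMatrix_injective b
      let e : F ≃+* φ.range := RingEquiv.ofBijective φ.rangeRestrict
        ⟨fun x y h => hφ (congrArg Subtype.val h), φ.rangeRestrict_surjective⟩
      let Φ : Fˣ →* GL (Fin 2) (ZMod p) := Units.map φ.toMonoidHom
      refine ⟨Φ.range, φ.range, le_top, e.toMulEquiv.symm.isField (Field.toIsField F), ?_, ?_⟩
      · rw [Nat.card_congr e.symm.toEquiv, GaloisField.card p 2 two_ne_zero]
      · ext m
        simp only [SetLike.mem_coe, RingHom.mem_range, Set.mem_insert_iff, Set.mem_image, MonoidHom.mem_range]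
        constructor
        · rintro ⟨x, rfl⟩
          by_cases hx : x = 0
          · left; rw [hx, map_zero]
          · right; exact ⟨Φ (Units.mk0 x hx), ⟨_, rfl⟩, rfl⟩
        · rintro (rfl | ⟨g, ⟨x, rfl⟩, rfl⟩)
          · exact ⟨0, map_zero φ⟩
          · exact ⟨x, rfl⟩
    · have hT : ∀ a : ZMod p, IsUnit (Matrix.transvection (0 : Fin 2) 1 a) := fun a =>
        (Matrix.isUnit_iff_isUnit_det _).mpr (by rw [Matrix.det_transvection_of_ne _ _ (by decide)]; exact isUnit_one)
      let t : GL (Fin 2) (ZMod p) := (hT 1).unit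
      have hpow : ∀ n : ℕ, ((t ^ n : GL (Fin 2) (ZMod p)) : (Matrix (Fin 2) (Fin 2) (ZMod p))) = Matrix.transvection 0 1 (n : ZMod p) := by
        intro n
        induction n with
        | zero => simp [Matrix.transvection]
        | succ n ih =>
          rw [pow_succ, Units.val_mul, ih, IsUnit.unit_spec,
            Matrix.transvection_mul_transvection_same _ _ (by decide), Nat.cast_succ]
      have hord : orderOf t = p := orderOf_eq_prime (Units.ext (by
          rw [hpow, ZMod.natCast_self, Matrix.transvection_zero]; rfl)) (fun h => by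
        have h1 := congrArg (fun g : GL (Fin 2) (ZMod p) => (g : (Matrix (Fin 2) (Fin 2) (ZMod p))) 0 1) h
        simp [t, Matrix.transvection] at h1)
      rw [Subgroup.card_top]
      have h2 := orderOf_dvd_natCard t
      rwa [hord] at h2
  · rintro ⟨⟨C, E, hCH, hE, hcardE, hEC⟩, hpH⟩
    letI : Field E := hE.toField
    have hC : ∀ e ∈ E, e ≠ 0 → ∃ c ∈ C, (c : (Matrix (Fin 2) (Fin 2) (ZMod p))) = e := by
      intro e he he0
      have : e ∈ (E : Set (Matrix (Fin 2) (Fin 2) (ZMod p))) := he
      rw [hEC] at this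
      rcases this with h | ⟨c, hc, hce⟩
      · exact absurd h he0
      · exact ⟨c, hc, hce⟩
    -- the orbit map `E → F_p²` of a nonzero vector is bijective
    have htrans : ∀ v w : Fin 2 → ZMod p, v ≠ 0 → w ≠ 0 → ∃ c ∈ C, (c : (Matrix (Fin 2) (Fin 2) (ZMod p))).mulVec v = w := by
      intro v w hv hw
      have hinj : Function.Injective fun e : E => (e : (Matrix (Fin 2) (Fin 2) (ZMod p))).mulVec v := by
        intro e e' h
        by_contra hne
        obtain ⟨c, -, hc⟩ := hC _ (e - e').2 (fun h0 => hne (sub_eq_zero.mp (Subtype.ext h0)))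
        refine hv (Matrix.mulVec_injective_iff_isUnit.mpr c.isUnit ?_)
        rw [hc, Matrix.mulVec_zero, AddSubgroupClass.coe_sub, Matrix.sub_mulVec, sub_eq_zero]
        exact h
      haveI : Finite E := Nat.finite_of_card_ne_zero (by rw [hcardE]; exact pow_ne_zero 2 hp.ne_zero)
      have hbij := (Nat.bijective_iff_injective_and_card _).mpr ⟨hinj, by rw [hcardE]; simp⟩
      obtain ⟨e, he⟩ := hbij.surjective w
      obtain ⟨c, hc, hce⟩ := hC _ e.2 (fun h0 => hw (by rw [← he]; simp [h0]))
      exact ⟨c, hc, by rw [hce]; exact he⟩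
    -- a unipotent element
    haveI : Finite H := inferInstance
    obtain ⟨⟨u, huH⟩, hu⟩ := exists_prime_orderOf_dvd_card' (G := H) p hpH
    set N : (Matrix (Fin 2) (Fin 2) (ZMod p)) := (u : (Matrix (Fin 2) (Fin 2) (ZMod p))) - 1 with hN
    have hup : (u : (Matrix (Fin 2) (Fin 2) (ZMod p))) ^ p = 1 := by
      have := pow_orderOf_eq_one (⟨u, huH⟩ : H)
      rw [hu] at this
      simpa using congrArg (fun x : H => ((x : GL (Fin 2) (ZMod p)) : (Matrix (Fin 2) (Fin 2) (ZMod p)))) this
    have hNp : IsNilpotent N := ⟨p, by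
      rw [hN, sub_pow_char_of_commute _ (Commute.one_right _), hup, one_pow, sub_self]⟩
    have hN2 : ∀ N' : (Matrix (Fin 2) (Fin 2) (ZMod p)), IsNilpotent N' → N' * N' = 0 := by
      intro N' h
      have h1 : N'.trace = 0 := (Matrix.isNilpotent_trace_of_isNilpotent h).eq_zero
      have h2 : N'.det = 0 := by
        obtain ⟨n, hn⟩ := h
        have := congrArg Matrix.det hn
        rw [Matrix.det_pow, Matrix.det_zero] at this
        exact (pow_eq_zero_iff'.mp this).1
      rw [Matrix.trace_fin_two] at h1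
      rw [Matrix.det_fin_two] at h2
      ext i j
      fin_cases i <;> fin_cases j <;> simp [Matrix.mul_apply, Fin.sum_univ_two]
      · linear_combination N' 0 0 * h1 - h2
      · linear_combination N' 0 1 * h1
      · linear_combination N' 1 0 * h1
      · linear_combination N' 1 1 * h1 - h2
    have hN0 : N ≠ 0 := by
      intro h
      have h1 : u = 1 := Units.ext (sub_eq_zero.mp h)
      subst h1
      rw [show (⟨1, huH⟩ : H) = 1 from rfl, orderOf_one] at hu
      exact hp.ne_one hu.symm
    obtain ⟨j₀, hj₀⟩ : ∃ j, N.mulVec (Pi.single j 1) ≠ 0 := by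
      by_contra h
      push Not at h
      exact hN0 (Matrix.ext fun i j => by simpa [Matrix.mulVec_single_one] using congrFun (h j) i)
    set v := N.mulVec (Pi.single j₀ 1)
    have hNv : N.mulVec v = 0 := by
      rw [Matrix.mulVec_mulVec, hN2 N hNp, Matrix.zero_mulVec]
    have hne : ∀ i : Fin 2, i ≠ 1 - i := by decide
    have hcases : ∀ i k : Fin 2, k = i ∨ k = 1 - i := by decide
    have hTmem : ∀ (i : Fin 2) (a : ZMod p), ∃ h ∈ H, (h : (Matrix (Fin 2) (Fin 2) (ZMod p))) = Matrix.transvection i (1 - i) a := by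
      intro i a
      obtain ⟨c, hc, hcv⟩ := htrans v (Pi.single i 1) hj₀ (by simp)
      set N' : (Matrix (Fin 2) (Fin 2) (ZMod p)) := (c : (Matrix (Fin 2) (Fin 2) (ZMod p))) * N * ((c⁻¹ : GL (Fin 2) (ZMod p)) : (Matrix (Fin 2) (Fin 2) (ZMod p)))
      have hN'v : N'.mulVec (Pi.single i 1) = 0 := by
        rw [← hcv, Matrix.mulVec_mulVec, mul_assoc _ _ (c : (Matrix (Fin 2) (Fin 2) (ZMod p))), ← Units.val_mul, inv_mul_cancel, Units.val_one,
          mul_one, ← Matrix.mulVec_mulVec, hNv, Matrix.mulVec_zero]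
      have hN'n : IsNilpotent N' := ⟨p, by
        obtain ⟨n, hn⟩ := hNp
        rw [Units.conj_pow c N, show N ^ p = 0 by
          rw [hN, sub_pow_char_of_commute _ (Commute.one_right _), hup, one_pow, sub_self], mul_zero, zero_mul]⟩
      have hcol : ∀ k, N' k i = 0 := fun k => by
        have := congrFun hN'v k
        simpa [Matrix.mulVec_single_one] using this
      set β := N' i (1 - i)
      have hN'eq : N' = Matrix.single i (1 - i) β := by
        have htr := (Matrix.isNilpotent_trace_of_isNilpotent hN'n).eq_zero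
        rw [Matrix.trace_fin_two] at htr
        have hd : N' (1 - i) (1 - i) = 0 := by
          fin_cases i
          · simpa [show N' 0 0 = 0 from hcol 0] using htr
          · simpa [show N' 1 1 = 0 from hcol 1] using htr
        ext k l
        rcases hcases i l with rfl | rfl
        · rw [hcol, Matrix.single_apply, if_neg (fun h => hne _ h.2.symm)]
        · rcases hcases i k with rfl | rfl
          · simp [β]
          · rw [hd, Matrix.single_apply, if_neg (fun h => hne _ h.1)]
      have hβ : β ≠ 0 := by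
        intro h
        rw [h, Matrix.single_zero] at hN'eq
        apply hN0
        have h1 := congrArg (fun X : (Matrix (Fin 2) (Fin 2) (ZMod p)) => ((c⁻¹ : GL (Fin 2) (ZMod p)) : (Matrix (Fin 2) (Fin 2) (ZMod p))) * X * (c : (Matrix (Fin 2) (Fin 2) (ZMod p)))) hN'eq
        simpa [N', mul_assoc] using h1
      have hg : ((c * u * c⁻¹ : GL (Fin 2) (ZMod p)) : (Matrix (Fin 2) (Fin 2) (ZMod p))) = Matrix.transvection i (1 - i) β := by
        rw [Units.val_mul, Units.val_mul, Matrix.transvection, ← hN'eq, ← add_sub_cancel (1 : (Matrix (Fin 2) (Fin 2) (ZMod p))) (u : (Matrix (Fin 2) (Fin 2) (ZMod p))), ← hN,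
          mul_add, add_mul, mul_one, ← Units.val_mul, mul_inv_cancel, Units.val_one]
      refine ⟨(c * u * c⁻¹) ^ ((a / β).val), pow_mem (mul_mem (mul_mem (hCH hc) huH) (inv_mem (hCH hc))) _, ?_⟩
      rw [Units.val_pow_eq_pow_val, hg]
      have hpow : ∀ n : ℕ, Matrix.transvection i (1 - i) β ^ n = Matrix.transvection i (1 - i) ((n : ZMod p) * β) := by
        intro n
        induction n with
        | zero => simp [Matrix.transvection]
        | succ n ih =>
          rw [pow_succ, ih, Matrix.transvection_mul_transvection_same _ _ (hne i), Nat.cast_succ, add_mul, one_mul]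
      rw [hpow, ZMod.natCast_val, ZMod.cast_id, div_mul_cancel₀ _ hβ]
    have hnorm : ∀ g : GL (Fin 2) (ZMod p), ∃ s ∈ H, ∃ t ∈ H,
        ((s * g * t : GL (Fin 2) (ZMod p)) : (Matrix (Fin 2) (Fin 2) (ZMod p))) = !![1, 0; 0, (g : (Matrix (Fin 2) (Fin 2) (ZMod p))).det] := by
      intro g
      obtain ⟨s₀, hs₀, hc0⟩ : ∃ s₀ ∈ H, ((s₀ * g : GL (Fin 2) (ZMod p)) : (Matrix (Fin 2) (Fin 2) (ZMod p))) 1 0 ≠ 0 ∧
          ((s₀ * g : GL (Fin 2) (ZMod p)) : (Matrix (Fin 2) (Fin 2) (ZMod p))).det = (g : (Matrix (Fin 2) (Fin 2) (ZMod p))).det := by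
        by_cases h : (g : (Matrix (Fin 2) (Fin 2) (ZMod p))) 1 0 = 0
        · obtain ⟨s, hs, hse⟩ := hTmem 1 1
          refine ⟨s, hs, ?_, ?_⟩
          · rw [Units.val_mul, hse]
            have hd : (g : (Matrix (Fin 2) (Fin 2) (ZMod p))).det ≠ 0 := ((Matrix.isUnit_iff_isUnit_det _).mp g.isUnit).ne_zero
            rw [Matrix.det_fin_two, h, mul_zero, sub_zero] at hd
            simpa [Matrix.mul_apply, Fin.sum_univ_two, Matrix.transvection, h] using left_ne_zero_of_mul hd
          · rw [Units.val_mul, hse, Matrix.det_mul, Matrix.det_transvection_of_ne _ _ (by decide), one_mul]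
        · exact ⟨1, one_mem H, by simpa using h, by simp⟩
      set X : (Matrix (Fin 2) (Fin 2) (ZMod p)) := ((s₀ * g : GL (Fin 2) (ZMod p)) : (Matrix (Fin 2) (Fin 2) (ZMod p))) with hX
      obtain ⟨s₁, hs₁, hs₁e⟩ := hTmem 0 ((1 - X 0 0) / X 1 0)
      obtain ⟨s₂, hs₂, hs₂e⟩ := hTmem 1 (-X 1 0)
      obtain ⟨t, ht, hte⟩ := hTmem 0 (-(X 0 1 + (1 - X 0 0) / X 1 0 * X 1 1))
      refine ⟨s₂ * s₁ * s₀, mul_mem (mul_mem hs₂ hs₁) hs₀, t, ht, ?_⟩
      have e : ((s₂ * s₁ * s₀ * g * t : GL (Fin 2) (ZMod p)) : (Matrix (Fin 2) (Fin 2) (ZMod p))) = (s₂ : (Matrix (Fin 2) (Fin 2) (ZMod p))) * (s₁ : (Matrix (Fin 2) (Fin 2) (ZMod p))) * X * (t : (Matrix (Fin 2) (Fin 2) (ZMod p))) := by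
        simp only [hX, Units.val_mul, mul_assoc]
      rw [e, hs₁e, hs₂e, hte, ← hc0.2]
      obtain ⟨hc1, -⟩ := hc0
      ext i j
      fin_cases i <;> fin_cases j <;>
        simp [Matrix.mul_apply, Fin.sum_univ_two, Matrix.transvection, Matrix.det_fin_two] <;>
        field_simp <;> ring
    -- determinants
    rw [eq_top_iff]
    intro g _
    obtain ⟨s, hs, t, ht, hg⟩ := hnorm g
    haveI : Finite E := Nat.finite_of_card_ne_zero (by rw [hcardE]; exact pow_ne_zero 2 hp.ne_zero)
    have hdetE : ∀ e : E, (algebraMap (ZMod p) (Matrix (Fin 2) (Fin 2) (ZMod p)) (e : (Matrix (Fin 2) (Fin 2) (ZMod p))).det) = (e : (Matrix (Fin 2) (Fin 2) (ZMod p))) ^ (p + 1) := by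
      intro e
      have hscal : ∀ k : ZMod p, algebraMap (ZMod p) (Matrix (Fin 2) (Fin 2) (ZMod p)) k = ((k.val : E) : (Matrix (Fin 2) (Fin 2) (ZMod p))) := fun k => by
        rw [show (((k.val : E)) : Matrix (Fin 2) (Fin 2) (ZMod p)) = (k.val : Matrix (Fin 2) (Fin 2) (ZMod p)) from
          map_natCast E.subtype k.val, ← map_natCast (algebraMap (ZMod p) (Matrix (Fin 2) (Fin 2) (ZMod p))), ZMod.natCast_val, ZMod.cast_id]
      haveI : CharP E p := (E.subtype.charP_iff Subtype.val_injective p).mpr inferInstance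
      let n : E := ((e : (Matrix (Fin 2) (Fin 2) (ZMod p))).det.val : E)
      let τ : E := ((e : (Matrix (Fin 2) (Fin 2) (ZMod p))).trace.val : E)
      have hq : e * e - τ * e + n = 0 := by
        refine Subtype.ext ?_
        push_cast
        rw [show ((τ : E) : (Matrix (Fin 2) (Fin 2) (ZMod p))) = algebraMap (ZMod p) (Matrix (Fin 2) (Fin 2) (ZMod p)) (e : (Matrix (Fin 2) (Fin 2) (ZMod p))).trace from (hscal _).symm,
          show ((n : E) : (Matrix (Fin 2) (Fin 2) (ZMod p))) = algebraMap (ZMod p) (Matrix (Fin 2) (Fin 2) (ZMod p)) (e : (Matrix (Fin 2) (Fin 2) (ZMod p))).det from (hscal _).symm]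
        ext i j
        fin_cases i <;> fin_cases j <;>
          simp [Matrix.mul_apply, Fin.sum_univ_two, Matrix.det_fin_two, Matrix.trace_fin_two,
            Algebra.algebraMap_eq_smul_one] <;> ring
      have hq' : e ^ p * e ^ p - τ * e ^ p + n = 0 := by
        have := congrArg (fun x : E => x ^ p) hq
        simp only [add_pow_char, sub_pow_char, mul_pow, zero_pow hp.ne_zero] at this
        have hτ : τ ^ p = τ := by
          show ((_ : ℕ) : E) ^ p = _
          rw [← map_natCast (ZMod.castHom (dvd_refl p) E), ← map_pow, ZMod.pow_card, map_natCast]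
        have hn : n ^ p = n := by
          show ((_ : ℕ) : E) ^ p = _
          rw [← map_natCast (ZMod.castHom (dvd_refl p) E), ← map_pow, ZMod.pow_card, map_natCast]
        rwa [hτ, hn] at this
      have hmain : e ^ (p + 1) = n := by
        by_cases hep : e ^ p = e
        · obtain ⟨k, hk⟩ : ∃ k : ZMod p, e = ZMod.castHom (dvd_refl p) E k := by
            by_contra hne'
            push Not at hne'
            let P : Polynomial E := Polynomial.X ^ p - Polynomial.X
            let S : Finset E := insert e (Finset.univ.image (ZMod.castHom (dvd_refl p) E))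
            have hsub : S ⊆ P.roots.toFinset := by
              intro x hx
              rw [Multiset.mem_toFinset, Polynomial.mem_roots (FiniteField.X_pow_card_sub_X_ne_zero E hp.one_lt)]
              simp only [S, Finset.mem_insert, Finset.mem_image, Finset.mem_univ, true_and] at hx
              rcases hx with rfl | ⟨k, rfl⟩
              · simp [P, Polynomial.IsRoot, hep]
              · simp only [P, Polynomial.IsRoot.def, Polynomial.eval_sub, Polynomial.eval_pow, Polynomial.eval_X]
                rw [← map_pow, ZMod.pow_card, sub_self]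
            have h1 := (Finset.card_le_card hsub).trans ((Multiset.toFinset_card_le _).trans (Polynomial.card_roots' P))
            rw [Finset.card_insert_of_notMem (by simpa using fun k h => hne' k h.symm),
              Finset.card_image_of_injective _ (RingHom.injective _), Finset.card_univ, ZMod.card,
              FiniteField.X_pow_card_sub_X_natDegree_eq E hp.one_lt] at h1
            omega
          have hke : (e : (Matrix (Fin 2) (Fin 2) (ZMod p))) = algebraMap (ZMod p) (Matrix (Fin 2) (Fin 2) (ZMod p)) k := by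
            rw [hscal, hk, ZMod.castHom_apply, ZMod.cast_eq_val]
          refine Subtype.ext ?_
          rw [pow_succ, hep]
          push_cast
          rw [show ((n : E) : (Matrix (Fin 2) (Fin 2) (ZMod p))) = algebraMap (ZMod p) (Matrix (Fin 2) (Fin 2) (ZMod p)) (e : (Matrix (Fin 2) (Fin 2) (ZMod p))).det from (hscal _).symm, hke, ← map_mul]
          congr 1
          simp [Algebra.algebraMap_eq_smul_one, Matrix.det_smul, sq]
        · have h1 : (e ^ p - e) * (e ^ p + e - τ) = 0 := by linear_combination hq' - hq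
          rcases mul_eq_zero.mp h1 with h2 | h2
          · exact absurd (sub_eq_zero.mp h2) hep
          · rw [pow_succ]; linear_combination e * h2 - hq
      rw [hscal, ← show ((e ^ (p + 1) : E) : (Matrix (Fin 2) (Fin 2) (ZMod p))) = (e : (Matrix (Fin 2) (Fin 2) (ZMod p))) ^ (p + 1) from SubmonoidClass.coe_pow _ _, hmain]
    obtain ⟨e, he⟩ : ∃ e : E, (e : (Matrix (Fin 2) (Fin 2) (ZMod p))).det = (g : (Matrix (Fin 2) (Fin 2) (ZMod p))).det := by
      set d := (g : (Matrix (Fin 2) (Fin 2) (ZMod p))).det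
      have hd : d ≠ 0 := ((Matrix.isUnit_iff_isUnit_det _).mp g.isUnit).ne_zero
      obtain ⟨ζ, hζ⟩ := IsCyclic.exists_generator (α := Eˣ)
      haveI : CharP E p := (E.subtype.charP_iff Subtype.val_injective p).mpr inferInstance
      let dE : Eˣ := Units.map (ZMod.castHom (dvd_refl p) E).toMonoidHom (Units.mk0 d hd)
      obtain ⟨k, hk⟩ := (mem_powers_iff_mem_zpowers.mpr (hζ dE) : dE ∈ Submonoid.powers ζ)
      replace hk : ζ ^ k = dE := hk
      have hord : orderOf ζ = (p - 1) * (p + 1) := by
        haveI := Fintype.ofFinite E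
        rw [orderOf_eq_card_of_forall_mem_zpowers hζ, Nat.card_units, hcardE, ← one_pow 2, Nat.sq_sub_sq, mul_comm,
          one_pow]
      have hdvd : (p + 1) ∣ k := by
        have h1 : ζ ^ (k * (p - 1)) = 1 := by
          rw [pow_mul, hk, ← map_pow, show (Units.mk0 d hd) ^ (p - 1) = 1 from
            Units.ext (by simp [ZMod.pow_card_sub_one_eq_one hd]), map_one]
        have h2 := orderOf_dvd_of_pow_eq_one h1
        rw [hord, mul_comm k] at h2
        exact Nat.dvd_of_mul_dvd_mul_left (by have := hp.two_le; omega) h2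
      obtain ⟨m, rfl⟩ := hdvd
      refine ⟨((ζ ^ m : Eˣ) : E), ?_⟩
      apply (algebraMap (ZMod p) (Matrix (Fin 2) (Fin 2) (ZMod p))).injective
      rw [hdetE, ← SubmonoidClass.coe_pow, ← Units.val_pow_eq_pow_val, ← pow_mul, mul_comm m, hk]
      show ((ZMod.castHom (dvd_refl p) E d : E) : (Matrix (Fin 2) (Fin 2) (ZMod p))) = algebraMap (ZMod p) (Matrix (Fin 2) (Fin 2) (ZMod p)) d
      exact congrArg (fun f : ZMod p →+* (Matrix (Fin 2) (Fin 2) (ZMod p)) => f d)
        (Subsingleton.elim (E.subtype.comp (ZMod.castHom (dvd_refl p) E)) (algebraMap (ZMod p) (Matrix (Fin 2) (Fin 2) (ZMod p))))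
    have he0 : (e : (Matrix (Fin 2) (Fin 2) (ZMod p))) ≠ 0 := fun h => ((Matrix.isUnit_iff_isUnit_det _).mp g.isUnit).ne_zero (by
      rw [← he, h, Matrix.det_zero])
    obtain ⟨c, hc, hce⟩ := hC _ e.2 he0
    obtain ⟨s', hs', t', ht', hg'⟩ := hnorm c
    have heq : s * g * t = s' * c * t' := Units.ext (by rw [hg, hg', hce, he])
    have h1 : s * g * t ∈ H := heq ▸ mul_mem (mul_mem hs' (hCH hc)) ht'
    exact (Subgroup.mul_mem_cancel_left H hs).mp ((Subgroup.mul_mem_cancel_right H ht).mp h1)

end Groth.Agent.S15361
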