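import Groth.Statements.S15362
import Groth.Agent.H3CAlg.FrobSemi
import Mathlib.Algebra.Module.StablyFree.Basic
import Mathlib.RingTheory.PicardGroup
import Mathlib.RingTheory.TotallySplit

set_option autoImplicit false
universe u v w
open CAlg

namespace Groth.Agent.S15362

/-- For an algebraically closed field L of characteristic p > 0, a commutative L-algebra R integral over
L, and a finitely presented R-module M carrying an additive endomorphism φ with φ(r·m) = r^p·φ(m)
for r ∈ R, m ∈ M, the map m ↦ φ(m) − m is onto. (R is taken of exponential characteristic p so that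
its Frobenius is a ring endomorphism; for a non-zero L-algebra this is automatic.) -/
theorem result (p : ℕ) [Fact p.Prime]
    (L : Type u) [Field L] [IsAlgClosed L] [CharP L p]
    (R : Type v) [CommRing R] [Algebra L R] [Algebra.IsIntegral L R] [ExpChar R p]
    (M : Type w) [AddCommGroup M] [Module R M] [Module.FinitePresentation R M]
    (φ : M →ₛₗ[frobenius R p] M) :
    Function.Surjective fun m : M => φ m - m := by
  classical
  have hp : p.Prime := Fact.out
  letI : Module L M := Module.compHom M (algebraMap L R)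
  haveI : IsScalarTower L R M := ⟨fun a r m => by
    show (a • r) • m = algebraMap L R a • r • m
    rw [Algebra.smul_def, mul_smul]⟩
  intro m₀
  obtain ⟨n, g, hg⟩ := Module.Finite.exists_fin (R := R) (M := M)
  have hrep : ∀ m : M, ∃ c : Fin n → R, ∑ i, c i • g i = m := fun m =>
    (Submodule.mem_span_range_iff_exists_fun R).mp (hg ▸ Submodule.mem_top)
  choose r hr using fun i => hrep (φ (g i))
  obtain ⟨s, hs⟩ := hrep m₀
  let R₀ := Algebra.adjoin L (Set.range (fun ij : Fin n × Fin n => r ij.1 ij.2) ∪ Set.range s)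
  have : Module.Finite L R₀ := Module.Finite.iff_fg.mpr
    (fg_adjoin_of_finite ((Set.finite_range _).union (Set.finite_range _)) fun x _ => Algebra.IsIntegral.isIntegral x)
  let Φ : (Fin n → R₀) →ₗ[L] M :=
    { toFun := fun a => ∑ i, (a i : R) • g i
      map_add' := fun a b => by simp [add_smul, Finset.sum_add_distrib]
      map_smul' := fun c a => by simp [Finset.smul_sum] }
  have hrmem : ∀ i j, r i j ∈ R₀ := fun i j => Algebra.subset_adjoin (Or.inl ⟨(i, j), rfl⟩)
  have hV : ∀ v ∈ LinearMap.range Φ, φ v ∈ LinearMap.range Φ := by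
    rintro _ ⟨a, rfl⟩
    refine ⟨fun j => ∑ i, a i ^ p * ⟨r i j, hrmem i j⟩, ?_⟩
    show ∑ j, ((∑ i, a i ^ p * (⟨r i j, hrmem i j⟩ : R₀) : R₀) : R) • g j = φ (∑ i, (a i : R) • g i)
    simp only [map_sum, LinearMap.map_smulₛₗ, frobenius_def, ← hr, Finset.smul_sum, smul_smul, Subalgebra.coe_mul,
      Subalgebra.coe_pow, AddSubmonoidClass.coe_finsetSum, Finset.sum_smul]
    exact Finset.sum_comm
  have hσ : ∀ x, frobenius L p x = x ^ p := fun x => rfl
  have hφL : ∀ (c : L) (v : M), φ (c • v) = (frobenius L p c) • φ v := fun c v => by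
    show φ (algebraMap L R c • v) = algebraMap L R (frobenius L p c) • φ v
    rw [LinearMap.map_smulₛₗ, frobenius_def, frobenius_def, map_pow]
  let V := LinearMap.range Φ
  let T : V →ₛₗ[frobenius L p] V :=
    { toFun := fun v => ⟨φ v, hV v v.2⟩
      map_add' := fun _ _ => Subtype.ext (map_add φ _ _)
      map_smul' := fun c v => Subtype.ext (hφL c v) }
  have hsurj : Function.Surjective (frobenius L p) := fun x =>
    ⟨(IsAlgClosed.exists_pow_nat_eq x hp.pos).choose, (IsAlgClosed.exists_pow_nat_eq x hp.pos).choose_spec⟩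
  obtain ⟨hsub, -⟩ := Groth.Agent.H26Misc.sub_surjective_and_basis hsurj T
    (Groth.Agent.H3CAlg.frob_h2 hσ hp.two_le (CharP.cast_eq_zero L p)) (Groth.Agent.H3CAlg.frob_h3 hσ hp.two_le)
  have hm₀ : m₀ ∈ V := ⟨fun i => ⟨s i, Algebra.subset_adjoin (Or.inr ⟨i, rfl⟩)⟩, hs⟩
  obtain ⟨v, hv⟩ := hsub ⟨-m₀, neg_mem hm₀⟩
  refine ⟨v, ?_⟩
  have h1 : (v : M) - φ v = -m₀ := congrArg Subtype.val hv
  show φ v - v = m₀
  rw [← neg_sub, h1, neg_neg]

end Groth.Agent.S15362
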