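import Groth.Statements.S15363
import Mathlib

set_option autoImplicit false
universe u
open CategoryTheory AlgebraicGeometry
open SekSuwa

namespace Groth.Agent.S15363

/-- Let R be an integral domain, p a prime and λ ∈ R a non-zero element with λ^p dividing (1 + λX)^p −
1, so that the congruence group scheme G_λ = Spec R[T]/(P_λ(T)) of level λ and its homomorphism θ_λ
: G_λ → μ_p, X ↦ 1 + λT, are defined. For every scheme G flat over Spec R, composition with θ_λ is
injective on R-morphisms G → G_λ; in particular θ_λ induces an injective map from the homomorphisms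
G → G_λ of a flat R-group scheme G to its homomorphisms G → μ_p. (The published statement is over
the ring of integers of an algebraic closure of a complete discretely valued field of mixed
characteristic, for finite flat commutative group schemes killed by p; the published argument, that
θ_λ is an isomorphism on the generic fibre and G is flat, gives the form stated here.) -/
theorem result (R : Type u) [CommRing R] [IsDomain R]
    (p : ℕ) [Fact p.Prime] (lam : R) (h : SekSuwa.DivCond lam p)
    (G : Over (Spec (CommRingCat.of R))) [Flat G.hom]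
    (f g : G ⟶ SekSuwa.GK R lam p h)
    (hfg : f ≫ SekSuwa.alphaN R lam p h = g ≫ SekSuwa.alphaN R lam p h) : f = g := by
  let B := SekSuwa.AK R lam p h
  letI : Algebra R Γ(G.left, ⊤) := ((Scheme.ΓSpecIso (CommRingCat.of R)).inv ≫ G.hom.appTop).hom.toAlgebra
  let φ : (G ⟶ SekSuwa.GK R lam p h) → (B →+* Γ(G.left, ⊤)) := fun f =>
    ((Scheme.ΓSpecIso (CommRingCat.of B)).inv ≫ f.left.appTop).hom
  have hφ : ∀ (f : G ⟶ SekSuwa.GK R lam p h) (r : R), φ f (algebraMap R B r) = algebraMap R Γ(G.left, ⊤) r := by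
    intro f r
    have e : G.hom = f.left ≫ Spec.map (CommRingCat.ofHom (algebraMap R B)) := (Over.w f).symm
    show _ = G.hom.appTop ((Scheme.ΓSpecIso (CommRingCat.of R)).inv r)
    rw [e, Scheme.Hom.comp_appTop]
    show f.left.appTop ((Scheme.ΓSpecIso (CommRingCat.of B)).inv (algebraMap R B r)) = _
    exact congrArg f.left.appTop (ConcreteCategory.congr_hom (Scheme.ΓSpecIso_inv_naturality (CommRingCat.ofHom (algebraMap R B))) r)
  let ψ : (G ⟶ SekSuwa.GK R lam p h) → (B →ₐ[R] Γ(G.left, ⊤)) := fun f => { φ f with commutes' := hφ f }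
  have hnz : IsSMulRegular Γ(G.left, ⊤) lam := by
    intro a b hab
    refine G.left.sheaf.eq_of_locally_eq' (fun U : G.left.affineOpens => U.1) ⊤ (fun U => homOfLE le_top)
      (iSup_affineOpens_eq_top G.left).ge a b fun U => ?_
    letI := (G.hom.appLE ⊤ U.1 le_top).hom.toAlgebra
    haveI : Module.Flat Γ(Spec (CommRingCat.of R), ⊤) Γ(G.left, U.1) :=
      G.hom.flat_appLE (isAffineOpen_top _) U.2 le_top
    haveI : IsDomain Γ(Spec (CommRingCat.of R), ⊤) :=
      (Scheme.ΓSpecIso (CommRingCat.of R)).commRingCatIsoToRingEquiv.toMulEquiv.isDomain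
    have hl : (Scheme.ΓSpecIso (CommRingCat.of R)).inv lam ≠ 0 := fun e =>
      nonZeroDivisors.ne_zero h.nzd ((Scheme.ΓSpecIso (CommRingCat.of R)).commRingCatIsoToRingEquiv.symm.injective
        (e.trans (map_zero _).symm))
    have hreg := Module.Flat.isSMulRegular_of_nonZeroDivisors (R := Γ(Spec (CommRingCat.of R), ⊤)) (M := Γ(G.left, U.1))
      (mem_nonZeroDivisors_of_ne_zero hl)
    refine hreg ?_
    have := congrArg (G.left.presheaf.map (homOfLE (le_top : U.1 ≤ ⊤)).op).hom hab
    simp only [Algebra.smul_def, map_mul, RingHom.algebraMap_toAlgebra] at this ⊢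
    exact this
  have key : ∀ f : G ⟶ SekSuwa.GK R lam p h, φ f (1 + lam • SekSuwa.AK.t) =
      ((Scheme.ΓSpecIso _).inv ≫ (f ≫ SekSuwa.alphaN R lam p h).left.appTop).hom
        (MonoidAlgebra.single (Multiplicative.ofAdd (1 : ZMod p)) 1) := by
    intro f
    let φ0 : CommRingCat.of (MonoidAlgebra R (Multiplicative (ZMod p))) ⟶ CommRingCat.of B :=
      CommRingCat.ofHom (SekSuwa.alphaNHom R lam p h : _ →+* B)
    have e0 : (SekSuwa.alphaN R lam p h).left = Spec.map φ0 := rfl
    have e1 : φ0 (MonoidAlgebra.single (Multiplicative.ofAdd (1 : ZMod p)) 1) = 1 + lam • SekSuwa.AK.t :=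
      SekSuwa.alphaNHom_single_one R lam p h
    have hn := ConcreteCategory.congr_hom (Scheme.ΓSpecIso_inv_naturality φ0)
      (MonoidAlgebra.single (Multiplicative.ofAdd (1 : ZMod p)) 1)
    rw [← e1, Over.comp_left, e0, Scheme.Hom.comp_appTop]
    exact congrArg f.left.appTop hn
  have hu : φ f (1 + lam • SekSuwa.AK.t) = φ g (1 + lam • SekSuwa.AK.t) := by rw [key, key, hfg]
  have ht : ψ f SekSuwa.AK.t = ψ g SekSuwa.AK.t := by
    refine hnz ?_
    show lam • ψ f SekSuwa.AK.t = lam • ψ g SekSuwa.AK.t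
    have h1 : ψ f (1 + lam • SekSuwa.AK.t) = ψ g (1 + lam • SekSuwa.AK.t) := hu
    simpa only [map_add, map_one, map_smul, add_right_inj] using h1
  have hinv : ψ f SekSuwa.AK.inv = ψ g SekSuwa.AK.inv := by
    have hui : ((1 : B) + lam • SekSuwa.AK.t) * SekSuwa.AK.inv = 1 := by
      show (1 + lam • SekSuwa.AK.mkHom R lam p h SekSuwa.A.t) * SekSuwa.AK.mkHom R lam p h SekSuwa.A.inv = 1
      rw [← map_smul, ← map_one (SekSuwa.AK.mkHom R lam p h), ← map_add, ← map_mul]
      exact congrArg _ SekSuwa.A.u_mul_inv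
    refine left_inv_eq_right_inv (a := ψ f (1 + lam • SekSuwa.AK.t)) ?_ ?_
    · rw [← map_mul, mul_comm, hui, map_one]
    · rw [show ψ f (1 + lam • SekSuwa.AK.t) = ψ g (1 + lam • SekSuwa.AK.t) from hu, ← map_mul, hui, map_one]
  have e := congrArg AlgHom.toRingHom (SekSuwa.AK.algHom_ext ht hinv)
  haveI : IsAffine (SekSuwa.GK R lam p h).left := inferInstanceAs (IsAffine (Spec (CommRingCat.of B)))
  refine Over.OverMorphism.ext (ext_of_isAffine ?_)
  exact (cancel_epi (Scheme.ΓSpecIso (CommRingCat.of B)).inv).mp (CommRingCat.hom_ext e)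

end Groth.Agent.S15363
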