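import Groth.Statements.S15364
import Groth.Agent.H19Grp.AbSchemeRigid

set_option autoImplicit false
set_option linter.style.haveILetI false
set_option backward.isDefEq.respectTransparency false
universe u
open CategoryTheory CategoryTheory.Limits MonoidalCategory CartesianMonoidalCategory AlgebraicGeometry
open AbSch
open MonObj GrpObj

namespace Groth.Agent.S15364

/-- For an abelian scheme f : A → T (a commutative T-group scheme, proper and smooth over T with
geometrically connected fibres) and a commutative group scheme H finite and locally free over T, the
adjunction map H → f_* f^* H of fppf sheaves on T is an isomorphism, i.e. for every T-scheme U the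
map H(U) → H(A ×_T U), s ↦ s ∘ pr, is bijective. This row states the case U = T, to which the
general case reduces by base change: composition with the structure morphism A → T is a bijection
from the sections of H over T onto the T-morphisms A → H. The group structure of H plays no role and
is not assumed. (The published statement has an arbitrary base T; the published argument rests on
the rigidity lemma in its form for Noetherian schemes, so T is taken locally Noetherian here.) -/
theorem result {T : Scheme.{u}} [IsLocallyNoetherian T]
    (A : Over T) [GrpObj A] [IsCommMonObj A] [IsProper A.hom] [Smooth A.hom] [GeometricallyConnected A.hom]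
    (H : Over T) [IsFinite H.hom] [Flat H.hom] [LocallyOfFinitePresentation H.hom] :
    Function.Bijective fun s : (𝟙_ (Over T) ⟶ H) => toUnit A ≫ s := by
  haveI := H19Grp.geometricallyReduced_of_smooth_hom A.hom
  haveI := H19Grp.geometricallyIntegral_of_abScheme A
  have hη : η[A] ≫ toUnit A = 𝟙 _ := toUnit_unique _ _
  refine ⟨fun s s' h => ?_, fun g => ⟨η[A] ≫ g, ?_⟩⟩
  · simpa [reassoc_of% hη] using congrArg (η[A] ≫ ·) h
  · apply Over.OverMorphism.ext
    refine (H19Grp.eq_of_const_fibre A.hom η[A].left (Over.w η[A]) g.left fun z => ?_).symm
    let F := A.hom.fiberι (A.hom z)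
    have hrange : ∀ v, A.hom (F v) = A.hom z := fun v =>
      (A.hom.range_fiberι _).subset (Set.mem_range_self v)
    let m : ↥(A.hom.fiber (A.hom z)) → H.left := fun v => g.left (F v)
    haveI : IrreducibleSpace ↥(A.hom.fiber (A.hom z)) := inferInstance
    have hm : Set.range m ⊆ H.hom ⁻¹' {A.hom z} := by
      rintro _ ⟨v, rfl⟩
      show H.hom (g.left (F v)) = A.hom z
      rw [← Scheme.Hom.comp_apply, Over.w g, hrange]
    have hirr : IsPreirreducible (Set.range m) := by
      rw [← Set.image_univ]
      exact (PreirreducibleSpace.isPreirreducible_univ).image m
        (g.left.continuous.comp F.continuous).continuousOn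
    have hsub := ((H.hom.isDiscrete_preimage (s := {A.hom z})
      Set.subsingleton_singleton.isDiscrete).mono hm).subsingleton_of_isPreirreducible hirr
    obtain ⟨w, hw⟩ : z ∈ Set.range F := (A.hom.range_fiberι _).ge rfl
    obtain ⟨w₀, hw₀⟩ : η[A].left (A.hom z) ∈ Set.range F := (A.hom.range_fiberι _).ge (by
      show (η[A].left ≫ A.hom) (A.hom z) = A.hom z
      rw [Over.w η[A]]; rfl)
    have h1 := hsub (Set.mem_range_self w) (Set.mem_range_self w₀)
    simp only [m, hw, hw₀] at h1
    exact h1

end Groth.Agent.S15364
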