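import Groth.Statements.S15365
import Groth.Prelude.Def_GrMap
import Mathlib.Algebra.DualNumber
import Mathlib.RingTheory.Ideal.Quotient.PowTransition
import Mathlib.RingTheory.Smooth.StandardSmoothCotangent

set_option autoImplicit false
universe u
open scoped BigOperators
open CAlg

namespace Groth.Agent.S15365

/-- Let A be a commutative ring of characteristic p > 0 and (h_{ij})_{1 ≤ i,j ≤ n} a square matrix over
A, the matrix of a commutative p-Lie algebra (L, φ) with L free with basis e_1, …, e_n and φ(e_j) =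
Σ_i h_{ij} e_i. The associated finite group scheme Spec A[X_1, …, X_n]/(X_j^p − Σ_i h_{ij} X_i)_{1 ≤
j ≤ n} is étale over A if and only if the matrix (h_{ij}) is invertible, i.e. its determinant is a
unit of A. Only the algebra structure enters this assertion. -/
theorem result (p : ℕ) [Fact p.Prime]
    (A : Type u) [CommRing A] [CharP A p] (n : ℕ) (h : Matrix (Fin n) (Fin n) A) :
    Algebra.Etale A (MvPolynomial (Fin n) A ⧸ Ideal.span (Set.range fun j : Fin n =>
        (MvPolynomial.X j : MvPolynomial (Fin n) A) ^ p -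
          ∑ i : Fin n, MvPolynomial.C (h i j) * MvPolynomial.X i)) ↔
      IsUnit h.det := by
  classical
  let v : Fin n → MvPolynomial (Fin n) A := fun j =>
    (MvPolynomial.X j : MvPolynomial (Fin n) A) ^ p - ∑ i : Fin n, MvPolynomial.C (h i j) * MvPolynomial.X i
  have hp0 : ((p : ℕ) : A) = 0 := CharP.cast_eq_zero A p
  have hpd : ∀ i j, MvPolynomial.pderiv i (v j) = - MvPolynomial.C (h i j) := by
    intro i j
    have hp0' : ((p : ℕ) : MvPolynomial (Fin n) A) = 0 := by
      rw [← map_natCast (MvPolynomial.C : A →+* MvPolynomial (Fin n) A), hp0, map_zero]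
    simp [v, MvPolynomial.pderiv_pow, hp0', MvPolynomial.pderiv_X, Pi.single_apply, Finset.sum_ite_eq']
  constructor
  · intro het
    by_contra hdet
    obtain ⟨m, hm, hdm⟩ := exists_max_ideal_of_mem_nonunits hdet
    haveI := hm
    letI := Ideal.Quotient.field m
    let κ := A ⧸ m
    have h0 : (h.map (Ideal.Quotient.mk m)).transpose.det = 0 := by
      rw [Matrix.det_transpose, ← RingHom.mapMatrix_apply, ← RingHom.map_det,
        Ideal.Quotient.eq_zero_iff_mem.mpr hdm]
    obtain ⟨w, hw0, hw⟩ := Matrix.exists_mulVec_eq_zero_iff.mpr h0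
    let B := MvPolynomial (Fin n) A ⧸ Ideal.span (Set.range v)
    haveI : Algebra.Etale A B := het
    haveI : Algebra.FormallyUnramified A B := inferInstance
    let T := TrivSqZeroExt κ κ
    have hlift : ∀ (u : Fin n → κ), (∀ j, ∑ i, Ideal.Quotient.mk m (h i j) * u i = 0) →
        ∀ f ∈ Ideal.span (Set.range v),
          (MvPolynomial.aeval fun i => (TrivSqZeroExt.inr (u i) : T)) f = 0 := by
      intro u hu f hf
      refine RingHom.mem_ker.mp ((Ideal.span_le.mpr ?_) hf)
      rintro _ ⟨j, rfl⟩
      rw [SetLike.mem_coe, RingHom.mem_ker]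
      have h2 : (TrivSqZeroExt.inr (u j) : T) ^ p = 0 := by
        obtain ⟨q, hq⟩ : ∃ q, p = q + 2 := ⟨p - 2, by have := (Fact.out : p.Prime).two_le; omega⟩
        rw [hq, pow_add, sq, TrivSqZeroExt.inr_mul_inr, mul_zero]
      simp only [v, map_sub, map_pow, MvPolynomial.aeval_X, h2, map_sum, map_mul, MvPolynomial.aeval_C, zero_sub,
        neg_eq_zero]
      apply TrivSqZeroExt.ext
      · simp [TrivSqZeroExt.fst_sum]
      · simpa [TrivSqZeroExt.snd_sum, TrivSqZeroExt.algebraMap_eq_inl', κ, Ideal.Quotient.algebraMap_eq, mul_comm] using hu j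
    let φ : ∀ (u : Fin n → κ), (∀ j, ∑ i, Ideal.Quotient.mk m (h i j) * u i = 0) → B →ₐ[A] T :=
      fun u hu => Ideal.Quotient.liftₐ _ _ (hlift u hu)
    have hφ : ∀ u hu i, φ u hu (Ideal.Quotient.mk _ (MvPolynomial.X i)) = TrivSqZeroExt.inr (u i) :=
      fun u hu i => MvPolynomial.aeval_X _ i
    have hw' : ∀ j, ∑ i, Ideal.Quotient.mk m (h i j) * w i = 0 := fun j => by
      have := congrFun hw j
      simpa [Matrix.mulVec, dotProduct] using this
    have hz : ∀ j, ∑ i, Ideal.Quotient.mk m (h i j) * (fun _ : Fin n => (0 : κ)) i = 0 :=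
      fun j => Finset.sum_eq_zero fun i _ => mul_zero (Ideal.Quotient.mk m (h i j))
    have h1 : φ w hw' = φ _ hz := by
      refine Algebra.FormallyUnramified.lift_unique' (TrivSqZeroExt.fstHom A κ κ)
        ⟨2, le_antisymm ?_ bot_le⟩ _ _ (Ideal.Quotient.algHom_ext _ (MvPolynomial.algHom_ext fun i => ?_))
      · rw [sq, Ideal.mul_le]
        intro a ha b hb
        rw [RingHom.mem_ker] at ha hb
        rw [Ideal.zero_eq_bot, Ideal.mem_bot]
        apply TrivSqZeroExt.ext
        · rw [TrivSqZeroExt.fst_mul, show TrivSqZeroExt.fst a = 0 from ha, zero_mul, TrivSqZeroExt.fst_zero]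
        · simp [TrivSqZeroExt.snd_mul, show TrivSqZeroExt.fst a = 0 from ha, show TrivSqZeroExt.fst b = 0 from hb]
      · show TrivSqZeroExt.fst (φ w hw' (Ideal.Quotient.mk _ (MvPolynomial.X i))) =
          TrivSqZeroExt.fst (φ _ hz (Ideal.Quotient.mk _ (MvPolynomial.X i)))
        rw [hφ w hw', hφ _ hz]
        simp
    refine hw0 (funext fun i => ?_)
    have := congrArg TrivSqZeroExt.snd (AlgHom.congr_fun h1 (Ideal.Quotient.mk _ (MvPolynomial.X i)))
    rw [hφ w hw', hφ _ hz] at this
    simpa using this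
  · intro hu
    let P₀ := Algebra.PreSubmersivePresentation.naive (v := v) id Function.injective_id
    have hjac : IsUnit P₀.jacobian := by
      rw [Algebra.PreSubmersivePresentation.jacobian_eq_jacobiMatrix_det]
      refine IsUnit.map _ ?_
      have hM : P₀.jacobiMatrix = (-h).map MvPolynomial.C := by
        ext i j
        rw [Algebra.PreSubmersivePresentation.jacobiMatrix_naive]
        simp [hpd]
      rw [hM, ← RingHom.mapMatrix_apply, ← RingHom.map_det]
      exact (Matrix.det_neg h ▸ (isUnit_one.neg.pow _).mul hu).map _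
    haveI : Algebra.IsStandardSmoothOfRelativeDimension 0 A (MvPolynomial (Fin n) A ⧸ Ideal.span (Set.range v)) :=
      Algebra.SubmersivePresentation.isStandardSmoothOfRelativeDimension ⟨P₀, hjac⟩
        (by simp [Algebra.Presentation.dimension])
    show Algebra.Etale A (MvPolynomial (Fin n) A ⧸ Ideal.span (Set.range v))
    infer_instance

end Groth.Agent.S15365
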