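import Groth.Statements.S15366
import Mathlib.RingTheory.MvPowerSeries.Equiv
import Mathlib.RingTheory.PowerSeries.Inverse
import Mathlib.RingTheory.AdicCompletion.Completeness
import Mathlib.FieldTheory.IsAlgClosed.AlgebraicClosure
import Mathlib.RingTheory.Localization.AtPrime.Basic
import Mathlib.RingTheory.MvPowerSeries.NoZeroDivisors

set_option autoImplicit false
universe u
open CAlg

namespace Groth.Agent.S15366

/-- Let k be an algebraically closed field of characteristic p > 0, R = k[[t₁, t₂]], and O = R_{(t₁)}
the local ring of Spec R at the generic point x of the divisor t₁ = 0 (a discrete valuation ring,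
with uniformizer t₁ and residue field k((t₂))). Then O embeds, by an injective local k-algebra map
φ, into some complete discrete valuation ring A containing k whose residue field is algebraically
closed and in which φ(t₁) is still a uniformizer. The prime ideal (t₁) is passed as an ideal P equal
to it together with its primality. -/
theorem result
    (p : ℕ) [Fact p.Prime] (k : Type u) [Field k] [IsAlgClosed k] [CharP k p]
    (P : Ideal (MvPowerSeries (Fin 2) k))
    (hP : P = Ideal.span {(MvPowerSeries.X 0 : MvPowerSeries (Fin 2) k)}) [P.IsPrime] :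
    ∃ (A : Type u) (_ : CommRing A) (_ : IsDomain A) (_ : IsDiscreteValuationRing A) (_ : Algebra k A)
      (φ : Localization.AtPrime P →ₐ[k] A),
      IsAdicComplete (IsLocalRing.maximalIdeal A) A ∧ IsAlgClosed (IsLocalRing.ResidueField A) ∧
        Function.Injective φ ∧ IsLocalHom φ.toRingHom ∧
          Irreducible (φ (algebraMap (MvPowerSeries (Fin 2) k) (Localization.AtPrime P)
            (MvPowerSeries.X 0))) := by
  classical
  let Q := MvPowerSeries (Fin 1) k
  let L := AlgebraicClosure (FractionRing Q)
  letI : Algebra k L := ((algebraMap (FractionRing Q) L).comp ((algebraMap Q (FractionRing Q)).comp (algebraMap k Q))).toAlgebra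
  let j : Q →+* L := (algebraMap (FractionRing Q) L).comp (algebraMap Q (FractionRing Q))
  have hj : Function.Injective j :=
    (algebraMap (FractionRing Q) L).injective.comp (IsFractionRing.injective Q (FractionRing Q))
  let E := MvPowerSeries.finSuccEquiv k 1
  let φ₀ : MvPowerSeries (Fin 2) k →+* PowerSeries L := (PowerSeries.map j).comp E.toRingEquiv.toRingHom
  have hinj₀ : Function.Injective φ₀ := (PowerSeries.map_injective j hj).comp E.injective
  have hX : φ₀ (MvPowerSeries.X 0) = PowerSeries.X := by
    change PowerSeries.map j (E (MvPowerSeries.X 0)) = _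
    rw [MvPowerSeries.finSuccEquiv_X_zero, PowerSeries.map_X]
  have hunit : ∀ f : MvPowerSeries (Fin 2) k, f ∉ P → IsUnit (φ₀ f) := by
    intro f hf
    rw [PowerSeries.isUnit_iff_constantCoeff, isUnit_iff_ne_zero]
    intro h0
    refine hf (hP ▸ Ideal.mem_span_singleton.mpr ?_)
    have h1 : PowerSeries.constantCoeff (E f) = 0 := hj (by
      rw [map_zero, ← h0, ← PowerSeries.coeff_zero_eq_constantCoeff_apply, ← PowerSeries.coeff_zero_eq_constantCoeff_apply]
      exact (PowerSeries.coeff_map j 0 _).symm)
    have h2 : (PowerSeries.X : PowerSeries Q) ∣ E f := PowerSeries.X_dvd_iff.mpr h1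
    rw [← MvPowerSeries.finSuccEquiv_X_zero] at h2
    exact (map_dvd_iff E).mp h2
  let φ₁ : Localization.AtPrime P →+* PowerSeries L := IsLocalization.lift (M := P.primeCompl) fun y => hunit y y.2
  have hφ₁ : ∀ f, φ₁ (algebraMap _ (Localization.AtPrime P) f) = φ₀ f := fun f => IsLocalization.lift_eq _ f
  let φ : Localization.AtPrime P →ₐ[k] PowerSeries L :=
    { φ₁ with
      commutes' := fun r => by
        rw [IsScalarTower.algebraMap_apply k (MvPowerSeries (Fin 2) k) (Localization.AtPrime P)]
        refine (hφ₁ _).trans ?_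
        change PowerSeries.map j (E (algebraMap k _ r)) = _
        rw [AlgEquiv.commutes, PowerSeries.algebraMap_apply, PowerSeries.map_C, PowerSeries.algebraMap_apply]
        rfl }
  haveI : IsAlgClosed (IsLocalRing.ResidueField (PowerSeries L)) :=
    IsAlgClosed.of_ringEquiv L _ PowerSeries.residueFieldOfPowerSeries.symm
  refine ⟨PowerSeries L, inferInstance, inferInstance, inferInstance, inferInstance, φ, ?_, inferInstance, ?_, ?_, ?_⟩
  · rw [PowerSeries.maximalIdeal_eq_span_X]
    infer_instance
  · intro a b hab
    obtain ⟨x, s, rfl⟩ := IsLocalization.exists_mk'_eq P.primeCompl a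
    obtain ⟨y, t, rfl⟩ := IsLocalization.exists_mk'_eq P.primeCompl b
    change φ₁ _ = φ₁ _ at hab
    rw [IsLocalization.lift_mk'_spec] at hab
    rw [IsLocalization.mk'_eq_iff_eq]
    have e : φ₁ (IsLocalization.mk' _ y t) * φ₀ t = φ₀ y := by
      rw [← hφ₁, ← hφ₁, ← map_mul, IsLocalization.mk'_spec]
    have h2 : φ₀ ((t : MvPowerSeries (Fin 2) k) * x) = φ₀ ((s : MvPowerSeries (Fin 2) k) * y) := by
      rw [map_mul, map_mul, hab, ← e]; ring
    rw [hinj₀ h2]
  · refine ⟨fun a ha => ?_⟩
    obtain ⟨x, s, rfl⟩ := IsLocalization.exists_mk'_eq P.primeCompl a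
    by_contra hna
    have hxP : x ∈ P := by
      by_contra hx
      exact hna ((IsLocalization.AtPrime.isUnit_mk'_iff (Localization.AtPrime P) P x s).mpr hx)
    rw [hP, Ideal.mem_span_singleton] at hxP
    obtain ⟨y, rfl⟩ := hxP
    have h1 : IsUnit (φ₁ (IsLocalization.mk' _ (MvPowerSeries.X 0 * y) s) * φ₁ (algebraMap _ _ (s : MvPowerSeries (Fin 2) k))) :=
      ha.mul (by rw [hφ₁]; exact hunit _ s.2)
    rw [← map_mul, IsLocalization.mk'_spec, hφ₁, map_mul, hX] at h1
    exact PowerSeries.X_irreducible.not_isUnit (isUnit_of_mul_isUnit_left h1)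
  · change Irreducible (φ₁ _)
    rw [hφ₁, hX]
    exact PowerSeries.X_irreducible

end Groth.Agent.S15366
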