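import Groth.Statements.S15367
import Mathlib.Algebra.Module.PID
import Mathlib.RingTheory.Etale.Weakly
import Mathlib.RingTheory.Flat.TorsionFree
import Mathlib.RingTheory.Henselian
import Mathlib.RingTheory.PicardGroup
import Mathlib.RingTheory.RegularLocalRing.Defs
import Mathlib.RingTheory.SimpleRing.Principal
import Mathlib.RingTheory.TotallySplit
import Mathlib.Tactic.LinearCombination
import Mathlib.Tactic.Ring

set_option autoImplicit false
universe u v
open TensorProduct
open CAlg

namespace Groth.Agent.S15367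

/-- Let R be a discrete valuation ring with uniformizer π and residue field k, n ≥ 0, and M₀ a finitely
generated module over R/πⁿR, viewed as an R-module killed by πⁿ; put M₀* = Hom_R(M₀, R/πⁿR). Then
dim_k(M₀*/πM₀*) = dim_k(M₀/πM₀). The published lemma is stated for a finitely presented module over
the quotient of the ring of integers of an algebraic closure of K by the elements of valuation ≥ t,
with its dual into that quotient ring, and the published proof reduces it by descent to exactly this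
statement over the valuation ring of a finite extension of K; the row states that step. -/
theorem result
    (R : Type u) [CommRing R] [IsDomain R] [IsDiscreteValuationRing R] (ϖ : R) (hϖ : Irreducible ϖ) (n : ℕ)
    (M : Type v) [AddCommGroup M] [Module R M] [Module.Finite R M] (hM : ∀ m : M, ϖ ^ n • m = 0) :
    Module.finrank (IsLocalRing.ResidueField R)
        (IsLocalRing.ResidueField R ⊗[R] (M →ₗ[R] (R ⧸ Ideal.span {ϖ ^ n}))) =
      Module.finrank (IsLocalRing.ResidueField R) (IsLocalRing.ResidueField R ⊗[R] M) := by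
  classical
  suffices h : Nonempty ((M →ₗ[R] R ⧸ Ideal.span {ϖ ^ n}) ≃ₗ[R] M) by
    obtain ⟨e⟩ := h
    exact (e.baseChange R (IsLocalRing.ResidueField R) _ _).finrank_eq
  have hcyc : ∀ a : R, a ∣ ϖ ^ n →
      Nonempty (((R ⧸ R ∙ a) →ₗ[R] R ⧸ Ideal.span {ϖ ^ n}) ≃ₗ[R] R ⧸ R ∙ a) := by
    rintro a ⟨c, hc⟩
    have hne : ϖ ^ n ≠ 0 := pow_ne_zero _ hϖ.ne_zero
    have hc0 : c ≠ 0 := fun h => hne (by rw [hc, h, mul_zero])
    have ha0 : a ≠ 0 := fun h => hne (by rw [hc, h, zero_mul])
    let μ : (R ⧸ R ∙ a) →ₗ[R] R ⧸ Ideal.span {ϖ ^ n} :=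
      Submodule.mapQ (R ∙ a) (Ideal.span {ϖ ^ n}) (LinearMap.mulLeft R c) (by
        rw [Submodule.span_singleton_le_iff_mem]
        exact Ideal.mem_span_singleton.mpr ⟨1, by simp [hc, mul_comm]⟩)
    have hμ : ∀ x : R, μ (Submodule.Quotient.mk x) = Ideal.Quotient.mk (Ideal.span {ϖ ^ n}) (c * x) := fun x => rfl
    let ψ : R →ₗ[R] ((R ⧸ R ∙ a) →ₗ[R] R ⧸ Ideal.span {ϖ ^ n}) := LinearMap.toSpanSingleton R _ μ
    have hψ : Function.Surjective ψ := by
      intro φ
      obtain ⟨y, hy⟩ := Ideal.Quotient.mk_surjective (φ (Submodule.Quotient.mk (1 : R)))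
      have h0 : Ideal.Quotient.mk (Ideal.span {ϖ ^ n}) (a * y) = 0 := by
        rw [map_mul, hy, ← Ideal.Quotient.algebraMap_eq, ← Algebra.smul_def, ← map_smul,
          ← Submodule.Quotient.mk_smul, (Submodule.Quotient.mk_eq_zero _).mpr
            (Submodule.mem_span_singleton.mpr ⟨1, by simp⟩), map_zero]
      obtain ⟨t, ht⟩ := Ideal.mem_span_singleton.mp (Ideal.Quotient.eq_zero_iff_mem.mp h0)
      have hyc : y = c * t := mul_left_cancel₀ ha0 (by rw [ht, hc]; ring)
      refine ⟨t, Submodule.linearMap_qext _ (LinearMap.ext_ring ?_)⟩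
      show t • μ (Submodule.Quotient.mk (1 : R)) = φ (Submodule.Quotient.mk (1 : R))
      rw [hμ, ← hy, hyc, mul_one, Algebra.smul_def, Ideal.Quotient.algebraMap_eq, ← map_mul, mul_comm]
    have hker : LinearMap.ker ψ = R ∙ a := by
      ext r
      rw [LinearMap.mem_ker, Submodule.mem_span_singleton]
      constructor
      · intro hr
        have h1 : r • μ (Submodule.Quotient.mk (1 : R)) = 0 := LinearMap.congr_fun hr _
        rw [hμ, mul_one, Algebra.smul_def, Ideal.Quotient.algebraMap_eq, ← map_mul,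
          Ideal.Quotient.eq_zero_iff_mem, Ideal.mem_span_singleton] at h1
        obtain ⟨t, ht⟩ := h1
        exact ⟨t, mul_left_cancel₀ hc0 (by rw [smul_eq_mul]; linear_combination -ht - t * hc)⟩
      · rintro ⟨t, rfl⟩
        refine Submodule.linearMap_qext _ (LinearMap.ext_ring ?_)
        show (t • a) • μ (Submodule.Quotient.mk (1 : R)) = 0
        rw [hμ, mul_one, Algebra.smul_def, Ideal.Quotient.algebraMap_eq, ← map_mul,
          Ideal.Quotient.eq_zero_iff_mem, Ideal.mem_span_singleton]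
        exact ⟨t, by rw [hc, smul_eq_mul]; ring⟩
    exact ⟨(Submodule.quotEquivOfEq _ _ hker.symm ≪≫ₗ ψ.quotKerEquivOfSurjective hψ).symm⟩
  have htor : Module.IsTorsion R M := fun {m} =>
    ⟨⟨ϖ ^ n, mem_nonZeroDivisors_iff_ne_zero.mpr (pow_ne_zero _ hϖ.ne_zero)⟩, hM m⟩
  obtain ⟨ι, _, p, -, e, ⟨f⟩⟩ := Module.equiv_directSum_of_isTorsion htor
  have hdvd : ∀ i, p i ^ e i ∣ ϖ ^ n := fun i => by
    have h1 := congrArg f (hM (f.symm (DirectSum.lof R ι (fun i => R ⧸ R ∙ p i ^ e i) i (Submodule.Quotient.mk 1))))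
    rw [map_smul, f.apply_symm_apply, map_zero, ← map_smul, ← Submodule.Quotient.mk_smul] at h1
    have h2 := congrArg (DFinsupp.lapply (R := R) i) h1
    simp only [DirectSum.lof_eq_of, map_zero] at h2
    have h3 : (Submodule.Quotient.mk (ϖ ^ n • (1 : R)) : R ⧸ R ∙ p i ^ e i) = 0 := by
      simpa [DirectSum.of_eq_same] using h2
    rw [Submodule.Quotient.mk_eq_zero, smul_eq_mul, mul_one, Submodule.mem_span_singleton] at h3
    obtain ⟨t, ht⟩ := h3
    exact ⟨t, by rw [← ht, smul_eq_mul, mul_comm]⟩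
  let g := fun i => (hcyc _ (hdvd i)).some
  let g' := f.trans (DirectSum.linearEquivFunOnFintype R ι _)
  exact ⟨(LinearEquiv.congrLeft (R ⧸ Ideal.span {ϖ ^ n}) R g') ≪≫ₗ (LinearMap.lsum R (fun i => R ⧸ R ∙ p i ^ e i) R).symm
    ≪≫ₗ LinearEquiv.piCongrRight g ≪≫ₗ g'.symm⟩

end Groth.Agent.S15367
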