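import Groth.Statements.S15368
import Mathlib.Algebra.Module.PID
import Mathlib.RingTheory.Etale.Weakly
import Mathlib.RingTheory.Flat.TorsionFree
import Mathlib.RingTheory.Henselian
import Mathlib.RingTheory.PicardGroup
import Mathlib.RingTheory.RegularLocalRing.Defs
import Mathlib.RingTheory.SimpleRing.Principal
import Mathlib.RingTheory.TotallySplit

set_option autoImplicit false
universe u v
open TensorProduct
open CAlg

namespace Groth.Agent.S15368

/-- Let R be a discrete valuation ring with uniformizer π and residue field k, n ≥ 0, M₀ a finitely
generated R-module killed by πⁿ and N₀ a submodule of M₀. Then dim_k(N₀/πN₀) ≤ dim_k(M₀/πM₀). The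
published lemma is stated for a finitely presented submodule N of a finitely presented module M over
the quotient of the ring of integers of an algebraic closure of K by the elements of valuation ≥ t,
and the published proof reduces it by descent to exactly this statement over the valuation ring of a
finite extension of K (comparing π-torsion with π-cotorsion by additivity of length); the row states
that step. -/
theorem result
    (R : Type u) [CommRing R] [IsDomain R] [IsDiscreteValuationRing R] (ϖ : R) (hϖ : Irreducible ϖ) (n : ℕ)
    (M : Type v) [AddCommGroup M] [Module R M] [Module.Finite R M] (hM : ∀ m : M, ϖ ^ n • m = 0)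
    (N : Submodule R M) :
    Module.finrank (IsLocalRing.ResidueField R) (IsLocalRing.ResidueField R ⊗[R] N) ≤
      Module.finrank (IsLocalRing.ResidueField R) (IsLocalRing.ResidueField R ⊗[R] M) := by
  let κ := IsLocalRing.ResidueField R
  let b := Module.finBasis κ (κ ⊗[R] M)
  choose v hv using fun i => TensorProduct.mk_surjective R M κ IsLocalRing.residue_surjective (b i)
  have hspan := IsLocalRing.span_eq_top_of_tmul_eq_basis v b hv
  let π : (Fin (Module.finrank κ (κ ⊗[R] M)) → R) →ₗ[R] M := Fintype.linearCombination R v
  have hπ : Function.Surjective π := by
    rw [← LinearMap.range_eq_top, Fintype.range_linearCombination]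
    exact hspan
  let P := N.comap π
  let ρ : P →ₗ[R] N := (π.comp P.subtype).codRestrict N fun x => x.2
  have hρ : Function.Surjective ρ := fun y => by
    obtain ⟨x, hx⟩ := hπ y
    exact ⟨⟨x, by show π x ∈ N; rw [hx]; exact y.2⟩, Subtype.ext hx⟩
  haveI : Module.Free R P := Module.free_of_finite_type_torsion_free'
  have h1 : Module.finrank κ (κ ⊗[R] N) ≤ Module.finrank κ (κ ⊗[R] P) :=
    LinearMap.finrank_le_finrank_of_surjective (f := ρ.baseChange κ) (LinearMap.lTensor_surjective κ hρ)
  have h2 : Module.finrank κ (κ ⊗[R] P) = Module.finrank R P := Module.finrank_baseChange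
  rw [h2] at h1
  exact h1.trans ((Submodule.finrank_le P).trans (by rw [Module.finrank_fin_fun]))

end Groth.Agent.S15368
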