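import Groth.Statements.S1538
import Mathlib
import Groth.Agent.H22Alg.VarGeom

set_option autoImplicit false
universe u
open CategoryTheory CategoryTheory.Limits AlgebraicGeometry
open Variety

namespace Groth.Agent.S1538

/-- A scheme X over a field k is geometrically irreducible as soon as its base change to a separable
algebraic closure of k is irreducible. -/
theorem result (k : Type u) [Field k] (X : Scheme.{u}) [X.Over (Spec (CommRingCat.of k))]
    [IrreducibleSpace (Curv2.bc k X (SeparableClosure k))] :
    GeometricallyIrreducible (X ↘ (Spec (CommRingCat.of k))) := by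
  haveI : IrreducibleSpace ↥(FBase.bc (X ↘ Spec (CommRingCat.of k)) (SeparableClosure k)) :=
    inferInstanceAs (IrreducibleSpace ↥(Curv2.bc k X (SeparableClosure k)))
  exact (Groth.Agent.H06Desc.geometricallyIrreducible_iff_bcStr (K := SeparableClosure k) (X ↘ Spec (CommRingCat.of k))).mpr
    (Groth.Agent.H22Alg.VarGeom.geometricallyIrreducible_of_isSepClosed _)

end Groth.Agent.S1538
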