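import Groth.Statements.S15386
import Groth.Agent.H14Quot.InducedQuot

set_option autoImplicit false
set_option backward.isDefEq.respectTransparency false
set_option backward.isDefEq.respectTransparency.types false
universe u
open QuotStk

namespace Groth.Agent.S15386

open CategoryTheory MonoidalCategory CartesianMonoidalCategory MonObj AlgebraicGeometry in
/-- Let k be a field, G a smooth affine k-group scheme, H ⟶ G a closed subgroup scheme, X a k-scheme
with a G-action, and (Q, q₀) a pointed G-scheme which is the homogeneous space G/H for the fppf
topology (the stabiliser of q₀ is H and the orbit map G ⟶ Q acquires sections fppf-locally on Q).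
Then the quotient stack of X by H (restricted action; torsors locally trivial for the fppf topology,
as schemes) is equivalent, as a category over (Sch/k), to the quotient stack of Q ×_k X by G acting
diagonally; only the existence of such an equivalence is asserted. (The published statement is that
the square of quotient stacks formed by the quotient of G/H × Y by H, two copies of the quotient of
Y by H, and the quotient of Y by G is 2-cartesian; this row is the equivalence between the quotient
of X by H and the quotient of G/H × X by G proved on the way, from which that follows.) -/
theorem result (k : Type u) [Field k]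
    (G H X Q : Over (Spec (CommRingCat.of k))) [GrpObj G] [GrpObj H]
    (i : H ⟶ G) [IsMonHom i] [IsClosedImmersion i.left] [Smooth G.hom] [IsAffineHom G.hom]
    (aX : AlgGrp.Action G X) (aQ : AlgGrp.Action G Q) (q₀ : 𝟙_ (Over (Spec (CommRingCat.of k))) ⟶ Q)
    (hQ : ChGrp.IsHomog Scheme.fppfPrecoverage i aQ q₀) :
    AlgSt.IsQuotientOf Scheme.fppfPrecoverage H (aX.restrict i)
      (AlgSt.QuotSt Scheme.fppfPrecoverage G (aQ.prod aX)) := by
  have hH : IsAffineHom H.hom := by
    rw [← Over.w i]
    infer_instance
  exact Groth.Agent.H14Quot.isQuotientOf_induced inferInstance hH
    (Groth.Agent.H14Quot.isInduced_of_isHomog i aX aQ q₀ hQ)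

end Groth.Agent.S15386
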