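import Groth.Statements.S15391
import Groth.Agent.H3CAlg.PdResolution
import Mathlib.Algebra.Category.ModuleCat.Monoidal.Basic
import Mathlib.Algebra.Category.ModuleCat.Projective
import Mathlib.CategoryTheory.Monoidal.Tor
import Mathlib.LinearAlgebra.FreeModule.PID
import Mathlib.RingTheory.Flat.TorsionFree
import Mathlib.RingTheory.Henselian
import Mathlib.RingTheory.LocalProperties.Reduced
import Mathlib.RingTheory.QuasiFinite.Basic
import Mathlib.RingTheory.RegularLocalRing.Defs
import Mathlib.RingTheory.SimpleRing.Principal

set_option autoImplicit false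
universe u
open TensorProduct
open TorFree

namespace Groth.Agent.S15391

/-- Let R be a reduced Noetherian commutative ring, M a finitely generated torsion-free R-module (no
non-zero element of M is annihilated by a non-zero-divisor of R), and t an element of M whose image
1 ⊗ t in the fibre κ(p) ⊗_R M vanishes for every prime ideal p of R, κ(p) being the residue field at
p. Then t = 0. This is the affine form of the claim that a global section of a coherent torsion-free
module on a reduced Noetherian scheme which vanishes in every fibre is zero. -/
theorem result (R : Type u) [CommRing R] [IsReduced R] [IsNoetherianRing R]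
    (M : Type u) [AddCommGroup M] [Module R M] [Module.Finite R M] [Module.IsTorsionFree R M]
    (t : M) (ht : ∀ p : PrimeSpectrum R, (1 : p.asIdeal.ResidueField) ⊗ₜ[R] t = (0 : p.asIdeal.ResidueField ⊗[R] M)) :
    t = 0 := by
  classical
  have key : ∀ p ∈ minimalPrimes R, ∃ s ∉ p, s • t = 0 := by
    intro p hp
    have := hp.1.1
    let P : PrimeSpectrum R := ⟨p, this⟩
    have hdim : Ring.KrullDimLE 0 (Localization.AtPrime p) := Ring.KrullDimLE.of_isLocalization p hp (Localization.AtPrime p)
    have hf : IsField (Localization.AtPrime p) := by
      exact (Ring.KrullDimLE.isField_of_isReduced)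
    let e : Localization.AtPrime p →+* p.ResidueField := IsLocalRing.residue _
    have hbij : Function.Bijective (IsScalarTower.toAlgHom R (Localization.AtPrime p) p.ResidueField) := by
      refine ⟨?_, IsLocalRing.residue_surjective⟩
      letI := hf.toField
      exact RingHom.injective e
    have : IsLocalization p.primeCompl p.ResidueField :=
      IsLocalization.isLocalization_of_algEquiv p.primeCompl (AlgEquiv.ofBijective _ hbij)
    have : IsLocalizedModule p.primeCompl (TensorProduct.mk R p.ResidueField M 1) :=
      (isLocalizedModule_iff_isBaseChange p.primeCompl p.ResidueField _).mpr (TensorProduct.isBaseChange R M p.ResidueField)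
    obtain ⟨s, hs⟩ := (IsLocalizedModule.eq_zero_iff p.primeCompl (TensorProduct.mk R p.ResidueField M 1)).mp (ht P)
    exact ⟨s, s.2, hs⟩
  have hfin := minimalPrimes.finite_of_isNoetherianRing R
  let I : Ideal R := (Submodule.span R {t}).annihilator
  have hI : ¬ (I : Set R) ⊆ ⋃ p ∈ (hfin.toFinset : Set (Ideal R)), (p : Set R) := by
    rw [Ideal.subset_union_prime ⊤ ⊤ (fun Q hQ _ _ => (hfin.mem_toFinset.mp hQ).1.1)]
    rintro ⟨p, hp, hle⟩
    obtain ⟨s, hs, hst⟩ := key p (hfin.mem_toFinset.mp hp)
    exact hs (hle ((Submodule.mem_annihilator_span_singleton t s).mpr hst))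
  obtain ⟨a, ha, hau⟩ := Set.not_subset.mp hI
  have hreg : IsRegular a := by
    rw [isRegular_iff_mem_nonZeroDivisors, mem_nonZeroDivisors_iff_right]
    intro x hx
    have : x ∈ sInf (minimalPrimes R) := by
      rw [Submodule.mem_sInf]
      intro p hp
      refine (hp.1.1.mem_or_mem (hx ▸ p.zero_mem)).resolve_right fun hap => hau (Set.mem_biUnion (hfin.mem_toFinset.mpr hp) hap)
    rw [show sInf (minimalPrimes R) = nilradical R by rw [nilradical, ← Ideal.sInf_minimalPrimes]; rfl,
      nilradical_eq_zero] at this
    simpa using this
  have h0 : a • t = 0 := (Submodule.mem_annihilator_span_singleton t a).mp ha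
  exact Module.IsTorsionFree.isSMulRegular hreg (by simpa using h0)

end Groth.Agent.S15391
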