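import Groth.Statements.S15397
import Groth.Agent.H25Mul.Det
import Groth.Agent.H25Mul.Sections
import Groth.Agent.H25Hat.Quotient

set_option autoImplicit false
set_option linter.style.haveILetI false
set_option backward.isDefEq.respectTransparency false
set_option synthInstance.maxHeartbeats 200000
universe u
open CategoryTheory CategoryTheory.Limits MonoidalCategory CartesianMonoidalCategory MonObj GrpObj AlgebraicGeometry
open AbVar

namespace Groth.Agent.S15397

/-- Let k be an algebraically closed field of characteristic zero, A an abelian variety over k (a proper
smooth k-group scheme with geometrically connected fibres), and E a finite locally free O_A-module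
of rank r which is generically globally generated: there are a non-empty open subset U of A and a
family of global sections s_j : O_A → E such that the induced map from the direct sum of copies of
O_A to E is an epimorphism after restriction to U. Assume that r is smaller than the dimension over
k of H^0(A, E), and let D be a determinant of E, that is an r-th exterior power of E. Then the
multiplication map on global sections Γ(A, E) ⊗ Γ(A, D) → Γ(A, E ⊗ D), written as the canonical map
from the global sections of the sectionwise tensor product presheaf (the tensor being over the ring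
of global functions Γ(A, O_A)) to the global sections of its sheafification, is not injective. -/
theorem result (k : Type u) [Field k] [IsAlgClosed k] [CharZero k]
    (A : Over (Spec (CommRingCat.of k))) [GrpObj A] [IsProper A.hom] [Smooth A.hom] [GeometricallyConnected A.hom]
    (E : A.left.Modules) (r : ℕ) (hE : FlatMod.IsFinLocFreeOfRank r E)
    (hgen : ∃ (U : A.left.Opens) (J : Type u) (s : J → (Coh.structureModule A.left ⟶ E)),
      (U : Set ↥A.left).Nonempty ∧ Epi ((Scheme.Modules.restrictFunctor U.ι).map (Sigma.desc s)))
    (hlt : r < @Module.finrank k (Coh.HH A.left E 0) _ _ (@Coh.moduleOver k _ A.left ⟨A.hom⟩ E 0))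
    (D : A.left.Modules) (hD : ExtPow.IsExtPow r E D) :
    ¬ Function.Injective
      ((toSheafify (Opens.grothendieckTopology ↥A.left) (CohB1.tensorPre E D).presheaf).app (Opposite.op ⊤)) := by
  letI : A.left.Over (Spec (CommRingCat.of k)) := ⟨A.hom⟩
  haveI : IsProper (A.left ↘ Spec (CommRingCat.of k)) := ‹IsProper A.hom›
  haveI : GeometricallyIntegral A.hom := H25AbCube.geometricallyIntegral_of_smooth A
  haveI : IsIntegral A.left := GeometricallyIntegral.isIntegral_of_subsingleton A.hom
  haveI : IsLocallyNoetherian A.left := LocallyOfFiniteType.isLocallyNoetherian A.hom
  haveI : E.IsQuasicoherent := H8Props.FinLocFree.isQCoh_of_isFinLocFree E fun y => let ⟨V, hV⟩ := hE y; ⟨V, r, hV⟩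
  have hb : Function.Bijective (A.left ↘ Spec (CommRingCat.of k)).appTop := H25Rig.bijective_appTop A.hom
  have hk : IsField Γ(A.left, ⊤) :=
    MulEquiv.isField (Field.toIsField k)
      ((Scheme.ΓSpecIso (CommRingCat.of k)).commRingCatIsoToRingEquiv.symm.trans
        (RingEquiv.ofBijective (A.left ↘ Spec (CommRingCat.of k)).appTop.hom hb)).toMulEquiv.symm
  exact H25Mul.main hk hE hgen (H25Mul.finrank_HH_zero_eq hb E ▸ hlt) hD

end Groth.Agent.S15397
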