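import Groth.Statements.S15399
import Groth.Agent.H26Def.PicSeq
import Groth.Agent.H26Def.LineLift

set_option autoImplicit false
universe u
open CategoryTheory CategoryTheory.Limits AlgebraicGeometry
open PicGrp

namespace Groth.Agent.S15399

/-- Let X be a quasi-compact separated scheme, J a quasi-coherent ideal of O_X with J² = 0 and X₀ the
closed subscheme it cuts out, with inclusion i, and assume that the restriction of global functions
O_X(X) → O_{X₀}(X₀) is surjective. Assume the Picard group laws on X and X₀ and that pullback of
invertible classes along i is multiplicative. Then the kernel of the pullback homomorphism Pic(X) →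
Pic(X₀) is isomorphic, as a group, to the additive group H¹(X, J) (J viewed as an O_X-module),
written multiplicatively. (Existence of a group isomorphism only; the compatibility of the
isomorphism with pullback along morphisms Y → X is not stated.) -/
theorem result (X : Scheme.{u}) [CompactSpace X] [X.IsSeparated]
    (J : X.IdealSheafData) (hJ : J * J = ⊥)
    [PicGrp.Law X] [PicGrp.Law J.subscheme] (hi : PicGrp.PullMul J.subschemeι)
    (hsurj : Function.Surjective J.subschemeι.appTop.hom) :
    Nonempty ((PicGrp.pullHom J.subschemeι hi).ker ≃* Multiplicative (Coh.HH X (ClSub.idealMod J) 1)) := by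
  obtain ⟨ε, δ₀, α, δ₁, -, -, hδ, hα, hpull, -⟩ := H26Def.PicSeq.exists_seq X J hJ hi
  have hu : Function.Surjective (Units.map J.subschemeι.appTop.hom.toMonoidHom) := fun v => by
    obtain ⟨a, ha⟩ := hsurj v.val
    haveI : Surjective J.subschemeι := H26Def.LineLift.surjective_subschemeι J (by rw [pow_two, hJ])
    have hu : IsUnit a := H26Def.LineLift.isUnit_of_app J.subschemeι (U := ⊤) a (by
      rw [show J.subschemeι.app ⊤ a = v.val from ha]; exact v.isUnit)
    exact ⟨hu.unit, Units.ext ha⟩
  have hinj : Function.Injective α := by
    rw [← MonoidHom.ker_eq_bot_iff, hα, eq_bot_iff]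
    rintro x ⟨v, rfl⟩
    have hv : v ∈ δ₀.ker := hδ ▸ MonoidHom.mem_range.2 (hu v)
    exact hv
  exact ⟨(MulEquiv.subgroupCongr hpull).trans (MonoidHom.ofInjective hinj).symm⟩

end Groth.Agent.S15399
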