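import Groth.Statements.S15404
import Groth.Agent.H26PicSq.Glue
import Groth.Agent.H11Ample.Converse
-- import your own Groth.Agent.* helpers here

set_option autoImplicit false
universe u
open CategoryTheory CategoryTheory.Limits AlgebraicGeometry
open PicGrp

open CategoryTheory CategoryTheory.Limits AlgebraicGeometry
open Groth.Agent

set_option backward.isDefEq.respectTransparency false
set_option maxHeartbeats 800000

namespace Groth.Agent.S15404

/-- Let π : X ⟶ B be quasi-compact and separated and let X be the union of the closed subschemes Y =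
V(I) and Z = V(J), I and J quasi-coherent ideals with I ∩ J = 0 (so that O_X → O_Y × O_Z is
injective with cokernel O_W, W = Y ∩ Z = V(I + J)); assume that W is flat, proper and of finite
presentation over B, that W → B has a section, and that the geometric fibres of W → B are reduced
and connected. Assume the Picard group laws on B, X, Y, Z, W and that pullback of invertible classes
along π, along the inclusions of Y, Z in X and of W in Y, Z, and along the structure maps of Y, Z, W
is multiplicative. Then the square of groups formed by Pic(X)/π^*Pic(B), Pic(Y)/Pic(B),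
Pic(Z)/Pic(B) and Pic(W)/Pic(B) under restriction is cartesian: (a) an invertible class on X whose
restrictions to Y and to Z are pulled back from B is itself pulled back from B; (b) for invertible
classes y on Y and z on Z whose restrictions to W agree up to a class pulled back from B, there is a
class on X whose restrictions to Y and Z are y and z up to classes pulled back from B. (The
published statement asserts this for the functor T ↦ Pic(X ×_B T)/Pic(T) on all B-schemes T and
assumes only that π is quasi-compact and separated, W flat over B with a section and geometrically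
reduced connected fibres; its proof uses that every global unit on W comes from B, through a lemma
on flat proper morphisms, and without properness the assertion fails — over a field, two affine
planes glued along the hyperbola ts = 1 have non-trivial Picard group — so W is taken proper and of
finite presentation over B here (finite presentation being automatic over a locally Noetherian
base), and only the value at T = B is stated.) -/
theorem result {X B : Scheme.{u}} (π : X ⟶ B)
    [QuasiCompact π] [IsSeparated π] (I J : X.IdealSheafData) (hIJ : I ⊓ J = ⊥)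
    [Flat ((I ⊔ J).subschemeι ≫ π)] [IsProper ((I ⊔ J).subschemeι ≫ π)]
    [LocallyOfFinitePresentation ((I ⊔ J).subschemeι ≫ π)]
    (s : B ⟶ (I ⊔ J).subscheme) (hs : s ≫ (I ⊔ J).subschemeι ≫ π = 𝟙 B)
    (hfib : ∀ (K : Type u) [Field K] [IsAlgClosed K] (g : Spec (CommRingCat.of K) ⟶ B),
      IsReduced (pullback ((I ⊔ J).subschemeι ≫ π) g) ∧ ConnectedSpace ↥(pullback ((I ⊔ J).subschemeι ≫ π) g))
    [PicGrp.Law B] [PicGrp.Law X] [PicGrp.Law I.subscheme] [PicGrp.Law J.subscheme] [PicGrp.Law (I ⊔ J).subscheme]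
    (hπ : PicGrp.PullMul π) (hY : PicGrp.PullMul I.subschemeι) (hZ : PicGrp.PullMul J.subschemeι)
    (hπY : PicGrp.PullMul (I.subschemeι ≫ π)) (hπZ : PicGrp.PullMul (J.subschemeι ≫ π))
    (hπW : PicGrp.PullMul ((I ⊔ J).subschemeι ≫ π))
    (hWY : PicGrp.PullMul (Scheme.IdealSheafData.inclusion (le_sup_left : I ≤ I ⊔ J)))
    (hWZ : PicGrp.PullMul (Scheme.IdealSheafData.inclusion (le_sup_right : J ≤ I ⊔ J))) :
    (∀ c : PicLoc.PicSet X,
        (∃ b₁ : PicLoc.PicSet B, PicGrp.pullHom I.subschemeι hY c = PicGrp.pullHom (I.subschemeι ≫ π) hπY b₁) →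
        (∃ b₂ : PicLoc.PicSet B, PicGrp.pullHom J.subschemeι hZ c = PicGrp.pullHom (J.subschemeι ≫ π) hπZ b₂) →
          ∃ b : PicLoc.PicSet B, c = PicGrp.pullHom π hπ b) ∧
      (∀ (y : PicLoc.PicSet I.subscheme) (z : PicLoc.PicSet J.subscheme),
        (∃ b : PicLoc.PicSet B,
            PicGrp.pullHom (Scheme.IdealSheafData.inclusion (le_sup_left : I ≤ I ⊔ J)) hWY y =
              PicGrp.pullHom (Scheme.IdealSheafData.inclusion (le_sup_right : J ≤ I ⊔ J)) hWZ z *
                PicGrp.pullHom ((I ⊔ J).subschemeι ≫ π) hπW b) →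
          ∃ (c : PicLoc.PicSet X) (b₁ b₂ : PicLoc.PicSet B),
            PicGrp.pullHom I.subschemeι hY c = y * PicGrp.pullHom (I.subschemeι ≫ π) hπY b₁ ∧
              PicGrp.pullHom J.subschemeι hZ c = z * PicGrp.pullHom (J.subschemeι ≫ π) hπZ b₂) := by
  have hb := H26PicSq.bijective_app ((I ⊔ J).subschemeι ≫ π) hfib
  have hfl : ∀ {S : Scheme.{u}} {L : S.Modules}, PicF.IsInvertible L → FlatMod.IsFinLocFree L :=
    fun h => H28Pinch.isFinLocFree_of_isInvertible h
  have hw := H26PicSq.w I J
  refine ⟨fun c hcY hcZ => ?_, fun y z hyz => ?_⟩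
  · obtain ⟨b₁, hb₁⟩ := hcY
    obtain ⟨b₂, hb₂⟩ := hcZ
    obtain ⟨L, hL, rfl⟩ := PicGrp.exists_eq_cls c
    have hval : ∀ {S T U : Scheme.{u}} (g : S ⟶ T) (h : T ⟶ U) (d : PicF.Cl U),
        PicF.pullCl g (PicF.pullCl h d) = PicF.pullCl (g ≫ h) d := fun g h d => (PicLoc.pullCl_comp g h d).symm
    have e1 : PicF.pullCl I.subschemeι (PicF.cl L) = PicF.pullCl (I.subschemeι ≫ π) b₁.1 := congrArg Subtype.val hb₁
    have e2 : PicF.pullCl J.subschemeι (PicF.cl L) = PicF.pullCl (J.subschemeι ≫ π) b₂.1 := congrArg Subtype.val hb₂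
    have e12 : b₁ = b₂ := Subtype.ext (by
      have h1 := congrArg (fun d => PicF.pullCl s (PicF.pullCl (H26PicSq.jI I J) d)) e1
      have h2 := congrArg (fun d => PicF.pullCl s (PicF.pullCl (H26PicSq.jJ I J) d)) e2
      simp only [hval, Scheme.IdealSheafData.inclusion_subschemeι_assoc, hs, PicLoc.pullCl_id] at h1 h2
      rw [hw] at h1
      exact h1.symm.trans h2)
    subst e12
    obtain ⟨N, hN, rfl⟩ := PicGrp.exists_eq_cls b₁
    refine ⟨PicGrp.cls N hN, ?_⟩
    rw [PicGrp.pullHom_cls, PicGrp.cls_eq_cls_iff]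
    have ha := e1.trans (PicLoc.pullCl_comp I.subschemeι π _)
    have hb' := e2.trans (PicLoc.pullCl_comp J.subschemeι π _)
    obtain ⟨a⟩ := (PicGrp.cl_eq_cl_iff ((Scheme.Modules.pullback I.subschemeι).obj L)
      ((Scheme.Modules.pullback I.subschemeι).obj ((Scheme.Modules.pullback π).obj N))).1 ha
    obtain ⟨b⟩ := (PicGrp.cl_eq_cl_iff ((Scheme.Modules.pullback J.subschemeι).obj L)
      ((Scheme.Modules.pullback J.subschemeι).obj ((Scheme.Modules.pullback π).obj N))).1 hb'
    exact H26PicSq.nonempty_iso_of_restrictions π I J hIJ hb L (hfl hL) N (hfl hN)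
      (hfl (H11Ample.isInvertible_pullback π hN)) a b
  · obtain ⟨b, hb'⟩ := hyz
    obtain ⟨LY, hLY, hy⟩ := PicGrp.exists_eq_cls y
    obtain ⟨LZ, hLZ, hz⟩ := PicGrp.exists_eq_cls (z * PicGrp.pullHom (J.subschemeι ≫ π) hπZ b)
    have hσ : PicGrp.pullHom _ hWY y = PicGrp.pullHom _ hWZ (z * PicGrp.pullHom (J.subschemeι ≫ π) hπZ b) := by
      rw [hb', map_mul]
      congr 1
      refine Subtype.ext ?_
      rw [PicGrp.pullHom_apply_val, PicGrp.pullHom_apply_val, PicGrp.pullHom_apply_val, ← PicLoc.pullCl_comp,
        Scheme.IdealSheafData.inclusion_subschemeι_assoc]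
    rw [hy, hz, PicGrp.pullHom_cls, PicGrp.pullHom_cls, PicGrp.cls_eq_cls_iff] at hσ
    obtain ⟨σ⟩ := hσ
    obtain ⟨M, hM, hMY, hMZ⟩ := H26PicSq.exists_glued I J hIJ hLY hLZ σ
    refine ⟨PicGrp.cls M hM, 1, b, ?_, ?_⟩
    · rw [map_one, _root_.mul_one, hy, PicGrp.pullHom_cls, PicGrp.cls_eq_cls_iff]
      exact hMY
    · rw [hz, PicGrp.pullHom_cls, PicGrp.cls_eq_cls_iff]
      exact hMZ

end Groth.Agent.S15404
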