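import Groth.Statements.S15405
import Groth.Agent.H23KS.Types
import Groth.Agent.H28Int.FieldExt
import Groth.Agent.H16Derived.ProjFormula.Map
import Groth.Agent.H17.ConsModModels
import Groth.Agent.H10Coh.AffineAmple
import Groth.Agent.H8Props.RelPCBaseChange

set_option autoImplicit false
universe u
open CategoryTheory CategoryTheory.Limits AlgebraicGeometry
open ASBun

namespace Groth.Agent.S15405

section
open Groth.Agent

variable {Y : Scheme.{u}}

/-- `A^{⊕ a} ⊗ B^{⊕ b} ≅ (A ⊗ B)^{⊕ ab}`. -/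
theorem tensor_pow_pow (A B : Y.Modules) (a b : ℕ) :
    Nonempty (CohB1.tensorMod (∐ fun _ : Fin a => A) (∐ fun _ : Fin b => B) ≅
      ∐ fun _ : Fin (a * b) => CohB1.tensorMod A B) :=
  let T := (DCoh.tensorBi (X := Y)).flip.obj (∐ fun _ : Fin b => B)
  let S := (DCoh.tensorBi (X := Y)).obj A
  ⟨(PreservesCoproduct.iso T (fun _ : Fin a => A) : T.obj (∐ fun _ : Fin a => A) ≅ ∐ fun _ => T.obj A) ≪≫
    Sigma.mapIso (fun _ : Fin a =>
      (PreservesCoproduct.iso S (fun _ : Fin b => B) : S.obj (∐ fun _ : Fin b => B) ≅ ∐ fun _ => S.obj B)) ≪≫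
    H23KS.sumPow _ a b⟩

theorem isFinLocFree_tensorPow {M : Y.Modules} (hM : FlatMod.IsFinLocFree M) :
    ∀ j : ℕ, FlatMod.IsFinLocFree (CohB1.tensorPow M j)
  | 0 => H8Props.RelPC.isFinLocFree_structure Y
  | j + 1 => H10Coh.Tw.isFinLocFree_tensorMod (isFinLocFree_tensorPow hM j) hM

end

open W4c1astiltbs12 in
/-- Let X be proper over a field k, K an algebraic closure of k such that X_K is connected, and π : X_K
→ X the projection; assume the Picard group laws on X and on X_K and that pullback of invertible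
classes along π is multiplicative. Suppose that Pic(X_K) is infinite cyclic, generated by the class
of an invertible module L; that J is an invertible O_X-module with π^*J ≅ L^{⊗r} for some r ≥ 1; and
that there is an indecomposable finite locally free O_X-module (nonzero, and in any direct-sum
decomposition one summand is zero) whose pullback to X_K is isomorphic to L^{⊕d} for some d. Then:
(a) every indecomposable finite locally free O_X-module E whose pullback to X_K is a finite direct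
sum of invertible modules is isomorphic to M ⊗ J_a, where 0 ≤ j < r, M is an indecomposable finite
locally free O_X-module with π^*M ≅ (L^{⊗j})^{⊕d} for some d, a is an integer and J_a is an
invertible O_X-module whose class in Pic(X) is the a-th power of the class of J; (b) the integers a
and j in such an expression are determined by E. (The published statement takes r to be the least
such integer, the period, and leaves the connectedness of X_K implicit; the argument treats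
invertible modules on X_K as indecomposable, whence that hypothesis, and does not use the minimality
of r.) -/
theorem result (k : Type u) [Field k] {X : Scheme.{u}}
    (p : X ⟶ Spec (CommRingCat.of k)) [IsProper p] (K : Type u) [Field K] [Algebra k K] [IsAlgClosure k K]
    [ConnectedSpace ↥(W4bk4gw11416.baseChange p K)]
    [PicGrp.Law X] [PicGrp.Law (W4bk4gw11416.baseChange p K)] (hπ : PicGrp.PullMul (proj p K))
    (L : (W4bk4gw11416.baseChange p K).Modules) (hL : PicF.IsInvertible L)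
    (e : PicLoc.PicSet (W4bk4gw11416.baseChange p K) ≃* Multiplicative ℤ)
    (he : e (PicGrp.cls L hL) = Multiplicative.ofAdd 1)
    (r : ℕ) (hr : 1 ≤ r) (J : X.Modules) (hJ : PicF.IsInvertible J)
    (hJL : Nonempty (bcMod p K J ≅ CohB1.tensorPow L r))
    (hML : ∃ (M₁ : X.Modules) (d₁ : ℕ), FlatMod.IsFinLocFree M₁ ∧
      (¬ IsZero M₁ ∧ ∀ A B : X.Modules, Nonempty (M₁ ≅ A ⊞ B) → IsZero A ∨ IsZero B) ∧
      Nonempty (bcMod p K M₁ ≅ pow L d₁))
    (E : X.Modules) (hE : FlatMod.IsFinLocFree E)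
    (hEi : (¬ IsZero E ∧ ∀ A B : X.Modules, Nonempty (E ≅ A ⊞ B) → IsZero A ∨ IsZero B))
    (n : ℕ) (Ls : Fin n → (W4bk4gw11416.baseChange p K).Modules) (hLs : ∀ i, PicF.IsInvertible (Ls i))
    (hEs : Nonempty (bcMod p K E ≅ ∐ Ls)) :
    (∃ (a : ℤ) (j : ℕ), j < r ∧ ∃ (M : X.Modules) (d : ℕ) (Ja : X.Modules) (hJa : PicF.IsInvertible Ja),
      FlatMod.IsFinLocFree M ∧ (¬ IsZero M ∧ ∀ A B : X.Modules, Nonempty (M ≅ A ⊞ B) → IsZero A ∨ IsZero B) ∧
      Nonempty (bcMod p K M ≅ pow (CohB1.tensorPow L j) d) ∧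
      PicGrp.cls Ja hJa = PicGrp.cls J hJ ^ a ∧ Nonempty (E ≅ CohB1.tensorMod M Ja)) ∧
    (∀ (a a' : ℤ) (j j' : ℕ) (M M' : X.Modules) (d d' : ℕ) (Ja Ja' : X.Modules)
      (hJa : PicF.IsInvertible Ja) (hJa' : PicF.IsInvertible Ja'),
      j < r → j' < r →
      (¬ IsZero M ∧ ∀ A B : X.Modules, Nonempty (M ≅ A ⊞ B) → IsZero A ∨ IsZero B) → (¬ IsZero M' ∧ ∀ A B : X.Modules, Nonempty (M' ≅ A ⊞ B) → IsZero A ∨ IsZero B) →
      Nonempty (bcMod p K M ≅ pow (CohB1.tensorPow L j) d) → Nonempty (bcMod p K M' ≅ pow (CohB1.tensorPow L j') d') →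
      PicGrp.cls Ja hJa = PicGrp.cls J hJ ^ a → PicGrp.cls Ja' hJa' = PicGrp.cls J hJ ^ a' →
      Nonempty (E ≅ CohB1.tensorMod M Ja) → Nonempty (E ≅ CohB1.tensorMod M' Ja') → a = a' ∧ j = j') := by
  letI : X.Over (Spec (CommRingCat.of k)) := ⟨p⟩
  letI : (W4bk4gw11416.baseChange p K).Over (Spec (CommRingCat.of K)) :=
    ⟨pullback.snd p (Spec.map (CommRingCat.ofHom (algebraMap k K)))⟩
  haveI : IsProper (X ↘ Spec (CommRingCat.of k)) := ‹IsProper p›
  haveI : IsProper ((W4bk4gw11416.baseChange p K) ↘ Spec (CommRingCat.of K)) :=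
    inferInstanceAs (IsProper (pullback.snd p (Spec.map (CommRingCat.ofHom (algebraMap k K)))))
  haveI := Groth.Agent.H28Int.isNoetherian k (X := X)
  haveI := Groth.Agent.H28Int.isNoetherian K (X := W4bk4gw11416.baseChange p K)
  have hsq : IsPullback (proj p K) ((W4bk4gw11416.baseChange p K) ↘ Spec (CommRingCat.of K))
      (X ↘ Spec (CommRingCat.of k)) (Spec.map (CommRingCat.ofHom (algebraMap k K))) :=
    IsPullback.of_hasPullback p (Spec.map (CommRingCat.ofHom (algebraMap k K)))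
  haveI : PreservesColimitsOfSize.{0, 0} (Scheme.Modules.pullback (proj p K)) :=
    (Scheme.Modules.pullbackPushforwardAdjunction (proj p K)).leftAdjoint_preservesColimits
  have hEc := Groth.Agent.H16Derived.KFlat.Stalk.isCoh_of_isFinLocFree hE
  -- powers of `L`
  have hLp : ∀ j : ℕ, ∃ h : PicF.IsInvertible (CohB1.tensorPow L j),
      PicGrp.cls _ h = PicGrp.cls L hL ^ j := fun j =>
    ⟨Groth.Agent.H11Ample.isInvertible_tensorPow hL j, Subtype.ext (PicGrp.cls_pow_val hL j).symm⟩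
  choose hLj hLjc using hLp
  obtain ⟨eJ⟩ := hJL
  have hJK : PicGrp.pullHom (proj p K) hπ (PicGrp.cls J hJ) = PicGrp.cls L hL ^ r := by
    refine Subtype.ext ?_
    rw [PicGrp.cls_pow_val]
    exact (PicGrp.cl_eq_cl_iff _ _).2 ⟨eJ⟩
  have hJa : ∀ (a : ℤ) (Ja : X.Modules) (h : PicF.IsInvertible Ja), PicGrp.cls Ja h = PicGrp.cls J hJ ^ a →
      PicGrp.cls (bcMod p K Ja) (PicLoc.isInvertible_pullback (proj p K) h) = PicGrp.cls L hL ^ (a * r) := by
    intro a Ja h hc
    have h3 := map_zpow (PicGrp.pullHom (proj p K) hπ) (PicGrp.cls J hJ) a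
    rw [← hc, hJK, ← zpow_natCast, ← zpow_mul, mul_comm] at h3
    exact h3
  -- the type of a product
  have hprod : ∀ (j : ℕ) (a : ℤ) (M Ja : X.Modules) (h : PicF.IsInvertible Ja),
      PicGrp.cls Ja h = PicGrp.cls J hJ ^ a → ∀ d, Nonempty (bcMod p K M ≅ pow (CohB1.tensorPow L j) d) →
      ∃ (A : (W4bk4gw11416.baseChange p K).Modules) (hA : PicF.IsInvertible A),
        PicGrp.cls A hA = PicGrp.cls L hL ^ ((j : ℤ) + a * r) ∧
        Nonempty (bcMod p K (CohB1.tensorMod M Ja) ≅ pow A d) := by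
    intro j a M Ja h hc d ⟨f⟩
    have hA := Groth.Agent.H11Ample.isInvertible_tensor (hLj j) (PicLoc.isInvertible_pullback (proj p K) h)
    refine ⟨_, hA, ?_, ⟨?_⟩⟩
    · rw [zpow_add, zpow_natCast, ← hLjc j, ← hJa a Ja h hc]
      exact (Subtype.ext (PicGrp.cls_mul_cls_val _ _)).symm
    · let T := (DCoh.tensorBi (X := W4bk4gw11416.baseChange p K)).flip.obj (bcMod p K Ja)
      exact (Groth.Agent.H16Derived.KFlat.Stalk.pullTensorLIso (proj p K) Ja).app M ≪≫
        PicGrp.tensorModIso f (Iso.refl _) ≪≫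
        (PreservesCoproduct.iso T (fun _ : Fin d => CohB1.tensorPow L j) :
          T.obj (∐ fun _ : Fin d => CohB1.tensorPow L j) ≅ ∐ fun _ => T.obj (CohB1.tensorPow L j))
  have hzero : ∀ {A : (W4bk4gw11416.baseChange p K).Modules}, IsZero (∐ fun _ : Fin 0 => A) := fun {A} =>
    (IsZero.iff_id_eq_zero _).2 (Sigma.hom_ext _ _ fun a => a.elim0)
  obtain ⟨M₁, d₁, hM₁, hM₁i, ⟨f₁⟩⟩ := hML
  have hd₁ : 0 < d₁ := Nat.pos_of_ne_zero fun h => by
    subst h
    exact Groth.Agent.H23KS.not_isZero_map hsq (Groth.Agent.H16Derived.KFlat.Stalk.isCoh_of_isFinLocFree hM₁)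
      hM₁i.1 (hzero.of_iso f₁)
  have hpow : ∀ j : ℕ, Nonempty (bcMod p K (CohB1.tensorPow M₁ j) ≅ pow (CohB1.tensorPow L j) (d₁ ^ j)) := by
    intro j
    induction j with
    | zero =>
      exact ⟨Groth.Agent.H16Derived.KFlat.Stalk.structurePullbackIso (proj p K) ≪≫
        (coproductUniqueIso fun _ : Fin 1 => Coh.structureModule (W4bk4gw11416.baseChange p K)).symm⟩
    | succ j ih =>
      obtain ⟨g⟩ := ih
      obtain ⟨h⟩ := tensor_pow_pow (CohB1.tensorPow L j) L (d₁ ^ j) d₁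
      exact ⟨(Groth.Agent.H16Derived.KFlat.Stalk.pullTensorLIso (proj p K) M₁).app (CohB1.tensorPow M₁ j) ≪≫
        PicGrp.tensorModIso g f₁ ≪≫ h⟩
  -- indecomposables of every type
  have hM : ∀ j : ℕ, ∃ (M : X.Modules) (d : ℕ), FlatMod.IsFinLocFree M ∧ Groth.Agent.H23KS.Indec M ∧ 0 < d ∧
      Nonempty (bcMod p K M ≅ pow (CohB1.tensorPow L j) d) := by
    intro j
    have hF := isFinLocFree_tensorPow hM₁ j
    have hW := Groth.Agent.H23KS.indec_invertible (hLj j)
    obtain ⟨g⟩ := hpow j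
    have h0 : ¬ IsZero (CohB1.tensorPow M₁ j) := fun hz => hW.1 (by
      have h1 := ((Scheme.Modules.pullback (proj p K)).map_isZero hz).of_iso g.symm
      have i₀ : Fin (d₁ ^ j) := ⟨0, pow_pos hd₁ j⟩
      refine (IsZero.iff_id_eq_zero _).2 ?_
      rw [← Sigma.ι_desc (f := fun _ : Fin (d₁ ^ j) => CohB1.tensorPow L j) (fun _ => 𝟙 _) i₀,
        h1.eq_of_src (Sigma.desc fun _ => 𝟙 (CohB1.tensorPow L j)) 0, comp_zero])
    obtain ⟨P, i, q, s, hiq, hP, hs, hPt⟩ := Groth.Agent.H23KS.exists_indec_type hsq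
      (Groth.Agent.H16Derived.KFlat.Stalk.isCoh_of_isFinLocFree hF) h0 _ hW _ g
    exact ⟨P, s, Groth.Agent.H23KS.isFinLocFree_of_retract hF i q hiq, hP, hs, hPt⟩
  choose Mj dj hMf hMi hdj hMt using hM
  refine ⟨?_, ?_⟩
  · obtain ⟨es⟩ := hEs
    let m : Fin n → ℤ := fun i => Multiplicative.toAdd (e (PicGrp.cls (Ls i) (hLs i)))
    have hm : ∀ i, PicGrp.cls (Ls i) (hLs i) = PicGrp.cls L hL ^ m i := fun i => e.injective (by
      rw [map_zpow, he]
      refine Multiplicative.toAdd.injective ?_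
      simp [m])
    have hr' : (r : ℤ) ≠ 0 := by omega
    let jj : Fin n → ℕ := fun i => (m i % r).toNat
    have hjj : ∀ i, ((jj i : ℤ) + m i / r * r = m i) := fun i => by
      show ((m i % r).toNat : ℤ) + _ = _
      rw [Int.toNat_of_nonneg (Int.emod_nonneg _ hr'), Int.emod_add_ediv_mul]
    have hP : ∀ i, ∃ (Ja : X.Modules) (h : PicF.IsInvertible Ja), PicGrp.cls Ja h = PicGrp.cls J hJ ^ (m i / r) ∧
        Groth.Agent.H23KS.Indec (CohB1.tensorMod (Mj (jj i)) Ja) ∧
        Coh.IsCoh (CohB1.tensorMod (Mj (jj i)) Ja) ∧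
        Nonempty (bcMod p K (CohB1.tensorMod (Mj (jj i)) Ja) ≅ pow (Ls i) (dj (jj i))) := by
      intro i
      obtain ⟨Ja, h, hc⟩ := PicGrp.exists_eq_cls (PicGrp.cls J hJ ^ (m i / r))
      obtain ⟨Ja', h', hc'⟩ := PicGrp.exists_eq_cls (PicGrp.cls Ja h)⁻¹
      obtain ⟨eI⟩ := (PicGrp.cls_mul_cls_eq_one_iff h h').1 (by rw [← hc', mul_inv_cancel])
      obtain ⟨A, hA, hAc, ⟨g⟩⟩ := hprod (jj i) (m i / r) (Mj (jj i)) Ja h hc.symm _ (hMt (jj i))
      obtain ⟨u⟩ := (PicGrp.cls_eq_cls_iff hA (hLs i)).1 (by rw [hAc, hjj, hm])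
      have hi2 := Groth.Agent.H23KS.indec_tensor eI (hMi (jj i))
      let c := Groth.Agent.H11Ample.tensorCommIso Ja (Mj (jj i))
      refine ⟨Ja, h, hc.symm, ⟨fun hz => hi2.1 (hz.of_iso c), fun B D ⟨v⟩ => hi2.2 B D ⟨c ≪≫ v⟩⟩, ?_,
        ⟨g ≪≫ Sigma.mapIso fun _ => u⟩⟩
      exact Groth.Agent.H16Derived.KFlat.Stalk.isCoh_of_isFinLocFree (Groth.Agent.H10Coh.Tw.isFinLocFree_tensorMod
        (hMf (jj i)) (Groth.Agent.H28Pinch.isFinLocFree_of_isInvertible h))
    choose Ja hJai hJac hPi hPc hPt using hP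
    obtain ⟨i, ⟨w⟩⟩ := Groth.Agent.H23KS.exists_iso_of_types hsq hEc hEi Ls es
      (fun i => CohB1.tensorMod (Mj (jj i)) (Ja i)) hPc hPi (fun i => dj (jj i)) (fun i => hdj _)
      (fun i => (hPt i).some)
    refine ⟨m i / r, jj i, ?_, Mj (jj i), dj (jj i), Ja i, hJai i, hMf _, hMi _, hMt _, hJac i, ⟨w⟩⟩
    have := Int.emod_lt_of_pos (m i) (show (0 : ℤ) < r by omega)
    show (m i % r).toNat < r
    omega
  · intro a a' j j' M M' d d' Ja Ja' hJa₁ hJa₂ hj hj' _ _ hMt₁ hMt₂ hc hc' ⟨w⟩ ⟨w'⟩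
    obtain ⟨A, hA, hAc, ⟨g⟩⟩ := hprod j a M Ja hJa₁ hc d hMt₁
    obtain ⟨A', hA', hAc', ⟨g'⟩⟩ := hprod j' a' M' Ja' hJa₂ hc' d' hMt₂
    have hd : 0 < d := Nat.pos_of_ne_zero fun h => by
      subst h
      exact Groth.Agent.H23KS.not_isZero_map hsq hEc hEi.1
        (hzero.of_iso ((Scheme.Modules.pullback (proj p K)).mapIso w ≪≫ g))
    letI := Groth.Agent.H23KS.endAlgebra K A
    haveI := Groth.Agent.H23KS.finite_end K A (Groth.Agent.H16Derived.KFlat.Stalk.isCoh_of_isFinLocFree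
      (Groth.Agent.H28Pinch.isFinLocFree_of_isInvertible hA))
    haveI : HasFiniteBiproducts (W4bk4gw11416.baseChange p K).Modules := Abelian.hasFiniteBiproducts
    let φ : pow A d ≅ ⨁ fun _ : Fin d' => A' :=
      ((Scheme.Modules.pullback (proj p K)).mapIso w ≪≫ g).symm ≪≫
      (Scheme.Modules.pullback (proj p K)).mapIso w' ≪≫ g' ≪≫ (biproduct.isoCoproduct _).symm
    let i₀ : Fin d := ⟨0, hd⟩
    obtain ⟨-, a₁, b₁, hab⟩ := Groth.Agent.H23KS.exists_retract_summand (Groth.Agent.H23KS.indec_invertible hA)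
      (Groth.Agent.H23KS.piReg_of_finite K A) (fun _ : Fin d' => A')
      (Sigma.ι (fun _ : Fin d => A) i₀ ≫ φ.hom) (φ.inv ≫ Sigma.desc fun _ => 𝟙 A) (by simp)
    obtain ⟨u⟩ := Groth.Agent.H23KS.nonempty_iso_of_retract (Groth.Agent.H23KS.indec_invertible hA).1
      (Groth.Agent.H23KS.indec_invertible hA') a₁ b₁ hab
    have h := congrArg e ((PicGrp.cls_eq_cls_iff hA hA').2 ⟨u⟩)
    rw [hAc, hAc', map_zpow, map_zpow, he] at h
    have h' := congrArg Multiplicative.toAdd h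
    simp at h'
    have hr' : (0 : ℤ) < r := by omega
    have hjeq : (j : ℤ) = j' := by
      have := congrArg (· % (r : ℤ)) h'
      simpa [Int.emod_eq_of_lt (Int.natCast_nonneg j) (by omega : (j : ℤ) < r),
        Int.emod_eq_of_lt (Int.natCast_nonneg j') (by omega : (j' : ℤ) < r)] using this
    refine ⟨?_, by omega⟩
    have : a * (r : ℤ) = a' * r := by linarith
    exact mul_right_cancel₀ (ne_of_gt hr') this

end Groth.Agent.S15405
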