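import Groth.Statements.S15409
import Groth.Agent.H23KS.Indec
import Groth.Agent.H23KS.DualSum
import Groth.Agent.H28Int.FieldExt
import Groth.Agent.H16Derived.ProjFormula.Map
import Groth.Agent.H17.ConsModModels

set_option autoImplicit false
universe u
open CategoryTheory CategoryTheory.Limits AlgebraicGeometry
open ASBun

namespace Groth.Agent.S15409

open W4c1astiltbs12 in
/-- Let X be proper over a field k with k ≅ H⁰(X, O_X), K an algebraic closure of k with X_K connected
and projection π : X_K → X; assume the Picard group laws on X and X_K with pullback along π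
multiplicative, that Pic(X_K) is infinite cyclic generated by the class of an invertible module L,
and that J is an invertible O_X-module whose pullback to X_K has class the r-th power of the class
of L, r ≥ 1. Let j and a be integers and N, N' invertible O_{X_K}-modules with classes (cls L)^j and
(cls L)^{j'} where either j' = −j or j' = j + a·r. If W, W' are indecomposable finite locally free
O_X-modules (nonzero, and in any direct-sum decomposition one summand is zero) with π^*W ≅ N^{⊕d}
and π^*W' ≅ N'^{⊕d'}, then d = d': the rank of the indecomposable absolutely isotypical sheaf of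
type L^{⊗j} depends only on ±j modulo r. (The published statement phrases this for the sheaves
W_{L^{⊗j}}, whose existence for every j it assumes through an indecomposable absolutely isotypical
sheaf of type L; here the two sheaves are given, and r need not be minimal.) -/
theorem result (k : Type u) [Field k] {X : Scheme.{u}}
    (p : X ⟶ Spec (CommRingCat.of k)) [IsProper p] (hO : IsIso p.appTop) (K : Type u) [Field K] [Algebra k K] [IsAlgClosure k K]
    [ConnectedSpace ↥(W4bk4gw11416.baseChange p K)]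
    [PicGrp.Law X] [PicGrp.Law (W4bk4gw11416.baseChange p K)] (hπ : PicGrp.PullMul (proj p K))
    (L : (W4bk4gw11416.baseChange p K).Modules) (hL : PicF.IsInvertible L)
    (e : PicLoc.PicSet (W4bk4gw11416.baseChange p K) ≃* Multiplicative ℤ)
    (he : e (PicGrp.cls L hL) = Multiplicative.ofAdd 1)
    (r : ℕ) (hr : 1 ≤ r) (J : X.Modules) (hJ : PicF.IsInvertible J)
    (hJL : PicGrp.cls (bcMod p K J) (PicLoc.isInvertible_pullback (proj p K) hJ) = PicGrp.cls L hL ^ r)
    (j a j' : ℤ) (hj' : j' = -j ∨ j' = j + a * r)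
    (N N' : (W4bk4gw11416.baseChange p K).Modules) (hN : PicF.IsInvertible N) (hN' : PicF.IsInvertible N')
    (hNj : PicGrp.cls N hN = PicGrp.cls L hL ^ j) (hN'j : PicGrp.cls N' hN' = PicGrp.cls L hL ^ j')
    (W W' : X.Modules) (hW : FlatMod.IsFinLocFree W) (hW' : FlatMod.IsFinLocFree W')
    (hWi : (¬ IsZero W ∧ ∀ A B : X.Modules, Nonempty (W ≅ A ⊞ B) → IsZero A ∨ IsZero B)) (hW'i : (¬ IsZero W' ∧ ∀ A B : X.Modules, Nonempty (W' ≅ A ⊞ B) → IsZero A ∨ IsZero B))
    (d d' : ℕ) (eW : Nonempty (bcMod p K W ≅ pow N d)) (eW' : Nonempty (bcMod p K W' ≅ pow N' d')) :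
    d = d' := by
  letI : X.Over (Spec (CommRingCat.of k)) := ⟨p⟩
  letI : (W4bk4gw11416.baseChange p K).Over (Spec (CommRingCat.of K)) :=
    ⟨pullback.snd p (Spec.map (CommRingCat.ofHom (algebraMap k K)))⟩
  haveI : IsProper (X ↘ Spec (CommRingCat.of k)) := ‹IsProper p›
  haveI : IsProper ((W4bk4gw11416.baseChange p K) ↘ Spec (CommRingCat.of K)) :=
    inferInstanceAs (IsProper (pullback.snd p (Spec.map (CommRingCat.ofHom (algebraMap k K)))))
  haveI := Groth.Agent.H28Int.isNoetherian k (X := X)
  have hsq : IsPullback (proj p K) ((W4bk4gw11416.baseChange p K) ↘ Spec (CommRingCat.of K))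
      (X ↘ Spec (CommRingCat.of k)) (Spec.map (CommRingCat.ofHom (algebraMap k K))) :=
    IsPullback.of_hasPullback p (Spec.map (CommRingCat.ofHom (algebraMap k K)))
  obtain ⟨b⟩ := eW'
  obtain ⟨a₀⟩ := eW
  have hWc' := Groth.Agent.H16Derived.KFlat.Stalk.isCoh_of_isFinLocFree hW'
  have hN'i := Groth.Agent.H23KS.indec_invertible hN'
  have hcoh : ∀ {E : X.Modules}, FlatMod.IsFinLocFree E →
      Coh.IsCoh ((Scheme.Modules.pullback (proj p K)).obj E) := fun h =>
    Groth.Agent.H16Derived.KFlat.Stalk.isCoh_of_isFinLocFree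
      (Groth.Agent.H16Derived.KFlat.Stalk.isFinLocFree_pullback (proj p K) h)
  rcases hj' with rfl | rfl
  · -- the dual type
    obtain ⟨n⟩ : Nonempty (RefHull.dual N ≅ N') := by
      have h1 : PicGrp.cls N hN * PicGrp.cls N' hN' = 1 := by rw [hNj, hN'j, ← zpow_add, add_neg_cancel, zpow_zero]
      obtain ⟨e₁⟩ := (PicGrp.cls_mul_cls_eq_one_iff hN hN').1 h1
      exact Groth.Agent.H23KS.nonempty_dual_iso hN e₁
    haveI : IsAffineHom (proj p K) :=
      MorphismProperty.pullback_fst p (Spec.map (CommRingCat.ofHom (algebraMap k K))) inferInstance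
    obtain ⟨pd⟩ := Groth.Agent.H23KS.nonempty_pullback_dual (proj p K) hW
    have hd := Groth.Agent.H10Inj.SheafExt.isFinLocFree_dual hW
    exact Groth.Agent.H23KS.multiplicity_eq hsq (Groth.Agent.H16Derived.KFlat.Stalk.isCoh_of_isFinLocFree hd) hWc'
      (Groth.Agent.H23KS.indec_dual hW hWi) hW'i N' hN'i (hcoh hd) d d'
      (pd ≪≫ RefFun.dualIso a₀ ≪≫ Groth.Agent.H23KS.dualSigma _ ≪≫ Sigma.mapIso fun _ => n) b
  · -- the twisted type
    obtain ⟨M, hM, hMa⟩ := PicGrp.exists_eq_cls (PicGrp.cls J hJ ^ a)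
    obtain ⟨M', hM', hMa'⟩ := PicGrp.exists_eq_cls (PicGrp.cls J hJ ^ a)⁻¹
    obtain ⟨eM⟩ := (PicGrp.cls_mul_cls_eq_one_iff hM hM').1 (by rw [← hMa, ← hMa', mul_inv_cancel])
    have hMK : PicF.IsInvertible ((Scheme.Modules.pullback (proj p K)).obj M) :=
      PicLoc.isInvertible_pullback (proj p K) hM
    have h2 : PicGrp.cls _ hMK = PicGrp.cls L hL ^ (a * r) := by
      have h3 := map_zpow (PicGrp.pullHom (proj p K) hπ) (PicGrp.cls J hJ) a
      rw [hMa] at h3
      refine h3.trans ?_
      rw [show PicGrp.pullHom (proj p K) hπ (PicGrp.cls J hJ) = PicGrp.cls L hL ^ r from hJL, ← zpow_natCast,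
        ← zpow_mul, mul_comm]
    obtain ⟨n⟩ : Nonempty (CohB1.tensorMod ((Scheme.Modules.pullback (proj p K)).obj M) N ≅ N') := by
      rw [← PicGrp.cl_eq_cl_iff, ← PicGrp.cls_mul_cls_val hMK hN, h2, hNj, ← zpow_add, add_comm, ← hN'j]
      rfl
    let T := (DCoh.tensorBi (X := W4bk4gw11416.baseChange p K)).obj ((Scheme.Modules.pullback (proj p K)).obj M)
    let aT : (Scheme.Modules.pullback (proj p K)).obj (CohB1.tensorMod M W) ≅ pow N' d :=
      (Groth.Agent.H16Derived.KFlat.Stalk.pullTensorLIso (proj p K) W).app M ≪≫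
        PicGrp.tensorModIso (Iso.refl _) a₀ ≪≫
        (PreservesCoproduct.iso T (fun _ : Fin d => N) : T.obj (∐ fun _ : Fin d => N) ≅ ∐ fun _ => T.obj N) ≪≫
        Sigma.mapIso fun _ => n
    have hMW : Coh.IsCoh (CohB1.tensorMod M W) :=
      Groth.Agent.H28Int.isCoh_twist hM (Groth.Agent.H16Derived.KFlat.Stalk.isCoh_of_isFinLocFree hW)
    exact Groth.Agent.H23KS.multiplicity_eq hsq hMW hWc' (Groth.Agent.H23KS.indec_tensor eM hWi) hW'i N' hN'i
      (Groth.Agent.H17.ConsProp.isCoh_pullback (proj p K) hMW) d d' aT b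

end Groth.Agent.S15409
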