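import Groth.Statements.S15411
import Mathlib.RingTheory.Flat.FaithfullyFlat.Basic
import Mathlib.RingTheory.Flat.Basic
import Mathlib.LinearAlgebra.Basis.VectorSpace
import Mathlib.RingTheory.Bialgebra.TensorProduct
import Mathlib.RingTheory.Bialgebra.Equiv

set_option autoImplicit false
universe u
open scoped TensorProduct
open Hopf

namespace Groth.Agent.S15411
open TensorProduct in
theorem key (K : Type u) [Field K] {ιv : Type u}
    (Kv : ιv → Type u) [∀ i, CommRing (Kv i)] [∀ i, Algebra K (Kv i)]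
    (A B : Type u) [CommRing A] [CommRing B] [Bialgebra K A] [Bialgebra K B]
    (u : ∀ i, (Kv i ⊗[K] B) ≃ₐc[Kv i] (Kv i ⊗[K] A))
    (i₀ : ιv) (hi₀ : Nontrivial (Kv i₀))
    (hv : ∀ b : B, ∃ a : A, ∀ i, u i (1 ⊗ₜ[K] b) = 1 ⊗ₜ[K] a) :
    ∃! v : B ≃ₐc[K] A, ∀ (i : ιv) (b : B), u i (1 ⊗ₜ[K] b) = 1 ⊗ₜ[K] v b := by
  haveI := hi₀
  choose w hw using hv
  let S := Kv i₀
  have hinjA : Function.Injective (Algebra.TensorProduct.includeRight : A →ₐ[K] S ⊗[K] A) :=
    Algebra.TensorProduct.includeRight_injective (algebraMap K S).injective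
  let φ : B →ₐ[K] S ⊗[K] A :=
    ((u i₀ : (S ⊗[K] B) ≃ₐc[S] (S ⊗[K] A)).toAlgEquiv.toAlgHom.restrictScalars K).comp Algebra.TensorProduct.includeRight
  have hφ : ∀ b, φ b = 1 ⊗ₜ[K] w b := fun b => hw b i₀
  let g : B →ₐ[K] A :=
    { toFun := w
      map_one' := hinjA (by show (1 : S) ⊗ₜ[K] w 1 = 1 ⊗ₜ[K] (1 : A); rw [← hφ, map_one]; rfl)
      map_mul' := fun x y => hinjA (by
        show (1 : S) ⊗ₜ[K] w (x * y) = 1 ⊗ₜ[K] (w x * w y)
        rw [← hφ, map_mul, hφ, hφ, Algebra.TensorProduct.tmul_mul_tmul, mul_one])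
      map_zero' := hinjA (by show (1 : S) ⊗ₜ[K] w 0 = 1 ⊗ₜ[K] (0 : A); rw [← hφ, map_zero, TensorProduct.tmul_zero])
      map_add' := fun x y => hinjA (by
        show (1 : S) ⊗ₜ[K] w (x + y) = 1 ⊗ₜ[K] (w x + w y)
        rw [← hφ, map_add, hφ, hφ, TensorProduct.tmul_add])
      commutes' := fun c => hinjA (by
        show (1 : S) ⊗ₜ[K] w (algebraMap K B c) = Algebra.TensorProduct.includeRight (R := K) (A := S) (algebraMap K A c)
        rw [← hφ, AlgHom.commutes, AlgHom.commutes]) }
  have hg : ∀ (z : S ⊗[K] B), u i₀ z = LinearMap.lTensor S g.toLinearMap z := by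
    intro z
    induction z using TensorProduct.induction_on with
    | zero => simp
    | add x y hx hy => simp only [map_add, hx, hy]
    | tmul s b =>
      rw [LinearMap.lTensor_tmul]
      have : s ⊗ₜ[K] b = s • ((1 : S) ⊗ₜ[K] b) := by rw [TensorProduct.smul_tmul', smul_eq_mul, mul_one]
      rw [this, map_smul, hw, TensorProduct.smul_tmul', smul_eq_mul, mul_one]
      rfl
  have hbij : Function.Bijective g := by
    refine (Module.FaithfullyFlat.lTensor_bijective_iff_bijective K S g.toLinearMap).1 ?_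
    have he : ⇑(LinearMap.lTensor S g.toLinearMap) = ⇑(u i₀) := funext fun z => (hg z).symm
    rw [he]
    exact EquivLike.bijective (u i₀)
  -- the comparison `A ⊗ A → (S ⊗ A) ⊗ (S ⊗ A)`
  let j : ∀ (M : Type u) [CommRing M] [Algebra K M], M ⊗[K] M → (S ⊗[K] M) ⊗[S] (S ⊗[K] M) := fun M _ _ z =>
    AlgebraTensorModule.tensorTensorTensorComm K S K S S S M M (((1 : S) ⊗ₜ[S] (1 : S)) ⊗ₜ[K] z)
  have hjinj : Function.Injective (j A) := by
    intro x y h
    have h1 := (AlgebraTensorModule.tensorTensorTensorComm K S K S S S A A).injective h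
    have h2 := congrArg (LinearMap.rTensor (A ⊗[K] A) ((TensorProduct.lid S S).toLinearMap.restrictScalars K)) h1
    simp only [LinearMap.rTensor_tmul, LinearMap.restrictScalars_apply, LinearEquiv.coe_coe, TensorProduct.lid_tmul,
      smul_eq_mul, mul_one] at h2
    exact Algebra.TensorProduct.includeRight_injective (algebraMap K S).injective h2
  have hcomul : ∀ (M : Type u) [CommRing M] [Bialgebra K M] (x : M),
      CoalgebraStruct.comul (R := S) ((1 : S) ⊗ₜ[K] x : S ⊗[K] M) = j M (CoalgebraStruct.comul (R := K) x) := by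
    intro M _ _ x
    rw [TensorProduct.comul_def]
    simp only [LinearMap.comp_apply, AlgebraTensorModule.map_tmul, CommSemiring.comul_apply]
    rfl
  have hjmap : ∀ z : B ⊗[K] B, TensorProduct.map (u i₀ : S ⊗[K] B →ₗc[S] S ⊗[K] A).toLinearMap (u i₀ : S ⊗[K] B →ₗc[S] S ⊗[K] A).toLinearMap (j B z) =
      j A (TensorProduct.map g.toLinearMap g.toLinearMap z) := by
    intro z
    induction z using TensorProduct.induction_on with
    | zero => simp [j]
    | add x y hx hy => simp only [j, TensorProduct.tmul_add, map_add] at *; rw [hx, hy]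
    | tmul x y =>
      show (u i₀) ((1 : S) ⊗ₜ[K] x) ⊗ₜ[S] (u i₀) ((1 : S) ⊗ₜ[K] y) = ((1 : S) ⊗ₜ[K] g x) ⊗ₜ[S] ((1 : S) ⊗ₜ[K] g y)
      rw [hw, hw]
      rfl
  let gb : B →ₐc[K] A := BialgHom.ofAlgHom g
    (AlgHom.ext fun b => (algebraMap K S).injective (by
      show algebraMap K S (CoalgebraStruct.counit (g b)) = algebraMap K S (CoalgebraStruct.counit b)
      have h := CoalgHomClass.counit_comp_apply (u i₀) ((1 : S) ⊗ₜ[K] b)
      rw [hw] at h
      simp only [TensorProduct.counit_tmul, CommSemiring.counit_apply, Algebra.smul_def, mul_one] at h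
      exact h))
    (AlgHom.ext fun b => hjinj (by
      show j A (TensorProduct.map g.toLinearMap g.toLinearMap (CoalgebraStruct.comul b)) = j A (CoalgebraStruct.comul (g b))
      rw [← hjmap, ← hcomul A, ← hcomul B]
      have h := CoalgHomClass.map_comp_comul_apply (u i₀) ((1 : S) ⊗ₜ[K] b)
      rw [hw] at h
      exact h))
  refine ⟨BialgEquiv.ofBijective gb hbij, fun i b => hw b i, fun v hv' => BialgEquiv.ext fun b => hinjA ?_⟩
  show (1 : S) ⊗ₜ[K] v b = 1 ⊗ₜ[K] g b
  rw [← hv']
  exact hw b i₀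


/-- Let K be a field and let finitely many commutative K-algebras be given in two layers, K_i for each
vertex i and K_k for each edge k, with K-algebra maps from K_{l k} and from K_{r k} into K_k for
every edge k, such that K is the equalizer of the system: every family (x_i) whose two images in K_k
agree for every k comes from exactly one element of K. Let A and B be commutative K-bialgebras
(coordinate rings of affine group or monoid schemes over K) and let u_i : K_i ⊗ B ≅ K_i ⊗ A be
isomorphisms of K_i-bialgebras such that, for every edge k, the base changes of u_{l k} and u_{r k}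
to K_k agree. Then there is exactly one isomorphism of K-bialgebras v : B ≅ A inducing every u_i,
that is with u_i (1 ⊗ b) = 1 ⊗ v b. (The published statement is for the system obtained from a
finite inverse factorization system of fields by base change to a finite separable extension K, and
for linear algebraic groups; this row keeps from that setting only what the argument uses: K is a
field and is the equalizer of the finite system, and the group schemes are affine.) -/
theorem result
    (K : Type u) [Field K] (ιv ιe : Type u) [Finite ιv] [Finite ιe]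
    (Kv : ιv → Type u) [∀ i, CommRing (Kv i)] [∀ i, Algebra K (Kv i)]
    (Ke : ιe → Type u) [∀ k, CommRing (Ke k)] [∀ k, Algebra K (Ke k)]
    (l r : ιe → ιv) (ρl : ∀ k, Kv (l k) →ₐ[K] Ke k) (ρr : ∀ k, Kv (r k) →ₐ[K] Ke k)
    (hlim : ∀ x : (∀ i, Kv i), (∀ k, ρl k (x (l k)) = ρr k (x (r k))) →
      ∃! a : K, ∀ i, algebraMap K (Kv i) a = x i)
    (A B : Type u) [CommRing A] [CommRing B] [Bialgebra K A] [Bialgebra K B]
    (u : ∀ i, (Kv i ⊗[K] B) ≃ₐc[Kv i] (Kv i ⊗[K] A))
    (hu : ∀ (k : ιe) (b : B),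
      Algebra.TensorProduct.map (ρl k) (AlgHom.id K A) (u (l k) (1 ⊗ₜ[K] b)) =
        Algebra.TensorProduct.map (ρr k) (AlgHom.id K A) (u (r k) (1 ⊗ₜ[K] b))) :
    ∃! v : B ≃ₐc[K] A, ∀ (i : ιv) (b : B), u i (1 ⊗ₜ[K] b) = 1 ⊗ₜ[K] v b := by
  classical
  obtain ⟨i₀, hi₀⟩ : ∃ i, Nontrivial (Kv i) := by
    by_contra h
    push_neg at h
    haveI : ∀ i, Subsingleton (Kv i) := fun i => not_nontrivial_iff_subsingleton.1 fun hn => not_subsingleton_iff_nontrivial.2 hn (h i)
    obtain ⟨a, -, ha⟩ := hlim 0 fun k => by rw [Pi.zero_apply, Pi.zero_apply, map_zero, map_zero]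
    exact zero_ne_one ((ha 0 fun i => Subsingleton.elim _ _).trans (ha 1 fun i => Subsingleton.elim _ _).symm)
  refine key K Kv A B u i₀ hi₀ fun b => ?_
  let bA := Module.Basis.ofVectorSpace K A
  let c : ∀ i, _ → Kv i := fun i j => (bA.baseChange (Kv i)).repr (u i (1 ⊗ₜ[K] b)) j
  have hnat : ∀ {S T : Type u} [CommRing S] [CommRing T] [Algebra K S] [Algebra K T] (ρ : S →ₐ[K] T) (z : S ⊗[K] A) j,
      (bA.baseChange T).repr (Algebra.TensorProduct.map ρ (AlgHom.id K A) z) j = ρ ((bA.baseChange S).repr z j) := by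
    intro S T _ _ _ _ ρ z j
    induction z using TensorProduct.induction_on with
    | zero => simp
    | tmul s a => simp [Module.Basis.baseChange_repr_tmul]
    | add x y hx hy => simp only [map_add, Finsupp.add_apply, hx, hy]
  have hcompat : ∀ j k, ρl k (c (l k) j) = ρr k (c (r k) j) := fun j k => by
    rw [← hnat, ← hnat, hu]
  choose x hx hx' using fun j => hlim (fun i => c i j) (hcompat j)
  cases nonempty_fintype ιv
  have hfin : (Function.support x) ⊆ ↑(Finset.univ.biUnion fun i => ((bA.baseChange (Kv i)).repr (u i (1 ⊗ₜ[K] b))).support) := by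
    intro j hj
    by_contra h
    simp only [Finset.coe_biUnion, Set.mem_iUnion, Finset.mem_coe, Finset.mem_univ, Finsupp.mem_support_iff] at h
    push_neg at h
    exact hj (hx' j 0 fun i => by rw [map_zero]; exact (h i trivial).symm).symm
  let xf : _ →₀ K := Finsupp.ofSupportFinite x ((Finset.finite_toSet _).subset hfin)
  refine ⟨bA.repr.symm xf, fun i => ?_⟩
  refine (bA.baseChange (Kv i)).ext_elem fun j => ?_
  rw [Module.Basis.baseChange_repr_tmul, LinearEquiv.apply_symm_apply]
  rw [show xf j = x j from rfl, Algebra.smul_def, mul_one]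
  exact (hx j i).symm

end Groth.Agent.S15411
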