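import Groth.Statements.S15412

set_option autoImplicit false
set_option backward.isDefEq.respectTransparency false
set_option backward.isDefEq.respectTransparency.types false
universe w v u
open CategoryTheory Opposite
open Bitors

namespace Groth.Agent.S15412

/-- On a site, let G and H be sheaves of groups and P a sheaf of sets with a left G-action which is
simply transitive on every set of sections P(U). The right H-actions on P that are compatible with
restriction, commute with the G-action and are simply transitive on every P(U) (for P a G-torsor: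
the structures of (G, H)-bitorsor on P) correspond exactly to the families of group isomorphisms φ_p
: H(U) ≃ G(U), one for each section p of P over each U, compatible with restriction and with φ_{g·p}
= g φ_p g⁻¹ (the equivariant maps from P to the sheaf of isomorphisms from H to G); the
correspondence is the rule p · h = φ_p(h) · p, and the statement is that every right structure
arises by this rule from exactly one family and every family from exactly one right structure. (The
published statement takes P a left G-torsor; only the simple transitivity of the G-action on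
sections enters, so local existence of sections is not assumed.) -/
theorem result
    {C : Type u} [Category.{v} C] {J : GrothendieckTopology C}
    (G H : Sheaf J GrpCat.{w}) (P : NonAbH1.GSheaf G) (hP : P.IsPseudoTorsor) :
    (∀ ρ : Bitors.RightStr P H, ∃! φ : Bitors.IsomFamily P H,
        ∀ (U : Cᵒᵖ) (p : P.P.obj.obj U) (h : H.obj.obj U), ρ.rsmul p h = P.smul (φ.φ p h) p) ∧
    (∀ φ : Bitors.IsomFamily P H, ∃! ρ : Bitors.RightStr P H,
        ∀ (U : Cᵒᵖ) (p : P.P.obj.obj U) (h : H.obj.obj U), ρ.rsmul p h = P.smul (φ.φ p h) p) := by
  classical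
  constructor
  · intro ρ
    let g : ∀ {U : Cᵒᵖ} (p : P.P.obj.obj U) (h : H.obj.obj U), G.obj.obj U :=
      fun {U} p h => (hP U p (ρ.rsmul p h)).exists.choose
    have hg : ∀ {U : Cᵒᵖ} (p : P.P.obj.obj U) (h : H.obj.obj U),
        P.smul (g p h) p = ρ.rsmul p h := fun {U} p h => (hP U p (ρ.rsmul p h)).exists.choose_spec
    have hu : ∀ {U : Cᵒᵖ} {a b : G.obj.obj U} (p : P.P.obj.obj U),
        P.smul a p = P.smul b p → a = b := fun {U a b} p e => (hP U p (P.smul b p)).unique e rfl
    have hmul : ∀ {U : Cᵒᵖ} (p : P.P.obj.obj U) (a b : H.obj.obj U),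
        g p (a * b) = g p a * g p b := fun p a b => hu p <| by
      rw [hg, ρ.rsmul_mul, ← hg p a, ρ.smul_rsmul, ← hg p b, ← P.mul_smul]
    have hbij : ∀ {U : Cᵒᵖ} (p : P.P.obj.obj U), Function.Bijective (g p) := fun {U} p => by
      refine ⟨fun a b e => ?_, fun x => ?_⟩
      · exact (ρ.existsUnique_rsmul p (P.smul (g p b) p)).unique
          (by rw [← hg p a, e]) (hg p b).symm
      · obtain ⟨h, hh, -⟩ := ρ.existsUnique_rsmul p (P.smul x p)
        exact ⟨h, hu p ((hg p h).trans hh)⟩
    let φ : Bitors.IsomFamily P H :=
      { φ := fun p => MulEquiv.ofBijective (MonoidHom.mk' (g p) (hmul p)) (hbij p)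
        map_φ := fun f p h => hu (P.P.obj.map f p) <| by
          change P.smul (G.obj.map f (g p h)) _ = P.smul (g (P.P.obj.map f p) (H.obj.map f h)) _
          rw [hg, ← P.map_smul, hg, ρ.map_rsmul]
        φ_smul := fun x p h => hu (P.smul x p) <| by
          change P.smul (g (P.smul x p) h) _ = P.smul (x * g p h * x⁻¹) _
          rw [hg, ρ.smul_rsmul, ← hg p h, ← P.mul_smul, ← P.mul_smul, inv_mul_cancel_right] }
    refine ⟨φ, fun U p h => (hg p h).symm, fun ψ hψ => ?_⟩
    have e : ∀ {U : Cᵒᵖ} (p : P.P.obj.obj U) (h : H.obj.obj U), ψ.φ p h = φ.φ p h :=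
      fun {U} p h => hu p ((hψ U p h).symm.trans (hg p h).symm)
    rcases ψ with ⟨ψ, _, _⟩
    have : @ψ = @φ.φ := by
      funext U p
      exact MulEquiv.ext (e p)
    subst this
    rfl
  · intro φ
    let ρ : Bitors.RightStr P H :=
      { rsmul := fun p h => P.smul (φ.φ p h) p
        rsmul_one := fun p => by rw [map_one, P.one_smul]
        rsmul_mul := fun p a b => by
          rw [← P.mul_smul, φ.φ_smul, inv_mul_cancel_right, map_mul]
        map_rsmul := fun f p h => by rw [P.map_smul, φ.map_φ]
        smul_rsmul := fun g p h => by
          rw [φ.φ_smul, ← P.mul_smul, ← P.mul_smul, inv_mul_cancel_right]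
        existsUnique_rsmul := fun {U} p q => by
          obtain ⟨g, hg, hu⟩ := hP U p q
          exact ⟨(φ.φ p).symm g, by simp [hg], fun h hh => by
            rw [← hu _ hh, MulEquiv.symm_apply_apply]⟩ }
    refine ⟨ρ, fun U p h => rfl, fun σ hσ => ?_⟩
    rcases σ with ⟨r, _, _, _, _, _⟩
    have : @r = @ρ.rsmul := by
      funext U p h
      exact hσ U p h
    subst this
    rfl

end Groth.Agent.S15412
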