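import Groth.Statements.S15414

set_option autoImplicit false
set_option backward.isDefEq.respectTransparency false
set_option backward.isDefEq.respectTransparency.types false
universe w v u
open CategoryTheory Opposite
open Bitors

namespace Groth.Agent.S15414

/-- On a site, let G and H be sheaves of groups and P, P' sheaves of sets with left G-actions, simply
transitive on every set of sections, carrying right H-actions ρ, ρ' (compatible with restriction,
commuting with G, simply transitive section-wise) given by families of group isomorphisms φ, φ'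
through p · h = φ_p(h) · p and p' · h = φ'_{p'}(h) · p'. Let Y be an object that covers the site
(for every object U the arrows V → U whose source admits a morphism to Y form a covering sieve), let
p and p' be sections of P and P' over Y, let f : P → P' be a G-equivariant morphism of sheaves and g
a section of G over Y with f(p) = g · p'. Then f commutes with the right H-actions if and only if
φ_{p|V}(h) = g|_V φ'_{p'|V}(h) (g|_V)⁻¹ for every object V with a morphism to Y, along which p, p'
and g are restricted, and every section h of H over V; that is, the isomorphism family of p equals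
the conjugate by g of the isomorphism family of p', as isomorphisms between the sheaves H and G
restricted over Y. (The published statement takes P and P' to be (G, H)-bitorsors trivialised by a
section over a cover Y → S; only the simple transitivity of the G-actions on sections and the
covering property of Y enter.) -/
theorem result
    {C : Type u} [Category.{v} C] {J : GrothendieckTopology C}
    (G H : Sheaf J GrpCat.{w}) (P P' : NonAbH1.GSheaf G)
    (hP : P.IsPseudoTorsor) (hP' : P'.IsPseudoTorsor)
    (ρ : Bitors.RightStr P H) (ρ' : Bitors.RightStr P' H)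
    (φ : Bitors.IsomFamily P H) (φ' : Bitors.IsomFamily P' H)
    (hρ : ∀ (U : Cᵒᵖ) (q : P.P.obj.obj U) (h : H.obj.obj U), ρ.rsmul q h = P.smul (φ.φ q h) q)
    (hρ' : ∀ (U : Cᵒᵖ) (q : P'.P.obj.obj U) (h : H.obj.obj U), ρ'.rsmul q h = P'.smul (φ'.φ q h) q)
    (Y : C) (hY : J.CoversTop (fun _ : PUnit.{w + 1} => Y))
    (p : P.P.obj.obj (op Y)) (p' : P'.P.obj.obj (op Y)) (f : P ⟶ P') (g : G.obj.obj (op Y))
    (hg : f.hom.hom.app (op Y) p = P'.smul g p') :
    (∀ (U : Cᵒᵖ) (q : P.P.obj.obj U) (h : H.obj.obj U),
        f.hom.hom.app U (ρ.rsmul q h) = ρ'.rsmul (f.hom.hom.app U q) h) ↔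
      ∀ (V : C) (t : V ⟶ Y) (h : H.obj.obj (op V)),
        φ.φ (P.P.obj.map t.op p) h =
          G.obj.map t.op g * φ'.φ (P'.P.obj.map t.op p') h * (G.obj.map t.op g)⁻¹ := by
  constructor
  · intro hf V t h
    have h1 := hf (op V) (P.P.obj.map t.op p) h
    have h2 : f.hom.hom.app (op V) (P.P.obj.map t.op p) =
        P'.smul (G.obj.map t.op g) (P'.P.obj.map t.op p') := by
      rw [← P'.map_smul, ← hg]
      exact NatTrans.naturality_apply f.hom.hom t.op p
    rw [hρ, hρ', f.map_smul, h2, φ'.φ_smul, ← P'.mul_smul, ← P'.mul_smul] at h1
    have h3 := (hP' (op V) _ _).unique h1 rfl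
    exact mul_right_cancel h3
  · intro hl U q h
    obtain ⟨U⟩ := U
    apply ((CategoryTheory.isSheaf_iff_isSheaf_of_type _ _).1 P'.P.property _ (hY U)).isSeparatedFor.ext
    intro V i hi
    obtain ⟨t⟩ : Nonempty (V ⟶ Y) := ⟨hi.choose_spec.some⟩
    rw [← NatTrans.naturality_apply f.hom.hom i.op, ρ.map_rsmul, ρ'.map_rsmul,
      ← NatTrans.naturality_apply f.hom.hom i.op]
    generalize H.obj.map i.op h = h'
    generalize P.P.obj.map i.op q = q'
    obtain ⟨k, hk, -⟩ := hP (op V) (P.P.obj.map t.op p) q'
    subst hk
    have h2 : f.hom.hom.app (op V) (P.P.obj.map t.op p) =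
        P'.smul (G.obj.map t.op g) (P'.P.obj.map t.op p') := by
      rw [← P'.map_smul, ← hg]
      exact NatTrans.naturality_apply f.hom.hom t.op p
    rw [hρ, hρ', f.map_smul, f.map_smul, φ.φ_smul, hl, h2, ← P'.mul_smul k (G.obj.map t.op g),
      φ'.φ_smul]
    congr 1
    simp only [mul_inv_rev, mul_assoc]

end Groth.Agent.S15414
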