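import Groth.Statements.S15415
import Groth.Agent.H23CSA.RedCharpoly
import Groth.Agent.S13692
import Mathlib
-- import your own Groth.Agent.* helpers here

set_option autoImplicit false
universe u v w
open scoped TensorProduct
attribute [local instance] CSAGal.tensorAction GpH1.unitsAction
open GalCoh

namespace Groth.Agent.S15415

open TensorProduct Polynomial in
theorem det_data {k : Type u} [Field k] {K : Type v} [Field K] [Algebra k K] [FiniteDimensional k K] [IsGalois k K]
    {A : Type w} [Ring A] [Algebra k A] [Algebra.IsCentral k A] [IsSimpleRing A] [FiniteDimensional k A]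
    (hA : Curves.Splits k A K) (N : A →* k) (hN : CSAGal.IsRedNorm k A N)
    (NK : (K ⊗[k] A) →* K) (hNK : CSAGal.IsRedNorm K (K ⊗[k] A) NK) :
    (∀ a : A, NK (1 ⊗ₜ a) = algebraMap k K (N a)) ∧
    (∀ (σ : K ≃ₐ[k] K) (x : K ⊗[k] A), NK (σ • x) = σ (NK x)) ∧
    (∀ x : K ⊗[k] A, (∀ σ : K ≃ₐ[k] K, σ • x = x) → ∃ a : A, 1 ⊗ₜ a = x) := by
  classical
  obtain ⟨n, hn0, ⟨φ⟩⟩ := hA
  have hn : Module.finrank k A = n ^ 2 := Groth.Agent.H29CSA.finrank_eq_sq_of_splits A K φ
  haveI : IsSimpleRing (K ⊗[k] A) := Groth.Agent.H29CSA.baseChange_isSimpleRing A K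
  haveI : NeZero n := ⟨hn0⟩
  haveI : Algebra.IsCentral K (K ⊗[k] A) := ⟨fun x hx => by
    have h : φ x ∈ Subalgebra.center K (Matrix (Fin n) (Fin n) K) := Subalgebra.mem_center_iff.2 fun M => by
      obtain ⟨y, rfl⟩ := φ.surjective M
      rw [← map_mul, ← map_mul, Subalgebra.mem_center_iff.1 hx y]
    obtain ⟨c, hc⟩ := Algebra.mem_bot.1 (Algebra.IsCentral.out h)
    exact Algebra.mem_bot.2 ⟨c, φ.injective (by rw [AlgEquiv.commutes]; exact hc)⟩⟩
  have hnK : Module.finrank K (K ⊗[k] A) = n ^ 2 := by rw [Module.finrank_baseChange, hn]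
  let P : K ⊗[k] A → K[X] := fun x => (φ x).charpoly
  have hP : ∀ x, (LinearMap.mulLeft K x).charpoly = P x ^ n := fun x => by
    have h := Groth.Agent.H23CSA.charpoly_pow (k := K) (A := K ⊗[k] A) (L := K) hnK φ.toAlgHom x
    simp only [Algebra.algebraMap_self, Polynomial.map_id] at h
    exact h.symm
  have hnorm : ∀ x, NK x = (-1) ^ n * (P x).coeff 0 := fun x =>
    Groth.Agent.H23CSA.redNorm_eq n hnK NK hNK x _ (Matrix.charpoly_monic _) (hP x)
  let b := Module.finBasis k A
  let bK := Algebra.TensorProduct.basis K b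
  have hrepr : ∀ (σ : K ≃ₐ[k] K) (z : K ⊗[k] A) (i), bK.repr (σ • z) i = σ (bK.repr z i) := by
    intro σ z i
    induction z using TensorProduct.induction_on with
    | zero => simp
    | tmul c a =>
      rw [TensorProduct.smul_tmul', Algebra.TensorProduct.basis_repr_tmul, Algebra.TensorProduct.basis_repr_tmul]
      simp
    | add y z hy hz => simp only [smul_add, map_add, Finsupp.add_apply, hy, hz]
  have hfix : ∀ (σ : K ≃ₐ[k] K) (x : K ⊗[k] A), P (σ • x) = (P x).map (σ : K →+* K) := by
    intro σ x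
    refine Groth.Agent.H23CSA.eq_of_pow_eq (Matrix.charpoly_monic _) ((Matrix.charpoly_monic _).map _) hn0 ?_
    show P (σ • x) ^ n = (P x).map (σ : K →+* K) ^ n
    rw [← Polynomial.map_pow, ← hP, ← hP, ← LinearMap.charpoly_toMatrix _ bK, ← LinearMap.charpoly_toMatrix _ bK,
      ← Matrix.charpoly_map]
    congr 1
    ext i j
    rw [Matrix.map_apply, LinearMap.toMatrix_apply, LinearMap.toMatrix_apply, LinearMap.mulLeft_apply,
      LinearMap.mulLeft_apply]
    have hj : σ • bK j = bK j := by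
      rw [Algebra.TensorProduct.basis_apply, TensorProduct.smul_tmul']
      simp
    have hmul : σ • (x * bK j) = σ • x * σ • bK j := smul_mul' σ x (bK j)
    rw [← hj, ← hmul, hrepr, hj]
    rfl
  refine ⟨fun a => ?_, fun σ x => ?_, fun x hx => ?_⟩
  · have h1 : ∀ σ : K ≃ₐ[k] K, (P (1 ⊗ₜ a)).map (σ : K →+* K) = P (1 ⊗ₜ a) := fun σ => by
      rw [← hfix σ, TensorProduct.smul_tmul']
      simp
    obtain ⟨p, hp, -, hpm⟩ := Polynomial.lifts_and_degree_eq_and_monic
      ((Polynomial.lifts_iff_coeff_lifts (f := algebraMap k K) _).2 fun i =>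
        (IsGalois.mem_range_algebraMap_iff_fixed _).2 fun σ => by
          conv_rhs => rw [show (φ (1 ⊗ₜ[k] a)).charpoly = P (1 ⊗ₜ a) from rfl, ← h1 σ, Polynomial.coeff_map]
          rfl) (Matrix.charpoly_monic (φ (1 ⊗ₜ a)))
    have h2 : (LinearMap.mulLeft k a).charpoly = p ^ n := by
      apply Polynomial.map_injective _ (algebraMap k K).injective
      rw [Polynomial.map_pow, hp]
      exact (Groth.Agent.H23CSA.charpoly_pow hn
        ((φ.toAlgHom.restrictScalars k).comp Algebra.TensorProduct.includeRight) a).symm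
    rw [hnorm, Groth.Agent.H23CSA.redNorm_eq n hn N hN a p hpm h2, map_mul, ← Polynomial.coeff_map, hp]
    simp [P]
  · rw [hnorm, hnorm, hfix, Polynomial.coeff_map, map_mul]
    simp
  · have hc : ∀ i, ∃ c : k, algebraMap k K c = bK.repr x i := fun i =>
      (IsGalois.mem_range_algebraMap_iff_fixed _).2 fun σ => by rw [← hrepr, hx]
    choose c hc using hc
    refine ⟨∑ i, c i • b i, ?_⟩
    conv_rhs => rw [← bK.sum_repr x]
    rw [TensorProduct.tmul_sum]
    refine Finset.sum_congr rfl fun i _ => ?_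
    rw [← hc, Algebra.TensorProduct.basis_apply, TensorProduct.tmul_smul, algebraMap_smul]


/-- For a central simple algebra over a field, the first Galois cohomology set of its norm-one group is
identified with the nonzero scalars modulo the reduced norms of units, by the boundary map of the
sequence norm-one units → units → nonzero scalars. Finite-level form: let k be a field, K a finite
Galois extension of k whose Galois group acts on K ⊗_k A through the first factor, A a
finite-dimensional central simple k-algebra split by K, N the reduced norm of A over k and N_K the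
reduced norm of K ⊗_k A over K. Then (i) every 1-cocycle a with values in the units of K ⊗_k A of
reduced norm one is of the form a σ = b⁻¹ · σ(b) for a unit b whose reduced norm is an element c of
kˣ; and (ii) for units b, b' of K ⊗_k A with reduced norms c, c' in kˣ, the cocycles σ ↦ b⁻¹σ(b) and
σ ↦ b'⁻¹σ(b') are cohomologous through a unit of reduced norm one if and only if c' = N(x) · c for
some unit x of A. (Since K splits A the reduced norm N_K takes every value in kˣ, so (i) and (ii)
say that c ↦ class of b⁻¹σ(b), N_K b = c, is a well-defined bijection from kˣ/N(Aˣ) onto the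
cohomology set of the norm-one units. The published statement is for the absolute Galois group of a
field of characteristic different from 2, an assumption playing no role here; this row is the
finite-level form over a splitting field.) -/
theorem result
    (k : Type u) [Field k] (K : Type v) [Field K] [Algebra k K] [FiniteDimensional k K] [IsGalois k K]
    (A : Type w) [Ring A] [Algebra k A] [Algebra.IsCentral k A] [IsSimpleRing A] [FiniteDimensional k A]
    (hA : Curves.Splits k A K)
    (N : A →* k) (hN : CSAGal.IsRedNorm k A N)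
    (NK : (K ⊗[k] A) →* K) (hNK : CSAGal.IsRedNorm K (K ⊗[k] A) NK) :
    (∀ a : GpH1.OneCocycle (K ≃ₐ[k] K) (K ⊗[k] A)ˣ, (∀ σ, NK (a σ : K ⊗[k] A) = 1) →
        ∃ (c : kˣ) (b : (K ⊗[k] A)ˣ), NK (b : K ⊗[k] A) = algebraMap k K (c : k) ∧
          ∀ σ : K ≃ₐ[k] K, a σ = b⁻¹ * σ • b) ∧
    (∀ (c c' : kˣ) (b b' : (K ⊗[k] A)ˣ),
        NK (b : K ⊗[k] A) = algebraMap k K (c : k) → NK (b' : K ⊗[k] A) = algebraMap k K (c' : k) →
        ((∃ s : (K ⊗[k] A)ˣ, NK (s : K ⊗[k] A) = 1 ∧
            ∀ σ : K ≃ₐ[k] K, b'⁻¹ * σ • b' = s⁻¹ * (b⁻¹ * σ • b) * σ • s) ↔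
          ∃ x : Aˣ, (c' : k) = N (x : A) * (c : k))) := by
  classical
  obtain ⟨hNA, hNσ, hC⟩ := det_data hA N hN NK hNK
  have hone : ∀ a : A, (1 : K) ⊗ₜ[k] a = Algebra.TensorProduct.includeRight a := fun a => rfl
  refine ⟨fun a ha => ?_, fun c c' b b' hb hb' => ⟨?_, ?_⟩⟩
  · obtain ⟨d, hd⟩ := (GpH1.OneCocycle.cl_eq_cl_iff _ _).1
      (Groth.Agent.S13692.result k K A a.cl)
    have hd' : ∀ σ, a σ = d⁻¹ * σ • d := fun σ => by
      refine (hd σ).trans ?_
      show d⁻¹ * 1 * σ • d = d⁻¹ * σ • d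
      rw [mul_one]
    have hfixed : ∀ σ : K ≃ₐ[k] K, σ (NK (d : K ⊗[k] A)) = NK (d : K ⊗[k] A) := fun σ => by
      have h : NK (σ • (d : K ⊗[k] A)) = NK ((d : K ⊗[k] A) * (a σ : K ⊗[k] A)) := by
        rw [hd' σ, Units.val_mul, ← mul_assoc, Units.mul_inv, one_mul]
        rfl
      rwa [hNσ, map_mul, ha σ, mul_one] at h
    obtain ⟨c, hc⟩ := (IsGalois.mem_range_algebraMap_iff_fixed _).2 hfixed
    have hc0 : c ≠ 0 := fun h => by
      rw [h, map_zero] at hc
      exact (d.isUnit.map NK).ne_zero hc.symm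
    exact ⟨Units.mk0 c hc0, d, hc.symm, hd'⟩
  · rintro ⟨s, hs, hσ⟩
    let u := b' * (b * s)⁻¹
    have hu : ∀ σ : K ≃ₐ[k] K, σ • u = u := fun σ => by
      have h := hσ σ
      have h' : σ • b' = u * σ • (b * s) := by
        rw [← mul_right_inj b'⁻¹, h, smul_mul']
        simp only [u]
        group
      simp only [u, smul_mul', smul_inv']
      rw [h', smul_mul']
      simp only [u]
      group
    obtain ⟨x, hx⟩ := hC (u : K ⊗[k] A) fun σ => congrArg Units.val (hu σ)
    obtain ⟨y, hy⟩ := hC ((u⁻¹ : (K ⊗[k] A)ˣ) : K ⊗[k] A) fun σ => congrArg Units.val ((smul_inv' σ u).trans (congrArg _ (hu σ)))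
    have hinj : Function.Injective (Algebra.TensorProduct.includeRight : A →ₐ[k] K ⊗[k] A) :=
      Algebra.TensorProduct.includeRight_injective (algebraMap k K).injective
    let x' : Aˣ := ⟨x, y, hinj (by rw [map_mul, map_one, ← hone, ← hone, hx, hy]; exact u.mul_inv),
      hinj (by rw [map_mul, map_one, ← hone, ← hone, hx, hy]; exact u.inv_mul)⟩
    refine ⟨x', (algebraMap k K).injective ?_⟩
    rw [map_mul, ← hNA, ← hb', ← hb]
    show NK (b' : K ⊗[k] A) = NK ((1 : K) ⊗ₜ x) * NK (b : K ⊗[k] A)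
    rw [hx, show (b' : K ⊗[k] A) = (u : K ⊗[k] A) * ((b : K ⊗[k] A) * (s : K ⊗[k] A)) by
      simp only [← Units.val_mul]; congr 1; simp only [u]; group, map_mul, map_mul, hs, mul_one]
  · rintro ⟨x, hx⟩
    let X : (K ⊗[k] A)ˣ := Units.map (Algebra.TensorProduct.includeRight : A →ₐ[k] K ⊗[k] A).toRingHom.toMonoidHom x
    have hX : ∀ σ : K ≃ₐ[k] K, σ • X = X := fun σ => Units.ext (by
      show σ • ((1 : K) ⊗ₜ[k] (x : A)) = _
      rw [TensorProduct.smul_tmul']
      simp
      rfl)
    have hNX : NK (X : K ⊗[k] A) = algebraMap k K (N (x : A)) := hNA x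
    refine ⟨b⁻¹ * X⁻¹ * b', ?_, fun σ => ?_⟩
    · have h : NK ((X * b : (K ⊗[k] A)ˣ) : K ⊗[k] A) * NK ((b⁻¹ * X⁻¹ * b' : (K ⊗[k] A)ˣ) : K ⊗[k] A) = NK (b' : K ⊗[k] A) := by
        rw [← map_mul, ← Units.val_mul]
        congr 2
        group
      rw [Units.val_mul, map_mul, hNX, hb, hb', ← map_mul, hx] at h
      have h0 : algebraMap k K (N (x : A) * (c : k)) ≠ 0 := by
        rw [← hx, ne_eq, map_eq_zero]
        exact c'.ne_zero
      exact mul_left_cancel₀ h0 (h.trans (mul_one _).symm)
    · simp only [smul_mul', smul_inv', hX]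
      group

end Groth.Agent.S15415
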