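import Groth.Statements.S15419
import Groth.Agent.H4Gr.Bridge
import Groth.Agent.H4Gr.Injective
import Groth.Agent.H4Gr.Pieces
import Groth.Agent.H3CAlg.KC.Crit

set_option autoImplicit false
universe u
open GrLC

namespace Groth.Agent.S15419

/-- Let k be a field, S = k[x_0, …, x_r] graded by degree, 𝔪 = (x_0, …, x_r), M a finitely generated
ℤ-graded S-module and x a linear form (x ∈ S_1) that is quasi-regular on M: the submodule of
elements of M killed by x has finite length. Let N = M/xM, given as a graded module with a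
surjective degree-preserving S-linear map π : M → N whose kernel is xM; graded local cohomology of M
and of N is computed from *injective resolutions in the graded category. If M is weakly d-regular,
that is H^i_𝔪(M) vanishes in degree d − i + 1 for every i > 0, then N is weakly d-regular. -/
theorem result (k : Type u) [Field k] (r : ℕ)
    (M : Type u) [AddCommGroup M] [Module k M] [Module (MvPolynomial (Fin (r + 1)) k) M]
    [IsScalarTower k (MvPolynomial (Fin (r + 1)) k) M] [Module.Finite (MvPolynomial (Fin (r + 1)) k) M]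
    (ℳ : ℤ → Submodule k M) [DirectSum.Decomposition ℳ] [SetLike.GradedSMul (GrSyz.stdGr k (Fin (r + 1))) ℳ]
    (x : MvPolynomial (Fin (r + 1)) k) (hx : x ∈ GrSyz.stdGr k (Fin (r + 1)) 1)
    (hq : IsFiniteLength (MvPolynomial (Fin (r + 1)) k) ↥(Submodule.torsionBy (MvPolynomial (Fin (r + 1)) k) M x))
    (N : Type u) [AddCommGroup N] [Module k N] [Module (MvPolynomial (Fin (r + 1)) k) N]
    [IsScalarTower k (MvPolynomial (Fin (r + 1)) k) N] [Module.Finite (MvPolynomial (Fin (r + 1)) k) N]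
    (𝒩 : ℤ → Submodule k N) [DirectSum.Decomposition 𝒩] [SetLike.GradedSMul (GrSyz.stdGr k (Fin (r + 1))) 𝒩]
    (π : M →ₗ[MvPolynomial (Fin (r + 1)) k] N) (hπ : Function.Surjective π) (hπg : GrLC.IsGrHom ℳ 𝒩 π)
    (hker : LinearMap.ker π = LinearMap.range (x • (LinearMap.id : M →ₗ[MvPolynomial (Fin (r + 1)) k] M)))
    (E : GrLC.StarInjRes (GrSyz.stdGr k (Fin (r + 1))) ℳ) (E' : GrLC.StarInjRes (GrSyz.stdGr k (Fin (r + 1))) 𝒩) (d : ℤ)
    (hM : ∀ i : ℕ, 0 < i → E.Hcomp (GrSyz.irrel (GrSyz.stdGr k (Fin (r + 1)))) i (d - (i : ℤ) + 1) = ⊥) (i : ℕ) (hi : 0 < i) :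
    E'.Hcomp (GrSyz.irrel (GrSyz.stdGr k (Fin (r + 1)))) i (d - (i : ℤ) + 1) = ⊥ := by
  open Groth.Agent.H4Gr in
  let a := idealTo (GrSyz.irrel (GrSyz.stdGr k (Fin (r + 1))))
  let φ : M →ₗ[MvPolynomial (Fin (r + 1)) k] M := x • LinearMap.id
  have hx' : x ∈ asGrp (GrSyz.stdGr k (Fin (r + 1))) 1 := hx
  have hφ : GrLC.IsGrHomDeg (asGrpMod ℳ) (asGrpMod ℳ) φ 1 :=
    isGrHomDeg_smul_id (𝒜 := asGrp (GrSyz.stdGr k (Fin (r + 1)))) hx'
  have hK : (LinearMap.ker φ).IsHomogeneous (asGrpMod ℳ) := isHomogeneous_ker hφ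
  let KK := subMod (asGrp (GrSyz.stdGr k (Fin (r + 1)))) (LinearMap.ker φ) hK
  let Q := quotMod (asGrp (GrSyz.stdGr k (Fin (r + 1)))) (LinearMap.ker φ) hK
  let q : M →ₗ[MvPolynomial (Fin (r + 1)) k] Q.carrier := (LinearMap.ker φ).mkQ
  let f : Q.carrier →ₗ[MvPolynomial (Fin (r + 1)) k] M := (LinearMap.ker φ).liftQ φ le_rfl
  have hqs : Function.Surjective q := Submodule.mkQ_surjective _
  have hfq : ∀ m, f (q m) = φ m := fun m => rfl
  have S₁ : GSES KK.gr (asGrpMod ℳ) Q.gr (LinearMap.ker φ).subtype q 0 :=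
    ⟨isGrHomDeg_zero_iff.2 (isGrHom_subtype _), Subtype.val_injective, isGrHom_mkQ _, hqs,
      LinearMap.exact_subtype_mkQ _⟩
  have S₂ : GSES Q.gr (asGrpMod ℳ) (asGrpMod 𝒩) f π 1 := by
    refine ⟨?_, LinearMap.ker_eq_bot.1 (Submodule.ker_liftQ_eq_bot _ _ _ le_rfl), hπg, hπ, ?_⟩
    · rintro g _ ⟨m, hm, rfl⟩
      exact hφ g m hm
    · refine LinearMap.exact_iff.2 ?_
      rw [hker, Submodule.range_liftQ]
  obtain ⟨EK⟩ := nonempty_starInjRes (𝒜 := asGrp (GrSyz.stdGr k (Fin (r + 1)))) (ℳ := KK.gr)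
  obtain ⟨EQ⟩ := nonempty_starInjRes (𝒜 := asGrp (GrSyz.stdGr k (Fin (r + 1)))) (ℳ := Q.gr)
  have hKt : GrLC.gam a.toIdeal KK.carrier = ⊤ := by
    let := hK
    refine eq_top_iff.2 fun z _ => ?_
    induction z using DirectSum.Decomposition.inductionOn KK.gr with
    | zero => exact zero_mem _
    | homogeneous m =>
      obtain ⟨m, hm⟩ := m
      refine (Groth.Agent.H3CAlg.KC.mem_gam_iff).2 fun v _ => ?_
      obtain ⟨n, hn⟩ := Groth.Agent.H3CAlg.KC.exists_pow_smul_of_isFiniteLength (ℳ := ℳ)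
        (Submodule.torsionBy (MvPolynomial (Fin (r + 1)) k) M x) hq v (m := Subtype.val (p := fun y => y ∈ LinearMap.ker φ) m) hm
        (Subtype.property (p := fun y => y ∈ LinearMap.ker φ) m)
      exact ⟨n, Subtype.ext hn⟩
    | add y z hy hz => exact add_mem (hy Submodule.mem_top) (hz Submodule.mem_top)
  have hH : ∀ (j : ℕ) (g : ℤ), E.Hcomp (GrSyz.irrel (GrSyz.stdGr k (Fin (r + 1)))) j g = ⊥ →
      (resTo E).Hcomp a j g = ⊥ := fun j g h => (Hcomp_resTo E _ j g).2 h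
  refine (Hcomp_resTo E' _ i _).1 (S₂.right_eq_bot a EQ (resTo E) (resTo E') (hH _ _ (hM i hi)) ?_)
  refine S₁.right_eq_bot a EK (resTo E) EQ (hH _ _ ?_) (Hcomp_succ_eq_bot_of_torsion EK hKt _ _)
  have h := hM (i + 1) (Nat.succ_pos i)
  rwa [show d - ((i + 1 : ℕ) : ℤ) + 1 = d - (i : ℤ) + 1 - 1 by push_cast; ring] at h

end Groth.Agent.S15419
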