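import Groth.Statements.S1542
import Mathlib
import Groth.Agent.H22Alg.VarGeom
import Groth.Agent.H19Grp.Reduced

set_option autoImplicit false
universe u
open CategoryTheory CategoryTheory.Limits AlgebraicGeometry
open Variety

namespace Groth.Agent.S1542

/-- Geometric reducedness at a point passes to every generisation of that point. -/
theorem result (k : Type u) [Field k] (X : Scheme.{u}) [X.Over (Spec (CommRingCat.of k))] (x x' : X) (h : x' ⤳ x)
    (hx : Curv2.IsGeomReducedAt k X x) : Curv2.IsGeomReducedAt k X x' := by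
  intro K _ _ z hz
  have hx' : FBase.IsGeomReducedAt (X ↘ Spec (CommRingCat.of k)) x := hx
  suffices FBase.IsGeomReducedAt (X ↘ Spec (CommRingCat.of k)) x' from this K z hz
  rw [Groth.Agent.H22Alg.VarGeom.isGeomReducedAt_iff_algClosure]
  intro w hw
  have := Groth.Agent.H06Desc.universallyClosed_algebraicClosure (k := k)
  obtain ⟨v, hwv, hv⟩ : ∃ v, w ⤳ v ∧ FBase.bcπ (X ↘ Spec (CommRingCat.of k)) (AlgebraicClosure k) v = x := by
    have hm : x ∈ closure ((FBase.bcπ (X ↘ Spec (CommRingCat.of k)) (AlgebraicClosure k)) '' {w}) := by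
      rw [Set.image_singleton, hw]
      exact h.mem_closure
    have hcl : IsClosedMap (FBase.bcπ (X ↘ Spec (CommRingCat.of k)) (AlgebraicClosure k)) :=
      (pullback.fst (X ↘ Spec (CommRingCat.of k)) (Spec.map (CommRingCat.ofHom (algebraMap k (AlgebraicClosure k))))).isClosedMap
    obtain ⟨v, hv, hvx⟩ := (hcl.closure_image_subset {w}) hm
    exact ⟨v, specializes_iff_mem_closure.mpr hv, hvx⟩
  haveI := hx' (AlgebraicClosure k) v hv
  exact Groth.Agent.H19Grp.isReduced_stalk_of_specializes hwv

end Groth.Agent.S1542
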