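import Groth.Statements.S15421
import Groth.Agent.H3CAlg.KC.Length

set_option autoImplicit false
universe u
open GrSyz

namespace Groth.Agent.S15421

/-- Let k be a field, S = k[x_0, …, x_r] graded by degree, 𝔪 = (x_0, …, x_r), M a finitely generated
ℤ-graded S-module, x ∈ S_1 a linear form quasi-regular on M (the elements of M killed by x form a
submodule of finite length) and N = M/xM, given as a graded module with a surjective
degree-preserving S-linear map π : M → N with kernel xM. Then reg M = max(end H^0_𝔪(M), reg N),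
where reg is the Castelnuovo–Mumford regularity in the sense of minimal graded free resolutions (as
an extended integer, −∞ for the zero module) and end H^0_𝔪(M) is the largest degree of a nonzero
piece of the graded local cohomology H^0_𝔪(M), computed from any *injective resolution of M in the
graded category. (The published statement takes x quasi-regular without repeating that it is a
linear form; a linear form is meant, as in the proposition it rests on.) -/
theorem result (k : Type u) [Field k] (r : ℕ)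
    (M : Type u) [AddCommGroup M] [Module k M] [Module (MvPolynomial (Fin (r + 1)) k) M]
    [IsScalarTower k (MvPolynomial (Fin (r + 1)) k) M] [Module.Finite (MvPolynomial (Fin (r + 1)) k) M]
    (ℳ : ℤ → Submodule k M) [DirectSum.Decomposition ℳ] [SetLike.GradedSMul (GrSyz.stdGr k (Fin (r + 1))) ℳ]
    (x : MvPolynomial (Fin (r + 1)) k) (hx : x ∈ GrSyz.stdGr k (Fin (r + 1)) 1)
    (hq : IsFiniteLength (MvPolynomial (Fin (r + 1)) k) ↥(Submodule.torsionBy (MvPolynomial (Fin (r + 1)) k) M x))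
    (N : Type u) [AddCommGroup N] [Module k N] [Module (MvPolynomial (Fin (r + 1)) k) N]
    [IsScalarTower k (MvPolynomial (Fin (r + 1)) k) N] [Module.Finite (MvPolynomial (Fin (r + 1)) k) N]
    (𝒩 : ℤ → Submodule k N) [DirectSum.Decomposition 𝒩] [SetLike.GradedSMul (GrSyz.stdGr k (Fin (r + 1))) 𝒩]
    (π : M →ₗ[MvPolynomial (Fin (r + 1)) k] N) (hπ : Function.Surjective π) (hπg : GrLC.IsGrHom ℳ 𝒩 π)
    (hker : LinearMap.ker π = LinearMap.range (x • (LinearMap.id : M →ₗ[MvPolynomial (Fin (r + 1)) k] M)))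
    (E : GrLC.StarInjRes (GrSyz.stdGr k (Fin (r + 1))) ℳ) :
    GrSyz.reg (GrSyz.stdGr k (Fin (r + 1))) ℳ (GrSyz.irrel (GrSyz.stdGr k (Fin (r + 1)))).toIdeal =
      GrLC.endDeg (E.Hgr (GrSyz.irrel (GrSyz.stdGr k (Fin (r + 1)))) 0) ⊔ GrSyz.reg (GrSyz.stdGr k (Fin (r + 1))) 𝒩 (GrSyz.irrel (GrSyz.stdGr k (Fin (r + 1)))).toIdeal := by
  open Groth.Agent.H3CAlg.KC Groth.Agent.H3CAlg.Syz in
  refine Groth.Agent.H3CAlg.KC.eq_of_forall_le_iff fun d => ?_
  rw [reg_le_iff, sup_le_iff, reg_le_iff, endDeg_H_le_iff]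
  let R' := MvPolynomial (Fin (r + 1)) k
  let K := Submodule.torsionBy (MvPolynomial (Fin (r + 1)) k) M x
  let φ : M →ₗ[MvPolynomial (Fin (r + 1)) k] M := x • LinearMap.id
  let SK : ℤ → AddSubgroup K := fun e => (ℳ e).toAddSubgroup.comap K.subtype.toAddMonoidHom
  have hSK : ∀ y ∈ Lv k r, ∀ e z, z ∈ SK e → y • z ∈ SK (e + 1) := fun y hy e z hz => smul_mem_piece ℳ hy hz
  let BK := ofMod (Lv k r) SK hSK
  let SP : ℤ → AddSubgroup (LinearMap.range φ) := fun e => (ℳ e).toAddSubgroup.map φ.rangeRestrict.toAddMonoidHom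
  have hSP : ∀ y ∈ Lv k r, ∀ e z, z ∈ SP e → y • z ∈ SP (e + 1) := by
    rintro y hy e _ ⟨m, hm, rfl⟩
    exact ⟨y • m, smul_mem_piece ℳ hy hm, map_smul φ.rangeRestrict y m⟩
  let BP := ofMod (Lv k r) SP hSP
  have hSQ : ∀ y ∈ Lv k r, ∀ e z, z ∈ SP (e - 1) → y • z ∈ SP (e + 1 - 1) := fun y hy e z hz => by
    rw [show e + 1 - 1 = e - 1 + 1 by ring]; exact hSP y hy _ z hz
  let BQ := ofMod (Lv k r) (fun e => SP (e - 1)) hSQ
  have hQ : ∀ D, ELE BQ D ↔ ELE BP (D - 1) := by
    intro D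
    have h : ∀ n e z, z ∈ BQ.C n e ↔ z ∈ (shiftBC BP 0 (-1)).C n e := by
      intro n e z
      show z ∈ (ofMod (Lv k r) (fun e => SP (e - 1)) hSQ).C n e ↔ z ∈ (ofMod (Lv k r) SP hSP).C (n + 0) (e + -1)
      rw [mem_ofMod, mem_ofMod, add_zero, ← sub_eq_add_neg]
    rw [ele_iff_of_isQ (φ := (⟨LinearMap.id, fun _ => rfl, fun n e z hz => (h n e z).mp hz⟩ : Hom BQ (shiftBC BP 0 (-1))))
      (isQ_of_bij (fun a b h => h) fun n e z hz => ⟨z, (h n e z).mpr hz, rfl⟩), ele_shiftBC,
      show D + 0 + -1 = D - 1 by ring]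
  let α : Hom BK (modBC (r := r) ℳ) := modHom K.subtype fun e z hz => hz
  let β : Hom (modBC (r := r) ℳ) BP := modHom φ.rangeRestrict fun e z hz => AddSubgroup.mem_map_of_mem _ hz
  have hs1 : IsShort α β := by
    refine isShort_ofMod α β K.injective_subtype (fun e z hz hzero => ?_) (fun e z hz => ?_) fun z => ?_
    · refine ⟨⟨z, ?_⟩, hz, rfl⟩
      exact congrArg Subtype.val hzero
    · obtain ⟨m, hm, hmz⟩ := hz
      exact ⟨m, hm, hmz⟩
    · exact Subtype.ext z.2
  have hmem : ∀ e, ∀ z ∈ SP (e - 1), (z : M) ∈ ℳ e := by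
    rintro e _ ⟨m, hm, rfl⟩
    have h := smul_mem_piece ℳ (y := x) hx hm
    rwa [sub_add_cancel] at h
  let α' : Hom BQ (modBC (r := r) ℳ) := modHom (LinearMap.range φ).subtype hmem
  let β' : Hom (modBC (r := r) ℳ) (modBC (r := r) 𝒩) := modHom π fun e z hz => hπg e z hz
  have hs2 : IsShort α' β' := by
    refine isShort_ofMod α' β' (LinearMap.range φ).injective_subtype (fun e z hz hzero => ?_) (fun e z hz => ?_)
      fun z => ?_
    · obtain ⟨c, hc⟩ := hker.le (LinearMap.mem_ker.mpr hzero)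
      refine ⟨φ.rangeRestrict (P ℳ (e - 1) c), AddSubgroup.mem_map_of_mem _ (P_mem ℳ _ _), ?_⟩
      show x • P ℳ (e - 1) c = z
      rw [← P_smul_linear ℳ hx, show x • c = z from hc, P_of_mem ℳ hz, if_pos rfl]
    · obtain ⟨m, hm⟩ := hπ z
      exact exists_homog_preimage ℳ 𝒩 π hπg hz hm
    · exact LinearMap.mem_ker.mp (hker.ge z.2)
  have htK : ∀ v, BK.Tor (MvPolynomial.X v : MvPolynomial (Fin (r + 1)) k) :=
    fun v => exists_pow_smul_of_all (ℳ := ℳ) K hq (fun e z hz => hz) v
  constructor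
  · intro hM
    have hH := (hcomp_vanish_iff_kle E d).mpr hM
    refine ⟨fun g hg => hH 0 g (by simpa using hg), ?_⟩
    have hK : ELE BK (d + 1) := (ele_ofMod_iff htK _).mpr fun e he z hz => Subtype.ext
      (eps_zero_of_hcomp E (hH 0 e (by omega)) hz fun v => exists_pow_smul_of_isFiniteLength K hq v hz z.2)
    have hP : ELE BP d := ele₃ hs1 hM hK
    exact ele₃ hs2 hM ((hQ _).mpr (hP.mono (by omega)))
  · rintro ⟨hH, hN⟩
    have hK : ELE BK d := (ele_ofMod_iff htK _).mpr fun e he z hz => Subtype.ext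
      (eps_zero_of_hcomp E (hH e he) hz fun v => exists_pow_smul_of_isFiniteLength K hq v hz z.2)
    obtain ⟨D, hD⟩ := exists_kle (r := r) ℳ
    suffices h : ∀ t : ℕ, KLE (r := r) ℳ (d + t) → KLE (r := r) ℳ d from
      h (D - d).toNat (KLE.mono (r := r) ℳ hD (by omega))
    intro t
    induction t with
    | zero => intro h; simpa using h
    | succ t ih =>
      intro h
      refine ih (ele₂ hs1 (hK.mono (by omega)) ?_)
      have hQ' : ELE BQ (d + ((t + 1 : ℕ) : ℤ)) := ele₁ hs2 h (ELE.mono hN (by push_cast; omega))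
      have := (hQ _).mp hQ'
      rwa [show d + ((t + 1 : ℕ) : ℤ) - 1 = d + t by push_cast; ring] at this

end Groth.Agent.S15421
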