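import Groth.Statements.S15420
import Groth.Agent.S15421

set_option autoImplicit false
universe u
open GrLC

namespace Groth.Agent.S15420

/-- Let k be a field, S = k[x_0, …, x_r] graded by degree, 𝔪 = (x_0, …, x_r), M a finitely generated
ℤ-graded S-module, x ∈ S_1 a linear form quasi-regular on M (the elements of M killed by x form a
submodule of finite length), and N = M/xM, given as a graded module with a surjective
degree-preserving S-linear map π : M → N with kernel xM; graded local cohomology is computed from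
*injective resolutions in the graded category. Call a module d-regular when H^0_𝔪 of it has no
nonzero piece in degrees above d and H^i_𝔪 of it vanishes in degree d − i + 1 for every i > 0. Then
M is d-regular if and only if N is d-regular and H^0_𝔪(M) has no nonzero piece in degrees above d. -/
theorem result (k : Type u) [Field k] (r : ℕ)
    (M : Type u) [AddCommGroup M] [Module k M] [Module (MvPolynomial (Fin (r + 1)) k) M]
    [IsScalarTower k (MvPolynomial (Fin (r + 1)) k) M] [Module.Finite (MvPolynomial (Fin (r + 1)) k) M]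
    (ℳ : ℤ → Submodule k M) [DirectSum.Decomposition ℳ] [SetLike.GradedSMul (GrSyz.stdGr k (Fin (r + 1))) ℳ]
    (x : MvPolynomial (Fin (r + 1)) k) (hx : x ∈ GrSyz.stdGr k (Fin (r + 1)) 1)
    (hq : IsFiniteLength (MvPolynomial (Fin (r + 1)) k) ↥(Submodule.torsionBy (MvPolynomial (Fin (r + 1)) k) M x))
    (N : Type u) [AddCommGroup N] [Module k N] [Module (MvPolynomial (Fin (r + 1)) k) N]
    [IsScalarTower k (MvPolynomial (Fin (r + 1)) k) N] [Module.Finite (MvPolynomial (Fin (r + 1)) k) N]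
    (𝒩 : ℤ → Submodule k N) [DirectSum.Decomposition 𝒩] [SetLike.GradedSMul (GrSyz.stdGr k (Fin (r + 1))) 𝒩]
    (π : M →ₗ[MvPolynomial (Fin (r + 1)) k] N) (hπ : Function.Surjective π) (hπg : GrLC.IsGrHom ℳ 𝒩 π)
    (hker : LinearMap.ker π = LinearMap.range (x • (LinearMap.id : M →ₗ[MvPolynomial (Fin (r + 1)) k] M)))
    (E : GrLC.StarInjRes (GrSyz.stdGr k (Fin (r + 1))) ℳ) (E' : GrLC.StarInjRes (GrSyz.stdGr k (Fin (r + 1))) 𝒩) (d : ℤ) :
    (GrLC.endDeg (E.Hgr (GrSyz.irrel (GrSyz.stdGr k (Fin (r + 1)))) 0) ≤ ((d : WithTop ℤ) : WithBot (WithTop ℤ)) ∧ ∀ i : ℕ, 0 < i → E.Hcomp (GrSyz.irrel (GrSyz.stdGr k (Fin (r + 1)))) i (d - (i : ℤ) + 1) = ⊥) ↔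
      ((GrLC.endDeg (E'.Hgr (GrSyz.irrel (GrSyz.stdGr k (Fin (r + 1)))) 0) ≤ ((d : WithTop ℤ) : WithBot (WithTop ℤ)) ∧ ∀ i : ℕ, 0 < i → E'.Hcomp (GrSyz.irrel (GrSyz.stdGr k (Fin (r + 1)))) i (d - (i : ℤ) + 1) = ⊥) ∧
        GrLC.endDeg (E.Hgr (GrSyz.irrel (GrSyz.stdGr k (Fin (r + 1)))) 0) ≤ ((d : WithTop ℤ) : WithBot (WithTop ℤ))) := by
  open Groth.Agent.H3CAlg.KC in
  have key : ∀ {P : Type u} [AddCommGroup P] [Module k P] [Module (MvPolynomial (Fin (r + 1)) k) P]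
      [IsScalarTower k (MvPolynomial (Fin (r + 1)) k) P] [Module.Finite (MvPolynomial (Fin (r + 1)) k) P]
      (ℬ : ℤ → Submodule k P) [DirectSum.Decomposition ℬ] [SetLike.GradedSMul (GrSyz.stdGr k (Fin (r + 1))) ℬ]
      (EP : GrLC.StarInjRes (GrSyz.stdGr k (Fin (r + 1))) ℬ),
      (GrLC.endDeg (EP.Hgr (GrSyz.irrel (GrSyz.stdGr k (Fin (r + 1)))) 0) ≤ ((d : WithTop ℤ) : WithBot (WithTop ℤ)) ∧
        ∀ i : ℕ, 0 < i → EP.Hcomp (GrSyz.irrel (GrSyz.stdGr k (Fin (r + 1)))) i (d - (i : ℤ) + 1) = ⊥) ↔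
      GrSyz.reg (GrSyz.stdGr k (Fin (r + 1))) ℬ (GrSyz.irrel (GrSyz.stdGr k (Fin (r + 1)))).toIdeal ≤ ((d : WithTop ℤ) : WithBot (WithTop ℤ)) := by
    intro P _ _ _ _ _ ℬ _ _ EP
    rw [reg_le_iff, ← hcomp_vanish_iff_kle EP, endDeg_H_le_iff]
    refine ⟨fun ⟨h0, hw⟩ i g hg => ?_, fun h => ⟨fun g hg => h 0 g (by omega), fun i hi => h i _ (by omega)⟩⟩
    rcases Nat.eq_zero_or_pos i with rfl | hi
    · exact h0 g (by simpa using hg)
    · exact Groth.Agent.H3CAlg.KC.hcomp_weak EP hw i hi g hg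
  rw [key ℳ E, key 𝒩 E', Groth.Agent.S15421.result k r M ℳ x hx hq N 𝒩 π hπ hπg hker E, sup_le_iff]
  exact and_comm

end Groth.Agent.S15420
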