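import Groth.Statements.S15422
import Groth.Agent.H3CAlg.KC.Crit

set_option autoImplicit false
universe u
open GrSyz

namespace Groth.Agent.S15422

/-- Let k be a field, S = k[x_0, …, x_r] graded by degree, 𝔪 = (x_0, …, x_r) and M a finitely generated
ℤ-graded S-module of finite length. Then the Castelnuovo–Mumford regularity of M, in the sense of
minimal graded free resolutions (an extended integer, −∞ for the zero module), equals the largest
degree d with M_d ≠ 0. -/
theorem result (k : Type u) [Field k] (r : ℕ)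
    (M : Type u) [AddCommGroup M] [Module k M] [Module (MvPolynomial (Fin (r + 1)) k) M]
    [IsScalarTower k (MvPolynomial (Fin (r + 1)) k) M] [Module.Finite (MvPolynomial (Fin (r + 1)) k) M]
    (ℳ : ℤ → Submodule k M) [DirectSum.Decomposition ℳ] [SetLike.GradedSMul (GrSyz.stdGr k (Fin (r + 1))) ℳ]
    (hM : IsFiniteLength (MvPolynomial (Fin (r + 1)) k) M) :
    GrSyz.reg (GrSyz.stdGr k (Fin (r + 1))) ℳ (GrSyz.irrel (GrSyz.stdGr k (Fin (r + 1)))).toIdeal = GrLC.endDeg (fun n => (ℳ n).toAddSubgroup) := by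
  refine Groth.Agent.H3CAlg.KC.eq_of_forall_le_iff fun d => ?_
  rw [Groth.Agent.H3CAlg.KC.reg_le_iff, Groth.Agent.H3CAlg.KC.endDeg_le_iff, Groth.Agent.H3CAlg.KC.kle_iff_ele,
    Groth.Agent.H3CAlg.KC.ele_ofMod_iff (fun v n e z hz _ => ?_)]
  · exact forall_congr' fun e => imp_congr_right fun _ => (AddSubgroup.eq_bot_iff_forall _).symm
  · rcases eq_or_ne n 0 with hn | hn
    · obtain ⟨N, hN⟩ := Groth.Agent.H3CAlg.KC.exists_pow_smul_of_isFiniteLength (ℳ := ℳ) (⊤ : Submodule (MvPolynomial (Fin (r + 1)) k) M)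
        ((Submodule.topEquiv).symm.isFiniteLength hM) v ((Groth.Agent.H3CAlg.KC.mem_ofMod.mp hz).1 hn) Submodule.mem_top
      exact ⟨N, 0, zero_mem _, by rw [map_zero]; exact hN.symm⟩
    · exact ⟨0, 0, zero_mem _, by rw [map_zero, (Groth.Agent.H3CAlg.KC.mem_ofMod.mp hz).2 hn, smul_zero]⟩

end Groth.Agent.S15422
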