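import Groth.Statements.S15423
import Groth.Agent.H3CAlg.Syz.Compare

set_option autoImplicit false
universe u
open GrSyz

namespace Groth.Agent.S15423

/-- Let k be a field, S = k[x_0, …, x_r] graded by degree, 𝔪 = (x_0, …, x_r), M a finitely generated
ℤ-graded S-module and F a minimal graded free resolution of M by finite-rank free modules with
homogeneous bases (all matrix entries in 𝔪). Then the Castelnuovo–Mumford regularity of M (an
extended integer) is the supremum over i ≥ 0 of t_i − i, where t_i is the largest degree of a basis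
vector of F_i, that is the largest nonzero degree of Tor_i^S(M, k) (−∞ when F_i = 0). In particular
the value does not depend on the minimal resolution chosen. -/
theorem result (k : Type u) [Field k] (r : ℕ)
    (M : Type u) [AddCommGroup M] [Module k M] [Module (MvPolynomial (Fin (r + 1)) k) M]
    [IsScalarTower k (MvPolynomial (Fin (r + 1)) k) M] [Module.Finite (MvPolynomial (Fin (r + 1)) k) M]
    (ℳ : ℤ → Submodule k M) [DirectSum.Decomposition ℳ] [SetLike.GradedSMul (GrSyz.stdGr k (Fin (r + 1))) ℳ]
    (F : GrSyz.FreeRes (GrSyz.stdGr k (Fin (r + 1))) ℳ) (hF : F.IsMinimal (GrSyz.irrel (GrSyz.stdGr k (Fin (r + 1)))).toIdeal) :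
    GrSyz.reg (GrSyz.stdGr k (Fin (r + 1))) ℳ (GrSyz.irrel (GrSyz.stdGr k (Fin (r + 1)))).toIdeal =
      ⨆ i : ℕ, WithBot.map (fun t : ℤ => ((t - (i : ℤ) : ℤ) : WithTop ℤ)) (F.maxGenDeg i) := by
  exact Groth.Agent.H3CAlg.Syz.reg_eq F hF
    (Groth.Agent.H3CAlg.Syz.exists_isGenLE F (Groth.Agent.H3CAlg.Syz.hasLengthLE_of_isMinimal F hF))

end Groth.Agent.S15423
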