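import Groth.Statements.S15427
import Groth.Agent.H3CAlg.Syz.Length

set_option autoImplicit false
universe u
open GrSyz

namespace Groth.Agent.S15427

/-- Let k be a field, S = k[x_0, …, x_r] graded by degree, 𝔪 = (x_0, …, x_r), M a finitely generated
ℤ-graded S-module and F a graded free resolution of M by free modules of finite rank with chosen
homogeneous bases, written as matrices d_i : F_{i+1} → F_i together with the images aug b ∈ M of the
basis of F_0. Then F is a minimal complex (every matrix entry lies in 𝔪) if and only if every map of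
the resolution carries its basis to an irredundant (minimal) family of generators of its image: for
each b, aug b is not in the S-span of the remaining aug b', and for each i and each column of d_i,
that column is not in the S-span of the remaining columns. -/
theorem result (k : Type u) [Field k] (r : ℕ)
    (M : Type u) [AddCommGroup M] [Module k M] [Module (MvPolynomial (Fin (r + 1)) k) M]
    [IsScalarTower k (MvPolynomial (Fin (r + 1)) k) M] [Module.Finite (MvPolynomial (Fin (r + 1)) k) M]
    (ℳ : ℤ → Submodule k M) [DirectSum.Decomposition ℳ] [SetLike.GradedSMul (GrSyz.stdGr k (Fin (r + 1))) ℳ]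
    (F : GrSyz.FreeRes (GrSyz.stdGr k (Fin (r + 1))) ℳ) :
    F.IsMinimal (GrSyz.irrel (GrSyz.stdGr k (Fin (r + 1)))).toIdeal ↔
      ((∀ b : Fin (F.rk 0), F.aug b ∉ Submodule.span (MvPolynomial (Fin (r + 1)) k) (F.aug '' {b' | b' ≠ b})) ∧
        ∀ (i : ℕ) (b : Fin (F.rk (i + 1))),
          (fun a => F.d i a b) ∉ Submodule.span (MvPolynomial (Fin (r + 1)) k) ((fun b' a => F.d i a b') '' {b' | b' ≠ b})) := by
  classical
  let S := MvPolynomial (Fin (r + 1)) k
  constructor
  · intro hF
    have key : ∀ {n : ℕ} {N : Type u} [AddCommGroup N] [Module S N] (x : Fin n → N) (b : Fin n),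
        (∀ v : Fin n → S, Fintype.linearCombination S x v = 0 → MvPolynomial.constantCoeff (v b) = 0) →
        x b ∉ Submodule.span S (x '' {b' | b' ≠ b}) := by
      intro n N _ _ x b hv hmem
      obtain ⟨l, hl, hlb⟩ := (Finsupp.mem_span_image_iff_linearCombination S).mp hmem
      have h := hv (fun c => (Finsupp.single b (1 : S) - l) c) (by
        rw [Fintype.linearCombination_apply]
        simp only [Finsupp.sub_apply, sub_smul, Finset.sum_sub_distrib]
        rw [sub_eq_zero]
        trans x b
        · simp [Finsupp.single_apply, ite_smul]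
        · rw [← hlb, Finsupp.linearCombination_apply, Finsupp.sum_fintype]
          simp)
      have hlb0 : l b = 0 := by
        by_contra hne
        exact (hl (Finsupp.mem_support_iff.mpr hne)) rfl
      simp [hlb0] at h
    refine ⟨fun b => key F.aug b fun v hv => Groth.Agent.H3CAlg.Syz.aug_ker_mem F hF hv b,
      fun i b => key (fun b' a => F.d i a b') b fun v hv =>
        Groth.Agent.H3CAlg.Syz.range_d_mem F hF (i + 1) ((F.exact_succ i).le (LinearMap.mem_ker.mpr ?_)) b⟩
    rw [Groth.Agent.H3CAlg.Syz.mulVecLin_eq_linearCombination]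
    exact hv
  · rintro ⟨h0, h1⟩ i a b
    by_contra hne
    have hc : MvPolynomial.constantCoeff (F.d i a b) ≠ 0 :=
      fun h => hne ((Groth.Agent.H3CAlg.Syz.mem_irrel_iff _).mpr h)
    have hmem := F.d_mem i a b
    have hdeg : F.deg (i + 1) b - F.deg i a = 0 := by
      by_contra h
      exact hne (Groth.Agent.H3CAlg.Syz.mem_irrel_of_mem h hmem)
    rw [hdeg] at hmem
    have hu : IsUnit (F.d i a b) := by
      rcases Groth.Agent.H3CAlg.Syz.isUnit_of_mem_stdGr_zero _ hmem with h | h
      · exact absurd (by rw [h]; exact zero_mem _) hne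
      · exact h
    have key : ∀ {n : ℕ} {N : Type u} [AddCommGroup N] [Module S N] (x : Fin n → N) (v : Fin n → S) (c : Fin n),
        Fintype.linearCombination S x v = 0 → IsUnit (v c) → x c ∈ Submodule.span S (x '' {c' | c' ≠ c}) := by
      intro n N _ _ x v c hv hu
      rw [Fintype.linearCombination_apply, ← Finset.add_sum_erase _ _ (Finset.mem_univ c), add_eq_zero_iff_eq_neg] at hv
      rw [← Submodule.smul_mem_iff_of_isUnit _ hu, hv]
      exact neg_mem (Submodule.sum_mem _ fun c' hc' => Submodule.smul_mem _ _
        (Submodule.subset_span ⟨c', (Finset.mem_erase.mp hc').1, rfl⟩))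
    cases i with
    | zero =>
      refine h0 a (key F.aug (fun a => F.d 0 a b) a ?_ hu)
      refine LinearMap.mem_ker.mp (F.exact_zero.ge ⟨Pi.single b 1, ?_⟩)
      simp [Matrix.mulVec_single_one]
      rfl
    | succ j =>
      refine h1 j a (key (fun b' a' => F.d j a' b') (fun a => F.d (j + 1) a b) a ?_ hu)
      rw [← Groth.Agent.H3CAlg.Syz.mulVecLin_eq_linearCombination]
      refine LinearMap.mem_ker.mp ((F.exact_succ j).ge ⟨Pi.single b 1, ?_⟩)
      simp [Matrix.mulVec_single_one]
      rfl

end Groth.Agent.S15427
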