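import Groth.Statements.S15428
import Groth.Agent.H3CAlg.Syz.Hilbert

set_option autoImplicit false
universe u
open GrSyz

namespace Groth.Agent.S15428

/-- Let k be a field, S = k[x_0, …, x_r] graded by degree and M a ℤ-graded S-module with a finite graded
free resolution 0 → F_m → … → F_1 → F_0 → M → 0 by free modules of finite rank with homogeneous
bases, F_i = ⊕_b S(−a_{i,b}). Then for every integer d the Hilbert function is dim_k M_d =
Σ_{i=0}^{m} (−1)^i Σ_b C(r + d − a_{i,b}, r), where a binomial coefficient with d < a_{i,b} counts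
as zero. -/
theorem result (k : Type u) [Field k] (r : ℕ)
    (M : Type u) [AddCommGroup M] [Module k M] [Module (MvPolynomial (Fin (r + 1)) k) M]
    [IsScalarTower k (MvPolynomial (Fin (r + 1)) k) M] [Module.Finite (MvPolynomial (Fin (r + 1)) k) M]
    (ℳ : ℤ → Submodule k M) [DirectSum.Decomposition ℳ] [SetLike.GradedSMul (GrSyz.stdGr k (Fin (r + 1))) ℳ]
    (F : GrSyz.FreeRes (GrSyz.stdGr k (Fin (r + 1))) ℳ) (m : ℕ) (hF : F.HasLengthLE m) (d : ℤ) :
    (Module.finrank k ↥(ℳ d) : ℤ) =
      ∑ i ∈ Finset.range (m + 1), (-1 : ℤ) ^ i * ∑ b : Fin (F.rk i),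
        (if F.deg i b ≤ d then ((Nat.choose (r + (d - F.deg i b).toNat) r : ℕ) : ℤ) else 0) := by
  rw [Groth.Agent.H3CAlg.Syz.finrank_eq_sum F hF d]
  exact Finset.sum_congr rfl fun i _ => by rw [Groth.Agent.H3CAlg.Syz.finrank_piece]

end Groth.Agent.S15428
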