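import Groth.Statements.S15429
import Groth.Agent.H3CAlg.Syz.Hilbert

set_option autoImplicit false
universe u
open GrSyz

namespace Groth.Agent.S15429

/-- Let k be a field, S = k[x_0, …, x_r] graded by degree and M a ℤ-graded S-module with a finite graded
free resolution 0 → F_m → … → F_0 → M → 0 by free modules of finite rank with homogeneous bases, the
basis vectors of F_i having degrees a_{i,b}. Then there is a polynomial P with rational
coefficients, the Hilbert polynomial of M, with dim_k M_d = P(d) for every integer d such that d ≥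
a_{i,b} − r for all i and b. -/
theorem result (k : Type u) [Field k] (r : ℕ)
    (M : Type u) [AddCommGroup M] [Module k M] [Module (MvPolynomial (Fin (r + 1)) k) M]
    [IsScalarTower k (MvPolynomial (Fin (r + 1)) k) M] [Module.Finite (MvPolynomial (Fin (r + 1)) k) M]
    (ℳ : ℤ → Submodule k M) [DirectSum.Decomposition ℳ] [SetLike.GradedSMul (GrSyz.stdGr k (Fin (r + 1))) ℳ]
    (F : GrSyz.FreeRes (GrSyz.stdGr k (Fin (r + 1))) ℳ) (m : ℕ) (hF : F.HasLengthLE m) :
    ∃ P : Polynomial ℚ, ∀ d : ℤ, (∀ (i : ℕ) (b : Fin (F.rk i)), F.deg i b - (r : ℤ) ≤ d) →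
      ((Module.finrank k ↥(ℳ d) : ℤ) : ℚ) = P.eval (d : ℚ) := by
  classical
  let Q : Polynomial ℚ := Polynomial.C ((r.factorial : ℚ)⁻¹) *
    ∏ l ∈ Finset.range r, (Polynomial.X + Polynomial.C ((l : ℚ) + 1))
  have hfac : ∀ (n : ℕ) (t : ℕ), ((t + 1).ascFactorial n : ℚ) = ∏ l ∈ Finset.range n, ((t : ℚ) + ((l : ℚ) + 1)) := by
    intro n t
    induction n with
    | zero => simp
    | succ n ih => rw [Nat.ascFactorial_succ, Finset.prod_range_succ, ← ih]; push_cast; ring
  have hQ : ∀ t : ℤ, -(r : ℤ) ≤ t →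
      Q.eval (t : ℚ) = if 0 ≤ t then ((Nat.choose (r + t.toNat) r : ℕ) : ℚ) else 0 := by
    intro t ht
    simp only [Q, Polynomial.eval_mul, Polynomial.eval_C, Polynomial.eval_prod, Polynomial.eval_add, Polynomial.eval_X]
    split_ifs with h
    · obtain ⟨t, rfl⟩ : ∃ n : ℕ, t = n := ⟨t.toNat, by omega⟩
      rw [Int.cast_natCast, ← hfac, Nat.ascFactorial_eq_factorial_mul_choose, Int.toNat_natCast,
        Nat.add_comm t r, Nat.cast_mul, ← mul_assoc,
        inv_mul_cancel₀ (Nat.cast_ne_zero.mpr r.factorial_ne_zero), one_mul]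
    · rw [Finset.prod_eq_zero (i := (-t - 1).toNat) (Finset.mem_range.mpr (by omega)), mul_zero]
      have h1 : (((-t - 1).toNat : ℤ) : ℚ) = -(t : ℚ) - 1 := by
        rw [Int.toNat_of_nonneg (by omega)]
        push_cast
        ring
      rw [Int.cast_natCast] at h1
      rw [h1]
      ring
  refine ⟨∑ i ∈ Finset.range (m + 1), Polynomial.C ((-1 : ℚ) ^ i) *
    ∑ b : Fin (F.rk i), Q.comp (Polynomial.X - Polynomial.C ((F.deg i b : ℤ) : ℚ)), fun d hd => ?_⟩
  rw [Groth.Agent.H3CAlg.Syz.finrank_eq_sum F hF d]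
  push_cast
  rw [Polynomial.eval_finsetSum]
  refine Finset.sum_congr rfl fun i _ => ?_
  rw [Polynomial.eval_mul, Polynomial.eval_C, Polynomial.eval_finsetSum]
  congr 1
  have hp := congrArg (fun z : ℤ => (z : ℚ)) (Groth.Agent.H3CAlg.Syz.finrank_piece F i d)
  simp only [Int.cast_natCast, Int.cast_sum] at hp
  rw [hp]
  refine Finset.sum_congr rfl fun b _ => ?_
  rw [Polynomial.eval_comp, Polynomial.eval_sub, Polynomial.eval_X, Polynomial.eval_C, ← Int.cast_sub,
    hQ _ (by have := hd i b; omega)]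
  by_cases h : F.deg i b ≤ d
  · rw [if_pos h, if_pos (by omega)]; simp
  · rw [if_neg h, if_neg (by omega)]; simp

end Groth.Agent.S15429
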