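import Groth.Statements.S15432
import Groth.Agent.H3CAlg.Syz.Points

set_option autoImplicit false
universe u
open GrSyz

namespace Groth.Agent.S15432

/-- Let k be a field, Z a nonempty finite set of nonzero vectors of k^3, regarded as points of the
projective plane, I ⊆ S = k[x_0, x_1, x_2] the homogeneous vanishing ideal of Z (a polynomial lies
in I exactly when each of its homogeneous components vanishes at every vector of Z), M = S/I given
as a ℤ-graded S-module with a surjective degree-preserving S-linear map π : S → M with kernel I, and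
F a minimal graded free resolution of M of length at most 2 whose terms F_1 and F_2 have ranks t + 1
and t, with basis degrees a_1 ≥ … ≥ a_{t+1} for F_1 and b_1 ≥ … ≥ b_t for F_2 (non-increasing along
the chosen bases), so that the (i, j) entry of the matrix F_2 → F_1 has degree b_j − a_i. Put e_i =
b_i − a_i and f_i = b_i − a_{i+1}. Then e_i ≥ 1 and f_i ≥ 1 for every i, and Σ_i a_i = Σ_j b_j
(equivalently a_i = Σ_{j < i} e_j + Σ_{j ≥ i} f_j for every i). (The ordering of both bases is the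
standing assumption under which the published statement is made; this row carries it as the
hypotheses on the basis degrees. The further inequalities f_i ≥ e_i and f_i ≥ e_{i+1} follow at once
from the ordering and are not restated.) -/
theorem result (k : Type u) [Field k]
    (Z : Finset (Fin 3 → k)) (hZ : ∀ p ∈ Z, p ≠ 0) (hZne : Z.Nonempty) (I : Ideal (MvPolynomial (Fin 3) k))
    (hI : ∀ f : MvPolynomial (Fin 3) k, f ∈ I ↔
      ∀ p ∈ Z, ∀ j : ℕ, MvPolynomial.eval p (MvPolynomial.homogeneousComponent j f) = 0)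
    (M : Type u) [AddCommGroup M] [Module k M] [Module (MvPolynomial (Fin 3) k) M] [IsScalarTower k (MvPolynomial (Fin 3) k) M]
    (ℳ : ℤ → Submodule k M) [DirectSum.Decomposition ℳ] [SetLike.GradedSMul (GrSyz.stdGr k (Fin 3)) ℳ]
    (π : MvPolynomial (Fin 3) k →ₗ[MvPolynomial (Fin 3) k] M) (hπ : Function.Surjective π)
    (hπg : GrLC.IsGrHom (GrSyz.stdGr k (Fin 3)) ℳ π) (hker : LinearMap.ker π = I)
    (F : GrSyz.FreeRes (GrSyz.stdGr k (Fin 3)) ℳ) (hF : F.IsMinimal (GrSyz.irrel (GrSyz.stdGr k (Fin 3))).toIdeal) (hlen : F.HasLengthLE 2)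
    (t : ℕ) (h1 : F.rk 1 = t + 1) (h2 : F.rk 2 = t)
    (ha : ∀ i j : Fin (t + 1), i ≤ j → F.deg 1 (Fin.cast h1.symm j) ≤ F.deg 1 (Fin.cast h1.symm i))
    (hb : ∀ i j : Fin t, i ≤ j → F.deg 2 (Fin.cast h2.symm j) ≤ F.deg 2 (Fin.cast h2.symm i)) :
    (∀ i : Fin t, 1 ≤ F.deg 2 (Fin.cast h2.symm i) - F.deg 1 (Fin.cast h1.symm i.castSucc) ∧
        1 ≤ F.deg 2 (Fin.cast h2.symm i) - F.deg 1 (Fin.cast h1.symm i.succ)) ∧
      ∑ i : Fin (t + 1), F.deg 1 (Fin.cast h1.symm i) = ∑ j : Fin t, F.deg 2 (Fin.cast h2.symm j) := by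
  classical
  obtain ⟨p₀, hp₀⟩ := hZne
  have h1mem : (1 : MvPolynomial (Fin 3) k) ∉ I := fun h => by
    have := (hI 1).mp h p₀ hp₀ 0
    rw [MvPolynomial.homogeneousComponent_zero, ← MvPolynomial.C_1, MvPolynomial.coeff_C, if_pos rfl, MvPolynomial.eval_C] at this
    exact one_ne_zero this
  haveI : Nontrivial M := ⟨⟨π 1, 0, fun h => h1mem (hker.le (LinearMap.mem_ker.mpr h))⟩⟩
  obtain ⟨h0, hdeg0⟩ := Groth.Agent.H3CAlg.Syz.rk_zero_of_cyclic F hF (π 1)
    (hπg 0 1 SetLike.GradedOne.one_mem) fun m => by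
      obtain ⟨p, rfl⟩ := hπ m
      exact ⟨p, by rw [← map_smul, smul_eq_mul, mul_one]⟩
  have hlt := Groth.Agent.H3CAlg.Syz.lt_deg_of_antitone F hF hlen h1 h2 ha hb
  refine ⟨fun i => ⟨by have := hlt i; omega, ?_⟩, ?_⟩
  · have h := hlt i
    have h' := ha i.castSucc i.succ (Fin.le_def.mpr (by simp))
    omega
  have hbound : ∀ d : ℕ, Module.finrank k ↥(ℳ (d : ℤ)) ≤ Z.card := by
    intro d
    haveI : Module.Finite k ↥(GrSyz.stdGr k (Fin 3) (d : ℤ)) := Groth.Agent.H3CAlg.Syz.finite_stdGr 2 _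
    let ev : ↥(GrSyz.stdGr k (Fin 3) (d : ℤ)) →ₗ[k] (Z → k) :=
      LinearMap.pi fun p => ((MvPolynomial.aeval (p : Fin 3 → k)).toLinearMap) ∘ₗ (GrSyz.stdGr k (Fin 3) (d : ℤ)).subtype
    let pr : ↥(GrSyz.stdGr k (Fin 3) (d : ℤ)) →ₗ[k] ↥(ℳ (d : ℤ)) :=
      ((π.restrictScalars k) ∘ₗ (GrSyz.stdGr k (Fin 3) (d : ℤ)).subtype).codRestrict _ fun f => hπg _ _ f.2
    have hsurj : Function.Surjective pr := fun m => by
      obtain ⟨f, hf⟩ := hπ m.1
      obtain ⟨f', hf', hfm⟩ := Groth.Agent.H3CAlg.KC.exists_homog_preimage (GrSyz.stdGr k (Fin 3)) ℳ π hπg m.2 hf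
      exact ⟨⟨f', hf'⟩, Subtype.ext hfm⟩
    have hle : LinearMap.ker ev ≤ LinearMap.ker pr := by
      intro f hf
      refine LinearMap.mem_ker.mpr (Subtype.ext (LinearMap.mem_ker.mp (hker.ge ((hI _).mpr fun p hp j => ?_))))
      have hhom : (f : MvPolynomial (Fin 3) k).IsHomogeneous d :=
        (MvPolynomial.mem_homogeneousSubmodule _ _).mp ((Groth.Agent.H3CAlg.Syz.stdGr_natCast d).le f.2)
      rw [Submodule.subtype_apply, MvPolynomial.homogeneousComponent_of_mem (MvPolynomial.mem_homogeneousSubmodule _ _ |>.mpr hhom)]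
      split_ifs
      · have := congrFun (LinearMap.mem_ker.mp hf) ⟨p, hp⟩
        simpa [ev] using this
      · simp
    have e1 := LinearMap.finrank_range_add_finrank_ker ev
    have e2 := LinearMap.finrank_range_add_finrank_ker pr
    rw [LinearMap.range_eq_top.mpr hsurj, finrank_top] at e2
    have e3 := Submodule.finrank_mono hle
    have e4 := Submodule.finrank_le (LinearMap.range ev)
    rw [Module.finrank_pi, Fintype.card_coe] at e4
    omega
  obtain ⟨ρ, hρ⟩ := Groth.Agent.H3CAlg.Syz.exists_isGenLE F hlen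
  let A : ℚ := ∑ i : Fin (t + 1), ((F.deg 1 (Fin.cast h1.symm i) : ℤ) : ℚ)
  let B : ℚ := ∑ j : Fin t, ((F.deg 2 (Fin.cast h2.symm j) : ℤ) : ℚ)
  let A2 : ℚ := ∑ i : Fin (t + 1), ((F.deg 1 (Fin.cast h1.symm i) : ℤ) : ℚ) ^ 2
  let B2 : ℚ := ∑ j : Fin t, ((F.deg 2 (Fin.cast h2.symm j) : ℤ) : ℚ) ^ 2
  have hH : ∀ d : ℕ, ρ + 2 ≤ (d : ℤ) →
      2 * (Module.finrank k ↥(ℳ (d : ℤ)) : ℚ) = (2 * (d : ℚ) + 3) * (A - B) - A2 + B2 := by
    intro d hd
    have hd' : ∀ i : ℕ, i ≤ 2 → ∀ b : Fin (F.rk i), F.deg i b ≤ (d : ℤ) := fun i hi b => by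
      have := hρ i b
      omega
    have h := congrArg (fun z : ℤ => (z : ℚ)) (Groth.Agent.H3CAlg.Syz.finrank_eq_sum F hlen (d : ℤ))
    simp only [Groth.Agent.H3CAlg.Syz.finrank_piece, Finset.sum_range_succ, Finset.sum_range_zero, zero_add, Int.cast_add,
      Int.cast_mul, Int.cast_pow, Int.cast_neg, Int.cast_one, Int.cast_sum, Int.cast_natCast] at h
    rw [h]
    have key : ∀ i : ℕ, i ≤ 2 → ∀ b : Fin (F.rk i),
        (((if F.deg i b ≤ (d : ℤ) then ((Nat.choose (2 + ((d : ℤ) - F.deg i b).toNat) 2 : ℕ) : ℤ) else 0) : ℤ) : ℚ) =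
          ((d : ℚ) - (F.deg i b : ℚ) + 1) * ((d : ℚ) - (F.deg i b : ℚ) + 2) / 2 := by
      intro i hi b
      have e := Groth.Agent.H3CAlg.KC.binPoly_eval_of_le 2 (hd' i hi b)
      rw [Groth.Agent.H3CAlg.KC.binPoly_eval] at e
      rw [if_pos (hd' i hi b), Int.cast_natCast, ← e]
      simp [ascPochhammer_succ_eval, Nat.factorial]
      ring
    rw [Finset.sum_congr rfl fun b _ => key 0 (by norm_num) b, Finset.sum_congr rfl fun b _ => key 1 (by norm_num) b,
      Finset.sum_congr rfl fun b _ => key 2 le_rfl b,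
      ← (finCongr h1.symm).sum_comp, ← (finCongr h2.symm).sum_comp, ← (finCongr h0.symm).sum_comp]
    simp only [finCongr_apply, Fin.sum_univ_one, hdeg0, Int.cast_zero, A, B, A2, B2]
    have s1 : ∀ (n : ℕ) (f : Fin n → ℚ), ∑ x, ((d : ℚ) - f x + 1) * ((d : ℚ) - f x + 2) / 2 =
        (∑ x, f x ^ 2 - (2 * (d : ℚ) + 3) * ∑ x, f x + n * (((d : ℚ) + 1) * ((d : ℚ) + 2))) / 2 := by
      intro n f
      rw [← Finset.sum_div, Finset.mul_sum, ← Finset.sum_sub_distrib,
        show (n : ℚ) * (((d : ℚ) + 1) * ((d : ℚ) + 2)) = ∑ _x : Fin n, (((d : ℚ) + 1) * ((d : ℚ) + 2)) by simp,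
        ← Finset.sum_add_distrib]
      congr 1
      exact Finset.sum_congr rfl fun x _ => by ring
    rw [s1, s1]
    push_cast
    ring
  have hAB : A = B := by
    let d₀ : ℕ := (ρ + 2).toNat
    have e1 := hH d₀ (by omega)
    have e2 := hH (d₀ + (Z.card + 1)) (by omega)
    have b1 : (Module.finrank k ↥(ℳ ((d₀ : ℕ) : ℤ)) : ℚ) ≤ Z.card := by exact_mod_cast hbound d₀
    have b2 : (Module.finrank k ↥(ℳ ((d₀ + (Z.card + 1) : ℕ) : ℤ)) : ℚ) ≤ Z.card := by exact_mod_cast hbound _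
    have p1 : (0 : ℚ) ≤ Module.finrank k ↥(ℳ ((d₀ : ℕ) : ℤ)) := Nat.cast_nonneg _
    have p2 : (0 : ℚ) ≤ Module.finrank k ↥(ℳ ((d₀ + (Z.card + 1) : ℕ) : ℤ)) := Nat.cast_nonneg _
    push_cast at e2 b2 p2
    have hA : A - B = ((∑ i : Fin (t + 1), F.deg 1 (Fin.cast h1.symm i) - ∑ j : Fin t, F.deg 2 (Fin.cast h2.symm j) : ℤ) : ℚ) := by
      simp [A, B]
    by_contra hne
    have habs : (1 : ℚ) ≤ |A - B| := by
      rw [hA, ← Int.cast_abs]
      exact_mod_cast Int.one_le_abs (fun h => hne (sub_eq_zero.mp (by rw [hA, h, Int.cast_zero])))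
    rcases le_abs.mp habs with h | h <;> nlinarith
  have := hAB
  simp only [A, B] at this
  exact_mod_cast this

end Groth.Agent.S15432
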