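import Groth.Statements.S15433
import Groth.Agent.H3CAlg.KC.Length

set_option autoImplicit false
universe u
open GrSyz

namespace Groth.Agent.S15433

/-- Let k be a field, S = k[x_0, …, x_r] graded by degree, 𝔪 = (x_0, …, x_r), and M = S/I a graded
quotient of S, given with a surjective degree-preserving S-linear map π : S → M whose kernel I
contains no nonzero linear form. Let y_0, …, y_t be linear forms forming a weakly regular sequence
on M (each a non-zerodivisor modulo the previous ones) and N = M/(y_0, …, y_t)M, given as a graded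
module with a surjective degree-preserving S-linear map σ : M → N with kernel (y_0, …, y_t)M, and
suppose N has finite length ℓ. Then reg M + (r − t) ≤ ℓ, reg being the Castelnuovo–Mumford
regularity of M in the sense of minimal graded free resolutions. (The published statement is reg S_X
≤ deg X − codim X for an arithmetically Cohen–Macaulay subvariety X of P^r not contained in a
hyperplane; this row is the algebraic statement its proof establishes, with S_X any graded quotient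
of S by an ideal without linear forms, the maximal regular sequence of linear forms given, deg X
replaced by the length of S_X/(y_0, …, y_t)S_X and codim X by r − t, which agree with the degree and
the codimension in that situation.) -/
theorem result (k : Type u) [Field k] (r : ℕ)
    (M : Type u) [AddCommGroup M] [Module k M] [Module (MvPolynomial (Fin (r + 1)) k) M]
    [IsScalarTower k (MvPolynomial (Fin (r + 1)) k) M] [Module.Finite (MvPolynomial (Fin (r + 1)) k) M]
    (ℳ : ℤ → Submodule k M) [DirectSum.Decomposition ℳ] [SetLike.GradedSMul (GrSyz.stdGr k (Fin (r + 1))) ℳ]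
    (π : MvPolynomial (Fin (r + 1)) k →ₗ[MvPolynomial (Fin (r + 1)) k] M) (hπ : Function.Surjective π)
    (hπg : GrLC.IsGrHom (GrSyz.stdGr k (Fin (r + 1))) ℳ π)
    (hlin : ∀ x : MvPolynomial (Fin (r + 1)) k, x ∈ GrSyz.stdGr k (Fin (r + 1)) 1 → π x = 0 → x = 0)
    (ys : List (MvPolynomial (Fin (r + 1)) k)) (hys : ∀ y ∈ ys, y ∈ GrSyz.stdGr k (Fin (r + 1)) 1)
    (hreg : RingTheory.Sequence.IsWeaklyRegular M ys)
    (N : Type u) [AddCommGroup N] [Module k N] [Module (MvPolynomial (Fin (r + 1)) k) N]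
    [IsScalarTower k (MvPolynomial (Fin (r + 1)) k) N]
    (𝒩 : ℤ → Submodule k N) [DirectSum.Decomposition 𝒩] [SetLike.GradedSMul (GrSyz.stdGr k (Fin (r + 1))) 𝒩]
    (σ : M →ₗ[MvPolynomial (Fin (r + 1)) k] N) (hσ : Function.Surjective σ) (hσg : GrLC.IsGrHom ℳ 𝒩 σ)
    (hker : LinearMap.ker σ = Ideal.ofList ys • (⊤ : Submodule (MvPolynomial (Fin (r + 1)) k) M))
    (ℓ : ℕ) (hℓ : Module.length (MvPolynomial (Fin (r + 1)) k) N = (ℓ : ℕ∞)) :
    GrSyz.reg (GrSyz.stdGr k (Fin (r + 1))) ℳ (GrSyz.irrel (GrSyz.stdGr k (Fin (r + 1)))).toIdeal + ((((r : ℤ) + 1 - (ys.length : ℤ) : ℤ) : WithTop ℤ) : WithBot (WithTop ℤ)) ≤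
      (((ℓ : ℤ) : WithTop ℤ) : WithBot (WithTop ℤ)) := by
  classical
  haveI : Module.Finite (MvPolynomial (Fin (r + 1)) k) N := Module.Finite.of_surjective σ hσ
  have hNfl : IsFiniteLength (MvPolynomial (Fin (r + 1)) k) N :=
    Module.length_ne_top_iff.mp (by rw [hℓ]; exact ENat.natCast_ne_top ℓ)
  rw [Groth.Agent.H3CAlg.KC.add_coe_le_iff, Groth.Agent.H3CAlg.KC.reg_le_iff,
    Groth.Agent.H3CAlg.KC.ele_regular_quot ℳ ys hys hreg 𝒩 σ hσ hσg hker,
    Groth.Agent.H3CAlg.KC.kle_iff_of_isFiniteLength 𝒩 hNfl]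
  intro e he z hz
  by_contra hz0
  let n₀ : N := σ (π 1)
  have h1 : (1 : MvPolynomial (Fin (r + 1)) k) ∈ GrSyz.stdGr k (Fin (r + 1)) 0 := SetLike.GradedOne.one_mem
  have hn₀ : n₀ ∈ 𝒩 0 := hσg 0 _ (hπg 0 1 h1)
  have hgen : ∀ (j : ℤ) (w : N), w ∈ 𝒩 j → ∃ p ∈ GrSyz.stdGr k (Fin (r + 1)) j, p • n₀ = w := by
    intro j w hw
    obtain ⟨m, hm⟩ := hσ w
    obtain ⟨m', hm', hmw⟩ := Groth.Agent.H3CAlg.KC.exists_homog_preimage ℳ 𝒩 σ hσg hw hm
    obtain ⟨p, hp⟩ := hπ m'
    obtain ⟨p', hp', hpm⟩ := Groth.Agent.H3CAlg.KC.exists_homog_preimage (GrSyz.stdGr k (Fin (r + 1))) ℳ π hπg hm' hp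
    refine ⟨p', hp', ?_⟩
    show p' • σ (π 1) = w
    rw [← map_smul, ← map_smul, smul_eq_mul, mul_one, hpm, hmw]
  have he0 : 0 ≤ e := by
    by_contra hneg
    obtain ⟨p, hp, rfl⟩ := hgen e z hz
    exact hz0 (by rw [Groth.Agent.H3CAlg.Syz.stdGr_eq_zero (not_le.mp hneg) hp, zero_smul])
  have hbot : ∀ j : ℕ, 𝒩 (j : ℤ) = ⊥ → 𝒩 ((j + 1 : ℕ) : ℤ) = ⊥ := by
    intro j hj
    refine (Submodule.eq_bot_iff _).mpr fun w hw => ?_
    obtain ⟨p, hp, rfl⟩ := hgen _ w hw
    have hp1 : p ∈ Groth.Agent.H3CAlg.Syz.firstVars k r (r + 1) := by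
      rw [Groth.Agent.H3CAlg.KC.firstVars_top]
      exact Groth.Agent.H3CAlg.Syz.mem_irrel_of_mem (by omega) hp
    have hle : Groth.Agent.H3CAlg.Syz.firstVars k r (r + 1) ≤ Ideal.span (Set.range (MvPolynomial.X : Fin (r + 1) → MvPolynomial (Fin (r + 1)) k)) :=
      Ideal.span_mono (Set.image_subset_range _ _)
    obtain ⟨a, ha⟩ := Ideal.mem_span_range_iff_exists_fun.mp (hle hp1)
    have hP := congrArg (Groth.Agent.H3CAlg.Syz.P 𝒩 ((j + 1 : ℕ) : ℤ)) (congrArg (· • n₀) ha)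
    simp only [Finset.sum_smul, map_sum] at hP
    rw [Groth.Agent.H3CAlg.Syz.P_of_mem 𝒩 hw, if_pos rfl] at hP
    rw [← hP]
    refine Finset.sum_eq_zero fun v _ => ?_
    rw [mul_comm, mul_smul, Groth.Agent.H3CAlg.KC.P_smul_linear 𝒩 (Groth.Agent.H3CAlg.KC.X_mem_stdGr v),
      (Submodule.eq_bot_iff _).mp hj (Groth.Agent.H3CAlg.Syz.P 𝒩 (((j + 1 : ℕ) : ℤ) - 1) (a v • n₀)) (by
        rw [show ((j : ℤ)) = ((j + 1 : ℕ) : ℤ) - 1 by push_cast; ring]
        exact Groth.Agent.H3CAlg.Syz.P_mem 𝒩 _ _), smul_zero]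
  obtain ⟨E, rfl⟩ : ∃ E : ℕ, (E : ℤ) = e := ⟨e.toNat, by omega⟩
  have hne : ∀ j ≤ E, 𝒩 (j : ℤ) ≠ ⊥ := by
    intro j hj h
    have : ∀ t : ℕ, 𝒩 ((j + t : ℕ) : ℤ) = ⊥ := fun t => by
      induction t with
      | zero => exact h
      | succ t ih => exact hbot (j + t) ih
    obtain ⟨t, rfl⟩ := Nat.exists_eq_add_of_le hj
    exact hz0 ((Submodule.eq_bot_iff _).mp (this t) z hz)
  have hlen : Module.length k N = (ℓ : ℕ∞) := by
    rw [Groth.Agent.H3CAlg.KC.length_eq_of_torsion N hNfl fun v m => ?_, hℓ]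
    obtain ⟨t, ht⟩ := Groth.Agent.H3CAlg.Syz.exists_sum_P 𝒩 m
    have hN : ∀ j : ℤ, ∃ K : ℕ, (MvPolynomial.X v : MvPolynomial (Fin (r + 1)) k) ^ K • Groth.Agent.H3CAlg.Syz.P 𝒩 j m = 0 :=
      fun j => Groth.Agent.H3CAlg.KC.exists_pow_smul_of_isFiniteLength (ℳ := 𝒩) (⊤ : Submodule (MvPolynomial (Fin (r + 1)) k) N)
        ((Submodule.topEquiv).symm.isFiniteLength hNfl) v (Groth.Agent.H3CAlg.Syz.P_mem 𝒩 j m) Submodule.mem_top
    choose K hK using hN
    refine ⟨∑ j ∈ t, K j, ?_⟩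
    rw [ht, Finset.smul_sum]
    refine Finset.sum_eq_zero fun j hj => ?_
    obtain ⟨c, hc⟩ := Nat.exists_eq_add_of_le (Finset.single_le_sum (f := K) (fun _ _ => Nat.zero_le _) hj)
    rw [hc, Nat.add_comm (K j) c, pow_add, mul_smul, hK, smul_zero]
  haveI : Module.Finite k N := Module.finite_of_rank_eq_nat (n := ℓ) (by
    have := Module.length_eq_rank k N
    rw [hlen] at this
    exact Cardinal.toENat_eq_natCast.mp this.symm)
  have hfr : Module.finrank k N = ℓ := by
    have := Module.length_eq_finrank k N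
    rw [hlen] at this
    exact_mod_cast this.symm
  have hpos : ∀ j ≤ E, 1 ≤ Module.finrank k (𝒩 (j : ℤ)) := fun j hj => by
    rw [Nat.one_le_iff_ne_zero]
    exact fun h => hne j hj (Submodule.finrank_eq_zero.mp h)
  haveI : Module.Finite k ↥(GrSyz.stdGr k (Fin (r + 1)) 1) := Groth.Agent.H3CAlg.Syz.finite_stdGr r 1
  have hN1 : r + 1 ≤ Module.finrank k (𝒩 1) + ys.length := by
    let L : ↥(GrSyz.stdGr k (Fin (r + 1)) 1) →ₗ[k] ↥(𝒩 1) :=
      ((σ ∘ₗ π).restrictScalars k ∘ₗ (GrSyz.stdGr k (Fin (r + 1)) 1).subtype).codRestrict (𝒩 1)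
        fun p => hσg 1 _ (hπg 1 _ p.2)
    let W : Submodule k (MvPolynomial (Fin (r + 1)) k) := Submodule.span k (Set.range fun i : Fin ys.length => ys[i.val])
    have hW : Module.finrank k W ≤ ys.length := (finrank_range_le_card _).trans (Fintype.card_fin _).le
    have hker' : ∀ p ∈ LinearMap.ker L, (p : MvPolynomial (Fin (r + 1)) k) ∈ W := by
      intro p hp
      have h0 : π p ∈ LinearMap.ker σ := congrArg Subtype.val (LinearMap.mem_ker.mp hp)
      rw [hker, ← LinearMap.range_eq_top.mpr hπ, LinearMap.range_eq_map, ← Submodule.map_smul''] at h0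
      obtain ⟨q, hq, hqp⟩ := h0
      rw [show Ideal.ofList ys • (⊤ : Submodule (MvPolynomial (Fin (r + 1)) k) (MvPolynomial (Fin (r + 1)) k)) = Ideal.ofList ys from
        Ideal.mul_top _] at hq
      have hys' : Ideal.ofList ys = Ideal.span (Set.range fun i : Fin ys.length => ys[i.val]) := by
        rw [Ideal.ofList]
        congr 1
        ext x
        simp [List.mem_iff_getElem, Fin.exists_iff]
      rw [hys'] at hq
      obtain ⟨a, rfl⟩ := Ideal.mem_span_range_iff_exists_fun.mp hq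
      have hP1 : π (Groth.Agent.H3CAlg.Syz.P (GrSyz.stdGr k (Fin (r + 1))) 1 (∑ i, a i * ys[i.val])) = π p := by
        rw [Groth.Agent.H3CAlg.KC.map_P (GrSyz.stdGr k (Fin (r + 1))) ℳ π hπg, hqp,
          Groth.Agent.H3CAlg.Syz.P_of_mem ℳ (hπg 1 _ p.2), if_pos rfl]
      have heq : (p : MvPolynomial (Fin (r + 1)) k) =
          Groth.Agent.H3CAlg.Syz.P (GrSyz.stdGr k (Fin (r + 1))) 1 (∑ i, a i * ys[i.val]) :=
        (sub_eq_zero.mp (hlin _ (sub_mem (Groth.Agent.H3CAlg.Syz.P_mem _ _ _) p.2) (by rw [map_sub, hP1, sub_self]))).symm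
      rw [heq, map_sum]
      refine Submodule.sum_mem _ fun i _ => ?_
      rw [← smul_eq_mul, Groth.Agent.H3CAlg.Syz.P_smul (GrSyz.stdGr k (Fin (r + 1))) (GrSyz.stdGr k (Fin (r + 1)))
        (hys _ (List.getElem_mem i.isLt)), sub_self, Groth.Agent.H3CAlg.Syz.P_zero_eq]
      rw [show (MvPolynomial.C (MvPolynomial.constantCoeff (a i)) : MvPolynomial (Fin (r + 1)) k) • ys[i.val] =
        MvPolynomial.constantCoeff (a i) • ys[i.val] from algebraMap_smul (MvPolynomial (Fin (r + 1)) k) _ _]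
      exact W.smul_mem _ (Submodule.subset_span ⟨i, rfl⟩)
    haveI : Module.Finite k W := Module.Finite.span_of_finite k (Set.finite_range _)
    have hk : Module.finrank k (LinearMap.ker L) ≤ ys.length := by
      refine le_trans ?_ hW
      refine LinearMap.finrank_le_finrank_of_injective
        (f := (((GrSyz.stdGr k (Fin (r + 1)) 1).subtype ∘ₗ (LinearMap.ker L).subtype).codRestrict W fun p => hker' p.1 p.2)) ?_
      exact fun a b h => Subtype.ext (Subtype.ext (congrArg (Subtype.val : W → _) h))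
    have hrn := LinearMap.finrank_range_add_finrank_ker L
    have hd : Module.finrank k ↥(GrSyz.stdGr k (Fin (r + 1)) 1) = r + 1 := by
      rw [Groth.Agent.H3CAlg.Syz.finrank_stdGr]
      simp
    have hr := Submodule.finrank_le (LinearMap.range L)
    omega
  have hsum := Groth.Agent.H3CAlg.KC.sum_finrank_le 𝒩 (((Finset.range (max E 1 + 1)).map ⟨fun j : ℕ => (j : ℤ), Nat.cast_injective⟩))
  rw [Finset.sum_map, hfr] at hsum
  simp only [Function.Embedding.coeFn_mk] at hsum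
  rw [Finset.sum_range_succ'] at hsum
  have h00 := hpos 0 (Nat.zero_le _)
  rcases Nat.eq_zero_or_pos E with hE | hE
  · subst hE
    rw [show max 0 1 = 1 from rfl, Finset.sum_range_one] at hsum
    push_cast at hsum h00
    omega
  · rw [max_eq_left (by omega : 1 ≤ E)] at hsum
    obtain ⟨E', rfl⟩ : ∃ E', E = E' + 1 := ⟨E - 1, by omega⟩
    rw [Finset.sum_range_succ'] at hsum
    have hrest : E' ≤ ∑ j ∈ Finset.range E', Module.finrank k (𝒩 (((j + 1) + 1 : ℕ) : ℤ)) := by
      calc E' = ∑ _j ∈ Finset.range E', 1 := by simp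
        _ ≤ _ := Finset.sum_le_sum fun j hj => hpos _ (by rw [Finset.mem_range] at hj; omega)
    push_cast at hsum hrest h00 he ⊢
    omega

end Groth.Agent.S15433
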