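import Groth.Statements.S15435
import Groth.Agent.H3CAlg.TildeSurj

set_option autoImplicit false
universe u
open GrSyz

namespace Groth.Agent.S15435

set_option maxHeartbeats 2000000 in
/-- Let k be a field, S = k[x_0, …, x_r] graded by degree, 𝔪 = (x_0, …, x_r), and M a finitely generated
ℤ-graded S-module; M̃ and the M(d)~ denote the O-modules on P^r_k associated with the pieces M_n, n
≥ 0 (they depend only on the pieces of large degree), with the canonical maps M_d → H^0(P^r_k,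
M(d)~); graded local cohomology is computed from any *injective resolution in the graded category;
let d ≥ 0. Then M is d-regular, that is H^0_𝔪(M) has no nonzero piece above degree d and H^i_𝔪(M)
vanishes in degree d − i + 1 for every i > 0, if and only if: (1) the sheaf M̃ is d-regular,
H^i(P^r_k, M̃(d − i)) = 0 for 1 ≤ i ≤ r; (2) H^0_𝔪(M) vanishes in every degree e > d; and (3) the
canonical map from M_d to the global sections of M(d)~ is surjective. (The published statement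
allows any integer d; it is stated here for d ≥ 0.) -/
theorem result (k : Type u) [Field k] (r : ℕ)
    (M : Type u) [AddCommGroup M] [Module k M] [Module (MvPolynomial (Fin (r + 1)) k) M]
    [IsScalarTower k (MvPolynomial (Fin (r + 1)) k) M] [Module.Finite (MvPolynomial (Fin (r + 1)) k) M]
    (ℳ : ℤ → Submodule k M) [DirectSum.Decomposition ℳ] [SetLike.GradedSMul (GrSyz.stdGr k (Fin (r + 1))) ℳ]
    [SetLike.GradedSMul (CohB1.polyGrading r k) (fun n : ℕ => ℳ (n : ℤ))]
    (E : GrLC.StarInjRes (GrSyz.stdGr k (Fin (r + 1))) ℳ) (d : ℕ) :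
    (GrLC.endDeg (E.Hgr (GrSyz.irrel (GrSyz.stdGr k (Fin (r + 1)))) 0) ≤ (((d : ℤ) : WithTop ℤ) : WithBot (WithTop ℤ)) ∧
        ∀ i : ℕ, 0 < i → E.Hcomp (GrSyz.irrel (GrSyz.stdGr k (Fin (r + 1)))) i ((d : ℤ) - (i : ℤ) + 1) = ⊥) ↔
      (Curv2.IsMRegular k r (GrTilde.tilde (CohB1.polyGrading r k) (fun n : ℕ => ℳ (n : ℤ)) 0) (d : ℤ) ∧
        (∀ e : ℤ, (d : ℤ) < e → E.Hcomp (GrSyz.irrel (GrSyz.stdGr k (Fin (r + 1)))) 0 e = ⊥) ∧
        Function.Surjective (fun m : ↥(ℳ ((d : ℕ) : ℤ)) => GrTilde.globalOf (CohB1.polyGrading r k) (fun n : ℕ => ℳ (n : ℤ)) m)) := by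
  open Groth.Agent.H3CAlg Groth.Agent.H3CAlg.KC Groth.Agent.H11Tilde in
  rw [endDeg_H_le_iff E 0 (d : ℤ)]
  constructor
  · rintro ⟨h0, hw⟩
    have hall : ∀ (i : ℕ) (g : ℤ), (d : ℤ) < g + i →
        E.Hcomp (irrel (stdGr k (Fin (r + 1)))) i g = ⊥ := fun i g hg => by
      rcases Nat.eq_zero_or_pos i with rfl | hi
      · exact h0 g (by omega)
      · exact hcomp_weak E hw i hi g hg
    obtain ⟨F, -, hF⟩ := (isRegLE_iff_kle (r := r) ℳ (d : ℤ)).2 ((hcomp_vanish_iff_kle E _).1 hall)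
    refine ⟨TildeReg.isMRegular F hF, h0, fun σ => ?_⟩
    obtain ⟨z, hz, hσ⟩ := TildeSurj.surj_of_isGenLE F d hF σ
    exact ⟨⟨z, hz⟩, Subtype.ext (funext fun x => Subtype.ext (hσ x).symm)⟩
  · rintro ⟨hreg, h0, hs⟩
    refine ⟨h0, fun i hi => (hcomp_vanish_iff_kle E _).2 (TildeDReg.kle_of_sheaf
      (TildeDReg.van_of_isMRegular hreg) (fun j hj => TildeDReg.inj_of_hcomp E (h0 j (by omega))) ?_) i _ (by omega)⟩
    intro σ
    obtain ⟨m, hm⟩ := hs σ
    exact ⟨m.1, m.2, fun x => congrArg (fun t => (t.1 x).1) hm.symm⟩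

end Groth.Agent.S15435
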