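import Groth.Statements.S15437
import Groth.Agent.H3CAlg.Syz.Hilbert

set_option autoImplicit false
universe u
open GrSyz

namespace Groth.Agent.S15437

/-- Let k be a field, S = k[x_0, …, x_r] graded by degree and M a ℤ-graded S-module with a finite graded
free resolution F of length at most m by free modules of finite rank with homogeneous bases; write
β_{i,j} for the number of basis vectors of F_i of degree j (the graded Betti numbers when F is
minimal) and B_j = Σ_{i ≤ m} (−1)^i β_{i,j}. Then for every integer d, dim_k M_d = Σ_j B_j C(r + d −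
j, r), where a binomial with d < j counts as zero and only finitely many j contribute; and the B_j
are recovered from the Hilbert function by B_j = dim_k M_j − Σ_{n < j} B_n C(r + j − n, r). (Stated
for any finite graded free resolution; the published statement takes the minimal one.) -/
theorem result (k : Type u) [Field k] (r : ℕ)
    (M : Type u) [AddCommGroup M] [Module k M] [Module (MvPolynomial (Fin (r + 1)) k) M]
    [IsScalarTower k (MvPolynomial (Fin (r + 1)) k) M] [Module.Finite (MvPolynomial (Fin (r + 1)) k) M]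
    (ℳ : ℤ → Submodule k M) [DirectSum.Decomposition ℳ] [SetLike.GradedSMul (GrSyz.stdGr k (Fin (r + 1))) ℳ]
    (F : GrSyz.FreeRes (GrSyz.stdGr k (Fin (r + 1))) ℳ) (m : ℕ) (hF : F.HasLengthLE m) :
    (∀ d : ℤ, (Module.finrank k ↥(ℳ d) : ℤ) =
        ∑ᶠ j : ℤ, (∑ i ∈ Finset.range (m + 1), (-1 : ℤ) ^ i * (F.betti i j : ℤ)) *
          (if j ≤ d then ((Nat.choose (r + (d - j).toNat) r : ℕ) : ℤ) else 0)) ∧
      ∀ j : ℤ, (∑ i ∈ Finset.range (m + 1), (-1 : ℤ) ^ i * (F.betti i j : ℤ)) =
        (Module.finrank k ↥(ℳ j) : ℤ) -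
          ∑ᶠ n : ℤ, (if n < j then (∑ i ∈ Finset.range (m + 1), (-1 : ℤ) ^ i * (F.betti i n : ℤ)) * ((Nat.choose (r + (j - n).toNat) r : ℕ) : ℤ) else 0) := by
  classical
  let s : Finset ℤ := (Finset.range (m + 1)).biUnion fun i => Finset.univ.image fun b : Fin (F.rk i) => F.deg i b
  let e : ℤ → ℤ := fun j => ∑ i ∈ Finset.range (m + 1), (-1 : ℤ) ^ i * (F.betti i j : ℤ)
  have he : ∀ j ∉ s, e j = 0 := by
    intro j hj
    refine Finset.sum_eq_zero fun i hi => ?_
    rw [show F.betti i j = 0 from Finset.card_eq_zero.mpr (Finset.filter_eq_empty_iff.mpr fun b _ hb =>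
      hj (Finset.mem_biUnion.mpr ⟨i, hi, Finset.mem_image.mpr ⟨b, Finset.mem_univ _, hb⟩⟩)), Nat.cast_zero, mul_zero]
  let c : ℤ → ℤ → ℤ := fun d j => if j ≤ d then ((Nat.choose (r + (d - j).toNat) r : ℕ) : ℤ) else 0
  have h1 : ∀ d : ℤ, ∀ t : Finset ℤ, s ⊆ t → (Module.finrank k ↥(ℳ d) : ℤ) = ∑ j ∈ t, e j * c d j := by
    intro d t ht
    rw [Groth.Agent.H3CAlg.Syz.finrank_eq_sum F hF d]
    simp only [e, Finset.sum_mul]
    rw [Finset.sum_comm]
    refine Finset.sum_congr rfl fun i hi => ?_
    rw [Groth.Agent.H3CAlg.Syz.finrank_piece]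
    simp only [mul_assoc, ← Finset.mul_sum]
    congr 1
    rw [← Finset.sum_fiberwise_of_maps_to (t := t) (g := fun b : Fin (F.rk i) => F.deg i b) (fun b _ =>
      ht (Finset.mem_biUnion.mpr ⟨i, hi, Finset.mem_image.mpr ⟨b, Finset.mem_univ _, rfl⟩⟩))]
    refine Finset.sum_congr rfl fun j _ => ?_
    rw [Finset.sum_congr rfl fun b hb => show _ = c d j by rw [(Finset.mem_filter.mp hb).2], Finset.sum_const,
      nsmul_eq_mul]
    rfl
  refine ⟨fun d => ?_, fun j => ?_⟩
  · rw [h1 d s subset_rfl]
    refine (finsum_eq_sum_of_support_subset _ fun j hj => ?_).symm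
    by_contra hjs
    exact hj (by show e j * c d j = 0; rw [he j hjs, zero_mul])
  · rw [finsum_eq_sum_of_support_subset (s := s) _ fun n hn => by
      by_contra hns
      refine hn ?_
      show (if n < j then e n * _ else 0) = 0
      rw [he n hns, zero_mul, ite_self]]
    show e j = _ - ∑ n ∈ s, if n < j then e n * _ else 0
    rw [h1 j (insert j s) (Finset.subset_insert _ _)]
    have h2 : ∑ n ∈ s, (if n < j then e n * ((Nat.choose (r + (j - n).toNat) r : ℕ) : ℤ) else 0) =
        ∑ n ∈ insert j s, (if n < j then e n * c j n else 0) := by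
      rw [← Finset.sum_subset (Finset.subset_insert j s) fun n _ hn => by rw [he n hn, zero_mul, ite_self]]
      refine Finset.sum_congr rfl fun n _ => ?_
      by_cases h : n < j
      · simp only [if_pos h, c, if_pos h.le]
      · simp only [if_neg h]
    rw [h2, ← Finset.sum_sub_distrib, Finset.sum_eq_single j]
    · simp [c]
    · intro n _ hn
      rcases lt_or_gt_of_ne hn with h | h
      · rw [if_pos h, sub_self]
      · rw [if_neg (not_lt.mpr h.le)]
        simp [c, not_le.mpr h]
    · intro h; exact absurd (Finset.mem_insert_self _ _) h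

end Groth.Agent.S15437
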