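import Groth.Statements.S15438
import Groth.Agent.H3Cyc.SectFam
import Groth.Agent.H11Proj.ProperQProj
import Mathlib

set_option autoImplicit false
universe u
open AlgEqCyc

set_option backward.isDefEq.respectTransparency.types false
set_option linter.style.haveILetI false

namespace Groth.Agent.S15438

open AlgebraicGeometry CategoryTheory CategoryTheory.Limits

/-- The member at a rational point of the diagonal family is the point itself. -/
theorem fibreFun_diag {k : Type u} [Field k] {C : Scheme.{u}} [IrreducibleSpace ↥C] [DecidableEq ↥C]
    (q : C ⟶ Spec (CommRingCat.of k)) [IsSeparated q] [DecidableEq ↥(pullback q q)]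
    (P : Spec (CommRingCat.of k) ⟶ C) (hP : P ≫ q = 𝟙 _) (x : C) :
    AlgEqCyc.fibreFun q q
      (Function.locallyFinsuppWithin.single (pullback.diagonal q (genericPoint C)) (1 : ℤ)) P hP x =
      if x = P (IsLocalRing.closedPoint k) then 1 else 0 := by
  let σ := pullback.diagonal q
  let g : pullback q q ⟶ C := pullback.snd q q
  haveI : IsIso (σ ≫ g) := by
    rw [show σ ≫ g = 𝟙 C from pullback.lift_snd _ _ _]; infer_instance
  have hs : ∀ y, AlgEqCyc.slice q q P hP y = σ (P (IsLocalRing.closedPoint k)) ↔ y = P (IsLocalRing.closedPoint k) := by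
    intro y
    constructor
    · intro h
      have h1 := congrArg (pullback.fst q q) h
      have e1 : pullback.fst q q (AlgEqCyc.slice q q P hP y) = y := by
        rw [← Scheme.Hom.comp_apply, show AlgEqCyc.slice q q P hP ≫ pullback.fst q q = 𝟙 C from pullback.lift_fst _ _ _]
        rfl
      have e2 : pullback.fst q q (σ (P (IsLocalRing.closedPoint k))) = P (IsLocalRing.closedPoint k) := by
        rw [← Scheme.Hom.comp_apply σ, show σ ≫ pullback.fst q q = 𝟙 C from pullback.lift_fst _ _ _]
        rfl
      rwa [e1, e2] at h1
    · rintro rfl
      have h2 : P ≫ AlgEqCyc.slice q q P hP = P ≫ σ := by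
        apply pullback.hom_ext
        · rw [Category.assoc, Category.assoc,
            show AlgEqCyc.slice q q P hP ≫ pullback.fst q q = 𝟙 C from pullback.lift_fst _ _ _,
            show σ ≫ pullback.fst q q = 𝟙 C from pullback.lift_fst _ _ _]
        · rw [Category.assoc, Category.assoc,
            show AlgEqCyc.slice q q P hP ≫ pullback.snd q q = q ≫ P from pullback.lift_snd _ _ _,
            show σ ≫ pullback.snd q q = 𝟙 C from pullback.lift_snd _ _ _, reassoc_of% hP, Category.comp_id]
      exact congrArg (fun m : Spec (CommRingCat.of k) ⟶ pullback q q => m (IsLocalRing.closedPoint k)) h2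
  have hy : ∀ y, σ (genericPoint C) ⤳ AlgEqCyc.slice q q P hP y → y = P (IsLocalRing.closedPoint k) := by
    intro y h
    obtain ⟨z, hz⟩ := (σ.isClosedEmbedding.isClosed_range.closure_eq ▸
      closure_mono (Set.singleton_subset_iff.2 (Set.mem_range_self _)) (specializes_iff_mem_closure.1 h) :
        AlgEqCyc.slice q q P hP y ∈ Set.range σ)
    have h1 : pullback.snd q q (σ z) = z := by
      rw [← Scheme.Hom.comp_apply, show σ ≫ pullback.snd q q = 𝟙 C from pullback.lift_snd _ _ _]; rfl
    have h2 : pullback.snd q q (AlgEqCyc.slice q q P hP y) = P (IsLocalRing.closedPoint k) := by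
      rw [← Scheme.Hom.comp_apply, show AlgEqCyc.slice q q P hP ≫ pullback.snd q q = q ≫ P from pullback.lift_snd _ _ _,
        Scheme.Hom.comp_apply]
      exact congrArg P (Subsingleton.elim _ _)
    rw [hz, h2] at h1
    rw [← h1] at hz
    exact (hs y).1 hz.symm
  unfold AlgEqCyc.fibreFun
  split_ifs with hx
  · subst hx
    have hsp : genericPoint C ⤳ P (IsLocalRing.closedPoint k) := genericPoint_specializes _
    have hsp' : σ (genericPoint C) ⤳ AlgEqCyc.slice q q P hP (P (IsLocalRing.closedPoint k)) := by
      rw [(hs _).2 rfl]; exact hsp.map σ.continuous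
    have hw : Function.locallyFinsuppWithin.single (σ (genericPoint C)) (1 : ℤ) (σ (genericPoint C)) ≠ 0 := by
      simp
    rw [finsum_eq_single _ ⟨σ (genericPoint C), hw, hsp'⟩]
    · simp only [Function.locallyFinsuppWithin.single_apply, σ]
      simp only [if_true, one_mul]
      norm_cast
      have key : ∀ (v : ↥(pullback q q)) (hv : σ (genericPoint C) ⤳ v),
          v = σ (P (IsLocalRing.closedPoint k)) → AlgEqCyc.fibreMult g v (σ (genericPoint C)) hv = 1 := by
        rintro v hv rfl
        exact Groth.Agent.H3Cyc.SectFam.fibreMult_section g σ _ _ hsp hv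
      exact key _ hsp' ((hs _).2 rfl)
    · rintro ⟨w, hw1, hw2⟩ hne
      simp only [Function.locallyFinsuppWithin.single_apply, ne_eq, ite_eq_right_iff, one_ne_zero,
        imp_false, not_not] at hw1
      exact absurd (Subtype.ext hw1) hne
  · apply finsum_eq_zero_of_forall_eq_zero
    rintro ⟨w, hw1, hw2⟩
    simp only [Function.locallyFinsuppWithin.single_apply, ne_eq, ite_eq_right_iff, one_ne_zero,
      imp_false, not_not] at hw1
    subst hw1
    exact absurd (hy x hw2) hx

end Groth.Agent.S15438

namespace Groth.Agent.S15438

open AlgebraicGeometry CategoryTheory CategoryTheory.Limits in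
/-- Let C be a scheme over a field k that is smooth over k, projective over k, integral and of dimension
one, and let P₁, P₂ be two k-rational points of C. Then the zero-cycle [P₁] − [P₂] on C is an
elementary algebraically trivial cycle: it is the difference of the members, at two k-rational
points, of a single family of cycles on C parametrised by a smooth projective integral curve over k,
every component of the family dominating the parameter curve. In particular [P₁] and [P₂] are
algebraically equivalent on C. (The published statement is over an algebraically closed field of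
characteristic zero, where the points are closed points and algebraic equivalence is considered on
smooth projective schemes; this row allows any field, asks the two points to be k-rational and asks
C to be projective over k.) -/
theorem result (k : Type u) [Field k]
    (C : Scheme.{u}) [DecidableEq ↥C] (q : C ⟶ Spec (CommRingCat.of k)) (hs : Smooth q)
    (hp : Neron.IsProjectiveOver k (Over.mk q)) (hi : IsIntegral C) (hd : topologicalKrullDim ↥C = 1)
    (P₁ P₂ : Spec (CommRingCat.of k) ⟶ C) (h₁ : P₁ ≫ q = 𝟙 _) (h₂ : P₂ ≫ q = 𝟙 _) :
    AlgEqCyc.IsElemAlgTriv q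
      (Function.locallyFinsuppWithin.single (P₁ (IsLocalRing.closedPoint k)) (1 : ℤ) -
        Function.locallyFinsuppWithin.single (P₂ (IsLocalRing.closedPoint k)) (1 : ℤ)) := by
  classical
  haveI : IsIntegral C := hi
  obtain ⟨n, i, hicl, hii⟩ := hp
  haveI : IsProper (CohB1.ProjSpaceOver.toBase n (Spec (CommRingCat.of k))) :=
    Groth.Agent.H27Weil.isProper_toBase n _
  haveI := hicl
  haveI : IsSeparated q := by
    change IsSeparated (Over.mk q).hom
    rw [← hii]
    exact MorphismProperty.comp_mem _ i _ inferInstance inferInstance
  refine ⟨C, q, hs, ⟨n, i, hicl, hii⟩, hi, hd,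
    Function.locallyFinsuppWithin.single (pullback.diagonal q (genericPoint C)) (1 : ℤ), ?_, P₁, P₂, h₁, h₂, ?_⟩
  · intro w hw
    simp only [Function.locallyFinsuppWithin.single_apply, ne_eq, ite_eq_right_iff, one_ne_zero,
      imp_false, not_not] at hw
    subst hw
    rw [← Scheme.Hom.comp_apply, show pullback.diagonal q ≫ pullback.snd q q = 𝟙 C from pullback.lift_snd _ _ _]
    exact genericPoint_closure _
  · intro x
    rw [fibreFun_diag q P₁ h₁ x, fibreFun_diag q P₂ h₂ x]
    simp [Pi.single_apply]

end Groth.Agent.S15438
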