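import Groth.Statements.S15439
import Groth.Agent.H3Cyc.SectFam
import Groth.Agent.H11Proj.ProperQProj
import Mathlib

set_option autoImplicit false
universe u
open AlgEqCyc

set_option backward.isDefEq.respectTransparency.types false
set_option linter.style.haveILetI false

namespace Groth.Agent.S15439

open AlgebraicGeometry CategoryTheory CategoryTheory.Limits

variable {k : Type u} [Field k]

/-- The member at a rational point of the family given by the graph of a closed immersion. -/
theorem fibreFun_graph {X C : Scheme.{u}} [IrreducibleSpace ↥C] [DecidableEq ↥X]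
    (p : X ⟶ Spec (CommRingCat.of k)) (q : C ⟶ Spec (CommRingCat.of k))
    (ι : C ⟶ X) (σ : C ⟶ pullback p q) [IsClosedImmersion σ] [DecidableEq ↥(pullback p q)]
    (hσ1 : σ ≫ pullback.fst p q = ι) (hσ2 : σ ≫ pullback.snd p q = 𝟙 C)
    (P : Spec (CommRingCat.of k) ⟶ C) (hP : P ≫ q = 𝟙 _) (x : X) :
    AlgEqCyc.fibreFun p q
      (Function.locallyFinsuppWithin.single (σ (genericPoint C)) (1 : ℤ)) P hP x =
      if x = ι (P (IsLocalRing.closedPoint k)) then 1 else 0 := by
  let g : pullback p q ⟶ C := pullback.snd p q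
  haveI : IsIso (σ ≫ g) := by
    rw [show σ ≫ g = 𝟙 C from hσ2]; infer_instance
  have hf : AlgEqCyc.slice p q P hP ≫ pullback.fst p q = 𝟙 X := pullback.lift_fst _ _ _
  have hg : AlgEqCyc.slice p q P hP ≫ pullback.snd p q = p ≫ P := pullback.lift_snd _ _ _
  have hιp : ι ≫ p = q := by
    rw [← hσ1, Category.assoc, pullback.condition, ← Category.assoc, hσ2, Category.id_comp]
  have hs : AlgEqCyc.slice p q P hP (ι (P (IsLocalRing.closedPoint k))) = σ (P (IsLocalRing.closedPoint k)) := by
    have h2 : (P ≫ ι) ≫ AlgEqCyc.slice p q P hP = P ≫ σ := by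
      apply pullback.hom_ext
      · simp only [Category.assoc, hf, hσ1, Category.comp_id]
      · simp only [Category.assoc, hg, hσ2, reassoc_of% hιp, reassoc_of% hP, Category.comp_id]
    exact congrArg (fun m : Spec (CommRingCat.of k) ⟶ pullback p q => m (IsLocalRing.closedPoint k)) h2
  have hy : ∀ y, σ (genericPoint C) ⤳ AlgEqCyc.slice p q P hP y → y = ι (P (IsLocalRing.closedPoint k)) := by
    intro y h
    obtain ⟨z, hz⟩ := (σ.isClosedEmbedding.isClosed_range.closure_eq ▸
      closure_mono (Set.singleton_subset_iff.2 (Set.mem_range_self _)) (specializes_iff_mem_closure.1 h) :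
        AlgEqCyc.slice p q P hP y ∈ Set.range σ)
    have h1 : pullback.snd p q (σ z) = z := by
      rw [← Scheme.Hom.comp_apply, hσ2]; rfl
    have h2 : pullback.snd p q (AlgEqCyc.slice p q P hP y) = P (IsLocalRing.closedPoint k) := by
      rw [← Scheme.Hom.comp_apply, hg, Scheme.Hom.comp_apply]
      exact congrArg P (Subsingleton.elim _ _)
    rw [hz, h2] at h1
    have h3 : pullback.fst p q (σ z) = ι z := by rw [← Scheme.Hom.comp_apply, hσ1]
    have h4 : pullback.fst p q (AlgEqCyc.slice p q P hP y) = y := by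
      rw [← Scheme.Hom.comp_apply, hf]; rfl
    rw [hz, h4, ← h1] at h3
    exact h3
  unfold AlgEqCyc.fibreFun
  split_ifs with hx
  · subst hx
    have hsp : genericPoint C ⤳ P (IsLocalRing.closedPoint k) := genericPoint_specializes _
    have hsp' : σ (genericPoint C) ⤳ AlgEqCyc.slice p q P hP (ι (P (IsLocalRing.closedPoint k))) := by
      rw [hs]; exact hsp.map σ.continuous
    have hw : Function.locallyFinsuppWithin.single (σ (genericPoint C)) (1 : ℤ) (σ (genericPoint C)) ≠ 0 := by
      simp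
    rw [finsum_eq_single _ ⟨σ (genericPoint C), hw, hsp'⟩]
    · simp only [Function.locallyFinsuppWithin.single_apply]
      simp only [if_true, one_mul]
      norm_cast
      have key : ∀ (v : ↥(pullback p q)) (hv : σ (genericPoint C) ⤳ v),
          v = σ (P (IsLocalRing.closedPoint k)) → AlgEqCyc.fibreMult g v (σ (genericPoint C)) hv = 1 := by
        rintro v hv rfl
        exact Groth.Agent.H3Cyc.SectFam.fibreMult_section g σ _ _ hsp hv
      exact key _ hsp' hs
    · rintro ⟨w, hw1, hw2⟩ hne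
      simp only [Function.locallyFinsuppWithin.single_apply, ne_eq, ite_eq_right_iff, one_ne_zero,
        imp_false, not_not] at hw1
      exact absurd (Subtype.ext hw1) hne
  · apply finsum_eq_zero_of_forall_eq_zero
    rintro ⟨w, hw1, hw2⟩
    simp only [Function.locallyFinsuppWithin.single_apply, ne_eq, ite_eq_right_iff, one_ne_zero,
      imp_false, not_not] at hw1
    subst hw1
    exact absurd (hy x hw2) hx

/-- Two rational points on a smooth projective integral curve in `X` differ by an algebraically trivial cycle. -/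
theorem isAlgEquiv_on_curve {X C : Scheme.{u}} [DecidableEq ↥X] (p : X ⟶ Spec (CommRingCat.of k))
    (q : C ⟶ Spec (CommRingCat.of k)) (ι : C ⟶ X) [IsClosedImmersion ι] (hq : ι ≫ p = q) (hs : Smooth q)
    (hp : Neron.IsProjectiveOver k (Over.mk q)) [IsIntegral C] (hd : topologicalKrullDim ↥C = 1)
    (P₁ P₂ : Spec (CommRingCat.of k) ⟶ C) (h₁ : P₁ ≫ q = 𝟙 _) (h₂ : P₂ ≫ q = 𝟙 _) :
    AlgEqCyc.IsAlgEquiv p
      (Function.locallyFinsuppWithin.single (ι (P₁ (IsLocalRing.closedPoint k))) (1 : ℤ))
      (Function.locallyFinsuppWithin.single (ι (P₂ (IsLocalRing.closedPoint k))) (1 : ℤ)) := by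
  classical
  obtain ⟨n, i, hicl, hii⟩ := hp
  haveI : IsProper (CohB1.ProjSpaceOver.toBase n (Spec (CommRingCat.of k))) :=
    Groth.Agent.H27Weil.isProper_toBase n _
  haveI := hicl
  haveI : IsSeparated q := by
    change IsSeparated (Over.mk q).hom
    rw [← hii]
    exact MorphismProperty.comp_mem _ i _ inferInstance inferInstance
  let σ : C ⟶ pullback p q := pullback.lift ι (𝟙 C) (by rw [hq, Category.id_comp])
  have hσ1 : σ ≫ pullback.fst p q = ι := pullback.lift_fst _ _ _
  have hσ2 : σ ≫ pullback.snd p q = 𝟙 C := pullback.lift_snd _ _ _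
  haveI : IsClosedImmersion (σ ≫ pullback.fst p q) := by rw [hσ1]; infer_instance
  haveI : IsClosedImmersion σ := IsClosedImmersion.of_comp σ (pullback.fst p q)
  refine AddSubgroup.subset_closure ⟨C, q, hs, ⟨n, i, hicl, hii⟩, inferInstance, hd,
    Function.locallyFinsuppWithin.single (σ (genericPoint C)) (1 : ℤ), ?_, P₁, P₂, h₁, h₂, ?_⟩
  · intro w hw
    simp only [Function.locallyFinsuppWithin.single_apply, ne_eq, ite_eq_right_iff, one_ne_zero,
      imp_false, not_not] at hw
    subst hw
    rw [← Scheme.Hom.comp_apply, hσ2]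
    exact genericPoint_closure _
  · intro x
    rw [fibreFun_graph p q ι σ hσ1 hσ2 P₁ h₁ x, fibreFun_graph p q ι σ hσ1 hσ2 P₂ h₂ x]
    simp [Pi.single_apply]

end Groth.Agent.S15439

namespace Groth.Agent.S15439

open AlgebraicGeometry CategoryTheory CategoryTheory.Limits in
/-- Let k be an algebraically closed field, X a scheme over k and C₁, …, Cₙ finitely many closed
subschemes of X, given as closed immersions ιᵢ : Cᵢ → X over k, such that each Cᵢ is smooth over k,
projective over k, integral and of dimension one and such that the union of the ιᵢ(Cᵢ) is a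
connected subset of X. Then for any two k-rational points P and Q of X lying on this union, the
zero-cycles [P] and [Q] on X are algebraically equivalent: [P] − [Q] lies in the subgroup of cycles
on X generated by the elementary algebraically trivial ones. (The published statement speaks of a
connected curve whose irreducible components are smooth and integral and of two of its points,
inside an ambient smooth projective scheme over an algebraically closed field of characteristic
zero; this row takes any finite family of such curves with connected union in any k-scheme X, k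
algebraically closed, and k-rational points.) -/
theorem result (k : Type u) [Field k]
    [IsAlgClosed k] (X : Scheme.{u}) [DecidableEq ↥X] (p : X ⟶ Spec (CommRingCat.of k)) (n : ℕ)
    (C : Fin n → Scheme.{u}) (q : (i : Fin n) → (C i ⟶ Spec (CommRingCat.of k)))
    (ι : (i : Fin n) → (C i ⟶ X)) (hι : ∀ i, IsClosedImmersion (ι i)) (hq : ∀ i, ι i ≫ p = q i)
    (hs : ∀ i, Smooth (q i)) (hpr : ∀ i, Neron.IsProjectiveOver k (Over.mk (q i)))
    (hint : ∀ i, IsIntegral (C i)) (hd : ∀ i, topologicalKrullDim ↥(C i) = 1)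
    (hconn : _root_.IsConnected (⋃ i, Set.range ⇑(ι i)))
    (P Q : Spec (CommRingCat.of k) ⟶ X) (hP : P ≫ p = 𝟙 _) (hQ : Q ≫ p = 𝟙 _)
    (hPC : P (IsLocalRing.closedPoint k) ∈ ⋃ i, Set.range ⇑(ι i))
    (hQC : Q (IsLocalRing.closedPoint k) ∈ ⋃ i, Set.range ⇑(ι i)) :
    AlgEqCyc.IsAlgEquiv p (Function.locallyFinsuppWithin.single (P (IsLocalRing.closedPoint k)) (1 : ℤ))
      (Function.locallyFinsuppWithin.single (Q (IsLocalRing.closedPoint k)) (1 : ℤ)) := by
  classical
  haveI := hι; haveI := hint; haveI := hs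
  haveI : ∀ i, LocallyOfFiniteType (q i) := fun i => inferInstance
  haveI : ∀ i, JacobsonSpace ↥(C i) := fun i => LocallyOfFiniteType.jacobsonSpace (q i)
  have hrat : ∀ (i) (z : C i), IsClosed ({z} : Set (C i)) →
      ∃ t : Spec (CommRingCat.of k) ⟶ C i, t ≫ q i = 𝟙 _ ∧ t (IsLocalRing.closedPoint k) = z := fun i z hz =>
    ⟨pointOfClosedPoint (q i) z hz, pointOfClosedPoint_comp _ _ _, pointOfClosedPoint_apply _ _ _ _⟩
  have hlift : ∀ (R : Spec (CommRingCat.of k) ⟶ X), R ≫ p = 𝟙 _ → ∀ i,
      R (IsLocalRing.closedPoint k) ∈ Set.range (ι i) →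
      ∃ z : C i, IsClosed ({z} : Set (C i)) ∧ ι i z = R (IsLocalRing.closedPoint k) := by
    intro R hR i hi
    obtain ⟨z, hz⟩ := hi
    obtain ⟨a, ha1, ha2⟩ := Scheme.Pullback.exists_preimage_pullback (f := R) (g := ι i)
      (IsLocalRing.closedPoint k) z hz.symm
    haveI : Surjective (pullback.fst R (ι i)) := ⟨fun y => ⟨a, ha1.trans (Subsingleton.elim _ _)⟩⟩
    haveI : IsIso (pullback.fst R (ι i)) := isIso_of_isClosedImmersion_of_surjective _
    let s := inv (pullback.fst R (ι i)) ≫ pullback.snd R (ι i)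
    have hsι : s ≫ ι i = R := by simp [s, ← pullback.condition]
    have hsq : s ≫ q i = 𝟙 _ := by rw [← hq i, reassoc_of% hsι, hR]
    refine ⟨s (IsLocalRing.closedPoint k), (pointEquivClosedPoint (q i) ⟨s, hsq⟩).2, ?_⟩
    rw [← Scheme.Hom.comp_apply, hsι]
  have hsame : ∀ (i) (z z' : C i), IsClosed ({z} : Set (C i)) → IsClosed ({z'} : Set (C i)) →
      AlgEqCyc.IsAlgEquiv p (Function.locallyFinsuppWithin.single (ι i z) (1 : ℤ))
        (Function.locallyFinsuppWithin.single (ι i z') (1 : ℤ)) := by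
    intro i z z' hz hz'
    obtain ⟨t, ht, rfl⟩ := hrat i z hz
    obtain ⟨t', ht', rfl⟩ := hrat i z' hz'
    exact isAlgEquiv_on_curve p (q i) (ι i) (hq i) (hs i) (hpr i) (hd i) t t' ht ht'
  let x₀ : X := P (IsLocalRing.closedPoint k)
  let S : Set (Fin n) := {i | ∀ z : C i, IsClosed ({z} : Set (C i)) →
    AlgEqCyc.IsAlgEquiv p (Function.locallyFinsuppWithin.single x₀ (1 : ℤ))
      (Function.locallyFinsuppWithin.single (ι i z) (1 : ℤ))}
  have htrans : ∀ {a b c : AlgebraicCycle X ℤ}, AlgEqCyc.IsAlgEquiv p a b → AlgEqCyc.IsAlgEquiv p b c →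
      AlgEqCyc.IsAlgEquiv p a c := fun {a b c} h1 h2 => by
    have := add_mem h1 h2
    unfold AlgEqCyc.IsAlgEquiv
    rwa [sub_add_sub_cancel] at this
  obtain ⟨i₀, hi₀⟩ := Set.mem_iUnion.1 hPC
  have hi₀S : i₀ ∈ S := by
    obtain ⟨z₀, hz₀, e⟩ := hlift P hP i₀ hi₀
    intro z hz
    have := hsame i₀ z₀ z hz₀ hz
    rwa [e] at this
  have hadj : ∀ i j, i ∈ S → (Set.range (ι i) ∩ Set.range (ι j)).Nonempty → j ∈ S := by
    intro i j hi hne z hz
    have hF : IsClosed ((ι i) ⁻¹' Set.range (ι j)) :=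
      ((ι j).isClosedEmbedding.isClosed_range).preimage (ι i).continuous
    obtain ⟨x, ⟨a, ha⟩, ⟨b, hb⟩⟩ := hne
    obtain ⟨c, hc1, hc2⟩ := nonempty_inter_closedPoints (⟨a, b, hb.trans ha.symm⟩ : ((ι i) ⁻¹' Set.range (ι j)).Nonempty)
      hF.isLocallyClosed
    obtain ⟨d, hd'⟩ := hc1
    have hdc : IsClosed ({d} : Set (C j)) := by
      have h1 : IsClosed ({ι i c} : Set X) := by
        simpa using (ι i).isClosedEmbedding.isClosedMap _ hc2
      have h2 := h1.preimage (ι j).continuous
      rwa [← hd', ← Set.image_singleton, Set.preimage_image_eq _ (ι j).isClosedEmbedding.injective] at h2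
    refine htrans (hi c hc2) ?_
    rw [← hd']
    exact hsame j d z hdc hz
  have hall : ∀ i, (Set.range (ι i)).Nonempty → i ∈ S := by
    intro i hne
    by_contra hiS
    have hA : IsClosed (⋃ j ∈ S, Set.range (ι j)) :=
      S.toFinite.isClosed_biUnion fun j _ => (ι j).isClosedEmbedding.isClosed_range
    have hB : IsClosed (⋃ j ∈ Sᶜ, Set.range (ι j)) :=
      Sᶜ.toFinite.isClosed_biUnion fun j _ => (ι j).isClosedEmbedding.isClosed_range
    obtain ⟨y, hy⟩ := hne
    obtain ⟨w, -, hwA, hwB⟩ := isPreconnected_closed_iff.1 hconn.isPreconnected _ _ hA hB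
      (fun w hw => by
        obtain ⟨j, hj⟩ := Set.mem_iUnion.1 hw
        by_cases hjS : j ∈ S
        · exact Or.inl (Set.mem_biUnion hjS hj)
        · exact Or.inr (Set.mem_biUnion hjS hj))
      ⟨x₀, hPC, Set.mem_biUnion hi₀S hi₀⟩ ⟨y, Set.mem_iUnion.2 ⟨i, hy⟩, Set.mem_biUnion hiS hy⟩
    obtain ⟨j₁, h1, h1'⟩ := Set.mem_iUnion₂.1 hwA
    obtain ⟨j₂, h2, h2'⟩ := Set.mem_iUnion₂.1 hwB
    exact h2 (hadj j₁ j₂ h1 ⟨w, h1', h2'⟩)
  obtain ⟨j, hj⟩ := Set.mem_iUnion.1 hQC
  obtain ⟨z, hz, e⟩ := hlift Q hQ j hj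
  have := hall j ⟨_, hj⟩ z hz
  rwa [e] at this

end Groth.Agent.S15439
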