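import Groth.Statements.S15440
import Groth.Agent.H3Cyc.PointsAlg
import Groth.Agent.H3Cyc.KIntNum
import Groth.Agent.H8Props.DvrCurve.GeomInt

set_option autoImplicit false
universe u
open AlgEqCyc

set_option backward.isDefEq.respectTransparency.types false
set_option linter.style.haveILetI false

namespace Groth.Agent.S15440

open AlgebraicGeometry CategoryTheory CategoryTheory.Limits

/-- A closed point of a scheme locally of finite type over an algebraically closed field has degree one. -/
theorem residueDegree_closed {k : Type u} [Field k] [IsAlgClosed k] {X : Scheme.{u}}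
    (p : X ⟶ Spec (CommRingCat.of k)) [LocallyOfFiniteType p] (x : X) (hx : IsClosed ({x} : Set X)) :
    p.residueDegree x = 1 := by
  let t := pointOfClosedPoint p x hx
  have key : Function.Surjective (p.residueFieldMap x) := by
    have hk : ∀ (y : X), y = t (IsLocalRing.closedPoint k) → Function.Surjective (p.residueFieldMap y) := by
      rintro _ rfl b
      haveI : IsIso (t ≫ p) := by
        rw [show t ≫ p = 𝟙 _ from pointOfClosedPoint_comp p x hx]; infer_instance
      obtain ⟨c, hc⟩ := H3Cyc.SpFun.surjective_residueFieldMap (t ≫ p) (IsLocalRing.closedPoint k)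
        (t.residueFieldMap _ b)
      rw [Scheme.residueFieldMap_comp] at hc
      exact ⟨c, (t.residueFieldMap _).hom.injective hc⟩
    exact hk x (pointOfClosedPoint_apply p x hx _).symm
  letI := (p.residueFieldMap x).hom.toAlgebra
  let e := LinearEquiv.ofBijective (Algebra.linearMap ((Spec (CommRingCat.of k)).residueField (p x)) (X.residueField x))
    ⟨(p.residueFieldMap x).hom.injective, key⟩
  exact e.finrank_eq.symm.trans (Module.finrank_self _)

end Groth.Agent.S15440

namespace Groth.Agent.S15440

open AlgebraicGeometry CategoryTheory CategoryTheory.Limits in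
/-- Let k be an algebraically closed field of characteristic zero and X a connected scheme, smooth and
projective over k, with structure morphism p; let δ be the weight function on X induced from weight
0 on the point Spec k and let α be a zero-cycle on X for δ whose degree over k is zero. Then α is
algebraically equivalent to zero on X. (This is one inclusion of the published statement, which
asserts that on such an X the zero-cycles of degree zero, identified there with the homologically
trivial ones for a fixed Weil cohomology, are exactly the algebraically trivial zero-cycles; the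
reverse inclusion is not stated here.) -/
theorem result (k : Type u) [Field k]
    [IsAlgClosed k] [CharZero k] (X : Scheme.{u}) (p : X ⟶ Spec (CommRingCat.of k)) [QuasiCompact p]
    (hs : Smooth p) (hp : Neron.IsProjectiveOver k (Over.mk p)) (hc : ConnectedSpace ↥X)
    (δ : ↥X → ℤ) (hδ : Cyc.DeltaCompat p δ (fun _ => 0)) (α : AlgebraicCycle X ℤ)
    (hα : α ∈ Cyc.Zk X δ 0) (hdeg : ChowOps.deg p δ α = 0) :
    AlgEqCyc.IsAlgEquivZero p α := by
  classical
  obtain ⟨n, i₀, hicl, hii⟩ := hp
  haveI := hicl
  haveI : IsProper (CohB1.ProjSpaceOver.toBase n (Spec (CommRingCat.of k))) :=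
    Groth.Agent.H27Weil.isProper_toBase n _
  haveI : IsProper p := by
    change IsProper (Over.mk p).hom
    rw [← hii]
    infer_instance
  letI : X.Over (Spec (CommRingCat.of k)) := ⟨p⟩
  haveI : IsProper (X ↘ Spec (CommRingCat.of k)) := inferInstanceAs (IsProper p)
  haveI := H28Int.isNoetherian k (X := X)
  haveI := hc
  haveI := hs
  haveI : IsIntegral X := H8Props.DvrCurve.isIntegral_of_smooth_connected p
  obtain ⟨φ, hφ⟩ := H22Alg.PnBC.isPullback_projSpaceOver n k
  let i : X ⟶ CohB1.ProjSpace n k := i₀ ≫ φ.hom
  haveI : IsClosedImmersion i := inferInstanceAs (IsClosedImmersion (i₀ ≫ φ.hom))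
  have hi : i ≫ CohB1.ProjSpace.toSpec n k = p := by
    show (i₀ ≫ φ.hom) ≫ _ = p
    rw [Category.assoc, hφ]
    exact hii
  have hfin : (Function.support ⇑α).Finite := by
    choose N hN hNf using fun x : X => α.supportLocallyFiniteWithinDomain x trivial
    obtain ⟨T, hT⟩ := isCompact_univ.elim_nhds_subcover' (fun x _ => N x) (fun x _ => hN x)
    refine (T.finite_toSet.biUnion fun x _ => hNf x).subset fun z hz => ?_
    obtain ⟨x, hx, hzx⟩ := Set.mem_iUnion₂.1 (hT (Set.mem_univ z))
    exact Set.mem_iUnion₂.2 ⟨x, hx, hzx, hz⟩
  have hclosed : ∀ x, α x ≠ 0 → IsClosed ({x} : Set X) := fun x hx =>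
    H3Cyc.KDegree.isClosed_of_zero hδ (by_contra fun h => hx (hα x h))
  have hsum : ∑ x ∈ hfin.toFinset, α x = 0 := by
    have h := H3Cyc.KIntNum.deg_cycle (k := k) (X := X) (δ := δ) hδ α hα
    change ChowOps.deg p δ α = _ at h
    rw [hdeg] at h
    rw [h]
    show _ = ∑ᶠ x, _
    rw [finsum_eq_sum_of_support_subset (s := hfin.toFinset)]
    · refine Finset.sum_congr rfl fun x hx => ?_
      rw [Set.Finite.mem_toFinset, Function.mem_support] at hx
      have := residueDegree_closed p x (hclosed x hx)
      change (X ↘ Spec (CommRingCat.of k)).residueDegree x = 1 at this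
      rw [this]; simp
    · intro x hx
      simp only [Function.mem_support] at hx
      simp only [Set.Finite.coe_toFinset, Function.mem_support]
      exact right_ne_zero_of_mul hx
  by_cases hne : hfin.toFinset.Nonempty
  swap
  · rw [Finset.not_nonempty_iff_eq_empty, Set.Finite.toFinset_eq_empty, Function.support_eq_empty_iff] at hne
    rw [show α = 0 from DFunLike.coe_injective hne]
    exact zero_mem _
  obtain ⟨x₀, hx₀⟩ := hne
  rw [Set.Finite.mem_toFinset, Function.mem_support] at hx₀
  have hdec : α = ∑ x ∈ hfin.toFinset, α x •
      (Function.locallyFinsuppWithin.single x (1 : ℤ) - Function.locallyFinsuppWithin.single x₀ (1 : ℤ)) := by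
    simp only [smul_sub, Finset.sum_sub_distrib, ← Finset.sum_smul, hsum, zero_smul, sub_zero]
    ext z
    rw [Function.locallyFinsuppWithin.coe_sum, Finset.sum_apply, Finset.sum_eq_single z]
    · simp
    · intro b _ hb
      simp [hb.symm]
    · intro hz
      have : α z = 0 := by simpa using hz
      simp [this]
  unfold AlgEqCyc.IsAlgEquivZero
  rw [hdec]
  refine sum_mem fun x hx => zsmul_mem ?_ _
  rw [Set.Finite.mem_toFinset, Function.mem_support] at hx
  exact H3Cyc.PointsAlg.isAlgEquiv_of_specializes p hδ n i hi (genericPoint X) x x₀ (genericPoint_specializes x)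
    (genericPoint_specializes x₀) (hclosed x hx) (hclosed x₀ hx₀)

end Groth.Agent.S15440
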