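import Groth.Statements.S15445
import Groth.Agent.H27Weil.Dimension

set_option autoImplicit false
universe u v
open CategoryTheory AlgebraicGeometry
open WeilCoh

namespace Groth.Agent.S15445

/-- Let H^* be a Weil cohomology theory (coefficients in K of characteristic zero, on nonsingular
connected projective varieties over an algebraically closed field k) and f : X → Y a generically
finite surjective morphism of degree d between such varieties. Then Tr_X(f^*(α)) = d · Tr_Y(α) for
every α ∈ H^{2 dim Y}(Y). Here f is taken dominant (generic point to generic point) with dim X = dim
Y, which for these proper varieties is the same as generically finite and surjective, and d is the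
degree of the function field of X over that of Y, the residue degree of f at the generic point. -/
theorem result (k : Type u) [Field k] [IsAlgClosed k] (K : Type v) [Field K] [CharZero K]
    (T : WeilCoh.Theory k K) (X Y : WeilCoh.Var k)
    [IrreducibleSpace ↥X.obj.left] [IrreducibleSpace ↥Y.obj.left] (f : X ⟶ Y)
    (hdom : WeilCoh.sm f (genericPoint ↥X.obj.left) = genericPoint ↥Y.obj.left)
    (hdim : WeilCoh.dim X.obj.left = WeilCoh.dim Y.obj.left) (a : T.H Y)
    (ha : a ∈ T.gr Y (2 * (WeilCoh.dim Y.obj.left : ℤ))) :
    T.tr X (T.pull f a) = ((WeilCoh.sm f).residueDegree (genericPoint ↥X.obj.left) : K) * T.tr Y a := by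
  exact H27Weil.tr_pull_of_dominant T f hdom hdim ha

end Groth.Agent.S15445
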