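import Groth.Statements.S15449
import Groth.Agent.H27Weil.Dimension

set_option autoImplicit false
universe u v
open CategoryTheory AlgebraicGeometry
open WeilCoh

namespace Groth.Agent.S15449

/-- For a Weil cohomology theory H^* (coefficients in K of characteristic zero, on nonsingular connected
projective varieties over an algebraically closed field k), such varieties X and Y with product X ×
Y and projections p, q, and α ∈ H^i(Y): p_*(q^*(α)) = Tr_Y(α) (as a multiple of 1 ∈ H^0(X)) if i = 2
dim Y, and p_*(q^*(α)) = 0 otherwise. The product is any object Q with morphisms p : Q → X, q : Q →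
Y forming a cartesian square over Spec k; both sides are read in the total cohomology ring of X. -/
theorem result (k : Type u) [Field k] [IsAlgClosed k] (K : Type v) [Field K] [CharZero K]
    (T : WeilCoh.Theory k K) (X Y Q : WeilCoh.Var k) (p : Q ⟶ X) (q : Q ⟶ Y)
    (hQ : WeilCoh.IsProd p q) (i : ℤ) (a : ↥(T.gr Y i)) :
    (i = 2 * (WeilCoh.dim Y.obj.left : ℤ) →
      (T.push p i ⟨T.pull q a, T.pull_mem q i a a.2⟩ : T.H X) = algebraMap K (T.H X) (T.tr Y a)) ∧
    (i ≠ 2 * (WeilCoh.dim Y.obj.left : ℤ) →
      (T.push p i ⟨T.pull q a, T.pull_mem q i a a.2⟩ : T.H X) = 0) := by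
  exact H27Weil.push_fst_pull_snd T p q hQ i a

end Groth.Agent.S15449
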