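import Groth.Statements.S1546
import Mathlib
import Groth.Agent.H22Alg.FieldIrred

set_option autoImplicit false
universe u
open CategoryTheory CategoryTheory.Limits AlgebraicGeometry
open Variety

namespace Groth.Agent.S1546

/-- For a field extension K of k and a scheme X over k, the image in X of an irreducible component of
X_K is an irreducible component of X, and every irreducible component of X is such an image. -/
theorem result (k : Type u) [Field k] (X : Scheme.{u}) [X.Over (Spec (CommRingCat.of k))] (K : Type u) [Field K] [Algebra k K] :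
    (∀ T ∈ irreducibleComponents (Curv2.bc k X K : Type u), (Curv2.bcFst k X K).base '' T ∈ irreducibleComponents (X : Type u)) ∧
    (∀ Z ∈ irreducibleComponents (X : Type u), ∃ T ∈ irreducibleComponents (Curv2.bc k X K : Type u), (Curv2.bcFst k X K).base '' T = Z) := by
  refine ⟨fun T hT => Groth.Agent.H22Alg.FieldIrred.image_irreducibleComponent (X ↘ Spec (CommRingCat.of k)) K hT, fun Z hZ => ?_⟩
  obtain ⟨η, hη, rfl⟩ := Groth.Agent.H22Alg.FieldIrred.eq_closure_of_mem_irreducibleComponents hZ
  obtain ⟨z, hz⟩ := Groth.Agent.H22Alg.GaloisFibres.surjective_bcπ (X ↘ Spec (CommRingCat.of k)) K η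
  obtain ⟨ξ, hξ, -, hξη⟩ := Groth.Agent.H22Alg.FieldIrred.exists_genericPoint_specializes (X ↘ Spec (CommRingCat.of k)) K z hη
    (specializes_of_eq hz.symm)
  exact ⟨closure {ξ}, hξ, (Groth.Agent.H22Alg.FieldIrred.image_closure (X ↘ Spec (CommRingCat.of k)) K hξ).trans (congrArg (fun y => closure ({y} : Set X)) hξη)⟩

end Groth.Agent.S1546
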