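import Groth.Statements.S15460
import Groth.Agent.H27LangWeil.Abscissa

set_option autoImplicit false
universe u
open CategoryTheory AlgebraicGeometry
open Zeta

namespace Groth.Agent.S15460

/-- If X is an arithmetic scheme (a scheme of finite type over ℤ) of dimension r, the abscissa of
convergence of its zeta function L_X(s) = Σ_{n ≥ 1} a_n n^{−s}, where a_n is the number of effective
0-cycles on X of norm n (nonnegative coefficients, so convergence and absolute convergence agree),
is ρ = r. -/
theorem result {X : Scheme.{u}}
    (f : X ⟶ Spec (CommRingCat.of (ULift.{u} ℤ))) [LocallyOfFiniteType f] [QuasiCompact f] (r : ℕ)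
    (hr : topologicalKrullDim X = r) :
    LSeries.abscissaOfAbsConv (Zeta.arithCoeff X) = (r : ℝ) := by
  exact Groth.Agent.H27LangWeil.abscissa_eq f r hr

end Groth.Agent.S15460
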