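import Groth.Statements.S15465
import Mathlib.CategoryTheory.Abelian.Refinements
import Mathlib.CategoryTheory.Abelian.Exact
import Mathlib.Algebra.Homology.ShortComplex.PreservesHomology

set_option autoImplicit false
universe v u
open HomAlg

namespace Groth.Agent.S15465

open CategoryTheory CategoryTheory.Limits

open CategoryTheory CategoryTheory.Limits in
/-- In an abelian category let 0 → A₂ → B₂ → C₂ → 0 (maps i₂, π₂), 0 → A₁ → A₂ → A₃ → 0 (maps i₁, p₁)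
and 0 → C₁ → C₂ → C₃ → 0 (maps j, q) be short exact sequences, let α = i₁ ≫ i₂ : A₁ → B₂ and β = π₂
≫ q : B₂ → C₃, and let K = ker β / im α be the homology object of the complex A₁ → B₂ → C₃. Let f :
A₃ → K be the map induced by i₂ (the unique map whose composite with p₁ is the homology class of the
cycle i₂) and g : K → C₁ the map induced by π₂ (the unique map whose composite with j is the map K →
C₂ induced by π₂). Then 0 → A₃ → K → C₁ → 0, with maps f and g, is a short exact sequence. (The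
hypotheses w, h₂, h₃ are consequences of i₂ ≫ π₂ = 0, carried so that the maps can be named; the
published statement assumes in addition that the category has enough injective objects, which plays
no role in this assertion.) -/
theorem result
    {C : Type u} [Category.{v} C] [Abelian C] {A₁ A₂ A₃ B₂ C₁ C₂ C₃ : C}
    (i₁ : A₁ ⟶ A₂) (p₁ : A₂ ⟶ A₃) (wA : i₁ ≫ p₁ = 0) (hA : (ShortComplex.mk i₁ p₁ wA).ShortExact)
    (i₂ : A₂ ⟶ B₂) (π₂ : B₂ ⟶ C₂) (wB : i₂ ≫ π₂ = 0) (hB : (ShortComplex.mk i₂ π₂ wB).ShortExact)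
    (j : C₁ ⟶ C₂) (q : C₂ ⟶ C₃) (wC : j ≫ q = 0) (hC : (ShortComplex.mk j q wC).ShortExact)
    (w : (i₁ ≫ i₂) ≫ (π₂ ≫ q) = 0) (h₂ : i₂ ≫ (π₂ ≫ q) = 0) (h₃ : (i₁ ≫ i₂) ≫ π₂ = 0)
    (f : A₃ ⟶ (CategoryTheory.ShortComplex.mk (i₁ ≫ i₂) (π₂ ≫ q) w).homology)
    (g : (CategoryTheory.ShortComplex.mk (i₁ ≫ i₂) (π₂ ≫ q) w).homology ⟶ C₁)
    (hf : p₁ ≫ f = (CategoryTheory.ShortComplex.mk (i₁ ≫ i₂) (π₂ ≫ q) w).liftCycles i₂ h₂ ≫ (CategoryTheory.ShortComplex.mk (i₁ ≫ i₂) (π₂ ≫ q) w).homologyπ)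
    (hg : g ≫ j = (CategoryTheory.ShortComplex.mk (i₁ ≫ i₂) (π₂ ≫ q) w).homologyι ≫ (CategoryTheory.ShortComplex.mk (i₁ ≫ i₂) (π₂ ≫ q) w).descOpcycles π₂ h₃) :
    ∃ wfg : f ≫ g = 0, (ShortComplex.mk f g wfg).ShortExact := by
  let S := CategoryTheory.ShortComplex.mk (i₁ ≫ i₂) (π₂ ≫ q) w
  have key : ∀ {T : C} (x : T ⟶ B₂) (hx : x ≫ π₂ ≫ q = 0),
      S.liftCycles x hx ≫ S.homologyπ ≫ g ≫ j = x ≫ π₂ := by
    intro T x hx
    rw [hg, ← Category.assoc S.homologyπ, S.homology_π_ι, Category.assoc]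
    simp [S]
  have hp := hA.epi_g
  have hjm := hC.mono_f
  have hπ₂ := hB.epi_g
  have hi₂ := hB.mono_f
  have hpe : Epi p₁ := hp
  have hjmono : Mono j := hjm
  have wfg : f ≫ g = 0 := by
    rw [← cancel_epi p₁, ← cancel_mono j, Category.assoc, Category.assoc, reassoc_of% hf]
    erw [key i₂ h₂]
    rw [wB]; simp
  refine ⟨wfg, { exact := ?_, mono_f := ?_, epi_g := ?_ }⟩
  · rw [ShortComplex.exact_iff_exact_up_to_refinements]
    intro T (x : T ⟶ S.homology) (hx : x ≫ g = 0)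
    obtain ⟨T₁, π, _, z, hz, hzx⟩ := S.eq_liftCycles_homologyπ_up_to_refinements x
    have h₁ : z ≫ π₂ = 0 := by
      rw [← key z hz, ← reassoc_of% hzx, reassoc_of% hx]; simp
    obtain ⟨T₂, π', _, (a : T₂ ⟶ A₂), (ha : π' ≫ z = a ≫ i₂)⟩ :=
      hB.exact.exact_up_to_refinements z h₁
    refine ⟨T₂, π' ≫ π, epi_comp _ _, a ≫ p₁, ?_⟩
    change (π' ≫ π) ≫ x = (a ≫ p₁) ≫ f
    rw [Category.assoc, Category.assoc, hzx, hf, ← Category.assoc, ← Category.assoc a]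
    congr 1
    rw [← cancel_mono S.iCycles]
    simp [ha]
    exact congrArg (a ≫ ·) (S.liftCycles_i i₂ h₂).symm
  · refine Preadditive.mono_of_cancel_zero _ fun {T} y hy => ?_
    change y ≫ f = 0 at hy
    obtain ⟨T₁, π, _, a, ha⟩ := surjective_up_to_refinements_of_epi p₁ y
    have h₁ : S.liftCycles (a ≫ i₂) (by simp [S, h₂]) ≫ S.homologyπ = 0 := by
      rw [show S.liftCycles (a ≫ i₂) (by simp [S, h₂]) = a ≫ S.liftCycles i₂ h₂ by
        rw [← cancel_mono S.iCycles]; simp, Category.assoc]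
      erw [← hf]
      rw [← reassoc_of% ha, hy, comp_zero]
    obtain ⟨T₂, π', _, (v : T₂ ⟶ A₁), (hv : π' ≫ a ≫ i₂ = v ≫ i₁ ≫ i₂)⟩ :=
      (S.liftCycles_comp_homologyπ_eq_zero_iff_up_to_refinements _ _).1 h₁
    have h₂' : π' ≫ a = v ≫ i₁ := by
      have : Mono i₂ := hi₂
      rw [← cancel_mono i₂, Category.assoc, Category.assoc, hv]
    rw [← cancel_epi π, ha, comp_zero, ← cancel_epi π', comp_zero, reassoc_of% h₂', wA, comp_zero]
  · rw [epi_iff_surjective_up_to_refinements]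
    intro T (x : T ⟶ C₁)
    obtain ⟨T₁, π, _, (z : T₁ ⟶ B₂), (hz : π ≫ x ≫ j = z ≫ π₂)⟩ :=
      surjective_up_to_refinements_of_epi (ShortComplex.mk i₂ π₂ wB).g (x ≫ j)
    have hzq : z ≫ π₂ ≫ q = 0 := by
      rw [← reassoc_of% hz, wC]; simp
    refine ⟨T₁, π, inferInstance, S.liftCycles z hzq ≫ S.homologyπ, ?_⟩
    change π ≫ x = (S.liftCycles z hzq ≫ S.homologyπ) ≫ g
    rw [← cancel_mono j, Category.assoc, Category.assoc, Category.assoc, key z hzq, hz]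

end Groth.Agent.S15465
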