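import Groth.Statements.S15466
import Groth.Agent.H16Derived.SpFil.Strict
import Mathlib.Algebra.Homology.ShortComplex.Exact

set_option autoImplicit false
universe v u
open HomAlg

namespace Groth.Agent.S15466

set_option linter.style.haveILetI false
section
open CategoryTheory CategoryTheory.Limits Groth.Agent.H16Derived.SpFil
variable {C : Type u} [Category.{v} C] [Abelian C] {A₁ A₂ A₃ B₂ C₁ C₂ C₃ Z K : C}
  (m : Z ⟶ B₂) [Mono m] (π : Z ⟶ K) [Epi π]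

/-- The subobject attached to a map into the homology. -/
noncomputable def nineSub (s : C₁ ⟶ K) : Subobject B₂ :=
  (Subobject.map m).obj ((Subobject.pullback π).obj (imageSubobject s))

lemma factors_map_iff (S : Subobject Z) {T : C} (b : T ⟶ B₂) :
    ((Subobject.map m).obj S).Factors b ↔ ∃ z : T ⟶ Z, S.Factors z ∧ z ≫ m = b := by
  have e : (Subobject.map m).obj S = Subobject.mk (S.arrow ≫ m) := by
    conv_lhs => rw [← Subobject.mk_arrow S]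
    exact Subobject.map_mk _ _
  rw [e, Subobject.mk_factors_iff]
  constructor
  · rintro ⟨w, rfl⟩
    exact ⟨w ≫ S.arrow, Subobject.factors_comp_arrow w, Category.assoc _ _ _⟩
  · rintro ⟨z, hz, rfl⟩
    exact ⟨S.factorThru z hz, (Category.assoc _ _ _).symm.trans (congrArg (· ≫ m) (Subobject.factorThru_arrow _ _ _))⟩

variable {g : K ⟶ C₁}

lemma nineSub_factors_iff {s : C₁ ⟶ K} (hs : s ≫ g = 𝟙 C₁) {T : C} (b : T ⟶ B₂) :
    (nineSub m π s).Factors b ↔ ∃ z : T ⟶ Z, z ≫ m = b ∧ z ≫ π = ((z ≫ π) ≫ g) ≫ s := by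
  haveI : Mono s := mono_of_mono_fac hs
  rw [nineSub, factors_map_iff m]
  constructor
  · rintro ⟨z, hz, rfl⟩
    rw [factors_pullback_iff, imageSubobject_mono, Subobject.mk_factors_iff] at hz
    obtain ⟨t, ht⟩ : ∃ t : T ⟶ C₁, t ≫ s = z ≫ π := hz
    refine ⟨z, rfl, ?_⟩
    rw [← ht, Category.assoc t s g, hs, Category.comp_id]
  · rintro ⟨z, rfl, hz⟩
    refine ⟨z, ?_, rfl⟩
    rw [factors_pullback_iff, imageSubobject_mono, Subobject.mk_factors_iff]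
    exact ⟨(z ≫ π) ≫ g, hz.symm⟩

variable {i₁ : A₁ ⟶ A₂} {p₁ : A₂ ⟶ A₃} {wA : i₁ ≫ p₁ = 0} {i₂ : A₂ ⟶ B₂} {π₂ : B₂ ⟶ C₂}
  {wB : i₂ ≫ π₂ = 0} {j : C₁ ⟶ C₂} {q : C₂ ⟶ C₃} {wC : j ≫ q = 0}

/-- The property of a subobject completing the diagram. -/
def Nine (i₁ : A₁ ⟶ A₂) (p₁ : A₂ ⟶ A₃) (i₂ : A₂ ⟶ B₂) (π₂ : B₂ ⟶ C₂) (j : C₁ ⟶ C₂) (q : C₂ ⟶ C₃)
    (B₁ : Subobject B₂) : Prop :=
  ∃ (a : A₁ ⟶ (B₁ : C)) (c : (B₁ : C) ⟶ C₁) (wac : a ≫ c = 0)
    (a' : A₃ ⟶ cokernel B₁.arrow) (c' : cokernel B₁.arrow ⟶ C₃) (wac' : a' ≫ c' = 0),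
    a ≫ B₁.arrow = i₁ ≫ i₂ ∧ c ≫ j = B₁.arrow ≫ π₂ ∧ (ShortComplex.mk a c wac).ShortExact ∧
    p₁ ≫ a' = i₂ ≫ cokernel.π B₁.arrow ∧ cokernel.π B₁.arrow ≫ c' = π₂ ≫ q ∧
    (ShortComplex.mk a' c' wac').ShortExact

lemma nine_of_column (hA : (ShortComplex.mk i₁ p₁ wA).ShortExact) (hB : (ShortComplex.mk i₂ π₂ wB).ShortExact)
    (hC : (ShortComplex.mk j q wC).ShortExact) (B₁ : Subobject B₂) (a : A₁ ⟶ (B₁ : C)) (c : (B₁ : C) ⟶ C₁)
    (wac : a ≫ c = 0) (ha : a ≫ B₁.arrow = i₁ ≫ i₂) (hc : c ≫ j = B₁.arrow ≫ π₂)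
    (hac : (ShortComplex.mk a c wac).ShortExact) : Nine i₁ p₁ i₂ π₂ j q B₁ := by
  haveI : Epi p₁ := hA.epi_g
  haveI : Epi π₂ := hB.epi_g
  haveI : Epi q := hC.epi_g
  haveI : Mono i₂ := hB.mono_f
  haveI : Mono j := hC.mono_f
  haveI : Epi c := hac.epi_g
  have h1 : i₁ ≫ i₂ ≫ cokernel.π B₁.arrow = 0 := by
    rw [← Category.assoc, ← ha, Category.assoc, cokernel.condition, comp_zero]
  let a' : A₃ ⟶ cokernel B₁.arrow := hA.exact.desc (i₂ ≫ cokernel.π B₁.arrow) h1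
  have ha' : p₁ ≫ a' = i₂ ≫ cokernel.π B₁.arrow := hA.exact.g_desc _ _
  let c' : cokernel B₁.arrow ⟶ C₃ := cokernel.desc _ (π₂ ≫ q) (by
    rw [← Category.assoc, ← hc, Category.assoc, wC, comp_zero])
  have hc' : cokernel.π B₁.arrow ≫ c' = π₂ ≫ q := cokernel.π_desc _ _ _
  have wac' : a' ≫ c' = 0 := by
    rw [← cancel_epi p₁, ← Category.assoc, ha', Category.assoc, hc', ← Category.assoc, wB, zero_comp, comp_zero]
  have hB₁ : (ShortComplex.mk B₁.arrow (cokernel.π B₁.arrow) (cokernel.condition _)).Exact :=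
    ShortComplex.exact_of_g_is_cokernel _ (cokernelIsCokernel _)
  haveI : Epi c' := by
    haveI : Epi (cokernel.π B₁.arrow ≫ c') := by rw [hc']; exact epi_comp _ _
    exact epi_of_epi (cokernel.π B₁.arrow) c'
  haveI : Mono a' := by
    refine Preadditive.mono_of_cancel_zero _ fun {T} x hx => ?_
    obtain ⟨T', π', hπ', a₂, ha₂⟩ := surjective_up_to_refinements_of_epi p₁ x
    have h2 : (a₂ ≫ i₂) ≫ cokernel.π B₁.arrow = 0 := by
      rw [Category.assoc, ← ha', ← Category.assoc, ← ha₂, Category.assoc, hx, comp_zero]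
    obtain ⟨T'', π'', hπ'', y, hy⟩ := hB₁.exact_up_to_refinements _ h2
    change π'' ≫ a₂ ≫ i₂ = y ≫ B₁.arrow at hy
    have hy0 : y ≫ c = 0 := by
      rw [← cancel_mono j, Category.assoc, hc, ← Category.assoc, ← hy]
      simp [wB]
    obtain ⟨T₃, π₃, hπ₃, a₁, ha₁⟩ := hac.exact.exact_up_to_refinements y hy0
    change π₃ ≫ y = a₁ ≫ a at ha₁
    have h3 : π₃ ≫ π'' ≫ a₂ = a₁ ≫ i₁ := by
      rw [← cancel_mono i₂, Category.assoc, Category.assoc, hy, ← Category.assoc, ha₁, Category.assoc, ha,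
        Category.assoc]
    rw [← cancel_epi π', comp_zero, ha₂, ← cancel_epi π'', comp_zero, ← cancel_epi π₃, comp_zero,
      ← Category.assoc, ← Category.assoc, Category.assoc π₃, h3, Category.assoc, wA, comp_zero]
  refine ⟨a, c, wac, a', c', wac', ha, hc, hac, ha', hc', { exact := ?_ }⟩
  rw [ShortComplex.exact_iff_exact_up_to_refinements]
  intro T x hx
  change x ≫ c' = 0 at hx
  obtain ⟨T', π', hπ', b, hb⟩ := surjective_up_to_refinements_of_epi (cokernel.π B₁.arrow) x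
  have h2 : (b ≫ π₂) ≫ q = 0 := by
    rw [Category.assoc, ← hc', ← Category.assoc, ← hb, Category.assoc, hx, comp_zero]
  let t := hC.exact.lift (b ≫ π₂) h2
  have ht : t ≫ j = b ≫ π₂ := hC.exact.lift_f _ _
  obtain ⟨T'', π'', hπ'', y, hy⟩ := surjective_up_to_refinements_of_epi c t
  have h3 : (π'' ≫ b - y ≫ B₁.arrow) ≫ π₂ = 0 := by
    rw [Preadditive.sub_comp, Category.assoc, Category.assoc, ← hc, ← ht, ← Category.assoc, hy,
      Category.assoc, sub_self]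
  let a₂ := hB.exact.lift _ h3
  have ha₂ : a₂ ≫ i₂ = π'' ≫ b - y ≫ B₁.arrow := hB.exact.lift_f _ _
  refine ⟨T'', π'' ≫ π', inferInstance, a₂ ≫ p₁, ?_⟩
  change (π'' ≫ π') ≫ x = (a₂ ≫ p₁) ≫ a'
  rw [Category.assoc, Category.assoc, hb, ha', ← Category.assoc a₂, ha₂, Preadditive.sub_comp,
    Category.assoc, Category.assoc, cokernel.condition, comp_zero, sub_zero]

variable {τ : A₁ ⟶ Z}

lemma nineSub_nine (hA : (ShortComplex.mk i₁ p₁ wA).ShortExact) (hB : (ShortComplex.mk i₂ π₂ wB).ShortExact)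
    (hC : (ShortComplex.mk j q wC).ShortExact) (wτ : τ ≫ π = 0) (hτm : τ ≫ m = i₁ ≫ i₂)
    (hτ : (ShortComplex.mk τ π wτ).Exact) (hg : (π ≫ g) ≫ j = m ≫ π₂) {s : C₁ ⟶ K} (hs : s ≫ g = 𝟙 C₁) :
    Nine i₁ p₁ i₂ π₂ j q (nineSub m π s) := by
  haveI : Mono i₁ := hA.mono_f
  haveI : Mono i₂ := hB.mono_f
  haveI : Mono j := hC.mono_f
  let B₁ := nineSub m π s
  have hα : B₁.Factors (i₁ ≫ i₂) := (nineSub_factors_iff m π hs _).2 ⟨τ, hτm, by simp [wτ]⟩
  let a := B₁.factorThru _ hα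
  have ha : a ≫ B₁.arrow = i₁ ≫ i₂ := Subobject.factorThru_arrow _ _ _
  obtain ⟨z₀, hz₀, hz₀'⟩ := (nineSub_factors_iff m π hs B₁.arrow).1 (Subobject.factors_self _)
  let c : (B₁ : C) ⟶ C₁ := (z₀ ≫ π) ≫ g
  have hc : c ≫ j = B₁.arrow ≫ π₂ := by
    show ((z₀ ≫ π) ≫ g) ≫ j = _
    rw [Category.assoc z₀, Category.assoc z₀, hg, ← Category.assoc, hz₀]
  have wac : a ≫ c = 0 := by
    rw [← cancel_mono j, Category.assoc, hc, ← Category.assoc, ha, Category.assoc, wB, comp_zero, zero_comp]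
  haveI : Mono a := by
    haveI : Mono (a ≫ B₁.arrow) := by rw [ha]; exact mono_comp _ _
    exact mono_of_mono a B₁.arrow
  haveI : Epi c := by
    rw [epi_iff_surjective_up_to_refinements]
    intro T t
    obtain ⟨T', π', hπ', z, hz⟩ := surjective_up_to_refinements_of_epi π (t ≫ s)
    have hzg : (z ≫ π) ≫ g = π' ≫ t := by rw [← hz, Category.assoc, Category.assoc, hs, Category.comp_id]
    have hb : B₁.Factors (z ≫ m) := (nineSub_factors_iff m π hs _).2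
      ⟨z, rfl, by rw [hzg, Category.assoc, ← hz]⟩
    refine ⟨T', π', hπ', B₁.factorThru _ hb, ?_⟩
    rw [← cancel_mono j, Category.assoc _ c, hc, ← Category.assoc _ B₁.arrow, Subobject.factorThru_arrow,
      Category.assoc z, ← hg, ← hzg]
    simp only [Category.assoc]
  refine nine_of_column hA hB hC B₁ a c wac ha hc { exact := ?_ }
  rw [ShortComplex.exact_iff_exact_up_to_refinements]
  intro T y hy
  change y ≫ c = 0 at hy
  have h1 : (y ≫ z₀) ≫ π = 0 := by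
    rw [Category.assoc, hz₀', ← Category.assoc]
    exact (congrArg (· ≫ s) hy).trans zero_comp
  obtain ⟨T', π', hπ', a₁, ha₁⟩ := hτ.exact_up_to_refinements _ h1
  change π' ≫ y ≫ z₀ = a₁ ≫ τ at ha₁
  refine ⟨T', π', hπ', a₁, ?_⟩
  show π' ≫ y = a₁ ≫ a
  rw [← cancel_mono B₁.arrow, Category.assoc, Category.assoc, ha, ← hτm, ← hz₀, ← Category.assoc a₁, ← ha₁]
  simp only [Category.assoc]

lemma exists_section_of_nine (hC : (ShortComplex.mk j q wC).ShortExact) (wτ : τ ≫ π = 0)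
    (hτm : τ ≫ m = i₁ ≫ i₂) (hτ : (ShortComplex.mk τ π wτ).Exact) (hg : (π ≫ g) ≫ j = m ≫ π₂)
    (hlift : ∀ {T : C} (b : T ⟶ B₂), b ≫ π₂ ≫ q = 0 → ∃ z : T ⟶ Z, z ≫ m = b)
    {B₁ : Subobject B₂} (h : Nine i₁ p₁ i₂ π₂ j q B₁) :
    ∃ s : C₁ ⟶ K, s ≫ g = 𝟙 C₁ ∧ nineSub m π s = B₁ := by
  obtain ⟨a, c, wac, -, -, -, ha, hc, hac, -⟩ := h
  haveI : Mono j := hC.mono_f
  haveI : Epi c := hac.epi_g
  obtain ⟨l, hl⟩ := hlift B₁.arrow (by rw [← Category.assoc, ← hc, Category.assoc, wC, comp_zero])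
  have hal : a ≫ l = τ := by rw [← cancel_mono m, Category.assoc, hl, ha, hτm]
  have h0 : a ≫ l ≫ π = 0 := by rw [← Category.assoc, hal, wτ]
  let s : C₁ ⟶ K := hac.exact.desc (l ≫ π) h0
  have hs' : c ≫ s = l ≫ π := hac.exact.g_desc _ _
  have hs : s ≫ g = 𝟙 C₁ := by
    rw [← cancel_epi c, ← Category.assoc, hs', Category.comp_id, ← cancel_mono j, hc, Category.assoc l,
      Category.assoc l, hg, ← Category.assoc, hl]
  refine ⟨s, hs, le_antisymm ?_ ?_⟩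
  · refine le_of_refinements _ _ fun T b hb => ?_
    obtain ⟨z, rfl, hz⟩ := (nineSub_factors_iff m π hs b).1 hb
    obtain ⟨T', π', hπ', y, hy⟩ := surjective_up_to_refinements_of_epi c ((z ≫ π) ≫ g)
    have h1 : (π' ≫ z - y ≫ l) ≫ π = 0 := by
      rw [Preadditive.sub_comp, Category.assoc, Category.assoc, ← hs', hz, ← Category.assoc, hy,
        Category.assoc, sub_self]
    obtain ⟨T'', π'', hπ'', a₁, ha₁⟩ := hτ.exact_up_to_refinements _ h1
    change π'' ≫ (π' ≫ z - y ≫ l) = a₁ ≫ τ at ha₁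
    refine ⟨T'', π'' ≫ π', inferInstance, ?_⟩
    have e : (π'' ≫ π') ≫ z ≫ m = (π'' ≫ y + a₁ ≫ a) ≫ B₁.arrow := by
      replace ha₁ : π'' ≫ (π' ≫ z - y ≫ l) = a₁ ≫ a ≫ l := ha₁.trans (congrArg (a₁ ≫ ·) hal.symm)
      rw [Preadditive.comp_sub, sub_eq_iff_eq_add] at ha₁
      rw [Category.assoc, ← Category.assoc π', ← Category.assoc π'', ha₁, Preadditive.add_comp,
        Preadditive.add_comp, ← hl, add_comm]
      simp only [Category.assoc]
    rw [e]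
    exact Subobject.factors_comp_arrow _
  · refine le_of_refinements _ _ fun T b hb => ⟨T, 𝟙 T, inferInstance, ?_⟩
    rw [Category.id_comp]
    obtain ⟨y, rfl⟩ : ∃ y, y ≫ B₁.arrow = b := ⟨_, Subobject.factorThru_arrow _ _ hb⟩
    refine (nineSub_factors_iff m π hs _).2 ⟨y ≫ l, by rw [Category.assoc, hl], ?_⟩
    have e : (l ≫ π) ≫ g = c := by rw [← hs', Category.assoc, hs, Category.comp_id]
    calc (y ≫ l) ≫ π = y ≫ c ≫ s := by rw [hs', Category.assoc]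
      _ = y ≫ ((l ≫ π) ≫ g) ≫ s := by rw [e]
      _ = (((y ≫ l) ≫ π) ≫ g) ≫ s := by simp only [Category.assoc]

lemma nineSub_injective {s s' : C₁ ⟶ K} (hs : s ≫ g = 𝟙 C₁) (hs' : s' ≫ g = 𝟙 C₁)
    (h : nineSub m π s = nineSub m π s') : s = s' := by
  obtain ⟨T, π', hπ', z, hz⟩ := surjective_up_to_refinements_of_epi π s
  have hzg : (z ≫ π) ≫ g = π' := by rw [← hz, Category.assoc, hs, Category.comp_id]
  have hb : (nineSub m π s).Factors (z ≫ m) :=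
    (nineSub_factors_iff m π hs _).2 ⟨z, rfl, by rw [hzg, hz]⟩
  rw [h] at hb
  obtain ⟨z', hz', hz''⟩ := (nineSub_factors_iff m π hs' _).1 hb
  rw [cancel_mono] at hz'
  subst hz'
  rw [← cancel_epi π', hz, hz'', hzg]

end

open CategoryTheory CategoryTheory.Limits in
/-- In an abelian category let 0 → A₂ → B₂ → C₂ → 0 (maps i₂, π₂), 0 → A₁ → A₂ → A₃ → 0 (maps i₁, p₁)
and 0 → C₁ → C₂ → C₃ → 0 (maps j, q) be short exact sequences, α = i₁ ≫ i₂, β = π₂ ≫ q, K = ker β /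
im α, and let f : A₃ → K and g : K → C₁ be the maps induced by i₂ and π₂ (pinned by their defining
squares), so that 0 → A₃ → K → C₁ → 0 is short exact. Sending a section s of g to the subobject B₁
of B₂ obtained by pulling the image of s back along ker β → K and then including ker β into B₂ is a
bijection from the sections of g (equivalently, the splittings of that sequence) onto the subobjects
B₁ of B₂ that complete the data to a 3 × 3 diagram with exact rows and columns: there are maps A₁ →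
B₁ → C₁ over i₁ ≫ i₂ and under π₂ forming a short exact sequence, and maps A₃ → B₂/B₁ → C₃ under i₂
and over π₂ ≫ q forming a short exact sequence. (The hypotheses w, h₂, h₃ are consequences of i₂ ≫
π₂ = 0, carried so that the maps can be named; the published statement assumes in addition that the
category has enough injective objects, which plays no role here.) -/
theorem result
    {C : Type u} [Category.{v} C] [Abelian C] {A₁ A₂ A₃ B₂ C₁ C₂ C₃ : C}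
    (i₁ : A₁ ⟶ A₂) (p₁ : A₂ ⟶ A₃) (wA : i₁ ≫ p₁ = 0) (hA : (ShortComplex.mk i₁ p₁ wA).ShortExact)
    (i₂ : A₂ ⟶ B₂) (π₂ : B₂ ⟶ C₂) (wB : i₂ ≫ π₂ = 0) (hB : (ShortComplex.mk i₂ π₂ wB).ShortExact)
    (j : C₁ ⟶ C₂) (q : C₂ ⟶ C₃) (wC : j ≫ q = 0) (hC : (ShortComplex.mk j q wC).ShortExact)
    (w : (i₁ ≫ i₂) ≫ (π₂ ≫ q) = 0) (h₂ : i₂ ≫ (π₂ ≫ q) = 0) (h₃ : (i₁ ≫ i₂) ≫ π₂ = 0)
    (f : A₃ ⟶ (CategoryTheory.ShortComplex.mk (i₁ ≫ i₂) (π₂ ≫ q) w).homology)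
    (g : (CategoryTheory.ShortComplex.mk (i₁ ≫ i₂) (π₂ ≫ q) w).homology ⟶ C₁)
    (hf : p₁ ≫ f = (CategoryTheory.ShortComplex.mk (i₁ ≫ i₂) (π₂ ≫ q) w).liftCycles i₂ h₂ ≫ (CategoryTheory.ShortComplex.mk (i₁ ≫ i₂) (π₂ ≫ q) w).homologyπ)
    (hg : g ≫ j = (CategoryTheory.ShortComplex.mk (i₁ ≫ i₂) (π₂ ≫ q) w).homologyι ≫ (CategoryTheory.ShortComplex.mk (i₁ ≫ i₂) (π₂ ≫ q) w).descOpcycles π₂ h₃) :
    (∀ B₁ : Subobject B₂,
      (∃ (a : A₁ ⟶ (B₁ : C)) (c : (B₁ : C) ⟶ C₁) (wac : a ≫ c = 0)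
         (a' : A₃ ⟶ cokernel B₁.arrow) (c' : cokernel B₁.arrow ⟶ C₃) (wac' : a' ≫ c' = 0),
         a ≫ B₁.arrow = i₁ ≫ i₂ ∧ c ≫ j = B₁.arrow ≫ π₂ ∧ (ShortComplex.mk a c wac).ShortExact ∧
         p₁ ≫ a' = i₂ ≫ cokernel.π B₁.arrow ∧ cokernel.π B₁.arrow ≫ c' = π₂ ≫ q ∧
         (ShortComplex.mk a' c' wac').ShortExact) ↔
      ∃ s : C₁ ⟶ (CategoryTheory.ShortComplex.mk (i₁ ≫ i₂) (π₂ ≫ q) w).homology, s ≫ g = 𝟙 C₁ ∧
        (Subobject.map (CategoryTheory.ShortComplex.mk (i₁ ≫ i₂) (π₂ ≫ q) w).iCycles).obj ((Subobject.pullback (CategoryTheory.ShortComplex.mk (i₁ ≫ i₂) (π₂ ≫ q) w).homologyπ).obj (imageSubobject s)) = B₁) ∧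
    (∀ s s' : C₁ ⟶ (CategoryTheory.ShortComplex.mk (i₁ ≫ i₂) (π₂ ≫ q) w).homology, s ≫ g = 𝟙 C₁ → s' ≫ g = 𝟙 C₁ →
      (Subobject.map (CategoryTheory.ShortComplex.mk (i₁ ≫ i₂) (π₂ ≫ q) w).iCycles).obj ((Subobject.pullback (CategoryTheory.ShortComplex.mk (i₁ ≫ i₂) (π₂ ≫ q) w).homologyπ).obj (imageSubobject s)) = (Subobject.map (CategoryTheory.ShortComplex.mk (i₁ ≫ i₂) (π₂ ≫ q) w).iCycles).obj ((Subobject.pullback (CategoryTheory.ShortComplex.mk (i₁ ≫ i₂) (π₂ ≫ q) w).homologyπ).obj (imageSubobject s')) → s = s') := by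
  open CategoryTheory CategoryTheory.Limits in
  let S := CategoryTheory.ShortComplex.mk (i₁ ≫ i₂) (π₂ ≫ q) w
  have hg' : (S.homologyπ ≫ g) ≫ j = S.iCycles ≫ π₂ := by
    rw [Category.assoc, hg, ShortComplex.homology_π_ι_assoc, ShortComplex.p_descOpcycles]
  have hτ : (ShortComplex.mk S.toCycles S.homologyπ S.toCycles_comp_homologyπ).Exact :=
    ShortComplex.exact_of_g_is_cokernel _ S.homologyIsCokernel
  refine ⟨fun B₁ => ⟨fun h => ?_, ?_⟩, fun s s' hs hs' h => nineSub_injective S.iCycles S.homologyπ hs hs' h⟩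
  · exact exists_section_of_nine S.iCycles S.homologyπ hC S.toCycles_comp_homologyπ S.toCycles_i hτ hg'
      (fun b hb => ⟨S.liftCycles b hb, S.liftCycles_i b hb⟩) h
  · rintro ⟨s, hs, rfl⟩
    exact nineSub_nine S.iCycles S.homologyπ hA hB hC S.toCycles_comp_homologyπ S.toCycles_i hτ hg' hs

end Groth.Agent.S15466
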