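import Groth.Statements.S1547
import Mathlib
import Groth.Agent.H22Alg.VarGeom

set_option autoImplicit false
universe u
open CategoryTheory CategoryTheory.Limits AlgebraicGeometry
open Variety

namespace Groth.Agent.S1547

/-- Let k be a separably closed field, X a scheme over k and K any field extension of k. Then taking
images along the projection X_K → X is injective on irreducible components: two irreducible
components of X_K with the same image in X are equal. (Together with surjectivity on irreducible
components, stated separately, this gives a bijection of irreducible components.) -/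
theorem result (k : Type u) [Field k] (X : Scheme.{u}) [X.Over (Spec (CommRingCat.of k))] [IsSepClosed k] (K : Type u) [Field K] [Algebra k K]
    (T T' : Set (Curv2.bc k X K : Type u)) (hT : T ∈ irreducibleComponents (Curv2.bc k X K : Type u))
    (hT' : T' ∈ irreducibleComponents (Curv2.bc k X K : Type u))
    (h : (Curv2.bcFst k X K).base '' T = (Curv2.bcFst k X K).base '' T') : T = T' := by
  have hopen : IsOpenMap (Curv2.bcFst k X K) := by
    haveI := Groth.Agent.H06Desc.universallyOpen_of_discreteTopology (Spec.map (CommRingCat.ofHom (algebraMap k K)))
    exact (pullback.fst (X ↘ Spec (CommRingCat.of k)) (Spec.map (CommRingCat.ofHom (algebraMap k K)))).isOpenMap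
  have hsurj : Function.Surjective (Curv2.bcFst k X K) :=
    (pullback.fst (X ↘ Spec (CommRingCat.of k)) (Spec.map (CommRingCat.ofHom (algebraMap k K)))).surjective
  have key : ∀ T ∈ irreducibleComponents (Curv2.bc k X K : Type u),
      T = (Curv2.bcFst k X K) ⁻¹' ((Curv2.bcFst k X K) '' T) := fun T hT => by
    refine Set.Subset.antisymm (Set.subset_preimage_image _ _) (hT.2 ?_ (Set.subset_preimage_image _ _))
    refine (hT.1.image _ (Curv2.bcFst k X K).continuous.continuousOn).preimage_of_isPreirreducible_fiber
      (Curv2.bcFst k X K) hopen
      (fun x => (Groth.Agent.H22Alg.VarGeom.isIrreducible_preimage_point (X ↘ Spec (CommRingCat.of k)) K x).isPreirreducible) ?_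
    rw [hsurj.range_eq, Set.inter_univ]
    exact hT.1.nonempty.image _
  calc T = (Curv2.bcFst k X K) ⁻¹' ((Curv2.bcFst k X K) '' T) := key T hT
    _ = (Curv2.bcFst k X K) ⁻¹' ((Curv2.bcFst k X K) '' T') := congrArg _ h
    _ = T' := (key T' hT').symm

end Groth.Agent.S1547
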