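import Groth.Statements.S15470
import Groth.Agent.H14IsoNat.ChartTransfer

set_option autoImplicit false
set_option backward.isDefEq.respectTransparency false
set_option backward.isDefEq.respectTransparency.types false
universe u
open CategoryTheory AlgebraicGeometry
open IsoNat

namespace Groth.Agent.S15470

/-- A property of morphisms of algebraic stacks read on one square of smooth scheme charts is detected
by the induced map of presheaves of isomorphism classes. Let f : 𝒳 → 𝒴 and f' : 𝒳' → 𝒴' be morphisms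
of algebraic stacks over a quasi-separated scheme S, and suppose given isomorphisms of the
presheaves of isomorphism classes of 𝒳 with 𝒳' and of 𝒴 with 𝒴' under which the maps induced by f
and f' correspond. If there are smooth scheme charts x : U → 𝒳 (surjective) and y : V → 𝒴 and h : U
→ V with x followed by f 2-isomorphic to h followed by y and h having P, then the same holds for f'.
For P smooth local on the source-and-target, containing the smooth surjections and stable under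
composition and base change, this is the statement that f has P if and only if f' has P (flat,
locally of finite type, locally of finite presentation, smooth); the transfer itself holds for every
P. Here an algebraic stack over a quasi-separated scheme S means a stack in groupoids for the fppf
topology with a smooth surjective atlas from a scheme, whose diagonal is representable by separated
quasi-compact morphisms of algebraic spaces and whose inertia is locally of finite presentation over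
it. -/
theorem result
    (S : Scheme.{u}) [QuasiSeparatedSpace S]
    (𝒳 𝒴 : AlgSt.Cat S)
    (h𝒳 : AlgSt.IsAlgStack Scheme.fppfPrecoverage 𝒳)
    (h𝒳d : AlgSt.RepByAlgSpWith (AlgSp.IsSeparatedMor ⊓ AlgSp.IsQuasiCompactMor)
      (FibCat.diag (FibCat.toSelf 𝒳)))
    (h𝒳i : AlgSt.RepByAlgSpWith (AlgSp.LocP @LocallyOfFinitePresentation)
      (FibCat.inertiaToBase (FibCat.toSelf 𝒳)))
    (h𝒴 : AlgSt.IsAlgStack Scheme.fppfPrecoverage 𝒴)
    (h𝒴d : AlgSt.RepByAlgSpWith (AlgSp.IsSeparatedMor ⊓ AlgSp.IsQuasiCompactMor)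
      (FibCat.diag (FibCat.toSelf 𝒴)))
    (h𝒴i : AlgSt.RepByAlgSpWith (AlgSp.LocP @LocallyOfFinitePresentation)
      (FibCat.inertiaToBase (FibCat.toSelf 𝒴)))
    (𝒳' 𝒴' : AlgSt.Cat S)
    (h𝒳' : AlgSt.IsAlgStack Scheme.fppfPrecoverage 𝒳')
    (h𝒳'd : AlgSt.RepByAlgSpWith (AlgSp.IsSeparatedMor ⊓ AlgSp.IsQuasiCompactMor)
      (FibCat.diag (FibCat.toSelf 𝒳')))
    (h𝒳'i : AlgSt.RepByAlgSpWith (AlgSp.LocP @LocallyOfFinitePresentation)
      (FibCat.inertiaToBase (FibCat.toSelf 𝒳')))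
    (h𝒴' : AlgSt.IsAlgStack Scheme.fppfPrecoverage 𝒴')
    (h𝒴'd : AlgSt.RepByAlgSpWith (AlgSp.IsSeparatedMor ⊓ AlgSp.IsQuasiCompactMor)
      (FibCat.diag (FibCat.toSelf 𝒴')))
    (h𝒴'i : AlgSt.RepByAlgSpWith (AlgSp.LocP @LocallyOfFinitePresentation)
      (FibCat.inertiaToBase (FibCat.toSelf 𝒴')))
    (f : 𝒳 ⥤ᵇ 𝒴) (f' : 𝒳' ⥤ᵇ 𝒴') (φ : IsoNat.FIsoSq f f')
    (P : MorphismProperty (AlgSp.Sp S))
    (hf : AlgSt.LocQ P f) :
    AlgSt.LocQ P f' := by
  have := Groth.Agent.H14IsoNat.sepStack h𝒳 h𝒳d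
  have := Groth.Agent.H14IsoNat.sepStack h𝒴 h𝒴d
  have := Groth.Agent.H14IsoNat.sepStack h𝒳' h𝒳'd
  have := Groth.Agent.H14IsoNat.sepStack h𝒴' h𝒴'd
  obtain ⟨U, V, x, y, h, i, hx, hxs, hy, hP⟩ := hf
  obtain ⟨x', hx'⟩ := Groth.Agent.H14IsoNat.exists_corresp
    (Groth.Agent.H14IsoNat.symm φ.src h𝒳.isStack.1 h𝒳'.isStack.1) x
  obtain ⟨y', hy'⟩ := Groth.Agent.H14IsoNat.exists_corresp
    (Groth.Agent.H14IsoNat.symm φ.tgt h𝒴.isStack.1 h𝒴'.isStack.1) y
  have cx : Groth.Agent.H14IsoNat.Corresp φ.src x x' := fun c =>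
    ((Equiv.symm_apply_eq _).1 (hx' c)).symm
  have cy : Groth.Agent.H14IsoNat.Corresp φ.tgt y y' := fun c =>
    ((Equiv.symm_apply_eq _).1 (hy' c)).symm
  let t : Over U := Groth.Agent.H14Fib.topObj U
  let s : Over V := (AlgSt.overMap h).obj t
  have h1 : IsoNat.cls (⟨f.obj (x.obj t), (BasedFunctor.comp x f).w_obj t⟩ : 𝒴.p.Fiber U) =
      IsoNat.cls ⟨y.obj s, (BasedFunctor.comp (AlgSt.overMap h) y).w_obj t⟩ :=
    Groth.Agent.H14IsoNat.cls_eq_of_iso (Groth.Agent.H14Stk.isoApp i t)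
      (Groth.Agent.H14Stk.isoApp_lift i t)
  have h2 : φ.tgt.toEquiv U (IsoNat.cls ⟨f.obj (x.obj t), (BasedFunctor.comp x f).w_obj t⟩) =
      IsoNat.cls ⟨f'.obj (x'.obj t), (BasedFunctor.comp x' f').w_obj t⟩ := by
    have h3 := φ.comm U (IsoNat.cls ⟨x.obj t, x.w_obj t⟩)
    rw [cx.at_fiber t (T := U) (x.w_obj t) (x'.w_obj t)] at h3
    exact h3
  have h4 := (h2.symm.trans (congrArg (φ.tgt.toEquiv U) h1)).trans
    (cy.at_fiber s _ ((BasedFunctor.comp (AlgSt.overMap h) y').w_obj t))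
  obtain ⟨e, he⟩ := Groth.Agent.H14IsoNat.fib_iso_of_cls_eq h4
  exact ⟨U, V, x', y', h, Groth.Agent.H14Fib.isoOfTop
      (G := BasedFunctor.comp x' f') (H := BasedFunctor.comp (AlgSt.overMap h) y')
      (Groth.Agent.H14Fib.topSC_of_fibGrpd h𝒴'.isStack.1 _)
      (Groth.Agent.H14Fib.topSC_of_fibGrpd h𝒴'.isStack.1 _) e he,
    Groth.Agent.H14IsoNat.smooth_transfer h𝒳' h𝒳'i cx hx,
    Groth.Agent.H14IsoNat.surjective_transfer h𝒳 h𝒳' cx hxs,
    Groth.Agent.H14IsoNat.smooth_transfer h𝒴' h𝒴'i cy hy, hP⟩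

end Groth.Agent.S15470
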