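import Groth.Statements.S15472
import Groth.Agent.H14IsoNat.Points
import Groth.Agent.H14AlgSt.QC

set_option autoImplicit false
set_option backward.isDefEq.respectTransparency false
set_option backward.isDefEq.respectTransparency.types false
universe u
open CategoryTheory AlgebraicGeometry
open IsoNat

namespace Groth.Agent.S15472

/-- Quasi-compactness of algebraic stacks is detected by the presheaf of isomorphism classes. If 𝒳 and 𝒴
are algebraic stacks over a quasi-separated scheme S with isomorphic presheaves of isomorphism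
classes and 𝒳 has a smooth surjective morphism from an affine scheme, so does 𝒴. Here an algebraic
stack over a quasi-separated scheme S means a stack in groupoids for the fppf topology with a smooth
surjective atlas from a scheme, whose diagonal is representable by separated quasi-compact morphisms
of algebraic spaces and whose inertia is locally of finite presentation over it. -/
theorem result
    (S : Scheme.{u}) [QuasiSeparatedSpace S]
    (𝒳 𝒴 : AlgSt.Cat S)
    (h𝒳 : AlgSt.IsAlgStack Scheme.fppfPrecoverage 𝒳)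
    (h𝒳d : AlgSt.RepByAlgSpWith (AlgSp.IsSeparatedMor ⊓ AlgSp.IsQuasiCompactMor)
      (FibCat.diag (FibCat.toSelf 𝒳)))
    (h𝒳i : AlgSt.RepByAlgSpWith (AlgSp.LocP @LocallyOfFinitePresentation)
      (FibCat.inertiaToBase (FibCat.toSelf 𝒳)))
    (h𝒴 : AlgSt.IsAlgStack Scheme.fppfPrecoverage 𝒴)
    (h𝒴d : AlgSt.RepByAlgSpWith (AlgSp.IsSeparatedMor ⊓ AlgSp.IsQuasiCompactMor)
      (FibCat.diag (FibCat.toSelf 𝒴)))
    (h𝒴i : AlgSt.RepByAlgSpWith (AlgSp.LocP @LocallyOfFinitePresentation)
      (FibCat.inertiaToBase (FibCat.toSelf 𝒴)))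
    (φ : IsoNat.FIso 𝒳 𝒴)
    (hqc : AlgSt.IsQuasiCompact 𝒳) :
    AlgSt.IsQuasiCompact 𝒴 := by
  have hc := Groth.Agent.H14AlgSt.compactSpace_points h𝒳 hqc
  exact Groth.Agent.H14AlgSt.isQuasiCompact_of_compactSpace h𝒴
    (Groth.Agent.H14IsoNat.pointsHomeo φ h𝒳 h𝒴).compactSpace

end Groth.Agent.S15472
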