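import Groth.Statements.S15473
import Groth.Agent.H14IsoNat.ChartTransfer

set_option autoImplicit false
set_option backward.isDefEq.respectTransparency false
set_option backward.isDefEq.respectTransparency.types false
universe u
open CategoryTheory AlgebraicGeometry
open IsoNat

namespace Groth.Agent.S15473

/-- For a morphism from a scheme to an algebraic stack, being smooth is detected by the presheaf of
isomorphism classes. Let 𝒳 and 𝒴 be algebraic stacks over a quasi-separated scheme S with an
isomorphism of their presheaves of isomorphism classes, U a scheme over S, and x : U → 𝒳, y : U → 𝒴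
morphisms whose isomorphism classes over U correspond under it. If x is locally of finite
presentation and smooth (as a morphism representable by algebraic spaces), then so is y. Here an
algebraic stack over a quasi-separated scheme S means a stack in groupoids for the fppf topology
with a smooth surjective atlas from a scheme, whose diagonal is representable by separated
quasi-compact morphisms of algebraic spaces and whose inertia is locally of finite presentation over
it. (The published statement compares within the wider class of quasi-algebraic stacks, which need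
not have an atlas; this row compares algebraic stacks only.) -/
theorem result
    (S : Scheme.{u}) [QuasiSeparatedSpace S]
    (𝒳 𝒴 : AlgSt.Cat S)
    (h𝒳 : AlgSt.IsAlgStack Scheme.fppfPrecoverage 𝒳)
    (h𝒳d : AlgSt.RepByAlgSpWith (AlgSp.IsSeparatedMor ⊓ AlgSp.IsQuasiCompactMor)
      (FibCat.diag (FibCat.toSelf 𝒳)))
    (h𝒳i : AlgSt.RepByAlgSpWith (AlgSp.LocP @LocallyOfFinitePresentation)
      (FibCat.inertiaToBase (FibCat.toSelf 𝒳)))
    (h𝒴 : AlgSt.IsAlgStack Scheme.fppfPrecoverage 𝒴)
    (h𝒴d : AlgSt.RepByAlgSpWith (AlgSp.IsSeparatedMor ⊓ AlgSp.IsQuasiCompactMor)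
      (FibCat.diag (FibCat.toSelf 𝒴)))
    (h𝒴i : AlgSt.RepByAlgSpWith (AlgSp.LocP @LocallyOfFinitePresentation)
      (FibCat.inertiaToBase (FibCat.toSelf 𝒴)))
    (φ : IsoNat.FIso 𝒳 𝒴)
    (U : Over S) (x : FibCat.overCat U ⥤ᵇ 𝒳) (y : FibCat.overCat U ⥤ᵇ 𝒴)
    (hxy : φ.toEquiv U (IsoNat.objCls x) = IsoNat.objCls y)
    (hfp : AlgSt.RepByAlgSpWith (AlgSp.LocP @LocallyOfFinitePresentation) x)
    (hx : AlgSt.RepByAlgSpWith (AlgSp.LocP @Smooth) x) :
    AlgSt.RepByAlgSpWith (AlgSp.LocP @LocallyOfFinitePresentation) y ∧ AlgSt.RepByAlgSpWith (AlgSp.LocP @Smooth) y := by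
  have := Groth.Agent.H14IsoNat.sepStack h𝒳 h𝒳d
  have := Groth.Agent.H14IsoNat.sepStack h𝒴 h𝒴d
  have h := Groth.Agent.H14IsoNat.corresp_of_objCls hxy
  exact ⟨Groth.Agent.H14IsoNat.lfp_transfer h𝒴 h𝒴i h hfp,
    Groth.Agent.H14IsoNat.smooth_transfer h𝒴 h𝒴i h hx⟩

end Groth.Agent.S15473
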