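import Groth.Statements.S15476
import Groth.Agent.H14IsoNat.ChartTransfer
import Groth.Agent.S15470
import Groth.Agent.H14AlgSt.LocQ4

set_option autoImplicit false
set_option backward.isDefEq.respectTransparency false
set_option backward.isDefEq.respectTransparency.types false
universe u
open CategoryTheory AlgebraicGeometry
open IsoNat

namespace Groth.Agent.S15476

/-- For morphisms representable by algebraic spaces, being locally of finite presentation is detected by
the induced map of presheaves of isomorphism classes. Let f : 𝒳 → 𝒴 and f' : 𝒳' → 𝒴' be morphisms of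
algebraic stacks over a quasi-separated scheme S, both representable by algebraic spaces, with
isomorphisms of the presheaves of isomorphism classes of 𝒳 with 𝒳' and of 𝒴 with 𝒴' under which the
induced maps correspond. If f is locally of finite presentation then so is f'. Here an algebraic
stack over a quasi-separated scheme S means a stack in groupoids for the fppf topology with a smooth
surjective atlas from a scheme, whose diagonal is representable by separated quasi-compact morphisms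
of algebraic spaces and whose inertia is locally of finite presentation over it. (The published
statement compares within the wider class of quasi-algebraic stacks, which need not have an atlas;
this row compares algebraic stacks only.) -/
theorem result
    (S : Scheme.{u}) [QuasiSeparatedSpace S]
    (𝒳 𝒴 : AlgSt.Cat S)
    (h𝒳 : AlgSt.IsAlgStack Scheme.fppfPrecoverage 𝒳)
    (h𝒳d : AlgSt.RepByAlgSpWith (AlgSp.IsSeparatedMor ⊓ AlgSp.IsQuasiCompactMor)
      (FibCat.diag (FibCat.toSelf 𝒳)))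
    (h𝒳i : AlgSt.RepByAlgSpWith (AlgSp.LocP @LocallyOfFinitePresentation)
      (FibCat.inertiaToBase (FibCat.toSelf 𝒳)))
    (h𝒴 : AlgSt.IsAlgStack Scheme.fppfPrecoverage 𝒴)
    (h𝒴d : AlgSt.RepByAlgSpWith (AlgSp.IsSeparatedMor ⊓ AlgSp.IsQuasiCompactMor)
      (FibCat.diag (FibCat.toSelf 𝒴)))
    (h𝒴i : AlgSt.RepByAlgSpWith (AlgSp.LocP @LocallyOfFinitePresentation)
      (FibCat.inertiaToBase (FibCat.toSelf 𝒴)))
    (𝒳' 𝒴' : AlgSt.Cat S)
    (h𝒳' : AlgSt.IsAlgStack Scheme.fppfPrecoverage 𝒳')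
    (h𝒳'd : AlgSt.RepByAlgSpWith (AlgSp.IsSeparatedMor ⊓ AlgSp.IsQuasiCompactMor)
      (FibCat.diag (FibCat.toSelf 𝒳')))
    (h𝒳'i : AlgSt.RepByAlgSpWith (AlgSp.LocP @LocallyOfFinitePresentation)
      (FibCat.inertiaToBase (FibCat.toSelf 𝒳')))
    (h𝒴' : AlgSt.IsAlgStack Scheme.fppfPrecoverage 𝒴')
    (h𝒴'd : AlgSt.RepByAlgSpWith (AlgSp.IsSeparatedMor ⊓ AlgSp.IsQuasiCompactMor)
      (FibCat.diag (FibCat.toSelf 𝒴')))
    (h𝒴'i : AlgSt.RepByAlgSpWith (AlgSp.LocP @LocallyOfFinitePresentation)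
      (FibCat.inertiaToBase (FibCat.toSelf 𝒴')))
    (f : 𝒳 ⥤ᵇ 𝒴) (f' : 𝒳' ⥤ᵇ 𝒴') (φ : IsoNat.FIsoSq f f')
    (hf' : AlgSt.RepByAlgSp1 f')
    (hf : AlgSt.RepByAlgSpWith (AlgSp.LocP @LocallyOfFinitePresentation) f) :
    AlgSt.RepByAlgSpWith (AlgSp.LocP @LocallyOfFinitePresentation) f' := by
  exact Groth.Agent.H14AlgSt.repWith_of_locQ Groth.Agent.H14AlgSt.smLocal_lfp
    (Groth.Agent.H14AlgSt.baseStable_locP Groth.Agent.H12AlgSp.etLocal_lfp)
    (Groth.Agent.H14AlgSt.localFppf_of_fpqc (Groth.Agent.S10527.result S)) h𝒳' h𝒴' hf'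
    (Groth.Agent.S15470.result S 𝒳 𝒴 h𝒳 h𝒳d h𝒳i h𝒴 h𝒴d h𝒴i 𝒳' 𝒴' h𝒳' h𝒳'd h𝒳'i h𝒴' h𝒴'd h𝒴'i
      f f' φ _ (Groth.Agent.H14AlgSt.locQ_of_repWith Groth.Agent.H14AlgSt.smLocal_lfp h𝒳 h𝒴 hf))

end Groth.Agent.S15476
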