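import Groth.Statements.S15479
import Groth.Agent.H14IsoNat.AutFromPsh

set_option autoImplicit false
set_option backward.isDefEq.respectTransparency false
set_option backward.isDefEq.respectTransparency.types false
universe u
open CategoryTheory AlgebraicGeometry
open IsoNat

namespace Groth.Agent.S15479

/-- An abelian automorphism group of an object is recovered from the presheaf of isomorphism classes.
Let 𝒳 and 𝒴 be algebraic stacks over a quasi-separated scheme S with an isomorphism of their
presheaves of isomorphism classes, T a scheme over S, η an object of 𝒳 over T with abelian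
automorphism sheaf (every object with a morphism to η has a commutative group of automorphisms over
the identity of its base), and η' an object of 𝒴 over T whose isomorphism class corresponds to that
of η. Then the groups of automorphisms of η and of η' over the identity of T are isomorphic. (The
published statement recovers a canonical isomorphism of automorphism sheaves from the presheaf; this
row asserts only that the groups of automorphisms over the identity of T are isomorphic.) Here an
algebraic stack over a quasi-separated scheme S means a stack in groupoids for the fppf topology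
with a smooth surjective atlas from a scheme, whose diagonal is representable by separated
quasi-compact morphisms of algebraic spaces and whose inertia is locally of finite presentation over
it. (The published statement compares within the wider class of quasi-algebraic stacks, which need
not have an atlas; this row compares algebraic stacks only.) -/
theorem result
    (S : Scheme.{u}) [QuasiSeparatedSpace S]
    (𝒳 𝒴 : AlgSt.Cat S)
    (h𝒳 : AlgSt.IsAlgStack Scheme.fppfPrecoverage 𝒳)
    (h𝒳d : AlgSt.RepByAlgSpWith (AlgSp.IsSeparatedMor ⊓ AlgSp.IsQuasiCompactMor)
      (FibCat.diag (FibCat.toSelf 𝒳)))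
    (h𝒳i : AlgSt.RepByAlgSpWith (AlgSp.LocP @LocallyOfFinitePresentation)
      (FibCat.inertiaToBase (FibCat.toSelf 𝒳)))
    (h𝒴 : AlgSt.IsAlgStack Scheme.fppfPrecoverage 𝒴)
    (h𝒴d : AlgSt.RepByAlgSpWith (AlgSp.IsSeparatedMor ⊓ AlgSp.IsQuasiCompactMor)
      (FibCat.diag (FibCat.toSelf 𝒴)))
    (h𝒴i : AlgSt.RepByAlgSpWith (AlgSp.LocP @LocallyOfFinitePresentation)
      (FibCat.inertiaToBase (FibCat.toSelf 𝒴)))
    (φ : IsoNat.FIso 𝒳 𝒴)
    (T : Over S) (η : 𝒳.p.Fiber T) (η' : 𝒴.p.Fiber T)
    (hη : φ.toEquiv T (IsoNat.cls η) = IsoNat.cls η')
    (hab : IsoNat.IsAutAbelian η) :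
    Nonempty (Aut η ≃* Aut η') := by
  haveI := Groth.Agent.H14IsoNat.sepStack h𝒳 h𝒳d
  haveI := Groth.Agent.H14IsoNat.sepStack h𝒴 h𝒴d
  exact Groth.Agent.H14IsoNat.nonempty_aut_mulEquiv hη (hab T η (𝟙 η.1))

end Groth.Agent.S15479
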