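import Groth.Statements.S15481
import Groth.Agent.H14IsoNat.SepTransfer

set_option autoImplicit false
set_option backward.isDefEq.respectTransparency false
set_option backward.isDefEq.respectTransparency.types false
universe u
open CategoryTheory AlgebraicGeometry
open IsoNat

namespace Groth.Agent.S15481

/-- For morphisms locally of finite type to a locally Noetherian algebraic stack, separatedness is
detected by the induced map of presheaves of isomorphism classes. Let f : 𝒳 → 𝒴 and f' : 𝒳' → 𝒴' be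
morphisms of algebraic stacks over a quasi-separated scheme S, locally of finite type, with 𝒴 and 𝒴'
locally Noetherian, and suppose given isomorphisms of the presheaves of isomorphism classes of 𝒳
with 𝒳' and of 𝒴 with 𝒴' under which the induced maps correspond. If the diagonal of f is
(representable by algebraic spaces and) proper, so is that of f'. Here an algebraic stack over a
quasi-separated scheme S means a stack in groupoids for the fppf topology with a smooth surjective
atlas from a scheme, whose diagonal is representable by separated quasi-compact morphisms of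
algebraic spaces and whose inertia is locally of finite presentation over it. (The published
statement assumes local finite type and a locally Noetherian target for f only; this row assumes
them for both morphisms, the hypotheses under which its valuative argument reads separatedness of
either morphism from the presheaves.) -/
theorem result
    (S : Scheme.{u}) [QuasiSeparatedSpace S]
    (𝒳 𝒴 : AlgSt.Cat S)
    (h𝒳 : AlgSt.IsAlgStack Scheme.fppfPrecoverage 𝒳)
    (h𝒳d : AlgSt.RepByAlgSpWith (AlgSp.IsSeparatedMor ⊓ AlgSp.IsQuasiCompactMor)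
      (FibCat.diag (FibCat.toSelf 𝒳)))
    (h𝒳i : AlgSt.RepByAlgSpWith (AlgSp.LocP @LocallyOfFinitePresentation)
      (FibCat.inertiaToBase (FibCat.toSelf 𝒳)))
    (h𝒴 : AlgSt.IsAlgStack Scheme.fppfPrecoverage 𝒴)
    (h𝒴d : AlgSt.RepByAlgSpWith (AlgSp.IsSeparatedMor ⊓ AlgSp.IsQuasiCompactMor)
      (FibCat.diag (FibCat.toSelf 𝒴)))
    (h𝒴i : AlgSt.RepByAlgSpWith (AlgSp.LocP @LocallyOfFinitePresentation)
      (FibCat.inertiaToBase (FibCat.toSelf 𝒴)))
    (𝒳' 𝒴' : AlgSt.Cat S)
    (h𝒳' : AlgSt.IsAlgStack Scheme.fppfPrecoverage 𝒳')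
    (h𝒳'd : AlgSt.RepByAlgSpWith (AlgSp.IsSeparatedMor ⊓ AlgSp.IsQuasiCompactMor)
      (FibCat.diag (FibCat.toSelf 𝒳')))
    (h𝒳'i : AlgSt.RepByAlgSpWith (AlgSp.LocP @LocallyOfFinitePresentation)
      (FibCat.inertiaToBase (FibCat.toSelf 𝒳')))
    (h𝒴' : AlgSt.IsAlgStack Scheme.fppfPrecoverage 𝒴')
    (h𝒴'd : AlgSt.RepByAlgSpWith (AlgSp.IsSeparatedMor ⊓ AlgSp.IsQuasiCompactMor)
      (FibCat.diag (FibCat.toSelf 𝒴')))
    (h𝒴'i : AlgSt.RepByAlgSpWith (AlgSp.LocP @LocallyOfFinitePresentation)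
      (FibCat.inertiaToBase (FibCat.toSelf 𝒴')))
    (f : 𝒳 ⥤ᵇ 𝒴) (f' : 𝒳' ⥤ᵇ 𝒴') (φ : IsoNat.FIsoSq f f')
    (hft : AlgSt.LocQ (AlgSp.LocP @LocallyOfFiniteType) f)
    (hft' : AlgSt.LocQ (AlgSp.LocP @LocallyOfFiniteType) f')
    (hN : AlgSt.SmoothLocally (fun X => IsLocallyNoetherian X) 𝒴)
    (hN' : AlgSt.SmoothLocally (fun X => IsLocallyNoetherian X) 𝒴')
    (hf : AlgSt.IsSeparatedMor f) :
    AlgSt.IsSeparatedMor f' := by
  open Groth.Agent.H14IsoNat in
  haveI : SepStack 𝒳 := ⟨h𝒳.isStack, Groth.Agent.H14AlgSt.repWith_mono (fun _ _ _ h => h.1) h𝒳d⟩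
  open Groth.Agent.H14IsoNat in
  haveI : SepStack 𝒴 := ⟨h𝒴.isStack, Groth.Agent.H14AlgSt.repWith_mono (fun _ _ _ h => h.1) h𝒴d⟩
  open Groth.Agent.H14IsoNat in
  haveI : SepStack 𝒳' := ⟨h𝒳'.isStack, Groth.Agent.H14AlgSt.repWith_mono (fun _ _ _ h => h.1) h𝒳'd⟩
  open Groth.Agent.H14IsoNat in
  haveI : SepStack 𝒴' := ⟨h𝒴'.isStack, Groth.Agent.H14AlgSt.repWith_mono (fun _ _ _ h => h.1) h𝒴'd⟩
  refine Groth.Agent.H14IsoNat.proper_diag_of_extD h𝒳' h𝒳'd h𝒴' h𝒴'd hft' hN'
    fun A K _ _ _ _ _ _ str => ?_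
  haveI : IsOpenImmersion (Groth.Agent.H14IsoNat.genPt K str).left :=
    Groth.Agent.H14IsoNat.isOpenImmersion_generic
  exact Groth.Agent.H14IsoNat.extD_transfer _ f φ (Groth.Agent.H14IsoNat.extD_of_proper hf str)

end Groth.Agent.S15481
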