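import Groth.Statements.S15482
import Groth.Agent.H14IsoNat.QCPoints

set_option autoImplicit false
set_option backward.isDefEq.respectTransparency false
set_option backward.isDefEq.respectTransparency.types false
universe u
open CategoryTheory AlgebraicGeometry
open IsoNat

namespace Groth.Agent.S15482

/-- A morphism f : 𝒳 → 𝒴 of algebraic stacks over a quasi-separated scheme S is quasi-compact (its base
change to every quasi-compact algebraic stack is quasi-compact) if and only if for every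
quasi-compact algebraic stack 𝒴' and every open immersion j : 𝒴' → 𝒴 (representable by open
immersions of algebraic spaces) the 2-fibre product 𝒴' ×_𝒴 𝒳 is quasi-compact. Here an algebraic
stack over a quasi-separated scheme S means a stack in groupoids for the fppf topology with a smooth
surjective atlas from a scheme, whose diagonal is representable by separated quasi-compact morphisms
of algebraic spaces and whose inertia is locally of finite presentation over it. -/
theorem result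
    (S : Scheme.{u}) [QuasiSeparatedSpace S]
    (𝒳 𝒴 : AlgSt.Cat S)
    (h𝒳 : AlgSt.IsAlgStack Scheme.fppfPrecoverage 𝒳)
    (h𝒳d : AlgSt.RepByAlgSpWith (AlgSp.IsSeparatedMor ⊓ AlgSp.IsQuasiCompactMor)
      (FibCat.diag (FibCat.toSelf 𝒳)))
    (h𝒳i : AlgSt.RepByAlgSpWith (AlgSp.LocP @LocallyOfFinitePresentation)
      (FibCat.inertiaToBase (FibCat.toSelf 𝒳)))
    (h𝒴 : AlgSt.IsAlgStack Scheme.fppfPrecoverage 𝒴)
    (h𝒴d : AlgSt.RepByAlgSpWith (AlgSp.IsSeparatedMor ⊓ AlgSp.IsQuasiCompactMor)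
      (FibCat.diag (FibCat.toSelf 𝒴)))
    (h𝒴i : AlgSt.RepByAlgSpWith (AlgSp.LocP @LocallyOfFinitePresentation)
      (FibCat.inertiaToBase (FibCat.toSelf 𝒴)))
    (f : 𝒳 ⥤ᵇ 𝒴) :
    AlgSt.IsQuasiCompactMor Scheme.fppfPrecoverage f ↔
      ∀ (𝒴' : AlgSt.Cat S), AlgSt.IsAlgStack Scheme.fppfPrecoverage 𝒴' → AlgSt.IsQuasiCompact 𝒴' →
        ∀ (j : 𝒴' ⥤ᵇ 𝒴), AlgSt.IsOpenImm j → AlgSt.IsQuasiCompact (FibCat.fp j f) := by
  refine ⟨fun hf 𝒴' h𝒴' hc j _ => hf 𝒴' h𝒴' hc j, fun h => ?_⟩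
  rw [Groth.Agent.H14IsoNat.isQCMor_iff_preimage h𝒳 h𝒴
    (Groth.Agent.H14AlgSt.repWith_mono (fun _ _ _ hh => hh.2) h𝒴d)]
  intro V hVo hVc
  have hsub := Groth.Agent.H14AlgSt.isOpenSubstack_ptPred h𝒴 hVo
  have h1 := Groth.Agent.H14IsoNat.isCompact_preimage_range hsub.2.1 h𝒳 h𝒴 _ f
    (h _ hsub.2.1 (Groth.Agent.H14IsoNat.isQuasiCompact_ptPred h𝒴 hVo hVc) _ hsub.2.2)
  rwa [Groth.Agent.H14AlgSt.range_ptPred] at h1

end Groth.Agent.S15482
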