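import Groth.Statements.S15488
import Groth.Agent.H14Cat.Free

set_option autoImplicit false
set_option backward.isDefEq.respectTransparency false
set_option backward.isDefEq.respectTransparency.types false
universe u
open IsoNat

namespace Groth.Agent.S15488

/-- Let A be a nontrivial commutative ring, G a finite group, g an element of G of order ν and l an
element of A with l ^ ν = 1. In the free A-module of functions G → A (the regular representation, g
acting by translation v ↦ v(g·)), the submodule of v with v(g h) = l v(h) for all h is a direct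
summand, free of rank |G| / ν (stated as: free, rank · ν = |G|, and a complementary submodule
exists). (The published statement is over an arbitrary ring and also covers Hom(A^N, −) of the
regular representation, which follows; nontriviality of A is needed for the rank to be meaningful.) -/
theorem result
    (A : Type u) [CommRing A] [Nontrivial A] (G : Type u) [Group G] [Finite G]
    (g : G) (l : A) (hl : l ^ orderOf g = 1) :
    Module.Free A (LinearMap.ker (LinearMap.funLeft A A (fun h : G => g * h) - l • LinearMap.id)) ∧
      Module.finrank A (LinearMap.ker (LinearMap.funLeft A A (fun h : G => g * h) - l • LinearMap.id)) * orderOf g = Nat.card G ∧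
      ∃ E' : Submodule A (G → A), IsCompl (LinearMap.ker (LinearMap.funLeft A A (fun h : G => g * h) - l • LinearMap.id)) E' := by
  classical
  let H := Subgroup.zpowers g
  let K := LinearMap.ker (LinearMap.funLeft A A (fun h : G => g * h) - l • LinearMap.id)
  have hK : ∀ v : G → A, v ∈ K ↔ ∀ h, v (g * h) = l * v h := fun v => by
    simp [K, LinearMap.mem_ker, funext_iff, sub_eq_zero, LinearMap.funLeft]
  have hpow : ∀ v, v ∈ K → ∀ (n : ℕ) h, v (g ^ n * h) = l ^ n * v h := fun v hv n => by
    induction n with
    | zero => simp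
    | succ n ih => intro h; rw [pow_succ, mul_assoc, ih, (hK v).1 hv, pow_succ, mul_assoc]
  let s : Setoid G := QuotientGroup.rightRel H
  let R := Quotient s
  let rep : R → G := Quotient.out
  have hex : ∀ h : G, ∃ n : ℕ, n < orderOf g ∧ h = g ^ n * rep ⟦h⟧ := fun h => by
    have h1 : s (rep ⟦h⟧) h := Quotient.mk_out h
    rw [QuotientGroup.rightRel_apply] at h1
    obtain ⟨n, hn, hne⟩ : ∃ n : ℕ, n < orderOf g ∧ g ^ n = h * (rep ⟦h⟧)⁻¹ := by
      have := mem_zpowers_iff_mem_range_orderOf.1 h1
      simpa [Finset.mem_image] using this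
    exact ⟨n, hn, by rw [hne, inv_mul_cancel_right]⟩
  choose N hNlt hN using hex
  have hmod : ∀ a b : ℕ, a % orderOf g = b % orderOf g → l ^ a = l ^ b := fun a b hab => by
    rw [← pow_mod_orderOf l a, ← pow_mod_orderOf l b]
    have hd : orderOf l ∣ orderOf g := orderOf_dvd_of_pow_eq_one hl
    rw [← Nat.mod_mod_of_dvd a hd, hab, Nat.mod_mod_of_dvd b hd]
  let e : (R → A) →ₗ[A] (G → A) :=
    { toFun := fun c h => l ^ N h * c ⟦h⟧
      map_add' := fun c d => by ext h; simp [mul_add]
      map_smul' := fun a c => by ext h; simp [mul_left_comm] }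
  have heK : ∀ c, e c ∈ K := fun c => (hK _).2 fun h => by
    have hq : (⟦g * h⟧ : R) = ⟦h⟧ := Quotient.sound (QuotientGroup.rightRel_apply.2 (by simp [H, mul_inv_rev]))
    show l ^ N (g * h) * c ⟦g * h⟧ = l * (l ^ N h * c ⟦h⟧)
    rw [hq, ← mul_assoc, ← pow_succ']
    congr 1
    refine hmod _ _ (pow_inj_mod.1 ?_)
    have h1 := hN (g * h)
    rw [hq] at h1
    apply mul_right_cancel (b := rep ⟦h⟧)
    rw [← h1, pow_succ', mul_assoc, ← hN h]
  have hrep : ∀ (c : R → A) (r : R), e c (rep r) = c r := fun c r => by
    show l ^ N (rep r) * c ⟦rep r⟧ = c r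
    have hq : (⟦rep r⟧ : R) = r := Quotient.out_eq r
    have h1 := hN (rep r)
    rw [hq] at h1 ⊢
    have h0 : N (rep r) % orderOf g = 0 % orderOf g :=
      pow_inj_mod.1 (by rw [pow_zero]; exact right_eq_mul.1 h1)
    rw [hmod _ _ h0, pow_zero, one_mul]
  let π : (G → A) →ₗ[A] (R → A) := LinearMap.funLeft A A rep
  have hπ : ∀ c, π (e c) = c := fun c => funext fun r => hrep c r
  have hKe : ∀ v, v ∈ K → e (π v) = v := fun v hv => funext fun h => by
    show l ^ N h * v (rep ⟦h⟧) = v h
    rw [← hpow v hv, ← hN]
  let E : (R → A) ≃ₗ[A] K :=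
    { toFun := fun c => ⟨e c, heK c⟩
      map_add' := fun c d => Subtype.ext (map_add e c d)
      map_smul' := fun a c => Subtype.ext (map_smul e a c)
      invFun := fun v => π v
      left_inv := hπ
      right_inv := fun v => Subtype.ext (hKe v v.2) }
  have : Finite R := Quotient.finite s
  have : Fintype R := Fintype.ofFinite R
  refine ⟨Module.Free.of_equiv E, ?_, LinearMap.ker π, ?_⟩
  · rw [← E.finrank_eq, Module.finrank_pi, ← Nat.card_eq_fintype_card, ← Nat.card_zpowers]
    rw [Nat.card_congr (QuotientGroup.quotientRightRelEquivQuotientLeftRel H),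
      Subgroup.card_eq_card_quotient_mul_card_subgroup H]
  · refine ⟨Submodule.disjoint_def.2 fun v hv hv' => ?_, ?_⟩
    · rw [← hKe v hv, LinearMap.mem_ker.1 hv', map_zero]
    · rw [codisjoint_iff, eq_top_iff]
      intro v _
      rw [Submodule.mem_sup]
      exact ⟨e (π v), heK _, v - e (π v), by simp [hπ], by simp⟩

end Groth.Agent.S15488
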