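import Groth.Statements.S1549
import Mathlib
import Groth.Agent.H22Alg.GeomReducedAt
import Groth.Agent.H7Flat.GenericGeomReduced
import Groth.Agent.H19Grp.ImageGroup

set_option autoImplicit false
universe u
open CategoryTheory CategoryTheory.Limits AlgebraicGeometry
open Variety

namespace Groth.Agent.S1549

/-- For a reduced scheme locally of finite type over k, being geometrically reduced is equivalent to
having a dense open subscheme that is smooth over k. -/
theorem result (k : Type u) [Field k] (X : Scheme.{u}) [X.Over (Spec (CommRingCat.of k))] [IsReduced X] [LocallyOfFiniteType (X ↘ (Spec (CommRingCat.of k)))] :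
    GeometricallyReduced (X ↘ (Spec (CommRingCat.of k))) ↔ ∃ U : X.Opens, Dense (U : Set X) ∧ Smooth (U.ι ≫ (X ↘ (Spec (CommRingCat.of k)))) := by
  set f := X ↘ Spec (CommRingCat.of k)
  haveI : LocallyOfFinitePresentation f := by
    rw [HasRingHomProperty.iff_appLE (P := @LocallyOfFinitePresentation)]
    intro U V e
    haveI : IsNoetherianRing Γ(Spec (CommRingCat.of k), U.1) := IsLocallyNoetherian.component_noetherian U
    exact RingHom.FinitePresentation.of_finiteType.1
      (HasRingHomProperty.appLE @LocallyOfFiniteType f inferInstance U V e)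
  constructor
  · intro hg
    exact ⟨f.smoothLocus, Groth.Agent.H7Flat.GenericFibre.dense_smoothLocus_of_geometricallyReduced f,
      Groth.Agent.H17.LocusBC.smooth_restrict_smoothLocus f⟩
  · rintro ⟨U, hd, hs⟩
    haveI : IsLocallyNoetherian X := LocallyOfFiniteType.isLocallyNoetherian f
    refine Groth.Agent.H22Alg.GeomReducedAt.geometricallyReduced_of_genericPoints k X fun η hη => ?_
    intro K _ _ x' hx'
    haveI := Groth.Agent.H19Grp.geometricallyReduced_of_smooth (U.ι ≫ f)
    set s := Spec.map (CommRingCat.ofHom (algebraMap k K))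
    haveI : IsReduced (pullback (U.ι ≫ f) s) :=
      GeometricallyReduced.geometrically_isReduced _ _ _ (.of_hasPullback _ s)
    let j : pullback (U.ι ≫ f) s ⟶ pullback f s :=
      pullback.map (U.ι ≫ f) s f s U.ι (𝟙 _) (𝟙 _) (by simp) (by simp)
    have hsq : IsPullback j (pullback.fst (U.ι ≫ f) s) (pullback.fst f s) U.ι := by
      refine IsPullback.of_right ?_ (pullback.lift_fst _ _ _) (IsPullback.of_hasPullback _ s).flip
      rw [show j ≫ pullback.snd f s = pullback.snd (U.ι ≫ f) s from (pullback.lift_snd _ _ _).trans (Category.comp_id _)]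
      exact (IsPullback.of_hasPullback _ s).flip
    have hηU : η ∈ U := Groth.Agent.H8Props.genericPoints_subset_of_dense U.isOpen hd hη
    obtain ⟨q, hq, -⟩ := Scheme.Pullback.exists_preimage_pullback (f := pullback.fst f s) (g := U.ι) x' ⟨η, hηU⟩ hx'
    have he : j (hsq.isoPullback.inv q) = x' := by
      rw [← Scheme.Hom.comp_apply, hsq.isoPullback_inv_fst, hq]
    haveI : IsOpenImmersion j := MorphismProperty.of_isPullback (P := @IsOpenImmersion) hsq.flip inferInstance
    subst he
    exact isReduced_of_injective (j.stalkMap (hsq.isoPullback.inv q)).hom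
      (asIso (j.stalkMap (hsq.isoPullback.inv q))).commRingCatIsoToRingEquiv.injective

end Groth.Agent.S1549
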