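import Groth.Statements.S15491

set_option autoImplicit false
set_option backward.isDefEq.respectTransparency false
set_option backward.isDefEq.respectTransparency.types false
universe v u
open CategoryTheory CategoryTheory.Functor
open IsoNat

namespace Groth.Agent.S15491

--- pre
section
open Limits Limits.CategoricalPullback

variable {B A' B' A'' B'' : Type u} [Category.{v} B] [Category.{v} A'] [Category.{v} B']
  [Category.{v} A''] [Category.{v} B'']
  (r : B ⥤ B') {t' : A' ⥤ B'} {l' : A' ⥤ A''} {r' : B' ⥤ B''} {t'' : A'' ⥤ B''}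
  (e₂ : t' ⋙ r' ≅ l' ⋙ t'')

/-- Composition with the lower square. -/
def pasteFun : CategoricalPullback r t' ⥤ CategoricalPullback (r ⋙ r') t'' where
  obj x := ⟨x.fst, l'.obj x.snd, r'.mapIso x.iso ≪≫ e₂.app x.snd⟩
  map {x y} f :=
    { fst := f.fst
      snd := l'.map f.snd
      w := by
        have h := e₂.hom.naturality f.snd
        simp only [Functor.comp_map] at h
        simp only [Functor.comp_map, Iso.trans_hom, Functor.mapIso_hom, Iso.app_hom, Category.assoc,
          ← h, ← Functor.map_comp_assoc, f.w] }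

lemma pasteFun_isEquivalence (h₂ : FibCat.IsTwoCart t' l' r' t'' e₂) :
    (pasteFun r e₂).IsEquivalence := by
  let K := (CatCommSqOver.toFunctorToCategoricalPullback r' t'' A').obj ⟨t', l', e₂⟩
  have : K.IsEquivalence := h₂
  have : (pasteFun r e₂).Faithful := ⟨fun {x y} f g h => by
    have h1 : f.fst = g.fst := congrArg (CategoricalPullback.π₁ (r ⋙ r') t'').map h
    refine CategoricalPullback.hom_ext h1 (K.map_injective (CategoricalPullback.hom_ext ?_ ?_))
    · show t'.map f.snd = t'.map g.snd
      rw [← cancel_epi x.iso.hom, ← f.w, ← g.w, h1]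
    · exact congrArg (CategoricalPullback.π₂ (r ⋙ r') t'').map h⟩
  have : (pasteFun r e₂).Full := ⟨fun {x y} f => by
    let m : K.obj x.snd ⟶ K.obj y.snd :=
      { fst := x.iso.inv ≫ r.map f.fst ≫ y.iso.hom
        snd := f.snd
        w := by
          have := f.w
          simp only [pasteFun, Functor.comp_map, Iso.trans_hom, Functor.mapIso_hom,
            Iso.app_hom] at this
          change r'.map (x.iso.inv ≫ r.map f.fst ≫ y.iso.hom) ≫ e₂.hom.app _ = _
          simp only [Functor.map_comp, Category.assoc]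
          erw [this]
          rw [Category.assoc, ← Functor.map_comp_assoc, Iso.inv_hom_id, CategoryTheory.Functor.map_id]
          erw [Category.id_comp]
          rfl }
    refine ⟨{ fst := f.fst, snd := K.preimage m, w := ?_ }, ?_⟩
    · have := congrArg (CategoricalPullback.π₁ r' t'').map (K.map_preimage m)
      change t'.map (K.preimage m) = _ at this
      rw [this]
      simp [m]
    · exact CategoricalPullback.hom_ext rfl
        (congrArg (CategoricalPullback.π₂ r' t'').map (K.map_preimage m))⟩
  have : (pasteFun r e₂).EssSurj := ⟨fun z => by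
    let w : CategoricalPullback r' t'' := ⟨r.obj z.fst, z.snd, z.iso⟩
    let κ := K.objObjPreimageIso w
    refine ⟨⟨z.fst, K.objPreimage w, ((CategoricalPullback.π₁ _ _).mapIso κ).symm⟩,
      ⟨CategoricalPullback.mkIso (Iso.refl _) ((CategoricalPullback.π₂ _ _).mapIso κ) ?_⟩⟩
    have := κ.hom.w
    simp only [pasteFun, Functor.mapIso_hom, Iso.trans_hom, Iso.app_hom, Category.assoc]
    refine ((by simp : (r ⋙ r').map (𝟙 _) ≫ z.iso.hom = z.iso.hom)).trans ?_
    erw [← this, ← Functor.map_comp_assoc]
    show z.iso.hom = r'.map (κ.inv.fst ≫ κ.hom.fst) ≫ z.iso.hom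
    rw [← CategoricalPullback.comp_fst, κ.inv_hom_id]
    simp [w]⟩
  exact { }

end

/-- Pasting of 2-cartesian squares, stated in the 2-category of categories. Consider functors t : A → B,
t' : A' → B', t'' : A'' → B'' and l : A → A', r : B → B', l' : A' → A'', r' : B' → B'' with natural
isomorphisms e₁ : t ⋙ r ≅ l ⋙ t' and e₂ : t' ⋙ r' ≅ l' ⋙ t''. If the lower square (t', l', r', t'',
e₂) is 2-cartesian (its comparison functor to the 2-fibre product is an equivalence), then the upper
square (t, l, r, t', e₁) is 2-cartesian if and only if the outer rectangle (t, l ⋙ l', r ⋙ r', t'')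
with the pasted isomorphism is. (The published statement is for an arbitrary 2-category whose
2-morphisms are invertible; this row is the case of categories, functors and natural isomorphisms.) -/
theorem result
    {A B A' B' A'' B'' : Type u} [Category.{v} A] [Category.{v} B] [Category.{v} A'] [Category.{v} B']
    [Category.{v} A''] [Category.{v} B'']
    (t : A ⥤ B) (l : A ⥤ A') (r : B ⥤ B') (t' : A' ⥤ B') (l' : A' ⥤ A'') (r' : B' ⥤ B'') (t'' : A'' ⥤ B'')
    (e₁ : t ⋙ r ≅ l ⋙ t') (e₂ : t' ⋙ r' ≅ l' ⋙ t'')
    (h₂ : FibCat.IsTwoCart t' l' r' t'' e₂) :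
    FibCat.IsTwoCart t l r t' e₁ ↔
      FibCat.IsTwoCart t (l ⋙ l') (r ⋙ r') t''
        ((Functor.associator t r r').symm ≪≫ isoWhiskerRight e₁ r' ≪≫ Functor.associator l t' r' ≪≫
          isoWhiskerLeft l e₂ ≪≫ (Functor.associator l l' t'').symm) := by
  let K₁ := (Limits.CategoricalPullback.CatCommSqOver.toFunctorToCategoricalPullback r t' A).obj ⟨t, l, e₁⟩
  let Θ := pasteFun r e₂
  have : Θ.IsEquivalence := pasteFun_isEquivalence r e₂ h₂
  let K₂ := (Limits.CategoricalPullback.CatCommSqOver.toFunctorToCategoricalPullback (r ⋙ r') t'' A).obj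
    ⟨t, l ⋙ l', (Functor.associator t r r').symm ≪≫ Functor.isoWhiskerRight e₁ r' ≪≫
      Functor.associator l t' r' ≪≫ Functor.isoWhiskerLeft l e₂ ≪≫ (Functor.associator l l' t'').symm⟩
  let i : K₁ ⋙ Θ ≅ K₂ := NatIso.ofComponents
    (fun a => Limits.CategoricalPullback.mkIso (Iso.refl _) (Iso.refl _) (by simp [K₁, K₂, Θ, pasteFun]; rfl))
    (fun f => Limits.CategoricalPullback.hom_ext (by simp [K₁, K₂, Θ, pasteFun]) (by simp [K₁, K₂, Θ, pasteFun]))
  show K₁.IsEquivalence ↔ K₂.IsEquivalence
  exact ⟨fun h => Functor.isEquivalence_of_iso i, fun h => by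
    have := Functor.isEquivalence_of_iso i.symm
    exact Functor.isEquivalence_of_comp_right K₁ Θ⟩

end Groth.Agent.S15491
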