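import Groth.Statements.S15493
import Groth.Agent.H14AlgSt.Image

set_option autoImplicit false
set_option backward.isDefEq.respectTransparency false
set_option backward.isDefEq.respectTransparency.types false
universe u
open CategoryTheory AlgebraicGeometry
open IsoNat

namespace Groth.Agent.S15493

open CategoryTheory AlgebraicGeometry
open Groth.Agent.H14Fib Groth.Agent.H14Stk Groth.Agent.H14AlgSt

/-- The presheaf of isomorphism classes commutes with fibre products along an open immersion. Let f : 𝒳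
→ 𝒴 be a morphism of algebraic stacks over a quasi-separated scheme S and i : 𝒴' → 𝒴 an open
immersion of algebraic stacks (representable by open immersions of algebraic spaces). If two objects
of the 2-fibre product 𝒳 ×_𝒴 𝒴' over a scheme T have isomorphic images in 𝒳 over T and isomorphic
images in 𝒴' over T, then they are isomorphic over T. (Together with the evident surjectivity this
says that the natural map from the presheaf of isomorphism classes of 𝒳 ×_𝒴 𝒴' to the fibre product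
of the presheaves of 𝒳 and 𝒴' over that of 𝒴 is an isomorphism; the published statement is for
arbitrary stacks, this row takes them algebraic.) -/
theorem result
    (S : Scheme.{u}) [QuasiSeparatedSpace S]
    (𝒳 𝒴 𝒴' : AlgSt.Cat S)
    (h𝒳 : AlgSt.IsAlgStack Scheme.fppfPrecoverage 𝒳) (h𝒴 : AlgSt.IsAlgStack Scheme.fppfPrecoverage 𝒴)
    (h𝒴' : AlgSt.IsAlgStack Scheme.fppfPrecoverage 𝒴')
    (f : 𝒳 ⥤ᵇ 𝒴) (i : 𝒴' ⥤ᵇ 𝒴) (hi : AlgSt.IsOpenImm i)
    (T : Over S) (z₁ z₂ : (FibCat.fp f i).p.Fiber T)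
    (h₁ : IsoNat.mapCls (FibCat.fpFst f i) T (IsoNat.cls z₁) = IsoNat.mapCls (FibCat.fpFst f i) T (IsoNat.cls z₂))
    (h₂ : IsoNat.mapCls (FibCat.fpSnd f i) T (IsoNat.cls z₁) = IsoNat.mapCls (FibCat.fpSnd f i) T (IsoNat.cls z₂)) :
    IsoNat.cls z₁ = IsoNat.cls z₂ := by
  have := full_of_isMono h𝒴'.isStack.1 h𝒴.isStack.1
    (repWith_mono (fun _ _ _ ha => Groth.Agent.H12AlgSp.mono_of_repWith (fun _ _ g (_ : IsOpenImmersion g) => (inferInstance : Mono g)) ha) hi)
  have := faithful_of_repByAlgSp1 h𝒴'.isStack.1 h𝒴.isStack.1 (repByAlgSp1_of_with hi)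
  obtain ⟨ea⟩ := Quotient.exact h₁
  let a : z₁.1.obj.fst ≅ z₂.1.obj.fst := Functor.Fiber.fiberInclusion.mapIso ea
  have ha : 𝒳.p.IsHomLift (𝟙 T) a.hom := ea.hom.2
  let m : i.obj z₁.1.obj.snd ≅ i.obj z₂.1.obj.snd :=
    z₁.1.obj.iso.symm ≪≫ f.toFunctor.mapIso a ≪≫ z₂.1.obj.iso
  let b := i.toFunctor.preimageIso m
  refine Quotient.sound ⟨?_⟩
  let e : z₁.1 ≅ z₂.1 := fpIsoMk a b (by
    change f.map a.hom ≫ z₂.1.obj.iso.hom = z₁.1.obj.iso.hom ≫ i.map (i.toFunctor.preimage m.hom)
    rw [i.toFunctor.map_preimage]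
    simp [m])
  have he : (FibCat.fp f i).p.IsHomLift (𝟙 T) e.hom := fpIsoMk_lift _ _ _ ha
  exact
    { hom := ⟨e.hom, he⟩
      inv := ⟨e.inv, @IsHomLift.lift_id_inv _ _ _ _ (FibCat.fp f i).p _ _ _ e he⟩
      hom_inv_id := Functor.Fiber.hom_ext e.hom_inv_id
      inv_hom_id := Functor.Fiber.hom_ext e.inv_hom_id }

end Groth.Agent.S15493
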