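import Groth.Statements.S15494
import Groth.Agent.H27Misc.NormalForm

set_option autoImplicit false
universe u v
open Dieud

namespace Groth.Agent.S15494

/-- Let W be a commutative ring with a ring endomorphism σ, p a natural number, M a W-module and F an
additive self-map of M with F (w • m) = σ w • F m. Let d ≥ 1, c ≥ 1, h = d + c, and let e_1, …, e_h,
… be vectors of M on which F acts through a display matrix in normal form: F e_i = e_{i+1} for 1 ≤ i
< d; F e_d = Σ_{i=1}^{d} a_{i,d} e_i + e_{d+1}; F e_j = Σ_{i=1}^{d} p a_{i,j} e_i + p e_{j+1} for d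
< j < h; F e_h = Σ_{i=1}^{d} p a_{i,h} e_i. Then F^h e_1 = Σ_{i=1}^{d} Σ_{j=d}^{h} p^{j-d}
σ^{h-j}(a_{i,j}) F^{h+i-j-1} e_1. (The published statement is for the Dieudonné module of a
p-divisible group of dimension d and height h over the Witt ring of a field of characteristic p,
with σ the Frobenius and e_1, …, e_h a basis; this row keeps only the relations which the printed
computation uses, so W, σ, p and the vectors are arbitrary.) -/
theorem result
    (W : Type u) [CommRing W] (σ : W →+* W) (p : ℕ)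
    (M : Type v) [AddCommGroup M] [Module W M]
    (F : M →+ M) (hF : ∀ (w : W) (m : M), F (w • m) = σ w • F m)
    (d c : ℕ) (hd : 0 < d) (hc : 0 < c)
    (a : ℕ → ℕ → W) (e : ℕ → M)
    (h1 : ∀ i : ℕ, 1 ≤ i → i < d → F (e i) = e (i + 1))
    (h2 : F (e d) = (∑ i ∈ Finset.Icc 1 d, a i d • e i) + e (d + 1))
    (h3 : ∀ j : ℕ, d < j → j < d + c →
      F (e j) = (∑ i ∈ Finset.Icc 1 d, ((p : W) * a i j) • e i) + (p : W) • e (j + 1))
    (h4 : F (e (d + c)) = ∑ i ∈ Finset.Icc 1 d, ((p : W) * a i (d + c)) • e i) :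
    (⇑F)^[d + c] (e 1) = ∑ i ∈ Finset.Icc 1 d, ∑ j ∈ Finset.Icc d (d + c),
      ((p : W) ^ (j - d) * (⇑σ)^[d + c - j] (a i j)) • (⇑F)^[d + c + i - j - 1] (e 1) := by
  exact Groth.Agent.H27Misc.iterate_normalForm σ p F hF d c hd hc a e h1 h2 h3 h4

end Groth.Agent.S15494
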