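import Groth.Statements.S15495
import Mathlib.Algebra.Order.Ring.Star
import Mathlib.Combinatorics.Nullstellensatz
import Mathlib.Data.Rat.Star
import Mathlib.FieldTheory.Finite.Basic
import Mathlib.LinearAlgebra.BilinearForm.Properties
import Mathlib.RepresentationTheory.Invariants
import Mathlib.RingTheory.Flat.TorsionFree
import Mathlib.RingTheory.Henselian
import Mathlib.RingTheory.Ideal.AssociatedPrime.Basic
import Mathlib.RingTheory.RegularLocalRing.Defs
import Mathlib.RingTheory.SimpleRing.Principal

set_option autoImplicit false
universe u
open CAlg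

namespace Groth.Agent.S15495

/-- In an Artinian local ring R whose maximal ideal m contains the prime number p, the multiplicative
group 1 + m is annihilated under some power of p: there is n with (1 + x)^(p^n) = 1 for every x in
m. (The published text makes this assertion inside a proof, for Artinian local algebras over the
Witt ring of a perfect field of characteristic p; only p ∈ m and the nilpotence of m are used.) -/
theorem result
    (R : Type u) [CommRing R] [IsLocalRing R] [IsArtinianRing R]
    (p : ℕ) (hp : p.Prime) (hpm : (p : R) ∈ IsLocalRing.maximalIdeal R) :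
    ∃ n : ℕ, ∀ x ∈ IsLocalRing.maximalIdeal R, (1 + x) ^ (p ^ n) = 1 := by
  obtain ⟨N, hN⟩ := IsArtinianRing.isNilpotent_jacobson_bot (R := R)
  rw [IsLocalRing.jacobson_eq_maximalIdeal ⊥ bot_ne_top] at hN
  refine ⟨N, fun x hx => ?_⟩
  have key : ∀ k, (1 + x) ^ (p ^ k) - 1 ∈ IsLocalRing.maximalIdeal R ^ (k + 1) := by
    intro k
    induction k with
    | zero => simpa using hx
    | succ k ih =>
      set y := (1 + x) ^ (p ^ k)
      rw [pow_succ p, pow_mul, pow_succ _ (k+1), ← mul_geom_sum y p]
      refine Ideal.mul_mem_mul ih ?_
      have : (∑ i ∈ Finset.range p, y ^ i) - (p : R) ∈ IsLocalRing.maximalIdeal R := by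
        have : ∑ i ∈ Finset.range p, (y ^ i - 1) ∈ IsLocalRing.maximalIdeal R := by
          refine sum_mem fun i _ => ?_
          rw [← mul_geom_sum]
          exact Ideal.mul_mem_right _ _ (Ideal.pow_le_self (Nat.succ_ne_zero k) ih)
        simpa using this
      simpa using add_mem this hpm
  have := Ideal.pow_le_pow_right (Nat.le_succ N) (key N)
  rw [hN, Ideal.zero_eq_bot, Ideal.mem_bot, sub_eq_zero] at this
  exact this

end Groth.Agent.S15495
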