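import Groth.Statements.S15496
import Mathlib.Algebra.Order.Ring.Star
import Mathlib.Algebra.TrivSqZeroExt.Basic
import Mathlib.Order.CompletePartialOrder
import Mathlib.RingTheory.Flat.TorsionFree
import Mathlib.RingTheory.Henselian
import Mathlib.RingTheory.MvPolynomial.IrreducibleQuadratic
import Mathlib.RingTheory.PicardGroup
import Mathlib.RingTheory.RegularLocalRing.Defs
import Mathlib.RingTheory.SimpleRing.Principal
import Mathlib.RingTheory.TotallySplit

set_option autoImplicit false
universe u
open CAlg

namespace Groth.Agent.S15496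

/-- Let R be a local ring with maximal ideal m, p a prime number lying in m, and suppose the residue
field of R is perfect, i.e. every element is a p-th power; let n ≥ 0. Then every unit of R is the
product of a p^n-th power of a unit and an element of 1 + m, and an element of 1 + m which is a
p^n-th power of a unit is a p^n-th power of an element of 1 + m; so the inclusion of 1 + m in the
unit group induces a bijection between (1 + m)/(1 + m)^(p^n) and Rˣ/(Rˣ)^(p^n). (The published text
derives this equality of quotients, inside a proof, from perfectness of the base field K for all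
Artinian local algebras over its Witt ring, whose residue fields need not be perfect; this row
assumes the residue field of R perfect of characteristic p, which the equality needs, and does not
assume R Artinian.) -/
theorem result
    (R : Type u) [CommRing R] [IsLocalRing R] (p : ℕ) (hp : p.Prime)
    (hpm : (p : R) ∈ IsLocalRing.maximalIdeal R)
    (hperf : ∀ a : IsLocalRing.ResidueField R, ∃ b : IsLocalRing.ResidueField R, b ^ p = a)
    (n : ℕ) :
    (∀ u : Rˣ, ∃ v : Rˣ, ∃ x ∈ IsLocalRing.maximalIdeal R, (u : R) = (v : R) ^ (p ^ n) * (1 + x)) ∧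
    (∀ x ∈ IsLocalRing.maximalIdeal R, (∃ v : Rˣ, (v : R) ^ (p ^ n) = 1 + x) →
      ∃ y ∈ IsLocalRing.maximalIdeal R, (1 + y) ^ (p ^ n) = 1 + x) := by
  have hres : ∀ m, ∀ a : IsLocalRing.ResidueField R, ∃ b, b ^ p ^ m = a := by
    intro m
    induction m with
    | zero => exact fun a => ⟨a, by simp⟩
    | succ m ih =>
      intro a
      obtain ⟨b, rfl⟩ := hperf a
      obtain ⟨c, rfl⟩ := ih b
      exact ⟨c, by rw [pow_succ, pow_mul]⟩
  constructor
  · intro u
    obtain ⟨b, hb⟩ := hres n (IsLocalRing.residue R u)
    obtain ⟨w, rfl⟩ := IsLocalRing.residue_surjective b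
    have hw : IsUnit w := by
      rw [← IsLocalRing.residue_ne_zero_iff_isUnit]
      intro h0
      rw [h0, zero_pow (pow_ne_zero _ hp.ne_zero)] at hb
      exact (IsLocalRing.residue_ne_zero_iff_isUnit _).mpr u.isUnit hb.symm
    refine ⟨hw.unit, ((hw.unit ^ (p ^ n))⁻¹ : Rˣ) * (u : R) - 1, ?_, ?_⟩
    · have e : ((hw.unit ^ p ^ n : Rˣ) : R) = w ^ p ^ n := by rw [Units.val_pow_eq_pow_val, hw.unit_spec]
      rw [← IsLocalRing.residue_eq_zero_iff, map_sub, map_mul, ← hb, ← map_pow, ← map_mul, ← e,
        Units.inv_mul, map_one, sub_self]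
    · rw [add_sub_cancel, ← Units.val_pow_eq_pow_val, Units.mul_inv_cancel_left]
  · rintro x hx ⟨v, hv⟩
    refine ⟨(v : R) - 1, ?_, by rw [add_sub_cancel, hv]⟩
    have : Fact p.Prime := ⟨hp⟩
    have : CharP (IsLocalRing.ResidueField R) p := by
      refine (CharP.charP_iff_prime_eq_zero hp).mpr ?_
      rw [← map_natCast (IsLocalRing.residue R), IsLocalRing.residue_eq_zero_iff]; exact hpm
    rw [← IsLocalRing.residue_eq_zero_iff]
    have h1 : (IsLocalRing.residue R ((v : R) - 1)) ^ p ^ n = 0 := by
      rw [map_sub, sub_pow_char_pow, ← map_pow, hv, map_add, map_one, one_pow, (IsLocalRing.residue_eq_zero_iff x).mpr hx]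
      simp
    exact eq_zero_of_pow_eq_zero h1

end Groth.Agent.S15496
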