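import Groth.Statements.S15497
import Groth.Agent.H27Num.Basic

set_option autoImplicit false
universe u v
open Dieud

namespace Groth.Agent.S15497

/-- Let W be a commutative ring, p ∈ W, m, n natural numbers with h = m + n, M a W-module and e_0, e_1,
… vectors of M with e_{i+h} = p e_i for all i ≥ 0, and let φ be a W-linear endomorphism of M with
φ(e_i) = e_{i+m} for 0 ≤ i < h. Then φ^h(e_i) = p^m e_i for every i ≥ 0; so when e_0, …, e_{h−1} is
a basis, φ^h = p^m · id. (The published text asserts φ^h = p^m · id for the free module with basis
e_0, …, e_{h−1} over the Witt ring of a perfect field, with p the residue characteristic; only the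
stated relations are used.) -/
theorem result
    (W : Type u) [CommRing W] (p : W) (m n : ℕ)
    (M : Type v) [AddCommGroup M] [Module W M] (e : ℕ → M)
    (he : ∀ i : ℕ, e (i + (m + n)) = p • e i)
    (φ : M →ₗ[W] M) (hφ : ∀ i : ℕ, i < m + n → φ (e i) = e (i + m)) (i : ℕ) :
    (φ ^ (m + n)) (e i) = p ^ m • e i := by
  exact Groth.Agent.H27Num.pow_apply_eq_pow_smul W p m n M e he φ hφ i

end Groth.Agent.S15497
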