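import Groth.Statements.S15498
import Mathlib.Tactic
import Mathlib.Order.Interval.Finset.Nat
import Mathlib.Algebra.BigOperators.Intervals

set_option autoImplicit false
open NewtonPoly

namespace Groth.Agent.S15498

/-- Let m, n ≥ 1 be coprime, h = m + n, δ the segment from (0,0) to (h,m) (the isoclinic Newton polygon
of slope m/h) and ρ the ordinary polygon with n slopes 0 followed with m slopes 1, so ρ(i) = max(0,
i − n). The integer points (i,j), 0 ≤ i ≤ h, on or above ρ and strictly below δ — that is max(0, i −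
n) ≤ j and j·h < i·m — are (m−1)(n−1)/2 + (m+n−1) in number (which equals mn − r for r =
(m−1)(n−1)/2). (The published text works under m ≥ n > 0 coprime; the inequality m ≥ n is not used
and not assumed.) -/
theorem result
    (m n : ℕ) (hm : 0 < m) (hn : 0 < n) (hmn : Nat.Coprime m n) :
    ((Finset.range (m + n + 1) ×ˢ Finset.range (m + 1)).filter
      (fun ij : ℕ × ℕ => ij.1 ≤ ij.2 + n ∧ ij.2 * (m + n) < ij.1 * m)).card
      = (m - 1) * (n - 1) / 2 + (m + n - 1) := by
  have hset : ((Finset.range (m + n + 1) ×ˢ Finset.range (m + 1)).filter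
      (fun ij : ℕ × ℕ => ij.1 ≤ ij.2 + n ∧ ij.2 * (m + n) < ij.1 * m)) =
      ((Finset.range m).biUnion fun j => (Finset.Ioc (j + j * n / m) (j + n)).map ⟨fun i => (i, j), fun a b h => (Prod.mk.inj h).1⟩) := by
    ext ⟨i, j⟩
    simp only [Finset.mem_filter, Finset.mem_product, Finset.mem_range, Finset.mem_biUnion, Finset.mem_map,
      Finset.mem_Ioc, Function.Embedding.coeFn_mk, Prod.mk.injEq]
    constructor
    · rintro ⟨⟨hi, hj⟩, h1, h2⟩
      have hjm : j < m := by
        rcases Nat.lt_or_ge j m with h | h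
        · exact h
        · obtain rfl : j = m := by omega
          have : i * j ≤ (j + n) * j := Nat.mul_le_mul_right j h1
          rw [Nat.mul_comm (j + n) j] at this
          omega
      refine ⟨j, hjm, i, ⟨?_, h1⟩, rfl, rfl⟩
      have h3 : (j * m + j * n) / m < i := (Nat.div_lt_iff_lt_mul hm).2 (by rwa [← Nat.mul_add])
      rwa [Nat.add_comm (j * m), Nat.add_mul_div_right _ _ hm, Nat.add_comm] at h3
    · rintro ⟨j', hj', i', ⟨h1, h2⟩, rfl, rfl⟩
      refine ⟨⟨by omega, by omega⟩, h2, ?_⟩
      rw [Nat.add_comm, ← Nat.add_mul_div_right _ _ hm, Nat.div_lt_iff_lt_mul hm] at h1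
      rw [Nat.mul_add]; omega
  rw [hset, Finset.card_biUnion (fun a _ b _ hab => Finset.disjoint_left.2 fun x hx hx' => by
    simp only [Finset.mem_map, Function.Embedding.coeFn_mk] at hx hx'
    obtain ⟨_, _, rfl⟩ := hx
    obtain ⟨_, _, h⟩ := hx'
    exact hab (Prod.mk.inj h).2.symm)]
  simp only [Finset.card_map, Nat.card_Ioc, Nat.add_sub_add_left]
  set S := ∑ j ∈ Finset.range m, j * n / m with hS
  have hle : ∀ j ∈ Finset.range m, j * n / m ≤ n := fun j hj => by
    rw [Nat.div_le_iff_le_mul_add_pred hm]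
    have := Nat.mul_le_mul_right n (Finset.mem_range.1 hj).le
    omega
  have htot : (∑ j ∈ Finset.range m, (n - j * n / m)) + S = m * n := by
    rw [hS, ← Finset.sum_add_distrib, Finset.sum_congr rfl fun j hj => Nat.sub_add_cancel (hle j hj)]
    simp
  obtain ⟨m', rfl⟩ : ∃ m', m = m' + 1 := ⟨m - 1, by omega⟩
  have h2 : 2 * S = m' * (n - 1) := by
    rw [hS, Finset.sum_range_succ']
    simp only [Nat.zero_mul, Nat.zero_div, add_zero]
    rw [two_mul]
    nth_rewrite 2 [← Finset.sum_range_reflect]
    rw [← Finset.sum_add_distrib, Finset.sum_congr rfl (g := fun _ => n - 1)]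
    · simp
    intro j hj
    have hj' := Finset.mem_range.1 hj
    have hnd : ¬ (m' + 1) ∣ (j + 1) * n := fun h => by
      have := Nat.le_of_dvd (by omega) ((Nat.Coprime.dvd_mul_right hmn).1 h)
      omega
    set a := (j + 1) * n / (m' + 1)
    set r := (j + 1) * n % (m' + 1)
    have hr : 0 < r := Nat.pos_of_ne_zero fun h => hnd (Nat.dvd_of_mod_eq_zero h)
    have hrlt : r < m' + 1 := Nat.mod_lt _ (by omega)
    have hdiv : (m' + 1) * a + r = (j + 1) * n := Nat.div_add_mod _ _
    have hsum : (m' - 1 - j + 1) * n + (j + 1) * n = (m' + 1) * n := by rw [← Nat.add_mul]; congr 1; omega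
    have hb : (m' - 1 - j + 1) * n / (m' + 1) = n - 1 - a := by
      have han : a < n := by
        rw [Nat.div_lt_iff_lt_mul (by omega)]
        calc (j + 1) * n < (m' + 1) * n := Nat.mul_lt_mul_of_pos_right (by omega) hn
          _ = n * (m' + 1) := Nat.mul_comm _ _
      refine Nat.div_eq_of_lt_le ?_ ?_
      · have : (n - 1 - a) * (m' + 1) + (m' + 1) * a + (m' + 1) = (m' + 1) * n := by
          conv_rhs => rw [show n = (n - 1 - a) + a + 1 by omega]
          ring
        omega
      · have : (n - 1 - a + 1) * (m' + 1) + (m' + 1) * a = (m' + 1) * n := by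
          conv_rhs => rw [show n = (n - 1 - a + 1) + a by omega]
          ring
        omega
    rw [hb]
    have : a < n := by
      rw [Nat.div_lt_iff_lt_mul (by omega)]
      calc (j + 1) * n < (m' + 1) * n := Nat.mul_lt_mul_of_pos_right (by omega) hn
        _ = n * (m' + 1) := Nat.mul_comm _ _
    omega
  obtain ⟨n', rfl⟩ : ∃ n', n = n' + 1 := ⟨n - 1, by omega⟩
  simp only [Nat.add_sub_cancel] at h2 ⊢
  have : (m' + 1) * (n' + 1) = m' * n' + m' + n' + 1 := by ring
  omega

end Groth.Agent.S15498
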