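import Groth.Statements.S15499
import Groth.Agent.H3CAlg.Horrocks.Global
import Mathlib.RingTheory.Flat.Stability
import Mathlib.RingTheory.LocalRing.Module
import Mathlib.RingTheory.Localization.Free
import Mathlib.RingTheory.Smooth.Basic

set_option autoImplicit false
open Polynomial LaurentPolynomial
open scoped TensorProduct
universe u
open CAlg

namespace Groth.Agent.S15499

/-- Let S = Spec R be a smooth connected affine complex variety, so that R is a finitely generated
smooth ℂ-algebra and an integral domain, and let F be a locally free sheaf of finite rank on the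
projective line over S, presented by its two standard charts: a finitely generated projective
R[X]-module P on the affine line over S, a finitely generated projective R[X]-module P' on the chart
at infinity, and an identification of their base changes to R[X, X⁻¹] that is additive, bijective
and semilinear over the R-algebra involution X ↦ X⁻¹. Then S is covered by basic open sets D(g_1),
…, D(g_n) such that F restricted to the affine line over each D(g_i) is free: the localisation of P
at g_i is a free module over the localisation of R[X] at g_i. -/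
theorem result
    (R : Type u) [CommRing R] [IsDomain R] [Algebra ℂ R] [Algebra.FiniteType ℂ R]
    [Algebra.Smooth ℂ R]
    (P : Type u) [AddCommGroup P] [Module R[X] P] [Module.Finite R[X] P]
    [Module.Projective R[X] P]
    (P' : Type u) [AddCommGroup P'] [Module R[X] P'] [Module.Finite R[X] P']
    [Module.Projective R[X] P']
    (e : R[T;T⁻¹] ⊗[R[X]] P ≃+ R[T;T⁻¹] ⊗[R[X]] P')
    (he : ∀ (a : R[T;T⁻¹]) (m : R[T;T⁻¹] ⊗[R[X]] P),
      e (a • m) = LaurentPolynomial.invert a • e m) :
    ∃ (n : ℕ) (g : Fin n → R), Ideal.span (Set.range g) = ⊤ ∧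
      ∀ i, Module.Free (Localization.Away (Polynomial.C (g i) : R[X]))
        (LocalizedModule (Submonoid.powers (Polynomial.C (g i) : R[X])) P) := by
  classical
  obtain ⟨P0, _, _, _, _, ⟨i⟩⟩ := Groth.Agent.H3CAlg.Horrocks.extended_of_extends P P' (e : R[T;T⁻¹] ⊗[R[X]] P → R[T;T⁻¹] ⊗[R[X]] P') e.bijective (map_add e) he
  have hm : ∀ m : Ideal R, m.IsMaximal → ∃ g, g ∉ m ∧ Module.Free (Localization.Away g) (LocalizedModule.Away g P0) := by
    intro m hm
    haveI : Module.Flat R P0 := inferInstance
    haveI : Module.FinitePresentation R P0 := Module.finitePresentation_of_projective R P0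
    haveI : Module.Free (Localization.AtPrime m) (LocalizedModule m.primeCompl P0) := Module.free_of_flat_of_isLocalRing
    obtain ⟨r, hr, hfree, -⟩ := Module.FinitePresentation.exists_free_localizedModule_powers m.primeCompl
      (LocalizedModule.mkLinearMap m.primeCompl P0) (Localization.AtPrime m)
    exact ⟨r, hr, hfree⟩
  choose g hg hfree using hm
  let G : Set R := Set.range fun m : {m : Ideal R // m.IsMaximal} => g m.1 m.2
  have htop : Ideal.span G = ⊤ := by
    by_contra hne
    obtain ⟨m, hmm, hle⟩ := Ideal.exists_le_maximal _ hne
    exact hg m hmm (hle (Ideal.subset_span ⟨⟨m, hmm⟩, rfl⟩))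
  obtain ⟨T, hT, hTtop⟩ := (Ideal.span_eq_top_iff_finite G).mp htop
  refine ⟨T.card, fun k => (T.equivFin.symm k : R), ?_, fun k => ?_⟩
  · rw [← hTtop]; congr 1
    ext z
    exact ⟨fun ⟨k, hk⟩ => hk ▸ (T.equivFin.symm k).2, fun hz => ⟨T.equivFin ⟨z, hz⟩, by simp⟩⟩
  obtain ⟨⟨m, hmm⟩, hgm⟩ := hT (T.equivFin.symm k).2
  have hF : Module.Free (Localization.Away (g m hmm)) (LocalizedModule.Away (g m hmm) P0) := hfree m hmm
  rw [show g m hmm = (T.equivFin.symm k : R) from hgm] at hF
  set c : R := (T.equivFin.symm k : R) with hc
  let B := Localization.Away (Polynomial.C c : R[X])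
  have hu : IsUnit (algebraMap R B c) := by
    rw [IsScalarTower.algebraMap_apply R R[X] B]
    exact IsLocalization.Away.algebraMap_isUnit (Polynomial.C c : R[X])
  letI : Algebra (Localization.Away c) B := (IsLocalization.Away.lift c hu).toAlgebra
  haveI : IsScalarTower R (Localization.Away c) B :=
    IsScalarTower.of_algebraMap_eq fun a => (IsLocalization.Away.lift_eq c hu a).symm
  haveI : Module.Free (Localization.Away c) (Localization.Away c ⊗[R] P0) :=
    Module.Free.of_equiv (LocalizedModule.equivTensorProduct (Submonoid.powers c) P0)
  exact Module.Free.of_equiv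
    ((TensorProduct.AlgebraTensorModule.cancelBaseChange R (Localization.Away c) B B P0).trans
      ((TensorProduct.AlgebraTensorModule.cancelBaseChange R R[X] B B P0).symm.trans
        ((LinearEquiv.baseChange R[X] B _ _ i.symm).trans (LocalizedModule.equivTensorProduct (Submonoid.powers (Polynomial.C c : R[X])) P).symm)))

end Groth.Agent.S15499
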