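import Groth.Statements.S15502
import Groth.Agent.H3CAlg.LogDeriv
import Mathlib.RingTheory.PicardGroup
import Mathlib.RingTheory.TotallySplit

set_option autoImplicit false
open Polynomial
universe u
open CAlg

namespace Groth.Agent.S15502

/-- Let S = Spec R be a smooth connected affine complex variety (R a finitely generated smooth ℂ-algebra
and a domain), θ_1, …, θ_r ∈ R pairwise disjoint sections of the affine line over S (θ_i − θ_k a
unit for i ≠ k), Θ = ∏ (X − θ_i) ∈ R[X], and M = R^d. Suppose given an additive operator D₀ on M[X]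
= R[X]^d with D₀(p v) = Θ p′ v + p D₀(v) (the action of the logarithmic vector field Θ ∂/∂X for a
connection on the trivial bundle of rank d on the affine line over S with logarithmic poles along
the θ_i), its extension D to M[X, 1/Θ] = (R[X][1/Θ])^d with the same Leibniz rule, and for each i
the residue endomorphism Res_i of M, characterised by D₀(m)(θ_i) = (∏_{k ≠ i} (θ_i − θ_k)) ·
Res_i(m) for constant m ∈ M, whose characteristic polynomial has complex coefficients and no nonzero
integer root. Then M[X, 1/Θ] = D(M[X, 1/Θ]) + M[X]: every element of (R[X][1/Θ])^d is D of some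
element plus an element coming from R[X]^d. (The published claim is made for residues whose
characteristic roots all lie in the image of a right inverse τ of the quotient map ℂ → ℂ/ℤ with τ(0)
= 0, so that no root is a nonzero integer and no two roots differ by a nonzero integer; this row
assumes only that no nonzero integer is a root, which is all the argument uses.) -/
theorem result
    (R : Type u) [CommRing R] [IsDomain R] [Algebra ℂ R] [Algebra.FiniteType ℂ R]
    [Algebra.Smooth ℂ R] (d r : ℕ) (θ : Fin r → R)
    (hθ : ∀ i k, i ≠ k → IsUnit (θ i - θ k))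
    (Θ : R[X]) (hΘ : Θ = ∏ i, (X - Polynomial.C (θ i)))
    (D₀ : (Fin d → R[X]) →+ (Fin d → R[X]))
    (hD₀ : ∀ (p : R[X]) (v : Fin d → R[X]),
      D₀ (p • v) = (Θ * Polynomial.derivative p) • v + p • D₀ v)
    (D : (Fin d → Localization.Away Θ) →+ (Fin d → Localization.Away Θ))
    (hD : ∀ (p : R[X]) (w : Fin d → Localization.Away Θ),
      D (p • w) = (Θ * Polynomial.derivative p) • w + p • D w)
    (hDD₀ : ∀ v : Fin d → R[X],
      D (fun j => algebraMap R[X] (Localization.Away Θ) (v j)) =
        fun j => algebraMap R[X] (Localization.Away Θ) (D₀ v j))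
    (Res : Fin r → ((Fin d → R) →ₗ[R] (Fin d → R)))
    (hRes : ∀ (i : Fin r) (m : Fin d → R) (j : Fin d),
      (D₀ (fun j => Polynomial.C (m j)) j).eval (θ i) =
        (∏ k ∈ Finset.univ.erase i, (θ i - θ k)) * Res i m j)
    (hχ : ∀ i : Fin r, ∃ χ : ℂ[X], (Res i).charpoly = χ.map (algebraMap ℂ R) ∧
      ∀ n : ℤ, n ≠ 0 → χ.eval (n : ℂ) ≠ 0)
    (w : Fin d → Localization.Away Θ) :
    ∃ (w' : Fin d → Localization.Away Θ) (v : Fin d → R[X]),
      w = D w' + fun j => algebraMap R[X] (Localization.Away Θ) (v j) := by
  exact Groth.Agent.H3CAlg.LogDeriv.surjective θ hθ Θ hΘ D₀ hD₀ Res hRes hχ D hD hDD₀ w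

end Groth.Agent.S15502
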