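import Groth.Statements.S15504
import Groth.Agent.H27Misc.SemilinearFitting

set_option autoImplicit false
universe u v
open FrobAlg

namespace Groth.Agent.S15504

/-- Let k be an algebraically closed field of characteristic p, W = W(k) the ring of p-typical Witt
vectors, M a finitely generated torsion W-module and φ a p⁻¹-linear endomorphism of M (additive,
with φ(a·m) = σ⁻¹(a)·φ(m) for the Frobenius automorphism σ of W). Then M = M_s ⊕ M_n for two
φ-stable submodules, with φ bijective on M_s and nilpotent on M_n (one iterate of φ kills M_n). -/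
theorem result (p : ℕ) [Fact p.Prime]
    (k : Type u) [Field k] [CharP k p] [IsAlgClosed k]
    (M : Type v) [AddCommGroup M] [Module (WittVector p k) M] [Module.Finite (WittVector p k) M]
    (hM : Module.IsTorsion (WittVector p k) M)
    (φ : M →ₛₗ[((WittVector.frobeniusEquiv p k).symm : WittVector p k →+* WittVector p k)] M) :
    ∃ Ms Mn : Submodule (WittVector p k) M, IsCompl Ms Mn ∧
      Set.MapsTo φ Ms Ms ∧ Set.MapsTo φ Mn Mn ∧ Set.BijOn φ Ms Ms ∧
      ∃ r : ℕ, ∀ x ∈ Mn, (⇑φ)^[r] x = 0 := by
  haveI : IsArtinian (WittVector p k) M := Groth.Agent.H27Misc.isArtinian_of_torsion hM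
  exact Groth.Agent.H27Misc.fitting_semilinear _ (WittVector.frobeniusEquiv p k).symm.surjective φ

end Groth.Agent.S15504
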