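import Groth.Statements.S15505
import Groth.Agent.H27Frob.Small

set_option autoImplicit false
universe u v w
open FrobAlg

namespace Groth.Agent.S15505

/-- Let k be an algebraically closed field of characteristic p, V a k-vector space, φ a p⁻¹-linear
endomorphism of V (additive, φ(a·v) = a^{1/p}·φ(v)) and b a finite basis of V consisting of vectors
fixed by φ. Then the vectors fixed by φ are exactly the combinations of the b_i with coefficients in
the prime field: v is fixed if and only if v = Σ c_i·b_i with all c_i in the image of ℤ/p. -/
theorem result (p : ℕ) [Fact p.Prime]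
    (k : Type u) [Field k] [CharP k p] [IsAlgClosed k]
    (V : Type v) [AddCommGroup V] [Module k V]
    (φ : V →ₛₗ[((frobeniusEquiv k p).symm : k →+* k)] V)
    {ι : Type w} [Fintype ι] (b : Module.Basis ι k V) (hb : ∀ i, φ (b i) = b i) (v : V) :
    φ v = v ↔ ∃ c : ι → ZMod p, v = ∑ i, (ZMod.castHom (dvd_refl p) k (c i)) • b i := by
  exact Groth.Agent.H27Frob.fixed_iff_mem_primeField_span k V φ b hb v

end Groth.Agent.S15505
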