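import Groth.Statements.S15506
import Mathlib.AlgebraicGeometry.Morphisms.Etale
import Mathlib.AlgebraicGeometry.Morphisms.Flat
import Mathlib.RingTheory.Unramified.Finite
import Mathlib.RingTheory.RingHom.Etale
import Mathlib.FieldTheory.IsAlgClosed.Basic

set_option autoImplicit false
universe u
open CategoryTheory AlgebraicGeometry
open EtBase

namespace Groth.Agent.S15506

/-- Let k be a field, K an algebraic closure of k (an algebraically closed field algebraic over k), Ω a
field containing K, and Z a scheme étale over Spec k. Composition with Spec Ω → Spec K is a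
bijection from the k-morphisms Spec K → Z onto the k-morphisms Spec Ω → Z: two k-morphisms Spec K →
Z that agree on Spec Ω are equal, and every k-morphism Spec Ω → Z factors through Spec K. (The
published statement is the case where k has characteristic zero with a chosen embedding of its
algebraic closure into the complex numbers, Ω = ℂ, and Z is the scheme of isomorphisms between two
K3 surfaces over k, known there to be étale over k; this row states the fact about an arbitrary
étale k-scheme that the argument establishes.) -/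
theorem result
    (k K Ω : Type u) [Field k] [Field K] [Field Ω] [Algebra k K] [IsAlgClosed K] [Algebra.IsAlgebraic k K]
    [Algebra K Ω] [Algebra k Ω] [IsScalarTower k K Ω]
    (Z : Scheme.{u}) (f : Z ⟶ Spec (CommRingCat.of k)) [AlgebraicGeometry.Etale f] :
    (∀ g₁ g₂ : Spec (CommRingCat.of K) ⟶ Z,
        g₁ ≫ f = Spec.map (CommRingCat.ofHom (algebraMap k K)) →
        g₂ ≫ f = Spec.map (CommRingCat.ofHom (algebraMap k K)) →
        Spec.map (CommRingCat.ofHom (algebraMap K Ω)) ≫ g₁ = Spec.map (CommRingCat.ofHom (algebraMap K Ω)) ≫ g₂ →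
        g₁ = g₂) ∧
    (∀ h : Spec (CommRingCat.of Ω) ⟶ Z, h ≫ f = Spec.map (CommRingCat.ofHom (algebraMap k Ω)) →
        ∃ g : Spec (CommRingCat.of K) ⟶ Z, g ≫ f = Spec.map (CommRingCat.ofHom (algebraMap k K)) ∧
          Spec.map (CommRingCat.ofHom (algebraMap K Ω)) ≫ g = h) := by
  let ι : CommRingCat.of K ⟶ CommRingCat.of Ω := CommRingCat.ofHom (algebraMap K Ω)
  refine ⟨fun g₁ g₂ _ _ h => ?_, fun h hh => ?_⟩
  · haveI : Flat (Spec.map ι) := by
      rw [HasRingHomProperty.Spec_iff (P := @Flat)]
      exact RingHom.flat_algebraMap_iff.2 inferInstance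
    haveI : Surjective (Spec.map ι) := ⟨fun x => ⟨default, Subsingleton.elim _ _⟩⟩
    haveI : Epi (Spec.map ι) := Flat.epi_of_flat_of_surjective _
    exact (cancel_epi (Spec.map ι)).1 h
  · obtain ⟨_, ⟨U, hU, rfl⟩, hx, -⟩ :=
      Z.isBasis_affineOpens.exists_subset_of_mem_open (Set.mem_univ (h.base default)) isOpen_univ
    haveI := hU.isOpenImmersion_fromSpec
    have hrange : Set.range h.base ⊆ Set.range hU.fromSpec.base := by
      rw [hU.range_fromSpec]
      rintro _ ⟨x, rfl⟩
      rw [Subsingleton.elim x default]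
      exact hx
    let φ : Γ(Z, U) ⟶ CommRingCat.of Ω := Spec.preimage (IsOpenImmersion.lift hU.fromSpec h hrange)
    have hφ : Spec.map φ ≫ hU.fromSpec = h := by
      rw [Spec.map_preimage]; exact IsOpenImmersion.lift_fac _ _ _
    let φ₀ : CommRingCat.of k ⟶ Γ(Z, U) := Spec.preimage (hU.fromSpec ≫ f)
    have hφ₀ : Spec.map φ₀ = hU.fromSpec ≫ f := Spec.map_preimage _
    haveI : Etale (Spec.map φ₀) := by rw [hφ₀]; infer_instance
    have het : φ₀.hom.Etale := (HasRingHomProperty.Spec_iff (P := @Etale)).1 inferInstance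
    letI := φ₀.hom.toAlgebra
    haveI : Algebra.Etale k Γ(Z, U) := het
    haveI : Module.Finite k Γ(Z, U) := Algebra.FormallyUnramified.finite_of_free k Γ(Z, U)
    have hcomm : φ₀ ≫ φ = CommRingCat.ofHom (algebraMap k Ω) := by
      apply Spec.map_injective
      rw [Spec.map_comp, hφ₀, ← Category.assoc, hφ, hh]
    let φA : Γ(Z, U) →ₐ[k] Ω :=
      { φ.hom with commutes' := fun c => ConcreteCategory.congr_hom hcomm c }
    have hmem : ∀ x, φA x ∈ (IsScalarTower.toAlgHom k K Ω).range := fun x => by
      have hint : IsIntegral k (φA x) := (Algebra.IsIntegral.isIntegral x).map φA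
      have hintK : IsIntegral K (φA x) := hint.tower_top
      have hdeg := IsAlgClosed.degree_eq_one_of_irreducible K (minpoly.irreducible hintK)
      obtain ⟨c, hc⟩ := minpoly.degree_eq_one_iff.1 hdeg
      exact ⟨c, hc⟩
    let ψ : Γ(Z, U) →ₐ[k] K :=
      ((AlgEquiv.ofInjective (IsScalarTower.toAlgHom k K Ω) (algebraMap K Ω).injective).symm.toAlgHom).comp
        (φA.codRestrict _ hmem)
    have hψ : ∀ x, algebraMap K Ω (ψ x) = φA x := fun x =>
      congrArg Subtype.val ((AlgEquiv.ofInjective (IsScalarTower.toAlgHom k K Ω)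
        (algebraMap K Ω).injective).apply_symm_apply (φA.codRestrict _ hmem x))
    refine ⟨Spec.map (CommRingCat.ofHom ψ.toRingHom) ≫ hU.fromSpec, ?_, ?_⟩
    · rw [Category.assoc, ← hφ₀, ← Spec.map_comp]
      exact congrArg Spec.map (CommRingCat.hom_ext (RingHom.ext fun c => ψ.commutes c))
    · rw [← Category.assoc, ← Spec.map_comp, ← hφ]
      exact congrArg (fun t => Spec.map t ≫ hU.fromSpec) (CommRingCat.hom_ext (RingHom.ext hψ))

end Groth.Agent.S15506
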