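import Groth.Statements.S15507
import Groth.Agent.H27Frob.SplitDual
import Groth.Agent.H27CurveDiv.RelDim
import Groth.Agent.H10Coh.Proper2

set_option linter.style.haveILetI false

set_option autoImplicit false
universe u
open CategoryTheory AlgebraicGeometry Opposite
open FrobSch

namespace Groth.Agent.S15507

/-- (2) ⇔ (3): let k be a perfect field of characteristic p > 3 and X a Calabi–Yau threefold over k — an
integral scheme, smooth and projective over k (closed in some Pⁿ_k), of dimension 3, with H⁰(X, O_X)
= k, trivial canonical sheaf (O_X is a third exterior power of Ω_{X/k}) and H¹(X, O_X) = H²(X, O_X)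
= 0. Let φ be the p-th power map on the sheaf of additive groups underlying O_X (the comorphism of
the absolute Frobenius F). Then X is Frobenius split, i.e. O_X → F_*O_X has an O_X-linear retraction
(an additive sheaf endomorphism s of O_X with s(t^p) = t and s(a^p·b) = a·s(b) on every open), if
and only if the endomorphism of H³(X, O_X) induced by φ is bijective. (Clause (1) of the published
statement, that X has height one, is not stated here.) -/
theorem result
    (p : ℕ) [Fact p.Prime] (hp : 3 < p) (k : Type u) [Field k] [CharP k p] [PerfectField k]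
    (X : Scheme.{u}) [X.Over (Spec (CommRingCat.of k))] [AlgebraicGeometry.IsIntegral X]
    [AlgebraicGeometry.Smooth (X ↘ Spec (CommRingCat.of k))]
    (hproj : ∃ (n : ℕ) (ι : X ⟶ CohB1.ProjSpace n k), AlgebraicGeometry.IsClosedImmersion ι ∧
      ι ≫ CohB1.ProjSpace.toSpec n k = X ↘ Spec (CommRingCat.of k))
    (hdim : topologicalKrullDim X = 3)
    (hω : ExtPow.IsExtPow 3 (Omega.sheaf (X ↘ Spec (CommRingCat.of k))) (Coh.structureModule X))
    (h0 : Module.finrank k (Coh.HH X (Coh.structureModule X) 0) = 1)
    (h1 : Subsingleton (Coh.HH X (Coh.structureModule X) 1))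
    (h2 : Subsingleton (Coh.HH X (Coh.structureModule X) 2))
    (φ : Coh.toAb (Coh.structureModule X) ⟶ Coh.toAb (Coh.structureModule X))
    (hφ : ∀ (U : X.Opens) (t : Γ(X, U)), φ.hom.app (op U) t = t ^ p) :
    (∃ s : Coh.toAb (Coh.structureModule X) ⟶ Coh.toAb (Coh.structureModule X),
        φ ≫ s = 𝟙 _ ∧ ∀ (U : X.Opens) (a b : Γ(X, U)),
          s.hom.app (op U) (a ^ p * b) = a * @id Γ(X, U) (s.hom.app (op U) b)) ↔
      Function.Bijective (Sheaf.H.map φ 3) := by
  haveI : PerfectRing k p := PerfectField.toPerfectRing p
  obtain ⟨N, ι, hι, hιk⟩ := hproj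
  haveI := hι
  constructor
  · rintro ⟨s, hs, -⟩
    haveI : IsProper (X ↘ Spec (CommRingCat.of k)) := by
      haveI := Groth.Agent.H27Weil.isProper_toSpec N k
      rw [← hιk]
      infer_instance
    have hinj : Function.Injective (Sheaf.H.map φ 3) := fun x y h => by
      have h' := congrArg (Sheaf.H.map s 3) h
      rwa [← Sheaf.H.map_comp_apply, ← Sheaf.H.map_comp_apply, hs, Sheaf.H.map_id_apply,
        Sheaf.H.map_id_apply] at h'
    haveI : CharP k p := inferInstance
    haveI : PerfectRing k p := PerfectField.toPerfectRing p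
    have hsl : ∀ (a : k) (x : Coh.HH X (Coh.structureModule X) 3),
        Sheaf.H.map φ 3 (a • x) = (a ^ p) • (Sheaf.H.map φ 3 x : Coh.HH X (Coh.structureModule X) 3) := by
      intro a x
      have hcomm : ∀ r : Coh.Γtop X,
          Coh.smulAb (Coh.structureModule X) r ≫ φ = φ ≫ Coh.smulAb (Coh.structureModule X) (r ^ p) := by
        intro r
        ext U m
        change φ.hom.app U ((Coh.smulAb (Coh.structureModule X) r).hom.app U m) =
          (Coh.smulAb (Coh.structureModule X) (r ^ p)).hom.app U (φ.hom.app U m)
        rw [Coh.smulAb_app, Coh.smulAb_app, map_pow]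
        obtain ⟨U⟩ := U
        refine (hφ U _).trans ?_
        refine Eq.trans (mul_pow (show Γ(X, U) from Coh.resTop X (op U) r) (show Γ(X, U) from m) p) ?_
        exact congrArg (fun t : Γ(X, U) => (show Γ(X, U) from Coh.resTop X (op U) r) ^ p * t) (hφ U m).symm
      change Sheaf.H.map φ 3 (Sheaf.H.map (Coh.smulAb _ (Coh.toGlobal (X ↘ Spec (CommRingCat.of k)) a)) 3 x) =
        Sheaf.H.map (Coh.smulAb _ (Coh.toGlobal (X ↘ Spec (CommRingCat.of k)) (a ^ p))) 3 (Sheaf.H.map φ 3 x)
      rw [← Sheaf.H.map_comp_apply, ← Sheaf.H.map_comp_apply, hcomm, map_pow]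
    haveI : IsLocallyNoetherian X := LocallyOfFiniteType.isLocallyNoetherian (X ↘ Spec (CommRingCat.of k))
    haveI : Module.Finite k (Coh.HH X (Coh.structureModule X) 3) :=
      Groth.Agent.H10Coh.finite_HH_proper k X _ (Groth.Agent.H10Coh.isCoh_structureModule' X) 3
    have hsurj : Function.Surjective (Sheaf.H.map φ 3) := by
      let V := Coh.HH X (Coh.structureModule X) 3
      let f : V →ₛₗ[frobenius k p] V :=
        { toFun := fun x => Sheaf.H.map φ 3 x
          map_add' := fun x y => map_add _ x y
          map_smul' := fun a x => hsl a x }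
      haveI : RingHomSurjective (frobenius k p) := ⟨(bijective_frobenius k p).2⟩
      let b := Module.finBasis k V
      have hli : LinearIndependent k (fun j => f (b j)) := by
        rw [Fintype.linearIndependent_iff]
        intro g hg j
        choose d hd using fun j => (bijective_frobenius k p).2 (g j)
        have h0 : f (∑ j, d j • b j) = 0 := by
          rw [map_sum]
          simp_rw [map_smulₛₗ, hd]
          exact hg
        have h1 : (∑ j, d j • b j) = 0 := hinj (h0.trans (map_zero (Sheaf.H.map φ 3)).symm)
        rw [← hd j, Fintype.linearIndependent_iff.1 b.linearIndependent d h1 j, map_zero]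
      intro y
      have hspan := hli.span_eq_top_of_card_eq_finrank' (Fintype.card_fin _)
      have hy : (y : V) ∈ LinearMap.range f := by
        have hle : Submodule.span k (Set.range fun j => f (b j)) ≤ LinearMap.range f :=
          Submodule.span_le.2 (by rintro _ ⟨j, rfl⟩; exact ⟨b j, rfl⟩)
        exact hle (hspan ▸ Submodule.mem_top)
      exact hy
    exact ⟨hinj, hsurj⟩
  · intro hbij
    haveI : SmoothOfRelativeDimension 3 (X ↘ Spec (CommRingCat.of k)) :=
      Groth.Agent.H27CurveDiv.smoothOfRelativeDimension_of_dim _ 3 hdim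
    exact Groth.Agent.H27Frob.exists_split ι hιk hω φ hφ hbij

end Groth.Agent.S15507
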