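import Groth.Statements.S15512
import Groth.Agent.S5165
import Groth.Agent.S5789
import Mathlib.RingTheory.PicardGroup
import Mathlib.Tactic.Ring

set_option autoImplicit false
universe u
open CategoryTheory
open CAlg

namespace Groth.Agent.S15512

/-- Let A be a Noetherian ring which is regular (its localization at every maximal ideal is a regular
local ring) and of finite Krull dimension, M a finitely generated A-module and d a natural number.
If Ext^i_A(M, A) vanishes for every i > d, then the projective dimension of M is at most d. -/
theorem result (A : Type u) [CommRing A]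
    [IsNoetherianRing A] (hreg : ∀ m : MaximalSpectrum A, IsRegularLocalRing (Localization.AtPrime m.asIdeal))
    (hdim : ringKrullDim A < ⊤) (M : Type u) [AddCommGroup M] [Module A M] [Module.Finite A M] (d : ℕ)
    (h : ∀ i : ℕ, d < i → Subsingleton (Abelian.Ext (ModuleCat.of A M) (ModuleCat.of A A) i)) :
    HasProjectiveDimensionLT (ModuleCat.of A M) (d + 1) := by
  haveI : IsRegularRing A := Groth.Agent.H05EGA4.isRegularRing_of_forall_isMaximal A fun m hm => hreg ⟨m, hm⟩
  obtain ⟨N, hN⟩ := Groth.Agent.S5165.result A M
  have key : ∀ k : ℕ, HasProjectiveDimensionLT (ModuleCat.of A M) (d + 1 + k) →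
      HasProjectiveDimensionLT (ModuleCat.of A M) (d + 1) := by
    intro k
    induction k with
    | zero => exact id
    | succ k ih =>
      intro hk
      refine ih ?_
      rw [show d + 1 + k = d + k + 1 by ring, Groth.Agent.S5789.result]
      intro I
      refine ⟨fun a b => ?_⟩
      have hz : ∀ e : Abelian.Ext (ModuleCat.of A M) (ModuleCat.of A (A ⧸ I)) (d + k + 1), e = 0 := by
        intro e
        have hS := Groth.Agent.H05EGA4.shortExact_of_submodule I
        have h0 : e.comp hS.extClass (show d + k + 1 + 1 = d + 1 + (k + 1) by ring) = 0 :=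
          Abelian.Ext.eq_zero_of_hasProjectiveDimensionLT _ (d + 1 + (k + 1)) le_rfl
        obtain ⟨x, rfl⟩ := Abelian.Ext.covariant_sequence_exact₃ _ hS e _ h0
        haveI := h (d + k + 1) (by omega)
        rw [Subsingleton.elim x 0, Abelian.Ext.zero_comp]
      rw [hz a, hz b]
  haveI := hN
  exact key N (hasProjectiveDimensionLT_of_ge (ModuleCat.of A M) (N + 1) (d + 1 + N) (by omega))

end Groth.Agent.S15512
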