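import Groth.Statements.S15514
import Groth.Agent.H10Inj.SheafExt.DualTensor
import Groth.Agent.H10Inj.SheafExt.ExtAdj
import Groth.Agent.H16Derived.KFlat.FlatIff
import Groth.Agent.H02CA.ModNullHom
-- import your own Groth.Agent.* helpers here

set_option autoImplicit false
set_option linter.style.haveILetI false
universe u
open CategoryTheory CategoryTheory.Limits AlgebraicGeometry
open Coherent

namespace Groth.Agent.S15514

/-- Let X be a scheme, E a finite locally free O_X-module with dual E^∨ = Hom_{O_X}(E, O_X), and F, G
arbitrary O_X-modules. Then for every i the group Ext^i_{O_X}(F ⊗ E, G), computed in the category of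
all O_X-modules, is isomorphic to Ext^i_{O_X}(F, G ⊗ E^∨). (Existence of an additive isomorphism
only; the published identification is the natural one, and the published statement is for an
arbitrary ringed space. The published statement says only that E is locally free; finite rank, which
its proof uses, is assumed here. The internal Hom functor of E and the Ext groups of O_X-modules are
the stated instance hypotheses, both true.) -/
theorem result (X : Scheme.{u}) (E : X.Modules)
    (hE : FlatMod.IsFinLocFree E) (F G : X.Modules) [ModSite.HasSheafHom (O := X.sheaf) E]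
    [HasExt.{u} X.Modules] (i : ℕ) :
    Nonempty (Abelian.Ext (CohB1.tensorMod F E) G i ≃+
      Abelian.Ext F (CohB1.tensorMod G ((ModSite.sheafHom (O := X.sheaf) E).obj (Coh.structureModule X))) i) := by
  haveI : EnoughInjectives X.Modules := H02CA.ModNull.enoughInjectives_mod X.sheaf
  let L := (DCoh.tensorBi (X := X)).obj E
  haveI := H10Inj.SheafExt.preservesFiniteColimits_homFunctor E hE
  haveI : L.PreservesMonomorphisms := by
    refine ⟨fun {A B} f _ => ?_⟩
    have h : (ShortComplex.mk f (cokernel.π f) (cokernel.condition f)).ShortExact :=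
      { exact := ShortComplex.exact_of_g_is_cokernel _ (cokernelIsCokernel f) }
    have e : (DCoh.tensorBi (X := X)).flip.obj E ≅ L :=
      (H15Site.ModTensor.tLIso (O := X.sheaf) E).symm
    haveI : Mono (((DCoh.tensorBi (X := X)).flip.obj E).map f) :=
      ((H16Derived.KFlat.Stalk.isFlat_iff_isFlatObj E).1 (H16Derived.KFlat.Stalk.isFlat_of_isFinLocFree hE) _ h).mono_f
    exact (MorphismProperty.monomorphisms X.Modules).arrow_mk_iso_iff
      ((Functor.mapArrowFunctor _ _).mapIso e |>.app (Arrow.mk f)) |>.1 this
  obtain ⟨e⟩ := H10Inj.SheafExt.nonempty_ext_adj (H10Inj.SheafExt.homAdj E) F G i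
  let a : CohB1.tensorMod F E ≅ L.obj F := H10Inj.SheafExt.tensorSwapIso F E
  let b : (H10Inj.SheafExt.homFunctor E).obj G ≅
      CohB1.tensorMod G ((ModSite.sheafHom (O := X.sheaf) E).obj (Coh.structureModule X)) :=
    ((H10Inj.SheafExt.dualHomIso E hE).app G).symm ≪≫ H10Inj.SheafExt.tensorSwapIso _ _ ≪≫
      H10Inj.SheafExt.tensorModIso (Iso.refl G)
        ((H10Inj.SheafExt.modSiteHomIso E).app (Coh.structureModule X)).symm
  exact ⟨(((Abelian.extFunctor.{u} i).mapIso a.op).app G).symm.addCommGroupIsoToAddEquiv.trans
    (e.trans (((Abelian.extFunctor.{u} i).obj (Opposite.op F)).mapIso b).addCommGroupIsoToAddEquiv)⟩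

end Groth.Agent.S15514
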