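import Groth.Statements.S15518
import Groth.Agent.H10Inj.SheafExt.Spec
-- import your own Groth.Agent.* helpers here

set_option autoImplicit false
universe u
open CategoryTheory CategoryTheory.Limits AlgebraicGeometry
open Coherent

namespace Groth.Agent.S15518

/-- Let A be a Noetherian ring, X = Spec A, M a finitely generated A-module and N an arbitrary A-module.
Then for every i the Ext sheaf Ext^i_{O_X}(M~, N~) — the i-th right derived functor of the internal
Hom functor Hom(M~, -) on O_X-modules (its existence and that of injective resolutions are the
stated instance hypotheses, both true), evaluated at N~ — is isomorphic as an O_X-module to the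
sheaf associated with the A-module Ext^i_A(M, N) (Ext in the category of A-modules, with its
A-linear structure). (Existence of an isomorphism only; the published identification is the natural
one.) -/
theorem result (A : Type u) [CommRing A] [IsNoetherianRing A]
    (M : Type u) [AddCommGroup M] [Module A M] [Module.Finite A M] (N : Type u) [AddCommGroup N] [Module A N]
    [ModSite.HasSheafHom (O := (Spec (CommRingCat.of A)).sheaf) (tilde (R := CommRingCat.of A) (ModuleCat.of A M))]
    [HasInjectiveResolutions (ModSite.Mod (Spec (CommRingCat.of A)).sheaf)] (i : ℕ) :
    Nonempty (((ModSite.extSh (O := (Spec (CommRingCat.of A)).sheaf) (tilde (R := CommRingCat.of A) (ModuleCat.of A M)) i).obj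
        (tilde (R := CommRingCat.of A) (ModuleCat.of A N))) ≅
      tilde (R := CommRingCat.of A) (ModuleCat.of A (Abelian.Ext (ModuleCat.of A M) (ModuleCat.of A N) i))) := by
  let R := CommRingCat.of A
  let M' : ModuleCat.{u} R := ModuleCat.of A M
  let N' : ModuleCat.{u} R := ModuleCat.of A N
  haveI : IsNoetherianRing R := inferInstanceAs (IsNoetherianRing A)
  haveI : Module.Finite R M' := inferInstanceAs (Module.Finite A M)
  haveI : HasInjectiveResolutions (Spec R).Modules :=
    ‹HasInjectiveResolutions (ModSite.Mod (Spec (CommRingCat.of A)).sheaf)›
  obtain ⟨e⟩ := Groth.Agent.H10Inj.SheafExt.nonempty_rightDerived_tilde (R := R) M' N' i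
  exact ⟨Groth.Agent.H10Inj.SheafExt.extShIso (tilde (R := R) M') i (tilde (R := R) N') ≪≫ e⟩

end Groth.Agent.S15518
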