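import Groth.Statements.S15520
import Groth.Agent.H10Inj.SheafExt.FirstVarRes
import Groth.Agent.H10Inj.SheafExt.RelExt
-- import your own Groth.Agent.* helpers here

set_option autoImplicit false
set_option linter.style.haveILetI false
set_option backward.isDefEq.respectTransparency false
universe u
open CategoryTheory CategoryTheory.Limits AlgebraicGeometry
open Coherent

namespace Groth.Agent.S15520

/-- Let X be a scheme, F and G O_X-modules, and E_• → F → 0 a resolution of F whose terms E_i are finite
locally free O_X-modules: E is a chain complex indexed by the natural numbers with an augmentation π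
: E_0 → F such that E is exact in every positive degree and E_1 → E_0 → F → 0 is exact. Let C be the
cochain complex Hom_{O_X}(E_•, G), given with identifications C^i ≅ Hom_{O_X}(E_i, G) under which
its differentials are the maps induced by the differentials of E (contravariant functoriality of the
internal Hom). Then for every i the i-th cohomology object of C is isomorphic to the Ext sheaf
Ext^i_{O_X}(F, G), the i-th right derived functor of the internal Hom functor Hom(F, -) evaluated at
G. (Existence of an isomorphism of O_X-modules only; the published statement is for a ringed space.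
The internal Hom functors and injective resolutions are the stated instance hypotheses, all true.) -/
theorem result (X : Scheme.{u}) (F G : X.Modules)
    (E : ChainComplex X.Modules ℕ) (π : E.X 0 ⟶ F) [Epi π] (hπ : E.d 1 0 ≫ π = 0)
    (hex0 : (ShortComplex.mk (E.d 1 0) π hπ).Exact) (hex : ∀ j : ℕ, E.ExactAt (j + 1))
    (hE : ∀ j : ℕ, FlatMod.IsFinLocFree (E.X j))
    [∀ j : ℕ, ModSite.HasSheafHom (O := X.sheaf) (E.X j)] [ModSite.HasSheafHom (O := X.sheaf) F]
    [HasInjectiveResolutions (ModSite.Mod X.sheaf)]
    (C : CochainComplex X.Modules ℕ) (e : ∀ j : ℕ, C.X j ≅ (ModSite.sheafHom (O := X.sheaf) (E.X j)).obj G)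
    (hC : ∀ j : ℕ, C.d j (j + 1) ≫ (e (j + 1)).hom =
      (e j).hom ≫ (ExtSupp.sheafHomMap (O := X.sheaf) (E.d (j + 1) j)).app G)
    (i : ℕ) :
    Nonempty (C.homology i ≅ (ModSite.extSh (O := X.sheaf) F i).obj G) := by
  haveI : HasInjectiveResolutions X.Modules := ‹HasInjectiveResolutions (ModSite.Mod X.sheaf)›
  obtain ⟨c⟩ := H10Inj.SheafExt.nonempty_homology_homFunctor G E hex
    (fun j p hp =>
      haveI := H10Inj.SheafExt.preservesFiniteColimits_homFunctor (E.X j) (hE j)
      H10Inj.SheafExt.isZero_rightDerived_of_exact _ G p hp)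
    C (fun j => e j ≪≫ (H10Inj.SheafExt.siteHomIso (E.X j)).app G)
    (fun j => by
      simp only [Iso.trans_hom, Iso.app_hom, Category.assoc]
      rw [reassoc_of% (hC j)]
      congr 1
      exact congr_app (H10Inj.SheafExt.siteHomIso_natural (E.d (j + 1) j)) G) i
  haveI : Epi (ShortComplex.mk (E.d 1 0) π hπ).g := ‹Epi π›
  let eF : cokernel (E.d 1 0) ≅ F :=
    IsColimit.coconePointUniqueUpToIso (cokernelIsCokernel (E.d 1 0)) hex0.gIsCokernel
  exact ⟨c ≪≫ (H02CA.ModLocalise.rdMapIso (H10Inj.SheafExt.homCongrIso eF) i).app G ≪≫
    (H10Inj.SheafExt.extShIso F i G).symm⟩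

end Groth.Agent.S15520
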