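import Groth.Statements.S15523
import Groth.Agent.H28Surf.Pair
import Groth.Agent.H29RR.CurveIntegral
import Groth.Agent.S11747
import Groth.Agent.H8Props.FieldDimScheme

set_option autoImplicit false
universe u
open CategoryTheory AlgebraicGeometry Limits
open Zeta

namespace Groth.Agent.S15523

/-- Let S be a smooth, proper, geometrically irreducible surface over a field k, H an ample invertible
O_S-module and D any invertible O_S-module. Then (D·D)(H·H) ≤ (D·H)^2, where (A·B) denotes the
intersection number on S computed as the alternating sum of Euler characteristics χ(O_S) − χ(A) −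
χ(B) + χ(A ⊗ B). (The published statement is for divisors on the self-product of a smooth projective
geometrically irreducible curve over a finite field; the printed argument uses only the Hodge index
property of an ample class on a smooth projective surface, so the row is stated for any such
surface.) -/
theorem result (k : Type u) [Field k] (S : Scheme.{u})
    [S.Over (Spec (CommRingCat.of k))] [IsProper (S ↘ Spec (CommRingCat.of k))]
    [Smooth (S ↘ Spec (CommRingCat.of k))] [GeometricallyIrreducible (S ↘ Spec (CommRingCat.of k))]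
    (hdim : topologicalKrullDim S = 2) (D H : S.Modules) (hD : PicF.IsInvertible D)
    (hH : CohB1.IsAmple H) :
    FGA.intNum k S 2 ![D, D] (Coh.structureModule S) * FGA.intNum k S 2 ![H, H] (Coh.structureModule S) ≤
      FGA.intNum k S 2 ![D, H] (Coh.structureModule S) ^ 2 := by
  let K := AlgebraicClosure k
  let b := Spec.map (CommRingCat.ofHom (algebraMap k K))
  let f := S ↘ Spec (CommRingCat.of k)
  let SK := pullback f b
  letI : SK.Over (Spec (CommRingCat.of K)) := ⟨pullback.snd f b⟩
  haveI : IsProper (SK ↘ Spec (CommRingCat.of K)) := inferInstanceAs (IsProper (pullback.snd f b))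
  haveI : Smooth (SK ↘ Spec (CommRingCat.of K)) := MorphismProperty.pullback_snd (P := @Smooth) f b inferInstance
  haveI : GeometricallyIrreducible (SK ↘ Spec (CommRingCat.of K)) :=
    inferInstanceAs (GeometricallyIrreducible (pullback.snd f b))
  haveI : GeometricallyConnected (SK ↘ Spec (CommRingCat.of K)) := ⟨fun _ _ _ _ _ _ h => by
    haveI := GeometricallyIrreducible.geometrically_irreducibleSpace (f := SK ↘ Spec (CommRingCat.of K)) _ _ _ h
    infer_instance⟩
  haveI : IsIntegral SK := H29RR.isIntegral_of_geomConnected K SK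
  have hdimK : topologicalKrullDim SK = 2 :=
    (H8Props.FieldDim.dim_baseChange f _ _ (IsPullback.of_hasPullback f b)).trans hdim
  let q := pullback.fst f b
  haveI : IsAffineHom q := MorphismProperty.pullback_fst (P := @IsAffineHom) f b inferInstance
  have hHi := (H11Ample.isAmple_iff.1 hH).1
  haveI := H28Int.isNoetherian k (X := S)
  let Dk := (Scheme.Modules.pullback q).obj D
  let Hk := (Scheme.Modules.pullback q).obj H
  have hDk : PicF.IsInvertible Dk := H11Ample.isInvertible_pullback q hD
  have hHk : PicF.IsInvertible Hk := H11Ample.isInvertible_pullback q hHi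
  have hHka : CohB1.IsAmple Hk := H11Ample.isAmple_pullback_of_isAffineHom q hH
  have key : ∀ A B : S.Modules, PicF.IsInvertible A → PicF.IsInvertible B →
      FGA.intNum k S 2 ![A, B] (Coh.structureModule S) =
        H28Surf.pr K ((Scheme.Modules.pullback q).obj A) ((Scheme.Modules.pullback q).obj B) := by
    intro A B hA hB
    haveI := H28Int.isNoetherian K (X := SK)
    rw [← S11747.result k K S 2 hdim.le ![A, B] (fun i => by fin_cases i <;> assumption) (Coh.structureModule S)
      (H10Coh.isCoh_structureModule' S) (H28Surf.dim_support_structure_le k hdim),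
      ← H28Surf.intNum_eq_pr K hdimK (H11Ample.isInvertible_pullback q hA) (H11Ample.isInvertible_pullback q hB)]
    have hv : ∀ i, PicF.IsInvertible (![(Scheme.Modules.pullback q).obj A, (Scheme.Modules.pullback q).obj B] i) :=
      fun i => by fin_cases i <;> [exact H11Ample.isInvertible_pullback q hA; exact H11Ample.isInvertible_pullback q hB]
    let u := H16Derived.KFlat.Stalk.structurePullbackIso q
    rw [H28Int.intNum_eq K (d := 2) hdimK.le _ hv (H10Coh.isCoh_structureModule' SK),
      ← (H28Int.isAddFn_D K _ (by simp only [List.forall_mem_ofFn_iff]; exact hv)).congr u,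
      ← H28Int.intNum_eq K (d := 2) hdimK.le _ hv (H10Coh.isCoh_of_iso u.symm (H10Coh.isCoh_structureModule' SK))]
    congr 1
    funext i
    fin_cases i <;> rfl
  rw [key D D hD hD, key H H hHi hHi, key D H hD hHi]
  -- positivity of an ample square
  haveI := H28Int.isNoetherian K (X := SK)
  obtain ⟨Hk', hHk', ⟨e⟩⟩ := H11Sym.exists_inverse hHk
  have e' : CohB1.tensorMod Hk Hk' ≅ Coh.structureModule SK := H11Ample.tensorCommIso Hk Hk' ≪≫ e
  have hc : 0 < H28Surf.pr K Hk Hk := by
    have h1 : H28Surf.pr K Hk' Hk' = H28Surf.pr K Hk Hk := by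
      rw [H28Surf.pr_inv_left K hdimK hHk hHk' hHk' e', H28Surf.pr_symm K Hk Hk',
        H28Surf.pr_inv_left K hdimK hHk hHk' hHk e', neg_neg]
    rw [← h1]
    refine (H28Int.pos_of_ample K [Hk', Hk'] (by simp only [List.mem_cons, List.not_mem_nil, or_false, or_self]; rintro M rfl; exact ⟨Hk, hHka, ⟨e'⟩⟩) _
      (H10Coh.isCoh_structureModule' SK) (H28Surf.dim_support_structure_le K hdimK)).2 ⟨genericPoint SK, ?_, ?_⟩
    · rw [H28Int.Surface.support_structure K]; trivial
    · rw [H28Int.Surface.cdim_genericPoint, hdimK]; rfl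
  -- the class `(H·H)·D − (D·H)·H`
  obtain ⟨n, hn⟩ := Int.eq_ofNat_of_zero_le hc.le
  set t := H28Surf.pr K Dk Hk with ht
  obtain ⟨M, hM, hMH, hMD, hMM⟩ : ∃ M : SK.Modules, PicF.IsInvertible M ∧ H28Surf.pr K M Hk = -t * H28Surf.pr K Hk Hk ∧
      H28Surf.pr K M Dk = -t * t ∧ H28Surf.pr K M M = t * t * H28Surf.pr K Hk Hk := by
    rcases le_total 0 t with h0 | h0
    · obtain ⟨j, hj⟩ := Int.eq_ofNat_of_zero_le h0
      refine ⟨CohB1.tensorPow Hk' j, H11Ample.isInvertible_tensorPow hHk' j, ?_, ?_, ?_⟩
      · rw [H28Surf.pr_pow_left K hdimK hHk' hHk, H28Surf.pr_inv_left K hdimK hHk hHk' hHk e', hj]; ring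
      · rw [H28Surf.pr_pow_left K hdimK hHk' hDk, H28Surf.pr_inv_left K hdimK hHk hHk' hDk e', H28Surf.pr_symm K Hk Dk, ← ht, hj]; ring
      · rw [H28Surf.pr_pow_left K hdimK hHk' (H11Ample.isInvertible_tensorPow hHk' j), H28Surf.pr_symm K Hk' _,
          H28Surf.pr_pow_left K hdimK hHk' hHk', H28Surf.pr_inv_left K hdimK hHk hHk' hHk' e', H28Surf.pr_symm K Hk Hk',
          H28Surf.pr_inv_left K hdimK hHk hHk' hHk e', hj]; ring
    · obtain ⟨j, hj⟩ := Int.eq_ofNat_of_zero_le (neg_nonneg.2 h0)
      refine ⟨CohB1.tensorPow Hk j, H11Ample.isInvertible_tensorPow hHk j, ?_, ?_, ?_⟩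
      · rw [H28Surf.pr_pow_left K hdimK hHk hHk, hj]
      · rw [H28Surf.pr_pow_left K hdimK hHk hDk, H28Surf.pr_symm K Hk Dk, ← ht, hj]
      · rw [H28Surf.pr_pow_left K hdimK hHk (H11Ample.isInvertible_tensorPow hHk j), H28Surf.pr_symm K Hk _,
          H28Surf.pr_pow_left K hdimK hHk hHk]
        linear_combination (-(↑j - t) * H28Surf.pr K Hk Hk) * hj
  let P := CohB1.tensorPow Dk n
  have hP : PicF.IsInvertible P := H11Ample.isInvertible_tensorPow hDk n
  let N := CohB1.tensorMod P M
  have hN : PicF.IsInvertible N := H11Ample.isInvertible_tensor hP hM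
  have hNH : H28Surf.pr K N Hk = 0 := by
    rw [H28Surf.pr_tensor_left K hdimK hP hM hHk, H28Surf.pr_pow_left K hdimK hDk hHk, ← ht, hMH, hn]
    ring
  have h := H28Surf.pr_self_nonpos K hdimK hHka hN hNH
  rw [H28Surf.pr_tensor_left K hdimK hP hM hN, H28Surf.pr_pow_left K hdimK hDk hN, H28Surf.pr_symm K M N] at h
  have hNM : H28Surf.pr K N M = (n : ℤ) * H28Surf.pr K Dk M + H28Surf.pr K M M := by
    rw [H28Surf.pr_tensor_left K hdimK hP hM hM, H28Surf.pr_pow_left K hdimK hDk hM]
  have hND : H28Surf.pr K Dk N = (n : ℤ) * H28Surf.pr K Dk Dk + -t * t := by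
    rw [H28Surf.pr_symm K Dk N, H28Surf.pr_tensor_left K hdimK hP hM hDk, H28Surf.pr_pow_left K hdimK hDk hDk, hMD]
  rw [hND, hNM, H28Surf.pr_symm K Dk M, hMD, hMM, hn] at h
  have hn0 : (0 : ℤ) < (n : ℤ) := hn ▸ hc
  rw [hn]
  nlinarith

end Groth.Agent.S15523
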