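import Groth.Statements.S15525
import Mathlib

set_option autoImplicit false
universe u
open Zeta

namespace Groth.Agent.S15525

/-- Let L be a field with a ring embedding ι into ℂ and M an r × r matrix over L all of whose
eigenvalues, the complex roots of its characteristic polynomial mapped along ι, have absolute value
1. Then every coefficient of the characteristic polynomial of the block-diagonal matrix with blocks
M and the inverse transpose of M is mapped by ι into ℝ. This is the pointwise content of the
assertion that for a lisse sheaf F pure of weight 0 the sum of F and its dual is real, the Frobenius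
of the dual acting by the inverse transpose. -/
theorem result (L : Type u) [Field L] (ι : L →+* ℂ)
    {r : ℕ} (M : Matrix (Fin r) (Fin r) L)
    (hM : ∀ z ∈ ((Matrix.charpoly M).map ι).roots, ‖z‖ = 1) (n : ℕ) :
    (ι ((Matrix.fromBlocks M 0 0 (M⁻¹).transpose).charpoly.coeff n)).im = 0 := by
  classical
  set P := M.charpoly.map ι with hP
  set A := M.map ι with hA
  have hAP : A.charpoly = P := Matrix.charpoly_map M ι
  have hcard : Multiset.card P.roots = r := by
    rw [← (IsAlgClosed.splits P).natDegree_eq_card_roots, hP,
      (M.charpoly_monic).natDegree_map, Matrix.charpoly_natDegree_eq_dim, Fintype.card_fin]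
  have hne : ∀ z ∈ P.roots, z ≠ 0 := fun z hz h => by simpa [h] using hM z hz
  have hdet : A.det = P.roots.prod := by
    rw [← hAP]; exact Matrix.det_eq_prod_roots_charpoly A
  have hdet0 : A.det ≠ 0 := by
    rw [hdet, ne_eq, Multiset.prod_eq_zero_iff]; exact fun h => hne 0 h rfl
  have hMdet : M.det ≠ 0 := fun h => hdet0 (by
    rw [hA, ← RingHom.mapMatrix_apply, ← RingHom.map_det, h, map_zero])
  have hinv : (M⁻¹).map ι = A⁻¹ := (Matrix.inv_eq_right_inv (by
    rw [hA, ← Matrix.map_mul, Matrix.mul_nonsing_inv M (isUnit_iff_ne_zero.2 hMdet),
      Matrix.map_one _ (map_zero ι) (map_one ι)])).symm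
  have hprod : P = (P.roots.map fun z => Polynomial.X - Polynomial.C z).prod :=
    (IsAlgClosed.splits P).eq_prod_roots_of_monic ((M.charpoly_monic).map ι)
  have hrev : A.charpolyRev = (P.roots.map fun z => 1 - Polynomial.C z * Polynomial.X).prod := by
    rw [← Matrix.reverse_charpoly, hAP]
    conv_lhs => rw [hprod]
    generalize P.roots = s
    induction s using Multiset.induction with
    | empty => simp [Polynomial.reverse]
    | cons a s ih =>
      rw [Multiset.map_cons, Multiset.map_cons, Multiset.prod_cons, Multiset.prod_cons,
        Polynomial.reverse_mul_of_domain, ih]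
      congr 1
      rw [Polynomial.reverse, Polynomial.natDegree_X_sub_C, Polynomial.reflect_sub,
        Polynomial.reflect_C, pow_one]
      congr 1
      simp
  have hconj : ((M⁻¹).transpose.charpoly).map ι = P.map (starRingEnd ℂ) := by
    rw [Matrix.charpoly_transpose, ← Matrix.charpoly_map, hinv,
      Matrix.charpoly_inv A ((Matrix.isUnit_iff_isUnit_det A).2 (isUnit_iff_ne_zero.2 hdet0)),
      Ring.inverse_eq_inv', hdet, hrev, Fintype.card_fin, ← hcard]
    conv_rhs => rw [hprod]
    clear hdet hrev hprod hcard
    revert hM hne
    generalize P.roots = s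
    intro hM hne
    induction s using Multiset.induction with
    | empty => simp [Polynomial.reverse]
    | cons a s ih =>
      have ha : a ≠ 0 := hne a (Multiset.mem_cons_self a s)
      rw [Multiset.card_cons, Multiset.prod_cons, Multiset.map_cons, Multiset.prod_cons,
        Multiset.map_cons, Multiset.prod_cons, Polynomial.map_mul, ← ih
          (fun z hz => hM z (Multiset.mem_cons_of_mem hz)) fun z hz => hne z (Multiset.mem_cons_of_mem hz),
        mul_inv, map_mul, pow_succ, Polynomial.map_sub, Polynomial.map_X, Polynomial.map_C,
        ← Complex.inv_eq_conj (hM a (Multiset.mem_cons_self a s))]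
      have h1 : Polynomial.C a⁻¹ * Polynomial.C a = 1 := by
        rw [← map_mul, inv_mul_cancel₀ ha, map_one]
      linear_combination ((-1 : Polynomial ℂ) ^ Multiset.card s * Polynomial.C (s.prod)⁻¹ *
        (Multiset.map (fun z => 1 - Polynomial.C z * Polynomial.X) s).prod * Polynomial.X) * h1
  rw [← Polynomial.coeff_map, Matrix.charpoly_fromBlocks_zero₁₂, Polynomial.map_mul, hconj, ← hP,
    Polynomial.coeff_mul, ← Complex.conj_eq_iff_im, map_sum]
  simp only [Polynomial.coeff_map, map_mul, Complex.conj_conj]
  exact Finset.sum_equiv (Equiv.prodComm _ _) (fun q => by simp [add_comm])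
    (fun q _ => mul_comm _ _)

end Groth.Agent.S15525
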