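import Groth.Statements.S15526
import Groth.Agent.H3CAlg.TorFlat
import Mathlib.Algebra.Algebra.ZMod
import Mathlib.Algebra.Order.Star.Basic
import Mathlib.LinearAlgebra.Matrix.ToLinearEquiv
import Mathlib.RingTheory.Henselian
import Mathlib.RingTheory.MvPolynomial.IrreducibleQuadratic
import Mathlib.RingTheory.RegularLocalRing.Defs
import Mathlib.RingTheory.SimpleRing.Principal
import Mathlib.Tactic.LinearCombination

set_option autoImplicit false
universe u
open MvPolynomial
open CAlg

namespace Groth.Agent.S15526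

/-- Let R be a commutative ring, P ∈ R[x] a monic polynomial of degree 2g + 1, and A = R[x, y, z]/(y^2 −
P(x), yz − 1). Then every element of A is a finite sum Σ_n Q_n(x) y^n over integers n, negative
powers of y meaning powers of z, with each Q_n ∈ R[x] of degree at most 2g: the R-submodule of A
spanned by the classes of x^i y^n and x^i z^n with i ≤ 2g and n ≥ 0 is all of A. (The published
statement takes for R the ring of Witt vectors of a finite field and for P a lift of a separable
polynomial; the argument uses only that P is monic of degree 2g + 1.) -/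
theorem result (R : Type u) [CommRing R] (g : ℕ)
    (P : Polynomial R) (hP : P.Monic) (hdeg : P.natDegree = 2 * g + 1) :
    Submodule.span R {a : MvPolynomial (Fin 3) R ⧸
        Ideal.span ({X 1 ^ 2 - Polynomial.aeval (X 0 : MvPolynomial (Fin 3) R) P, X 1 * X 2 - 1} :
          Set (MvPolynomial (Fin 3) R)) |
        ∃ i n : ℕ, i ≤ 2 * g ∧
          (a = Ideal.Quotient.mk _ (X 0 ^ i * X 1 ^ n) ∨ a = Ideal.Quotient.mk _ (X 0 ^ i * X 2 ^ n))} =
      ⊤ := by
  classical
  set J := Ideal.span ({X 1 ^ 2 - Polynomial.aeval (X 0 : MvPolynomial (Fin 3) R) P, X 1 * X 2 - 1} :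
    Set (MvPolynomial (Fin 3) R))
  let q := Ideal.Quotient.mkₐ R J
  set S := Submodule.span R {a : MvPolynomial (Fin 3) R ⧸ J | ∃ i n : ℕ, i ≤ 2 * g ∧
    (a = Ideal.Quotient.mk _ (X 0 ^ i * X 1 ^ n) ∨ a = Ideal.Quotient.mk _ (X 0 ^ i * X 2 ^ n))}
  let x := q (X 0); let y := q (X 1); let z := q (X 2)
  have hyz : y * z = 1 := by
    rw [← map_mul, ← map_one q]
    exact Ideal.Quotient.eq.mpr (Ideal.subset_span (by simp))
  have hy2 : Polynomial.aeval x P = y ^ 2 := by
    rw [Polynomial.aeval_algHom_apply, ← map_pow]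
    exact (Ideal.Quotient.eq.mpr (Ideal.subset_span (by simp))).symm
  have hy : ∀ i n, i ≤ 2 * g → x ^ i * y ^ n ∈ S := fun i n hi ↦
    Submodule.subset_span ⟨i, n, hi, Or.inl (by
      show q (X 0) ^ i * q (X 1) ^ n = q (X 0 ^ i * X 1 ^ n)
      simp only [map_mul, map_pow])⟩
  have hz : ∀ i n, i ≤ 2 * g → x ^ i * z ^ n ∈ S := fun i n hi ↦
    Submodule.subset_span ⟨i, n, hi, Or.inr (by
      show q (X 0) ^ i * q (X 2) ^ n = q (X 0 ^ i * X 2 ^ n)
      simp only [map_mul, map_pow])⟩
  -- every `x ^ i y ^ a z ^ b` lies in the span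
  have hall : ∀ i a b, i ≤ 2 * g → x ^ i * (y ^ a * z ^ b) ∈ S := by
    intro i a b hi
    rcases le_total a b with h | h
    · obtain ⟨d, rfl⟩ := Nat.exists_eq_add_of_le h
      rw [pow_add, ← mul_assoc (y ^ a), ← mul_pow, hyz, one_pow, one_mul]
      exact hz i d hi
    · obtain ⟨d, rfl⟩ := Nat.exists_eq_add_of_le h
      rw [pow_add, mul_right_comm, ← mul_pow, hyz, one_pow, one_mul]
      exact hy i d hi
  have hbig : ∀ i a b, x ^ i * (y ^ a * z ^ b) ∈ S := by
    intro i
    induction i using Nat.strong_induction_on with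
    | _ i ih =>
    intro a b
    by_cases hi : i ≤ 2 * g
    · exact hall i a b hi
    obtain ⟨e, rfl⟩ := Nat.exists_eq_add_of_le (not_le.mp hi)
    have h1 := congrArg (fun t ↦ x ^ e * (y ^ a * z ^ b) * t) hy2
    simp only [Polynomial.aeval_eq_sum_range, hdeg, Finset.sum_range_succ _ (2 * g + 1), mul_add,
      Finset.mul_sum] at h1
    rw [show P.coeff (2 * g + 1) = 1 by rw [← hdeg]; exact hP.coeff_natDegree, one_smul] at h1
    have e1 : x ^ (2 * g + 1) * x ^ e * (y ^ a * z ^ b) =
        x ^ e * (y ^ (a + 2) * z ^ b) - ∑ j ∈ Finset.range (2 * g + 1),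
          x ^ e * (y ^ a * z ^ b) * P.coeff j • x ^ j := by
      rw [eq_sub_iff_add_eq]
      linear_combination h1
    rw [show (2 * g).succ = 2 * g + 1 from rfl, pow_add, e1]
    refine sub_mem (ih e (by omega) _ _) (sum_mem fun j hj ↦ ?_)
    rw [Finset.mem_range] at hj
    rw [mul_smul_comm, mul_right_comm, ← pow_add]
    exact Submodule.smul_mem _ _ (ih (e + j) (by omega) _ _)
  rw [eq_top_iff]
  intro w _
  obtain ⟨F, rfl⟩ := Ideal.Quotient.mk_surjective w
  show q F ∈ S
  rw [F.as_sum, map_sum]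
  refine sum_mem fun d _ ↦ ?_
  rw [monomial_eq, map_mul, Finsupp.prod_fintype _ _ (fun _ ↦ pow_zero _), Fin.prod_univ_three,
    map_mul, map_mul, map_pow, map_pow, map_pow, mul_assoc (x ^ d 0)]
  rw [show q (C (coeff d F)) = algebraMap R _ (coeff d F) from q.commutes _, ← Algebra.smul_def]
  exact Submodule.smul_mem _ _ (hbig _ _ _)

end Groth.Agent.S15526
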