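import Groth.Statements.S15527
import Groth.Agent.H26Hyper.AffineDR
import Groth.Agent.H10Coh.Affine
import Groth.Agent.H22Alg.ExtPowHom
import Groth.Agent.H29Omega.SheafFinite

set_option autoImplicit false
universe u
open DeRhamSh

namespace Groth.Agent.S15527

open CategoryTheory CategoryTheory.Limits in
theorem nonempty_H_addEquiv {R A M : Type u} [CommRing R] [CommRing A] [Algebra R A] [AddCommGroup M] [Module A M]
    [Module R M] [IsScalarTower R A M] {δ : Derivation R A M}
    {d : ∀ p : ℕ, ↥(⋀[A]^p M) →ₗ[R] ↥(⋀[A]^(p + 1) M)} (hd : DeRham.IsDiff δ d) (n : ℕ) :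
    Nonempty (↑(DeRham.H hd n) ≃+
      ((d n).toAddMonoidHom.ker ⧸ (DeRham.coboundaries d n).toAddSubgroup.addSubgroupOf (d n).toAddMonoidHom.ker)) := by
  let K := DeRham.cx hd
  let S := K.sc' ((ComplexShape.up ℕ).prev n) n (n + 1)
  have hg : S.g.hom = d n := by
    show (K.d n (n + 1)).hom = _
    (simp [K, DeRham.cx]) <;> rfl
  let π := (LinearMap.range S.moduleCatToCycles).mkQ
  let e₁ := (K.homologyIsoSc' ((ComplexShape.up ℕ).prev n) n (n + 1) rfl (by simp) ≪≫
    S.moduleCatHomologyIso).toLinearEquiv.toAddEquiv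
  let j : (d n).toAddMonoidHom.ker →+ ↥(LinearMap.ker S.g.hom) :=
    AddMonoidHom.mk' (fun x => ⟨x.1, (LinearMap.congr_fun hg x.1).trans x.2⟩) fun _ _ => rfl
  let g := π.toAddMonoidHom.comp j
  have hsurj : Function.Surjective g := by
    intro y
    obtain ⟨x, rfl⟩ := Submodule.mkQ_surjective _ y
    exact ⟨⟨x.1, (LinearMap.congr_fun hg x.1).symm.trans x.2⟩, rfl⟩
  have hker : g.ker = (DeRham.coboundaries d n).toAddSubgroup.addSubgroupOf (d n).toAddMonoidHom.ker := by
    ext x
    show π (j x) = 0 ↔ x.1 ∈ DeRham.coboundaries d n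
    rw [Submodule.mkQ_apply, Submodule.Quotient.mk_eq_zero]
    cases n with
    | zero =>
      show _ ↔ x.1 ∈ (⊥ : Submodule R _)
      rw [Submodule.mem_bot]
      have hf : S.f = 0 := by
        show K.d _ _ = 0
        exact K.shape _ _ (by simp)
      constructor
      · rintro ⟨y, hy⟩
        have := congrArg Subtype.val hy
        change S.f.hom y = x.1 at this
        rw [hf] at this
        exact this.symm
      · intro hx
        exact ⟨0, Subtype.ext (by rw [map_zero]; exact hx.symm)⟩
    | succ m =>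
      have hp : (ComplexShape.up ℕ).prev (m + 1) = m := by simp
      have key : ∀ i, i = m → (Set.range (K.d i (m + 1)).hom = Set.range (d m)) := by
        rintro i rfl
        (simp [K, DeRham.cx]) <;> rfl
      have hr := key _ hp
      constructor
      · rintro ⟨y, hy⟩
        exact hr.subset ⟨y, congrArg Subtype.val hy⟩
      · intro hx
        obtain ⟨y, hy⟩ := hr.superset hx
        exact ⟨y, Subtype.ext hy⟩
  exact ⟨e₁.trans ((QuotientAddGroup.quotientKerEquivOfSurjective g hsurj).symm.trans
    (QuotientAddGroup.quotientAddEquivOfEq hker))⟩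

open CategoryTheory AlgebraicGeometry exteriorPower in
/-- For a ring map R → A with X = Spec A → S = Spec R, a de Rham complex D of the sheaf of differentials
of X → S and a de Rham differential d of the Kähler differentials of A over R, the de Rham
cohomology group H^n(X, D) = H^n_dR(X/S) is isomorphic, as an additive group, to the n-th cohomology
of the ring-level de Rham complex (⋀^• Ω_{A/R}, d), for every n ≥ 0. (Existence of an additive
isomorphism only: the published statement is a canonical identification, and it also identifies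
RΓ(X, Ω^•_{X/S}) with Ω^•_{A/R} in D(R), which is not stated here.) -/
theorem result (R A : Type u) [CommRing R] [CommRing A] [Algebra R A]
    (D : DeRhamSh.OmegaCx (Spec.map (CommRingCat.ofHom (algebraMap R A))))
    [HasDerivedCategory.{u} (Sheaf (Opens.grothendieckTopology ↥(Spec (CommRingCat.of A))) AddCommGrpCat.{u})]
    (d : ∀ p : ℕ, ↥(⋀[A]^p (Ω[A⁄R])) →ₗ[R] ↥(⋀[A]^(p + 1) (Ω[A⁄R])))
    (hd : DeRham.IsDiff (KaehlerDifferential.D R A) d) (n : ℕ) :
    Nonempty (DeRhamSh.HdR D (n : ℤ) ≃+ ↑(DeRham.H hd n)) := by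
  obtain ⟨e₁⟩ := nonempty_H_addEquiv hd n
  obtain ⟨e, he⟩ := H26Hyper.exists_sectionsEquiv D d hd.1
  obtain ⟨e₂⟩ := H26Hyper.nonempty_HT_addEquiv D.K (fun p q => by
      haveI : (D.term p).IsQuasicoherent :=
        H22Alg.ExtPowHom.isQCoh_of_isExtPow (H29Omega.isQCoh_sheaf _) (D.isExtPow p)
      haveI := H10Coh.subsingleton_HH_of_isAffine (D.term p) (Nat.succ_pos q)
      exact ((E1Deg.extCongrRight _ (D.iso p) (q + 1)).trans
        (E1Deg.extCongrLeft (E1Deg.freeSheafIsoConstant (Opens.grothendieckTopology _)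
          (Limits.isTerminalTop : Limits.IsTerminal (⊤ : (Spec (CommRingCat.of A)).Opens))) _ _)).toEquiv.subsingleton)
    (fun p => ↥(⋀[A]^p (Ω[A⁄R]))) (fun p => (d p).toAddMonoidHom) e he n
    (DeRham.coboundaries d n).toAddSubgroup (fun x => by
      cases n with
      | zero =>
        show x ∈ (⊥ : Submodule R _) ↔ _
        simp
      | succ m =>
        show x ∈ LinearMap.range (d m) ↔ _
        constructor
        · rintro ⟨y, rfl⟩
          exact Or.inr ⟨m, rfl, y, rfl⟩
        · rintro (⟨h, -⟩ | ⟨m', h, y, hy⟩)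
          · omega
          · obtain rfl : m' = m := by omega
            exact ⟨y, hy⟩)
  exact ⟨e₂.trans e₁.symm⟩

end Groth.Agent.S15527
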