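import Groth.Statements.S15528
import Groth.Agent.H27Hyper.Pn

set_option autoImplicit false
universe u
open DeRhamSh

namespace Groth.Agent.S15528

open CategoryTheory AlgebraicGeometry in
/-- For a ring A, n ≥ 1 and a de Rham complex D of the sheaf of differentials of projective n-space
P^n_A over A, the de Rham cohomology group H^{2i}_dR(P^n_A/A) = H^{2i}(P^n_A, D) is isomorphic as an
additive group to A for every 0 ≤ i ≤ n. (Additive form: the published statement asserts freeness of
rank one over A, generated by the i-th cup power of the de Rham first Chern class of O(1); the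
module structure, cup product and Chern class are not expressed here.) -/
theorem result (A : Type u) [CommRing A] (n : ℕ) (hn : 1 ≤ n)
    [QuasiSeparated (CohB1.ProjSpace.toSpec n A)] (D : DeRhamSh.OmegaCx (CohB1.ProjSpace.toSpec n A))
    [HasDerivedCategory.{u} (Sheaf (Opens.grothendieckTopology ↥(CohB1.ProjSpace n A)) AddCommGrpCat.{u})]
    (i : ℕ) (hi : i ≤ n) :
    Nonempty (DeRhamSh.HdR D (2 * (i : ℤ)) ≃+ A) := by
  obtain ⟨e⟩ := H27Hyper.Pn.nonempty_HdR_addEquiv_HH A n D i hi
  obtain ⟨e'⟩ := H27Hyper.Pn.nonempty_HH_diag A n D i hi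
  exact ⟨e.trans e'.toAddEquiv⟩

end Groth.Agent.S15528
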