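import Groth.Statements.S15533
import Mathlib
import Groth.Agent.H02CA.SmoothRegular

set_option autoImplicit false
universe u
open OmegaSh
open AlgebraicGeometry CategoryTheory TopologicalSpace

namespace Groth.Agent.S15533

open Polynomial TensorProduct in
lemma separable_minpoly_of_geomReduced {k B : Type u} [Field k] [CommRing B] [Algebra k B]
    [IsReduced (AlgebraicClosure k ⊗[k] B)] {s : B} (hs : IsIntegral k s) :
    (minpoly k s).Separable := by
  let K := AlgebraicClosure k
  rw [← separable_map (algebraMap k K), PerfectField.separable_iff_squarefree]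
  intro d ⟨e, he⟩
  by_contra hd
  have hmon : ((minpoly k s).map (algebraMap k K)).Monic := (minpoly.monic hs).map _
  have hd0 : d ≠ 0 := by rintro rfl; exact hmon.ne_zero (by rw [he]; ring)
  have he0 : e ≠ 0 := by rintro rfl; exact hmon.ne_zero (by rw [he]; ring)
  set n := (minpoly k s).natDegree
  have hdeg : (d * e).natDegree < n := by
    have h1 : ((minpoly k s).map (algebraMap k K)).natDegree = n := natDegree_map _
    rw [he, mul_assoc, natDegree_mul hd0 (mul_ne_zero hd0 he0)] at h1
    have : 0 < d.natDegree := Polynomial.natDegree_pos_iff_degree_pos.mpr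
      (Polynomial.degree_pos_of_ne_zero_of_nonunit hd0 hd)
    omega
  have hz : aeval ((1 : K) ⊗ₜ[k] s) ((minpoly k s).map (algebraMap k K)) = 0 := by
    rw [aeval_map_algebraMap, show (1 : K) ⊗ₜ[k] s =
      (Algebra.TensorProduct.includeRight : B →ₐ[k] K ⊗[k] B) s from rfl, aeval_algHom_apply,
      minpoly.aeval, map_zero]
  have hr : aeval ((1 : K) ⊗ₜ[k] s) (d * e) = 0 := by
    refine IsReduced.eq_zero _ ⟨2, ?_⟩
    rw [← map_pow, show (d * e) ^ 2 = (d * d * e) * e by ring, ← he, map_mul, hz, zero_mul]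
  let L : (Fin n → k) →ₗ[k] B := Fintype.linearCombination k (fun i : Fin n => s ^ (i : ℕ))
  have hL : Function.Injective (LinearMap.lTensor K L) :=
    Module.Flat.lTensor_preserves_injective_linearMap _
      (linearIndependent_iff_injective_fintypeLinearCombination.mp (linearIndependent_pow s))
  let z : K ⊗[k] (Fin n → k) := ∑ i : Fin n, (d * e).coeff i ⊗ₜ Pi.single i 1
  have hzL : LinearMap.lTensor K L z = 0 := by
    rw [map_sum, ← hr, aeval_eq_sum_range' hdeg, Finset.sum_range]
    refine Finset.sum_congr rfl fun i _ => ?_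
    rw [LinearMap.lTensor_tmul, Algebra.TensorProduct.tmul_pow, one_pow, TensorProduct.smul_tmul',
      smul_eq_mul, mul_one]
    simp [L]
  have h0 : z = 0 := hL (hzL.trans (map_zero _).symm)
  refine mul_ne_zero hd0 he0 (Polynomial.ext fun i => ?_)
  rw [coeff_zero]
  by_cases hi : i < n
  · have := congrFun (congrArg (TensorProduct.piScalarRight k K K (Fin n)) h0) ⟨i, hi⟩
    simpa [z, Finset.sum_apply, Pi.single_apply] using this
  · exact coeff_eq_zero_of_natDegree_lt (lt_of_lt_of_le hdeg (not_lt.mp hi))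

lemma derivation_eq_zero_of_isIntegral {k B M : Type u} [Field k] [CommRing B] [Algebra k B]
    [AddCommGroup M] [Module B M] [Module k M] [IsScalarTower k B M] [Algebra.Smooth k B]
    (D : Derivation k B M) {s : B} (hs : IsIntegral k s) : D s = 0 := by
  haveI : IsReduced (TensorProduct k (AlgebraicClosure k) B) :=
    Groth.Agent.H02CA.isReduced_of_smooth (AlgebraicClosure k) _
  obtain ⟨u, v, huv⟩ := separable_minpoly_of_geomReduced (B := B) hs
  have h1 := congrArg (Polynomial.aeval s) huv
  rw [map_add, map_mul, map_mul, minpoly.aeval, mul_zero, zero_add, map_one] at h1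
  have h2 : D (Polynomial.aeval s (minpoly k s)) =
      Polynomial.aeval s (Polynomial.derivative (minpoly k s)) • D s := D.map_aeval _ _
  rw [minpoly.aeval, map_zero] at h2
  rw [← one_smul B (D s), ← h1, mul_smul, ← h2, smul_zero]



open CategoryTheory AlgebraicGeometry in
/-- For a field k and a smooth proper k-scheme X with structure morphism f, the derivation d : O_X →
Ω_{X/k} of f vanishes on global functions: d(s) = 0 in Γ(X, Ω_{X/k}) for every s ∈ Γ(X, O_X). -/
theorem result (k : Type u) [Field k] (X : Scheme.{u})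
    (f : X ⟶ Spec (CommRingCat.of k)) [IsProper f] [Smooth f] (s : Γ(X, ⊤)) :
    (OmegaSh.dOmega f).app ⊤ s = 0 := by
  haveI : QuasiSeparated f := inferInstance
  let D := OmegaSh.dOmega f
  refine TopCat.Sheaf.eq_of_locally_eq' ⟨(Omega.sheaf f).presheaf, (Omega.sheaf f).isSheaf⟩
    (fun U : X.affineOpens => U.1) ⊤ (fun U => homOfLE le_top) ?_ _ _ fun U => ?_
  · intro x _
    obtain ⟨V, hV, hxV, -⟩ := exists_isAffineOpen_mem_and_subset (U := (⊤ : X.Opens)) (x := x) trivial
    exact Opens.mem_iSup.mpr ⟨⟨V, hV⟩, hxV⟩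
  have hres : (Omega.sheaf f).presheaf.map (homOfLE (le_top : U.1 ≤ ⊤)).op (D.app ⊤ s) =
      D.app U.1 (X.presheaf.map (homOfLE le_top).op s) := (D.d_map (homOfLE (le_top : U.1 ≤ ⊤)).op s).symm
  refine hres.trans (Eq.trans ?_ (map_zero _).symm)
  let φ : k →+* Γ(X, U.1) := (f.appLE ⊤ U.1 le_top).hom.comp (Scheme.ΓSpecIso (CommRingCat.of k)).inv.hom
  letI : Algebra k Γ(X, U.1) := φ.toAlgebra
  have hφ : φ.Smooth :=
    RingHom.Smooth.comp (RingHom.Smooth.of_bijective
      (Scheme.ΓSpecIso (CommRingCat.of k)).commRingCatIsoToRingEquiv.symm.bijective)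
      (f.smooth_appLE (isAffineOpen_top _) U.2 le_top)
  haveI : Algebra.Smooth k Γ(X, U.1) := hφ
  letI : Module k Γ(Omega.sheaf f, U.1) := Module.compHom _ φ
  haveI : IsScalarTower k Γ(X, U.1) Γ(Omega.sheaf f, U.1) :=
    ⟨fun a b m => by
      change (φ a * b) • m = φ a • b • m
      rw [mul_smul]⟩
  have hc : ∀ c : k, D.app U.1 (φ c) = 0 := fun c => by
    let c' : Γ(Spec (CommRingCat.of k), ⊤) := (Scheme.ΓSpecIso (CommRingCat.of k)).inv.hom c
    have h := D.d_map (homOfLE (le_top : U.1 ≤ f ⁻¹ᵁ ⊤)).op (f.app ⊤ c')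
    refine Eq.trans h ?_
    exact (congrArg _ (D.d_app (X := Opposite.op ⊤) c')).trans (map_zero _)
  let E : Derivation k Γ(X, U.1) Γ(Omega.sheaf f, U.1) :=
    Derivation.mk'
      { toFun := D.app U.1
        map_add' := map_add _
        map_smul' := fun c b => by
          change D.app U.1 (φ c * b) = φ c • D.app U.1 b
          rw [show D.app U.1 (φ c * b) = φ c • D.app U.1 b + b • D.app U.1 (φ c) from D.d_mul _ _, hc,
            smul_zero, add_zero] }
      (fun a b => D.d_mul a b)
  have hs : IsIntegral k (X.presheaf.map (homOfLE (le_top : U.1 ≤ ⊤)).op s) := by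
    have h1 : (f.appTop.hom.comp (Scheme.ΓSpecIso (CommRingCat.of k)).inv.hom).IsIntegral :=
      RingHom.isIntegral_respectsIso.2 _ (Scheme.ΓSpecIso (CommRingCat.of k)).symm.commRingCatIsoToRingEquiv
        (isIntegral_appTop_of_universallyClosed f)
    obtain ⟨p, hp, hps⟩ := h1 s
    refine ⟨p, hp, ?_⟩
    have := congrArg (X.presheaf.map (homOfLE (le_top : U.1 ≤ ⊤)).op).hom hps
    rw [map_zero, Polynomial.hom_eval₂] at this
    exact this
  exact derivation_eq_zero_of_isIntegral E hs

end Groth.Agent.S15533
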