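import Groth.Statements.S15535
import Groth.Agent.H18PBC.SteinEt.Main
import Groth.Agent.H13AlgSp.EtaleLocally

set_option autoImplicit false
universe u
open OmegaSh

namespace Groth.Agent.S15535

open CategoryTheory AlgebraicGeometry in
/-- For a quasi-compact quasi-separated scheme S and a proper morphism f : X → S which is smooth of
relative dimension n with all fibres nonempty (f surjective), the map d : f_*O_X → f_*Ω_{X/S}
induced by the derivation of f is zero: d(s) = 0 for every section s of O_X over an open of the form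
f⁻¹(V), V open in S. (The published lemma also asserts that f_*O_X is a finite étale O_S-algebra and
that Rf_*O_X splits off f_*O_X locally on S with perfect complement of tor amplitude in [1, ∞);
those parts are not stated here.) -/
theorem result (S X : Scheme.{u}) (f : X ⟶ S)
    [CompactSpace ↥S] [QuasiSeparatedSpace ↥S] [IsProper f] (n : ℕ) [SmoothOfRelativeDimension n f]
    [Surjective f] (V : S.Opens) (s : Γ(X, f ⁻¹ᵁ V)) :
    (OmegaSh.dOmega f).app (f ⁻¹ᵁ V) s = 0 := by
  haveI : Smooth f := SmoothOfRelativeDimension.smooth n f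
  have hred : ∀ y : S, H18PBC.SteinEt.GRAt f y := fun y K _ _ σ hσ =>
    haveI : _root_.IsReduced (CommRingCat.of K) := inferInstanceAs (_root_.IsReduced K)
    H13AlgSp.isReduced_of_smooth_mor (CategoryTheory.Limits.pullback.snd f σ)
  let C := {U : S.Opens // IsAffineOpen U ∧ U ≤ V}
  refine TopCat.Sheaf.eq_of_locally_eq' (⟨(Omega.sheaf f).presheaf, (Omega.sheaf f).isSheaf⟩ : TopCat.Sheaf Ab X)
    (fun U : C => f ⁻¹ᵁ U.1) (f ⁻¹ᵁ V) (fun U => homOfLE (Scheme.Hom.preimage_mono f U.2.2)) ?_ _ _ ?_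
  · intro x hx
    obtain ⟨U, hU, hxU, hUV⟩ := TopologicalSpace.Opens.isBasis_iff_nbhd.mp S.isBasis_affineOpens
      (show f x ∈ V from hx)
    exact TopologicalSpace.Opens.mem_iSup.2 ⟨⟨U, hU, hUV⟩, hxU⟩
  rintro ⟨U, hU, hUV⟩
  rw [map_zero]
  change (Omega.sheaf f).presheaf.map (homOfLE (Scheme.Hom.preimage_mono f hUV)).op (dSect f (f ⁻¹ᵁ V) s) = 0
  rw [show (Omega.sheaf f).presheaf.map (homOfLE (Scheme.Hom.preimage_mono f hUV)).op (dSect f (f ⁻¹ᵁ V) s) =
    dSect f (f ⁻¹ᵁ U) (X.presheaf.map (homOfLE (Scheme.Hom.preimage_mono f hUV)).op s) from (dSect_map f _ s).symm]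
  generalize X.presheaf.map (homOfLE (Scheme.Hom.preimage_mono f hUV)).op s = t
  obtain ⟨-, het⟩ := H18PBC.SteinEt.finite_etale_app f hred hU
  letI : Algebra Γ(S, U) Γ(X, f ⁻¹ᵁ U) := (f.app U).hom.toAlgebra
  haveI : Algebra.Etale Γ(S, U) Γ(X, f ⁻¹ᵁ U) := het
  letI : Module Γ(S, U) Γ(Omega.sheaf f, f ⁻¹ᵁ U) := Module.compHom _ (f.app U).hom
  haveI : IsScalarTower Γ(S, U) Γ(X, f ⁻¹ᵁ U) Γ(Omega.sheaf f, f ⁻¹ᵁ U) :=
    IsScalarTower.of_algebraMap_smul fun _ _ => rfl
  let D : Derivation Γ(S, U) Γ(X, f ⁻¹ᵁ U) Γ(Omega.sheaf f, f ⁻¹ᵁ U) := Derivation.mk'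
    { toFun := dSect f (f ⁻¹ᵁ U)
      map_add' := dSect_add f _
      map_smul' := fun c a => by
        simp only [Algebra.smul_def, RingHom.algebraMap_toAlgebra, dSect_mul, dSect_app, smul_zero, add_zero,
          RingHom.id_apply]
        rfl }
    (fun a b => dSect_mul f _ a b)
  have h := D.liftKaehlerDifferential_comp_D t
  rw [Subsingleton.elim (KaehlerDifferential.D Γ(S, U) Γ(X, f ⁻¹ᵁ U) t) 0, map_zero] at h
  exact h.symm

end Groth.Agent.S15535
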