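import Groth.Statements.S15538
import Groth.Agent.H17.ExtRegVanish.RegImm
-- import your own Groth.Agent.* helpers here

set_option autoImplicit false
universe u
open RegImm

namespace Groth.Agent.S15538

open CategoryTheory AlgebraicGeometry in
/-- For a closed immersion i : Z → X which is a regular immersion of codimension c, a finite locally
free O_X-module E and any O_Z-module F, the groups Ext^q(i_*F, E), computed in the category of all
O_X-modules (the Ext instance is the stated hypothesis; it holds), vanish for q < c. (The published
statement allows any locally free E, possibly of infinite rank; E is taken finite locally free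
here.) -/
theorem result (X Z : Scheme.{u}) [HasExt.{u} X.Modules]
    (i : Z ⟶ X) [IsClosedImmersion i] (c : ℕ)
    (hi : RegImm.IsRegularImmersionOfCodim RegImm.Kind.regular c i) (E : X.Modules)
    (hE : FlatMod.IsFinLocFree E) (F : Z.Modules) (q : ℕ) (hq : q < c) :
    Subsingleton (Abelian.Ext ((Scheme.Modules.pushforward i).obj F) E q) := by
  obtain ⟨-, hloc⟩ := hi
  choose U hzU hcl rs hlen hreg hker using hloc
  let O : X.Opens := ⟨(Set.range i)ᶜ, i.isClosedEmbedding.isClosed_range.isOpen_compl⟩
  let W : Z ⊕ PUnit.{u + 1} → X.Opens := fun j => match j with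
    | .inl z => (U z).1
    | .inr _ => O
  let l : ∀ j, List Γ((W j : Scheme.{u}), ⊤) := fun j => match j with
    | .inl z => (rs z).map (U z).1.topIso.inv
    | .inr _ => List.replicate c (1 : Γ((O : Scheme.{u}), ⊤))
  have hW : iSup W = ⊤ := by
    rw [eq_top_iff]
    intro x _
    rw [TopologicalSpace.Opens.mem_iSup]
    by_cases hx : x ∈ Set.range i
    · obtain ⟨z, rfl⟩ := hx
      exact ⟨.inl z, hzU z⟩
    · exact ⟨.inr ⟨⟩, hx⟩
  refine Groth.Agent.H17.ExtRegVanish.subsingleton_ext_of_local W l hW E c (fun j => ?_) (fun j y => ?_)
    q hq _ (fun j a ha => ?_)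
  · rcases j with z | z
    · simp only [l, List.length_map, hlen, le_refl]
    · simp only [l, List.length_replicate, le_refl]
  · rcases j with z | z
    · exact Groth.Agent.H17.ExtRegVanish.isWeaklyRegular_restrict (U z).1 (U z).2 hE (rs z)
        (hreg z).toIsWeaklyRegular y
    · simp only [l, List.map_replicate, map_one]
      clear hq
      induction c generalizing W with
      | zero => exact RingTheory.Sequence.IsWeaklyRegular.nil _ _
      | succ n ih =>
        refine ⟨fun i hi => ?_⟩
        simp only [List.getElem_replicate]
        exact IsSMulRegular.one _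
  · rcases j with z | z
    · obtain ⟨r, hr, rfl⟩ := List.mem_map.1 ha
      refine Groth.Agent.H17.ExtRegVanish.mulEnd_restrict_eq_zero (U z).1 _ r fun V hV m => ?_
      have h0 : i.app (U z).1 r = 0 := by
        have : r ∈ RingHom.ker (i.app (U z).1).hom := by
          rw [hker z]
          exact Ideal.subset_span hr
        exact this
      show i.app V (X.presheaf.map (homOfLE hV).op r) • (show Γ(F, i ⁻¹ᵁ V) from m) = 0
      have hnat : i.app V (X.presheaf.map (homOfLE hV).op r) =
          Z.presheaf.map ((TopologicalSpace.Opens.map i.base).map (homOfLE hV)).op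
            (i.app (U z).1 r) :=
        ConcreteCategory.congr_hom (i.naturality (homOfLE hV).op) r
      rw [hnat, h0, map_zero, zero_smul]
    · refine Scheme.Modules.hom_ext _ _ fun V => ?_
      ext m
      haveI : Subsingleton Γ((Scheme.Modules.restrictFunctor O.ι).obj
          ((Scheme.Modules.pushforward i).obj F), V) := by
        have hbot : i ⁻¹ᵁ (O.ι ''ᵁ V) = ⊥ := by
          rw [eq_bot_iff]
          rintro x ⟨y, -, hy⟩
          exact (y.2 ⟨x, hy.symm⟩).elim
        show Subsingleton Γ(F, i ⁻¹ᵁ (O.ι ''ᵁ V))
        rw [hbot]
        exact AddCommGrpCat.subsingleton_of_isZero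
          ((TopCat.Sheaf.isTerminalOfEmpty (F := (⟨F.presheaf, F.isSheaf⟩ : TopCat.Sheaf Ab.{u} Z.carrier))).isZero)
      exact Subsingleton.elim _ _

end Groth.Agent.S15538
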