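import Groth.Statements.S1554
import Mathlib
import Groth.Agent.H22Alg.FibreDimBound

set_option autoImplicit false
universe u
open CategoryTheory CategoryTheory.Limits AlgebraicGeometry
open Variety

namespace Groth.Agent.S1554

/-- Let f : X → Y be locally of finite type, x a point with image y such that the local ring of Y at y
is Noetherian of dimension at most one, and d a natural number such that the local fibre dimension
is d at the generic points of the irreducible components of X passing through x. Then the local
dimension at x of the fibre over y equals d. -/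
theorem result {X Y : Scheme.{u}} (f : X ⟶ Y) [LocallyOfFiniteType f]
    (x : X) [IsNoetherianRing (Y.presheaf.stalk (f.base x))] (hdimY : ringKrullDim (Y.presheaf.stalk (f.base x)) ≤ 1) (d : ℕ)
    (hgen : ∀ Z ∈ irreducibleComponents (X : Type u), x ∈ Z → ∀ η : X, IsGenericPoint η Z → FlatMor.fibreDimAt f η = d) :
    FlatMor.fibreDimAt f x = d := by
  have hg : ∀ η : X, η ⤳ x → (∀ ζ, ζ ⤳ η → ζ = η) → FlatMor.fibreDimAt f η = d := fun η hη hm =>
    hgen _ (Groth.Agent.H22Alg.closure_mem_irreducibleComponents_of_max hm) hη.mem_closure η rfl
  obtain ⟨η, hη, hm⟩ := Groth.Agent.H22Alg.exists_max_generization x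
  refine le_antisymm ?_ (hg η hη hm ▸ Groth.Agent.H8Props.FieldDim.fibreDimAt_le_of_specializes f hη)
  rcases Groth.Agent.H22Alg.fibreDimAt_dichotomy f x d (fun η hη hm => (hg η hη hm).le) with ⟨ξ, hξ, hm', -, heq⟩ | h
  · exact (heq.trans (hg ξ hξ hm')).le
  · exact ENat.WithBot.add_le_add_one_right_iff.mp (h.trans (by gcongr))

end Groth.Agent.S1554
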