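import Groth.Statements.S15542
import Groth.Agent.H17.ProConsPre

set_option autoImplicit false
open CategoryTheory AlgebraicGeometry
universe u
open ProCons

namespace Groth.Agent.S15542

open CategoryTheory Limits AlgebraicGeometry TopologicalSpace
open Groth.Agent.H17

/-- The pro-constructible case. Let f : X ⟶ Y be any morphism of schemes and T a pro-constructible
subset of Y (locally on Y an intersection of locally constructible subsets). Then the preimage of T
under f is pro-constructible in X. -/
theorem result {X Y : Scheme.{u}} (f : X ⟶ Y) (T : Set Y)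
    (hT : ProCons.IsProConstructible T) :
    ProCons.IsProConstructible (f.base ⁻¹' T) := by
  intro x
  obtain ⟨U, hU, hxU, S, hS, hE⟩ := hT (f x)
  obtain ⟨W, hW, hxW, h, hc⟩ := ProConsPre.exists_nhd f U hU x hxU
  let φ : ↥W → ↥U := fun w => ⟨f w.1, h w.1 w.2⟩
  refine ⟨W, hW, hxW, (fun T' => φ ⁻¹' T') '' S, ?_, ?_⟩
  · rintro _ ⟨T', hT', rfl⟩; exact hc T' (hS T' hT')
  · have : (Subtype.val ⁻¹' (f.base ⁻¹' T) : Set ↥W) = φ ⁻¹' (Subtype.val ⁻¹' T) := rfl
    rw [this, hE, Set.sInter_image, Set.preimage_sInter]

end Groth.Agent.S15542
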