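import Groth.Statements.S15544
import Groth.Agent.H10ZMT.Connected
import Groth.Agent.H10ZMT.Basic
-- import your own Groth.Agent.* helpers here

set_option autoImplicit false
open CategoryTheory AlgebraicGeometry
universe u
open Coherent

namespace Groth.Agent.S15544




/-- Let X and Y be integral schemes, Y locally Noetherian with all local rings integrally closed, and f
: X ⟶ Y a proper birational morphism (the generic point of X maps to that of Y and the stalk map
there is an isomorphism). Then every fibre of f is connected and nonempty. (The published statement
takes X and Y Noetherian; over a locally Noetherian Y this is the same assertion fibre by fibre.) -/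
theorem result {X Y : Scheme.{u}} [IsIntegral X]
    [IsIntegral Y] [IsLocallyNoetherian Y] (hY : Pi1.IsNormalScheme Y) (f : X ⟶ Y) [IsProper f]
    (hgen : f.base (genericPoint X) = genericPoint Y) (hbir : IsIso (f.stalkMap (genericPoint X)))
    (y : Y) : ConnectedSpace ↥(f.fiber y) := by

  have hdom : f.base (genericPoint X) ⤳ genericPoint Y := specializes_of_eq hgen
  have hb : Function.Surjective (f.stalkMap (genericPoint X)) :=
    haveI := hbir
    (ConcreteCategory.bijective_of_isIso (f.stalkMap (genericPoint X))).2
  have hs := H10ZMT.stalkToFunctionField_surjective f hgen hb hdom
  have hg : GeometricallyConnected f := H10ZMT.geometricallyConnected f fun U hU =>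
    H10ZMT.isIso_app_of_affine f (fun W hW =>
      ⟨(H10ZMT.app_integral_elems hY f hdom (fun z _ => hs z) W).1, fun b =>
        (H10ZMT.app_integral_elems hY f hdom (fun z _ => hs z) W).2 b (H10ZMT.isIntegral_app f W hW b)⟩) U
  infer_instance


end Groth.Agent.S15544
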