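import Groth.Statements.S15546
import Groth.Agent.H06Unram.TraceForm

set_option autoImplicit false
open scoped TensorProduct
universe u
open Unram

namespace Groth.Agent.S15546

/-- Let E be a finite extension of a field k which is not separable over k, and K an algebraic closure
of k. Then E ⊗_k K has a nonzero nilpotent element. -/
theorem result (k E K : Type u) [Field k] [Field E]
    [Algebra k E] [FiniteDimensional k E] [Field K] [Algebra k K] [IsAlgClosure k K]
    (h : ¬ Algebra.IsSeparable k E) : ∃ x : E ⊗[k] K, x ≠ 0 ∧ IsNilpotent x := by
  exact Groth.Agent.H06Unram.exists_nilpotent_of_not_isSeparable k E K h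

end Groth.Agent.S15546
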