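import Groth.Statements.S15547
-- import your own Groth.Agent.* helpers here

set_option autoImplicit false
open CategoryTheory AlgebraicGeometry TopologicalSpace
universe u
open Coherent

namespace Groth.Agent.S15547

open AlgebraicGeometry CategoryTheory Opposite in
theorem main_aux {Z X : Scheme.{u}} (g : Z ⟶ X) [IsFinite g] (x : X) (V : X.Opens) (hV : IsAffineOpen V)
    (hxV : x ∈ V) :
    Set.BijOn (fun z : {z : Z // g.base z = x} =>
        Ideal.comap (((g.base _* Z.presheaf).stalkCongr (Inseparable.of_eq z.2)).inv ≫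
            TopCat.Presheaf.stalkPushforward CommRingCat g.base Z.presheaf z.1).hom
          (IsLocalRing.maximalIdeal (Z.presheaf.stalk z.1)))
      Set.univ {I : Ideal ((g.base _* Z.presheaf).stalk x) | I.IsMaximal} := by
  let G := g.base _* Z.presheaf
  have hW : IsAffineOpen (g ⁻¹ᵁ V) := hV.preimage g
  let ρ : Γ(Z, g ⁻¹ᵁ V) →+* G.stalk x := (G.germ V x hxV).hom
  let q : ∀ z : {z : Z // g.base z = x}, Ideal Γ(Z, g ⁻¹ᵁ V) := fun z =>
    (hW.primeIdealOf ⟨z.1, show g.base z.1 ∈ V from z.2.symm ▸ hxV⟩).asIdeal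
  let I : ∀ z : {z : Z // g.base z = x}, Ideal (G.stalk x) := fun z =>
    Ideal.comap ((G.stalkCongr (Inseparable.of_eq z.2)).inv ≫
      TopCat.Presheaf.stalkPushforward CommRingCat g.base Z.presheaf z.1).hom
      (IsLocalRing.maximalIdeal (Z.presheaf.stalk z.1))
  let p := (hV.primeIdealOf ⟨x, hxV⟩).asIdeal
  let := TopCat.Presheaf.algebra_section_stalk X.presheaf (⟨x, hxV⟩ : V)
  have := hV.isLocalization_stalk ⟨x, hxV⟩
  have hunit : ∀ s ∉ p, IsUnit (ρ (g.app V s)) := by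
    intro s hs
    have hxs : x ∈ X.basicOpen s := by
      rw [X.mem_basicOpen _ x hxV]
      exact IsLocalization.map_units (X.presheaf.stalk x) (⟨s, hs⟩ : p.primeCompl)
    show IsUnit (G.germ V x hxV (g.app V s))
    rw [← TopCat.Presheaf.germ_res_apply G (homOfLE (X.basicOpen_le s)) x hxs]
    refine IsUnit.map (G.germ (X.basicOpen s) x hxs).hom ?_
    have n := congr($(g.naturality (homOfLE (X.basicOpen_le s)).op) s)
    simp only [CommRingCat.comp_apply] at n
    exact n ▸ (RingedSpace.isUnit_res_basicOpen _ s).map (g.app (X.basicOpen s)).hom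
  have hden : ∀ c : G.stalk x, ∃ b, ∃ t, IsUnit (ρ t) ∧ c * ρ t = ρ b := by
    intro c
    obtain ⟨U, hxU, c, rfl⟩ := G.exists_germ_eq c
    obtain ⟨s, hsU, hxs⟩ := hV.exists_basicOpen_le (V := U) ⟨x, hxU⟩ hxV
    let i : g ⁻¹ᵁ X.basicOpen s ⟶ g ⁻¹ᵁ V := homOfLE fun z hz => X.basicOpen_le s hz
    let := (Z.presheaf.map i.op).hom.toAlgebra
    have : IsLocalization.Away (g.app V s) Γ(Z, g ⁻¹ᵁ X.basicOpen s) :=
      hW.isLocalization_of_eq_basicOpen (g.app V s) i (Scheme.preimage_basicOpen g s)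
    obtain ⟨⟨b, t⟩, hbt⟩ := IsLocalization.surj (S := Γ(Z, g ⁻¹ᵁ X.basicOpen s))
      (Submonoid.powers (g.app V s)) (G.map (homOfLE hsU).op c)
    obtain ⟨n, hn⟩ := t.2
    have hres : ∀ d, G.germ (X.basicOpen s) x hxs (algebraMap Γ(Z, g ⁻¹ᵁ V) Γ(Z, g ⁻¹ᵁ X.basicOpen s) d) = ρ d :=
      fun d => TopCat.Presheaf.germ_res_apply G (homOfLE (X.basicOpen_le s)) x hxs d
    refine ⟨b, t, ?_, ?_⟩
    · rw [← hn, map_pow]
      refine (hunit s fun hsp => ?_).pow n
      rw [X.mem_basicOpen _ x hxV] at hxs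
      exact ((IsLocalization.AtPrime.isUnit_to_map_iff (X.presheaf.stalk x) p s).1 hxs) hsp
    · rw [← TopCat.Presheaf.germ_res_apply G (homOfLE hsU) x hxs c, ← hres, ← hres b]
      exact (map_mul (G.germ (X.basicOpen s) x hxs).hom _ _).symm.trans
        (congrArg (G.germ (X.basicOpen s) x hxs).hom hbt)
  have hle : ∀ J J' : Ideal (G.stalk x), J.comap ρ ≤ J'.comap ρ → J ≤ J' := by
    intro J J' h c hc
    obtain ⟨b, t, ht, hbt⟩ := hden c
    have hb : ρ b ∈ J := hbt ▸ J.mul_mem_right _ hc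
    have hb' : ρ b ∈ J' := h hb
    rwa [← hbt, Ideal.mul_unit_mem_iff_mem _ ht] at hb'
  have hI : ∀ z, (I z).comap ρ = q z := by
    intro z
    have hzV : z.1 ∈ g ⁻¹ᵁ V := show g.base z.1 ∈ V from z.2.symm ▸ hxV
    let := TopCat.Presheaf.algebra_section_stalk Z.presheaf (⟨z.1, hzV⟩ : (g ⁻¹ᵁ V : Z.Opens))
    have := hW.isLocalization_stalk ⟨z.1, hzV⟩
    refine Eq.trans ?_ (IsLocalization.AtPrime.under_maximalIdeal (Z.presheaf.stalk z.1) (q z))
    ext b
    show ((G.stalkCongr (Inseparable.of_eq z.2)).inv ≫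
      TopCat.Presheaf.stalkPushforward CommRingCat g.base Z.presheaf z.1) (G.germ V x hxV b) ∈ IsLocalRing.maximalIdeal (Z.presheaf.stalk z.1) ↔ _
    have h1 : G.germ V x hxV ≫ ((G.stalkCongr (Inseparable.of_eq z.2)).inv ≫
        TopCat.Presheaf.stalkPushforward CommRingCat g.base Z.presheaf z.1) =
        Z.presheaf.germ (g ⁻¹ᵁ V) z.1 hzV := by
      simp only [TopCat.Presheaf.stalkCongr_inv, ← Category.assoc, TopCat.Presheaf.germ_stalkSpecializes]
      exact TopCat.Presheaf.stalkPushforward_germ _ _ _ _ _ _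
    have h2 := congr($h1 b)
    simp only [CommRingCat.comp_apply] at h2
    rw [CommRingCat.comp_apply, h2]
    rfl
  algebraize [(g.app V).hom]
  have : Algebra.IsIntegral Γ(X, V) Γ(Z, g ⁻¹ᵁ V) := ⟨(g.finite_app V hV).to_isIntegral⟩
  have hqp : ∀ z, (q z).comap (g.app V).hom = p := by
    intro z
    have := congrArg PrimeSpectrum.asIdeal (IsAffineOpen.comap_primeIdealOf_appLE (f := g) (x := z.1) V hV
      (g ⁻¹ᵁ V) hW (le_refl _) (show g.base z.1 ∈ V from z.2.symm ▸ hxV))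
    rw [← g.app_eq_appLE] at this
    refine this.trans ?_
    congr 2
    exact Subtype.ext z.2
  have hlift : ∀ J : Ideal (G.stalk x), J.IsPrime → ∃ z, J.comap ρ ≤ q z := by
    intro J hJ
    have hJp : (J.comap ρ).comap (g.app V).hom ≤ p := fun a ha => by
      by_contra hap
      exact hJ.ne_top (Ideal.eq_top_of_isUnit_mem _ ha (hunit a hap))
    obtain ⟨Q, hQ, hQp, hQc⟩ := Ideal.exists_ideal_over_prime_of_isIntegral_of_isPrime p (J.comap ρ) hJp
    let z : Z := hW.fromSpec ⟨Q, hQp⟩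
    have hzV : z ∈ g ⁻¹ᵁ V := by
      have : z ∈ Set.range hW.fromSpec := ⟨_, rfl⟩
      rwa [hW.range_fromSpec] at this
    have hprime : hW.primeIdealOf ⟨z, hzV⟩ = ⟨Q, hQp⟩ :=
      hW.fromSpec.isOpenEmbedding.injective (hW.fromSpec_primeIdealOf ⟨z, hzV⟩)
    have hz : g.base z = x := by
      have h1 : hV.primeIdealOf ⟨g.base z, hzV⟩ = hV.primeIdealOf ⟨x, hxV⟩ := by
        rw [← IsAffineOpen.comap_primeIdealOf_appLE (f := g) (x := z) V hV
          (g ⁻¹ᵁ V) hW (le_refl _) hzV, ← g.app_eq_appLE, hprime]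
        exact PrimeSpectrum.ext hQc
      have h2 := congrArg hV.fromSpec h1
      rwa [hV.fromSpec_primeIdealOf, hV.fromSpec_primeIdealOf] at h2
    refine ⟨⟨z, hz⟩, hQ.trans ?_⟩
    show Q ≤ (hW.primeIdealOf _).asIdeal
    rw [hprime]
  have hincomp : ∀ z z', q z ≤ q z' → q z = q z' := by
    intro z z' h
    by_contra hne
    have : (q z).IsPrime := (hW.primeIdealOf _).isPrime
    exact absurd ((hqp z).trans (hqp z').symm) (Ideal.IsIntegral.comap_lt_comap (R := Γ(X, V)) (lt_of_le_of_ne h hne)).ne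
  have hprimeI : ∀ z, (I z).IsPrime := fun z => Ideal.IsPrime.comap _
  refine ⟨fun z _ => ?_, fun z _ z' _ h => ?_, fun J hJ => ?_⟩
  · obtain ⟨J, hJ, hzJ⟩ := Ideal.exists_le_maximal (I z) (hprimeI z).ne_top
    obtain ⟨z', hz'⟩ := hlift J hJ.isPrime
    have h1 : q z = q z' := hincomp z z' ((hI z).symm.trans_le ((Ideal.comap_mono hzJ).trans hz'))
    have h2 : J ≤ I z := hle _ _ (by rw [hI, h1]; exact hz')
    show (I z).IsMaximal
    exact (show I z = J from le_antisymm hzJ h2) ▸ hJ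
  · have h1 : q z = q z' := by rw [← hI, ← hI]; exact congrArg (Ideal.comap ρ) h
    have hzV : ∀ w : {z : Z // g.base z = x}, w.1 ∈ g ⁻¹ᵁ V := fun w => show g.base w.1 ∈ V from w.2.symm ▸ hxV
    have h2 : hW.primeIdealOf ⟨z.1, hzV z⟩ = hW.primeIdealOf ⟨z'.1, hzV z'⟩ := PrimeSpectrum.ext h1
    have h3 := congrArg hW.fromSpec h2
    rw [hW.fromSpec_primeIdealOf, hW.fromSpec_primeIdealOf] at h3
    exact Subtype.ext h3
  · obtain ⟨z, hz⟩ := hlift J (Ideal.IsMaximal.isPrime hJ)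
    exact ⟨z, trivial, (Ideal.IsMaximal.eq_of_le hJ (hprimeI z).ne_top (hle _ _ (by rw [hI]; exact hz))).symm⟩


/-- Let g : Z ⟶ X be a finite morphism of schemes (Z is the spectrum of the finite quasi-coherent
O_X-algebra C = g_*O_Z) and x a point of X. Then the points of Z over x correspond bijectively to
the maximal ideals of the stalk C_x = (g_*O_Z)_x: the map sending z with g(z) = x to the preimage of
the maximal ideal of O_{Z,z} under the canonical map (g_*O_Z)_x ⟶ O_{Z,z} is a bijection from the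
fibre onto the set of maximal ideals. -/
theorem result {Z X : Scheme.{u}} (g : Z ⟶ X)
    [IsFinite g] (x : X) :
    Set.BijOn (fun z : {z : Z // g.base z = x} =>
        Ideal.comap (((g.base _* Z.presheaf).stalkCongr (Inseparable.of_eq z.2)).inv ≫
            TopCat.Presheaf.stalkPushforward CommRingCat g.base Z.presheaf z.1).hom
          (IsLocalRing.maximalIdeal (Z.presheaf.stalk z.1)))
      Set.univ {I : Ideal ((g.base _* Z.presheaf).stalk x) | I.IsMaximal} := by
  obtain ⟨_, ⟨V, hV, rfl⟩, hxV, -⟩ :=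
    X.isBasis_affineOpens.exists_subset_of_mem_open (Set.mem_univ x) isOpen_univ
  exact main_aux g x V hV hxV

end Groth.Agent.S15547
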