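import Groth.Statements.S15548
import Groth.Agent.H3CAlg.TorOneMap
import Mathlib.Algebra.Module.StablyFree.Basic
import Mathlib.RingTheory.PicardGroup
import Mathlib.RingTheory.TotallySplit

set_option autoImplicit false
universe u
open CategoryTheory
open CAlg

namespace Groth.Agent.S15548

/-- Let R be a Noetherian commutative ring, I an ideal of R and M a finitely generated R-module. Then
for every natural number n there is m ≥ n such that the map Tor_1^R(M, R/I^m) → Tor_1^R(M, R/I^n)
induced by the projection R/I^m → R/I^n is the zero map. Here Tor_1^R(M, -) is the first left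
derived functor of M ⊗_R - (derived in the second variable). -/
theorem result (R : Type u) [CommRing R] [IsNoetherianRing R] (I : Ideal R)
    (M : Type u) [AddCommGroup M] [Module R M] [Module.Finite R M] (n : ℕ) :
    ∃ m : ℕ, n ≤ m ∧ ∀ h : I ^ m ≤ I ^ n,
      ((CategoryTheory.Tor (ModuleCat.{u} R) 1).obj (ModuleCat.of R M)).map
        (ModuleCat.ofHom (Submodule.factor h)) = 0 := by
  classical
  obtain ⟨k, g, hg⟩ := Module.Finite.exists_fin' R M
  let K := LinearMap.ker g
  let S : ShortComplex (ModuleCat.{u} R) :=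
    ShortComplex.mk (X₁ := ModuleCat.of R K) (X₂ := ModuleCat.of R (Fin k → R)) (X₃ := ModuleCat.of R M)
      (ModuleCat.ofHom K.subtype) (ModuleCat.ofHom g) (ModuleCat.hom_ext (LinearMap.ext fun x => x.2))
  have hS : S.ShortExact :=
    { exact := (ShortComplex.moduleCat_exact_iff _).2 fun x hx => ⟨⟨x, hx⟩, rfl⟩
      mono_f := (ModuleCat.mono_iff_injective _).2 Subtype.val_injective
      epi_g := (ModuleCat.epi_iff_surjective _).2 hg }
  obtain ⟨c, hc⟩ := Ideal.exists_pow_inf_eq_pow_smul I (N := K)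
  refine ⟨n + c, Nat.le_add_right _ _, fun h => ?_⟩
  haveI : Module.Projective R S.X₂ := inferInstanceAs (Module.Projective R (Fin k → R))
  refine Groth.Agent.H3CAlg.Tor.one_map_eq_zero S hS
    (ModuleCat.ofHom (X := (R ⧸ I ^ (n + c))) (Y := (R ⧸ I ^ n)) (Submodule.factor h)) fun z hz => ?_
  obtain ⟨x, rfl⟩ : ∃ x : K, TensorProduct.tmul R x (Ideal.Quotient.mk (I ^ (n + c)) 1) = z := by
    obtain ⟨y, rfl⟩ := (TensorProduct.tensorQuotEquivQuotSMul K (I ^ (n + c))).symm.surjective z
    obtain ⟨x, rfl⟩ := Submodule.Quotient.mk_surjective _ y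
    exact ⟨x, (TensorProduct.tensorQuotEquivQuotSMul_symm_mk _ x).symm⟩
  have hx : (x : Fin k → R) ∈ I ^ (n + c) • (⊤ : Submodule R (Fin k → R)) := by
    rw [← Submodule.Quotient.mk_eq_zero]
    have hzz : (TensorProduct.tmul R (x : Fin k → R) (Ideal.Quotient.mk (I ^ (n + c)) 1)) = 0 := hz
    have hz' := congrArg (TensorProduct.tensorQuotEquivQuotSMul (Fin k → R) (I ^ (n + c))) hzz
    rwa [map_zero, TensorProduct.tensorQuotEquivQuotSMul_tmul_mk, one_smul] at hz'
  have hx2 : x ∈ I ^ n • (⊤ : Submodule R K) := by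
    refine (Submodule.mem_smul_top_iff _ _ _).mpr ?_
    have := (hc (n + c) (Nat.le_add_left _ _)).le ⟨hx, x.2⟩
    rw [Nat.add_sub_cancel] at this
    exact Submodule.smul_mono le_rfl inf_le_right this
  have h0 : TensorProduct.tmul R x (Ideal.Quotient.mk (I ^ n) 1) = 0 := by
    apply (TensorProduct.tensorQuotEquivQuotSMul K (I ^ n)).injective
    rw [map_zero, TensorProduct.tensorQuotEquivQuotSMul_tmul_mk, one_smul, Submodule.Quotient.mk_eq_zero]
    exact hx2
  exact h0

end Groth.Agent.S15548
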