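import Groth.Statements.S15549
import Groth.Agent.H11Tilde.Frac

set_option autoImplicit false
universe u
open CategoryTheory AlgebraicGeometry
open LocCoh

namespace Groth.Agent.S15549

/-- Let R be a Noetherian commutative ring, positively graded by additive subgroups R_d, with irrelevant
ideal R_+ and X = Proj R, and let M be a graded R-module which is the direct sum of its pieces M_i,
i ≥ 0 (non-negatively graded here). For every i and every m ∈ M_i, the global section of M(i)~
defined by m (the value m/1 at every point) is zero if and only if some power of R_+ annihilates m.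
Equivalently, degree by degree, the kernel of the canonical map from M to the direct sum over all n
of Γ(X, M(n)~) is the R_+-power-torsion submodule H^0_{R_+}(M). -/
theorem result {R σ : Type u} [CommRing R] [IsNoetherianRing R] [SetLike σ R] [AddSubgroupClass σ R]
    (𝒜 : ℕ → σ) [GradedRing 𝒜] {M τ : Type u} [AddCommGroup M] [Module R M] [SetLike τ M] [AddSubgroupClass τ M]
    (ℳ : ℕ → τ) [SetLike.GradedSMul 𝒜 ℳ] [DirectSum.Decomposition ℳ]
    (i : ℕ) (m : ℳ i) :
    GrMod.alpha 𝒜 ℳ i m = 0 ↔
      ∃ k : ℕ, ∀ r : R, r ∈ (HomogeneousIdeal.irrelevant 𝒜).toIdeal ^ k → r • (m : M) = 0 := by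
  classical
  constructor
  · intro h
    let J : Ideal R := LinearMap.ker (LinearMap.toSpanSingleton R M (m : M))
    have hle : (HomogeneousIdeal.irrelevant 𝒜).toIdeal ≤ J.radical := by
      intro a ha
      rw [← DirectSum.sum_support_decompose 𝒜 a]
      refine Ideal.sum_mem _ fun j _ => ?_
      rcases Nat.eq_zero_or_pos j with rfl | hj
      · rw [show (DirectSum.decompose 𝒜 a 0 : R) = 0 from (HomogeneousIdeal.mem_irrelevant_iff 𝒜 a).1 ha]
        exact zero_mem _
      · obtain ⟨N, hN⟩ := H11Tilde.exists_pow_smul_eq_zero 𝒜 ℳ hj (DirectSum.decompose 𝒜 a j).2 m.2 fun x _ => by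
          have h0 : LocalizedModule.mk (m : M) (1 : x.asHomogeneousIdeal.toIdeal.primeCompl) = 0 :=
            congrArg (fun t => GrMod.val t (⟨x, trivial⟩ : (⊤ : (AlgebraicGeometry.Proj 𝒜).Opens))) h
          rw [← LocalizedModule.zero_mk (1 : x.asHomogeneousIdeal.toIdeal.primeCompl), LocalizedModule.mk_eq] at h0
          obtain ⟨t, ht⟩ := h0
          exact ⟨(t : R), t.2, by simpa [Submonoid.smul_def] using ht⟩
        exact ⟨N, by simpa [J] using hN⟩
    obtain ⟨k, hk⟩ := Ideal.exists_pow_le_of_le_radical_of_fg hle (IsNoetherian.noetherian _)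
    exact ⟨k, fun r hr => hk hr⟩
  · rintro ⟨k, hk⟩
    refine Subtype.ext (funext fun x => Subtype.ext ?_)
    haveI : x.1.asHomogeneousIdeal.toIdeal.IsPrime := x.1.isPrime
    obtain ⟨r, hr, hrx⟩ := SetLike.not_le_iff_exists.1 x.1.not_irrelevant_le
    show LocalizedModule.mk (m : M) 1 = (0 : GrMod.LocMod 𝒜 (M := M) x.1)
    rw [← LocalizedModule.zero_mk (1 : x.1.asHomogeneousIdeal.toIdeal.primeCompl), LocalizedModule.mk_eq]
    exact ⟨⟨r ^ k, fun h => hrx (x.1.isPrime.mem_of_pow_mem k h)⟩, by
      simpa [Submonoid.smul_def] using hk (r ^ k) (Ideal.pow_mem_pow hr k)⟩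

end Groth.Agent.S15549
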