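import Groth.Statements.S1555
import Groth.Agent.LeadAmpDesc.Field

set_option autoImplicit false
universe u
open CategoryTheory CategoryTheory.Limits AlgebraicGeometry
open Variety

namespace Groth.Agent.S1555

/-- Let X be a scheme over a field k and K a field extension of k. If X_K has an ample invertible module
then so does X. -/
theorem result (k : Type u) [Field k] (X : Scheme.{u}) [X.Over (Spec (CommRingCat.of k))] (K : Type u) [Field K] [Algebra k K]
    (L' : (Curv2.bc k X K).Modules) (hL' : CohB1.IsAmple L') : ∃ L : X.Modules, CohB1.IsAmple L := by
  exact Groth.Agent.LeadAmpDesc.exists_isAmple_of_fieldExt (X ↘ Spec (CommRingCat.of k)) K hL'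

end Groth.Agent.S1555
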