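import Groth.Statements.S15551
-- import your own Groth.Agent.* helpers here
import Groth.Agent.H3CAlg.BigSection
import Groth.Agent.H18Et.FEtNormal


set_option autoImplicit false
universe u
open CategoryTheory CategoryTheory.Limits AlgebraicGeometry
open Pi1

namespace Groth.Agent.S15551

/-- Let k be an algebraically closed field and X an integral normal scheme (all local rings integrally
closed domains), proper over k and of dimension at least 2, with an ample invertible module L; let s
be a nonzero global section of L, given as a monomorphism O_X → L, and D = Z(s) ⊆ X its zero scheme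
(the support of an effective ample divisor). Then for every finite étale cover Y → X with Y
connected, the fibre product Y ×_X D is connected. This is the statement that the étale fundamental
group of D maps onto that of X. (The published statement takes X projective over k; this row takes X
proper over k with an ample invertible module, which is equivalent.) -/
theorem result (k : Type u) [Field k] [IsAlgClosed k]
    (X : Scheme.{u}) (f : X ⟶ Spec (CommRingCat.of k)) [IsProper f] [IsIntegral X] (hN : Pi1.IsNormalScheme X)
    (hdim : (2 : WithBot ℕ∞) ≤ topologicalKrullDim X)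
    (L : X.Modules) (hL : CohB1.IsAmple L) (s : Coh.structureModule X ⟶ L) (hs : Mono s)
    (Y : FEt.Cat X) [ConnectedSpace Y.left] :
    ConnectedSpace ↥(pullback Y.hom (PicF2.zeroScheme L s).subschemeι) := by
  haveI := hs
  obtain ⟨hint, -⟩ := Groth.Agent.H18Et.FEtNormal.isIntegral_and_isNormalScheme hN Y
  haveI := hint
  haveI : IsLocallyNoetherian X := LocallyOfFiniteType.isLocallyNoetherian f
  let q : Y.left ⟶ X := Y.hom
  haveI : IsFinite q := Y.prop.1
  haveI : Etale q := Y.prop.2
  have hsurj : Function.Surjective q.base := by
    rw [← Set.range_eq_univ]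
    exact IsClopen.eq_univ ⟨q.isClosedMap.isClosed_range, q.isOpenMap.isOpen_range⟩ (Set.range_nonempty _)
  have hdimY : (2 : WithBot ℕ∞) ≤ topologicalKrullDim Y.left :=
    hdim.trans (Groth.Agent.H17.topologicalKrullDim_le_of_specializingMap _
      q.isClosedMap.specializingMap hsurj)
  let g : Γ(L, ⊤) := SecTwist.val s ⊤
  let L' := (Scheme.Modules.pullback q).obj L
  have hL' : CohB1.IsAmple L' := Groth.Agent.H11Ample.isAmple_pullback_of_isAffineHom q hL
  let g' : Γ(L', ⊤) := (1 : Γ(Y.left, ⊤)) • Groth.Agent.H11Ample.pullTop q g
  have hgen : Groth.Agent.H11Ample.gen L' g' = q ⁻¹ᵁ Groth.Agent.H11Ample.gen L g :=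
    Groth.Agent.H11Ample.gen_smul_pullSect q hL.1 g isUnit_one
  have hc := Groth.Agent.H3CAlg.BigSection.isConnected_compl_gen (q ≫ f) hdimY hL' g'
  rw [hgen] at hc
  have hr := Groth.Agent.H22Alg.ESZInt.range_zeroScheme hL.1 s
  let ι := (PicF2.zeroScheme L s).subschemeι
  have hrange : Set.range (pullback.fst q ι).base = q.base ⁻¹' Set.range ι.base :=
    Scheme.Pullback.range_fst q ι
  have hr' : Set.range (pullback.fst q ι).base =
      ((q ⁻¹ᵁ Groth.Agent.H11Ample.gen L g : Y.left.Opens) : Set Y.left)ᶜ := by
    rw [hrange]
    exact congrArg (fun t : Set X => q.base ⁻¹' t) hr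
  rw [← hr'] at hc
  show ConnectedSpace ↥(pullback q ι)
  have hp : PreconnectedSpace ↥(pullback q ι) := ⟨by
    refine (pullback.fst q ι).isClosedEmbedding.isInducing.isPreconnected_image.1 ?_
    rw [Set.image_univ]
    exact hc.2⟩
  obtain ⟨_, y, -⟩ := hc.1
  exact { toPreconnectedSpace := hp, toNonempty := ⟨y⟩ }

end Groth.Agent.S15551
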