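import Groth.Statements.S15554
import Groth.Agent.H28Bertini.Proj

set_option autoImplicit false
universe u
open CategoryTheory CategoryTheory.Limits AlgebraicGeometry
open Groth.Agent
open SmVar

namespace Groth.Agent.S15554

/-- Let k be an infinite field and X ⊆ P^n_k a smooth projective variety, given as an integral scheme X
with a closed immersion ι into projective n-space over k through which X is smooth over k. Then X
has a smooth hyperplane section defined over k: there is a global section s of the twisting sheaf
O(1) on P^n_k whose zero scheme H, a hyperplane defined over k, does not contain X and for which the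
scheme-theoretic intersection X ∩ H = X ×_{P^n_k} H is smooth over k. (The published statement also
records that X ∩ H has dimension dim X − 1; that is automatic once X is integral and not contained
in H, so this row states smoothness together with X ⊄ H.) -/
theorem result (k : Type u) [Field k] [Infinite k] (n : ℕ)
    (X : Scheme.{u}) [IsIntegral X] (ι : X ⟶ CohB1.ProjSpace n k) [IsClosedImmersion ι]
    [Smooth (ι ≫ CohB1.ProjSpace.toSpec n k)] :
    ∃ s : Coh.structureModule (CohB1.ProjSpace n k) ⟶ Twist.twistProjSpace n k 1,
      (∃ x : ↥X, ι.base x ∉ (PicF2.zeroScheme (Twist.twistProjSpace n k 1) s).support) ∧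
      Smooth (pullback.fst ι (PicF2.zeroScheme (Twist.twistProjSpace n k 1) s).subschemeι ≫ ι ≫
        CohB1.ProjSpace.toSpec n k) := by
  obtain ⟨g, hg0, hg⟩ := H28Bertini.exists_poly_proj (k := k) ι
  obtain ⟨c, hc⟩ : ∃ c, MvPolynomial.eval c g ≠ 0 := by
    by_contra h
    push Not at h
    exact hg0 (MvPolynomial.funext fun a => by simpa using h a)
  obtain ⟨hne, hI, hsm⟩ := hg c hc
  let Z := PicF2.zeroScheme (Twist.twistProjSpace n k 1) (H28Bertini.formHom c)
  refine ⟨H28Bertini.formHom c, ?_, ?_⟩
  · obtain ⟨i, hi⟩ := H11Proj.SepPts.exists_chart (ι (genericPoint X))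
    have h0 := hne i ⟨genericPoint X, hi⟩
    have hb : X.basicOpen (H28Bertini.linX ι i c) ≠ ⊥ := fun hb => h0 ((AlgebraicGeometry.basicOpen_eq_bot_iff _).1 hb)
    obtain ⟨x, hx⟩ : ((X.basicOpen (H28Bertini.linX ι i c)) : Set X).Nonempty :=
      Set.nonempty_iff_ne_empty.2 fun he => hb (SetLike.coe_injective he)
    refine ⟨x, fun hs => ?_⟩
    have h1 : x ∈ (Z.comap ι).support := by
      rw [← SetLike.mem_coe, Scheme.IdealSheafData.support_comap]
      exact hs
    rw [Scheme.IdealSheafData.mem_support_iff_of_mem (U := ⟨_, H28Bertini.isAffineOpen_preimage_U ι i⟩)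
      (X.basicOpen_le _ hx), Scheme.mem_zeroLocus_iff] at h1
    refine h1 (H28Bertini.linX ι i c) ?_ hx
    rw [SetLike.mem_coe, hI i]
    exact Ideal.mem_span_singleton_self _
  · rw [← Scheme.IdealSheafData.comapIso_inv_subschemeι Z ι, Category.assoc]
    haveI := hsm
    exact inferInstance

end Groth.Agent.S15554
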