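import Groth.Statements.S15556
import Groth.Agent.H22Alg.FiniteDegree
import Groth.Agent.H3Cyc.PushRat
import Groth.Agent.H3Cyc.RatRel
import Groth.Prelude.Def_Bivar
import Mathlib
-- import your own Groth.Agent.* helpers here

set_option autoImplicit false
universe u
open CategoryTheory AlgebraicGeometry
open CategoryTheory.Limits
set_option linter.style.haveILetI false
set_option backward.isDefEq.respectTransparency.types false
open Cyc
open Groth.Agent

namespace Groth.Agent.S15556

/-- Let k be a field of characteristic p > 0, E a finite purely inseparable field extension of k, X a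
separated scheme of finite type over k, X' = X ×_k E with projection f : X' → X (any pullback
square), δ a dimension function on X making (X, δ) a cycle setup (X locally Noetherian with
universally catenary local rings) and δ' the induced dimension function on X' (so (X', δ') is a
cycle setup and δ' is compatible with δ along f, which has relative dimension 0). Then flat pullback
of cycles along f induces a bijection of Chow groups of i-cycles after inverting p, in the following
two-sided sense: for every i-cycle β on X' there are an i-cycle α on X, an i-cycle α' on X' with the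
flat-pullback coefficients of α, and an exponent s with [α'] = p^s · [β] in CH_i(X'); and for every
i-cycle α on X and every i-cycle α' on X' with the flat-pullback coefficients of α, if [α'] = 0 in
CH_i(X') then p^s · [α] = 0 in CH_i(X) for some s. (The published statement allows an arbitrary
purely inseparable extension E of k; this row takes E finite over k, the case the printed argument
carries out.) -/
theorem result (k E : Type u) [Field k] [Field E] [Algebra k E] (p : ℕ) [Fact p.Prime] [CharP k p] [Module.Finite k E] [IsPurelyInseparable k E] (X X' : Scheme.{u}) (g : X ⟶ Spec (CommRingCat.of k)) [IsSeparated g] [LocallyOfFiniteType g] [QuasiCompact g] (f : X' ⟶ X) (g' : X' ⟶ Spec (CommRingCat.of E)) (hsq : IsPullback f g' g (Spec.map (CommRingCat.ofHom (algebraMap k E)))) (δ : X → ℤ) (δ' : X' → ℤ) (hX : Cyc.IsSetup X δ) (hX' : Cyc.IsSetup X' δ') (hδ : Cyc.DeltaCompat f δ' δ) (i : ℤ) : (∀ (β : AlgebraicCycle X' ℤ) (hβ : β ∈ Cyc.Zk X' δ' i), ∃ (α : AlgebraicCycle X ℤ) (hα : α ∈ Cyc.Zk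 X δ i) (α' : AlgebraicCycle X' ℤ) (hα' : α' ∈ Cyc.Zk X' δ' i) (s : ℕ), ⇑α' = Cyc.pullFun f δ' δ 0 ⇑α ∧ ChowOps.cl α' hα' = p ^ s • ChowOps.cl β hβ) ∧ (∀ (α : AlgebraicCycle X ℤ) (hα : α ∈ Cyc.Zk X δ i) (α' : AlgebraicCycle X' ℤ) (hα' : α' ∈ Cyc.Zk X' δ' i), ⇑α' = Cyc.pullFun f δ' δ 0 ⇑α → ChowOps.cl α' hα' = 0 → ∃ s : ℕ, p ^ s • ChowOps.cl α hα = 0) := by
  classical
haveI := hX.1
haveI := hX'.1
let j : Spec (CommRingCat.of E) ⟶ Spec (CommRingCat.of k) := Spec.map (CommRingCat.ofHom (algebraMap k E))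
haveI : IsFinite j := (IsFinite.SpecMap_iff _).mpr (RingHom.finite_algebraMap.mpr inferInstance)
haveI : Flat j := Flat.SpecMap_iff.mpr (RingHom.flat_algebraMap_iff.mpr inferInstance)
haveI : UniversallyInjective j := by
  refine ((tfae_universallyInjective j).out 0 1).mpr ?_
  intro K hK g₁ g₂ hg
  obtain ⟨φ₁, rfl⟩ := Spec.map_surjective g₁
  obtain ⟨φ₂, rfl⟩ := Spec.map_surjective g₂
  have h2 : Spec.map (CommRingCat.ofHom (algebraMap k E) ≫ φ₁) = Spec.map (CommRingCat.ofHom (algebraMap k E) ≫ φ₂) := by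
    rw [Spec.map_comp, Spec.map_comp]; exact hg
  have h3 := Spec.map_injective h2
  rw [show φ₁ = φ₂ from CommRingCat.hom_ext (IsPurelyInseparable.injective_comp_algebraMap k E K
    (by simpa [CommRingCat.hom_ext_iff] using h3))]
haveI : Surjective j := ⟨fun y => ⟨IsLocalRing.closedPoint E, Subsingleton.elim (α := PrimeSpectrum k) _ _⟩⟩
haveI : Surjective f := MorphismProperty.of_isPullback hsq.flip ‹_›
haveI : IsFinite f := MorphismProperty.of_isPullback hsq.flip ‹_›
haveI : Flat f := MorphismProperty.of_isPullback hsq.flip ‹_›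
haveI : UniversallyInjective f := MorphismProperty.of_isPullback hsq.flip ‹_›
obtain ⟨e, he⟩ : ∃ e, Module.finrank k E = p ^ e := IsPurelyInseparable.finrank_eq_pow k E p
have hrank : ∀ y, f.finrank y = p ^ e := fun y => by
  rw [Scheme.Hom.finrank_of_isPullback g' f j g hsq.flip y, show (Spec.map (CommRingCat.ofHom (algebraMap k E))).finrank (g y) = _ from Scheme.Hom.finrank_SpecMap_algebraMap k E _,
    Module.rankAtStalk_eq_finrank_of_free]
  show ((Module.finrank k E : ℕ)) = p ^ e; exact he
have hδx : ∀ x, δ' x = δ (f x) := fun x => by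
  obtain ⟨n, hn, hn'⟩ := hδ x
  letI := (f.residueFieldMap x).hom.toAlgebra
  haveI : Module.Finite (X.residueField (f x)) (X'.residueField x) :=
    Groth.Agent.H17.finite_residueFieldMap f x (by
      haveI : IsFinite (f.fiberToSpecResidueField (f x)) := MorphismProperty.pullback_snd _ _ inferInstance
      exact isClosed_discrete _)
  have h0 : Algebra.trdeg (X.residueField (f x)) (X'.residueField x) = 0 := trdeg_eq_zero
  have : n = 0 := by exact_mod_cast (hn.symm.trans h0)
  omega
have hfib : ∀ x, f ⁻¹' {f x} = {x} := fun x => Set.ext fun z =>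
  ⟨fun h => f.injective h, fun h => by rw [Set.mem_singleton_iff.mp h]; rfl⟩
have hmul : ∀ x, H22Alg.FiniteDegree.mult f x * f.residueDegree x = p ^ e := fun x => by
  have h := H22Alg.FiniteDegree.finsum_fibre_eq_finrank f (f x)
  rw [hrank (f x), hfib x, finsum_mem_singleton] at h
  exact h
have hpull : ∀ (α : X → ℤ) (x : X'), Cyc.pullFun f δ' δ 0 α x = α (f x) * (H22Alg.FiniteDegree.mult f x : ℤ) :=
  fun α x => by rw [Cyc.pullFun, if_pos (by rw [hδx x, add_zero])]; rfl
have hmap : ∀ (β : AlgebraicCycle X' ℤ) (x : X'),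
    AlgebraicCycle.map f δ' δ β (f x) = β x * (f.residueDegree x : ℤ) := fun β x => by
  simp only [AlgebraicCycle.map, Function.locallyFinsupp.map_apply]
  rw [hfib x, finsum_mem_singleton, AlgebraicCycle.mapCoeff, if_pos (hδx x)]
have hsm : ∀ (s : ℕ) (Y : Scheme.{u}) (d : Y → ℤ) (γ : AlgebraicCycle Y ℤ) (h : γ ∈ Cyc.Zk Y d i)
    (h' : s • γ ∈ Cyc.Zk Y d i), ChowOps.cl (s • γ) h' = s • ChowOps.cl γ h := fun s Y d γ h h' => by
  show ChowOps.clHom Y d i ⟨_, h'⟩ = s • ChowOps.clHom Y d i ⟨γ, h⟩
  rw [← map_nsmul]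
  rfl
refine ⟨fun β hβ => ?_, fun α hα α' hα' hp h0 => ⟨e, ?_⟩⟩
· have h1 : AlgebraicCycle.map f δ' δ β ∈ Cyc.Zk X δ i := Bivar.cycMap_mem_Zk f δ' δ i hβ
  have h2 : p ^ e • β ∈ Cyc.Zk X' δ' i := (ChowOps.zk X' δ' i).nsmul_mem hβ _
  refine ⟨_, h1, p ^ e • β, h2, e, funext fun x => ?_, hsm _ _ _ _ hβ h2⟩
  rw [hpull, hmap β x, mul_assoc, ← Nat.cast_mul, mul_comm (f.residueDegree x), hmul x,
    Function.locallyFinsuppWithin.coe_nsmul, Pi.smul_apply, nsmul_eq_mul, mul_comm]
· have hr : Cyc.RatEquiv δ' i α' 0 := by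
    show Cyc.RatEquivZero δ' i (α' - 0)
    rw [sub_zero]
    have := (QuotientAddGroup.eq_zero_iff (⟨α', hα'⟩ : ChowOps.zk X' δ' i)).mp h0
    refine AddSubgroup.closure_induction (p := fun (a : ChowOps.zk X' δ' i) _ => Cyc.RatEquivZero δ' i (a : AlgebraicCycle X' ℤ))
      (fun a ha => ha) H3Cyc.RatRel.zero (fun a b _ _ => H3Cyc.RatRel.add) (fun a _ => H3Cyc.RatRel.neg) this
  have hm := H3Cyc.PushRat.ratEquiv_map f hX' hX hδ i α' 0 hr
  have hz : AlgebraicCycle.map f δ' δ α' = p ^ e • α := by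
    ext y
    obtain ⟨x, rfl⟩ := f.surjective y
    rw [hmap α' x, show α' x = Cyc.pullFun f δ' δ 0 α x from congrFun hp x, hpull, mul_assoc,
      ← Nat.cast_mul, hmul x, Function.locallyFinsuppWithin.coe_nsmul, Pi.smul_apply, nsmul_eq_mul, mul_comm]
  have hz0 : AlgebraicCycle.map f δ' δ (0 : AlgebraicCycle X' ℤ) = 0 := by
    ext y
    simp [AlgebraicCycle.map, Function.locallyFinsupp.map_apply]
  rw [hz, hz0] at hm
  have h2 : p ^ e • α ∈ Cyc.Zk X δ i := (ChowOps.zk X δ i).nsmul_mem hα _
  rw [← hsm _ _ _ _ hα h2]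
  refine (QuotientAddGroup.eq_zero_iff _).mpr (AddSubgroup.subset_closure ?_)
  show Cyc.RatEquivZero δ i (p ^ e • α)
  simpa [Cyc.RatEquiv] using hm

end Groth.Agent.S15556
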