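import Groth.Statements.S15558
import Groth.Agent.H7Lim.CofiniteCover
-- import your own Groth.Agent.* helpers here

set_option autoImplicit false
universe u v
open CategoryTheory AlgebraicGeometry
open Lim

namespace Groth.Agent.S15558

/-- Let Λ be a cofinite partially ordered set (every element has finitely many elements below it; Λ need
not be directed) and X : Λᵒᵖ ⥤ Scheme an inverse system of quasi-compact quasi-separated schemes.
Then there exist an inverse system Y : Λᵒᵖ ⥤ Scheme of affine schemes and a morphism of inverse
systems π : Y ⟶ X such that each π_λ : Y_λ → X_λ is a Zariski covering: it is surjective and Y_λ is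
covered by pairwise disjoint open subschemes each of which maps to X_λ by an open immersion. (The
published statement is for schemes over a fixed perfect field; the base field plays no role, and the
version for schemes over a base follows by composing with the structure morphisms.) -/
theorem result {Λ : Type v} [PartialOrder Λ]
    (hΛ : ∀ l : Λ, (Set.Iic l).Finite) (X : Λᵒᵖ ⥤ Scheme.{u})
    (hqc : ∀ l : Λ, CompactSpace ↥(X.obj (Opposite.op l)))
    (hqs : ∀ l : Λ, QuasiSeparatedSpace ↥(X.obj (Opposite.op l))) :
    ∃ (Y : Λᵒᵖ ⥤ Scheme.{u}) (π : Y ⟶ X), ∀ l : Λ,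
      IsAffine (Y.obj (Opposite.op l)) ∧ Surjective (π.app (Opposite.op l)) ∧
        ∃ (ι : Type u) (U : ι → (Y.obj (Opposite.op l)).Opens),
          Pairwise (fun i j => Disjoint (U i) (U j)) ∧ iSup U = ⊤ ∧
            ∀ i, IsOpenImmersion ((U i).ι ≫ π.app (Opposite.op l)) := by
  haveI := hqc
  haveI := hqs
  exact H7Lim.CofiniteCover.exists_covering hΛ X

end Groth.Agent.S15558
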