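import Groth.Statements.S15559
import Groth.Agent.H27Perf.Tower
import Groth.Agent.H7Lim.FPDescent.Exists
import Groth.Agent.H7Lim.DescendFlat

set_option autoImplicit false
set_option linter.style.haveILetI false
set_option backward.isDefEq.respectTransparency false
universe u
open CategoryTheory AlgebraicGeometry
open FrobSch

open Groth.Agent.H27Perf FrobSch CategoryTheory CategoryTheory.Limits AlgebraicGeometry

namespace Groth.Agent.S15559

/-- Call a morphism V → U of quasi-compact quasi-separated perfect schemes of characteristic p flat of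
finite presentation in the perfect sense when it factors as V → V₀ → U with V → V₀ a perfection map
(V perfect and universal for morphisms from perfect schemes of characteristic p into V₀) and V₀ → U
flat, locally of finite presentation, quasi-compact and quasi-separated; faithfully flat of finite
presentation when moreover V₀ → U is surjective. If Z → Y and Y → X are flat of finite presentation
in the perfect sense, so is the composite Z → X, and it is faithfully flat of finite presentation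
when both are. Here the data are given as Y₀ → X with perfection map Y → Y₀ and Z₀ → Y with
perfection map Z → Z₀, and the conclusion produces W₀ → X with a perfection map Z → W₀ over X. (The
published proposition is stated for pro-objects of perfections of schemes of finite type over a
perfect field and also for morphisms flat of profinite presentation; this row is its case of
schemes, which its proof treats first, with the base field replaced by characteristic p.) -/
theorem result (p : ℕ) [Fact p.Prime]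
    {X Y Z Y₀ Z₀ : Scheme.{u}} [FrobSch.IsCharP X p] [FrobSch.IsCharP Y p] [FrobSch.IsCharP Z p]
    [FrobSch.IsCharP Y₀ p] [FrobSch.IsCharP Z₀ p]
    [CompactSpace ↥X] [QuasiSeparatedSpace ↥X] [CompactSpace ↥Y] [QuasiSeparatedSpace ↥Y]
    [CompactSpace ↥Z] [QuasiSeparatedSpace ↥Z] (hX : FrobSch.IsPerfect X p)
    (g₀ : Y₀ ⟶ X) [Flat g₀] [LocallyOfFinitePresentation g₀] [QuasiCompact g₀] [QuasiSeparated g₀]
    (πY : Y ⟶ Y₀) (hY : FrobSch.IsPerfection πY p)
    (f₀ : Z₀ ⟶ Y) [Flat f₀] [LocallyOfFinitePresentation f₀] [QuasiCompact f₀] [QuasiSeparated f₀]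
    (πZ : Z ⟶ Z₀) (hZ : FrobSch.IsPerfection πZ p) :
    ∃ (W₀ : Scheme.{u}) (h₀ : W₀ ⟶ X) (ϖ : Z ⟶ W₀),
      Flat h₀ ∧ LocallyOfFinitePresentation h₀ ∧ QuasiCompact h₀ ∧ QuasiSeparated h₀ ∧
        FrobSch.IsPerfection ϖ p ∧ ϖ ≫ h₀ = πZ ≫ f₀ ≫ πY ≫ g₀ ∧
          (Surjective g₀ → Surjective f₀ → Surjective h₀) := by
  haveI : CompactSpace Y₀ := QuasiCompact.compactSpace_of_compactSpace g₀
  haveI : QuasiSeparatedSpace Y₀ := quasiSeparatedSpace_of_quasiSeparated g₀
  haveI hprime : Fact p.Prime := inferInstance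
  have hfr : ∀ (A B : Scheme.{u}) [FrobSch.IsCharP A p] [FrobSch.IsCharP B p] (x : A ⟶ B) (n : ℕ),
      Tower.fr p A n ≫ x = x ≫ Tower.fr p B n := by
    intro A B _ _ x n
    induction n with
    | zero => exact (Category.id_comp x).trans (Category.comp_id x).symm
    | succ n ih =>
      show (Tower.fr p A n ≫ FrobSch.frob A p) ≫ x = x ≫ Tower.fr p B n ≫ FrobSch.frob B p
      rw [Category.assoc, FrobSch.frob_comp, ← Category.assoc, ih, Category.assoc]
  have hiso : ∀ (A : Scheme.{u}) [FrobSch.IsCharP A p], FrobSch.IsPerfect A p → ∀ n : ℕ, IsIso (Tower.fr p A n) := by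
    intro A _ hA n
    haveI : IsIso (FrobSch.frob A p) := hA
    induction n with
    | zero => exact inferInstanceAs (IsIso (𝟙 A))
    | succ n ih => exact inferInstanceAs (IsIso (Tower.fr p A n ≫ FrobSch.frob A p))
  obtain ⟨c, hc, e, he⟩ := Tower.exists_limit hY
  haveI : ∀ i, CompactSpace ((Tower.diag p Y₀).obj i) := fun _ => ‹CompactSpace Y₀›
  haveI : ∀ i, QuasiSeparatedSpace ((Tower.diag p Y₀).obj i) := fun _ => ‹QuasiSeparatedSpace Y₀›
  obtain ⟨i, ⟨M⟩⟩ := H7Lim.FPDescent.exists_model hc (f₀ ≫ e.hom)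
  haveI : CompactSpace M.P := M.compactSpace
  haveI : QuasiSeparatedSpace M.P := M.quasiSeparatedSpace
  obtain ⟨j, φ, hj⟩ := H7Lim.exists_descend hc (P := @Flat) (Q := @LocallyOfFinitePresentation)
    H7Lim.descendsAffine_flat i M.p M.lfp (by
      rw [← M.hpb.isoPullback_inv_snd]; infer_instance)
  let M' := M.shift φ
  let n := Tower.lvl j
  haveI : Flat M'.p := hj
  haveI : IsCharP (M'.P) p := @IsCharP.of_hom M'.P Y₀ M'.p p inferInstance
  haveI : IsIso (Tower.fr p X n) := hiso X hX n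
  have hpr : e.hom ≫ c.π.app j ≫ Tower.fr p Y₀ n = πY := by
    rw [he, ← Tower.cone_fr c n]; rfl
  let q : M'.P ⟶ Y₀ := M'.p
  have hcan : ∀ (T : Scheme.{u}) [FrobSch.IsCharP T p], FrobSch.IsPerfect T p → ∀ (a a' : T ⟶ Y₀),
      a ≫ Tower.fr p Y₀ n = a' ≫ Tower.fr p Y₀ n → a = a' := by
    intro T _ hT a a' h
    haveI := hiso T hT n
    rw [← hfr, ← hfr] at h
    exact (cancel_epi (Tower.fr p T n)).mp h
  refine ⟨M'.P, q ≫ g₀ ≫ Tower.fr p X n, πZ ≫ M'.g, inferInstanceAs (Flat (M'.p ≫ g₀ ≫ Tower.fr p X n)),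
    inferInstanceAs (LocallyOfFinitePresentation (M'.p ≫ g₀ ≫ Tower.fr p X n)),
    inferInstanceAs (QuasiCompact (M'.p ≫ g₀ ≫ Tower.fr p X n)),
    inferInstanceAs (QuasiSeparated (M'.p ≫ g₀ ≫ Tower.fr p X n)), ⟨hZ.1, fun T _ hT => ⟨?_, ?_⟩⟩, ?_, ?_⟩
  · intro z₁ z₂ h
    simp only [← Category.assoc] at h
    refine (hZ.2 T hT).1 ?_
    have hb : (z₁ ≫ πZ) ≫ f₀ = (z₂ ≫ πZ) ≫ f₀ := by
      refine (hY.2 T hT).1 ?_
      show ((z₁ ≫ πZ) ≫ f₀) ≫ πY = ((z₂ ≫ πZ) ≫ f₀) ≫ πY
      rw [← hpr]
      have hw : M'.g ≫ M'.p = (f₀ ≫ e.hom) ≫ c.π.app j := M'.hpb.w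
      simp only [Category.assoc] at h hw ⊢
      rw [← reassoc_of% hw, reassoc_of% h]
    refine M'.hpb.hom_ext h ?_
    show (z₁ ≫ πZ) ≫ f₀ ≫ e.hom = (z₂ ≫ πZ) ≫ f₀ ≫ e.hom
    rw [← Category.assoc, hb, Category.assoc]
  · intro m
    obtain ⟨b, hb⟩ := (hY.2 T hT).2 ((m ≫ q) ≫ Tower.fr p Y₀ n)
    have hm : m ≫ M'.p = (b ≫ e.hom) ≫ c.π.app j := by
      refine hcan T hT (m ≫ q) ((b ≫ e.hom) ≫ c.π.app j) ?_
      refine hb.symm.trans ?_
      show b ≫ πY = _
      rw [← hpr]
      simp only [Category.assoc]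
    obtain ⟨z, hz⟩ := (hZ.2 T hT).2 (M'.hpb.lift m (b ≫ e.hom) hm)
    refine ⟨z, ?_⟩
    show z ≫ πZ ≫ M'.g = m
    rw [reassoc_of% (show z ≫ πZ = _ from hz), M'.hpb.lift_fst]
  · have hw : M'.g ≫ M'.p = (f₀ ≫ e.hom) ≫ c.π.app j := M'.hpb.w
    rw [← hpr]
    simp only [Category.assoc]
    rw [← hfr Y₀ X g₀ n, reassoc_of% hw]
  · intro hg₀ hf₀
    haveI : Surjective (pullback.snd M'.p (c.π.app j)) := by
      rw [← M'.hpb.isoPullback_inv_snd]; infer_instance
    haveI : Surjective πY := ⟨fun y => by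
      haveI : CharP (Y₀.residueField y) p := by
        refine (CharP.charP_iff_prime_eq_zero Fact.out).2 ?_
        have h := congrArg (fun s => (Y₀.residue y).hom ((Y₀.presheaf.germ ⊤ y trivial).hom s))
          (FrobSch.natCast_eq_zero_app Y₀ p ⊤)
        simpa using h
      let K := AlgebraicClosure (Y₀.residueField y)
      haveI : CharP K p := charP_of_injective_ringHom (algebraMap (Y₀.residueField y) K).injective p
      haveI : ExpChar K p := ExpChar.prime Fact.out
      haveI : IsCharP (Spec (CommRingCat.of K)) p := inferInstance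
      have hK : FrobSch.IsPerfect (Spec (CommRingCat.of K)) p :=
        H27Perf.isPerfect_Spec ⟨CharP.cast_eq_zero K p, (PerfectRing.bijective_frobenius (R := K) (p := p))⟩
      obtain ⟨l, hl⟩ := (hY.2 _ hK).2
        (Spec.map (CommRingCat.ofHom (algebraMap (Y₀.residueField y) K)) ≫ Y₀.fromSpecResidueField y)
      refine ⟨l (IsLocalRing.closedPoint K), ?_⟩
      rw [← Scheme.Hom.comp_apply, show l ≫ πY = _ from hl, Scheme.Hom.comp_apply]
      exact Scheme.fromSpecResidueField_apply _ _⟩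
    haveI : Surjective q := ⟨fun y₀ => by
      obtain ⟨y, hy⟩ := (inferInstance : Surjective πY).surj (Tower.fr p Y₀ n y₀)
      have hfr0 : ∀ (k : ℕ) (w : Y₀), Tower.fr p Y₀ k w = w := by
        intro k w
        induction k with
        | zero => rfl
        | succ k ih =>
          show (Tower.fr p Y₀ k ≫ FrobSch.frob Y₀ p) w = w
          rw [Scheme.Hom.comp_apply, FrobSch.frob_apply, ih]
      obtain ⟨z, hz⟩ := (inferInstance : Surjective (pullback.snd M'.p (c.π.app j))).surj (e.hom y)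
      refine ⟨pullback.fst M'.p (c.π.app j) z, ?_⟩
      show M'.p (pullback.fst M'.p (c.π.app j) z) = y₀
      rw [← Scheme.Hom.comp_apply, pullback.condition, Scheme.Hom.comp_apply, hz]
      have h2 : (e.hom ≫ c.π.app j ≫ Tower.fr p Y₀ n) y = y₀ := by
        rw [hpr, hy, hfr0]
      exact (hfr0 n _).symm.trans h2⟩
    infer_instance

end Groth.Agent.S15559
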