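import Groth.Statements.S15568
import Mathlib

set_option autoImplicit false
universe u
open QuiverStab

namespace Groth.Agent.S15568

/-- Walls and chambers for stability weights of a quiver. Let I be the finite vertex set, d ∈ ℕ^I a
dimension vector, and call two weights θ₁, θ₂ ∈ ℝ^I orthogonal to d numerically equivalent when, for
every d′ ≤ d in ℕ^I, the numbers θ₁·d′ and θ₂·d′ are both positive, both negative or both zero. The
walls are the hyperplanes W(d′) = {θ ⊥ d : θ·d′ = 0} of d^⊥ for d′ ≤ d such that d is not a multiple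
of d′. Then θ₁ and θ₂ are numerically equivalent if and only if there is a set J₁ of such d′ for
which θ₁ and θ₂ lie in the same connected component of the locally closed subset of d^⊥ consisting
of the weights lying on W(d₁) for every d₁ ∈ J₁ and off W(d₂) for every other wall W(d₂). (Only the
quiver's vertex set enters; multiples are taken with natural-number factors.) -/
theorem result
    (I : Type u) [Fintype I] (d : I → ℕ) (θ₁ θ₂ : I → ℝ)
    (h₁ : ∑ i, θ₁ i * (d i : ℝ) = 0) (h₂ : ∑ i, θ₂ i * (d i : ℝ) = 0) :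
    (∀ d' : I → ℕ, d' ≤ d →
        SignType.sign (∑ i, θ₁ i * (d' i : ℝ)) = SignType.sign (∑ i, θ₂ i * (d' i : ℝ))) ↔
    ∃ J₁ : Set (I → ℕ), J₁ ⊆ {d' | d' ≤ d ∧ ¬ ∃ m : ℕ, d = m • d'} ∧
      θ₂ ∈ connectedComponentIn
        {θ : I → ℝ | ∑ i, θ i * (d i : ℝ) = 0 ∧ (∀ d₁ ∈ J₁, ∑ i, θ i * (d₁ i : ℝ) = 0) ∧
          ∀ d₂ : I → ℕ, d₂ ≤ d → (¬ ∃ m : ℕ, d = m • d₂) → d₂ ∉ J₁ →
            ∑ i, θ i * (d₂ i : ℝ) ≠ 0} θ₁ := by
  classical
  let L : (I → ℕ) → (I → ℝ) → ℝ := fun e θ => ∑ i, θ i * (e i : ℝ)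
  have hLc : ∀ e, Continuous (L e) := fun e =>
    continuous_finsetSum _ fun i _ => (continuous_apply i).mul continuous_const
  constructor
  · intro hs
    refine ⟨{e | e ≤ d ∧ (¬ ∃ m : ℕ, d = m • e) ∧ L e θ₁ = 0}, fun e he => ⟨he.1, he.2.1⟩, ?_⟩
    let f : ℝ → (I → ℝ) := fun t => (1 - t) • θ₁ + t • θ₂
    have hf : Continuous f := by fun_prop
    have hL : ∀ e t, L e (f t) = (1 - t) * L e θ₁ + t * L e θ₂ := fun e t => by
      simp [L, f, add_mul, Finset.sum_add_distrib, Finset.mul_sum, mul_assoc]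
    have hpre : IsPreconnected (f '' Set.Icc (0 : ℝ) 1) := isPreconnected_Icc.image f hf.continuousOn
    refine hpre.subset_connectedComponentIn ⟨0, by simp, by simp [f]⟩ ?_ ⟨1, by simp, by simp [f]⟩
    rintro _ ⟨t, ⟨ht0, ht1⟩, rfl⟩
    refine ⟨?_, ?_, ?_⟩
    · show L d (f t) = 0
      rw [hL, show L d θ₁ = 0 from h₁, show L d θ₂ = 0 from h₂]; ring
    · rintro e ⟨hed, -, he0⟩
      show L e (f t) = 0
      have h' := hs e hed
      change SignType.sign (L e θ₁) = SignType.sign (L e θ₂) at h'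
      rw [he0, sign_zero, eq_comm, sign_eq_zero_iff] at h'
      rw [hL, he0, h']; ring
    · intro e hed hm he
      show L e (f t) ≠ 0
      have hne : L e θ₁ ≠ 0 := fun h => he ⟨hed, hm, h⟩
      have h' := hs e hed
      change SignType.sign (L e θ₁) = SignType.sign (L e θ₂) at h'
      rw [hL]
      rcases lt_trichotomy (L e θ₁) 0 with hlt | hlt | hlt
      · rw [sign_neg hlt, eq_comm, sign_eq_neg_one_iff] at h'
        intro heq
        rcases eq_or_lt_of_le ht0 with rfl | htp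
        · simp at heq; exact hne heq
        · nlinarith [mul_nonneg (sub_nonneg.2 ht1) (neg_nonneg.2 hlt.le), mul_pos htp (neg_pos.2 h')]
      · exact absurd hlt hne
      · rw [sign_pos hlt, eq_comm, sign_eq_one_iff] at h'
        intro heq
        rcases eq_or_lt_of_le ht0 with rfl | htp
        · simp at heq; exact hne heq
        · nlinarith [mul_nonneg (sub_nonneg.2 ht1) hlt.le, mul_pos htp h']
  · rintro ⟨J₁, -, hmem⟩ e hed
    set S := {θ : I → ℝ | ∑ i, θ i * (d i : ℝ) = 0 ∧ (∀ d₁ ∈ J₁, ∑ i, θ i * (d₁ i : ℝ) = 0) ∧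
      ∀ d₂ : I → ℕ, d₂ ≤ d → (¬ ∃ m : ℕ, d = m • d₂) → d₂ ∉ J₁ →
        ∑ i, θ i * (d₂ i : ℝ) ≠ 0}
    have h1S : θ₁ ∈ S := connectedComponentIn_nonempty_iff.1 ⟨θ₂, hmem⟩
    have hsub := connectedComponentIn_subset S θ₁
    show SignType.sign (L e θ₁) = SignType.sign (L e θ₂)
    by_cases hJ : e ∈ J₁
    · rw [show L e θ₁ = 0 from h1S.2.1 e hJ, show L e θ₂ = 0 from (hsub hmem).2.1 e hJ]
    by_cases hm : ∃ m : ℕ, d = m • e
    · obtain ⟨m, hm⟩ := hm
      have hz : ∀ θ : I → ℝ, ∑ i, θ i * (d i : ℝ) = 0 → L e θ = 0 := by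
        intro θ hθ
        rcases Nat.eq_zero_or_pos m with rfl | hmp
        · have : e = 0 := le_antisymm (hed.trans (by simp [hm])) zero_le
          simp [L, this]
        · have hd : ∀ i, (d i : ℝ) = (m : ℝ) * e i := fun i => by rw [hm]; simp
          simp only [hd, mul_left_comm _ (m : ℝ), ← Finset.mul_sum] at hθ
          exact (mul_eq_zero.1 hθ).resolve_left (by positivity)
      rw [hz _ h1S.1, hz _ (hsub hmem).1]
    · have hne : ∀ θ ∈ connectedComponentIn S θ₁, L e θ ≠ 0 := fun θ hθ => (hsub hθ).2.2 e hed hm hJ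
      have hpre : IsPreconnected (L e '' connectedComponentIn S θ₁) :=
        isPreconnected_connectedComponentIn.image _ (hLc e).continuousOn
      have m1 : L e θ₁ ∈ L e '' connectedComponentIn S θ₁ := ⟨θ₁, mem_connectedComponentIn h1S, rfl⟩
      have m2 : L e θ₂ ∈ L e '' connectedComponentIn S θ₁ := ⟨θ₂, hmem, rfl⟩
      have h0 : (0 : ℝ) ∉ L e '' connectedComponentIn S θ₁ := fun ⟨θ, hθ, he⟩ => hne θ hθ he
      have hi := hpre.ordConnected
      rcases lt_trichotomy (L e θ₁) 0 with a | a | a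
      · rcases lt_trichotomy (L e θ₂) 0 with b | b | b
        · rw [sign_neg a, sign_neg b]
        · exact absurd b (hne _ hmem)
        · exact absurd (hi.out m1 m2 ⟨a.le, b.le⟩) h0
      · exact absurd a (hne _ (mem_connectedComponentIn h1S))
      · rcases lt_trichotomy (L e θ₂) 0 with b | b | b
        · exact absurd (hi.out m2 m1 ⟨b.le, a.le⟩) h0
        · exact absurd b (hne _ hmem)
        · rw [sign_pos a, sign_pos b]

end Groth.Agent.S15568
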