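import Groth.Statements.S15580
import Groth.Agent.H23RInv.Loc

set_option autoImplicit false
universe u v
open RInv

namespace Groth.Agent.S15580

/-- Let `S` be a local ring, `R` a quadratic etale `S`-algebra and `lam` an involution of `R` with fixed
ring `S`. Then every unit `r` of `R` with `lam r * r = 1` can be written `a⁻¹ * lam a` for a unit
`a` of `R`. -/
theorem result (S : Type u) (R : Type v) [CommRing S] [CommRing R]
    [Algebra S R] (lam : R ≃+* R) (hlam : Function.Involutive lam) (hS : RInv.IsFixedRing S R lam)
    [IsLocalRing S] (hq : RInv.IsQuadEtale S R) (r : Rˣ) (hr : lam r * r = 1) :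
    ∃ a : Rˣ, (r : R) = (a⁻¹ : Rˣ) * lam a := by
  exact Groth.Agent.H23RInv.exists_units_eq hlam hS hq r hr

end Groth.Agent.S15580
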