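import Groth.Statements.S15582
import Mathlib

open CategoryTheory CategoryTheory.Limits Opposite TopologicalSpace TopCat MonoidalCategory

set_option linter.style.haveILetI false
open CategoryTheory CategoryTheory.Limits Opposite Simplicial

set_option autoImplicit false
universe u
open CategoryTheory TopologicalSpace
open CohTop

namespace Groth.Agent.S15582

/-- Let `π : X → Y` be a continuous map such that every open set containing a fibre `π⁻¹(y)` contains
the preimage of an open neighbourhood of `y`, and such that every fibre is finite with its points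
separated by pairwise disjoint open sets of `X`. Then the direct image of sheaves of sets along `π`
preserves epimorphisms. -/
theorem result
    {X Y : TopCat.{u}} (π : X ⟶ Y)
    (h1 : ∀ (y : Y) (U : Set X), IsOpen U → π ⁻¹' {y} ⊆ U →
      ∃ V : Set Y, IsOpen V ∧ y ∈ V ∧ π ⁻¹' V ⊆ U)
    (h2 : ∀ y : Y, (π ⁻¹' {y}).Finite ∧ ∃ U : X → Set X,
      (∀ x ∈ π ⁻¹' {y}, IsOpen (U x) ∧ x ∈ U x) ∧ (π ⁻¹' {y}).PairwiseDisjoint U) :
    (TopCat.Sheaf.pushforward (Type u) π).PreservesEpimorphisms := by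
  constructor
  intro P Q φ hφ
  rw [← TopCat.Sheaf.isLocallySurjective_iff_epi, TopCat.Presheaf.isLocallySurjective_iff]
  have hls := (TopCat.Presheaf.isLocallySurjective_iff _).1
    ((TopCat.Sheaf.isLocallySurjective_iff_epi φ).2 hφ)
  intro V s y hy
  obtain ⟨-, U, hU, hdisj⟩ := h2 y
  let I := {x : X // x ∈ π ⁻¹' {y}}
  have hxV : ∀ x : I, x.1 ∈ (Opens.map π).obj V := fun x => by
    show π x.1 ∈ V
    rw [show π x.1 = y from x.2]; exact hy
  choose W hWV hW hxW using fun x : I => hls _ s x.1 (hxV x)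
  choose a ha using hW
  let W' : I → Opens X := fun x => W x ⊓ ⟨U x.1, (hU x.1 x.2).1⟩
  let sf : ∀ x : I, P.1.obj (op (W' x)) := fun x => P.1.map (homOfLE inf_le_left).op (a x)
  obtain ⟨V', hV'o, hyV', hV'⟩ := h1 y (iSup W' : Opens X) (iSup W').2 (fun x hx =>
    Opens.mem_iSup.2 ⟨⟨x, hx⟩, hxW ⟨x, hx⟩, (hU x hx).2⟩)
  obtain ⟨t, ht, -⟩ := TopCat.Sheaf.existsUnique_gluing P W' sf (by
    intro i j
    rcases eq_or_ne i j with rfl | hne
    · rfl
    have : W' i ⊓ W' j = ⊥ := by
      rw [eq_bot_iff]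
      rintro z ⟨⟨-, hzi⟩, -, hzj⟩
      exact absurd hzj (Set.disjoint_left.1 (hdisj i.2 j.2 (fun e => hne (Subtype.ext e))) hzi)
    exact TopCat.Sheaf.eq_of_locally_eq' P (fun e : PEmpty.{u+1} => e.elim) _ (fun e => e.elim)
      (this.le.trans bot_le) _ _ (fun e => e.elim))
  let V'' : Opens Y := ⟨V', hV'o⟩ ⊓ V
  have hle : (Opens.map π).obj V'' ≤ iSup W' := fun z hz => hV' hz.1
  refine ⟨V'', inf_le_right, ⟨P.1.map (homOfLE hle).op t, ?_⟩, hyV', hy⟩
  refine TopCat.Sheaf.eq_of_locally_eq' Q (fun x : I => W' x ⊓ (Opens.map π).obj V'') _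
    (fun x => homOfLE inf_le_right) ?_ _ _ (fun x => ?_)
  · intro z hz
    obtain ⟨x, hx⟩ := Opens.mem_iSup.1 (hle hz)
    exact Opens.mem_iSup.2 ⟨x, hx, hz⟩
  · change Q.1.map _ (φ.1.app _ (P.1.map _ t)) = Q.1.map _ (Q.1.map _ s)
    have l1 : W' x ⊓ (Opens.map π).obj V'' ≤ W x := inf_le_left.trans inf_le_left
    have e1 : P.1.map (homOfLE (inf_le_right : W' x ⊓ (Opens.map π).obj V'' ≤ _)).op (P.1.map (homOfLE hle).op t)
        = P.1.map (homOfLE l1).op (a x) := by
      have e := congrArg (P.1.map (homOfLE (inf_le_left : W' x ⊓ (Opens.map π).obj V'' ≤ W' x)).op) (ht x)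
      refine Eq.trans ?_ (e.trans ?_)
      · exact ((Functor.map_comp_apply P.1 _ _ t).symm.trans (Functor.map_comp_apply P.1 (Opens.leSupr W' x).op (homOfLE inf_le_left).op t))
      · exact (Functor.map_comp_apply P.1 _ _ (a x)).symm
    refine (NatTrans.naturality_apply φ.1 _ _).symm.trans ?_
    refine (congrArg (φ.1.app _) e1).trans ?_
    refine (NatTrans.naturality_apply φ.1 _ _).trans ?_
    refine (congrArg (Q.1.map _) (ha x)).trans ?_
    exact (Functor.map_comp_apply Q.1 _ _ s).symm.trans (Functor.map_comp_apply Q.1 ((Opens.map π).op.map (homOfLE (inf_le_right : V'' ≤ V)).op) (homOfLE inf_le_right).op s)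

end Groth.Agent.S15582
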