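import Groth.Statements.S15584
import Groth.Agent.H23RInv.Hermitian

set_option autoImplicit false
universe u v
open RInv

namespace Groth.Agent.S15584

/-- Let `A` be a commutative ring with an involution `lam` whose fixed ring `B` is local; assume `lam`
is the identity modulo the Jacobson radical of `A`, that `2` is invertible in `A`, and that `h` is
an invertible `n × n` matrix with `h = -(lam h)ᵀ`. Then `n` is even and there is an invertible `v`
such that `(lam v)ᵀ h v` is a block sum of `2 × 2` blocks on the index pairs `{2k, 2k+1}`, each
congruent to `[[0,1],[-1,0]]` modulo the Jacobson radical. (The published statement writes the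
congruence with the plain transpose `vᵀ h v`; its proof computes the Gram matrix of the hermitian
form `(x, y) ↦ (lam x)ᵀ h y` in a new basis, which is `(lam v)ᵀ h v`, and that is what is stated
here.) -/
theorem result (B : Type u) (A : Type v) [CommRing B] [CommRing A]
    [Algebra B A] (lam : A ≃+* A) (hlam : Function.Involutive lam) (hB : RInv.IsFixedRing B A lam)
    [IsLocalRing B] (n : ℕ) (hid : ∀ a : A, lam a - a ∈ Ring.jacobson A) (h2 : IsUnit (2 : A))
    (h : Matrix (Fin n) (Fin n) A) (hh : IsUnit h) (herm : -(h.map lam).transpose = h) :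
    Even n ∧ ∃ v : Matrix (Fin n) (Fin n) A, IsUnit v ∧
      ∀ i j : Fin n,
        (i.val / 2 ≠ j.val / 2 → ((v.map lam).transpose * h * v) i j = 0) ∧
        (i.val / 2 = j.val / 2 → (Even i.val ↔ Even j.val) →
          ((v.map lam).transpose * h * v) i j ∈ Ring.jacobson A) ∧
        (i.val / 2 = j.val / 2 → Even i.val → ¬ Even j.val →
          ((v.map lam).transpose * h * v) i j - 1 ∈ Ring.jacobson A) ∧
        (i.val / 2 = j.val / 2 → ¬ Even i.val → Even j.val →
          ((v.map lam).transpose * h * v) i j + 1 ∈ Ring.jacobson A) := by
  obtain ⟨he, h', ⟨v, hv, hd⟩, hstd⟩ := Groth.Agent.H23RInv.Herm.exists_std hlam hB hid h2 n h hh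
    (show (-1 : A) • (h.map lam).transpose = h by rw [neg_one_smul]; exact herm)
  exact ⟨he, v, hv, fun i j => hd.symm ▸ hstd i j⟩

end Groth.Agent.S15584
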