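import Groth.Statements.S15590
import Groth.Agent.S16707
import Mathlib.Algebra.Module.StablyFree.Basic
import Mathlib.Data.Int.ConditionallyCompleteOrder
import Mathlib.RingTheory.Etale.StandardEtale
import Mathlib.RingTheory.LaurentSeries
import Mathlib.RingTheory.TotallySplit

set_option autoImplicit false
universe u v
open CAlg

namespace Groth.Agent.S15590

/-- Let A → B be an injective homomorphism of commutative rings which makes B a finite flat A-module,
and suppose B is a Dedekind domain (Noetherian, integrally closed, of Krull dimension at most one; a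
field is allowed). Then A is a Dedekind domain. -/
theorem result (A : Type u) (B : Type v)
    [CommRing A] [CommRing B] [Algebra A B] [IsDedekindDomain B]
    (hinj : Function.Injective (algebraMap A B)) [Module.Finite A B] [Module.Flat A B] :
    IsDedekindDomain A := by
  have : IsDomain A := hinj.isDomain (algebraMap A B)
  have hker : RingHom.ker (algebraMap A B) = ⊥ := (RingHom.injective_iff_ker_eq_bot _).mp hinj
  have : Module.FaithfullyFlat A B := Module.FaithfullyFlat.of_comap_surjective fun p => by
    obtain ⟨Q, hQ, hQ'⟩ := Ideal.exists_ideal_over_prime_of_isIntegral_of_isDomain (S := B) p.asIdeal (by simp [hker])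
    exact ⟨⟨Q, hQ⟩, PrimeSpectrum.ext hQ'⟩
  have hcm : ∀ I : Ideal A, (I.map (algebraMap A B)).comap (algebraMap A B) = I := fun I =>
    Ideal.comap_map_eq_self_of_faithfullyFlat I
  have : IsNoetherianRing A := by
    have hsm : StrictMono fun I : Ideal A => I.map (algebraMap A B) :=
      Monotone.strictMono_of_injective (fun I J h => Ideal.map_mono h) (Ideal.map_injective_of_faithfullyFlat)
    exact isNoetherian_iff'.mpr hsm.wellFoundedGT
  have : Ring.DimensionLEOne A := ⟨fun {p} hp0 hp => by
    obtain ⟨Q, hQ, hQ'⟩ := Ideal.exists_ideal_over_prime_of_isIntegral_of_isDomain (S := B) p (by simp [hker])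
    have : Q ≠ ⊥ := by
      rintro rfl
      exact hp0 (by rw [← hQ', ← RingHom.ker_eq_comap_bot, hker])
    have : Q.IsMaximal := hQ.isMaximal this
    rw [← hQ']
    exact Ideal.isMaximal_comap_of_isIntegral_of_isMaximal Q⟩
  have : IsIntegrallyClosed A := by
    rw [isIntegrallyClosed_iff (FractionRing A)]
    intro x hx
    obtain ⟨a, b, hb, rfl⟩ := IsFractionRing.div_surjective (A := A) x
    let g : FractionRing A →ₐ[A] FractionRing B := IsFractionRing.liftAlgHom (g := Algebra.ofId A (FractionRing B))
      (by
        intro u v huv
        simp only [Algebra.ofId_apply, IsScalarTower.algebraMap_apply A B (FractionRing B)] at huv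
        exact hinj (IsFractionRing.injective B (FractionRing B) huv))
    have h2 : IsIntegral B (g (algebraMap A _ a / algebraMap A _ b)) := (hx.map g).tower_top
    obtain ⟨y, hy⟩ := IsIntegrallyClosed.isIntegral_iff.mp h2
    have hb0 : algebraMap A (FractionRing B) b ≠ 0 := by
      rw [IsScalarTower.algebraMap_apply A B (FractionRing B), ne_eq, map_eq_zero_iff _ (IsFractionRing.injective B _), map_eq_zero_iff _ hinj]
      exact nonZeroDivisors.ne_zero hb
    rw [map_div₀, AlgHom.commutes, AlgHom.commutes, eq_div_iff hb0, IsScalarTower.algebraMap_apply A B (FractionRing B) b,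
      IsScalarTower.algebraMap_apply A B (FractionRing B) a, ← map_mul] at hy
    have : a ∈ Ideal.span {b} := by
      rw [← hcm (Ideal.span {b}), Ideal.mem_comap, Ideal.map_span, Set.image_singleton, ← IsFractionRing.injective B _ hy]
      exact Ideal.mul_mem_left _ _ (Ideal.mem_span_singleton_self _)
    obtain ⟨c, rfl⟩ := Ideal.mem_span_singleton'.mp this
    refine ⟨c, ?_⟩
    rw [map_mul, mul_div_cancel_right₀]
    exact IsFractionRing.to_map_ne_zero_of_mem_nonZeroDivisors hb
  exact { }

end Groth.Agent.S15590
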