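import Groth.Statements.S15591
import Groth.Agent.LeadTorus.General
import Groth.Agent.S3901
import Groth.Agent.S11738

set_option autoImplicit false
universe u
open CategoryTheory MonoidalCategory CartesianMonoidalCategory MonObj GrpObj AlgebraicGeometry
open AGF

namespace Groth.Agent.S15591

/-- Let k be a field, G an affine smooth connected k-group scheme and T ⟶ G, T' ⟶ G two maximal k-tori
of G (each maximal among the k-subtori of G through which it factors). Then T and T' have the same
dimension. -/
theorem result (k : Type u) [Field k]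
    (G : Over (Spec (CommRingCat.of k))) [GrpObj G] [IsAffine G.left] [Smooth G.hom] [ConnectedSpace ↥G.left]
    (T T' : Over (Spec (CommRingCat.of k))) [GrpObj T] [GrpObj T'] (iT : T ⟶ G) (iT' : T' ⟶ G)
    (hT : AGF.IsMaxTorus iT) (hT' : AGF.IsMaxTorus iT') :
    topologicalKrullDim ↥T.left = topologicalKrullDim ↥T'.left := by
  let K := AlgebraicClosure k
  let z : Spec (CommRingCat.of K) ⟶ Spec (CommRingCat.of k) := Groth.Agent.LeadTorus.zMap k K
  haveI : IsAffine (Red.bc z G).left := H20Borel.isAffine_bc z G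
  haveI : Smooth (Red.bc z G).hom := H20Borel.smooth_bc z G
  haveI : ConnectedSpace (Red.bc z G).left := H20Borel.connected_bc z G
  have hK : ∀ {T : Over (Spec (CommRingCat.of k))} [GrpObj T] (i : T ⟶ G), AGF.IsMaxTorus i →
      AGF.IsMaxTorus ((Over.pullback z).map i) := fun i hi => by
    haveI := hi.1; haveI := hi.2.1
    exact (Groth.Agent.LeadTorus.isMaxTorus_iff_bc K G i hi.2.2.1).1 hi
  obtain ⟨g, f, -⟩ := Groth.Agent.S3901.result K (Red.bc z G) (Red.bc z T) (Red.bc z T') _ _ (hK iT hT) (hK iT' hT')
  haveI : LocallyOfFiniteType T.hom := Groth.Agent.H21Diag.lft_of_multTypeFT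
    (Groth.Agent.H21Diag.isMultTypeFT_of_isTorus hT.2.2.1)
  haveI : LocallyOfFiniteType T'.hom := Groth.Agent.H21Diag.lft_of_multTypeFT
    (Groth.Agent.H21Diag.isMultTypeFT_of_isTorus hT'.2.2.1)
  have hdim : ∀ (X : Over (Spec (CommRingCat.of k))) [LocallyOfFiniteType X.hom],
      topologicalKrullDim ↥(Red.bc z X).left = topologicalKrullDim ↥X.left := fun X _ =>
    Groth.Agent.S11738.dim_bc X.hom (CategoryTheory.Limits.pullback.fst X.hom z) (CategoryTheory.Limits.pullback.snd X.hom z) z (IsPullback.of_hasPullback _ _)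
  rw [← hdim T, ← hdim T']
  exact IsHomeomorph.topologicalKrullDim_eq _ ((Over.forget _).mapIso f).hom.homeomorph.isHomeomorph

end Groth.Agent.S15591
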