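import Groth.Statements.S15592
import Groth.Agent.H20Borel.FixGaGm

set_option autoImplicit false
universe u
open CategoryTheory MonoidalCategory CartesianMonoidalCategory MonObj GrpObj AlgebraicGeometry
open AlgGrp

namespace Groth.Agent.S15592

/-- The case of a one-dimensional group. Let k be a field, X a proper k-scheme having a k-rational
point, and G a k-group scheme isomorphic, as a k-group scheme, to the additive group or to the
multiplicative group over k. Then every action of G on X fixes some k-rational point of X: there is
a k-point x with g · x = x for all points g of G with values in any k-scheme. (This is the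
one-dimensional case of the fixed point property of k-split solvable groups acting on proper
k-schemes with a rational point, to which the general case reduces by induction along a composition
series.) -/
theorem result (k : Type u) [Field k]
    (G X : Over (Spec (CommRingCat.of k))) [GrpObj G]
    (hG : Nonempty (Grp.mk G ≅ Grp.mk (Red.Ga (Spec (CommRingCat.of k)))) ∨ Nonempty (Grp.mk G ≅ Grp.mk (Red.Gm (Spec (CommRingCat.of k)))))
    [IsProper X.hom] (x₀ : 𝟙_ (Over (Spec (CommRingCat.of k))) ⟶ X) (a : AlgGrp.Action G X) :
    ∃ x : 𝟙_ (Over (Spec (CommRingCat.of k))) ⟶ X, a.IsFixedPt x := by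
  rcases hG with ⟨⟨e⟩⟩ | ⟨⟨e⟩⟩
  · obtain ⟨x, hx⟩ := H20Borel.exists_fixed_Ga a e.inv.hom.hom x₀
    refine ⟨x, fun T g => ?_⟩
    have h := hx T (g ≫ e.hom.hom.hom)
    rwa [Category.assoc, show e.hom.hom.hom ≫ e.inv.hom.hom = 𝟙 G from congr($(e.hom_inv_id).hom.hom),
      Category.comp_id] at h
  · obtain ⟨x, hx⟩ := H20Borel.exists_fixed_Gm a e.inv.hom.hom x₀
    refine ⟨x, fun T g => ?_⟩
    have h := hx T (g ≫ e.hom.hom.hom)
    rwa [Category.assoc, show e.hom.hom.hom ≫ e.inv.hom.hom = 𝟙 G from congr($(e.hom_inv_id).hom.hom),
      Category.comp_id] at h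

end Groth.Agent.S15592
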