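import Groth.Statements.S15593
import Groth.Agent.H19Grp.HomFlat
import Groth.Agent.H19Grp.GrpdSep
import Groth.Agent.H19Grp.Diagonal

set_option autoImplicit false
universe u
open CategoryTheory MonoidalCategory CartesianMonoidalCategory MonObj GrpObj AlgebraicGeometry
open AlgGrp

namespace Groth.Agent.S15593

/-- Let k be a field and f : G ⟶ G' a homomorphism of smooth k-group schemes of finite type. If f is
surjective (on underlying topological spaces) and has trivial kernel, that is, f is a monomorphism,
then f is an isomorphism. No flatness of f is assumed. -/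
theorem result (k : Type u) [Field k]
    (G G' : Over (Spec (CommRingCat.of k))) [GrpObj G] [GrpObj G']
    [Smooth G.hom] [QuasiCompact G.hom] [Smooth G'.hom] [QuasiCompact G'.hom]
    (f : G ⟶ G') [IsMonHom f] [Mono f] [Surjective f.left] : IsIso f := by
  haveI : IsSeparated G'.hom := by
    haveI : Subsingleton (Spec (CommRingCat.of k)) := inferInstance
    exact ⟨Groth.Agent.H19Grp.diagonal_of_unit G' @IsClosedImmersion
      (Groth.Agent.H19Grp.isClosedImmersion_section_of_subsingleton G'.hom (η[G']).left (Over.w η[G']))⟩
  haveI : QuasiCompact f.left := by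
    haveI : QuasiCompact (f.left ≫ G'.hom) := by rw [Over.w f]; infer_instance
    exact QuasiCompact.of_comp f.left G'.hom
  haveI : IsLocallyNoetherian G'.left := LocallyOfFiniteType.isLocallyNoetherian G'.hom
  haveI : LocallyOfFiniteType (f.left ≫ G'.hom) := by rw [Over.w f]; infer_instance
  haveI : LocallyOfFiniteType f.left := locallyOfFiniteType_of_comp f.left G'.hom
  haveI : LocallyOfFinitePresentation f.left := inferInstance
  haveI : Flat f.left := Groth.Agent.H19Grp.flat_of_surjective f
  haveI : Mono f.left := inferInstanceAs (Mono ((Over.forget _).map f))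
  haveI : IsOpenImmersion f.left := IsOpenImmersion.of_flat_of_mono f.left
  haveI : IsIso f.left := by
    rw [isIso_iff_isOpenImmersion_and_surjective]; exact ⟨inferInstance, inferInstance⟩
  haveI : IsIso ((Over.forget _).map f) := ‹IsIso f.left›
  exact isIso_of_reflects_iso f (Over.forget _)

end Groth.Agent.S15593
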