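import Groth.Statements.S15595
import Groth.Agent.H05EGA4.Regular2
import Groth.Agent.S0565

set_option autoImplicit false
universe u
open TensorProduct
attribute [local instance] RingHom.ker_isPrime
open CAlg

namespace Groth.Agent.S15595

/-- Let k ⊆ K be a field extension and A a Noetherian local k-algebra with residue field k, recorded by
a k-algebra map π : A → k whose kernel is the maximal ideal. Let π_K : K ⊗_k A → K be the induced
K-algebra map, m' its kernel, and A' the localization of K ⊗_k A at m'. Assume A' is Noetherian.
Then A is a regular local ring if and only if A' is a regular local ring. -/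
theorem result (k K A : Type u) [Field k] [Field K]
    [Algebra k K] [CommRing A] [Algebra k A] [IsLocalRing A] [IsNoetherianRing A]
    (π : A →ₐ[k] k) (hπ : RingHom.ker π = IsLocalRing.maximalIdeal A)
    [IsNoetherianRing (Localization.AtPrime (RingHom.ker
      ((Algebra.TensorProduct.rid k K K).toAlgHom.comp (Algebra.TensorProduct.map (AlgHom.id K K) π))))] :
    IsRegularLocalRing A ↔ IsRegularLocalRing (Localization.AtPrime (RingHom.ker
      ((Algebra.TensorProduct.rid k K K).toAlgHom.comp (Algebra.TensorProduct.map (AlgHom.id K K) π)))) := by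
  let T := K ⊗[k] A
  let φ := (Algebra.TensorProduct.rid k K K).toAlgHom.comp (Algebra.TensorProduct.map (AlgHom.id K K) π)
  let q : Ideal T := RingHom.ker φ
  haveI : q.IsPrime := RingHom.ker_isPrime φ
  let incl : A →+* T := Algebra.TensorProduct.includeRight.toRingHom
  letI : Algebra A T := incl.toAlgebra
  haveI : Module.Flat A T := by
    let e : TensorProduct k A K ≃ₐ[A] T :=
      { (Algebra.TensorProduct.comm k A K).toRingEquiv with
        commutes' := fun a => by
          show Algebra.TensorProduct.comm k A K (a ⊗ₜ[k] (1 : K)) = (1 : K) ⊗ₜ[k] a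
          rw [Algebra.TensorProduct.comm_tmul] }
    exact Module.Flat.of_linearEquiv e.toLinearEquiv.symm
  haveI : Module.Flat A (Localization.AtPrime q) := Module.Flat.trans A T (Localization.AtPrime q)
  have hinj : ∀ x : T, φ x = 0 ↔ Algebra.TensorProduct.map (AlgHom.id K K) π x = 0 := fun x => by
    show (Algebra.TensorProduct.rid k K K) _ = 0 ↔ _
    exact EmbeddingLike.map_eq_zero_iff
  have hq : q = (IsLocalRing.maximalIdeal A).map incl := by
    have hπs : Function.Surjective π := fun c => ⟨algebraMap k A c, π.commutes c⟩
    have h1 := Algebra.TensorProduct.lTensor_ker (R := k) (A := K) π hπs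
    rw [hπ] at h1
    refine Eq.trans ?_ h1
    ext x
    exact (hinj x).trans Iff.rfl
  have hmap : (IsLocalRing.maximalIdeal A).map (algebraMap A (Localization.AtPrime q)) =
      IsLocalRing.maximalIdeal (Localization.AtPrime q) := by
    rw [IsScalarTower.algebraMap_eq A T (Localization.AtPrime q), ← Ideal.map_map]
    show Ideal.map _ ((IsLocalRing.maximalIdeal A).map incl) = _
    rw [← hq, Localization.AtPrime.map_eq_maximalIdeal]
  haveI : IsLocalHom (algebraMap A (Localization.AtPrime q)) :=
    ((IsLocalRing.local_hom_TFAE (algebraMap A (Localization.AtPrime q))).out 0 2).mpr hmap.le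
  haveI : IsNoetherianRing (Localization.AtPrime q) := ‹_›
  exact ⟨fun hA => Groth.Agent.H05EGA4.isRegularLocalRing_of_flat_of_map_eq A (Localization.AtPrime q) hmap,
    fun hB => Groth.Agent.S0565.result A (Localization.AtPrime q)⟩

end Groth.Agent.S15595
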