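import Groth.Statements.S15596
import Mathlib

set_option autoImplicit false
universe u
open CategoryTheory MonoidalCategory CartesianMonoidalCategory MonObj GrpObj AlgebraicGeometry
open AlgGrp

namespace Groth.Agent.S15596

/-- Let k be an algebraically closed field, H a smooth k-group scheme of finite type, and U a dense open
subset of H. Then every k-rational point h of H is of the form u₂ · u₁⁻¹ for k-rational points u₁,
u₂ of H whose underlying points lie in U. -/
theorem result (k : Type u) [Field k] [IsAlgClosed k]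
    (H : Over (Spec (CommRingCat.of k))) [GrpObj H] [Smooth H.hom] [QuasiCompact H.hom]
    (U : H.left.Opens) (hU : Dense (U : Set ↥H.left)) (h : 𝟙_ (Over (Spec (CommRingCat.of k))) ⟶ H) :
    ∃ u₁ u₂ : 𝟙_ (Over (Spec (CommRingCat.of k))) ⟶ H,
      u₁.left.base (IsLocalRing.closedPoint k) ∈ U ∧ u₂.left.base (IsLocalRing.closedPoint k) ∈ U ∧
        h = u₂ * u₁⁻¹ := by
  let L : H ≅ H :=
    { hom := (toUnit H ≫ h) * 𝟙 H
      inv := (toUnit H ≫ h⁻¹) * 𝟙 H
      hom_inv_id := by
        rw [MonObj.comp_mul, Category.comp_id, ← Category.assoc,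
          Subsingleton.elim (((toUnit H ≫ h) * 𝟙 H) ≫ toUnit H) (toUnit H), GrpObj.comp_inv,
          ← _root_.mul_assoc, inv_mul_cancel, _root_.one_mul]
      inv_hom_id := by
        rw [MonObj.comp_mul, Category.comp_id, ← Category.assoc,
          Subsingleton.elim (((toUnit H ≫ h⁻¹) * 𝟙 H) ≫ toUnit H) (toUnit H), GrpObj.comp_inv,
          ← _root_.mul_assoc, mul_inv_cancel, _root_.one_mul] }
  haveI : IsIso L.hom.left := ((Over.forget _).mapIso L).isIso_hom
  haveI : LocallyOfFiniteType H.hom := inferInstance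
  have hd : Dense ((U : Set H.left) ∩ L.hom.left ⁻¹' (U : Set H.left)) := by
    refine hU.inter_of_isOpen_left ?_ U.2
    exact hU.preimage L.hom.left.isOpenEmbedding.isOpenMap
  haveI : JacobsonSpace H.left := LocallyOfFiniteType.jacobsonSpace H.hom
  haveI : Nonempty H.left := ⟨(η[H]).left (IsLocalRing.closedPoint k)⟩
  obtain ⟨x, hx, hxc⟩ := nonempty_inter_closedPoints hd.nonempty
    (U.2.inter (U.2.preimage L.hom.left.continuous)).isLocallyClosed
  let u : 𝟙_ (Over (Spec (CommRingCat.of k))) ⟶ H :=
    Over.homMk (pointOfClosedPoint H.hom x hxc) (pointOfClosedPoint_comp H.hom x hxc)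
  refine ⟨u, h * u, ?_, ?_, by rw [_root_.mul_assoc, mul_inv_cancel, _root_.mul_one]⟩
  · show pointOfClosedPoint H.hom x hxc _ ∈ U
    rw [pointOfClosedPoint_apply]; exact hx.1
  · have e : h * u = u ≫ L.hom := by
      show h * u = u ≫ ((toUnit H ≫ h) * 𝟙 H)
      rw [MonObj.comp_mul, Category.comp_id, ← Category.assoc,
        Subsingleton.elim (u ≫ toUnit H) (𝟙 _), Category.id_comp]
    rw [e]
    show L.hom.left (pointOfClosedPoint H.hom x hxc _) ∈ U
    rw [pointOfClosedPoint_apply]; exact hx.2

end Groth.Agent.S15596
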