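import Groth.Statements.S15597
import Groth.Agent.H20Borel.TorusOfSemisimple

set_option autoImplicit false
universe u v
open HopfRep

namespace Groth.Agent.S15597

/-- Let k be an algebraically closed field and G = Spec A a smooth connected affine k-group, that is, A
is a finitely generated commutative Hopf algebra over k which is reduced and has no idempotents
other than 0 and 1; commutativity of G is not assumed. If every k-point of G is semisimple, in the
sense that it acts semisimply in every finite-dimensional A-comodule, then G is a torus: A is
spanned over k by its group-like elements. (The published statement is over an arbitrary field, with
the hypothesis on the points over an algebraic closure; this row is the algebraically closed case.) -/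
theorem result (k : Type u) (A : Type v) [Field k]
    [IsAlgClosed k] [CommRing A] [HopfAlgebra k A] [Algebra.FiniteType k A] [IsReduced A]
    (hconn : ∀ e : A, IsIdempotentElem e → e = 0 ∨ e = 1)
    (hss : ∀ (g : A →ₐ[k] k) (V : Type v) [AddCommGroup V] [Module k V] [HopfRep.Comod k A V],
      Module.Finite k V → Module.End.IsSemisimple (HopfRep.Comod.act k A V g)) :
    HopfRep.IsDiagonalizable k A := by
  exact H20Borel.isDiagonalizable_of_semisimple hconn hss

end Groth.Agent.S15597
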