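import Groth.Statements.S15598
import Groth.Agent.H19Quot.OrbitDim
import Groth.Agent.H19Quot.FieldTop
import Groth.Agent.H21Taylor.GeomInt
import Groth.Agent.H19Grp.RegularSmooth
import Groth.Agent.H7Flat.ElemDev.Connected
import Groth.Agent.H28Top.Noeth

set_option autoImplicit false
set_option maxHeartbeats 1000000
set_option synthInstance.maxHeartbeats 100000
set_option linter.style.haveILetI false
set_option backward.isDefEq.respectTransparency false
universe u
open CategoryTheory MonoidalCategory CartesianMonoidalCategory MonObj GrpObj AlgebraicGeometry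
open AlgGrp

namespace Groth.Agent.S15598

section
variable {k : Type u} [Field k] {G X : Over (Spec (CommRingCat.of k))} [GrpObj G]

noncomputable def leftT (g : 𝟙_ (Over (Spec (CommRingCat.of k))) ⟶ G) : G ⟶ G :=
  (toUnit G ≫ g) * 𝟙 G

noncomputable def actT (a : AlgGrp.Action G X) (g : 𝟙_ (Over (Spec (CommRingCat.of k))) ⟶ G) : X ⟶ X :=
  lift (toUnit X ≫ g) (𝟙 X) ≫ a.act

theorem comp_leftT {T : Over (Spec (CommRingCat.of k))} (g : 𝟙_ (Over (Spec (CommRingCat.of k))) ⟶ G)
    (h : T ⟶ G) : h ≫ leftT g = (toUnit T ≫ g) * h := by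
  rw [leftT, MonObj.comp_mul, Category.comp_id, ← Category.assoc, toUnit_unique (h ≫ toUnit G) (toUnit T)]

theorem comp_actT {T : Over (Spec (CommRingCat.of k))} (a : AlgGrp.Action G X)
    (g : 𝟙_ (Over (Spec (CommRingCat.of k))) ⟶ G) (z : T ⟶ X) :
    z ≫ actT a g = lift (toUnit T ≫ g) z ≫ a.act := by
  rw [actT, ← Category.assoc, comp_lift, Category.comp_id, ← Category.assoc z (toUnit X),
    toUnit_unique (z ≫ toUnit X) (toUnit T)]

theorem leftT_orbitMap (a : AlgGrp.Action G X) (x : 𝟙_ (Over (Spec (CommRingCat.of k))) ⟶ X)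
    (g : 𝟙_ (Over (Spec (CommRingCat.of k))) ⟶ G) :
    leftT g ≫ a.orbitMap x = a.orbitMap x ≫ actT a g := by
  rw [comp_actT, Groth.Agent.H19Grp.QuotientDesc.comp_orbitMap, leftT, Groth.Agent.H19Grp.act_mul,
    ← Groth.Agent.H19Grp.QuotientDesc.comp_orbitMap, Category.id_comp]

theorem isIso_leftT (g : 𝟙_ (Over (Spec (CommRingCat.of k))) ⟶ G) : IsIso (leftT g) :=
  ⟨leftT g⁻¹, by rw [comp_leftT, leftT, GrpObj.comp_inv, inv_mul_cancel_left],
    by rw [comp_leftT, leftT, GrpObj.comp_inv, mul_inv_cancel_left]⟩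

theorem isIso_actT (a : AlgGrp.Action G X) (g : 𝟙_ (Over (Spec (CommRingCat.of k))) ⟶ G) : IsIso (actT a g) :=
  ⟨actT a g⁻¹, by
      rw [comp_actT, actT, ← Groth.Agent.H19Grp.act_mul, GrpObj.comp_inv, inv_mul_cancel,
        Groth.Agent.H19Grp.act_one],
    by
      rw [comp_actT, actT, ← Groth.Agent.H19Grp.act_mul, GrpObj.comp_inv, mul_inv_cancel,
        Groth.Agent.H19Grp.act_one]⟩

end

theorem connected_of_transitive (k : Type u) [Field k] [IsAlgClosed k]
    (G X : Over (Spec (CommRingCat.of k))) [GrpObj G] [LocallyOfFiniteType G.hom] [QuasiCompact G.hom]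
    [Smooth X.hom] [ConnectedSpace ↥X.left] (a : AlgGrp.Action G X) (x₀ : 𝟙_ (Over (Spec (CommRingCat.of k))) ⟶ X)
    (hsurj : Surjective (a.orbitMap x₀).left)
    (H : Over (Spec (CommRingCat.of k))) [GrpObj H] (i : H ⟶ G) [IsMonHom i]
    (hH : ∀ (g : 𝟙_ (Over (Spec (CommRingCat.of k))) ⟶ G), g ≫ a.orbitMap x₀ = x₀ → ∃ h, h ≫ i = g)
    [ConnectedSpace ↥H.left] : ConnectedSpace ↥G.left := by
  haveI : IsNoetherianRing (CommRingCat.of k) := inferInstanceAs (IsNoetherianRing k)
  haveI : IsLocallyNoetherian X.left := LocallyOfFiniteType.isLocallyNoetherian X.hom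
  haveI : IrreducibleSpace X.left :=
    Groth.Agent.H21Taylor.irreducibleSpace_of_connected_of_domain_stalks _ fun t => by
      haveI := Groth.Agent.H19Grp.isRegularLocalRing_stalk_of_smooth X.hom t
      exact Groth.Agent.H4Depth.isDomain_of_isRegularLocalRing _
  haveI : CompactSpace G.left := QuasiCompact.compactSpace_of_compactSpace G.hom
  haveI : CompactSpace X.left := hsurj.1.compactSpace (a.orbitMap x₀).left.continuous
  haveI : IsNoetherian X.left := {}
  haveI := Groth.Agent.H19Grp.QuotientDesc.lfp_orbitMap a x₀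
  haveI : QuasiCompact X.hom := (quasiCompact_iff_compactSpace X.hom).2 inferInstance
  haveI : JacobsonSpace G.left := LocallyOfFiniteType.jacobsonSpace G.hom
  haveI : JacobsonSpace X.left := LocallyOfFiniteType.jacobsonSpace X.hom
  haveI : IsLocallyNoetherian G.left := LocallyOfFiniteType.isLocallyNoetherian G.hom
  set o := (a.orbitMap x₀).left.base with ho
  let pt : (g : 𝟙_ (Over (Spec (CommRingCat.of k))) ⟶ G) → G.left := fun g => g.left (IsLocalRing.closedPoint k)
  have hlift : ∀ p : G.left, IsClosed ({p} : Set G.left) →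
      ∃ g : 𝟙_ (Over (Spec (CommRingCat.of k))) ⟶ G, pt g = p := fun p hp =>
    ⟨Over.homMk (pointOfClosedPoint G.hom p hp) (pointOfClosedPoint_comp _ _ _), pointOfClosedPoint_apply _ _ _ _⟩
  set C := connectedComponent (pt 1) with hC
  obtain ⟨hCo, -, hCc⟩ := Groth.Agent.H19Quot.components_grp G (pt 1)
  -- translates of the neutral component
  have hcomp : ∀ g, (leftT g).left '' C = connectedComponent (pt g) := by
    intro g
    haveI := isIso_leftT g
    have hpt : ∀ h : 𝟙_ (Over (Spec (CommRingCat.of k))) ⟶ G, (leftT g).left (pt h) = pt (g * h) := fun h => by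
      show (leftT g).left (h.left _) = _
      rw [← Scheme.Hom.comp_apply, ← Over.comp_left, comp_leftT, toUnit_unique (toUnit _) (𝟙 _), Category.id_comp]
    refine Set.Subset.antisymm ?_ ?_
    · refine ((leftT g).left.continuous.image_connectedComponent_subset _).trans ?_
      rw [hpt, _root_.mul_one]
    · intro q hq
      have h2 : (inv (leftT g)).left q ∈ C := by
        refine ((inv (leftT g)).left.continuous.image_connectedComponent_subset (pt g)).trans ?_ ⟨q, hq, rfl⟩
        have h1 := hpt 1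
        rw [_root_.mul_one] at h1
        rw [← h1, ← Scheme.Hom.comp_apply, ← Over.comp_left, IsIso.hom_inv_id]
        exact subset_rfl
      refine ⟨_, h2, ?_⟩
      rw [← Scheme.Hom.comp_apply, ← Over.comp_left, IsIso.inv_hom_id]
      rfl
  -- the translates of o(C) cover X
  obtain ⟨t, ht⟩ := isCompact_univ.elim_finite_subcover
    (fun g : 𝟙_ (Over (Spec (CommRingCat.of k))) ⟶ G => connectedComponent (pt g))
    (fun g => (Groth.Agent.H19Quot.components_grp G (pt g)).1) (fun p _ => by
      obtain ⟨q, hq, hqc⟩ := nonempty_inter_closedPoints (Z := connectedComponent p) ⟨p, mem_connectedComponent⟩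
        (Groth.Agent.H19Quot.components_grp G p).1.isLocallyClosed
      obtain ⟨g, rfl⟩ := hlift q hqc
      exact Set.mem_iUnion.2 ⟨g, connectedComponent_eq hq ▸ mem_connectedComponent⟩)
  have himg : ∀ g, o '' connectedComponent (pt g) = (actT a g).left '' (o '' C) := fun g => by
    rw [← hcomp, Set.image_image, Set.image_image]
    refine Set.image_congr fun p _ => ?_
    show (a.orbitMap x₀).left ((leftT g).left p) = (actT a g).left ((a.orbitMap x₀).left p)
    rw [← Scheme.Hom.comp_apply, ← Over.comp_left, leftT_orbitMap, Over.comp_left, Scheme.Hom.comp_apply]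
  have hdense : Dense (o '' C) := by
    have hcov : (Set.univ : Set X.left) ⊆ ⋃₀ ↑(t.image fun g => closure (o '' connectedComponent (pt g))) := by
      intro z _
      obtain ⟨p, rfl⟩ := hsurj.1 z
      obtain ⟨g, hg, hp⟩ := Set.mem_iUnion₂.1 (ht (Set.mem_univ p))
      exact ⟨_, Finset.mem_coe.2 (Finset.mem_image_of_mem _ hg), subset_closure ⟨p, hp, rfl⟩⟩
    obtain ⟨Z, hZ, hZu⟩ := (isIrreducible_iff_sUnion_isClosed.1 (IrreducibleSpace.isIrreducible_univ _))
      _ (fun Z hZ => by
        obtain ⟨g, -, rfl⟩ := Finset.mem_image.1 hZ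
        exact isClosed_closure) hcov
    obtain ⟨g, -, rfl⟩ := Finset.mem_image.1 hZ
    have h1 : Dense (o '' connectedComponent (pt g)) := fun z => hZu (Set.mem_univ z)
    haveI := isIso_actT a g
    rw [himg] at h1
    intro z
    have h2 := h1 ((actT a g).left z)
    change (actT a g).left.homeomorph z ∈ closure ((actT a g).left.homeomorph '' (o '' C)) at h2
    rwa [← (actT a g).left.homeomorph.image_closure, Function.Injective.mem_set_image
      (actT a g).left.homeomorph.injective] at h2
  haveI : QuasiCompact (a.orbitMap x₀).left := by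
    haveI : QuasiCompact ((a.orbitMap x₀).left ≫ X.hom) := by rw [Over.w]; infer_instance
    exact QuasiCompact.of_comp _ X.hom
  obtain ⟨W, hW, hWne, hWsub⟩ : ∃ W : Set X.left, IsOpen W ∧ W.Nonempty ∧ W ⊆ o '' C := by
    obtain ⟨s, hs, hsC⟩ := Groth.Agent.H28Top.exists_finset_isLocallyClosed
      ((a.orbitMap x₀).left.isConstructible_image (s := C) ((hCc.isRetrocompact hCo).isConstructible hCo))
    rw [← ho] at hsC
    obtain ⟨U, hU, hUne, hUsub⟩ := Groth.Agent.S7984.exists_open_inter_closure_subset s hs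
      (hsC ▸ ⟨o (pt 1), pt 1, mem_connectedComponent, rfl⟩)
    rw [← hsC, hdense.closure_eq, Set.inter_univ] at hUsub
    exact ⟨U, hU, hUne.mono Set.inter_subset_left, hUsub⟩
  refine { toPreconnectedSpace := ⟨?_⟩, toNonempty := ⟨pt 1⟩ }
  suffices Set.univ ⊆ C by rw [Set.eq_univ_of_univ_subset this |>.symm]; exact isPreconnected_connectedComponent
  intro p _
  obtain ⟨q, hq, hqc⟩ := nonempty_inter_closedPoints (Z := connectedComponent p) ⟨p, mem_connectedComponent⟩
    (Groth.Agent.H19Quot.components_grp G p).1.isLocallyClosed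
  obtain ⟨g, rfl⟩ := hlift q hqc
  haveI := isIso_actT a g
  -- a closed point of X in both o(C) and its translate
  have hW2 : IsOpen ((actT a g).left '' W) := (actT a g).left.homeomorph.isOpenMap _ hW
  obtain ⟨z, hz, hzc⟩ := nonempty_inter_closedPoints (X := X.left)
    (nonempty_preirreducible_inter hW hW2 hWne (hWne.image _)) (hW.inter hW2).isLocallyClosed
  obtain ⟨c₁, hc₁, hc₁c⟩ := nonempty_inter_closedPoints (Z := C ∩ o ⁻¹' {z})
    (by obtain ⟨c, hc, rfl⟩ := hWsub hz.1; exact ⟨c, hc, rfl⟩)
    (hCo.isLocallyClosed.inter (hzc.preimage (a.orbitMap x₀).left.continuous).isLocallyClosed)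
  obtain ⟨w, hw, hwz⟩ := hz.2
  obtain ⟨c₂, hc₂, hc₂c⟩ := nonempty_inter_closedPoints (Z := connectedComponent (pt g) ∩ o ⁻¹' {z})
    (by
      obtain ⟨c, hc, hco⟩ := (himg g).ge ⟨w, hWsub hw, hwz⟩
      exact ⟨c, hc, hco⟩)
    ((Groth.Agent.H19Quot.components_grp G (pt g)).1.isLocallyClosed.inter
      (hzc.preimage (a.orbitMap x₀).left.continuous).isLocallyClosed)
  obtain ⟨g₁, rfl⟩ := hlift c₁ hc₁c
  obtain ⟨g₂, rfl⟩ := hlift c₂ hc₂c
  have hpts : g₁ ≫ a.orbitMap x₀ = g₂ ≫ a.orbitMap x₀ :=
    Over.OverMorphism.ext (Groth.Agent.H19Grp.section_ext (q := X.hom) (Over.w _) (Over.w _)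
      ((show o (pt g₁) = z from hc₁.2).trans (show o (pt g₂) = z from hc₂.2).symm))
  have hstab : (g₂⁻¹ * g₁) ≫ a.orbitMap x₀ = x₀ := by
    rw [Groth.Agent.H19Grp.QuotientDesc.mul_comp_orbitMap, hpts,
      ← Groth.Agent.H19Grp.QuotientDesc.mul_comp_orbitMap, inv_mul_cancel,
      Groth.Agent.H19Grp.QuotientDesc.one_comp_orbitMap, toUnit_unique (toUnit _) (𝟙 _), Category.id_comp]
  obtain ⟨h, hh⟩ := hH _ hstab
  have hmem : pt (g₂⁻¹ * g₁) ∈ C := by
    have h1 : pt 1 = i.left ((1 : 𝟙_ _ ⟶ H).left (IsLocalRing.closedPoint k)) := by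
      rw [← Scheme.Hom.comp_apply, ← Over.comp_left, MonObj.one_comp]
    rw [hC, h1, ← hh]
    refine i.left.continuous.image_connectedComponent_subset _ ⟨h.left (IsLocalRing.closedPoint k), ?_, rfl⟩
    rw [PreconnectedSpace.connectedComponent_eq_univ]
    trivial
  have h3 : pt g₁ ∈ connectedComponent (pt g₂) := by
    rw [← hcomp]
    refine ⟨_, hmem, ?_⟩
    rw [← Scheme.Hom.comp_apply, ← Over.comp_left, comp_leftT, toUnit_unique (toUnit _) (𝟙 _),
      Category.id_comp, mul_inv_cancel_left]
  have e1 : connectedComponent (pt g₁) = C := (connectedComponent_eq hc₁.1).symm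
  have e2 : connectedComponent (pt g₂) = connectedComponent (pt g) := (connectedComponent_eq hc₂.1).symm
  show p ∈ C
  rw [← e1, ← connectedComponent_eq h3, e2, ← connectedComponent_eq hq]
  exact mem_connectedComponent


/-- Let k be an algebraically closed field, G a k-group scheme of finite type, and X a smooth connected
k-scheme with an action of G. Suppose that for some k-point x₀ of X the orbit map g ↦ g · x₀ from G
to X is surjective, and that the stabilizer of x₀, a subgroup scheme H ⟶ G whose points are exactly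
the points g of G with g · x₀ = x₀, is connected. Then G is connected. (Stated over an algebraically
closed field, to which the general case reduces since a k-group scheme of finite type is connected
exactly when it is geometrically connected.) -/
theorem result (k : Type u) [Field k] [IsAlgClosed k]
    (G X : Over (Spec (CommRingCat.of k))) [GrpObj G] [LocallyOfFiniteType G.hom] [QuasiCompact G.hom]
    [Smooth X.hom] [ConnectedSpace ↥X.left] (a : AlgGrp.Action G X) (x₀ : 𝟙_ (Over (Spec (CommRingCat.of k))) ⟶ X)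
    (hsurj : Surjective (a.orbitMap x₀).left)
    (H : Over (Spec (CommRingCat.of k))) [GrpObj H] (i : H ⟶ G) [IsMonHom i] [Mono i]
    (hH : ∀ (T : Over (Spec (CommRingCat.of k))) (g : T ⟶ G), (∃ h : T ⟶ H, h ≫ i = g) ↔ g ≫ a.orbitMap x₀ = toUnit T ≫ x₀)
    [ConnectedSpace ↥H.left] : ConnectedSpace ↥G.left := by
  exact connected_of_transitive k G X a x₀ hsurj H i (fun g hg => (hH _ g).2 (by
    rw [hg, toUnit_unique (toUnit _) (𝟙 _), Category.id_comp]))

end Groth.Agent.S15598
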