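import Groth.Statements.S15599
import Groth.Agent.H19Unip.MaxNormal
import Groth.Agent.H19Unip.Normal
import Groth.Agent.H19Unip.Component
import Groth.Agent.H19Chev.IdComp

set_option autoImplicit false
universe u
open CategoryTheory MonoidalCategory CartesianMonoidalCategory MonObj GrpObj AlgebraicGeometry
open AGF

namespace Groth.Agent.S15599

set_option linter.style.haveILetI false
set_option backward.isDefEq.respectTransparency false
set_option synthInstance.maxHeartbeats 400000
set_option maxHeartbeats 4000000
open CategoryTheory.Limits Groth.Agent.H27Witt H20Mu H20Conj H20Borel H21Chev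


/-- Let k be an algebraically closed field and G a smooth affine k-group scheme, not necessarily
connected, whose unipotent radical is trivial: every smooth connected normal closed subgroup scheme
of G containing no non-trivial subtorus is trivial. Let N ⟶ G be a smooth closed normal subgroup
scheme, not necessarily connected. Then N has the same property: every smooth connected closed
subgroup scheme of N which is normal in N and contains no non-trivial subtorus is trivial.
Reductivity, in this sense allowing disconnected groups, passes to smooth normal subgroups. (The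
published statement is over an arbitrary field, with reductivity defined after extension to an
algebraic closure; this row is the algebraically closed case.) -/
theorem result (k : Type u) [Field k] [IsAlgClosed k]
    (G N : Over (Spec (CommRingCat.of k))) [GrpObj G] [GrpObj N] [IsAffine G.left] [Smooth G.hom]
    (j : N ⟶ G) [IsMonHom j] (hj : IsClosedImmersion j.left) [Smooth N.hom] (hN : AlgGrp.IsNormalHom j)
    (hG : ∀ (U : Over (Spec (CommRingCat.of k))) [GrpObj U] (i : U ⟶ G) [IsMonHom i], IsClosedImmersion i.left → Smooth U.hom →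
        ConnectedSpace ↥U.left → AlgGrp.IsNormalHom i → Red.HasNoSubtorus k U → Red.IsTrivialGrp U) :
    ∀ (U : Over (Spec (CommRingCat.of k))) [GrpObj U] (i : U ⟶ N) [IsMonHom i], IsClosedImmersion i.left → Smooth U.hom →
        ConnectedSpace ↥U.left → AlgGrp.IsNormalHom i → Red.HasNoSubtorus k U → Red.IsTrivialGrp U := by
  classical
  intro U _ i _ hci hs hc hn hns
  haveI := hj; haveI := hci; haveI := hs; haveI := hc
  haveI : IsAffine N.left := isAffine_of_isAffineHom j.left
  haveI : IsAffine U.left := isAffine_of_isAffineHom i.left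
  haveI : LocallyOfFiniteType N.hom := inferInstance
  haveI : QuasiCompact N.hom := inferInstance
  obtain ⟨L, gL, J, hJm, hJc, hJo, hLc, hLs, -, -⟩ := Groth.Agent.H19Chev.exists_smooth_idComp N
  letI := gL; haveI := hJm; haveI := hJc; haveI := hJo; haveI := hLc; haveI := hLs
  haveI : IsAffine L.left := isAffine_of_isAffineHom J.left
  haveI : Mono J := Over.mono_of_mono_left _
  haveI : Mono j := Over.mono_of_mono_left _
  haveI : LocallyOfFiniteType L.hom := inferInstance
  haveI : LocallyOfFiniteType U.hom := inferInstance
  obtain ⟨a, ha⟩ := H19Unip.exists_lift_open J i (Groth.Agent.H19Alb.range_subset_open_subgroup J i)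
  haveI : IsMonHom a := by
    haveI : IsMonHom (a ≫ J) := by rw [ha]; infer_instance
    exact Groth.Agent.H21Diag.isMonHom_of_comp_mono a J
  haveI : IsClosedImmersion a.left := by
    haveI : IsClosedImmersion (a.left ≫ J.left) := by rw [← Over.comp_left, ha]; exact hci
    exact IsClosedImmersion.of_comp a.left J.left
  have han : AlgGrp.IsNormalHom a := fun X g u => by
    obtain ⟨u', hu'⟩ := hn X (g ≫ J) u
    refine ⟨u', (cancel_mono J).mp ?_⟩
    rw [MonObj.mul_comp, MonObj.mul_comp, GrpObj.inv_comp, Category.assoc u, ha, hu', Category.assoc, ha]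
  obtain ⟨M, gM, iM, hMm, hMci, hMs, hMc, hMns, hMn, hmax⟩ := H19Unip.exists_max_noSubtorus_normal L
  letI := gM; haveI := hMm; haveI := hMci; haveI := hMs; haveI := hMc
  haveI : Mono iM := Over.mono_of_mono_left _
  haveI : LocallyOfFiniteType M.hom := inferInstance
  have hex : ∀ g : 𝟙_ (Over (Spec (CommRingCat.of k))) ⟶ G, ∃ α : L ⟶ L, α ≫ J ≫ j = (J ≫ j) ≫ H20Mu.conj g := fun g => by
    obtain ⟨n', hn'⟩ := hN L (toUnit L ≫ g)⁻¹ J
    have e : n' ≫ j = (J ≫ j) ≫ H20Mu.conj g := by
      rw [← hn', H20Mu.comp_conj, _root_.inv_inv]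
    haveI : IsMonHom n' := by
      haveI : IsMonHom (n' ≫ j) := by rw [e]; infer_instance
      exact Groth.Agent.H21Diag.isMonHom_of_comp_mono n' j
    obtain ⟨α, hα⟩ := H19Unip.exists_lift_open J n' (Groth.Agent.H19Alb.range_subset_open_subgroup J n')
    exact ⟨α, by rw [← Category.assoc, hα, e]⟩
  choose α hα using hex
  haveI : Mono (J ≫ j) := mono_comp _ _
  haveI : ∀ g, IsMonHom (α g) := fun g => by
    haveI : IsMonHom (α g ≫ J ≫ j) := by rw [hα]; infer_instance
    exact Groth.Agent.H21Diag.isMonHom_of_comp_mono (α g) (J ≫ j)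
  let I := J ≫ j
  haveI : IsMonHom I := inferInstanceAs (IsMonHom (J ≫ j))
  haveI : IsClosedImmersion I.left := by
    show IsClosedImmersion (J ≫ j).left
    rw [Over.comp_left]; infer_instance
  have hαp : ∀ g (x : 𝟙_ (Over (Spec (CommRingCat.of k))) ⟶ L), (x ≫ α g) ≫ I = g⁻¹ * (x ≫ I) * g := fun g x => by
    rw [Category.assoc, hα, ← Category.assoc, pt_comp_conj]
  have hst : ∀ g, ∃ f : M ⟶ M, f ≫ iM = iM ≫ α g := fun g => by
    haveI : IsClosedImmersion (iM ≫ α g).left := by
      haveI := isIso_conj g
      haveI : IsIso (H20Mu.conj g).left := inferInstanceAs (IsIso ((Over.forget _).map (H20Mu.conj g)))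
      haveI : IsClosedImmersion ((iM ≫ α g).left ≫ I.left) := by
        rw [← Over.comp_left, Category.assoc, hα, Over.comp_left, Over.comp_left]; infer_instance
      exact IsClosedImmersion.of_comp _ I.left
    refine hmax M (iM ≫ α g) inferInstance hMs hMc hMns (H19Unip.isNormalHom_of_pts _ fun n w => ?_)
    obtain ⟨w', hw'⟩ := hMn _ (n ≫ α g⁻¹) w
    refine ⟨w', (cancel_mono I).mp ?_⟩
    rw [← Category.assoc w' iM, hαp, ← hw']
    simp only [MonObj.mul_comp, GrpObj.inv_comp, hαp, _root_.inv_inv]
    rw [← Category.assoc w iM (α g), hαp]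
    group
  haveI : IsClosedImmersion (iM ≫ I).left := by rw [Over.comp_left]; infer_instance
  have htriv := hG M (iM ≫ I) inferInstance hMs hMc (H19Unip.isNormalHom_of_pts _ fun g w => by
    obtain ⟨f, hf⟩ := hst g⁻¹
    refine ⟨w ≫ f, ?_⟩
    rw [Category.assoc, ← Category.assoc f, hf, ← Category.assoc, ← Category.assoc w iM (α g⁻¹), hαp, _root_.inv_inv,
      Category.assoc]) hMns
  obtain ⟨f, hf⟩ := hmax U a inferInstance hs hc hns han
  haveI : Mono a := Over.mono_of_mono_left _
  exact H19Unip.isTrivialGrp_of_mono_one a (by rw [← hf, H19Unip.eq_one_of_trivial htriv f, MonObj.one_comp])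

end Groth.Agent.S15599
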