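import Groth.Statements.S15600
import Groth.Agent.H19Unip.Component
import Groth.Agent.H20Red.Scheme

set_option autoImplicit false
universe u
open CategoryTheory MonoidalCategory CartesianMonoidalCategory MonObj GrpObj AlgebraicGeometry
open AGF

namespace Groth.Agent.S15600

set_option linter.style.haveILetI false
set_option backward.isDefEq.respectTransparency false
set_option synthInstance.maxHeartbeats 400000
set_option maxHeartbeats 4000000
open CategoryTheory.Limits Groth.Agent.H27Witt H20Mu H20Conj H20Borel H21Chev H19Unip Groth.Agent.H06GenSub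

section Conj

variable {S : Scheme.{u}} {G U : Over S} [GrpObj G] (a : U ⟶ G)

/-- The conjugates of a subscheme, as a family with one member. -/
noncomputable def cfam : PUnit.{u+1} → (G ⊗ U ⟶ G) := fun _ => fst G U * (snd G U ≫ a) * (fst G U)⁻¹

theorem isWord_conj {T : Over S} {w : T ⟶ G}
    (hw : IsWord (cfam a) w) (g : T ⟶ G) :
    IsWord (cfam a) (g * w * g⁻¹) := by
  obtain ⟨l, v, rfl⟩ := hw
  induction l with
  | nil =>
    show IsWord _ (g * (v ≫ 1) * g⁻¹)
    rw [MonObj.comp_one, _root_.mul_one, mul_inv_cancel]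
    exact isWord_one
  | cons p l ih =>
    obtain ⟨i, b⟩ := p
    rw [comp_word_cons, show ∀ x y : T ⟶ G, g * (x * y) * g⁻¹ = (g * x * g⁻¹) * (g * y * g⁻¹) from
      fun x y => by group]
    refine isWord_mul ?_ (ih _)
    have key : ∀ z : T ⟶ G ⊗ U, g * (z ≫ cfam a i) * g⁻¹ =
        lift (g * (z ≫ fst G U)) (z ≫ snd G U) ≫ cfam a i := fun z => by
      simp only [cfam, MonObj.comp_mul, GrpObj.comp_inv, lift_fst, lift_snd_assoc, _root_.mul_inv_rev,
        Category.assoc]
      group
    have hs : ∀ x : T ⟶ G, g * sgn b x * g⁻¹ = sgn b (g * x * g⁻¹) := fun x => by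
      cases b <;> simp [sgn] <;> group
    rw [hs]
    erw [key]
    exact isWord_sgn b _

end Conj


/-- Let k be a field, G a smooth affine k-group scheme and G⁰ ⟶ G its identity component, that is, an
open subgroup scheme whose underlying space is connected. If U ⟶ G⁰ is the k-unipotent radical of G⁰
(the largest normal closed subgroup scheme of G⁰, smooth and quasi-compact over k, with connected
geometric fibre containing no non-trivial subtorus), then the composite U ⟶ G⁰ ⟶ G is the
k-unipotent radical of G. -/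
theorem result (k : Type u) [Field k]
    (G G₀ U : Over (Spec (CommRingCat.of k))) [GrpObj G] [GrpObj G₀] [GrpObj U] [IsAffine G.left] [Smooth G.hom]
    (j : G₀ ⟶ G) [IsMonHom j] [IsOpenImmersion j.left] [ConnectedSpace ↥G₀.left]
    (u : U ⟶ G₀) (hu : Par.IsUnipotentRadical u) : Par.IsUnipotentRadical (u ≫ j) := by
  classical
  obtain ⟨hum, huc, hun, hus, huq, hufib, huuniv⟩ := id hu
  haveI := hum; haveI := huc; haveI := hus
  haveI : LocallyOfFiniteType G.hom := inferInstance
  haveI : QuasiCompact G.hom := inferInstance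
  haveI : IsClosedImmersion j.left := Groth.Agent.H19Alb.isClosedImmersion_of_open j
  haveI : Mono j := Over.mono_of_mono_left _
  haveI : Smooth G₀.hom := by rw [← Over.w j]; infer_instance
  haveI : Smooth (G ⊗ U).hom := Groth.Agent.H19Grp.PointsDense.smooth_tensor G U
  haveI : IsAffine G₀.left := isAffine_of_isAffineHom j.left
  haveI : IsAffine U.left := isAffine_of_isAffineHom u.left
  haveI : GeometricallyReduced (G ⊗ U).hom := Groth.Agent.H19Grp.geometricallyReduced_of_smooth (G ⊗ U).hom
  haveI : IsAffine (G ⊗ U).left := inferInstanceAs (IsAffine (pullback G.hom U.hom))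
  let f := cfam (u ≫ j)
  obtain ⟨gGen, hιm⟩ := exists_grpObj_gen (X := fun _ : PUnit.{u+1} => G ⊗ U) f
  letI := gGen; haveI := hιm
  let N := gen (X := fun _ : PUnit.{u+1} => G ⊗ U) f
  let ι₀ : N ⟶ G := genι f
  haveI : GeometricallyReduced N.hom := geometricallyReduced_gen f
  haveI : IsClosedImmersion ι₀.left := inferInstanceAs (IsClosedImmersion (genι f).left)
  haveI : IsMonHom ι₀ := hιm
  haveI : LocallyOfFiniteType N.hom := by rw [← Over.w ι₀]; infer_instance
  haveI : QuasiCompact N.hom := by rw [← Over.w ι₀]; infer_instance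
  haveI : Smooth N.hom := by
    letI hH : GrpObj N := inferInstance
    letI : GrpObj (Over.mk N.hom) := hH
    exact smooth_of_grpObj N.hom
  -- the geometric fibres
  have hfib : ∀ s, ConnectedSpace (Red.geomFibre s N).left ∧
      Red.HasNoSubtorus (AlgebraicClosure ((Spec (CommRingCat.of k)).residueField s)) (Red.geomFibre s N) := by
    intro s
    let v := Red.geomPt s
    let K := AlgebraicClosure ((Spec (CommRingCat.of k)).residueField s)
    haveI : IsMonHom ((Over.pullback v).map j : Red.bc v G₀ ⟶ Red.bc v G) := Groth.Agent.H21Diag.isMonHom_bcMap _ j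
    haveI : IsMonHom ((Over.pullback v).map u : Red.bc v U ⟶ Red.bc v G₀) := Groth.Agent.H21Diag.isMonHom_bcMap _ u
    haveI : IsMonHom ((Over.pullback v).map ι₀ : Red.bc v N ⟶ Red.bc v G) := Groth.Agent.H21Diag.isMonHom_bcMap _ ι₀
    haveI : IsAffine (Red.bc v G).left := inferInstanceAs (IsAffine (pullback G.hom v))
    haveI : Smooth (Red.bc v G).hom := inferInstanceAs (Smooth (pullback.snd G.hom v))
    haveI : Smooth (Red.bc v U).hom := inferInstanceAs (Smooth (pullback.snd U.hom v))
    haveI : IsOpenImmersion ((Over.pullback v).map j : Red.bc v G₀ ⟶ Red.bc v G).left :=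
      MorphismProperty.baseChange_map v j inferInstance
    haveI : IsClosedImmersion ((Over.pullback v).map j : Red.bc v G₀ ⟶ Red.bc v G).left :=
      MorphismProperty.baseChange_map v j inferInstance
    haveI : IsClosedImmersion ((Over.pullback v).map u : Red.bc v U ⟶ Red.bc v G₀).left :=
      MorphismProperty.baseChange_map v u inferInstance
    haveI : IsClosedImmersion ((Over.pullback v).map ι₀ : Red.bc v N ⟶ Red.bc v G).left :=
      MorphismProperty.baseChange_map v ι₀ inferInstance
    haveI : LocallyOfFiniteType G₀.hom := inferInstance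
    haveI : GeometricallyIrreducible G₀.hom := Groth.Agent.H19Grp.geometricallyIrreducible_of_connectedSpace_group G₀
    haveI : IrreducibleSpace (Red.bc v G₀).left :=
      GeometricallyIrreducible.geometrically_irreducibleSpace _ _ _ (IsPullback.of_hasPullback G₀.hom v)
    haveI : ConnectedSpace (Red.bc v G₀).left := inferInstance
    haveI : ConnectedSpace (Red.bc v U).left := (hufib s).1
    obtain ⟨M, gM, iM, hMm, hMci, hMns, hMpts⟩ := H19Unip.exists_conjugates_le ((Over.pullback v).map j)
      ((Over.pullback v).map u) (Groth.Agent.H20Red.isNormalHom_bcMap v u hun) (hufib s).2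
    letI := gM; haveI := hMm; haveI := hMci
    let Q := (Over.pullback v).obj (G ⊗ U)
    haveI : IsAffine Q.left := inferInstanceAs (IsAffine (pullback (G ⊗ U).hom v))
    haveI : Smooth Q.hom := inferInstanceAs (Smooth (pullback.snd (G ⊗ U).hom v))
    haveI : LocallyOfFiniteType Q.hom := inferInstance
    haveI : AlgebraicGeometry.IsReduced Q.left := Groth.Agent.H13AlgSp.isReduced_of_smooth_mor Q.hom
    have hgen : ∀ i : PUnit.{u+1}, ∃ g, g ≫ iM = (Over.pullback v).map (f i) := fun i => by
      refine exists_factor_pts iM ((Over.pullback v).map (f i) : Q ⟶ Red.bc v G) fun y => ?_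
      obtain ⟨m, hm⟩ := hMpts (y ≫ (Over.pullback v).map (fst G U)) (y ≫ (Over.pullback v).map (snd G U))
      refine ⟨m, hm.trans ?_⟩
      simp only [f, cfam, Functor.map_mul, Functor.map_inv', Functor.map_comp, MonObj.comp_mul,
        GrpObj.comp_inv, Category.assoc]
    obtain ⟨gK, hgK⟩ := gen_bc_le v f iM hgen
    haveI : Mono ((Over.pullback v).map ι₀ : Red.bc v N ⟶ Red.bc v G) := Over.mono_of_mono_left _
    haveI : IsMonHom gK := by
      haveI : IsMonHom (gK ≫ iM) := by rw [hgK]; exact inferInstanceAs (IsMonHom ((Over.pullback v).map ι₀))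
      haveI : Mono iM := Over.mono_of_mono_left _
      exact Groth.Agent.H21Diag.isMonHom_of_comp_mono gK iM
    haveI : Mono gK := by
      haveI : Mono (gK ≫ iM) := by rw [hgK]; exact inferInstanceAs (Mono ((Over.pullback v).map ι₀))
      exact mono_of_mono gK iM
    refine ⟨?_, fun T _ t _ _ hT => hMns T (t ≫ gK) hT⟩
    -- connectedness: the identity component contains the generators
    haveI : LocallyOfFiniteType (Red.bc v N).hom := inferInstanceAs (LocallyOfFiniteType (pullback.snd N.hom v))
    haveI : QuasiCompact (Red.bc v N).hom := inferInstanceAs (QuasiCompact (pullback.snd N.hom v))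
    haveI : IsAffine (Red.bc v N).left := isAffine_of_isAffineHom ((Over.pullback v).map ι₀ : Red.bc v N ⟶ Red.bc v G).left
    obtain ⟨L, gL, l, hlm, hlc, hlo, hLc, -, -, h1⟩ := Groth.Agent.H19Chev.exists_open_idComp (Red.bc v N)
    letI := gL; haveI := hlm; haveI := hlc; haveI := hlo; haveI := hLc
    haveI : IsImmersion (l ≫ (Over.pullback v).map ι₀).left := by rw [Over.comp_left]; infer_instance
    obtain ⟨d, hd⟩ := exists_gen_lift f PUnit.unit
    have hgenL : ∀ i : PUnit.{u+1}, ∃ g, g ≫ l ≫ (Over.pullback v).map ι₀ = (Over.pullback v).map (f i) := fun i => by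
      obtain ⟨g, hg⟩ : ∃ g, g ≫ l = ((Over.pullback v).map d : Q ⟶ Red.bc v N) := by
        refine exists_factor_pts l _ fun y => ?_
        let w : 𝟙_ _ ⟶ Red.bc v U := y ≫ (Over.pullback v).map (snd G U)
        let g₀ : Red.bc v U ⟶ Q := Groth.Agent.H21Diag.bcEquiv v (G ⊗ U) (Red.bc v U)
          (lift ((Groth.Agent.H21Diag.bcEquiv v G _).symm (toUnit (Red.bc v U) ≫ y ≫ (Over.pullback v).map (fst G U)))
            ((Groth.Agent.H21Diag.bcEquiv v U _).symm (𝟙 (Red.bc v U))))
        have hfst : g₀ ≫ (Over.pullback v).map (fst G U) =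
            toUnit (Red.bc v U) ≫ y ≫ (Over.pullback v).map (fst G U) := by
          apply (Groth.Agent.H21Diag.bcEquiv v G _).symm.injective
          rw [Groth.Agent.H21Diag.bcEquiv_symm_comp_map, Equiv.symm_apply_apply, lift_fst]
        have hsnd : g₀ ≫ (Over.pullback v).map (snd G U) = 𝟙 (Red.bc v U) := by
          apply (Groth.Agent.H21Diag.bcEquiv v U _).symm.injective
          rw [Groth.Agent.H21Diag.bcEquiv_symm_comp_map, Equiv.symm_apply_apply, lift_snd]
        have hext : ∀ {R : Over (Spec (CommRingCat.of K))} (p q : R ⟶ Q),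
            p ≫ (Over.pullback v).map (fst G U) = q ≫ (Over.pullback v).map (fst G U) →
            p ≫ (Over.pullback v).map (snd G U) = q ≫ (Over.pullback v).map (snd G U) → p = q := by
          intro R p q e1 e2
          apply (Groth.Agent.H21Diag.bcEquiv v (G ⊗ U) R).symm.injective
          apply CartesianMonoidalCategory.hom_ext
          · rw [← Groth.Agent.H21Diag.bcEquiv_symm_comp_map, e1, Groth.Agent.H21Diag.bcEquiv_symm_comp_map]
          · rw [← Groth.Agent.H21Diag.bcEquiv_symm_comp_map, e2, Groth.Agent.H21Diag.bcEquiv_symm_comp_map]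
        have hy : w ≫ g₀ = y := hext _ _
          (by rw [Category.assoc, hfst, ← Category.assoc, toUnit_unique (w ≫ toUnit _) (𝟙 _), Category.id_comp])
          (by rw [Category.assoc, hsnd, Category.comp_id])
        let h : Red.bc v U ⟶ Red.bc v N := g₀ ≫ (Over.pullback v).map d
        have h11 : (1 : 𝟙_ _ ⟶ Red.bc v U) ≫ h = 1 := by
          refine (cancel_mono ((Over.pullback v).map ι₀ : Red.bc v N ⟶ Red.bc v G)).mp ?_
          simp only [h, Category.assoc]
          conv_rhs => rw [MonObj.one_comp]
          rw [← Functor.map_comp, hd]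
          simp only [f, cfam, Functor.map_mul, Functor.map_inv', Functor.map_comp,
            MonObj.comp_mul, GrpObj.comp_inv]
          rw [reassoc_of% hsnd, hfst, ← Category.assoc (1 : 𝟙_ _ ⟶ Red.bc v U) (toUnit _),
            toUnit_unique ((1 : 𝟙_ _ ⟶ Red.bc v U) ≫ toUnit _) (𝟙 _), Category.id_comp, MonObj.one_comp,
            _root_.mul_one, mul_inv_cancel]
        obtain ⟨h', hh'⟩ := H19Unip.exists_lift_open l h
          (Groth.Agent.H19Chev.range_subset_idComp l h1 h 1 h11)
        exact ⟨w ≫ h', by rw [Category.assoc, hh', ← Category.assoc, hy]⟩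
      exact ⟨g, by rw [← Category.assoc, hg, ← Functor.map_comp, hd]⟩
    obtain ⟨gL', hgL'⟩ := gen_bc_le v f (l ≫ (Over.pullback v).map ι₀) hgenL
    have hid : gL' ≫ l = 𝟙 (Red.bc v N) :=
      (cancel_mono ((Over.pullback v).map ι₀ : Red.bc v N ⟶ Red.bc v G)).mp
        (by rw [Category.assoc, hgL', Category.id_comp])
    have hsurj : Function.Surjective l.left := fun x => ⟨gL'.left x, by
      rw [← Scheme.Hom.comp_apply, ← Over.comp_left, hid]; rfl⟩
    exact hsurj.connectedSpace l.left.continuous
  -- the group lies in the identity component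
  haveI : Nonempty ↥(Spec (CommRingCat.of k)) := inferInstance
  have hconn : ∀ (W : Over (Spec (CommRingCat.of k))), (∀ s, ConnectedSpace (Red.geomFibre s W).left) →
      ConnectedSpace W.left := fun W hW => by
    obtain ⟨s⟩ := ‹Nonempty ↥(Spec (CommRingCat.of k))›
    haveI : ConnectedSpace ↥(pullback W.hom (Red.geomPt s)) := hW s
    haveI : Surjective (Red.geomPt s) := ⟨fun x => ⟨default, Subsingleton.elim _ _⟩⟩
    exact (pullback.fst W.hom (Red.geomPt s)).surjective.connectedSpace
      (pullback.fst W.hom (Red.geomPt s)).continuous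
  haveI : ConnectedSpace N.left := hconn N fun s => (hfib s).1
  obtain ⟨i₀, hi₀⟩ := H19Unip.exists_lift_open j ι₀ (Groth.Agent.H19Alb.range_subset_open_subgroup j ι₀)
  haveI : IsMonHom i₀ := by
    haveI : IsMonHom (i₀ ≫ j) := by rw [hi₀]; infer_instance
    exact Groth.Agent.H21Diag.isMonHom_of_comp_mono i₀ j
  haveI : IsClosedImmersion i₀.left := by
    haveI : IsClosedImmersion (i₀.left ≫ j.left) := by rw [← Over.comp_left, hi₀]; infer_instance
    exact IsClosedImmersion.of_comp i₀.left j.left
  have hn : AlgGrp.IsNormalHom ι₀ := by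
    obtain ⟨m, hm⟩ : ∃ m : N ⊗ G ⟶ N, m ≫ ι₀ = snd N G * (fst N G ≫ ι₀) * (snd N G)⁻¹ := by
      refine exists_factor (dominant_tensor (dominant_wordLift f) G) ι₀ _ fun l => ?_
      obtain ⟨m, hm⟩ := factor_gen_of_isWord f (isWord_conj (u ≫ j)
        (isWord_comp (fst _ G) (isWord_word (f := f) l)) (snd _ G))
      refine ⟨m, hm.trans ?_⟩
      simp only [N, ι₀, MonObj.comp_mul, GrpObj.comp_inv, whiskerRight_snd, whiskerRight_fst_assoc, wordLift_ι]
    intro T g n
    exact ⟨lift n g ≫ m, by rw [Category.assoc, hm, MonObj.comp_mul, MonObj.comp_mul, GrpObj.comp_inv,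
      lift_fst_assoc, lift_snd]⟩
  have hi₀n : AlgGrp.IsNormalHom i₀ := fun T g n => by
    obtain ⟨n', hn'⟩ := hn T (g ≫ j) n
    refine ⟨n', (cancel_mono j).mp ?_⟩
    simp only [MonObj.mul_comp, GrpObj.inv_comp, Category.assoc, hi₀]
    exact hn'
  obtain ⟨φ, hφ⟩ := huuniv N i₀ inferInstance hi₀n inferInstance inferInstance hfib
  refine ⟨inferInstance, by rw [Over.comp_left]; infer_instance, fun T g n => ?_, hus, huq, hufib, ?_⟩
  · obtain ⟨d, hd⟩ := exists_gen_lift f PUnit.unit
    refine ⟨(lift g n ≫ d) ≫ φ, ?_⟩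
    rw [Category.assoc, ← Category.assoc φ, hφ, hi₀, Category.assoc, hd]
    simp only [f, cfam, MonObj.comp_mul, GrpObj.comp_inv, lift_fst, lift_snd_assoc]
  · intro U' _ u' _ hci' hn' hs' hq' hfib'
    haveI := hs'; haveI := hci'
    haveI : ConnectedSpace U'.left := hconn U' fun s => (hfib' s).1
    obtain ⟨w, hw⟩ := H19Unip.exists_lift_open j u' (Groth.Agent.H19Alb.range_subset_open_subgroup j u')
    haveI : IsMonHom w := by
      haveI : IsMonHom (w ≫ j) := by rw [hw]; infer_instance
      exact Groth.Agent.H21Diag.isMonHom_of_comp_mono w j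
    haveI : IsClosedImmersion w.left := by
      haveI : IsClosedImmersion (w.left ≫ j.left) := by rw [← Over.comp_left, hw]; infer_instance
      exact IsClosedImmersion.of_comp w.left j.left
    obtain ⟨e, he⟩ := huuniv U' w inferInstance (fun T g n => by
      obtain ⟨n', hn''⟩ := hn' T (g ≫ j) n
      refine ⟨n', (cancel_mono j).mp ?_⟩
      simp only [MonObj.mul_comp, GrpObj.inv_comp, Category.assoc, hw]
      exact hn'') hs' hq' hfib'
    exact ⟨e, by rw [← Category.assoc, he, hw]⟩

end Groth.Agent.S15600
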