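import Groth.Statements.S15601
import Groth.Agent.S3266
import Groth.Agent.S3267
import Groth.Agent.H20Comod.Flag

set_option backward.isDefEq.respectTransparency false
-- import your own Groth.Agent.* helpers here

set_option autoImplicit false
universe u v
open HopfRep

namespace Groth.Agent.S15601

/-- Let k be an algebraically closed field and G = Spec A a smooth connected affine k-group: A is a
finitely generated commutative Hopf algebra over k which is reduced and has no idempotents other
than 0 and 1. Suppose G is solvable, i.e. the group G(k) of k-algebra maps A → k under convolution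
is solvable. Then the derived group of G is unipotent: every element of the commutator subgroup of
G(k) acts in every finite-dimensional A-comodule by an operator u with u − 1 nilpotent. (Stated over
an algebraically closed field, where the derived group is determined by the commutators of k-points;
the case of a general field reduces to this one.) -/
theorem result (k : Type u) [Field k] [IsAlgClosed k]
    (A : Type v) [CommRing A] [HopfAlgebra k A] [Algebra.FiniteType k A] [IsReduced A]
    (hconn : ∀ e : A, IsIdempotentElem e → e = 0 ∨ e = 1)
    [Group.IsSolvable (WithConv (A →ₐ[k] k))]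
    (g : WithConv (A →ₐ[k] k)) (hg : g ∈ commutator (WithConv (A →ₐ[k] k)))
    (V : Type v) [AddCommGroup V] [Module k V] [HopfRep.Comod k A V] [Module.Finite k V] :
    IsNilpotent (HopfRep.Comod.act k A V g.ofConv - 1) := by
  classical
  have hT : HopfRep.IsTrigonalizable k A := Groth.Agent.S3266.result k A hconn
  obtain ⟨F, hmono, hF, hrank⟩ := Groth.Agent.H20Comod.exists_flag
    (Groth.Agent.H20Comod.exists_line_of_isTrigonalizable hT) V
  let ρ := Groth.Agent.H20Comod.LieKolchin.pointRep k A V
  have hstab : ∀ i (x : WithConv (A →ₐ[k] k)), ∀ v ∈ F i, ρ x v ∈ F i := fun i x v hv =>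
    Groth.Agent.H20Comod.actL_mem_of_isSubcomod (hF.isSub i) _ hv
  have h1 : ∀ i, ∃ e ∈ F (i + 1), F (i + 1) ≤ F i ⊔ Submodule.span k {e} := by
    intro i
    obtain ⟨x, hx⟩ := hF.step i
    by_cases hle : F (i + 1) ≤ F i
    · exact ⟨0, zero_mem _, hle.trans le_sup_left⟩
    obtain ⟨y, hy, hyn⟩ := SetLike.not_le_iff_exists.mp hle
    obtain ⟨a, ha, b, hb, hab⟩ := Submodule.mem_sup.mp (hx hy)
    obtain ⟨c, rfl⟩ := Submodule.mem_span_singleton.mp hb
    have hc : c ≠ 0 := fun h => hyn (by rw [← hab, h, zero_smul, add_zero]; exact ha)
    refine ⟨y, hy, hx.trans (sup_le le_sup_left ((Submodule.span_singleton_le_iff_mem _ _).2 ?_))⟩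
    have hcx : c • x ∈ F i ⊔ Submodule.span k {y} := by
      rw [show c • x = y - a by rw [← hab]; abel]
      exact sub_mem (Submodule.mem_sup_right (Submodule.mem_span_singleton_self y)) (Submodule.mem_sup_left ha)
    exact (Submodule.smul_mem_iff _ hc).mp hcx
  have hle : commutator (WithConv (A →ₐ[k] k)) ≤ Groth.Agent.S3267.lowering ρ F hstab 1 := by
    rw [commutator_def, Subgroup.commutator_le]
    intro a _ b _
    exact Groth.Agent.S3267.commutator_lowers ρ F hstab h1 a b
  have hg' := hle hg
  have hpow : ∀ m i, ∀ v ∈ F i, ((ρ g - 1) ^ m) v ∈ F (i - m) := by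
    intro m
    induction m with
    | zero => exact fun i v hv => by simpa using hv
    | succ m ih =>
      intro i v hv
      rw [pow_succ, Module.End.mul_apply]
      rcases Nat.eq_zero_or_pos i with rfl | hi
      · rw [hF.zero, Submodule.mem_bot] at hv
        simp [hv]
      · have h2 : (ρ g - 1) v ∈ F (i - 1) := by
          rw [LinearMap.sub_apply, Module.End.one_apply]
          exact hg' (i - 1) v (by rw [Nat.sub_add_cancel hi]; exact hv)
        have := ih _ _ h2
        rwa [show i - (m + 1) = i - 1 - m by omega]
  have htop : F (Module.finrank k V) = ⊤ := Submodule.eq_top_of_finrank_eq (hrank _ le_rfl)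
  have hact : HopfRep.Comod.act k A V g.ofConv = ρ g := rfl
  refine ⟨Module.finrank k V, LinearMap.ext fun v => ?_⟩
  have := hpow (Module.finrank k V) _ v (by rw [htop]; trivial)
  rw [Nat.sub_self, hF.zero, Submodule.mem_bot] at this
  rw [hact, this, LinearMap.zero_apply]

end Groth.Agent.S15601
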