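import Groth.Statements.S15602
import Groth.Agent.H19Grp.AffineLineLaw

set_option autoImplicit false
set_option linter.style.haveILetI false
set_option backward.isDefEq.respectTransparency false
universe u
open CategoryTheory MonoidalCategory CartesianMonoidalCategory MonObj GrpObj AlgebraicGeometry
open AlgGrp

namespace Groth.Agent.S15602

/-- Additive case. Let k be a field and consider the affine line over k, taken here as the underlying
k-scheme of the additive group. Any two structures of k-group scheme on it with the same unit
section have the same multiplication; in particular a group law on the affine line whose identity is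
the origin is the usual addition. -/
theorem result (k : Type u) [Field k]
    (h₁ h₂ : GrpObj (Red.Ga (Spec (CommRingCat.of k)))) (e : h₁.one = h₂.one) : h₁.mul = h₂.mul := by
  haveI : IsAffine (Red.Ga (Spec (CommRingCat.of k)) ⊗ Red.Ga (Spec (CommRingCat.of k))).left :=
    H19Grp.AffineLineLaw.isAffine_bc_tensor
  obtain ⟨e₁, h1o, h1⟩ := H19Grp.AffineLineLaw.add_law h₁
  obtain ⟨e₂, h2o, h2⟩ := H19Grp.AffineLineLaw.add_law h₂
  have he : e₁ = e₂ := by
    have ho := h1o k
    rw [e, h2o k] at ho
    exact ho.symm
  refine H19Grp.AffineLineLaw.mul_ext _ _ fun R _ _ a b => H19Grp.AffineLineLaw.val_injective ?_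
  rw [h1, h2, he]

end Groth.Agent.S15602
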