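import Groth.Statements.S15603
import Groth.Agent.H19Grp.PuncturedLineLaw

set_option autoImplicit false
set_option linter.style.haveILetI false
set_option backward.isDefEq.respectTransparency false
universe u
open CategoryTheory MonoidalCategory CartesianMonoidalCategory MonObj GrpObj AlgebraicGeometry
open AlgGrp

namespace Groth.Agent.S15603

/-- Multiplicative case. Let k be a field and consider the affine line minus the origin over k, taken
here as the underlying k-scheme of the multiplicative group. Any two structures of k-group scheme on
it with the same unit section have the same multiplication; in particular a group law on the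
punctured line whose identity is the point 1 is the usual multiplication. -/
theorem result (k : Type u) [Field k]
    (h₁ h₂ : GrpObj (Red.Gm (Spec (CommRingCat.of k)))) (e : h₁.one = h₂.one) : h₁.mul = h₂.mul := by
  haveI : IsAffine (Red.Gm (Spec (CommRingCat.of k)) ⊗ Red.Gm (Spec (CommRingCat.of k))).left :=
    H19Grp.AffineLineLaw.isAffine_bc_tensor
  obtain ⟨e₁, h1o, h1⟩ := H19Grp.PuncturedLineLaw.mul_law h₁
  obtain ⟨e₂, h2o, h2⟩ := H19Grp.PuncturedLineLaw.mul_law h₂
  have he : e₁ = e₂ := by
    have ho := h1o k
    rw [e, h2o k] at ho
    exact Units.ext (congrArg Units.val ho).symm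
  refine H19Grp.AffineLineLaw.mul_ext _ _ fun R _ _ a b => H19Grp.PuncturedLineLaw.val_injective ?_
  rw [h1, h2, he]

end Groth.Agent.S15603
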