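import Groth.Statements.S15604
import Groth.Agent.H19Grp.ImageGroup

set_option autoImplicit false
set_option linter.style.haveILetI false
set_option backward.isDefEq.respectTransparency false
universe u
open CategoryTheory MonoidalCategory CartesianMonoidalCategory MonObj GrpObj AlgebraicGeometry
open AlgGrp

namespace Groth.Agent.S15604

/-- Let k be a field and f : G ⟶ G' a homomorphism of k-group schemes of finite type, with G smooth over
k. The image of f is closed (not asserted here); with its reduced induced structure it is smooth
over k: every reduced closed subscheme H of G' whose underlying set is the set-theoretic image of f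
is smooth over k. -/
theorem result (k : Type u) [Field k]
    (G G' : Over (Spec (CommRingCat.of k))) [GrpObj G] [GrpObj G'] [Smooth G.hom] [QuasiCompact G.hom]
    [LocallyOfFiniteType G'.hom] [QuasiCompact G'.hom] (f : G ⟶ G') [IsMonHom f]
    (H : Scheme.{u}) (i : H ⟶ G'.left) [IsClosedImmersion i] [IsReduced H]
    (hH : Set.range i.base = Set.range f.left.base) : Smooth (i ≫ G'.hom) := by
  let H' : Over (Spec (CommRingCat.of k)) := Over.mk (i ≫ G'.hom)
  let i' : H' ⟶ G' := Over.homMk i
  haveI : IsClosedImmersion i'.left := ‹IsClosedImmersion i›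
  haveI : IsReduced H'.left := ‹IsReduced H›
  haveI : GeometricallyReduced G.hom := H19Grp.geometricallyReduced_of_smooth G.hom
  haveI : IsReduced G.left :=
    GeometricallyReduced.isReduced_of_flat_of_isLocallyNoetherian G.hom
  obtain ⟨g, hg⟩ := H17.exists_lift_of_range_subset f.left i hH.ge
  haveI hgs : Surjective g := ⟨fun h => by
    obtain ⟨x, hx⟩ := hH.le ⟨h, rfl⟩
    refine ⟨x, i.isClosedEmbedding.injective ?_⟩
    rw [← Scheme.Hom.comp_apply, hg]; exact hx⟩
  let g' : G ⟶ H' := Over.homMk g (by
    show g ≫ i ≫ G'.hom = G.hom
    rw [← Category.assoc, hg, Over.w f])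
  haveI : Surjective g'.left := hgs
  haveI : QuasiCompact (f.left ≫ G'.hom) := by rw [Over.w f]; infer_instance
  haveI : QuasiCompact (g ≫ i ≫ G'.hom) := by rw [← Category.assoc, hg]; infer_instance
  haveI : LocallyOfFiniteType (i ≫ G'.hom) := inferInstance
  haveI : IsLocallyNoetherian H := LocallyOfFiniteType.isLocallyNoetherian (i ≫ G'.hom)
  haveI : QuasiCompact g := QuasiCompact.of_comp g (i ≫ G'.hom)
  haveI : GeometricallyReduced (g ≫ H'.hom) := by
    show GeometricallyReduced (g ≫ i ≫ G'.hom)
    rw [← Category.assoc, hg, Over.w f]; infer_instance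
  haveI : GeometricallyReduced H'.hom := H19Grp.geometricallyReduced_of_surjective g H'.hom
  exact H19Grp.smooth_image f H' i' g' (Over.OverMorphism.ext hg)

end Groth.Agent.S15604
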