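import Groth.Statements.S15605
import Groth.Agent.H19Grp.Separating

set_option autoImplicit false
universe u
open TensorProduct
open AGF

namespace Groth.Agent.S15605

/-- Affine form. Let k be a field, A and A' finitely generated commutative k-algebras and S, S' sets of
k-algebra homomorphisms A → k, A' → k. The closure of a set of rational points of Spec A is cut out
by the intersection of their kernels. Compatibility of these closures with products: in A ⊗_k A',
the intersection over (σ, σ') ∈ S × S' of the kernels of σ ⊗ σ' : A ⊗_k A' → k equals the ideal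
generated by the images of ⋂_{σ} ker σ and of ⋂_{σ'} ker σ'. -/
theorem result (k A A' : Type u) [Field k] [CommRing A] [Algebra k A]
    [Algebra.FiniteType k A] [CommRing A'] [Algebra k A'] [Algebra.FiniteType k A']
    (S : Set (A →ₐ[k] k)) (S' : Set (A' →ₐ[k] k)) :
    (⨅ σ ∈ S, ⨅ σ' ∈ S', RingHom.ker ((Algebra.TensorProduct.lmul' (S := k) k).comp
        (Algebra.TensorProduct.map σ σ'))) =
      Ideal.map (Algebra.TensorProduct.includeLeft : A →ₐ[k] A ⊗[k] A') (⨅ σ ∈ S, RingHom.ker σ) ⊔
        Ideal.map (Algebra.TensorProduct.includeRight : A' →ₐ[k] A ⊗[k] A') (⨅ σ' ∈ S', RingHom.ker σ') := by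
  set I := ⨅ σ ∈ S, RingHom.ker σ with hI
  set I' := ⨅ σ' ∈ S', RingHom.ker σ' with hI'
  apply le_antisymm
  · intro z hz
    simp only [Ideal.mem_iInf, RingHom.mem_ker] at hz
    let π : A →ₐ[k] A ⧸ I := Ideal.Quotient.mkₐ k I
    let π' : A' →ₐ[k] A' ⧸ I' := Ideal.Quotient.mkₐ k I'
    have hker := Algebra.TensorProduct.map_ker π π' (Ideal.Quotient.mkₐ_surjective k I)
      (Ideal.Quotient.mkₐ_surjective k I')
    have hπ : RingHom.ker π = I := Ideal.Quotient.mkₐ_ker k I
    have hπ' : RingHom.ker π' = I' := Ideal.Quotient.mkₐ_ker k I'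
    rw [hπ, hπ'] at hker
    rw [← hker, RingHom.mem_ker]
    refine Groth.Agent.H19Grp.eq_zero_of_separating
      {f | ∃ σ ∈ S, f.comp π.toLinearMap = σ.toLinearMap} ?_ _ ?_
    · intro v hv
      obtain ⟨a, rfl⟩ := Ideal.Quotient.mk_surjective v
      rw [Ideal.Quotient.eq_zero_iff_mem, hI]
      simp only [Ideal.mem_iInf, RingHom.mem_ker]
      intro σ hσ
      have hle : I ≤ RingHom.ker σ := iInf₂_le σ hσ
      exact hv (Ideal.Quotient.liftₐ I σ fun x hx => hle hx).toLinearMap
        ⟨σ, hσ, by ext x; rfl⟩
    · rintro f ⟨σ, hσ, hf⟩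
      have key : ∀ y : A ⊗[k] A', TensorProduct.lid k _ (f.rTensor _
          (Algebra.TensorProduct.map π π' y)) =
          π' (TensorProduct.lid k _ (σ.toLinearMap.rTensor _ y)) := by
        intro y
        induction y using TensorProduct.induction_on with
        | zero => simp
        | tmul a b =>
          have := LinearMap.congr_fun hf a
          simp only [LinearMap.comp_apply, AlgHom.toLinearMap_apply] at this
          simp [this]
        | add x y hx hy => simp only [map_add, hx, hy]
      rw [key]
      show Ideal.Quotient.mk I' _ = 0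
      rw [Ideal.Quotient.eq_zero_iff_mem, hI']
      simp only [Ideal.mem_iInf, RingHom.mem_ker]
      intro σ' hσ'
      rw [← hz σ hσ σ' hσ']
      clear key hz hker
      induction z using TensorProduct.induction_on with
      | zero => simp
      | tmul a b => simp
      | add x y hx hy => simp only [map_add, hx, hy]
  · refine le_iInf₂ fun σ hσ => le_iInf₂ fun σ' hσ' => sup_le ?_ ?_ <;>
      rw [Ideal.map_le_iff_le_comap]
    · intro a ha
      simp only [hI, Ideal.mem_iInf, RingHom.mem_ker] at ha
      simp [RingHom.mem_ker, ha σ hσ]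
    · intro a ha
      simp only [hI', Ideal.mem_iInf, RingHom.mem_ker] at ha
      simp [RingHom.mem_ker, ha σ' hσ']

end Groth.Agent.S15605
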