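import Groth.Statements.S15606
import Groth.Agent.H20DimOne.GaQuot

set_option autoImplicit false
universe u
open CategoryTheory MonoidalCategory CartesianMonoidalCategory MonObj GrpObj AlgebraicGeometry
open AlgGrp

namespace Groth.Agent.S15606

/-- Additive case. Let k be a field, H an affine smooth connected k-group scheme, and f a homomorphism
from the additive group over k to H which is finite and surjective (an isogeny onto H). Then H is
isomorphic, as a k-group scheme, to the additive group. In particular every quotient of the additive
group by a finite k-subgroup scheme is isomorphic to the additive group over k itself, for any field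
k. -/
theorem result (k : Type u) [Field k]
    (H : Over (Spec (CommRingCat.of k))) [GrpObj H] [IsAffine H.left] [Smooth H.hom] [ConnectedSpace ↥H.left]
    (f : Red.Ga (Spec (CommRingCat.of k)) ⟶ H) [IsMonHom f] [IsFinite f.left] [Surjective f.left] :
    Nonempty (Grp.mk H ≅ Grp.mk (Red.Ga (Spec (CommRingCat.of k)))) := by
  exact H20DimOne.nonempty_iso_Ga H f

end Groth.Agent.S15606
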