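import Groth.Statements.S18072
import Groth.Agent.H19Chev.UnipotentIsogeny
import Groth.Agent.H19Chev.IsogenyProperties
import Groth.Agent.H19Chev.PowAffine
import Groth.Agent.H19Grp.AffineQuotient

set_option autoImplicit false
set_option maxHeartbeats 1000000
set_option synthInstance.maxHeartbeats 100000
set_option linter.style.haveILetI false
set_option backward.isDefEq.respectTransparency false
universe u
open CategoryTheory MonoidalCategory CartesianMonoidalCategory MonObj GrpObj AlgebraicGeometry CategoryTheory.Limits
open AlgGrp

namespace Groth.Agent.S18072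

open Groth.Agent
open CategoryTheory.Limits
attribute [local instance 2000] Hom.group Hom.monoid

theorem comm_of_isCommMonObj {C : Type*} [Category C] [CartesianMonoidalCategory C] [BraidedCategory C]
    {G : C} [GrpObj G] [IsCommMonObj G] {X : C} (a b : X ⟶ G) : a * b = b * a :=
  _root_.mul_comm a b


/-- Let F be a field and f : G → H an isogeny between affine smooth connected F-groups (a surjective
homomorphism with finite kernel, i.e. surjective and finite). Then each of the properties unipotent,
solvable, nilpotent and commutative holds for G exactly when it holds for H; here unipotence is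
expressed as: the base change to an algebraic closure contains no non-trivial subtorus, solvable and
nilpotent through the derived and upper central series of the groups of points. -/
theorem result (F : Type u) [Field F]
    (G H : Over (Spec (CommRingCat.of F))) [GrpObj G] [Smooth G.hom] [QuasiCompact G.hom] [IsAffine G.left] [ConnectedSpace ↥G.left]
    [GrpObj H] [Smooth H.hom] [QuasiCompact H.hom] [IsAffine H.left] [ConnectedSpace ↥H.left]
    (f : G ⟶ H) [IsMonHom f] [Surjective f.left] [IsFinite f.left] :
    (Red.HasNoSubtorus (AlgebraicClosure F) (Red.bc (Spec.map (CommRingCat.ofHom (algebraMap F (AlgebraicClosure F)))) G) ↔ Red.HasNoSubtorus (AlgebraicClosure F) (Red.bc (Spec.map (CommRingCat.ofHom (algebraMap F (AlgebraicClosure F)))) H)) ∧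
    (Red.IsSolvableGrp G ↔ Red.IsSolvableGrp H) ∧ (AGF.IsNilpotentGrp G ↔ AGF.IsNilpotentGrp H) ∧
    (IsCommMonObj G ↔ IsCommMonObj H) := by
  haveI : LocallyOfFiniteType G.hom := inferInstance
  haveI : LocallyOfFiniteType H.hom := inferInstance
  let K := AlgebraicClosure F
  let e := Spec.map (CommRingCat.ofHom (algebraMap F K))
  let GK := Red.bc e G
  let HK := Red.bc e H
  let fK : GK ⟶ HK := (Over.pullback e).map f
  haveI : IsMonHom fK := inferInstanceAs (IsMonHom ((Over.pullback e).map f))
  haveI : IsFinite fK.left :=
    MorphismProperty.of_isPullback (P := @IsFinite) (H19Chev.isPullback_bc K f).flip ‹IsFinite f.left›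
  haveI : Surjective fK.left :=
    MorphismProperty.of_isPullback (P := @Surjective) (H19Chev.isPullback_bc K f).flip ‹Surjective f.left›
  haveI : Smooth GK.hom := inferInstanceAs (Smooth (pullback.snd G.hom e))
  haveI : Smooth HK.hom := inferInstanceAs (Smooth (pullback.snd H.hom e))
  haveI : QuasiCompact GK.hom := inferInstanceAs (QuasiCompact (pullback.snd G.hom e))
  haveI : QuasiCompact HK.hom := inferInstanceAs (QuasiCompact (pullback.snd H.hom e))
  haveI : IsAffine GK.left := inferInstanceAs (IsAffine (pullback G.hom e))
  haveI : IsAffine HK.left := inferInstanceAs (IsAffine (pullback H.hom e))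
  haveI : GeometricallyConnected G.hom :=
    H28NT.geometricallyConnected_of_section G.hom η[G].left (Over.w η[G])
  haveI : GeometricallyConnected H.hom :=
    H28NT.geometricallyConnected_of_section H.hom η[H].left (Over.w η[H])
  haveI : ConnectedSpace GK.left := inferInstanceAs (ConnectedSpace ↥(pullback G.hom e))
  haveI : ConnectedSpace HK.left := inferInstanceAs (ConnectedSpace ↥(pullback H.hom e))
  haveI : Flat f.left := H19Grp.flat_of_surjective f
  refine ⟨H19Chev.UnipotentIsogeny.hasNoSubtorus_iff_of_isogeny fK,
    ⟨fun h => H19Grp.PointsSeries.isSolvableGrp_of_surjective f h, fun h => ?_⟩,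
    ⟨fun h => H19Grp.PointsSeries.isNilpotentGrp_of_surjective f h, fun h => ?_⟩, ⟨fun h => ?_, fun h => ?_⟩⟩
  · exact H19Chev.IsogenyProperties.isSolvableGrp_of_bc K G
      (H19Chev.SolvableIsogeny.isSolvableGrp_of_finite_hom fK (H19Chev.IsogenyProperties.isSolvableGrp_bc K H h))
  · obtain ⟨n, hn⟩ := H19Chev.IsogenyProperties.isNilpotentGrp_bc K H h
    refine H19Chev.IsogenyProperties.isNilpotentGrp_of_bc K G
      (H19Chev.IsogenyProperties.isNilpotentGrp_of_points GK (n + 1) (eq_top_iff.2 fun x _ => ?_))
    refine H19Chev.IsogenyProperties.upperCentralSeries_comap_le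
      (H19Chev.UnipotentIsogeny.postHom fK) (fun z hz => Subgroup.mem_center_iff.2 fun g =>
        H19Chev.SolvableIsogeny.central_of_finite_hom fK z g hz) n ?_
    rw [hn, Subgroup.mem_comap]
    trivial
  · haveI : Flat f.left := ‹Flat f.left›
    haveI := h
    haveI : Epi f.left := Flat.epi_of_flat_of_surjective f.left
    haveI : Epi f := Over.epi_of_epi_left f
    have hH : fst H H * snd H H = snd H H * fst H H := by
      obtain ⟨Y, a, b, hab, he⟩ := H19Grp.PointsSeries.exists_pullback (fst H H) f ⟨inferInstance, inferInstance⟩
      obtain ⟨Z, c, d, hcd, he'⟩ := H19Grp.PointsSeries.exists_pullback (a ≫ snd H H) f ⟨inferInstance, inferInstance⟩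
      refine H19Grp.PointsSeries.eq_of_cov (H19Grp.PointsSeries.cov_comp hcd hab) ?_
      have e1 : (c ≫ a) ≫ fst H H = (c ≫ b) ≫ f := by rw [Category.assoc, he, Category.assoc]
      have e2 : (c ≫ a) ≫ snd H H = d ≫ f := by rw [Category.assoc]; exact he'
      rw [MonObj.comp_mul, MonObj.comp_mul, e1, e2, ← MonObj.mul_comp, ← MonObj.mul_comp, comm_of_isCommMonObj]
    refine ⟨?_⟩
    have e1 : fst H H * snd H H = μ[H] := by rw [Hom.mul_def, lift_fst_snd, Category.id_comp]
    rw [← e1, MonObj.comp_mul, braiding_hom_fst, braiding_hom_snd]
    exact hH.symm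
  · haveI := h
    have hG : fst G G * snd G G = snd G G * fst G G := by
      refine H19Chev.IsogenyProperties.comm_of_bc K G ?_ _ _
      intro Y a b
      haveI : IsSeparated GK.hom := inferInstance
      have hall : fst GK GK * snd GK GK = snd GK GK * fst GK GK := by
        haveI : Smooth (GK ⊗ GK).hom := H19Grp.PointsDense.smooth_tensor GK GK
        refine H19Chev.SolvableIsogeny.ext_pts _ _ fun p => ?_
        rw [MonObj.comp_mul, MonObj.comp_mul]
        refine H19Chev.IsogenyProperties.comm_pts_of_finite_hom fK (fun a b => ?_) _ _
        exact (H21Diag.bcEquiv e H _).symm.injective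
          ((map_mul (H21Diag.bcHom e H _) a b).trans ((comm_of_isCommMonObj _ _).trans
            (map_mul (H21Diag.bcHom e H _) b a).symm))
      have := congrArg (lift a b ≫ ·) hall
      simp only [MonObj.comp_mul] at this
      erw [lift_fst, lift_snd] at this
      exact this
    refine ⟨?_⟩
    have e1 : fst G G * snd G G = μ[G] := by rw [Hom.mul_def, lift_fst_snd, Category.id_comp]
    rw [← e1, MonObj.comp_mul, braiding_hom_fst, braiding_hom_snd]
    exact hG.symm

end Groth.Agent.S18072
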