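import Groth.Statements.S15607
import Groth.Agent.H19Chev.SplitIsogeny
import Groth.Agent.H19Chev.TorusCriterion
import Groth.Agent.H21NormExt.Gm
import Groth.Agent.S18072

set_option autoImplicit false
set_option maxHeartbeats 1000000
set_option synthInstance.maxHeartbeats 100000
set_option linter.style.haveILetI false
set_option backward.isDefEq.respectTransparency false
universe u
open CategoryTheory MonoidalCategory CartesianMonoidalCategory MonObj GrpObj AlgebraicGeometry
open AlgGrp

namespace Groth.Agent.S15607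

open CategoryTheory MonoidalCategory CartesianMonoidalCategory AlgebraicGeometry TensorProduct
open Groth.Agent.H19Chev

/-- a cyclic description of a torsion-free group all of whose elements are commensurable to one of them -/
theorem exists_mulEquiv_int {N : Type*} [CommGroup N] [Monoid.FG N]
    (htf : ∀ (n : N) (d : ℕ), 0 < d → n ^ d = 1 → n = 1) (x : N) (hx : x ≠ 1)
    (hcom : ∀ n : N, ∃ (d : ℕ) (j : ℤ), 0 < d ∧ n ^ d = x ^ j) : Nonempty (N ≃* Multiplicative ℤ) := by
  haveI : Module.Finite ℤ (Additive N) :=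
    Module.Finite.iff_addGroup_fg.mpr (AddGroup.fg_iff_addMonoid_fg.mpr inferInstance)
  haveI : IsAddTorsionFree (Additive N) := ⟨fun d hd a b hab => by
    have h0 : a.toMul ^ d = b.toMul ^ d := congrArg Additive.toMul hab
    have h1 : (a.toMul / b.toMul) ^ d = 1 := by rw [div_pow, h0, div_self']
    have h2 : a.toMul = b.toMul := div_eq_one.1 (htf _ d (Nat.pos_of_ne_zero hd) h1)
    exact Additive.toMul.injective h2⟩
  haveI : Module.IsTorsionFree ℤ (Additive N) := inferInstance
  haveI : Module.Free ℤ (Additive N) := Module.free_of_finite_type_torsion_free'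
  let b := Module.finBasis ℤ (Additive N)
  let r := Module.finrank ℤ (Additive N)
  have hkey : ∀ n : Additive N, ∃ (d : ℕ) (j : ℤ), 0 < d ∧ (d : ℤ) • n = j • Additive.ofMul x := fun n => by
    obtain ⟨d, j, hd, h⟩ := hcom n.toMul
    refine ⟨d, j, hd, ?_⟩
    rw [natCast_zsmul]
    exact congrArg Additive.ofMul h
  have hr1 : r = 1 := by
    by_contra hr
    rcases Nat.lt_or_gt_of_ne hr with h | h
    · refine hx ?_
      have h0 : b.repr (Additive.ofMul x) = 0 := Finsupp.ext fun i => absurd i.2 (by omega)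
      exact congrArg Additive.toMul ((LinearEquiv.map_eq_zero_iff b.repr).1 h0)
    · let i₀ : Fin r := ⟨0, by omega⟩
      let i₁ : Fin r := ⟨1, h⟩
      have hne : i₀ ≠ i₁ := fun e => absurd (congrArg Fin.val e) (by simp [i₀, i₁])
      obtain ⟨d₀, j₀, hd₀, h₀⟩ := hkey (b i₀)
      obtain ⟨d₁, j₁, hd₁, h₁⟩ := hkey (b i₁)
      have e₀ := congrArg (fun v => b.repr v i₀) h₀
      have e₁ := congrArg (fun v => b.repr v i₀) h₁
      simp only [map_smul, Finsupp.smul_apply, Module.Basis.repr_self, Finsupp.single_eq_same, smul_eq_mul,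
        _root_.mul_one, Finsupp.single_apply, if_neg hne.symm, MulZeroClass.mul_zero] at e₀ e₁
      rcases mul_eq_zero.1 e₁.symm with hj | hc
      · subst hj
        rw [zero_smul] at h₁
        rcases smul_eq_zero.1 h₁ with hd | hb
        · omega
        · exact b.ne_zero i₁ hb
      · rw [hc, MulZeroClass.mul_zero] at e₀
        omega
  let θ : Additive N ≃+ ℤ :=
    (b.equivFun.toAddEquiv.trans (LinearEquiv.funCongrLeft ℤ ℤ (finCongr hr1.symm)).toAddEquiv).trans
      (LinearEquiv.funUnique (Fin 1) ℤ ℤ).toAddEquiv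
  exact ⟨(MulEquiv.multiplicativeAdditive N).symm.trans (AddEquiv.toMultiplicative θ)⟩

theorem groupLike_one_tmul {k : Type u} [Field k] {A : Type u} [CommRing A] [Bialgebra k A]
    {K : Type u} [Field K] [Algebra k K] {a : A} (ha : IsGroupLikeElem k a) :
    IsGroupLikeElem K ((1 : K) ⊗ₜ[k] a) := by
  refine ⟨?_, ?_⟩
  · simp [TensorProduct.counit_tmul, ha.counit_eq_one]
  · rw [H20Comod.comul_one_tmul, ha.comul_eq_tmul_self]
    simp

theorem isDiagonalizable_bc_monoidAlgebra {k : Type u} [Field k] (K : Type u) [Field K] [Algebra k K]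
    (G : Type) [CommGroup G] : HopfRep.IsDiagonalizable K (K ⊗[k] MonoidAlgebra k G) := by
  refine eq_top_iff.2 fun z hz => ?_
  clear hz
  induction z using TensorProduct.induction_on with
  | zero => exact zero_mem _
  | add z₁ z₂ h₁ h₂ => exact add_mem h₁ h₂
  | tmul c p =>
    rw [show c ⊗ₜ[k] p = c • ((1 : K) ⊗ₜ[k] p) by rw [TensorProduct.smul_tmul', smul_eq_mul, _root_.mul_one]]
    refine Submodule.smul_mem _ _ ?_
    induction p using MonoidAlgebra.induction_linear with
    | zero => rw [TensorProduct.tmul_zero]; exact zero_mem _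
    | add p q hp hq => rw [TensorProduct.tmul_add]; exact add_mem hp hq
    | single m r =>
      rw [show MonoidAlgebra.single m r = r • (MonoidAlgebra.single m 1 : MonoidAlgebra k G) by
        rw [MonoidAlgebra.smul_single', _root_.mul_one], TensorProduct.tmul_smul,
        ← algebraMap_smul K r ((1 : K) ⊗ₜ[k] (MonoidAlgebra.single m 1 : MonoidAlgebra k G))]
      exact Submodule.smul_mem _ _ (Submodule.subset_span
        (groupLike_one_tmul (K := K) (A := MonoidAlgebra k G) (MonoidAlgebra.isGroupLikeElem_single_one m)))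

theorem finite_bc {k : Type u} [Field k] (K : Type u) [Field K] [Algebra k K] {B A : Type u} [CommRing B]
    [Bialgebra k B] [CommRing A] [Bialgebra k A] (φ : B →ₐc[k] A)
    (hφ : (φ : B →ₐ[k] A).toRingHom.Finite) :
    ((Bialgebra.TensorProduct.map (BialgHom.id K K) φ : K ⊗[k] B →ₐc[K] K ⊗[k] A) :
      K ⊗[k] B →ₐ[K] K ⊗[k] A).toRingHom.Finite := by
  classical
  let φK : K ⊗[k] B →ₐc[K] K ⊗[k] A := Bialgebra.TensorProduct.map (BialgHom.id K K) φ
  letI := (φ : B →ₐ[k] A).toRingHom.toAlgebra
  haveI : Module.Finite B A := hφ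
  obtain ⟨s, hs⟩ := (inferInstance : Module.Finite B A).fg_top
  letI := ((φK : K ⊗[k] B →ₐ[K] K ⊗[k] A).toRingHom).toAlgebra
  refine ⟨⟨s.image (fun a => (1 : K) ⊗ₜ[k] a), eq_top_iff.2 fun z hz => ?_⟩⟩
  clear hz
  induction z using TensorProduct.induction_on with
  | zero => exact zero_mem _
  | add z₁ z₂ h₁ h₂ => exact add_mem h₁ h₂
  | tmul c a =>
    have ha : a ∈ Submodule.span B (s : Set A) := hs.ge trivial
    induction ha using Submodule.span_induction generalizing c with
    | mem a ha =>
      have : c ⊗ₜ[k] a = (c ⊗ₜ[k] (1 : B)) • ((1 : K) ⊗ₜ[k] a) := by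
        show _ = φK (c ⊗ₜ[k] (1 : B)) * _
        simp [φK]
      rw [this]
      exact Submodule.smul_mem _ _ (Submodule.subset_span (Finset.mem_coe.2 (Finset.mem_image_of_mem _ ha)))
    | zero => rw [TensorProduct.tmul_zero]; exact zero_mem _
    | add a b _ _ hp hq => rw [TensorProduct.tmul_add]; exact add_mem (hp c) (hq c)
    | smul p a _ hp =>
      have : c ⊗ₜ[k] (p • a) = (c ⊗ₜ[k] p) • ((1 : K) ⊗ₜ[k] a) := by
        show _ = φK (c ⊗ₜ[k] p) * _
        simp [φK, Algebra.smul_def]
        rfl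
      rw [this]
      exact Submodule.smul_mem _ _ (hp 1)

theorem isDiag_bc_monoidAlgebra {k : Type u} [Field k] (K : Type u) [Field K] [Algebra k K]
    (G : Type) [CommGroup G] : SGA3b.IsDiag K (K ⊗[k] MonoidAlgebra k G) :=
  CoradSplit.isDiag_of_isDiagonalizable (isDiagonalizable_bc_monoidAlgebra K G)

/-- Over the algebraic closure every character has a power coming from the split torus. -/
theorem exists_pow_eq {k : Type u} [Field k] (K : Type u) [Field K] [Algebra k K] {G : Type} [CommGroup G]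
    {A : Type u} [CommRing A] [Bialgebra k A] [IsDomain (K ⊗[k] A)] (φ : MonoidAlgebra k G →ₐc[k] A)
    (hφ : (φ : MonoidAlgebra k G →ₐ[k] A).toRingHom.Finite) {g : K ⊗[k] A} (hg : IsGroupLikeElem K g)
    (hgu : IsUnit g) :
    ∃ (d : ℕ) (m : G), 0 < d ∧ g ^ d = (1 : K) ⊗ₜ[k] φ (MonoidAlgebra.single m 1) := by
  classical
  let φK : K ⊗[k] MonoidAlgebra k G →ₐc[K] K ⊗[k] A := Bialgebra.TensorProduct.map (BialgHom.id K K) φ
  obtain ⟨p, hp, hpg⟩ := RingHom.Finite.to_isIntegral (finite_bc K φ hφ) g
  let P : Set (K ⊗[k] A) := {y | ∃ (i : ℕ) (m : G), i < p.natDegree ∧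
    y = g ^ i * ((1 : K) ⊗ₜ[k] φ (MonoidAlgebra.single m 1))}
  have hPgl : P ⊆ {y | IsGroupLikeElem K y} := by
    rintro _ ⟨i, m, -, rfl⟩
    exact hg.pow.mul (groupLike_one_tmul ((MonoidAlgebra.isGroupLikeElem_single_one m).map φ))
  have hmem : ∀ i < p.natDegree, ∀ q : K ⊗[k] MonoidAlgebra k G, g ^ i * φK q ∈ Submodule.span K P := by
    intro i hi q
    induction q using TensorProduct.induction_on with
    | zero => simp
    | add q₁ q₂ h₁ h₂ => rw [map_add, mul_add]; exact add_mem h₁ h₂
    | tmul c a =>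
      rw [show c ⊗ₜ[k] a = c • ((1 : K) ⊗ₜ[k] a) by rw [TensorProduct.smul_tmul', smul_eq_mul, _root_.mul_one],
        map_smul, mul_smul_comm]
      refine Submodule.smul_mem _ _ ?_
      induction a using MonoidAlgebra.induction_linear with
      | zero => simp
      | add a b ha hb => rw [TensorProduct.tmul_add, map_add, mul_add]; exact add_mem ha hb
      | single m r =>
        rw [show MonoidAlgebra.single m r = r • (MonoidAlgebra.single m 1 : MonoidAlgebra k G) by
          rw [MonoidAlgebra.smul_single', _root_.mul_one], TensorProduct.tmul_smul,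
          ← algebraMap_smul K r ((1 : K) ⊗ₜ[k] (MonoidAlgebra.single m 1 : MonoidAlgebra k G)),
          map_smul, mul_smul_comm]
        refine Submodule.smul_mem _ _ (Submodule.subset_span ⟨i, m, hi, ?_⟩)
        simp [φK]
  have hn : g ^ p.natDegree ∈ Submodule.span K P := by
    rw [Polynomial.eval₂_eq_sum_range, Finset.sum_range_succ, hp.coeff_natDegree, map_one, _root_.one_mul,
      add_comm, add_eq_zero_iff_eq_neg] at hpg
    rw [hpg]
    refine neg_mem (Submodule.sum_mem _ fun i hi => ?_)
    rw [mul_comm]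
    exact hmem i (Finset.mem_range.1 hi) _
  have hP : g ^ p.natDegree ∈ P := by
    by_contra hnot
    have hli := (linearIndepOn_isGroupLikeElem (R := K) (A := K ⊗[k] A))
    exact ((linearIndepOn_id_insert hnot).1 (hli.mono (Set.insert_subset hg.pow hPgl))).2 hn
  obtain ⟨i, m, hi, hgi⟩ := hP
  refine ⟨p.natDegree - i, m, by omega, (hgu.pow i).mul_left_cancel ?_⟩
  rw [← hgi, ← pow_add]
  congr 1
  omega

theorem isDiag_bc_of_finite {k : Type u} [Field k] (K : Type u) [Field K] [Algebra k K] [IsAlgClosed K]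
    {G : Type} [CommGroup G] {A : Type u} [CommRing A] [HopfAlgebra k A] [Coalgebra.IsCocomm k A]
    [IsDomain (K ⊗[k] A)] (φ : MonoidAlgebra k G →ₐc[k] A)
    (hφ : (φ : MonoidAlgebra k G →ₐ[k] A).toRingHom.Finite) : SGA3b.IsDiag K (K ⊗[k] A) :=
  TorusCriterion.isDiag_of_uni_scalar (TorusCriterion.uni_scalar_of_finite
    (Bialgebra.TensorProduct.map (BialgHom.id K K) φ) (finite_bc K φ hφ) (isDiag_bc_monoidAlgebra K G))

/-- A Hopf algebra domain finite over the Laurent polynomials is the Laurent polynomial Hopf algebra. -/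
theorem exists_bialgEquiv_laurent {k : Type u} [Field k] (A : Type u) [CommRing A] [HopfAlgebra k A]
    [Coalgebra.IsCocomm k A] [Algebra.FiniteType k A]
    [IsDomain (AlgebraicClosure k ⊗[k] A)]
    (φ : MonoidAlgebra k (Multiplicative ℤ) →ₐc[k] A)
    (hφ : (φ : MonoidAlgebra k (Multiplicative ℤ) →ₐ[k] A).toRingHom.Finite)
    (hinj : Function.Injective φ) : Nonempty (MonoidAlgebra k (Multiplicative ℤ) ≃ₐc[k] A) := by
  classical
  let K := AlgebraicClosure k
  have hdiag : SGA3b.IsDiag K (K ⊗[k] A) := isDiag_bc_of_finite K φ hφ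
  have hD := TorusCriterion.isDiagonalizable_of_isDiag hdiag
  have hpow : ∀ g : K ⊗[k] A, IsGroupLikeElem K g → ∃ (d : ℕ) (m : Multiplicative ℤ), 0 < d ∧
      g ^ d = (1 : K) ⊗ₜ[k] φ (MonoidAlgebra.single m 1) := fun g hg => exists_pow_eq K φ hφ hg hg.isUnit
  let x : A := φ (MonoidAlgebra.single (Multiplicative.ofAdd (1 : ℤ)) 1)
  have hDA : HopfRep.IsDiagonalizable k A :=
    SplitIsogeny.isDiagonalizable_of_pow_rational (K := K) hD fun g hg => by
      obtain ⟨d, m, hd, h⟩ := hpow g hg
      exact ⟨d, _, hd, h⟩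
  obtain ⟨N, _, ⟨e⟩⟩ := CoradSplit.isDiag_of_isDiagonalizable hDA
  haveI : Monoid.FG N := MonoidAlgebra.finiteType_iff_fg.1
    (Algebra.FiniteType.equiv (inferInstance : Algebra.FiniteType k A) (AlgEquivClass.toAlgEquiv e))
  let incl : N → K ⊗[k] A := fun n => (1 : K) ⊗ₜ[k] e.symm (MonoidAlgebra.single n 1)
  have hgl : ∀ n, IsGroupLikeElem K (incl n) := fun n =>
    groupLike_one_tmul ((MonoidAlgebra.isGroupLikeElem_single_one n).map e.symm)
  have hι_inj : Function.Injective incl := fun n n' h => by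
    have h2 := e.symm.injective (JordanSplit.one_tmul_inj (k := k) K h)
    exact (MonoidAlgebra.single_left_injective _root_.one_ne_zero) h2
  have hincl_mul : ∀ n n', incl (n * n') = incl n * incl n' := fun n n' => by
    simp only [incl, Algebra.TensorProduct.tmul_mul_tmul, _root_.one_mul, ← map_mul, MonoidAlgebra.single_mul_single]
  have hincl_one : incl 1 = 1 := by
    simp only [incl]
    rw [← MonoidAlgebra.one_def, map_one, Algebra.TensorProduct.one_def]
  let inclH : N →* K ⊗[k] A := { toFun := incl, map_one' := hincl_one, map_mul' := hincl_mul }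
  have htf : ∀ (n : N) (d : ℕ), 0 < d → n ^ d = 1 → n = 1 := fun n d hd h => hι_inj (by
    rw [hincl_one]
    refine SplitIsogeny.eq_one_of_pow_eq_one (K := K) hd ?_ (hgl n).counit_eq_one
    rw [show incl n ^ d = inclH n ^ d from rfl, ← map_pow, h, map_one])
  obtain ⟨x', hx'⟩ : ∃ x' : N, e.symm (MonoidAlgebra.single x' 1) = x := by
    have hgx : IsGroupLikeElem k (e x) := ((MonoidAlgebra.isGroupLikeElem_single_one _).map φ).map e
    by_contra hne
    simp only [not_exists] at hne
    have hnot : e x ∉ Set.range (fun n : N => (MonoidAlgebra.single n 1 : MonoidAlgebra k N)) := fun ⟨n, hn⟩ =>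
      hne n (by rw [show (MonoidAlgebra.single n 1 : MonoidAlgebra k N) = e x from hn]; exact e.symm_apply_apply x)
    refine ((linearIndepOn_id_insert hnot).1
      ((linearIndepOn_isGroupLikeElem (R := k) (A := MonoidAlgebra k N)).mono
        (Set.insert_subset hgx (Set.range_subset_iff.2 MonoidAlgebra.isGroupLikeElem_single_one)))).2 ?_
    induction e x using MonoidAlgebra.induction_linear with
    | zero => exact zero_mem _
    | add a b ha hb => exact add_mem ha hb
    | single m r =>
      rw [show MonoidAlgebra.single m r = r • (MonoidAlgebra.single m 1 : MonoidAlgebra k N) by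
        rw [MonoidAlgebra.smul_single', _root_.mul_one]]
      exact Submodule.smul_mem _ _ (Submodule.subset_span ⟨m, rfl⟩)
  have hx1 : x' ≠ 1 := by
    rintro rfl
    rw [← MonoidAlgebra.one_def, map_one] at hx'
    have := hinj (hx'.symm.trans (map_one φ).symm)
    rw [MonoidAlgebra.one_def] at this
    exact absurd (MonoidAlgebra.single_left_injective _root_.one_ne_zero this) (by simp)
  obtain ⟨θ⟩ := exists_mulEquiv_int htf x' hx1 fun n => by
    obtain ⟨d, m, hd, h⟩ := hpow (incl n) (hgl n)
    refine ⟨d, Multiplicative.toAdd m, hd, hι_inj ?_⟩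
    let jh : (Multiplicative ℤ) →* A :=
      (φ : MonoidAlgebra k (Multiplicative ℤ) →ₐ[k] A).toRingHom.toMonoidHom.comp (MonoidAlgebra.of k (Multiplicative ℤ))
    let jN : (Multiplicative ℤ) →* A :=
      (e.symm : MonoidAlgebra k N →ₐ[k] A).toRingHom.toMonoidHom.comp
        ((MonoidAlgebra.of k N).comp (zpowersHom N x'))
    have hjj : jh = jN := by
      refine MonoidHom.ext_mint ?_
      show φ (MonoidAlgebra.single _ 1) = e.symm (MonoidAlgebra.single _ 1)
      rw [zpowersHom_apply, toAdd_ofAdd, zpow_one, hx']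
    show inclH (n ^ d) = _
    rw [map_pow, show inclH n = incl n from rfl, h]
    show _ = (1 : K) ⊗ₜ[k] jN m
    rw [← hjj]
    rfl
  obtain ⟨Θ⟩ := H21Hom.exists_mapDomainEquiv (R := k) θ
  exact ⟨(e.trans Θ).symm⟩


/-- Multiplicative case. Let k be a field, H a smooth connected k-group scheme, and f a homomorphism
from H to the multiplicative group over k which is finite and surjective (an isogeny). Then H is
isomorphic, as a k-group scheme, to the multiplicative group: a smooth connected k-group isogenous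
to the multiplicative group over k is the split one-dimensional torus. -/
theorem result (k : Type u) [Field k]
    (H : Over (Spec (CommRingCat.of k))) [GrpObj H] [Smooth H.hom] [ConnectedSpace ↥H.left]
    (f : H ⟶ Red.Gm (Spec (CommRingCat.of k))) [IsMonHom f] [IsFinite f.left] [Surjective f.left] :
    Nonempty (Grp.mk H ≅ Grp.mk (Red.Gm (Spec (CommRingCat.of k)))) := by
  let e := Spec.map (CommRingCat.ofHom (algebraMap k (AlgebraicClosure k)))
  let Gm := Red.Gm (Spec (CommRingCat.of k))
  haveI := H21NormExt.smooth_Gm (Spec (CommRingCat.of k))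
  let dG : Red.diag k ℤ ≅ Gm := asIso (H21Diag.diagToDS k ℤ)
  haveI : IsIso dG.inv.left := inferInstanceAs (IsIso ((Over.forget _).map dG.inv))
  haveI : IsAffine (Red.diag k ℤ).left :=
    inferInstanceAs (IsAffine (Spec (CommRingCat.of (MonoidAlgebra k (Multiplicative ℤ)))))
  haveI : IsAffine Gm.left := IsAffine.of_isIso dG.inv.left
  haveI : ConnectedSpace ↥Gm.left := f.left.surjective.connectedSpace f.left.continuous
  haveI : QuasiCompact Gm.hom := inferInstance
  haveI : IsCommMonObj Gm := by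
    haveI : IsCommMonObj (Red.diag (ULift.{u} ℤ) ℤ) := inferInstance
    exact inferInstanceAs (IsCommMonObj ((Over.pullback _).obj (Red.diag (ULift.{u} ℤ) ℤ)))
  haveI : IsAffine H.left := isAffine_of_isAffineHom f.left
  haveI : QuasiCompact H.hom := by rw [← Over.w f]; infer_instance
  haveI : IsCommMonObj H := (S18072.result k H Gm f).2.2.2.2 inferInstance
  obtain ⟨A, _, _, eG, hcc, hft, _, _⟩ := LargestMult.exists_comm_model H
  haveI := hcc
  haveI := hft
  let G' : H21Hom.specGrp k A ⟶ H21Hom.specGrp k (MonoidAlgebra k (Multiplicative ℤ)) := eG.inv ≫ f ≫ dG.inv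
  haveI : IsMonHom G' := inferInstanceAs (IsMonHom (eG.inv ≫ f ≫ dG.inv))
  obtain ⟨φ, hφ⟩ := H21Hom.exists_bialgHom_of_hom G'
  haveI : IsIso eG.inv.left := inferInstanceAs (IsIso ((Over.forget _).map eG.inv))
  haveI : IsFinite (eG.inv.left ≫ f.left ≫ dG.inv.left) := inferInstance
  haveI : Surjective (eG.inv.left ≫ f.left ≫ dG.inv.left) := inferInstance
  have hfin : (φ : MonoidAlgebra k (Multiplicative ℤ) →ₐ[k] A).toRingHom.Finite := by
    have h : IsFinite G'.left := ‹IsFinite (eG.inv.left ≫ f.left ≫ dG.inv.left)›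
    rw [hφ] at h
    exact (IsFinite.SpecMap_iff (CommRingCat.ofHom (φ : MonoidAlgebra k (Multiplicative ℤ) →ₐ[k] A).toRingHom)).1 h
  have hinj : Function.Injective φ := by
    have h : Surjective G'.left := ‹Surjective (eG.inv.left ≫ f.left ≫ dG.inv.left)›
    rw [hφ] at h
    have hd : DenseRange (PrimeSpectrum.comap (φ : MonoidAlgebra k (Multiplicative ℤ) →ₐ[k] A).toRingHom) :=
      h.surj.denseRange
    rw [PrimeSpectrum.denseRange_comap_iff_ker_le_nilRadical, nilradical_eq_zero] at hd
    exact (RingHom.injective_iff_ker_eq_bot _).2 (le_bot_iff.1 hd)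
  obtain ⟨A', _, _, -, -, hdom, ⟨eA'⟩⟩ := TorusCriterion.exists_model H
  haveI := hdom
  haveI : IsMonHom eG.hom := ‹_›
  obtain ⟨b₀⟩ := H21Hom.nonempty_bc_specGrp (R := k) A (AlgebraicClosure k)
  haveI : IsMonHom ((Over.pullback e).mapIso eG).hom := inferInstanceAs (IsMonHom ((Over.pullback e).map eG.hom))
  let ie : Grp.mk (Red.bc e H) ≅ Grp.mk (Red.bc e (H21Hom.specGrp k A)) :=
    Grp.mkIso' ((Over.pullback e).mapIso eG)
  let b : Grp.mk (Red.bc e H) ≅ _ := ie ≪≫ b₀
  obtain ⟨β⟩ := H21Hom.nonempty_bialgEquiv_of_iso (eA'.symm ≪≫ b)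
  haveI : IsDomain (AlgebraicClosure k ⊗[k] A) := (AlgEquivClass.toAlgEquiv β).toRingEquiv.isDomain_iff.2 hdom
  obtain ⟨Φ⟩ := exists_bialgEquiv_laurent A φ hfin hinj
  obtain ⟨ii⟩ := H21Hom.nonempty_iso_of_bialgEquiv Φ
  exact ⟨Grp.mkIso' eG ≪≫ ii ≪≫ Grp.mkIso' dG⟩

end Groth.Agent.S15607
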