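import Groth.Statements.S15608
import Groth.Agent.H25Chow.DensePoints
import Groth.Agent.H17.Image
import Groth.Agent.H17.Reduced
import Groth.Agent.H19Grp.NeutralOpen
import Groth.Agent.S1875
import Groth.Agent.H19Grp.Cartier

set_option autoImplicit false
universe u
open CategoryTheory MonoidalCategory CartesianMonoidalCategory MonObj GrpObj AlgebraicGeometry
open AlgGrp

namespace Groth.Agent.S15608

open CategoryTheory.Limits MonObj GrpObj

/-- Let k be a field, G a smooth k-group scheme of finite type and Σ a subgroup of the abstract group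
G(k) of k-rational points. Then the Zariski closure of Σ in G, with its reduced structure, is a
smooth closed k-subgroup: there are a smooth k-group scheme H and a homomorphism H ⟶ G which is a
closed immersion whose image is the closure of the set of points of G underlying the elements of Σ.
(The published statement also asserts that forming this closure commutes with extension of the
ground field; that clause is not stated here, its affine form being stated separately.) -/
theorem result (k : Type u) [Field k]
    (G : Over (Spec (CommRingCat.of k))) [GrpObj G] [Smooth G.hom] [QuasiCompact G.hom]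
    (S : Subgroup (𝟙_ (Over (Spec (CommRingCat.of k))) ⟶ G)) :
    ∃ (H : Over (Spec (CommRingCat.of k))) (_ : GrpObj H) (i : H ⟶ G), IsMonHom i ∧ IsClosedImmersion i.left ∧ Smooth H.hom ∧
      Set.range i.left.base =
        closure ((fun s : (𝟙_ (Over (Spec (CommRingCat.of k))) ⟶ G) => s.left.base (IsLocalRing.closedPoint k)) '' (S : Set _)) := by
  set pt := IsLocalRing.closedPoint k
  set T := (fun s : (𝟙_ (Over (Spec (CommRingCat.of k))) ⟶ G) => s.left.base pt) '' (S : Set _) with hT
  let Z0 : TopologicalSpace.Closeds G.left := ⟨closure T, isClosed_closure⟩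
  let j := (Scheme.IdealSheafData.vanishingIdeal Z0).subschemeι
  let M : Over (Spec (CommRingCat.of k)) := Over.mk (j ≫ G.hom)
  let i : M ⟶ G := Over.homMk j rfl
  haveI : IsClosedImmersion i.left := inferInstanceAs (IsClosedImmersion j)
  haveI : Mono i := Over.mono_of_mono_left _
  haveI : AlgebraicGeometry.IsReduced M.left := H17.isReduced_vanishingIdeal_subscheme Z0
  have hj : Set.range i.left = closure T := H17.range_vanishingIdeal_subschemeι Z0
  haveI : LocallyOfFiniteType M.hom := inferInstanceAs (LocallyOfFiniteType (j ≫ G.hom))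
  haveI : QuasiCompact M.hom := inferInstanceAs (QuasiCompact (j ≫ G.hom))
  -- lifting morphisms with image in the closure
  have hl : ∀ {W : Over (Spec (CommRingCat.of k))} [AlgebraicGeometry.IsReduced W.left] (f : W ⟶ G),
      (∀ w, f.left w ∈ closure T) → ∃ g : W ⟶ M, g ≫ i = f := by
    intro W _ f hf
    obtain ⟨g, hg⟩ := H17.exists_lift_of_range_subset f.left i.left (by
      rintro _ ⟨w, rfl⟩; rw [hj]; exact hf w)
    exact ⟨Over.homMk g (by rw [← Over.w f, ← hg, Category.assoc]; rfl), Over.OverMorphism.ext hg⟩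
  haveI : AlgebraicGeometry.IsReduced (𝟙_ (Over (Spec (CommRingCat.of k)))).left :=
    inferInstanceAs (AlgebraicGeometry.IsReduced (Spec (CommRingCat.of k)))
  -- the points of `S` lift
  have hS : ∀ s ∈ S, ∃ a : 𝟙_ (Over (Spec (CommRingCat.of k))) ⟶ M, a ≫ i = s := fun s hs ↦
    hl s fun w ↦ subset_closure ⟨s, hs, congrArg s.left (Subsingleton.elim (α := PrimeSpectrum k) pt w)⟩
  let T' : Set M.left := i.left ⁻¹' T
  have hT' : Dense T' := by
    rw [dense_iff_closure_eq, i.left.isClosedEmbedding.isInducing.closure_eq_preimage_closure_image,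
      Set.image_preimage_eq_of_subset (hj ▸ subset_closure), ← hj, Set.preimage_range]
  haveI : GeometricallyReduced M.hom := by
    refine H25Chow.geometricallyReduced_of_dense M.hom T' hT' fun m hm => ?_
    obtain ⟨s, hs, hsm⟩ := hm
    obtain ⟨a, ha⟩ := hS s hs
    refine ⟨k, inferInstance, inferInstance, a.left, ?_, ?_, S1875.isGeometricallyReduced_of_isSeparable k k⟩
    · rw [Over.w a]
      exact Spec.map_id _ |>.symm
    · apply i.left.isClosedEmbedding.injective
      rw [← Scheme.Hom.comp_apply, ← Over.comp_left, ha]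
      exact hsm
  haveI : AlgebraicGeometry.IsReduced (M ⊗ M).left := by
    show AlgebraicGeometry.IsReduced (pullback M.hom M.hom)
    exact H06Red.isReduced_pullback _ _
  -- unit
  obtain ⟨e₀, he₀⟩ := hS 1 (one_mem S)
  have he₀' : e₀ ≫ i = η[G] := he₀.trans (by rw [Hom.one_def, toUnit_unit, Category.id_comp])
  -- multiplication
  have hmul : ∀ z, ((i ⊗ₘ i) ≫ μ[G]).left z ∈ closure T := by
    by_contra hne
    push Not at hne
    obtain ⟨z, hz⟩ := hne
    let μi := ((i ⊗ₘ i) ≫ μ[G]).left
    let O : Set (M ⊗ M).left := μi ⁻¹' (closure T)ᶜ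
    have hO : IsOpen O := isClosed_closure.isOpen_compl.preimage μi.continuous
    haveI : UniversallyOpen (fst M M).left :=
      MorphismProperty.pullback_fst (P := @UniversallyOpen) M.hom M.hom inferInstance
    have hop : IsOpen ((fst M M).left '' O) := (fst M M).left.isOpenMap _ hO
    obtain ⟨_, ⟨x, hx, rfl⟩, hm⟩ := hT'.inter_open_nonempty _ hop ⟨_, z, hz, rfl⟩
    obtain ⟨s, hs, hsm⟩ := hm
    obtain ⟨a, ha⟩ := hS s hs
    have hax : a.left pt = (fst M M).left x := by
      apply i.left.isClosedEmbedding.injective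
      rw [← Scheme.Hom.comp_apply, ← Over.comp_left, ha]
      exact hsm
    let σ : M ⟶ M ⊗ M := lift (toUnit M ≫ a) (𝟙 M)
    obtain ⟨w, hw, -⟩ := Scheme.Pullback.exists_preimage_pullback (f := (fst M M).left) (g := a.left)
      x pt hax.symm
    let P : Over (Spec (CommRingCat.of k)) :=
      Over.mk (pullback.snd (fst M M).left a.left)
    let p₁ : P ⟶ M ⊗ M := Over.homMk (pullback.fst (fst M M).left a.left) (by
      show _ = pullback.snd (fst M M).left a.left
      rw [← Over.w (fst M M), pullback.condition_assoc, Over.w a]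
      exact Category.comp_id _)
    have hp : p₁ ≫ fst M M = toUnit P ≫ a := by
      apply Over.OverMorphism.ext
      exact pullback.condition
    have hσ : p₁ = (p₁ ≫ snd M M) ≫ σ := by
      apply CartesianMonoidalCategory.hom_ext
      · rw [hp, Category.assoc, lift_fst, ← Category.assoc, comp_toUnit]
      · rw [Category.assoc, lift_snd, Category.comp_id]
    have hxσ : x = σ.left ((p₁ ≫ snd M M).left w) := by
      rw [← hw, ← Scheme.Hom.comp_apply, ← Over.comp_left, ← hσ]
      rfl
    have hO' : IsOpen (σ.left ⁻¹' O) := hO.preimage σ.left.continuous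
    obtain ⟨m, hm', ⟨t, ht, htm⟩⟩ := hT'.inter_open_nonempty _ hO' ⟨_, show _ ∈ O from hxσ ▸ hx⟩
    obtain ⟨b, hb⟩ := hS t ht
    have hbm : b.left pt = m := by
      apply i.left.isClosedEmbedding.injective
      rw [← Scheme.Hom.comp_apply, ← Over.comp_left, hb]
      exact htm
    refine hm' (subset_closure ⟨s * t, mul_mem hs ht, ?_⟩)
    show (s * t).left pt = μi (σ.left m)
    rw [← hbm, ← Scheme.Hom.comp_apply, ← Over.comp_left, ← Scheme.Hom.comp_apply, ← Over.comp_left]
    congr 2
    rw [← ha, ← hb, ← Category.assoc b σ, show b ≫ σ = lift a b by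
      simp only [σ, comp_lift, Category.comp_id, ← Category.assoc, comp_toUnit, toUnit_unit, Category.id_comp]]
    rw [lift_map_assoc, Hom.mul_def]
  obtain ⟨m₀, hm₀⟩ := hl ((i ⊗ₘ i) ≫ μ[G]) hmul
  -- inverse
  obtain ⟨i₀, hi₀⟩ := hl (i ≫ ι[G]) (fun m ↦ by
    have hc : IsClosed ((i ≫ ι[G]).left ⁻¹' closure T) :=
      isClosed_closure.preimage (i ≫ ι[G]).left.continuous
    refine hc.closure_subset_iff.mpr ?_ (hT' m)
    rintro _ ⟨t, ht, htm⟩
    obtain ⟨b, hb⟩ := hS t ht
    refine subset_closure ⟨t⁻¹, inv_mem ht, ?_⟩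
    show (t⁻¹).left pt = _
    rw [Hom.inv_def, Over.comp_left, Scheme.Hom.comp_apply, Over.comp_left, Scheme.Hom.comp_apply]
    exact congrArg _ htm)
  obtain ⟨gM, hi⟩ := H19Grp.exists_grpObj_of_mono G i e₀ he₀' m₀ hm₀ i₀ hi₀
  haveI : LocallyOfFinitePresentation M.hom := inferInstance
  haveI : Flat M.hom := inferInstance
  exact ⟨M, gM, i, hi, inferInstance, H19Grp.smooth_of_flat_of_geometricallyReduced M, hj⟩

end Groth.Agent.S15608
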