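import Groth.Statements.S15609
import Groth.Agent.H19Grp.HomUnramified

set_option autoImplicit false
set_option linter.style.haveILetI false
set_option backward.isDefEq.respectTransparency false
universe u
open CategoryTheory MonoidalCategory CartesianMonoidalCategory MonObj GrpObj AlgebraicGeometry
open AlgGrp

namespace Groth.Agent.S15609

/-- The implication (ii) ⇒ (i). Let k be a field and f : G ⟶ G' a homomorphism of k-group schemes of
finite type. Suppose that f is injective on K-points for every algebraically closed field K over k,
and that f is injective on tangent spaces at the identity: every point of G with values in the dual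
numbers k[ε] which restricts to the identity at ε = 0 and is sent by f to the identity point of G'
is itself the identity point. Then f has trivial kernel: it is a monomorphism. (The published
statement assumes G smooth; this implication does not use it.) -/
theorem result (k : Type u) [Field k]
    (G G' : Over (Spec (CommRingCat.of k))) [GrpObj G] [GrpObj G'] [LocallyOfFiniteType G.hom] [QuasiCompact G.hom]
    [LocallyOfFiniteType G'.hom] [QuasiCompact G'.hom] (f : G ⟶ G') [IsMonHom f]
    (hgeom : ∀ (K : Type u) [Field K] [IsAlgClosed K] [Algebra k K],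
      Function.Injective (fun g : (Over.mk (Spec.map (CommRingCat.ofHom (algebraMap k K)))) ⟶ G => g ≫ f))
    (htan : ∀ g : (Over.mk (Spec.map (CommRingCat.ofHom (algebraMap k (DualNumber k))))) ⟶ G,
      (∀ x : 𝟙_ (Over (Spec (CommRingCat.of k))) ⟶ (Over.mk (Spec.map (CommRingCat.ofHom (algebraMap k (DualNumber k))))), x ≫ g = η[G]) →
        g ≫ f = toUnit _ ≫ η[G'] → g = toUnit _ ≫ η[G]) :
    Mono f := by
  haveI hu : FormallyUnramified f.left := by
    refine H19Grp.formallyUnramified_of_tangent f fun x hx hxf => ?_
    have := htan x ?_ (by rw [hxf, Hom.one_def]; rfl)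
    · rw [this, Hom.one_def]; rfl
    · intro y
      have hy : y = H19Grp.TangentPow.red k k := by
        refine Over.OverMorphism.ext ?_
        obtain ⟨φ, hφ⟩ := Spec.map_surjective (R := CommRingCat.of (DualNumber k)) (S := CommRingCat.of k) y.left
        have hw : Spec.map φ ≫ Spec.map (CommRingCat.ofHom (algebraMap k (DualNumber k))) = 𝟙 _ := by
          rw [hφ]; exact Over.w y
        rw [← Spec.map_comp, ← Spec.map_id] at hw
        have hc := Spec.map_injective hw
        refine hφ.symm.trans ?_
        show Spec.map φ = Spec.map _
        congr 1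
        refine CommRingCat.hom_ext (RingHom.ext fun z => ?_)
        have hl : φ.hom (TrivSqZeroExt.inl (TrivSqZeroExt.fst z)) = TrivSqZeroExt.fst z :=
          congr($(hc).hom (TrivSqZeroExt.fst z))
        have hr : φ.hom (TrivSqZeroExt.inr (TrivSqZeroExt.snd z)) = 0 := by
          have h2 : φ.hom (TrivSqZeroExt.inr (TrivSqZeroExt.snd z)) *
              φ.hom (TrivSqZeroExt.inr (TrivSqZeroExt.snd z)) = 0 := by
            rw [← map_mul, TrivSqZeroExt.inr_mul_inr, map_zero]
          exact mul_self_eq_zero.mp h2
        conv_lhs => rw [← TrivSqZeroExt.inl_fst_add_inr_snd_eq z]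
        rw [map_add, hl, hr, add_zero]
        rfl
      rw [hy, hx, Hom.one_def]
      simp [Over.tensorUnit_hom]
  haveI : LocallyOfFiniteType (f.left ≫ G'.hom) := by rw [Over.w f]; infer_instance
  haveI : LocallyOfFiniteType f.left := locallyOfFiniteType_of_comp f.left G'.hom
  have hinj : UniversallyInjective f.left := by
    refine ((tfae_universallyInjective (f := f.left)).out 0 1).mpr ?_
    intro K instK g₁ g₂ hg
    obtain ⟨φ, hφ⟩ := Spec.map_surjective (R := CommRingCat.of k) (S := CommRingCat.of K) (g₁ ≫ G.hom)
    letI : Algebra k K := φ.hom.toAlgebra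
    let L := AlgebraicClosure K
    letI : Algebra k L := ((algebraMap K L).comp φ.hom).toAlgebra
    let π : Spec (CommRingCat.of L) ⟶ Spec (CommRingCat.of K) := Spec.map (CommRingCat.ofHom (algebraMap K L))
    have h2 : g₂ ≫ G.hom = Spec.map φ := by
      rw [hφ, ← Over.w f, ← Category.assoc, ← Category.assoc]
      exact congrArg (· ≫ G'.hom) hg.symm
    have hπ : Spec.map (CommRingCat.ofHom (algebraMap k L)) = π ≫ Spec.map φ := by
      rw [← Spec.map_comp]; rfl
    let x₁ : Over.mk (Spec.map (CommRingCat.ofHom (algebraMap k L))) ⟶ G :=
      Over.homMk (π ≫ g₁) (by rw [Category.assoc, ← hφ]; exact hπ.symm)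
    let x₂ : Over.mk (Spec.map (CommRingCat.ofHom (algebraMap k L))) ⟶ G :=
      Over.homMk (π ≫ g₂) (by rw [Category.assoc, h2]; exact hπ.symm)
    have hx : x₁ = x₂ := hgeom L (Over.OverMorphism.ext (by
      show (π ≫ g₁) ≫ f.left = (π ≫ g₂) ≫ f.left
      rw [Category.assoc, Category.assoc]
      exact congrArg (π ≫ ·) hg))
    haveI : Flat π := by
      rw [HasRingHomProperty.Spec_iff (P := @Flat)]
      exact RingHom.flat_algebraMap_iff.mpr inferInstance
    haveI : Surjective π := ⟨fun p => ⟨Classical.arbitrary _, Subsingleton.elim _ _⟩⟩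
    haveI := Flat.epi_of_flat_of_surjective π
    exact (cancel_epi π).mp (congrArg CommaMorphism.left hx)
  haveI := (UniversallyInjective.iff_diagonal f.left).mp hinj
  haveI : IsIso (Limits.pullback.diagonal f.left) :=
    (isIso_iff_isOpenImmersion_and_surjective _).mpr ⟨inferInstance, inferInstance⟩
  haveI : Mono f.left := (Limits.pullback.isIso_diagonal_iff f.left).mp inferInstance
  exact Over.mono_of_mono_left f

end Groth.Agent.S15609
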