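import Groth.Statements.S15610
import Groth.Agent.H13SchFin.Connected

set_option autoImplicit false
universe u
open SchFin SchFin.RSpace

namespace Groth.Agent.S15610

open SchFin in
/-- A schematic finite space is well-connected (the prime spectrum of its ring of global sections is
connected and the prime spectrum of the ring of each point is connected) if and only if its poset of
points is non-empty and connected and the prime spectrum of the ring of each point is connected. -/
theorem result (X : RSpace.{u})
    (hX : X.IsSchematic) : X.IsWellConnected ↔ (X.IsTopConnected ∧ X.IsPwConnected) := by
    exact H13SchFin.isWellConnected_iff

end Groth.Agent.S15610
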