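import Groth.Statements.S15613
import Groth.Agent.H13SchFin.GeomPt

set_option autoImplicit false
universe u
open SchFin SchFin.GeomPt

namespace Groth.Agent.S15613

open SchFin in
/-- For a geometric point of a schematic finite space with values in an algebraically closed field,
hitting the point x with ring map from the ring of x to the field, the kernel of that ring map does
not lift to any point strictly above x: no prime of the ring of such a point contracts to it along
the restriction map. -/
theorem result (X : RSpace.{u}) (hX : X.IsSchematic) {Ω : Type u} [Field Ω]
    [IsAlgClosed Ω] (ξ : GeomPt X Ω) {x' : X.pt} (hx : ξ.base < x') (P : Ideal (X.ring x')) [P.IsPrime] :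
    P.comap (X.res hx.le) ≠ RingHom.ker ξ.toField := by
    exact H13SchFin.not_comap_eq_ker hX ξ hx P

end Groth.Agent.S15613
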