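import Groth.Statements.S1563
import Mathlib
import Groth.Agent.H8Props.FibreCriterion
import Groth.Agent.H05EGA4.Regular
import Groth.Agent.H06Desc.Noetherian

set_option autoImplicit false
universe u
open CategoryTheory CategoryTheory.Limits AlgebraicGeometry
open Variety

namespace Groth.Agent.S1563

/-- Geometric regularity descends along a morphism f of locally Noetherian k-schemes which is flat at
the point x (the map of local rings at x is flat): if X has it at x then Y has it at f(x). -/
theorem result (k : Type u) [Field k] (X Y : Scheme.{u}) [X.Over (Spec (CommRingCat.of k))] [Y.Over (Spec (CommRingCat.of k))]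
    [IsLocallyNoetherian X] [IsLocallyNoetherian Y] (f : X ⟶ Y) (hf : f ≫ (Y ↘ (Spec (CommRingCat.of k))) = X ↘ (Spec (CommRingCat.of k)))
    (x : X) (hflat : (f.stalkMap x).hom.Flat) (hx : Curv2.IsGeomRegularAt k X x) :
    Curv2.IsGeomRegularAt k Y (f.base x) := by
  intro K _ _ hK y' hy'
  let s := Spec.map (CommRingCat.ofHom (algebraMap k K))
  let g : Curv2.bc k X K ⟶ Curv2.bc k Y K :=
    pullback.map _ _ _ _ f (𝟙 _) (𝟙 _) (by rw [Category.comp_id, hf]) rfl
  have hg1 : g ≫ Curv2.bcFst k Y K = Curv2.bcFst k X K ≫ f := pullback.lift_fst _ _ _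
  have hX : IsPullback (Curv2.bcFst k X K) g f (Curv2.bcFst k Y K) := by
    refine IsPullback.of_bot (v₂₁ := Curv2.bcSnd k Y K) (v₂₂ := (Y ↘ Spec (CommRingCat.of k))) (h₃₁ := s) ?_ hg1.symm (IsPullback.of_hasPullback _ _)
    rw [hf, show g ≫ Curv2.bcSnd k Y K = Curv2.bcSnd k X K from (pullback.lift_snd _ _ _).trans (Category.comp_id _)]
    exact IsPullback.of_hasPullback _ _
  obtain ⟨z, hz1, hz2⟩ := Scheme.Pullback.exists_preimage_pullback (f := f) (g := Curv2.bcFst k Y K) x y' hy'.symm
  let x' := hX.isoPullback.inv z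
  have hx1 : Curv2.bcFst k X K x' = x := by
    rw [← Scheme.Hom.comp_apply, hX.isoPullback_inv_fst, hz1]
  have hx2 : g x' = y' := by
    rw [← Scheme.Hom.comp_apply, hX.isoPullback_inv_snd, hz2]
  have hfl : (g.stalkMap x').hom.Flat := by
    refine Groth.Agent.H8Props.FibreCriterion.flat_stalkMap_baseChange hX x' ?_
    rw [hx1]
    exact hflat
  haveI : IsRegularLocalRing ((Curv2.bc k X K).presheaf.stalk x') := hx K hK x' hx1
  subst hx2
  letI := (g.stalkMap x').hom.toAlgebra
  haveI : Module.Flat ((Curv2.bc k Y K).presheaf.stalk (g x')) ((Curv2.bc k X K).presheaf.stalk x') := hfl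
  haveI : IsLocalHom (algebraMap ((Curv2.bc k Y K).presheaf.stalk (g x')) ((Curv2.bc k X K).presheaf.stalk x')) :=
    inferInstanceAs (IsLocalHom (g.stalkMap x').hom)
  haveI := Module.FaithfullyFlat.of_flat_of_isLocalHom (A := (Curv2.bc k Y K).presheaf.stalk (g x')) (B := (Curv2.bc k X K).presheaf.stalk x')
  haveI : IsNoetherianRing ((Curv2.bc k Y K).presheaf.stalk (g x')) :=
    Groth.Agent.H06Desc.isNoetherianRing_of_faithfullyFlat (B := (Curv2.bc k X K).presheaf.stalk x')
  exact Groth.Agent.H05EGA4.isRegularLocalRing_of_flat (B := (Curv2.bc k X K).presheaf.stalk x')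

end Groth.Agent.S1563
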