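import Groth.Agent.H27CurveSing.Main
import Groth.Statements.S15636
-- import your own Groth.Agent.* helpers here

set_option backward.isDefEq.respectTransparency false
set_option backward.isDefEq.respectTransparency.types false
set_option autoImplicit false
universe u
open CategoryTheory CategoryTheory.Limits AlgebraicGeometry
open HilbZeta

namespace Groth.Agent.S15636

/-- Let k be an algebraically closed field, X a reduced separated k-scheme of finite type and x₀ a
closed point of X whose local ring has Krull dimension one; let s be the number of branches of X at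
x₀. For every d let H_d be a k-scheme of finite type carrying a universal family Z_d ⊆ X ×_k H_d of
closed subschemes that are finite locally free of degree d over H_d (so H_d is the Hilbert scheme of
d points of X), and write [–] for classes in the Grothendieck ring of k-schemes of finite type; for
each d let HP_d ⊆ H_d be a closed subscheme whose points are exactly those h such that every point
of Z_d lying over h projects to x₀ in X (the punctual Hilbert scheme of d points of X at x₀; its
class does not depend on the chosen subscheme structure). Then (Σ_d [HP_d] t^d) · (1 − t)^s is a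
polynomial: the punctual Hilbert zeta function of X at x₀ is rational, with (1 − t)^s as
denominator. (The published statement is for a singular point of a reduced curve; this row asks only
that the local ring at the chosen closed point be one-dimensional and also allows a nonsingular
point, where s = 1.) -/
theorem result (k : Type u) [Field k] [IsAlgClosed k]
    (X : Scheme.{u}) (f : X ⟶ Spec (CommRingCat.of k)) [LocallyOfFiniteType f] [QuasiCompact f] [IsSeparated f] [IsReduced X]
    (x₀ : X) (hx₀ : IsClosed ({x₀} : Set X)) (hdim : ringKrullDim (X.presheaf.stalk x₀) = 1)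
    (s : ℕ) (hs : Brnch.numBranchesAt X x₀ = s)
    (H : ℕ → Over (Spec (CommRingCat.of k)))
    (Z : ∀ d, HilbD.Obj f d (H d)) (hZ : ∀ d, HilbD.IsUniversal f d (H d) (Z d))
    [∀ d, LocallyOfFiniteType (H d).hom] [∀ d, QuasiCompact (H d).hom]
    (HP : ℕ → Scheme.{u}) (ι : ∀ d, HP d ⟶ (H d).left) [∀ d, IsClosedImmersion (ι d)]
    (hι : ∀ d, Set.range (ι d) = {h | ∀ z : (Z d).1.subscheme,
      ((Z d).1.subschemeι ≫ pullback.snd f (H d).hom) z = h →
        ((Z d).1.subschemeι ≫ pullback.fst f (H d).hom) z = x₀}) :
    ∃ P : Polynomial (K0Var.K (Spec (CommRingCat.of k))),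
      PowerSeries.mk (fun d => K0Var.cl (ι d ≫ (H d).hom)) * (1 - PowerSeries.X) ^ s =
        (P : PowerSeries (K0Var.K (Spec (CommRingCat.of k)))) := by
  obtain ⟨B, i1, i2, i3, j, i4, hw, m, hm, D, hj, hD⟩ := Groth.Agent.H27CurveSing.exists_chart f hx₀ hdim
  obtain rfl : D.s = s := Nat.cast_injective (R := ℕ∞) (hD.trans hs)
  haveI : ∀ d, Fintype (D.Piece d) := fun d => Fintype.ofFinite _
  obtain ⟨P, hP⟩ := D.evPoly_sum_pieces
  refine ⟨P, ?_⟩
  rw [← hP]
  congr 1
  ext d
  rw [PowerSeries.coeff_mk, PowerSeries.coeff_mk]
  exact (D.cl_and_dim f j hw hm (Z d) (hZ d) (ι d) (by rw [hj]; exact hι d)).1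

end Groth.Agent.S15636
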