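import Groth.Statements.S15637
import Groth.Agent.H27Axes.Main

set_option backward.isDefEq.respectTransparency false
set_option backward.isDefEq.respectTransparency.types false

set_option autoImplicit false
universe u
open CategoryTheory CategoryTheory.Limits AlgebraicGeometry
open HilbZeta

namespace Groth.Agent.S15637

/-- Let k be an algebraically closed field, N a natural number and X_N = Spec k[x_1, …, x_N]/(x_i x_j :
i ≠ j) the union of the coordinate axes in affine N-space, with origin x₀ (the point where all x_i
vanish). For every d let H_d be a k-scheme of finite type carrying a universal family Z_d ⊆ X_N ×_k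
H_d of closed subschemes that are finite locally free of degree d over H_d (so H_d is the Hilbert
scheme of d points of X_N), and write [–] for classes in the Grothendieck ring of k-schemes of
finite type and L for the class of the affine line; for each d let HP_d ⊆ H_d be a closed subscheme
whose points are exactly those h such that every point of Z_d lying over h projects to x₀ in X_N
(the punctual Hilbert scheme of d points of X_N at x₀; its class does not depend on the chosen
subscheme structure). Then for every d the class [HP_d] is a polynomial in L with integer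
coefficients. (The published statement gives moreover the punctual Hilbert zeta function Σ_d [HP_d]
t^d explicitly, as 1 plus (1 − t)^(−N) times a polynomial of degree N in t whose coefficients are
classes of open pieces of Grassmannians; this row states its final assertion only.) -/
theorem result (k : Type u) [Field k] [IsAlgClosed k] (N : ℕ)
    (J : Ideal (MvPolynomial (Fin N) k))
    (hJ : J = Ideal.span {m | ∃ i j : Fin N, i ≠ j ∧ m = MvPolynomial.X i * MvPolynomial.X j})
    (H : ℕ → Over (Spec (CommRingCat.of k)))
    (Z : ∀ d, HilbD.Obj (Spec.map (CommRingCat.ofHom (algebraMap k (MvPolynomial (Fin N) k ⧸ J)))) d (H d)) (hZ : ∀ d, HilbD.IsUniversal (Spec.map (CommRingCat.ofHom (algebraMap k (MvPolynomial (Fin N) k ⧸ J)))) d (H d) (Z d))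
    [∀ d, LocallyOfFiniteType (H d).hom] [∀ d, QuasiCompact (H d).hom]
    (x₀ : Spec (CommRingCat.of (MvPolynomial (Fin N) k ⧸ J)))
    (hx₀ : x₀.asIdeal = Ideal.map (Ideal.Quotient.mk J) (Ideal.span (Set.range MvPolynomial.X)))
    (HP : ℕ → Scheme.{u}) (ι : ∀ d, HP d ⟶ (H d).left) [∀ d, IsClosedImmersion (ι d)]
    (hι : ∀ d, Set.range (ι d) = {h | ∀ z : (Z d).1.subscheme,
      ((Z d).1.subschemeι ≫ pullback.snd (Spec.map (CommRingCat.ofHom (algebraMap k (MvPolynomial (Fin N) k ⧸ J)))) (H d).hom) z = h →
        ((Z d).1.subschemeι ≫ pullback.fst (Spec.map (CommRingCat.ofHom (algebraMap k (MvPolynomial (Fin N) k ⧸ J)))) (H d).hom) z = x₀}) (d : ℕ) :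
    ∃ p : Polynomial ℤ, K0Var.cl (ι d ≫ (H d).hom) =
      Polynomial.eval₂ (Int.castRingHom (K0Var.K (Spec (CommRingCat.of k)))) (K0Var.L (Spec (CommRingCat.of k))) p := by
  subst hJ
  have hmax : x₀.asIdeal.IsMaximal := by
    rw [hx₀]
    have hspan : Ideal.span (Set.range (MvPolynomial.X : Fin N → MvPolynomial (Fin N) k)) =
        RingHom.ker (MvPolynomial.eval (0 : Fin N → k)) := by
      rw [← Set.image_univ]
      ext p
      rw [MvPolynomial.mem_ideal_span_X_image, RingHom.mem_ker, MvPolynomial.eval_zero]
      constructor
      · intro h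
        by_contra hne
        obtain ⟨i, -, hi⟩ := h 0 (MvPolynomial.mem_support_iff.2 hne)
        exact hi rfl
      · intro h mon hmon
        by_contra hh
        push Not at hh
        have : mon = 0 := Finsupp.ext fun i => hh i (Set.mem_univ i)
        exact MvPolynomial.mem_support_iff.1 (this ▸ hmon) h
    refine (Ideal.map_eq_top_or_isMaximal_of_surjective (f := Ideal.Quotient.mk (H27Axes.axes k N))
      Ideal.Quotient.mk_surjective
      (I := Ideal.span (Set.range MvPolynomial.X)) ?_).resolve_left (hx₀ ▸ x₀.2.ne_top)
    rw [hspan]
    exact RingHom.ker_isMaximal_of_surjective _ fun c => ⟨MvPolynomial.C c, by simp⟩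
  rcases Nat.eq_zero_or_pos d with rfl | hd
  · exact ⟨1, (H27Axes.cl_punctual_zero (k := k) (N := N) (Category.comp_id _).symm (Z 0) (hZ 0) hmax (ι 0)
      (hι 0)).trans (Polynomial.eval₂_one _ _).symm⟩
  · exact H27Axes.cl_punctual (k := k) (N := N) hd.ne' (Category.comp_id _).symm (Z d) (hZ d) hmax hx₀ (ι d) (hι d)

end Groth.Agent.S15637
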