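import Groth.Statements.S15639
import Groth.Agent.H27Staircase.Punctual

set_option autoImplicit false
set_option backward.isDefEq.respectTransparency false
set_option backward.isDefEq.respectTransparency.types false
universe u
open CategoryTheory CategoryTheory.Limits AlgebraicGeometry
open HilbZeta

namespace Groth.Agent.S15639

/-- Let k be an algebraically closed field and A² = Spec k[x, y] the affine plane, with origin x₀. For
every d let H_d be a k-scheme of finite type carrying a universal family Z_d ⊆ A² ×_k H_d of closed
subschemes that are finite locally free of degree d over H_d (so H_d is the Hilbert scheme of d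
points of A²), and write [–] for classes in the Grothendieck ring of k-schemes of finite type and L
for the class of the affine line; for each d let HP_d ⊆ H_d be a closed subscheme whose points are
exactly those h such that every point of Z_d lying over h projects to x₀ in A² (the punctual Hilbert
scheme of d points of A² at x₀; its class does not depend on the chosen subscheme structure). Then
for every D the product (Σ_d [HP_d] t^d) · ∏_{m=1}^{D} (1 − L^(m−1) t^m) is congruent to 1 modulo
t^(D+1); that is, the punctual Hilbert zeta function of the plane at the origin is the inverse of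
the infinite product ∏_{m ≥ 1} (1 − L^(m−1) t^m). -/
theorem result (k : Type u) [Field k] [IsAlgClosed k]
    (H : ℕ → Over (Spec (CommRingCat.of k)))
    (Z : ∀ d, HilbD.Obj (Spec.map (CommRingCat.ofHom (algebraMap k (MvPolynomial (Fin 2) k)))) d (H d)) (hZ : ∀ d, HilbD.IsUniversal (Spec.map (CommRingCat.ofHom (algebraMap k (MvPolynomial (Fin 2) k)))) d (H d) (Z d))
    [∀ d, LocallyOfFiniteType (H d).hom] [∀ d, QuasiCompact (H d).hom]
    (x₀ : Spec (CommRingCat.of (MvPolynomial (Fin 2) k)))
    (hx₀ : x₀.asIdeal = Ideal.span (Set.range MvPolynomial.X))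
    (HP : ℕ → Scheme.{u}) (ι : ∀ d, HP d ⟶ (H d).left) [∀ d, IsClosedImmersion (ι d)]
    (hι : ∀ d, Set.range (ι d) = {h | ∀ z : (Z d).1.subscheme,
      ((Z d).1.subschemeι ≫ pullback.snd (Spec.map (CommRingCat.ofHom (algebraMap k (MvPolynomial (Fin 2) k)))) (H d).hom) z = h →
        ((Z d).1.subschemeι ≫ pullback.fst (Spec.map (CommRingCat.ofHom (algebraMap k (MvPolynomial (Fin 2) k)))) (H d).hom) z = x₀}) (D : ℕ) :
    PowerSeries.trunc (D + 1) (PowerSeries.mk (fun d => K0Var.cl (ι d ≫ (H d).hom)) *
      (∏ m ∈ Finset.range D, (1 - PowerSeries.C (K0Var.L (Spec (CommRingCat.of k)) ^ m) * PowerSeries.X ^ (m + 1)))) = 1 := by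
  have key : ∀ d ≤ D, K0Var.cl (ι d ≫ (H d).hom) =
      ∑ l ∈ H27Staircase.cells D d, K0Var.L (Spec (CommRingCat.of k)) ^ l.tail.sum := fun d hd =>
    H27Staircase.cl_punctual (π := AlgHom.id k _) Function.surjective_id
      (fun z hz => by rw [RingHom.mem_ker] at hz; rw [show z = 0 from hz]; exact zero_mem _)
      (Or.inr hd) (Category.comp_id _).symm (Z d) (hZ d) (by rw [hx₀]; exact (Ideal.map_id _).symm) (ι d) (hι d)
  ext e
  rw [PowerSeries.coeff_trunc]
  split_ifs with he
  · rw [show ((Polynomial.coeff (1 : Polynomial (K0Var.K (Spec (CommRingCat.of k)))) e)) =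
      PowerSeries.coeff e (1 : PowerSeries (K0Var.K (Spec (CommRingCat.of k)))) by
        rw [Polynomial.coeff_one, PowerSeries.coeff_one]]
    conv_rhs => rw [← H27Staircase.series_mul_prod (K0Var.L (Spec (CommRingCat.of k))) D]
    rw [PowerSeries.coeff_mul, PowerSeries.coeff_mul]
    refine Finset.sum_congr rfl fun p hp => ?_
    have hp' : p.1 ≤ D := by
      have := Finset.HasAntidiagonal.mem_antidiagonal.1 hp
      omega
    rw [PowerSeries.coeff_mk, H27Staircase.series, PowerSeries.coeff_mk, key p.1 hp']
  · rw [Polynomial.coeff_one, if_neg (by omega)]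

end Groth.Agent.S15639
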