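import Groth.Statements.S15640
import Groth.Agent.H27HilbOps.Series

set_option autoImplicit false
universe u
open CategoryTheory CategoryTheory.Limits AlgebraicGeometry
open HilbZeta

namespace Groth.Agent.S15640

/-- Let k be a field and X a separated k-scheme of finite type; for every d let H_d be a k-scheme of
finite type carrying a universal family Z_d ⊆ X ×_k H_d of closed subschemes that are finite locally
free of degree d over H_d (so H_d is the Hilbert scheme of d points of X), and write [–] for classes
in the Grothendieck ring of k-schemes of finite type. Let p_1, …, p_l be distinct closed points of X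
and U their open complement. For each d let HU_d ⊆ H_d be the open subscheme on the points h such
that every point of Z_d lying over h projects into U, and for each i let HP_{i,d} ⊆ H_d be a closed
subscheme whose points are exactly those h such that every point of Z_d lying over h projects to p_i
(the Hilbert scheme of d points of U and the punctual Hilbert schemes at the p_i; the classes do not
depend on the chosen subscheme structures). Then Σ_d [H_d] t^d = (Σ_d [HU_d] t^d) · ∏_i (Σ_d
[HP_{i,d}] t^d). (The published statement takes for the p_i the singular points of a reduced curve,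
the base field being algebraically closed, so that U is the smooth locus; this row allows any finite
set of closed points of a separated scheme of finite type and any base field.) -/
theorem result (k : Type u) [Field k] (X : Scheme.{u})
    (f : X ⟶ Spec (CommRingCat.of k)) [LocallyOfFiniteType f] [QuasiCompact f] [IsSeparated f]
    (l : ℕ) (p : Fin l → X) (hp : Function.Injective p) (hpc : ∀ i, IsClosed ({p i} : Set X))
    (H : ℕ → Over (Spec (CommRingCat.of k)))
    (Z : ∀ d, HilbD.Obj f d (H d)) (hZ : ∀ d, HilbD.IsUniversal f d (H d) (Z d))
    [∀ d, LocallyOfFiniteType (H d).hom] [∀ d, QuasiCompact (H d).hom]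
    (HU : ℕ → Scheme.{u}) (jU : ∀ d, HU d ⟶ (H d).left) [∀ d, IsOpenImmersion (jU d)] [∀ d, QuasiCompact (jU d)]
    (hjU : ∀ d, Set.range (jU d) = {h | ∀ z : (Z d).1.subscheme,
      ((Z d).1.subschemeι ≫ pullback.snd f (H d).hom) z = h →
        ((Z d).1.subschemeι ≫ pullback.fst f (H d).hom) z ∈ (Set.range p)ᶜ})
    (HP : Fin l → ℕ → Scheme.{u}) (ι : ∀ i d, HP i d ⟶ (H d).left) [∀ i d, IsClosedImmersion (ι i d)]
    (hι : ∀ i d, Set.range (ι i d) = {h | ∀ z : (Z d).1.subscheme,
      ((Z d).1.subschemeι ≫ pullback.snd f (H d).hom) z = h →
        ((Z d).1.subschemeι ≫ pullback.fst f (H d).hom) z = p i}) :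
    PowerSeries.mk (fun d => K0Var.cl (H d).hom) =
      PowerSeries.mk (fun d => K0Var.cl (jU d ≫ (H d).hom)) *
        ∏ i : Fin l, PowerSeries.mk (fun d => K0Var.cl (ι i d ≫ (H d).hom)) := by
  exact H27HilbOps.Split.mk_eq_mul_prod H Z hZ p hp hpc HU jU hjU HP ι hι

end Groth.Agent.S15640
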