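import Groth.Agent.H27CurveSing.Main
import Groth.Statements.S15642
-- import your own Groth.Agent.* helpers here

set_option backward.isDefEq.respectTransparency false
set_option backward.isDefEq.respectTransparency.types false
set_option autoImplicit false
universe u
open CategoryTheory CategoryTheory.Limits AlgebraicGeometry
open HilbZeta

namespace Groth.Agent.S15642

/-- Let k be an algebraically closed field, X a reduced separated k-scheme of finite type and x₀ a
closed point of X whose local ring has Krull dimension one. For every d let H_d be a k-scheme of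
finite type carrying a universal family Z_d ⊆ X ×_k H_d of closed subschemes that are finite locally
free of degree d over H_d (so H_d is the Hilbert scheme of d points of X); for each d let HP_d ⊆ H_d
be a closed subscheme whose points are exactly those h such that every point of Z_d lying over h
projects to x₀ in X (the punctual Hilbert scheme of d points of X at x₀, with some closed subscheme
structure; its dimension does not depend on that choice). Then the dimension of HP_d stabilises:
there is d₀ such that HP_d and HP_{d₀} have the same topological Krull dimension for all d ≥ d₀.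
(The published statement is for a reduced curve singularity; this row asks only that the local ring
at the chosen closed point be one-dimensional.) -/
theorem result (k : Type u) [Field k] [IsAlgClosed k]
    (X : Scheme.{u}) (f : X ⟶ Spec (CommRingCat.of k)) [LocallyOfFiniteType f] [QuasiCompact f] [IsSeparated f] [IsReduced X]
    (x₀ : X) (hx₀ : IsClosed ({x₀} : Set X)) (hdim : ringKrullDim (X.presheaf.stalk x₀) = 1)
    (H : ℕ → Over (Spec (CommRingCat.of k)))
    (Z : ∀ d, HilbD.Obj f d (H d)) (hZ : ∀ d, HilbD.IsUniversal f d (H d) (Z d))
    [∀ d, LocallyOfFiniteType (H d).hom] [∀ d, QuasiCompact (H d).hom]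
    (HP : ℕ → Scheme.{u}) (ι : ∀ d, HP d ⟶ (H d).left) [∀ d, IsClosedImmersion (ι d)]
    (hι : ∀ d, Set.range (ι d) = {h | ∀ z : (Z d).1.subscheme,
      ((Z d).1.subschemeι ≫ pullback.snd f (H d).hom) z = h →
        ((Z d).1.subschemeι ≫ pullback.fst f (H d).hom) z = x₀}) :
    ∃ d₀ : ℕ, ∀ d : ℕ, d₀ ≤ d →
      topologicalKrullDim (HP d) = topologicalKrullDim (HP d₀) := by
  obtain ⟨B, i1, i2, i3, j, i4, hw, m, hm, D, hj, hD⟩ := Groth.Agent.H27CurveSing.exists_chart f hx₀ hdim
  haveI : ∀ d, Fintype (D.Piece d) := fun d => Fintype.ofFinite _
  obtain ⟨d₀, hd₀⟩ := D.exists_iSup_pieces_const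
    (fun sh => topologicalKrullDim (Spec (CommRingCat.of (Groth.Agent.H27CurveSing.Data.PRing sh))))
  refine ⟨d₀, fun d hd => ?_⟩
  rw [(D.cl_and_dim f j hw hm (Z d) (hZ d) (ι d) (by rw [hj]; exact hι d)).2,
    (D.cl_and_dim f j hw hm (Z d₀) (hZ d₀) (ι d₀) (by rw [hj]; exact hι d₀)).2]
  exact hd₀ d hd

end Groth.Agent.S15642
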