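import Groth.Statements.S15645
import Groth.Agent.H26Node.ModelFamily
import Groth.Agent.S1593
import Groth.Agent.S1595

set_option autoImplicit false
universe u
open CategoryTheory CategoryTheory.Limits AlgebraicGeometry
open StrictSS

namespace Groth.Agent.S15645

open StrictSS in
theorem isNodalFamily_of_nodeChart {C S : Scheme.{u}} (φ : C ⟶ S) (A : CommRingCat.{u}) (j : Spec A ⟶ S)
    [IsOpenImmersion j] (U : C.Opens) (q : (U : Scheme.{u}) ⟶ Spec A) (hq : U.ι ≫ φ = q ≫ j) (a : A)
    (f : (U : Scheme.{u}) ⟶ Spec (CommRingCat.of (NodeAlg A a))) [Etale f] (hf : f ≫ nodeToBase A a = q) :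
    Curv2.IsNodalFamily (U.ι ≫ φ) := by
  rw [hq, ← hf]
  exact S1595.result j _ (S1592.result _ (H26Node.ModelFamily.isNodalFamily_nodeAlg a) f)

open StrictSS in
theorem smooth_of_lineChart {C S : Scheme.{u}} (φ : C ⟶ S) (A : CommRingCat.{u}) (j : Spec A ⟶ S)
    [IsOpenImmersion j] (U : C.Opens) (q : (U : Scheme.{u}) ⟶ Spec A) (hq : U.ι ≫ φ = q ≫ j)
    (f : (U : Scheme.{u}) ⟶ Spec (CommRingCat.of (Polynomial A))) [Etale f] (hf : f ≫ lineToBase A = q) :
    Smooth (U.ι ≫ φ) := by
  haveI : Smooth (lineToBase A) := by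
    rw [HasRingHomProperty.Spec_iff (P := @Smooth)]
    exact RingHom.smooth_algebraMap.mpr ⟨inferInstance, Algebra.FinitePresentation.polynomial A A⟩
  rw [hq, ← hf]
  infer_instance

open StrictSS in
theorem etale_of_lineChart {C D S : Scheme.{u}} (φ : C ⟶ S) (i : D ⟶ C) (A : CommRingCat.{u}) (j : Spec A ⟶ S)
    [IsOpenImmersion j] (U : C.Opens) (q : (U : Scheme.{u}) ⟶ Spec A) (hq : U.ι ≫ φ = q ≫ j)
    (f : (U : Scheme.{u}) ⟶ Spec (CommRingCat.of (Polynomial A))) (hf : f ≫ lineToBase A = q)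
    (fD : ((i ⁻¹ᵁ U : D.Opens) : Scheme.{u}) ⟶ Spec A) [Etale fD] (hD : fD ≫ lineZero A = (i ∣_ U) ≫ f) :
    Etale ((i ⁻¹ᵁ U).ι ≫ i ≫ φ) := by
  have h0 : lineZero A ≫ lineToBase A = 𝟙 _ := by
    rw [← Spec.map_comp]
    exact (congrArg Spec.map (CommRingCat.hom_ext (RingHom.ext fun r => by simp))).trans (Spec.map_id _)
  have h : (i ⁻¹ᵁ U).ι ≫ i ≫ φ = fD ≫ j := by
    rw [← morphismRestrict_ι_assoc, hq, ← hf, ← Category.assoc (i ∣_ U), ← Category.assoc (i ∣_ U), ← hD,
      Category.assoc fD, h0]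
    rfl
  rw [h]
  infer_instance

/-- A strictly semistable multipointed curve (C, D) over a scheme S is semistable. Here (C, D) is a
multipointed S-curve (C flat, finitely presented and of pure relative dimension one over S; D a
closed subscheme of C, flat, finitely presented and of relative dimension zero over S) every point
of which has an open neighbourhood U, over an affine open Spec A of S, with an etale morphism of
pairs from (U, D ∩ U) to the line model (Spec A[T], zero section) or, when no marked point lies in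
U, an etale morphism from U to a node model Spec A[u, v]/(uv - a); the conclusion is that C → S is
an at-worst-nodal family of curves, D → S is etale and D misses the non-smooth locus of C → S. (The
published remark concerns curves over the spectrum of a valuation ring; the notion and the
implication are local on the base, and this row states the implication over an arbitrary base
scheme.) -/
theorem result
    {C D S : Scheme.{u}} (φ : C ⟶ S) (i : D ⟶ C) (h : StrictSS.IsStrictlySemistable φ i) :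
    SSMod.IsSemistable φ i := by
  obtain ⟨hMP, hch⟩ := h
  obtain ⟨hflat, hlfp, hqc, hqs, hdim, hci, hDflat, hDlfp, hDdim⟩ := id hMP
  haveI := hflat
  haveI := hlfp
  haveI := hDlfp
  have hd : ∀ x, FlatMor.fibreDimAt φ x = 1 := (H29Node.pure_fibres_iff φ).1 fun s Z hZ => by
    simpa using hdim s Z hZ
  have hsm : ∀ (U : C.Opens) (x : C), x ∈ U → Smooth (U.ι ≫ φ) → x ∈ φ.smoothLocus := fun U x hx hU => by
    have h := (Scheme.Hom.preimage_smoothLocus_eq U.ι φ).ge
    haveI := hU
    rw [(U.ι ≫ φ).smoothLocus_eq_top] at h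
    exact h (x := (⟨x, hx⟩ : (U : Scheme.{u}))) trivial
  have hline : ∀ z : D, ∃ U : C.Opens, i z ∈ U ∧ Smooth (U.ι ≫ φ) ∧ Etale ((i ⁻¹ᵁ U).ι ≫ i ≫ φ) := fun z => by
    rcases hch (i z) with ⟨A, j, hj, U, hxU, q, hq, f, fD, hfe, hf, hfDe, hfD⟩ |
      ⟨A, j, hj, U, hxU, q, hq, a, f, hfe, hf, hdis⟩
    · haveI := hj; haveI := hfe; haveI := hfDe
      exact ⟨U, hxU, smooth_of_lineChart φ A j U q hq f hf, etale_of_lineChart φ i A j U q hq f hf fD hfD⟩
    · exact absurd hxU (Set.disjoint_left.1 hdis ⟨z, rfl⟩)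
  refine ⟨hMP, (H29Node.isNodalFamily_iff φ).2 fun x => ⟨hd x, ?_⟩, ?_, Set.disjoint_left.2 ?_⟩
  · rcases hch x with ⟨A, j, hj, U, hxU, q, hq, f, fD, hfe, hf, hfDe, hfD⟩ |
      ⟨A, j, hj, U, hxU, q, hq, a, f, hfe, hf, hdis⟩
    · haveI := hj; haveI := hfe
      exact Or.inl (hsm U x hxU (smooth_of_lineChart φ A j U q hq f hf))
    · haveI := hj; haveI := hfe
      have hN := isNodalFamily_of_nodeChart φ A j U q hq a f hf
      haveI := hN.1
      haveI := hN.2.1
      have hN' := (H29Node.isNodalFamily_iff (U.ι ≫ φ)).1 hN ⟨x, hxU⟩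
      exact (H29Node.nodalAt_openImmersion_comp U.ι φ
        (fun y => ((H29Node.isNodalFamily_iff (U.ι ≫ φ)).1 hN y).1) hd ⟨x, hxU⟩).1 hN'.2
  · choose U hU hUs hUe using hline
    refine IsZariskiLocalAtSource.of_iSup_eq_top (fun z => i ⁻¹ᵁ U z) ?_ hUe
    exact eq_top_iff.2 fun z _ => TopologicalSpace.Opens.mem_iSup.2 ⟨z, hU z⟩
  · rintro _ ⟨z, rfl⟩ hns
    obtain ⟨U, hU, hUs, -⟩ := hline z
    exact hns (hsm U _ hU hUs)

end Groth.Agent.S15645
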