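import Groth.Statements.S15649
import Groth.Agent.H26StrictSS.Components

set_option autoImplicit false
set_option linter.style.haveILetI false
set_option backward.isDefEq.respectTransparency false
universe u
open StrictSS

namespace Groth.Agent.S15649

open CategoryTheory CategoryTheory.Limits AlgebraicGeometry in
/-- Let k be a separably closed field and (C, D) a strictly semistable multipointed curve over Spec k
with C and D reduced. Then the irreducible components of C are smooth: for every irreducible
component Z of C there is a reduced closed subscheme of C with underlying set Z which is smooth over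
k. (The published remark asserts that, for semistable curves over such a field, strict semistability
is equivalent to smoothness of the irreducible components; this row is the implication from strict
semistability.) -/
theorem result
    (k : Type u) [Field k] [IsSepClosed k]
    {C D : Scheme.{u}} (φ : C ⟶ Spec (CommRingCat.of k)) (i : D ⟶ C) [IsReduced C] [IsReduced D]
    (h : StrictSS.IsStrictlySemistable φ i)
    (Z : Set C) (hZ : Z ∈ irreducibleComponents (C : Type u)) :
    ∃ (W : Scheme.{u}) (e : W ⟶ C), IsClosedImmersion e ∧ IsReduced W ∧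
      Set.range e.base = Z ∧ Smooth (e ≫ φ) := by
  classical
  let Zc : TopologicalSpace.Closeds C := ⟨Z, isClosed_of_mem_irreducibleComponents Z hZ⟩
  let e := (Scheme.IdealSheafData.vanishingIdeal Zc).subschemeι
  have hr : Set.range e = Z := Groth.Agent.H17.range_vanishingIdeal_subschemeι Zc
  haveI hred := Groth.Agent.H17.isReduced_vanishingIdeal_subscheme Zc
  refine ⟨_, e, inferInstance, hred, hr, ?_⟩
  have hW : Set.range e ∈ irreducibleComponents C := by rw [hr]; exact hZ
  suffices ∀ w, ∃ V : (Scheme.IdealSheafData.vanishingIdeal Zc).subscheme.Opens,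
      w ∈ V ∧ Smooth (V.ι ≫ e ≫ φ) by
    choose V hV hVs using this
    exact IsZariskiLocalAtSource.of_iSup_eq_top (P := @Smooth) V
      (eq_top_iff.2 fun w _ => TopologicalSpace.Opens.mem_iSup.2 ⟨w, hV w⟩) hVs
  intro w
  rcases h.2 (e w) with ⟨A, jA, hjA, U, hwU, q, hq, f, fD, hfe, hf, -⟩ |
    ⟨A, jA, hjA, U, hwU, q, hq, a, f, hfe, hf, -⟩
  · haveI : Smooth (lineToBase A) := by
      rw [HasRingHomProperty.Spec_iff (P := @Smooth)]
      exact RingHom.smooth_algebraMap.mpr ⟨inferInstance, Algebra.FinitePresentation.polynomial A A⟩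
    haveI : Smooth (U.ι ≫ φ) := by rw [hq, ← hf]; infer_instance
    haveI : Smooth (𝟙 _ ≫ U.ι ≫ φ) := by rw [Category.id_comp]; infer_instance
    exact Groth.Agent.H26StrictSS.smooth_nhd φ e hW w U hwU (𝟙 _) fun y hy => by
      rw [Category.id_comp, Scheme.Opens.range_ι]; exact hy.2
  · have hA : IsField A := by
      haveI : Epi jA.base := (TopCat.epi_iff_surjective _).2 fun x =>
        ⟨q ⟨e w, hwU⟩, Subsingleton.elim (α := PrimeSpectrum k) _ _⟩
      haveI : IsIso jA := (isIso_iff_isOpenImmersion_and_epi_base jA).2 ⟨hjA, inferInstance⟩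
      haveI : IsIso jA.appTop := inferInstanceAs (IsIso (jA.app ⊤))
      let ee : CommRingCat.of k ≅ A :=
        (Scheme.ΓSpecIso _).symm ≪≫ asIso jA.appTop ≪≫ Scheme.ΓSpecIso A
      exact MulEquiv.isField (Field.toIsField k) ee.symm.commRingCatIsoToRingEquiv.toMulEquiv
    obtain rfl | ha := eq_or_ne a 0
    · let c : Fin 2 → NodeAlg A 0 := fun l => Ideal.Quotient.mk _ (MvPolynomial.X l)
      have hc : c 0 * c 1 = 0 := by
        rw [← map_mul]
        refine Ideal.Quotient.eq_zero_iff_mem.2 ?_
        have := Ideal.mem_span_singleton_self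
          (MvPolynomial.X 0 * MvPolynomial.X 1 - MvPolynomial.C (0 : A) : MvPolynomial (Fin 2) A)
        simpa using this
      have hT : IsPreirreducible (U.ι ⁻¹' Z) := hZ.1.2.preimage U.ι.isOpenEmbedding
      obtain ⟨i, l, hne, hil⟩ : ∃ i l : Fin 2, l ≠ i ∧ f '' (U.ι ⁻¹' Z) ⊆ PrimeSpectrum.zeroLocus {c l} := by
        rcases (isPreirreducible_iff_isClosed_union_isClosed.1 (hT.image f f.continuous.continuousOn))
          (PrimeSpectrum.zeroLocus {c 0}) (PrimeSpectrum.zeroLocus {c 1})
          (PrimeSpectrum.isClosed_zeroLocus _) (PrimeSpectrum.isClosed_zeroLocus _)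
          (fun p _ => (p.isPrime.mem_or_mem (hc.symm ▸ p.asIdeal.zero_mem : c 0 * c 1 ∈ p.asIdeal)).imp
            Set.singleton_subset_iff.2 Set.singleton_subset_iff.2) with h0 | h1
        · exact ⟨1, 0, by decide, h0⟩
        · exact ⟨0, 1, by decide, h1⟩
      let m := Spec.map (CommRingCat.ofHom (Groth.Agent.H26StrictSS.axis A i).toRingHom)
      haveI : IsClosedImmersion m :=
        IsClosedImmersion.spec_of_surjective _ (Groth.Agent.H26StrictSS.axis_surjective A i)
      haveI : Smooth (m ≫ nodeToBase A 0) := Groth.Agent.H26StrictSS.smooth_axis A i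
      haveI : Smooth (pullback.fst f m ≫ U.ι ≫ φ) := by
        rw [hq, ← hf, Category.assoc, pullback.condition_assoc, ← Category.assoc m]
        infer_instance
      refine Groth.Agent.H26StrictSS.smooth_nhd φ e hW w U hwU (pullback.fst f m) fun y hy => ?_
      have hT' : f ⟨y, hy.2⟩ ∈ PrimeSpectrum.zeroLocus {c l} :=
        hil ⟨⟨y, hy.2⟩, show y ∈ Z from hr ▸ hy.1, rfl⟩
      have hm : f ⟨y, hy.2⟩ ∈ Set.range m :=
        Groth.Agent.H26StrictSS.mem_range_axis A i l hne _ (hT' rfl)
      obtain ⟨z, hz⟩ : (⟨y, hy.2⟩ : (U : Scheme.{u})) ∈ Set.range (pullback.fst f m) := by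
        rw [Scheme.Pullback.range_fst]; exact hm
      exact ⟨z, by rw [Scheme.Hom.comp_apply, hz]; rfl⟩
    · haveI : Smooth (nodeToBase A a) := by
        rw [HasRingHomProperty.Spec_iff (P := @Smooth)]
        obtain ⟨b, hb⟩ := hA.mul_inv_cancel ha
        exact RingHom.smooth_algebraMap.mpr
          (Groth.Agent.H26StrictSS.smooth_node_of_isUnit A (IsUnit.of_mul_eq_one b hb))
      haveI : Smooth (U.ι ≫ φ) := by rw [hq, ← hf]; infer_instance
      haveI : Smooth (𝟙 _ ≫ U.ι ≫ φ) := by rw [Category.id_comp]; infer_instance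
      exact Groth.Agent.H26StrictSS.smooth_nhd φ e hW w U hwU (𝟙 _) fun y hy => by
        rw [Category.id_comp, Scheme.Opens.range_ι]; exact hy.2

end Groth.Agent.S15649
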