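import Groth.Statements.S15651
import Groth.Agent.H25AbCube.EndAlgebra

set_option autoImplicit false
set_option linter.style.haveILetI false
set_option backward.isDefEq.respectTransparency false
set_option synthInstance.maxHeartbeats 200000
universe u
open CategoryTheory MonoidalCategory CartesianMonoidalCategory MonObj GrpObj AlgebraicGeometry
open AbVar

namespace Groth.Agent.S15651

/-- Let A be an abelian variety over a field k (a proper, geometrically integral commutative group
scheme over k). Then the rational endomorphism algebra End⁰(A) = ℚ ⊗_ℤ End_k(A), where End_k(A) is
the ring of endomorphisms of A defined over k (sum pointwise in the group law, product by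
composition), is a semisimple ring. -/
theorem result (k : Type u) [Field k]
    (A : Over (Spec (CommRingCat.of k)))
    [GrpObj A] [IsCommMonObj A] [IsProper A.hom] [GeometricallyIntegral A.hom] :
    IsSemisimpleRing (EndAV.End0 A) := by
  exact Groth.Agent.H25AbCube.isSemisimpleRing_end0

end Groth.Agent.S15651
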