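import Groth.Statements.S15653
import Groth.Agent.H25Weilp.EndType

set_option autoImplicit false
set_option linter.style.haveILetI false
set_option backward.isDefEq.respectTransparency false
set_option synthInstance.maxHeartbeats 200000
universe u
open CategoryTheory MonoidalCategory CartesianMonoidalCategory MonObj GrpObj AlgebraicGeometry
open AbVar

namespace Groth.Agent.S15653

/-- Let A be a simple abelian variety of dimension g over a finite field k with q elements — a proper,
geometrically integral commutative group scheme over k, of Krull dimension g, whose only abelian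
subvarieties over k (geometrically integral closed subgroup schemes) are the trivial subgroup and A
itself — and π_A its q-Frobenius endomorphism (the identity on points and the q-th power map on
sections; a homomorphism). Then End⁰(A) = ℚ ⊗_ℤ End_k(A) is finite-dimensional over ℚ and its
reduced degree [End⁰(A) : ℚ[π_A]]^(1/2) · [ℚ[π_A] : ℚ] equals 2g: there is a natural number n such
that End⁰(A) has rank n² as a module (by left multiplication) over the ℚ-subalgebra ℚ[π_A] generated
by the image of π_A — a field when A is non-trivial — and n · [ℚ[π_A] : ℚ] = 2g. -/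
theorem result (k : Type u) [Field k] [Finite k]
    (A : Over (Spec (CommRingCat.of k)))
    [GrpObj A] [IsCommMonObj A] [IsProper A.hom] [GeometricallyIntegral A.hom]
    (g : ℕ) (hg : topologicalKrullDim A.left = g)
    (hsimple : ∀ (B : Over (Spec (CommRingCat.of k))) [GrpObj B] [GeometricallyIntegral B.hom] (i : B ⟶ A) [IsMonHom i]
      [IsClosedImmersion i.left], Subsingleton B.left ∨ IsIso i)
    (πA : A ⟶ A) [IsMonHom πA] (hπAb : πA.left.base = 𝟙 _)
    (hπAle : ∀ U : A.left.Opens, U ≤ πA.left ⁻¹ᵁ U)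
    (hπAapp : ∀ (U : A.left.Opens) (s : Γ(A.left, U)), (πA.left.appLE U U (hπAle U)).hom s = s ^ Nat.card k) :
    Module.Finite ℚ (EndAV.End0 A) ∧ ∃ n : ℕ,
      Module.finrank (EndAV.QAdj (EndAV.End.of πA)) (EndAV.End0 A) = n ^ 2 ∧
      n * Module.finrank ℚ (EndAV.QAdj (EndAV.End.of πA)) = 2 * g := by
  classical
  let Ω := AlgebraicClosure k
  obtain ⟨l, hl, hlk⟩ := Groth.Agent.H25AbCube.exists_prime_ne_zero k
  haveI : Fact l.Prime := ⟨hl⟩
  haveI := (Groth.Agent.H25Weilp.free_finite Ω l hlk A).1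
  haveI := (Groth.Agent.H25Weilp.free_finite Ω l hlk A).2
  obtain ⟨bT⟩ := Groth.Agent.H25AbCube.exists_tateBasis_pt (Ω := Ω) l hlk hg (A := A)
  have hN : Module.finrank ℤ_[l] (AbDual.TateMod A l (SGA7.pt Ω)) = 2 * g := by
    rw [Module.finrank_eq_card_basis bT, Fintype.card_fin]
  obtain ⟨P, -, -, hPl⟩ := Groth.Agent.H25Weilp.exists_frobPoly Ω (EndAV.End.of πA) hg
  have hP : (AbDual.tateMapₗ (l := l) (T := SGA7.pt Ω) πA).charpoly = P.map (Int.castRingHom ℤ_[l]) := hPl l hlk
  have hπ : Groth.Agent.H25Weilp.IsFrob πA := ⟨hπAb, hπAle, hπAapp⟩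
  haveI := Groth.Agent.H25Weilp.finite_end0 (A := A)
  refine ⟨inferInstance, ?_⟩
  rcases subsingleton_or_nontrivial (EndAV.End0 A) with hs | hs
  · haveI := hs
    refine ⟨1, ?_, ?_⟩
    · rw [one_pow]
      exact Module.finrank_subsingleton
    · have h1 := Groth.Agent.H25Weilp.card_le_sum_count (((P.map (Int.castRingHom ℚ)).map (algebraMap ℚ (AlgebraicClosure ℚ))).roots)
      have h2 := Groth.Agent.H25Weilp.finrank_end0_eq Ω l hlk hπ P hP
      rw [Module.finrank_zero_of_subsingleton, Groth.Agent.H25Weilp.Similar.pairMult] at h2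
      rw [← h2, Groth.Agent.H25Weilp.card_roots_frobPoly Ω l P hP, hN] at h1
      rw [Module.finrank_zero_of_subsingleton, mul_zero, Nat.le_zero.1 h1]
  · have hcen : ∀ x : EndAV.QAdj (EndAV.End.of πA), (x : EndAV.End0 A) ∈ Subalgebra.center ℚ (EndAV.End0 A) :=
      fun x => (Groth.Agent.H25Weilp.center_eq Ω l hlk hπ).ge x.2
    have hK : IsField (EndAV.QAdj (EndAV.End.of πA)) := by
      refine ⟨⟨0, 1, zero_ne_one⟩, fun x y => Subtype.ext ((Subalgebra.mem_center_iff.1 (hcen y)) x), fun {x} hx => ?_⟩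
      have hu : IsUnit (x : EndAV.End0 A) :=
        Groth.Agent.H25AbCube.isUnit_end0 hsimple _ fun h => hx (Subtype.ext h)
      have hinj : Function.Injective (LinearMap.mulLeft ℚ x) := fun a b h =>
        Subtype.ext (hu.mul_left_cancel (congrArg Subtype.val h))
      let S := Subalgebra.toSubmodule (EndAV.QAdj (EndAV.End.of πA))
      let eS : S ≃ₗ[ℚ] (EndAV.QAdj (EndAV.End.of πA)) := Subalgebra.toSubmoduleEquiv _
      let f : S →ₗ[ℚ] S := eS.symm.toLinearMap ∘ₗ LinearMap.mulLeft ℚ x ∘ₗ eS.toLinearMap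
      have hf : Function.Injective f := eS.symm.injective.comp (hinj.comp eS.injective)
      obtain ⟨y, hy⟩ := (LinearMap.injective_iff_surjective (f := f)).1 hf (eS.symm 1)
      exact ⟨eS y, eS.symm.injective hy⟩
    obtain ⟨d, h1, h2, -⟩ := Groth.Agent.H25Weilp.exists_multiplicity Ω l hlk hπ P hP hN hK
    refine ⟨d, ?_, h2⟩
    haveI hfree : Module.Free ℚ (EndAV.QAdj (EndAV.End.of πA)) :=
      Module.Free.of_equiv (Subalgebra.toSubmoduleEquiv (EndAV.QAdj (EndAV.End.of πA)))
    haveI hfin : Module.Finite ℚ (EndAV.QAdj (EndAV.End.of πA)) :=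
      Module.Finite.of_injective (EndAV.QAdj (EndAV.End.of πA)).val.toLinearMap Subtype.val_injective
    have hpos : 0 < Module.finrank ℚ (EndAV.QAdj (EndAV.End.of πA)) := by
      haveI : Nontrivial (EndAV.QAdj (EndAV.End.of πA)) := ⟨⟨0, 1, zero_ne_one⟩⟩
      haveI : Nontrivial (Subalgebra.toSubmodule (EndAV.QAdj (EndAV.End.of πA))) :=
        (Subalgebra.toSubmoduleEquiv (EndAV.QAdj (EndAV.End.of πA))).toEquiv.nontrivial
      rw [← (Subalgebra.toSubmoduleEquiv (EndAV.QAdj (EndAV.End.of πA))).finrank_eq]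
      exact Module.finrank_pos (R := ℚ) (M := Subalgebra.toSubmodule (EndAV.QAdj (EndAV.End.of πA)))
    letI := IsField.toField (R := ↥(EndAV.QAdj (EndAV.End.of πA))) hK
    haveI : Module.Free ↥(EndAV.QAdj (EndAV.End.of πA)) (EndAV.End0 A) := Module.Free.of_divisionRing _ _
    have h3 := @Module.finrank_mul_finrank ℚ (EndAV.QAdj (EndAV.End.of πA)) (EndAV.End0 A) _ _ _ _ _ _ _ _ _ hfree _
    rw [h1] at h3
    exact Nat.eq_of_mul_eq_mul_left hpos h3

end Groth.Agent.S15653
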