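import Groth.Statements.S15655
import Groth.Agent.H25AbCube.EndAlgebra

set_option autoImplicit false
set_option linter.style.haveILetI false
set_option backward.isDefEq.respectTransparency false
set_option synthInstance.maxHeartbeats 200000
universe u
open CategoryTheory MonoidalCategory CartesianMonoidalCategory MonObj GrpObj AlgebraicGeometry
open AbVar

namespace Groth.Agent.S15655

/-- Proof step: let A be a simple abelian variety over a field k — a proper, geometrically integral
commutative group scheme over k whose only abelian subvarieties over k (geometrically integral
closed subgroup schemes) are the trivial subgroup and A itself. Then every non-zero element of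
End⁰(A) = ℚ ⊗_ℤ End_k(A) (End_k(A) the ring of endomorphisms defined over k) is invertible: End⁰(A)
is a division algebra. (The published proposition is the semisimplicity of End⁰(A) for every abelian
variety; this row states the step of its proof for simple A.) -/
theorem result (k : Type u) [Field k]
    (A : Over (Spec (CommRingCat.of k)))
    [GrpObj A] [IsCommMonObj A] [IsProper A.hom] [GeometricallyIntegral A.hom]
    (hsimple : ∀ (B : Over (Spec (CommRingCat.of k))) [GrpObj B] [GeometricallyIntegral B.hom] (i : B ⟶ A) [IsMonHom i]
      [IsClosedImmersion i.left], Subsingleton B.left ∨ IsIso i) :
    ∀ x : EndAV.End0 A, x ≠ 0 → IsUnit x := by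
  exact fun x hx => Groth.Agent.H25AbCube.isUnit_end0 hsimple x hx

end Groth.Agent.S15655
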