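import Groth.Statements.S15656
import Groth.Agent.H25AbCube.MulN

set_option autoImplicit false
universe u
open CategoryTheory MonoidalCategory CartesianMonoidalCategory MonObj GrpObj AlgebraicGeometry
open AbVar

namespace Groth.Agent.S15656

/-- Remark preceding it: let A and B be abelian varieties over a field k (proper, geometrically integral
commutative group schemes over k). Then the additive group Hom_k(A, B) of homomorphisms A → B
defined over k (sum = pointwise product in the group law of B) is torsion-free: if n·f = 0 for an
integer n ≠ 0 then f = 0. -/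
theorem result (k : Type u) [Field k]
    (A B : Over (Spec (CommRingCat.of k)))
    [GrpObj A] [IsCommMonObj A] [IsProper A.hom] [GeometricallyIntegral A.hom]
    [GrpObj B] [IsCommMonObj B] [IsProper B.hom] [GeometricallyIntegral B.hom] :
    NoZeroSMulDivisors ℤ (EndAV.Hom A B) := by
  refine ⟨fun {n φ} h => or_iff_not_imp_left.2 fun hn => ?_⟩
  have key : ∀ m : ℕ, 0 < m → m • φ = 0 → φ = 0 := fun m hm hm' => by
    apply EndAV.Hom.ext
    exact H25AbCube.eq_one_of_pow_eq_one φ.toHom hm ((EndAV.Hom.toHom_nsmul m φ).symm.trans (congrArg EndAV.Hom.toHom hm'))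
  refine key n.natAbs (Int.natAbs_pos.2 hn) ?_
  have := congrArg (fun x => n.sign • x) h
  simp only [smul_zero, ← mul_smul, Int.sign_mul_self_eq_natAbs] at this
  rwa [natCast_zsmul] at this

end Groth.Agent.S15656
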