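import Groth.Statements.S15681
import Groth.Agent.H10Coh.CurveTwist.Main

set_option backward.isDefEq.respectTransparency.types false
set_option linter.style.haveILetI false

set_option autoImplicit false
universe u
open CategoryTheory CategoryTheory.Limits AlgebraicGeometry MonoidalCategory
open FreeSec

namespace Groth.Agent.S15681

/-- Let X be a smooth proper integral curve of genus g over an algebraically closed field k, T a finite
locally free O_X-module and D an effective Cartier divisor on X of degree m = dim_k H^0(X, O_D),
with m ≥ 1 and m ≥ 2g. If the restriction map H^0(X, T) → H^0(X, T ⊗ O_D) (written on T ⊗ O_X ≅ T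
and induced by O_X → O_D) is surjective, then H^1(X, T ⊗ I_E) = 0 for every effective Cartier
divisor E on X of degree m - 2g, I_E its ideal sheaf. (The published statement is phrased for a
family of sections of a fibration over the curve, parametrised by a base scheme, with T the
pull-back of the relative tangent sheaf along the section; this row is the case of a single section
over an algebraically closed field, to which that statement reduces, with T any finite locally free
module, which is all the argument uses.) -/
theorem result (k : Type u) [Field k] [IsAlgClosed k]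
    (X : Scheme.{u}) [X.Over (Spec (CommRingCat.of k))]
    (hX : Curve.IsSmoothProperCurve k X (X ↘ (Spec (CommRingCat.of k))))
    (T : X.Modules) (hT : FlatMod.IsFinLocFree T)
    (D : X.IdealSheafData) (hD : BlowUp.IsEffCartierIdeal D)
    (hD1 : 1 ≤ Module.finrank k (Coh.HH X (ClSub.quotMod D) 0))
    (hDg : 2 * Curv2.genus k X ≤ Module.finrank k (Coh.HH X (ClSub.quotMod D) 0))
    (hsurj : Function.Surjective (Sheaf.H.map ((SheafOfModules.toSheaf X.ringCatSheaf).map
      ((CohB1.sheafifyMod X).map (CohB1.toPMod T ◁ (ClSub.toSubscheme D).val) :
        CohB1.tensorMod T (Coh.structureModule X) ⟶ CohB1.tensorMod T (ClSub.quotMod D))) 0))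
    (E : X.IdealSheafData) (hE : BlowUp.IsEffCartierIdeal E)
    (hdegE : Module.finrank k (Coh.HH X (ClSub.quotMod E) 0) + 2 * Curv2.genus k X =
      Module.finrank k (Coh.HH X (ClSub.quotMod D) 0)) :
    Subsingleton (Coh.HH X (CohB1.tensorMod T (ClSub.idealMod E)) 1) := by
  obtain ⟨hp, hs, hi, hdim⟩ := hX
  haveI := hp
  haveI := hs
  haveI := hi
  refine H10Coh.CurveTwist.subsingleton_h1 (k := k) hdim hT D hD hD1 ?_ E hE hdegE.le
  intro b
  obtain ⟨v, hv⟩ := hsurj ((H10Coh.HH0Equiv _).symm b)
  refine ⟨H10Coh.HH0Equiv _ v, ?_⟩
  refine (H28NT.HH0Equiv_map (H22Alg.KosTwist.tensorLeftMap T (ClSub.toSubscheme D)) v).symm.trans ?_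
  exact (congrArg _ hv).trans (AddEquiv.apply_symm_apply _ _)

end Groth.Agent.S15681
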