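import Groth.Statements.S15686
import Groth.Agent.H14Count.ClassMass
import Groth.Agent.H14Count.GeomGalois
import Groth.Agent.H14Count.TwistPoints
import Groth.Agent.H14Quot.Etale

set_option autoImplicit false
universe u
open CategoryTheory AlgebraicGeometry MonObj
open StackCount

set_option backward.isDefEq.respectTransparency false
set_option backward.isDefEq.respectTransparency.types false

namespace Groth.Agent.S15686

open scoped CategoryTheory.MonObj

/-- Let k be a finite field with algebraic closure k̄, G a smooth affine algebraic group over k acting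
on a variety X over k (reduced and of finite type), and [X/G] the quotient stack whose objects over
a k-scheme T are G-torsors P → T (schemes, locally trivial for the étale topology) with a
G-equivariant morphism P → X. Suppose the Galois cohomology set H¹(k, G) (continuous cocycles of
Gal(k̄/k) with values in G(k̄), up to equivalence) is finite, and choose for every class c a
continuous cocycle z_c in it, a twist X_c of X by z_c through the action (a k-scheme whose base
change to k̄ is identified with that of X so that the Galois action becomes x ↦ z_c(σ) · σx), and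
the inner form G_c of G determined by z_c. If the groupoid of k-points of [X/G] is essentially
finite, then its point count (the sum over isomorphism classes of the inverse orders of the
automorphism groups) equals the sum over the classes c of #X_c(k) / #G_c(k). (The published
statement is for the k′-points over any finite extension k′ of k and for any smooth algebraic group
G; this row is the case k′ = k, to which the general case reduces by base change, and takes G affine
so that every torsor is a scheme.) -/
theorem result (k : Type u) [Field k] [Finite k]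
    (kb : Type u) [Field kb] [Algebra k kb] [IsAlgClosure k kb]
    (G : Over (Spec (CommRingCat.of k))) [GrpObj G] [Smooth G.hom] [IsAffineHom G.hom]
    (X : Over (Spec (CommRingCat.of k))) [LocallyOfFiniteType X.hom] [QuasiCompact X.hom]
    [IsReduced X.left] (aX : AlgGrp.Action G X)
    [Fintype (GpH1.H1lc (kb ≃ₐ[k] kb) (SGA7.Pts kb G))]
    (z : GpH1.H1lc (kb ≃ₐ[k] kb) (SGA7.Pts kb G) → GpH1.OneCocycleLC (kb ≃ₐ[k] kb) (SGA7.Pts kb G))
    (hz : ∀ c, (z c).cl = c)
    (Xz : GpH1.H1lc (kb ≃ₐ[k] kb) (SGA7.Pts kb G) → Over (Spec (CommRingCat.of k)))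
    (hXz : ∀ c, GalTw.IsActTwist kb aX (z c).1 (Xz c))
    (Gin : GpH1.H1lc (kb ≃ₐ[k] kb) (SGA7.Pts kb G) → Over (Spec (CommRingCat.of k)))
    [∀ c, GrpObj (Gin c)]
    (hGin : ∀ c, GalTw.IsInnTwist kb G (z c).1 (Gin c))
    (h : StkCnt.IsEssFinite (StkCnt.pts (AlgSt.QuotSt Scheme.etalePrecoverage G aX) k)) :
    StkCnt.ptCount (AlgSt.QuotSt Scheme.etalePrecoverage G aX) k h =
      ∑ c : GpH1.H1lc (kb ≃ₐ[k] kb) (SGA7.Pts kb G),
        (Nat.card (SGA7.Pts k (Xz c)) : ℚ) / (Nat.card (SGA7.Pts k (Gin c)) : ℚ) := by
  haveI : IsAlgClosed kb := IsAlgClosure.isAlgClosed k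
  haveI : Algebra.IsAlgebraic k kb := IsAlgClosure.isAlgebraic
  letI := Fintype.ofFinite k
  let π : kb ≃ₐ[k] kb := FiniteField.frobeniusAlgEquivOfAlgebraic k kb
  have hπ : ∀ x : kb, π x = x ^ Nat.card k := fun x => by rw [Nat.card_eq_fintype_card]; rfl
  obtain ⟨hbij, hcl⟩ := H14Count.frobeniusValue (A := SGA7.Pts kb G) π hπ (fun a => H14Count.isOpen_stab a)
    (H14Count.exists_finite_stable π hπ)
  rw [H14Count.ptCount_eq (k := k) (k' := k) π hπ aX (J := Scheme.etalePrecoverage) le_rfl
    H14Quot.etale_le_fppf_pre (fun c => (z c).1 π) (fun b => ?_) (fun c c' g hg => ?_) h]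
  · refine Finset.sum_congr rfl fun c _ => ?_
    obtain ⟨φ, hφ⟩ := hXz c
    obtain ⟨ψ, -, hψ⟩ := hGin c
    have e1 : Nat.card (SGA7.Pts k (Xz c)) = Nat.card (H14Count.fixPts π aX ((z c).1 π)) := by
      rw [← H14Count.nat_card_fixed π hπ (Xz c)]
      refine Nat.card_congr ((H14Count.twistPtEquiv φ).subtypeEquiv fun y => ?_)
      change π • y = y ↔ CartesianMonoidalCategory.lift ((z c).1 π) (π • H14Count.twistPtEquiv φ y) ≫ aX.act = _
      rw [← H14Count.secPt_actK, ← hφ π, ← H14Count.twistPtEquiv_smul, EmbeddingLike.apply_eq_iff_eq]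
    have e2 : Nat.card (SGA7.Pts k (Gin c)) = Nat.card (H14Count.fixGrp π ((z c).1 π)) := by
      rw [← H14Count.nat_card_fixed π hπ (Gin c)]
      refine Nat.card_congr ((H14Count.twistPtEquiv ψ).subtypeEquiv fun y => ?_)
      change π • y = y ↔ H14Count.twistPtEquiv ψ y * (z c).1 π = (z c).1 π * π • H14Count.twistPtEquiv ψ y
      rw [eq_comm (b := (z c).1 π * π • H14Count.twistPtEquiv ψ y), ← mul_inv_eq_iff_eq_mul, ← H14Count.secPt_innK, ← hψ π, ← H14Count.twistPtEquiv_smul,
        EmbeddingLike.apply_eq_iff_eq]
    rw [e1, e2]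
  · obtain ⟨w, hw⟩ := hbij.2 b
    obtain ⟨g, hg⟩ := (hcl w (z w.cl)).1 (hz w.cl).symm
    exact ⟨w.cl, g, hg.trans (by rw [show w.1 π = b from hw]; rfl)⟩
  · rw [← hz c, ← hz c']
    exact (hcl (z c) (z c')).2 ⟨g, hg⟩

end Groth.Agent.S15686
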