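import Groth.Statements.S15688
import Groth.Agent.H14Count.LangTwist

set_option autoImplicit false
universe u
open CategoryTheory AlgebraicGeometry MonoidalCategory CartesianMonoidalCategory MonObj
open StackCount

namespace Groth.Agent.S15688

/-- Let k be a finite field with algebraic closure k̄, and let A, B, C be smooth algebraic groups over k
with homomorphisms i : A → B and π : B → C forming a short exact sequence 1 → A → B → C → 1 (π ∘ i
trivial, B a pseudo-torsor over C under A acting through i, and π acquiring sections fppf-locally on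
C), with A connected; let c be the action of B on A by conjugation, i.e. an action with i(b · a) = b
i(a) b⁻¹. Let z be a continuous cocycle of Gal(k̄/k) with values in B(k̄), A_z a twist of A by z
through the action c, B_z an inner form of B by z, and C_z an inner form of C by the image of z
under π. Then the numbers of k-points satisfy #B_z(k) = #A_z(k) · #C_z(k). -/
theorem result (k : Type u) [Field k] [Finite k]
    (kb : Type u) [Field kb] [Algebra k kb] [IsAlgClosure k kb]
    (A B C : Over (Spec (CommRingCat.of k))) [GrpObj A] [GrpObj B] [GrpObj C]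
    [Smooth A.hom] [Smooth B.hom] [Smooth C.hom]
    [QuasiCompact A.hom] [QuasiCompact B.hom] [QuasiCompact C.hom]
    (i : A ⟶ B) (π : B ⟶ C) [IsMonHom i] [IsMonHom π]
    (hex : NonAbH1.IsExactSeq Scheme.fppfPrecoverage i π) [ConnectedSpace A.left]
    (c : AlgGrp.Action B A) (hc : c.act ≫ i = fst B A * (snd B A ≫ i) * (fst B A)⁻¹)
    (z : GpH1.OneCocycleLC (kb ≃ₐ[k] kb) (SGA7.Pts kb B))
    (Az : Over (Spec (CommRingCat.of k))) (hAz : GalTw.IsActTwist kb c z.1 Az)
    (Bz : Over (Spec (CommRingCat.of k))) [GrpObj Bz] (hBz : GalTw.IsInnTwist kb B z.1 Bz)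
    (Cz : Over (Spec (CommRingCat.of k))) [GrpObj Cz]
    (hCz : GalTw.IsInnTwist kb C
      (GalTw.lcMap (GalTw.ptsMap (K := kb) π) (GalTw.ptsMap_smul (K := kb) π) z).1 Cz) :
    Nat.card (SGA7.Pts k Bz) = Nat.card (SGA7.Pts k Az) * Nat.card (SGA7.Pts k Cz) := by
  haveI : IsAlgClosed kb := IsAlgClosure.isAlgClosed k
  haveI : Algebra.IsAlgebraic k kb := IsAlgClosure.isAlgebraic
  letI := Fintype.ofFinite k
  let π' : kb ≃ₐ[k] kb := FiniteField.frobeniusAlgEquivOfAlgebraic k kb
  have hπ : ∀ x : kb, π' x = x ^ Nat.card k := fun x => by rw [Nat.card_eq_fintype_card]; rfl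
  have inn : ∀ (G G' : Over (Spec (CommRingCat.of k))) [GrpObj G] [GrpObj G'] (w : GpH1.OneCocycle (kb ≃ₐ[k] kb) (SGA7.Pts kb G)),
      GalTw.IsInnTwist kb G w G' → Nat.card (SGA7.Pts k G') = Nat.card (H14Count.fixGrp π' (w π')) := by
    intro G G' _ _ w hw
    obtain ⟨ψ, -, hψ⟩ := hw
    rw [← H14Count.nat_card_fixed π' hπ G']
    refine Nat.card_congr ((H14Count.twistPtEquiv ψ).subtypeEquiv fun y => ?_)
    change π' • y = y ↔ H14Count.twistPtEquiv ψ y * w π' = w π' * π' • H14Count.twistPtEquiv ψ y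
    rw [eq_comm (b := w π' * π' • H14Count.twistPtEquiv ψ y), ← mul_inv_eq_iff_eq_mul, ← H14Count.secPt_innK, ← hψ π',
      ← H14Count.twistPtEquiv_smul, EmbeddingLike.apply_eq_iff_eq]
  have e1 : Nat.card (SGA7.Pts k Az) = Nat.card (H14Count.fixPts π' c (z.1 π')) := by
    obtain ⟨φ, hφ⟩ := hAz
    rw [← H14Count.nat_card_fixed π' hπ Az]
    refine Nat.card_congr ((H14Count.twistPtEquiv φ).subtypeEquiv fun y => ?_)
    change π' • y = y ↔ CartesianMonoidalCategory.lift (z.1 π') (π' • H14Count.twistPtEquiv φ y) ≫ c.act = _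
    rw [← H14Count.secPt_actK, ← hφ π', ← H14Count.twistPtEquiv_smul, EmbeddingLike.apply_eq_iff_eq]
  rw [inn B Bz z.1 hBz, inn C Cz _ hCz, e1]
  exact H14Count.card_fixGrp_eq π' hπ i π hex c hc (z.1 π')

end Groth.Agent.S15688
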