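import Groth.Statements.S4414
import Groth.Agent.H11Ample.ImmersionPn
import Groth.Agent.H11Ample.RelComp
import Groth.Agent.H11Ample.HQProj

set_option autoImplicit false
universe u
open CategoryTheory CategoryTheory.Limits AlgebraicGeometry
open EGA2

namespace Groth.Agent.S4414

/-- Let Y be a quasi-compact separated scheme possessing an ample invertible O_Y-module, and f : X → Y a
morphism. Then f is quasi-projective (of finite type with some O_X-module ample relative to f) if
and only if f is of finite type and there are r ≥ 0 and an immersion i of X into projective r-space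
over Y with i followed by the projection equal to f. -/
theorem result {X Y : Scheme.{u}} [CompactSpace Y] [Y.IsSeparated]
    (hY : ∃ M : Y.Modules, CohB1.IsAmple M) (f : X ⟶ Y) :
    RelProj.IsQuasiProjective f ↔
      (LocallyOfFiniteType f ∧ QuasiCompact f ∧
        ∃ (r : ℕ) (i : X ⟶ CohB1.ProjSpaceOver r Y), IsImmersion i ∧ i ≫ CohB1.ProjSpaceOver.toBase r Y = f) := by
  constructor
  · intro h
    obtain ⟨hft, hqc, L, hL⟩ := h
    obtain ⟨M, hM⟩ := hY
    haveI := hft
    haveI := hqc
    haveI : CompactSpace X := QuasiCompact.compactSpace_of_compactSpace f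
    obtain ⟨n₀, -, hn⟩ := Groth.Agent.H11Ample.eventually_isAmple_tensor_pullback f hL hM
    haveI := Groth.Agent.H11Ample.quasiSeparatedSpace_of_isAmple (hn n₀ le_rfl)
    obtain ⟨n, i, hi, e⟩ := Groth.Agent.H11Ample.exists_immersion_projSpaceOver f (hn n₀ le_rfl)
    exact ⟨hft, hqc, n, i, hi, e⟩
  · rintro ⟨hft, hqc, n, i, hi, e⟩
    haveI : IsProper (CohB1.ProjSpaceOver.toBase n Y) := Groth.Agent.H27Weil.isProper_toBase n Y
    haveI : QuasiCompact i := by
      haveI : QuasiCompact (i ≫ CohB1.ProjSpaceOver.toBase n Y) := e.symm ▸ hqc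
      exact QuasiCompact.of_comp i (CohB1.ProjSpaceOver.toBase n Y)
    exact Groth.Agent.H11Ample.isQuasiProjective_of_isHQuasiProjective ⟨n, i, hi, inferInstance, e⟩

end Groth.Agent.S4414
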