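import Groth.Statements.S1569
import Groth.Agent.H11Div.DimDivisor
import Mathlib

set_option autoImplicit false
universe u
open CategoryTheory CategoryTheory.Limits AlgebraicGeometry
open Divisors

namespace Groth.Agent.S1569

/-- On a Noetherian scheme, an effective Cartier divisor which is integral as a closed subscheme has a
discrete valuation ring as the local ring of the ambient scheme at its generic point. -/
theorem result (X : Scheme.{u}) [IsNoetherian X]
    (D : X.IdealSheafData) (hD : BlowUp.IsEffCartierIdeal D) [IsIntegral D.subscheme]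
    (ξ : X) (hξ : IsGenericPoint ξ (D.support : Set X)) :
    ∃ _ : IsDomain (X.presheaf.stalk ξ), IsDiscreteValuationRing (X.presheaf.stalk ξ) := by
  classical
  obtain ⟨U, hxU, f, hf, hfU⟩ := hD ξ
  have hξD : ξ ∈ (D.support : Set X) := hξ.mem
  have hgen : ∀ y ∈ (D.support : Set X), y ⤳ ξ → y = ξ := fun y hy h =>
    (Specializes.antisymm h (hξ.specializes hy)).eq
  let p := (U.2.primeIdealOf ⟨ξ, hxU⟩).asIdeal
  have hmin := H11Div.primeIdealOf_mem_minimalPrimes D U ⟨ξ, hxU⟩ hξD hgen
  have hprime : (D.ideal U).IsPrime := by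
    have hne : Nonempty (D.subschemeι ⁻¹ᵁ U.1 : Scheme.{u}) := by
      have : ξ ∈ Set.range D.subschemeι := by rw [Scheme.IdealSheafData.range_subschemeι]; exact hξD
      obtain ⟨z, hz⟩ := this
      exact ⟨⟨z, show D.subschemeι z ∈ U.1 by rw [hz]; exact hxU⟩⟩
    haveI : IsDomain Γ(D.subscheme, D.subschemeι ⁻¹ᵁ U.1) := IsIntegral.component_integral _
    rw [← D.ker_subschemeι_app U]
    exact RingHom.ker_isPrime _
  have heq : p = D.ideal U := le_antisymm (hmin.2 ⟨hprime, le_rfl⟩ hmin.1.2) hmin.1.2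
  letI := TopCat.Presheaf.algebra_section_stalk X.presheaf (⟨ξ, hxU⟩ : U.1)
  haveI := U.2.isLocalization_stalk ⟨ξ, hxU⟩
  let R := X.presheaf.stalk ξ
  let g : R := algebraMap Γ(X, U.1) R f
  have hg : g ∈ nonZeroDivisors R :=
    IsLocalization.map_nonZeroDivisors_le p.primeCompl R ⟨f, hf, rfl⟩
  have hmax : IsLocalRing.maximalIdeal R = Ideal.span {g} := by
    rw [← IsLocalization.AtPrime.map_eq_maximalIdeal p R, heq, hfU, Ideal.map_span, Set.image_singleton]
  have hg0 : g ≠ 0 := nonZeroDivisors.ne_zero hg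
  have hgu : ¬ IsUnit g := fun hu =>
    (IsLocalRing.maximalIdeal.isMaximal R).ne_top (hmax.trans (Ideal.span_singleton_eq_top.2 hu))
  haveI : IsNoetherianRing R := inferInstance
  have hfac : ∀ a : R, a ≠ 0 → ∃ (n : ℕ) (u : R), IsUnit u ∧ a = u * g ^ n := by
    intro a ha
    by_contra hcon
    push Not at hcon
    have hall : ∀ n : ℕ, ∃ b, a = b * g ^ n := by
      intro n
      induction n with
      | zero => exact ⟨a, by simp⟩
      | succ n ih =>
        obtain ⟨b, hb⟩ := ih
        have hbm : b ∈ IsLocalRing.maximalIdeal R := fun hu => hcon n b hu hb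
        rw [hmax, Ideal.mem_span_singleton'] at hbm
        obtain ⟨c, rfl⟩ := hbm
        exact ⟨c, by rw [hb, pow_succ']; ring⟩
    have : a ∈ ⨅ n : ℕ, IsLocalRing.maximalIdeal R ^ n := Ideal.mem_iInf.2 fun n => by
      obtain ⟨b, hb⟩ := hall n
      rw [hmax, Ideal.span_singleton_pow, Ideal.mem_span_singleton']
      exact ⟨b, hb.symm⟩
    rw [Ideal.iInf_pow_eq_bot_of_isLocalRing _ (IsLocalRing.maximalIdeal.isMaximal R).ne_top] at this
    exact ha this
  haveI hdom : IsDomain R := by
    haveI : NoZeroDivisors R := ⟨fun {a b} hab => by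
      by_contra! h
      obtain ⟨m, u, hu, rfl⟩ := hfac a h.1
      obtain ⟨n, v, hv, rfl⟩ := hfac b h.2
      refine nonZeroDivisors.ne_zero (pow_mem hg (m + n)) ((hu.mul hv).mul_right_eq_zero.1 ?_)
      rw [← hab, pow_add]; ring⟩
    exact NoZeroDivisors.to_isDomain R
  refine ⟨hdom, ?_⟩
  have hnf : ¬ IsField R := fun hF => hgu (hF.mul_inv_cancel hg0 |> fun ⟨c, hc⟩ => IsUnit.of_mul_eq_one _ hc)
  exact ((IsDiscreteValuationRing.TFAE R hnf).out 0 4 rfl rfl).2 ⟨⟨g, hmax⟩⟩

end Groth.Agent.S1569
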