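import Groth.Statements.S15692
import Groth.Agent.H14Count.Semidirect

set_option autoImplicit false
universe u
open CategoryTheory AlgebraicGeometry MonoidalCategory CartesianMonoidalCategory MonObj
open StackCount

namespace Groth.Agent.S15692

/-- Let k be a finite field with q elements and algebraic closure k̄, and G a smooth affine algebraic
group over k which is a semidirect product of closed subgroups H and U: the inclusions H → G and U →
G are homomorphisms, U is normal in G, and multiplication H × U → G, (h, u) ↦ h u, is an isomorphism
of k-schemes. Assume U is smooth, connected and unipotent (its base change to k̄ contains no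
non-trivial subtorus), of dimension d. Let G act on a variety X over k (reduced, of finite type) and
let H act on X through its inclusion. If the groupoids of k-points of the quotient stacks [X/G] and
[X/H] (G- resp. H-torsors over Spec k as schemes, locally trivial for the étale topology, with an
equivariant map to X) are essentially finite, then their point counts (sums over isomorphism classes
of the inverse orders of the automorphism groups) satisfy #[X/G](k) · q^d = #[X/H](k). (The
published statement is for the k′-points over any finite extension k′ of k; this row is the case k′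
= k, to which the general case reduces by base change, and takes the groups affine so that torsors
are schemes.) -/
theorem result (k : Type u) [Field k] [Finite k]
    (kb : Type u) [Field kb] [Algebra k kb] [IsAlgClosure k kb]
    (G H U : Over (Spec (CommRingCat.of k))) [GrpObj G] [GrpObj H] [GrpObj U]
    [Smooth G.hom] [IsAffineHom G.hom] [Smooth H.hom] [IsAffineHom H.hom]
    [Smooth U.hom] [IsAffineHom U.hom] [ConnectedSpace U.left]
    (iH : H ⟶ G) (iU : U ⟶ G) [IsMonHom iH] [IsMonHom iU] [Mono iH] [Mono iU]
    (hUn : AlgGrp.IsNormalHom iU) (hsd : IsIso ((fst H U ≫ iH) * (snd H U ≫ iU)))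
    (hUu : Red.HasNoSubtorus kb (GalTw.bcK kb U))
    (d : ℕ) (hd : topologicalKrullDim ↥U.left = (d : WithBot ℕ∞))
    (X : Over (Spec (CommRingCat.of k))) [LocallyOfFiniteType X.hom] [QuasiCompact X.hom]
    [IsReduced X.left] (aG : AlgGrp.Action G X) (aH : AlgGrp.Action H X)
    (haH : aH.act = (iH ▷ X) ≫ aG.act)
    (hG : StkCnt.IsEssFinite (StkCnt.pts (AlgSt.QuotSt Scheme.etalePrecoverage G aG) k))
    (hH : StkCnt.IsEssFinite (StkCnt.pts (AlgSt.QuotSt Scheme.etalePrecoverage H aH) k)) :
    StkCnt.ptCount (AlgSt.QuotSt Scheme.etalePrecoverage G aG) k hG * (Nat.card k : ℚ) ^ d =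
      StkCnt.ptCount (AlgSt.QuotSt Scheme.etalePrecoverage H aH) k hH := by
  haveI : IsAlgClosed kb := IsAlgClosure.isAlgClosed k
  haveI : Algebra.IsAlgebraic k kb := IsAlgClosure.isAlgebraic
  letI := Fintype.ofFinite k
  exact H14Count.ptCount_semidirect (FiniteField.frobeniusAlgEquivOfAlgebraic k kb)
    (fun x => by rw [Nat.card_eq_fintype_card]; rfl) iH iU hUn hsd hUu d hd aG aH haH hG hH

end Groth.Agent.S15692
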