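import Groth.Statements.S15694
import Groth.Agent.H14Count.FiniteTimesAffine

set_option autoImplicit false
universe u
open CategoryTheory AlgebraicGeometry MonoidalCategory CartesianMonoidalCategory MonObj
open StackCount

set_option maxHeartbeats 1600000
set_option backward.isDefEq.respectTransparency false
set_option backward.isDefEq.respectTransparency.types false

namespace Groth.Agent.S15694

attribute [local instance 2000] Hom.group Hom.monoid

open Groth.Agent.H14Count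

/-- Let k be a finite field with q elements and algebraic closure k̄, and G a smooth affine algebraic
group over k of the form (F × H) ⋉ U: F, H, U are closed subgroups (monomorphic homomorphisms into
G), F and H commute elementwise, U is normal, and multiplication (f, h, u) ↦ f h u is an isomorphism
of k-schemes F × H × U → G. Assume F has unipotent identity component (its base change to k̄
contains no non-trivial subtorus) and dimension d_F, H is connected, and U is smooth, connected,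
unipotent (no non-trivial subtorus over k̄) of dimension d_U. Let X = E × V with E finite and
reduced over k and V isomorphic over k to affine n-space, and let G act on X so that the restriction
of the action to F is the product of an action of F on E and an action of F on V, the latter
factoring through a homomorphism from F to a smooth connected algebraic group acting on V. Choose
k̄-points e_j of E, indexed by a finite set J, one in each Galois-stable F(k̄)-orbit of E(k̄) and in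
pairwise distinct orbits. If the groupoid of k-points of the quotient stack [X/G] (étale G-torsors
as schemes with an equivariant map to X) is essentially finite, then its point count satisfies
#[X/G](k) · #H(k) · q^(d_U + d_F) = #J · q^n. (The published statement is for k′-points over any
finite extension k′ and reads #[X/G](k′) = #J · (#k′)^(dim V − dim U − dim F) / #H(k′); this row is
the case k′ = k with denominators cleared, and takes the groups affine so that torsors are schemes.) -/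
theorem result (k : Type u) [Field k] [Finite k]
    (kb : Type u) [Field kb] [Algebra k kb] [IsAlgClosure k kb]
    (G F H U : Over (Spec (CommRingCat.of k))) [GrpObj G] [GrpObj F] [GrpObj H] [GrpObj U]
    [Smooth G.hom] [IsAffineHom G.hom] [Smooth F.hom] [IsAffineHom F.hom]
    [Smooth H.hom] [IsAffineHom H.hom] [ConnectedSpace H.left]
    [Smooth U.hom] [IsAffineHom U.hom] [ConnectedSpace U.left]
    (iF : F ⟶ G) (iH : H ⟶ G) (iU : U ⟶ G) [IsMonHom iF] [IsMonHom iH] [IsMonHom iU]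
    [Mono iF] [Mono iH] [Mono iU]
    (hFH : (fst F H ≫ iF) * (snd F H ≫ iH) = (snd F H ≫ iH) * (fst F H ≫ iF))
    (hUn : AlgGrp.IsNormalHom iU)
    (hsd : IsIso ((fst (F ⊗ H) U ≫ fst F H ≫ iF) * (fst (F ⊗ H) U ≫ snd F H ≫ iH) * (snd (F ⊗ H) U ≫ iU)))
    (hFu : Red.HasNoSubtorus kb (GalTw.bcK kb F)) (hUu : Red.HasNoSubtorus kb (GalTw.bcK kb U))
    (dF dU : ℕ) (hdF : topologicalKrullDim ↥F.left = (dF : WithBot ℕ∞))
    (hdU : topologicalKrullDim ↥U.left = (dU : WithBot ℕ∞))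
    (E V : Over (Spec (CommRingCat.of k))) [IsFinite E.hom] [IsReduced E.left]
    (n : ℕ) (eV : V.left ≅ 𝔸(ULift.{u} (Fin n); Spec (CommRingCat.of k)))
    (heV : eV.hom ≫ (𝔸(ULift.{u} (Fin n); Spec (CommRingCat.of k)) ↘ Spec (CommRingCat.of k)) = V.hom)
    (aX : AlgGrp.Action G (E ⊗ V)) (aE : AlgGrp.Action F E) (aV : AlgGrp.Action F V)
    (haF : (iF ▷ (E ⊗ V)) ≫ aX.act =
      lift (lift (fst F (E ⊗ V)) (snd F (E ⊗ V) ≫ fst E V) ≫ aE.act)
        (lift (fst F (E ⊗ V)) (snd F (E ⊗ V) ≫ snd E V) ≫ aV.act))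
    (Fc : Over (Spec (CommRingCat.of k))) [GrpObj Fc] [Smooth Fc.hom] [QuasiCompact Fc.hom]
    [ConnectedSpace Fc.left] (ρ : F ⟶ Fc) [IsMonHom ρ] (aVc : AlgGrp.Action Fc V)
    (haV : aV.act = (ρ ▷ V) ≫ aVc.act)
    (J : Type) [Fintype J] (e : J → SGA7.Pts kb E)
    (hdis : ∀ j j' : J, (∃ g : SGA7.Pts kb F, lift g (e j) ≫ aE.act = e j') → j = j')
    (hfix : ∀ (j : J) (σ : kb ≃ₐ[k] kb), ∃ g : SGA7.Pts kb F, lift g (σ • e j) ≫ aE.act = e j)
    (hall : ∀ y : SGA7.Pts kb E,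
      (∀ σ : kb ≃ₐ[k] kb, ∃ g : SGA7.Pts kb F, lift g (σ • y) ≫ aE.act = y) →
        ∃ (j : J) (g : SGA7.Pts kb F), lift g (e j) ≫ aE.act = y)
    (h : StkCnt.IsEssFinite (StkCnt.pts (AlgSt.QuotSt Scheme.etalePrecoverage G aX) k)) :
    StkCnt.ptCount (AlgSt.QuotSt Scheme.etalePrecoverage G aX) k h *
        (Nat.card (SGA7.Pts k H) : ℚ) * (Nat.card k : ℚ) ^ (dU + dF) =
      (Fintype.card J : ℚ) * (Nat.card k : ℚ) ^ n := by
  classical
  haveI : IsAlgClosed kb := IsAlgClosure.isAlgClosed k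
  haveI : Algebra.IsAlgebraic k kb := IsAlgClosure.isAlgebraic
  obtain ⟨π, hπ⟩ := exists_frobenius k kb
  let P := SGA7.pt (K := k) kb
  let m : (F ⊗ H) ⊗ U ⟶ G :=
    (fst (F ⊗ H) U ≫ fst F H ≫ iF) * (fst (F ⊗ H) U ≫ snd F H ≫ iH) * (snd (F ⊗ H) U ≫ iU)
  haveI : IsIso m := hsd
  have e1 : ∀ (f : P ⟶ F) (h' : P ⟶ H) (u : P ⟶ U),
      lift (lift f h') u ≫ m = (f ≫ iF) * (h' ≫ iH) * (u ≫ iU) := fun f h' u => by
    rw [MonObj.comp_mul, MonObj.comp_mul, lift_fst_assoc, lift_fst_assoc, lift_snd_assoc, lift_fst_assoc, lift_snd_assoc]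
  have hdec : ∀ g : P ⟶ G, ∃ f h' u, g = (f ≫ iF) * (h' ≫ iH) * (u ≫ iU) := fun g => by
    refine ⟨(g ≫ inv m) ≫ fst _ _ ≫ fst F H, (g ≫ inv m) ≫ fst _ _ ≫ snd F H, (g ≫ inv m) ≫ snd _ _, ?_⟩
    rw [← e1]
    have : lift (lift ((g ≫ inv m) ≫ fst _ _ ≫ fst F H) ((g ≫ inv m) ≫ fst _ _ ≫ snd F H)) ((g ≫ inv m) ≫ snd _ _)
        = g ≫ inv m := by
      apply CartesianMonoidalCategory.hom_ext
      · rw [lift_fst]
        apply CartesianMonoidalCategory.hom_ext <;> simp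
      · rw [lift_snd]
    rw [this, Category.assoc, IsIso.inv_hom_id, Category.comp_id]
  have hdec' : ∀ {f f' : P ⟶ F} {h₁ h₂ : P ⟶ H} {u u' : P ⟶ U},
      (f ≫ iF) * (h₁ ≫ iH) * (u ≫ iU) = (f' ≫ iF) * (h₂ ≫ iH) * (u' ≫ iU) → f = f' ∧ h₁ = h₂ ∧ u = u' :=
    fun {f f' h₁ h₂ u u'} e => by
      rw [← e1, ← e1, cancel_mono] at e
      exact ⟨by simpa using congrArg (· ≫ fst _ U ≫ fst F H) e, by simpa using congrArg (· ≫ fst _ U ≫ snd F H) e,
        by simpa using congrArg (· ≫ snd _ U) e⟩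
  obtain ⟨c, hc⟩ := exists_conjAction iU hUn
  have hci : ∀ (g : P ⟶ G) (n : P ⟶ U), (lift g n ≫ c.act) ≫ iU = g * (n ≫ iU) * g⁻¹ := fun g n => hc P g n
  have hmul : ∀ (g : P ⟶ G) (x y : P ⟶ U),
      lift g (x * y) ≫ c.act = (lift g x ≫ c.act) * (lift g y ≫ c.act) := fun g x y => by
    rw [← cancel_mono iU, MonObj.mul_comp, hci, hci, hci, MonObj.mul_comp]
    group
  have hcomm : ∀ (f : P ⟶ F) (h' : P ⟶ H), (f ≫ iF) * (h' ≫ iH) = (h' ≫ iH) * (f ≫ iF) := fun f h' => by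
    have := congrArg (lift f h' ≫ ·) hFH
    simp only [MonObj.comp_mul, lift_fst_assoc, lift_snd_assoc] at this
    exact this
  -- the product of two elements in normal form
  have hprod : ∀ (f f' : P ⟶ F) (h₁ h₂ : P ⟶ H) (u u' : P ⟶ U),
      ((f ≫ iF) * (h₁ ≫ iH) * (u ≫ iU)) * ((f' ≫ iF) * (h₂ ≫ iH) * (u' ≫ iU)) =
        ((f * f') ≫ iF) * ((h₁ * h₂) ≫ iH) *
          (((lift ((f' ≫ iF) * (h₂ ≫ iH))⁻¹ u ≫ c.act) * u') ≫ iU) := fun f f' h₁ h₂ u u' => by
    rw [MonObj.mul_comp, MonObj.mul_comp, MonObj.mul_comp, hci]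
    calc _ = (f ≫ iF) * ((h₁ ≫ iH) * (f' ≫ iF)) * (h₂ ≫ iH) *
          (((f' ≫ iF) * (h₂ ≫ iH))⁻¹ * (u ≫ iU) * ((f' ≫ iF) * (h₂ ≫ iH))) * (u' ≫ iU) := by group
      _ = _ := by rw [← hcomm f' h₁]; group
  -- the projection to the finite part
  let pr : (P ⟶ G) →* (P ⟶ F) := MonoidHom.mk' (fun g => (g ≫ inv m) ≫ fst _ U ≫ fst F H) fun g g' => by
    obtain ⟨f, h₁, u, rfl⟩ := hdec g
    obtain ⟨f', h₂, u', rfl⟩ := hdec g'
    rw [hprod, ← e1, ← e1, ← e1]
    simp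
  have hprπ : ∀ g, pr (ptAut k π ≫ g) = ptAut k π ≫ pr g := fun g => by
    simp only [pr, MonoidHom.mk'_apply, Category.assoc]
  have hprF : ∀ f, pr (f ≫ iF) = f := fun f => by
    have : f ≫ iF = lift (lift f 1) 1 ≫ m := by
      rw [e1, MonObj.one_comp, MonObj.one_comp, _root_.mul_one, _root_.mul_one]
    change ((f ≫ iF) ≫ inv m) ≫ fst _ U ≫ fst F H = f
    rw [this]
    simp
  -- moving classes into the finite part
  have hmove : ∀ g : P ⟶ G, ∃ (f : P ⟶ F) (w : P ⟶ G), f ≫ iF = w * g * (ptAut k π ≫ w)⁻¹ := fun g => by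
    obtain ⟨f, h', u, rfl⟩ := hdec g
    obtain ⟨cH, -⟩ := exists_conjAction (𝟙 H) (fun T g n => ⟨_, (Category.comp_id _).symm⟩)
    obtain ⟨z, hz⟩ := exists_lang_twist π hπ cH (1 : P ⟶ H)
      (fun x y => by simp only [AlgGrp.Action.lift_one_act]) h'
    rw [AlgGrp.Action.lift_one_act, smul_eq_ptAut] at hz
    let g₁ := (f ≫ iF) * (h' ≫ iH)
    obtain ⟨y, hy⟩ := exists_lang_twist π hπ c g₁ (hmul _) (lift g₁ u ≫ c.act)
    have hy' := congrArg (· ≫ iU) hy
    simp only [MonObj.mul_comp, GrpObj.inv_comp, hci, smul_eq_ptAut, Category.assoc] at hy'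
    refine ⟨f, (z ≫ iH)⁻¹ * (y ≫ iU)⁻¹, ?_⟩
    rw [MonObj.comp_mul, GrpObj.comp_inv, GrpObj.comp_inv]
    have e : u ≫ iU = g₁⁻¹ * ((y ≫ iU) * (g₁ * (ptAut k π ≫ y ≫ iU) * g₁⁻¹)⁻¹) * g₁ := by
      rw [hy']
      group
    rw [e]
    have e' : h' ≫ iH = (z ≫ iH) * (ptAut k π ≫ z ≫ iH)⁻¹ := by
      rw [← hz, MonObj.mul_comp, GrpObj.inv_comp, Category.assoc]
    symm
    calc _ = (z ≫ iH)⁻¹ * g₁ * (ptAut k π ≫ z ≫ iH) := by simp only [g₁]; group
      _ = ((z ≫ iH)⁻¹ * (f ≫ iF)) * (h' ≫ iH) * (ptAut k π ≫ z ≫ iH) := by simp only [g₁]; group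
      _ = _ := by
        rw [← GrpObj.inv_comp z iH, ← hcomm f z⁻¹, GrpObj.inv_comp, e']
        group
  haveI : LocallyOfFiniteType V.hom := by rw [← heV]; infer_instance
  haveI : QuasiCompact V.hom := by rw [← heV]; infer_instance
  haveI : LocallyOfFiniteType (E ⊗ V).hom := by
    rw [Over.tensorObj_hom]; infer_instance
  haveI : QuasiCompact (E ⊗ V).hom := by
    rw [Over.tensorObj_hom]; infer_instance
  -- the action of the finite part
  have hact : ∀ (f : P ⟶ F) (x : P ⟶ E ⊗ V), lift (f ≫ iF) x ≫ aX.act =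
      lift (lift f (x ≫ fst E V) ≫ aE.act) (lift f (x ≫ snd E V) ≫ aV.act) := fun f x => by
    rw [← lift_whiskerRight, Category.assoc, haF, comp_lift]
    simp only [comp_lift_assoc, lift_fst, lift_snd_assoc]
  have hpair : ∀ (f : P ⟶ F) (x : P ⟶ E ⊗ V), lift (f ≫ iF) (ptAut k π ≫ x) ≫ aX.act = x ↔
      lift f (ptAut k π ≫ x ≫ fst E V) ≫ aE.act = x ≫ fst E V ∧
        lift f (ptAut k π ≫ x ≫ snd E V) ≫ aV.act = x ≫ snd E V := fun f x => by
    rw [hact]
    simp only [Category.assoc]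
    constructor
    · intro e
      exact ⟨by simpa using congrArg (· ≫ fst E V) e, by simpa using congrArg (· ≫ snd E V) e⟩
    · rintro ⟨h₁, h₂⟩
      rw [h₁, h₂, lift_comp_fst_snd]
  have hV : ∀ f : P ⟶ F, Nat.card (fixPts π aV f) = Nat.card k ^ n := fun f =>
    card_fix_affineSpace π hπ n eV heV aV ρ aVc haV f
  -- the classes
  obtain ⟨D, _, a, hne, hbs, hbi⟩ := exists_classes π hπ aX le_rfl h
  choose b w hw using fun d => hmove (a d)
  have hbi' : ∀ d d' v, b d' = v * b d * (ptAut k π ≫ v)⁻¹ → d = d' := fun d d' v hv => by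
    refine hbi d d' ((w d')⁻¹ * (v ≫ iF) * w d) ?_
    have h1 := congrArg (· ≫ iF) hv
    simp only [MonObj.mul_comp, GrpObj.inv_comp, Category.assoc, hw] at h1
    rw [MonObj.comp_mul, MonObj.comp_mul, GrpObj.comp_inv]
    calc a d' = (w d')⁻¹ * (w d' * a d' * (ptAut k π ≫ w d')⁻¹) * (ptAut k π ≫ w d') := by group
      _ = _ := by rw [h1]; group
  have hsurj : ∀ b' : P ⟶ G, Nonempty (fixPts π aX b') →
      ∃ d g, b d ≫ iF = g * b' * (ptAut k π ≫ g)⁻¹ := fun b' hb' => by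
    obtain ⟨d, g, hg⟩ := hbs b' hb'
    refine ⟨d, w d * g, ?_⟩
    rw [hw, hg, MonObj.comp_mul]
    group
  have hbs' : ∀ b', Nonempty (fixPts π aE b') → ∃ d v, b d = v * b' * (ptAut k π ≫ v)⁻¹ := fun b' hb' => by
    obtain ⟨⟨e₀, he₀⟩⟩ := hb'
    obtain ⟨⟨v₀, hv₀⟩⟩ : Nonempty (fixPts π aV b') :=
      (Nat.card_pos_iff.1 (by rw [hV]; exact pow_pos Nat.card_pos n)).1
    obtain ⟨d, g, hg⟩ := hsurj (b' ≫ iF) ⟨⟨lift e₀ v₀, (hpair b' _).2 (by rw [lift_fst, lift_snd]; exact ⟨he₀, hv₀⟩)⟩⟩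
    refine ⟨d, pr g, ?_⟩
    have h1 := congrArg pr hg
    rwa [map_mul, map_mul, map_inv, hprπ, hprF, hprF] at h1
  rw [ptCount_eq' π hπ aX le_rfl Groth.Agent.H14Quot.etale_le_fppf_pre (fun d => b d ≫ iF) hsurj
    (fun d d' g hg => hbi' d d' (pr g) (by
      have h1 := congrArg pr hg
      rwa [map_mul, map_mul, map_inv, hprπ, hprF, hprF] at h1)) h]
  have hcX : ∀ d, Nat.card (fixPts π aX (b d ≫ iF)) = Nat.card (fixPts π aE (b d)) * Nat.card k ^ n := fun d => by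
    rw [← hV (b d), ← Nat.card_prod]
    exact Nat.card_congr
      { toFun := fun x => (⟨x.1 ≫ fst E V, ((hpair _ _).1 x.2).1⟩, ⟨x.1 ≫ snd E V, ((hpair _ _).1 x.2).2⟩)
        invFun := fun y => ⟨lift y.1.1 y.2.1, (hpair _ _).2 (by rw [lift_fst, lift_snd]; exact ⟨y.1.2, y.2.2⟩)⟩
        left_inv := fun x => Subtype.ext (lift_comp_fst_snd x.1)
        right_inv := fun y => Prod.ext (Subtype.ext (lift_fst _ _)) (Subtype.ext (lift_snd _ _)) }
  have hcG : ∀ d, Nat.card (fixGrp π (b d ≫ iF)) =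
      Nat.card (fixGrp π (b d)) * Nat.card (SGA7.Pts k H) * Nat.card k ^ dU := fun d => by
    rw [← nat_card_fixed π hπ H, ← Unip.card_fixed_action π hπ hUu dU hdU c (b d ≫ iF) hmul, ← Nat.card_prod,
      ← Nat.card_prod]
    have hiff : ∀ (f : P ⟶ F) (h' : P ⟶ H) (u : P ⟶ U),
        (f ≫ iF) * (h' ≫ iH) * (u ≫ iU) ∈ fixGrp π (b d ≫ iF) ↔
          f ∈ fixGrp π (b d) ∧ ptAut k π ≫ h' = h' ∧ lift (b d ≫ iF) (π • u) ≫ c.act = u := fun f h' u => by
      have l1 : (f ≫ iF) * (h' ≫ iH) * (u ≫ iU) * (b d ≫ iF) =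
          ((f * b d) ≫ iF) * (h' ≫ iH) * ((lift (b d ≫ iF)⁻¹ u ≫ c.act) ≫ iU) := by
        rw [hci, MonObj.mul_comp]
        calc _ = (f ≫ iF) * ((h' ≫ iH) * (b d ≫ iF)) * ((b d ≫ iF)⁻¹ * (u ≫ iU) * (b d ≫ iF)) := by group
          _ = _ := by rw [← hcomm (b d) h']; group
      have l2 : (b d ≫ iF) * (ptAut k π ≫ ((f ≫ iF) * (h' ≫ iH) * (u ≫ iU))) =
          ((b d * (ptAut k π ≫ f)) ≫ iF) * ((ptAut k π ≫ h') ≫ iH) * ((π • u) ≫ iU) := by
        rw [MonObj.comp_mul, MonObj.comp_mul, MonObj.mul_comp, smul_eq_ptAut]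
        simp only [Category.assoc, _root_.mul_assoc]
      change (f ≫ iF) * (h' ≫ iH) * (u ≫ iU) * (b d ≫ iF) =
        (b d ≫ iF) * (ptAut k π ≫ ((f ≫ iF) * (h' ≫ iH) * (u ≫ iU))) ↔ _
      rw [l1, l2]
      constructor
      · intro e
        obtain ⟨e3, e4, e5⟩ := hdec' e
        refine ⟨e3, e4.symm, ?_⟩
        rw [← e5, ← AlgGrp.Action.lift_mul_act, mul_inv_cancel, AlgGrp.Action.lift_one_act]
      · rintro ⟨e3, e4, e5⟩
        rw [show f * b d = b d * (ptAut k π ≫ f) from e3, e4]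
        conv_lhs => rw [← e5, ← AlgGrp.Action.lift_mul_act, inv_mul_cancel, AlgGrp.Action.lift_one_act]
    refine (Nat.card_congr (Equiv.ofBijective (fun z : (fixGrp π (b d) × {y : SGA7.Pts kb H // ptAut k π ≫ y = y}) ×
      {u : SGA7.Pts kb U // lift (b d ≫ iF) (π • u) ≫ c.act = u} =>
        (⟨(z.1.1.1 ≫ iF) * (z.1.2.1 ≫ iH) * (z.2.1 ≫ iU), (hiff _ _ _).2 ⟨z.1.1.2, z.1.2.2, z.2.2⟩⟩ :
          fixGrp π (b d ≫ iF))) ⟨fun z z' e => ?_, fun g => ?_⟩)).symm
    · obtain ⟨h₁, h₂, h₃⟩ := hdec' (congrArg Subtype.val e)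
      exact Prod.ext (Prod.ext (Subtype.ext h₁) (Subtype.ext h₂)) (Subtype.ext h₃)
    · obtain ⟨f, h', u, hg⟩ := hdec g.1
      obtain ⟨h₁, h₂, h₃⟩ := (hiff f h' u).1 (hg ▸ g.2)
      exact ⟨((⟨f, h₁⟩, ⟨h', h₂⟩), ⟨u, h₃⟩), Subtype.ext hg.symm⟩
  have hmass := finite_action_mass π hπ aE hFu dF hdF e hdis hfix hall b hbs' hbi'
  have hq : (Nat.card k : ℚ) ≠ 0 := by exact_mod_cast (Nat.card_pos (α := k)).ne'
  have hH : (Nat.card (SGA7.Pts k H) : ℚ) ≠ 0 := by
    haveI : Finite {y : SGA7.Pts kb H // ptAut k π ≫ y = y} := by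
      have := finite_fixed π hπ H Nat.one_pos
      simp only [pow_one] at this
      exact this.to_subtype
    haveI : Nonempty {y : SGA7.Pts kb H // ptAut k π ≫ y = y} := ⟨⟨1, MonObj.comp_one _⟩⟩
    rw [← nat_card_fixed π hπ H]
    exact_mod_cast (Nat.card_pos).ne'
  calc _ = (∑ d, (Nat.card (fixPts π aE (b d)) : ℚ) / (Nat.card (fixGrp π (b d)) : ℚ)) *
        ((Nat.card k : ℚ) ^ n * (Nat.card k : ℚ) ^ dF) := by
        simp only [Finset.sum_mul]
        refine Finset.sum_congr rfl fun d _ => ?_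
        rw [hcX, hcG, Nat.cast_mul, Nat.cast_mul, Nat.cast_mul, Nat.cast_pow, Nat.cast_pow, pow_add]
        field_simp
    _ = _ := by
        rw [hmass]
        field_simp

end Groth.Agent.S15694
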