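import Groth.Statements.S15695
import Groth.Agent.H3CAlg.RetractRat

set_option autoImplicit false
universe u
open CategoryTheory AlgebraicGeometry
open RatVar

namespace Groth.Agent.S15695

/-- Let X be an integral scheme of finite type over a field k. The following are equivalent. (i) There
are a non-empty open subscheme U of X, an open subscheme Y of an affine space Spec k[x_1, ..., x_n]
and k-morphisms U → Y → U whose composite is the identity of U. (ii) There is a non-empty open
subscheme V of X such that for every local k-algebra A with residue field κ, every k-morphism Spec κ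
→ V lifts along Spec κ → Spec A to a k-morphism Spec A → V. (Local k-algebras are taken in the
universe of k.) -/
theorem result (k : Type u) [Field k] (X : Scheme.{u})
    (f : X ⟶ Spec (CommRingCat.of k)) [IsIntegral X] [LocallyOfFiniteType f] [QuasiCompact f] :
    (∃ (U : X.Opens) (n : ℕ) (Y : (Spec (CommRingCat.of (MvPolynomial (Fin n) k))).Opens)
        (a : (U : Scheme.{u}) ⟶ (Y : Scheme.{u})) (b : (Y : Scheme.{u}) ⟶ (U : Scheme.{u})),
        (U : Set X).Nonempty ∧ a ≫ b = 𝟙 (U : Scheme.{u}) ∧
        a ≫ Y.ι ≫ Spec.map (CommRingCat.ofHom (algebraMap k (MvPolynomial (Fin n) k))) = U.ι ≫ f ∧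
        b ≫ U.ι ≫ f = Y.ι ≫ Spec.map (CommRingCat.ofHom (algebraMap k (MvPolynomial (Fin n) k)))) ↔
    (∃ V : X.Opens, (V : Set X).Nonempty ∧
      ∀ (A : Type u) [CommRing A] [IsLocalRing A] [Algebra k A]
        (g : Spec (CommRingCat.of (IsLocalRing.ResidueField A)) ⟶ (V : Scheme.{u})),
        g ≫ V.ι ≫ f = Spec.map (CommRingCat.ofHom ((IsLocalRing.residue A).comp (algebraMap k A))) →
        ∃ g' : Spec (CommRingCat.of A) ⟶ (V : Scheme.{u}),
          Spec.map (CommRingCat.ofHom (IsLocalRing.residue A)) ≫ g' = g ∧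
          g' ≫ V.ι ≫ f = Spec.map (CommRingCat.ofHom (algebraMap k A))) := by
  constructor
  · rintro ⟨U, n, Y, a, b, hU, hab, ha, hb⟩
    exact ⟨U, hU, fun A _ _ _ g hg => H3CAlg.RetractRat.lift_of_retract f U n Y a b hab ha hb A g hg⟩
  · rintro ⟨V, hV, H⟩
    exact H3CAlg.RetractRat.retract_of_lift f V hV H

end Groth.Agent.S15695
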