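import Groth.Statements.S15697
import Groth.Agent.H1Inv.Basic

set_option autoImplicit false
universe u
open InvFld

namespace Groth.Agent.S15697

/-- Let k be a characteristic-zero field and suppose a finite group acts k-linearly on
finite-dimensional k-vector spaces V and W, faithfully on V. Then k(V ⊕ W)^G is purely
transcendental over k(V)^G, of transcendence degree dim W. Stated with V = k^n, W = k^m inside L =
k(x_1, ..., x_n, y_1, ..., y_m): G is a finite group of k-algebra automorphisms of L sending each
x_i into the k-span of the x's and each y_j into the k-span of the y's, such that an element of G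
fixing every x_i is trivial; F is the intersection of k(x_1, ..., x_n) with the fixed field of G;
then there are y'_1, ..., y'_m in L, algebraically independent over F, with F(y'_1, ..., y'_m) equal
to the fixed field of G. -/
theorem result (k : Type u) [Field k] [CharZero k] (n m : ℕ)
    (G : Subgroup (InvFld.Fld (Fin n ⊕ Fin m) k ≃ₐ[k] InvFld.Fld (Fin n ⊕ Fin m) k)) [Finite G]
    (hx : ∀ σ ∈ G, ∀ i : Fin n, σ (InvFld.X (Sum.inl i)) ∈ Submodule.span k (Set.range fun j : Fin n => (InvFld.X (Sum.inl j) : InvFld.Fld (Fin n ⊕ Fin m) k)))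
    (hy : ∀ σ ∈ G, ∀ i : Fin m, σ (InvFld.X (Sum.inr i)) ∈ Submodule.span k (Set.range fun j : Fin m => (InvFld.X (Sum.inr j) : InvFld.Fld (Fin n ⊕ Fin m) k)))
    (hfaith : ∀ σ ∈ G, (∀ i : Fin n, σ (InvFld.X (Sum.inl i)) = InvFld.X (Sum.inl i)) → σ = 1) :
    ∃ t : Fin m → InvFld.Fld (Fin n ⊕ Fin m) k,
      AlgebraicIndependent (↥(IntermediateField.adjoin k (Set.range fun j : Fin n => (InvFld.X (Sum.inl j) : InvFld.Fld (Fin n ⊕ Fin m) k)) ⊓ IntermediateField.fixedField G)) t ∧
      IntermediateField.restrictScalars k (IntermediateField.adjoin (↥(IntermediateField.adjoin k (Set.range fun j : Fin n => (InvFld.X (Sum.inl j) : InvFld.Fld (Fin n ⊕ Fin m) k)) ⊓ IntermediateField.fixedField G)) (Set.range t)) =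
        IntermediateField.fixedField G := by
  let x := fun i : Fin n => (InvFld.X (Sum.inl i) : InvFld.Fld (Fin n ⊕ Fin m) k)
  let y := fun i : Fin m => (InvFld.X (Sum.inr i) : InvFld.Fld (Fin n ⊕ Fin m) k)
  haveI : CharZero (InvFld.Fld (Fin n ⊕ Fin m) k) := charZero_of_injective_algebraMap (algebraMap k _).injective
  let L := IntermediateField.adjoin k (Set.range x)
  obtain ⟨t, hti, htf⟩ := H1Inv.noName G L
    (fun g hg => H1Inv.map_mem_adjoin x g.toAlgHom fun i => H1Inv.span_mem_adjoin _ _ (hx g hg i))
    (fun g hg h => hfaith g hg fun i => h _ (IntermediateField.subset_adjoin k _ ⟨i, rfl⟩))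
    y
    (H1Inv.algebraicIndependent_adjoin x y (by
      have h := (H1Inv.algebraicIndependent_vars (k := k) (σ := Fin n ⊕ Fin m)).comp Sum.swap (Equiv.sumComm _ _).injective
      refine (Eq.subst (motive := fun v => AlgebraicIndependent k v) ?_ h)
      funext i; cases i <;> rfl))
    (eq_top_iff.2 (by
      rw [← H1Inv.adjoin_vars, IntermediateField.adjoin_le_iff]
      rintro _ ⟨i | i, rfl⟩
      · exact IntermediateField.subset_adjoin k _ (Or.inl (IntermediateField.subset_adjoin k _ ⟨i, rfl⟩))
      · exact IntermediateField.subset_adjoin k _ (Or.inr ⟨i, rfl⟩)))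
    (fun g hg i => Submodule.span_le_restrictScalars k L _ (hy g hg i))
  refine ⟨t, ?_, ?_⟩
  · intro p q hpq
    let i : ↥(L ⊓ IntermediateField.fixedField G) →ₐ[k] L := IntermediateField.inclusion inf_le_left
    have h : ∀ p, MvPolynomial.aeval t (MvPolynomial.map i.toRingHom p) = MvPolynomial.aeval t p := fun p => by
      rw [MvPolynomial.aeval_def, MvPolynomial.eval₂_map]; rfl
    exact MvPolynomial.map_injective i.toRingHom i.toRingHom.injective (hti ((h p).trans (hpq.trans (h q).symm)))
  · rw [IntermediateField.restrictScalars_adjoin]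
    exact htf

end Groth.Agent.S15697
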