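import Groth.Statements.S15698
import Groth.Agent.H1Inv.Pair

set_option autoImplicit false
universe u
open InvFld

namespace Groth.Agent.S15698

/-- Let k be a characteristic-zero field; for each faithful finite-dimensional linear representation V
of the symmetric group S_n over k, the field of invariants k(V)^{S_n} is stably pure over k. Stated
with V = k^m: G is a finite group of k-algebra automorphisms of k(x_1, ..., x_m), each sending every
variable to a k-linear combination of the variables, isomorphic as an abstract group to the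
symmetric group on n letters; then for some r the rational function field in r variables over the
fixed field of G is generated over k by finitely many algebraically independent elements. -/
theorem result (k : Type u) [Field k] [CharZero k] (n m : ℕ)
    (G : Subgroup (InvFld.Fld (Fin m) k ≃ₐ[k] InvFld.Fld (Fin m) k)) [Finite G] (e : G ≃* Equiv.Perm (Fin n))
    (hG : ∀ σ ∈ G, ∀ i : Fin m, σ (InvFld.X i) ∈ Submodule.span k (Set.range fun j : Fin m => (InvFld.X j : InvFld.Fld (Fin m) k))) :
    ∃ (r N : ℕ) (t : Fin N → InvFld.Fld (Fin r) (IntermediateField.fixedField G)),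
      AlgebraicIndependent k t ∧ IntermediateField.adjoin k (Set.range t) = ⊤ := by
  classical
  let F0 := InvFld.Fld (Fin n) k
  let π : Equiv.Perm (Fin n) →* (F0 ≃ₐ[k] F0) :=
    MonoidHom.mk' (fun s => IsFractionRing.algEquivOfAlgEquiv (MvPolynomial.renameEquiv k s)) fun s t =>
      AlgEquiv.ext fun x => by
        obtain ⟨a, b, _, rfl⟩ := IsFractionRing.div_surjective (MvPolynomial (Fin n) k) x
        simp only [map_div₀, AlgEquiv.mul_apply, IsFractionRing.algEquivOfAlgEquiv_algebraMap,
          MvPolynomial.renameEquiv_apply, MvPolynomial.rename_rename]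
        rfl
  have hπ : ∀ s p, π s (algebraMap (MvPolynomial (Fin n) k) F0 p) = algebraMap _ F0 (MvPolynomial.rename s p) := fun s p =>
    IsFractionRing.algEquivOfAlgEquiv_algebraMap (MvPolynomial.renameEquiv k s) p
  have hπi : Function.Injective π := fun s t hst => Equiv.ext fun i => by
    have h := (DFunLike.congr_fun hst (InvFld.X i))
    rw [hπ, hπ, MvPolynomial.rename_X, MvPolynomial.rename_X] at h
    exact MvPolynomial.X_injective (IsFractionRing.injective _ _ h)
  have hsym : ∀ σ ∈ π.range, ∀ i : Fin n, σ (InvFld.X i) ∈ Submodule.span k (Set.range fun j : Fin n => (InvFld.X j : F0)) := by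
    rintro _ ⟨s, rfl⟩ i
    rw [hπ, MvPolynomial.rename_X]
    exact Submodule.subset_span ⟨s i, rfl⟩
  obtain ⟨Φ1⟩ := H1Inv.pair G π.range (e.trans (MonoidHom.ofInjective hπi)) hG hsym
  -- symmetric rational functions
  let es : Fin n → F0 := fun i => algebraMap (MvPolynomial (Fin n) k) F0 (MvPolynomial.esymm (Fin n) k (i + 1))
  let φ0 : MvPolynomial (Fin n) k →ₐ[k] F0 := ((IsScalarTower.toAlgHom k (MvPolynomial (Fin n) k) F0).comp
    (MvPolynomial.symmetricSubalgebra (Fin n) k).val).comp (MvPolynomial.esymmAlgHom (Fin n) k n)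
  have hφ0 : Function.Injective φ0 :=
    ((IsFractionRing.injective (MvPolynomial (Fin n) k) F0).comp Subtype.val_injective).comp
      (MvPolynomial.esymmAlgHom_injective (σ := Fin n) (n := n) k (Fintype.card_fin n).ge)
  let ψ0 : F0 →ₐ[k] F0 := IsFractionRing.liftAlgHom hφ0
  have hψ0 : ∀ p, ψ0 (algebraMap _ F0 p) = φ0 p := fun p => IsFractionRing.lift_algebraMap hφ0 p
  have hr : ψ0.fieldRange = IntermediateField.fixedField π.range := by
    refine le_antisymm ?_ fun x hx => ?_
    · rintro _ ⟨x, rfl⟩
      obtain ⟨a, b, _, rfl⟩ := IsFractionRing.div_surjective (MvPolynomial (Fin n) k) x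
      rw [IntermediateField.mem_fixedField_iff]
      rintro _ ⟨s, rfl⟩
      show π s (ψ0 _) = ψ0 _
      rw [map_div₀, hψ0, hψ0, map_div₀]
      have key : ∀ p, π s (φ0 p) = φ0 p := fun p =>
        (hπ s _).trans (congrArg (algebraMap _ F0) ((MvPolynomial.esymmAlgHom (Fin n) k n p).2 s))
      rw [key, key]
    · obtain ⟨a, b, hb, rfl⟩ := IsFractionRing.div_surjective (MvPolynomial (Fin n) k) x
      let b' := ∏ s : Equiv.Perm (Fin n), MvPolynomial.rename s b
      let a' := a * ∏ s ∈ (Finset.univ : Finset (Equiv.Perm (Fin n))).erase 1, MvPolynomial.rename s b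
      have hb0 : b ≠ 0 := nonZeroDivisors.ne_zero hb
      have hb' : b' ≠ 0 := Finset.prod_ne_zero_iff.2 fun s _ => (map_ne_zero_iff _ (MvPolynomial.rename_injective _ s.injective)).2 hb0
      have hab : algebraMap _ F0 a / algebraMap _ F0 b = algebraMap _ F0 a' / algebraMap _ F0 b' := by
        rw [div_eq_div_iff (by simpa using hb0) (by simpa using hb'), ← map_mul, ← map_mul]
        refine congrArg _ ?_
        show a * b' = a' * b
        have := Finset.mul_prod_erase (Finset.univ : Finset (Equiv.Perm (Fin n))) (fun s => MvPolynomial.rename s b) (Finset.mem_univ 1)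
        rw [show b' = _ from this.symm, Equiv.Perm.coe_one, MvPolynomial.rename_id_apply]
        ring
      have hbs : MvPolynomial.IsSymmetric b' := fun t => by
        simp only [b', map_prod, MvPolynomial.rename_rename]
        exact Fintype.prod_equiv (Equiv.mulLeft t) _ _ fun s => rfl
      have has : MvPolynomial.IsSymmetric a' := fun t => by
        have h := (IntermediateField.mem_fixedField_iff _ _).1 hx (π t) ⟨t, rfl⟩
        rw [hab, map_div₀, hπ, hπ, hbs t, div_eq_div_iff (by simpa using hb') (by simpa using hb')] at h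
        exact IsFractionRing.injective _ _ (mul_right_cancel₀ (by simpa using hb') h)
      obtain ⟨p, hp⟩ := MvPolynomial.esymmAlgHom_surjective k (σ := Fin n) (n := n) (by simp) ⟨a', has⟩
      obtain ⟨q, hq⟩ := MvPolynomial.esymmAlgHom_surjective k (σ := Fin n) (n := n) (by simp) ⟨b', hbs⟩
      have hval : ∀ r, φ0 r = algebraMap _ F0 ((MvPolynomial.esymmAlgHom (Fin n) k n r : MvPolynomial (Fin n) k)) := fun r => rfl
      refine ⟨algebraMap _ F0 p / algebraMap _ F0 q, ?_⟩
      show ψ0 _ = _
      rw [map_div₀, hψ0, hψ0, hab, hval, hval, hp, hq]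
  let h0 : ↥(IntermediateField.fixedField π.range) ≃ₐ[k] F0 :=
    ((AlgEquiv.ofInjective ψ0 ψ0.injective).trans
      (Subalgebra.equivOfEq _ _ (congrArg IntermediateField.toSubalgebra hr))).symm
  -- purely transcendental
  let σ := Fin m ⊕ Fin n
  let E := InvFld.Fld σ k
  obtain ⟨ιy, hιy, hιyr⟩ := H1Inv.exists_rename_hom (k := k) (Sum.inr : Fin n → σ) Sum.inr_injective
  obtain ⟨ψ, hψ⟩ := H1Inv.exists_algHom_fieldRange (ιy.comp h0.toAlgHom) ιy.fieldRange (fun a => ⟨_, rfl⟩)
    (fun i : Fin m => (InvFld.X (Sum.inl i) : E))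
    (by
      rw [hιyr]
      refine H1Inv.algebraicIndependent_adjoin _ _ ?_
      refine (Eq.subst (motive := fun v => AlgebraicIndependent k v) ?_ (H1Inv.algebraicIndependent_vars (σ := σ)))
      funext i; cases i <;> rfl)
  have hψt : ψ.fieldRange = ⊤ := eq_top_iff.2 (by
    rw [hψ, ← H1Inv.adjoin_vars, IntermediateField.adjoin_le_iff]
    rintro _ ⟨i | i, rfl⟩
    · exact IntermediateField.subset_adjoin k _ (Or.inr ⟨i, rfl⟩)
    · refine IntermediateField.subset_adjoin k _ (Or.inl ⟨h0.symm (InvFld.X i), ?_⟩)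
      show ιy (h0 (h0.symm _)) = _
      rw [h0.apply_symm_apply, hιy, MvPolynomial.rename_X])
  let eψ : InvFld.Fld (Fin m) ↥(IntermediateField.fixedField π.range) ≃ₐ[k] E :=
    AlgEquiv.ofBijective ψ ⟨ψ.injective, fun x => by
      have hx : x ∈ ψ.fieldRange := hψt ▸ IntermediateField.mem_top
      exact hx⟩
  let Φ : InvFld.Fld (Fin n) ↥(IntermediateField.fixedField G) ≃ₐ[k] E := Φ1.trans eψ
  refine ⟨n, m + n, fun i => Φ.symm (InvFld.X (finSumFinEquiv.symm i)), ?_, ?_⟩
  · exact ((H1Inv.algebraicIndependent_vars (σ := σ)).comp _ finSumFinEquiv.symm.injective).map' (f := Φ.symm.toAlgHom) Φ.symm.injective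
  · refine eq_top_iff.2 fun x _ => ?_
    have hx : Φ x ∈ IntermediateField.adjoin k (Set.range fun i : σ => (InvFld.X i : E)) := by
      rw [H1Inv.adjoin_vars]; trivial
    have h2 : x ∈ (IntermediateField.adjoin k (Set.range fun i : σ => (InvFld.X i : E))).map Φ.symm.toAlgHom :=
      ⟨Φ x, hx, Φ.symm_apply_apply x⟩
    rw [IntermediateField.adjoin_map, ← Set.range_comp] at h2
    refine IntermediateField.adjoin.mono k _ _ ?_ h2
    rintro _ ⟨i, rfl⟩
    exact ⟨finSumFinEquiv i, congrArg (fun j => Φ.symm (InvFld.X j)) (finSumFinEquiv.symm_apply_apply i)⟩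

end Groth.Agent.S15698
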