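import Groth.Statements.S15699
import Groth.Agent.H3CAlg.RetractRat

set_option autoImplicit false
universe u
open CategoryTheory CategoryTheory.Limits AlgebraicGeometry
open RatVar

set_option linter.style.haveILetI false

namespace Groth.Agent.S15699

open MvPolynomial

/-- A basic open of an affine space of finite type over the base field has finitely many coordinates. -/
theorem finite_of_away_finiteType {k : Type u} [Field k] {n : Type u} (h : MvPolynomial n k) (hh : h ≠ 0)
    [Algebra.FiniteType k (Localization.Away h)] : Finite n := by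
  classical
  by_contra hn
  rw [not_finite_iff_infinite] at hn
  let L := Localization.Away h
  haveI : IsDomain L := IsLocalization.isDomain_localization (powers_le_nonZeroDivisors_of_noZeroDivisors hh)
  obtain ⟨t, ht⟩ := ‹Algebra.FiniteType k L›.out
  choose pm hp using fun z : L => IsLocalization.surj (Submonoid.powers h) z
  let s : Finset n := h.vars ∪ t.biUnion fun z => (pm z).1.vars
  obtain ⟨i, hi⟩ := Infinite.exists_notMem_finset s
  let ψ : MvPolynomial n k →ₐ[k] L :=
    aeval fun j : n => if j = i then algebraMap (MvPolynomial n k) L (X j) + 1 else algebraMap (MvPolynomial n k) L (X j)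
  have hψ : ∀ p : MvPolynomial n k, p.vars ⊆ s → ψ p = algebraMap _ L p := fun p hps => by
    refine hom_congr_vars (f₁ := ψ.toRingHom) (f₂ := algebraMap _ L) ?_ (fun j hj _ => ?_) rfl
    · exact RingHom.ext fun c => ψ.commutes c
    · have hji : j ≠ i := fun e => hi (e ▸ hps hj)
      show ψ (X j) = _
      rw [aeval_X, if_neg hji]
  have hunit : ∀ y : Submonoid.powers h, IsUnit (ψ y) := fun ⟨y, m, hm⟩ => by
    subst hm
    show IsUnit (ψ (h ^ m))
    rw [map_pow, hψ h Finset.subset_union_left]
    exact (IsLocalization.Away.algebraMap_isUnit h).pow m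
  let σ : L →ₐ[k] L := IsLocalization.liftAlgHom (M := Submonoid.powers h) (f := ψ) hunit
  have hσ : ∀ p, σ (algebraMap _ L p) = ψ p := fun p => IsLocalization.lift_eq _ p
  have hid : σ = AlgHom.id k L := by
    refine AlgHom.ext_of_adjoin_eq_top ht fun z hz => ?_
    obtain ⟨m, hm⟩ := (pm z).2.2
    have h1 : ((pm z).1).vars ⊆ s := (Finset.subset_biUnion_of_mem (fun z => (pm z).1.vars) hz).trans Finset.subset_union_right
    have h2 := congrArg σ (hp z)
    rw [map_mul, hσ, hσ, hψ _ h1, ← hm] at h2
    simp only [map_pow, hψ h Finset.subset_union_left] at h2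
    have h3 := hp z
    rw [← hm, map_pow] at h3
    rw [AlgHom.id_apply]
    exact ((IsLocalization.Away.algebraMap_isUnit (S := L) h).pow m).mul_right_cancel (h2.trans h3.symm)
  have hX : σ (algebraMap (MvPolynomial n k) L (X i)) = algebraMap (MvPolynomial n k) L (X i) := AlgHom.congr_fun hid _
  rw [hσ] at hX
  simp only [ψ, aeval_X, if_pos] at hX
  exact one_ne_zero (add_left_cancel (hX.trans (add_zero _).symm) : (1 : L) = 0)

/-- An open of an affine space that is locally of finite type has finitely many coordinates. -/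
theorem finite_of_open_finiteType {k : Type u} [Field k] {n : Type u}
    (O : (Spec (CommRingCat.of (MvPolynomial n k))).Opens) (hO : ∃ x, x ∈ O)
    [LocallyOfFiniteType (O.ι ≫ Spec.map (CommRingCat.ofHom (C : k →+* MvPolynomial n k)))] : Finite n := by
  obtain ⟨x, hx⟩ := hO
  obtain ⟨_, ⟨h, rfl⟩, hxh, hle⟩ :=
    TopologicalSpace.Opens.isBasis_iff_nbhd.mp PrimeSpectrum.isBasis_basic_opens (U := O) hx
  have hh : h ≠ 0 := fun e => by
    rw [e, PrimeSpectrum.basicOpen_zero] at hxh
    exact hxh
  let ι' := Spec.map (CommRingCat.ofHom (algebraMap (MvPolynomial n k) (Localization.Away h)))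
  have hr : Set.range ι' ⊆ Set.range O.ι := by
    rw [Scheme.Opens.range_ι]
    refine subset_of_eq_of_subset ?_ hle
    exact PrimeSpectrum.localization_away_comap_range (Localization.Away h) h
  have e : ι' ≫ Spec.map (CommRingCat.ofHom (C : k →+* MvPolynomial n k)) =
      Spec.map (CommRingCat.ofHom (algebraMap k (Localization.Away h))) := by
    rw [← Spec.map_comp]
    congr 1
  haveI : IsOpenImmersion ι' := IsOpenImmersion.of_isLocalization h
  haveI : LocallyOfFiniteType (Spec.map (CommRingCat.ofHom (algebraMap k (Localization.Away h)))) := by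
    rw [← e, ← IsOpenImmersion.lift_fac O.ι ι' hr, Category.assoc]
    infer_instance
  haveI : Algebra.FiniteType k (Localization.Away h) :=
    RingHom.finiteType_algebraMap.mp ((HasRingHomProperty.Spec_iff (P := @LocallyOfFiniteType)).mp this)
  exact finite_of_away_finiteType h hh

/-- A nonempty open of an affine space over an infinite field has a rational point. -/
theorem exists_point {k : Type u} [Field k] [Infinite k] (m : ℕ) (O : (H3CAlg.RetractRat.An k m).Opens)
    (hO : ∃ x, x ∈ O) :
    ∃ p : Spec (CommRingCat.of k) ⟶ (O : Scheme.{u}), p ≫ O.ι ≫ H3CAlg.RetractRat.sAn k m = 𝟙 _ := by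
  obtain ⟨x, hx⟩ := hO
  obtain ⟨_, ⟨h, rfl⟩, hxh, hle⟩ :=
    TopologicalSpace.Opens.isBasis_iff_nbhd.mp PrimeSpectrum.isBasis_basic_opens (U := O) hx
  have hh : h ≠ 0 := fun e => by
    rw [e, PrimeSpectrum.basicOpen_zero] at hxh
    exact hxh
  obtain ⟨a, ha⟩ : ∃ a : Fin m → k, eval a h ≠ 0 := by
    by_contra hc
    exact hh (MvPolynomial.funext fun a => by simpa using not_not.mp fun h' => hc ⟨a, h'⟩)
  let p := Spec.map (CommRingCat.ofHom (aeval a : MvPolynomial (Fin m) k →ₐ[k] k).toRingHom)
  have hr : Set.range p ⊆ Set.range O.ι := by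
    rw [Scheme.Opens.range_ι]
    rintro _ ⟨z, rfl⟩
    refine hle ?_
    show (aeval a : MvPolynomial (Fin m) k →ₐ[k] k) h ∉ z.asIdeal
    intro hz
    exact z.2.ne_top (Ideal.eq_top_of_isUnit_mem _ hz (IsUnit.mk0 _ ha))
  refine ⟨IsOpenImmersion.lift O.ι p hr, ?_⟩
  rw [reassoc_of% IsOpenImmersion.lift_fac O.ι p hr, ← Spec.map_comp, ← Spec.map_id]
  congr 1
  exact CommRingCat.hom_ext (RingHom.ext fun c => by simp)

end Groth.Agent.S15699

namespace Groth.Agent.S15699

/-- A direct factor of a k-rational variety is retract rational over k. Here k is an infinite field, X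
and Y are integral schemes of finite type over k whose fibre product over k is integral and rational
over k (birational over k, through dense open subschemes, to an affine space over k); the conclusion
is that some non-empty open subscheme U of X admits k-morphisms U → Y' → U with composite the
identity, Y' an open subscheme of an affine space Spec k[x_1, ..., x_n]. (The published statement
allows any field k; the argument picks a k-rational point of the given open set, so k is taken
infinite here.) -/
theorem result (k : Type u) [Field k] [Infinite k]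
    (X Y : Scheme.{u}) (f : X ⟶ Spec (CommRingCat.of k)) (g : Y ⟶ Spec (CommRingCat.of k))
    [IsIntegral X] [LocallyOfFiniteType f] [QuasiCompact f]
    [IsIntegral Y] [LocallyOfFiniteType g] [QuasiCompact g] [IsIntegral (pullback f g)]
    [Scheme.IsRationalOver (pullback.fst f g ≫ f)] :
    ∃ (U : X.Opens) (n : ℕ) (Y' : (Spec (CommRingCat.of (MvPolynomial (Fin n) k))).Opens)
        (a : (U : Scheme.{u}) ⟶ (Y' : Scheme.{u})) (b : (Y' : Scheme.{u}) ⟶ (U : Scheme.{u})),
        (U : Set X).Nonempty ∧ a ≫ b = 𝟙 (U : Scheme.{u}) ∧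
        a ≫ Y'.ι ≫ Spec.map (CommRingCat.ofHom (algebraMap k (MvPolynomial (Fin n) k))) = U.ι ≫ f ∧
        b ≫ U.ι ≫ f = Y'.ι ≫ Spec.map (CommRingCat.ofHom (algebraMap k (MvPolynomial (Fin n) k))) := by
  obtain ⟨N, hN⟩ := Scheme.IsRationalOver.exists_birationalOver_affineSpace (pullback.fst f g ≫ f)
  obtain ⟨e, he⟩ := hN
  let P := Spec (CommRingCat.of (MvPolynomial N k))
  let O' : P.Opens := (AffineSpace.SpecIso N (CommRingCat.of k)).inv ⁻¹ᵁ e.target
  let r' : (O' : Scheme.{u}) ⟶ (e.target : Scheme.{u}) := (AffineSpace.SpecIso N (CommRingCat.of k)).inv ∣_ e.target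
  have hr' : O'.ι ≫ Spec.map (CommRingCat.ofHom (MvPolynomial.C : k →+* MvPolynomial N k)) =
      (r' ≫ e.iso.inv ≫ e.source.ι) ≫ pullback.fst f g ≫ f := by
    rw [Category.assoc, Category.assoc, ← he, Iso.inv_hom_id_assoc]
    simp only [r', morphismRestrict_ι_assoc]
    rw [AffineSpace.SpecIso_inv_over]
  haveI : LocallyOfFiniteType (O'.ι ≫ Spec.map (CommRingCat.ofHom (MvPolynomial.C : k →+* MvPolynomial N k))) := by
    rw [hr']
    infer_instance
  haveI : Nonempty ↥(AffineSpace N (Spec (CommRingCat.of k))) :=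
    ⟨(AffineSpace.SpecIso N (CommRingCat.of k)).inv (genericPoint P)⟩
  obtain ⟨x₀, hx₀⟩ := e.dense_target.nonempty
  have hO'ne : ∃ x, x ∈ O' := by
    refine ⟨(AffineSpace.SpecIso N (CommRingCat.of k)).hom x₀, ?_⟩
    show (AffineSpace.SpecIso N (CommRingCat.of k)).inv ((AffineSpace.SpecIso N (CommRingCat.of k)).hom x₀) ∈ e.target
    rwa [← Scheme.Hom.comp_apply, Iso.hom_inv_id]
  haveI : Finite N := finite_of_open_finiteType O' hO'ne
  obtain ⟨m, ⟨eN⟩⟩ := Finite.exists_equiv_fin N
  let re : H3CAlg.RetractRat.An k m ⟶ P :=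
    Spec.map (CommRingCat.ofHom (MvPolynomial.renameEquiv k eN).toAlgHom.toRingHom)
  haveI : IsIso (CommRingCat.ofHom (MvPolynomial.renameEquiv k eN).toAlgHom.toRingHom) :=
    (MvPolynomial.renameEquiv k eN).toRingEquiv.toCommRingCatIso.isIso_hom
  haveI : IsIso re := inferInstance
  have hre : re ≫ Spec.map (CommRingCat.ofHom (MvPolynomial.C : k →+* MvPolynomial N k)) =
      H3CAlg.RetractRat.sAn k m := by
    rw [← Spec.map_comp]
    congr 1
    exact CommRingCat.hom_ext (RingHom.ext fun c => (MvPolynomial.renameEquiv k eN).commutes c)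
  let O : (H3CAlg.RetractRat.An k m).Opens := re ⁻¹ᵁ O'
  let w : (O : Scheme.{u}) ⟶ (e.source : Scheme.{u}) := (re ∣_ O') ≫ r' ≫ e.iso.inv
  haveI : IsIso w := by
    dsimp only [w, r']
    infer_instance
  let b₀ : (O : Scheme.{u}) ⟶ X := w ≫ e.source.ι ≫ pullback.fst f g
  have hb₀ : b₀ ≫ f = O.ι ≫ H3CAlg.RetractRat.sAn k m := by
    simp only [b₀, w, Category.assoc]
    rw [← hre]
    have := congrArg ((re ∣_ O') ≫ ·) hr'
    simp only [Category.assoc, morphismRestrict_ι_assoc] at this
    exact this.symm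
  have hOne : ∃ x, x ∈ O := by
    obtain ⟨y, hy⟩ := hO'ne
    obtain ⟨z, hz⟩ := re.homeomorph.surjective y
    exact ⟨z, show re z ∈ O' from (hz.symm ▸ hy)⟩
  obtain ⟨p, hp⟩ := exists_point m O hOne
  let q : Spec (CommRingCat.of k) ⟶ pullback f g := p ≫ w ≫ e.source.ι
  have hq : q ≫ pullback.fst f g ≫ f = 𝟙 _ := by
    have := congrArg (p ≫ ·) hb₀
    simp only [b₀, Category.assoc] at this
    simp only [q, Category.assoc]
    exact this.trans hp
  let y := q ≫ pullback.snd f g
  have hy : y ≫ g = 𝟙 _ := by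
    simp only [y, Category.assoc]
    rw [← pullback.condition]
    exact hq
  let s : X ⟶ pullback f g := pullback.lift (𝟙 X) (f ≫ y) (by rw [Category.assoc, hy, Category.id_comp, Category.comp_id])
  let U : X.Opens := s ⁻¹ᵁ e.source
  have hqs : (q ≫ pullback.fst f g) ≫ s = q := by
    apply pullback.hom_ext
    · simp only [s, Category.assoc, pullback.lift_fst, Category.comp_id]
    · simp only [s, Category.assoc, pullback.lift_snd]
      rw [reassoc_of% hq]
  have hU : (U : Set X).Nonempty := by
    refine ⟨(q ≫ pullback.fst f g) (IsLocalRing.closedPoint k), ?_⟩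
    show s ((q ≫ pullback.fst f g) (IsLocalRing.closedPoint k)) ∈ e.source
    rw [← Scheme.Hom.comp_apply, hqs]
    exact ((p ≫ w) (IsLocalRing.closedPoint k)).2
  let j : (U : Scheme.{u}) ⟶ (O : Scheme.{u}) := (s ∣_ e.source) ≫ inv w
  have hj : j ≫ b₀ = U.ι := by
    simp only [j, b₀, Category.assoc, IsIso.inv_hom_id_assoc, morphismRestrict_ι_assoc, s, pullback.lift_fst]
    exact Category.comp_id _
  obtain ⟨Y', a, b, h1, h2, h3⟩ := H3CAlg.RetractRat.retract_mk (H3CAlg.RetractRat.sAn k m) f U O b₀ hb₀ j hj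
  exact ⟨U, m, Y', a, b, hU, h1, h2, h3⟩

end Groth.Agent.S15699
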