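import Groth.Statements.S15700
-- import your own Groth.Agent.* helpers here
import Groth.Agent.H3CAlg.RatSlice
import Groth.Agent.H22Alg.VarDim
import Groth.Agent.H8Props.FieldDimScheme
import Mathlib

set_option autoImplicit false
universe u
open CategoryTheory AlgebraicGeometry
open RatVar

namespace Groth.Agent.S15700

/-- An injective ring map into a domain gives a dominant map of spectra. -/
theorem isDominant_Spec_map {A B : CommRingCat.{u}} (θ : A ⟶ B) (h : Function.Injective θ.hom) :
    IsDominant (Spec.map θ) :=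
  ⟨(PrimeSpectrum.denseRange_comap_iff_ker_le_nilRadical θ.hom).2 (by
    rw [(RingHom.injective_iff_ker_eq_bot θ.hom).1 h]; exact bot_le)⟩

end Groth.Agent.S15700

namespace Groth.Agent.S15700

/-- Over an infinite field k, an integral scheme X of finite type over k that admits a dominant
k-morphism from a k-rational variety admits one from a k-rational variety of the same dimension as
X. Stated with open subschemes of affine spaces: if a non-empty open subscheme of Spec k[x_1, ...,
x_n] maps dominantly to X over k, then some non-empty open subscheme of some Spec k[x_1, ..., x_m]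
with m = dim X maps dominantly to X over k. -/
theorem result (k : Type u) [Field k] [Infinite k]
    (X : Scheme.{u}) (f : X ⟶ Spec (CommRingCat.of k)) [IsIntegral X] [LocallyOfFiniteType f] [QuasiCompact f]
    (n : ℕ) (W : (Spec (CommRingCat.of (MvPolynomial (Fin n) k))).Opens) (hW : (W : Set ↑(Spec (CommRingCat.of (MvPolynomial (Fin n) k)))).Nonempty)
    (φ : (W : Scheme.{u}) ⟶ X) [IsDominant φ] (hφ : φ ≫ f = W.ι ≫ Spec.map (CommRingCat.ofHom (algebraMap k (MvPolynomial (Fin n) k)))) :
    ∃ (m : ℕ) (W' : (Spec (CommRingCat.of (MvPolynomial (Fin m) k))).Opens) (ψ : (W' : Scheme.{u}) ⟶ X),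
      (W' : Set ↑(Spec (CommRingCat.of (MvPolynomial (Fin m) k)))).Nonempty ∧ IsDominant ψ ∧ ψ ≫ f = W'.ι ≫ Spec.map (CommRingCat.ofHom (algebraMap k (MvPolynomial (Fin m) k))) ∧
      (m : WithBot ℕ∞) = topologicalKrullDim X := by
  classical
  let P := CommRingCat.of (MvPolynomial (Fin n) k)
  obtain ⟨U, hU, hξU, -⟩ := exists_isAffineOpen_mem_and_subset (x := genericPoint X) (U := ⊤) trivial
  haveI : Nonempty U := ⟨⟨genericPoint X, hξU⟩⟩
  let A := CommRingCat.of Γ(X, U)
  haveI : IsDomain Γ(X, U) := IsIntegral.component_integral U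
  obtain ⟨alg, hj⟩ := H8Props.FieldDim.exists_algebra_chart f (A := Γ(X, U)) hU.fromSpec
  haveI := H8Props.FieldDim.finiteType_of_chart f (A := Γ(X, U)) hU.fromSpec hj
  haveI : Nonempty ↥(W : Scheme.{u}) := ⟨⟨hW.choose, hW.choose_spec⟩⟩
  obtain ⟨w, hw⟩ := φ.denseRange.exists_mem_open U.2 ⟨genericPoint X, hξU⟩
  have hopen : IsOpen (W.ι '' (φ ⁻¹' (U : Set X))) := W.ι.isOpenEmbedding.isOpenMap _ (U.2.preimage φ.continuous)
  obtain ⟨-, ⟨-, ⟨g, rfl⟩, rfl⟩, hwg, hgsub⟩ := (PrimeSpectrum.isBasis_basic_opens (R := MvPolynomial (Fin n) k)).exists_subset_of_mem_open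
    (show W.ι w ∈ W.ι '' (φ ⁻¹' (U : Set X)) from ⟨w, hw, rfl⟩) hopen
  have hg : g ≠ 0 := fun e => by
    subst e
    rw [PrimeSpectrum.basicOpen_zero] at hwg
    exact hwg
  let R := CommRingCat.of (Localization.Away g)
  let o : Spec R ⟶ Spec P := Spec.map (CommRingCat.ofHom (algebraMap (MvPolynomial (Fin n) k) (Localization.Away g)))
  haveI : IsOpenImmersion o := IsOpenImmersion.of_isLocalization g
  have ho : Set.range o = (PrimeSpectrum.basicOpen g : Set (PrimeSpectrum (MvPolynomial (Fin n) k))) :=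
    PrimeSpectrum.localization_away_comap_range (Localization.Away g) g
  have hoW : Set.range o ⊆ Set.range W.ι := by
    rw [ho]; exact hgsub.trans (Set.image_subset_range _ _)
  let o' : Spec R ⟶ (W : Scheme.{u}) := IsOpenImmersion.lift W.ι o hoW
  have ho' : o' ≫ W.ι = o := IsOpenImmersion.lift_fac _ _ _
  have hmem : Set.range (o' ≫ φ) ⊆ Set.range hU.fromSpec := by
    rintro _ ⟨y, rfl⟩
    rw [hU.range_fromSpec]
    obtain ⟨w', hw', e⟩ := hgsub (ho.le ⟨y, rfl⟩)
    rw [← ho', Scheme.Hom.comp_apply] at e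
    rw [Scheme.Hom.comp_apply, ← W.ι.isOpenEmbedding.injective e]
    exact hw'
  let l := IsOpenImmersion.lift hU.fromSpec (o' ≫ φ) hmem
  have hl : l ≫ hU.fromSpec = o' ≫ φ := IsOpenImmersion.lift_fac _ _ _
  let ψ0 : A ⟶ R := Spec.preimage l
  have hψ0 : Spec.map ψ0 = l := Spec.map_preimage _
  have hcomp : ψ0.hom.comp (algebraMap k Γ(X, U)) = algebraMap k (Localization.Away g) := by
    have h : Spec.map ψ0 ≫ hU.fromSpec ≫ f = o ≫ Spec.map (CommRingCat.ofHom (algebraMap k (MvPolynomial (Fin n) k))) := by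
      rw [hψ0, ← Category.assoc, hl, Category.assoc, hφ, ← Category.assoc, ho']
    erw [hj, ← Spec.map_comp, ← Spec.map_comp] at h
    rw [IsScalarTower.algebraMap_eq k (MvPolynomial (Fin n) k) (Localization.Away g)]
    exact congrArg CommRingCat.Hom.hom (Spec.map_injective h)
  let ψA : Γ(X, U) →ₐ[k] Localization.Away g := { ψ0.hom with commutes' := fun c => RingHom.congr_fun hcomp c }
  have hψinj : Function.Injective ψA := by
    have hd : DenseRange (PrimeSpectrum.comap ψ0.hom) := by
      refine dense_iff_inter_open.2 fun O hO hne => ?_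
      obtain ⟨z, hz⟩ := φ.denseRange.exists_mem_open (hU.fromSpec.isOpenEmbedding.isOpenMap _ hO) (hne.image _)
      have hoW2 : IsOpen (W.ι '' (φ ⁻¹' (hU.fromSpec '' O))) :=
        W.ι.isOpenEmbedding.isOpenMap _ ((hU.fromSpec.isOpenEmbedding.isOpenMap _ hO).preimage φ.continuous)
      haveI h93 : PreirreducibleSpace (PrimeSpectrum (MvPolynomial (Fin n) k)) :=
        (PrimeSpectrum.irreducibleSpace (R := MvPolynomial (Fin n) k)).toPreirreducibleSpace
      obtain ⟨t, -, ht, htg⟩ := h93.isPreirreducible_univ _ _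
        hoW2 (PrimeSpectrum.basicOpen g).2 ⟨_, trivial, z, hz, rfl⟩ ⟨_, trivial, hwg⟩
      obtain ⟨y, rfl⟩ : t ∈ Set.range o := ho.ge htg
      obtain ⟨z', ⟨a, haO, hza⟩, e⟩ := ht
      rw [← ho', Scheme.Hom.comp_apply] at e
      have e' := W.ι.isOpenEmbedding.injective e
      have hy : hU.fromSpec (l y) = hU.fromSpec a := by
        rw [hza, e', ← Scheme.Hom.comp_apply, hl, Scheme.Hom.comp_apply]
      refine ⟨l y, ?_, y, ?_⟩
      · rw [hU.fromSpec.isOpenEmbedding.injective hy]; exact haO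
      · rw [← hψ0]; rfl
    have hker := (PrimeSpectrum.denseRange_comap_iff_ker_le_nilRadical ψ0.hom).1 hd
    refine (RingHom.injective_iff_ker_eq_bot ψ0.hom).2 (le_bot_iff.1 (hker.trans ?_))
    exact (nilradical_eq_zero Γ(X, U)).le
  obtain ⟨m, g', θ, hg', hθ, hdim⟩ := H3CAlg.RatSlice.main Γ(X, U) n g hg ψA hψinj
  let o2 : Spec (CommRingCat.of (Localization.Away g')) ⟶ Spec (CommRingCat.of (MvPolynomial (Fin m) k)) :=
    Spec.map (CommRingCat.ofHom (algebraMap (MvPolynomial (Fin m) k) (Localization.Away g')))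
  haveI : IsOpenImmersion o2 := IsOpenImmersion.of_isLocalization g'
  haveI : IsDomain (Localization.Away g') :=
    IsLocalization.isDomain_localization (powers_le_nonZeroDivisors_of_noZeroDivisors hg')
  let θ' : A ⟶ CommRingCat.of (Localization.Away g') := CommRingCat.ofHom θ.toRingHom
  haveI : IsDominant (Spec.map θ') := isDominant_Spec_map θ' hθ
  haveI : IsDominant hU.fromSpec := ⟨by
    show Dense (Set.range hU.fromSpec)
    rw [hU.range_fromSpec]; exact U.2.dense ⟨_, hξU⟩⟩
  refine ⟨m, o2.opensRange, o2.isoOpensRange.inv ≫ Spec.map θ' ≫ hU.fromSpec, ?_, inferInstance, ?_, ?_⟩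
  · exact ⟨o2 (Classical.arbitrary (PrimeSpectrum (Localization.Away g'))), _, rfl⟩
  · have h1 : Spec.map θ' ≫ hU.fromSpec ≫ f = o2 ≫ Spec.map (CommRingCat.ofHom (algebraMap k (MvPolynomial (Fin m) k))) := by
      erw [hj, ← Spec.map_comp, ← Spec.map_comp]
      refine congrArg Spec.map (CommRingCat.hom_ext (RingHom.ext fun c => ?_))
      exact (θ.commutes c).trans (IsScalarTower.algebraMap_apply k (MvPolynomial (Fin m) k) (Localization.Away g') c)
    rw [Category.assoc, Category.assoc, h1, ← Category.assoc, Scheme.Hom.isoOpensRange_inv_comp]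
  · letI : X.Over (Spec (CommRingCat.of k)) := ⟨f⟩
    haveI : LocallyOfFiniteType (X ↘ Spec (CommRingCat.of k)) := inferInstanceAs (LocallyOfFiniteType f)
    rw [← H22Alg.VarDim.cdim_genericPoint (X := X)]
    have hgen : hU.fromSpec (⟨⊥, Ideal.isPrime_bot⟩ : PrimeSpectrum Γ(X, U)) = genericPoint X := by
      obtain ⟨p, hp⟩ : genericPoint X ∈ Set.range hU.fromSpec := by rw [hU.range_fromSpec]; exact hξU
      rw [← hp]
      have hsp : p ⤳ (⟨⊥, Ideal.isPrime_bot⟩ : PrimeSpectrum Γ(X, U)) :=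
        hU.fromSpec.isOpenEmbedding.isInducing.specializes_iff.1 (hp ▸ genericPoint_specializes _)
      exact congrArg hU.fromSpec (PrimeSpectrum.ext (le_bot_iff.1 (show p.asIdeal ≤ ⊥ from (PrimeSpectrum.le_iff_specializes _ _).2 hsp)).symm)
    rw [← hgen, H8Props.FieldDim.cdim_eq_chart f (A := Γ(X, U)) hU.fromSpec,
      ringKrullDim_eq_of_ringEquiv (RingEquiv.quotientBot Γ(X, U)), hdim]

end Groth.Agent.S15700
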