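import Groth.Statements.S15701
import Mathlib

set_option autoImplicit false
universe u
open CategoryTheory AlgebraicGeometry
open RatVar

namespace Groth.Agent.S15701

/-- A faithful action of a finite group on a geometrically integral variety is almost free. Here k is a
field of characteristic zero, X is an integral separated scheme of finite type over k, and the
finite group G acts on X by k-automorphisms through an injective homomorphism to Aut X; the
conclusion is a non-empty G-stable open subscheme U of X such that for every field K and every
morphism Spec K → X whose image lies in U, an element of G fixing that K-point is the identity. (X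
is taken separated: for the affine line with a doubled origin and the involution exchanging the two
origins the action is faithful while every point off the origins is fixed, so no such U exists;
integrality replaces geometric integrality, which is all the codimension argument uses.) -/
theorem result (k : Type u) [Field k] [CharZero k]
    (X : Scheme.{u}) (f : X ⟶ Spec (CommRingCat.of k)) [IsIntegral X] [LocallyOfFiniteType f]
    [QuasiCompact f] [IsSeparated f]
    (G : Type u) [Group G] [Finite G] (ρ : G →* Aut X)
    (hρ : ∀ g : G, (ρ g).hom ≫ f = f) (hfaith : Function.Injective ρ) :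
    ∃ U : X.Opens, (U : Set X).Nonempty ∧ (∀ g : G, (ρ g).hom ⁻¹ᵁ U = U) ∧
      ∀ (K : Type u) [Field K] (x : Spec (CommRingCat.of K) ⟶ X),
        Set.range x.base ⊆ (U : Set X) → ∀ g : G, x ≫ (ρ g).hom = x → g = 1 := by
  classical
  -- the fixed scheme of a group element
  let φ : G → (X ⟶ Limits.pullback f f) := fun g => Limits.pullback.lift (ρ g).hom (𝟙 X) ((hρ g).trans (Category.id_comp f).symm)
  let i : (g : G) → Limits.pullback (Limits.pullback.diagonal f) (φ g) ⟶ X := fun g => Limits.pullback.snd (Limits.pullback.diagonal f) (φ g)
  haveI : ∀ g, IsClosedImmersion (i g) := fun g => MorphismProperty.pullback_snd _ _ inferInstance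
  have hieq : ∀ g, i g ≫ (ρ g).hom = i g := by
    intro g
    have h1 := congrArg (· ≫ Limits.pullback.fst f f) (Limits.pullback.condition (f := Limits.pullback.diagonal f) (g := φ g))
    have h2 := congrArg (· ≫ Limits.pullback.snd f f) (Limits.pullback.condition (f := Limits.pullback.diagonal f) (g := φ g))
    simp only [Category.assoc, Limits.pullback.diagonal_fst, Limits.pullback.diagonal_snd, Category.comp_id, φ, Limits.pullback.lift_fst,
      Limits.pullback.lift_snd] at h1 h2
    exact h1.symm.trans h2
  let F : G → Set X := fun g => if g = 1 then ∅ else Set.range (i g)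
  have hFc : ∀ g, IsClosed (F g) := by
    intro g
    by_cases hg : g = 1
    · simp [F, hg]
    · simpa [F, hg] using (i g).isClosedEmbedding.isClosed_range
  have hFne : ∀ g, genericPoint X ∉ F g := by
    intro g
    by_cases hg : g = 1
    · simp [F, hg]
    intro hgen
    simp only [F, hg, if_false] at hgen
    haveI : Surjective (i g) := ⟨fun x => ((genericPoint_spec X).specializes (by trivial : x ∈ Set.univ)).mem_closed
      (i g).isClosedEmbedding.isClosed_range hgen⟩
    haveI : IsIso (i g) := isIso_of_isClosedImmersion_of_surjective _
    have : (ρ g).hom = 𝟙 X := by rw [← cancel_epi (i g), hieq, Category.comp_id]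
    exact hg (hfaith ((Iso.ext this).trans (map_one ρ).symm))
  haveI := Fintype.ofFinite G
  let C : Set X := ⋃ g : G, ⋃ h : G, (ρ h).hom ⁻¹' F g
  have hCc : IsClosed C := isClosed_iUnion_of_finite fun g => isClosed_iUnion_of_finite fun h =>
    (hFc g).preimage (ρ h).hom.continuous
  have hmul : ∀ (g h : G) (x : X), (ρ h).hom ((ρ g).hom x) = (ρ (h * g)).hom x := by
    intro g h x
    rw [map_mul]
    rfl
  refine ⟨⟨Cᶜ, hCc.isOpen_compl⟩, ⟨genericPoint X, ?_⟩, fun g => ?_, ?_⟩
  · simp only [TopologicalSpace.Opens.coe_mk, Set.mem_compl_iff, C, Set.mem_iUnion, not_exists]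
    intro g h hgen
    have hgp : (ρ h).hom (genericPoint X) = genericPoint X := by
      refine ((genericPoint_spec X).eq ?_).symm
      rw [IsGenericPoint, ← Set.image_singleton]
      show closure ((ρ h).hom.homeomorph '' {genericPoint X}) = Set.univ
      rw [← Homeomorph.image_closure, (genericPoint_spec X).def, Set.image_univ, Homeomorph.range_coe]
    rw [Set.mem_preimage, hgp] at hgen
    exact hFne g hgen
  · ext x
    show (ρ g).hom x ∈ Cᶜ ↔ x ∈ Cᶜ
    simp only [Set.mem_compl_iff, C, Set.mem_iUnion, Set.mem_preimage, hmul, not_iff_not]
    constructor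
    · rintro ⟨a, b, hab⟩; exact ⟨a, b * g, hab⟩
    · rintro ⟨a, b, hab⟩; exact ⟨a, b * g⁻¹, by rwa [mul_assoc, inv_mul_cancel, mul_one]⟩
  intro K _ x hx g hfix
  by_contra hg
  let y : Spec (CommRingCat.of K) ⟶ Limits.pullback (Limits.pullback.diagonal f) (φ g) := Limits.pullback.lift x x (by
    apply Limits.pullback.hom_ext <;>
      simp only [φ, Category.assoc, Limits.pullback.diagonal_fst, Limits.pullback.diagonal_snd, Limits.pullback.lift_fst, Limits.pullback.lift_snd, Category.comp_id, hfix])
  have hy : y ≫ i g = x := Limits.pullback.lift_snd _ _ _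
  obtain ⟨z⟩ : Nonempty ↥(Spec (CommRingCat.of K)) := inferInstance
  refine hx ⟨z, rfl⟩ (Set.mem_iUnion_of_mem g (Set.mem_iUnion_of_mem 1 ?_))
  rw [Set.mem_preimage, map_one]
  simp only [F, hg, if_false]
  exact ⟨y z, by rw [← Scheme.Hom.comp_apply, hy]; rfl⟩

end Groth.Agent.S15701
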