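import Groth.Statements.S15702
import Groth.Agent.H20Hopf.Rosenlicht
import Groth.Agent.H20Comod.Slices
import Groth.Agent.H20Comod.Invariants
import Groth.Agent.H20Comod.Coconn

set_option backward.isDefEq.respectTransparency false

set_option autoImplicit false
universe u
open GLin

namespace Groth.Agent.S15702

open TensorProduct Groth.Agent.H20Comod

section

variable {k : Type u} [Field k] [IsAlgClosed k] {A : Type u} [CommRing A] [HopfAlgebra k A]
variable {B : Type u} [CommRing B] [Algebra k B] [HopfRep.Comod k A B] [GLin.IsCoactAlg k A B]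

/-- The action of a point as an algebra map. -/
noncomputable def actHom (φ : A →ₐ[k] k) : B →ₐ[k] B :=
  (Algebra.TensorProduct.rid k k B).toAlgHom.comp
    ((Algebra.TensorProduct.map (AlgHom.id k B) φ).comp (coactAlgHom k A B))

omit [IsAlgClosed k] in
theorem actHom_apply (φ : A →ₐ[k] k) (b : B) : actHom φ b = actL φ.toLinearMap b := by
  show Algebra.TensorProduct.rid k k B (Algebra.TensorProduct.map (AlgHom.id k B) φ
    (HopfRep.Comod.coact (k := k) (A := A) b)) = sliceR φ.toLinearMap (HopfRep.Comod.coact (k := k) (A := A) b)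
  generalize HopfRep.Comod.coact (k := k) (A := A) b = z
  induction z using TensorProduct.induction_on with
  | zero => simp
  | tmul x a => simp
  | add x y hx hy => simp only [map_add, hx, hy]

omit [IsAlgClosed k] in
theorem actHom_antipode (φ : A →ₐ[k] k) (b : B) :
    actHom φ (actHom (φ.comp (HopfAlgebra.antipodeAlgHom k A)) b) = b := by
  rw [actHom_apply, actHom_apply, ← actL_conv]
  have e : H20Comod.conv φ.toLinearMap (φ.comp (HopfAlgebra.antipodeAlgHom k A)).toLinearMap =
      CoalgebraStruct.counit (R := k) (A := A) := by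
    refine LinearMap.ext fun a => ?_
    show LinearMap.mul' k k (TensorProduct.map φ.toLinearMap (φ.comp (HopfAlgebra.antipodeAlgHom k A)).toLinearMap
      (CoalgebraStruct.comul (R := k) a)) = _
    let R := Coalgebra.Repr.arbitrary k a
    rw [← R.eq]
    simp only [map_sum, TensorProduct.map_tmul, LinearMap.mul'_apply, AlgHom.toLinearMap_apply, AlgHom.comp_apply,
      ← map_mul, HopfAlgebra.antipodeAlgHom_apply]
    rw [← map_sum, HopfAlgebra.sum_mul_antipode_eq_algebraMap_counit R, AlgHom.commutes]
    rfl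
  rw [e, actL_counit]

theorem act_eq_self_of_dvd [Algebra.FiniteType k A] [IsDomain A] [Algebra.FiniteType k B] [IsDomain B]
    (hchar : ∀ a : A, IsGroupLikeElem k a → a = 1) (h : B) (hh : h ≠ 0)
    (hdvd : ∀ φ : A →ₐ[k] k, h ∣ actHom φ h) (φ : A →ₐ[k] k) : actHom φ h = h := by
  classical
  choose c hc using hdvd
  have hunit : ∀ φ, IsUnit (c φ) := by
    intro φ
    set φ' := φ.comp (HopfAlgebra.antipodeAlgHom k A)
    have h2 := congrArg (actHom φ) (hc φ')
    rw [actHom_antipode, map_mul, hc φ, mul_assoc] at h2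
    exact IsUnit.of_mul_eq_one (actHom φ (c φ')) (mul_left_cancel₀ hh (by rw [mul_one]; exact h2.symm))
  let W := gen k A ({h} : Set B)
  haveI : Module.Finite k W := finite_gen (Set.finite_singleton h)
  let V : Submodule k B := W.comap (LinearMap.mulLeft k h)
  haveI : FiniteDimensional k V := Module.Finite.of_injective
    ((LinearMap.mulLeft k h).restrict (p := V) (q := W) fun x hx => hx)
    fun x y hxy => Subtype.ext (mul_left_cancel₀ hh (congrArg Subtype.val hxy))
  have hcV : ∀ φ, c φ ∈ V := fun φ => by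
    show h * c φ ∈ W
    rw [← hc, actHom_apply]
    exact Submodule.subset_span ⟨φ.toLinearMap, h, rfl, rfl⟩
  obtain ⟨S, hS, hS'⟩ := H20Hopf.Rosenlicht.finite_classes V
  obtain ⟨s, -, hs⟩ : ∃ s ∈ hS.toFinset, ∀ φ : A →ₐ[k] k, ∃ t : k, actHom φ h = t • (h * s) := by
    by_contra hnot
    push Not at hnot
    have key : ∀ s ∈ hS.toFinset, ∃ F : A, F ≠ 0 ∧
        ∀ φ : A →ₐ[k] k, φ F ≠ 0 → ∀ t : k, actHom φ h ≠ t • (h * s) := by
      intro s hs
      obtain ⟨φ0, hφ0⟩ := hnot s hs
      have hni : actHom φ0 h ∉ Submodule.span k ({h * s} : Set B) := fun hm => by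
        obtain ⟨t, ht⟩ := Submodule.mem_span_singleton.1 hm
        exact hφ0 t ht.symm
      obtain ⟨q, hq1, hq2⟩ := Submodule.exists_le_ker_of_notMem hni
      refine ⟨sliceL q (HopfRep.Comod.coact (k := k) (A := A) h), fun h0 => hq1 ?_, fun φ hφ t ht => hφ ?_⟩
      · rw [actHom_apply, actL_apply, apply_sliceR_eq_apply_sliceL, h0, map_zero]
      · show φ.toLinearMap _ = 0
        rw [← apply_sliceR_eq_apply_sliceL, ← actL_apply, ← actHom_apply, ht, map_smul,
          LinearMap.mem_ker.1 (hq2 (Submodule.mem_span_singleton_self _)), smul_zero]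
    choose! F hF0 hF using key
    have hprod : ∏ s ∈ hS.toFinset, F s ≠ 0 := Finset.prod_ne_zero_iff.2 hF0
    refine hprod (H20Hopf.Rosenlicht.point_ext (k := k) fun φ => ?_)
    obtain ⟨s, hs, t, ht⟩ := hS' (c φ) (hcV φ) (hunit φ)
    rw [map_prod]
    refine Finset.prod_eq_zero (hS.mem_toFinset.2 hs) ?_
    by_contra hne
    exact hF s (hS.mem_toFinset.2 hs) φ hne t (by rw [hc, ht, mul_smul_comm])
  obtain ⟨t0, ht0⟩ := hs (Bialgebra.counitAlgHom k A)
  rw [actHom_apply, show (Bialgebra.counitAlgHom k A).toLinearMap = CoalgebraStruct.counit (R := k) from rfl,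
    actL_counit, ← mul_smul_comm] at ht0
  have hts : t0 • s = 1 := mul_left_cancel₀ hh (by rw [mul_one]; exact ht0.symm)
  have ht0' : t0 ≠ 0 := fun h0 => by rw [h0, zero_smul] at hts; exact zero_ne_one hts
  have hline : ∀ ψ : A →ₐ[k] k, ∃ l : k, actHom ψ h = l • h := by
    intro ψ
    obtain ⟨t, ht⟩ := hs ψ
    refine ⟨t / t0, ?_⟩
    rw [ht, show s = t0⁻¹ • (1 : B) by rw [← hts, inv_smul_smul₀ ht0'], mul_smul_comm, mul_one, smul_smul,
      div_eq_mul_inv]
  obtain ⟨q, hq⟩ : ∃ q : B →ₗ[k] k, q h = 1 := by
    obtain ⟨p, hp⟩ := (LinearMap.toSpanSingleton k B h).exists_leftInverse_of_injective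
      (LinearMap.ker_eq_bot.2 fun x y hxy => by
        simp only [LinearMap.toSpanSingleton_apply] at hxy
        exact smul_left_injective k hh hxy)
    exact ⟨p, by simpa using LinearMap.congr_fun hp 1⟩
  set χ := sliceL q (HopfRep.Comod.coact (k := k) (A := A) h) with hχ
  have hρ : HopfRep.Comod.coact (k := k) (A := A) h = h ⊗ₜ[k] χ := by
    refine eq_of_forall_sliceL fun r => sub_eq_zero.1 (H20Hopf.Rosenlicht.point_ext (k := k) fun ψ => ?_)
    obtain ⟨l, hl⟩ := hline ψ
    show ψ.toLinearMap _ = 0
    rw [map_sub, sliceL_tmul, map_smul, hχ, ← apply_sliceR_eq_apply_sliceL, ← apply_sliceR_eq_apply_sliceL,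
      ← actL_apply, ← actHom_apply, hl, map_smul, map_smul, hq, smul_eq_mul, smul_eq_mul, smul_eq_mul, mul_one,
      mul_comm, sub_self]
  have hgl : IsGroupLikeElem k χ := by
    refine ⟨?_, ?_⟩
    · rw [hχ, ← apply_sliceR_eq_apply_sliceL, ← actL_apply, actL_counit, hq]
    · have hco := LinearMap.congr_fun (HopfRep.Comod.coassoc (k := k) (A := A) (V := B)) h
      simp only [LinearMap.coe_comp, Function.comp_apply, LinearEquiv.coe_coe, hρ, LinearMap.rTensor_tmul,
        TensorProduct.assoc_tmul, LinearMap.lTensor_tmul] at hco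
      have := congrArg (sliceL q) hco
      simp only [sliceL_tmul, hq, one_smul] at this
      exact this.symm
  rw [actHom_apply, actL_apply, hρ, hchar χ hgl, sliceR_tmul, AlgHom.toLinearMap_apply, map_one, one_smul]

end

/-- Let k be algebraically closed of characteristic zero, let G be a connected linear algebraic group
over k without non-trivial characters acting on an integral affine k-variety Spec B of finite type
with B a unique factorisation domain; then the field of G-invariant rational functions is the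
fraction field of the ring of invariants B^G. In coordinate-ring form: A is a commutative Hopf
algebra of finite type over k, a domain, whose only group-like element is 1; B is a k-algebra of
finite type, a domain and a unique factorisation monoid, with a coaction of A that is an algebra
map; k-points φ : A →ₐ[k] k act on B through the coaction. If f, g ∈ B, g ≠ 0, satisfy (φ·f) g = f
(φ·g) for all φ, then f g' = f' g for some f', g' ∈ B fixed by all φ with g' ≠ 0. (The published
lemma allows G disconnected with character-free identity component; this row is the connected case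
treated first in its proof.) -/
theorem result (k : Type u) [Field k] [IsAlgClosed k] [CharZero k]
    (A : Type u) [CommRing A] [HopfAlgebra k A] [Algebra.FiniteType k A] [IsDomain A]
    (hchar : ∀ a : A, IsGroupLikeElem k a → a = 1)
    (B : Type u) [CommRing B] [Algebra k B] [Algebra.FiniteType k B] [IsDomain B] [UniqueFactorizationMonoid B]
    [HopfRep.Comod k A B] [GLin.IsCoactAlg k A B]
    (f g : B) (hg : g ≠ 0)
    (hinv : ∀ φ : A →ₐ[k] k, HopfRep.Comod.act k A B φ f * g = f * HopfRep.Comod.act k A B φ g) :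
    ∃ f' g' : B, (∀ φ : A →ₐ[k] k, HopfRep.Comod.act k A B φ f' = f') ∧
      (∀ φ : A →ₐ[k] k, HopfRep.Comod.act k A B φ g' = g') ∧ g' ≠ 0 ∧ f * g' = f' * g := by
  classical
  have hact : ∀ (φ : A →ₐ[k] k) (b : B), HopfRep.Comod.act k A B φ b = actHom φ b := fun φ b => by
    rw [actHom_apply]; rfl
  simp only [hact] at hinv ⊢
  by_cases hf : f = 0
  · exact ⟨0, 1, fun _ => map_zero _, fun _ => map_one _, one_ne_zero, by rw [hf, zero_mul, zero_mul]⟩
  obtain ⟨f', g', c', hrel, rfl, rfl⟩ := UniqueFactorizationMonoid.exists_reduced_factors' f g hg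
  obtain ⟨hc', hf'⟩ := mul_ne_zero_iff.1 hf
  have hg' : g' ≠ 0 := right_ne_zero_of_mul hg
  have hφc : ∀ φ : A →ₐ[k] k, actHom φ c' ≠ 0 := fun φ h0 => hc' (by
    have h1 := congrArg (actHom (φ.comp (HopfAlgebra.antipodeAlgHom k A))) h0
    have h2 : ∀ b : B, actHom (φ.comp (HopfAlgebra.antipodeAlgHom k A)) (actHom φ b) = b := fun b => by
      have h3 := actHom_antipode (φ.comp (HopfAlgebra.antipodeAlgHom k A)) b
      rwa [AlgHom.comp_assoc, show (HopfAlgebra.antipodeAlgHom k A).comp (HopfAlgebra.antipodeAlgHom k A) =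
        AlgHom.id k A from AlgHom.ext fun a => antipode_antipode a, AlgHom.comp_id] at h3
    rwa [h2, map_zero] at h1)
  have heq : ∀ φ : A →ₐ[k] k, actHom φ f' * g' = f' * actHom φ g' := fun φ => by
    have h1 := hinv φ
    rw [map_mul, map_mul] at h1
    exact mul_left_cancel₀ (mul_ne_zero (hφc φ) hc') (by linear_combination h1)
  refine ⟨f', g', act_eq_self_of_dvd hchar f' hf' fun φ => hrel.dvd_of_dvd_mul_right ⟨actHom φ g', heq φ⟩,
    act_eq_self_of_dvd hchar g' hg' fun φ => hrel.symm.dvd_of_dvd_mul_left ⟨actHom φ f', ?_⟩, hg', by ring⟩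
  rw [← heq φ, mul_comm]

end Groth.Agent.S15702
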