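import Groth.Statements.S15705
import Groth.Agent.S15702
import Groth.Agent.H20Comod.GroupLikeFG

set_option backward.isDefEq.respectTransparency false

set_option autoImplicit false
universe u
open GLin

namespace Groth.Agent.S15705

open TensorProduct Groth.Agent.H20Comod Groth.Agent.S15702

section

variable {k : Type u} [Field k] [IsAlgClosed k] [CharZero k] {A : Type u} [CommRing A] [HopfAlgebra k A]
  [Algebra.FiniteType k A]
variable {B : Type u} [CommRing B] [Algebra k B] [HopfRep.Comod k A B] [GLin.IsCoactAlg k A B] [IsDomain B]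

theorem exists_character (b : B) (hb : b ≠ 0) (h : ∀ φ : A →ₐ[k] k, ∃ l : k, actHom φ b = l • b) :
    ∃ χ : A, IsGroupLikeElem k χ ∧ ∀ φ : A →ₐ[k] k, actHom φ b = φ χ • b := by
  classical
  haveI : IsReduced A := H19Grp.HopfReduced.isReduced_of_finiteType (k := k) (A := A)
  obtain ⟨p, hp⟩ := (LinearMap.toSpanSingleton k B b).exists_leftInverse_of_injective
    (LinearMap.ker_eq_bot.2 fun x y hxy => by
      simp only [LinearMap.toSpanSingleton_apply] at hxy
      exact smul_left_injective k hb hxy)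
  have hq : p b = 1 := by simpa using LinearMap.congr_fun hp 1
  set χ := sliceL p (HopfRep.Comod.coact (k := k) (A := A) b) with hχ
  have hρ : HopfRep.Comod.coact (k := k) (A := A) b = b ⊗ₜ[k] χ := by
    refine eq_of_forall_sliceL fun r => sub_eq_zero.1 (H20Hopf.Rosenlicht.point_ext (k := k) fun ψ => ?_)
    obtain ⟨l, hl⟩ := h ψ
    show ψ.toLinearMap _ = 0
    rw [map_sub, sliceL_tmul, map_smul, hχ, ← apply_sliceR_eq_apply_sliceL, ← apply_sliceR_eq_apply_sliceL,
      ← actL_apply, ← actHom_apply, hl, map_smul, map_smul, hq, smul_eq_mul, smul_eq_mul, smul_eq_mul, mul_one,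
      mul_comm, sub_self]
  refine ⟨χ, ⟨?_, ?_⟩, fun φ => ?_⟩
  · rw [hχ, ← apply_sliceR_eq_apply_sliceL, ← actL_apply, actL_counit, hq]
  · have hco := LinearMap.congr_fun (HopfRep.Comod.coassoc (k := k) (A := A) (V := B)) b
    simp only [LinearMap.coe_comp, Function.comp_apply, LinearEquiv.coe_coe, hρ, LinearMap.rTensor_tmul,
      TensorProduct.assoc_tmul, LinearMap.lTensor_tmul] at hco
    have := congrArg (sliceL p) hco
    simp only [sliceL_tmul, hq, one_smul] at this
    exact this.symm
  · rw [actHom_apply, actL_apply, hρ, sliceR_tmul, AlgHom.toLinearMap_apply]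

end

/-- Let k be algebraically closed of characteristic zero, G a linear algebraic group and X a factorial
affine G-variety with k[X]* = k*; then there is a G-invariant affine open U of X such that the field
of G-invariant rational functions is the fraction field of k[U]^G. In coordinate-ring form: A is a
commutative Hopf algebra of finite type over k coacting by an algebra map on B, a finitely generated
k-algebra which is a domain and a unique factorisation monoid all of whose units are scalars;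
k-points φ : A →ₐ[k] k of G act on B through the coaction. Conclusion: there is h ≠ 0 in B with D(h)
stable under every φ (φ·h divides a power of h) such that whenever a, b ∈ B, b ≠ 0, satisfy (φ·a) b
= a (φ·b) for all φ (the fraction a/b is invariant), there are c, d ∈ B and exponents r, t with d ≠
0, with c/h^r and d/h^t invariant in B[1/h] — that is (φ·c) h^r = c (φ·h)^r and (φ·d) h^t = d
(φ·h)^t for all φ — and a d h^r = b c h^t (so a/b = (c/h^r)/(d/h^t)). -/
theorem result (k : Type u) [Field k] [IsAlgClosed k] [CharZero k]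
    (A : Type u) [CommRing A] [HopfAlgebra k A] [Algebra.FiniteType k A]
    (B : Type u) [CommRing B] [Algebra k B] [Algebra.FiniteType k B] [IsDomain B] [UniqueFactorizationMonoid B]
    (hunits : ∀ u : Bˣ, ∃ c : k, algebraMap k B c = u)
    [HopfRep.Comod k A B] [GLin.IsCoactAlg k A B] :
    ∃ h : B, h ≠ 0 ∧ (∀ φ : A →ₐ[k] k, ∃ (N : ℕ) (u : B), HopfRep.Comod.act k A B φ h * u = h ^ N) ∧
      ∀ a b : B, b ≠ 0 → (∀ φ : A →ₐ[k] k, HopfRep.Comod.act k A B φ a * b = a * HopfRep.Comod.act k A B φ b) →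
        ∃ (c d : B) (r t : ℕ), d ≠ 0 ∧
          (∀ φ : A →ₐ[k] k, HopfRep.Comod.act k A B φ c * h ^ r = c * (HopfRep.Comod.act k A B φ h) ^ r) ∧
          (∀ φ : A →ₐ[k] k, HopfRep.Comod.act k A B φ d * h ^ t = d * (HopfRep.Comod.act k A B φ h) ^ t) ∧
          a * d * h ^ r = b * c * h ^ t := by
  classical
  have hact : ∀ (φ : A →ₐ[k] k) (b : B), HopfRep.Comod.act k A B φ b = actHom φ b := fun φ b => by
    rw [actHom_apply]; rfl
  simp only [hact]
  let X : Set A := {χ | IsGroupLikeElem k χ ∧ ∃ b : B, b ≠ 0 ∧ ∀ φ : A →ₐ[k] k, actHom φ b = φ χ • b}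
  obtain ⟨T, hTfin, hTX, hXT⟩ := exists_finite_glGroup (k := k) X fun x hx => hx.1
  choose! β hβ0 hβ using fun t (ht : t ∈ T) => (hTX ht).2
  have hT := fun t ht => (hTX (a := t) ht).1
  set h : B := ∏ t ∈ hTfin.toFinset, β t with hh
  have hh0 : h ≠ 0 := Finset.prod_ne_zero_iff.2 fun t ht => hβ0 t (hTfin.mem_toFinset.1 ht)
  have hφh : ∀ φ : A →ₐ[k] k, actHom φ h = φ (∏ t ∈ hTfin.toFinset, t) • h := by
    intro φ
    rw [hh, map_prod, map_prod, Algebra.smul_def, map_prod, ← Finset.prod_mul_distrib]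
    exact Finset.prod_congr rfl fun t ht => by rw [hβ t (hTfin.mem_toFinset.1 ht), Algebra.smul_def]
  have hval : ∀ (φ : A →ₐ[k] k) (x : A), IsGroupLikeElem k x → φ x * φ (HopfAlgebra.antipode k x) = 1 := by
    intro φ x hx
    rw [← map_mul, hx.mul_antipode_cancel, map_one]
  have hval' : ∀ (φ : A →ₐ[k] k) (x : A), IsGroupLikeElem k x → φ x ≠ 0 := fun φ x hx h0 => by
    have := hval φ x hx
    rw [h0, zero_mul] at this
    exact zero_ne_one this
  have hprodgl : IsGroupLikeElem k (∏ t ∈ hTfin.toFinset, t) :=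
    Finset.prod_induction _ (IsGroupLikeElem k) (fun _ _ => IsGroupLikeElem.mul) IsGroupLikeElem.one
      fun t ht => hT t (hTfin.mem_toFinset.1 ht)
  have key : ∀ x ∈ glGroup k T, ∃ (c : B) (r : ℕ), c ≠ 0 ∧
      ∀ φ : A →ₐ[k] k, actHom φ c * h ^ r = φ x • (c * (actHom φ h) ^ r) := by
    intro x hx
    induction hx using Submonoid.closure_induction with
    | mem y hy =>
      rcases hy with hy | ⟨t, ht, rfl⟩
      · exact ⟨β y, 0, hβ0 y hy, fun φ => by rw [pow_zero, pow_zero, mul_one, mul_one, hβ y hy]⟩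
      · have htF := hTfin.mem_toFinset.2 ht
        refine ⟨∏ s ∈ hTfin.toFinset.erase t, β s, 1,
          Finset.prod_ne_zero_iff.2 fun s hs => hβ0 s (hTfin.mem_toFinset.1 (Finset.mem_of_mem_erase hs)), fun φ => ?_⟩
        rw [pow_one, pow_one, hφh φ, map_prod (actHom φ),
          Finset.prod_congr rfl (fun s hs => hβ s (hTfin.mem_toFinset.1 (Finset.mem_of_mem_erase hs)) φ),
          map_prod φ, ← Finset.mul_prod_erase _ _ htF]
        have h1 : algebraMap k B (φ (HopfAlgebra.antipode k t)) * algebraMap k B (φ t) = 1 := by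
          rw [← map_mul, mul_comm, hval φ t (hT t ht), map_one]
        simp only [Algebra.smul_def, map_prod, map_mul, Finset.prod_mul_distrib]
        linear_combination -(∏ i ∈ hTfin.toFinset.erase t, algebraMap k B (φ i)) * (∏ s ∈ hTfin.toFinset.erase t, β s) * h * h1
    | one => exact ⟨1, 0, one_ne_zero, fun φ => by simp⟩
    | mul y z _ _ hy hz =>
      obtain ⟨c₁, r₁, h₁, e₁⟩ := hy
      obtain ⟨c₂, r₂, h₂, e₂⟩ := hz
      refine ⟨c₁ * c₂, r₁ + r₂, mul_ne_zero h₁ h₂, fun φ => ?_⟩
      have := congrArg₂ (· * ·) (e₁ φ) (e₂ φ)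
      simp only [Algebra.smul_def, map_mul] at this ⊢
      rw [pow_add, pow_add]
      linear_combination this
  have hanti : ∀ x ∈ glGroup k T, HopfAlgebra.antipode k x ∈ glGroup k T := by
    intro x hx
    induction hx using Submonoid.closure_induction with
    | mem y hy =>
      rcases hy with hy | ⟨t, ht, rfl⟩
      · exact Submonoid.subset_closure (Or.inr ⟨y, hy, rfl⟩)
      · rw [(hT t ht).antipode_antipode]
        exact Submonoid.subset_closure (Or.inl ht)
    | one => rw [HopfAlgebra.antipode_one]; exact one_mem _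
    | mul y z _ _ hy hz => rw [HopfAlgebra.antipode_mul_distrib]; exact mul_mem hy hz
  refine ⟨h, hh0, fun φ => ⟨1, algebraMap k B (φ (∏ t ∈ hTfin.toFinset, t))⁻¹, ?_⟩, fun a b hb hinv => ?_⟩
  · rw [hφh φ, Algebra.smul_def, mul_comm _ h, mul_assoc, ← map_mul, mul_inv_cancel₀ (hval' φ _ hprodgl),
      map_one, mul_one, pow_one]
  by_cases ha : a = 0
  · exact ⟨0, 1, 0, 0, one_ne_zero, fun φ => by simp, fun φ => by simp, by simp [ha]⟩
  obtain ⟨a', b', c', hrel, rfl, rfl⟩ := UniqueFactorizationMonoid.exists_reduced_factors' a b hb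
  have ha' : a' ≠ 0 := right_ne_zero_of_mul ha
  have hb' : b' ≠ 0 := right_ne_zero_of_mul hb
  have hc' : c' ≠ 0 := left_ne_zero_of_mul hb
  have hinj : ∀ (φ : A →ₐ[k] k) (x : B),
      actHom (φ.comp (HopfAlgebra.antipodeAlgHom k A)) (actHom φ x) = x := fun φ x => by
    have h3 := actHom_antipode (φ.comp (HopfAlgebra.antipodeAlgHom k A)) x
    rwa [AlgHom.comp_assoc, show (HopfAlgebra.antipodeAlgHom k A).comp (HopfAlgebra.antipodeAlgHom k A) =
      AlgHom.id k A from AlgHom.ext fun x => antipode_antipode x, AlgHom.comp_id] at h3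
  have heq : ∀ φ : A →ₐ[k] k, actHom φ a' * b' = a' * actHom φ b' := fun φ => by
    have h1 := hinv φ
    rw [map_mul, map_mul] at h1
    refine mul_left_cancel₀ (mul_ne_zero (fun h0 => hc' ?_) hc' : actHom φ c' * c' ≠ 0) (by linear_combination h1)
    rw [← hinj φ c', h0, map_zero]
  have hdvd : ∀ φ : A →ₐ[k] k, b' ∣ actHom φ b' := fun φ =>
    hrel.symm.dvd_of_dvd_mul_left ⟨actHom φ a', by rw [← heq φ, mul_comm]⟩
  have hline : ∀ φ : A →ₐ[k] k, ∃ l : k, actHom φ b' = l • b' := by
    intro φ
    choose c hc using hdvd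
    set φ' := φ.comp (HopfAlgebra.antipodeAlgHom k A)
    have h2 := congrArg (actHom φ) (hc φ')
    rw [actHom_antipode, map_mul, hc φ, mul_assoc] at h2
    have hu : IsUnit (c φ) :=
      IsUnit.of_mul_eq_one (actHom φ (c φ')) (mul_left_cancel₀ hb' (by rw [mul_one]; exact h2.symm))
    obtain ⟨l, hl⟩ := hunits hu.unit
    rw [IsUnit.unit_spec] at hl
    exact ⟨l, by rw [hc φ, ← hl, Algebra.smul_def, mul_comm]⟩
  obtain ⟨χ, hχ, hχb⟩ := exists_character b' hb' hline
  obtain ⟨e, r, he, her⟩ := key _ (hanti χ (hXT ⟨hχ, b', hb', hχb⟩))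
  have hχa : ∀ φ : A →ₐ[k] k, actHom φ a' = φ χ • a' := fun φ => by
    have h1 := heq φ
    rw [hχb φ, mul_smul_comm, ← smul_mul_assoc] at h1
    exact mul_right_cancel₀ hb' h1
  have hgen : ∀ (x : B) (φ : A →ₐ[k] k), actHom φ x = φ χ • x →
      actHom φ (x * e) * h ^ r = (x * e) * (actHom φ h) ^ r := fun x φ hx => by
    rw [map_mul, hx, mul_assoc, her φ]
    have h1 : algebraMap k B (φ χ) * algebraMap k B (φ (HopfAlgebra.antipode k χ)) = 1 := by
      rw [← map_mul, hval φ χ hχ, map_one]
    simp only [Algebra.smul_def]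
    linear_combination x * e * (actHom φ h) ^ r * h1
  exact ⟨a' * e, b' * e, r, r, mul_ne_zero hb' he, fun φ => hgen a' φ (hχa φ), fun φ => hgen b' φ (hχb φ), by ring⟩

end Groth.Agent.S15705
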