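import Groth.Statements.S15708
import Mathlib.Algebra.AffineMonoid.UniqueSums
import Mathlib.Algebra.Order.Antidiag.FinsuppEquiv
import Mathlib.RingTheory.Etale.Descent
import Mathlib.RingTheory.Finiteness.ModuleFinitePresentation
import Mathlib.RingTheory.Flat.TorsionFree
import Mathlib.RingTheory.GradedAlgebra.Radical
import Mathlib.RingTheory.Henselian
import Mathlib.RingTheory.MvPolynomial.IrreducibleQuadratic
import Mathlib.RingTheory.PicardGroup
import Mathlib.RingTheory.RegularLocalRing.Defs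
import Mathlib.RingTheory.SimpleRing.Principal
import Mathlib.RingTheory.TotallySplit

set_option autoImplicit false
universe u v
open CAlg

namespace Groth.Agent.S15708

/-- Let A be a Noetherian commutative ring graded by the natural numbers, J a homogeneous ideal, and
p_1, ..., p_r finitely many prime ideals such that no p_i contains the irrelevant ideal A_+ and no
p_i contains J. Then there is a homogeneous element z of positive degree with z in J and z in no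
p_i. -/
theorem result {R : Type u} {A : Type v} [CommRing R] [CommRing A]
    [Algebra R A] [IsNoetherianRing A] (𝒜 : ℕ → Submodule R A) [GradedRing 𝒜]
    (J : Ideal A) (hJ : J.IsHomogeneous 𝒜) (P : Finset (Ideal A))
    (hP : ∀ p ∈ P, p.IsPrime ∧ ¬ (HomogeneousIdeal.irrelevant 𝒜).toIdeal ≤ p ∧ ¬ J ≤ p) :
    ∃ (z : A) (n : ℕ), 0 < n ∧ z ∈ 𝒜 n ∧ z ∈ J ∧ ∀ p ∈ P, z ∉ p := by
  classical
  have hpick : ∀ (X : Ideal A), X.IsHomogeneous 𝒜 → ∀ q : Ideal A, ¬ X ≤ q → ∃ (d : ℕ) (a : A), a ∈ 𝒜 d ∧ a ∈ X ∧ a ∉ q := by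
    intro X hX q hXq
    obtain ⟨x, hx, hxq⟩ := SetLike.not_le_iff_exists.mp hXq
    by_contra! h
    apply hxq
    rw [← DirectSum.sum_support_decompose 𝒜 x]
    exact sum_mem fun d _ ↦ h d _ (SetLike.coe_mem _) (hX d hx)
  let core : Ideal A → Ideal A := fun p ↦ (p.homogeneousCore 𝒜).toIdeal
  let Q : Finset (Ideal A) := (P.image core).filter (fun q ↦ ∀ q' ∈ P.image core, q ≤ q' → q' = q)
  have hQ : ∀ q ∈ Q, q.IsPrime ∧ q.IsHomogeneous 𝒜 ∧ ¬ (HomogeneousIdeal.irrelevant 𝒜).toIdeal ≤ q ∧ ¬ J ≤ q := by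
    intro q hq
    obtain ⟨p, hp, rfl⟩ := Finset.mem_image.mp (Finset.mem_filter.mp hq).1
    obtain ⟨h1, h2, h3⟩ := hP p hp
    exact ⟨h1.homogeneousCore, (p.homogeneousCore 𝒜).isHomogeneous,
      fun h ↦ h2 (h.trans (p.toIdeal_homogeneousCore_le 𝒜)), fun h ↦ h3 (h.trans (p.toIdeal_homogeneousCore_le 𝒜))⟩
  have hz : ∀ q : Q, ∃ (d : ℕ) (z : A), 0 < d ∧ z ∈ 𝒜 d ∧ z ∈ J ∧ z ∉ (q : Ideal A) ∧ ∀ q' : Q, q' ≠ q → z ∈ (q' : Ideal A) := by
    rintro ⟨q, hq⟩
    obtain ⟨hqp, hqh, hqi, hqJ⟩ := hQ q hq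
    obtain ⟨dj, a, ha, haJ, haq⟩ := hpick J hJ q hqJ
    obtain ⟨de, e, he, hei, heq⟩ := hpick _ (HomogeneousIdeal.irrelevant 𝒜).isHomogeneous q hqi
    have hde : 0 < de := by
      by_contra h
      obtain rfl : de = 0 := by omega
      apply heq
      have h0 := (HomogeneousIdeal.mem_irrelevant_iff 𝒜 e).mp hei
      rw [GradedRing.proj_apply, DirectSum.decompose_of_mem_same 𝒜 he] at h0
      rw [h0]; exact zero_mem _
    have hb : ∀ q' : Q, ∃ (d : ℕ) (b : A), b ∈ 𝒜 d ∧ b ∉ q ∧ ((q' : Ideal A) ≠ q → b ∈ (q' : Ideal A)) := by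
      rintro ⟨q', hq'⟩
      by_cases h : q' = q
      · exact ⟨0, 1, SetLike.one_mem_graded _, fun h1 ↦ hqp.ne_top ((Ideal.eq_top_iff_one _).mpr h1), fun h' ↦ absurd h h'⟩
      · have hnle : ¬ q' ≤ q := fun hle ↦ h ((Finset.mem_filter.mp hq').2 q (Finset.mem_filter.mp hq).1 hle).symm
        obtain ⟨d, b, hb, hbq', hbq⟩ := hpick q' (hQ q' hq').2.1 q hnle
        exact ⟨d, b, hb, hbq, fun _ ↦ hbq'⟩
    choose db b hb hbq hbq' using hb
    refine ⟨dj + de + ∑ q', db q', a * e * ∏ q', b q', by omega,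
      SetLike.mul_mem_graded (SetLike.mul_mem_graded ha he) (SetLike.prod_mem_graded 𝒜 db b fun q' _ ↦ hb q'),
      Ideal.mul_mem_right _ _ (Ideal.mul_mem_right _ _ haJ), fun h ↦ ?_, fun q' hq' ↦ ?_⟩
    · rcases hqp.mem_or_mem h with h | h
      · rcases hqp.mem_or_mem h with h | h
        · exact haq h
        · exact heq h
      · obtain ⟨q', -, hq'⟩ := (Ideal.IsPrime.prod_mem_iff (hp := hqp)).mp h
        exact hbq q' hq'
    · obtain ⟨c, hc⟩ := Finset.dvd_prod_of_mem b (Finset.mem_univ q')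
      rw [hc]
      exact Ideal.mul_mem_left _ _ (Ideal.mul_mem_right _ _ (hbq' q' fun h ↦ hq' (Subtype.ext h)))
  choose d z hd hzd hzJ hzq hzq' using hz
  let D := ∏ q, d q
  have hD : 0 < D := Finset.prod_pos fun q _ ↦ hd q
  have hdvd : ∀ q, d q ∣ D := fun q ↦ Finset.dvd_prod_of_mem d (Finset.mem_univ q)
  have hpos : ∀ q, D / d q ≠ 0 := fun q ↦ (Nat.div_pos (Nat.le_of_dvd hD (hdvd q)) (hd q)).ne'
  refine ⟨∑ q, z q ^ (D / d q), D, hD, sum_mem fun q _ ↦ ?_, sum_mem fun q _ ↦ ?_, fun p hp hzp ↦ ?_⟩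
  · have := SetLike.pow_mem_graded (D / d q) (hzd q)
    rwa [smul_eq_mul, Nat.div_mul_cancel (hdvd q)] at this
  · exact Ideal.pow_mem_of_mem _ (hzJ q) _ (Nat.pos_of_ne_zero (hpos q))
  · obtain ⟨q, hq, hle⟩ : ∃ q ∈ Q, core p ≤ q := by
      obtain ⟨q, hle, hqmax⟩ := (P.image core).exists_le_maximal (Finset.mem_image_of_mem core hp)
      exact ⟨q, Finset.mem_filter.mpr ⟨hqmax.1, fun q' hq' h ↦ le_antisymm (hqmax.2 hq' h) h⟩, hle⟩
    have hsum : ∑ q, z q ^ (D / d q) ∈ q := by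
      apply hle
      refine Ideal.mem_homogeneousCore_of_homogeneous_of_mem ⟨D, sum_mem fun q _ ↦ ?_⟩ hzp
      have := SetLike.pow_mem_graded (D / d q) (hzd q)
      rwa [smul_eq_mul, Nat.div_mul_cancel (hdvd q)] at this
    rw [← Finset.add_sum_erase _ _ (Finset.mem_univ (⟨q, hq⟩ : Q))] at hsum
    have : z ⟨q, hq⟩ ^ (D / d ⟨q, hq⟩) ∈ q := (Ideal.add_mem_iff_left q (sum_mem fun q' hq' ↦
      Ideal.pow_mem_of_mem q (hzq' q' ⟨q, hq⟩ (Finset.ne_of_mem_erase hq').symm) _ (Nat.pos_of_ne_zero (hpos q')))).mp hsum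
    exact hzq ⟨q, hq⟩ ((hQ q hq).1.mem_of_pow_mem _ this)

end Groth.Agent.S15708
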