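import Groth.Statements.S8853
import Groth.Agent.H29Blow.AssPoints

set_option autoImplicit false
universe u
open CategoryTheory CategoryTheory.Limits AlgebraicGeometry TopologicalSpace
open SDiv

namespace Groth.Agent.S8853

/-- Let Z be a locally principal closed subscheme of a scheme S, with ideal sheaf 𝓘 generated by a
single section on some affine open neighbourhood of each point of its support, and let U be the open
complement of Z. Then the inclusion U ⟶ S is an affine morphism. -/
theorem result {S : Scheme.{u}} (𝓘 : S.IdealSheafData) (h : Curv2.IsLocPrincipal 𝓘) :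
    IsAffineHom (Scheme.Opens.ι 𝓘.support.compl) := by
  have hcover : ∀ x : S, ∃ V : S.affineOpens, x ∈ V.1 ∧
      IsAffineOpen (V.1 ⊓ 𝓘.support.compl) := by
    intro x
    by_cases hx : x ∈ 𝓘.support
    · obtain ⟨U, hxU, f, hf⟩ := h x hx
      refine ⟨U, hxU, ?_⟩
      have : U.1 ⊓ 𝓘.support.compl = S.basicOpen f := by
        ext y
        constructor
        · rintro ⟨hyU, hy⟩
          by_contra hc
          apply hy
          change y ∈ 𝓘.support
          rw [Scheme.IdealSheafData.mem_support_iff_of_mem (U := U) hyU, hf, Scheme.zeroLocus_span,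
            Scheme.mem_zeroLocus_iff]
          simpa using hc
        · intro hy
          exact ⟨S.basicOpen_le f hy,
            H29Blow.basicOpen_disjoint_support (hf ▸ Ideal.mem_span_singleton_self f) hy⟩
      rw [this]
      exact U.2.basicOpen f
    · obtain ⟨V, hV, hxV, hVc⟩ :=
        exists_isAffineOpen_mem_and_subset (U := 𝓘.support.compl) (x := x) hx
      refine ⟨⟨V, hV⟩, hxV, ?_⟩
      have hle : V ≤ 𝓘.support.compl := hVc
      rw [inf_eq_left.mpr hle]
      exact hV
  choose V hxV hV using hcover
  refine isAffineHom_of_forall_exists_isAffineOpen _ fun x => ⟨(V x).1, hxV x, (V x).2, ?_⟩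
  rw [← Scheme.Hom.isAffineOpen_iff_of_isOpenImmersion (Scheme.Opens.ι 𝓘.support.compl),
    Scheme.Hom.image_preimage_eq_opensRange_inf, Scheme.Opens.opensRange_ι, inf_comm]
  exact hV x

end Groth.Agent.S8853
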