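import Groth.Statements.S15712
import Groth.Agent.H25Dense.Basic
import Groth.Agent.H8Props.Generic

set_option autoImplicit false
universe u
open CategoryTheory AlgebraicGeometry TopologicalSpace
open RatSing

namespace Groth.Agent.S15712

open LocCoh Groth.Agent.H25Dense TopologicalSpace

/-- Let X be a locally Noetherian scheme with Serre's property (S_1), i.e. every local ring O_{X,x} has
depth at least min(1, dim O_{X,x}) (for instance X Cohen–Macaulay), and let U ⊆ X be open. Then
scheme-theoretic density of U in X is equivalent to U being dense as a subset. (The published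
statement assumes every scheme excellent, in particular locally Noetherian.) -/
theorem result (X : Scheme.{u}) [IsLocallyNoetherian X]
    (hS1 : ∀ x : X, min (1 : WithBot ℕ∞) (ringKrullDim (X.presheaf.stalk x)) ≤
      ((LocCoh.depth (X.presheaf.stalk x) (X.presheaf.stalk x) : ℕ∞) : WithBot ℕ∞))
    (U : X.Opens) : CInt.IsSchematicallyDense U ↔ Dense (U : Set X) := by
  constructor
  · intro h
    rw [dense_iff_inter_open]
    intro V hV hne
    by_contra hVU
    rw [Set.not_nonempty_iff_eq_empty] at hVU
    let V' : X.Opens := ⟨V, hV⟩
    have hbot : V' ⊓ U = ⊥ := Opens.ext hVU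
    haveI : Subsingleton Γ(X, V' ⊓ U) := by rw [hbot]; infer_instance
    have h10 : (1 : Γ(X, V')) = 0 := h V' (Subsingleton.elim _ _)
    obtain ⟨x, hx⟩ := hne
    have := congrArg (X.presheaf.germ V' x hx) h10
    rw [map_one, map_zero] at this
    exact one_ne_zero this
  · intro hd V
    refine restrict_injective U (fun z hz => (one_le_depth_iff _).mp ?_) V
    have hdim : (1 : WithBot ℕ∞) ≤ ringKrullDim (X.presheaf.stalk z) := by
      by_contra hlt
      haveI : Ring.KrullDimLE 0 (X.presheaf.stalk z) :=
        Ring.KrullDimLE.mk₀ fun a ha => by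
          by_contra hmax
          refine hlt ?_
          have h1 : a < IsLocalRing.maximalIdeal (X.presheaf.stalk z) :=
            lt_of_le_of_ne (IsLocalRing.le_maximalIdeal ha.ne_top) (fun e => hmax (e ▸ inferInstance))
          haveI := ha
          have h2 : (1 : ℕ∞) ≤ (IsLocalRing.maximalIdeal (X.presheaf.stalk z)).height :=
            le_trans le_add_self (Ideal.height_add_one_le_of_lt_of_isPrime h1)
          rw [← IsLocalRing.maximalIdeal_height_eq_ringKrullDim]
          exact_mod_cast h2
      have hgen : z ∈ genericPoints X := by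
        rw [Groth.Agent.H8Props.mem_genericPoints_iff]
        intro y hy
        have : y ∈ Set.range (X.fromSpecStalk z) := by rw [Scheme.range_fromSpecStalk]; exact hy
        obtain ⟨p, rfl⟩ := this
        have hp : p = IsLocalRing.closedPoint (X.presheaf.stalk z) :=
          PrimeSpectrum.ext (Ring.KrullDimLE.eq_maximalIdeal_of_isPrime (R := X.presheaf.stalk z) p.asIdeal)
        rw [hp, Scheme.fromSpecStalk_closedPoint]
      obtain ⟨O, hO, hzO, hOc⟩ := Groth.Agent.H8Props.exists_open_nhd_subset_closure hgen
      obtain ⟨y, hyO, hyU⟩ := hd.inter_open_nonempty O hO ⟨z, hzO⟩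
      exact hz ((specializes_iff_mem_closure.mpr (hOc hyO)).mem_open U.2 hyU)
    have := hS1 z
    rw [min_eq_left hdim] at this
    exact_mod_cast this

end Groth.Agent.S15712
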