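import Groth.Statements.S15715
import Groth.Agent.H29Blow.QCohLoc
import Groth.Agent.H29Blow.PointsOfAffine
import Mathlib

set_option autoImplicit false
universe u
open CategoryTheory AlgebraicGeometry TopologicalSpace
open RatSing

namespace Groth.Agent.S15715

open Opposite

/-- On an affine open of a locally Noetherian scheme a schematically dense open contains the non-vanishing
locus of a nonzerodivisor. -/
theorem exists_nzd {X : Scheme.{u}} [IsLocallyNoetherian X] (U : X.Opens) (hU : CInt.IsSchematicallyDense U)
    {V : X.Opens} (hV : IsAffineOpen V) : ∃ g ∈ nonZeroDivisors Γ(X, V), X.basicOpen g ≤ U := by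
  haveI : IsNoetherianRing Γ(X, V) := IsLocallyNoetherian.component_noetherian ⟨V, hV⟩
  set S : Set Γ(X, V) := {g | X.basicOpen g ≤ U}
  have hspan : ∀ g ∈ Ideal.span S, X.basicOpen g ≤ U := by
    intro g hg y hy
    by_contra hyU
    have hle : Ideal.span S ≤ (hV.primeIdealOf ⟨y, X.basicOpen_le g hy⟩).asIdeal := by
      rw [Ideal.span_le]
      intro g' hg'
      rw [SetLike.mem_coe, H29Blow.mem_primeIdealOf_iff]
      intro hu
      exact hyU (hg' ((X.mem_basicOpen g' y (X.basicOpen_le g hy)).mpr hu))
    exact (H29Blow.mem_primeIdealOf_iff hV ⟨y, X.basicOpen_le g hy⟩ g).mp (hle hg)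
      ((X.mem_basicOpen g y (X.basicOpen_le g hy)).mp hy)
  by_contra hne
  push Not at hne
  have hsub : (Ideal.span S : Set Γ(X, V)) ⊆
      ⋃ p ∈ (↑(associatedPrimes.finite Γ(X, V) Γ(X, V)).toFinset : Set (Ideal Γ(X, V))), (p : Set Γ(X, V)) := by
    rw [Set.Finite.coe_toFinset, biUnion_associatedPrimes_eq_compl_nonZeroDivisors]
    exact fun g hg hg' => hne g hg' (hspan g hg)
  obtain ⟨p, hp, hle⟩ := (Ideal.subset_union_prime (f := fun p => p) ⊤ ⊤
    (fun p hp _ _ => ((associatedPrimes.finite Γ(X, V) Γ(X, V)).mem_toFinset.mp hp).isPrime)).mp hsub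
  obtain ⟨hpp, a, ha⟩ := isAssociatedPrime_iff.mp ((associatedPrimes.finite Γ(X, V) Γ(X, V)).mem_toFinset.mp hp)
  have hkill : ∀ g ∈ S, g * a = 0 := fun g hg => by
    have := hle (Ideal.subset_span hg)
    rw [ha, Submodule.mem_colon_singleton] at this
    simpa using this
  have ha0 : a = 0 := by
    apply hU V
    rw [map_zero]
    refine TopCat.Presheaf.section_ext X.sheaf _ _ _ fun y hy => ?_
    obtain ⟨g, hgW, hyg⟩ := hV.exists_basicOpen_le (V := V ⊓ U) ⟨y, hy⟩ hy.1
    change X.presheaf.germ (V ⊓ U) y hy _ = X.presheaf.germ (V ⊓ U) y hy 0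
    rw [TopCat.Presheaf.germ_res_apply, map_zero]
    have h := congrArg (X.presheaf.germ V y hy.1) (hkill g (hgW.trans inf_le_right))
    rw [map_mul, map_zero] at h
    exact ((X.mem_basicOpen g y hy.1).mp hyg).mul_right_eq_zero.mp h
  exact hpp.ne_top (Ideal.eq_top_iff_one _ |>.mpr (by rw [ha, Submodule.mem_colon_singleton]; simp [ha0]))


/-- Let X be a locally Noetherian scheme, φ : F → G a homomorphism of O_X-modules with F quasi-coherent
and torsion-free (over every affine open V, no nonzero section of F is killed by a regular element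
of O_X(V)), and U a scheme-theoretically dense open subset of X such that the restriction of φ to U
is injective. Then φ is injective. (The published statement allows an arbitrary O_X-module F; for
the skyscraper sheaf on the affine line over a field, placed at a closed point with value the local
ring at that point, which is torsion-free in this sense, the zero map to the zero module is
injective over the dense open complement of the point but not injective. This row takes F
quasi-coherent.) -/
theorem result (X : Scheme.{u})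
    [IsLocallyNoetherian X] (F G : X.Modules) (hF : Coh.IsQCoh F)
    (htf : ∀ V : X.affineOpens, Submodule.torsion Γ(X, V.1) (F.val.obj (Opposite.op V.1)) = ⊥)
    (φ : F ⟶ G) (U : X.Opens) (hU : CInt.IsSchematicallyDense U)
    (hφU : ∀ V : X.Opens, V ≤ U → Function.Injective ⇑(ConcreteCategory.hom (φ.val.app (Opposite.op V)))) (V : X.Opens) :
    Function.Injective ⇑(ConcreteCategory.hom (φ.val.app (Opposite.op V))) := by
  have haff : ∀ (W : X.Opens), IsAffineOpen W → ∀ s : Γ(F, W), φ.val.app (op W) s = 0 → s = 0 := by
    intro W hW s hs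
    obtain ⟨g, hg, hgU⟩ := exists_nzd U hU hW
    have hres : F.presheaf.map (homOfLE (X.basicOpen_le g)).op s = 0 := by
      apply hφU _ hgU
      refine Eq.trans ?_ (map_zero (φ.val.app (op (X.basicOpen g))).hom).symm
      have hn := PresheafOfModules.naturality_apply φ.val (homOfLE (X.basicOpen_le g)).op s
      exact hn.trans ((congrArg (G.val.map (homOfLE (X.basicOpen_le g)).op) hs).trans (map_zero _))
    obtain ⟨n, hn⟩ := H29Blow.exists_pow_smul_eq_zero F hF hW g s hres
    have hmem : (show ↥(F.val.obj (op W)) from s) ∈ Submodule.torsion Γ(X, W) (F.val.obj (op W)) :=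
      (Submodule.mem_torsion_iff (R := Γ(X, W)) (M := F.val.obj (op W)) _).mpr ⟨⟨g ^ n, pow_mem hg n⟩, hn⟩
    rw [htf ⟨W, hW⟩] at hmem
    exact hmem
  refine (injective_iff_map_eq_zero _).mpr fun s hs => ?_
  refine TopCat.Presheaf.section_ext (F := (⟨F.presheaf, F.isSheaf⟩ : TopCat.Sheaf Ab X)) V s 0 fun y hy => ?_
  obtain ⟨W, hW, hyW, hWV⟩ := exists_isAffineOpen_mem_and_subset hy
  have hsW : F.presheaf.map (homOfLE hWV).op s = 0 := by
    apply haff W hW
    have hn := PresheafOfModules.naturality_apply φ.val (homOfLE hWV).op s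
    exact hn.trans ((congrArg (G.val.map (homOfLE hWV).op) hs).trans (map_zero _))
  change F.presheaf.germ V y hy s = F.presheaf.germ V y hy 0
  exact ((F.presheaf.germ_res_apply (homOfLE hWV) y hyW s).symm.trans
    ((congrArg (F.presheaf.germ W y hyW) hsW).trans (map_zero (F.presheaf.germ W y hyW).hom))).trans (map_zero (F.presheaf.germ V y hy).hom).symm

end Groth.Agent.S15715
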