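import Groth.Statements.S15717
import Groth.Agent.H4Depth.CM
import Mathlib.Order.CompletePartialOrder
import Mathlib.RingTheory.PicardGroup

set_option autoImplicit false
universe u
open CAlg

namespace Groth.Agent.S15717

/-- Let R be a Cohen–Macaulay local ring and I an ideal of R with R/I equidimensional (all minimal
primes p over I have the same dim R/p). Then there is a regular sequence r_1, ..., r_n in I such
that the closed subscheme V(r_1, ..., r_n) of Spec R, a local complete intersection, contains V(I),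
has the same dimension as V(I), and has the irreducible components of V(I) among its irreducible
components: dim R/(r_1, ..., r_n) = dim R/I and every minimal prime over I is a minimal prime over
(r_1, ..., r_n). The sequence is asked to be weakly regular (each r_i a non-zero-divisor modulo the
previous ones), which for I proper is the same as regular and which also covers I = R with the
sequence (1). -/
theorem result (R : Type u) [CommRing R]
    [LocCoh.IsCohenMacaulayLocalRing R] (I : Ideal R)
    (hI : ∀ p ∈ I.minimalPrimes, ringKrullDim (R ⧸ p) = ringKrullDim (R ⧸ I)) :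
    ∃ rs : List R, RingTheory.Sequence.IsWeaklyRegular R rs ∧ Ideal.ofList rs ≤ I ∧
      ringKrullDim (R ⧸ Ideal.ofList rs) = ringKrullDim (R ⧸ I) ∧
      I.minimalPrimes ⊆ (Ideal.ofList rs).minimalPrimes := by
  classical
  by_cases hIt : I = ⊤
  · subst hIt
    refine ⟨[1], ?_, le_top, ?_, ?_⟩
    · rw [RingTheory.Sequence.isWeaklyRegular_cons_iff]
      exact ⟨fun a b h ↦ by simpa using h, RingTheory.Sequence.IsWeaklyRegular.nil _ _⟩
    · rw [Ideal.ofList_singleton, Ideal.span_singleton_one]
    · rw [Ideal.minimalPrimes_top]; exact Set.empty_subset _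
  · have hCM : LocCoh.IsCohenMacaulayModule R R := LocCoh.IsCohenMacaulayLocalRing.supportDim_eq_depth
    have hdim := Groth.Agent.H4Depth.IsCM.supportDim_eq_add_idealDepth (M := R) hIt hCM
    have hne : I • (⊤ : Submodule R R) ≠ ⊤ := by simpa [smul_eq_mul, Ideal.mul_top] using hIt
    obtain ⟨g, hg⟩ := ENat.ne_top_iff_exists.mp (Groth.Agent.H4Depth.idealDepth_ne_top (I := I) (M := R) hne)
    obtain ⟨rs, hrs, hlen⟩ : ∃ rs : List R, (RingTheory.Sequence.IsWeaklyRegular R rs ∧ ∀ r ∈ rs, r ∈ I) ∧ rs.length = g := by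
      have h := hg.symm
      rw [LocCoh.idealDepth, if_neg hne] at h
      rw [iSup_subtype' (p := fun rs : List R ↦ RingTheory.Sequence.IsWeaklyRegular R rs ∧ ∀ r ∈ rs, r ∈ I)
        (f := fun rs _ ↦ (rs.length : ℕ∞))] at h
      haveI : Nonempty {rs : List R // RingTheory.Sequence.IsWeaklyRegular R rs ∧ ∀ r ∈ rs, r ∈ I} :=
        ⟨⟨[], RingTheory.Sequence.IsWeaklyRegular.nil _ _, by simp⟩⟩
      obtain ⟨⟨rs, hrs⟩, h2⟩ := ENat.exists_eq_iSup_of_lt_top (by rw [h]; exact ENat.coe_lt_top g)
      exact ⟨rs, hrs, by exact_mod_cast h2.trans h⟩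
    have hle : Ideal.ofList rs ≤ I := Ideal.span_le.mpr hrs.2
    have hI' : I ≤ IsLocalRing.maximalIdeal R := IsLocalRing.le_maximalIdeal hIt
    have hreg := RingTheory.Sequence.IsRegular.of_isWeaklyRegular_of_mem_maximalIdeal (L := R)
      (fun r hr ↦ hI' (hrs.2 r hr)) hrs.1
    have hd := Module.supportDim_add_length_eq_supportDim_of_isRegular (M := R) rs hreg
    simp only [smul_eq_mul, Module.supportDim_quotient_eq_ringKrullDim,
      Module.supportDim_self_eq_ringKrullDim] at hd hdim
    have hmt : ∀ J : Ideal R, ringKrullDim (R ⧸ J * (⊤ : Ideal R)) = ringKrullDim (R ⧸ J) := fun J ↦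
      ringKrullDim_eq_of_ringEquiv (Ideal.quotEquivOfEq (Ideal.mul_top J))
    rw [hlen, hmt] at hd
    rw [hmt] at hdim
    rw [← hg] at hdim
    have hfin : ∀ K : Ideal R, K ≠ ⊤ → ∃ a : ℕ, ringKrullDim (R ⧸ K) = (a : WithBot ℕ∞) := fun K hK ↦ by
      haveI := Ideal.Quotient.nontrivial_iff.mpr hK
      rw [← Module.supportDim_quotient_eq_ringKrullDim]
      exact Groth.Agent.H4Depth.exists_nat_supportDim_eq
    obtain ⟨a, ha⟩ := hfin _ (ne_top_of_le_ne_top hIt hle)
    obtain ⟨b, hb⟩ := hfin I hIt
    rw [ha] at hd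
    rw [hb, ← hd] at hdim
    have hab : a = b := by
      have h : a + g = b + g := by exact_mod_cast hdim
      omega
    refine ⟨rs, hrs.1, hle, by rw [ha, hb, hab], fun p hp ↦ ?_⟩
    haveI := hp.1.1
    obtain ⟨q, hq, hqp⟩ := Ideal.exists_minimalPrimes_le (hle.trans hp.1.2)
    rcases eq_or_lt_of_le hqp with rfl | hlt
    · exact hq
    · exfalso
      haveI := hq.1.1
      obtain ⟨x, hxp, hxq⟩ := SetLike.exists_of_lt hlt
      have hx0 : Ideal.Quotient.mk q x ∈ nonZeroDivisors (R ⧸ q) :=
        mem_nonZeroDivisors_of_ne_zero fun h ↦ hxq (Ideal.Quotient.eq_zero_iff_mem.mp h)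
      have hker : Ideal.Quotient.mk q x ∈ RingHom.ker (Ideal.Quotient.factor hqp) := by
        rw [RingHom.mem_ker, Ideal.Quotient.factor_mk]; exact Ideal.Quotient.eq_zero_iff_mem.mpr hxp
      have h1 := ringKrullDim_succ_le_of_surjective (Ideal.Quotient.factor hqp)
        (Ideal.Quotient.factor_surjective hqp) hx0 hker
      rw [hI p hp, hb] at h1
      have h2 : ringKrullDim (R ⧸ q) ≤ ringKrullDim (R ⧸ Ideal.ofList rs) :=
        ringKrullDim_le_of_surjective (Ideal.Quotient.factor hq.1.2) (Ideal.Quotient.factor_surjective hq.1.2)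
      rw [ha, hab] at h2
      have h3 : b + 1 ≤ b := by exact_mod_cast h1.trans h2
      omega

end Groth.Agent.S15717
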