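import Groth.Statements.S15721
import Groth.Agent.H4RSH.LowestS2
import Groth.Agent.H4RSH.SectionsS2
import Groth.Agent.H4RepDual.PointScheme

set_option autoImplicit false
set_option synthInstance.maxHeartbeats 400000
set_option maxHeartbeats 1000000
set_option linter.style.haveILetI false
universe u
open CategoryTheory CategoryTheory.Limits AlgebraicGeometry TopologicalSpace
attribute [local instance] HasDerivedCategory.standard
open RatSing

namespace Groth.Agent.S15721

/-- Let Z be an excellent scheme of finite type over a Noetherian local scheme S admitting a dualizing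
complex, with canonical sheaf ω_Z = h^{-d}(ω_Z^•), where ω_Z^• = f^! ω_S^• for the normalized
dualizing complex ω_S^• of S and -d is the lowest degree with nonzero cohomology. Then ω_Z is
torsion-free and (S_2); if moreover Z is normal, ω_Z is reflexive of rank 1. This row states the
case Z proper over S = Spec A (so that f^! is the right adjoint of Rf_* on D_QCoh), with
torsion-freeness (no nonzero section killed by a regular element of the coordinate ring), the (S_2)
condition and reflexivity all stated for the modules of sections over affine opens, and without the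
rank assertion. Existence of Rf_* and f^!, preservation of D_QCoh, and exactness of restriction to
opens and of M ↦ M~ are carried as hypotheses. -/
theorem result (A : Type u) [CommRing A] [IsNoetherianRing A] [IsLocalRing A]
    (ωA : Dual.D A) (hω : Dual.IsDualizing A ωA) (hn : Dual.IsNormalized A ωA)
    [PreservesFiniteLimits (tilde.functor (CommRingCat.of A))]
    (Z : Scheme.{u}) [IsLocallyNoetherian Z] (hexc : ∀ U : Z.affineOpens, EGA4.IsExcellent Γ(Z, U.1))
    (f : Z ⟶ Spec (CommRingCat.of A)) [IsProper f]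
    [DCoh.HasRpush f] (h : DCoh.RpushPreservesQCoh f) [DCoh.HasShriek f h]
    (K : DCoh.DQCoh (Spec (CommRingCat.of A))) (hK : Nonempty (K.obj ≅ (DCoh.tildeD (CommRingCat.of A)).obj ωA))
    (d : ℕ) (hlow : ∀ i : ℤ, i < -(d : ℤ) → IsZero (DCoh.HD ((DCoh.shriek f h).obj K).obj i))
    (hne : ¬ IsZero (DCoh.HD ((DCoh.shriek f h).obj K).obj (-(d : ℤ)))) :
    (∀ U : Z.affineOpens, Submodule.torsion Γ(Z, U.1)
      ((DCoh.HD ((DCoh.shriek f h).obj K).obj (-(d : ℤ))).val.obj (Opposite.op U.1)) = ⊥) ∧
    (∀ U : Z.affineOpens, LocCoh.HasSk 2 Γ(Z, U.1)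
      ((DCoh.HD ((DCoh.shriek f h).obj K).obj (-(d : ℤ))).val.obj (Opposite.op U.1))) ∧
    (Pi1.IsNormalScheme Z → ∀ U : Z.affineOpens, Module.IsReflexive Γ(Z, U.1)
      ((DCoh.HD ((DCoh.shriek f h).obj K).obj (-(d : ℤ))).val.obj (Opposite.op U.1))) := by
  haveI : ∀ (R : CommRingCat.{u}), PreservesFiniteLimits (tilde.functor R) := fun R => inferInstance
  haveI : ∀ (U : Scheme.{u}) (j : U ⟶ Z) [IsOpenImmersion j], PreservesFiniteLimits (Scheme.Modules.restrictFunctor j) :=
    fun U j _ => inferInstance
  haveI : ∀ (U : Scheme.{u}) (j : U ⟶ Spec (CommRingCat.of A)) [IsOpenImmersion j],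
    PreservesFiniteLimits (Scheme.Modules.restrictFunctor j) := fun U j _ => inferInstance
  obtain ⟨eK⟩ := hK
  obtain ⟨e₀⟩ := H4RepDual.nonempty_rd_id K.obj
  have hKd : Dual2.IsDualizingSch (Spec (CommRingCat.of A)) K.obj :=
    LeadBrown.isDualizingSch_of_cover K.obj fun x =>
      ⟨A, inferInstance, 𝟙 _, inferInstance, ⟨x, rfl⟩, ωA, hω, ⟨e₀ ≪≫ eK⟩⟩
  have adj := DCoh.shriekAdj f h
  have hKZ := H4RepDual.isDualizingSch_rightAdjoint f adj K hKd
  obtain ⟨-, -, -, hcoh, -⟩ := H4RSH.ProperLocal.exists_setup hω hn f adj K eK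
  have hst := H4RSH.LowestS2.stalk_spec hKZ (-(d : ℤ)) hlow
  exact ⟨fun U => H4RSH.SectionsS2.torsion_sections _ (hcoh _).1 U.2 fun x _ => (hst x).2,
    fun U => H4RSH.SectionsS2.hasSk_sections _ (hcoh _).1 U.2 2 fun x _ => (hst x).1,
    fun hZ U => H4RSH.SectionsS2.isReflexive_sections _ (hcoh _).1 U.2 (hcoh _) hZ
      (fun x _ => (hst x).1) (fun x _ => (hst x).2)⟩

end Groth.Agent.S15721
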