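import Groth.Statements.S15723
import Groth.Agent.H11Proj.Graded
import Mathlib.AlgebraicGeometry.ProjectiveSpectrum.Scheme
import Mathlib.RingTheory.Ideal.KrullsHeightTheorem

set_option autoImplicit false
universe u v
open CAlg

namespace Groth.Agent.S15723

open AlgebraicGeometry

variable {R : Type u} {A : Type v} [CommRing R] [CommRing A] [Algebra R A]
  (𝒜 : ℕ → Submodule R A) [GradedRing 𝒜]

/-- A homogeneous ideal not contained in an ideal `q` has a homogeneous element outside `q`. -/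
theorem exists_homogeneous_notMem {I q : Ideal A} (hI : I.IsHomogeneous 𝒜) (h : ¬ I ≤ q) :
    ∃ n a, a ∈ 𝒜 n ∧ a ∈ I ∧ a ∉ q := by
  classical
  obtain ⟨a, haI, haq⟩ := SetLike.not_le_iff_exists.mp h
  by_contra! hne
  apply haq
  rw [← DirectSum.sum_support_decompose 𝒜 a]
  exact q.sum_mem fun i _ => hne i _ (SetLike.coe_mem _) (hI i haI)

theorem exists_pos_homogeneous_notMem {q : Ideal A}
    (h : ¬ (HomogeneousIdeal.irrelevant 𝒜).toIdeal ≤ q) :
    ∃ n a, 0 < n ∧ a ∈ 𝒜 n ∧ a ∉ q := by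
  classical
  obtain ⟨a, haI, haq⟩ := SetLike.not_le_iff_exists.mp h
  by_contra! hne
  apply haq
  rw [← DirectSum.sum_support_decompose 𝒜 a]
  refine q.sum_mem fun i _ => ?_
  rcases Nat.eq_zero_or_pos i with rfl | hi
  · rw [HomogeneousIdeal.mem_iff, HomogeneousIdeal.mem_irrelevant_iff] at haI
    rw [← GradedRing.proj_apply, haI]
    exact q.zero_mem
  · exact hne i _ hi (SetLike.coe_mem _)

/-- Graded prime avoidance for homogeneous primes. -/
theorem exists_avoid_aux {J : Ideal A} (hJ : J.IsHomogeneous 𝒜)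
    (hbase : ∃ n z, 0 < n ∧ z ∈ 𝒜 n ∧ z ∈ J) :
    ∀ (k : ℕ) (s : Finset (Ideal A)), s.card = k →
      (∀ q ∈ s, q.IsPrime ∧ q.IsHomogeneous 𝒜 ∧ ¬ J ≤ q ∧
        ¬ (HomogeneousIdeal.irrelevant 𝒜).toIdeal ≤ q) →
      ∃ n z, 0 < n ∧ z ∈ 𝒜 n ∧ z ∈ J ∧ ∀ q ∈ s, z ∉ q := by
  classical
  intro k
  induction k using Nat.strong_induction_on with
  | _ k IH =>
    intro s hk hs
    rcases s.eq_empty_or_nonempty with rfl | ⟨q, hq⟩
    · obtain ⟨n, z, hn, hz, hzJ⟩ := hbase
      exact ⟨n, z, hn, hz, hzJ, by simp⟩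
    by_cases hinc : ∃ q' ∈ s, q' ≠ q ∧ q' ≤ q
    · obtain ⟨q', hq', hne, hle⟩ := hinc
      obtain ⟨n, z, hn, hz, hzJ, hav⟩ := IH _ (hk ▸ Finset.card_erase_lt_of_mem hq')
        (s.erase q') rfl (fun r hr => hs r (Finset.mem_of_mem_erase hr))
      refine ⟨n, z, hn, hz, hzJ, fun r hr hzr => ?_⟩
      rcases eq_or_ne r q' with rfl | hr'
      · exact hav q (Finset.mem_erase.mpr ⟨hne.symm, hq⟩) (hle hzr)
      · exact hav r (Finset.mem_erase.mpr ⟨hr', hr⟩) hzr
    · push Not at hinc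
      obtain ⟨n, z, hn, hz, hzJ, hav⟩ := IH _ (hk ▸ Finset.card_erase_lt_of_mem hq)
        (s.erase q) rfl (fun r hr => hs r (Finset.mem_of_mem_erase hr))
      by_cases hzq : z ∈ q
      swap
      · refine ⟨n, z, hn, hz, hzJ, fun r hr => ?_⟩
        rcases eq_or_ne r q with rfl | hr'
        · exact hzq
        · exact hav r (Finset.mem_erase.mpr ⟨hr', hr⟩)
      obtain ⟨hqp, -, hqJ, hqA⟩ := hs q hq
      have hb : ∀ r ∈ s.erase q, ∃ d b, b ∈ 𝒜 d ∧ b ∈ r ∧ b ∉ q := fun r hr =>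
        exists_homogeneous_notMem 𝒜 (hs r (Finset.mem_of_mem_erase hr)).2.1
          (hinc r (Finset.mem_of_mem_erase hr) (Finset.ne_of_mem_erase hr))
      choose! d b hbd hbr hbq using hb
      obtain ⟨dc, c, hc, hcJ, hcq⟩ := exists_homogeneous_notMem 𝒜 hJ hqJ
      obtain ⟨de, e, hde, he, heq⟩ := exists_pos_homogeneous_notMem 𝒜 hqA
      let y := c * e * ∏ r ∈ s.erase q, b r
      let m := dc + de + ∑ r ∈ s.erase q, d r
      have hy : y ∈ 𝒜 m :=
        SetLike.mul_mem_graded (SetLike.mul_mem_graded hc he) (SetLike.prod_mem_graded _ _ _ hbd)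
      have hyq : y ∉ q := by
        intro hmem
        rcases hqp.mem_or_mem hmem with h | h
        · rcases hqp.mem_or_mem h with h | h
          exacts [hcq h, heq h]
        · obtain ⟨r, hr, h⟩ := hqp.prod_mem_iff.mp h
          exact hbq r hr h
      have hm : 0 < m := by omega
      refine ⟨n * m, z ^ m + y ^ n, by positivity, (𝒜 _).add_mem ?_ ?_,
        J.add_mem (J.pow_mem_of_mem hzJ _ hm)
          (J.pow_mem_of_mem (J.mul_mem_right _ (J.mul_mem_right _ hcJ)) _ hn), fun r hr hmem => ?_⟩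
      · rw [mul_comm]; exact SetLike.pow_mem_graded m hz
      · exact SetLike.pow_mem_graded n hy
      rcases eq_or_ne r q with rfl | hr'
      · exact hyq (hqp.mem_of_pow_mem n ((r.add_mem_iff_right (r.pow_mem_of_mem hzq _ hm)).mp hmem))
      · have hr'' := Finset.mem_erase.mpr ⟨hr', hr⟩
        have hyr : y ∈ r :=
          r.mul_mem_left _ (r.mem_of_dvd (Finset.dvd_prod_of_mem _ hr'') (hbr r hr''))
        exact hav r hr'' ((hs r hr).1.mem_of_pow_mem m
          ((r.add_mem_iff_left (r.pow_mem_of_mem hyr _ hn)).mp hmem))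

/-- Graded prime avoidance for arbitrary primes. -/
theorem exists_avoid {J : Ideal A} (hJ : J.IsHomogeneous 𝒜)
    (hbase : ∃ n z, 0 < n ∧ z ∈ 𝒜 n ∧ z ∈ J) (s : Finset (Ideal A))
    (hs : ∀ q ∈ s, q.IsPrime ∧ ¬ J ≤ q ∧ ¬ (HomogeneousIdeal.irrelevant 𝒜).toIdeal ≤ q) :
    ∃ n z, 0 < n ∧ z ∈ 𝒜 n ∧ z ∈ J ∧ ∀ q ∈ s, z ∉ q := by
  classical
  obtain ⟨n, z, hn, hz, hzJ, hav⟩ := exists_avoid_aux 𝒜 hJ hbase _
    (s.image fun q => (q.homogeneousCore 𝒜).toIdeal) rfl (by
      intro r hr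
      obtain ⟨q, hq, rfl⟩ := Finset.mem_image.mp hr
      obtain ⟨hp, h1, h2⟩ := hs q hq
      have hle := Ideal.toIdeal_homogeneousCore_le 𝒜 q
      exact ⟨hp.homogeneousCore, HomogeneousIdeal.isHomogeneous _,
        fun h => h1 (h.trans hle), fun h => h2 (h.trans hle)⟩)
  exact ⟨n, z, hn, hz, hzJ, fun q hq h => hav _ (Finset.mem_image_of_mem _ hq)
    (Ideal.mem_homogeneousCore_of_homogeneous_of_mem ⟨n, hz⟩ h)⟩

variable {𝒜}

theorem locIdeal_mono {I I' : Ideal A} (h : I ≤ I') (f : A) :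
    W4c2ratsingkovacs.locIdeal 𝒜 I f ≤ W4c2ratsingkovacs.locIdeal 𝒜 I' f :=
  Ideal.comap_mono (Ideal.map_mono h)

theorem mem_of_map_mem {f : A} {Q : Ideal A} (hQ : Q.IsPrime) (hf : f ∉ Q) {a : A}
    (ha : algebraMap A (Localization.Away f) a ∈ Q.map (algebraMap A (Localization.Away f))) :
    a ∈ Q := by
  rwa [← Ideal.mem_comap, ← Ideal.under_def,
    IsLocalization.under_map_of_isPrime_disjoint (.powers f) _ hQ] at ha
  rw [Set.disjoint_left]
  rintro x ⟨k, rfl⟩ hx
  exact hf (hQ.mem_of_pow_mem k hx)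

theorem isPrime_locIdeal {f : A} {Q : Ideal A} (hQ : Q.IsPrime) (hf : f ∉ Q) :
    (W4c2ratsingkovacs.locIdeal 𝒜 Q f).IsPrime := by
  have : (Q.map (algebraMap A (Localization.Away f))).IsPrime := by
    refine IsLocalization.isPrime_of_isPrime_disjoint (.powers f) _ Q hQ ?_
    rw [Set.disjoint_left]
    rintro x ⟨k, rfl⟩ hx
    exact hf (hQ.mem_of_pow_mem k hx)
  exact Ideal.IsPrime.comap _

/-- Every prime of `A_(f)` comes from a prime of `A` not containing `f`. -/
theorem exists_prime {f : A} {m : ℕ} (f_deg : f ∈ 𝒜 m) (hm : 0 < m)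
    (P : Ideal (HomogeneousLocalization.Away 𝒜 f)) (hP : P.IsPrime) :
    ∃ Q : Ideal A, Q.IsPrime ∧ f ∉ Q ∧ P = W4c2ratsingkovacs.locIdeal 𝒜 Q f := by
  obtain ⟨x, hx⟩ := ProjIsoSpecTopComponent.toSpec_surjective 𝒜 f_deg hm
    (⟨P, hP⟩ : PrimeSpectrum _)
  refine ⟨x.1.asHomogeneousIdeal.toIdeal, x.1.isPrime, x.2, ?_⟩
  exact (congrArg PrimeSpectrum.asIdeal hx).symm

/-- The degree zero element `z ^ m / f ^ d`. -/
noncomputable def elt {f : A} {m d : ℕ} (f_deg : f ∈ 𝒜 m) {z : A} (hz : z ∈ 𝒜 d) :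
    HomogeneousLocalization.Away 𝒜 f :=
  HomogeneousLocalization.Away.mk 𝒜 f_deg d (z ^ m)
    (by simpa [mul_comm] using SetLike.pow_mem_graded m hz)

theorem algebraMap_elt {f : A} {m d : ℕ} (f_deg : f ∈ 𝒜 m) {z : A} (hz : z ∈ 𝒜 d) :
    algebraMap _ (Localization.Away f) (elt f_deg hz) *
      algebraMap A (Localization.Away f) (f ^ d) = algebraMap A _ (z ^ m) := by
  rw [HomogeneousLocalization.algebraMap_apply, elt, HomogeneousLocalization.Away.val_mk,
    Localization.mk_eq_mk']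
  exact IsLocalization.mk'_spec _ _ _

theorem elt_mem_locIdeal {f : A} {m d : ℕ} (f_deg : f ∈ 𝒜 m) (hm : 0 < m) {z : A}
    (hz : z ∈ 𝒜 d) {I : Ideal A} (hzI : z ∈ I) :
    elt f_deg hz ∈ W4c2ratsingkovacs.locIdeal 𝒜 I f := by
  rw [W4c2ratsingkovacs.locIdeal, Ideal.mem_comap]
  have hu : IsUnit (algebraMap A (Localization.Away f) (f ^ d)) :=
    IsLocalization.map_units (Localization.Away f) (⟨f ^ d, d, rfl⟩ : Submonoid.powers f)
  rw [← Ideal.mul_unit_mem_iff_mem _ hu, algebraMap_elt f_deg hz]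
  exact Ideal.mem_map_of_mem _ (I.pow_mem_of_mem hzI m hm)

theorem mem_of_elt_mem {f : A} {m d : ℕ} (f_deg : f ∈ 𝒜 m) {z : A}
    (hz : z ∈ 𝒜 d) {Q : Ideal A} (hQ : Q.IsPrime) (hf : f ∉ Q)
    (h : elt f_deg hz ∈ W4c2ratsingkovacs.locIdeal 𝒜 Q f) : z ∈ Q := by
  rw [W4c2ratsingkovacs.locIdeal, Ideal.mem_comap] at h
  have h' : algebraMap A (Localization.Away f) (z ^ m) ∈ Q.map (algebraMap A _) := by
    rw [← algebraMap_elt f_deg hz]
    exact Ideal.mul_mem_right _ _ h
  exact hQ.mem_of_pow_mem m (mem_of_map_mem hQ hf h')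

theorem height_le_length {f : A} [IsNoetherianRing (HomogeneousLocalization.Away 𝒜 f)] {m : ℕ}
    (f_deg : f ∈ 𝒜 m) (hm : 0 < m) (zs : List A) (hz : ∀ z ∈ zs, ∃ d, z ∈ 𝒜 d)
    (hne : W4c2ratsingkovacs.locIdeal 𝒜 (Ideal.ofList zs) f ≠ ⊤) :
    (W4c2ratsingkovacs.locIdeal 𝒜 (Ideal.ofList zs) f).height ≤ zs.length := by
  classical
  choose! d hd using hz
  let w : Fin zs.length → HomogeneousLocalization.Away 𝒜 f := fun i =>
    elt f_deg (hd (zs.get i) (List.get_mem zs i))
  set L := W4c2ratsingkovacs.locIdeal 𝒜 (Ideal.ofList zs) f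
  have hle : Ideal.span (Set.range w) ≤ L := Ideal.span_le.mpr (by
    rintro _ ⟨i, rfl⟩
    exact elt_mem_locIdeal f_deg hm _ (Ideal.subset_span (List.get_mem zs i)))
  have hrad : L ≤ (Ideal.span (Set.range w)).radical := by
    rw [Ideal.radical_eq_sInf]
    refine le_sInf ?_
    rintro P ⟨hwP, hP⟩
    obtain ⟨Q, hQ, hfQ, rfl⟩ := exists_prime f_deg hm P hP
    refine locIdeal_mono (Ideal.span_le.mpr ?_) f
    intro z hzmem
    obtain ⟨i, rfl⟩ := List.mem_iff_get.mp hzmem
    exact mem_of_elt_mem f_deg _ hQ hfQ (hwP (Ideal.subset_span ⟨i, rfl⟩))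
  have hspan : Ideal.span (Set.range w) ≠ ⊤ := fun h => hne (top_le_iff.mp (h ▸ hle))
  calc L.height ≤ (Ideal.span (Set.range w)).radical.height := Ideal.height_mono hrad
    _ = (Ideal.span (Set.range w)).height := by
      simp only [Ideal.height, Ideal.radical_minimalPrimes]
    _ ≤ (Ideal.span (Set.range w)).spanFinrank := Ideal.height_le_spanFinrank _ hspan
    _ ≤ zs.length := by
      norm_cast
      refine (Submodule.spanFinrank_span_le_ncard_of_finite (Set.finite_range w)).trans ?_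
      rw [← Set.image_univ]
      exact (Set.ncard_image_le (Set.finite_univ)).trans (by simp)

/-- The generic position condition. -/
def Good (𝒜 : ℕ → Submodule R A) [GradedRing 𝒜] (J : Ideal A) (zs : List A) : Prop :=
  ∀ (k : ℕ) (hk : k < zs.length), ∀ Q ∈ (Ideal.ofList (zs.take k)).minimalPrimes,
    ¬ J ≤ Q → ¬ (HomogeneousIdeal.irrelevant 𝒜).toIdeal ≤ Q → zs[k] ∉ Q

theorem exists_good [IsNoetherianRing A] {J : Ideal A} (hJ : J.IsHomogeneous 𝒜)
    (hbase : ∃ n z, 0 < n ∧ z ∈ 𝒜 n ∧ z ∈ J) (P : Finset (Ideal A))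
    (hP : ∀ q ∈ P, q.IsPrime ∧ ¬ J ≤ q ∧ ¬ (HomogeneousIdeal.irrelevant 𝒜).toIdeal ≤ q) :
    ∀ h : ℕ, ∃ zs : List A, zs.length = h ∧
      (∀ z ∈ zs, (∃ n : ℕ, 0 < n ∧ z ∈ 𝒜 n) ∧ z ∈ J ∧ ∀ q ∈ P, z ∉ q) ∧ Good 𝒜 J zs := by
  classical
  intro h
  induction h with
  | zero => exact ⟨[], rfl, by simp, fun k hk => absurd hk (by simp)⟩
  | succ h IH =>
    obtain ⟨zs, hlen, hall, hgood⟩ := IH
    let S := ((Ideal.ofList zs).finite_minimalPrimes_of_isNoetherianRing A).toFinset.filter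
      fun Q => ¬ J ≤ Q ∧ ¬ (HomogeneousIdeal.irrelevant 𝒜).toIdeal ≤ Q
    obtain ⟨n, z, hn, hz, hzJ, hav⟩ := exists_avoid 𝒜 hJ hbase (P ∪ S) (by
      intro q hq
      rcases Finset.mem_union.mp hq with hq | hq
      · exact hP q hq
      · rw [Finset.mem_filter, Set.Finite.mem_toFinset] at hq
        exact ⟨hq.1.1.1, hq.2.1, hq.2.2⟩)
    refine ⟨zs ++ [z], by simp [hlen], ?_, ?_⟩
    · intro a ha
      rcases List.mem_append.mp ha with ha | ha
      · exact hall a ha
      · rw [List.mem_singleton] at ha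
        subst ha
        exact ⟨⟨n, hn, hz⟩, hzJ, fun q hq => hav q (Finset.mem_union_left _ hq)⟩
    · intro k hk Q hQ h1 h2
      rw [List.length_append, List.length_singleton] at hk
      rw [List.take_append_of_le_length (by omega)] at hQ
      rcases Nat.lt_or_eq_of_le (Nat.le_of_lt_succ hk) with hk' | hk'
      · rw [List.getElem_append_left hk']
        exact hgood k hk' Q hQ h1 h2
      · subst hk'
        rw [List.take_length] at hQ
        simp only [List.getElem_concat_length]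
        exact hav Q (Finset.mem_union_right _ (Finset.mem_filter.mpr
          ⟨(Set.Finite.mem_toFinset _).mpr hQ, h1, h2⟩))

/-- Lower bound on the height. -/
theorem le_height {f : A} [IsNoetherianRing (HomogeneousLocalization.Away 𝒜 f)] {m : ℕ}
    (f_deg : f ∈ 𝒜 m) (hm : 0 < m) {J : Ideal A} {h : ℕ}
    (hJf : (h : ℕ∞) ≤ (W4c2ratsingkovacs.locIdeal 𝒜 J f).height) {zs : List A}
    (hz : ∀ z ∈ zs, ∃ d, z ∈ 𝒜 d) (hgood : Good 𝒜 J zs) :
    ∀ j : ℕ, j ≤ zs.length → j ≤ h → ∀ P : Ideal (HomogeneousLocalization.Away 𝒜 f), P.IsPrime →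
      W4c2ratsingkovacs.locIdeal 𝒜 (Ideal.ofList (zs.take j)) f ≤ P → (j : ℕ∞) ≤ P.height := by
  intro j
  induction j with
  | zero => intros; simp
  | succ j IH =>
    intro hjl hjh P hP hle
    set I := W4c2ratsingkovacs.locIdeal 𝒜 (Ideal.ofList (zs.take j)) f
    have hIP : I ≤ P := le_trans (locIdeal_mono (Ideal.span_mono fun a ha =>
      (List.take_prefix_take_left (Nat.le_succ j)).subset ha) f) hle
    haveI := hP
    obtain ⟨P', hP', hP'le⟩ := Ideal.exists_minimalPrimes_le hIP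
    haveI := hP'.1.1
    rcases hP'le.lt_or_eq with hlt | rfl
    · calc ((j + 1 : ℕ) : ℕ∞) = (j : ℕ∞) + 1 := by norm_cast
        _ ≤ P'.height + 1 := by
          gcongr
          exact IH (by omega) (by omega) P' hP'.1.1 hP'.1.2
        _ ≤ P.height := Ideal.height_add_one_le_of_lt_of_isPrime hlt
    obtain ⟨Q, hQ, hfQ, hPQ⟩ := exists_prime f_deg hm P' hP'.1.1
    have hjlt : j < zs.length := hjl
    have hIQ : Ideal.ofList (zs.take j) ≤ Q := Ideal.span_le.mpr fun a ha => by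
      obtain ⟨d, hd⟩ := hz a (List.take_subset _ _ ha)
      refine mem_of_elt_mem f_deg hd hQ hfQ (hPQ ▸ hIP ?_)
      exact elt_mem_locIdeal f_deg hm hd (Ideal.subset_span ha)
    haveI := hQ
    obtain ⟨Q', hQ', hQ'le⟩ := Ideal.exists_minimalPrimes_le hIQ
    have hfQ' : f ∉ Q' := fun hh => hfQ (hQ'le hh)
    have heq : W4c2ratsingkovacs.locIdeal 𝒜 Q' f = P' := by
      have hsub : W4c2ratsingkovacs.locIdeal 𝒜 Q' f ≤ P' := hPQ ▸ locIdeal_mono hQ'le f
      exact le_antisymm hsub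
        (hP'.2 ⟨isPrime_locIdeal hQ'.1.1 hfQ', locIdeal_mono hQ'.1.2 f⟩ hsub)
    obtain ⟨d, hd⟩ := hz zs[j] (List.getElem_mem hjlt)
    have hmem : zs[j] ∈ Q' := mem_of_elt_mem f_deg hd hQ'.1.1 hfQ' (by
      rw [heq]
      refine hle (elt_mem_locIdeal f_deg hm hd (Ideal.subset_span ?_))
      exact List.mem_take_iff_getElem.mpr ⟨j, by omega, rfl⟩)
    have hirr : ¬ (HomogeneousIdeal.irrelevant 𝒜).toIdeal ≤ Q' := fun hh =>
      hfQ' (hh (HomogeneousIdeal.mem_irrelevant_of_mem 𝒜 hm f_deg))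
    have hJQ : J ≤ Q' := by
      by_contra hJQ
      exact hgood j hjlt Q' hQ' hJQ hirr hmem
    calc ((j + 1 : ℕ) : ℕ∞) ≤ (h : ℕ∞) := by exact_mod_cast hjh
      _ ≤ (W4c2ratsingkovacs.locIdeal 𝒜 J f).height := hJf
      _ ≤ P'.height := Ideal.height_mono (heq ▸ locIdeal_mono hJQ f)

end Groth.Agent.S15723

namespace Groth.Agent.S15723

/-- Let A be a Noetherian commutative ring graded by the natural numbers, J a homogeneous ideal of
uniform geometric height h (the height of the homogeneous localization J_(f) in the degree-zero ring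
A_(f) is h for every homogeneous f of positive degree outside the radical of J), and q_1, ..., q_t
finitely many prime ideals none of which contains J or the irrelevant ideal A_+. Then there are
homogeneous elements z_1, ..., z_h of positive degree, lying in J and in no q_i, such that for every
homogeneous f of positive degree outside the radical of J and every 1 ≤ j ≤ h the ideal (z_1, ...,
z_j) has geometric height j with respect to f. (The published statement lets f range over all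
homogeneous elements outside the radical of J, degree 0 included; then it fails: in A = k[t][x] with
t of degree 0 and x of degree 1, the ideal J = (t) has geometric height 1 with respect to every
homogeneous f outside its radical, f = 1 included, while (z)_(1) = 0 has height 0 for every
homogeneous z of positive degree. This row takes f of positive degree, in the hypothesis and in the
conclusion.) -/
theorem result {R : Type u} {A : Type v} [CommRing R] [CommRing A]
    [Algebra R A] [IsNoetherianRing A] (𝒜 : ℕ → Submodule R A) [GradedRing 𝒜]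
    (J : Ideal A) (hJ : J.IsHomogeneous 𝒜) (h : ℕ) (hJh : W4c2ratsingkovacs.HasUniformGeomHeight 𝒜 J h)
    (P : Finset (Ideal A)) (hP : ∀ q ∈ P, q.IsPrime ∧ ¬ J ≤ q ∧ ¬ (HomogeneousIdeal.irrelevant 𝒜).toIdeal ≤ q) :
    ∃ zs : List A, zs.length = h ∧
      (∀ z ∈ zs, (∃ n : ℕ, 0 < n ∧ z ∈ 𝒜 n) ∧ z ∈ J ∧ ∀ q ∈ P, z ∉ q) ∧
      ∀ (f : A) (n : ℕ), 0 < n → f ∈ 𝒜 n → f ∉ J.radical →
        ∀ j : ℕ, 1 ≤ j → j ≤ h → W4c2ratsingkovacs.geomHeight 𝒜 (Ideal.ofList (zs.take j)) f = j := by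
  classical
  by_cases hh : h = 0
  · exact ⟨[], hh.symm, by simp, fun f n _ _ _ j hj1 hj2 => by omega⟩
  -- a homogeneous element of positive degree in `J`
  by_cases hbase : ∃ n z, 0 < n ∧ z ∈ 𝒜 n ∧ z ∈ J
  swap
  · push Not at hbase
    by_cases hf : ∃ f n, 0 < n ∧ f ∈ 𝒜 n ∧ f ∉ J.radical
    · exfalso
      obtain ⟨f, n, hn, hfn, hfJ⟩ := hf
      have hJf : W4c2ratsingkovacs.locIdeal 𝒜 J f = W4c2ratsingkovacs.locIdeal 𝒜 ⊥ f := by
        refine le_antisymm ?_ (locIdeal_mono bot_le f)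
        have hmap : J.map (algebraMap A (Localization.Away f)) = ⊥ := by
          rw [Ideal.map_eq_bot_iff_le_ker]
          intro a ha
          rw [RingHom.mem_ker, ← DirectSum.sum_support_decompose 𝒜 a, map_sum]
          refine Finset.sum_eq_zero fun i _ => ?_
          have h0 : f * (DirectSum.decompose 𝒜 a i : A) = 0 := by
            by_contra hne
            exact hbase (n + i) _ (by omega) (SetLike.mul_mem_graded hfn (SetLike.coe_mem _))
              (J.mul_mem_left f (hJ i ha))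
          have hu : IsUnit (algebraMap A (Localization.Away f) f) :=
            IsLocalization.Away.algebraMap_isUnit f
          exact (hu.mul_right_eq_zero).mp (by rw [← map_mul, h0, map_zero])
        rw [W4c2ratsingkovacs.locIdeal, hmap, W4c2ratsingkovacs.locIdeal, Ideal.map_bot]
      have h1 := hJh f n hn hfn hfJ
      haveI : IsNoetherianRing (HomogeneousLocalization.Away 𝒜 f) := by
        obtain ⟨h0, hft⟩ := (Groth.Agent.H11Proj.isNoetherianRing_iff 𝒜).1 ‹_›
        have := HomogeneousLocalization.Away.finiteType (𝒜 := 𝒜) f n hfn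
        exact Algebra.FiniteType.isNoetherianRing (𝒜 0) (HomogeneousLocalization.Away 𝒜 f)
      rw [W4c2ratsingkovacs.geomHeight, hJf] at h1
      have h2 : W4c2ratsingkovacs.locIdeal 𝒜 (Ideal.ofList ([] : List A)) f ≠ ⊤ := by
        rw [Ideal.ofList_nil]
        intro htop
        rw [htop, Ideal.height_top] at h1
        exact ENat.coe_ne_top h h1.symm
      have h3 := height_le_length (f := f) hfn hn [] (by simp) h2
      rw [Ideal.ofList_nil, h1, List.length_nil] at h3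
      exact hh (by exact_mod_cast nonpos_iff_eq_zero.mp h3)
    · push Not at hf
      refine ⟨List.replicate h 0, by simp, ?_, fun f n hn hfn hfJ => absurd (hf f n hn hfn) hfJ⟩
      intro z hz
      rw [List.eq_of_mem_replicate hz]
      refine ⟨⟨1, one_pos, (𝒜 1).zero_mem⟩, J.zero_mem, fun q hq hq0 => ?_⟩
      obtain ⟨hqp, hqJ, hqA⟩ := hP q hq
      -- every positive-degree element is nilpotent modulo `J`, and `J` is killed by `A₊`
      obtain ⟨m, a, hm, ha, haq⟩ := exists_pos_homogeneous_notMem 𝒜 hqA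
      obtain ⟨d, c, hc, hcJ, hcq⟩ := exists_homogeneous_notMem 𝒜 hJ hqJ
      exact hbase (m + d) (a * c) (by omega) (SetLike.mul_mem_graded ha hc) (J.mul_mem_left a hcJ)
  obtain ⟨zs, hlen, hall, hgood⟩ := exists_good hJ hbase P hP h
  refine ⟨zs, hlen, hall, fun f n hn hfn hfJ j hj1 hj2 => ?_⟩
  haveI : IsNoetherianRing (HomogeneousLocalization.Away 𝒜 f) := by
    obtain ⟨h0, hft⟩ := (Groth.Agent.H11Proj.isNoetherianRing_iff 𝒜).1 ‹_›
    have := HomogeneousLocalization.Away.finiteType (𝒜 := 𝒜) f n hfn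
    exact Algebra.FiniteType.isNoetherianRing (𝒜 0) (HomogeneousLocalization.Away 𝒜 f)
  have hJf : (W4c2ratsingkovacs.locIdeal 𝒜 J f).height = h := hJh f n hn hfn hfJ
  have hdeg : ∀ z ∈ zs, ∃ d, z ∈ 𝒜 d := fun z hz =>
    let ⟨d, _, hd⟩ := (hall z hz).1
    ⟨d, hd⟩
  have hle : Ideal.ofList (zs.take j) ≤ J := Ideal.span_le.mpr fun a ha =>
    (hall a (List.take_subset _ _ ha)).2.1
  have hne : W4c2ratsingkovacs.locIdeal 𝒜 (Ideal.ofList (zs.take j)) f ≠ ⊤ := fun htop => by
    have hmono := locIdeal_mono (𝒜 := 𝒜) hle f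
    rw [htop, top_le_iff] at hmono
    rw [hmono, Ideal.height_top] at hJf
    exact ENat.coe_ne_top h hJf.symm
  refine le_antisymm ?_ ?_
  · refine (height_le_length hfn hn _ (fun z hz => hdeg z (List.take_subset _ _ hz)) hne).trans ?_
    simp
  · rw [W4c2ratsingkovacs.geomHeight, Ideal.height_eq_inf_minimalPrimes]
    refine le_iInf₂ fun P hPmem => ?_
    exact le_height hfn hn hJf.ge hdeg hgood j (by omega) hj2 P hPmem.1.1 hPmem.1.2

end Groth.Agent.S15723
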