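import Groth.Statements.S15724
import Groth.Agent.H25InvHilb.Poly

set_option autoImplicit false
universe u
open W4c2invhilbsl2

namespace Groth.Agent.S15724

/-- Grade the polynomial ring k[X₀,…,X₄] over a field k by ℤ × ℤ/m, giving X₀ weight (1,0), X₁ and X₂
weight (−p,−1), and X₃ and X₄ weight (q,1), where 0 < p < q are coprime integers and m ≥ 1, and let
P be the principal ideal generated by the weight-zero element X₀^(q−p) − X₁X₄ + X₂X₃ (the equation
of an affine hypersurface). Then every polynomial homogeneous of the weight of X₁ is congruent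
modulo P to some a·X₁ + b·X₂ with a and b homogeneous of weight zero, and every polynomial
homogeneous of the weight of X₃ is congruent modulo P to some a·X₃ + b·X₄ with a and b homogeneous
of weight zero. Equivalently, in the coordinate ring of the hypersurface the weight pieces of the
weights of X₁ and of X₃ are generated over the weight-zero subring (the ring of invariants of the
diagonal action of a one-dimensional torus times the group of m-th roots of unity with these
weights) by X₁, X₂ and by X₃, X₄ respectively. (For the weight of X₁ the congruence is already an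
equality in the polynomial ring; for the weight of X₃ the hypersurface equation is needed, e.g.
X₀^(q+p)X₁ has that weight when m divides 2.) -/
theorem result (k : Type u) [Field k] (p q m : ℕ) (hp : 0 < p) (hpq : p < q) (hcop : Nat.Coprime p q) (hm : 0 < m) (f : MvPolynomial (Fin 5) k) :
    (f ∈ MvPolynomial.weightedHomogeneousSubmodule k (W4c2invhilbsl2.wt5 p q m) (W4c2invhilbsl2.wt5 p q m 1) →
      ∃ a b : MvPolynomial (Fin 5) k, a ∈ MvPolynomial.weightedHomogeneousSubmodule k (W4c2invhilbsl2.wt5 p q m) 0 ∧ b ∈ MvPolynomial.weightedHomogeneousSubmodule k (W4c2invhilbsl2.wt5 p q m) 0 ∧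
        f - (a * MvPolynomial.X (1 : Fin 5) + b * MvPolynomial.X (2 : Fin 5)) ∈ Ideal.span {MvPolynomial.X (0 : Fin 5) ^ (q - p) - MvPolynomial.X 1 * MvPolynomial.X 4 + MvPolynomial.X 2 * MvPolynomial.X 3}) ∧
    (f ∈ MvPolynomial.weightedHomogeneousSubmodule k (W4c2invhilbsl2.wt5 p q m) (W4c2invhilbsl2.wt5 p q m 3) →
      ∃ a b : MvPolynomial (Fin 5) k, a ∈ MvPolynomial.weightedHomogeneousSubmodule k (W4c2invhilbsl2.wt5 p q m) 0 ∧ b ∈ MvPolynomial.weightedHomogeneousSubmodule k (W4c2invhilbsl2.wt5 p q m) 0 ∧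
        f - (a * MvPolynomial.X (3 : Fin 5) + b * MvPolynomial.X (4 : Fin 5)) ∈ Ideal.span {MvPolynomial.X (0 : Fin 5) ^ (q - p) - MvPolynomial.X 1 * MvPolynomial.X 4 + MvPolynomial.X 2 * MvPolynomial.X 3}) := by
  open MvPolynomial H25InvHilb in
  have hR : (X (0 : Fin 5) ^ (q - p) - X 1 * X 4 + X 2 * X 3 : MvPolynomial (Fin 5) k) ∈
      Ideal.span {X (0 : Fin 5) ^ (q - p) - X 1 * X 4 + X 2 * X 3} := Ideal.subset_span rfl
  open MvPolynomial H25InvHilb in
  have hw : ∀ (i : Fin 5) (d : Fin 5 →₀ ℕ), d = Finsupp.single i 1 →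
      Finsupp.weight (W4c2invhilbsl2.wt5 p q m) d = W4c2invhilbsl2.wt5 p q m i :=
    fun i d hd => by subst hd; simp [Finsupp.weight_apply]
  open MvPolynomial H25InvHilb in
  have hX : ∀ i : Fin 5, X i ∈ weightedHomogeneousSubmodule k (W4c2invhilbsl2.wt5 p q m)
      (W4c2invhilbsl2.wt5 p q m i) := fun i => by
    rw [mem_weightedHomogeneousSubmodule]; exact isWeightedHomogeneous_X _ _ _
  constructor
  · intro hf
    open MvPolynomial H25InvHilb in
    obtain ⟨a, ha, hfa⟩ := exists_decomp (W4c2invhilbsl2.wt5 p q m) _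
      ![v5 0 1 0 0 0, v5 0 0 1 0 0]
      (fun j => by
        fin_cases j
        · exact hw 1 _ (by ext i; fin_cases i <;> simp)
        · exact (hw 2 _ (by ext i; fin_cases i <;> simp)).trans (by simp [W4c2invhilbsl2.wt5])) f hf
      (fun d hd => by
        have h := (weight5 d).symm.trans (hf (mem_support_iff.mp hd))
        simp [W4c2invhilbsl2.wt5] at h
        by_cases hd1 : 1 ≤ d 1
        · exact ⟨0, v5_le (Nat.zero_le _) hd1 (Nat.zero_le _) (Nat.zero_le _) (Nat.zero_le _)⟩
        refine ⟨1, v5_le (Nat.zero_le _) (Nat.zero_le _) ?_ (Nat.zero_le _) (Nat.zero_le _)⟩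
        by_contra hd2
        have e1 : d 1 = 0 := by omega
        have e2 : d 2 = 0 := by omega
        simp [e1, e2] at h
        have : (0 : ℤ) ≤ (q : ℤ) * ((d 3 : ℤ) + d 4) := by positivity
        omega)
    refine ⟨a 0, a 1, ha 0, ha 1, ?_⟩
    rw [hfa, Fin.sum_univ_two, H25InvHilb.monomial_fin5, H25InvHilb.monomial_fin5]
    simp
  · intro hf
    open MvPolynomial H25InvHilb in
    obtain ⟨a, ha, hfa⟩ := exists_decomp' (W4c2invhilbsl2.wt5 p q m) _
      ![v5 0 0 0 1 0, v5 0 0 0 0 1, v5 (q - p) 0 0 0 0] ![0, 0, ((p : ℤ), (1 : ZMod m))]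
      (fun j => by
        fin_cases j
        · exact (zero_add _).trans (hw 3 _ (by ext i; fin_cases i <;> simp))
        · exact (zero_add _).trans
            ((hw 4 _ (by ext i; fin_cases i <;> simp)).trans (by simp [W4c2invhilbsl2.wt5]))
        · refine Eq.trans (congrArg (_ + ·) (weight5 _)) ?_
          simp [W4c2invhilbsl2.wt5, Nat.cast_sub hpq.le]) f hf
      (fun d hd => by
        have h := (weight5 d).symm.trans (hf (mem_support_iff.mp hd))
        simp [W4c2invhilbsl2.wt5] at h
        by_cases hd3 : 1 ≤ d 3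
        · exact ⟨0, v5_le (Nat.zero_le _) (Nat.zero_le _) (Nat.zero_le _) hd3 (Nat.zero_le _)⟩
        by_cases hd4 : 1 ≤ d 4
        · exact ⟨1, v5_le (Nat.zero_le _) (Nat.zero_le _) (Nat.zero_le _) (Nat.zero_le _) hd4⟩
        refine ⟨2, v5_le ?_ (Nat.zero_le _) (Nat.zero_le _) (Nat.zero_le _) (Nat.zero_le _)⟩
        have e3 : d 3 = 0 := by omega
        have e4 : d 4 = 0 := by omega
        simp [e3, e4] at h
        have : (0 : ℤ) ≤ (p : ℤ) * ((d 1 : ℤ) + d 2) := by positivity
        omega)
    open MvPolynomial in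
    refine ⟨a 0 - a 2 * X (2 : Fin 5), a 1 + a 2 * X (1 : Fin 5), ?_, ?_, ?_⟩
    · refine Submodule.sub_mem _ (ha 0) ?_
      rw [show (0 : ℤ × ZMod m) = ((p : ℤ), (1 : ZMod m)) + W4c2invhilbsl2.wt5 p q m 2 by
        simp [W4c2invhilbsl2.wt5] <;> rfl]
      exact MvPolynomial.IsWeightedHomogeneous.mul (ha 2) (hX 2)
    · refine Submodule.add_mem _ (ha 1) ?_
      rw [show (0 : ℤ × ZMod m) = ((p : ℤ), (1 : ZMod m)) + W4c2invhilbsl2.wt5 p q m 1 by
        simp [W4c2invhilbsl2.wt5] <;> rfl]
      exact MvPolynomial.IsWeightedHomogeneous.mul (ha 2) (hX 1)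
    · rw [hfa, Fin.sum_univ_three, H25InvHilb.monomial_fin5, H25InvHilb.monomial_fin5,
        H25InvHilb.monomial_fin5]
      convert Ideal.mul_mem_left _ (a 2) hR using 1
      simp
      ring

end Groth.Agent.S15724
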