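import Groth.Statements.S15725
import Groth.Agent.H25InvHilb.Poly

set_option autoImplicit false
universe u
open W4c2invhilbsl2

namespace Groth.Agent.S15725

/-- Grade the polynomial ring k[X₀,X₁,X₂] over a field k by ℤ × ℤ/m, giving X₀ weight (1,0), X₁ weight
(−p,−1) and X₂ weight (q,1), where 0 < p < q are coprime integers and m ≥ 1 (this three-variable
ring stands for the subring k[X₀,X₁,Xⱼ], j = 3 or 4, of the five-variable ring with the same
weights). Then every polynomial homogeneous of weight (q−p, 0) can be written a·X₀^(q−p) + b·X₁X₂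
with a and b homogeneous of weight zero; in other words the weight-(q−p, 0) piece is generated by
X₀^(q−p) and X₁X₂ as a module over the weight-zero subring. -/
theorem result (k : Type u) [Field k] (p q m : ℕ) (hp : 0 < p) (hpq : p < q) (hcop : Nat.Coprime p q) (hm : 0 < m) (f : MvPolynomial (Fin 3) k)
    (hf : f ∈ MvPolynomial.weightedHomogeneousSubmodule k (W4c2invhilbsl2.wt3 p q m) ((q : ℤ) - (p : ℤ), (0 : ZMod m))) :
    ∃ a b : MvPolynomial (Fin 3) k, a ∈ MvPolynomial.weightedHomogeneousSubmodule k (W4c2invhilbsl2.wt3 p q m) 0 ∧ b ∈ MvPolynomial.weightedHomogeneousSubmodule k (W4c2invhilbsl2.wt3 p q m) 0 ∧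
      f = a * MvPolynomial.X (0 : Fin 3) ^ (q - p) + b * (MvPolynomial.X (1 : Fin 3) * MvPolynomial.X (2 : Fin 3)) := by
  open MvPolynomial H25InvHilb in
  obtain ⟨a, ha, hfa⟩ := exists_decomp (W4c2invhilbsl2.wt3 p q m) _
    ![v3 (q - p) 0 0, v3 0 1 1]
    (fun j => by
      fin_cases j
      · exact weight3_eq_pair.mpr ⟨by simp [Nat.cast_sub hpq.le], 0, by simp⟩
      · exact weight3_eq_pair.mpr ⟨by simp; ring, 0, by simp⟩) f hf
    (fun d hd => by
      obtain ⟨h1, x, h2⟩ := weight3_eq_pair.mp (hf (mem_support_iff.mp hd))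
      by_cases hd0 : q - p ≤ d 0
      · exact ⟨0, v3_le hd0 (Nat.zero_le _) (Nat.zero_le _)⟩
      refine ⟨1, v3_le (Nat.zero_le _) ?_ ?_⟩
      · by_contra hd1
        have e1 : d 1 = 0 := by omega
        rw [e1] at h1
        simp at h1
        rcases Nat.eq_zero_or_pos (d 2) with e2 | e2
        · simp [e2] at h1; omega
        · have : (q : ℤ) * 1 ≤ (q : ℤ) * d 2 :=
            mul_le_mul_of_nonneg_left (by omega) (by positivity)
          omega
      · by_contra hd2
        have e2 : d 2 = 0 := by omega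
        rw [e2] at h1
        simp at h1
        have : (0 : ℤ) ≤ (p : ℤ) * d 1 := by positivity
        omega)
  refine ⟨a 0, a 1, ha 0, ha 1, ?_⟩
  rw [hfa, Fin.sum_univ_two, H25InvHilb.monomial_fin3, H25InvHilb.monomial_fin3]
  simp

end Groth.Agent.S15725
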