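import Groth.Statements.S15726
import Groth.Agent.H25InvHilb.Poly

set_option autoImplicit false
universe u
open W4c2invhilbsl2

namespace Groth.Agent.S15726

/-- Grade the polynomial ring k[X₀,…,X₄] over a field k by ℤ × ℤ/m, giving X₀ weight (1,0), X₁ and X₂
weight (−p,−1), and X₃ and X₄ weight (q,1), where 0 < p < q are coprime integers and m ≥ 1. Then
modulo the principal ideal generated by the weight-zero element X₀^(q−p) − X₁X₄ + X₂X₃ (the equation
of an affine hypersurface), every polynomial homogeneous of weight (q−p, 0) is congruent to a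
combination a₁₃X₁X₃ + a₁₄X₁X₄ + a₂₃X₂X₃ + a₂₄X₂X₄ whose four coefficients are homogeneous of weight
zero. Equivalently, in the coordinate ring of the hypersurface the weight-(q−p, 0) piece is
generated over the weight-zero subring (the invariant ring of the diagonal action with these
weights) by the span of the four products XₐX_b with a ∈ {1,2} and b ∈ {3,4}. (The published
statement is over the complex numbers; this row takes any field.) -/
theorem result (k : Type u) [Field k] (p q m : ℕ) (hp : 0 < p) (hpq : p < q) (hcop : Nat.Coprime p q) (hm : 0 < m) (f : MvPolynomial (Fin 5) k)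
    (hf : f ∈ MvPolynomial.weightedHomogeneousSubmodule k (W4c2invhilbsl2.wt5 p q m) ((q : ℤ) - (p : ℤ), (0 : ZMod m))) :
    ∃ a₁₃ a₁₄ a₂₃ a₂₄ : MvPolynomial (Fin 5) k,
      a₁₃ ∈ MvPolynomial.weightedHomogeneousSubmodule k (W4c2invhilbsl2.wt5 p q m) 0 ∧ a₁₄ ∈ MvPolynomial.weightedHomogeneousSubmodule k (W4c2invhilbsl2.wt5 p q m) 0 ∧ a₂₃ ∈ MvPolynomial.weightedHomogeneousSubmodule k (W4c2invhilbsl2.wt5 p q m) 0 ∧ a₂₄ ∈ MvPolynomial.weightedHomogeneousSubmodule k (W4c2invhilbsl2.wt5 p q m) 0 ∧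
      f - (a₁₃ * (MvPolynomial.X (1 : Fin 5) * MvPolynomial.X 3) + a₁₄ * (MvPolynomial.X (1 : Fin 5) * MvPolynomial.X 4) +
          a₂₃ * (MvPolynomial.X (2 : Fin 5) * MvPolynomial.X 3) + a₂₄ * (MvPolynomial.X (2 : Fin 5) * MvPolynomial.X 4)) ∈
        Ideal.span {MvPolynomial.X (0 : Fin 5) ^ (q - p) - MvPolynomial.X 1 * MvPolynomial.X 4 + MvPolynomial.X 2 * MvPolynomial.X 3} := by
  open MvPolynomial H25InvHilb in
  have hR : (X (0 : Fin 5) ^ (q - p) - X 1 * X 4 + X 2 * X 3 : MvPolynomial (Fin 5) k) ∈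
      Ideal.span {X (0 : Fin 5) ^ (q - p) - X 1 * X 4 + X 2 * X 3} := Ideal.subset_span rfl
  open MvPolynomial H25InvHilb in
  obtain ⟨a, ha, hfa⟩ := exists_decomp (W4c2invhilbsl2.wt5 p q m) _
    ![v5 0 1 0 1 0, v5 0 1 0 0 1, v5 0 0 1 1 0, v5 0 0 1 0 1, v5 (q - p) 0 0 0 0]
    (fun j => by
      fin_cases j
      all_goals exact weight5_eq_pair.mpr ⟨by simp [Nat.cast_sub hpq.le] <;> ring, 0, by simp⟩)
    f hf
    (fun d hd => by
      obtain ⟨h1, x, h2⟩ := weight5_eq_pair.mp (hf (mem_support_iff.mp hd))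
      by_cases hd0 : q - p ≤ d 0
      · exact ⟨4, v5_le hd0 (Nat.zero_le _) (Nat.zero_le _) (Nat.zero_le _) (Nat.zero_le _)⟩
      have hA : 1 ≤ d 1 + d 2 := by
        by_contra hc
        have e1 : d 1 + d 2 = 0 := by omega
        rw [e1] at h1
        rcases Nat.eq_zero_or_pos (d 3 + d 4) with e2 | e2
        · rw [e2] at h1; simp at h1; omega
        · have : (q : ℤ) * 1 ≤ (q : ℤ) * ((d 3 + d 4 : ℕ) : ℤ) :=
            mul_le_mul_of_nonneg_left (by omega) (by positivity)
          simp at h1 this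
          omega
      have hB : 1 ≤ d 3 + d 4 := by
        by_contra hc
        have e1 : d 3 + d 4 = 0 := by omega
        rw [e1] at h1
        have : (0 : ℤ) ≤ (p : ℤ) * ((d 1 + d 2 : ℕ) : ℤ) := by positivity
        simp at h1 this
        omega
      by_cases hd1 : 1 ≤ d 1 <;> by_cases hd3 : 1 ≤ d 3
      · exact ⟨0, v5_le (Nat.zero_le _) hd1 (Nat.zero_le _) hd3 (Nat.zero_le _)⟩
      · exact ⟨1, v5_le (Nat.zero_le _) hd1 (Nat.zero_le _) (Nat.zero_le _) (by omega)⟩
      · exact ⟨2, v5_le (Nat.zero_le _) (Nat.zero_le _) (by omega) hd3 (Nat.zero_le _)⟩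
      · exact ⟨3, v5_le (Nat.zero_le _) (Nat.zero_le _) (by omega) (Nat.zero_le _) (by omega)⟩)
  refine ⟨a 0, a 1 + a 4, a 2 - a 4, a 3, ha 0, Submodule.add_mem _ (ha 1) (ha 4),
    Submodule.sub_mem _ (ha 2) (ha 4), ha 3, ?_⟩
  rw [hfa, Fin.sum_univ_five, H25InvHilb.monomial_fin5, H25InvHilb.monomial_fin5,
    H25InvHilb.monomial_fin5, H25InvHilb.monomial_fin5, H25InvHilb.monomial_fin5]
  convert Ideal.mul_mem_left _ (a 4) hR using 1
  simp
  ring

end Groth.Agent.S15726
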