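import Groth.Statements.S15727
import Groth.Agent.H25InvHilb.Poly

set_option autoImplicit false
universe u
open W4c2invhilbsl2

namespace Groth.Agent.S15727

/-- Let k be an algebraically closed field, 0 < p < q coprime integers and m ≥ 1, and grade k[X₀,…,X₄]
by ℤ × ℤ/m, giving X₀ weight (1,0), X₁ and X₂ weight (−p,−1), and X₃ and X₄ weight (q,1). For s ∈ k
let I_s be the ideal (X₀^(q−p) − X₁X₄, X₂, X₃, s − X₀^(mp)X₁^m), whose generators are homogeneous
(the last one of weight zero). Then for every weight ν the image in k[X₀,…,X₄]/I_s of the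
homogeneous polynomials of weight ν is a k-vector space of dimension at most 1. (The published
statement asserts that this dimension equals 1 for every ν and every s, namely that the quotient has
the Hilbert function of the regular representation of the grading group; this row states the upper
bound, the half obtained from the monomial analysis of the weight pieces, while the lower bound
there is drawn from the moduli interpretation of these ideals. The published statement is over the
complex numbers; this row takes any algebraically closed field, which is what the reduction to s =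
0, 1 by rescaling the variables uses.) -/
theorem result (k : Type u) [Field k] [IsAlgClosed k] (p q m : ℕ) (hp : 0 < p) (hpq : p < q) (hcop : Nat.Coprime p q) (hm : 0 < m) (s : k) (ν : ℤ × ZMod m) :
    Module.rank k (W4c2invhilbsl2.piece k (W4c2invhilbsl2.wt5 p q m) (W4c2invhilbsl2.idealI k p q m s) ν) ≤ 1 := by
  refine H25InvHilb.rank_piece_le_one _ _ _ fun d e hd he => ?_
  set π := Ideal.Quotient.mk (W4c2invhilbsl2.idealI k p q m s) with hπ
  set x : Fin 5 → _ := fun j => π (MvPolynomial.X j) with hx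
  have hmem : ∀ g ∈ ({MvPolynomial.X 0 ^ (q - p) - MvPolynomial.X 1 * MvPolynomial.X 4,
      MvPolynomial.X 2, MvPolynomial.X 3,
      MvPolynomial.C s - MvPolynomial.X 0 ^ (m * p) * MvPolynomial.X 1 ^ m} :
        Set (MvPolynomial (Fin 5) k)), π g = 0 := fun g hg =>
    Ideal.Quotient.eq_zero_iff_mem.mpr (Ideal.subset_span hg)
  have r1 : x 0 ^ (q - p) = x 1 * x 4 := by
    have := hmem _ (Set.mem_insert _ _)
    rwa [map_sub, map_pow, map_mul, sub_eq_zero] at this
  have r2 : x 2 = 0 := hmem _ (by simp)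
  have r3 : x 3 = 0 := hmem _ (by simp)
  have r4 : x 0 ^ (m * p) * x 1 ^ m = π (MvPolynomial.C s) := by
    have := hmem (MvPolynomial.C s - MvPolynomial.X 0 ^ (m * p) * MvPolynomial.X 1 ^ m) (by simp)
    rw [map_sub, map_mul, map_pow, map_pow, sub_eq_zero] at this
    exact this.symm
  have hmono : ∀ f : Fin 5 →₀ ℕ, π (MvPolynomial.monomial f (1 : k)) =
      x 0 ^ f 0 * x 1 ^ f 1 * x 2 ^ f 2 * x 3 ^ f 3 * x 4 ^ f 4 := fun f => by
    rw [H25InvHilb.monomial_fin5, map_mul, map_mul, map_mul, map_mul, map_pow, map_pow, map_pow,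
      map_pow, map_pow]
  by_cases hd23 : d 2 ≠ 0 ∨ d 3 ≠ 0
  · left
    rw [hmono, r2, r3]
    rcases hd23 with h | h <;> simp [zero_pow h]
  by_cases he23 : e 2 ≠ 0 ∨ e 3 ≠ 0
  · right; left
    rw [hmono, r2, r3]
    rcases he23 with h | h <;> simp [zero_pow h]
  push Not at hd23 he23
  right; right
  have key : ∀ u v : Fin 5 →₀ ℕ, u 2 = 0 → u 3 = 0 → v 2 = 0 → v 3 = 0 →
      ∀ a : ℤ, ∀ b : ℕ, (u 0 : ℤ) = v 0 - ((q : ℤ) - p) * a + (m : ℤ) * p * b →
      (u 1 : ℤ) = v 1 + a + (m : ℤ) * b → (u 4 : ℤ) = v 4 + a →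
      π (MvPolynomial.monomial u (1 : k)) = (s ^ b) • π (MvPolynomial.monomial v (1 : k)) := by
    intro u v hu2 hu3 hv2 hv3 a b h0 h1 h4
    have hsm : (s ^ b) • π (MvPolynomial.monomial v (1 : k)) =
        (x 0 ^ (m * p) * x 1 ^ m) ^ b * π (MvPolynomial.monomial v (1 : k)) := by
      rw [r4, ← map_pow, ← map_pow, ← map_mul, MvPolynomial.C_mul']
      rfl
    rw [hsm, hmono, hmono, hu2, hu3, hv2, hv3]
    simp only [pow_zero, mul_one, mul_pow, ← pow_mul]
    rcases le_or_gt 0 a with ha | ha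
    · obtain ⟨a', rfl⟩ := Int.eq_ofNat_of_zero_le ha
      have e1 : u 1 = a' + (v 1 + m * b) := by zify; linarith
      have e4 : u 4 = a' + v 4 := by zify; linarith
      have e0 : u 0 + (q - p) * a' = m * p * b + v 0 := by
        have : (((u 0 + (q - p) * a' : ℕ)) : ℤ) = ((m * p * b + v 0 : ℕ) : ℤ) := by
          push_cast [Nat.cast_sub hpq.le]; linarith
        exact_mod_cast this
      calc x 0 ^ u 0 * x 1 ^ u 1 * x 4 ^ u 4
          = x 0 ^ u 0 * (x 1 * x 4) ^ a' * x 1 ^ (v 1 + m * b) * x 4 ^ v 4 := by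
            rw [e1, e4]; ring
        _ = x 0 ^ (u 0 + (q - p) * a') * x 1 ^ (v 1 + m * b) * x 4 ^ v 4 := by
            rw [← r1, ← pow_mul, ← pow_add]
        _ = _ := by rw [e0]; ring
    · obtain ⟨a', ha'⟩ := Int.eq_ofNat_of_zero_le (show (0 : ℤ) ≤ -a by omega)
      obtain rfl : a = -(a' : ℤ) := by omega
      have e1 : u 1 + a' = v 1 + m * b := by zify; linarith
      have e4 : u 4 + a' = v 4 := by zify; linarith
      have e0 : u 0 = v 0 + m * p * b + (q - p) * a' := by
        have : ((u 0 : ℕ) : ℤ) = ((v 0 + m * p * b + (q - p) * a' : ℕ) : ℤ) := by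
          push_cast [Nat.cast_sub hpq.le]; linarith
        exact_mod_cast this
      calc x 0 ^ u 0 * x 1 ^ u 1 * x 4 ^ u 4
          = x 0 ^ (v 0 + m * p * b) * (x 0 ^ (q - p)) ^ a' * x 1 ^ u 1 * x 4 ^ u 4 := by
            rw [e0, ← pow_mul, ← pow_add]
        _ = x 0 ^ (v 0 + m * p * b) * x 1 ^ (u 1 + a') * x 4 ^ (u 4 + a') := by
            rw [r1]; ring
        _ = _ := by rw [e1, e4]; ring
  obtain ⟨h1, y, hy⟩ := H25InvHilb.weight5_eq_iff.mp (hd.trans he.symm)
  simp only [hd23.1, hd23.2, he23.1, he23.2, add_zero, zero_add] at h1 hy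
  rcases le_or_gt 0 y with hy0 | hy0
  · obtain ⟨b, rfl⟩ := Int.eq_ofNat_of_zero_le hy0
    refine Or.inl ⟨s ^ b, key d e hd23.1 hd23.2 he23.1 he23.2 ((d 4 : ℤ) - e 4) b ?_ ?_ ?_⟩
    · linear_combination h1 + (p : ℤ) * hy
    · linarith
    · ring
  · obtain ⟨b, hb⟩ := Int.eq_ofNat_of_zero_le (show (0 : ℤ) ≤ -y by omega)
    obtain rfl : y = -(b : ℤ) := by omega
    refine Or.inr ⟨s ^ b, key e d he23.1 he23.2 hd23.1 hd23.2 ((e 4 : ℤ) - d 4) b ?_ ?_ ?_⟩
    · linear_combination (-1 : ℤ) * h1 - (p : ℤ) * hy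
    · linarith
    · ring

end Groth.Agent.S15727
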