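import Groth.Statements.S15728
import Groth.Agent.H25InvHilb.Poly

set_option autoImplicit false
universe u
open W4c2invhilbsl2

namespace Groth.Agent.S15728

/-- Let k be an algebraically closed field, 0 < p < q coprime integers and m ≥ 1; put g = gcd(m, q−p)
and a = m/g, and grade k[X₀,…,X₄] by ℤ × ℤ/m, giving X₀ weight (1,0), X₁ and X₂ weight (−p,−1), and
X₃ and X₄ weight (q,1). For s ∈ k let J_s be the ideal (X₀^g, X₂, X₄, s − X₁^(aq)X₃^(ap)), whose
generators are homogeneous (the last one of weight zero). Then for every weight ν the image in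
k[X₀,…,X₄]/J_s of the homogeneous polynomials of weight ν is a k-vector space of dimension at most
1. (The published statement asserts that this dimension equals 1 for every ν and every s; this row
states the upper bound, the half obtained from the monomial analysis of the weight pieces, while the
lower bound there is drawn from the moduli interpretation of these ideals. The published statement
is over the complex numbers; this row takes any algebraically closed field, which is what the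
reduction to s = 0, 1 by rescaling the variables uses.) -/
theorem result (k : Type u) [Field k] [IsAlgClosed k] (p q m : ℕ) (hp : 0 < p) (hpq : p < q) (hcop : Nat.Coprime p q) (hm : 0 < m) (s : k) (ν : ℤ × ZMod m) :
    Module.rank k (W4c2invhilbsl2.piece k (W4c2invhilbsl2.wt5 p q m) (W4c2invhilbsl2.idealJ k p q m s) ν) ≤ 1 := by
  refine H25InvHilb.rank_piece_le_one _ _ _ fun d e hd he => ?_
  set π := Ideal.Quotient.mk (W4c2invhilbsl2.idealJ k p q m s) with hπ
  set x : Fin 5 → _ := fun j => π (MvPolynomial.X j) with hx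
  set g := Nat.gcd m (q - p) with hg
  have hmem : ∀ f ∈ ({MvPolynomial.X 0 ^ g, MvPolynomial.X 2, MvPolynomial.X 4,
      MvPolynomial.C s - MvPolynomial.X 1 ^ (m / g * q) * MvPolynomial.X 3 ^ (m / g * p)} :
        Set (MvPolynomial (Fin 5) k)), π f = 0 := fun f hf =>
    Ideal.Quotient.eq_zero_iff_mem.mpr (Ideal.subset_span hf)
  have r0 : x 0 ^ g = 0 := by
    have := hmem _ (Set.mem_insert _ _)
    rwa [map_pow] at this
  have r2 : x 2 = 0 := hmem _ (by simp)
  have r3 : x 4 = 0 := hmem _ (by simp)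
  have r4 : x 1 ^ (m / g * q) * x 3 ^ (m / g * p) = π (MvPolynomial.C s) := by
    have := hmem (MvPolynomial.C s - MvPolynomial.X 1 ^ (m / g * q) *
      MvPolynomial.X 3 ^ (m / g * p)) (by simp)
    rw [map_sub, map_mul, map_pow, map_pow, sub_eq_zero] at this
    exact this.symm
  have hmono : ∀ f : Fin 5 →₀ ℕ, π (MvPolynomial.monomial f (1 : k)) =
      x 0 ^ f 0 * x 1 ^ f 1 * x 2 ^ f 2 * x 3 ^ f 3 * x 4 ^ f 4 := fun f => by
    rw [H25InvHilb.monomial_fin5, map_mul, map_mul, map_mul, map_mul, map_pow, map_pow, map_pow,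
      map_pow, map_pow]
  by_cases hd24 : d 2 ≠ 0 ∨ d 4 ≠ 0 ∨ g ≤ d 0
  · left
    rw [hmono, r2, r3]
    rcases hd24 with h | h | h
    · simp [zero_pow h]
    · simp [zero_pow h]
    · simp [pow_eq_zero_of_le h r0]
  by_cases he24 : e 2 ≠ 0 ∨ e 4 ≠ 0 ∨ g ≤ e 0
  · right; left
    rw [hmono, r2, r3]
    rcases he24 with h | h | h
    · simp [zero_pow h]
    · simp [zero_pow h]
    · simp [pow_eq_zero_of_le h r0]
  push Not at hd24 he24
  right; right
  have key : ∀ u v : Fin 5 →₀ ℕ, u 2 = 0 → u 4 = 0 → v 2 = 0 → v 4 = 0 →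
      ∀ j : ℕ, u 0 = v 0 → u 1 = v 1 + m / g * q * j → u 3 = v 3 + m / g * p * j →
      π (MvPolynomial.monomial u (1 : k)) = (s ^ j) • π (MvPolynomial.monomial v (1 : k)) := by
    intro u v hu2 hu4 hv2 hv4 j h0 h1 h3
    have hsm : (s ^ j) • π (MvPolynomial.monomial v (1 : k)) =
        (x 1 ^ (m / g * q) * x 3 ^ (m / g * p)) ^ j * π (MvPolynomial.monomial v (1 : k)) := by
      rw [r4, ← map_pow, ← map_pow, ← map_mul, MvPolynomial.C_mul']
      rfl
    rw [hsm, hmono, hmono, hu2, hu4, hv2, hv4, h0, h1, h3]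
    ring
  obtain ⟨h1, y, hy⟩ := H25InvHilb.weight5_eq_iff.mp (hd.trans he.symm)
  simp only [hd24.1, hd24.2.1, he24.1, he24.2.1, add_zero, zero_add] at h1 hy
  have hgpos : 0 < g := Nat.gcd_pos_of_pos_left _ hm
  obtain ⟨A, hA⟩ : g ∣ m := Nat.gcd_dvd_left _ _
  obtain ⟨B, hB⟩ : g ∣ q - p := Nat.gcd_dvd_right _ _
  have hdiv : m / g = A := Nat.div_eq_of_eq_mul_right hgpos hA
  have hAB : Nat.Coprime A B := by
    have h := Nat.coprime_div_gcd_div_gcd (m := m) (n := q - p) hgpos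
    have hB' : (q - p) / g = B := Nat.div_eq_of_eq_mul_right hgpos hB
    rw [← hg] at h
    rwa [hdiv, hB'] at h
  have hq : (q : ℤ) - p = (g : ℤ) * B := by
    rw [← Nat.cast_mul, ← hB, Nat.cast_sub hpq.le]
  have hmA : (m : ℤ) = (g : ℤ) * A := by exact_mod_cast hA
  have h0 : (d 0 : ℤ) - e 0 = 0 := by
    have hdvd : (g : ℤ) ∣ (d 0 : ℤ) - e 0 := by
      refine ⟨-(B : ℤ) * ((d 3 : ℤ) - e 3) + (p : ℤ) * A * y, ?_⟩
      linear_combination h1 + (p : ℤ) * hy + (p : ℤ) * y * hmA - ((d 3 : ℤ) - e 3) * hq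
    exact Int.eq_zero_of_abs_lt_dvd hdvd (by rw [abs_lt]; omega)
  have hpd : (p : ℤ) * ((d 1 : ℤ) - e 1) = (q : ℤ) * ((d 3 : ℤ) - e 3) := by
    linear_combination (-1 : ℤ) * h1 + h0
  have hpq' : IsCoprime (p : ℤ) (q : ℤ) := Nat.isCoprime_iff_coprime.mpr hcop
  obtain ⟨c, hc⟩ : (q : ℤ) ∣ (d 1 : ℤ) - e 1 :=
    hpq'.symm.dvd_of_dvd_mul_left ⟨_, hpd⟩
  have hc3 : (d 3 : ℤ) - e 3 = (p : ℤ) * c := by
    rw [hc] at hpd
    exact (mul_left_cancel₀ (show (q : ℤ) ≠ 0 by omega) (by linarith)).symm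
  obtain ⟨j, hj⟩ : (A : ℤ) ∣ c := by
    have hdvd : (A : ℤ) ∣ (B : ℤ) * c := by
      refine ⟨y, mul_left_cancel₀ (show (g : ℤ) ≠ 0 by exact_mod_cast hgpos.ne') ?_⟩
      linear_combination hy - hc + hc3 - c * hq + y * hmA
    exact (Nat.isCoprime_iff_coprime.mpr hAB).dvd_of_dvd_mul_left hdvd
  subst hj
  rcases le_or_gt 0 j with hj0 | hj0
  · obtain ⟨j', rfl⟩ := Int.eq_ofNat_of_zero_le hj0
    refine Or.inl ⟨s ^ j', key d e hd24.1 hd24.2.1 he24.1 he24.2.1 j' (by omega) ?_ ?_⟩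
    · rw [hdiv]; zify; linarith
    · rw [hdiv]; zify; linarith
  · obtain ⟨j', hj'⟩ := Int.eq_ofNat_of_zero_le (show (0 : ℤ) ≤ -j by omega)
    obtain rfl : j = -(j' : ℤ) := by omega
    refine Or.inr ⟨s ^ j', key e d he24.1 he24.2.1 hd24.1 hd24.2.1 j' (by omega) ?_ ?_⟩
    · rw [hdiv]; zify; linarith
    · rw [hdiv]; zify; linarith

end Groth.Agent.S15728
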