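import Groth.Statements.S15729
import Groth.Agent.H25InvHilb.Poly

set_option autoImplicit false
universe u
open W4c2invhilbsl2

namespace Groth.Agent.S15729

/-- Let 0 < p < q be coprime integers and m ≥ 1 such that q − p does not divide m; put g = gcd(m, q−p),
b = (q−p)/g, α = ⌊mp/(q−p)⌋, β = the remainder of mp modulo q−p and t = (q−p−β)/g, so that 1 ≤ t <
b, and let b/t = c₁ − 1/(c₂ − 1/(⋯ − 1/c_r)) be the negative-regular (Hirzebruch–Jung) continued
fraction expansion with every cᵢ ≥ 2; set P₀ = 0, P₁ = 1, Q₀ = −1, Q₁ = 0, Pᵢ = cᵢ₋₁Pᵢ₋₁ − Pᵢ₋₂, Qᵢ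
= cᵢ₋₁Qᵢ₋₁ − Qᵢ₋₂ for 2 ≤ i ≤ r+1, and eᵢ = (α+1+m)Pᵢ − Qᵢ, lᵢ = (α+1)Pᵢ − Qᵢ, nᵢ = q·lᵢ − p·eᵢ,
which are non-negative integers for 0 ≤ i ≤ r+1. Grade the polynomial ring k[X₀,X₁,X₂] over a field
k by ℤ × ℤ/m with weights (1,0), (−p,−1), (q,1) (it stands for k[X₀,X₁,Xⱼ], j = 3 or 4, inside the
five-variable ring). Then for every 1 ≤ i ≤ r, every polynomial homogeneous of weight (nᵢ, 0) can be
written a·X₀^(nᵢ) + b·X₁^(eᵢ)X₂^(lᵢ) with a and b homogeneous of weight zero; that is, the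
weight-(nᵢ,0) piece is generated over the weight-zero subring by X₀^(nᵢ) and X₁^(eᵢ)X₂^(lᵢ). -/
theorem result (k : Type u) [Field k] (p q m : ℕ) (hp : 0 < p) (hpq : p < q) (hcop : Nat.Coprime p q) (hm : 0 < m) (hnt : ¬ (q - p ∣ m)) (c : List ℤ) (hc : W4c2invhilbsl2.IsHJDigits p q m c) (i : ℕ) (hi : 1 ≤ i) (hir : i ≤ c.length)
    (f : MvPolynomial (Fin 3) k) (hf : f ∈ MvPolynomial.weightedHomogeneousSubmodule k (W4c2invhilbsl2.wt3 p q m) (W4c2invhilbsl2.nN p q m c i, (0 : ZMod m))) :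
    ∃ a b : MvPolynomial (Fin 3) k, a ∈ MvPolynomial.weightedHomogeneousSubmodule k (W4c2invhilbsl2.wt3 p q m) 0 ∧ b ∈ MvPolynomial.weightedHomogeneousSubmodule k (W4c2invhilbsl2.wt3 p q m) 0 ∧
      f = a * MvPolynomial.X (0 : Fin 3) ^ (W4c2invhilbsl2.nN p q m c i).toNat +
        b * (MvPolynomial.X (1 : Fin 3) ^ (W4c2invhilbsl2.eE p q m c i).toNat * MvPolynomial.X (2 : Fin 3) ^ (W4c2invhilbsl2.lL p q m c i).toNat) := by
  have hn := H25InvHilb.nN_pos hpq hcop hm hnt hc hir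
  have he := H25InvHilb.eE_pos (p := p) (q := q) (m := m) hc (show i ≤ c.length + 1 by omega)
  have hl := H25InvHilb.lL_pos (p := p) (q := q) (m := m) hc (show i ≤ c.length + 1 by omega)
  have hel := H25InvHilb.eE_sub_lL (p := p) (q := q) (m := m) c i
  have hnN : W4c2invhilbsl2.nN p q m c i = -(p : ℤ) * W4c2invhilbsl2.eE p q m c i +
    (q : ℤ) * W4c2invhilbsl2.lL p q m c i := rfl
  open MvPolynomial H25InvHilb in
  obtain ⟨a, ha, hfa⟩ := exists_decomp (W4c2invhilbsl2.wt3 p q m) _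
    ![v3 (W4c2invhilbsl2.nN p q m c i).toNat 0 0,
      v3 0 (W4c2invhilbsl2.eE p q m c i).toNat (W4c2invhilbsl2.lL p q m c i).toNat]
    (fun j => by
      fin_cases j
      · exact weight3_eq_pair.mpr ⟨by simp; omega, 0, by simp⟩
      · exact weight3_eq_pair.mpr ⟨by
          simp [max_eq_left (show (0:ℤ) ≤ W4c2invhilbsl2.eE p q m c i by omega),
            max_eq_left (show (0:ℤ) ≤ W4c2invhilbsl2.lL p q m c i by omega)]
          linarith, W4c2invhilbsl2.hjP c i, by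
          simp [max_eq_left (show (0:ℤ) ≤ W4c2invhilbsl2.eE p q m c i by omega),
            max_eq_left (show (0:ℤ) ≤ W4c2invhilbsl2.lL p q m c i by omega)]
          linarith⟩) f hf
    (fun d hd => by
      obtain ⟨h1, x, h2⟩ := weight3_eq_pair.mp (hf (mem_support_iff.mp hd))
      rcases small_or_big hpq hcop hm hnt hc hi hir (d0 := (d 0 : ℤ)) (E := (d 1 : ℤ))
        (L := (d 2 : ℤ)) (by positivity) (by positivity) (by positivity) h2 h1 with h | ⟨g1, g2⟩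
      · exact ⟨0, v3_le (by omega) (Nat.zero_le _) (Nat.zero_le _)⟩
      · exact ⟨1, v3_le (Nat.zero_le _) (by omega) (by omega)⟩)
  refine ⟨a 0, a 1, ha 0, ha 1, ?_⟩
  rw [hfa, Fin.sum_univ_two, H25InvHilb.monomial_fin3, H25InvHilb.monomial_fin3]
  simp

end Groth.Agent.S15729
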