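import Groth.Statements.S15730
import Groth.Agent.H25InvHilb.Poly

set_option autoImplicit false
universe u
open W4c2invhilbsl2

namespace Groth.Agent.S15730

/-- Let 0 < p < q be coprime integers and m ≥ 1 such that q − p does not divide m; put g = gcd(m, q−p),
b = (q−p)/g, α = ⌊mp/(q−p)⌋, β = the remainder of mp modulo q−p and t = (q−p−β)/g, so that 1 ≤ t <
b, and let b/t = c₁ − 1/(c₂ − 1/(⋯ − 1/c_r)) be the negative-regular (Hirzebruch–Jung) continued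
fraction expansion with every cᵢ ≥ 2; set P₀ = 0, P₁ = 1, Q₀ = −1, Q₁ = 0, Pᵢ = cᵢ₋₁Pᵢ₋₁ − Pᵢ₋₂, Qᵢ
= cᵢ₋₁Qᵢ₋₁ − Qᵢ₋₂ for 2 ≤ i ≤ r+1, and eᵢ = (α+1+m)Pᵢ − Qᵢ, lᵢ = (α+1)Pᵢ − Qᵢ, nᵢ = q·lᵢ − p·eᵢ,
which are non-negative integers for 0 ≤ i ≤ r+1. Grade the polynomial ring k[X₀,X₁,X₂] over a field
k by ℤ × ℤ/m with weights (1,0), (−p,−1), (q,1) (it stands for k[X₀,X₁,Xⱼ], j = 3 or 4, inside the
five-variable ring), let K be the ideal generated by all weight-zero monomials other than 1, and for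
1 ≤ i ≤ r let L⁽ⁱ⁾₀ be the ideal (X₀^(nᵢ₋₁), X₁^(eᵢ)X₂^(lᵢ)) + K, which is generated by homogeneous
elements. Then for every weight ν the image in k[X₀,X₁,X₂]/L⁽ⁱ⁾₀ of the homogeneous polynomials of
weight ν is a k-vector space of dimension at most 1. (The published statement is over the complex
numbers and writes this ideal as (X₀^(nᵢ₋₁), s·X₀^(nᵢ) − X₁^(eᵢ)X₂^(lᵢ)) + K with s = 0; this row
takes any field.) -/
theorem result (k : Type u) [Field k] (p q m : ℕ) (hp : 0 < p) (hpq : p < q) (hcop : Nat.Coprime p q) (hm : 0 < m) (hnt : ¬ (q - p ∣ m)) (c : List ℤ) (hc : W4c2invhilbsl2.IsHJDigits p q m c) (i : ℕ) (hi : 1 ≤ i) (hir : i ≤ c.length)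
    (ν : ℤ × ZMod m) :
    Module.rank k (W4c2invhilbsl2.piece k (W4c2invhilbsl2.wt3 p q m) (W4c2invhilbsl2.idealL k p q m c i 0) ν) ≤ 1 := by
  exact H25InvHilb.rank_piece_idealL_le_one hpq hcop hm hnt hc hi hir 0 (Or.inl rfl) ν

end Groth.Agent.S15730
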