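import Groth.Statements.S15732
import Groth.Agent.H25InvHilb.Poly

set_option autoImplicit false
universe u
open W4c2invhilbsl2

namespace Groth.Agent.S15732

/-- Let 0 < p < q be coprime integers and m ≥ 1 such that q − p does not divide m; put g = gcd(m, q−p),
b = (q−p)/g, α = ⌊mp/(q−p)⌋, β = the remainder of mp modulo q−p and t = (q−p−β)/g, so that 1 ≤ t <
b, and let b/t = c₁ − 1/(c₂ − 1/(⋯ − 1/c_r)) be the negative-regular (Hirzebruch–Jung) continued
fraction expansion with every cᵢ ≥ 2; set P₀ = 0, P₁ = 1, Q₀ = −1, Q₁ = 0, Pᵢ = cᵢ₋₁Pᵢ₋₁ − Pᵢ₋₂, Qᵢ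
= cᵢ₋₁Qᵢ₋₁ − Qᵢ₋₂ for 2 ≤ i ≤ r+1, and eᵢ = (α+1+m)Pᵢ − Qᵢ, lᵢ = (α+1)Pᵢ − Qᵢ, nᵢ = q·lᵢ − p·eᵢ,
which are non-negative integers for 0 ≤ i ≤ r+1. Grade the polynomial ring k[X₀,…,X₄] over a field k
by ℤ × ℤ/m, giving X₀ weight (1,0), X₁ and X₂ weight (−p,−1), and X₃ and X₄ weight (q,1). Then for
every 1 ≤ i ≤ r, modulo the principal ideal generated by the weight-zero element X₀^(q−p) − X₁X₄ +
X₂X₃, every polynomial homogeneous of weight (nᵢ, 0) is congruent to a combination a₀·X₀^(nᵢ) + Σ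
a_{e,l}·X₁^(eᵢ−e)X₂^e X₃^(lᵢ−l)X₄^l (sum over 0 ≤ e ≤ eᵢ, 0 ≤ l ≤ lᵢ) whose coefficients a₀, a_{e,l}
are homogeneous of weight zero. Equivalently, in the coordinate ring of the hypersurface the
weight-(nᵢ,0) piece is generated over the weight-zero subring (the invariant ring) by X₀^(nᵢ)
together with the products of a degree-eᵢ monomial in X₁, X₂ and a degree-lᵢ monomial in X₃, X₄.
(The published statement is over the complex numbers; this row takes any field.) -/
theorem result (k : Type u) [Field k] (p q m : ℕ) (hp : 0 < p) (hpq : p < q) (hcop : Nat.Coprime p q) (hm : 0 < m) (hnt : ¬ (q - p ∣ m)) (c : List ℤ) (hc : W4c2invhilbsl2.IsHJDigits p q m c) (i : ℕ) (hi : 1 ≤ i) (hir : i ≤ c.length)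
    (f : MvPolynomial (Fin 5) k) (hf : f ∈ MvPolynomial.weightedHomogeneousSubmodule k (W4c2invhilbsl2.wt5 p q m) (W4c2invhilbsl2.nN p q m c i, (0 : ZMod m))) :
    ∃ (a₀ : MvPolynomial (Fin 5) k) (a : ℕ → ℕ → MvPolynomial (Fin 5) k),
      a₀ ∈ MvPolynomial.weightedHomogeneousSubmodule k (W4c2invhilbsl2.wt5 p q m) 0 ∧ (∀ e l : ℕ, a e l ∈ MvPolynomial.weightedHomogeneousSubmodule k (W4c2invhilbsl2.wt5 p q m) 0) ∧
      f - (a₀ * MvPolynomial.X (0 : Fin 5) ^ (W4c2invhilbsl2.nN p q m c i).toNat +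
          ∑ e ∈ Finset.range ((W4c2invhilbsl2.eE p q m c i).toNat + 1), ∑ l ∈ Finset.range ((W4c2invhilbsl2.lL p q m c i).toNat + 1),
            a e l * (MvPolynomial.X (1 : Fin 5) ^ ((W4c2invhilbsl2.eE p q m c i).toNat - e) * MvPolynomial.X (2 : Fin 5) ^ e *
              MvPolynomial.X (3 : Fin 5) ^ ((W4c2invhilbsl2.lL p q m c i).toNat - l) * MvPolynomial.X (4 : Fin 5) ^ l)) ∈
        Ideal.span {MvPolynomial.X (0 : Fin 5) ^ (q - p) - MvPolynomial.X 1 * MvPolynomial.X 4 + MvPolynomial.X 2 * MvPolynomial.X 3} := by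
  have hn := H25InvHilb.nN_pos hpq hcop hm hnt hc hir
  have he := H25InvHilb.eE_pos (p := p) (q := q) (m := m) hc (show i ≤ c.length + 1 by omega)
  have hl := H25InvHilb.lL_pos (p := p) (q := q) (m := m) hc (show i ≤ c.length + 1 by omega)
  have hel := H25InvHilb.eE_sub_lL (p := p) (q := q) (m := m) c i
  have hnN : W4c2invhilbsl2.nN p q m c i = -(p : ℤ) * W4c2invhilbsl2.eE p q m c i +
    (q : ℤ) * W4c2invhilbsl2.lL p q m c i := rfl
  obtain ⟨N, hN⟩ : ∃ N : ℕ, W4c2invhilbsl2.nN p q m c i = N :=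
    ⟨(W4c2invhilbsl2.nN p q m c i).toNat, by omega⟩
  obtain ⟨E, hE⟩ : ∃ E : ℕ, W4c2invhilbsl2.eE p q m c i = E :=
    ⟨(W4c2invhilbsl2.eE p q m c i).toNat, by omega⟩
  obtain ⟨L, hL⟩ : ∃ L : ℕ, W4c2invhilbsl2.lL p q m c i = L :=
    ⟨(W4c2invhilbsl2.lL p q m c i).toNat, by omega⟩
  rw [hE, hL] at hnN hel
  open MvPolynomial H25InvHilb in
  obtain ⟨a, ha, hfa⟩ := exists_decomp (W4c2invhilbsl2.wt5 p q m) _
    (fun o : Option (Fin (E + 1) × Fin (L + 1)) =>
      o.elim (v5 N 0 0 0 0) (fun el => v5 0 (E - el.1.1) el.1.1 (L - el.2.1) el.2.1))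
    (fun j => by
      rcases j with _ | ⟨e, l⟩
      · exact weight5_eq_pair.mpr ⟨by simp; omega, 0, by simp⟩
      · have e1 : E - (e : ℕ) + (e : ℕ) = E := by have := e.2; omega
        have e2 : L - (l : ℕ) + (l : ℕ) = L := by have := l.2; omega
        exact weight5_eq_pair.mpr ⟨by
          simp only [Option.elim_some, v5_apply0, v5_apply1, v5_apply2, v5_apply3, v5_apply4,
            e1, e2]
          push_cast
          linarith, W4c2invhilbsl2.hjP c i, by
          simp only [Option.elim_some, v5_apply0, v5_apply1, v5_apply2, v5_apply3, v5_apply4,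
            e1, e2]
          linarith⟩) f hf
    (fun d hd => by
      obtain ⟨h1, x, h2⟩ := weight5_eq_pair.mp (hf (mem_support_iff.mp hd))
      rcases small_or_big hpq hcop hm hnt hc hi hir (d0 := (d 0 : ℤ))
        (E := ((d 1 + d 2 : ℕ) : ℤ))
        (L := ((d 3 + d 4 : ℕ) : ℤ)) (by positivity) (by positivity) (by positivity) h2 h1 with
        h | ⟨g1, g2⟩
      · exact ⟨none, v5_le (by omega) (Nat.zero_le _) (Nat.zero_le _) (Nat.zero_le _)
          (Nat.zero_le _)⟩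
      · exact ⟨some (⟨min (d 2) E, by omega⟩, ⟨min (d 4) L, by omega⟩),
          v5_le (Nat.zero_le _) (by simp; omega) (by simp) (by simp; omega) (by simp)⟩)
  rw [hN, hE, hL, Int.toNat_natCast, Int.toNat_natCast, Int.toNat_natCast]
  refine ⟨a none, fun e l => if h : e < E + 1 ∧ l < L + 1 then a (some (⟨e, h.1⟩, ⟨l, h.2⟩))
    else 0, ha none, fun e l => ?_, ?_⟩
  · simp only
    split_ifs with h
    · exact ha _
    · exact Submodule.zero_mem _
  · convert Ideal.zero_mem _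
    rw [sub_eq_zero, hfa, Fintype.sum_option, Fintype.sum_prod_type, Finset.sum_range]
    refine congrArg₂ (· + ·) ?_ (Finset.sum_congr rfl fun e _ => ?_)
    · simp [H25InvHilb.monomial_fin5]
    rw [Finset.sum_range]
    refine Finset.sum_congr rfl fun l _ => ?_
    simp only
    rw [dif_pos (show (e : ℕ) < E + 1 ∧ (l : ℕ) < L + 1 from ⟨e.2, l.2⟩),
      H25InvHilb.monomial_fin5]
    simp

end Groth.Agent.S15732
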