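import Groth.Statements.S15733
import Groth.Agent.H25InvHilb.Num

set_option autoImplicit false
open W4c2invhilbsl2

namespace Groth.Agent.S15733

/-- Let 0 < p < q be coprime integers and m ≥ 1 such that q − p does not divide m; put g = gcd(m, q−p),
b = (q−p)/g, α = ⌊mp/(q−p)⌋, β = the remainder of mp modulo q−p and t = (q−p−β)/g, so that 1 ≤ t <
b, and let b/t = c₁ − 1/(c₂ − 1/(⋯ − 1/c_r)) be the negative-regular (Hirzebruch–Jung) continued
fraction expansion with every cᵢ ≥ 2; set P₀ = 0, P₁ = 1, Q₀ = −1, Q₁ = 0, Pᵢ = cᵢ₋₁Pᵢ₋₁ − Pᵢ₋₂, Qᵢ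
= cᵢ₋₁Qᵢ₋₁ − Qᵢ₋₂ for 2 ≤ i ≤ r+1, and eᵢ = (α+1+m)Pᵢ − Qᵢ, lᵢ = (α+1)Pᵢ − Qᵢ, nᵢ = q·lᵢ − p·eᵢ,
which are non-negative integers for 0 ≤ i ≤ r+1. Then for every 1 < i ≤ r and every integer x with 0
< x < Pᵢ, the remainder of pmx + nᵢ on division by q − p equals nᵢ plus the remainder of pmx on
division by q − p (in particular nᵢ + (pmx mod (q−p)) < q − p). -/
theorem result (p q m : ℕ) (hp : 0 < p) (hpq : p < q) (hcop : Nat.Coprime p q) (hm : 0 < m) (hnt : ¬ (q - p ∣ m)) (c : List ℤ) (hc : W4c2invhilbsl2.IsHJDigits p q m c) (i : ℕ) (hi : 1 < i) (hir : i ≤ c.length)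
    (x : ℤ) (hx0 : 0 < x) (hx : x < W4c2invhilbsl2.hjP c i) :
    Int.emod ((p : ℤ) * m * x + W4c2invhilbsl2.nN p q m c i) ((q : ℤ) - p) = W4c2invhilbsl2.nN p q m c i + Int.emod ((p : ℤ) * m * x) ((q : ℤ) - p) := by
  obtain ⟨j, rfl⟩ : ∃ j, i = j + 1 := ⟨i - 1, by omega⟩
  have hgb := H25InvHilb.gcdK_mul_bB_int (m := m) hpq
  have hpm := H25InvHilb.pm_eq (m := m) hpq
  have hG := H25InvHilb.nN_eq (m := m) hpq c (j + 1)
  have hg : (0 : ℤ) < W4c2invhilbsl2.gcdK p q m := by exact_mod_cast H25InvHilb.gcdK_pos hm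
  have hqp : (0 : ℤ) < (q : ℤ) - p := by omega
  have hn2 := H25InvHilb.nu_lt hpq hcop hm hnt hc (show j ≤ c.length by omega)
  have hn1 := H25InvHilb.nu_pos hpq hcop hm hnt hc (show j + 1 ≤ c.length by omega)
  show ((p : ℤ) * m * x + W4c2invhilbsl2.nN p q m c (j + 1)) % ((q : ℤ) - p) =
    W4c2invhilbsl2.nN p q m c (j + 1) + ((p : ℤ) * m * x) % ((q : ℤ) - p)
  have h3 := Int.emod_nonneg ((p : ℤ) * m * x) hqp.ne'
  have h4 := Int.emod_lt_of_pos ((p : ℤ) * m * x) hqp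
  have hde := Int.emod_add_mul_ediv ((p : ℤ) * m * x) ((q : ℤ) - p)
  set r := ((p : ℤ) * m * x) % ((q : ℤ) - p)
  set w := ((p : ℤ) * m * x) / ((q : ℤ) - p)
  rw [← hde]
  have key : r + W4c2invhilbsl2.nN p q m c (j + 1) < (q : ℤ) - p := by
    have g1 := H25InvHilb.gap hpq hcop hm hnt hc (show j < c.length by omega) hx0 hx
      (((W4c2invhilbsl2.alpha p q m + 1 : ℕ) : ℤ) * x - w - 1)
    have hr : r = (W4c2invhilbsl2.gcdK p q m : ℤ) * ((W4c2invhilbsl2.bB p q m : ℤ) -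
        ((W4c2invhilbsl2.tT p q m : ℤ) * x - (W4c2invhilbsl2.bB p q m : ℤ) *
          (((W4c2invhilbsl2.alpha p q m + 1 : ℕ) : ℤ) * x - w - 1))) := by
      linear_combination hde + w * hgb + x * hpm
    rw [hG, ← hgb]
    rcases g1 with g1 | g1
    · nlinarith
    · exfalso
      rw [← hgb] at h4
      nlinarith
  rw [show r + ((q : ℤ) - p) * w + W4c2invhilbsl2.nN p q m c (j + 1) =
    (W4c2invhilbsl2.nN p q m c (j + 1) + r) + w * ((q : ℤ) - p) by ring,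
    Int.add_mul_emod_self_right]
  refine Int.emod_eq_of_lt ?_ (by omega)
  have := H25InvHilb.nN_pos hpq hcop hm hnt hc (show j + 1 ≤ c.length by omega)
  omega

end Groth.Agent.S15733
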