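import Groth.Statements.S15734
import Groth.Agent.H25InvHilb.Num

set_option autoImplicit false
open W4c2invhilbsl2

namespace Groth.Agent.S15734

/-- Let 0 < p < q be coprime integers and m ≥ 1 such that q − p does not divide m; put g = gcd(m, q−p),
b = (q−p)/g, α = ⌊mp/(q−p)⌋, β = the remainder of mp modulo q−p and t = (q−p−β)/g, so that 1 ≤ t <
b, and let b/t = c₁ − 1/(c₂ − 1/(⋯ − 1/c_r)) be the negative-regular (Hirzebruch–Jung) continued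
fraction expansion with every cᵢ ≥ 2; set P₀ = 0, P₁ = 1, Q₀ = −1, Q₁ = 0, Pᵢ = cᵢ₋₁Pᵢ₋₁ − Pᵢ₋₂, Qᵢ
= cᵢ₋₁Qᵢ₋₁ − Qᵢ₋₂ for 2 ≤ i ≤ r+1, and eᵢ = (α+1+m)Pᵢ − Qᵢ, lᵢ = (α+1)Pᵢ − Qᵢ, nᵢ = q·lᵢ − p·eᵢ,
which are non-negative integers for 0 ≤ i ≤ r+1; moreover g divides every nᵢ, and write tᵢ = nᵢ/g
(so t₁ = t). Then (a) for every 1 ≤ i ≤ r the remainder of t·Pᵢ on division by b equals tᵢ, and (b)
for every 1 < i ≤ r and every integer x with 0 < x < Pᵢ the remainder ρ of t·x on division by b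
satisfies tᵢ₋₁ ≤ ρ ≤ b + tᵢ − tᵢ₋₁. -/
theorem result (p q m : ℕ) (hp : 0 < p) (hpq : p < q) (hcop : Nat.Coprime p q) (hm : 0 < m) (hnt : ¬ (q - p ∣ m)) (c : List ℤ) (hc : W4c2invhilbsl2.IsHJDigits p q m c) :
    (∀ i : ℕ, 1 ≤ i → i ≤ c.length →
      Int.emod ((W4c2invhilbsl2.tT p q m : ℤ) * W4c2invhilbsl2.hjP c i) (W4c2invhilbsl2.bB p q m : ℤ) = W4c2invhilbsl2.nN p q m c i / (W4c2invhilbsl2.gcdK p q m : ℤ)) ∧
    (∀ i : ℕ, 1 < i → i ≤ c.length → ∀ x : ℤ, 0 < x → x < W4c2invhilbsl2.hjP c i →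
      W4c2invhilbsl2.nN p q m c (i - 1) / (W4c2invhilbsl2.gcdK p q m : ℤ) ≤ Int.emod ((W4c2invhilbsl2.tT p q m : ℤ) * x) (W4c2invhilbsl2.bB p q m : ℤ) ∧
      Int.emod ((W4c2invhilbsl2.tT p q m : ℤ) * x) (W4c2invhilbsl2.bB p q m : ℤ) ≤
        (W4c2invhilbsl2.bB p q m : ℤ) + W4c2invhilbsl2.nN p q m c i / (W4c2invhilbsl2.gcdK p q m : ℤ) - W4c2invhilbsl2.nN p q m c (i - 1) / (W4c2invhilbsl2.gcdK p q m : ℤ)) := by
  have hG := H25InvHilb.nN_eq (m := m) hpq c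
  have hg : ((W4c2invhilbsl2.gcdK p q m : ℕ) : ℤ) ≠ 0 := by
    exact_mod_cast (H25InvHilb.gcdK_pos hm).ne'
  have hb : (0 : ℤ) < W4c2invhilbsl2.bB p q m := by
    exact_mod_cast (show 0 < W4c2invhilbsl2.bB p q m by
      have := H25InvHilb.two_le_bB (m := m) hpq hnt; omega)
  have hdiv : ∀ i, W4c2invhilbsl2.nN p q m c i / (W4c2invhilbsl2.gcdK p q m : ℤ) =
      H25InvHilb.nu p q m c i := fun i => by rw [hG, Int.mul_ediv_cancel_left _ hg]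
  constructor
  · intro i hi hir
    rw [hdiv]
    have h1 := H25InvHilb.nu_pos hpq hcop hm hnt hc hir
    have h2 := H25InvHilb.nu_lt_bB hpq hcop hm hnt hc hi (by omega)
    show ((W4c2invhilbsl2.tT p q m : ℤ) * W4c2invhilbsl2.hjP c i) %
      (W4c2invhilbsl2.bB p q m : ℤ) = _
    rw [show (W4c2invhilbsl2.tT p q m : ℤ) * W4c2invhilbsl2.hjP c i =
      H25InvHilb.nu p q m c i + W4c2invhilbsl2.hjQ c i * (W4c2invhilbsl2.bB p q m : ℤ) by
        simp only [H25InvHilb.nu]; ring, Int.add_mul_emod_self_right]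
    exact Int.emod_eq_of_lt (by omega) h2
  · intro i hi hir x hx0 hx
    obtain ⟨j, rfl⟩ : ∃ j, i = j + 1 := ⟨i - 1, by omega⟩
    simp only [hdiv, Nat.add_sub_cancel]
    show _ ≤ ((W4c2invhilbsl2.tT p q m : ℤ) * x) % (W4c2invhilbsl2.bB p q m : ℤ) ∧
      ((W4c2invhilbsl2.tT p q m : ℤ) * x) % (W4c2invhilbsl2.bB p q m : ℤ) ≤ _
    have h3 := Int.emod_nonneg ((W4c2invhilbsl2.tT p q m : ℤ) * x) hb.ne'
    have h4 := Int.emod_lt_of_pos ((W4c2invhilbsl2.tT p q m : ℤ) * x) hb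
    have hde := Int.emod_add_mul_ediv ((W4c2invhilbsl2.tT p q m : ℤ) * x)
      (W4c2invhilbsl2.bB p q m : ℤ)
    have hn2 := H25InvHilb.nu_lt hpq hcop hm hnt hc (show j ≤ c.length by omega)
    have hn1 := H25InvHilb.nu_pos hpq hcop hm hnt hc (show j ≤ c.length by omega)
    set yq := ((W4c2invhilbsl2.tT p q m : ℤ) * x) / (W4c2invhilbsl2.bB p q m : ℤ)
    have g1 := H25InvHilb.gap hpq hcop hm hnt hc (show j < c.length by omega) hx0 hx yq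
    have g2 := H25InvHilb.gap hpq hcop hm hnt hc (show j < c.length by omega) hx0 hx (yq + 1)
    rw [mul_add, mul_one] at g2
    constructor
    · rcases g1 with g1 | g1 <;> omega
    · rcases g2 with g2 | g2 <;> omega

end Groth.Agent.S15734
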