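import Groth.Statements.S15735
import Groth.Agent.H25InvHilb.Num

set_option autoImplicit false
open W4c2invhilbsl2

namespace Groth.Agent.S15735

/-- Let 0 < p < q be coprime integers and m ≥ 1 such that q − p does not divide m; put g = gcd(m, q−p),
b = (q−p)/g, α = ⌊mp/(q−p)⌋, β = the remainder of mp modulo q−p and t = (q−p−β)/g, so that 1 ≤ t <
b, and let b/t = c₁ − 1/(c₂ − 1/(⋯ − 1/c_r)) be the negative-regular (Hirzebruch–Jung) continued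
fraction expansion with every cᵢ ≥ 2; set P₀ = 0, P₁ = 1, Q₀ = −1, Q₁ = 0, Pᵢ = cᵢ₋₁Pᵢ₋₁ − Pᵢ₋₂, Qᵢ
= cᵢ₋₁Qᵢ₋₁ − Qᵢ₋₂ for 2 ≤ i ≤ r+1, and eᵢ = (α+1+m)Pᵢ − Qᵢ, lᵢ = (α+1)Pᵢ − Qᵢ, nᵢ = q·lᵢ − p·eᵢ.
Then: (i) nᵢ = g·(t·Pᵢ − b·Qᵢ) for all 0 ≤ i ≤ r+1; (ii) nᵢ = cᵢ₋₁·nᵢ₋₁ − nᵢ₋₂ for all 2 ≤ i ≤ r+1;
(iii) nᵢ > nᵢ₊₁ for all 0 ≤ i ≤ r; (iv) n₀ = q − p, n_r = g and n_{r+1} = 0. (The published
statement also covers the case where q − p divides m, where r = 0; there the displayed formulas give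
n₁ = n₀ = q − p (for p = 1, q = 3, m = 2, n₁ = 2), so (iii) and (iv) fail, and this row assumes that
q − p does not divide m.) -/
theorem result (p q m : ℕ) (hp : 0 < p) (hpq : p < q) (hcop : Nat.Coprime p q) (hm : 0 < m) (hnt : ¬ (q - p ∣ m)) (c : List ℤ) (hc : W4c2invhilbsl2.IsHJDigits p q m c) :
    (∀ i : ℕ, i ≤ c.length + 1 →
      W4c2invhilbsl2.nN p q m c i = (W4c2invhilbsl2.gcdK p q m : ℤ) * ((W4c2invhilbsl2.tT p q m : ℤ) * W4c2invhilbsl2.hjP c i - (W4c2invhilbsl2.bB p q m : ℤ) * W4c2invhilbsl2.hjQ c i)) ∧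
    (∀ i : ℕ, 2 ≤ i → i ≤ c.length + 1 →
      W4c2invhilbsl2.nN p q m c i = c.getD (i - 2) 0 * W4c2invhilbsl2.nN p q m c (i - 1) - W4c2invhilbsl2.nN p q m c (i - 2)) ∧
    (∀ i : ℕ, i ≤ c.length → W4c2invhilbsl2.nN p q m c (i + 1) < W4c2invhilbsl2.nN p q m c i) ∧
    W4c2invhilbsl2.nN p q m c 0 = (q : ℤ) - p ∧ W4c2invhilbsl2.nN p q m c c.length = W4c2invhilbsl2.gcdK p q m ∧ W4c2invhilbsl2.nN p q m c (c.length + 1) = 0 := by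
  have hG := H25InvHilb.nN_eq (m := m) hpq c
  refine ⟨fun i _ => hG i, ?_, ?_, ?_, ?_, ?_⟩
  · intro i hi _
    obtain ⟨j, rfl⟩ : ∃ j, i = j + 2 := ⟨i - 2, by omega⟩
    simp only [hG, H25InvHilb.nu_add_two, Nat.add_sub_cancel,
      show j + 2 - 1 = j + 1 from rfl]
    ring
  · intro i hi
    rw [hG, hG]
    exact mul_lt_mul_of_pos_left (H25InvHilb.nu_lt hpq hcop hm hnt hc hi)
      (by exact_mod_cast H25InvHilb.gcdK_pos hm)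
  · rw [hG, H25InvHilb.nu_zero, H25InvHilb.gcdK_mul_bB_int hpq]
  · rw [hG, H25InvHilb.nu_last_one hpq hcop hm hnt hc, mul_one]
  · rw [hG, H25InvHilb.nu_last_zero hpq hcop hm hnt hc, mul_zero]

end Groth.Agent.S15735
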