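import Groth.Statements.S15738
import Mathlib.Tactic

set_option autoImplicit false
universe u
open W4c2invhilbsl2

namespace Groth.Agent.S15738

/-- Let k be a field and m ≥ 1; for a monomial X₀^d₀X₁^d₁X₂^d₂ of the polynomial ring in X₀, X₁, X₂ (X₂
standing for Xⱼ, j = 3 or 4, of the five-variable ring) put n = d₀ − p·d₁ + q·d₂ (its weight for the
torus diag(t, t^(−p), t^q)), c = d₁ − d₂ and ω = p·d₁ − q·d₂, so that d₀ = n + ω; here 0 < p < q are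
coprime integers. Take two monomials X₀^d₀X₁^d₁X₂^d₂ and X₀^e₀X₁^e₁X₂^e₂ with the same n and with
values c, c' of c congruent modulo m (so both lie in the same ℤ × ℤ/m-weight piece for the weights
(1,0), (−p,−1), (q,1)). Then: (i) if c = c', the difference of the two monomials lies in the
principal ideal (X₀^(q−p) − X₁X₂); (ii) if c' < c, the monomial X₀^d₀X₁^d₁X₂^d₂ lies in the ideal
(X₀^(q−p) − X₁X₂, X₀^(mp)X₁^m); (iii) in all cases the difference lies in the ideal (X₀^(q−p) −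
X₁X₂, 1 − X₀^(mp)X₁^m). -/
theorem result (k : Type u) [Field k] (p q m : ℕ) (hp : 0 < p) (hpq : p < q) (hcop : Nat.Coprime p q) (hm : 0 < m)
    (d0 d1 d2 e0 e1 e2 : ℕ) (hn : (e0 : ℤ) - (p : ℤ) * e1 + (q : ℤ) * e2 = (d0 : ℤ) - (p : ℤ) * d1 + (q : ℤ) * d2)
    (hc : (m : ℤ) ∣ ((d1 : ℤ) - d2) - ((e1 : ℤ) - e2)) :
    ((d1 : ℤ) - d2 = (e1 : ℤ) - e2 →
      (MvPolynomial.X (0 : Fin 3) ^ d0 * MvPolynomial.X (1 : Fin 3) ^ d1 * MvPolynomial.X (2 : Fin 3) ^ d2 - MvPolynomial.X (0 : Fin 3) ^ e0 * MvPolynomial.X (1 : Fin 3) ^ e1 * MvPolynomial.X (2 : Fin 3) ^ e2 : MvPolynomial (Fin 3) k) ∈ Ideal.span {MvPolynomial.X (0 : Fin 3) ^ (q - p) - MvPolynomial.X (1 : Fin 3) * MvPolynomial.X (2 : Fin 3)}) ∧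
    ((e1 : ℤ) - e2 < (d1 : ℤ) - d2 →
      (MvPolynomial.X (0 : Fin 3) ^ d0 * MvPolynomial.X (1 : Fin 3) ^ d1 * MvPolynomial.X (2 : Fin 3) ^ d2 : MvPolynomial (Fin 3) k) ∈ Ideal.span {MvPolynomial.X (0 : Fin 3) ^ (q - p) - MvPolynomial.X (1 : Fin 3) * MvPolynomial.X (2 : Fin 3), MvPolynomial.X (0 : Fin 3) ^ (m * p) * MvPolynomial.X (1 : Fin 3) ^ m}) ∧
    ((MvPolynomial.X (0 : Fin 3) ^ d0 * MvPolynomial.X (1 : Fin 3) ^ d1 * MvPolynomial.X (2 : Fin 3) ^ d2 - MvPolynomial.X (0 : Fin 3) ^ e0 * MvPolynomial.X (1 : Fin 3) ^ e1 * MvPolynomial.X (2 : Fin 3) ^ e2 : MvPolynomial (Fin 3) k) ∈ Ideal.span {MvPolynomial.X (0 : Fin 3) ^ (q - p) - MvPolynomial.X (1 : Fin 3) * MvPolynomial.X (2 : Fin 3), 1 - MvPolynomial.X (0 : Fin 3) ^ (m * p) * MvPolynomial.X (1 : Fin 3) ^ m}) := by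
  set R : MvPolynomial (Fin 3) k := MvPolynomial.X (0 : Fin 3) ^ (q - p) - MvPolynomial.X (1 : Fin 3) * MvPolynomial.X (2 : Fin 3) with hR
  let mon : ℕ → ℕ → ℕ → MvPolynomial (Fin 3) k := fun a b c => MvPolynomial.X (0 : Fin 3) ^ a * MvPolynomial.X (1 : Fin 3) ^ b * MvPolynomial.X (2 : Fin 3) ^ c
  have same : ∀ a0 a1 a2 b0 b1 b2 : ℕ, (b0 : ℤ) - (p : ℤ) * b1 + (q : ℤ) * b2 = (a0 : ℤ) - (p : ℤ) * a1 + (q : ℤ) * a2 → (a1 : ℤ) - a2 = (b1 : ℤ) - b2 →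
      R ∣ mon a0 a1 a2 - mon b0 b1 b2 := by
    intro a0 a1 a2 b0 b1 b2 h1 h2
    have hQ : ((q - p : ℕ) : ℤ) = (q : ℤ) - p := by omega
    have he : (b0 : ℤ) - a0 = ((q - p : ℕ) : ℤ) * ((a2 : ℤ) - b2) := by rw [hQ]; linear_combination h1 - (p : ℤ) * h2
    have key : ∀ (x y z t : ℕ), R ∣ mon x (y + t) (z + t) - mon (x + (q - p) * t) y z := by
      intro x y z t
      have : mon x (y + t) (z + t) - mon (x + (q - p) * t) y z = -(mon x y z * ((MvPolynomial.X (0 : Fin 3) ^ (q - p)) ^ t - (MvPolynomial.X (1 : Fin 3) * MvPolynomial.X (2 : Fin 3)) ^ t)) := by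
        simp only [mon, pow_add, pow_mul, mul_pow]; ring
      rw [this, dvd_neg]
      exact (sub_dvd_pow_sub_pow _ _ t).mul_left _
    rcases Nat.le_total b2 a2 with h | h
    · obtain ⟨t, rfl⟩ := Nat.exists_eq_add_of_le h
      have e1 : a1 = b1 + t := by omega
      have e0 : b0 = a0 + (q - p) * t := by zify; push_cast at he; linarith
      subst e1 e0
      exact key a0 b1 b2 t
    · obtain ⟨t, rfl⟩ := Nat.exists_eq_add_of_le h
      have e1 : b1 = a1 + t := by omega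
      have e0 : a0 = b0 + (q - p) * t := by zify; push_cast at he; linarith
      subst e1 e0
      rw [dvd_sub_comm]
      exact key b0 a1 a2 t
  set U : MvPolynomial (Fin 3) k := MvPolynomial.X (0 : Fin 3) ^ (m * p) * MvPolynomial.X (1 : Fin 3) ^ m with hU
  have diff : ∀ a0 a1 a2 b0 b1 b2 : ℕ, (b0 : ℤ) - (p : ℤ) * b1 + (q : ℤ) * b2 = (a0 : ℤ) - (p : ℤ) * a1 + (q : ℤ) * a2 →
      (m : ℤ) ∣ ((a1 : ℤ) - a2) - ((b1 : ℤ) - b2) → (b1 : ℤ) - b2 ≤ (a1 : ℤ) - a2 →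
      ∃ j : ℕ, R ∣ mon a0 a1 a2 - mon b0 b1 b2 * U ^ j ∧ ((b1 : ℤ) - b2 < (a1 : ℤ) - a2 → 0 < j) := by
    intro a0 a1 a2 b0 b1 b2 h1 ⟨j, hj⟩ hle
    have hm' : (0 : ℤ) < m := by exact_mod_cast hm
    have hj0 : 0 ≤ j := by nlinarith
    obtain ⟨J, rfl⟩ := Int.eq_ofNat_of_zero_le hj0
    refine ⟨J, ?_, fun hlt => ?_⟩
    · have : mon b0 b1 b2 * U ^ J = mon (b0 + p * m * J) (b1 + m * J) b2 := by
        simp only [mon, hU, mul_pow, ← pow_mul, pow_add]; ring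
      rw [this]
      apply same
      · push_cast; linear_combination h1
      · push_cast; linear_combination hj
    · rcases Nat.eq_zero_or_pos J with rfl | h
      · simp at hj; omega
      · exact h
  refine ⟨fun h => ?_, fun h => ?_, ?_⟩
  · exact Ideal.mem_span_singleton.mpr (same d0 d1 d2 e0 e1 e2 hn h)
  · obtain ⟨j, ⟨r, hr⟩, hj⟩ := diff d0 d1 d2 e0 e1 e2 hn hc h.le
    obtain ⟨i, rfl⟩ : ∃ i, j = i + 1 := ⟨j - 1, by have := hj h; omega⟩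
    rw [Ideal.mem_span_pair]
    exact ⟨r, mon e0 e1 e2 * U ^ i, by simp only [mon, hU] at hr ⊢; linear_combination -hr⟩
  · rw [Ideal.mem_span_pair]
    rcases le_total ((e1 : ℤ) - e2) ((d1 : ℤ) - d2) with h | h
    · obtain ⟨j, ⟨r, hr⟩, -⟩ := diff d0 d1 d2 e0 e1 e2 hn hc h
      obtain ⟨s, hs⟩ : (1 - U) ∣ U ^ j - 1 := by rw [dvd_sub_comm]; exact one_sub_dvd_one_sub_pow U j
      exact ⟨r, mon e0 e1 e2 * s, by simp only [mon, hU] at hr hs ⊢; linear_combination -hr - (MvPolynomial.X (0 : Fin 3) ^ e0 * MvPolynomial.X (1 : Fin 3) ^ e1 * MvPolynomial.X (2 : Fin 3) ^ e2) * hs⟩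
    · obtain ⟨j, ⟨r, hr⟩, -⟩ := diff e0 e1 e2 d0 d1 d2 hn.symm (by simpa [neg_sub] using hc.neg_right) h
      obtain ⟨s, hs⟩ : (1 - U) ∣ U ^ j - 1 := by rw [dvd_sub_comm]; exact one_sub_dvd_one_sub_pow U j
      exact ⟨-r, -(mon d0 d1 d2 * s), by simp only [mon, hU] at hr hs ⊢; linear_combination hr + (MvPolynomial.X (0 : Fin 3) ^ d0 * MvPolynomial.X (1 : Fin 3) ^ d1 * MvPolynomial.X (2 : Fin 3) ^ d2) * hs⟩

end Groth.Agent.S15738
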