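import Groth.Statements.S15739
import Mathlib.RingTheory.Int.Basic
import Mathlib.Tactic

set_option autoImplicit false
universe u
open W4c2invhilbsl2

namespace Groth.Agent.S15739

/-- Let k be a field and m ≥ 1, put g = gcd(m, q−p), a = m/g and b = (q−p)/g; for a monomial
X₀^d₀X₁^d₁X₂^d₂ of the polynomial ring in X₀, X₁, X₂ (X₂ standing for Xⱼ, j = 3 or 4, of the
five-variable ring) put n = d₀ − p·d₁ + q·d₂ (its weight for the torus diag(t, t^(−p), t^q)), c = d₁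
− d₂ and ω = p·d₁ − q·d₂, so that d₀ = n + ω; here 0 < p < q are coprime integers. Take two
monomials X₀^d₀X₁^d₁X₂^d₂ and X₀^e₀X₁^e₁X₂^e₂ with the same n, where 0 ≤ n < q − p, whose values c
and c' of c are both divisible by m, and with d₀ < g and e₀ < g (so each has the least ω for its
pair (n, c), as g ≤ q − p). Then: (i) d₀ = e₀, i.e. the two values of ω agree, and m·b divides c −
c'; (ii) if c < c', then X₀^e₀X₁^e₁X₂^e₂ is a multiple of X₀^d₀X₁^d₁X₂^d₂ · X₁^(aq)X₂^(ap); (iii)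
the difference of the two monomials lies in the principal ideal (1 − X₁^(aq)X₂^(ap)). -/
theorem result (k : Type u) [Field k] (p q m : ℕ) (hp : 0 < p) (hpq : p < q) (hcop : Nat.Coprime p q) (hm : 0 < m)
    (d0 d1 d2 e0 e1 e2 : ℕ) (hn : (e0 : ℤ) - (p : ℤ) * e1 + (q : ℤ) * e2 = (d0 : ℤ) - (p : ℤ) * d1 + (q : ℤ) * d2)
    (hn0 : 0 ≤ (d0 : ℤ) - (p : ℤ) * d1 + (q : ℤ) * d2) (hnq : (d0 : ℤ) - (p : ℤ) * d1 + (q : ℤ) * d2 < (q : ℤ) - p)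
    (hcd : (m : ℤ) ∣ (d1 : ℤ) - d2) (hce : (m : ℤ) ∣ (e1 : ℤ) - e2)
    (hd0 : d0 < Nat.gcd m (q - p)) (he0 : e0 < Nat.gcd m (q - p)) :
    (d0 = e0 ∧ ((m : ℤ) * ((q - p) / Nat.gcd m (q - p) : ℕ)) ∣ ((d1 : ℤ) - d2) - ((e1 : ℤ) - e2)) ∧
    ((d1 : ℤ) - d2 < (e1 : ℤ) - e2 →
      (MvPolynomial.X (0 : Fin 3) ^ d0 * MvPolynomial.X (1 : Fin 3) ^ d1 * MvPolynomial.X (2 : Fin 3) ^ d2 * (MvPolynomial.X (1 : Fin 3) ^ (m / Nat.gcd m (q - p) * q) * MvPolynomial.X (2 : Fin 3) ^ (m / Nat.gcd m (q - p) * p)) : MvPolynomial (Fin 3) k) ∣ MvPolynomial.X (0 : Fin 3) ^ e0 * MvPolynomial.X (1 : Fin 3) ^ e1 * MvPolynomial.X (2 : Fin 3) ^ e2) ∧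
    ((MvPolynomial.X (0 : Fin 3) ^ e0 * MvPolynomial.X (1 : Fin 3) ^ e1 * MvPolynomial.X (2 : Fin 3) ^ e2 - MvPolynomial.X (0 : Fin 3) ^ d0 * MvPolynomial.X (1 : Fin 3) ^ d1 * MvPolynomial.X (2 : Fin 3) ^ d2 : MvPolynomial (Fin 3) k) ∈
      Ideal.span {(1 : MvPolynomial (Fin 3) k) - MvPolynomial.X (1 : Fin 3) ^ (m / Nat.gcd m (q - p) * q) * MvPolynomial.X (2 : Fin 3) ^ (m / Nat.gcd m (q - p) * p)}) := by
  set Q : ℕ := q - p with hQdef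
  have hQ : (Q : ℤ) = (q : ℤ) - p := by omega
  set g := Nat.gcd m Q with hg
  set n : ℤ := (d0 : ℤ) - (p : ℤ) * d1 + (q : ℤ) * d2 with hndef
  have hgm : (g : ℤ) ∣ m := Int.natCast_dvd_natCast.mpr (Nat.gcd_dvd_left _ _)
  have hgQ : (g : ℤ) ∣ (Q : ℤ) := Int.natCast_dvd_natCast.mpr (Nat.gcd_dvd_right _ _)
  have hdn : (g : ℤ) ∣ (d0 : ℤ) - n := by
    have : (d0 : ℤ) - n = (p : ℤ) * ((d1 : ℤ) - d2) - (Q : ℤ) * d2 := by rw [hndef, hQ]; ring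
    rw [this]; exact dvd_sub ((hgm.trans hcd).mul_left _) (hgQ.mul_right _)
  have hen : (g : ℤ) ∣ (e0 : ℤ) - n := by
    have : (e0 : ℤ) - n = (p : ℤ) * ((e1 : ℤ) - e2) - (Q : ℤ) * e2 := by rw [← hn, hQ]; ring
    rw [this]; exact dvd_sub ((hgm.trans hce).mul_left _) (hgQ.mul_right _)
  have h00 : d0 = e0 := by
    have : (g : ℤ) ∣ (d0 : ℤ) - e0 := by simpa using dvd_sub hdn hen
    have := Int.eq_zero_of_abs_lt_dvd this (by rw [abs_lt]; constructor <;> omega)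
    omega
  subst h00
  have hpΔ : (p : ℤ) * ((e1 : ℤ) - d1) = (q : ℤ) * ((e2 : ℤ) - d2) := by rw [hndef] at hn; linarith
  have hcop' : IsCoprime (p : ℤ) q := Nat.isCoprime_iff_coprime.mpr hcop
  obtain ⟨s, hs⟩ : (q : ℤ) ∣ (e1 : ℤ) - d1 := hcop'.symm.dvd_of_dvd_mul_left ⟨_, hpΔ⟩
  have hs2 : (e2 : ℤ) - d2 = (p : ℤ) * s := by
    rw [hs] at hpΔ
    have hq0 : (q : ℤ) ≠ 0 := by omega
    exact mul_left_cancel₀ hq0 (by linear_combination -hpΔ)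
  have hΔ : ((e1 : ℤ) - e2) - ((d1 : ℤ) - d2) = (Q : ℤ) * s := by rw [hQ]; linear_combination hs - hs2
  have hm's : ((m / g : ℕ) : ℤ) ∣ s := by
    have hg0 : 0 < g := Nat.gcd_pos_of_pos_left _ hm
    have hcop2 : IsCoprime ((m / g : ℕ) : ℤ) ((Q / g : ℕ) : ℤ) := Nat.isCoprime_iff_coprime.mpr (Nat.coprime_div_gcd_div_gcd hg0)
    refine hcop2.dvd_of_dvd_mul_left ?_
    have h1 : (m : ℤ) ∣ (Q : ℤ) * s := hΔ ▸ dvd_sub hce hcd
    have hmg : (g : ℤ) * ((m / g : ℕ) : ℤ) = m := by exact_mod_cast Nat.mul_div_cancel' (Nat.gcd_dvd_left m Q)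
    have hQg : (g : ℤ) * ((Q / g : ℕ) : ℤ) = Q := by exact_mod_cast Nat.mul_div_cancel' (Nat.gcd_dvd_right m Q)
    rw [← hmg, ← hQg, mul_assoc] at h1
    exact (mul_dvd_mul_iff_left (by exact_mod_cast hg0.ne')).mp h1
  obtain ⟨j, hj⟩ := hm's
  have hmg : (g : ℤ) * ((m / g : ℕ) : ℤ) = m := by exact_mod_cast Nat.mul_div_cancel' (Nat.gcd_dvd_left m Q)
  have hQg : (g : ℤ) * ((Q / g : ℕ) : ℤ) = Q := by exact_mod_cast Nat.mul_div_cancel' (Nat.gcd_dvd_right m Q)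
  set W : MvPolynomial (Fin 3) k := MvPolynomial.X (1 : Fin 3) ^ (m / g * q) * MvPolynomial.X (2 : Fin 3) ^ (m / g * p) with hW
  have fwd : ∀ (a1 a2 b1 b2 : ℕ) (J : ℕ), (b1 : ℤ) - a1 = (q : ℤ) * (((m / g : ℕ) : ℤ) * J) → (b2 : ℤ) - a2 = (p : ℤ) * (((m / g : ℕ) : ℤ) * J) →
      (MvPolynomial.X (0 : Fin 3) ^ d0 * MvPolynomial.X (1 : Fin 3) ^ b1 * MvPolynomial.X (2 : Fin 3) ^ b2 : MvPolynomial (Fin 3) k) =
      MvPolynomial.X (0 : Fin 3) ^ d0 * MvPolynomial.X (1 : Fin 3) ^ a1 * MvPolynomial.X (2 : Fin 3) ^ a2 * W ^ J := by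
    intro a1 a2 b1 b2 J h1 h2
    have e1 : b1 = a1 + m / g * q * J := Int.ofNat_inj.mp (by rw [Nat.cast_add, Nat.cast_mul, Nat.cast_mul]; linarith)
    have e2 : b2 = a2 + m / g * p * J := Int.ofNat_inj.mp (by rw [Nat.cast_add, Nat.cast_mul, Nat.cast_mul]; linarith)
    rw [e1, e2, hW, mul_pow, ← pow_mul, ← pow_mul, pow_add, pow_add]; ring
  refine ⟨⟨rfl, ⟨-j, ?_⟩⟩, fun hlt => ?_, ?_⟩
  · rw [show ((d1 : ℤ) - d2) - ((e1 : ℤ) - e2) = -((Q : ℤ) * s) by linarith, hj, ← hmg]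
    rw [← hQg]; push_cast; ring
  · have hs0 : 0 < s := by
      rcases lt_or_ge 0 s with h | h
      · exact h
      · nlinarith [(Q : ℤ).le_refl, show (0:ℤ) ≤ Q from Int.natCast_nonneg _]
    have hj0 : 0 < j := by
      by_contra h
      push Not at h
      nlinarith [Int.natCast_nonneg (m / g)]
    obtain ⟨J, rfl⟩ := Int.eq_ofNat_of_zero_le hj0.le
    rw [fwd d1 d2 e1 e2 J (by rw [hs, hj]) (by rw [hs2, hj])]
    exact mul_dvd_mul_left _ (dvd_pow_self W (by omega))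
  · rw [Ideal.mem_span_singleton]
    rcases le_total 0 j with h | h
    · obtain ⟨J, rfl⟩ := Int.eq_ofNat_of_zero_le h
      rw [fwd d1 d2 e1 e2 J (by rw [hs, hj]) (by rw [hs2, hj]), ← dvd_neg, neg_sub]
      refine (one_sub_dvd_one_sub_pow W J).trans ⟨MvPolynomial.X (0 : Fin 3) ^ d0 * MvPolynomial.X (1 : Fin 3) ^ d1 * MvPolynomial.X (2 : Fin 3) ^ d2, by ring⟩
    · obtain ⟨J, hJ⟩ := Int.eq_ofNat_of_zero_le (neg_nonneg.mpr h)
      have hj' : j = -(J : ℤ) := by omega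
      rw [fwd e1 e2 d1 d2 J (by linear_combination -hs - (q : ℤ) * hj - (q : ℤ) * ((m / g : ℕ) : ℤ) * hj') (by linear_combination -hs2 - (p : ℤ) * hj - (p : ℤ) * ((m / g : ℕ) : ℤ) * hj')]
      refine (one_sub_dvd_one_sub_pow W J).trans ⟨MvPolynomial.X (0 : Fin 3) ^ d0 * MvPolynomial.X (1 : Fin 3) ^ e1 * MvPolynomial.X (2 : Fin 3) ^ e2, by ring⟩

end Groth.Agent.S15739
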