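import Groth.Statements.S1574
import Groth.Agent.H17.PuncturedAffine
-- import your own Groth.Agent.* helpers here

set_option autoImplicit false
universe u
open CategoryTheory CategoryTheory.Limits AlgebraicGeometry
open Divisors

namespace Groth.Agent.S1574

/-- For a Noetherian local ring A, the punctured spectrum (Spec A minus the closed point, as an open
subscheme) is affine if and only if dim A ≤ 1. -/
theorem result (A : Type u) [CommRing A] [IsLocalRing A] [IsNoetherianRing A] :
    IsAffine (FEt.puncturedSpec A : Scheme.{u}) ↔ ringKrullDim A ≤ 1 := by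
  refine ⟨fun h => Groth.Agent.H17.PuncturedAffine.ringKrullDim_le_one_of_isAffineOpen _ h (fun p => Iff.rfl), fun h => ?_⟩
  haveI : Ring.KrullDimLE 1 A := Ring.krullDimLE_iff.mpr (by exact_mod_cast h)
  let W : (Spec (CommRingCat.of A)).Opens := FEt.puncturedSpec A
  have hmin : ∀ p : PrimeSpectrum A, p ∈ W → p.asIdeal ∈ minimalPrimes A := fun p hp =>
    (Ring.krullDimLE_one_iff.mp inferInstance p.asIdeal p.isPrime).resolve_right fun hm =>
      hp (PrimeSpectrum.ext (IsLocalRing.eq_maximalIdeal hm))
  haveI : Finite W := by
    have hfin : (SetLike.coe W).Finite :=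
      ((minimalPrimes.finite_of_isNoetherianRing A).preimage
        (fun (p : PrimeSpectrum A) _ q _ he => PrimeSpectrum.ext he)).subset hmin
    exact hfin.to_subtype
  haveI : T1Space W := ⟨fun x => by
    refine isClosed_of_closure_subset fun y hy => ?_
    have hspec : x.1 ⤳ y.1 :=
      (subtype_specializes_iff x y).mp (specializes_iff_mem_closure.mpr hy)
    have hle : x.1.asIdeal ≤ y.1.asIdeal :=
      (PrimeSpectrum.le_iff_specializes _ _).mpr hspec
    exact Subtype.ext (PrimeSpectrum.ext (((hmin _ y.2).2 ⟨x.1.isPrime, bot_le⟩ hle).antisymm hle))⟩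
  haveI : Finite (W : Scheme.{u}) := inferInstanceAs (Finite W)
  haveI : DiscreteTopology (W : Scheme.{u}) := inferInstanceAs (DiscreteTopology W)
  exact (inferInstance : IsAffine (W : Scheme.{u}))

end Groth.Agent.S1574
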