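import Groth.Statements.S15748
import Groth.Agent.H27Weil.Corr

set_option autoImplicit false
universe u v
open CategoryTheory AlgebraicGeometry
open WeilCoh

namespace Groth.Agent.S15748

/-- Let `H` be a Weil cohomology theory with coefficients in a field `K` of characteristic zero on
nonsingular connected projective varieties over an algebraically closed field `k`; let `X`, `Y` be
such varieties, `P` a product `X × Y` with projections `p`, `q`, `P'` a product `Y × X` with
projections `p'`, `q'`, and `σ : P ⟶ P'` the swap (`σ p' = q`, `σ q' = p`). For an integer `r`, a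
class `φ ∈ H^{2 dim X + r}(P)` acts as the degree-`r` correspondence `x ↦ q_*(p^* x ∪ φ)` from
`H•(X)` to `H•(Y)`, and `ψ ∈ H^{2 dim Y − r}(P')` as the degree-`(−r)` correspondence `y ↦ q'_*(p'^*
y ∪ ψ)` back. Then `Tr_P(φ ∪ σ^* ψ) = Σ_{i=0}^{2 dim X} (−1)^i tr(ψ ∘ φ | H^i(X))`. The hypothesis
`hdim` is the arithmetic identity expressing `dim P = dim P' = dim X + dim Y` in the form needed to
read the composite `ψ ∘ φ` as an endomorphism of each `H^i(X)` (the push-forward maps are indexed by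
the dimensions of the underlying spaces). (The published lemma defines the action of a
correspondence through the Künneth and Poincaré duality identifications `Hom^r(H•X, H•Y) = H^{2 dim
X + r}(X × Y)` and the transpose through the same identifications; here the action is written as
pull-back, cup product and push-forward, and the transpose as pull-back along the swap, which the
published text identifies with it.) (The published lemma is stated for smooth projective varieties
over an arbitrary base field, pure of their dimensions, with Tate twists; this row is its case of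
connected varieties over an algebraically closed field, without twists.) -/
theorem result (k : Type u) [Field k] [IsAlgClosed k] (K : Type v) [Field K] [CharZero K]
    (T : WeilCoh.Theory k K) (X Y P P' : WeilCoh.Var k)
    (p : P ⟶ X) (q : P ⟶ Y) (hP : WeilCoh.IsProd p q)
    (p' : P' ⟶ Y) (q' : P' ⟶ X) (hP' : WeilCoh.IsProd p' q')
    (σ : P ⟶ P') (hσ₁ : σ ≫ p' = q) (hσ₂ : σ ≫ q' = p) (r : ℤ)
    (hdim : ∀ i : ℤ, ((i + (2 * (WeilCoh.dim X.obj.left : ℤ) + r) + 2 * (WeilCoh.dim Y.obj.left : ℤ) - 2 * (WeilCoh.dim P.obj.left : ℤ)) + (2 * (WeilCoh.dim Y.obj.left : ℤ) - r) + 2 * (WeilCoh.dim X.obj.left : ℤ) - 2 * (WeilCoh.dim P'.obj.left : ℤ)) = i)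
    (φ : ↥(T.gr P (2 * (WeilCoh.dim X.obj.left : ℤ) + r))) (ψ : ↥(T.gr P' (2 * (WeilCoh.dim Y.obj.left : ℤ) - r))) :
    T.tr P ((φ : T.H P) * T.pull σ (ψ : T.H P')) =
      ∑ i ∈ Finset.range (2 * WeilCoh.dim X.obj.left + 1),
        (-1 : K) ^ i * LinearMap.trace K ↥(T.gr X (i : ℤ))
          ((LinearEquiv.ofEq (T.gr X (((i : ℤ) + (2 * (WeilCoh.dim X.obj.left : ℤ) + r) + 2 * (WeilCoh.dim Y.obj.left : ℤ) - 2 * (WeilCoh.dim P.obj.left : ℤ)) + (2 * (WeilCoh.dim Y.obj.left : ℤ) - r) + 2 * (WeilCoh.dim X.obj.left : ℤ) - 2 * (WeilCoh.dim P'.obj.left : ℤ))) (T.gr X (i : ℤ)) (congrArg (T.gr X) (hdim (i : ℤ)))).toLinearMap ∘ₗ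
            ((T.push q' (((i : ℤ) + (2 * (WeilCoh.dim X.obj.left : ℤ) + r) + 2 * (WeilCoh.dim Y.obj.left : ℤ) - 2 * (WeilCoh.dim P.obj.left : ℤ)) + (2 * (WeilCoh.dim Y.obj.left : ℤ) - r))) ∘ₗ ((LinearMap.mulRight K (ψ : T.H P')).restrict (p := T.gr P' ((i : ℤ) + (2 * (WeilCoh.dim X.obj.left : ℤ) + r) + 2 * (WeilCoh.dim Y.obj.left : ℤ) - 2 * (WeilCoh.dim P.obj.left : ℤ))) (q := T.gr P' (((i : ℤ) + (2 * (WeilCoh.dim X.obj.left : ℤ) + r) + 2 * (WeilCoh.dim Y.obj.left : ℤ) - 2 * (WeilCoh.dim P.obj.left : ℤ)) + (2 * (WeilCoh.dim Y.obj.left : ℤ) - r))) (fun y hy => SetLike.mul_mem_graded hy ψ.2)) ∘ₗ (T.pullDeg p' ((i : ℤ) + (2 * (WeilCoh.dim X.obj.left : ℤ) + r) + 2 * (WeilCoh.dim Y.obj.left : ℤ) - 2 * (WeilCoh.dim P.obj.left : ℤ)))) ∘ₗ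
            ((T.push q ((i : ℤ) + (2 * (WeilCoh.dim X.obj.left : ℤ) + r))) ∘ₗ ((LinearMap.mulRight K (φ : T.H P)).restrict (p := T.gr P (i : ℤ)) (q := T.gr P ((i : ℤ) + (2 * (WeilCoh.dim X.obj.left : ℤ) + r))) (fun x hx => SetLike.mul_mem_graded hx φ.2)) ∘ₗ (T.pullDeg p (i : ℤ)))) := by
  exact Groth.Agent.H27Weil.tr_mul_pull_swap T hP hP' σ hσ₁ hσ₂ (by ring) φ ψ _ (fun i a => rfl)

end Groth.Agent.S15748
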