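import Groth.Statements.S15749
import Groth.Agent.S16707
import Mathlib.Algebra.Module.StablyFree.Basic
import Mathlib.Data.Int.ConditionallyCompleteOrder
import Mathlib.RingTheory.Etale.StandardEtale
import Mathlib.RingTheory.LaurentSeries
import Mathlib.RingTheory.TotallySplit

set_option autoImplicit false
universe u
open CAlg

namespace Groth.Agent.S15749

/-- For an arbitrary commutative ring R, every idempotent of the ring of formal Laurent series R((t)) is
the constant series attached to a unique idempotent of R. Equivalently, the structure map R → R((t))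
induces a bijection on idempotents, so that the spectrum of R((t)) is connected if and only if the
spectrum of R is. No reducedness is assumed. -/
theorem result (R : Type u) [CommRing R]
    (e : LaurentSeries R) (he : IsIdempotentElem e) :
    ∃! r : R, IsIdempotentElem r ∧ HahnSeries.C r = e := by
  classical
  have hmap : ∀ (p : Ideal R), p.IsPrime →
      (∀ n : ℤ, n ≠ 0 → e.coeff n ∈ p) ∧ e.coeff 0 * e.coeff 0 - e.coeff 0 ∈ p := by
    intro p hp
    have hh : IsIdempotentElem (e.map (Ideal.Quotient.mk p)) := by
      show _ * _ = _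
      ext n
      have := congrArg (fun z : LaurentSeries R => Ideal.Quotient.mk p (z.coeff n)) he.eq
      simp only [HahnSeries.coeff_mul, map_sum, map_mul, HahnSeries.map_coeff] at this ⊢
      rw [← this]
      refine Finset.sum_subset_zero_on_sdiff ?_ ?_ (fun _ _ => rfl)
      · intro ij hij
        simp only [Finset.mem_addAntidiagonal, HahnSeries.mem_support, HahnSeries.map_coeff] at hij ⊢
        exact ⟨fun h => hij.1 (by simp [h]), fun h => hij.2.1 (by simp [h]), hij.2.2⟩
      · intro ij hij
        simp only [Finset.mem_sdiff, Finset.mem_addAntidiagonal, HahnSeries.mem_support, HahnSeries.map_coeff] at hij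
        by_contra hne
        exact hij.2 ⟨fun h => hne (by simp [h]), fun h => hne (by simp [h]), hij.1.2.2⟩
    have hc : ∀ n, Ideal.Quotient.mk p (e.coeff n) = (e.map (Ideal.Quotient.mk p)).coeff n := fun n => rfl
    rcases IsIdempotentElem.iff_eq_zero_or_one.mp hh with h | h
    · constructor
      · intro n _
        rw [← Ideal.Quotient.eq_zero_iff_mem, hc, h]; rfl
      · rw [← Ideal.Quotient.eq_zero_iff_mem, map_sub, map_mul, hc, h]; simp
    · constructor
      · intro n hn
        rw [← Ideal.Quotient.eq_zero_iff_mem, hc, h, HahnSeries.coeff_one, if_neg hn]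
      · rw [← Ideal.Quotient.eq_zero_iff_mem, map_sub, map_mul, hc, h]; simp
  have hnil : ∀ {x : R}, (∀ p : Ideal R, p.IsPrime → x ∈ p) → IsNilpotent x := fun h => by
    rw [← mem_nilradical, nilradical_eq_sInf, Ideal.mem_sInf]
    exact fun {p} hp => h p hp
  obtain ⟨r, hr, hr'⟩ := exists_isIdempotentElem_eq_of_ker_isNilpotent (Ideal.Quotient.mk (nilradical R))
    (fun y hy => by rwa [Ideal.mk_ker] at hy) (Ideal.Quotient.mk _ (e.coeff 0)) ⟨_, rfl⟩ (by
      show _ * _ = _
      rw [← map_mul, ← sub_eq_zero, ← map_sub, Ideal.Quotient.eq_zero_iff_mem, mem_nilradical]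
      exact hnil fun p hp => (hmap p hp).2)
  suffices hC : HahnSeries.C r = e from ⟨r, ⟨hr, hC⟩, fun r' h => HahnSeries.C_injective (h.2.trans hC.symm)⟩
  all_goals
    set c : LaurentSeries R := HahnSeries.C r
    have hcI : IsIdempotentElem c := hr.map HahnSeries.C
    set δ := e - c with hδ
    have hδn : ∀ n, IsNilpotent (δ.coeff n) := by
      intro n
      rcases eq_or_ne n 0 with rfl | hn
      · have : IsNilpotent (r - e.coeff 0) := by
          rw [← mem_nilradical, ← Ideal.Quotient.eq_zero_iff_mem, map_sub, hr', sub_self]
        simpa [δ, c] using this.neg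
      · have : δ.coeff n = e.coeff n := by simp [δ, c, HahnSeries.C_apply, hn]
        rw [this]; exact hnil fun p hp => (hmap p hp).1 n hn
    have h3 : δ * (1 - δ * δ) = 0 := by
      rw [hδ]; linear_combination (c * 3 - e - 1) * he.eq + (c + 1 - e * 3) * hcI.eq
    let q : PowerSeries R := PowerSeries.mk fun k => δ.coeff k
    let s : Finset ℤ := Finset.Ico δ.order 0
    let m : LaurentSeries R := ∑ i ∈ s, HahnSeries.single i (δ.coeff i)
    have hm : IsNilpotent m := isNilpotent_sum fun i _ => by
      obtain ⟨k, hk⟩ := hδn i
      exact ⟨k, by rw [HahnSeries.single_pow, hk]; simp⟩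
    have hsplit : δ = m + HahnSeries.ofPowerSeries ℤ R q := by
      ext n
      rw [HahnSeries.coeff_add, HahnSeries.coeff_sum, PowerSeries.coeff_coe]
      simp only [HahnSeries.coeff_single]
      rcases lt_or_ge n 0 with h | h
      · rw [if_pos h, add_zero]
        by_cases h' : δ.order ≤ n
        · rw [Finset.sum_eq_single n]
          · rw [if_pos rfl]
          · intro i _ hi; rw [if_neg (Ne.symm hi)]
          · intro hh; exact absurd (Finset.mem_Ico.mpr ⟨h', h⟩) hh
        · rw [Finset.sum_eq_zero]
          · exact HahnSeries.coeff_eq_zero_of_lt_order (by omega)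
          · intro i hi; rw [if_neg]; have := (Finset.mem_Ico.mp hi).1; omega
      · rw [Finset.sum_eq_zero, zero_add, if_neg (by omega)]
        · simp [q, abs_of_nonneg h]
        · intro i hi; rw [if_neg]; have := (Finset.mem_Ico.mp hi).2; omega
    have hu : IsUnit (1 - δ * δ) := by
      have h1 : IsUnit (1 - q * q) := by
        rw [PowerSeries.isUnit_iff_constantCoeff, map_sub, map_one, map_mul]
        have : IsNilpotent (PowerSeries.constantCoeff q) := by simpa [q] using hδn 0
        exact ((Commute.all _ _).isNilpotent_mul_left this).isUnit_one_sub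
      have : 1 - δ * δ = HahnSeries.ofPowerSeries ℤ R (1 - q * q) + m * -(2 * HahnSeries.ofPowerSeries ℤ R q + m) := by
        rw [hsplit, map_sub, map_one, map_mul]; ring
      rw [this]
      exact ((Commute.all _ _).isNilpotent_mul_right hm).isUnit_add_left_of_commute (h1.map _) (Commute.all _ _)
    exact (sub_eq_zero.mp (hu.mul_left_eq_zero.mp h3)).symm

end Groth.Agent.S15749
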