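import Groth.Statements.S15750
import Mathlib.Data.Int.ConditionallyCompleteOrder
import Mathlib.RingTheory.LaurentSeries
import Mathlib.Tactic.LinearCombination
import Mathlib.Tactic.Push

set_option autoImplicit false
universe u
open CAlg

namespace Groth.Agent.S15750

/-- Let R be a nonzero reduced commutative ring with no idempotents other than 0 and 1. Then every unit
of the Laurent series ring R((t)) is t^n · u for a unique integer n and a unique unit u of the power
series ring R[[t]]. (The published statement is for an arbitrary torus T over a reduced ring R, with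
n replaced by a locally constant integer-valued function on Spec R, i.e. a point of the cocharacter
lattice; this row is the case where T is the multiplicative group and Spec R is connected, to which
the published proof reduces.) -/
theorem result (R : Type u) [CommRing R]
    [IsReduced R] [Nontrivial R] (hconn : ∀ e : R, IsIdempotentElem e → e = 0 ∨ e = 1)
    (f : (LaurentSeries R)ˣ) :
    ∃! p : ℤ × (PowerSeries R)ˣ,
      (f : LaurentSeries R) = HahnSeries.single p.1 (1 : R) * HahnSeries.ofPowerSeries ℤ R (p.2 : PowerSeries R) := by
  classical
  set F : LaurentSeries R := (f : LaurentSeries R) with hF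
  set G : LaurentSeries R := ((f⁻¹ : (LaurentSeries R)ˣ) : LaurentSeries R) with hG
  have hFG : F * G = 1 := f.mul_inv
  have hzero : ∀ (k : ℕ) (i j : ℤ), i + j < F.order + G.order + k → i + j < 0 → F.coeff i * G.coeff j = 0 := by
    intro k
    induction k with
    | zero =>
      intro i j h _
      by_contra hne
      have h1 := HahnSeries.order_le_of_coeff_ne_zero (left_ne_zero_of_mul hne)
      have h2 := HahnSeries.order_le_of_coeff_ne_zero (right_ne_zero_of_mul hne)
      push_cast at h
      omega
    | succ k ih =>
      intro i j h hneg
      by_cases hk : i + j < F.order + G.order + k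
      · exact ih i j hk hneg
      · push_cast at h
        have h0 : (F * G).coeff (i + j) = 0 := by
          rw [hFG, HahnSeries.coeff_one, if_neg (by omega)]
        rw [HahnSeries.coeff_mul] at h0
        apply IsReduced.eq_zero _ ⟨2, ?_⟩
        have h1 := congrArg (fun z ↦ F.coeff i * G.coeff j * z) h0
        simp only [Finset.mul_sum, mul_zero] at h1
        rw [Finset.sum_eq_single (i, j)] at h1
        · rw [sq]; exact h1
        · rintro ⟨a, b⟩ hab hne
          have hab' : a + b = i + j := (Finset.mem_addAntidiagonal.mp hab).2.2
          rcases lt_trichotomy a i with hlt | heq | hgt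
          · have := ih a j (by omega) (by omega)
            linear_combination G.coeff b * F.coeff i * this
          · exact absurd (Prod.ext heq (by omega)) hne
          · have := ih i b (by omega) (by omega)
            linear_combination G.coeff j * F.coeff a * this
        · intro hnm
          simp only [Finset.mem_addAntidiagonal, not_and, HahnSeries.mem_support] at hnm
          by_contra hne
          exact hnm (fun h0 ↦ hne (by simp [h0])) (fun h0 ↦ hne (by simp [h0])) trivial
  have hz : ∀ i j : ℤ, i + j < 0 → F.coeff i * G.coeff j = 0 := fun i j h ↦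
    hzero (i + j - F.order - G.order + 1).toNat i j (by omega) h
  obtain ⟨n, hn⟩ : ∃ n : ℤ, F.coeff n * G.coeff (-n) = 1 := by
    by_contra! hne
    have hsum : (F * G).coeff 0 = 1 := by rw [hFG, HahnSeries.coeff_one, if_pos rfl]
    rw [HahnSeries.coeff_mul] at hsum
    refine one_ne_zero (hsum.symm.trans (Finset.sum_eq_zero fun ⟨a, b⟩ hab ↦ ?_))
    obtain ⟨ha, hb, hab'⟩ := Finset.mem_addAntidiagonal.mp hab
    have hb' : b = -a := by omega
    subst hb'
    refine (hconn (F.coeff a * G.coeff (-a)) ?_).resolve_right (hne a)
    have h1 := congrArg (fun z ↦ F.coeff a * G.coeff (-a) * z) hsum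
    simp only [Finset.mul_sum, mul_one] at h1
    rw [Finset.sum_eq_single (a, -a)] at h1
    · exact h1
    · rintro ⟨c, e⟩ hce hne'
      have hce' : c + e = 0 := (Finset.mem_addAntidiagonal.mp hce).2.2
      rcases lt_trichotomy c a with hlt | heq | hgt
      · have := hz c (-a) (by omega)
        linear_combination G.coeff e * F.coeff a * this
      · exact absurd (Prod.ext heq (by omega)) hne'
      · have := hz a e (by omega)
        linear_combination G.coeff (-a) * F.coeff c * this
    · exact fun h ↦ absurd hab h
  have hlow : ∀ i < n, F.coeff i = 0 := fun i hi ↦ by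
    have := hz i (-n) (by omega)
    calc F.coeff i = F.coeff i * (F.coeff n * G.coeff (-n)) := by rw [hn, mul_one]
      _ = 0 := by linear_combination F.coeff n * this
  have hu : IsUnit (PowerSeries.mk fun i ↦ F.coeff (n + i)) := by
    rw [PowerSeries.isUnit_iff_constantCoeff, PowerSeries.constantCoeff_mk, Nat.cast_zero, add_zero]
    exact IsUnit.of_mul_eq_one _ hn
  have hcoe : ∀ (u : PowerSeries R) (m i : ℤ), (HahnSeries.single m (1 : R) * HahnSeries.ofPowerSeries ℤ R u).coeff i =
      if m ≤ i then PowerSeries.coeff (i - m).toNat u else 0 := by
    intro u m i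
    rw [HahnSeries.coeff_single_mul, one_mul]
    split_ifs with h
    · obtain ⟨l, hl⟩ := Int.le.dest h
      rw [show i - m = ((l : ℕ) : ℤ) by omega, Int.toNat_natCast, HahnSeries.ofPowerSeries_apply_coeff]
    · rw [HahnSeries.ofPowerSeries_apply]
      exact HahnSeries.embDomain_of_notMem_range (by
        rintro ⟨l, hl⟩
        replace hl : (l : ℤ) = i - m := hl
        omega)
  refine ⟨(n, hu.unit), ?_, ?_⟩
  · ext i
    rw [hcoe]
    split_ifs with h
    · show F.coeff i = PowerSeries.coeff _ (PowerSeries.mk fun i ↦ F.coeff (n + i))
      rw [PowerSeries.coeff_mk, show n + ((i - n).toNat : ℤ) = i by omega]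
    · exact hlow i (by omega)
  · rintro ⟨m, u⟩ hm
    change F = HahnSeries.single m (1 : R) * HahnSeries.ofPowerSeries ℤ R (u : PowerSeries R) at hm
    have hc : ∀ i, F.coeff i = if m ≤ i then PowerSeries.coeff (i - m).toNat (u : PowerSeries R) else 0 := fun i ↦ by
      rw [hm, hcoe]
    have h1 : n = m := by
      rcases lt_trichotomy n m with h | h | h
      · have := hc n
        rw [if_neg (by omega)] at this
        rw [this, zero_mul] at hn
        exact absurd hn zero_ne_one
      · exact h
      · have := hc m
        rw [if_pos le_rfl, sub_self, Int.toNat_zero, PowerSeries.coeff_zero_eq_constantCoeff, hlow m h] at this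
        exact absurd (this ▸ (PowerSeries.isUnit_iff_constantCoeff.mp u.isUnit)) not_isUnit_zero
    subst h1
    refine Prod.ext rfl (Units.ext ?_)
    ext l
    show _ = PowerSeries.coeff l (PowerSeries.mk fun i ↦ F.coeff (n + i))
    rw [PowerSeries.coeff_mk, hc, if_pos (by omega), show (n + (l : ℤ) - n).toNat = l by omega]

end Groth.Agent.S15750
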