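import Groth.Statements.S19779
import Groth.Agent.H3CAlg.DenseLocInst

set_option autoImplicit false
universe u
open Polynomial TensorProduct
open CAlg

namespace Groth.Agent.S19779

/-- For general linear groups, in the case R{t}[1/t] → R((t)), let R be a commutative ring, B = R{t} a
henselization of R[t] along (t), ψ : B → R[[t]] the R[t]-algebra map, L = B[1/t], and L' an
L-algebra identified with R((t)) compatibly with ψ. Then base change along L → L' is a bijection on
isomorphism classes of finitely generated projective modules: two finitely generated projective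
L-modules isomorphic over L' are isomorphic, and every finitely generated projective L'-module is
extended from one over L. (The published statement is the bijection H¹(R{t}[1/t], G) ≅ H¹(R((t)), G)
for every quasi-affine smooth group G; this row is the case of the general linear groups, stated for
finitely generated projective modules of arbitrary rank.) -/
theorem result (R : Type u) [CommRing R]
    (B : Type u) [CommRing B] [Algebra R[X] B] (hB : Hens2.IsPairHenselization R[X] (Ideal.span {(X : R[X])}) B)
    (ψ : B →ₐ[R[X]] PowerSeries R)
    (L' : Type u) [CommRing L'] [Algebra (Localization.Away (algebraMap R[X] B X)) L'] (e : L' ≃+* LaurentSeries R)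
    (he : ∀ b : B, e (algebraMap (Localization.Away (algebraMap R[X] B X)) L' (algebraMap B (Localization.Away (algebraMap R[X] B X)) b)) =
      HahnSeries.ofPowerSeries ℤ R (ψ b)) :
    (∀ (M N : Type u) [AddCommGroup M] [Module (Localization.Away (algebraMap R[X] B X)) M] [Module.Finite (Localization.Away (algebraMap R[X] B X)) M] [Module.Projective (Localization.Away (algebraMap R[X] B X)) M]
        [AddCommGroup N] [Module (Localization.Away (algebraMap R[X] B X)) N] [Module.Finite (Localization.Away (algebraMap R[X] B X)) N] [Module.Projective (Localization.Away (algebraMap R[X] B X)) N],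
        Nonempty (L' ⊗[Localization.Away (algebraMap R[X] B X)] M ≃ₗ[L'] L' ⊗[Localization.Away (algebraMap R[X] B X)] N) → Nonempty (M ≃ₗ[Localization.Away (algebraMap R[X] B X)] N)) ∧
    (∀ (M' : Type u) [AddCommGroup M'] [Module L' M'] [Module.Finite L' M'] [Module.Projective L' M'],
        ∃ (M : Type u) (_ : AddCommGroup M) (_ : Module (Localization.Away (algebraMap R[X] B X)) M),
          Module.Finite (Localization.Away (algebraMap R[X] B X)) M ∧ Module.Projective (Localization.Away (algebraMap R[X] B X)) M ∧
          Nonempty (L' ⊗[Localization.Away (algebraMap R[X] B X)] M ≃ₗ[L'] M')) := by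
  classical
  haveI hH : HenselianRing B (Ideal.span {(algebraMap R[X] B X)}) := by
    have := hB.1
    rwa [Ideal.map_span, Set.image_singleton] at this
  have hψ : ∀ p : R[X], ψ (algebraMap R[X] B p) = (p : PowerSeries R) := fun p => by
    rw [AlgHom.commutes]; rfl
  have D := Groth.Agent.H3CAlg.DenseLocInst.data_powerSeries (algebraMap B (Localization.Away (algebraMap R[X] B X))) (algebraMap R[X] B X)
    (algebraMap (Localization.Away (algebraMap R[X] B X)) L') e ψ.toRingHom (algebraMap R[X] B) hψ ((hψ X).trans Polynomial.coe_X) he
    (IsLocalization.Away.algebraMap_isUnit (algebraMap R[X] B X))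
    (fun s => by
      obtain ⟨n, x, hx⟩ := IsLocalization.Away.surj (algebraMap R[X] B X) s
      exact ⟨n, x, by rw [mul_comm]; exact hx⟩)
    (fun x k h => Groth.Agent.H3CAlg.DenseLocInst.dvd_of_dvd_henselization hB ψ hψ x k h)
    (HenselianRing.jac (I := Ideal.span {(algebraMap R[X] B X)}) (Ideal.mem_span_singleton_self (algebraMap R[X] B X)))
  refine ⟨fun M N _ _ _ _ _ _ _ _ ⟨φ⟩ => Groth.Agent.H3CAlg.DenseLoc.nonempty_equiv D φ, fun M' _ _ _ _ => ?_⟩
  exact Groth.Agent.H3CAlg.DenseLoc.exists_projective D M'

end Groth.Agent.S19779
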