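import Groth.Statements.S15753
import Groth.Agent.S19779
import Groth.Agent.H3CAlg.HenselLaurentPic
-- import your own Groth.Agent.* helpers here

set_option autoImplicit false
universe u
open Polynomial TensorProduct
open CAlg

set_option maxHeartbeats 1000000

namespace Groth.Agent.S15753

theorem aux {R : Type u} [CommRing R] [HenselianLocalRing R] {B : Type u} [CommRing B]
    [Algebra R B] [Algebra R[X] B] [IsScalarTower R R[X] B]
    (hB : Hens2.IsPairHenselization R[X] (Ideal.span {(X : R[X])}) B)
    {L : Type u} [CommRing L] [Algebra B L] [Algebra R L] [IsScalarTower R B L]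
    [IsLocalization.Away (algebraMap R[X] B X) L] [Nontrivial L]
    (ψ : R[X] →ₐ[R] L) (hψ : ψ X * algebraMap B L (algebraMap R[X] B X) = 1)
    (L' : Type u) [CommRing L'] [Algebra L L'] [Algebra R[X] L']
    (htower : algebraMap R[X] L' = (algebraMap L L').comp ψ.toRingHom)
    (hinj : ∀ (M N : Type u) [AddCommGroup M] [Module L M] [Module.Finite L M] [Module.Projective L M]
        [AddCommGroup N] [Module L N] [Module.Finite L N] [Module.Projective L N],
        Nonempty (L' ⊗[L] M ≃ₗ[L'] L' ⊗[L] N) → Nonempty (M ≃ₗ[L] N))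
    (hsurj : ∀ (M' : Type u) [AddCommGroup M'] [Module L' M'] [Module.Finite L' M'] [Module.Projective L' M'],
        ∃ (M : Type u) (_ : AddCommGroup M) (_ : Module L M),
          Module.Finite L M ∧ Module.Projective L M ∧ Nonempty (L' ⊗[L] M ≃ₗ[L'] M')) :
    (∀ (M : Type u) [AddCommGroup M] [Module R[X] M] [Module.Invertible R[X] M],
        Module.Free L' (L' ⊗[R[X]] M) → Module.Free R[X] M) ∧
    (∀ (Li : Type u) [AddCommGroup Li] [Module L' Li] [Module.Invertible L' Li],
        ∃ (M : Type u) (_ : AddCommGroup M) (_ : Module R[X] M), Module.Invertible R[X] M ∧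
          Nonempty (Li ≃ₗ[L'] L' ⊗[R[X]] M)) := by
  letI : Algebra R[X] L := ψ.toRingHom.toAlgebra
  haveI : IsScalarTower R[X] L L' := IsScalarTower.of_algebraMap_eq' htower
  refine ⟨fun M _ _ _ hfree => ?_, fun Li _ _ _ => ?_⟩
  · haveI : Module.Free L (L ⊗[R[X]] M) := by
      obtain ⟨e⟩ := Module.Invertible.free_iff_linearEquiv.1 hfree
      obtain ⟨e'⟩ := hinj (L ⊗[R[X]] M) L ⟨((TensorProduct.AlgebraTensorModule.cancelBaseChange R[X] L
        L' L' M).trans e).trans
          (TensorProduct.AlgebraTensorModule.rid L L' L').symm⟩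
      exact Module.Free.of_equiv e'.symm
    exact H3CAlg.HenselLaurentPic.free_of_free hB ψ hψ rfl M
  · obtain ⟨N, _, _, _, _, ⟨e⟩⟩ := hsurj Li
    obtain ⟨N', _, _, _, _, ⟨e'⟩⟩ := hsurj (Module.Dual L' Li)
    obtain ⟨φ⟩ := hinj (N ⊗[L] N') L ⟨(TensorProduct.AlgebraTensorModule.distribBaseChange L L' N N').trans
      (((TensorProduct.congr e e').trans ((TensorProduct.comm _ _ _).trans
        (Module.Invertible.linearEquiv L' Li))).trans
          (TensorProduct.AlgebraTensorModule.rid L L' L').symm)⟩
    haveI : Module.Invertible L N := Module.Invertible.left φ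
    obtain ⟨M, _, _, hM, ⟨f⟩⟩ := H3CAlg.HenselLaurentPic.exists_of_invertible hB ψ hψ rfl N
    exact ⟨M, inferInstance, inferInstance, hM, ⟨e.symm.trans
      ((TensorProduct.AlgebraTensorModule.congr (LinearEquiv.refl L' L') f).trans
        (TensorProduct.AlgebraTensorModule.cancelBaseChange R[X] L L' L' M))⟩⟩



/-- Let R be a Henselian local ring and regard R((t)) as an R[s]-algebra through s ↦ t⁻¹. Then the
pullback map Pic(R[t⁻¹]) → Pic(R((t))) is bijective: an invertible R[s]-module that becomes free
over R((t)) is free, and every invertible R((t))-module is extended from an invertible R[s]-module.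
(The published statement is the chain of three bijections Pic(R[t⁻¹]) ≅ Pic((R[t]_{1+tR[t]})[1/t]) ≅
Pic(R{t}[1/t]) ≅ Pic(R((t))), each induced by pullback; this row states the composite.) -/
theorem result (R : Type u) [CommRing R]
    [HenselianLocalRing R] [Algebra R[X] (LaurentSeries R)]
    (halg : algebraMap R[X] (LaurentSeries R) =
      Polynomial.eval₂RingHom (HahnSeries.C) (HahnSeries.single (-1 : ℤ) (1 : R))) :
    (∀ (M : Type u) [AddCommGroup M] [Module R[X] M] [Module.Invertible R[X] M],
        Module.Free (LaurentSeries R) (LaurentSeries R ⊗[R[X]] M) → Module.Free R[X] M) ∧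
    (∀ (L : Type u) [AddCommGroup L] [Module (LaurentSeries R) L] [Module.Invertible (LaurentSeries R) L],
        ∃ (M : Type u) (_ : AddCommGroup M) (_ : Module R[X] M), Module.Invertible R[X] M ∧
          Nonempty (L ≃ₗ[LaurentSeries R] LaurentSeries R ⊗[R[X]] M)) := by
  classical
  obtain ⟨B, _, _, π, -, hB⟩ := H9Hens.exists_isPairHenselization (A := R[X]) (Ideal.span {(X : R[X])})
  letI : Algebra R B := ((algebraMap R[X] B).comp (algebraMap R R[X])).toAlgebra
  haveI : IsScalarTower R R[X] B := IsScalarTower.of_algebraMap_eq' rfl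
  obtain ⟨g, hg, -⟩ := hB.2 (PowerSeries R) (Ideal.span {PowerSeries.X}) Polynomial.coeToPowerSeries.ringHom
    inferInstance (by rw [Ideal.map_span, Set.image_singleton]; exact le_of_eq (by simp))
  let ψB : B →ₐ[R[X]] PowerSeries R := AlgHom.mk g (fun p => RingHom.congr_fun hg p)
  let t : B := algebraMap R[X] B X
  let L := Localization.Away t
  haveI : IsScalarTower R B L := inferInstance
  have htL : IsUnit (algebraMap B L t) := IsLocalization.Away.algebraMap_isUnit t
  let ψ : R[X] →ₐ[R] L := Polynomial.aeval (htL.unit⁻¹ : Lˣ).1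
  have hψ : ψ X * algebraMap B L t = 1 := by
    show Polynomial.aeval (htL.unit⁻¹ : Lˣ).1 X * _ = 1
    rw [aeval_X]; exact htL.val_inv_mul
  let F : B →+* LaurentSeries R := (HahnSeries.ofPowerSeries ℤ R).comp ψB.toRingHom
  have hFt : F t = HahnSeries.single (1 : ℤ) (1 : R) := by
    show HahnSeries.ofPowerSeries ℤ R (ψB (algebraMap R[X] B X)) = _
    rw [ψB.commutes]
    show HahnSeries.ofPowerSeries ℤ R ((X : R[X]) : PowerSeries R) = _
    rw [Polynomial.coe_X, HahnSeries.ofPowerSeries_X]
  have hFu : IsUnit (F t) := by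
    rw [hFt]; exact IsUnit.of_mul_eq_one (HahnSeries.single (-1 : ℤ) (1 : R)) (by simp)
  let j : L →+* LaurentSeries R := IsLocalization.Away.lift t hFu
  have hjB : ∀ b, j (algebraMap B L b) = F b := fun b => IsLocalization.Away.lift_eq _ hFu b
  letI : Algebra L (LaurentSeries R) := j.toAlgebra
  haveI : Nontrivial L := j.domain_nontrivial
  have htower : algebraMap R[X] (LaurentSeries R) = j.comp ψ.toRingHom := by
    rw [halg]
    refine Polynomial.ringHom_ext (fun a => ?_) ?_
    · show Polynomial.eval₂ _ _ (C a) = j (ψ (C a))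
      rw [eval₂_C, ← Polynomial.algebraMap_eq, ψ.commutes]
      show _ = j (algebraMap B L (algebraMap R[X] B (algebraMap R R[X] a)))
      rw [hjB]
      show _ = HahnSeries.ofPowerSeries ℤ R (ψB (algebraMap R[X] B (algebraMap R R[X] a)))
      rw [ψB.commutes]
      show _ = HahnSeries.ofPowerSeries ℤ R ((C a : R[X]) : PowerSeries R)
      rw [Polynomial.coe_C, HahnSeries.ofPowerSeries_C]
    · show Polynomial.eval₂ _ _ X = j (ψ X)
      rw [eval₂_X]
      have h1 := congrArg j hψ
      rw [map_mul, map_one, hjB, hFt] at h1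
      calc HahnSeries.single (-1 : ℤ) (1 : R)
          = (j (ψ X) * HahnSeries.single (1 : ℤ) (1 : R)) * HahnSeries.single (-1 : ℤ) (1 : R) := by
            rw [h1, one_mul]
        _ = j (ψ X) := by rw [mul_assoc]; simp
  obtain ⟨hinj, hsurj⟩ := Groth.Agent.S19779.result R B hB ψB (LaurentSeries R) (RingEquiv.refl _)
    (fun b => hjB b)
  exact aux hB ψ hψ (LaurentSeries R) htower hinj hsurj

end Groth.Agent.S15753
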