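import Groth.Statements.S15752
import Groth.Agent.H3CAlg.HenselWeierstrass

set_option autoImplicit false
universe u
open Polynomial
open CAlg

namespace Groth.Agent.S15752

/-- Let R be a Henselian local ring with maximal ideal m and let B be a henselization of R[t] along (t).
Every f ∈ B outside mB factors as f = P · u for a unique pair (P, u) with P ∈ R[t] monic whose
non-leading coefficients lie in m and u a unit of B; moreover the natural map R[t]/(P) → B/(f) is
bijective, stated as: every element of B is congruent to (the image of) a polynomial modulo f, and a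
polynomial whose image lies in fB lies in P·R[t]. -/
theorem result (R : Type u) [CommRing R]
    [HenselianLocalRing R] (B : Type u) [CommRing B] [Algebra R B] [Algebra R[X] B]
    [IsScalarTower R R[X] B] (hB : Hens2.IsPairHenselization R[X] (Ideal.span {(X : R[X])}) B)
    (f : B) (hf : f ∉ (IsLocalRing.maximalIdeal R).map (algebraMap R B)) :
    (∃! Pu : R[X] × Bˣ, Pu.1.Monic ∧ (∀ i : ℕ, i < Pu.1.natDegree → Pu.1.coeff i ∈ IsLocalRing.maximalIdeal R) ∧
        f = algebraMap R[X] B Pu.1 * (Pu.2 : B)) ∧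
    (∀ (P : R[X]) (u : Bˣ), P.Monic → (∀ i : ℕ, i < P.natDegree → P.coeff i ∈ IsLocalRing.maximalIdeal R) →
        f = algebraMap R[X] B P * (u : B) →
      (∀ b : B, ∃ q : R[X], algebraMap R[X] B q - b ∈ Ideal.span {f}) ∧
      (∀ q : R[X], algebraMap R[X] B q ∈ Ideal.span {f} → q ∈ Ideal.span {P})) := by
  classical
  set m := IsLocalRing.maximalIdeal R with hm
  have hmB : m.map (algebraMap R B) = (m.map (C : R →+* R[X])).map (algebraMap R[X] B) := by
    rw [Ideal.map_map, ← Polynomial.algebraMap_eq, ← IsScalarTower.algebraMap_eq R R[X] B]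
  have hdiv : ∀ (P : R[X]) (u : Bˣ), P.Monic → (∀ i : ℕ, i < P.natDegree → P.coeff i ∈ m) →
      f = algebraMap R[X] B P * (u : B) →
      (∀ b : B, ∃ q : R[X], algebraMap R[X] B q - b ∈ Ideal.span {f}) ∧
      (∀ q : R[X], algebraMap R[X] B q ∈ Ideal.span {f} → q ∈ Ideal.span {P}) := by
    intro P u hP hPc hfP
    rw [hfP, Ideal.span_singleton_mul_right_unit u.isUnit]
    exact Groth.Agent.H3CAlg.HenselWeierstrass.division hB P hP hPc
  refine ⟨?_, hdiv⟩
  obtain ⟨d, c, hc, u, hfu⟩ := Groth.Agent.H3CAlg.HenselWeierstrass.exists_monic hB f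
    (fun h => hf (by rw [hmB]; exact h))
  let P : R[X] := X ^ d - ∑ i : Fin d, C (c i) * X ^ (i : ℕ)
  have hdeg : (∑ i : Fin d, C (c i) * X ^ (i : ℕ)).degree < (d : WithBot ℕ) :=
    Polynomial.degree_sum_fin_lt _
  have hP : P.Monic := monic_X_pow_sub hdeg
  have hPc : ∀ i, i < P.natDegree → P.coeff i ∈ m := by
    intro i hi
    have hPd : P.natDegree ≤ d := by
      refine natDegree_le_iff_degree_le.mpr ((degree_sub_le _ _).trans (max_le ?_ hdeg.le))
      exact degree_X_pow_le d
    simp only [P, coeff_sub, coeff_X_pow, if_neg (show i ≠ d by omega), zero_sub, finsetSum_coeff,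
      coeff_C_mul_X_pow]
    refine neg_mem (sum_mem fun j _ => ?_)
    split_ifs
    · exact hc j
    · exact zero_mem _
  refine ⟨(P, u), ⟨hP, hPc, hfu⟩, ?_⟩
  rintro ⟨P', u'⟩ ⟨hP', hPc', hfu'⟩
  have h1 : P' ∈ Ideal.span {P} := (hdiv P u hP hPc hfu).2 P' (Ideal.mem_span_singleton'.mpr
    ⟨((u'⁻¹ : Bˣ) : B), by rw [hfu', mul_left_comm, u'.inv_mul, mul_one]⟩)
  have h2 : P ∈ Ideal.span {P'} := (hdiv P' u' hP' hPc' hfu').2 P (Ideal.mem_span_singleton'.mpr
    ⟨((u⁻¹ : Bˣ) : B), by rw [hfu, mul_left_comm, u.inv_mul, mul_one]⟩)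
  obtain ⟨a, ha⟩ := Ideal.mem_span_singleton.mp h1
  obtain ⟨b, hb⟩ := Ideal.mem_span_singleton.mp h2
  have hle : P'.natDegree ≤ P.natDegree := by
    have hb0 : b ≠ 0 := by
      rintro rfl
      exact hP.ne_zero (by rw [hb, mul_zero])
    rw [hb, hP'.natDegree_mul' hb0]
    exact Nat.le_add_right _ _
  have hPP : P' = P :=
    (Polynomial.eq_of_monic_of_dvd_of_natDegree_le hP hP' ⟨a, ha⟩ hle)
  subst hPP
  refine Prod.ext rfl (Units.ext ?_)
  refine Groth.Agent.H3CAlg.HenselWeierstrass.isSMulRegular_of_monic hB _ hP ?_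
  simp only [Algebra.smul_def]
  exact hfu'.symm.trans hfu

end Groth.Agent.S15752
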