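import Groth.Statements.S15754
import Groth.Agent.H3CAlg.Horrocks.Apply

set_option autoImplicit false
universe u
open TensorProduct
open CAlg

namespace Groth.Agent.S15754

/-- For an arbitrary commutative ring R, non-isomorphic finitely generated projective R-modules cannot
become isomorphic over the Laurent series ring R((t)): for an R-algebra L that is R-isomorphic to
R((t)), if L ⊗_R M ≅ L ⊗_R N as L-modules then M ≅ N. (L is R((t)) up to an R-algebra isomorphism;
it is kept abstract only so that the L-module structure on L ⊗_R M elaborates.) -/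
theorem result (R : Type u) [CommRing R]
    (L : Type u) [CommRing L] [Algebra R L] (eL : L ≃ₐ[R] LaurentSeries R)
    (M N : Type u) [AddCommGroup M] [Module R M] [Module.Finite R M] [Module.Projective R M]
    [AddCommGroup N] [Module R N] [Module.Finite R N] [Module.Projective R N]
    (e : L ⊗[R] M ≃ₗ[L] L ⊗[R] N) :
    Nonempty (M ≃ₗ[R] N) := by
  classical
  obtain ⟨q, π, s, π', s', hs, hs'⟩ := Groth.Agent.H3CAlg.Horrocks.exists_idem (A := R) M N
  obtain ⟨u, v, huv, hvu⟩ := Groth.Agent.H3CAlg.Horrocks.exists_matrices hs hs' e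
  refine Groth.Agent.H3CAlg.Horrocks.nonempty_linearEquiv_of_idemEquiv hs hs' ?_
  have hC : ∀ r : R, eL (algebraMap R L r) = HahnSeries.C r := fun r => by
    rw [eL.commutes]; first | (rw [HahnSeries.algebraMap_apply]; rfl) | simp [HahnSeries.algebraMap_apply'] | (ext n; simp [HahnSeries.C_apply])
  refine Groth.Agent.H3CAlg.Horrocks.idemEquiv_of_laurentSeries (Groth.Agent.H3CAlg.Horrocks.toMatrix'_idem hs)
    (Groth.Agent.H3CAlg.Horrocks.toMatrix'_idem hs') (u.map eL.toRingEquiv.toRingHom) (v.map eL.toRingEquiv.toRingHom) ?_ ?_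
  · rw [← Matrix.map_mul, huv, Matrix.map_map]; ext1 i j; exact hC _
  · rw [← Matrix.map_mul, hvu, Matrix.map_map]; ext1 i j; exact hC _

end Groth.Agent.S15754
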