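import Groth.Statements.S15755
import Groth.Agent.H9Popescu.Popescu
import Groth.Agent.H9Hens.Newton
import Groth.Agent.H3CAlg.AlgFPColim
-- import your own Groth.Agent.* helpers here

set_option autoImplicit false
universe u
open CategoryTheory CategoryTheory.Limits
open CAlg

set_option linter.deprecated false

namespace Groth.Agent.S15755

/-- Let (A, I) be a Henselian pair with A Noetherian whose map to the I-adic completion Â is a regular
ring homomorphism, and let F be a set-valued functor on commutative A-algebras preserving filtered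
colimits. Then F(A) → F(Â) is injective, and an element of F(A/I) is in the image of F(A) if and
only if it is in the image of F(Â) under the canonical A-algebra map Â → A/I. -/
theorem result (A : Type u) [CommRing A]
    [IsNoetherianRing A] (I : Ideal A) [HenselianRing A I]
    (hreg : CAlg.IsRegularHom A (AdicCompletion I A))
    (F : CommAlgCat.{u} A ⥤ Type u) [PreservesFilteredColimitsOfSize.{u, u} F] :
    Function.Injective (F.map (CommAlgCat.ofHom (Algebra.ofId A (AdicCompletion I A)))) ∧
    ∀ xbar : F.obj (CommAlgCat.of A (A ⧸ I)),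
      (∃ x : F.obj (CommAlgCat.of A A), F.map (CommAlgCat.ofHom (Ideal.Quotient.mkₐ A I)) x = xbar) ↔
      (∃ y : F.obj (CommAlgCat.of A (AdicCompletion I A)),
        F.map (CommAlgCat.ofHom (AdicCompletion.evalOneₐ I)) y = xbar) := by
  haveI : IsNoetherianRing (AdicCompletion I A) := H05EGA4.isNoetherianRing_adicCompletion A I
  have hpop : Smoothing.IndSmooth A (AdicCompletion I A) := H9Popescu.popescu hreg
  have hsec : ∀ (B : Type u) [CommRing B] [Algebra A B], Algebra.FinitePresentation A B →
      ∀ g : B →ₐ[A] AdicCompletion I A, ∃ s : B →ₐ[A] A,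
        (Ideal.Quotient.mkₐ A I).comp s = (AdicCompletion.evalOneₐ I).comp g := by
    intro B _ _ hB g
    obtain ⟨C, _, _, hC, e, h, rfl⟩ := hpop B hB g
    haveI := hC
    obtain ⟨τ, hτ⟩ := H9Hens.exists_algHom_lift_smooth ((AdicCompletion.evalOneₐ I).comp h)
    exact ⟨τ.comp e, by rw [← AlgHom.comp_assoc, hτ, AlgHom.comp_assoc]⟩
  refine ⟨fun x x' hx => ?_, fun xbar => ⟨?_, ?_⟩⟩
  · obtain ⟨C, _, _, hC, e, g, he, hee⟩ :=
      H3CAlg.AlgFPColim.exists_eq F (Algebra.ofId A (AdicCompletion I A)) x x' hx
    obtain ⟨s, -⟩ := hsec C hC g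
    have hse : s.comp e = AlgHom.id A A := Subsingleton.elim _ _
    have h1 := congrArg (F.map (CommAlgCat.ofHom s)) hee
    rwa [← FunctorToTypes.map_comp_apply, ← FunctorToTypes.map_comp_apply, ← CommAlgCat.ofHom_comp, hse,
      CommAlgCat.ofHom_id, FunctorToTypes.map_id_apply, FunctorToTypes.map_id_apply] at h1
  · rintro ⟨x, rfl⟩
    refine ⟨F.map (CommAlgCat.ofHom (Algebra.ofId A (AdicCompletion I A))) x, ?_⟩
    rw [← FunctorToTypes.map_comp_apply, ← CommAlgCat.ofHom_comp]
    congr 4
  · rintro ⟨y, rfl⟩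
    obtain ⟨B, _, _, hB, g, z, rfl⟩ := H3CAlg.AlgFPColim.exists_factor F y
    obtain ⟨s, hs⟩ := hsec B hB g
    refine ⟨F.map (CommAlgCat.ofHom s) z, ?_⟩
    rw [← FunctorToTypes.map_comp_apply, ← FunctorToTypes.map_comp_apply, ← CommAlgCat.ofHom_comp,
      ← CommAlgCat.ofHom_comp, hs]

end Groth.Agent.S15755
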