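import Groth.Statements.S15756
import Groth.Agent.H3CAlg.ElkikPrincipal
-- import your own Groth.Agent.* helpers here

set_option autoImplicit false
universe u
open CAlg

namespace Groth.Agent.S15756

/-- Case of the whole affine base U = Spec A, the unit ideal I = A and an affine scheme X: let A be a
ring with an element t such that (A, tA) is a Henselian pair and the t-power torsion of A is
bounded, let Â be the t-adic completion, and let B be an A-algebra of finite type with B[1/t] smooth
over A[1/t]. Then every A-algebra homomorphism B → Â is congruent modulo t^n, for any prescribed n,
to an A-algebra homomorphism B → A. (The published statement allows any quasi-compact open U of Spec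
A containing Spec A[1/t], any bounded Zariski Gabber–Ramero triple (A, t, I) that is Henselian (or,
instead, satisfies a lifting condition for Zariski pairs over A[1/t]), and U-schemes locally of
finite type that are ind-quasi-affine or subprojective and smooth over A[1/t], and it asserts
density of X(U) in X(U_Â) for the (t, I)-adic topology; this row is the case U = Spec A, I = A, X =
Spec B affine, under the Henselian alternative.) -/
theorem result (A : Type u) [CommRing A] (t : A)
    [HenselianRing A (Ideal.span {t})]
    (hbd : ∃ N : ℕ, ∀ a : A, (∃ m : ℕ, t ^ m * a = 0) → t ^ N * a = 0)
    (B : Type u) [CommRing B] [Algebra A B] [Algebra.FiniteType A B]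
    (hsm : Algebra.Smooth (Localization.Away t)
      (Localization (Algebra.algebraMapSubmonoid B (Submonoid.powers t))))
    (n : ℕ) (σ : B →ₐ[A] AdicCompletion (Ideal.span {t}) A) :
    ∃ τ : B →ₐ[A] A,
      (Ideal.Quotient.mkₐ A (Ideal.span {t} ^ n)).comp τ =
        (AdicCompletion.evalₐ (Ideal.span {t}) n).comp σ := by
  obtain ⟨N, hN⟩ := hbd
  exact H3CAlg.ElkikPrincipal.main t hN (T := Localization.Away t)
    (BT := Localization (Algebra.algebraMapSubmonoid B (Submonoid.powers t))) hsm n σ

end Groth.Agent.S15756
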