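import Groth.Statements.S15759
import Groth.Agent.H3CAlg.DenseLocInst

set_option autoImplicit false
universe u
open Polynomial TensorProduct
open CAlg

namespace Groth.Agent.S15759

/-- Let R be a ring, L = R(t) the localisation of R[t] at the monoid generated by t and the polynomials
with constant term 1 (that is, (R[t]_{1+tR[t]})[1/t]), and L' an L-algebra identified with R((t))
compatibly with R[t] → R((t)). Then (b) finitely generated projective L-modules that become
isomorphic over L' are isomorphic, and (c) every stably free L'-module is the base change of a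
stably free L-module. -/
theorem result (R : Type u) [CommRing R]
    (L : Type u) [CommRing L] [Algebra R[X] L]
    [IsLocalization (Submonoid.closure ({f : R[X] | f.coeff 0 = 1} ∪ {X})) L]
    (L' : Type u) [CommRing L'] [Algebra L L'] (e : L' ≃+* LaurentSeries R)
    (he : ∀ p : R[X], e (algebraMap L L' (algebraMap R[X] L p)) =
      HahnSeries.ofPowerSeries ℤ R (Polynomial.coeToPowerSeries.ringHom p)) :
    (∀ (M N : Type u) [AddCommGroup M] [Module L M] [Module.Finite L M] [Module.Projective L M]
        [AddCommGroup N] [Module L N] [Module.Finite L N] [Module.Projective L N],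
        Nonempty (L' ⊗[L] M ≃ₗ[L'] L' ⊗[L] N) → Nonempty (M ≃ₗ[L] N)) ∧
    (∀ (M' : Type u) [AddCommGroup M'] [Module L' M'] [Module.Finite L' M'],
        (∃ n m : ℕ, Nonempty ((M' × (Fin n → L')) ≃ₗ[L'] (Fin m → L'))) →
        ∃ (M : Type u) (_ : AddCommGroup M) (_ : Module L M), Module.Finite L M ∧
          (∃ n m : ℕ, Nonempty ((M × (Fin n → L)) ≃ₗ[L] (Fin m → L))) ∧
          Nonempty (L' ⊗[L] M ≃ₗ[L'] M')) := by
  classical
  let G : Submonoid R[X] := Submonoid.closure {f : R[X] | f.coeff 0 = 1}
  have hG : ∀ f ∈ G, f.coeff 0 = 1 := fun f hf => by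
    induction hf using Submonoid.closure_induction with
    | mem x hx => exact hx
    | one => simp
    | mul x y _ _ hx hy => rw [Polynomial.mul_coeff_zero, hx, hy, one_mul]
  let A := Localization G
  have hGL : ∀ g : G, IsUnit (algebraMap R[X] L g) := fun g =>
    IsLocalization.map_units L (⟨g.1, Submonoid.closure_mono Set.subset_union_left g.2⟩ :
      Submonoid.closure ({f : R[X] | f.coeff 0 = 1} ∪ {X}))
  let a : A →+* L := IsLocalization.lift hGL
  have ha : ∀ p, a (algebraMap R[X] A p) = algebraMap R[X] L p := fun p => IsLocalization.lift_eq hGL p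
  have hGP : ∀ g : G, IsUnit (Polynomial.coeToPowerSeries.ringHom (g : R[X]) : PowerSeries R) := fun g => by
    rw [PowerSeries.isUnit_iff_constantCoeff, Polynomial.coeToPowerSeries.ringHom_apply,
      ← PowerSeries.coeff_zero_eq_constantCoeff_apply, Polynomial.coeff_coe, hG _ g.2]
    exact isUnit_one
  let ψ : A →+* PowerSeries R := IsLocalization.lift hGP
  have hψ : ∀ p, ψ (algebraMap R[X] A p) = (p : PowerSeries R) := fun p =>
    (IsLocalization.lift_eq hGP p).trans Polynomial.coeToPowerSeries.ringHom_apply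
  have he' : ∀ x, e (algebraMap L L' (a x)) = HahnSeries.ofPowerSeries ℤ R (ψ x) := fun x => by
    have : (e.toRingHom.comp ((algebraMap L L').comp a)) = (HahnSeries.ofPowerSeries ℤ R).comp ψ :=
      IsLocalization.ringHom_ext G (RingHom.ext fun p => by
        simp only [RingHom.comp_apply, RingEquiv.toRingHom_eq_coe, RingEquiv.coe_toRingHom, ha, he, hψ,
          Polynomial.coeToPowerSeries.ringHom_apply])
    exact RingHom.congr_fun this x
  have hunit : IsUnit (a (algebraMap R[X] A X)) := by
    rw [ha]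
    exact IsLocalization.map_units L (⟨X, Submonoid.subset_closure (Or.inr rfl)⟩ :
      Submonoid.closure ({f : R[X] | f.coeff 0 = 1} ∪ {X}))
  have hsplit : ∀ m ∈ Submonoid.closure ({f : R[X] | f.coeff 0 = 1} ∪ {X}), ∃ j : ℕ, ∃ g ∈ G, m = X ^ j * g := fun m hm => by
    induction hm using Submonoid.closure_induction with
    | mem x hx =>
      rcases hx with hx | rfl
      · exact ⟨0, x, Submonoid.subset_closure hx, by rw [pow_zero, one_mul]⟩
      · exact ⟨1, 1, one_mem _, by rw [pow_one, mul_one]⟩
    | one => exact ⟨0, 1, one_mem _, by simp⟩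
    | mul x y _ _ hx hy =>
      obtain ⟨j, g, hg, rfl⟩ := hx
      obtain ⟨j', g', hg', rfl⟩ := hy
      exact ⟨j + j', g * g', mul_mem hg hg', by rw [pow_add]; ring⟩
  have D := Groth.Agent.H3CAlg.DenseLocInst.data_powerSeries a (algebraMap R[X] A X) (algebraMap L L') e ψ
    (algebraMap R[X] A) hψ ((hψ X).trans Polynomial.coe_X) he' hunit
    (fun s => by
      obtain ⟨⟨p, m, hm⟩, hs⟩ := IsLocalization.surj (Submonoid.closure ({f : R[X] | f.coeff 0 = 1} ∪ {X})) s
      obtain ⟨j, g, hg, rfl⟩ := hsplit m hm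
      refine ⟨j, IsLocalization.mk' A p (⟨g, hg⟩ : G), ?_⟩
      apply (hGL ⟨g, hg⟩).mul_left_cancel
      rw [← ha g, ← map_mul a (algebraMap R[X] A g) (IsLocalization.mk' A p ⟨g, hg⟩), IsLocalization.mk'_spec' A p ⟨g, hg⟩,
        ← map_pow, ← map_pow, ha, ha, ha, ← mul_assoc, ← map_mul, mul_comm g, mul_comm]
      exact hs)
    (fun x k h => by
      obtain ⟨p, g, rfl⟩ := IsLocalization.exists_mk'_eq G x
      have h2 : PowerSeries.X ^ k ∣ (p : PowerSeries R) := by
        rw [← hψ, ← IsLocalization.mk'_spec A p g, map_mul]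
        exact dvd_mul_of_dvd_left h _
      have h3 : X ^ k ∣ p := Polynomial.X_pow_dvd_iff.mpr fun m hm => by
        rw [← Polynomial.coeff_coe]; exact PowerSeries.X_pow_dvd_iff.mp h2 m hm
      obtain ⟨q, rfl⟩ := h3
      exact ⟨IsLocalization.mk' A q g, by rw [← map_pow, IsLocalization.mul_mk'_eq_mk'_of_mul]⟩)
    (Ideal.mem_jacobson_bot.mpr fun y => by
      obtain ⟨p, g, rfl⟩ := IsLocalization.exists_mk'_eq G y
      have hmem : X * p + (g : R[X]) ∈ G := Submonoid.subset_closure (show Polynomial.coeff (X * p + (g : R[X])) 0 = 1 by simp [Polynomial.coeff_add, Polynomial.mul_coeff_zero, hG _ g.2])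
      have h := IsLocalization.map_units A (⟨_, hmem⟩ : G)
      have h2 : algebraMap R[X] A (X * p + (g : R[X])) =
          (algebraMap R[X] A X * IsLocalization.mk' A p g + 1) * algebraMap R[X] A g := by
        rw [add_mul, one_mul, mul_assoc, IsLocalization.mk'_spec, map_add, map_mul]
      rw [show ((⟨X * p + (g : R[X]), hmem⟩ : G) : R[X]) = X * p + (g : R[X]) from rfl, h2] at h
      exact isUnit_of_mul_isUnit_left h)
  refine ⟨fun M N _ _ _ _ _ _ _ _ ⟨φ⟩ => Groth.Agent.H3CAlg.DenseLoc.nonempty_equiv D φ, fun M' _ _ _ ⟨n, m, ⟨e'⟩⟩ => ?_⟩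
  exact Groth.Agent.H3CAlg.DenseLoc.exists_stablyFree D e'

end Groth.Agent.S15759
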