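import Groth.Statements.S1576
import Groth.Agent.H11Aff.WeakAssIff
import Groth.Agent.H10Coh.FinType2

set_option autoImplicit false
universe u
open CategoryTheory CategoryTheory.Limits AlgebraicGeometry
open Divisors

namespace Groth.Agent.S1576

/-- Let X be locally Noetherian and F coherent. Then the associated points of F lying in any
quasi-compact open subset form a finite set. -/
theorem result (X : Scheme.{u}) [IsLocallyNoetherian X]
    (F : X.Modules) (hF : Coh.IsCoh F) (U : X.Opens) (hU : IsCompact (U : Set X)) :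
    {x : X | x ∈ U ∧ Curv2.IsAssPoint F x}.Finite := by
  classical
  obtain ⟨S, hS, hSeq⟩ := isCompact_iff_finite_and_eq_biUnion_affineOpens.1 hU
  refine Set.Finite.subset (hS.biUnion fun V hV => ?_)
    (fun x hx => ?_ : {x : X | x ∈ U ∧ Curv2.IsAssPoint F x} ⊆ ⋃ V ∈ S, {x | x ∈ V.1 ∧ Curv2.IsAssPoint F x})
  · haveI : Module.Finite Γ(X, V.1) Γ(F, V.1) := ((H10Coh.isCoh_iff_finite_sections F).1 hF).2 V.1 V.2
    haveI : IsNoetherianRing Γ(X, V.1) := IsLocallyNoetherian.component_noetherian V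
    let π : {x : X | x ∈ V.1 ∧ Curv2.IsAssPoint F x} → Ideal Γ(X, V.1) :=
      fun x => (V.2.primeIdealOf ⟨x.1, x.2.1⟩).asIdeal
    have hinj : Function.Injective π := fun a b hab => by
      have h := congrArg V.2.fromSpec (PrimeSpectrum.ext hab)
      rw [V.2.fromSpec_primeIdealOf, V.2.fromSpec_primeIdealOf] at h
      exact Subtype.ext h
    have hmem : ∀ x, π x ∈ associatedPrimes Γ(X, V.1) Γ(F, V.1) := fun x => by
      obtain ⟨s, hs⟩ := H11Aff.exists_radical_eq_of_isWeakAssPoint F hF.1 V.2 ⟨x.1, x.2.1⟩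
        (IsNoetherian.noetherian _) ((H11Aff.isWeakAssPoint_iff_isAssPoint F x.1).1 x.2.2)
      refine ⟨(V.2.primeIdealOf ⟨x.1, x.2.1⟩).isPrime, s, hs.symm.trans (congrArg Ideal.radical ?_)⟩
      ext a
      rw [Submodule.mem_colon_singleton, Submodule.mem_bot]
      exact H29Blow.mem_secAnn F
    haveI := (associatedPrimes.finite Γ(X, V.1) Γ(F, V.1)).to_subtype
    exact Set.finite_coe_iff.1 (Finite.of_injective
      (fun x => (⟨π x, hmem x⟩ : associatedPrimes Γ(X, V.1) Γ(F, V.1)))
      fun a b hab => hinj (congrArg Subtype.val hab))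
  · have hxU : x ∈ (U : X.Opens) := hx.1
    rw [hSeq] at hxU
    obtain ⟨V, hV, hxV⟩ : ∃ V ∈ S, x ∈ (V : X.affineOpens).1 := by simpa [TopologicalSpace.Opens.mem_iSup] using hxU
    exact Set.mem_biUnion hV ⟨hxV, hx.2⟩

end Groth.Agent.S1576
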