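import Groth.Statements.S15765
import Mathlib.AlgebraicGeometry.QuasiAffine
import Mathlib.Topology.Algebra.Ring.Basic

set_option autoImplicit false
universe u
open CategoryTheory AlgebraicGeometry
open CAlg

namespace Groth.Agent.S15765

/-- Let B be a topological ring in which the units form an open subset, B₀ → B a ring map with dense
image and X a quasi-affine scheme over B₀. Then the image of any B-point Spec B → X over B₀ is
contained in an affine open of X. (The published statement allows X ind-quasi-affine, i.e. with all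
quasi-compact opens quasi-affine; since a B-point lands in a quasi-compact open, this row's
quasi-affine case carries the content.) -/
theorem result (B : Type u) [CommRing B] [TopologicalSpace B]
    [IsTopologicalRing B] (hB : IsOpen {b : B | IsUnit b})
    (B₀ : Type u) [CommRing B₀] (φ : B₀ →+* B) (hφ : DenseRange φ)
    (X : Scheme.{u}) [X.IsQuasiAffine] (p : X ⟶ Spec (CommRingCat.of B₀))
    (f : Spec (CommRingCat.of B) ⟶ X) (hf : f ≫ p = Spec.map (CommRingCat.ofHom φ)) :
    ∃ U : X.Opens, IsAffineOpen U ∧ Set.range f.base ⊆ (U : Set X) := by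
  classical
  let g : Γ(X, ⊤) ⟶ CommRingCat.of B := Spec.preimage (f ≫ X.toSpecΓ)
  have hg : Spec.map g = f ≫ X.toSpecΓ := Spec.map_preimage _
  let q : CommRingCat.of B₀ ⟶ Γ(X, ⊤) := (Scheme.ΓSpecIso (CommRingCat.of B₀)).inv ≫ p.appTop
  have hq : p = X.toSpecΓ ≫ Spec.map q := by
    rw [Spec.map_comp, ← Scheme.toSpecΓ_naturality_assoc]
    simp
  have hqg : ∀ c : B₀, g.hom (q.hom c) = φ c := by
    have h1 : Spec.map (q ≫ g) = Spec.map (CommRingCat.ofHom φ) := by
      rw [Spec.map_comp, hg, Category.assoc, ← hq, hf]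
    intro c
    exact congrArg (fun r : CommRingCat.of B₀ ⟶ CommRingCat.of B => r.hom c) (Spec.map_injective h1)
  let G : Set Γ(X, ⊤) := {a | (PrimeSpectrum.basicOpen a : Set (PrimeSpectrum Γ(X, ⊤))) ⊆ Set.range X.toSpecΓ.base}
  have htop : Ideal.span (g.hom '' G) = ⊤ := by
    by_contra hne
    obtain ⟨m, hm, hle⟩ := Ideal.exists_le_maximal _ hne
    let z : Spec (CommRingCat.of B) := (⟨m, hm.isPrime⟩ : PrimeSpectrum B)
    obtain ⟨_, ⟨_, ⟨a, rfl⟩, rfl⟩, hza, haG⟩ := (PrimeSpectrum.isBasis_basic_opens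
      (R := Γ(X, ⊤))).exists_subset_of_mem_open (Set.mem_range_self (f.base z))
        X.toSpecΓ.isOpenEmbedding.isOpen_range
    have hz : g.hom a ∉ m := by
      have h2 : X.toSpecΓ.base (f.base z) = PrimeSpectrum.comap g.hom ⟨m, hm.isPrime⟩ :=
        congrArg (fun r : Spec (CommRingCat.of B) ⟶ Spec Γ(X, ⊤) => r.base z) hg.symm
      intro h
      change X.toSpecΓ.base (f.base z) ∈ PrimeSpectrum.basicOpen a at hza
      rw [h2] at hza
      exact hza h
    exact hz (hle (Ideal.subset_span ⟨a, haG, rfl⟩))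
  obtain ⟨l, hl, hsum⟩ : ∃ l : Γ(X, ⊤) →₀ B, ↑l.support ⊆ G ∧ l.sum (fun a b => b * g.hom a) = 1 := by
    have h1 : (1 : B) ∈ Ideal.span (g.hom '' G) := htop ▸ Submodule.mem_top
    obtain ⟨l, hl, hsum⟩ := (Finsupp.mem_span_image_iff_linearCombination B).mp h1
    exact ⟨l, hl, by simpa [Finsupp.linearCombination_apply] using hsum⟩
  let Φ : (l.support → B) → B := fun v => ∑ a : l.support, v a * g.hom a
  have hΦ : Continuous Φ := continuous_finsetSum _ fun a _ => (continuous_apply a).mul continuous_const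
  have hd : DenseRange (fun (c : l.support → B₀) (a : l.support) => φ (c a)) := DenseRange.piMap fun _ => hφ
  obtain ⟨c, hc⟩ := hd.exists_mem_open (hB.preimage hΦ) ⟨fun a => l a, by
    change IsUnit (∑ a : l.support, l a * g.hom a)
    rw [Finset.sum_coe_sort l.support (fun a => l a * g.hom a)]
    rw [show (∑ i ∈ l.support, l i * g.hom i) = 1 from hsum]
    exact isUnit_one⟩
  let a₀ : Γ(X, ⊤) := ∑ a : l.support, q.hom (c a) * a
  have ha₀ : IsUnit (g.hom a₀) := by
    rw [map_sum]
    simpa [hqg, Φ] using hc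
  refine ⟨X.basicOpen a₀, ?_, ?_⟩
  · rw [← Scheme.toSpecΓ_preimage_basicOpen, ← Scheme.Hom.isAffineOpen_iff_of_isOpenImmersion X.toSpecΓ]
    suffices e : X.toSpecΓ ''ᵁ (X.toSpecΓ ⁻¹ᵁ (PrimeSpectrum.basicOpen a₀ : (Spec Γ(X, ⊤)).Opens)) =
        (PrimeSpectrum.basicOpen a₀ : (Spec Γ(X, ⊤)).Opens) from
      e.symm ▸ IsAffineOpen.Spec_basicOpen a₀
    refine TopologicalSpace.Opens.ext ?_
    change X.toSpecΓ.base '' (X.toSpecΓ.base ⁻¹' (PrimeSpectrum.basicOpen a₀ : Set (PrimeSpectrum Γ(X, ⊤)))) = _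
    refine Set.image_preimage_eq_of_subset ?_
    intro P hP
    by_contra hPr
    refine hP ?_
    have hmem : ∀ a : l.support, (a : Γ(X, ⊤)) ∈ P.asIdeal := fun a => by
      by_contra haP
      exact hPr (hl a.2 haP)
    exact Submodule.sum_mem _ fun a _ => Ideal.mul_mem_left _ _ (hmem a)
  · rintro _ ⟨z, rfl⟩
    rw [← Scheme.toSpecΓ_preimage_basicOpen]
    change X.toSpecΓ.base (f.base z) ∈ PrimeSpectrum.basicOpen a₀
    rw [show X.toSpecΓ.base (f.base z) = PrimeSpectrum.comap g.hom z from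
      congrArg (fun r : Spec (CommRingCat.of B) ⟶ Spec Γ(X, ⊤) => r.base z) hg.symm]
    intro h
    exact (z : PrimeSpectrum B).isPrime.ne_top (Ideal.eq_top_of_isUnit_mem _ h ha₀)

end Groth.Agent.S15765
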