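import Groth.Statements.S15768
import Groth.Agent.H3CAlg.HenselWeierstrass

set_option autoImplicit false
universe u
open Polynomial
open CAlg

namespace Groth.Agent.S15768

/-- For any ring R and a henselization B of R[t] along (t), every idempotent of B[1/t] comes from a
unique idempotent of R under R → R[t] → B → B[1/t]. -/
theorem result (R : Type u) [CommRing R]
    (B : Type u) [CommRing B] [Algebra R[X] B] (hB : Hens2.IsPairHenselization R[X] (Ideal.span {(X : R[X])}) B)
    (e : Localization.Away (algebraMap R[X] B X)) (he : IsIdempotentElem e) :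
    ∃! r : R, IsIdempotentElem r ∧
      algebraMap B (Localization.Away (algebraMap R[X] B X)) (algebraMap R[X] B (Polynomial.C r)) = e := by
  classical
  revert e he
  set x : B := algebraMap R[X] B X with hx
  intro e he
  have hXu : IsUnit (algebraMap B (Localization.Away x) x) :=
    IsLocalization.Away.algebraMap_isUnit x
  have hjac : x ∈ Ideal.jacobson (⊥ : Ideal B) :=
    Groth.Agent.H3CAlg.HenselWeierstrass.X_mem_jacobson hB
  have hinj : ∀ (N : ℕ) (q : R[X]), algebraMap R[X] B q ∈ Ideal.span {x ^ N} → ∀ i < N, q.coeff i = 0 := by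
    intro N q hq i hi
    have h : q ∈ (⊥ : Ideal R[X]) ⊔ Ideal.span {(X : R[X]) ^ N} := by
      rw [← Groth.Agent.H3CAlg.HenselWeierstrass.comap_map_sup _
        (Groth.Agent.H3CAlg.HenselWeierstrass.bijective_pow hB N) ⊥, Ideal.mem_comap, bot_sup_eq,
        Ideal.map_span, Set.image_singleton, map_pow]
      exact hq
    rw [bot_sup_eq, Ideal.mem_span_singleton, X_pow_dvd_iff] at h
    exact h i hi
  -- idempotents with small numerators vanish
  have key : ∀ (e' : Localization.Away x), IsIdempotentElem e' → ∀ (n : ℕ) (ν t : B), IsNilpotent ν →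
      e' * algebraMap B _ x ^ n = algebraMap B _ (ν + x ^ (n + 1) * t) → e' = 0 := by
    intro e' he' n ν t hν h
    have hnil : IsNilpotent (e' * (1 - algebraMap B _ (x * t))) := by
      have h1 : (e' * (1 - algebraMap B _ (x * t))) * algebraMap B _ x ^ n = e' * algebraMap B _ ν := by
        calc (e' * (1 - algebraMap B _ (x * t))) * algebraMap B _ x ^ n
            = e' * algebraMap B _ x ^ n - algebraMap B _ (x * t) * (e' * algebraMap B _ x ^ n) := by ring
          _ = e' * (e' * algebraMap B _ x ^ n) - algebraMap B _ (x * t) * (e' * algebraMap B _ x ^ n) := by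
              rw [← mul_assoc e' e', he'.eq]
          _ = e' * algebraMap B _ ν := by
              rw [h]
              simp only [map_add, map_mul, map_pow]
              have h' := h
              simp only [map_add, map_mul, map_pow] at h'
              linear_combination (algebraMap B _ x * algebraMap B _ t) * h'
      obtain ⟨u, hu⟩ := hXu.pow n
      have h2 : e' * (1 - algebraMap B _ (x * t)) = e' * algebraMap B _ ν * (u⁻¹ : (Localization.Away x)ˣ) := by
        rw [← h1, ← hu, Units.mul_inv_cancel_right]
      rw [h2]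
      exact (Commute.all _ _).isNilpotent_mul_right
        ((Commute.all _ _).isNilpotent_mul_left (hν.map _))
    have hu : IsUnit (1 - algebraMap B (Localization.Away x) (x * t)) := by
      have h1 := (Ideal.mem_jacobson_bot.mp hjac (-t))
      rw [← map_one (algebraMap B (Localization.Away x)), ← map_sub]
      refine IsUnit.map _ ?_
      rwa [mul_neg, neg_add_eq_sub] at h1
    obtain ⟨k, hk⟩ := hnil
    rw [mul_pow, (hu.pow k).mul_left_eq_zero] at hk
    exact he'.eq_zero_of_isNilpotent ⟨k, hk⟩
  -- a numerator
  obtain ⟨n, b, hb, hbb⟩ : ∃ (n : ℕ) (b : B), e * algebraMap B _ x ^ n = algebraMap B _ b ∧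
      b * b = x ^ n * b := by
    obtain ⟨⟨b, ⟨_, n, rfl⟩⟩, h⟩ := IsLocalization.surj (Submonoid.powers x) e
    simp only [map_pow] at h
    have h2 : algebraMap B (Localization.Away x) (b * b) = algebraMap B _ (x ^ n * b) := by
      rw [map_mul, map_mul, map_pow, ← h]
      linear_combination (algebraMap B (Localization.Away x) x ^ n * algebraMap B (Localization.Away x) x ^ n) * he.eq
    obtain ⟨⟨_, s, rfl⟩, hs⟩ := (IsLocalization.eq_iff_exists (Submonoid.powers x) _).mp h2
    refine ⟨n + s, x ^ s * b, ?_, ?_⟩
    · rw [pow_add, map_mul, map_pow, ← h]; ring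
    · simp only at hs
      linear_combination (x ^ s) * hs
  obtain ⟨c, t, hct⟩ := Groth.Agent.H3CAlg.HenselWeierstrass.exists_poly_mod_pow
    (Groth.Agent.H3CAlg.HenselWeierstrass.surjective_one hB) (2 * n + 1) b
  let p : R[X] := ∑ i : Fin (2 * n + 1), C (c i) * X ^ (i : ℕ)
  have hp : b = algebraMap R[X] B p + x ^ (2 * n + 1) * t := by
    rw [hct]
    simp only [p, map_sum, map_mul, map_pow, ← hx]
  have hcoef : ∀ i < 2 * n + 1, (p * p).coeff i = (X ^ n * p).coeff i := by
    intro i hi
    have h : (p * p - X ^ n * p).coeff i = 0 := by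
      refine hinj _ _ ?_ i hi
      rw [Ideal.mem_span_singleton']
      refine ⟨x ^ n * t - t * (2 * algebraMap R[X] B p + x ^ (2 * n + 1) * t), ?_⟩
      rw [hp] at hbb
      rw [map_sub, map_mul, map_mul, map_pow, ← hx]
      linear_combination -hbb
    rwa [coeff_sub, sub_eq_zero] at h
  -- the coefficients below `n` are nilpotent
  have hnilc : ∀ j, j < n → IsNilpotent (p.coeff j) := by
    intro j
    induction j using Nat.strong_induction_on with
    | _ j ih =>
      intro hj
      have h := hcoef (2 * j) (by omega)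
      rw [coeff_X_pow_mul'] at h
      have hr : IsNilpotent ((X ^ n * p).coeff (2 * j)) := by
        rw [coeff_X_pow_mul']
        split_ifs with hn
        · exact ih _ (by omega) (by omega)
        · exact IsNilpotent.zero
      rw [coeff_X_pow_mul'] at hr
      rw [← h, coeff_mul, ← Finset.add_sum_erase _ _ (show (j, j) ∈ Finset.HasAntidiagonal.antidiagonal (2 * j) by
        rw [Finset.HasAntidiagonal.mem_antidiagonal]; omega)] at hr
      have hrest : IsNilpotent (∑ ab ∈ (Finset.HasAntidiagonal.antidiagonal (2 * j)).erase (j, j),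
          p.coeff ab.1 * p.coeff ab.2) := by
        refine isNilpotent_sum fun ab hab => ?_
        rw [Finset.mem_erase, Finset.HasAntidiagonal.mem_antidiagonal, Ne, Prod.ext_iff] at hab
        rcases lt_or_ge ab.1 j with h1 | h1
        · exact (Commute.all _ _).isNilpotent_mul_right (ih _ h1 (by omega))
        · exact (Commute.all _ _).isNilpotent_mul_left (ih ab.2 (by omega) (by omega))
      have h2 : IsNilpotent (p.coeff j * p.coeff j) := by
        have := (Commute.all _ _).isNilpotent_sub hr hrest
        simpa using this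
      obtain ⟨k, hk⟩ := h2
      exact ⟨2 * k, by rw [pow_mul, sq, hk]⟩
  have hidem : IsNilpotent (p.coeff n * p.coeff n - p.coeff n) := by
    have h := hcoef (2 * n) (by omega)
    rw [coeff_X_pow_mul', if_pos (by omega), show 2 * n - n = n by omega, coeff_mul,
      ← Finset.add_sum_erase _ _ (show (n, n) ∈ Finset.HasAntidiagonal.antidiagonal (2 * n) by
        rw [Finset.HasAntidiagonal.mem_antidiagonal]; omega)] at h
    have hrest : IsNilpotent (∑ ab ∈ (Finset.HasAntidiagonal.antidiagonal (2 * n)).erase (n, n),
        p.coeff ab.1 * p.coeff ab.2) := by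
      refine isNilpotent_sum fun ab hab => ?_
      rw [Finset.mem_erase, Finset.HasAntidiagonal.mem_antidiagonal, Ne, Prod.ext_iff] at hab
      rcases lt_or_ge ab.1 n with h1 | h1
      · exact (Commute.all _ _).isNilpotent_mul_right (hnilc _ h1)
      · exact (Commute.all _ _).isNilpotent_mul_left (hnilc ab.2 (by omega))
    have : p.coeff n * p.coeff n - p.coeff n = -(∑ ab ∈ (Finset.HasAntidiagonal.antidiagonal (2 * n)).erase (n, n),
        p.coeff ab.1 * p.coeff ab.2) := by linear_combination h
    rw [this]
    exact hrest.neg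
  obtain ⟨r, hr, hrn⟩ : ∃ r : R, IsIdempotentElem r ∧ IsNilpotent (r - p.coeff n) := by
    obtain ⟨r, hr, hrq⟩ := exists_isIdempotentElem_eq_of_ker_isNilpotent
      (Ideal.Quotient.mk (nilradical R)) (fun z hz => by rwa [Ideal.mk_ker, mem_nilradical] at hz)
      (Ideal.Quotient.mk (nilradical R) (p.coeff n)) ⟨_, rfl⟩ (by
        rw [IsIdempotentElem, ← map_mul, Ideal.Quotient.eq, mem_nilradical]
        exact hidem)
    exact ⟨r, hr, mem_nilradical.mp (Ideal.Quotient.eq.mp hrq)⟩
  -- nilpotent part
  have hsplit : ∀ q : R[X], (∀ j ≤ n, IsNilpotent (q.coeff j)) →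
      ∃ ν t : B, IsNilpotent ν ∧ algebraMap R[X] B q = ν + x ^ (n + 1) * t := by
    intro q hq
    obtain ⟨v, hv⟩ : X ^ (n + 1) ∣ q - ∑ j ∈ Finset.range (n + 1), C (q.coeff j) * X ^ j := by
      rw [X_pow_dvd_iff]
      intro i hi
      simp [coeff_sub, finsetSum_coeff, Nat.lt_succ_iff.mp hi]
    refine ⟨algebraMap R[X] B (∑ j ∈ Finset.range (n + 1), C (q.coeff j) * X ^ j), algebraMap R[X] B v, ?_, ?_⟩
    · refine IsNilpotent.map (isNilpotent_sum fun j hj => ?_) _
      exact (Commute.all _ _).isNilpotent_mul_right ((hq j (by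
        simpa [Nat.lt_succ_iff] using hj)).map C)
    · rw [← map_pow, ← map_mul, ← hv, ← map_add, add_sub_cancel]
  set rB : Localization.Away x := algebraMap B _ (algebraMap R[X] B (C r)) with hrB
  have hrBi : IsIdempotentElem rB := ((hr.map C).map (algebraMap R[X] B)).map _
  have hxN : x ^ (2 * n + 1) = x ^ (n + 1) * x ^ n := by rw [← pow_add]; congr 1; omega
  have h1 : e * (1 - rB) = 0 := by
    obtain ⟨ν, t', hν, hνt⟩ := hsplit (p * C (1 - r)) (fun j hj => by
      rw [coeff_mul_C]
      rcases hj.lt_or_eq with hj | hj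
      · exact (Commute.all _ _).isNilpotent_mul_right (hnilc j hj)
      · subst hj
        have : p.coeff j * (1 - r) = -(r - p.coeff j) * (1 - r) := by
          linear_combination (-1 : R) * hr.eq
        rw [this]
        exact (Commute.all _ _).isNilpotent_mul_right hrn.neg)
    refine key _ (he.mul hrBi.one_sub) n ν (t' + x ^ n * t * algebraMap R[X] B (C (1 - r))) hν ?_
    rw [show e * (1 - rB) * algebraMap B _ x ^ n = (e * algebraMap B _ x ^ n) * (1 - rB) by ring, hb, hrB,
      ← map_one (algebraMap B (Localization.Away x)), ← map_sub, ← map_mul]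
    congr 1
    rw [hp, hxN]
    simp only [map_mul, map_sub, map_one] at hνt
    simp only [map_sub, map_one]
    linear_combination hνt
  have h2 : rB * (1 - e) = 0 := by
    obtain ⟨ν, t', hν, hνt⟩ := hsplit ((X ^ n - p) * C r) (fun j hj => by
      rw [coeff_mul_C, coeff_sub, coeff_X_pow]
      rcases hj.lt_or_eq with hj | hj
      · rw [if_neg hj.ne, zero_sub]
        exact (Commute.all _ _).isNilpotent_mul_right (hnilc j hj).neg
      · subst hj
        rw [if_pos rfl]
        have : (1 - p.coeff j) * r = (r - p.coeff j) * r := by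
          linear_combination (-1 : R) * hr.eq
        rw [this]
        exact (Commute.all _ _).isNilpotent_mul_right hrn)
    refine key _ (hrBi.mul he.one_sub) n ν (t' - x ^ n * t * algebraMap R[X] B (C r)) hν ?_
    rw [show rB * (1 - e) * algebraMap B _ x ^ n = rB * (algebraMap B _ x ^ n - e * algebraMap B _ x ^ n) by ring,
      hb, hrB, ← map_pow, ← map_sub, ← map_mul]
    congr 1
    rw [hp, hxN]
    rw [map_mul, map_sub, map_pow, ← hx] at hνt
    linear_combination hνt
  refine ⟨r, ⟨hr, ?_⟩, ?_⟩
  · change rB = e
    linear_combination h2 - h1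
  · rintro r' ⟨hr', hr'e⟩
    have h3 : algebraMap B (Localization.Away x) (algebraMap R[X] B (C r')) =
        algebraMap B _ (algebraMap R[X] B (C r)) := by
      rw [hr'e, ← hrB]
      linear_combination h1 - h2
    obtain ⟨⟨_, s, rfl⟩, hs⟩ := (IsLocalization.eq_iff_exists (Submonoid.powers x) _).mp h3
    have h4 := hinj (s + 1) (X ^ s * (C r' - C r)) (by
      rw [map_mul, map_pow, map_sub, mul_sub, ← hx, sub_eq_zero.mpr hs]
      exact zero_mem _) s (Nat.lt_succ_self s)
    rw [coeff_X_pow_mul', if_pos le_rfl, Nat.sub_self, coeff_sub, coeff_C_zero, coeff_C_zero,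
      sub_eq_zero] at h4
    exact h4

end Groth.Agent.S15768
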