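import Groth.Statements.S15769
import Mathlib.AlgebraicGeometry.QuasiAffine
import Mathlib.RingTheory.Spectrum.Prime.Topology

set_option autoImplicit false
universe u
open CategoryTheory AlgebraicGeometry
open CAlg

namespace Groth.Agent.S15769

/-- Case of a quasi-affine X over U = Spec A: let φ : A → A' and t ∈ A be such that A/t^m → A'/t^m is
bijective for every m and φ restricts to a bijection between the t-power-torsion submodules; let X
be a quasi-affine scheme over Spec A. Then sections of X over Spec A correspond bijectively to pairs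
of an A'-point and an A[1/t]-point of X over A that agree over A'[1/t]. (The published statement
allows a flat A-scheme U as base and X either ind-quasi-affine or subprojective over U; this row is
U = Spec A with X quasi-affine.) -/
theorem result (A A' : Type u) [CommRing A] [CommRing A']
    (φ : A →+* A') (t : A)
    (hq : ∀ m : ℕ, Function.Bijective (Ideal.quotientMap (Ideal.map φ (Ideal.span {t} ^ m)) φ Ideal.le_comap_map))
    (htor : ∀ a' : A', (∃ m : ℕ, φ t ^ m * a' = 0) → ∃! a : A, (∃ m : ℕ, t ^ m * a = 0) ∧ φ a = a')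
    (X : Scheme.{u}) [X.IsQuasiAffine] (p : X ⟶ Spec (CommRingCat.of A)) :
    (∀ s₁ s₂ : Spec (CommRingCat.of A) ⟶ X, s₁ ≫ p = 𝟙 _ → s₂ ≫ p = 𝟙 _ →
        Spec.map (CommRingCat.ofHom φ) ≫ s₁ = Spec.map (CommRingCat.ofHom φ) ≫ s₂ →
        Spec.map (CommRingCat.ofHom (algebraMap A (Localization.Away t))) ≫ s₁ =
          Spec.map (CommRingCat.ofHom (algebraMap A (Localization.Away t))) ≫ s₂ →
        s₁ = s₂) ∧
    (∀ (x' : Spec (CommRingCat.of A') ⟶ X) (xt : Spec (CommRingCat.of (Localization.Away t)) ⟶ X),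
        x' ≫ p = Spec.map (CommRingCat.ofHom φ) →
        xt ≫ p = Spec.map (CommRingCat.ofHom (algebraMap A (Localization.Away t))) →
        Spec.map (CommRingCat.ofHom (algebraMap A' (Localization.Away (φ t)))) ≫ x' =
          Spec.map (CommRingCat.ofHom (Localization.awayMap φ t)) ≫ xt →
        ∃ s : Spec (CommRingCat.of A) ⟶ X, s ≫ p = 𝟙 _ ∧
          Spec.map (CommRingCat.ofHom φ) ≫ s = x' ∧
          Spec.map (CommRingCat.ofHom (algebraMap A (Localization.Away t))) ≫ s = xt) := by
  classical
  -- ring-theoretic glueing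
  have hinj0 : ∀ a : A, φ a = 0 → algebraMap A (Localization.Away t) a = 0 → a = 0 := by
    intro a h1 h2
    obtain ⟨⟨_, m, rfl⟩, hm⟩ := (IsLocalization.map_eq_zero_iff (Submonoid.powers t) _ _).mp h2
    exact (htor 0 ⟨0, by rw [mul_zero]⟩).unique ⟨⟨m, hm⟩, h1⟩ ⟨⟨0, by rw [mul_zero]⟩, map_zero φ⟩
  have hex : ∀ (a' : A') (x : Localization.Away t),
      algebraMap A' (Localization.Away (φ t)) a' = Localization.awayMap φ t x →
      ∃ a : A, φ a = a' ∧ algebraMap A (Localization.Away t) a = x := by
    intro a' x hx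
    obtain ⟨⟨b, ⟨_, m, rfl⟩⟩, hbx⟩ := IsLocalization.surj (Submonoid.powers t) x
    change x * algebraMap A (Localization.Away t) (t ^ m) = algebraMap A (Localization.Away t) b at hbx
    have h1 : algebraMap A' (Localization.Away (φ t)) (φ t ^ m * a' - φ b) = 0 := by
      rw [map_sub, map_mul, hx, ← map_pow φ, sub_eq_zero]
      have := congrArg (Localization.awayMap φ t) hbx
      simp only [map_mul, Localization.awayMap, IsLocalization.Away.map, IsLocalization.map_eq] at this ⊢
      rw [← this, mul_comm]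
    obtain ⟨⟨_, N, rfl⟩, hN⟩ := (IsLocalization.map_eq_zero_iff (Submonoid.powers (φ t)) _ _).mp h1
    obtain ⟨c, ⟨⟨n, hn⟩, hc⟩, -⟩ := htor (φ t ^ m * a' - φ b) ⟨N, hN⟩
    have hbc : b + c ∈ Ideal.span {t} ^ m := by
      have : φ (b + c) = φ t ^ m * a' := by rw [map_add, hc, add_sub_cancel]
      have h0 : Ideal.quotientMap (Ideal.map φ (Ideal.span {t} ^ m)) φ Ideal.le_comap_map
          (Ideal.Quotient.mk (Ideal.span {t} ^ m) (b + c)) = 0 := by
        rw [Ideal.quotientMap_mk, Ideal.Quotient.eq_zero_iff_mem, this, ← map_pow φ]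
        exact Ideal.mul_mem_right _ _ (Ideal.mem_map_of_mem φ (Ideal.pow_mem_pow (Ideal.mem_span_singleton_self t) m))
      exact Ideal.Quotient.eq_zero_iff_mem.mp ((hq m).1 (h0.trans (map_zero _).symm))
    rw [Ideal.span_singleton_pow, Ideal.mem_span_singleton] at hbc
    obtain ⟨d, hd⟩ := hbc
    have h2 : φ t ^ m * (a' - φ d) = 0 := by
      rw [mul_sub, ← map_pow φ, ← map_mul, ← hd, map_add, hc, map_pow]
      ring
    obtain ⟨e, ⟨⟨k, hk⟩, he⟩, -⟩ := htor (a' - φ d) ⟨m, h2⟩
    refine ⟨d + e, by rw [map_add, he, add_sub_cancel], ?_⟩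
    have hu : IsUnit (algebraMap A (Localization.Away t) (t ^ m)) :=
      IsLocalization.map_units (Localization.Away t) (⟨t ^ m, m, rfl⟩ : Submonoid.powers t)
    refine hu.mul_left_inj.mp ?_
    rw [hbx, ← map_mul]
    refine (IsLocalization.eq_iff_exists (Submonoid.powers t) _).mpr ⟨⟨t ^ (n + k), n + k, rfl⟩, ?_⟩
    show t ^ (n + k) * ((d + e) * t ^ m) = t ^ (n + k) * b
    calc t ^ (n + k) * ((d + e) * t ^ m)
        = t ^ (n + k) * (t ^ m * d) + t ^ m * t ^ n * (t ^ k * e) := by ring
      _ = t ^ (n + k) * b + t ^ k * (t ^ n * c) := by rw [← hd, hk]; ring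
      _ = _ := by rw [hn]; ring
  -- structure map
  let q : CommRingCat.of A ⟶ Γ(X, ⊤) := (Scheme.ΓSpecIso (CommRingCat.of A)).inv ≫ p.appTop
  have hq' : p = X.toSpecΓ ≫ Spec.map q := by
    rw [Spec.map_comp, ← Scheme.toSpecΓ_naturality_assoc]
    simp
  constructor
  · intro s₁ s₂ h₁ h₂ hA' hAt
    rw [← cancel_mono X.toSpecΓ]
    rw [← Spec.map_preimage (s₁ ≫ X.toSpecΓ), ← Spec.map_preimage (s₂ ≫ X.toSpecΓ)]
    congr 1
    refine CommRingCat.hom_ext (RingHom.ext fun r => ?_)
    rw [← sub_eq_zero]
    refine hinj0 _ ?_ ?_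
    · rw [map_sub, sub_eq_zero]
      have h : Spec.map (Spec.preimage (s₁ ≫ X.toSpecΓ) ≫ CommRingCat.ofHom φ) =
          Spec.map (Spec.preimage (s₂ ≫ X.toSpecΓ) ≫ CommRingCat.ofHom φ) := by
        simp only [Spec.map_comp, Spec.map_preimage, reassoc_of% hA']
      exact congrArg (fun g : Γ(X, ⊤) ⟶ CommRingCat.of A' => g.hom r) (Spec.map_injective h)
    · rw [map_sub, sub_eq_zero]
      have h : Spec.map (Spec.preimage (s₁ ≫ X.toSpecΓ) ≫ CommRingCat.ofHom (algebraMap A (Localization.Away t))) =
          Spec.map (Spec.preimage (s₂ ≫ X.toSpecΓ) ≫ CommRingCat.ofHom (algebraMap A (Localization.Away t))) := by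
        simp only [Spec.map_comp, Spec.map_preimage, reassoc_of% hAt]
      exact congrArg (fun g : Γ(X, ⊤) ⟶ CommRingCat.of (Localization.Away t) => g.hom r) (Spec.map_injective h)
  · intro x' xt hx' hxt hagree
    let g' : Γ(X, ⊤) ⟶ CommRingCat.of A' := Spec.preimage (x' ≫ X.toSpecΓ)
    let gt : Γ(X, ⊤) ⟶ CommRingCat.of (Localization.Away t) := Spec.preimage (xt ≫ X.toSpecΓ)
    have hg' : Spec.map g' = x' ≫ X.toSpecΓ := Spec.map_preimage _
    have hgt : Spec.map gt = xt ≫ X.toSpecΓ := Spec.map_preimage _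
    have hag : ∀ r, algebraMap A' (Localization.Away (φ t)) (g'.hom r) = Localization.awayMap φ t (gt.hom r) := by
      have h : Spec.map (g' ≫ CommRingCat.ofHom (algebraMap A' (Localization.Away (φ t)))) =
          Spec.map (gt ≫ CommRingCat.ofHom (Localization.awayMap φ t)) := by
        simp only [Spec.map_comp, hg', hgt, reassoc_of% hagree]
      exact fun r => congrArg (fun g : Γ(X, ⊤) ⟶ CommRingCat.of (Localization.Away (φ t)) => g.hom r) (Spec.map_injective h)
    choose g hg1 hg2 using fun r => hex _ _ (hag r)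
    have huniq : ∀ a b : A, φ a = φ b → algebraMap A (Localization.Away t) a = algebraMap A _ b → a = b :=
      fun a b h1 h2 => sub_eq_zero.mp (hinj0 _ (by rw [map_sub, h1, sub_self]) (by rw [map_sub, h2, sub_self]))
    let G : Γ(X, ⊤) →+* A :=
      { toFun := g
        map_one' := huniq _ _ (by simp [hg1]) (by simp [hg2])
        map_mul' := fun a b => huniq _ _ (by simp [hg1]) (by simp [hg2])
        map_zero' := huniq _ _ (by simp [hg1]) (by simp [hg2])
        map_add' := fun a b => huniq _ _ (by simp [hg1]) (by simp [hg2]) }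
    have e1 : Spec.map (CommRingCat.ofHom φ) ≫ Spec.map (CommRingCat.ofHom G) = x' ≫ X.toSpecΓ := by
      rw [← Spec.map_comp, ← hg']
      congr 1
      exact CommRingCat.hom_ext (RingHom.ext hg1)
    have e2 : Spec.map (CommRingCat.ofHom (algebraMap A (Localization.Away t))) ≫ Spec.map (CommRingCat.ofHom G) =
        xt ≫ X.toSpecΓ := by
      rw [← Spec.map_comp, ← hgt]
      congr 1
      exact CommRingCat.hom_ext (RingHom.ext hg2)
    have hrange : Set.range (Spec.map (CommRingCat.ofHom G)).base ⊆ Set.range X.toSpecΓ.base := by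
      rintro _ ⟨P, rfl⟩
      by_cases htP : t ∈ (P : PrimeSpectrum A).asIdeal
      · -- the point comes from `A'`
        have hb := hq 1
        let e := RingEquiv.ofBijective _ hb
        have hle : Ideal.span {t} ^ 1 ≤ (P : PrimeSpectrum A).asIdeal := by
          rw [pow_one, Ideal.span_singleton_le_iff_mem]; exact htP
        let ρ : A' →+* A ⧸ (P : PrimeSpectrum A).asIdeal :=
          (Ideal.Quotient.factor hle).comp (e.symm.toRingHom.comp (Ideal.Quotient.mk _))
        have hρ : ∀ a, ρ (φ a) = Ideal.Quotient.mk _ a := fun a => by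
          have : e.symm (Ideal.Quotient.mk _ (φ a)) = Ideal.Quotient.mk (Ideal.span {t} ^ 1) a := by
            apply e.injective
            rw [RingEquiv.apply_symm_apply]
            exact (Ideal.quotientMap_mk (I := Ideal.map φ (Ideal.span {t} ^ 1)) (f := φ) (J := Ideal.span {t} ^ 1) (H := Ideal.le_comap_map) (x := a)).symm
          simp [ρ, this]
        haveI := (P : PrimeSpectrum A).isPrime
        haveI : IsDomain (A ⧸ (P : PrimeSpectrum A).asIdeal) := Ideal.Quotient.isDomain _
        haveI : (RingHom.ker ρ).IsPrime := RingHom.ker_isPrime ρ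
        let P' : Spec (CommRingCat.of A') := (⟨RingHom.ker ρ, inferInstance⟩ : PrimeSpectrum A')
        have hP' : (Spec.map (CommRingCat.ofHom φ)).base P' = P := by
          refine PrimeSpectrum.ext (Ideal.ext fun a => ?_)
          change ρ (φ a) = 0 ↔ _
          rw [hρ, Ideal.Quotient.eq_zero_iff_mem]
        refine ⟨x'.base P', ?_⟩
        rw [← hP', ← Scheme.Hom.comp_apply, ← Scheme.Hom.comp_apply, e1]
      · -- the point comes from `A_t`
        obtain ⟨Q, hQ⟩ : P ∈ Set.range (PrimeSpectrum.comap (algebraMap A (Localization.Away t))) := by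
          rw [PrimeSpectrum.localization_away_comap_range (Localization.Away t) t]
          exact htP
        refine ⟨xt.base Q, ?_⟩
        rw [← hQ]
        exact (congrArg (fun w : Spec (CommRingCat.of (Localization.Away t)) ⟶ Spec Γ(X, ⊤) => w.base Q) e2).symm
    let s := IsOpenImmersion.lift X.toSpecΓ (Spec.map (CommRingCat.ofHom G)) hrange
    have hs : s ≫ X.toSpecΓ = Spec.map (CommRingCat.ofHom G) := IsOpenImmersion.lift_fac _ _ _
    refine ⟨s, ?_, ?_, ?_⟩
    · rw [hq', reassoc_of% hs, ← Spec.map_comp, ← Spec.map_id]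
      congr 1
      refine CommRingCat.hom_ext (RingHom.ext fun a => huniq _ _ ?_ ?_)
      · have h : Spec.map (q ≫ g') = Spec.map (CommRingCat.ofHom φ) := by
          rw [Spec.map_comp, hg', Category.assoc, ← hq', hx']
        exact (hg1 _).trans (congrArg (fun w : CommRingCat.of A ⟶ CommRingCat.of A' => w.hom a) (Spec.map_injective h))
      · have h : Spec.map (q ≫ gt) = Spec.map (CommRingCat.ofHom (algebraMap A (Localization.Away t))) := by
          rw [Spec.map_comp, hgt, Category.assoc, ← hq', hxt]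
        exact (hg2 _).trans (congrArg (fun w : CommRingCat.of A ⟶ CommRingCat.of (Localization.Away t) => w.hom a) (Spec.map_injective h))
    · rw [← cancel_mono X.toSpecΓ, Category.assoc, hs, e1]
    · rw [← cancel_mono X.toSpecΓ, Category.assoc, hs, e2]

end Groth.Agent.S15769
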