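import Groth.Statements.S1707
import Groth.Agent.H29Blow.WeakAssAffine

set_option autoImplicit false
universe u
open CategoryTheory CategoryTheory.Limits AlgebraicGeometry TopologicalSpace
open SDiv

namespace Groth.Agent.S1707

/-- Let X be a scheme, F a quasi-coherent module and x a point of the support of F such that no other
point of the support specializes to x. Then x is weakly associated to F. -/
theorem result (X : Scheme.{u}) (F : X.Modules) (hF : Coh.IsQCoh F) (x : ↥X)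
    (hx : x ∈ CohB1.support F) (hmax : ∀ y : ↥X, y ∈ CohB1.support F → y ⤳ x → y = x) : Curv2.IsWeakAssPoint F x := by
  obtain ⟨V, hV, hxV, -⟩ := exists_isAffineOpen_mem_and_subset (U := (⊤ : X.Opens)) (x := x) trivial
  haveI hnt : Nontrivial (F.presheaf.stalk x) := not_subsingleton_iff_nontrivial.mp hx
  obtain ⟨m, hm⟩ := exists_ne (0 : F.presheaf.stalk x)
  obtain ⟨W, hxW, t₀, rfl⟩ := F.presheaf.germ_exist m
  obtain ⟨V', hV', hxV', hsub⟩ := exists_isAffineOpen_mem_and_subset (U := W) (x := x) hxW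
  let t : Γ(F, V') := F.presheaf.map (homOfLE (show V' ≤ W from hsub)).op t₀
  have ht : F.presheaf.germ V' x hxV' t ≠ 0 := by
    change F.presheaf.germ V' x hxV' (F.presheaf.map _ t₀) ≠ 0
    rwa [F.presheaf.germ_res_apply]
  have hle := (H29Blow.germ_ne_zero_iff F hF hV' ⟨x, hxV'⟩ t).mp ht
  refine H29Blow.isWeakAssPoint_of_minimalPrimes F hF hV' ⟨x, hxV'⟩ t
    ⟨⟨(hV'.primeIdealOf _).isPrime, hle⟩, fun Q hQ hQle => ?_⟩
  obtain ⟨y, hy⟩ := H29Blow.exists_primeIdealOf_eq hV' ⟨Q, hQ.1⟩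
  have hyQ : (hV'.primeIdealOf y).asIdeal = Q := congrArg PrimeSpectrum.asIdeal hy
  have hsupp : y.1 ∈ CohB1.support F := fun hss =>
    (H29Blow.germ_ne_zero_iff F hF hV' y t).mpr (hyQ ▸ hQ.2) (hss.elim _ _)
  have := hmax y.1 hsupp ((H29Blow.primeIdealOf_le_iff hV' y ⟨x, hxV'⟩).mp (hyQ ▸ hQle))
  rw [← hyQ, show y = ⟨x, hxV'⟩ from Subtype.ext this]

end Groth.Agent.S1707
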