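import Groth.Statements.S15770
import Mathlib.Algebra.Algebra.ZMod
import Mathlib.Algebra.Order.Ring.Star
import Mathlib.Data.Int.ConditionallyCompleteOrder
import Mathlib.Data.Int.Star
import Mathlib.Order.CompletePartialOrder
import Mathlib.RingTheory.Flat.EquationalCriterion
import Mathlib.RingTheory.KrullDimension.Regular
import Mathlib.RingTheory.PowerSeries.Trunc
import Mathlib.RingTheory.Regular.Flat
import Mathlib.RingTheory.WittVector.Basic
import Mathlib.Topology.Algebra.Module.ModuleTopology
import Mathlib.Topology.Instances.Matrix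

set_option autoImplicit false
universe u
open CAlg

namespace Groth.Agent.S15770

/-- Let B be a topological ring with Bˣ ⊂ B open and M, M' finitely generated projective B-modules, and
endow Hom_B(M, M') with the module topology (the canonical topology of a finite module). Then the
set of surjective B-linear maps M → M' is open. -/
theorem result (B : Type u) [CommRing B] [TopologicalSpace B]
    [IsTopologicalRing B] (hB : IsOpen {b : B | IsUnit b})
    (M M' : Type u) [AddCommGroup M] [Module B M] [Module.Finite B M] [Module.Projective B M]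
    [AddCommGroup M'] [Module B M'] [Module.Finite B M'] [Module.Projective B M']
    [TopologicalSpace (M →ₗ[B] M')] [IsModuleTopology B (M →ₗ[B] M')] :
    IsOpen {f : M →ₗ[B] M' | Function.Surjective f} := by
  classical
  rw [isOpen_iff_forall_mem_open]
  intro f₀ (hf₀ : Function.Surjective f₀)
  obtain ⟨g, hg⟩ := Module.projective_lifting_property f₀ LinearMap.id hf₀
  obtain ⟨n, π, ι, -, -, hπι⟩ := Module.Finite.exists_comp_eq_id_of_projective B M'
  let F : (M →ₗ[B] M') → Matrix (Fin n) (Fin n) B := fun f =>
    LinearMap.toMatrix' (ι ∘ₗ f ∘ₗ g ∘ₗ π) + LinearMap.toMatrix' (LinearMap.id - ι ∘ₗ π)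
  let L : (M →ₗ[B] M') →ₗ[B] Matrix (Fin n) (Fin n) B :=
    LinearMap.toMatrix'.toLinearMap ∘ₗ LinearMap.compRight B ι ∘ₗ LinearMap.lcomp B M' (g ∘ₗ π)
  have hF : Continuous F := by
    have : Continuous L := IsModuleTopology.continuous_of_linearMap L
    exact this.add continuous_const
  refine ⟨(fun f => (F f).det) ⁻¹' {b | IsUnit b}, ?_, hB.preimage hF.matrix_det, ?_⟩
  · intro f (hf : IsUnit (F f).det) y
    have h := (Matrix.toLin'_apply' (F f)).symm
    obtain ⟨w, hw⟩ := (Matrix.mulVec_surjective_iff_isUnit.mpr ((Matrix.isUnit_iff_isUnit_det _).mpr hf)) (ι y)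
    refine ⟨g (π w), ?_⟩
    have hπ : ∀ z, π (ι z) = z := fun z => LinearMap.congr_fun hπι z
    have hFw : (F f).mulVec w = ι (f (g (π w))) + (w - ι (π w)) := by
      simp only [F, Matrix.add_mulVec, LinearMap.toMatrix'_mulVec, LinearMap.comp_apply, LinearMap.sub_apply, LinearMap.id_apply]
    have := congr(π $(hFw.symm.trans hw))
    simpa [hπ] using this
  · have : F f₀ = 1 := by
      have h1 : ι ∘ₗ f₀ ∘ₗ g ∘ₗ π = ι ∘ₗ π := LinearMap.ext fun z =>
        congrArg ι (LinearMap.congr_fun hg (π z))
      simp only [F, h1, ← map_add, add_sub_cancel, LinearMap.toMatrix'_id]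
    show IsUnit (F f₀).det
    simp [this]

end Groth.Agent.S15770
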