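import Groth.Statements.S15771
import Mathlib.Algebra.Order.Ring.Star
import Mathlib.Combinatorics.Nullstellensatz
import Mathlib.Data.Rat.Star
import Mathlib.FieldTheory.Finite.Basic
import Mathlib.LinearAlgebra.BilinearForm.Properties
import Mathlib.RepresentationTheory.Invariants
import Mathlib.RingTheory.Flat.TorsionFree
import Mathlib.RingTheory.Henselian
import Mathlib.RingTheory.Ideal.AssociatedPrime.Basic
import Mathlib.RingTheory.RegularLocalRing.Defs
import Mathlib.RingTheory.SimpleRing.Principal

set_option autoImplicit false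
universe u
open TensorProduct
open CAlg

namespace Groth.Agent.S15771

/-- For a ring map B₀ → B with dense image into a topological ring B, a finitely generated B₀-module M₀
and any topological B-module structure on M = B ⊗_{B₀} M₀, the natural map M₀ → M has dense image. -/
theorem result (B₀ B : Type u) [CommRing B₀] [CommRing B] [Algebra B₀ B]
    [TopologicalSpace B] [IsTopologicalRing B] (hφ : DenseRange (algebraMap B₀ B))
    (M₀ : Type u) [AddCommGroup M₀] [Module B₀ M₀] [Module.Finite B₀ M₀]
    [TopologicalSpace (B ⊗[B₀] M₀)] [IsTopologicalAddGroup (B ⊗[B₀] M₀)] [ContinuousSMul B (B ⊗[B₀] M₀)] :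
    DenseRange (fun m : M₀ => (1 : B) ⊗ₜ[B₀] m) := by
  let g : M₀ →+ B ⊗[B₀] M₀ := ((TensorProduct.mk B₀ B M₀) 1).toAddMonoidHom
  intro z
  change z ∈ (g.range.topologicalClosure : Set (B ⊗[B₀] M₀))
  induction z using TensorProduct.induction_on with
  | zero => exact zero_mem _
  | add a b ha hb => exact add_mem ha hb
  | tmul b m =>
    have hcont : Continuous fun b : B => b • ((1 : B) ⊗ₜ[B₀] m) := Continuous.smul (f := fun b : B => b) (g := fun _ : B => (1 : B) ⊗ₜ[B₀] m) continuous_id continuous_const
    have hsub : Set.range (fun r : B₀ => algebraMap B₀ B r • ((1 : B) ⊗ₜ[B₀] m)) ⊆ (g.range : Set (B ⊗[B₀] M₀)) := by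
      rintro _ ⟨r, rfl⟩
      exact ⟨r • m, by simp [g, TensorProduct.smul_tmul', Algebra.smul_def]⟩
    have := hcont.range_subset_closure_image_dense hφ ⟨b, rfl⟩
    rw [← Set.range_comp] at this
    have h2 := closure_mono hsub this
    simpa [TensorProduct.smul_tmul'] using h2

end Groth.Agent.S15771
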