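import Groth.Statements.S15774
import Mathlib.Algebra.Order.Ring.Star
import Mathlib.RingTheory.AdicCompletion.Completeness
import Mathlib.RingTheory.Henselian
import Mathlib.RingTheory.Localization.Away.Basic

set_option autoImplicit false
universe u
open CAlg

namespace Groth.Agent.S15774

/-- The instance A[1/t] → Â[1/t]: if (A, tA) is a Henselian pair and the t-power torsion of A is
bounded, then every idempotent of Â[1/t] (Â the t-adic completion) comes from a unique idempotent of
A[1/t]. -/
theorem result (A : Type u) [CommRing A] (t : A) [HenselianRing A (Ideal.span {t})]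
    (hbd : ∃ N : ℕ, ∀ a : A, (∃ m : ℕ, t ^ m * a = 0) → t ^ N * a = 0)
    (e : Localization.Away (algebraMap A (AdicCompletion (Ideal.span {t}) A) t)) (he : IsIdempotentElem e) :
    ∃! e₀ : Localization.Away t, IsIdempotentElem e₀ ∧ Localization.awayMap (algebraMap A (AdicCompletion (Ideal.span {t}) A)) t e₀ = e := by
  set C := AdicCompletion (Ideal.span {t}) A
  let ι : A →+* C := algebraMap A C
  let f := Localization.awayMap ι t
  have hfg : (Ideal.span {t}).FG := ⟨{t}, by simp⟩
  have hmapI : (Ideal.span {t}).map ι = Ideal.span {ι t} := by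
    rw [Ideal.map_span, Set.image_singleton]
  have hcC : IsAdicComplete ((Ideal.span {t}).map ι) C :=
    (IsAdicComplete.map_algebraMap_iff _ _).mpr (AdicCompletion.isAdicComplete hfg)
  have hjacC : ι t ∈ Ideal.jacobson (⊥ : Ideal C) :=
    hcC.le_jacobson_bot _ (hmapI ▸ Ideal.mem_span_singleton_self _)
  have hjacA : t ∈ Ideal.jacobson (⊥ : Ideal A) :=
    HenselianRing.jac (Ideal.mem_span_singleton_self _)
  have hdiv : ∀ (k : ℕ) (x : C), AdicCompletion.evalₐ (Ideal.span {t}) k x = 0 →
      ∃ z : C, x = ι t ^ k * z := by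
    intro k x hx
    have h1 : x ∈ (AdicCompletion.eval (Ideal.span {t}) A k).ker := by
      have hx' := hx
      rw [LinearMap.mem_ker]
      obtain ⟨s, rfl⟩ := AdicCompletion.mk_surjective (Ideal.span {t}) A x
      rw [AdicCompletion.evalₐ_mk, Ideal.Quotient.eq_zero_iff_mem] at hx'
      show Submodule.Quotient.mk (s.val k) = 0
      rw [Submodule.Quotient.mk_eq_zero, smul_eq_mul, Ideal.mul_top]
      exact hx'
    rw [← AdicCompletion.pow_smul_top_eq_ker_eval hfg, Ideal.smul_top_eq_map,
      Submodule.restrictScalars_mem, Ideal.map_pow, hmapI, Ideal.span_singleton_pow,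
      Ideal.mem_span_singleton'] at h1
    obtain ⟨z, hz⟩ := h1
    exact ⟨z, by rw [← hz, mul_comm]⟩
  have hclose : ∀ {R' L : Type u} [CommRing R'] [CommRing L] [Algebra R' L] (s : R'),
      s ∈ Ideal.jacobson (⊥ : Ideal R') → ∀ x y : L, IsIdempotentElem x → IsIdempotentElem y →
      ∀ z : R', x - y = algebraMap R' L (s * z) → x = y := by
    intro R' L _ _ _ s hs x y hx hy z hz
    have hu : IsUnit (algebraMap R' L (1 - (s * z) ^ 2)) := by
      refine IsUnit.map _ ?_
      have := Ideal.mem_jacobson_bot.mp hs (-(s * z ^ 2))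
      rwa [show s * -(s * z ^ 2) + 1 = 1 - (s * z) ^ 2 by ring] at this
    rw [← sub_eq_zero]
    refine hu.mul_left_eq_zero.mp ?_
    rw [map_sub, map_one, map_pow, ← hz]
    linear_combination (-2 * y + 1 - x - (x - y) + (x - y)) * (0 : L) -
      ((x - y) * 1) * (0 : L) + (-1 + 3 * y - x) * hx.eq + (1 - 3 * x + y) * hy.eq
  -- write `e` as a fraction with an exact equation
  obtain ⟨n, a, ha⟩ := IsLocalization.Away.surj (ι t) e
  have hea : algebraMap C (Localization.Away (ι t)) (a * a) =
      algebraMap C (Localization.Away (ι t)) (ι t ^ n * a) := by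
    rw [map_mul, map_mul, map_pow, ← ha]
    linear_combination (algebraMap C (Localization.Away (ι t)) (ι t)) ^ (2 * n) * he.eq
  obtain ⟨M, hM⟩ := IsLocalization.Away.exists_of_eq (ι t) hea
  let m := n + M
  let a' := ι t ^ M * a
  have ha' : e * algebraMap C (Localization.Away (ι t)) (ι t) ^ m =
      algebraMap C (Localization.Away (ι t)) a' := by
    rw [map_mul, map_pow, ← ha]; simp only [m]; ring
  have heq : a' * a' = ι t ^ m * a' := by
    simp only [a', m]
    linear_combination (ι t ^ M) * hM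
  -- approximate
  obtain ⟨b, hb⟩ := Ideal.Quotient.mk_surjective
    (AdicCompletion.evalₐ (Ideal.span {t}) (3 * m + 1) a')
  obtain ⟨z₁, hz₁⟩ := hdiv (3 * m + 1) (a' - ι b) (by
    show AdicCompletion.evalₐ _ _ (a' - algebraMap A C b) = 0
    rw [map_sub, AlgHom.commutes, Ideal.Quotient.algebraMap_eq, hb, sub_self])
  have hh : b * b - t ^ m * b ∈ Ideal.span {t ^ (3 * m + 1)} := by
    have hval : ∀ x : A, AdicCompletion.evalₐ (Ideal.span {t}) (3 * m + 1) (ι x) =
        Ideal.Quotient.mk _ x := fun x ↦ by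
      show AdicCompletion.evalₐ _ _ (algebraMap A C x) = _
      rw [AlgHom.commutes]; rfl
    have h1 : Ideal.Quotient.mk (Ideal.span {t} ^ (3 * m + 1)) b *
        Ideal.Quotient.mk _ b = Ideal.Quotient.mk _ (t ^ m) * Ideal.Quotient.mk _ b := by
      rw [← hval (t ^ m), map_pow ι, hb, ← map_mul, ← map_mul, heq]
    rw [← map_mul, ← map_mul, Ideal.Quotient.eq, Ideal.span_singleton_pow] at h1
    exact h1
  obtain ⟨c, hc⟩ := Ideal.mem_span_singleton'.mp hh
  let ε : A := c * t ^ (m + 1)
  have hu : IsUnit (1 + 4 * ε) := by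
    have := Ideal.mem_jacobson_bot.mp hjacA (4 * (c * t ^ m))
    rwa [show t * (4 * (c * t ^ m)) + 1 = 1 + 4 * ε by simp only [ε]; ring] at this
  obtain ⟨u, hu'⟩ := hu.exists_left_inv
  have hεI : ε * u ∈ Ideal.span {t} := Ideal.mem_span_singleton'.mpr
    ⟨c * t ^ m * u, by simp only [ε]; ring⟩
  have hmonic : (Polynomial.X ^ 2 + Polynomial.X + Polynomial.C (ε * u) : Polynomial A).Monic := by
    rw [add_assoc]
    refine Polynomial.monic_X_pow_add ?_
    refine (Polynomial.degree_add_le _ _).trans_lt (max_lt ?_ ?_)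
    · exact Polynomial.degree_X_le.trans_lt (by norm_num)
    · exact Polynomial.degree_C_le.trans_lt (by norm_num)
  obtain ⟨w, hw, hwI⟩ := HenselianRing.is_henselian (I := Ideal.span {t}) _ hmonic 0
    (by simpa using hεI) (by simp [Polynomial.derivative_pow])
  simp only [Polynomial.IsRoot, Polynomial.eval_add, Polynomial.eval_pow, Polynomial.eval_X,
    Polynomial.eval_C] at hw
  rw [sub_zero] at hwI
  obtain ⟨v, hv⟩ : IsUnit (1 + w) := by
    obtain ⟨w', hw'⟩ := Ideal.mem_span_singleton'.mp hwI
    have := Ideal.mem_jacobson_bot.mp hjacA w'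
    rwa [mul_comm, hw', add_comm] at this
  have hwval : w = (-(c * u) * ↑v⁻¹) * t ^ (m + 1) := by
    refine v.mul_left_inj.mp ?_
    rw [show -(c * u) * ↑v⁻¹ * t ^ (m + 1) * (v : A) = -(c * u) * t ^ (m + 1) * (↑v⁻¹ * (v : A)) by ring,
      Units.inv_mul, mul_one, hv]
    simp only [ε] at hw
    linear_combination hw
  let b' := b + (2 * b - t ^ m) * w
  have hb' : b' * b' = t ^ m * b' := by
    simp only [b']
    have h4 : (2 * b - t ^ m) ^ 2 = 4 * (c * t ^ (3 * m + 1)) + t ^ (2 * m) := by
      rw [hc]; ring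
    have h5 : ε + (1 + 4 * ε) * (w ^ 2 + w) = 0 := by
      linear_combination (1 + 4 * ε) * hw + (-ε) * hu'
    rw [← sub_eq_zero]
    have : (b + (2 * b - t ^ m) * w) * (b + (2 * b - t ^ m) * w) -
        t ^ m * (b + (2 * b - t ^ m) * w) = t ^ (2 * m) * (ε + (1 + 4 * ε) * (w ^ 2 + w)) := by
      simp only [ε]
      linear_combination (w ^ 2 + w) * h4 - hc
    rw [this, h5, mul_zero]
  have htu : IsUnit ((algebraMap A (Localization.Away t)) t ^ m) :=
    (IsLocalization.Away.algebraMap_isUnit t).pow m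
  obtain ⟨T, hT⟩ := htu.exists_left_inv
  let e₀ : Localization.Away t := algebraMap A _ b' * T
  have he₀ : IsIdempotentElem e₀ := by
    show algebraMap A _ b' * T * (algebraMap A _ b' * T) = algebraMap A _ b' * T
    have := congrArg (algebraMap A (Localization.Away t)) hb'
    rw [map_mul, map_mul, map_pow] at this
    linear_combination T * T * this + algebraMap A _ b' * T * hT
  have hfalg : ∀ x : A, f (algebraMap A (Localization.Away t) x) =
      algebraMap C (Localization.Away (ι t)) (ι x) := fun x ↦ IsLocalization.map_eq _ x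
  have htCu : IsUnit (algebraMap C (Localization.Away (ι t)) (ι t) ^ m) :=
    (IsLocalization.Away.algebraMap_isUnit _).pow m
  have hfe₀ : f e₀ = e := by
    have h1 : f e₀ * algebraMap C (Localization.Away (ι t)) (ι t) ^ m =
        algebraMap C (Localization.Away (ι t)) (ι b') := by
      rw [← hfalg, ← hfalg, ← map_pow f, ← map_mul]
      congr 1
      show algebraMap A _ b' * T * _ = _
      rw [mul_assoc, hT, mul_one]
    refine hclose (ι t) hjacC _ _ (he₀.map f) he
      (ι (2 * b - t ^ m) * ι (-(c * u) * ↑v⁻¹) - ι t ^ (2 * m) * z₁) (htCu.mul_left_inj.mp ?_)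
    rw [sub_mul, h1, ha', ← map_sub, ← map_pow (algebraMap C (Localization.Away (ι t))),
      ← map_mul (algebraMap C (Localization.Away (ι t)))]
    congr 1
    show ι b' - a' = _
    have hw2 := congrArg ι hwval
    simp only [map_mul, map_pow] at hw2
    simp only [b', map_add, map_mul, map_pow, map_sub]
    linear_combination -hz₁ + (ι 2 * ι b - ι t ^ m) * hw2
  refine ⟨e₀, ⟨he₀, hfe₀⟩, ?_⟩
  rintro e₁ ⟨he₁, hfe₁⟩
  obtain ⟨k, d, hd⟩ := IsLocalization.Away.surj t (e₁ - e₀)
  have h0 : algebraMap C (Localization.Away (ι t)) (ι d) = algebraMap C (Localization.Away (ι t)) 0 := by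
    rw [← hfalg, ← hd, map_mul, map_sub f, show f e₁ = e from hfe₁, hfe₀, sub_self, zero_mul, map_zero]
  obtain ⟨N', hN'⟩ := IsLocalization.Away.exists_of_eq (ι t) h0
  rw [mul_zero] at hN'
  have h1 : Ideal.Quotient.mk (Ideal.span {t} ^ (k + N' + 1)) (t ^ N' * d) = 0 := by
    have hval : AdicCompletion.evalₐ (Ideal.span {t}) (k + N' + 1) (algebraMap A C (t ^ N' * d)) =
        Ideal.Quotient.mk _ (t ^ N' * d) := by rw [AlgHom.commutes]; rfl
    rw [← hval, map_mul (algebraMap A C), map_pow (algebraMap A C), hN', map_zero]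
  rw [Ideal.Quotient.eq_zero_iff_mem, Ideal.span_singleton_pow,
    Ideal.mem_span_singleton'] at h1
  obtain ⟨z, hz⟩ := h1
  refine hclose t hjacA e₁ e₀ he₁ he₀ z (((IsLocalization.Away.algebraMap_isUnit t).pow (k + N')).mul_left_inj.mp ?_)
  have hz' := congrArg (algebraMap A (Localization.Away t)) hz
  simp only [map_mul, map_pow, ← hd] at hz'
  simp only [map_mul]
  linear_combination -hz'

end Groth.Agent.S15774
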