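import Groth.Statements.S15778
import Groth.Agent.H3CAlg.DenseLocInst

set_option autoImplicit false
universe u
open TensorProduct
open CAlg

namespace Groth.Agent.S15778

/-- The instance A[1/t] → Â[1/t] for modules: let t lie in the Jacobson radical of A (a Zariski pair (A,
tA)) with bounded t-power torsion, Â the t-adic completion, and give Â[1/t] the A[1/t]-algebra
structure of the canonical map. Then finitely generated projective A[1/t]-modules isomorphic over
Â[1/t] are isomorphic, and every stably free Â[1/t]-module is extended from a stably free
A[1/t]-module. (The published statement also asserts injectivity on H¹ for inner forms of GL_n; this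
row omits that clause.) -/
theorem result (A : Type u) [CommRing A]
    (t : A) (ht : t ∈ (⊥ : Ideal A).jacobson)
    (hbd : ∃ N : ℕ, ∀ a : A, (∃ m : ℕ, t ^ m * a = 0) → t ^ N * a = 0)
    [Algebra (Localization.Away t) (Localization.Away (algebraMap A (AdicCompletion (Ideal.span {t}) A) t))]
    (halg : algebraMap (Localization.Away t) (Localization.Away (algebraMap A (AdicCompletion (Ideal.span {t}) A) t)) = Localization.awayMap (algebraMap A (AdicCompletion (Ideal.span {t}) A)) t) :
    (∀ (M N : Type u) [AddCommGroup M] [Module (Localization.Away t) M] [Module.Finite (Localization.Away t) M] [Module.Projective (Localization.Away t) M]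
        [AddCommGroup N] [Module (Localization.Away t) N] [Module.Finite (Localization.Away t) N] [Module.Projective (Localization.Away t) N],
        Nonempty ((Localization.Away (algebraMap A (AdicCompletion (Ideal.span {t}) A) t)) ⊗[Localization.Away t] M ≃ₗ[Localization.Away (algebraMap A (AdicCompletion (Ideal.span {t}) A) t)] (Localization.Away (algebraMap A (AdicCompletion (Ideal.span {t}) A) t)) ⊗[Localization.Away t] N) → Nonempty (M ≃ₗ[Localization.Away t] N)) ∧
    (∀ (M' : Type u) [AddCommGroup M'] [Module (Localization.Away (algebraMap A (AdicCompletion (Ideal.span {t}) A) t)) M'] [Module.Finite (Localization.Away (algebraMap A (AdicCompletion (Ideal.span {t}) A) t)) M'],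
        (∃ n m : ℕ, Nonempty ((M' × (Fin n → Localization.Away (algebraMap A (AdicCompletion (Ideal.span {t}) A) t))) ≃ₗ[Localization.Away (algebraMap A (AdicCompletion (Ideal.span {t}) A) t)] (Fin m → Localization.Away (algebraMap A (AdicCompletion (Ideal.span {t}) A) t)))) →
        ∃ (M : Type u) (_ : AddCommGroup M) (_ : Module (Localization.Away t) M), Module.Finite (Localization.Away t) M ∧
          (∃ n m : ℕ, Nonempty ((M × (Fin n → Localization.Away t)) ≃ₗ[Localization.Away t] (Fin m → Localization.Away t))) ∧
          Nonempty ((Localization.Away (algebraMap A (AdicCompletion (Ideal.span {t}) A) t)) ⊗[Localization.Away t] M ≃ₗ[Localization.Away (algebraMap A (AdicCompletion (Ideal.span {t}) A) t)] M')) := by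
  have hι : ∀ x, algebraMap (Localization.Away t) (Localization.Away (algebraMap A (AdicCompletion (Ideal.span {t}) A) t))
      (algebraMap A (Localization.Away t) x) =
      algebraMap (AdicCompletion (Ideal.span {t}) A) _ (algebraMap A _ x) := fun x => by
    rw [halg]; exact IsLocalization.map_eq _ x
  have D := Groth.Agent.H3CAlg.DenseLocInst.data_adic ht _ hι
  refine ⟨fun M N _ _ _ _ _ _ _ _ ⟨φ⟩ => Groth.Agent.H3CAlg.DenseLoc.nonempty_equiv D φ, fun M' _ _ _ ⟨n, m, ⟨e⟩⟩ => ?_⟩
  exact Groth.Agent.H3CAlg.DenseLoc.exists_stablyFree D e

end Groth.Agent.S15778
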