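import Groth.Statements.S15779
import Groth.Agent.H3CAlg.HenselFactor

set_option autoImplicit false
universe u
open Polynomial
open CAlg

namespace Groth.Agent.S15779

/-- For a Henselian local ring (R, m), L the localisation of R[t] at the monoid generated by t and the
polynomials with constant term 1, and ψ : R[s] → L the R-algebra map with s ↦ t⁻¹, extension and
contraction along ψ are mutually inverse bijections between the ideals of R[s] comaximal with mR[s]
and the ideals of L comaximal with mL, and R[s]/I → L/IL is bijective for every such I. -/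
theorem result (R : Type u) [CommRing R]
    [HenselianLocalRing R] (L : Type u) [CommRing L] [Algebra R[X] L]
    [IsLocalization (Submonoid.closure ({f : R[X] | f.coeff 0 = 1} ∪ {X})) L]
    [Algebra R L] [IsScalarTower R R[X] L]
    (ψ : R[X] →ₐ[R] L) (hψ : ψ X * algebraMap R[X] L X = 1) :
    (∀ I : Ideal R[X], I ⊔ (IsLocalRing.maximalIdeal R).map (algebraMap R R[X]) = ⊤ →
        (I.map ψ.toRingHom).comap ψ.toRingHom = I ∧
        I.map ψ.toRingHom ⊔ (IsLocalRing.maximalIdeal R).map (algebraMap R L) = ⊤ ∧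
        Function.Bijective (Ideal.quotientMap (I.map ψ.toRingHom) ψ.toRingHom Ideal.le_comap_map)) ∧
    (∀ J : Ideal L, J ⊔ (IsLocalRing.maximalIdeal R).map (algebraMap R L) = ⊤ →
        (J.comap ψ.toRingHom).map ψ.toRingHom = J ∧
        J.comap ψ.toRingHom ⊔ (IsLocalRing.maximalIdeal R).map (algebraMap R R[X]) = ⊤) := by
  classical
  set m := IsLocalRing.maximalIdeal R with hm
  let S := Submonoid.closure ({f : R[X] | f.coeff 0 = 1} ∪ {X})
  have hC : ∀ r : R, algebraMap R[X] L (C r) = algebraMap R L r := fun r =>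
    (IsScalarTower.algebraMap_apply R R[X] L r).symm
  have hψC : ∀ r : R, ψ (C r) = algebraMap R L r := fun r => ψ.commutes r
  have hXu : IsUnit (algebraMap R[X] L X) :=
    IsLocalization.map_units L (⟨X, Submonoid.subset_closure (Or.inr rfl)⟩ : S)
  have h0u : ∀ p : R[X], IsUnit (p.coeff 0) → IsUnit (algebraMap R[X] L p) := by
    intro p hp
    have h1 : IsUnit (algebraMap R[X] L (C ((hp.unit⁻¹ : Rˣ) : R) * p)) :=
      IsLocalization.map_units L (⟨C ((hp.unit⁻¹ : Rˣ) : R) * p, Submonoid.subset_closure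
        (Or.inl (by simp [coeff_C_mul, IsUnit.val_inv_mul]))⟩ : S)
    rw [map_mul] at h1
    exact isUnit_of_mul_isUnit_right h1
  have hψm : (m.map (algebraMap R R[X])).map ψ.toRingHom = m.map (algebraMap R L) := by
    rw [Ideal.map_map]
    congr 1
    exact RingHom.ext fun r => ψ.commutes r
  have part1 : ∀ I : Ideal R[X], I ⊔ m.map (algebraMap R R[X]) = ⊤ →
      (I.map ψ.toRingHom).comap ψ.toRingHom = I ∧
      I.map ψ.toRingHom ⊔ m.map (algebraMap R L) = ⊤ ∧
      Function.Bijective (Ideal.quotientMap (I.map ψ.toRingHom) ψ.toRingHom Ideal.le_comap_map) := by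
    intro I hI
    obtain ⟨f, hf, μ, hμ, hfμ⟩ := Submodule.mem_sup.mp ((Ideal.eq_top_iff_one _).mp hI)
    have hμc : ∀ i, μ.coeff i ∈ m := Ideal.mem_map_C_iff.mp hμ
    have hfc : ∀ i, i ≠ 0 → f.coeff i ∈ m := by
      intro i hi
      have := congrArg (fun q => q.coeff i) hfμ
      simp only [coeff_add, coeff_one, if_neg hi] at this
      rw [eq_neg_of_add_eq_zero_left this]
      exact neg_mem (hμc i)
    have hf0 : IsUnit (f.coeff 0) := by
      have := congrArg (fun q => q.coeff 0) hfμ
      simp only [coeff_add, coeff_one_zero] at this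
      refine (IsLocalRing.isUnit_or_isUnit_of_add_one this).resolve_right fun h => ?_
      exact (IsLocalRing.mem_maximalIdeal _).mp (hμc 0) h
    obtain ⟨u, hu⟩ : ∃ u, u * f.coeff 0 = 1 := ⟨↑hf0.unit⁻¹, IsUnit.val_inv_mul _⟩
    set x : R[X] ⧸ I := Ideal.Quotient.mkₐ R I X with hx
    have hev : ∀ p : R[X], aeval x p = Ideal.Quotient.mkₐ R I p := fun p => by
      rw [hx, aeval_algHom_apply, aeval_X_left_apply]
    have hfx : aeval x f = 0 := by
      rw [hev]; exact Ideal.Quotient.eq_zero_iff_mem.mpr hf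
    obtain ⟨y, hxy⟩ : ∃ y, x * y = 1 := by
      refine ⟨-(algebraMap R _ u * aeval x f.divX), ?_⟩
      have h := hfx
      rw [← X_mul_divX_add f, map_add, map_mul, aeval_X, aeval_C] at h
      have hu' : algebraMap R (R[X] ⧸ I) u * algebraMap R _ (f.coeff 0) = 1 := by
        rw [← map_mul, hu, map_one]
      linear_combination (-algebraMap R (R[X] ⧸ I) u) * h + hu'
    let d := f.natDegree
    let G : R[X] := X ^ d + ∑ i : Fin d, C (u * f.coeff (d - i)) * X ^ (i : ℕ)
    have hG : G.Monic := monic_X_pow_add (Polynomial.degree_sum_fin_lt _)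
    have hGy : aeval y G = 0 := by
      have h1 : algebraMap R (R[X] ⧸ I) u * (y ^ d * aeval x f) = 0 := by rw [hfx, mul_zero, mul_zero]
      rw [aeval_eq_sum_range, Finset.mul_sum, Finset.mul_sum, Finset.sum_range_succ'] at h1
      simp only [pow_zero, Algebra.smul_def, mul_one] at h1
      rw [← h1]
      simp only [G, map_add, map_pow, aeval_X, map_sum, map_mul, aeval_C]
      rw [add_comm]
      congr 1
      · rw [← Equiv.sum_comp Fin.revPerm, Finset.sum_fin_eq_sum_range]
        refine Finset.sum_congr rfl fun j hj => ?_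
        rw [Finset.mem_range] at hj
        rw [dif_pos hj]
        simp only [Fin.revPerm_apply, Fin.val_rev, map_mul]
        rw [show d - (d - (j + 1)) = j + 1 by omega]
        calc algebraMap R (R[X] ⧸ I) u * algebraMap R (R[X] ⧸ I) (f.coeff (j + 1)) * y ^ (d - (j + 1))
            = algebraMap R (R[X] ⧸ I) u * (y ^ (d - (j + 1)) * (x * y) ^ (j + 1) *
              algebraMap R (R[X] ⧸ I) (f.coeff (j + 1))) := by rw [hxy]; ring
          _ = algebraMap R (R[X] ⧸ I) u * (y ^ (d - (j + 1) + (j + 1)) *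
              (algebraMap R (R[X] ⧸ I) (f.coeff (j + 1)) * x ^ (j + 1))) := by ring
          _ = _ := by rw [Nat.sub_add_cancel hj]
      · rw [mul_left_comm, ← map_mul, hu, map_one, mul_one]
    have hint : IsIntegral R y := ⟨G, hG, by rw [← aeval_def]; exact hGy⟩
    have hunit : ∀ h : R[X], IsUnit (h.coeff 0) → IsUnit (aeval y h) := by
      intro h hh
      have : Module.Finite R (Algebra.adjoin R ({y} : Set (R[X] ⧸ I))) :=
        Module.Finite.iff_fg.mpr hint.fg_adjoin_singleton
      let y' : Algebra.adjoin R ({y} : Set (R[X] ⧸ I)) := ⟨y, Algebra.subset_adjoin rfl⟩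
      suffices hh' : IsUnit (aeval y' h) by
        have := hh'.map (Algebra.adjoin R ({y} : Set (R[X] ⧸ I))).val
        rwa [← aeval_algHom_apply] at this
      by_contra hc
      obtain ⟨M, hM, hMem⟩ := exists_max_ideal_of_mem_nonunits hc
      have hmM : m ≤ M.comap (algebraMap R _) :=
        ((IsLocalRing.maximalIdeal.isMaximal R).eq_of_le (hM.isPrime.comap _).ne_top
          (by
            have := Ideal.isMaximal_comap_of_isIntegral_of_isMaximal (R := R) M
            rw [IsLocalRing.eq_maximalIdeal this])).le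
      have hyd : y' ^ d ∈ M := by
        have h0 : aeval y' G = 0 := by
          apply Subtype.val_injective
          rw [← Subalgebra.coe_val, ← aeval_algHom_apply, map_zero]
          exact hGy
        simp only [G, map_add, map_pow, aeval_X, map_sum, map_mul, aeval_C] at h0
        rw [eq_neg_of_add_eq_zero_left h0]
        refine neg_mem (sum_mem fun i _ => M.mul_mem_right _ ?_)
        refine M.mul_mem_left _ (hmM (hfc _ ?_))
        omega
      have hy' : y' ∈ M := hM.isPrime.mem_of_pow_mem d hyd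
      have h2 : algebraMap R _ (h.coeff 0) ∈ M := by
        have h3 : aeval y' h = y' * aeval y' h.divX + algebraMap R _ (h.coeff 0) := by
          conv_lhs => rw [← X_mul_divX_add h, map_add, map_mul, aeval_X, aeval_C]
        rw [h3] at hMem
        exact (Ideal.add_mem_iff_right _ (M.mul_mem_right _ hy')).mp hMem
      exact hM.ne_top (M.eq_top_of_isUnit_mem h2 (hh.map _))
    have hS : ∀ s : S, IsUnit ((aeval y : R[X] →ₐ[R] R[X] ⧸ I).toRingHom s) := by
      rintro ⟨s, hs⟩
      change IsUnit (aeval y s)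
      induction hs using Submonoid.closure_induction with
      | mem s hs =>
        rcases hs with hs | hs
        · exact hunit s (by rw [hs]; exact isUnit_one)
        · rw [Set.mem_singleton_iff.mp hs, aeval_X]
          exact isUnit_of_mul_isUnit_right (hxy ▸ isUnit_one)
      | one => rw [map_one]; exact isUnit_one
      | mul a b _ _ ha hb => rw [map_mul]; exact ha.mul hb
    let Φ : L →+* R[X] ⧸ I := IsLocalization.lift (M := S) hS
    have hΦ : ∀ p, Φ (algebraMap R[X] L p) = aeval y p := fun p => IsLocalization.lift_eq hS p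
    have hΦψ : Φ.comp ψ.toRingHom = Ideal.Quotient.mk I := by
      refine Polynomial.ringHom_ext (fun r => ?_) ?_
      · change Φ (ψ (C r)) = _
        rw [hψC, ← hC, hΦ, aeval_C]
        rfl
      · change Φ (ψ X) = x
        have h1 := congrArg Φ hψ
        rw [map_mul, hΦ, aeval_X, map_one] at h1
        calc Φ (ψ X) = Φ (ψ X) * (x * y) := by rw [hxy, mul_one]
          _ = x * (Φ (ψ X) * y) := by ring
          _ = x := by rw [h1, mul_one]
    set Θ := Ideal.quotientMap (I.map ψ.toRingHom) ψ.toRingHom Ideal.le_comap_map with hΘ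
    have hΘmk : ∀ p, Θ (Ideal.Quotient.mk I p) = Ideal.Quotient.mk _ (ψ p) := fun p =>
      Ideal.quotientMap_mk
    have hker : I.map ψ.toRingHom ≤ RingHom.ker Φ := by
      rw [Ideal.map_le_iff_le_comap]
      intro p hp
      rw [Ideal.mem_comap, RingHom.mem_ker, ← RingHom.comp_apply, hΦψ]
      exact Ideal.Quotient.eq_zero_iff_mem.mpr hp
    have hΘΦ : Θ.comp Φ = Ideal.Quotient.mk (I.map ψ.toRingHom) := by
      refine IsLocalization.ringHom_ext S (Polynomial.ringHom_ext (fun r => ?_) ?_)
      · change Θ (Φ (algebraMap R[X] L (C r))) = Ideal.Quotient.mk _ (algebraMap R[X] L (C r))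
        rw [hΦ, aeval_C, hC, ← hψC, ← hΘmk]
        rfl
      · change Θ (Φ (algebraMap R[X] L X)) = Ideal.Quotient.mk _ (algebraMap R[X] L X)
        rw [hΦ, aeval_X]
        have h1 : Θ x * Θ y = 1 := by rw [← map_mul, hxy, map_one]
        have h2 : Θ x * Ideal.Quotient.mk _ (algebraMap R[X] L X) = 1 := by
          change Θ (Ideal.Quotient.mk I X) * _ = 1
          rw [hΘmk, ← map_mul, hψ, map_one]
        calc Θ y = Θ y * (Θ x * Ideal.Quotient.mk _ (algebraMap R[X] L X)) := by rw [h2, mul_one]
          _ = (Θ x * Θ y) * Ideal.Quotient.mk _ (algebraMap R[X] L X) := by ring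
          _ = _ := by rw [h1, one_mul]
    have hcomap : (I.map ψ.toRingHom).comap ψ.toRingHom = I := by
      refine le_antisymm (fun p hp => ?_) Ideal.le_comap_map
      have := hker hp
      rwa [RingHom.mem_ker, ← RingHom.comp_apply, hΦψ, Ideal.Quotient.eq_zero_iff_mem] at this
    refine ⟨hcomap, ?_, ?_, fun z => ?_⟩
    · rw [← hψm, ← Ideal.map_sup, hI, Ideal.map_top]
    · exact Ideal.quotientMap_injective' hcomap.le
    · obtain ⟨l, rfl⟩ := Ideal.Quotient.mk_surjective z
      exact ⟨Φ l, by rw [← RingHom.comp_apply, hΘΦ]⟩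
  refine ⟨part1, fun J hJ => ?_⟩
  -- a polynomial congruent to one in the contraction of `J`
  have hsup : J.comap ψ.toRingHom ⊔ m.map (algebraMap R R[X]) = ⊤ := by
    obtain ⟨s, hs, hsJ⟩ : ∃ s ∈ S, s ∈ J.comap (algebraMap R[X] L) ⊔ m.map (algebraMap R R[X]) := by
      have h1 : (1 : L) ∈ (J.comap (algebraMap R[X] L) ⊔ m.map (algebraMap R R[X])).map (algebraMap R[X] L) := by
        rw [Ideal.map_sup, IsLocalization.map_comap S L J, Ideal.map_map, ← IsScalarTower.algebraMap_eq, hJ]
        exact Submodule.mem_top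
      obtain ⟨⟨a, t⟩, h2⟩ := (IsLocalization.mem_map_algebraMap_iff S L).mp h1
      rw [one_mul] at h2
      obtain ⟨v, hv⟩ := (IsLocalization.eq_iff_exists S L).mp h2
      exact ⟨v * t, S.mul_mem v.2 t.2, hv ▸ Ideal.mul_mem_left _ _ a.2⟩
    obtain ⟨k, f, hf, rfl⟩ : ∃ (k : ℕ) (f : R[X]), f.coeff 0 = 1 ∧ X ^ k * f = s := by
      clear hsJ
      induction hs using Submonoid.closure_induction with
      | mem s hs =>
        rcases hs with hs | hs
        · exact ⟨0, s, hs, by rw [pow_zero, one_mul]⟩
        · exact ⟨1, 1, coeff_one_zero, by rw [Set.mem_singleton_iff.mp hs, pow_one, mul_one]⟩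
      | one => exact ⟨0, 1, coeff_one_zero, by rw [pow_zero, one_mul]⟩
      | mul a b _ _ ha hb =>
        obtain ⟨k, f, hf, rfl⟩ := ha
        obtain ⟨l, g, hg, rfl⟩ := hb
        exact ⟨k + l, f * g, by rw [mul_coeff_zero, hf, hg, one_mul], by ring⟩
    obtain ⟨g, hg, μ, hμ, hgμ⟩ := Submodule.mem_sup.mp hsJ
    have hμc : ∀ i, μ.coeff i ∈ m := Ideal.mem_map_C_iff.mp hμ
    rcases Nat.eq_zero_or_pos k with hk | hk
    · subst hk
      have : J = ⊤ := by
        refine J.eq_top_of_isUnit_mem hg (h0u g ?_)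
        have h1 := congrArg (fun q => q.coeff 0) hgμ
        simp only [coeff_add, pow_zero, one_mul, hf] at h1
        refine (IsLocalRing.isUnit_or_isUnit_of_add_one h1).resolve_right fun h => ?_
        exact (IsLocalRing.mem_maximalIdeal _).mp (hμc 0) h
      rw [this, Ideal.comap_top, top_sup_eq]
    obtain ⟨c, e, hc, he, hdvd⟩ := Groth.Agent.H3CAlg.HenselFactor.exists_monic g f k hk hf (fun i => by
      rw [← hgμ, sub_add_cancel_left, coeff_neg]
      exact neg_mem (hμc i))
    let F : R[X] := 1 - ∑ i : Fin k, C (c i) * X ^ (k - (i : ℕ))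
    have hF : F ∈ J.comap ψ.toRingHom := by
      obtain ⟨v, hv⟩ := hdvd
      have h1 : algebraMap R[X] L (X ^ k - ∑ i : Fin k, C (c i) * X ^ (i : ℕ)) ∈ J := by
        have h2 : algebraMap R[X] L (e * (X ^ k - ∑ i : Fin k, C (c i) * X ^ (i : ℕ))) ∈ J := by
          rw [hv, map_mul]
          exact Ideal.mul_mem_right _ _ hg
        rw [map_mul] at h2
        exact (Submodule.smul_mem_iff_of_isUnit J (h0u e he)).mp h2
      have h3 : ψ F * algebraMap R[X] L X ^ k =
          algebraMap R[X] L (X ^ k - ∑ i : Fin k, C (c i) * X ^ (i : ℕ)) := by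
        simp only [F, map_sub, map_one, map_sum, map_mul, map_pow, hψC, hC, sub_mul, one_mul,
          Finset.sum_mul]
        congr 1
        refine Finset.sum_congr rfl fun i _ => ?_
        rw [mul_assoc]
        congr 1
        calc ψ X ^ (k - (i : ℕ)) * algebraMap R[X] L X ^ k
            = ψ X ^ (k - (i : ℕ)) * algebraMap R[X] L X ^ ((k - (i : ℕ)) + (i : ℕ)) := by
              rw [Nat.sub_add_cancel i.isLt.le]
          _ = (ψ X * algebraMap R[X] L X) ^ (k - (i : ℕ)) * algebraMap R[X] L X ^ (i : ℕ) := by ring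
          _ = _ := by rw [hψ, one_pow, one_mul]
      rw [← h3] at h1
      change ψ F ∈ J
      exact (Ideal.mul_unit_mem_iff_mem J (hXu.pow k)).mp h1
    rw [Ideal.eq_top_iff_one, ← sub_add_cancel (1 : R[X]) (∑ i : Fin k, C (c i) * X ^ (k - (i : ℕ)))]
    refine Submodule.add_mem_sup hF (sum_mem fun i _ => Ideal.mul_mem_right _ _ ?_)
    exact Ideal.mem_map_of_mem _ (hc i)
  refine ⟨le_antisymm Ideal.map_comap_le (fun l hl => ?_), hsup⟩
  obtain ⟨-, -, hbij⟩ := part1 _ hsup
  obtain ⟨b, hb⟩ := hbij.2 (Ideal.Quotient.mk _ l)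
  obtain ⟨p, rfl⟩ := Ideal.Quotient.mk_surjective b
  rw [Ideal.quotientMap_mk, Ideal.Quotient.eq] at hb
  have hp : p ∈ J.comap ψ.toRingHom := by
    rw [Ideal.mem_comap, ← sub_add_cancel (ψ.toRingHom p) l]
    exact J.add_mem (Ideal.map_comap_le hb) hl
  rw [← sub_sub_cancel (ψ.toRingHom p) l]
  exact sub_mem (Ideal.mem_map_of_mem _ hp) hb

end Groth.Agent.S15779
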