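import Groth.Statements.S15784

set_option autoImplicit false
universe u
open Neron

namespace Groth.Agent.S15784

/-- Let O be a discrete valuation ring with fraction field L and uniformizer ϖ', let ϖ be an element of
the maximal ideal of O, let q = u·ϖ'^n with u a unit of O and n ≥ 1, and let m ≥ 1 be a divisor of
n. Then the following are equivalent: (i) there is a nonzero element z = w·ϖ'^a of L, with w a unit
of O and a an integer congruent to n/m modulo n, and an integer j such that z^m·q^j lies in 1 + ϖO;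
(ii) ϖ'^n/q is an m-th power in the group of units of O/ϖO, that is, u·(y^m + ϖ·r) = 1 for some y, r
∈ O. (The published statement phrases (i) geometrically, as the existence of a point of order m in
the special fibre of the Néron model of the Weil restriction of the Tate curve with parameter q from
L down to a subfield over which L is totally ramified with ϖ a uniformizer of the subfield, whose
image in the component group also has order m; this row states the equivalence between (i) and (ii)
that the printed argument establishes.) -/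
theorem result
    (O : Type u) [CommRing O] [IsDomain O] [IsDiscreteValuationRing O]
    (L : Type u) [Field L] [Algebra O L] [IsFractionRing O L]
    (ϖ' : O) (hϖ' : Irreducible ϖ') (ϖ : O) (hϖ : ϖ ∈ IsLocalRing.maximalIdeal O)
    (n : ℕ) (hn : 1 ≤ n) (u : Oˣ) (q : O) (hq : q = u * ϖ' ^ n)
    (m : ℕ) (hm : 1 ≤ m) (hmn : m ∣ n) :
    (∃ (w : Oˣ) (a j t : ℤ) (r : O), a = (n / m : ℕ) + t * n ∧
        (algebraMap O L w * algebraMap O L ϖ' ^ a) ^ m * algebraMap O L q ^ j = algebraMap O L (1 + ϖ * r)) ↔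
      ∃ y r : O, (u : O) * (y ^ m + ϖ * r) = 1 := by
  have hunit : ∀ r : O, IsUnit (1 + ϖ * r) := fun r => by
    by_contra h
    have h1 : 1 + ϖ * r ∈ IsLocalRing.maximalIdeal O := h
    have h2 := Ideal.sub_mem _ h1 (Ideal.mul_mem_right r _ hϖ)
    rw [add_sub_cancel_right] at h2
    exact h2 isUnit_one
  have inj := IsFractionRing.injective O L
  have hp0 : algebraMap O L ϖ' ≠ 0 := fun h => hϖ'.ne_zero (inj (by rw [h, map_zero]))
  have hqz : ∀ j : ℤ, algebraMap O L q ^ j =
      algebraMap O L (↑(u ^ j) : O) * algebraMap O L ϖ' ^ ((n : ℤ) * j) := fun j => by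
    rw [hq, map_mul, map_pow, mul_zpow, zpow_mul, zpow_natCast]
    congr 1
    exact ((Units.val_zpow_eq_zpow_val _ j).symm.trans (by rw [← map_zpow]; rfl) :
      (((Units.map (algebraMap O L).toMonoidHom u : Lˣ) : L)) ^ j = algebraMap O L (↑(u ^ j) : O))
  have hzero : ∀ (s s' : Oˣ) (e : ℤ), algebraMap O L s * algebraMap O L ϖ' ^ e = algebraMap O L s' → e = 0 := by
    intro s s' e h
    by_contra he
    apply hϖ'.not_isUnit
    obtain ⟨k, rfl | rfl⟩ := Int.eq_nat_or_neg e
    · rw [zpow_natCast, ← map_pow, ← map_mul] at h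
      have h2 : IsUnit ((s : O) * ϖ' ^ k) := (inj h).symm ▸ s'.isUnit
      exact (isUnit_pow_iff (by omega)).1 (isUnit_of_mul_isUnit_right h2)
    · rw [zpow_neg, zpow_natCast, mul_inv_eq_iff_eq_mul₀ (pow_ne_zero _ hp0), ← map_pow, ← map_mul] at h
      have h2 : IsUnit ((s' : O) * ϖ' ^ k) := inj h ▸ s.isUnit
      exact (isUnit_pow_iff (by omega)).1 (isUnit_of_mul_isUnit_right h2)
  obtain ⟨c, rfl⟩ := hmn
  have hc : m * c / m = c := Nat.mul_div_cancel_left c (by omega)
  rw [hc]
  constructor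
  · rintro ⟨w, a, j, t, r, ha, h⟩
    have h' : algebraMap O L (↑(w ^ m * u ^ j) : O) * algebraMap O L ϖ' ^ (a * m + ((m * c : ℕ) : ℤ) * j) =
        algebraMap O L ((hunit r).unit : O) := by
      rw [IsUnit.unit_spec, ← h, hqz, mul_pow, ← map_pow, ← zpow_natCast (_ ^ a) m, ← zpow_mul,
        zpow_add₀ hp0, Units.val_mul, Units.val_pow_eq_pow_val, map_mul]
      ring
    have he := hzero _ _ _ h'
    rw [he, zpow_zero, mul_one] at h'
    have h1 : w ^ m * u ^ j = (hunit r).unit := Units.ext (inj h')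
    have hj : j = -1 - t * m := by
      subst ha
      push_cast at he
      have h2 : ((m : ℤ) * c) * (1 + t * m + j) = 0 := by linear_combination he
      rcases mul_eq_zero.1 h2 with h3 | h3
      · have : ((m * c : ℕ) : ℤ) = 0 := by push_cast; exact h3
        omega
      · linarith
    set v := (hunit r).unit with hv
    refine ⟨((w * u ^ (-t))⁻¹ : Oˣ), (r * ((v⁻¹ : Oˣ) : O)) * ((u⁻¹ : Oˣ) : O), ?_⟩
    have h3 : u * ((w * u ^ (-t))⁻¹) ^ m = v⁻¹ := by
      rw [← h1, hj, zpow_sub, zpow_neg_one, zpow_mul, zpow_natCast, inv_pow, mul_pow, zpow_neg, inv_pow]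
      simp only [mul_inv_rev, inv_inv]
      simp only [mul_comm, mul_left_comm, mul_assoc]
    have h4 := congrArg (fun z : Oˣ => (z : O)) h3
    simp only [Units.val_mul, Units.val_pow_eq_pow_val] at h4
    have h5 : (v : O) = 1 + ϖ * r := IsUnit.unit_spec _
    linear_combination h4 + (u.inv_mul) * (ϖ * r * ((v⁻¹ : Oˣ) : O)) - ((v⁻¹ : Oˣ) : O) * h5 + v.inv_mul
  · rintro ⟨y, r, h⟩
    have hy : IsUnit (y ^ m) := by
      have h1 : (u : O) * y ^ m = 1 + ϖ * (-((u : O) * r)) := by linear_combination h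
      exact isUnit_of_mul_isUnit_right (h1 ▸ hunit _)
    have hy' : IsUnit y := (isUnit_pow_iff (by omega)).1 hy
    set Y := hy'.unit with hYdef
    refine ⟨Y⁻¹, c, -1, 0, r * ((Y⁻¹ ^ m : Oˣ) : O), by simp, ?_⟩
    rw [hqz, mul_pow, ← zpow_natCast (_ ^ (c : ℤ)) m, ← zpow_mul, mul_mul_mul_comm, ← map_pow, ← map_mul,
      ← zpow_add₀ hp0, show (c : ℤ) * (m : ℤ) + ((m * c : ℕ) : ℤ) * -1 = 0 by push_cast; ring, zpow_zero, mul_one]
    congr 1
    rw [← Units.val_pow_eq_pow_val, zpow_neg_one]
    have hY : (Y : O) = y := hy'.unit_spec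
    have e1 : (Y : O) ^ m * ((Y⁻¹ ^ m : Oˣ) : O) = 1 := by
      rw [← Units.val_pow_eq_pow_val, ← Units.val_mul, ← mul_pow, mul_inv_cancel, one_pow, Units.val_one]
    rw [hY] at e1
    linear_combination -(((Y⁻¹ ^ m : Oˣ) : O) * ((u⁻¹ : Oˣ) : O)) * h + ((Y⁻¹ ^ m : Oˣ) : O) * (y ^ m + ϖ * r) * u.inv_mul + e1

end Groth.Agent.S15784
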