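import Groth.Statements.S15789
import Groth.Agent.H23Wild.Aut

set_option autoImplicit false
universe u
open WildQuot

namespace Groth.Agent.S15789

open MvPolynomial in
/-- Let `k` be a field of characteristic `p > 0`, `n ≥ 2`, `R = k[[x_1, …, x_n]]`, `a_1, …, a_n ∈ R`
nonzero with zero constant term, and `A = R[u_1, …, u_n] / (u_i ^ p - a_i ^ (p-1) u_i - x_i : i =
1..n)`. Then the group of `R`-algebra automorphisms of `A` has exactly `p ^ n` elements, is
commutative and every element has `p`-th power the identity (it is the elementary abelian group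
generated by the substitutions `u_i ↦ u_i + a_i`), and an element of `A` is fixed by every
`R`-algebra automorphism if and only if it comes from `R`. (The published statement says that
`Frac(A)/Frac(R)` is Galois with group `(ℤ/pℤ)^n` and `R = A^H`; this row states it through the
`R`-algebra automorphisms of `A`.) -/
theorem result
    (p : ℕ) [Fact p.Prime] (k : Type u) [Field k] [CharP k p] (n : ℕ) (hn : 2 ≤ n)
    (a : Fin n → MvPowerSeries (Fin n) k)
    (ha0 : ∀ i, a i ≠ 0) (ham : ∀ i, MvPowerSeries.constantCoeff (a i) = 0) :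
    let R := MvPowerSeries (Fin n) k
    let I : Ideal (MvPolynomial (Fin n) R) :=
      Ideal.span (Set.range fun i : Fin n =>
        X i ^ p - C (a i ^ (p - 1)) * X i - C (MvPowerSeries.X i))
    Nat.card ((MvPolynomial (Fin n) R ⧸ I) ≃ₐ[R] (MvPolynomial (Fin n) R ⧸ I)) = p ^ n ∧
      (∀ σ τ : (MvPolynomial (Fin n) R ⧸ I) ≃ₐ[R] (MvPolynomial (Fin n) R ⧸ I), σ * τ = τ * σ) ∧
      (∀ σ : (MvPolynomial (Fin n) R ⧸ I) ≃ₐ[R] (MvPolynomial (Fin n) R ⧸ I), σ ^ p = 1) ∧
      (∀ b : MvPolynomial (Fin n) R ⧸ I,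
        (∀ σ : (MvPolynomial (Fin n) R ⧸ I) ≃ₐ[R] (MvPolynomial (Fin n) R ⧸ I), σ b = b) ↔
          b ∈ Set.range (algebraMap R (MvPolynomial (Fin n) R ⧸ I))) := by
  intro R I
  have hI : I = Groth.Agent.H23Wild.sysI (Groth.Agent.H23Wild.asF p (fun i => a i ^ (p - 1)) MvPowerSeries.X) :=
    (Groth.Agent.H23Wild.sysI_asF p (fun i => a i ^ (p - 1)) MvPowerSeries.X).symm
  clear_value I
  subst hI
  haveI : CharP (MvPowerSeries (Fin n) k) p :=
    charP_of_injective_ringHom (f := (MvPowerSeries.C : k →+* MvPowerSeries (Fin n) k)) (RingHom.injective _) p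
  haveI : IsDomain (MvPowerSeries (Fin n) k) :=
    haveI := Groth.Agent.H02CA.PS.isRegularLocalRing_fin (k := k) n
    Groth.Agent.H4Depth.isDomain_of_isRegularLocalRing _
  haveI := Groth.Agent.H23Wild.isDomain_as p (fun i => a i ^ (p - 1)) (fun i => by
    rw [map_pow, ham, zero_pow (Nat.sub_ne_zero_of_lt (Fact.out : p.Prime).one_lt)])
  obtain ⟨T, hT, -, h0, hadd⟩ := Groth.Agent.H23Wild.exists_param p a MvPowerSeries.X ha0
  refine ⟨?_, fun σ τ => ?_, fun σ => ?_, fun b => ⟨Groth.Agent.H23Wild.mem_range_of_fixed p a _ ha0 b, ?_⟩⟩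
  · rw [← Nat.card_eq_of_bijective T hT, Nat.card_fun, Nat.card_zmod, Nat.card_fin]
  · obtain ⟨i, rfl⟩ := hT.2 σ
    obtain ⟨j, rfl⟩ := hT.2 τ
    rw [← hadd, ← hadd, add_comm]
  · obtain ⟨i, rfl⟩ := hT.2 σ
    have hm : ∀ m : ℕ, T i ^ m = T (m • i) := fun m => by
      induction m with
      | zero => rw [pow_zero, zero_smul, h0]
      | succ m ih => rw [pow_succ, ih, add_smul, one_smul, hadd]
    rw [hm, ← Nat.cast_smul_eq_nsmul (ZMod p), ZMod.natCast_self, zero_smul, h0]
  · rintro ⟨r, rfl⟩ σ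
    exact σ.commutes r

end Groth.Agent.S15789
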