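import Groth.Statements.S1708
import Groth.Agent.H29Blow.WeakAssAffine
import Groth.Agent.H10Coh.BaseChange

set_option autoImplicit false
universe u
open CategoryTheory CategoryTheory.Limits AlgebraicGeometry TopologicalSpace
open SDiv

namespace Groth.Agent.S1708

/-- Let f : X ⟶ S be an affine morphism and F a quasi-coherent module on X. Then every weakly associated
point of f_* F is the image of a weakly associated point of F. -/
theorem result {X S : Scheme.{u}} (f : X ⟶ S) [IsAffineHom f] (F : X.Modules) (hF : Coh.IsQCoh F)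
    (s : ↥S) (hs : Curv2.IsWeakAssPoint ((Scheme.Modules.pushforward f).obj F) s) :
    ∃ x : ↥X, f x = s ∧ Curv2.IsWeakAssPoint F x := by
  obtain ⟨m, hm⟩ := hs
  obtain ⟨W, hsW, t₀, rfl⟩ := ((Scheme.Modules.pushforward f).obj F).presheaf.germ_exist m
  obtain ⟨V, hV, hsV, hsub⟩ := exists_isAffineOpen_mem_and_subset (U := W) (x := s) hsW
  let P := (Scheme.Modules.pushforward f).obj F
  let t : Γ(P, V) := P.presheaf.map (homOfLE (show V ≤ W from hsub)).op t₀
  let t' : Γ(F, f ⁻¹ᵁ V) := t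
  have hgerm : P.presheaf.germ V s hsV t = P.presheaf.germ W s hsW t₀ := P.presheaf.germ_res_apply _ _ _ _
  let p := (hV.primeIdealOf ⟨s, hsV⟩).asIdeal
  have hpf : IsAffineOpen (f ⁻¹ᵁ V) := hV.preimage f
  have hsm : ∀ a : Γ(S, V), a • t = 0 ↔ (f.app V).hom a ∈ H29Blow.secAnn F t' := fun a =>
    (H29Blow.mem_secAnn F (s := t') (a := (f.app V).hom a)).symm
  have hne : P.presheaf.germ V s hsV t ≠ 0 := by
    intro h0
    rw [hgerm] at h0
    have h1 : (1 : S.presheaf.stalk s) ∈ IsLocalRing.maximalIdeal (S.presheaf.stalk s) := by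
      rw [← hm]
      refine ⟨1, ?_⟩
      rw [LinearMap.mem_ker, LinearMap.toSpanSingleton_apply]
      exact (congrArg _ h0).trans (smul_zero _)
    exact (Ideal.ne_top_iff_one _).mp (IsLocalRing.maximalIdeal.isMaximal _).ne_top h1
  haveI : F.IsQuasicoherent := hF
  have hqc : Coh.IsQCoh P := H10Coh.isQuasicoherent_pushforward_of_isAffineHom f F
  obtain ⟨Q, hQp, hJQ, hQS⟩ := Ideal.exists_le_prime_disjoint (H29Blow.secAnn F t')
    (p.primeCompl.map (f.app V).hom) (by
      rw [Set.disjoint_left]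
      rintro - hJ ⟨c, hc, rfl⟩
      have h1 := H29Blow.germ_secAnn_smul P hsV ((hsm c).mpr hJ)
      have hu : IsUnit (S.presheaf.germ V s hsV c) := by
        by_contra hu
        exact hc ((H29Blow.mem_primeIdealOf_iff hV ⟨s, hsV⟩ c).mpr hu)
      exact hne (hu.smul_eq_zero.mp h1))
  haveI := hQp
  obtain ⟨q, hq, hqQ⟩ := Ideal.exists_minimalPrimes_le hJQ
  obtain ⟨x, hx⟩ := H29Blow.exists_primeIdealOf_eq hpf ⟨q, hq.1.1⟩
  have hxq : (hpf.primeIdealOf x).asIdeal = q := congrArg PrimeSpectrum.asIdeal hx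
  refine ⟨x.1, ?_, H29Blow.isWeakAssPoint_of_minimalPrimes F hF hpf x t' (hxq.symm ▸ hq)⟩
  have hcomap : Ideal.comap (f.app V).hom q = p := by
    apply le_antisymm
    · intro c hc
      by_contra hcp
      exact Set.disjoint_left.mp hQS (hqQ hc) ⟨c, hcp, rfl⟩
    · intro a ha
      have hmax : S.presheaf.germ V s hsV a ∈ IsLocalRing.maximalIdeal (S.presheaf.stalk s) :=
        (IsLocalRing.mem_maximalIdeal _).mpr ((H29Blow.mem_primeIdealOf_iff hV ⟨s, hsV⟩ a).mp ha)
      rw [← hm] at hmax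
      obtain ⟨n, hn⟩ := hmax
      rw [LinearMap.mem_ker, LinearMap.toSpanSingleton_apply, ← map_pow] at hn
      have h0 : P.presheaf.germ V s hsV (a ^ n • t) = 0 := by
        refine (PresheafOfModules.germ_smul (R := S.presheaf)
          (show PresheafOfModules (S.presheaf ⋙ forget₂ CommRingCat RingCat) from P.val) s V hsV (a ^ n) t).trans ?_
        refine Eq.trans ?_ hn
        exact congrArg (_ • ·) hgerm
      obtain ⟨c, hc, hcs⟩ := H29Blow.exists_smul_eq_zero_of_germ P hqc hV ⟨s, hsV⟩ _ h0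
      rw [smul_smul] at hcs
      have := hq.1.2 ((hsm _).mp hcs)
      rw [map_mul, map_pow] at this
      rcases hq.1.1.mem_or_mem this with h | h
      · exact absurd ⟨c, hc, rfl⟩ (Set.disjoint_left.mp hQS (hqQ h))
      · exact hq.1.1.mem_of_pow_mem n h
  have key : (hV.primeIdealOf ⟨f x.1, x.2⟩).asIdeal = p := by
    ext a
    rw [H29Blow.mem_primeIdealOf_iff, ← hcomap, Ideal.mem_comap, ← hxq, H29Blow.mem_primeIdealOf_iff,
      not_iff_not, ← isUnit_map_iff (f.stalkMap x.1).hom, Scheme.Hom.germ_stalkMap_apply]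
  exact ((((H29Blow.primeIdealOf_le_iff hV ⟨f x.1, x.2⟩ ⟨s, hsV⟩).mp key.le)).antisymm
    ((H29Blow.primeIdealOf_le_iff hV ⟨s, hsV⟩ ⟨f x.1, x.2⟩).mp key.ge)).eq

end Groth.Agent.S1708
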