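import Groth.Statements.S15791
import Groth.Agent.H23Wild.Norms

set_option autoImplicit false
universe u v
open WildQuot

namespace Groth.Agent.S15791

/-- Let `A` be a regular local ring of Krull dimension `n` with maximal ideal `m`, let a finite group
`G` of order `g` act on `A` by ring automorphisms, and let `u_1, …, u_n` be an admissible regular
system of parameters: for every choice `σ_1, …, σ_n ∈ G`, the elements `σ_1 u_1, …, σ_n u_n`
generate `m`. With `x_i = ∏_{σ ∈ G} σ u_i` the norms, the length of `A / (x_1, …, x_n)` is at most
`g ^ n`. (The published statement is for a complete regular local ring containing a `G`-fixed field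
of representatives and asserts that the length equals `g ^ n`; this row states the upper bound for
any regular local ring.) -/
theorem result
    (A : Type u) [CommRing A] [IsRegularLocalRing A]
    (G : Type v) [Group G] [Fintype G] [MulSemiringAction G A]
    (n : ℕ) (hn : ringKrullDim A = n) (u : Fin n → A)
    (hu : ∀ τ : Fin n → G,
      Ideal.span (Set.range fun i => τ i • u i) = IsLocalRing.maximalIdeal A) :
    Module.length A (A ⧸ Ideal.span (Set.range fun i => ∏ σ : G, σ • u i)) ≤
      (Fintype.card G ^ n : ℕ) := by
  classical
  let y : Fin n → G → A := fun i σ => σ • u i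
  let x : Fin n → A := fun i => ∏ σ : G, σ • u i
  let mix : Finset (Fin n) → (Fin n → G) → Fin n → A := fun t τ i => if i ∈ t then x i else y i (τ i)
  have key : ∀ (t : Finset (Fin n)) (τ : Fin n → G),
      Module.length A (A ⧸ Ideal.span (Set.range (mix t τ))) ≤ ((Fintype.card G ^ t.card : ℕ) : ℕ∞) := by
    intro t
    induction t using Finset.induction_on with
    | empty =>
      intro τ
      have hI : Ideal.span (Set.range (mix ∅ τ)) = IsLocalRing.maximalIdeal A := by
        rw [← hu τ]; congr 2
      rw [hI, Finset.card_empty, pow_zero, Nat.cast_one]
      haveI : IsSimpleModule A (A ⧸ IsLocalRing.maximalIdeal A) :=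
        isSimpleModule_iff_quot_maximal.mpr ⟨_, inferInstance, ⟨LinearEquiv.refl _ _⟩⟩
      exact (Module.length_eq_one _ _).le
    | insert i t hi ih =>
      intro τ
      let J : Ideal A := Ideal.span (mix t τ '' {j | j ≠ i})
      have hJ : ∀ σ : G, Ideal.span (Set.range (mix t (Function.update τ i σ))) = J ⊔ Ideal.span {y i σ} := by
        intro σ
        rw [← Groth.Agent.H23Wild.span_update_eq]
        congr 2
        funext j
        by_cases hj : j = i
        · subst hj; simp [mix, hi]
        · simp [mix, Function.update_of_ne hj]
      have hx : Ideal.span (Set.range (mix (insert i t) τ)) = J ⊔ Ideal.span {∏ σ ∈ Finset.univ, y i σ} := by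
        rw [← Groth.Agent.H23Wild.span_update_eq]
        congr 2
        funext j
        by_cases hj : j = i
        · subst hj; simp [mix, x, y]
        · simp [mix, Function.update_of_ne hj, hj]
      rw [hx]
      refine (Groth.Agent.H23Wild.length_prod_le J Finset.univ (y i)).trans
        ((Finset.sum_le_sum fun σ _ => (hJ σ ▸ ih (Function.update τ i σ))).trans ?_)
      rw [Finset.sum_const, Finset.card_insert_of_notMem hi, pow_succ', Finset.card_univ, nsmul_eq_mul]
      push_cast
      exact le_rfl
  have := key Finset.univ (fun _ => 1)
  rw [Finset.card_univ, Fintype.card_fin] at this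
  have e : mix Finset.univ (fun _ => 1) = fun i => ∏ σ : G, σ • u i := by funext i; simp [mix, x]
  rw [e] at this
  exact this

end Groth.Agent.S15791
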