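import Groth.Statements.S15792
import Mathlib.GroupTheory.PGroup
import Mathlib.RingTheory.Ideal.Cotangent
import Mathlib.RingTheory.Nakayama
import Mathlib.LinearAlgebra.Dimension.Finite
import Mathlib.Algebra.CharP.Quotient
import Mathlib.Algebra.Field.ZMod

set_option autoImplicit false
universe u v
open WildQuot

namespace Groth.Agent.S15792

/-- Let `A` be a regular local ring of Krull dimension `n` and prime characteristic `p`, and let a
finite `p`-group `G` act on `A` by ring automorphisms inducing the identity on the residue field.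
Then there is an admissible regular system of parameters: `u_1, …, u_n ∈ A` such that for every
choice `σ_1, …, σ_n ∈ G` the elements `σ_1 u_1, …, σ_n u_n` generate the maximal ideal. (The
published statement is for a complete regular local ring containing a field of representatives fixed
by `G`; this row drops completeness and asks only that `G` act trivially on the residue field.) -/
theorem result
    (p : ℕ) [Fact p.Prime] (A : Type u) [CommRing A] [IsRegularLocalRing A] [CharP A p]
    (G : Type v) [Group G] [Finite G] [MulSemiringAction G A] (hG : IsPGroup p G)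
    (hres : ∀ (σ : G) (a : A), σ • a - a ∈ IsLocalRing.maximalIdeal A)
    (n : ℕ) (hn : ringKrullDim A = n) :
    ∃ u : Fin n → A, ∀ τ : Fin n → G,
      Ideal.span (Set.range fun i => τ i • u i) = IsLocalRing.maximalIdeal A := by
  classical
  let mA := IsLocalRing.maximalIdeal A
  have hm : ∀ (σ : G) (a : A), a ∈ mA → σ • a ∈ mA := fun σ a ha hu => ha (by
    simpa using hu.map (MulSemiringAction.toRingHom G A σ⁻¹))
  have hm2 : ∀ (σ : G) (a : A), a ∈ mA ^ 2 → σ • a ∈ mA ^ 2 := fun σ a ha => by
    have h := Ideal.mem_map_of_mem (MulSemiringAction.toRingHom G A σ) ha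
    rw [Ideal.map_pow] at h
    exact Ideal.pow_right_mono (Ideal.map_le_iff_le_comap.mpr (show mA ≤ mA.comap (MulSemiringAction.toRingHom G A σ) from fun x hx => hm σ x hx)) 2 h
  have fixedPt : ∀ (W : Ideal A), W ≤ mA → (∀ (σ : G), ∀ z ∈ W, σ • z ∈ W) → ∀ v ∈ mA, v ∉ W →
      ∃ w ∈ mA, w ∉ W ∧ ∀ σ : G, σ • w - w ∈ W := by
    intro W hWm hWst v hv hvW
    haveI : Nontrivial (A ⧸ W) := Ideal.Quotient.nontrivial_iff.mpr
      (ne_top_of_le_ne_top (IsLocalRing.maximalIdeal.isMaximal A).ne_top hWm)
    haveI : CharP (A ⧸ W) p := by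
      have h0 : (p : A ⧸ W) = 0 := by rw [← map_natCast (Ideal.Quotient.mk W), CharP.cast_eq_zero, map_zero]
      exact ringChar.of_eq (CharP.ringChar_of_prime_eq_zero Fact.out h0)
    haveI : Fintype G := Fintype.ofFinite G
    let π : (G → ZMod p) →+ (A ⧸ W) :=
      { toFun := fun c => ∑ g : G, ZMod.castHom (dvd_refl p) (A ⧸ W) (c g) * Ideal.Quotient.mk W (g • v)
        map_zero' := by simp
        map_add' := fun c d => by
          simp only [Pi.add_apply, map_add, add_mul, Finset.sum_add_distrib] }
    have hS : ∀ (σ : G) (s : π.range), ∃ t : π.range, ∀ a, Ideal.Quotient.mk W a = (s : A ⧸ W) →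
        Ideal.Quotient.mk W (σ • a) = (t : A ⧸ W) := by
      rintro σ ⟨_, c, rfl⟩
      refine ⟨⟨_, fun g => c (σ⁻¹ * g), rfl⟩, fun a ha => ?_⟩
      let θ : A ⧸ W →+* A ⧸ W := Ideal.quotientMap W (MulSemiringAction.toRingHom G A σ)
        (fun z hz => hWst σ z hz)
      show θ (Ideal.Quotient.mk W a) = π _
      rw [ha]
      show θ (∑ g : G, _) = ∑ g : G, _
      rw [map_sum, ← Equiv.sum_comp (Equiv.mulLeft σ) (fun g => ZMod.castHom (dvd_refl p) (A ⧸ W) (c (σ⁻¹ * g)) *
        Ideal.Quotient.mk W (g • v))]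
      refine Finset.sum_congr rfl fun g _ => ?_
      rw [map_mul, ← RingHom.comp_apply θ, show θ.comp (ZMod.castHom (dvd_refl p) (A ⧸ W)) =
        ZMod.castHom (dvd_refl p) (A ⧸ W) from Subsingleton.elim _ _]
      rw [show θ (Ideal.Quotient.mk W (g • v)) = Ideal.Quotient.mk W (σ • g • v) from rfl]
      simp [mul_smul]
    choose act hact using hS
    letI : MulAction G π.range :=
      { smul := act
        one_smul := fun s => by
          obtain ⟨a, ha⟩ := Ideal.Quotient.mk_surjective (s : A ⧸ W)
          refine Subtype.ext ?_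
          rw [← ha, ← one_smul G a]
          exact (hact 1 s a ha).symm
        mul_smul := fun σ τ s => by
          obtain ⟨a, ha⟩ := Ideal.Quotient.mk_surjective (s : A ⧸ W)
          refine Subtype.ext ?_
          show (act (σ * τ) s : A ⧸ W) = (act σ (act τ s) : A ⧸ W)
          rw [← hact (σ * τ) s a ha, mul_smul, hact σ (act τ s) _ (hact τ s a ha)] }
    have hfix0 : (0 : π.range) ∈ MulAction.fixedPoints G π.range := fun σ => Subtype.ext (by
      show (act σ 0 : A ⧸ W) = ((0 : π.range) : A ⧸ W)
      rw [← hact σ 0 0 (by rw [map_zero]; rfl), smul_zero, map_zero]; rfl)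
    have hv' : Ideal.Quotient.mk W v ∈ π.range := ⟨Pi.single 1 1, by
      show ∑ g : G, _ = _
      rw [Finset.sum_eq_single (1 : G)]
      · simp
      · intro g _ hg; simp [Pi.single_eq_of_ne hg]
      · simp⟩
    have hp : p ∣ Nat.card π.range := by
      have h1 : Nat.card π.range ∣ Nat.card (G → ZMod p) :=
        AddSubgroup.card_dvd_of_surjective π.rangeRestrict π.rangeRestrict_surjective
      rw [Nat.card_fun, Nat.card_zmod] at h1
      obtain ⟨e, -, he⟩ := (Nat.dvd_prime_pow Fact.out).mp h1
      rcases Nat.eq_zero_or_pos e with rfl | hpos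
      · exfalso
        rw [pow_zero, Nat.card_eq_one_iff_unique] at he
        haveI := he.1
        exact hvW (Ideal.Quotient.eq_zero_iff_mem.mp
          (congrArg Subtype.val (Subsingleton.elim (⟨_, hv'⟩ : π.range) 0)))
      · rw [he]; exact dvd_pow_self p hpos.ne'
    obtain ⟨⟨_, c, rfl⟩, hb, hne⟩ := hG.exists_fixed_point_of_prime_dvd_card_of_fixed_point π.range hp hfix0
    let w : A := ∑ g : G, ((c g).val : A) * (g • v)
    have hw : Ideal.Quotient.mk W w = π c := by
      show _ = ∑ g : G, _
      rw [map_sum]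
      refine Finset.sum_congr rfl fun g _ => ?_
      rw [map_mul, map_natCast, ZMod.castHom_apply, ZMod.cast_eq_val]
    refine ⟨w, Ideal.sum_mem _ fun g _ => Ideal.mul_mem_left _ _ (hm g v hv), fun hwW => hne (Subtype.ext ?_),
      fun σ => ?_⟩
    · show (0 : A ⧸ W) = π c
      rw [← hw, Ideal.Quotient.eq_zero_iff_mem.mpr hwW]
    · rw [← Ideal.Quotient.eq, hact σ ⟨_, c, rfl⟩ w hw, hw]
      exact congrArg Subtype.val (hb σ)
  have hfr : Module.finrank (IsLocalRing.ResidueField A) (IsLocalRing.CotangentSpace A) = n := by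
    have h := (IsRegularLocalRing.iff_finrank_cotangentSpace A).mp (inferInstance : IsRegularLocalRing A)
    rw [hn] at h
    exact_mod_cast h
  let W : ∀ {j : ℕ}, (Fin j → mA) → Ideal A := fun u => Ideal.span (Set.range fun i => (u i : A)) ⊔ mA ^ 2
  have hcot : ∀ {j : ℕ} (u : Fin j → mA) (z : mA),
      mA.toCotangent z ∈ Submodule.span (IsLocalRing.ResidueField A) (Set.range fun i => mA.toCotangent (u i)) ↔
        (z : A) ∈ W u := by
    intro j u z
    rw [← Submodule.restrictScalars_mem A,
      Submodule.restrictScalars_span A (IsLocalRing.ResidueField A) IsLocalRing.residue_surjective,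
      show (Set.range fun i => mA.toCotangent (u i)) = mA.toCotangent '' Set.range u from Set.range_comp _ _,
      Submodule.span_image, ← Submodule.mem_comap, Submodule.comap_map_eq]
    have hmap : (Submodule.span A (Set.range u) ⊔ LinearMap.ker mA.toCotangent).map mA.subtype = W u := by
      rw [Submodule.map_sup, Submodule.map_span, ← Set.range_comp, Ideal.map_toCotangent_ker]
      rfl
    rw [← hmap]
    exact ⟨fun h => ⟨z, h, rfl⟩, fun ⟨z', hz', e⟩ => (Subtype.ext e : z' = z) ▸ hz'⟩
  have hWst : ∀ {j : ℕ} (u : Fin j → mA), (∀ (σ : G) i, σ • (u i : A) - u i ∈ W u) →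
      ∀ σ : G, ∀ z ∈ W u, σ • z ∈ W u := by
    intro j u hu σ z hz
    have : W u ≤ (W u).comap (MulSemiringAction.toRingHom G A σ) := by
      refine sup_le (Ideal.span_le.mpr ?_) fun x hx => Submodule.mem_sup_right (hm2 σ x hx)
      rintro _ ⟨i, rfl⟩
      show σ • (u i : A) ∈ W u
      simpa using add_mem (hu σ i) (Submodule.mem_sup_left (Ideal.subset_span ⟨i, rfl⟩) : (u i : A) ∈ W u)
    exact this hz
  have build : ∀ j ≤ n, ∃ u : Fin j → mA,
      LinearIndependent (IsLocalRing.ResidueField A) (fun i => mA.toCotangent (u i)) ∧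
      ∀ (σ : G) i, σ • (u i : A) - u i ∈ Ideal.span ((fun l => (u l : A)) '' {l | l < i}) ⊔ mA ^ 2 := by
    intro j
    induction j with
    | zero => exact fun _ => ⟨Fin.elim0, linearIndependent_empty_type, fun _ i => Fin.elim0 i⟩
    | succ j ih =>
      intro hj
      obtain ⟨u, hli, htri⟩ := ih (by omega)
      have hlt : ∃ z : mA, (z : A) ∉ W u := by
        by_contra hall
        push Not at hall
        have htop : Submodule.span (IsLocalRing.ResidueField A) (Set.range fun i => mA.toCotangent (u i)) = ⊤ :=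
          eq_top_iff.mpr fun y _ => by
            obtain ⟨z, rfl⟩ := mA.toCotangent_surjective y
            exact (hcot u z).mpr (hall z)
        have h := finrank_range_le_card (R := IsLocalRing.ResidueField A) fun i => mA.toCotangent (u i)
        unfold Set.finrank at h
        rw [htop, finrank_top, hfr, Fintype.card_fin] at h
        omega
      obtain ⟨z, hz⟩ := hlt
      have hW : W u ≤ mA := sup_le (Ideal.span_le.mpr (by rintro _ ⟨i, rfl⟩; exact (u i).2))
        (Ideal.pow_le_self two_ne_zero)
      obtain ⟨w, hw, hwW, hwσ⟩ := fixedPt (W u) hW (hWst u fun σ i => SetLike.le_def.mp (sup_le_sup_right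
        (Ideal.span_mono (Set.image_subset_range _ _)) _) (htri σ i)) z z.2 hz
      refine ⟨Fin.snoc u ⟨w, hw⟩, ?_, fun σ i => ?_⟩
      · rw [show (fun i => mA.toCotangent (Fin.snoc (α := fun _ => mA) u ⟨w, hw⟩ i)) =
          Fin.snoc (fun i => mA.toCotangent (u i)) (mA.toCotangent ⟨w, hw⟩) from Fin.comp_snoc _ _ _]
        exact linearIndependent_finSnoc.mpr ⟨hli, fun h => hwW ((hcot u ⟨w, hw⟩).mp h)⟩
      · refine Fin.lastCases ?_ (fun i => ?_) i
        · rw [Fin.snoc_last]
          refine SetLike.le_def.mp (sup_le_sup_right (Ideal.span_mono ?_) _) (hwσ σ)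
          rintro _ ⟨l, rfl⟩
          exact ⟨l.castSucc, Fin.castSucc_lt_last l, by simp⟩
        · rw [Fin.snoc_castSucc]
          refine SetLike.le_def.mp (sup_le_sup_right (Ideal.span_mono ?_) _) (htri σ i)
          rintro _ ⟨l, hl, rfl⟩
          exact ⟨l.castSucc, Fin.castSucc_lt_castSucc_iff.mpr hl, by simp⟩
  obtain ⟨u, hli, htri⟩ := build n le_rfl
  have hall : mA ≤ W u := fun z hz => (hcot u ⟨z, hz⟩).mp (by
    rw [hli.span_eq_top_of_card_eq_finrank' (by rw [Fintype.card_fin, hfr])]
    exact Submodule.mem_top)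
  refine ⟨fun i => u i, fun τ => ?_⟩
  let T : Ideal A := Ideal.span (Set.range fun i => τ i • (u i : A))
  have hTm : T ≤ mA := Ideal.span_le.mpr (by rintro _ ⟨i, rfl⟩; exact hm _ _ (u i).2)
  have hu : ∀ i, (u i : A) ∈ T ⊔ mA ^ 2 := by
    intro i
    induction i using WellFoundedLT.induction with
    | _ i ih =>
      have h1 : Ideal.span ((fun l => (u l : A)) '' {l | l < i}) ⊔ mA ^ 2 ≤ T ⊔ mA ^ 2 :=
        sup_le (Ideal.span_le.mpr (by rintro _ ⟨l, hl, rfl⟩; exact ih l hl)) le_sup_right
      have h2 : τ i • (u i : A) ∈ T ⊔ mA ^ 2 := Submodule.mem_sup_left (Ideal.subset_span ⟨i, rfl⟩)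
      simpa using sub_mem h2 (h1 (htri (τ i) i))
  refine le_antisymm hTm (Submodule.le_of_le_smul_of_le_jacobson_bot (IsNoetherian.noetherian mA)
    (IsLocalRing.maximalIdeal_le_jacobson ⊥) ?_)
  refine hall.trans (sup_le (Ideal.span_le.mpr ?_) ?_)
  · rintro _ ⟨i, rfl⟩
    rw [smul_eq_mul, ← pow_two]
    exact hu i
  · rw [smul_eq_mul, ← pow_two]
    exact le_sup_right

end Groth.Agent.S15792
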