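import Groth.Statements.S15793
import Mathlib.RingTheory.Ideal.KrullsHeightTheorem
import Mathlib.RingTheory.Filtration
import Mathlib.Algebra.Algebra.Basic

set_option autoImplicit false
universe u v w
open WildQuot

namespace Groth.Agent.S15793

/-- Let `A` be a complete regular local ring of Krull dimension at least `2` and prime characteristic
`p`, with maximal ideal `m`; let `k` be a field with a ring map `k → A` whose composite with `A →
A/m` is onto (a field of representatives); let `G` be a group of order `p` acting on `A` by ring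
automorphisms that fix the image of `k`, ramified precisely at the origin: for every prime `P ≠ m`,
the inertia subgroup of `P` (the elements of `G` fixing every element of `A` modulo `P`) is trivial.
Then no element of `m` outside `m ^ 2` is fixed by every element of `G`; in particular the action is
not linear in any regular system of parameters. -/
theorem result
    (p : ℕ) [Fact p.Prime] (A : Type u) [CommRing A] [IsRegularLocalRing A] [CharP A p]
    [IsAdicComplete (IsLocalRing.maximalIdeal A) A] (hdim : 2 ≤ ringKrullDim A)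
    (k : Type v) [Field k] [Algebra k A]
    (hk : Function.Surjective (IsLocalRing.residue A ∘ algebraMap k A))
    (G : Type w) [Group G] [Finite G] [MulSemiringAction G A] (hcard : Nat.card G = p)
    (hGk : ∀ (σ : G) (c : k), σ • algebraMap k A c = algebraMap k A c)
    (hram : ∀ P : Ideal A, P.IsPrime → P ≠ IsLocalRing.maximalIdeal A → P.inertia G = ⊥)
    (v : A) (hv : v ∈ IsLocalRing.maximalIdeal A) (hv2 : v ∉ IsLocalRing.maximalIdeal A ^ 2) :
    ∃ σ : G, σ • v ≠ v := by
  classical
  by_contra hfix
  push Not at hfix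
  let mA := IsLocalRing.maximalIdeal A
  obtain ⟨s, hscard, hsspan⟩ := Submodule.FG.exists_span_finset_card_eq_spanFinrank (IsNoetherian.noetherian mA)
  have hs : Ideal.span (s : Set A) = mA := hsspan
  obtain ⟨w, hw, hspan⟩ : ∃ w ∈ s, Ideal.span (insert v (s.erase w : Set A)) = mA := by
    have hv' : v ∈ Ideal.span (s : Set A) := hs.symm ▸ hv
    obtain ⟨b, -, hb⟩ := Submodule.mem_span_finset.mp hv'
    have hex : ∃ w ∈ s, IsUnit (b w) := by
      by_contra hne
      push Not at hne
      refine hv2 (hb ▸ Submodule.sum_mem _ fun w hw => ?_)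
      rw [pow_two]
      exact Ideal.mul_mem_mul (hne w hw) (hs.le (Ideal.subset_span hw))
    obtain ⟨w, hw, hbw⟩ := hex
    refine ⟨w, hw, le_antisymm (Ideal.span_le.mpr ?_) ?_⟩
    · rintro z (rfl | hz)
      · exact hv
      · exact hs ▸ Ideal.subset_span (Finset.mem_of_mem_erase hz)
    · rw [← hs, Ideal.span_le]
      intro z hz
      by_cases hzw : z = w
      · subst hzw
        rw [← Finset.add_sum_erase _ _ hz] at hb
        have hbw' : b z • z = v - ∑ i ∈ s.erase z, b i • i := eq_sub_of_add_eq hb
        refine (Ideal.unit_mul_mem_iff_mem _ hbw).mp ?_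
        rw [← smul_eq_mul, hbw']
        exact sub_mem (Ideal.subset_span (Set.mem_insert _ _)) (Submodule.sum_mem _ fun i hi =>
          Ideal.mul_mem_left _ _ (Ideal.subset_span (Set.mem_insert_of_mem _ hi)))
      · exact Ideal.subset_span (Set.mem_insert_of_mem _ (Finset.mem_erase.mpr ⟨hzw, hz⟩))
  haveI : Fact p.Prime := inferInstance
  obtain ⟨σ, hσ⟩ : ∃ σ : G, σ ≠ 1 := by
    haveI : Nontrivial G := (Finite.one_lt_card_iff_nontrivial).mp (hcard ▸ (Fact.out : p.Prime).one_lt)
    exact exists_ne 1
  let J : Ideal A := Ideal.span ((fun a => σ • a - a) '' (s.erase w : Set A))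
  have hm : ∀ a ∈ mA, σ • a ∈ mA := fun a ha hu => ha (by
    simpa using hu.map (MulSemiringAction.toRingHom G A σ⁻¹))
  have hJm : J ≤ mA := Ideal.span_le.mpr (by
    rintro _ ⟨a, ha, rfl⟩
    have ham : a ∈ mA := hs ▸ Ideal.subset_span (Finset.mem_of_mem_erase ha)
    exact sub_mem (hm a ham) ham)
  have happ : ∀ N : ℕ, ∀ t : A, σ • t - t ∈ J ⊔ mA ^ N := by
    intro N
    induction N with
    | zero => intro t; rw [pow_zero, Ideal.one_eq_top, sup_top_eq]; exact Submodule.mem_top
    | succ N ih =>
      have hkey : ∀ z ∈ mA, σ • z - z ∈ J ⊔ mA ^ (N + 1) := by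
        intro z hz
        rw [← hspan] at hz
        obtain ⟨c, -, hc⟩ := Submodule.mem_span_finset (R := A) (s := insert v (s.erase w)).mp
          (by rw [Finset.coe_insert]; exact hz)
        rw [← hc, Finset.smul_sum, ← Finset.sum_sub_distrib]
        refine Submodule.sum_mem _ fun i hi => ?_
        have e : σ • (c i • i) - c i • i = σ • c i * (σ • i - i) + (σ • c i - c i) * i := by
          rw [smul_eq_mul, smul_mul']; ring
        rw [e]
        refine add_mem (Ideal.mul_mem_left _ _ (Submodule.mem_sup_left ?_)) ?_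
        · rcases Finset.mem_insert.mp hi with rfl | hi'
          · rw [hfix σ, sub_self]; exact zero_mem J
          · exact Ideal.subset_span ⟨i, hi', rfl⟩
        · have him : i ∈ mA := by
            rw [← hspan, ← Finset.coe_insert]
            exact Ideal.subset_span hi
          obtain ⟨j, hj, l, hl, hjl⟩ := Submodule.mem_sup.mp (ih (c i))
          rw [← hjl, add_mul, pow_succ]
          exact Submodule.add_mem_sup (Ideal.mul_mem_right _ _ hj) (Ideal.mul_mem_mul hl him)
      intro t
      obtain ⟨r, hr⟩ := hk (IsLocalRing.residue A t)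
      have hz : t - algebraMap k A r ∈ mA := Ideal.Quotient.eq.mp hr.symm
      have := hkey _ hz
      rwa [smul_sub, hGk, sub_sub_sub_cancel_right] at this
  have hfull : ∀ t : A, σ • t - t ∈ J := by
    intro t
    haveI : Nontrivial (A ⧸ J) := Ideal.Quotient.nontrivial_iff.mpr
      (ne_top_of_le_ne_top (IsLocalRing.maximalIdeal.isMaximal A).ne_top hJm)
    haveI : IsLocalRing (A ⧸ J) := .of_surjective' _ Ideal.Quotient.mk_surjective
    rw [← Ideal.Quotient.eq_zero_iff_mem, ← Submodule.mem_bot (A ⧸ J),
      ← Ideal.iInf_pow_eq_bot_of_isLocalRing (mA.map (Ideal.Quotient.mk J)) ?_, Submodule.mem_iInf]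
    · intro N
      obtain ⟨j, hj, l, hl, hjl⟩ := Submodule.mem_sup.mp (happ N t)
      rw [← hjl, map_add, Ideal.Quotient.eq_zero_iff_mem.mpr hj, zero_add, ← Ideal.map_pow]
      exact Ideal.mem_map_of_mem _ hl
    · intro htop
      have := congrArg (Ideal.comap (Ideal.Quotient.mk J)) htop
      rw [Ideal.comap_map_of_surjective _ Ideal.Quotient.mk_surjective, ← RingHom.ker_eq_comap_bot, Ideal.mk_ker,
        sup_eq_left.mpr hJm, Ideal.comap_top] at this
      exact (IsLocalRing.maximalIdeal.isMaximal A).ne_top this
  obtain ⟨P, hP, -⟩ := Ideal.exists_minimalPrimes_le (I := J) (J := mA) hJm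
  haveI := hP.1.1
  have hPm : P ≠ mA := fun h => by
    have h1 := Ideal.height_le_card_of_mem_minimalPrimes_span (((s.erase w).finite_toSet).image _) hP
    have h2 : ((fun a => σ • a - a) '' (s.erase w : Set A)).ncard ≤ mA.spanFinrank - 1 :=
      (Set.ncard_image_le (s.erase w).finite_toSet).trans (by rw [Set.ncard_coe_finset, Finset.card_erase_of_mem hw, hscard])
    have h3 : (mA.height : WithBot ℕ∞) = (mA.spanFinrank : WithBot ℕ∞) := by
      rw [IsLocalRing.maximalIdeal_height_eq_ringKrullDim, ← IsRegularLocalRing.spanFinrank_maximalIdeal]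
    have h4 : mA.height = (mA.spanFinrank : ℕ∞) := WithBot.coe_inj.mp h3
    rw [h] at h1
    have h5 : (mA.spanFinrank : ℕ∞) ≤ ((mA.spanFinrank - 1 : ℕ) : ℕ∞) :=
      h4 ▸ h1.trans (Nat.cast_le.mpr h2)
    have h6 : 0 < mA.spanFinrank := hscard ▸ Finset.card_pos.mpr ⟨w, hw⟩
    exact absurd (Nat.cast_le.mp h5) (by omega)
  have hin : σ ∈ P.inertia G := fun t => hP.1.2 (hfull t)
  rw [hram P inferInstance hPm, Subgroup.mem_bot] at hin
  exact hσ hin

end Groth.Agent.S15793
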