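import Groth.Statements.S15795
import Mathlib

set_option autoImplicit false
universe u v
open WildQuot

namespace Groth.Agent.S15795

/-- Let `A` be a regular local ring of Krull dimension `n` with maximal ideal `m`, let a finite group
`G` act on `A` by ring automorphisms inducing the identity on the residue field, and let `u_1, …,
u_n` generate `m`. Suppose that for every `σ ∈ G` and every `i`, `σ u_i ∈ (u_1, …, u_i) + m ^ 2`,
i.e. the induced linear maps of `m / m ^ 2` are upper triangular in the basis given by the `u_i`.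
Then the system `u` is admissible: for every choice `σ_1, …, σ_n ∈ G` the elements `σ_1 u_1, …, σ_n
u_n` generate `m`. (The published statement is for a complete regular local ring containing a
`G`-fixed field of representatives; this row drops completeness and asks only that `G` act trivially
on the residue field.) -/
theorem result
    (A : Type u) [CommRing A] [IsRegularLocalRing A]
    (G : Type v) [Group G] [Finite G] [MulSemiringAction G A]
    (hres : ∀ (σ : G) (a : A), σ • a - a ∈ IsLocalRing.maximalIdeal A)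
    (n : ℕ) (hn : ringKrullDim A = n) (u : Fin n → A)
    (hu : Ideal.span (Set.range u) = IsLocalRing.maximalIdeal A)
    (htri : ∀ (σ : G) (i : Fin n),
      σ • u i ∈ Ideal.span (u '' {j | j ≤ i}) ⊔ IsLocalRing.maximalIdeal A ^ 2) :
    ∀ τ : Fin n → G,
      Ideal.span (Set.range fun i => τ i • u i) = IsLocalRing.maximalIdeal A := by
  classical
  intro τ
  have hmem : ∀ (σ : G) (a : A), a ∈ IsLocalRing.maximalIdeal A → σ • a ∈ IsLocalRing.maximalIdeal A := by
    intro σ a ha
    simpa using add_mem (hres σ a) ha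
  have hsq : ∀ (σ : G) (a : A), a ∈ IsLocalRing.maximalIdeal A ^ 2 → σ • a ∈ IsLocalRing.maximalIdeal A ^ 2 := by
    intro σ a ha
    rw [sq] at ha ⊢
    refine Submodule.mul_induction_on ha (fun x hx y hy => ?_) (fun x y hx hy => ?_)
    · rw [smul_mul']
      exact Ideal.mul_mem_mul (hmem σ x hx) (hmem σ y hy)
    · rw [smul_add]
      exact add_mem hx hy
  set I := Ideal.span (Set.range fun i => τ i • u i) with hI
  set m := IsLocalRing.maximalIdeal A with hm
  have hIm : I ≤ m := by
    rw [hI, Ideal.span_le]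
    rintro _ ⟨i, rfl⟩
    exact hmem _ _ (hu ▸ Ideal.subset_span ⟨i, rfl⟩)
  refine le_antisymm hIm ?_
  suffices key : ∀ i, u i ∈ I ⊔ m ^ 2 by
    refine Submodule.le_of_le_smul_of_le_jacobson_bot (IsNoetherian.noetherian m)
      (IsLocalRing.jacobson_eq_maximalIdeal ⊥ bot_ne_top).ge ?_
    rw [Ideal.smul_eq_mul, ← sq]
    conv_lhs => rw [← hu]
    exact Ideal.span_le.mpr (by rintro _ ⟨i, rfl⟩; exact key i)
  intro i
  induction i using Fin.strong_induction_on with
  | _ i ih =>
  -- write `τ i • u i = a u i + (lower) + m²`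
  have h1 : τ i • u i ∈ Ideal.span {u i} ⊔ (Ideal.span (u '' {j | j < i}) ⊔ m ^ 2) := by
    refine (sup_le ?_ (le_sup_right.trans le_sup_right) :
      Ideal.span (u '' {j | j ≤ i}) ⊔ m ^ 2 ≤ _) (htri (τ i) i)
    rw [Ideal.span_le]
    rintro _ ⟨j, hj, rfl⟩
    rcases lt_or_eq_of_le (show j ≤ i from hj) with h | rfl
    · exact Ideal.mem_sup_right (Ideal.mem_sup_left (Ideal.subset_span ⟨j, h, rfl⟩))
    · exact Ideal.mem_sup_left (Ideal.subset_span rfl)
  obtain ⟨y, hy, z, hz, hyz⟩ := Submodule.mem_sup.mp h1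
  obtain ⟨a, rfl⟩ := Ideal.mem_span_singleton'.mp hy
  have hlow : Ideal.span (u '' {j | j < i}) ⊔ m ^ 2 ≤ I ⊔ m ^ 2 := by
    refine sup_le (Ideal.span_le.mpr ?_) le_sup_right
    rintro _ ⟨j, hj, rfl⟩
    exact ih j hj
  by_cases ha : IsUnit a
  · obtain ⟨b, rfl⟩ := ha
    have : u i = (↑b⁻¹ : A) * (τ i • u i - z) := by
      rw [← hyz, add_sub_cancel_right, ← mul_assoc, Units.inv_mul, one_mul]
    rw [this]
    exact Ideal.mul_mem_left _ _ (sub_mem (Ideal.mem_sup_left (Ideal.subset_span ⟨i, rfl⟩)) (hlow hz))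
  exfalso
  have h2 : τ i • u i ∈ Ideal.span (u '' {j | j < i}) ⊔ m ^ 2 := by
    rw [← hyz]
    refine add_mem (Ideal.mem_sup_right ?_) hz
    rw [sq]
    exact Ideal.mul_mem_mul ha (hu ▸ Ideal.subset_span ⟨i, rfl⟩)
  have h3 : u i ∈ Ideal.span (u '' {j | j < i}) ⊔ m ^ 2 := by
    obtain ⟨y, hy, z, hz, hyz⟩ := Submodule.mem_sup.mp h2
    have := congrArg ((τ i)⁻¹ • ·) hyz
    simp only [smul_add, inv_smul_smul] at this
    rw [← this]
    refine add_mem ?_ (Ideal.mem_sup_right (hsq _ _ hz))
    clear this hyz hz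
    induction hy using Submodule.span_induction with
    | mem x hx =>
      obtain ⟨j, hj, rfl⟩ := hx
      refine (sup_le ?_ le_sup_right : Ideal.span (u '' {l | l ≤ j}) ⊔ m ^ 2 ≤ _) (htri _ j)
      exact le_sup_of_le_left (Ideal.span_mono (Set.image_mono fun l hl => lt_of_le_of_lt (show l ≤ j from hl) hj))
    | zero => simp
    | add x y _ _ hx hy => rw [smul_add]; exact add_mem hx hy
    | smul c x _ hx => rw [smul_eq_mul, smul_mul']; exact Ideal.mul_mem_left _ _ hx
  -- so `m` has fewer than `n` generators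
  have h4 : m ≤ Ideal.span (u '' {j | j ≠ i}) := by
    refine Submodule.le_of_le_smul_of_le_jacobson_bot (IsNoetherian.noetherian m)
      (IsLocalRing.jacobson_eq_maximalIdeal ⊥ bot_ne_top).ge ?_
    rw [Ideal.smul_eq_mul, ← sq]
    conv_lhs => rw [← hu]
    rw [Ideal.span_le]
    rintro _ ⟨j, rfl⟩
    rcases eq_or_ne j i with rfl | hj
    · have hs : u '' {l | l < j} ⊆ u '' {l | l ≠ j} := Set.image_mono fun l hl => ne_of_lt hl
      have hle : Ideal.span (u '' {l | l < j}) ⊔ m ^ 2 ≤ Ideal.span (u '' {l | l ≠ j}) ⊔ m ^ 2 :=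
        sup_le ((Ideal.span_mono hs).trans le_sup_left) le_sup_right
      exact hle h3
    · exact Ideal.mem_sup_left (Ideal.subset_span ⟨j, hj, rfl⟩)
  have h5 : Ideal.span (u '' {j | j ≠ i}) = m :=
    le_antisymm (hu ▸ Ideal.span_mono (Set.image_subset_range _ _)) h4
  have hmin : m ∈ (Ideal.span (u '' {j | j ≠ i})).minimalPrimes := by
    rw [h5]
    exact ⟨⟨Ideal.IsMaximal.isPrime inferInstance, le_rfl⟩, fun P hP _ => hP.2⟩
  have h6 := Ideal.height_le_card_of_mem_minimalPrimes_span ((Set.toFinite {j | j ≠ i}).image u) hmin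
  have h7 : (u '' {j | j ≠ i}).ncard < n := by
    refine (Set.ncard_image_le (Set.toFinite _)).trans_lt ?_
    calc {j : Fin n | j ≠ i}.ncard < (Set.univ : Set (Fin n)).ncard :=
          Set.ncard_lt_ncard ⟨Set.subset_univ _, fun h => h (Set.mem_univ i) rfl⟩ (Set.toFinite _)
      _ = n := by simp
  rw [← IsLocalRing.maximalIdeal_height_eq_ringKrullDim] at hn
  have h8 : m.height = (n : ℕ∞) := by exact_mod_cast hn
  rw [h8, Nat.cast_le] at h6
  omega

end Groth.Agent.S15795
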