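import Groth.Statements.S15796
import Mathlib

set_option autoImplicit false
universe u v
open WildQuot

namespace Groth.Agent.S15796

/-- Let `A` be a Noetherian local ring of Krull dimension `n` whose maximal ideal `m` is generated by
`u_1, …, u_n`, and let a finite group `G` act on `A` by ring automorphisms. If some `σ ∈ G` maps
some `u_i` into the ideal generated by the `u_j` with `j ≠ i`, then the system `u` is not weakly
admissible: for some choice `σ_1, …, σ_n ∈ G` the radical of `(σ_1 u_1, …, σ_n u_n)` does not
contain `m`. (The published statement is for a linear action on `k[[u_1, …, u_n]]` whose matrix has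
a zero diagonal entry; this row assumes instead that some `σ u_i` lies in the ideal generated by the
other `u_j`.) -/
theorem result
    (A : Type u) [CommRing A] [IsLocalRing A] [IsNoetherianRing A]
    (G : Type v) [Group G] [Finite G] [MulSemiringAction G A]
    (n : ℕ) (hn : ringKrullDim A = n) (u : Fin n → A)
    (hu : Ideal.span (Set.range u) = IsLocalRing.maximalIdeal A)
    (σ : G) (i : Fin n) (hσ : σ • u i ∈ Ideal.span (u '' {j | j ≠ i})) :
    ∃ τ : Fin n → G,
      ¬ IsLocalRing.maximalIdeal A ≤ (Ideal.span (Set.range fun j => τ j • u j)).radical := by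
  classical
  refine ⟨fun j => if j = i then σ else 1, fun h => ?_⟩
  set J := Ideal.span (u '' {j | j ≠ i}) with hJ
  have hle : Ideal.span (Set.range fun j => (if j = i then σ else 1) • u j) ≤ J := by
    rw [Ideal.span_le]
    rintro _ ⟨j, rfl⟩
    rcases eq_or_ne j i with rfl | hj
    · simpa using hσ
    · simp only [if_neg hj, one_smul]
      exact Ideal.subset_span ⟨j, hj, rfl⟩
  have hJm : J ≤ IsLocalRing.maximalIdeal A := by
    rw [hJ, ← hu]
    exact Ideal.span_mono (Set.image_subset_range _ _)
  have hmin : IsLocalRing.maximalIdeal A ∈ J.minimalPrimes := by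
    refine ⟨⟨Ideal.IsMaximal.isPrime inferInstance, hJm⟩, fun P hP _ => ?_⟩
    exact (h.trans (Ideal.radical_mono hle)).trans (hP.1.radical_le_iff.mpr hP.2)
  have h1 := Ideal.height_le_card_of_mem_minimalPrimes_span ((Set.toFinite {j | j ≠ i}).image u) hmin
  have h2 : (u '' {j | j ≠ i}).ncard < n := by
    refine (Set.ncard_image_le (Set.toFinite _)).trans_lt ?_
    calc {j : Fin n | j ≠ i}.ncard < (Set.univ : Set (Fin n)).ncard :=
          Set.ncard_lt_ncard ⟨Set.subset_univ _, fun h => h (Set.mem_univ i) rfl⟩ (Set.toFinite _)
      _ = n := by simp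
  rw [← IsLocalRing.maximalIdeal_height_eq_ringKrullDim] at hn
  have h3 : (IsLocalRing.maximalIdeal A).height = (n : ℕ∞) := by exact_mod_cast hn
  rw [h3, Nat.cast_le] at h1
  omega

end Groth.Agent.S15796
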