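import Groth.Statements.S15797
import Groth.Agent.H23Wild.Norms
import Groth.Agent.H8Props.MiracleFlat

set_option autoImplicit false
universe u v
open WildQuot

namespace Groth.Agent.S15797

/-- Let `A` be a regular local ring of Krull dimension `n` with maximal ideal `m` generated by `u_1, …,
u_n`, let a finite group `G` of order `g` act on `A` by ring automorphisms, and suppose `u` is
weakly admissible: for every choice `σ_1, …, σ_n ∈ G` the radical of `(σ_1 u_1, …, σ_n u_n)`
contains `m`. With `x_i = ∏_{σ ∈ G} σ u_i` the norms, the length of `A / (x_1, …, x_n)` is at least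
`g ^ n` (so the finite flat map from `k[[x_1, …, x_n]]` has degree at least `g ^ n`). (The published
statement is for a complete regular local ring containing a `G`-fixed field of representatives; this
row does not assume those.) -/
theorem result
    (A : Type u) [CommRing A] [IsRegularLocalRing A]
    (G : Type v) [Group G] [Fintype G] [MulSemiringAction G A]
    (n : ℕ) (hn : ringKrullDim A = n) (u : Fin n → A)
    (hu : Ideal.span (Set.range u) = IsLocalRing.maximalIdeal A)
    (hwa : ∀ τ : Fin n → G,
      IsLocalRing.maximalIdeal A ≤ (Ideal.span (Set.range fun i => τ i • u i)).radical) :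
    ((Fintype.card G ^ n : ℕ) : ℕ∞) ≤
      Module.length A (A ⧸ Ideal.span (Set.range fun i => ∏ σ : G, σ • u i)) := by
  classical
  let y : Fin n → G → A := fun i σ => σ • u i
  let x : Fin n → A := fun i => ∏ σ : G, σ • u i
  let mix : Finset (Fin n) → (Fin n → G) → Fin n → A := fun t τ i => if i ∈ t then x i else y i (τ i)
  haveI := Groth.Agent.H4Depth.isCohenMacaulayLocalRing_of_regular A
  have hym : ∀ i σ, y i σ ∈ IsLocalRing.maximalIdeal A := fun i σ hunit => (hu ▸ Ideal.subset_span ⟨i, rfl⟩ :
    u i ∈ IsLocalRing.maximalIdeal A) (by simpa [y] using hunit.map (MulSemiringAction.toRingHom G A σ⁻¹))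
  have hreg : ∀ (z : Fin n → A) (i : Fin n), (∀ j, z j ∈ IsLocalRing.maximalIdeal A) →
      IsLocalRing.maximalIdeal A ≤ (Ideal.span (Set.range z)).radical →
      ∀ w, z i * w ∈ Ideal.span (z '' {j | j ≠ i}) → w ∈ Ideal.span (z '' {j | j ≠ i}) := by
    intro z i hz hrad
    let l : List A := ((Finset.univ.erase i).toList.map z) ++ [z i]
    have hl : Ideal.ofList ((Finset.univ.erase i).toList.map z) = Ideal.span (z '' {j | j ≠ i}) := by
      unfold Ideal.ofList
      congr 1
      ext a
      simp
    have hall : Ideal.ofList l = Ideal.span (Set.range z) := by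
      rw [Ideal.ofList_append, hl, Ideal.ofList_singleton]
      conv_rhs => rw [← Function.update_eq_self i z, Groth.Agent.H23Wild.span_update_eq]
    have hlen : l.length = n := by
      have := Nat.lt_of_le_of_lt (Nat.zero_le _) i.isLt
      simp [l]; omega
    have h0 : Module.supportDim A (A ⧸ Ideal.ofList l • (⊤ : Submodule A A)) ≤ (0 : WithBot ℕ∞) := by
      rw [Module.supportDim_eq_of_equiv (Submodule.quotEquivOfEq _ (Ideal.span (Set.range z))
        (by rw [smul_eq_mul, Ideal.mul_top, hall])), Module.supportDim_quotient_eq_ringKrullDim]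
      refine (Ring.krullDimLE_iff (n := 0)).mp (Ring.KrullDimLE.mk₀ fun P hP => ?_)
      have hP' := Ideal.comap_isPrime (Ideal.Quotient.mk (Ideal.span (Set.range z))) P
      have hle : IsLocalRing.maximalIdeal A ≤ P.comap (Ideal.Quotient.mk (Ideal.span (Set.range z))) :=
        hrad.trans ((Ideal.radical_mono (by
          conv_lhs => rw [← Ideal.mk_ker (I := Ideal.span (Set.range z))]
          exact Ideal.comap_mono bot_le)).trans hP'.radical.le)
      have hM : (P.comap (Ideal.Quotient.mk (Ideal.span (Set.range z)))).IsMaximal :=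
        (IsLocalRing.maximalIdeal.isMaximal A).eq_of_le hP'.ne_top hle ▸ IsLocalRing.maximalIdeal.isMaximal A
      rw [← Ideal.map_comap_of_surjective _ Ideal.Quotient.mk_surjective P]
      exact Ideal.IsMaximal.map_of_surjective_of_ker_le Ideal.Quotient.mk_surjective (by
        conv_lhs => rw [RingHom.ker_eq_comap_bot]
        exact Ideal.comap_mono bot_le)
    have hw : RingTheory.Sequence.IsWeaklyRegular A l := by
      refine Groth.Agent.H8Props.MiracleFlat.isWeaklyRegular_of_supportDim l A ?_
        (‹LocCoh.IsCohenMacaulayLocalRing A›).supportDim_eq_depth ?_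
      · intro r hr
        simp [l] at hr
        rcases hr with ⟨j, -, rfl⟩ | rfl <;> exact hz _
      · rw [Module.supportDim_self_eq_ringKrullDim, hn, hlen]
        refine (add_le_add_left h0 _).trans ?_
        rw [zero_add]
    have := ((RingTheory.Sequence.isWeaklyRegular_append_iff A _ [z i]).mp hw).2
    rw [RingTheory.Sequence.isWeaklyRegular_cons_iff] at this
    intro w hw'
    have h := @this.1 (Submodule.Quotient.mk w) 0 (by
      simp only [smul_zero, ← Submodule.Quotient.mk_smul, Submodule.Quotient.mk_eq_zero]
      rw [smul_eq_mul, smul_eq_mul, Ideal.mul_top, hl]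
      exact hw')
    rwa [Submodule.Quotient.mk_eq_zero, smul_eq_mul, Ideal.mul_top, hl] at h
  have hmix_mem : ∀ t τ j, mix t τ j ∈ IsLocalRing.maximalIdeal A := fun t τ j => by
    simp only [mix]
    split_ifs
    · exact Ideal.IsPrime.prod_mem_iff.mpr ⟨1, Finset.mem_univ _, hym j 1⟩
    · exact hym j _
  have hmix_rad : ∀ t τ, IsLocalRing.maximalIdeal A ≤ (Ideal.span (Set.range (mix t τ))).radical := by
    intro t τ
    rw [Ideal.radical_eq_sInf]
    refine le_sInf fun P hP => ?_
    obtain ⟨hPle, hP⟩ := hP
    haveI := hP
    have hc : ∀ j, ∃ σ : G, y j σ ∈ P := fun j => by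
      have hm : mix t τ j ∈ P := hPle (Ideal.subset_span ⟨j, rfl⟩)
      simp only [mix] at hm
      split_ifs at hm with hj
      · obtain ⟨σ, -, hσ⟩ := Ideal.IsPrime.prod_mem_iff.mp hm
        exact ⟨σ, hσ⟩
      · exact ⟨_, hm⟩
    choose τ' hτ' using hc
    exact (hwa τ').trans ((Ideal.radical_mono (Ideal.span_le.mpr (by rintro _ ⟨j, rfl⟩; exact hτ' j))).trans
      hP.radical.le)
  have key : ∀ (t : Finset (Fin n)) (τ : Fin n → G),
      ((Fintype.card G ^ t.card : ℕ) : ℕ∞) ≤ Module.length A (A ⧸ Ideal.span (Set.range (mix t τ))) := by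
    intro t
    induction t using Finset.induction_on with
    | empty =>
      intro τ
      rw [Finset.card_empty, pow_zero, Nat.cast_one, Order.one_le_iff_pos, Module.length_pos_iff,
        Submodule.Quotient.nontrivial_iff]
      exact ne_top_of_le_ne_top (IsLocalRing.maximalIdeal.isMaximal A).ne_top
        (Ideal.span_le.mpr (by rintro _ ⟨j, rfl⟩; exact hmix_mem ∅ τ j))
    | insert i t hi ih =>
      intro τ
      let J : Ideal A := Ideal.span (mix t τ '' {j | j ≠ i})
      have hupd : ∀ σ, mix t (Function.update τ i σ) = Function.update (mix t τ) i (y i σ) := by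
        intro σ
        funext j
        by_cases hj : j = i
        · subst hj; simp [mix, hi]
        · simp [mix, Function.update_of_ne hj]
      have hx : Ideal.span (Set.range (mix (insert i t) τ)) = J ⊔ Ideal.span {∏ σ ∈ Finset.univ, y i σ} := by
        rw [← Groth.Agent.H23Wild.span_update_eq]
        congr 2
        funext j
        by_cases hj : j = i
        · subst hj; simp [mix, x, y]
        · simp [mix, Function.update_of_ne hj, hj]
      rw [hx]
      refine le_trans ?_ (Groth.Agent.H23Wild.le_length_prod J Finset.univ (y i) fun σ _ w hw => ?_)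
      · refine le_trans ?_ (Finset.sum_le_sum fun σ _ => (show ((Fintype.card G ^ t.card : ℕ) : ℕ∞) ≤
            Module.length A (A ⧸ (J ⊔ Ideal.span {y i σ})) from by
          rw [← Groth.Agent.H23Wild.span_update_eq, ← hupd σ]; exact ih _))
        rw [Finset.sum_const, Finset.card_insert_of_notMem hi, pow_succ', Finset.card_univ, nsmul_eq_mul]
        push_cast
        exact le_rfl
      · have himg : mix t (Function.update τ i σ) '' {j | j ≠ i} = mix t τ '' {j | j ≠ i} := by
          refine Set.image_congr fun j (hj : j ≠ i) => ?_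
          rw [hupd, Function.update_of_ne hj]
        have := hreg (mix t (Function.update τ i σ)) i (hmix_mem _ _) (hmix_rad _ _) w
          (by rw [himg, hupd, Function.update_self]; exact hw)
        rwa [himg] at this
  have := key Finset.univ (fun _ => 1)
  rw [Finset.card_univ, Fintype.card_fin] at this
  have e : mix Finset.univ (fun _ => 1) = fun i => ∏ σ : G, σ • u i := by funext i; simp [mix, x]
  rw [e] at this
  exact this

end Groth.Agent.S15797
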