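import Groth.Statements.S15799
import Groth.Agent.H23Wild.InsepObstruction

set_option autoImplicit false
universe u v w
open WildQuot

namespace Groth.Agent.S15799

/-- Let `A` be a complete regular local ring of Krull dimension `n ≥ 2` and prime characteristic `p`,
`k` a field with `k → A` mapping onto the residue field, and `G` a group of order `p` acting on `A`
by `k`-algebra automorphisms, ramified precisely at the origin (for every non-maximal prime `P`, the
inertia subgroup of `P` (the elements of `G` fixing every element modulo `P`) is trivial). Let `u_1,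
…, u_n` be an admissible regular system of parameters (for every choice `σ_1, …, σ_n ∈ G`, the
elements `σ_i u_i` generate the maximal ideal) and let `φ : k[[X_1, …, X_n]] → A` be the `k`-algebra
map with `φ X_i = x_i = ∏_{σ} σ u_i`, whose image is the norm subring `R`. Then `Frac(A^G)` is not
purely inseparable over `Frac(R)`; equivalently (as `A` is integral over the integrally closed `R`),
some `G`-invariant `y ∈ A` has no iterated `p`-th power `y ^ (p ^ e)` in `R`. -/
theorem result
    (p : ℕ) [Fact p.Prime] (A : Type u) [CommRing A] [IsRegularLocalRing A] [CharP A p]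
    [IsAdicComplete (IsLocalRing.maximalIdeal A) A] (n : ℕ) (hn : ringKrullDim A = n) (h2 : 2 ≤ n)
    (k : Type v) [Field k] [Algebra k A]
    (hk : Function.Surjective (IsLocalRing.residue A ∘ algebraMap k A))
    (G : Type w) [Group G] [Fintype G] [MulSemiringAction G A] (hcard : Fintype.card G = p)
    [SMulCommClass G k A]
    (hram : ∀ P : Ideal A, P.IsPrime → P ≠ IsLocalRing.maximalIdeal A → P.inertia G = ⊥)
    (u : Fin n → A)
    (hu : ∀ τ : Fin n → G,
      Ideal.span (Set.range fun i => τ i • u i) = IsLocalRing.maximalIdeal A)
    (φ : MvPowerSeries (Fin n) k →ₐ[k] A) (hφ : ∀ i, φ (MvPowerSeries.X i) = ∏ σ : G, σ • u i) :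
    ∃ y : A, (∀ σ : G, σ • y = y) ∧ ∀ e : ℕ, y ^ p ^ e ∉ Set.range φ := by
  exact Groth.Agent.H23Wild.Insep.exists_fixed_pow_notMem p n hn h2 hk hcard (fun σ c => smul_algebraMap σ c) hram u hu φ hφ

end Groth.Agent.S15799
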