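import Groth.Statements.S1580
import Groth.Agent.H11Aff.WeakAssIff
import Groth.Agent.H10Coh.QcqsPush
import Groth.Agent.H10Coh.Local

set_option autoImplicit false
universe u
open CategoryTheory CategoryTheory.Limits AlgebraicGeometry
open Divisors

namespace Groth.Agent.S1580

/-- Let f : X → S be quasi-compact and quasi-separated and F quasi-coherent on X. A point of S not in
the image of f is not weakly associated to f_* F. -/
theorem result {X S : Scheme.{u}} (f : X ⟶ S) [QuasiCompact f] [QuasiSeparated f]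
    (F : X.Modules) (hF : Coh.IsQCoh F) (s : S) (hs : s ∉ Set.range f.base) :
    ¬ Curv2.IsWeakAssPoint ((Coh.push f).obj F) s := by
  classical
  intro h
  haveI : F.IsQuasicoherent := hF
  let P := (Coh.push f).obj F
  have hP : Coh.IsQCoh P := H10Coh.isQuasicoherent_pushforward f F
  obtain ⟨V, hV, hsV, -⟩ := exists_isAffineOpen_mem_and_subset (U := (⊤ : S.Opens)) (x := s) trivial
  obtain ⟨t, hmin, -⟩ := H11Aff.exists_minimal_of_isWeakAssPoint P hP hV ⟨s, hsV⟩ h
  set p := (hV.primeIdealOf ⟨s, hsV⟩).asIdeal with hp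
  let t' : Γ(F, f ⁻¹ᵁ V) := t
  obtain ⟨T, hT, hTeq⟩ := isCompact_iff_finite_and_eq_biUnion_affineOpens.1 (f.isCompact_preimage hV.isCompact)
  have key : ∀ W ∈ T, ∃ c ∉ p, ∀ (hW : (W : X.affineOpens).1 ≤ f ⁻¹ᵁ V),
      f.appLE V W.1 hW c • F.presheaf.map (homOfLE hW).op t' = 0 := by
    intro W _
    by_cases hW : W.1 ≤ f ⁻¹ᵁ V
    swap
    · exact ⟨1, (hV.primeIdealOf ⟨s, hsV⟩).isPrime.one_notMem, fun h' => absurd h' hW⟩
    by_contra hcon
    push Not at hcon
    let w := F.presheaf.map (homOfLE hW).op t'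
    let φ := (f.appLE V W.1 hW).hom
    obtain ⟨Q, hQp, hJQ, hQS⟩ := Ideal.exists_le_prime_disjoint (H29Blow.secAnn F w) (p.primeCompl.map φ) (by
      rw [Set.disjoint_left]
      rintro - hJ ⟨c, hc, rfl⟩
      obtain ⟨_, h'⟩ := hcon c hc
      exact h' ((H29Blow.mem_secAnn F).1 hJ))
    have hann : H29Blow.secAnn P t ≤ Q.comap φ := fun a ha => by
      refine hJQ ((H29Blow.mem_secAnn F).2 ?_)
      have h1 : f.app V a • t' = 0 := (H29Blow.mem_secAnn P).1 ha
      have h2 := congrArg (F.presheaf.map (homOfLE hW).op) h1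
      rw [map_zero, Scheme.Modules.map_smul] at h2
      exact h2
    have hle : Q.comap φ ≤ p := fun a ha => by
      by_contra hap
      exact Set.disjoint_left.1 hQS ha ⟨a, hap, rfl⟩
    have heq : Q.comap φ = p := le_antisymm hle (hmin.2 ⟨hQp.comap φ, hann⟩ hle)
    obtain ⟨x, hx⟩ := H29Blow.exists_primeIdealOf_eq W.2 ⟨Q, hQp⟩
    have hxV : f.base x.1 ∈ V := hW x.2
    refine hs ⟨x.1, ?_⟩
    have hpe : hV.primeIdealOf ⟨f.base x.1, hxV⟩ = hV.primeIdealOf ⟨s, hsV⟩ := by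
      refine PrimeSpectrum.ext (Ideal.ext fun a => ?_)
      rw [← hp, ← heq, Ideal.mem_comap, show Q = (W.2.primeIdealOf x).asIdeal from
        (congrArg PrimeSpectrum.asIdeal hx).symm, H17.AssPts.mem_primeIdealOf hV hxV a,
        H17.AssPts.mem_primeIdealOf W.2 x.2 (φ a)]
      rw [show X.basicOpen (φ a) = X.basicOpen (f.app V a) ⊓ W.1 from ?_]
      · rw [← Scheme.preimage_basicOpen]
        exact not_congr ⟨fun h => ⟨h, x.2⟩, fun h => h.1⟩
      · show X.basicOpen (X.presheaf.map (homOfLE hW).op (f.app V a)) = _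
        rw [Scheme.basicOpen_res, inf_comm]
    have := congrArg hV.fromSpec hpe
    rwa [hV.fromSpec_primeIdealOf, hV.fromSpec_primeIdealOf] at this
  choose c hc hct using key
  let C := ∏ W : {W // W ∈ hT.toFinset}, c W.1 (hT.mem_toFinset.1 W.2)
  have hC : C ∉ p := fun hmem => by
    obtain ⟨W, -, hW⟩ := (hV.primeIdealOf ⟨s, hsV⟩).isPrime.prod_mem_iff.1 hmem
    exact hc _ _ hW
  refine hC (hmin.1.2 ((H29Blow.mem_secAnn P).2 ?_))
  show f.app V C • t' = 0
  refine TopCat.Sheaf.eq_of_locally_eq' (H10Coh.sheafOf F) (fun W : {W // W ∈ T} => W.1.1) (f ⁻¹ᵁ V)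
    (fun W => homOfLE ((le_iSup₂ W.1 W.2).trans_eq hTeq.symm)) ?_ _ _ fun W => ?_
  · exact (hTeq.trans iSup_subtype').le
  · have hW : W.1.1 ≤ f ⁻¹ᵁ V := (le_iSup₂ W.1 W.2).trans_eq hTeq.symm
    refine Eq.trans ?_ (map_zero (F.presheaf.map (homOfLE hW).op).hom).symm
    refine (Scheme.Modules.map_smul F (homOfLE hW) (f.app V C) t').trans ?_
    obtain ⟨d, hd⟩ : c W.1 W.2 ∣ C :=
      Finset.dvd_prod_of_mem (fun W : {W // W ∈ hT.toFinset} => c W.1 (hT.mem_toFinset.1 W.2))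
        (Finset.mem_univ ⟨W.1, hT.mem_toFinset.2 W.2⟩)
    show f.appLE V W.1.1 hW C • _ = 0
    rw [hd, map_mul, mul_comm, ← smul_smul, hct W.1 W.2 hW, smul_zero]

end Groth.Agent.S1580
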