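import Groth.Statements.S15802
import Groth.Agent.H23Geom.InertiaGen

set_option autoImplicit false
universe u v w
open WildQuot

namespace Groth.Agent.S15802

/-- Let `R` be a regular local ring and `A` a normal local domain, finite over `R` (with `R → A`
injective) and with the same residue field; let a finite group `H` act faithfully on `A` by
`R`-algebra automorphisms with ring of invariants exactly `R` (so `Frac(A)/Frac(R)` is Galois with
group `H`). Then `H` is generated by the inertia subgroups of the height-one prime ideals `P` of `A`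
(the elements acting trivially on `A/P`). (The published statement is for `A` a complete regular
local ring with an action ramified precisely at the origin, `R = k[[x_1, …, x_n]]` a norm subring
and `H` the Galois group of `Frac(A)/Frac(R)`, when that extension is Galois; this row assumes only
the hypotheses listed above.) -/
theorem result
    (R : Type u) [CommRing R] [IsRegularLocalRing R]
    (A : Type v) [CommRing A] [IsDomain A] [IsIntegrallyClosed A] [IsLocalRing A]
    [Algebra R A] [Module.Finite R A] (hinj : Function.Injective (algebraMap R A))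
    (hres : Function.Surjective (IsLocalRing.residue A ∘ algebraMap R A))
    (H : Type w) [Group H] [Finite H] [MulSemiringAction H A] [SMulCommClass H R A] [FaithfulSMul H A]
    (hfix : ∀ a : A, (∀ h : H, h • a = a) → a ∈ Set.range (algebraMap R A)) :
    (⨆ P : {P : Ideal A // P.IsPrime ∧ P.height = 1}, P.1.inertia H) = ⊤ := by
  classical
  let N : Subgroup H := ⨆ P : {P : Ideal A // P.IsPrime ∧ P.height = 1}, P.1.inertia H
  show N = ⊤
  haveI : IsDomain R := hinj.isDomain _
  haveI : IsNoetherianRing A := IsNoetherianRing.of_finite R A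
  -- height one inertia lies in `N`
  have hmax : ∀ (σ : H) (a : A), σ • a - a ∈ IsLocalRing.maximalIdeal A := by
    intro σ a
    obtain ⟨r, hr⟩ := hres (IsLocalRing.residue A a)
    have h1 : a - algebraMap R A r ∈ IsLocalRing.maximalIdeal A := by
      rw [← IsLocalRing.residue_eq_zero_iff, map_sub]
      simp [Function.comp] at hr
      simp [hr]
    have h2 : σ • (a - algebraMap R A r) ∈ IsLocalRing.maximalIdeal A := by
      simp only [IsLocalRing.mem_maximalIdeal, mem_nonunits_iff] at h1 ⊢
      intro hu
      apply h1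
      have := hu.map (MulSemiringAction.toRingHom H A σ⁻¹)
      simpa using this
    have h3 := sub_mem h2 h1
    rwa [smul_sub, smul_algebraMap, sub_sub_sub_cancel_right] at h3
  have hN : ∀ P : Ideal A, P.IsPrime → P.height ≤ 1 →
      ∀ τ : H, (∀ a : A, τ • a - a ∈ P) → τ ∈ N := by
    intro P hP hht τ hτ
    by_cases h1 : P.height = 1
    · exact Subgroup.mem_iSup_of_mem (S := fun P : {P : Ideal A // P.IsPrime ∧ P.height = 1} => P.1.inertia H)
        ⟨P, hP, h1⟩ hτ
    · have h0 : P = ⊥ := by
        by_contra hne
        have hlt : (⊥ : Ideal A) < P := bot_lt_iff_ne_bot.mpr hne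
        haveI := hP
        haveI : (⊥ : Ideal A).IsPrime := Ideal.bot_prime
        have h2 : (⊥ : Ideal A).height < P.height := Ideal.height_strict_mono_of_isPrime_of_isPrime hlt
        have h3 : P.height = 0 := by
          refine le_antisymm ?_ bot_le
          have h4 : P.height < 1 := lt_of_le_of_ne hht h1
          exact Order.le_of_lt_succ (by simpa using h4)
        simp [h3] at h2
      subst h0
      have : τ = 1 := eq_of_smul_eq_smul (α := A) fun a => by
        simpa [sub_eq_zero] using hτ a
      rw [this]; exact one_mem N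
  -- the invariants of `N`
  let B : Subalgebra R A :=
    { carrier := {a | ∀ n ∈ N, n • a = a}
      zero_mem' := fun n _ => smul_zero n
      one_mem' := fun n _ => smul_one n
      add_mem' := fun ha hb n hn => by rw [smul_add, ha n hn, hb n hn]
      mul_mem' := fun ha hb n hn => by rw [smul_mul', ha n hn, hb n hn]
      algebraMap_mem' := fun r n _ => smul_algebraMap n r }
  haveI : Module.Finite R B :=
    Module.Finite.of_injective B.val.toLinearMap Subtype.val_injective
  obtain ⟨m, s, hs⟩ := Module.Finite.exists_fin (R := R) (M := B)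
  let φ : MvPolynomial (Fin m) R →ₐ[R] B := MvPolynomial.aeval s
  have hφ : Function.Surjective φ := by
    intro x
    have hx : x ∈ Submodule.span R (Set.range s) := by rw [hs]; trivial
    have : Submodule.span R (Set.range s) ≤ φ.range.toSubmodule := by
      rw [Submodule.span_le]
      rintro _ ⟨i, rfl⟩
      exact ⟨MvPolynomial.X i, MvPolynomial.aeval_X s i⟩
    exact this hx
  let C := MvPolynomial (Fin m) R ⧸ RingHom.ker φ
  let e : C ≃ₐ[R] B := Ideal.quotientKerAlgEquivOfSurjective hφ
  let ψ : C →ₐ[R] A := B.val.comp e.toAlgHom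
  have hψ : Function.Injective ψ := Subtype.val_injective.comp e.injective
  have hinv : ∀ x : C, ∀ n ∈ N, n • ψ x = ψ x := fun x => (e x).2
  have hsurj : ∀ a : A, (∀ n ∈ N, n • a = a) → ∃ x, ψ x = a := fun a ha =>
    ⟨e.symm ⟨a, ha⟩, by simp [ψ]⟩
  haveI : IsDomain C := hψ.isDomain ψ
  haveI : Module.Finite R C := Module.Finite.equiv e.symm.toLinearEquiv
  have hinjC : Function.Injective (algebraMap R C) := fun r r' h => hinj (by
    rw [← ψ.commutes, ← ψ.commutes, h])
  haveI : IsIntegrallyClosed C := by
    rw [isIntegrallyClosed_iff (FractionRing C)]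
    intro x hx
    obtain ⟨a, b, hb, rfl⟩ := IsFractionRing.div_surjective C x
    have hg : Function.Injective ((algebraMap A (FractionRing A)).comp ψ.toRingHom) :=
      (IsFractionRing.injective A (FractionRing A)).comp hψ
    let Φ : FractionRing C →+* FractionRing A := IsFractionRing.lift hg
    have hΦ : ∀ c : C, Φ (algebraMap C (FractionRing C) c) = algebraMap A (FractionRing A) (ψ c) :=
      fun c => IsFractionRing.lift_algebraMap hg c
    have hint := hx.map_of_comp_eq ψ.toRingHom Φ (RingHom.ext fun c => (hΦ c).symm)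
    obtain ⟨c, hc⟩ := IsIntegrallyClosed.algebraMap_eq_of_integral hint
    have hb0 : b ≠ 0 := nonZeroDivisors.ne_zero hb
    have hψb : ψ b ≠ 0 := fun h => hb0 (hψ (by rw [h, map_zero]))
    rw [map_div₀, hΦ, hΦ, eq_div_iff (fun h => hψb ((IsFractionRing.injective A (FractionRing A)) (h.trans (map_zero _).symm))),
      ← map_mul] at hc
    have hc' : c * ψ b = ψ a := IsFractionRing.injective A (FractionRing A) hc
    have hcinv : ∀ n ∈ N, n • c = c := fun n hn => by
      have h1 : n • (c * ψ b) = c * ψ b := by rw [hc', hinv a n hn]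
      rw [smul_mul', hinv b n hn] at h1
      exact mul_right_cancel₀ hψb h1
    obtain ⟨c₀, rfl⟩ := hsurj c hcinv
    have ha : c₀ * b = a := hψ (by rw [map_mul, hc'])
    refine ⟨c₀, ?_⟩
    rw [eq_div_iff (fun h => hb0 ((IsFractionRing.injective C (FractionRing C)) (h.trans (map_zero _).symm))),
      ← map_mul, ha]
  haveI : IsLocalHom ψ.toRingHom := ⟨fun c hc => by
    obtain ⟨u, hu⟩ := hc
    have hv : ∀ n ∈ N, n • (↑u⁻¹ : A) = ↑u⁻¹ := fun n hn => by
      have h1 : n • ((↑u⁻¹ : A) * u) = ↑u⁻¹ * u := by rw [Units.inv_mul, smul_one]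
      rw [smul_mul', show n • (u : A) = u from by rw [hu]; exact hinv c n hn] at h1
      exact u.isUnit.mul_right_cancel h1
    obtain ⟨v, hv'⟩ := hsurj _ hv
    refine isUnit_iff_exists_inv.mpr ⟨v, hψ ?_⟩
    rw [map_mul, hv', map_one]
    exact (congrArg (· * (↑u⁻¹ : A)) hu.symm).trans u.mul_inv⟩
  haveI : IsLocalRing C := ψ.toRingHom.domain_isLocalRing
  -- unramified in codimension one
  letI : Algebra C A := ψ.toRingHom.toAlgebra
  haveI : IsScalarTower R C A := IsScalarTower.of_algebraMap_eq fun r => (ψ.commutes r).symm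
  haveI : Algebra.IsIntegral R A := Algebra.IsIntegral.of_finite R A
  haveI : Algebra.IsIntegral C A := Algebra.IsIntegral.tower_top R
  let q : Ideal C := IsLocalRing.maximalIdeal C
  have het : Algebra.IsEtaleAt R q := H18Pur.isEtaleAt_of_unramified_below hinjC q fun Q hQ _ hht => by
    obtain ⟨P, -, hP, hPQ⟩ := Ideal.exists_ideal_over_prime_of_isIntegral Q (⊥ : Ideal A) (by
      intro x hx
      rw [Ideal.mem_comap, Ideal.mem_bot] at hx
      have : x = 0 := hψ (by rw [map_zero]; exact hx)
      simp [this])
    haveI := hP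
    have hPR : P.comap (algebraMap R A) = Q.comap (algebraMap R C) := by
      rw [IsScalarTower.algebraMap_eq R C A, ← Ideal.comap_comap, hPQ]
    have hPht : P.height ≤ 1 := by
      refine le_trans ?_ (hPR ▸ hht)
      rw [PrimeSpectrum.height_eq_orderHeight ⟨P, hP⟩,
        PrimeSpectrum.height_eq_orderHeight ⟨P.comap (algebraMap R A), Ideal.IsPrime.comap _⟩]
      exact Order.height_le_height_apply_of_strictMono
        (fun p : PrimeSpectrum A => (⟨p.asIdeal.comap (algebraMap R A), Ideal.IsPrime.comap _⟩ : PrimeSpectrum R))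
        (fun p₁ p₂ h => Ideal.IsIntegral.comap_lt_comap (show p₁.asIdeal < p₂.asIdeal from h)) ⟨P, hP⟩
    have hinf : (∀ τ : H, τ ∈ N) ∨ Infinite (R ⧸ P.comap (algebraMap R A)) := by
      by_cases hfin : Finite (R ⧸ P.comap (algebraMap R A))
      swap
      · exact Or.inr (not_finite_iff_infinite.mp hfin)
      left
      have hPmax : P.IsMaximal := Ideal.isMaximal_of_isIntegral_of_isMaximal_comap (R := R) P
        (Ideal.Quotient.maximal_of_isField _ (Finite.isField_of_domain _))
      intro τ
      refine hN P hP hPht τ fun a => ?_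
      rw [IsLocalRing.eq_maximalIdeal hPmax]
      exact hmax τ a
    obtain ⟨b, hb, hsep⟩ := H23Geom.InertiaGen.exists_separating (R := R) N P
      (hN P hP hPht) hinf
    exact H23Geom.InertiaGen.isUnramifiedAt_of_separating hfix N ψ hψ hinv hsurj P Q hPQ b hb hsep
  haveI : Algebra.FormallyEtale R (Localization.AtPrime q) := het
  haveI : Algebra.FormallyUnramified R C :=
    Algebra.FormallyUnramified.of_equiv (A := Localization.AtPrime q)
      ((IsLocalization.atUnits C q.primeCompl (S := Localization.AtPrime q) (fun c hc => by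
        by_contra hu
        exact hc ((IsLocalRing.mem_maximalIdeal c).mpr hu))).restrictScalars R).symm
  haveI : IsLocalHom (algebraMap R C) := ⟨fun r hr => by
    have hA : IsUnit (algebraMap R A r) := ψ.commutes r ▸ hr.map ψ
    by_contra hu
    obtain ⟨P, -, hP, hPQ⟩ := Ideal.exists_ideal_over_prime_of_isIntegral (IsLocalRing.maximalIdeal R)
      (⊥ : Ideal A) (by
        intro x hx
        rw [Ideal.mem_comap, Ideal.mem_bot] at hx
        have : x = 0 := hinj (by rw [map_zero]; exact hx)
        simp [this])
    exact hP.ne_top (Ideal.eq_top_of_isUnit_mem _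
      (show algebraMap R A r ∈ P from Ideal.mem_comap.mp (hPQ ▸ (IsLocalRing.mem_maximalIdeal r).mpr hu)) hA)⟩
  have hmap := Algebra.FormallyUnramified.map_maximalIdeal (R := R) (S := C)
  have htop : (⊤ : Submodule R C) ≤ LinearMap.range (Algebra.linearMap R C) := by
    refine Submodule.le_of_le_smul_of_le_jacobson_bot (I := IsLocalRing.maximalIdeal R) Module.Finite.fg_top
      (IsLocalRing.maximalIdeal_le_jacobson _) fun x _ => ?_
    obtain ⟨r, hr⟩ := hres (IsLocalRing.residue A (ψ x))
    have h1 : x - algebraMap R C r ∈ IsLocalRing.maximalIdeal C := by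
      rw [IsLocalRing.mem_maximalIdeal, mem_nonunits_iff]
      intro hu
      have h2 : IsUnit (IsLocalRing.residue A (ψ (x - algebraMap R C r))) := (hu.map ψ).map _
      simp [Function.comp] at hr
      simp [hr] at h2
    rw [← hmap] at h1
    rw [Ideal.smul_top_eq_map]
    exact Submodule.mem_sup.mpr ⟨algebraMap R C r, ⟨r, rfl⟩, x - algebraMap R C r, h1, add_sub_cancel _ _⟩
  rw [eq_top_iff]
  intro σ _
  haveI : (⊥ : Ideal A).IsPrime := Ideal.bot_prime
  obtain ⟨n, hn, hna⟩ := H23Geom.InertiaGen.exists_agree (R := R) N ⊥ σ fun b hb => by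
    obtain ⟨x, rfl⟩ := hsurj b hb
    obtain ⟨r, rfl⟩ := htop (show x ∈ (⊤ : Submodule R C) from trivial)
    simp [smul_algebraMap]
  have : σ = n := eq_of_smul_eq_smul (α := A) fun a => sub_eq_zero.mp (Ideal.mem_bot.mp (hna a))
  exact this ▸ hn

end Groth.Agent.S15802
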