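import Groth.Statements.S15803
import Groth.Agent.S15802

set_option autoImplicit false
universe u v w
open WildQuot

namespace Groth.Agent.S15803

/-- Let `R` be a regular local ring and `A` a normal local domain, finite over `R` (with `R → A`
injective) and with the same residue field; let a finite group `H` act faithfully on `A` by
`R`-algebra automorphisms with ring of invariants exactly `R` (so `Frac(A)/Frac(R)` is Galois with
group `H`); let `p` be a prime and suppose that every nontrivial inertia subgroup of a height-one
prime of `A` has order `p` and is normal in `H`. Then `H` is commutative and every element satisfies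
`h ^ p = 1`: `H` is an elementary abelian `p`-group (of order the degree of `Frac(A)` over
`Frac(R)`). (The published statement is for `A` a complete regular local ring with an action
ramified precisely at the origin, `R = k[[x_1, …, x_n]]` a norm subring and `H` the Galois group of
`Frac(A)/Frac(R)`, when that extension is Galois; this row assumes only the hypotheses listed
above.) -/
theorem result
    (p : ℕ) [Fact p.Prime] (R : Type u) [CommRing R] [IsRegularLocalRing R]
    (A : Type v) [CommRing A] [IsDomain A] [IsIntegrallyClosed A] [IsLocalRing A]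
    [Algebra R A] [Module.Finite R A] (hinj : Function.Injective (algebraMap R A))
    (hres : Function.Surjective (IsLocalRing.residue A ∘ algebraMap R A))
    (H : Type w) [Group H] [Finite H] [MulSemiringAction H A] [SMulCommClass H R A] [FaithfulSMul H A]
    (hfix : ∀ a : A, (∀ h : H, h • a = a) → a ∈ Set.range (algebraMap R A))
    (hMR2 : ∀ P : Ideal A, P.IsPrime → P.height = 1 → P.inertia H ≠ ⊥ →
      Nat.card (P.inertia H) = p ∧ (P.inertia H).Normal) :
    (∀ g h : H, g * h = h * g) ∧ ∀ h : H, h ^ p = 1 := by
  have htop := S15802.result R A hinj hres H hfix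
  set I := fun P : {P : Ideal A // P.IsPrime ∧ P.height = 1} => P.1.inertia H with hI
  have hcases : ∀ P, I P = ⊥ ∨ (Nat.card (I P) = p ∧ (I P).Normal) := fun P =>
    (em (I P = ⊥)).imp_right (hMR2 P.1 P.2.1 P.2.2)
  have hpair : ∀ P Q, ∀ g ∈ I P, ∀ h ∈ I Q, g * h = h * g := by
    intro P Q g hg h hh
    rcases hcases P with hP | ⟨hcP, hnP⟩
    · rw [hP, Subgroup.mem_bot] at hg
      simp [hg]
    rcases hcases Q with hQ | ⟨hcQ, hnQ⟩
    · rw [hQ, Subgroup.mem_bot] at hh
      simp [hh]
    by_cases heq : I P = I Q
    · haveI : IsCyclic (I Q) := isCyclic_of_prime_card hcQ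
      obtain ⟨c, hc⟩ := IsCyclic.exists_generator (α := I Q)
      obtain ⟨i, hi⟩ := Subgroup.mem_zpowers_iff.mp (hc ⟨g, heq ▸ hg⟩)
      obtain ⟨j, hj⟩ := Subgroup.mem_zpowers_iff.mp (hc ⟨h, hh⟩)
      have e := Commute.zpow_zpow_self c i j
      rw [hi, hj] at e
      exact congrArg Subtype.val e
    · have hdis : Disjoint (I P) (I Q) := by
        rw [disjoint_iff]
        haveI : Fact (Nat.card (I P)).Prime := ⟨hcP ▸ Fact.out⟩
        rcases Subgroup.eq_bot_or_eq_top_of_prime_card ((I P ⊓ I Q).subgroupOf (I P)) with h0 | h1
        · exact le_bot_iff.mp fun x hx => by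
            have : (⟨x, hx.1⟩ : I P) ∈ (I P ⊓ I Q).subgroupOf (I P) := Subgroup.mem_subgroupOf.mpr hx
            rw [h0, Subgroup.mem_bot] at this
            exact Subgroup.mem_bot.mpr (congrArg Subtype.val this)
        · exfalso
          apply heq
          have hle : I P ≤ I Q := fun x hx => by
            have : (⟨x, hx⟩ : I P) ∈ (I P ⊓ I Q).subgroupOf (I P) := h1 ▸ Subgroup.mem_top _
            exact (Subgroup.mem_subgroupOf.mp this).2
          exact Subgroup.eq_of_le_of_card_ge hle (by rw [hcP, hcQ])
      exact Subgroup.commute_of_normal_of_disjoint _ _ hnP hnQ hdis g h hg hh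
  have hgen : ∀ P, ∀ g ∈ I P, ∀ h : H, g * h = h * g := by
    intro P g hg h
    have hh : h ∈ ⨆ Q, I Q := by rw [hI]; exact htop ▸ Subgroup.mem_top h
    refine Subgroup.iSup_induction I (C := fun h => g * h = h * g) hh
      (fun Q x hx => hpair P Q g hg x hx) (by simp) fun x y hx hy => ?_
    rw [← mul_assoc, hx, mul_assoc, hy, mul_assoc]
  have hcomm : ∀ g h : H, g * h = h * g := by
    intro g h
    have hh : g ∈ ⨆ Q, I Q := by rw [hI]; exact htop ▸ Subgroup.mem_top g
    refine Subgroup.iSup_induction I (C := fun g => g * h = h * g) hh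
      (fun Q x hx => hgen Q x hx h) (by simp) fun x y hx hy => ?_
    rw [mul_assoc, hy, ← mul_assoc, hx, mul_assoc]
  refine ⟨hcomm, fun h => ?_⟩
  have hh : h ∈ ⨆ Q, I Q := by rw [hI]; exact htop ▸ Subgroup.mem_top h
  refine Subgroup.iSup_induction I (C := fun g => g ^ p = 1) hh (fun Q x hx => ?_) (one_pow _)
    fun x y hx hy => ?_
  · rcases hcases Q with hQ | ⟨hcQ, -⟩
    · rw [hQ, Subgroup.mem_bot] at hx
      simp [hx]
    · have := pow_card_eq_one' (G := I Q) (x := ⟨x, hx⟩)
      rw [hcQ] at this
      exact congrArg Subtype.val this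
  · rw [(show Commute x y from hcomm x y).mul_pow, hx, hy, one_mul]

end Groth.Agent.S15803
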