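import Groth.Statements.S15804
import Groth.Agent.H23Wild.DimTwo
import Mathlib.GroupTheory.PGroup
import Mathlib.GroupTheory.SpecificGroups.Cyclic.Basic

set_option autoImplicit false
universe u v w
open WildQuot

namespace Groth.Agent.S15804

/-- Let `R` be a regular local ring and `A` a normal local domain, finite over `R` (with `R → A`
injective) and with the same residue field; let a finite group `H` act faithfully on `A` by
`R`-algebra automorphisms with ring of invariants exactly `R` (so `Frac(A)/Frac(R)` is Galois with
group `H`); assume `A` has Krull dimension `2`, `H` has order `p ^ 2` for a prime `p`, and `Γ ≤ H`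
is a subgroup of order `p` whose intersection with the inertia subgroup of every non-maximal prime
of `A` is trivial (the action of `Γ` is ramified precisely at the origin). Then every nontrivial
inertia subgroup of a height-one prime of `A` has order `p`, and `H` is commutative with every
element satisfying `h ^ p = 1`, i.e. elementary abelian of order `p ^ 2`. (The published statement
is for `A` a complete regular local ring with an action ramified precisely at the origin, `R =
k[[x_1, …, x_n]]` a norm subring and `H` the Galois group of `Frac(A)/Frac(R)`, when that extension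
is Galois; this row assumes only the hypotheses listed above.) -/
theorem result
    (p : ℕ) [Fact p.Prime] (R : Type u) [CommRing R] [IsRegularLocalRing R]
    (A : Type v) [CommRing A] [IsDomain A] [IsIntegrallyClosed A] [IsLocalRing A]
    [Algebra R A] [Module.Finite R A] (hinj : Function.Injective (algebraMap R A))
    (hres : Function.Surjective (IsLocalRing.residue A ∘ algebraMap R A))
    (H : Type w) [Group H] [Finite H] [MulSemiringAction H A] [SMulCommClass H R A] [FaithfulSMul H A]
    (hfix : ∀ a : A, (∀ h : H, h • a = a) → a ∈ Set.range (algebraMap R A))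
    (hdim : ringKrullDim A = 2) (hcard : Nat.card H = p ^ 2)
    (Γ : Subgroup H) (hΓ : Nat.card Γ = p)
    (hram : ∀ P : Ideal A, P.IsPrime → P ≠ IsLocalRing.maximalIdeal A → P.inertia H ⊓ Γ = ⊥) :
    (∀ P : Ideal A, P.IsPrime → P.height = 1 → P.inertia H ≠ ⊥ → Nat.card (P.inertia H) = p) ∧
      (∀ g h : H, g * h = h * g) ∧ ∀ h : H, h ^ p = 1 := by
  classical
  haveI : IsNoetherianRing A := IsNoetherianRing.of_finite R A
  have hp := (Fact.out : p.Prime)
  have hne : ∀ P : Ideal A, P.height = 1 → P ≠ IsLocalRing.maximalIdeal A := fun P hP h => by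
    have h3 := IsLocalRing.maximalIdeal_height_eq_ringKrullDim (R := A)
    rw [← h, hP, hdim] at h3
    exact absurd h3 (by decide)
  have hcardI : ∀ P : Ideal A, P.IsPrime → P.height = 1 → P.inertia H ≠ ⊥ → Nat.card (P.inertia H) = p := by
    intro P hP hh hI
    obtain ⟨e, he, hcI⟩ := (Nat.dvd_prime_pow hp).mp (hcard ▸ (P.inertia H).card_subgroup_dvd_card)
    interval_cases e
    · exact absurd (Subgroup.eq_bot_of_card_eq _ (by simpa using hcI)) hI
    · simpa using hcI
    · exfalso
      have hb := hram P hP (hne P hh)
      rw [Subgroup.eq_top_of_card_eq _ (hcI.trans hcard.symm), top_inf_eq] at hb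
      rw [hb, Subgroup.card_bot] at hΓ
      exact hp.one_lt.ne hΓ
  have hcomm : ∀ g h : H, g * h = h * g := fun g h => (IsPGroup.isMulCommutative_of_card_eq_prime_sq hcard).is_comm.comm g h
  refine ⟨hcardI, hcomm, ?_⟩
  by_contra hall
  push Not at hall
  obtain ⟨g, hg⟩ := hall
  haveI : IsCyclic H := isCyclic_of_orderOf_eq_card g (by
    obtain ⟨e, he, hord⟩ := (Nat.dvd_prime_pow hp).mp (hcard ▸ orderOf_dvd_natCard g)
    interval_cases e
    · exact absurd (orderOf_dvd_iff_pow_eq_one.mp (by rw [hord]; simp)) hg
    · exact absurd (orderOf_dvd_iff_pow_eq_one.mp (by rw [hord, pow_one])) hg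
    · exact hord.trans hcard.symm)
  haveI : Fintype H := Fintype.ofFinite H
  have hsub : ∀ I : Subgroup H, Nat.card I = p → (I : Set H) ⊆ {a : H | a ^ p = 1} := fun I hI a ha => by
    have := pow_card_eq_one' (G := I) (x := ⟨a, ha⟩)
    rw [hI] at this
    exact congrArg Subtype.val this
  have hkey : ∀ I : Subgroup H, Nat.card I = p → (I : Set H) = {a : H | a ^ p = 1} := fun I hI => by
    refine Set.eq_of_subset_of_ncard_le (hsub I hI) ?_ (Set.toFinite _)
    rw [← Nat.card_coe_set_eq (I : Set H), SetLike.coe_sort_coe, hI,
      show {a : H | a ^ p = 1} = ↑(Finset.univ.filter fun a : H => a ^ p = 1) by simp, Set.ncard_coe_finset]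
    exact IsCyclic.card_pow_eq_one_le hp.pos
  have hin : ∀ P : Ideal A, P.IsPrime → P.height = 1 → P.inertia H = ⊥ := fun P hP hh => by
    by_contra hI
    have h1 : P.inertia H = Γ := SetLike.coe_injective ((hkey _ (hcardI P hP hh hI)).trans (hkey Γ hΓ).symm)
    have := hram P hP (hne P hh)
    rw [← h1, inf_idem] at this
    exact hI this
  haveI := Groth.Agent.H23Wild.DimTwo.free_of_dim_two R hinj hdim
  have := Groth.Agent.H23Wild.DimTwo.eq_one_of_trivial_inertia R A hinj hres hdim.ge H hfix hin g
  exact hg (by rw [this, one_pow])

end Groth.Agent.S15804
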