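import Groth.Statements.S15807
import Groth.Agent.H23Wild.MinorPS

set_option autoImplicit false
universe u
open WildQuot

namespace Groth.Agent.S15807

open MvPolynomial in
/-- Let `k` be a field of characteristic `p > 0`, `n ≥ 3`, `R = k[[x_1, …, x_n]]`, `a_1, …, a_n ∈ R`
with zero constant term and pairwise coprime, `μ ∈ R` nonzero and coprime to each `a_i`, and `A =
R[u_1, …, u_n] / (u_i ^ p - (μ a_i) ^ (p-1) u_i - x_i : i = 1..n)`. Fix an index `i₀`. Then the
`R`-algebra map `R[Z_j : j ≠ i₀] → A` sending `Z_j` to the minor element `z_j = a_{i₀} u_j - a_j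
u_{i₀}` has kernel generated by the polynomials `Z_j ^ p - (μ a_{i₀} a_j) ^ (p-1) Z_j - (a_{i₀} ^ p
x_j - a_j ^ p x_{i₀})`; i.e. the complete intersection `R[Z_j] /` (these relations) maps
isomorphically onto the subring of `A` generated over `R` by the minor elements through `u_{i₀}`.
(The published statement uses the first index for `i₀` and allows `n ≥ 2`; this row allows any index
`i₀` and takes `n ≥ 3`.) -/
theorem result
    (p : ℕ) [Fact p.Prime] (k : Type u) [Field k] [CharP k p] (n : ℕ) (hn : 3 ≤ n)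
    (a : Fin n → MvPowerSeries (Fin n) k) (μ : MvPowerSeries (Fin n) k)
    (ham : ∀ i, MvPowerSeries.constantCoeff (a i) = 0) (hcop : ∀ i j, i ≠ j → IsRelPrime (a i) (a j))
    (hμ : μ ≠ 0) (hμa : ∀ i, IsRelPrime μ (a i)) (i₀ : Fin n) :
    let R := MvPowerSeries (Fin n) k
    let I : Ideal (MvPolynomial (Fin n) R) :=
      Ideal.span (Set.range fun i : Fin n =>
        X i ^ p - C ((μ * a i) ^ (p - 1)) * X i - C (MvPowerSeries.X i))
    let A := MvPolynomial (Fin n) R ⧸ I
    let u : Fin n → A := fun i => Ideal.Quotient.mk I (X i)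
    let z : {j : Fin n // j ≠ i₀} → A := fun j =>
      algebraMap R A (a i₀) * u j.1 - algebraMap R A (a j.1) * u i₀
    let r : {j : Fin n // j ≠ i₀} → MvPolynomial {j : Fin n // j ≠ i₀} R := fun j =>
      X j ^ p - C ((μ * a i₀ * a j.1) ^ (p - 1)) * X j
        - C (a i₀ ^ p * MvPowerSeries.X j.1 - a j.1 ^ p * MvPowerSeries.X i₀)
    RingHom.ker (MvPolynomial.aeval z : MvPolynomial {j : Fin n // j ≠ i₀} R →ₐ[R] A) =
      Ideal.span (Set.range r) := by
  open Groth.Agent.H23Wild in
  intro R I A u z r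
  haveI := charP_mvPowerSeries p k n
  haveI : IsDomain (MvPowerSeries (Fin n) k) := NoZeroDivisors.to_isDomain _
  have hI : I = sysI (asF p (fun i => (μ * a i) ^ (p - 1)) MvPowerSeries.X) := (sysI_asF p _ _).symm
  clear_value I
  subst hI
  exact (ker_aeval_mz p a μ MvPowerSeries.X i₀ (ne_zero_of_coprime (by omega) a ham hcop i₀)).trans
    (sysI_mF p a μ MvPowerSeries.X i₀)

end Groth.Agent.S15807
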