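import Groth.Statements.S15808
import Groth.Agent.H23Wild.MinorPS

set_option autoImplicit false
universe u
open WildQuot

namespace Groth.Agent.S15808

open MvPolynomial in
/-- Let `k` be a field of characteristic `p > 0`, `n ≥ 2`, `R = k[[x_1, …, x_n]]`, `a_1, …, a_n ∈ R`
with zero constant term and pairwise coprime, `μ ∈ R` nonzero and coprime to each `a_i`; fix an
index `i₀` and let `B = R[Z_j : j ≠ i₀] / (Z_j ^ p - (μ a_{i₀} a_j) ^ (p-1) Z_j - (a_{i₀} ^ p x_j -
a_j ^ p x_{i₀}) : j ≠ i₀)`, the complete-intersection ring of the minor elements through `u_{i₀}`.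
Then `B` is a free `R`-module of rank `p ^ (n-1)`, `B` is an integral domain, and the localisation
`B[1/(μ a_{i₀})]` is integrally closed. (The published statement uses the first index for `i₀`; this
row allows any index.) -/
theorem result
    (p : ℕ) [Fact p.Prime] (k : Type u) [Field k] [CharP k p] (n : ℕ) (hn : 2 ≤ n)
    (a : Fin n → MvPowerSeries (Fin n) k) (μ : MvPowerSeries (Fin n) k)
    (ham : ∀ i, MvPowerSeries.constantCoeff (a i) = 0) (hcop : ∀ i j, i ≠ j → IsRelPrime (a i) (a j))
    (hμ : μ ≠ 0) (hμa : ∀ i, IsRelPrime μ (a i)) (i₀ : Fin n) :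
    let R := MvPowerSeries (Fin n) k
    let r : {j : Fin n // j ≠ i₀} → MvPolynomial {j : Fin n // j ≠ i₀} R := fun j =>
      X j ^ p - C ((μ * a i₀ * a j.1) ^ (p - 1)) * X j
        - C (a i₀ ^ p * MvPowerSeries.X j.1 - a j.1 ^ p * MvPowerSeries.X i₀)
    let B := MvPolynomial {j : Fin n // j ≠ i₀} R ⧸ Ideal.span (Set.range r)
    Module.Free R B ∧ Module.finrank R B = p ^ (n - 1) ∧ IsDomain B ∧
      IsIntegrallyClosed (Localization.Away (algebraMap R B (μ * a i₀))) := by
  open Groth.Agent.H23Wild in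
  intro R r B
  haveI := charP_mvPowerSeries p k n
  haveI : IsDomain (MvPowerSeries (Fin n) k) := NoZeroDivisors.to_isDomain _
  have hI : Ideal.span (Set.range r) = sysI (mF p a μ MvPowerSeries.X i₀) := (sysI_mF p a μ MvPowerSeries.X i₀).symm
  obtain ⟨hd, hc⟩ := isDomain_normal_asA p (fun i => μ * a i) (fun i => by rw [map_mul, ham, mul_zero])
  revert B
  rw [hI]
  dsimp only
  exact domain_normal_away p a μ MvPowerSeries.X i₀ (ne_zero_of_coprime hn a ham hcop i₀) hμ

end Groth.Agent.S15808
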