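import Groth.Statements.S15809
import Groth.Agent.H23Wild.CodimOne

set_option autoImplicit false
universe u
open CategoryTheory MonoidalCategory CartesianMonoidalCategory AlgebraicGeometry Limits
open WildQuot

namespace Groth.Agent.S15809

/-- Let `S` be a Noetherian scheme, `G` a finite flat `S`-group scheme and `Y` a finite flat `S`-scheme
with an action of `G`; let `Ψ : G ×_S Y → Y ×_S Y` be `(g, y) ↦ (g y, y)`. Suppose that for every
point `s ∈ S` of codimension at most `1` (local ring of dimension `≤ 1`) the fibre `Y_s` is a torsor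
under `G_s`: it is nonempty and the base change of `Ψ` to `Spec κ(s)` is an isomorphism. Then `Y` is
a `G`-torsor: `Ψ` is an isomorphism and `Y → S` is surjective (so the finite flat cover `Y → S`
itself trivialises `Y`). -/
theorem result
    (S : Scheme.{u}) [AlgebraicGeometry.IsNoetherian S]
    (G Y : Over S) [GrpObj G]
    [AlgebraicGeometry.IsFinite G.hom] [AlgebraicGeometry.Flat G.hom]
    [AlgebraicGeometry.IsFinite Y.hom] [AlgebraicGeometry.Flat Y.hom]
    (a : AlgGrp.Action G Y)
    (hfib : ∀ s : S, ringKrullDim (S.presheaf.stalk s) ≤ 1 →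
      s ∈ Set.range Y.hom.base ∧
      IsIso (pullback.map (G ⊗ Y).hom (S.fromSpecResidueField s) (Y ⊗ Y).hom (S.fromSpecResidueField s)
        (CartesianMonoidalCategory.lift a.act (CartesianMonoidalCategory.snd G Y)).left
        (𝟙 _) (𝟙 S)
        ((Category.comp_id _).trans
          (Over.w (CartesianMonoidalCategory.lift a.act (CartesianMonoidalCategory.snd G Y))).symm)
        ((Category.comp_id _).trans (Category.id_comp _).symm))) :
    IsIso (CartesianMonoidalCategory.lift a.act (CartesianMonoidalCategory.snd G Y)).left ∧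
      Function.Surjective Y.hom.base := by
  haveI : AlgebraicGeometry.IsFinite (G ⊗ Y).hom := by
    show AlgebraicGeometry.IsFinite (pullback.fst G.hom Y.hom ≫ G.hom); infer_instance
  haveI : AlgebraicGeometry.Flat (G ⊗ Y).hom := by
    show AlgebraicGeometry.Flat (pullback.fst G.hom Y.hom ≫ G.hom); infer_instance
  haveI : AlgebraicGeometry.IsFinite (Y ⊗ Y).hom := by
    show AlgebraicGeometry.IsFinite (pullback.fst Y.hom Y.hom ≫ Y.hom); infer_instance
  haveI : AlgebraicGeometry.Flat (Y ⊗ Y).hom := by
    show AlgebraicGeometry.Flat (pullback.fst Y.hom Y.hom ≫ Y.hom); infer_instance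
  exact ⟨H23Wild.isIso_of_codimOne (G ⊗ Y).hom (Y ⊗ Y).hom _ (Over.w _) fun s hs => (hfib s hs).2,
    H23Wild.surjective_of_codimOne Y.hom fun s hs => (hfib s hs).1⟩

end Groth.Agent.S15809
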