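import Groth.Statements.S15811
import Mathlib

set_option autoImplicit false
universe u
open WildQuot

namespace Groth.Agent.S15811

/-- Let `R` be an integrally closed domain of prime characteristic `p` with fraction field `K`, and `α ∈
R`. Then `α ≠ 0` and the polynomial `T ^ p - α T` splits into linear factors over `K` — which says
that the finite flat group scheme `Spec R[T]/(T ^ p - α T)` of order `p` has constant generic fibre
(its `p` roots are then distinct) — if and only if `α = a ^ (p-1)` for some nonzero `a ∈ R`. (The
published statement is that the generic fibre of the finite flat group scheme of order `p` with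
parameters `α, β` satisfying `α β = 0`, whose underlying scheme is `Spec R[T]/(T ^ p - α T)`, is
constant if and only if `β = 0` and `α` is the `(p-1)`-th power of a nonzero element of `R`; this
row states the polynomial condition, in which `α ≠ 0` already forces `β = 0` over a domain.) -/
theorem result
    (p : ℕ) [Fact p.Prime] (R : Type u) [CommRing R] [IsDomain R] [IsIntegrallyClosed R]
    [CharP R p] (α : R) :
    (α ≠ 0 ∧ (Polynomial.map (algebraMap R (FractionRing R))
        (Polynomial.X ^ p - Polynomial.C α * Polynomial.X)).Splits) ↔
      ∃ a : R, a ≠ 0 ∧ α = a ^ (p - 1) := by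
  classical
  have hp := (Fact.out : p.Prime)
  haveI : CharP (FractionRing R) p := charP_of_injective_algebraMap (IsFractionRing.injective R (FractionRing R)) p
  set φ := algebraMap R (FractionRing R)
  set P := Polynomial.map φ (Polynomial.X ^ p - Polynomial.C α * Polynomial.X) with hP
  have hPeq : P = Polynomial.X ^ p - Polynomial.C (φ α) * Polynomial.X := by simp [hP]
  have hdeg : P.natDegree = p := by
    rw [hPeq, Polynomial.natDegree_sub_eq_left_of_natDegree_lt] <;> rw [Polynomial.natDegree_X_pow]
    exact (Polynomial.natDegree_C_mul_le _ _).trans_lt (by rw [Polynomial.natDegree_X]; exact hp.one_lt)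
  have hp1 : p - 1 ≠ 0 := by have := hp.two_le; omega
  constructor
  · rintro ⟨hα, hs⟩
    obtain ⟨r, hr, hr0⟩ : ∃ r ∈ P.roots, r ≠ 0 := by
      by_contra hh
      push Not at hh
      have hmon : P.Monic := by
        rw [hPeq]
        refine Polynomial.monic_X_pow_sub ((Polynomial.degree_C_mul_X_le _).trans_lt ?_)
        exact_mod_cast hp.one_lt
      have := hs.eq_prod_roots_of_monic hmon
      rw [Multiset.eq_replicate_card.mpr hh, Multiset.map_replicate, Multiset.prod_replicate,
        map_zero, sub_zero, ← hs.natDegree_eq_card_roots, hdeg, hPeq, sub_eq_self,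
        mul_eq_zero, Polynomial.C_eq_zero] at this
      rcases this with h | h
      · exact hα (IsFractionRing.injective R (FractionRing R) (by rw [h, map_zero]))
      · exact Polynomial.X_ne_zero h
    have hroot : r ^ p - φ α * r = 0 := by
      have := (Polynomial.mem_roots'.mp hr).2
      rw [Polynomial.IsRoot.def, hPeq] at this
      simpa using this
    have hrp : r ^ (p - 1) = φ α := by
      refine mul_right_cancel₀ hr0 ?_
      rw [← pow_succ, Nat.sub_add_cancel hp.one_le]
      linear_combination hroot
    have hint : IsIntegral R r :=
      IsIntegral.of_pow (Nat.pos_of_ne_zero hp1) (hrp ▸ isIntegral_algebraMap)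
    obtain ⟨a, rfl⟩ := IsIntegrallyClosed.isIntegral_iff.mp hint
    refine ⟨a, fun h => hr0 (by rw [h, map_zero]), ?_⟩
    rw [← map_pow] at hrp
    exact (IsFractionRing.injective R (FractionRing R) hrp).symm
  · rintro ⟨a, ha, rfl⟩
    refine ⟨pow_ne_zero _ ha, Polynomial.splits_iff_card_roots.mpr (le_antisymm (Polynomial.card_roots' _) ?_)⟩
    have hP0 : P ≠ 0 := fun h => hp.ne_zero (by rw [← hdeg, h, Polynomial.natDegree_zero])
    have ha' : φ a ≠ 0 := fun h => ha (IsFractionRing.injective R (FractionRing R) (by rw [h, map_zero]))
    let e : ZMod p → FractionRing R := fun j => ZMod.castHom dvd_rfl (FractionRing R) j * φ a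
    have he : Function.Injective e := fun i j h =>
      (ZMod.castHom dvd_rfl (FractionRing R)).injective (mul_right_cancel₀ ha' h)
    have hsub : (Finset.univ.image e).val ≤ P.roots := by
      rw [Multiset.le_iff_subset (Finset.univ.image e).nodup]
      intro x hx
      obtain ⟨j, -, rfl⟩ := Finset.mem_image.mp hx
      rw [Polynomial.mem_roots hP0, Polynomial.IsRoot.def, hPeq]
      simp only [e, Polynomial.eval_sub, Polynomial.eval_pow, Polynomial.eval_X, Polynomial.eval_mul,
        Polynomial.eval_C]
      rw [mul_pow, ← map_pow (ZMod.castHom _ _), ZMod.pow_card, map_pow]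
      conv_lhs => enter [1, 2]; rw [← Nat.sub_add_cancel hp.one_le, pow_succ]
      ring
    have := Multiset.card_le_card hsub
    rw [Finset.card_val, Finset.card_image_of_injective _ he, Finset.card_univ, ZMod.card] at this
    rwa [hdeg]

end Groth.Agent.S15811
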