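import Groth.Statements.S15812
import Groth.Agent.H23Wild.Generate

set_option autoImplicit false
universe u v w
open WildQuot

namespace Groth.Agent.S15812

/-- Let `R` be a regular local ring and `A` a normal local domain, finite over `R` (with `R → A`
injective) and with the same residue field; let a finite group `H` act faithfully on `A` by
`R`-algebra automorphisms with ring of invariants exactly `R` (so `Frac(A)/Frac(R)` is Galois with
group `H`); assume `H` is commutative of order `p ^ n` (`p` prime) and let `G_1, …, G_n ≤ H` be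
subgroups of order `p` generating `H`, each the inertia subgroup of some height-one prime of `A`,
such that every nontrivial inertia subgroup of a height-one prime of `A` is one of the `G_i`. Put
`G_i^⊥ =` the subgroup generated by the `G_j` with `j ≠ i`, and assume each invariant ring
`A^{G_i^⊥}` is a free `R`-module (the published statement asks them to be Cohen–Macaulay, which for
a finite algebra over the regular local ring `R` is the same). Then the subalgebras `A^{G_1^⊥}, …,
A^{G_n^⊥}` generate `A` over `R`. (The published conclusion is that the product map `A^{G_1^⊥} ⊗_R ⋯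
⊗_R A^{G_n^⊥} → A` is an isomorphism; as each factor is then free of rank `p` and `A` has rank `p ^
n` over `R`, that is equivalent to the generation statement given here. The published statement is
for `A` a complete regular local ring with an action ramified precisely at the origin, `R = k[[x_1,
…, x_n]]` a norm subring and `H` the Galois group of `Frac(A)/Frac(R)`, when that extension is
Galois; this row assumes only the hypotheses listed above.) -/
theorem result
    (p : ℕ) [Fact p.Prime] (R : Type u) [CommRing R] [IsRegularLocalRing R]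
    (A : Type v) [CommRing A] [IsDomain A] [IsIntegrallyClosed A] [IsLocalRing A]
    [Algebra R A] [Module.Finite R A] (hinj : Function.Injective (algebraMap R A))
    (hres : Function.Surjective (IsLocalRing.residue A ∘ algebraMap R A))
    (H : Type w) [Group H] [Finite H] [MulSemiringAction H A] [SMulCommClass H R A] [FaithfulSMul H A]
    (hfix : ∀ a : A, (∀ h : H, h • a = a) → a ∈ Set.range (algebraMap R A))
    (hcomm : ∀ g h : H, g * h = h * g)
    (n : ℕ) (hcard : Nat.card H = p ^ n) (Gi : Fin n → Subgroup H)
    (hGi : ∀ i, Nat.card (Gi i) = p) (hsup : (⨆ i, Gi i) = ⊤)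
    (hinert : ∀ i, ∃ P : Ideal A, P.IsPrime ∧ P.height = 1 ∧ P.inertia H = Gi i)
    (hMR3 : ∀ P : Ideal A, P.IsPrime → P.height = 1 → P.inertia H ≠ ⊥ → ∃ i, P.inertia H = Gi i)
    (hMR4 : ∀ i, Module.Free R
      (FixedPoints.subalgebra R A ↥(⨆ j ∈ (Finset.univ.erase i : Finset (Fin n)), Gi j : Subgroup H))) :
    (⨆ i, FixedPoints.subalgebra R A ↥(⨆ j ∈ (Finset.univ.erase i : Finset (Fin n)), Gi j : Subgroup H)) = ⊤ := by
  classical
  haveI := H4Depth.isDomain_of_isRegularLocalRing R
  haveI := S9829.result R
  haveI : ∀ S : Subgroup H, S.Normal := fun S => ⟨fun z hz g => by rw [hcomm g z, mul_inv_cancel_right]; exact hz⟩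
  have hbound : ∀ J : Finset (Fin n), Nat.card ↥(⨆ l ∈ J, Gi l : Subgroup H) ≤ p ^ J.card := by
    intro J
    induction J using Finset.induction_on with
    | empty => simp
    | @insert i J hiJ ih =>
      rw [Finset.iSup_insert, Finset.card_insert_of_notMem hiJ, pow_succ']
      set S : Subgroup H := ⨆ l ∈ J, Gi l with hS
      refine le_trans ?_ (Nat.mul_le_mul (hGi i).le ih)
      rw [← Nat.card_prod]
      refine Nat.card_le_card_of_surjective
        (fun xy : Gi i × S => (⟨(xy.1 : H) * xy.2, mul_mem (Subgroup.mem_sup_left xy.1.2)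
          (Subgroup.mem_sup_right xy.2.2)⟩ : ↥(Gi i ⊔ S))) fun z => ?_
      have hz : (z : H) ∈ ((Gi i ⊔ S : Subgroup H) : Set H) := z.2
      rw [Subgroup.mul_normal] at hz
      obtain ⟨x, hx, y, hy, hxy⟩ := hz
      exact ⟨(⟨x, hx⟩, ⟨y, hy⟩), Subtype.ext hxy⟩
  have hp : p.Prime := Fact.out
  have hdisj : ∀ i, ∀ z ∈ H23Wild.Generate.compl Gi i, z ∈ Gi i → z = 1 := by
    intro i z hz hzi
    by_contra hz1
    have h1 : Gi i ≤ H23Wild.Generate.compl Gi i := by
      have h2 : Subgroup.zpowers (⟨z, hzi⟩ : Gi i) = ⊤ :=
        zpowers_eq_top_of_prime_card (hGi i) fun h => hz1 (congrArg Subtype.val h)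
      intro g hg
      have h3 : (⟨g, hg⟩ : Gi i) ∈ Subgroup.zpowers (⟨z, hzi⟩ : Gi i) := h2 ▸ Subgroup.mem_top _
      obtain ⟨m, hm⟩ := h3
      rw [← show z ^ m = g from congrArg Subtype.val hm]
      exact zpow_mem hz m
    have h4 : H23Wild.Generate.compl Gi i = ⊤ := by
      rw [← H23Wild.Generate.compl_sup Gi hsup i, sup_eq_left.mpr h1]
    have h5 : Nat.card H ≤ p ^ (Finset.univ.erase i : Finset (Fin n)).card := by
      rw [← Subgroup.card_top, ← h4]
      exact hbound _
    rw [hcard, Finset.card_erase_of_mem (Finset.mem_univ i), Finset.card_univ, Fintype.card_fin] at h5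
    have hn : 1 ≤ n := Fin.pos i
    exact absurd h5 (not_le.mpr (Nat.pow_lt_pow_right hp.one_lt (by omega)))
  haveI : ∀ i, Module.Free R (H23Wild.Generate.fixB R A Gi i) := hMR4
  refine H23Wild.Generate.iSup_fixB_eq_top Gi hcomm hfix hsup hdisj hinj fun P hP hP1 => ?_
  rcases lt_or_eq_of_le hP1 with h | h
  · have h0 : P = ⊥ := by
      haveI := hP
      exact Ideal.height_eq_zero_iff_eq_bot.mp (ENat.lt_one_iff_eq_zero.mp h)
    refine Or.inl (eq_bot_iff.mpr fun g hg => ?_)
    rw [Subgroup.mem_bot]
    refine FaithfulSMul.eq_of_smul_eq_smul (α := A) fun a => ?_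
    have h1 := hg a
    rw [h0] at h1
    replace h1 := sub_eq_zero.mp ((Submodule.mem_bot A).mp (h1 : g • a - a ∈ (⊥ : Ideal A)))
    rw [h1, one_smul]
  · by_cases hI : P.inertia H = ⊥
    · exact Or.inl hI
    · exact Or.inr ((hMR3 P hP h hI).imp fun i hi => hi.le)

end Groth.Agent.S15812
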