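import Groth.Statements.S15813
import Groth.Agent.H23Wild.Break
import Groth.Agent.H23Wild.Aut
import Mathlib.RingTheory.PrincipalIdealDomain
import Mathlib.RingTheory.IntegralClosure.IntegrallyClosed

set_option autoImplicit false
universe u
open WildQuot

namespace Groth.Agent.S15813

/-- Let `k` be a field of characteristic `p > 0`, `A = k[[u]]`, and `σ` a `k`-algebra automorphism of
`A` of order exactly `p`, with ramification break `m`: `σ u - u` has order `m + 1`. Let `x = ∏_{i <
p} σ^i u` be the norm of `u`, let `f ∈ A` be `σ`-invariant with nonzero constant term (a unit of the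
invariant ring `k[[x]]`), let `μ > 0` be prime to `p`, and let `z ∈ Frac(A)` satisfy the
Artin–Schreier equation `z ^ p - z = f / x ^ μ`. Then `μ = m`. (The published statement also records
that `Frac(A) = Frac(A^σ)(z)`; that follows from the equation since `p` does not divide `μ`, so it
is not repeated as a hypothesis.) -/
theorem result
    (p : ℕ) [Fact p.Prime] (k : Type u) [Field k] [CharP k p]
    (σ : PowerSeries k ≃ₐ[k] PowerSeries k) (hσp : σ ^ p = 1) (hσ1 : σ ≠ 1)
    (m : ℕ) (hm : (σ PowerSeries.X - PowerSeries.X).order = ((m + 1 : ℕ) : ℕ∞))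
    (f : PowerSeries k) (hfσ : σ f = f) (hf0 : PowerSeries.constantCoeff f ≠ 0)
    (μ : ℕ) (hμ : 0 < μ) (hpμ : ¬ p ∣ μ)
    (z : FractionRing (PowerSeries k))
    (hz : z ^ p - z = algebraMap (PowerSeries k) (FractionRing (PowerSeries k)) f /
      algebraMap (PowerSeries k) (FractionRing (PowerSeries k))
        (∏ i ∈ Finset.range p, (σ ^ i) PowerSeries.X) ^ μ) :
    μ = m := by
  haveI : CharP (PowerSeries k) p := charP_of_injective_ringHom
    (f := (PowerSeries.C : k →+* PowerSeries k)) (RingHom.injective _) p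
  have hp := (Fact.out : p.Prime)
  let x := Groth.Agent.H23Wild.Break.normX σ p
  have hxσ : σ x = x := Groth.Agent.H23Wild.Break.sigma_normX σ p hσp
  have hxo : x.order = p := Groth.Agent.H23Wild.Break.order_normX σ p hσp hm
  have hx0 : x ≠ 0 := fun h => by rw [h, PowerSeries.order_zero] at hxo; exact ENat.top_ne_natCast _ hxo
  let i := algebraMap (PowerSeries k) (FractionRing (PowerSeries k))
  have hix : i x ≠ 0 := fun h => hx0 (IsFractionRing.injective (PowerSeries k) _ (h.trans (map_zero i).symm))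
  have hz' : (z * i x ^ μ) ^ p - i (x ^ (μ * (p - 1))) * (z * i x ^ μ) = i (f * x ^ (μ * (p - 1))) := by
    change z ^ p - z = i f / i x ^ μ at hz
    rw [eq_div_iff (pow_ne_zero _ hix)] at hz
    have e : μ * (p - 1) + μ = μ * p := by
      rw [← Nat.mul_succ, Nat.succ_eq_add_one, Nat.sub_add_cancel hp.one_le]
    have e' : (i x ^ μ) ^ p = i x ^ (μ * (p - 1)) * i x ^ μ := by rw [← pow_mul, ← pow_add, e]
    rw [map_mul i, map_pow i, mul_pow, e']
    linear_combination (i x ^ (μ * (p - 1))) * hz
  obtain ⟨N, hN⟩ : ∃ N, i N = z * i x ^ μ := by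
    refine IsIntegrallyClosed.isIntegral_iff.mp ⟨Polynomial.X ^ p - (Polynomial.C (x ^ (μ * (p - 1))) * Polynomial.X +
      Polynomial.C (f * x ^ (μ * (p - 1)))), Polynomial.monic_X_pow_sub (Polynomial.degree_linear_le.trans_lt
        (by exact_mod_cast hp.one_lt)), ?_⟩
    simp only [Polynomial.eval₂_sub, Polynomial.eval₂_add, Polynomial.eval₂_mul, Polynomial.eval₂_pow,
      Polynomial.eval₂_X, Polynomial.eval₂_C]
    linear_combination hz'
  have hN' : N ^ p - x ^ (μ * (p - 1)) * N = f * x ^ (μ * (p - 1)) := by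
    apply IsFractionRing.injective (PowerSeries k) (FractionRing (PowerSeries k))
    show i _ = i _
    rw [map_sub, map_mul i _ N, map_pow i N, hN]
    exact hz'
  have hD : (σ N - N) ^ p = (x ^ μ) ^ (p - 1) * (σ N - N) := by
    have h2 := congrArg σ hN'
    simp only [map_sub, map_mul, map_pow, hxσ, hfσ] at h2
    rw [sub_pow_char, ← pow_mul]
    linear_combination h2 - hN'
  obtain ⟨j, hj⟩ := Groth.Agent.H23Wild.exists_cast_of_root p (pow_ne_zero μ hx0) hD
  have hN0 : N ≠ 0 := by
    rintro rfl
    rw [zero_pow hp.ne_zero, mul_zero, sub_zero, eq_comm, mul_eq_zero] at hN'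
    rcases hN' with h | h
    · exact hf0 (by rw [h, map_zero])
    · exact pow_ne_zero _ hx0 h
  obtain ⟨o, ho⟩ : ∃ o : ℕ, N.order = o := ⟨_, (PowerSeries.coe_toNat_order hN0).symm⟩
  have hoR : (f * x ^ (μ * (p - 1))).order = ((μ * (p - 1) * p : ℕ) : ℕ∞) := by
    rw [PowerSeries.order_mul, PowerSeries.order_pow, hxo, PowerSeries.order_zero_of_unit
      (PowerSeries.isUnit_iff_constantCoeff.mpr (isUnit_iff_ne_zero.mpr hf0)), zero_add, nsmul_eq_mul]
    norm_cast
  have hop : o = μ * (p - 1) := by
    have h1 : (N ^ p).order = ((p * o : ℕ) : ℕ∞) := by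
      rw [PowerSeries.order_pow, ho, nsmul_eq_mul]; norm_cast
    have h2 : (x ^ (μ * (p - 1)) * N).order = ((μ * (p - 1) * p + o : ℕ) : ℕ∞) := by
      rw [PowerSeries.order_mul, PowerSeries.order_pow, hxo, ho, nsmul_eq_mul]; norm_cast
    by_cases hne : p * o = μ * (p - 1) * p + o
    · have h3 := PowerSeries.min_order_le_order_add (N ^ p) (-(x ^ (μ * (p - 1)) * N))
      rw [← sub_eq_add_neg, hN', hoR, PowerSeries.order_neg, h1, h2, hne, min_self, Nat.cast_le] at h3
      have h4 : o = 0 := by omega
      subst h4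
      have : μ * (p - 1) * p = 0 := by omega
      simp [hp.ne_zero, Nat.sub_eq_zero_iff_le, hp.one_lt.not_ge, hμ.ne'] at this
    · have h3 := PowerSeries.order_add_of_order_ne (N ^ p) (-(x ^ (μ * (p - 1)) * N)) (by
        rw [PowerSeries.order_neg, h1, h2]; exact_mod_cast hne)
      rw [← sub_eq_add_neg, hN', hoR, PowerSeries.order_neg, h1, h2] at h3
      change _ = min ((p * o : ℕ) : ℕ∞) _ at h3
      rw [← (Nat.mono_cast (α := ℕ∞)).map_min, Nat.cast_inj] at h3
      rcases min_choice (p * o) (μ * (p - 1) * p + o) with h | h <;> rw [h] at h3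
      · exact Nat.eq_of_mul_eq_mul_left hp.pos (by rw [← h3]; ring)
      · exfalso
        have h5 : o = 0 := by omega
        have h6 := min_le_left (p * o) (μ * (p - 1) * p + o)
        rw [h, h5, mul_zero] at h6
        have : μ * (p - 1) * p = 0 := by omega
        simp [hp.ne_zero, Nat.sub_eq_zero_iff_le, hp.one_lt.not_ge, hμ.ne'] at this
  have hpo : ¬ p ∣ o := by
    rw [hop]
    intro hdvd
    rcases hp.dvd_mul.mp hdvd with h | h
    · exact hpμ h
    · exact absurd (Nat.le_of_dvd (by have := hp.two_le; omega) h) (by have := hp.two_le; omega)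
  have hord := Groth.Agent.H23Wild.Break.order_sigma_sub σ p hσp hm ho hpo
  rw [hj] at hord
  have hj0 : j ≠ 0 := fun h => by
    rw [h, map_zero, zero_mul, PowerSeries.order_zero] at hord
    exact ENat.top_ne_natCast _ hord
  rw [PowerSeries.order_mul, PowerSeries.order_zero_of_unit ((isUnit_iff_ne_zero.mpr hj0).map _), zero_add,
    PowerSeries.order_pow, hxo, nsmul_eq_mul] at hord
  have h6 : μ * p = μ * (p - 1) + m := by rw [← hop]; exact_mod_cast hord
  have h7 : μ * p = μ * (p - 1) + μ := by
    rw [← Nat.mul_succ, Nat.succ_eq_add_one, Nat.sub_add_cancel hp.one_le]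
  omega

end Groth.Agent.S15813
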