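import Groth.Statements.S15814
import Groth.Agent.H23Wild.Coprod

set_option autoImplicit false
universe u v w
open WildQuot

namespace Groth.Agent.S15814

/-- Let `R` be a regular local ring and `A` a regular local ring, finite over `R` (with `R → A`
injective) and with the same residue field; let a finite commutative group `H` of order `p ^ n` (`p`
prime) act faithfully on `A` by `R`-algebra automorphisms with ring of invariants exactly `R`, and
let `G_1, …, G_n ≤ H` be subgroups of order `p` generating `H`, each the inertia subgroup of some
height-one prime of `A`. Put `G_i^⊥ =` the subgroup generated by the `G_j` with `j ≠ i` and `B_i =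
A^{G_i^⊥}`. Suppose `A` is the coproduct of the `R`-algebras `B_1, …, B_n`: every family of
`R`-algebra maps `B_i → C` into a commutative `R`-algebra `C` is the restriction of a unique
`R`-algebra map `A → C` (that is, the product map `B_1 ⊗_R ⋯ ⊗_R B_n → A` is an isomorphism). Then
every `B_i` is a free `R`-module and a regular local ring. (The published statement is for `A`
complete regular with an action ramified precisely at the origin, `R` a norm subring and `H` the
Galois group of `Frac(A)/Frac(R)`, when that extension is Galois, and adds that the branch-locus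
equations `a_1, …, a_n` of the `B_i` over `R` form a system of parameters of `R`; that last clause
is not included, and the test algebras `C` are taken in one universe large enough to contain the
tensor product.) -/
theorem result
    (p : ℕ) [Fact p.Prime] (R : Type u) [CommRing R] [IsRegularLocalRing R]
    (A : Type v) [CommRing A] [IsRegularLocalRing A]
    [Algebra R A] [Module.Finite R A] (hinj : Function.Injective (algebraMap R A))
    (hres : Function.Surjective (IsLocalRing.residue A ∘ algebraMap R A))
    (H : Type w) [Group H] [Finite H] [MulSemiringAction H A] [SMulCommClass H R A] [FaithfulSMul H A]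
    (hfix : ∀ a : A, (∀ h : H, h • a = a) → a ∈ Set.range (algebraMap R A))
    (hcomm : ∀ g h : H, g * h = h * g)
    (n : ℕ) (hcard : Nat.card H = p ^ n) (Gi : Fin n → Subgroup H)
    (hGi : ∀ i, Nat.card (Gi i) = p) (hsup : (⨆ i, Gi i) = ⊤)
    (hinert : ∀ i, ∃ P : Ideal A, P.IsPrime ∧ P.height = 1 ∧ P.inertia H = Gi i)
    (hcoprod : ∀ (C : Type (max u v)) [CommRing C] [Algebra R C]
      (φ : ∀ i : Fin n,
        FixedPoints.subalgebra R A ↥(⨆ j ∈ (Finset.univ.erase i : Finset (Fin n)), Gi j : Subgroup H) →ₐ[R] C),
      ∃! ψ : A →ₐ[R] C, ∀ i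
        (x : FixedPoints.subalgebra R A ↥(⨆ j ∈ (Finset.univ.erase i : Finset (Fin n)), Gi j : Subgroup H)),
        ψ x = φ i x) :
    ∀ i, Module.Free R
        (FixedPoints.subalgebra R A ↥(⨆ j ∈ (Finset.univ.erase i : Finset (Fin n)), Gi j : Subgroup H)) ∧
      IsRegularLocalRing
        (FixedPoints.subalgebra R A ↥(⨆ j ∈ (Finset.univ.erase i : Finset (Fin n)), Gi j : Subgroup H)) := by
  refine H23Wild.Coprod.free_and_regular hinj _ fun C _ _ φ => ?_
  let e : ULift.{u} C ≃ₐ[R] C := ULift.algEquiv
  obtain ⟨ψ, hψ, huniq⟩ := hcoprod (ULift.{u} C) fun i => e.symm.toAlgHom.comp (φ i)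
  refine ⟨e.toAlgHom.comp ψ, fun i x => ?_, fun ψ' hψ' => ?_⟩
  · show e (ψ x) = φ i x
    rw [hψ i x]
    exact e.apply_symm_apply _
  · have h := huniq (e.symm.toAlgHom.comp ψ') fun i x => by
      show e.symm (ψ' x) = e.symm (φ i x)
      rw [hψ' i x]
    rw [← h]
    exact AlgHom.ext fun a => (e.apply_symm_apply (ψ' a)).symm

end Groth.Agent.S15814
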