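import Groth.Statements.S15816
import Groth.Agent.H4Koszul.Scale
import Groth.Agent.H29Slice.KoszulReg
import Mathlib.LinearAlgebra.TensorProduct.Quotient

set_option autoImplicit false
universe u
open CategoryTheory
open scoped TensorProduct
open Koszul

namespace Groth.Agent.S15816

/-- Let A be a commutative ring, f = (f_1, …, f_n) a sequence in A that is regular in the weak sense
(f_1 is a non-zero-divisor of A and each f_i is a non-zero-divisor modulo (f_1, …, f_{i-1})), with
Koszul complex K(f) and differentials ∂^q, and let x be a non-zero-divisor of A. Then for every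
integer q < 0 the q-th cohomology module of the Koszul complex of (x f_1, …, x f_n) is isomorphic as
an A-module to Ker(∂^q) ⊗_A A/(x) (existence of an A-linear isomorphism; mapping-cone model of the
Koszul complex). -/
theorem result (A : Type u) [CommRing A] (l : List A)
    (hl : RingTheory.Sequence.IsWeaklyRegular A l) (x : A) (hx : x ∈ nonZeroDivisors A) (q : ℤ) (hq : q < 0) :
    Nonempty ((Koszul.koszul A (l.map (fun f => x * f))).homology q ≅
      ModuleCat.of A (↥(LinearMap.ker ((Koszul.koszul A l).d q (q + 1)).hom) ⊗[A] (A ⧸ Ideal.span {x}))) := by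
  have hk := Groth.Agent.H29Slice.isKoszulRegular_of_isWeaklyRegular hl
  let K := Koszul.koszul A l
  have hex : LinearMap.range (K.d (q - 1) q).hom = LinearMap.ker (K.d q (q + 1)).hom := by
    have h1 : (K.sc' (q - 1) q (q + 1)).Exact :=
      (K.exactAt_iff' (q - 1) q (q + 1) (by simp) (by simp)).1 ((K.exactAt_iff_isZero_homology q).2 (hk q hq.ne))
    exact h1.moduleCat_range_eq_ker
  obtain ⟨e⟩ := Groth.Agent.H4Koszul.koszul_scale x l
  obtain ⟨h⟩ := Groth.Agent.H4Koszul.homology_scale (x := x) K q
    (Groth.Agent.H4Koszul.isSMulRegular_koszul hx l (q + 1))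
  let Z := LinearMap.ker (K.d q (q + 1)).hom
  have hsub : Submodule.comap Z.subtype (Ideal.span {x} • LinearMap.range (K.d (q - 1) q).hom) =
      Ideal.span {x} • (⊤ : Submodule A Z) := by
    rw [hex]
    refine Submodule.map_injective_of_injective Z.subtype_injective ?_
    rw [Submodule.map_comap_eq, Submodule.map_smul'', Submodule.map_top, Submodule.range_subtype]
    exact inf_eq_right.2 Submodule.smul_le_right
  exact ⟨(HomologicalComplex.homologyFunctor _ _ q).mapIso e ≪≫ h ≪≫
    ((Submodule.quotEquivOfEq _ _ hsub).trans (TensorProduct.tensorQuotEquivQuotSMul Z (Ideal.span {x})).symm).toModuleIso⟩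

end Groth.Agent.S15816
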