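import Groth.Statements.S15817
import Groth.Agent.H3CAlg.GenericDet
import Groth.Agent.S15706
import Mathlib.Data.Int.ConditionallyCompleteOrder
import Mathlib.Data.Int.Star
import Mathlib.RingTheory.LocalProperties.FinitePresentation
import Mathlib.RingTheory.LocalProperties.Projective
import Mathlib.RingTheory.MvPolynomial.IrreducibleQuadratic
import Mathlib.RingTheory.PicardGroup

set_option autoImplicit false
universe u v
open CategoryTheory
open CAlg

namespace Groth.Agent.S15817

/-- Let A be a commutative ring, M an A-module and P, Q submodules of M. Then the commuting square of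
quotient projections with corners M/(P ∩ Q), M/P, M/Q and M/(P + Q) is cartesian in the category of
A-modules: M/(P ∩ Q) is the fibre product of M/P and M/Q over M/(P + Q). -/
theorem result (A : Type u) [CommRing A] (M : Type v) [AddCommGroup M] [Module A M]
    (P Q : Submodule A M) :
    IsPullback (ModuleCat.ofHom (Submodule.factor (inf_le_left : P ⊓ Q ≤ P)))
      (ModuleCat.ofHom (Submodule.factor (inf_le_right : P ⊓ Q ≤ Q)))
      (ModuleCat.ofHom (Submodule.factor (le_sup_left : P ≤ P ⊔ Q)))
      (ModuleCat.ofHom (Submodule.factor (le_sup_right : Q ≤ P ⊔ Q))) := by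
  let j : M ⧸ (P ⊓ Q) →ₗ[A] (M ⧸ P) × (M ⧸ Q) :=
    (Submodule.factor (inf_le_left : P ⊓ Q ≤ P)).prod (Submodule.factor (inf_le_right : P ⊓ Q ≤ Q))
  have hj : ∀ m : M, j (Submodule.Quotient.mk m) = (Submodule.Quotient.mk m, Submodule.Quotient.mk m) := fun _ => rfl
  have hinj : Function.Injective j := by
    rw [injective_iff_map_eq_zero]
    intro x hx
    obtain ⟨m, rfl⟩ := Submodule.Quotient.mk_surjective _ x
    rw [hj, Prod.mk_eq_zero, Submodule.Quotient.mk_eq_zero, Submodule.Quotient.mk_eq_zero] at hx
    exact (Submodule.Quotient.mk_eq_zero _).mpr ⟨hx.1, hx.2⟩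
  have hex : ∀ (a : M ⧸ P) (b : M ⧸ Q), Submodule.factor (le_sup_left : P ≤ P ⊔ Q) a = Submodule.factor (le_sup_right : Q ≤ P ⊔ Q) b → ∃ z, j z = (a, b) := by
    intro a b
    obtain ⟨x, rfl⟩ := Submodule.Quotient.mk_surjective _ a
    obtain ⟨y, rfl⟩ := Submodule.Quotient.mk_surjective _ b
    intro hab
    change (Submodule.Quotient.mk x : M ⧸ (P ⊔ Q)) = Submodule.Quotient.mk y at hab
    rw [Submodule.Quotient.eq, Submodule.mem_sup] at hab
    obtain ⟨p, hp, q, hq, hpq⟩ := hab
    refine ⟨Submodule.Quotient.mk (x - p), ?_⟩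
    rw [hj, Prod.mk.injEq, Submodule.Quotient.eq, Submodule.Quotient.eq]
    refine ⟨by simpa using P.neg_mem hp, ?_⟩
    rw [show x - p - y = q by rw [sub_right_comm, ← hpq]; abel]
    exact hq
  choose z hz using hex
  refine ⟨⟨?_⟩, ⟨Limits.PullbackCone.IsLimit.mk _ (fun s => ModuleCat.ofHom
    { toFun := fun t => z _ _ (ConcreteCategory.congr_hom s.condition t)
      map_add' := fun t t' => hinj ?_
      map_smul' := fun r t => hinj ?_ }) ?_ ?_ ?_⟩⟩
  · ext x
    rfl
  · refine (hz _ _ _).trans ?_
    rw [map_add j, hz, hz]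
    exact Prod.ext (map_add _ t t') (map_add _ t t')
  · refine (hz _ _ _).trans ?_
    rw [RingHom.id_apply, map_smul j, hz]
    exact Prod.ext (map_smul _ r t) (map_smul _ r t)
  · intro s
    ext t
    exact congrArg Prod.fst (hz _ _ (ConcreteCategory.congr_hom s.condition t))
  · intro s
    ext t
    exact congrArg Prod.snd (hz _ _ (ConcreteCategory.congr_hom s.condition t))
  · intro s m h1 h2
    ext t
    apply hinj
    refine Eq.trans ?_ (hz _ _ (ConcreteCategory.congr_hom s.condition t)).symm
    exact Prod.ext (ConcreteCategory.congr_hom h1 t) (ConcreteCategory.congr_hom h2 t)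

end Groth.Agent.S15817
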