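import Groth.Statements.S15818
import Groth.Agent.H4Koszul.PB

set_option autoImplicit false
universe u
open CategoryTheory
open Koszul

namespace Groth.Agent.S15818

/-- Let A be a commutative ring, f = (f_1, …, f_n) a finite sequence in A with Koszul complex K = K(f)
(mapping-cone model) and differentials ∂, q an integer, Z = Ker(∂^q) and B = Im(∂^{q-1}), so B ⊆ Z
inside K^q (this inclusion is carried as the hypothesis hBZ). Let x be a non-zero-divisor of A which
moreover acts injectively on the cohomology module Z/B (for Noetherian A this says that x lies in no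
associated prime of Z/B, which is how the published statement phrases it; the published argument
uses exactly the injectivity). Then the commuting square of quotient projections with corners Z/xB
(top left; it is isomorphic to the q-th cohomology of the Koszul complex of (x f_1, …, x f_n)), Z/xZ
= Z ⊗ A/(x) (top right), Z/B (bottom left) and Z/(B + xZ) = (Z/B) ⊗ A/(x) (bottom right) is
cartesian in the category of A-modules. All four corners are written as quotients of Z by the
preimages of the submodules xB, xZ, B, B + xZ of K^q. -/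
theorem result (A : Type u) [CommRing A] (l : List A) (q : ℤ)
    (K : CochainComplex (ModuleCat.{u} A) ℤ) (hK : K = Koszul.koszul A l)
    (hBZ : LinearMap.range (K.d (q - 1) q).hom ≤ LinearMap.ker (K.d q (q + 1)).hom)
    (x : A) (hx : x ∈ nonZeroDivisors A)
    (hxH : IsSMulRegular (↥(LinearMap.ker (K.d q (q + 1)).hom) ⧸ Submodule.comap (LinearMap.ker (K.d q (q + 1)).hom).subtype (LinearMap.range (K.d (q - 1) q).hom)) x) :
    IsPullback
      (ModuleCat.ofHom (Submodule.factor (Submodule.comap_mono (Submodule.smul_mono le_rfl hBZ) :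
        Submodule.comap (LinearMap.ker (K.d q (q + 1)).hom).subtype (Ideal.span {x} • LinearMap.range (K.d (q - 1) q).hom) ≤
          Submodule.comap (LinearMap.ker (K.d q (q + 1)).hom).subtype (Ideal.span {x} • LinearMap.ker (K.d q (q + 1)).hom))))
      (ModuleCat.ofHom (Submodule.factor (Submodule.comap_mono (Submodule.smul_le_right) :
        Submodule.comap (LinearMap.ker (K.d q (q + 1)).hom).subtype (Ideal.span {x} • LinearMap.range (K.d (q - 1) q).hom) ≤
          Submodule.comap (LinearMap.ker (K.d q (q + 1)).hom).subtype (LinearMap.range (K.d (q - 1) q).hom))))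
      (ModuleCat.ofHom (Submodule.factor (Submodule.comap_mono le_sup_right :
        Submodule.comap (LinearMap.ker (K.d q (q + 1)).hom).subtype (Ideal.span {x} • LinearMap.ker (K.d q (q + 1)).hom) ≤
          Submodule.comap (LinearMap.ker (K.d q (q + 1)).hom).subtype (LinearMap.range (K.d (q - 1) q).hom ⊔ Ideal.span {x} • LinearMap.ker (K.d q (q + 1)).hom))))
      (ModuleCat.ofHom (Submodule.factor (Submodule.comap_mono le_sup_left :
        Submodule.comap (LinearMap.ker (K.d q (q + 1)).hom).subtype (LinearMap.range (K.d (q - 1) q).hom) ≤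
          Submodule.comap (LinearMap.ker (K.d q (q + 1)).hom).subtype (LinearMap.range (K.d (q - 1) q).hom ⊔ Ideal.span {x} • LinearMap.ker (K.d q (q + 1)).hom)))) := by
  refine Groth.Agent.H4Koszul.isPullback_of_bijective _ _ _ _ ?_ ?_ ?_
  · ext z
    rfl
  · intro p hp1 hp2
    obtain ⟨z, rfl⟩ := Submodule.Quotient.mk_surjective _ p
    have h1 : (z : K.X q) ∈ Ideal.span {x} • LinearMap.ker (K.d q (q + 1)).hom :=
      Submodule.mem_comap.1 ((Submodule.Quotient.mk_eq_zero _).1 hp1)
    have h2 : (z : K.X q) ∈ LinearMap.range (K.d (q - 1) q).hom := Submodule.mem_comap.1 ((Submodule.Quotient.mk_eq_zero _).1 hp2)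
    refine (Submodule.Quotient.mk_eq_zero _).2 ?_
    rw [Submodule.ideal_span_singleton_smul] at h1
    obtain ⟨y, hy, hyz⟩ := h1
    have h3 : x • (Submodule.Quotient.mk (⟨y, hy⟩ : LinearMap.ker (K.d q (q + 1)).hom) :
        LinearMap.ker (K.d q (q + 1)).hom ⧸ Submodule.comap (LinearMap.ker (K.d q (q + 1)).hom).subtype
          (LinearMap.range (K.d (q - 1) q).hom)) = x • 0 := by
      rw [smul_zero, ← Submodule.Quotient.mk_smul, Submodule.Quotient.mk_eq_zero, Submodule.mem_comap]
      change x • y ∈ _
      rw [show x • y = (z : K.X q) from hyz]; exact h2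
    have h4 : y ∈ LinearMap.range (K.d (q - 1) q).hom := Submodule.mem_comap.1 ((Submodule.Quotient.mk_eq_zero _).1 (hxH h3))
    rw [Submodule.mem_comap]
    change (z : K.X q) ∈ _
    rw [← hyz]
    exact Submodule.smul_mem_smul (Ideal.mem_span_singleton_self x) h4
  · intro a b hab
    obtain ⟨z1, rfl⟩ := Submodule.Quotient.mk_surjective _ a
    obtain ⟨z2, rfl⟩ := Submodule.Quotient.mk_surjective _ b
    have h : (z1 : K.X q) - z2 ∈ LinearMap.range (K.d (q - 1) q).hom ⊔ Ideal.span {x} • LinearMap.ker (K.d q (q + 1)).hom :=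
      Submodule.mem_comap.1 ((Submodule.Quotient.eq _).1 hab)
    obtain ⟨b', hb', c, hc, hbc⟩ := Submodule.mem_sup.1 h
    have hcz : c ∈ LinearMap.ker (K.d q (q + 1)).hom := Submodule.smul_le_right hc
    refine ⟨Submodule.Quotient.mk (z1 - ⟨c, hcz⟩), (Submodule.Quotient.eq _).2 ?_, (Submodule.Quotient.eq _).2 ?_⟩
    · rw [Submodule.mem_comap]
      change (z1 : K.X q) - c - z1 ∈ _
      rw [sub_sub_cancel_left]
      exact neg_mem (show c ∈ Ideal.span {x} • LinearMap.ker (K.d q (q + 1)).hom from hc)
    · change (z1 : K.X q) - c - z2 ∈ LinearMap.range (K.d (q - 1) q).hom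
      rw [show (z1 : K.X q) - c - z2 = b' by rw [sub_right_comm, ← hbc, add_sub_cancel_right]]
      exact hb'

end Groth.Agent.S15818
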