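import Groth.Statements.S15819
import Groth.Agent.H16Derived.TorSelf.Main

set_option autoImplicit false
universe u
open CategoryTheory AlgebraicGeometry
attribute [local instance] HasDerivedCategory.standard
open RegImm

namespace Groth.Agent.S15819

/-- Let X be a scheme and i : Y → X a closed immersion which is regular, i.e. around every point of Y
there is an affine open of X on which the ideal of Y is generated by a regular sequence, and let C
be the conormal sheaf of Y in X. Then for every q ≥ 0 and every q-th exterior power L of C (the
affine-local characterisation of exterior powers), the Tor sheaf Tor_q^{O_X}(i_*O_Y, i_*O_Y), namely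
the cohomology sheaf in degree -q of i_*O_Y ⊗^L i_*O_Y (the total left derived functor of − ⊗ i_*O_Y
on D(O_X) being assumed to exist), is isomorphic to i_*L (existence of an isomorphism of
O_X-modules). (The published statement is for a local complete intersection closed subscheme of a
smooth variety, whose ideal is then locally generated by a regular sequence; this row assumes that
property of the ideal directly and lets X be any scheme, which is what the gluing argument uses.) -/
theorem result {X Y : Scheme.{u}} (i : Y ⟶ X)
    [IsClosedImmersion i] (hi : RegImm.IsRegularImmersion RegImm.Kind.regular i)
    [DCoh.HasLTensorMod ((Scheme.Modules.pushforward i).obj (Coh.structureModule Y))]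
    (q : ℕ) (L : Y.Modules) (hL : ExtPow.IsExtPow q (Omega.conormal i) L) :
    Nonempty (DCoh.HD ((DCoh.LTensorMod ((Scheme.Modules.pushforward i).obj (Coh.structureModule Y))).obj (DCoh.inD X ((Scheme.Modules.pushforward i).obj (Coh.structureModule Y)))) (-(q : ℤ)) ≅
      (Scheme.Modules.pushforward i).obj L) := by
  exact H16Derived.TorSelf.main (H16Derived.TorSelf.locReg_of_regular hi) q L hL

end Groth.Agent.S15819
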