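import Groth.Statements.S15824
import Groth.Agent.H4Depth.CM
import Groth.Agent.H8Props.SliceTools.Scheme
import Groth.Agent.H13CInt.Spread
import Groth.Agent.H05EGA4.DepthMisc
-- import your own Groth.Agent.* helpers here

set_option autoImplicit false
universe u
open CategoryTheory AlgebraicGeometry
open RegImm

namespace Groth.Agent.S15824

open IsLocalRing LocCoh RingTheory.Sequence in
open scoped Pointwise in
theorem isCM_quotient {R : Type u} [CommRing R] [IsLocalRing R] [IsNoetherianRing R] (rs : List R) :
    ∀ (M : Type u) [AddCommGroup M] [Module R M] [Module.Finite R M], (∀ r ∈ rs, r ∈ maximalIdeal R) →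
      IsWeaklyRegular M rs → IsCohenMacaulayModule R M →
      IsCohenMacaulayModule R (M ⧸ Ideal.ofList rs • (⊤ : Submodule R M)) := by
  induction rs with
  | nil =>
    intro M _ _ _ _ _ h
    exact Groth.Agent.H05EGA4.DepthMisc.isCM_congr (Submodule.quotEquivOfEqBot _ (by simp)).symm h
  | cons x rs ih =>
    intro M _ _ _ hm hw h
    rw [isWeaklyRegular_cons_iff] at hw
    simp only [List.mem_cons, forall_eq_or_imp] at hm
    exact Groth.Agent.H05EGA4.DepthMisc.isCM_congr (Submodule.quotOfListConsSMulTopEquivQuotSMulTopInner M x rs).symm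
      (ih _ hm.2 hw.2 ((H4Depth.isCM_quotSMulTop_iff hm.1 hw.1).2 h))

open IsLocalRing LocCoh RingTheory.Sequence in
theorem aux {R S : Type u} [CommRing R] [LocCoh.IsCohenMacaulayLocalRing R] [CommRing S] [IsLocalRing S]
    (q : R →+* S) (hq : Function.Surjective q) (rs : List R) (hw : IsWeaklyRegular R rs)
    (hker : RingHom.ker q = Ideal.ofList rs) (hz : IsAssociatedPrime (maximalIdeal S) S) :
    ringKrullDim S = 0 := by
  let I : Ideal R := Ideal.ofList rs
  have hI : I ≠ ⊤ := fun h => RingHom.ker_ne_top q (hker.trans h)
  let e : (R ⧸ I) ≃+* S :=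
    (Ideal.quotEquivOfEq hker.symm).trans (RingHom.quotientKerEquivOfSurjective hq)
  haveI : IsNoetherianRing S := isNoetherianRing_of_surjective R S q hq
  let e0 : (R ⧸ (I • (⊤ : Submodule R R))) ≃ₗ[R] R ⧸ I :=
    Submodule.quotEquivOfEq _ _ (by rw [smul_eq_mul, Ideal.mul_top])
  have hCM : IsCohenMacaulayModule R (R ⧸ I) := Groth.Agent.H05EGA4.DepthMisc.isCM_congr e0
    (isCM_quotient rs R (fun r hr => le_maximalIdeal hI (Ideal.subset_span hr)) hw
      IsCohenMacaulayLocalRing.supportDim_eq_depth)
  have hass : maximalIdeal R ∈ associatedPrimes R (R ⧸ I) := by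
    rw [AssociatedPrimes.mem_iff, isAssociatedPrime_iff]
    obtain ⟨-, a, ha⟩ := isAssociatedPrime_iff.1 hz
    refine ⟨inferInstance, e.symm a, ?_⟩
    haveI : IsLocalHom q := IsLocalHom.of_surjective q hq
    ext r
    rw [show r ∈ maximalIdeal R ↔ q r ∈ maximalIdeal S by
      simp [mem_maximalIdeal, mem_nonunits_iff, isUnit_map_iff], ha]
    simp only [Submodule.mem_colon_singleton, Submodule.mem_bot]
    rw [← (e.injective.eq_iff' (map_zero e)), show r • e.symm a = Ideal.Quotient.mk I r * e.symm a from rfl,
      map_mul, RingEquiv.apply_symm_apply]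
    rfl
  rw [← ringKrullDim_eq_of_ringEquiv e, ← Module.supportDim_quotient_eq_ringKrullDim I,
    ← H4Depth.IsCM.ringKrullDim_quotient_eq hCM hass]
  letI := Ideal.Quotient.field (maximalIdeal R)
  exact ringKrullDim_eq_zero_of_field (R ⧸ maximalIdeal R)

/-- Let X be a locally Noetherian scheme all of whose local rings are Cohen–Macaulay, and i : Z → X a
closed immersion which is regular (around every point, on some affine open of X the ideal of Z is
generated by a regular sequence). Then Z has no embedded points (each associated point of Z is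
generic in an irreducible component): for every point z of Z, if the maximal ideal of O_{Z,z} is an
associated prime of O_{Z,z} (as a module over itself), then O_{Z,z} has Krull dimension 0. (The
published statement takes X Noetherian and Z a local complete intersection subscheme; the assertion
is local on X and uses only that the ideal of Z is locally generated by a regular sequence.) -/
theorem result {X Z : Scheme.{u}}
    [IsLocallyNoetherian X] (hCM : ∀ x : X, LocCoh.IsCohenMacaulayLocalRing (X.presheaf.stalk x))
    (i : Z ⟶ X) [IsClosedImmersion i] (hi : RegImm.IsRegularImmersion RegImm.Kind.regular i) (z : Z)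
    (hz : IsAssociatedPrime (IsLocalRing.maximalIdeal (Z.presheaf.stalk z)) (Z.presheaf.stalk z)) :
    ringKrullDim (Z.presheaf.stalk z) = 0 := by
  haveI := hCM (i.base z)
  have hreg := Groth.Agent.H8Props.SliceTools.isRegularClosedImmersion_of (Iso.refl Z) i hi.2
  rw [Iso.refl_hom, Category.id_comp] at hreg
  obtain ⟨rs, hrs, hI⟩ := H13CInt.isRegularIdeal_ker_stalkMap i hreg z
  exact Groth.Agent.S15824.aux (i.stalkMap z).hom (Scheme.Hom.stalkMap_surjective i z) rs hrs.toIsWeaklyRegular hI.symm hz

end Groth.Agent.S15824
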