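import Groth.Statements.S15826
import Groth.Agent.H17.KoszSh.Conormal
-- import your own Groth.Agent.* helpers here

set_option autoImplicit false
universe u
open CategoryTheory AlgebraicGeometry Opposite
open RegImm

namespace Groth.Agent.S15826

/-- Let X be a scheme, E a finite locally free O_X-module of rank n and s : E → O_X a regular section,
meaning that around every point of X there is an affine open U and a basis e_1, …, e_n of E(U) over
Γ(X, U) such that s(e_1), …, s(e_n) is a weakly regular sequence in Γ(X, U) (each a non-zero-divisor
modulo the previous ones). Let i : Y → X be a closed immersion whose ideal sheaf I_Y is the image of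
s: t : E → I_Y is an epimorphism of O_X-modules with t followed by the inclusion I_Y → O_X equal to
s. Then the pulled-back map i^*t : i^*E → i^*I_Y is an isomorphism of O_Y-modules; its target is the
conormal sheaf C_{Y/X} = I_Y/I_Y², so E|_Y ≅ C_{Y/X} via s and, dually, N_{Y/X} ≅ E^∨|_Y. (The
published statement calls s regular when its image is a regular ideal sheaf locally generated by
rank-many sections; the local bases mapping to regular sequences used here are how the published
proofs read that condition.) -/
theorem result {X Y : Scheme.{u}} (n : ℕ) (E : X.Modules)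
    (hE : FlatMod.IsFinLocFreeOfRank n E) (s : E ⟶ Coh.structureModule X)
    (hs : ∀ x : X, ∃ U : X.affineOpens, x ∈ U.1 ∧
      ∃ b : Module.Basis (Fin n) Γ(X, U.1) (E.val.obj (op U.1)),
        @RingTheory.Sequence.IsWeaklyRegular Γ(X, U.1) Γ(X, U.1) _ _ _ (List.ofFn fun k => (s.val.app (op U.1)).hom (b k)))
    (i : Y ⟶ X) [IsClosedImmersion i] (t : E ⟶ ClSub.idealMod i.ker) [Epi t]
    (hts : t ≫ ClSub.idealModι i.ker = s) :
    IsIso ((Scheme.Modules.pullback i).map t) := by
  exact Groth.Agent.H17.KoszSh.isIso_pullback_map E hE s hs i t hts

end Groth.Agent.S15826
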