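import Groth.Statements.S15832
import Mathlib.Tactic.Group

set_option autoImplicit false
universe u
open TopGrp

namespace Groth.Agent.S15832

/-- For a group T with a topology, let B be the family of two-sided translates x Γ y, where Γ runs over
the subgroups of T open in the given topology and x, y over T; the topology generated by B makes T a
topological group in which every neighbourhood of the identity contains a subgroup open for that
topology. (The published statement is for the free topological product of two Noohi groups whose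
open subgroups form a basis of neighbourhoods of the identity; the argument uses only the group
structure and the chosen family of subgroups, so the row is stated for an arbitrary group with a
topology. The published conventions include Hausdorffness in the word topological group; this row
does not assert it, and the published argument does not prove it.) -/
theorem result (T : Type u) [Group T]
    [TopologicalSpace T] :
    @NonarchimedeanGroup T _ (TopologicalSpace.generateFrom
      {S : Set T | ∃ (Γ : OpenSubgroup T) (x y : T), S = (fun g : T => x * g * y) '' (Γ : Set T)}) := by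
  let τ0 : TopologicalSpace T := inferInstance
  letI τ : TopologicalSpace T := TopologicalSpace.generateFrom
      {S : Set T | ∃ (Γ : OpenSubgroup T) (x y : T), S = (fun g : T => x * g * y) '' (Γ : Set T)}
  have hopen : ∀ (Γ : @OpenSubgroup T _ τ0) (x y : T),
      @IsOpen T τ ((fun g : T => x * g * y) '' (Γ : Set T)) := fun Γ x y =>
    TopologicalSpace.isOpen_generateFrom_of_mem ⟨Γ, x, y, rfl⟩
  haveI : IsTopologicalGroup T :=
    { continuous_mul := by
        rw [continuous_generateFrom_iff]
        rintro _ ⟨Γ, x, y, rfl⟩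
        rw [isOpen_prod_iff]
        rintro a b ⟨g, hg, hab⟩
        refine ⟨_, _, hopen Γ x (x⁻¹ * a), hopen Γ (a⁻¹ * x) y, ⟨1, one_mem Γ, by group⟩,
          ⟨g, hg, by
            simp only at hab ⊢
            rw [show b = a⁻¹ * (a * b) by group, ← hab]; group⟩, ?_⟩
        rintro ⟨_, _⟩ ⟨⟨g₁, hg₁, rfl⟩, ⟨g₂, hg₂, rfl⟩⟩
        exact ⟨g₁ * g₂, mul_mem hg₁ hg₂, by group⟩
      continuous_inv := by
        rw [continuous_generateFrom_iff]
        rintro _ ⟨Γ, x, y, rfl⟩
        convert hopen Γ y⁻¹ x⁻¹ using 1
        ext z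
        constructor
        · rintro ⟨g, hg, hz⟩
          exact ⟨g⁻¹, inv_mem hg, by simp only at hz ⊢; rw [← inv_inv z, ← hz]; group⟩
        · rintro ⟨g, hg, rfl⟩
          exact ⟨g⁻¹, inv_mem hg, by group⟩ }
  have key : ∀ s : Set T, TopologicalSpace.GenerateOpen
      {S : Set T | ∃ (Γ : @OpenSubgroup T _ τ0) (x y : T), S = (fun g : T => x * g * y) '' (Γ : Set T)} s →
      (1 : T) ∈ s → ∃ V : Subgroup T, @IsOpen T τ (V : Set T) ∧ (V : Set T) ⊆ s := by
    intro s hs
    induction hs with
    | basic s hs =>
      obtain ⟨Γ, x, y, rfl⟩ := hs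
      rintro ⟨g, hg, h1⟩
      let V : Subgroup T :=
        { carrier := (fun g : T => x * g * x⁻¹) '' (Γ : Set T)
          one_mem' := ⟨1, one_mem Γ, by group⟩
          mul_mem' := by
            rintro _ _ ⟨a, ha, rfl⟩ ⟨b, hb, rfl⟩
            exact ⟨a * b, mul_mem ha hb, by group⟩
          inv_mem' := by
            rintro _ ⟨a, ha, rfl⟩
            exact ⟨a⁻¹, inv_mem ha, by group⟩ }
      refine ⟨V, hopen Γ x x⁻¹, ?_⟩
      rintro _ ⟨a, ha, rfl⟩
      refine ⟨a * g, mul_mem ha hg, ?_⟩
      simp only at h1 ⊢
      rw [show x * (a * g) * y = x * a * x⁻¹ * (x * g * y) by group, h1, mul_one]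
    | univ => exact fun _ => ⟨⊤, by simp, by simp⟩
    | inter s t _ _ ihs iht =>
      intro h
      obtain ⟨V, hV, hVs⟩ := ihs h.1
      obtain ⟨W, hW, hWt⟩ := iht h.2
      exact ⟨V ⊓ W, hV.inter hW, fun z hz => ⟨hVs hz.1, hWt hz.2⟩⟩
    | sUnion S _ ih =>
      rintro ⟨s, hs, h1⟩
      obtain ⟨V, hV, hVs⟩ := ih s hs h1
      exact ⟨V, hV, fun z hz => ⟨s, hs, hVs hz⟩⟩
  refine { is_nonarchimedean := fun U hU => ?_ }
  obtain ⟨s, hsU, hs, h1⟩ := mem_nhds_iff.mp hU
  obtain ⟨V, hV, hVs⟩ := key s hs h1
  exact ⟨⟨V, hV⟩, hVs.trans hsU⟩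

end Groth.Agent.S15832
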