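import Groth.Statements.S15833
import Mathlib.AlgebraicGeometry.ValuativeCriterion
import Mathlib.AlgebraicGeometry.Morphisms.ClosedImmersion

set_option autoImplicit false
universe u
open EtBase

namespace Groth.Agent.S15833

open CategoryTheory CategoryTheory.Limits AlgebraicGeometry in
/-- Let i : X₀ ⟶ X be a surjective closed immersion of schemes and f : Y ⟶ X a morphism. Then f
satisfies the valuative criterion (existence and uniqueness of a lift in every valuative square,
over arbitrary valuation rings) if and only if its base change Y ×_X X₀ ⟶ X₀ does. (The published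
statement takes X locally Noetherian and connected, X₀ the reduced closed subscheme with the same
underlying space and f étale, and combines this step with the equivalence between étale schemes over
X and over X₀ to identify the geometric coverings, i.e. the étale morphisms satisfying the valuative
criterion, of X and of X₀; the argument for this step uses only that X₀ ⟶ X is a surjective closed
immersion and that valuation rings are reduced.) -/
theorem result {X X₀ Y : Scheme.{u}} (i : X₀ ⟶ X)
    [IsClosedImmersion i] [Surjective i] (f : Y ⟶ X) :
    ValuativeCriterion f ↔ ValuativeCriterion (pullback.snd f i) := by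
  have fac : ∀ {T : Scheme.{u}} [IsReduced T] (g : T ⟶ X), ∃ g₀ : T ⟶ X₀, g₀ ≫ i = g := by
    intro T _ g
    haveI : Surjective (pullback.fst g i) := MorphismProperty.pullback_fst g i inferInstance
    haveI : IsClosedImmersion (pullback.fst g i) := MorphismProperty.pullback_fst g i inferInstance
    haveI := isIso_of_isClosedImmersion_of_surjective (pullback.fst g i)
    exact ⟨inv (pullback.fst g i) ≫ pullback.snd g i, by
      rw [Category.assoc, ← pullback.condition, IsIso.inv_hom_id_assoc]⟩
  constructor
  · intro H S
    obtain ⟨huniq⟩ := H ⟨S.R, S.K, S.i₁ ≫ pullback.fst f i, S.i₂ ≫ i, ⟨by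
      rw [Category.assoc, pullback.condition, ← Category.assoc, S.commSq.w, Category.assoc]⟩⟩
    refine ⟨{ default := ?_, uniq := ?_ }⟩
    · refine ⟨pullback.lift huniq.default.l S.i₂ huniq.default.fac_right, pullback.hom_ext ?_ ?_,
        pullback.lift_snd _ _ _⟩
      · rw [Category.assoc, pullback.lift_fst]
        exact huniq.default.fac_left
      · rw [Category.assoc, pullback.lift_snd]
        exact S.commSq.w.symm
    · rintro ⟨l, h1, h2⟩
      ext1
      refine pullback.hom_ext ?_ ?_
      · refine Eq.trans ?_ (pullback.lift_fst _ _ huniq.default.fac_right).symm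
        exact congrArg CommSq.LiftStruct.l (huniq.uniq ⟨l ≫ pullback.fst f i,
          (Category.assoc _ _ _).symm.trans (congrArg (· ≫ pullback.fst f i) h1),
          (Category.assoc _ _ _).trans ((congrArg (l ≫ ·) pullback.condition).trans
            ((Category.assoc _ _ _).symm.trans (congrArg (· ≫ i) h2)))⟩)
      · exact h2.trans (pullback.lift_snd _ _ huniq.default.fac_right).symm
  · intro H S
    obtain ⟨j₂, hj₂⟩ := fac S.i₂
    obtain ⟨huniq⟩ := H ⟨S.R, S.K, pullback.lift S.i₁
        (Spec.map (CommRingCat.ofHom (algebraMap S.R S.K)) ≫ j₂) (by
          rw [Category.assoc, hj₂]; exact S.commSq.w), j₂, ⟨pullback.lift_snd _ _ _⟩⟩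
    refine ⟨{ default := ?_, uniq := ?_ }⟩
    · refine ⟨huniq.default.l ≫ pullback.fst f i, ?_, ?_⟩
      · rw [← Category.assoc, huniq.default.fac_left, pullback.lift_fst]
      · have e : huniq.default.l ≫ pullback.snd f i = j₂ := huniq.default.fac_right
        rw [Category.assoc, pullback.condition, ← Category.assoc, e, hj₂]
    · rintro ⟨l, h1, h2⟩
      ext1
      have := congrArg CommSq.LiftStruct.l (huniq.uniq ⟨pullback.lift l j₂ (h2.trans hj₂.symm),
        pullback.hom_ext
          ((Category.assoc _ _ _).trans ((congrArg (_ ≫ ·) (pullback.lift_fst _ _ _)).trans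
            (h1.trans (pullback.lift_fst _ _ _).symm)))
          ((Category.assoc _ _ _).trans ((congrArg (_ ≫ ·) (pullback.lift_snd _ _ _)).trans
            (pullback.lift_snd _ _ _).symm)),
        pullback.lift_snd _ _ _⟩)
      exact ((pullback.lift_fst _ _ _).symm.trans (congrArg (· ≫ pullback.fst f i) this) :)

end Groth.Agent.S15833
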