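import Groth.Statements.S15835
import Mathlib.Algebra.CharP.Lemmas
import Mathlib.Algebra.Polynomial.Expand
import Mathlib.Algebra.CharP.Invertible
import Mathlib.LinearAlgebra.Matrix.Charpoly.Basic
import Mathlib.NumberTheory.Padics.PadicVal.Basic
import Mathlib.Tactic

set_option autoImplicit false
universe u
open SprIso

namespace Groth.Agent.S15835

/-- Over a commutative ring R of prime characteristic p, let n ≥ 1 and let p^m be the largest power of p
dividing n. The locus of n × n matrices with characteristic polynomial t^n is stable under adding a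
scalar matrix a·1 with n·a = 0 exactly when a^(p^m) = 0: for X with characteristic polynomial t^n
and such an a, the matrix X + a·1 has characteristic polynomial t^n if and only if a^(p^m) = 0.
(Stated on points with values in an arbitrary ring of characteristic p; the scheme-theoretic
assertion about the nilpotent scheme of SL_n is this statement for all such rings.) -/
theorem result (p : ℕ) [Fact p.Prime] (R : Type u) [CommRing R]
    [CharP R p] (n : ℕ) (hn : 0 < n) (X : Matrix (Fin n) (Fin n) R) (hX : X.charpoly = Polynomial.X ^ n)
    (a : R) (ha : (n : R) * a = 0) :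
    (X + Matrix.scalar (Fin n) a).charpoly = Polynomial.X ^ n ↔ a ^ (p ^ padicValNat p n) = 0 := by
  have hcp : (X + Matrix.scalar (Fin n) a).charpoly = (Polynomial.X - Polynomial.C a) ^ n := by
    have := Matrix.charpoly_sub_scalar X (-a)
    simp only [map_neg, sub_neg_eq_add] at this
    rw [this, hX]; simp [sub_eq_add_neg]
  rw [hcp]
  set q := p ^ padicValNat p n
  obtain ⟨m, hm⟩ : q ∣ n := pow_padicValNat_dvd
  have hq : 0 < q := pow_pos (Fact.out : p.Prime).pos _
  have hm0 : m ≠ 0 := by rintro rfl; simp at hm; omega
  have hpm : ¬ p ∣ m := by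
    intro h
    apply pow_succ_padicValNat_not_dvd (p := p) (by omega : n ≠ 0)
    rw [pow_succ]; exact (Nat.mul_dvd_mul_left q h).trans (dvd_of_eq hm.symm)
  have e : (Polynomial.X - Polynomial.C a) ^ n =
      Polynomial.expand R q ((Polynomial.X - Polynomial.C (a ^ q)) ^ m) := by
    rw [hm, pow_mul, sub_pow_char_pow, ← Polynomial.C_pow]; simp [q]
  have e' : (Polynomial.X : Polynomial R) ^ n = Polynomial.expand R q (Polynomial.X ^ m) := by
    simp [hm, pow_mul]
  rw [e, e', (Polynomial.expand_injective hq).eq_iff]
  constructor
  · intro h
    have := congrArg (fun P => Polynomial.coeff P (m - 1)) h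
    simp only [sub_eq_add_neg, ← map_neg, Polynomial.coeff_X_add_C_pow, Polynomial.coeff_X_pow] at this
    rw [if_neg (by omega), Nat.sub_sub_self (by omega : 1 ≤ m), pow_one,
      Nat.choose_symm (by omega : 1 ≤ m), Nat.choose_one_right] at this
    have hu : IsUnit (m : R) := by
      rw [CharP.isUnit_natCast_iff (p := p) Fact.out]; exact hpm
    rw [hu.mul_left_eq_zero] at this
    exact neg_eq_zero.mp this
  · intro h; simp [h]

end Groth.Agent.S15835
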