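import Groth.Statements.S15836
import Mathlib.RingTheory.Valuation.LocalSubring
import Mathlib.RingTheory.PicardGroup
import Mathlib.RingTheory.MvPolynomial.Homogeneous
import Mathlib.RingTheory.Polynomial.Basic

set_option autoImplicit false
universe u
open SprIso

namespace Groth.Agent.S15836

theorem coeff_mul_coeff_le {K : Type u} [Field K] (V : ValuationSubring K) (f g : Polynomial K)
    (h : ∀ k, (f * g).coeff k ∈ V) (i j : ℕ) : f.coeff i * g.coeff j ∈ V := by
  classical
  simp only [← V.valuation_le_one_iff] at h ⊢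
  by_cases hi : f.coeff i = 0
  · simp [hi]
  by_cases hj : g.coeff j = 0
  · simp [hj]
  have hex : ∀ p : Polynomial K, ∀ n, p.coeff n ≠ 0 → ∃ m, p.coeff m ≠ 0 ∧
      (∀ l, V.valuation (p.coeff l) ≤ V.valuation (p.coeff m)) ∧
      ∀ l, l < m → V.valuation (p.coeff l) < V.valuation (p.coeff m) := by
    intro p n hn
    obtain ⟨m₀, hm₀, hmax⟩ := p.support.exists_max_image (fun l => V.valuation (p.coeff l))
      ⟨n, Polynomial.mem_support_iff.2 hn⟩
    have hall : ∀ l, V.valuation (p.coeff l) ≤ V.valuation (p.coeff m₀) := fun l => by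
      by_cases hl : p.coeff l = 0
      · simp [hl]
      · exact hmax l (Polynomial.mem_support_iff.2 hl)
    have hne : ∃ m, V.valuation (p.coeff m) = V.valuation (p.coeff m₀) := ⟨m₀, rfl⟩
    refine ⟨Nat.find hne, fun h0 => ?_, fun l => (Nat.find_spec hne).symm ▸ hall l, fun l hl => ?_⟩
    · have := Nat.find_spec hne
      rw [h0, map_zero, eq_comm, Valuation.zero_iff] at this
      exact Polynomial.mem_support_iff.1 hm₀ this
    · rw [Nat.find_spec hne]
      exact lt_of_le_of_ne (hall l) (Nat.find_min hne hl)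
  obtain ⟨m, hm0, hmle, hmlt⟩ := hex f i hi
  obtain ⟨m', hm0', hmle', hmlt'⟩ := hex g j hj
  refine le_trans ?_ (h (m + m'))
  rw [map_mul, Polynomial.coeff_mul, Valuation.map_sum_eq_of_lt V.valuation
    (j := (m, m')) (Finset.HasAntidiagonal.mem_antidiagonal.2 rfl) ?_, map_mul]
  · exact mul_le_mul' (hmle i) (hmle' j)
  · rintro ⟨a, b⟩ hab
    simp only [Finset.mem_sdiff, Finset.HasAntidiagonal.mem_antidiagonal, Finset.mem_singleton] at hab
    rw [map_mul, map_mul]
    by_cases ha : a < m
    · exact mul_lt_mul_of_lt_of_le_of_nonneg_of_pos (hmlt a ha) (hmle' b) zero_le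
        (by simpa [zero_lt_iff] using hm0')
    · have hb : b < m' := by
        by_contra hb
        exact hab.2 (Prod.ext (by omega) (by omega))
      refine lt_of_le_of_lt (mul_le_mul_left (hmle a) _) (mul_lt_mul_of_pos_left (hmlt' b hb) ?_)
      exact (zero_lt_iff).2 fun h0 => hm0 ((Valuation.zero_iff _).1 h0)


/-- Kronecker's theorem for an integrally closed domain. -/
theorem coeff_mul_coeff_mem {A : Type u} [CommRing A] [IsDomain A] [IsIntegrallyClosed A]
    (K : Type u) [Field K] [Algebra A K] [IsFractionRing A K] (f g : Polynomial K)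
    (h : ∀ k, (f * g).coeff k ∈ (algebraMap A K).range) (i j : ℕ) :
    f.coeff i * g.coeff j ∈ (algebraMap A K).range := by
  have hR : IsIntegrallyClosedIn (algebraMap A K).range K := by
    refine Subring.isIntegrallyClosedIn_iff.2 ?_
    intro x hx
    letI : Algebra A (algebraMap A K).range := (algebraMap A K).rangeRestrict.toAlgebra
    haveI : IsScalarTower A (algebraMap A K).range K := IsScalarTower.of_algebraMap_eq fun _ => rfl
    haveI : Algebra.IsIntegral A (algebraMap A K).range := ⟨fun y => by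
      obtain ⟨a, ha⟩ := y.2
      rw [show y = algebraMap A (algebraMap A K).range a from Subtype.ext ha.symm]
      exact isIntegral_algebraMap⟩
    obtain ⟨a, ha⟩ := IsIntegrallyClosed.isIntegral_iff.1 (isIntegral_trans (R := A) x hx)
    exact ⟨a, ha⟩
  rw [Subring.eq_iInf_of_isIntegrallyClosedIn (R := (algebraMap A K).range), Subring.mem_iInf]
  intro V
  exact coeff_mul_coeff_le V.1 f g (fun k => V.2 (h k)) i j

theorem aeval_C_mul_X {k Q : Type u} [CommRing k] [CommRing Q] [Algebra k Q] {n : ℕ} (x : Fin n → Q)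
    (f : MvPolynomial (Fin n) k) (d : ℕ) (hf : f.IsHomogeneous d) :
    MvPolynomial.aeval (fun i => Polynomial.C (x i) * Polynomial.X) f =
      Polynomial.C (MvPolynomial.aeval x f) * Polynomial.X ^ d := by
  conv_lhs => rw [f.as_sum]
  conv_rhs => rw [f.as_sum]
  simp only [map_sum, Finset.sum_mul]
  refine Finset.sum_congr rfl fun e he => ?_
  have hk : ∑ i, e i = d := by
    rw [← Finsupp.degree_eq_sum, Finsupp.degree_eq_weight_one]
    exact hf (MvPolynomial.mem_support_iff.mp he)
  rw [MvPolynomial.aeval_monomial, MvPolynomial.aeval_monomial, Finsupp.prod_fintype _ _ (fun _ => by simp),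
    Finsupp.prod_fintype _ _ (fun _ => by simp)]
  simp only [mul_pow, Finset.prod_mul_distrib, Finset.prod_pow_eq_pow_sum, hk, map_mul, map_prod, map_pow]
  rw [IsScalarTower.algebraMap_apply k Q (Polynomial Q), Polynomial.algebraMap_eq, mul_assoc]

/-- An invertible module over a normal domain contracted to a field by a polynomial homotopy is
free. -/
theorem free_of_homotopy {k A M : Type u} [Field k] [CommRing A] [IsDomain A] [IsIntegrallyClosed A]
    [AddCommGroup M] [Module A M] [Module.Invertible A M] (σ : k →+* A) (ε : A →+* k)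
    (φ : A →+* Polynomial A) (hev1 : ∀ a, (φ a).eval 1 = a) (hev0 : ∀ a, (φ a).eval 0 = σ (ε a)) :
    Module.Free A M := by
  classical
  obtain ⟨T, hT⟩ : ∃ T : Finset (Module.Dual A M × M), ∑ q ∈ T, q.1 q.2 = 1 := by
    obtain ⟨T, hT⟩ := TensorProduct.exists_finset ((Module.Invertible.linearEquiv A M).symm 1)
    refine ⟨T, ?_⟩
    have h1 := congrArg (Module.Invertible.linearEquiv A M) hT
    rw [LinearEquiv.apply_symm_apply, map_sum] at h1
    rw [h1]
    exact Finset.sum_congr rfl fun q _ => rfl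
  obtain ⟨⟨ψ, x₀⟩, hq₀, hε⟩ : ∃ q ∈ T, ε (q.1 q.2) ≠ 0 := by
    by_contra hcon
    push Not at hcon
    apply one_ne_zero (α := k)
    rw [← map_one ε, ← hT, map_sum]
    exact Finset.sum_eq_zero hcon
  have hswap : ∀ (θ : Module.Dual A M) (a b : M), θ a • b = θ b • a := fun θ a b => by
    have := congrArg ((TensorProduct.lid A M).toLinearMap ∘ₗ θ.rTensor M) (Module.Invertible.tmul_comm (R := A) (m₁ := a) (m₂ := b))
    simpa using this
  have hswap2 : ∀ (θ θ' : Module.Dual A M) (a b : M), θ a * θ' b = θ b * θ' a := fun θ θ' a b => by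
    simpa using congrArg θ' (hswap θ a b)
  have hψinj : Function.Injective ψ := by
    rw [injective_iff_map_eq_zero]
    intro y hy
    have h1 : ψ x₀ • y = 0 := by rw [hswap, hy, zero_smul]
    have h2 : ∀ θ : Module.Dual A M, θ y = 0 := fun θ => by
      have h3 := hswap2 ψ θ y x₀
      rw [hy, zero_mul] at h3
      exact (mul_eq_zero.1 h3.symm).resolve_left fun h0 => hε (by simp [h0])
    rw [← one_smul A y, ← hT, Finset.sum_smul]
    exact Finset.sum_eq_zero fun q _ => by rw [hswap, h2, zero_smul]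
  set K := FractionRing A
  set ι := algebraMap A K
  have hι : Function.Injective ι := IsFractionRing.injective _ _
  let Φ : A →+* Polynomial K := (Polynomial.mapRingHom ι).comp φ
  have hΦ1 : ∀ a, (Φ a).eval 1 = ι a := fun a => by simp [Φ, Polynomial.eval_map, Polynomial.eval₂_at_one, hev1]
  have hΦ0 : ∀ a, (Φ a).eval 0 = ι (σ (ε a)) := fun a => by
    simp [Φ, Polynomial.eval_map, Polynomial.eval₂_at_zero, ← hev0, Polynomial.coeff_zero_eq_eval_zero]
  let F : (Module.Dual A M × M) → Polynomial K := fun q => Φ (ψ q.2)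
  obtain ⟨h, hh⟩ := IsPrincipalIdealRing.principal (Ideal.span (F '' T) : Ideal (Polynomial K))
  change Ideal.span (F '' T) = Ideal.span {h} at hh
  obtain ⟨c, hc⟩ : ∃ c : (Module.Dual A M × M) → Polynomial K, ∑ q ∈ T, c q * F q = h := by
    have hm : h ∈ Submodule.span (Polynomial K) (F '' (↑T : Set _)) := by
      show h ∈ Ideal.span (F '' (↑T : Set _))
      rw [hh]
      exact Ideal.mem_span_singleton_self h
    obtain ⟨l, hl, hl'⟩ := (Finsupp.mem_span_image_iff_linearCombination (Polynomial K)).1 hm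
    refine ⟨l, ?_⟩
    rw [← hl', Finsupp.linearCombination_apply, Finsupp.sum_of_support_subset l hl _ (by simp)]
    simp [smul_eq_mul]
  have hfy : ∀ y, Φ (ψ y) ∈ Ideal.span (F '' (↑T : Set _)) := by
    intro y
    have h1 : ψ y = ∑ q ∈ T, q.1 y * ψ q.2 := by
      rw [← mul_one (ψ y), ← hT, Finset.mul_sum]
      exact Finset.sum_congr rfl fun q _ => by rw [hswap2, mul_comm]
    rw [h1, map_sum]
    refine Ideal.sum_mem _ fun q hq => ?_
    rw [map_mul]
    exact Ideal.mul_mem_left _ _ (Ideal.subset_span ⟨q, hq, rfl⟩)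
  choose f' hf' using fun y => Ideal.mem_span_singleton'.1 (hh ▸ hfy y)
  have hh0 : h ≠ 0 := by
    intro h0
    have := congrArg (Polynomial.eval 1) (hf' x₀)
    rw [h0, mul_zero, Polynomial.eval_zero, hΦ1, eq_comm, map_eq_zero_iff ι hι] at this
    exact hε (by simp [this])
  let g' : (Module.Dual A M × M) → Polynomial K := fun q => ∑ p ∈ T, c p * Φ (q.1 p.2)
  have hfg : ∀ y q, f' y * g' q = Φ (q.1 y) := by
    intro y q
    refine mul_left_cancel₀ hh0 ?_
    have h1 : h * f' y = Φ (ψ y) := by rw [mul_comm, hf' y]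
    rw [← mul_assoc, h1, Finset.mul_sum, ← hc, Finset.sum_mul]
    refine Finset.sum_congr rfl fun p _ => ?_
    show Φ (ψ y) * (c p * Φ (q.1 p.2)) = c p * Φ (ψ p.2) * Φ (q.1 y)
    rw [mul_assoc, ← map_mul, ← hswap2, map_mul]
    ring
  have hsum : ∑ q ∈ T, f' q.2 * g' q = 1 := by
    simp only [hfg, ← map_sum, hT, map_one]
  have hmem : ∀ y i, ∃ B : (Module.Dual A M × M) → Polynomial A,
      Polynomial.C ((f' y).coeff i) * h = ∑ q ∈ T, (B q).map ι * Φ (ψ q.2) := by
    intro y i
    have hB : ∀ q, ∃ B : Polynomial A, B.map ι = Polynomial.C ((f' y).coeff i) * g' q := fun q => by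
      refine (Polynomial.mem_lifts _).1 ((Polynomial.lifts_iff_coeff_lifts _).2 fun j => ?_)
      rw [Polynomial.coeff_C_mul]
      obtain ⟨a, ha⟩ := coeff_mul_coeff_mem (A := A) K (f' y) (g' q) (fun l => by
        rw [hfg]; exact ⟨(φ (q.1 y)).coeff l, by simp [Φ, Polynomial.coeff_map, ι]⟩) i j
      exact ⟨a, ha⟩
    choose B hB using hB
    refine ⟨B, ?_⟩
    calc Polynomial.C ((f' y).coeff i) * h
        = Polynomial.C ((f' y).coeff i) * (∑ q ∈ T, f' q.2 * g' q) * h := by rw [hsum, mul_one]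
      _ = _ := by
        rw [Finset.mul_sum, Finset.sum_mul]
        refine Finset.sum_congr rfl fun q _ => ?_
        rw [hB, ← hf' q.2]
        ring
  have hev : ∀ y i, ∃ (a : A) (z : M), (f' y).coeff i * h.eval 0 = ι a ∧
      (f' y).coeff i * h.eval 1 = ι (ψ z) := by
    intro y i
    obtain ⟨B, hB⟩ := hmem y i
    refine ⟨∑ q ∈ T, (B q).eval 0 * σ (ε (ψ q.2)), ∑ q ∈ T, (B q).eval 1 • q.2, ?_, ?_⟩
    · have := congrArg (Polynomial.eval 0) hB
      simpa [Polynomial.eval_finsetSum, hΦ0, Polynomial.eval₂_at_zero, Polynomial.eval_map,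
        Polynomial.coeff_zero_eq_eval_zero] using this
    · have := congrArg (Polynomial.eval 1) hB
      simpa [Polynomial.eval_finsetSum, hΦ1, Polynomial.eval₂_at_one, Polynomial.eval_map] using this
  obtain ⟨a₀, z₀, ha₀, hz₀⟩ := hev x₀ 0
  have ha₀' : a₀ = σ (ε (ψ x₀)) := hι (by
    rw [← ha₀, ← hΦ0, ← hf' x₀, Polynomial.eval_mul, Polynomial.coeff_zero_eq_eval_zero])
  have ha₀u : IsUnit a₀ := ha₀' ▸ (isUnit_iff_ne_zero.2 hε).map σ
  have hι0 : ι a₀ ≠ 0 := (map_ne_zero_iff ι hι).2 ha₀u.ne_zero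
  have hh0' : h.eval 0 ≠ 0 := fun h0 => hι0 (by rw [← ha₀, h0, mul_zero])
  have hh1 : h.eval 1 ≠ 0 := fun h0 => by
    have := congrArg (Polynomial.eval 1) (hf' x₀)
    rw [Polynomial.eval_mul, h0, mul_zero, hΦ1, eq_comm, map_eq_zero_iff ι hι] at this
    exact hε (by simp [this])
  have hz₀ne : ψ z₀ ≠ 0 := fun h0 => by
    rw [h0, map_zero, mul_eq_zero] at hz₀
    exact hι0 (by rw [← ha₀, hz₀.resolve_right hh1, zero_mul])
  refine Module.Free.of_equiv (LinearEquiv.ofBijective (LinearMap.toSpanSingleton A M z₀) ⟨?_, ?_⟩)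
  · intro a b hab
    exact mul_right_cancel₀ hz₀ne (by simpa using congrArg ψ hab)
  · intro y
    have key : ∀ i, ∃ a : A, (f' y).coeff i * h.eval 1 = ι (a * ψ z₀) := by
      intro i
      obtain ⟨a, z, ha, -⟩ := hev y i
      refine ⟨a * ha₀u.unit⁻¹.1, ?_⟩
      rw [map_mul, map_mul, ← hz₀, ← ha]
      have h2 : ι (ha₀u.unit⁻¹ : Aˣ) * ((f' x₀).coeff 0 * h.eval 0) = 1 := by
        rw [ha₀, ← map_mul, IsUnit.val_inv_mul, map_one]
      linear_combination -((f' y).coeff i * h.eval 1) * h2
    choose a ha using key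
    refine ⟨∑ i ∈ Finset.range ((f' y).natDegree + 1), a i, hψinj (hι ?_)⟩
    rw [LinearMap.toSpanSingleton_apply, map_smul, smul_eq_mul, Finset.sum_mul, map_sum, ← hΦ1 (ψ y),
      ← hf' y, Polynomial.eval_mul, Polynomial.eval_eq_sum_range, Finset.sum_mul]
    simp [ha]

/-- Let k be a field and C a closed subscheme of affine n-space over k which is stable under the scaling
action of the affine line, i.e. C = Spec A with A = k[x_1, …, x_n]/I for an ideal I generated by
homogeneous polynomials, and assume C is normal (A is an integrally closed domain). Then Pic(C) = 0: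
every invertible A-module is free. -/
theorem result (k : Type u) [Field k] (n : ℕ)
    (I : Ideal (MvPolynomial (Fin n) k))
    (hI : ∃ s : Set (MvPolynomial (Fin n) k), (∀ f ∈ s, ∃ d : ℕ, f.IsHomogeneous d) ∧ I = Ideal.span s)
    [IsDomain (MvPolynomial (Fin n) k ⧸ I)] [IsIntegrallyClosed (MvPolynomial (Fin n) k ⧸ I)]
    (M : Type u) [AddCommGroup M] [Module (MvPolynomial (Fin n) k ⧸ I) M]
    [Module.Invertible (MvPolynomial (Fin n) k ⧸ I) M] :
    Module.Free (MvPolynomial (Fin n) k ⧸ I) M := by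
  classical
  obtain ⟨s, hs, rfl⟩ := hI
  have hI0 : ∀ f ∈ s, MvPolynomial.constantCoeff f = 0 := by
    intro f hf
    obtain ⟨d, hd⟩ := hs f hf
    by_contra hne
    have hd0 : d = 0 := by
      have := hd (d := (0 : Fin n →₀ ℕ)) (by rwa [← MvPolynomial.constantCoeff_eq])
      simpa using this.symm
    subst hd0
    have hC : MvPolynomial.C (MvPolynomial.constantCoeff f) = f := by
      rw [MvPolynomial.constantCoeff_eq]
      exact (MvPolynomial.totalDegree_eq_zero_iff_eq_C.1 (Nat.le_zero.1 hd.totalDegree_le)).symm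
    have htop : Ideal.span s = ⊤ := Ideal.eq_top_of_isUnit_mem _ (Ideal.subset_span hf)
      (hC ▸ (isUnit_iff_ne_zero.2 hne).map MvPolynomial.C)
    exact one_ne_zero (α := MvPolynomial (Fin n) k ⧸ Ideal.span s) (Ideal.Quotient.eq_zero_iff_mem.2 (htop ▸ Submodule.mem_top))
  let ε : MvPolynomial (Fin n) k ⧸ Ideal.span s →+* k := Ideal.Quotient.lift _ MvPolynomial.constantCoeff fun f hf => by
    refine (Ideal.span_le.2 ?_ hf : f ∈ RingHom.ker MvPolynomial.constantCoeff)
    exact hI0
  let φ₀ : MvPolynomial (Fin n) k →ₐ[k] Polynomial (MvPolynomial (Fin n) k ⧸ Ideal.span s) :=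
    MvPolynomial.aeval fun i => Polynomial.C (Ideal.Quotient.mk (Ideal.span s) (MvPolynomial.X i)) * Polynomial.X
  have hφhom : ∀ (f : MvPolynomial (Fin n) k) (d : ℕ), f.IsHomogeneous d →
      φ₀ f = Polynomial.C (Ideal.Quotient.mk _ f) * Polynomial.X ^ d := by
    intro f d hf
    refine (aeval_C_mul_X _ f d hf).trans ?_
    congr 2
    exact (DFunLike.congr_fun (MvPolynomial.aeval_unique (Ideal.Quotient.mkₐ k (Ideal.span s))) f).symm
  let φ : MvPolynomial (Fin n) k ⧸ Ideal.span s →+* Polynomial (MvPolynomial (Fin n) k ⧸ Ideal.span s) := Ideal.Quotient.lift _ φ₀.toRingHom fun f hf => by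
    refine (Ideal.span_le.2 ?_ hf : f ∈ RingHom.ker φ₀.toRingHom)
    intro g hg
    obtain ⟨d, hd⟩ := hs g hg
    show φ₀ g = 0
    rw [hφhom g d hd, Ideal.Quotient.eq_zero_iff_mem.2 (Ideal.subset_span hg)]
    simp
  have hev1 : ∀ a, (φ a).eval 1 = a := by
    intro a
    obtain ⟨f, rfl⟩ := Ideal.Quotient.mk_surjective a
    show (φ₀ f).eval 1 = _
    induction f using MvPolynomial.induction_on with
    | C c =>
      rw [show φ₀ (MvPolynomial.C c) = algebraMap k (Polynomial (MvPolynomial (Fin n) k ⧸ Ideal.span s)) c from φ₀.commutes c,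
        IsScalarTower.algebraMap_apply k (MvPolynomial (Fin n) k ⧸ Ideal.span s) (Polynomial (MvPolynomial (Fin n) k ⧸ Ideal.span s)), Polynomial.algebraMap_eq, Polynomial.eval_C]
      rfl
    | add p q hp hq => rw [map_add, Polynomial.eval_add, hp, hq, map_add]
    | mul_X p i hp => rw [map_mul, Polynomial.eval_mul, hp, map_mul]; simp [φ₀]
  have hev0 : ∀ a, (φ a).eval 0 = algebraMap k (MvPolynomial (Fin n) k ⧸ Ideal.span s) (ε a) := by
    intro a
    obtain ⟨f, rfl⟩ := Ideal.Quotient.mk_surjective a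
    show (φ₀ f).eval 0 = algebraMap k (MvPolynomial (Fin n) k ⧸ Ideal.span s) (MvPolynomial.constantCoeff f)
    induction f using MvPolynomial.induction_on with
    | C c =>
      rw [show φ₀ (MvPolynomial.C c) = algebraMap k (Polynomial (MvPolynomial (Fin n) k ⧸ Ideal.span s)) c from φ₀.commutes c,
        IsScalarTower.algebraMap_apply k (MvPolynomial (Fin n) k ⧸ Ideal.span s) (Polynomial (MvPolynomial (Fin n) k ⧸ Ideal.span s)), Polynomial.algebraMap_eq, Polynomial.eval_C,
        MvPolynomial.constantCoeff_C]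
    | add p q hp hq => rw [map_add, Polynomial.eval_add, hp, hq, map_add, map_add]
    | mul_X p i hp => rw [map_mul, Polynomial.eval_mul, map_mul]; simp [φ₀]
  exact free_of_homotopy (algebraMap k (MvPolynomial (Fin n) k ⧸ Ideal.span s)) ε φ hev1 hev0

end Groth.Agent.S15836
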