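import Groth.Statements.S15837
import Groth.Agent.H02CA.TransporterFP
import Groth.Agent.H19Grp.FixedLocus
import Groth.Agent.H12AlgSp.LocPCancel

set_option autoImplicit false
universe u
open CategoryTheory MonoidalCategory CartesianMonoidalCategory MonObj GrpObj AlgebraicGeometry
open SprIso

set_option backward.isDefEq.respectTransparency false

namespace Groth.Agent.S15837

/-- Let S be a scheme, G an S-group scheme of finite presentation acting on an S-scheme X which is
affine and of finite presentation over S, and Y a closed subscheme of X which is finite, flat and of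
finite presentation over S. Then the functorial stabilizer of Y in G — whose points with values in
an S-scheme T are the points g of G such that g acts as the identity on every point of Y with values
in a scheme over T — is represented by a closed subscheme of G whose inclusion is of finite
presentation. -/
theorem result (S : Scheme.{u}) (G X Y : Over S) [GrpObj G]
    [LocallyOfFinitePresentation G.hom] [QuasiCompact G.hom] [QuasiSeparated G.hom]
    [IsAffineHom X.hom] [LocallyOfFinitePresentation X.hom] (a : AlgGrp.Action G X)
    (i : Y ⟶ X) [IsClosedImmersion i.left] [IsFinite Y.hom] [Flat Y.hom] [LocallyOfFinitePresentation Y.hom] :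
    ∃ (Z : Over S) (j : Z ⟶ G), IsClosedImmersion j.left ∧ LocallyOfFinitePresentation j.left ∧
      ∀ (T : Over S) (g : T ⟶ G), (∃ z : T ⟶ Z, z ≫ j = g) ↔
        ∀ (T' : Over S) (t : T' ⟶ T) (y : T' ⟶ Y), lift (t ≫ g) (y ≫ i) ≫ a.act = y ≫ i := by
  let c : G ⊗ Y ⟶ X ⊗ X := lift ((G ◁ i) ≫ a.act) (snd G Y ≫ i)
  let δ : X ⟶ X ⊗ X := lift (𝟙 X) (𝟙 X)
  haveI : IsSeparated X.hom := inferInstance
  have hd : δ.left = Limits.pullback.diagonal X.hom := by
    refine Limits.pullback.hom_ext ?_ ?_
    · refine Eq.trans ?_ (Limits.pullback.diagonal_fst _).symm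
      show δ.left ≫ (fst X X).left = _
      rw [← Over.comp_left, lift_fst]; rfl
    · refine Eq.trans ?_ (Limits.pullback.diagonal_snd _).symm
      show δ.left ≫ (snd X X).left = _
      rw [← Over.comp_left, lift_snd]; rfl
  haveI : IsClosedImmersion δ.left := by rw [hd]; infer_instance
  haveI : LocallyOfFinitePresentation δ.left := by
    rw [hd]
    haveI : LocallyOfFinitePresentation (Limits.pullback.diagonal X.hom ≫ Limits.pullback.fst X.hom X.hom) := by
      rw [Limits.pullback.diagonal_fst]; infer_instance
    exact H12AlgSp.lfp_of_comp _ (Limits.pullback.fst X.hom X.hom)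
  have hp := H19Grp.projective_sections_of_isFinite Y.hom
  obtain ⟨Z, j, hj, hj', h⟩ := H02CA.TransporterFP.exists_closed_fp_forall_factor_rel c δ
    (H19Grp.hasUnivLocally_fst_of_projective _ hp)
    (H02CA.TransporterFP.exists_hasUniv_fg_fst_of_projective _ hp inferInstance)
  refine ⟨Z, j, hj, hj', fun T g => ?_⟩
  rw [h T g]
  refine forall_congr' fun T' => forall_congr' fun t => forall_congr' fun y => ?_
  have hc : lift (t ≫ g) y ≫ c = lift (lift (t ≫ g) (y ≫ i) ≫ a.act) (y ≫ i) := by
    simp only [c, comp_lift, ← Category.assoc, lift_whiskerLeft, lift_snd]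
  constructor
  · rintro ⟨x', hx'⟩
    rw [hc, comp_lift, Category.comp_id] at hx'
    have h1 := congrArg (· ≫ fst X X) hx'
    have h2 := congrArg (· ≫ snd X X) hx'
    simp only [lift_fst] at h1
    simp only [lift_snd] at h2
    rw [← h1, h2]
  · intro he
    exact ⟨y ≫ i, by rw [hc, comp_lift, Category.comp_id, he]⟩

end Groth.Agent.S15837
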