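import Groth.Statements.S15838
import Mathlib.LinearAlgebra.JordanChevalley

set_option autoImplicit false
universe u
open scoped TensorProduct
open SprIso

namespace Groth.Agent.S15838

theorem mem_adjoin_of_jordan {k V : Type u} [Field k] [PerfectField k] [AddCommGroup V] [Module k V]
    [FiniteDimensional k V] {X Y N : Module.End k V} (hY : Y.IsSemisimple) (hN : IsNilpotent N)
    (hYN : Commute Y N) (h : X = Y + N) : Y ∈ Algebra.adjoin k {X} := by
  obtain ⟨N', hN'mem, Y', hY'mem, hN', hY', hX⟩ := X.exists_isNilpotent_isSemisimple
  have hcY : Commute Y X := h ▸ (Commute.refl Y).add_right hYN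
  have hcomm : ∀ z ∈ Algebra.adjoin k {X}, Commute Y z := fun z hz =>
    Algebra.commute_of_mem_adjoin_singleton_of_commute hz hcY
  have h1 : Y - Y' = N' - N := sub_eq_sub_iff_add_eq_add.2 (by rw [← h, hX])
  have hss : (Y - Y').IsSemisimple := hY.sub_of_commute (hcomm _ hY'mem) hY'
  have hcN : Commute N' N := by
    have hN'Y : Commute N' Y := (hcomm _ hN'mem).symm
    have hN'X : Commute N' X := (Algebra.commute_of_mem_adjoin_self hN'mem).symm
    rw [show N = X - Y by rw [h]; abel]
    exact hN'X.sub_right hN'Y
  have hnil : IsNilpotent (Y - Y') := h1 ▸ hcN.isNilpotent_sub hN' hN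
  rw [sub_eq_zero.1 (Module.End.eq_zero_of_isNilpotent_isSemisimple hnil hss)]
  exact hY'mem

theorem commute_baseChange_of_mem {k V : Type u} [Field k] [AddCommGroup V] [Module k V] (R : Type u)
    [CommRing R] [Algebra k R] (h : Module.End R (R ⊗[k] V)) {X z : Module.End k V}
    (hX : Commute h (X.baseChange R)) (hz : z ∈ Algebra.adjoin k {X}) : Commute h (z.baseChange R) := by
  induction hz using Algebra.adjoin_induction with
  | mem y hy => rw [Set.mem_singleton_iff.1 hy]; exact hX
  | algebraMap c =>
    rw [Algebra.algebraMap_eq_smul_one, LinearMap.baseChange_smul, LinearMap.baseChange_one]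
    exact (Commute.one_right h).smul_right c
  | add a b _ _ ha hb => rw [LinearMap.baseChange_add]; exact ha.add_right hb
  | mul a b _ _ ha hb => rw [LinearMap.baseChange_mul]; exact ha.mul_right hb

/-- General linear group case: this is the case G = GL(V), to which the general case reduces along a
closed embedding. Let k be a perfect field and V a finite-dimensional k-vector space. If an
invertible endomorphism g of V has multiplicative Jordan decomposition g = t u (t semisimple, u
unipotent, t and u commuting), then the scheme-theoretic centralizer of g in GL(V) is the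
centralizer of u inside the centralizer of t: for every commutative k-algebra R, an R-linear
endomorphism h of R ⊗ V commutes with g_R if and only if it commutes with both t_R and u_R.
Likewise, if an endomorphism X of V has additive Jordan decomposition X = Y + N (Y semisimple, N
nilpotent, commuting), then h commutes with X_R if and only if it commutes with both Y_R and N_R. -/
theorem result (k : Type u) [Field k] [PerfectField k]
    (V : Type u) [AddCommGroup V] [Module k V] [FiniteDimensional k V]
    (R : Type u) [CommRing R] [Algebra k R] (h : Module.End R (R ⊗[k] V)) :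
    (∀ (g t u : Module.End k V), IsUnit g → t.IsSemisimple → IsNilpotent (u - 1) → Commute t u → g = t * u →
      (Commute h (g.baseChange R) ↔ Commute h (t.baseChange R) ∧ Commute h (u.baseChange R))) ∧
    (∀ (X Y N : Module.End k V), Y.IsSemisimple → IsNilpotent N → Commute Y N → X = Y + N →
      (Commute h (X.baseChange R) ↔ Commute h (Y.baseChange R) ∧ Commute h (N.baseChange R))) := by
  refine ⟨fun g t u hg ht hu htu hgu => ?_, fun X Y N hY hN hYN hX => ?_⟩
  · subst hgu
    refine ⟨fun hh => ?_, fun hh => by rw [LinearMap.baseChange_mul]; exact hh.1.mul_right hh.2⟩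
    have htmem : t ∈ Algebra.adjoin k {t * u} := by
      refine mem_adjoin_of_jordan ht (N := t * (u - 1)) ?_ ?_ ?_
      · exact (htu.sub_right (Commute.one_right t)).isNilpotent_mul_left hu
      · exact (Commute.refl t).mul_right (htu.sub_right (Commute.one_right t))
      · rw [mul_sub, mul_one]; abel
    have htR := commute_baseChange_of_mem R h hh htmem
    refine ⟨htR, ?_⟩
    have htunit : IsUnit t := (htu.isUnit_mul_iff.1 hg).1
    have htRu : IsUnit (t.baseChange R) := htunit.map (Module.End.baseChangeHom k R V)
    refine htRu.mul_left_cancel ?_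
    rw [← mul_assoc, ← htR.eq, mul_assoc, ← mul_assoc (t.baseChange R), ← LinearMap.baseChange_mul]
    exact hh.eq
  · subst hX
    refine ⟨fun hh => ?_, fun hh => by rw [LinearMap.baseChange_add]; exact hh.1.add_right hh.2⟩
    have hYR := commute_baseChange_of_mem R h hh (mem_adjoin_of_jordan hY hN hYN rfl)
    refine ⟨hYR, ?_⟩
    have := Commute.sub_right (R := Module.End R (R ⊗[k] V)) hh hYR
    rwa [← LinearMap.baseChange_sub, add_sub_cancel_left] at this

end Groth.Agent.S15838
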