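import Groth.Statements.S15839
import Groth.Agent.H19Grp.Basic
import Groth.Agent.H12AlgSp.LocPCancel

set_option autoImplicit false
universe u
open CategoryTheory MonoidalCategory CartesianMonoidalCategory MonObj GrpObj AlgebraicGeometry
open SprIso

set_option backward.isDefEq.respectTransparency false

namespace Groth.Agent.S15839

/-- Let S be a scheme, G an S-group scheme which is affine and of finite presentation over S, and g a
section of G over S. Then the centralizer of g — the subfunctor of G whose points with values in an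
S-scheme T are the points x of G with x g_T = g_T x — is represented by a closed subscheme of G
whose inclusion is of finite presentation. -/
theorem result (S : Scheme.{u}) (G : Over S) [GrpObj G]
    [IsAffineHom G.hom] [LocallyOfFinitePresentation G.hom] (g : 𝟙_ (Over S) ⟶ G) :
    ∃ (Z : Over S) (j : Z ⟶ G), IsClosedImmersion j.left ∧ LocallyOfFinitePresentation j.left ∧
      ∀ (T : Over S) (x : T ⟶ G), (∃ z : T ⟶ Z, z ≫ j = x) ↔
        x * (toUnit T ≫ g) = (toUnit T ≫ g) * x := by
  let gc : G ⟶ G := toUnit G ≫ g
  let c : G ⟶ G := 𝟙 G * gc * (𝟙 G)⁻¹ * gc⁻¹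
  haveI : IsSeparated G.hom := inferInstance
  haveI : IsClosedImmersion (η[G]).left := H19Grp.isClosedImmersion_one_left G
  haveI : LocallyOfFinitePresentation ((η[G]).left ≫ G.hom) := by
    rw [Over.w η[G]]; exact inferInstanceAs (LocallyOfFinitePresentation (𝟙 S))
  haveI : LocallyOfFinitePresentation (η[G]).left := H12AlgSp.lfp_of_comp _ G.hom
  let Z : Over S := Over.mk (Limits.pullback.fst c.left (η[G]).left ≫ G.hom)
  let j : Z ⟶ G := Over.homMk (Limits.pullback.fst c.left (η[G]).left) rfl
  refine ⟨Z, j, inferInstanceAs (IsClosedImmersion (Limits.pullback.fst c.left (η[G]).left)),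
    inferInstanceAs (LocallyOfFinitePresentation (Limits.pullback.fst c.left (η[G]).left)),
    fun T x => ?_⟩
  have hc : x ≫ c = x * (toUnit T ≫ g) * x⁻¹ * (toUnit T ≫ g)⁻¹ := by
    simp only [c, gc, MonObj.comp_mul, GrpObj.comp_inv, Category.comp_id]
    rw [← Category.assoc, comp_toUnit]
  have key : x * (toUnit T ≫ g) = (toUnit T ≫ g) * x ↔ x ≫ c = 1 := by
    rw [hc, mul_inv_eq_one, mul_inv_eq_iff_eq_mul]
  rw [key, Hom.one_def]
  constructor
  · rintro ⟨z, rfl⟩
    ext : 1
    show (z.left ≫ Limits.pullback.fst c.left (η[G]).left) ≫ c.left = _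
    rw [Category.assoc, Limits.pullback.condition, ← Category.assoc]
    congr 1
    show z.left ≫ Limits.pullback.snd c.left (η[G]).left = (toUnit T).left
    have h := Over.w z
    rw [show Z.hom = Limits.pullback.fst c.left (η[G]).left ≫ G.hom from rfl, ← Over.w c,
      ← Category.assoc, ← Category.assoc, Category.assoc (z.left), Limits.pullback.condition,
      Category.assoc, Category.assoc, Over.w η[G]] at h
    have h2 : z.left ≫ Limits.pullback.snd c.left (η[G]).left = T.hom :=
      (congrArg (z.left ≫ ·) (Category.comp_id _)).symm.trans h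
    rw [h2]
    exact (Over.w (toUnit T)).symm.trans (Category.comp_id _)
  · intro hx
    refine ⟨Over.homMk (Limits.pullback.lift x.left (toUnit T).left ?_) ?_, ?_⟩
    · rw [← Over.comp_left, hx, Over.comp_left]
    · show Limits.pullback.lift _ _ _ ≫ Limits.pullback.fst _ _ ≫ G.hom = _
      rw [Limits.pullback.lift_fst_assoc, Over.w]
    · ext : 1
      exact Limits.pullback.lift_fst _ _ _

end Groth.Agent.S15839
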