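import Groth.Statements.S15840
import Mathlib.Algebra.CharP.Lemmas
import Mathlib.Algebra.Polynomial.Coeff
import Mathlib.NumberTheory.Padics.PadicVal.Basic
import Mathlib.Tactic

set_option autoImplicit false
universe u
open SprIso

namespace Groth.Agent.S15840

/-- For G = SL_n (n = r + 1) over a field of characteristic p > 0, write n = m p^e with m prime to p, so
that the identity component of the centre of G is μ_{p^e} embedded diagonally. The character of the
i-th exterior power of the standard representation takes the value C(n, i) α^i at a point α of
μ_{p^e}, and this is constant: for every commutative ring R of characteristic p and every α in R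
with α^(p^e) = 1 one has C(n, i) α^i = C(n, i) in R, for all i. -/
theorem result (p : ℕ) [Fact p.Prime] (R : Type u) [CommRing R]
    [CharP R p] (n : ℕ) (hn : 0 < n) (α : R) (hα : α ^ (p ^ padicValNat p n) = 1) (i : ℕ) :
    (n.choose i : R) * α ^ i = (n.choose i : R) := by
  rcases Nat.lt_or_ge n i with h | h
  · simp [Nat.choose_eq_zero_of_lt h]
  set q := p ^ padicValNat p n
  obtain ⟨m, hm⟩ : q ∣ n := pow_padicValNat_dvd
  have e : (Polynomial.X + Polynomial.C α) ^ n = (Polynomial.X + Polynomial.C (1 : R)) ^ n := by
    rw [hm, pow_mul, pow_mul, add_pow_char_pow, add_pow_char_pow, ← Polynomial.C_pow, ← Polynomial.C_pow, hα, one_pow]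
  have := congrArg (fun P => Polynomial.coeff P (n - i)) e
  simp only [Polynomial.coeff_X_add_C_pow, one_pow, one_mul, Nat.sub_sub_self h, Nat.choose_symm h] at this
  rw [mul_comm]; exact this

end Groth.Agent.S15840
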