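import Groth.Statements.S15841
import Mathlib.LinearAlgebra.RootSystem.Base
import Mathlib.RingTheory.TensorProduct.Maps

set_option autoImplicit false
universe u
open scoped TensorProduct
open SprIso

namespace Groth.Agent.S15841

open scoped TensorProduct

/-- `k ⊗ ℤ → k` after base change. -/
noncomputable def ev {N : Type u} [AddCommGroup N] (k : Type u) [Field k] (φ : N →ₗ[ℤ] ℤ) :
    k ⊗[ℤ] N →ₗ[k] k :=
  (TensorProduct.AlgebraTensorModule.rid ℤ k k).toLinearMap ∘ₗ φ.baseChange k

theorem baseChange_coreflection {ι M N : Type u} [AddCommGroup M] [AddCommGroup N]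
    (P : RootPairing ι ℤ M N) (k : Type u) [Field k] (i : ι) (H : k ⊗[ℤ] N) :
    ((P.coreflection i : N ≃ₗ[ℤ] N) : N →ₗ[ℤ] N).baseChange k H =
      H - ev k (P.root' i) H • ((1 : k) ⊗ₜ[ℤ] P.coroot i) := by
  induction H using TensorProduct.induction_on with
  | zero => simp
  | tmul a y =>
    simp only [LinearMap.baseChange_tmul, LinearEquiv.coe_coe, P.coreflection_apply, TensorProduct.tmul_sub,
      TensorProduct.tmul_smul, ev, LinearMap.comp_apply, TensorProduct.AlgebraTensorModule.rid_tmul]
    simp [TensorProduct.smul_tmul']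
  | add s t hs ht => rw [map_add, hs, ht, map_add, add_smul]; abel

theorem fixed_word {ι M N : Type u} [AddCommGroup M] [AddCommGroup N] (P : RootPairing ι ℤ M N)
    (k : Type u) [Field k] : ∀ (l : List ι), l.Nodup →
    (∀ i ∈ l, ∃ ω : M, P.coroot' i ω = 1 ∧ ∀ j ∈ l, j ≠ i → P.coroot' j ω = 0) → ∀ H : k ⊗[ℤ] N,
    (∀ φ : N →ₗ[ℤ] ℤ, (∀ j ∈ l, φ (P.coroot j) = 0) →
      ev k φ ((((l.map fun i => ((P.coreflection i : N ≃ₗ[ℤ] N) : N →ₗ[ℤ] N))).prod).baseChange k H) = ev k φ H) ∧
    ((((l.map fun i => ((P.coreflection i : N ≃ₗ[ℤ] N) : N →ₗ[ℤ] N))).prod).baseChange k H = H →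
      ∀ i ∈ l, ev k (P.root' i) H = 0) := by
  intro l
  induction l with
  | nil => intro _ _ H; exact ⟨fun φ _ => by simp, fun _ i hi => absurd hi List.not_mem_nil⟩
  | cons r l ih =>
    intro hnd hω H
    rw [List.nodup_cons] at hnd
    obtain ⟨ihA, ihB⟩ := ih hnd.2 (fun i hi => by
      obtain ⟨ω, h1, h2⟩ := hω i (List.mem_cons_of_mem _ hi)
      exact ⟨ω, h1, fun j hj => h2 j (List.mem_cons_of_mem _ hj)⟩) H
    set w := ((l.map fun i => ((P.coreflection i : N ≃ₗ[ℤ] N) : N →ₗ[ℤ] N)).prod).baseChange k H with hw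
    have hstep : (((r :: l).map fun i => ((P.coreflection i : N ≃ₗ[ℤ] N) : N →ₗ[ℤ] N)).prod).baseChange k H =
        w - ev k (P.root' r) w • ((1 : k) ⊗ₜ[ℤ] P.coroot r) := by
      rw [List.map_cons, List.prod_cons, Module.End.mul_eq_comp, LinearMap.baseChange_comp, LinearMap.comp_apply,
        ← hw, baseChange_coreflection]
    rw [hstep]
    refine ⟨fun φ hφ => ?_, fun hfix => ?_⟩
    · rw [map_sub, map_smul, ihA φ (fun j hj => hφ j (List.mem_cons_of_mem _ hj))]
      simp [ev, hφ r (List.mem_cons_self ..)]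
    · obtain ⟨ω, h1, h2⟩ := hω r (List.mem_cons_self ..)
      have hA := ihA (P.toLinearMap ω) (fun j hj => h2 j (List.mem_cons_of_mem _ hj) (fun e => hnd.1 (e ▸ hj)))
      have hr : P.toLinearMap ω (P.coroot r) = 1 := h1
      have h0 : ev k (P.root' r) w = 0 := by
        have h3 := congrArg (ev k (P.toLinearMap ω)) hfix
        rw [map_sub, map_smul, hA, show ev k (P.toLinearMap ω) ((1 : k) ⊗ₜ[ℤ] P.coroot r) = 1 by
          simp [ev, hr]] at h3
        simpa using h3
      rw [h0, zero_smul, sub_zero] at hfix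
      intro i hi
      rcases List.mem_cons.1 hi with rfl | hi
      · rwa [hfix] at h0
      · exact ihB hfix i hi

/-- For a connected reductive group G with maximal torus T whose derived group is simply connected, and
a Coxeter element w (the product of the simple reflections, each once, in any order), an element of
Lie T = k ⊗ X_*(T) fixed by Ad(w) is killed by the differential of every simple root, i.e. lies in
the centre of Lie G. In root-datum form: let P be a root pairing over ℤ with character lattice M and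
cocharacter lattice N, b a base, and suppose each simple coroot has a dual character ω_i in M with
⟨ω_i, α_i^∨⟩ = 1 and ⟨ω_i, α_j^∨⟩ = 0 for every other simple j (the simply connected derived group
hypothesis). If l lists the simple roots without repetition, w^∨ is the composite of the
coreflections along l acting on N, k is a field and H in k ⊗ N satisfies w^∨_k H = H, then (α_i)_k H
= 0 for every simple root α_i, where (α_i)_k is the base change to k of the functional ⟨α_i, −⟩ on
N. (Stated for an arbitrary field k; the published setting is an algebraically closed field, and the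
argument does not depend on k.) -/
theorem result {ι M N : Type u} [AddCommGroup M] [AddCommGroup N]
    (P : RootPairing ι ℤ M N) (b : P.Base)
    (hsc : ∀ i ∈ b.support, ∃ ω : M, P.coroot' i ω = 1 ∧ ∀ j ∈ b.support, j ≠ i → P.coroot' j ω = 0)
    (l : List ι) (hl : l.Nodup) (hlb : ∀ i : ι, i ∈ l ↔ i ∈ b.support)
    (k : Type u) [Field k] (H : k ⊗[ℤ] N)
    (hH : ((l.map (fun i => ((P.coreflection i : N ≃ₗ[ℤ] N) : N →ₗ[ℤ] N))).prod).baseChange k H = H) :
    ∀ i ∈ b.support, (P.root' i).baseChange k H = 0 := by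
  intro i hi
  have h := (fixed_word P k l hl (fun i hi => by
    obtain ⟨ω, h1, h2⟩ := hsc i ((hlb i).1 hi)
    exact ⟨ω, h1, fun j hj => h2 j ((hlb j).1 hj)⟩) H).2 hH i ((hlb i).2 hi)
  exact (TensorProduct.AlgebraTensorModule.rid ℤ k k).map_eq_zero_iff.1 h

end Groth.Agent.S15841
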