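import Groth.Statements.S15843
import Groth.Agent.H26Misc.Cyclic
import Mathlib.RingTheory.Flat.Stability
import Mathlib.RingTheory.Flat.Localization

set_option autoImplicit false
universe u
open SprIso

namespace Groth.Agent.S15843

/-- The flatness assertion, for a section of the group and equally for a section of its Lie algebra, in
the case G = GL_n (its derived group SL_n is simply connected and every prime is good for it, so the
hypotheses on the fundamental group and on the characteristic that the general statement needs hold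
over every base, and strong regularity is regularity). Let A be a commutative ring and g an n × n
matrix over A — a section of GL_n when invertible, of its Lie algebra gl_n in general; in both cases
the centralizer in GL_n is the scheme of invertible matrices commuting with g — which is fiberwise
regular (at every field-valued point A → K the commutant of g_K in M_n(K) has dimension n). Then the
centralizer Z_{GL_n}(g) is flat over A; concretely, with X the generic n × n matrix over A[x_ij],
the ring obtained from A[x_ij] by dividing by the entries of X g − g X and inverting det X is a flat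
A-module. -/
theorem result (A : Type u) [CommRing A] (n : ℕ)
    (g : Matrix (Fin n) (Fin n) A)
    (hreg : ∀ (K : Type u) [Field K] (φ : A →+* K),
      Module.finrank K (Subalgebra.centralizer K ({g.map φ} : Set (Matrix (Fin n) (Fin n) K))) = n) :
    Module.Flat A (Localization.Away
      (Ideal.Quotient.mk (Ideal.span (Set.range fun ij : Fin n × Fin n =>
        (Matrix.mvPolynomialX (Fin n) (Fin n) A * g.map MvPolynomial.C -
          g.map MvPolynomial.C * Matrix.mvPolynomialX (Fin n) (Fin n) A :
            Matrix (Fin n) (Fin n) (MvPolynomial (Fin n × Fin n) A)) ij.1 ij.2))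
        (Matrix.mvPolynomialX (Fin n) (Fin n) A).det)) := by
  classical
  set M : Matrix (Fin n) (Fin n) (MvPolynomial (Fin n × Fin n) A) :=
    Matrix.mvPolynomialX (Fin n) (Fin n) A * g.map MvPolynomial.C -
      g.map MvPolynomial.C * Matrix.mvPolynomialX (Fin n) (Fin n) A with hM
  set I := Ideal.span (Set.range fun ij : Fin n × Fin n => M ij.1 ij.2) with hI
  set Q := MvPolynomial (Fin n × Fin n) A ⧸ I with hQ
  set X' : Matrix (Fin n) (Fin n) Q :=
    (Matrix.mvPolynomialX (Fin n) (Fin n) A).map (Ideal.Quotient.mk I) with hX'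
  have hgQ : (g.map MvPolynomial.C).map (Ideal.Quotient.mk I) = g.map (algebraMap A Q) := by
    ext i j; rfl
  have hcomm : Commute X' (g.map (algebraMap A Q)) := by
    show _ = _
    rw [hX', ← hgQ, ← Matrix.map_mul, ← Matrix.map_mul]
    ext i j
    rw [Matrix.map_apply, Matrix.map_apply, Ideal.Quotient.eq, hI]
    exact Ideal.subset_span ⟨(i, j), rfl⟩
  obtain ⟨a, ha⟩ := H26Misc.Cyclic.exists_eq_sum_pow _
    (H26Misc.Cyclic.span_krylov_eq_top_of_hom g hreg (algebraMap A Q)) X' hcomm
  let W : Matrix (Fin n) (Fin n) (MvPolynomial (Fin n) A) :=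
    ∑ k : Fin n, (MvPolynomial.X k : MvPolynomial (Fin n) A) • (g.map MvPolynomial.C) ^ (k : ℕ)
  have hW : Commute W (g.map MvPolynomial.C) :=
    Commute.sum_left _ _ _ fun k _ => ((Commute.refl _).pow_left _).smul_left _
  let φ : MvPolynomial (Fin n × Fin n) A →ₐ[A] MvPolynomial (Fin n) A :=
    MvPolynomial.aeval fun ij => W ij.1 ij.2
  have hφX : (Matrix.mvPolynomialX (Fin n) (Fin n) A).map φ = W := by
    ext i j; simp [φ]
  have hφg : (g.map MvPolynomial.C).map φ = g.map MvPolynomial.C := by
    ext i j; simp [φ]
  have hφI : ∀ z ∈ I, φ z = 0 := by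
    intro z hz
    refine (Ideal.span_le.2 ?_ hz : z ∈ RingHom.ker φ.toRingHom)
    rintro _ ⟨ij, rfl⟩
    show φ (M ij.1 ij.2) = 0
    have h : M.map φ = 0 := by
      rw [hM, Matrix.map_sub φ (map_sub φ), Matrix.map_mul, Matrix.map_mul, hφX, hφg, hW.eq, sub_self]
    exact congrFun (congrFun h ij.1) ij.2
  let ψ : MvPolynomial (Fin n) A →ₐ[A] Q := MvPolynomial.aeval a
  let φ' : Q →ₐ[A] MvPolynomial (Fin n) A := Ideal.Quotient.liftₐ I φ hφI
  have hψW : W.map ψ = X' := by
    rw [ha]
    ext i j
    simp only [W, Matrix.map_apply, Matrix.sum_apply, map_sum, Matrix.smul_apply, smul_eq_mul, map_mul]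
    refine Finset.sum_congr rfl fun k _ => ?_
    have h1 : ((g.map MvPolynomial.C) ^ (k : ℕ)).map ψ = (g.map (algebraMap A Q)) ^ (k : ℕ) := by
      have hmp := map_pow ψ.toRingHom.mapMatrix (g.map MvPolynomial.C) (k : ℕ)
      have hg' : (g.map MvPolynomial.C).map ψ = g.map (algebraMap A Q) := by
        ext a b; simp [ψ]
      rw [← hg']
      exact hmp
    rw [← h1]
    simp [ψ, Matrix.map_apply]
  have hleft : ∀ q, ψ (φ' q) = q := by
    intro q
    obtain ⟨z, rfl⟩ := Ideal.Quotient.mk_surjective q
    show (ψ.comp φ) z = Ideal.Quotient.mkₐ A I z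
    congr 1
    refine MvPolynomial.algHom_ext fun ij => ?_
    simp only [AlgHom.comp_apply, φ, MvPolynomial.aeval_X]
    exact congrFun (congrFun hψW ij.1) ij.2
  have hright : ∀ p, φ' (ψ p) = p := by
    have hc : (fun k => φ' (a k)) - MvPolynomial.X = (0 : Fin n → MvPolynomial (Fin n) A) := by
      refine H26Misc.Cyclic.linearIndependent_pow (g.map MvPolynomial.C)
        (H26Misc.Cyclic.span_krylov_eq_top_of_hom g hreg MvPolynomial.C) _ ?_
      simp only [Pi.sub_apply, sub_smul, Finset.sum_sub_distrib]
      rw [sub_eq_zero]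
      have h2 : X'.map φ' = W := by
        refine Matrix.ext fun i j => ?_
        show φ (MvPolynomial.X (i, j)) = W i j
        simp [φ]
      have h3 : (∑ k : Fin n, a k • (g.map (algebraMap A Q)) ^ (k : ℕ)).map φ' = W := by rw [← ha]; exact h2
      refine Eq.trans ?_ h3
      refine Matrix.ext fun i j => ?_
      simp only [Matrix.map_apply, Matrix.sum_apply, map_sum, Matrix.smul_apply, smul_eq_mul, map_mul]
      refine Finset.sum_congr rfl fun k _ => ?_
      have h1 : ((g.map (algebraMap A Q)) ^ (k : ℕ)).map φ' = (g.map MvPolynomial.C) ^ (k : ℕ) := by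
        have hmp := map_pow φ'.toRingHom.mapMatrix (g.map (algebraMap A Q)) (k : ℕ)
        have hg' : (g.map (algebraMap A Q)).map φ' = g.map MvPolynomial.C := by
          exact Matrix.ext fun a b => φ'.commutes _
        rw [← hg']
        exact hmp
      rw [← h1, Matrix.map_apply]
    intro p
    show (φ'.comp ψ) p = AlgHom.id A _ p
    congr 1
    refine MvPolynomial.algHom_ext fun k => ?_
    simp only [AlgHom.comp_apply, ψ, MvPolynomial.aeval_X, AlgHom.id_apply]
    exact sub_eq_zero.1 (congrFun hc k)
  let e : MvPolynomial (Fin n) A ≃ₐ[A] Q :=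
    AlgEquiv.ofAlgHom ψ φ' (AlgHom.ext hleft) (AlgHom.ext hright)
  have : Module.Flat A Q := Module.Flat.of_linearEquiv e.symm.toLinearEquiv
  exact Module.Flat.trans A Q _

end Groth.Agent.S15843
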