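import Groth.Statements.S15845
import Mathlib.Data.Matrix.Mul
import Mathlib.LinearAlgebra.Matrix.NonsingularInverse
import Mathlib.Tactic

set_option autoImplicit false
universe u
open SprIso

namespace Groth.Agent.S15845

/-- General linear group case: this is the case G = GL_n with its upper-triangular Borel subgroup B
(derived group SL_n simply connected, all primes good, so the hypotheses on the characteristic
hold), together with the companion statement for a regular nilpotent element of Lie B. Let k be a
field and u an n × n upper-triangular matrix over k whose diagonal entries are all equal and whose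
superdiagonal entries u_{i,i+1} are all non-zero — for diagonal 1 this is a regular unipotent
element of B(k), for diagonal 0 a regular nilpotent element of Lie B. Then the centralizer of u in
GL_n is contained in B and is the product of the centre with the centralizer in the unipotent
radical: for every commutative k-algebra R and every invertible x ∈ M_n(R) commuting with u_R, x is
upper triangular and its diagonal entries are all equal. (The smoothness of the centralizer in the
unipotent radical, also part of the published statement, is not stated here.) -/
theorem result (k : Type u) [Field k] (n : ℕ)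
    (u : Matrix (Fin n) (Fin n) k) (htri : ∀ i j : Fin n, j < i → u i j = 0) (hdiag : ∀ i j : Fin n, u i i = u j j)
    (hreg : ∀ (i j : Fin n), j.val = i.val + 1 → u i j ≠ 0)
    (R : Type u) [CommRing R] [Algebra k R] (x : Matrix (Fin n) (Fin n) R) (hx : IsUnit x)
    (hxu : x * u.map (algebraMap k R) = u.map (algebraMap k R) * x) :
    (∀ i j : Fin n, j < i → x i j = 0) ∧ (∀ i j : Fin n, x i i = x j j) := by
  classical
  have hcomm : ∀ i j, ∑ l, x i l * algebraMap k R (u l j) = ∑ l, algebraMap k R (u i l) * x l j := fun i j => by
    simpa [Matrix.mul_apply] using congrFun (congrFun hxu i) j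
  let w : Fin n → Fin n → R := fun i j => if i < j then algebraMap k R (u i j) else 0
  have hN : ∀ i j, ∑ l, x i l * w l j = ∑ l, w i l * x l j := by
    intro i j
    have eu : ∀ a b, algebraMap k R (u a b) = w a b + (if a = b then algebraMap k R (u i i) else 0) := by
      intro a b
      rcases lt_trichotomy a b with h | h | h
      · simp [w, h, h.ne]
      · subst h; simp [w, hdiag a i]
      · simp [w, h.not_gt, h.ne', htri _ _ h]
    have := hcomm i j
    rw [Finset.sum_congr rfl (fun l _ => show x i l * algebraMap k R (u l j) = x i l * w l j + (if l = j then x i j * algebraMap k R (u i i) else 0) by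
        rw [eu l j]; split_ifs with h <;> [subst h; skip] <;> ring),
      Finset.sum_congr rfl (fun l _ => show algebraMap k R (u i l) * x l j = w i l * x l j + (if i = l then algebraMap k R (u i i) * x i j else 0) by
        rw [eu i l]; split_ifs with h <;> [subst h; skip] <;> ring)] at this
    simp only [Finset.sum_add_distrib, Finset.sum_ite_eq', Finset.sum_ite_eq, Finset.mem_univ, if_true] at this
    linear_combination this
  have hw : ∀ a b : Fin n, b.val = a.val + 1 → IsUnit (w a b) := fun a b h => by
    simp only [w, if_pos (show a < b from by rw [Fin.lt_def]; omega)]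
    exact (isUnit_iff_ne_zero.mpr (hreg a b h)).map _
  have key : ∀ d : ℕ, ∀ j : Fin n, j.val < d → ∀ i : Fin n, j < i → x i j = 0 := by
    intro d
    induction d with
    | zero => intro j hj; omega
    | succ d ih =>
      intro j hj
      suffices h : ∀ e : ℕ, ∀ i : Fin n, n ≤ i.val + e → j < i → x i j = 0 from fun i hi => h n i (by omega) hi
      intro e
      induction e with
      | zero => intro i hi; omega
      | succ e ihe =>
        intro i hi hji
        let i' : Fin n := ⟨i.val - 1, by omega⟩
        have hi' : i.val = i'.val + 1 := by
          show i.val = i.val - 1 + 1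
          rw [Fin.lt_def] at hji; omega
        have hl : ∑ l, x i' l * w l j = 0 := by
          refine Finset.sum_eq_zero fun l _ => ?_
          by_cases hlj : l < j
          · rw [ih l (by rw [Fin.lt_def] at hlj; omega) i' (by rw [Fin.lt_def] at hlj hji ⊢; omega), zero_mul]
          · simp [w, hlj]
        have hr := (hN i' j).symm.trans hl
        rw [Finset.sum_eq_single i] at hr
        · exact (hw i' i hi').mul_right_eq_zero.mp hr
        · intro l _ hli
          by_cases hlt : i' < l
          · have : i < l := lt_of_le_of_ne (by rw [Fin.lt_def] at hlt; rw [Fin.le_def]; omega) (Ne.symm hli)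
            rw [ihe l (by rw [Fin.lt_def] at this; omega) (lt_trans hji this), mul_zero]
          · simp [w, hlt]
        · simp
  have hlow : ∀ i j : Fin n, j < i → x i j = 0 := fun i j h => key n j j.2 i h
  refine ⟨hlow, ?_⟩
  have hstep : ∀ a b : Fin n, b.val = a.val + 1 → x a a = x b b := by
    intro a b h
    have e := hN a b
    rw [Finset.sum_eq_single a, Finset.sum_eq_single b] at e
    · exact (hw a b h).mul_right_cancel (e.trans (mul_comm _ _))
    · intro l _ hl
      by_cases hlt : a < l
      · rw [hlow l b (by rw [Fin.lt_def] at hlt ⊢; have := Fin.val_ne_of_ne hl; omega), mul_zero]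
      · simp [w, hlt]
    · simp
    · intro l _ hl
      by_cases hlt : l < b
      · rw [hlow a l (by rw [Fin.lt_def] at hlt ⊢; have := Fin.val_ne_of_ne hl; omega), zero_mul]
      · simp [w, hlt]
    · simp
  intro i j
  have : ∀ e : ℕ, ∀ a : Fin n, a.val = e → x a a = x ⟨0, a.pos⟩ ⟨0, a.pos⟩ := by
    intro e
    induction e with
    | zero => intro a ha; rw [show a = ⟨0, a.pos⟩ from Fin.ext ha]
    | succ e ih =>
      intro a ha
      rw [← hstep ⟨e, by omega⟩ a (by simpa using ha), ih ⟨e, by omega⟩ rfl]
  rw [this _ i rfl, this _ j rfl]

end Groth.Agent.S15845
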