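import Groth.Statements.S15849
import Groth.Agent.H02CA.SurfStab.Main
import Groth.Agent.H10Coh.Stab.MuIso
import Groth.Agent.H29Ref.BigOpen
import Groth.Agent.H17.QCohLoc
import Groth.Agent.H26TF1.Defect

set_option autoImplicit false
universe u
open CategoryTheory CategoryTheory.Limits AlgebraicGeometry
open ShStab

namespace Groth.Agent.S15849

open Groth.Agent

set_option backward.isDefEq.respectTransparency.types false
set_option linter.style.haveILetI false
set_option maxHeartbeats 1600000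

open Polynomial Opposite StabCat Groth.Agent.H10Coh.Stab Groth.Agent.H02CA.SurfStab

section helpers

variable {k : Type u} [Field k] {X : Scheme.{u}} [X.Over (Spec (CommRingCat.of k))]
  [IsProper (X ↘ Spec (CommRingCat.of k))] [IsIntegral X]

include k in
theorem isClosed_singleton_of_two_le (hX : topologicalKrullDim X = ((2 : ℕ) : WithBot ℕ∞)) {x : X}
    (hx : (2 : WithBot ℕ∞) ≤ ringKrullDim (X.presheaf.stalk x)) : IsClosed ({x} : Set X) := by
  have h := H8Props.FieldDim.localDim_eq_stalk_add_cdim (X ↘ Spec (CommRingCat.of k)) x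
  rw [H8Props.FieldDim.localDim_eq_dim_of_irreducible (X ↘ Spec (CommRingCat.of k)) x, hX] at h
  rw [← closure_eq_iff_isClosed]
  by_contra hne
  obtain ⟨y, hy, hyx⟩ : ∃ y, y ∈ closure ({x} : Set X) ∧ y ≠ x := by
    by_contra hall
    push Not at hall
    exact hne (Set.Subset.antisymm (fun y hy => hall y hy) subset_closure)
  have h1 : (1 : WithBot ℕ∞) ≤ H8Props.FieldDim.cdim x := by
    obtain ⟨sx, hsx⟩ := H8Props.FieldDim.exists_nat_cdim (X ↘ Spec (CommRingCat.of k)) x
    obtain ⟨sy, hsy⟩ := H8Props.FieldDim.exists_nat_cdim (X ↘ Spec (CommRingCat.of k)) y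
    have hlt := H8Props.FieldDim.cdim_lt (X ↘ Spec (CommRingCat.of k)) (specializes_iff_mem_closure.2 hy) hyx.symm
    rw [hsx, hsy] at hlt
    have hlt' : sy < sx := by exact_mod_cast hlt
    rw [hsx]
    exact_mod_cast Nat.one_le_iff_ne_zero.2 (by omega)
  have : ((3 : ℕ) : WithBot ℕ∞) ≤ ((2 : ℕ) : WithBot ℕ∞) := by
    rw [h]; exact_mod_cast (add_le_add hx h1)
  exact absurd this (by norm_cast)

include k in
theorem dim_lt_one_of_two_le (hX : topologicalKrullDim X = ((2 : ℕ) : WithBot ℕ∞)) {C : Set X} (hC : IsClosed C)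
    (h : ∀ x ∈ C, (2 : WithBot ℕ∞) ≤ ringKrullDim (X.presheaf.stalk x)) :
    topologicalKrullDim C < ((1 : ℕ) : WithBot ℕ∞) := by
  haveI : QuasiSober C := hC.isClosedEmbedding_subtypeVal.quasiSober
  refine lt_of_le_of_lt ?_ (show (0 : WithBot ℕ∞) < ((1:ℕ) : WithBot ℕ∞) by exact_mod_cast one_pos)
  refine Order.krullDim_nonpos_iff_forall_isMin.2 fun s t hts => ?_
  obtain ⟨g, hg⟩ := QuasiSober.sober s.isIrreducible s.isClosed
  have hgc : closure ({g} : Set C) = {g} := closure_eq_iff_isClosed.2 (by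
    rw [hC.isClosedEmbedding_subtypeVal.isClosed_iff_image_isClosed, Set.image_singleton]
    exact isClosed_singleton_of_two_le (k := k) hX (h g.1 g.2))
  have hs : (s : Set C) = {g} := hg.def.symm.trans hgc
  obtain ⟨z, hz⟩ := t.isIrreducible.1
  intro w hw
  replace hw : w = g := by
    have h' : w ∈ (s : Set C) := hw
    rwa [hs, Set.mem_singleton_iff] at h'
  have : z = g := by
    have h' : z ∈ (s : Set C) := hts hz
    rwa [hs, Set.mem_singleton_iff] at h'
  rw [hw, ← this]
  exact hz

end helpers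

/-- A morphism defined off a set of codimension two extends to a reflexive target. -/
theorem exists_extension_reflexive {X : Scheme.{u}} [IsIntegral X] [IsLocallyNoetherian X]
    (hnor : Pi1.IsNormalScheme X) {A B : X.Modules} (U : X.Opens)
    (hU : ∀ x : X, x ∉ U → (2 : WithBot ℕ∞) ≤ ringKrullDim (X.presheaf.stalk x)) (hB : Coh.IsCoh B)
    (hBr : RefHull.IsReflexive B) (a : B ⟶ A)
    (r : (Scheme.Modules.restrictFunctor U.ι).obj A ⟶ (Scheme.Modules.restrictFunctor U.ι).obj B)
    (hr : (Scheme.Modules.restrictFunctor U.ι).map a ≫ r = 𝟙 _) : ∃ φ : A ⟶ B, a ≫ φ = 𝟙 B := by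
  let adj := Scheme.Modules.restrictAdjunction U.ι
  haveI : IsIso (adj.unit.app B) := (H29Ref.isIso_unit_iff B U).2 fun W =>
    H29Ref.bijective_res hnor B hB hBr (U.ι.image_preimage_le W) fun x hxW hx => hU x fun hxU => hx ⟨⟨x, hxU⟩, hxW, rfl⟩
  refine ⟨adj.homEquiv _ _ r ≫ inv (adj.unit.app B), ?_⟩
  rw [← Category.assoc, ← adj.homEquiv_naturality_left, hr, adj.homEquiv_id, IsIso.hom_inv_id]

/-- Let k be an algebraically closed field of characteristic zero and S a smooth projective surface over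
k (integral, smooth over k, of dimension two, with a closed immersion over k into some projective
space) whose Picard group is infinite cyclic, generated by the class of an ample invertible sheaf L.
Let N ⊆ L be a coherent subsheaf whose quotient L/N has support of dimension at most zero (N is L
twisted by the ideal sheaf of a finite subscheme, possibly empty), and let V be a coherent
O_S-module with torsion-free stalks in a short exact sequence 0 → O_S → V → N → 0 that does not
split. Then V is slope-stable of dimension two with respect to L: V has no coherent subsheaf with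
one-dimensional support, and every coherent subsheaf whose multiplicity lies strictly between 0 and
that of V has normalised slope of its Hilbert polynomial strictly smaller than that of V. (The
published statement does not ask the extension to be non-split; for the split extension V = O_S ⊕ N
the subsheaf N has larger slope than V, and the printed argument uses that the sequence does not
split, so non-splitness is assumed here.) -/
theorem result
    (k : Type u) [Field k] [IsAlgClosed k] [CharZero k]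
    (S : Scheme.{u}) [S.Over (Spec (CommRingCat.of k))] [IsIntegral S]
    [Smooth (S ↘ Spec (CommRingCat.of k))] (hdim : topologicalKrullDim S = 2)
    [IsProper (S ↘ Spec (CommRingCat.of k))]
    (hproj : ∃ (n : ℕ) (ι : S ⟶ CohB1.ProjSpace n k), IsClosedImmersion ι ∧
      ι ≫ CohB1.ProjSpace.toSpec n k = S ↘ Spec (CommRingCat.of k))
    (L : S.Modules) (hLi : PicF.IsInvertible L) (hLa : CohB1.IsAmple L)
    [PicGrp.Law S] (hgen : ∀ c : PicLoc.PicSet S, ∃ n : ℤ, c = PicGrp.cls L hLi ^ n)
    (hfree : ∀ n : ℤ, PicGrp.cls L hLi ^ n = 1 → n = 0)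
    (N : S.Modules) (ι : N ⟶ L) [Mono ι] (hN : Coh.IsCoh N)
    (hZ : topologicalKrullDim (CohB1.support (cokernel ι)) ≤ 0)
    (V : S.Modules) (hV : Coh.IsCoh V) (hVtf : TorSh.IsTorsionFree V)
    (a : Coh.structureModule S ⟶ V) (b : V ⟶ N) (w : a ≫ b = 0)
    (hex : (ShortComplex.mk a b w).ShortExact)
    (hns : ∀ r : V ⟶ Coh.structureModule S, a ≫ r ≠ 𝟙 (Coh.structureModule S)) :
    ShStab.IsMuStable k S L V 2 := by
  obtain rfl : ‹PicGrp.Law S› = H28Vert.picLaw S := Subsingleton.elim _ _
  letI := H28Vert.picLaw S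
  haveI := isLocallyNoetherian_of_proper (Z := S) k
  haveI : CompactSpace S := hLa.2.1
  have hX : topologicalKrullDim S = ((2 : ℕ) : WithBot ℕ∞) := by exact_mod_cast hdim
  have hreg : ∀ x : S, IsRegularLocalRing (S.presheaf.stalk x) := fun x =>
    H19Grp.isRegularLocalRing_stalk_of_smooth (S ↘ Spec (CommRingCat.of k)) x
  have hnor := H29Ref.isNormalScheme_of_regular hreg
  let O := Coh.structureModule S
  have hOi : PicF.IsInvertible O := H11Proj.isInvertible_structureModule
  have hOc : Coh.IsCoh O := H11Ample.isCoh_of_isInvertible hOi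
  have hLc : Coh.IsCoh L := H11Ample.isCoh_of_isInvertible hLi
  have hinvp : ∀ {M : S.Modules}, PicF.IsInvertible M → ShStab.IsPure S M 2 := fun hM =>
    isPure_of_isReflexive k (isReflexive_of_vb (H28Pinch.isFinLocFree_of_isInvertible hM)
      (H11Ample.isCoh_of_isInvertible hM)) hX
  have hOp := hinvp hOi
  have hOr : RefHull.IsReflexive O := isReflexive_of_vb (H28Pinch.isFinLocFree_of_isInvertible hOi) hOc
  have hNp : ShStab.IsPure S N 2 := isPure_of_mono (hinvp hLi) ι
  have hVp : ShStab.IsPure S V 2 := isPure_extension hex hOp hNp hN k hX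
  haveI := hex.mono_f
  haveI := hex.epi_g
  have hO0 : ¬ IsZero O := fun h => by
    have := H25Euler.mem_support_structure (X := S) (genericPoint S)
    rw [support_eq_empty_of_isZero h] at this
    exact this
  have hV0 : ¬ IsZero V := fun h => hO0 (IsZero.of_mono a h)
  refine ⟨hV, hV0, dim_self_of_pure hVp hV hV0, fun F i hi hF => ?_, fun F i hi hF pF pV hpF hpV hα₀ hα => ?_⟩
  · haveI := hi
    by_cases h0 : IsZero F
    · haveI : IsEmpty (TopologicalSpace.IrreducibleCloseds ↥(∅ : Set S)) :=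
        ⟨fun C => C.2.nonempty.elim fun x _ => x.2.elim⟩
      rw [support_eq_empty_of_isZero h0, topologicalKrullDim, Order.krullDim_eq_bot, WithBot.bot_add]
      exact WithBot.bot_ne_coe
    · rw [hVp F i hi hF h0]
      exact_mod_cast (by norm_num : (2 : ℕ) + 1 ≠ 2)
  haveI := hi
  obtain ⟨pO, hpO⟩ := exists_poly (k := k) hLa hX hOc
  obtain ⟨pL, hpL⟩ := exists_poly (k := k) hLa hX hLc
  obtain ⟨pN, hpN⟩ := exists_poly (k := k) hLa hX hN
  have habove : ∀ {M : S.Modules} {P : ℚ[X]}, PicF.IsInvertible M → ShStab.IsHilbPoly k S L M P →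
      ∀ j, 2 < j → P.coeff j = 0 := fun {M} {P} hM hP j hj =>
    coeff_above hLa (hinvp hM) (H11Ample.isCoh_of_isInvertible hM) hP j hj
  have ha : 0 < alpha 2 pO := alpha_pos_of_pure hLa hOp hOc hO0 hpO
  -- the Hilbert polynomial of a power of `L`
  have hpow : ∀ (M : S.Modules) (hM : PicF.IsInvertible M) (n : ℤ), PicGrp.cls M hM = PicGrp.cls L hLi ^ n →
      ∀ p : ℚ[X], ShStab.IsHilbPoly k S L M p →
        alpha 2 p = alpha 2 pO ∧ alpha 1 p = alpha 1 pO + n * alpha 2 pO := by
    intro M hM n hn p hp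
    have hcls : ∀ (A : S.Modules) (hA : PicF.IsInvertible A) (j : ℕ),
        PicGrp.cls _ (H11Ample.isInvertible_tensor hA (H28Vert.isInvertible_tensorPow hLi j)) =
          PicGrp.cls A hA * PicGrp.cls L hLi ^ j := fun A hA j => by
      rw [← H28Vert.cls_tensorPow hLi j]
      exact (Subtype.ext (PicGrp.cls_mul_cls_val hA (H28Vert.isInvertible_tensorPow hLi j))).symm
    obtain ⟨j, rfl | rfl⟩ := Int.eq_nat_or_neg n
    · obtain ⟨e⟩ := (PicGrp.cls_eq_cls_iff hM (H11Ample.isInvertible_tensor hOi (H28Vert.isInvertible_tensorPow hLi j))).1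
        (by rw [hcls O hOi j, (PicGrp.cls_eq_one_iff hOi).2 ⟨Iso.refl _⟩, one_mul, hn, zpow_natCast])
      have hp' := H25Euler.hilbPoly_unique hp (hilbPoly_shift (k := k) hLi j e hpO)
      obtain ⟨c2, c1⟩ := coeff_comp_shift (habove hOi hpO) (j : ℚ)
      rw [hp']
      simp only [alpha, c2, c1, Nat.factorial]
      push_cast
      exact ⟨trivial, by ring⟩
    · obtain ⟨e⟩ := (PicGrp.cls_eq_cls_iff hOi (H11Ample.isInvertible_tensor hM (H28Vert.isInvertible_tensorPow hLi j))).1
        (by rw [hcls M hM j, (PicGrp.cls_eq_one_iff hOi).2 ⟨Iso.refl _⟩, hn, zpow_neg, zpow_natCast, inv_mul_cancel])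
      have hp' := H25Euler.hilbPoly_unique hpO (hilbPoly_shift (k := k) hLi j e hp)
      obtain ⟨c2, c1⟩ := coeff_comp_shift (habove hM hp) (j : ℚ)
      simp only [alpha, hp', c2, c1, Nat.factorial]
      push_cast
      exact ⟨trivial, by ring⟩
  obtain ⟨hL2, hL1⟩ := hpow L hLi 1 (zpow_one _).symm pL hpL
  rw [Int.cast_one, one_mul] at hL1
  have hNc : ∀ j, 1 ≤ j → pN.coeff j = pL.coeff j := fun j hj =>
    coeff_eq_of_dim hLa hN hLc ι hpN hpL (lt_of_le_of_lt hZ (by exact_mod_cast one_pos)) hj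
  have hN2 : alpha 2 pN = alpha 2 pO := by rw [← hL2]; simp only [alpha, hNc 2 one_le_two]
  have hN1 : alpha 1 pN = alpha 1 pO + alpha 2 pO := by rw [← hL1]; simp only [alpha, hNc 1 le_rfl]
  have hpV' : pV = pO + pN := H25Euler.hilbPoly_unique hpV fun m => by
    rw [eval_add, ← hpO m, ← hpN m]
    exact_mod_cast H25Euler.chi_add (k := k) hLa.1 hex hOc hV hN m
  have hV2 : alpha 2 pV = 2 * alpha 2 pO := by rw [hpV', alpha_add, hN2]; ring
  have hV1 : alpha 1 pV = 2 * alpha 1 pO + alpha 2 pO := by rw [hpV', alpha_add, hN1]; ring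
  suffices hb : alpha 2 pF = alpha 2 pO ∧ alpha 1 pF ≤ alpha 1 pO by
    obtain ⟨h2, h1⟩ := hb
    show alpha 1 pF / alpha 2 pF < alpha 1 pV / alpha 2 pV
    rw [h2, hV2, hV1, div_lt_div_iff₀ ha (by positivity)]
    nlinarith [mul_pos ha ha, mul_le_mul_of_nonneg_right h1 ha.le]
  have hmain : ∀ {M : S.Modules} (χ : F ⟶ M), Mono χ → PicF.IsInvertible M → ∀ {p : ℚ[X]},
      ShStab.IsHilbPoly k S L M p → alpha 2 pF = alpha 2 p ∧ alpha 1 pF ≤ alpha 1 p := by
    intro M χ hχ hM p hp
    haveI := hχ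
    have hF0 : ¬ IsZero F := fun h => by
      rw [H25Euler.hilbPoly_unique hpF (H25Euler.hilbPoly_zero h), alpha_zero] at hα₀
      exact lt_irrefl _ hα₀
    have h := alpha_eq_of_mono_inv hLa hX hF hF0 hM χ hpF hp
    exact ⟨h, alpha_pred_le_of_eq hLa one_le_two (hinvp hM) (H11Ample.isCoh_of_isInvertible hM) hF χ hpF hp h⟩
  have hF0 : ¬ IsZero F := fun h => by
    rw [H25Euler.hilbPoly_unique hpF (H25Euler.hilbPoly_zero h), alpha_zero] at hα₀
    exact lt_irrefl _ hα₀
  by_cases hg : i ≫ b = 0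
  · let χ := hex.exact.lift i hg
    haveI : Mono χ := mono_of_mono_fac (hex.exact.lift_f i hg)
    exact hmain χ inferInstance hOi hpO
  let g : F ⟶ L := (i ≫ b) ≫ ι
  have hg0 : g ≠ 0 := fun h => hg (by rwa [← cancel_mono ι, Limits.zero_comp])
  obtain ⟨pK, hKc, hIc, hpK, hpI⟩ := exists_image_data hLa hF hLc g hpF (dim_lt_succ_of_pure (isPure_of_mono hVp i) hF)
  have hI2 : alpha 2 (pF - pK) = alpha 2 pO :=
    (alpha_eq_of_mono_inv hLa hX hIc (not_isZero_image hg0) hLi (Abelian.image.ι g) hpI hpL).trans hL2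
  have hgz : IsZero (kernel g) := by
    by_contra h0
    have hz : (kernel.ι g ≫ i) ≫ b = 0 := by
      rw [← cancel_mono ι, Limits.zero_comp]
      simpa only [g, Category.assoc] using kernel.condition g
    let χ := hex.exact.lift _ hz
    haveI : Mono χ := mono_of_mono_fac (hex.exact.lift_f _ hz)
    have h2 := alpha_eq_of_mono_inv hLa hX hKc h0 hOi χ hpK hpO
    rw [hV2] at hα
    simp only [alpha, coeff_sub, mul_sub] at hI2 h2 hα
    linarith
  haveI hgm : Mono g := Preadditive.mono_of_isZero_kernel g hgz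
  haveI : Mono (i ≫ b) := mono_of_mono (i ≫ b) ι
  -- the points where `F` is free of rank one
  let D : S.Opens := ⟨{x | H8Props.FunDescent.StalkFree F 1 x}, isOpen_iff_forall_mem_open.2 fun x hx => by
    obtain ⟨W, hxW, hW⟩ := H8Props.FunDescent.isFreeOfRankNear_of_stalkFree_of_isFP F (H10Coh.isFP_of_isCoh F hF) hx
    exact ⟨W, fun y hy => H8Props.FunDescent.stalkFree_of_isFreeOfRankNear _ hF.1 ⟨W, hy, hW⟩, W.2, hxW⟩⟩
  have hη : genericPoint S ∈ D := by
    have hnot := generic_notMem_cokernel (k := k) hX hF hF0 hLi g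
    obtain ⟨bL⟩ := stalkFree_one hLi (genericPoint S)
    refine ⟨bL.map (LinearEquiv.ofBijective (RefHull.stalkMapₗ g (genericPoint S)) ?_).symm⟩
    let Φ := DerSch.stalkFunctor S (genericPoint S)
    haveI : Mono (Φ.map g) := Φ.map_mono g
    haveI : Epi (Φ.map g) := Preadditive.epi_of_isZero_cokernel _
      (((H25Euler.notMem_support_iff _ (genericPoint S)).1 hnot).of_iso (PreservesCokernel.iso Φ g).symm)
    exact ⟨(ModuleCat.mono_iff_injective (Φ.map g)).1 inferInstance,
      (ModuleCat.epi_iff_surjective (Φ.map g)).1 inferInstance⟩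
  have hD2 : ∀ x : S, x ∉ D → (2 : WithBot ℕ∞) ≤ ringKrullDim (S.presheaf.stalk x) := fun x hxD => by
    by_contra hlt
    push Not at hlt
    refine hxD ?_
    haveI := H29Ref.finite_stalk F hF.2 x
    haveI : Module.IsTorsionFree (S.presheaf.stalk x) (F.presheaf.stalk x) :=
      H26TF1.isTorsionFree_of_mono' i hVtf x
    haveI := H29Ref.free_of_dim_le_one hnor x (Order.le_of_lt_succ (by exact_mod_cast hlt)) (F.presheaf.stalk x)
    obtain ⟨W, hxW, hW⟩ := H8Props.FunDescent.isFreeOfRankNear_of_stalkFree_of_isFP F (H10Coh.isFP_of_isCoh F hF)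
      (p := Module.finrank (S.presheaf.stalk x) (F.presheaf.stalk x)) (x := x) ⟨Module.finBasis _ _⟩
    have hn := H8Props.FunDescent.stalkFree_unique hη (H8Props.FunDescent.stalkFree_of_isFreeOfRankNear _ hF.1
      (x := genericPoint S) ⟨W, ((genericPoint_spec S).mem_open_set_iff W.2).2 ⟨x, trivial, hxW⟩, hW⟩)
    exact H8Props.FunDescent.stalkFree_of_isFreeOfRankNear _ hF.1 ⟨W, hxW, hn ▸ hW⟩
  obtain ⟨hM, hMbij⟩ := H29Ref.isInvertible_ddual F hF D (D.2.dense ⟨genericPoint S, hη⟩) (fun x hx => hx) fun x _ => by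
    haveI := hreg x
    exact H28Alg.ufd_of_regular _
  obtain ⟨e, he⟩ := exists_ext_ddual g (isReflexive_of_vb (H28Pinch.isFinLocFree_of_isInvertible hLi) hLc)
  haveI : Mono (RefHull.bidualMap F) := mono_of_mono_fac he
  have he0 : e ≠ 0 := fun h => hg0 (by rw [← he, h, Limits.comp_zero])
  obtain ⟨hem, -⟩ := H29RR.mono_of_ne_zero hM hLi he0
  obtain ⟨n, hn⟩ := hgen (PicGrp.cls _ hM)
  obtain ⟨pM, hpM⟩ := exists_poly (k := k) hLa hX (H11Ample.isCoh_of_isInvertible hM)
  obtain ⟨hM2, hM1⟩ := hpow _ hM n hn pM hpM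
  obtain ⟨hF2, hF1⟩ := hmain (RefHull.bidualMap F) inferInstance hM hpM
  refine ⟨hF2.trans hM2, ?_⟩
  rcases le_or_gt n 0 with hn0 | hn0
  · have : (n : ℚ) ≤ 0 := by exact_mod_cast hn0
    nlinarith [hF1, hM1, mul_nonpos_of_nonpos_of_nonneg this ha.le]
  exfalso
  haveI := hem
  have hML : alpha 1 pM ≤ alpha 1 pL := alpha_pred_le_of_eq hLa one_le_two (hinvp hLi) hLc
    (H11Ample.isCoh_of_isInvertible hM) e hpM hpL (hM2.trans hL2.symm)
  have hn1 : n = 1 := by
    have : (n : ℚ) ≤ 1 := by
      rw [hM1, hL1] at hML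
      exact le_of_mul_le_mul_right (by linarith) ha
    have : n ≤ 1 := by exact_mod_cast this
    omega
  subst hn1
  rw [Int.cast_one, one_mul] at hM1
  -- the cokernel of `F ⟶ L` is supported at points of codimension two
  have hcd : topologicalKrullDim (CohB1.support (cokernel (RefHull.bidualMap F))) < ((1 : ℕ) : WithBot ℕ∞) := by
    refine H25Euler.dim_lt_of_subset (B := (D : Set S)ᶜ) (fun x hx hxD => ?_)
      (dim_lt_one_of_two_le (k := k) hX D.2.isClosed_compl hD2)
    refine (H25Euler.notMem_support_iff _ x).2 ?_ hx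
    let Φ := DerSch.stalkFunctor S x
    haveI : IsIso (Φ.map (RefHull.bidualMap F)) := (ConcreteCategory.isIso_iff_bijective _).2 (hMbij x hxD)
    exact IsZero.of_iso (isZero_cokernel_of_epi _) (PreservesCokernel.iso Φ _)
  have hMc := H11Ample.isCoh_of_isInvertible hM
  have hFc : ∀ j, 1 ≤ j → pF.coeff j = pM.coeff j := fun j hj => coeff_eq_of_dim hLa hF hMc _ hpF hpM hcd hj
  have hFL : ∀ j, 1 ≤ j → (pL - pF).coeff j = 0 := fun j hj => by
    rw [coeff_sub, hFc j hj, sub_eq_zero]
    rcases lt_trichotomy j 2 with hj2 | rfl | hj2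
    · obtain rfl : j = 1 := by omega
      simp only [alpha, Nat.factorial] at hM1 hL1 ⊢
      push_cast at hM1 hL1
      linarith
    · have := hM2.trans hL2.symm
      simp only [alpha] at this
      exact (mul_left_cancel₀ (Nat.cast_ne_zero.2 (Nat.factorial_ne_zero 2)) this).symm
    · rw [habove hLi hpL j hj2, habove hM hpM j hj2]
  have hpC := (H25Euler.polyLE_of_mono hLa hF hLc g hpF hpL).2
  have hCc := H10Coh.isCoh_cokernel g hF.1 hLc
  let U : S.Opens := ⟨(CohB1.support (cokernel g))ᶜ, (H10Coh.isClosed_support _ hCc.2).isOpen_compl⟩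
  have hU2 : ∀ x : S, x ∉ U → (2 : WithBot ℕ∞) ≤ ringKrullDim (S.presheaf.stalk x) := fun x hx => by
    have hmem : x ∈ CohB1.support (cokernel g) := not_not.1 hx
    have hC0 : ¬ IsZero (cokernel g) := fun h => by
      rw [support_eq_empty_of_isZero h] at hmem
      exact hmem
    obtain ⟨d, hd⟩ := H10Coh.StabBC.exists_dim_eq hC0 (m := 2 + 1) ((topologicalKrullDim_subspace_le S _).trans_lt
      (lt_succ_of_dim_eq hX))
    obtain ⟨-, -, hpos⟩ := degree_hilbPoly hLa hCc hd hpC
    have hd0 : d = 0 := by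
      by_contra hne
      exact hpos.ne' (hFL d (Nat.one_le_iff_ne_zero.2 hne))
    exact two_le_dim_stalk (k := k) hX (H10Coh.isClosed_support _ hCc.2) hd.le (by omega) hmem
  -- off that set the extension splits
  let R := Scheme.Modules.restrictFunctor U.ι
  haveI : IsIso (R.map g) := (H17.QCohLoc.isIso_restrict_iff U g).2
    ⟨by rw [support_eq_empty_of_isZero hgz]; exact Set.empty_subset _, fun x hx => fun h => h hx⟩
  haveI : Mono (R.map ι) := R.map_mono ι
  haveI : IsIso (R.map (i ≫ b) ≫ R.map ι) := by rw [← R.map_comp]; infer_instance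
  haveI : Epi (R.map ι) := epi_of_epi (R.map (i ≫ b)) (R.map ι)
  haveI := isIso_of_mono_of_epi (R.map ι)
  have hib : IsIso (R.map (i ≫ b)) := by
    have e : R.map (i ≫ b) = R.map g ≫ inv (R.map ι) := by
      rw [IsIso.eq_comp_inv, ← R.map_comp]
    rw [e]; infer_instance
  let sp := ShortComplex.Splitting.ofExactOfSection ((ShortComplex.mk a b w).map R) (hex.exact.map R)
    (@inv _ _ _ _ (R.map (i ≫ b)) hib ≫ R.map i)
    (by
      show (@inv _ _ _ _ (R.map (i ≫ b)) hib ≫ R.map i) ≫ R.map b = 𝟙 _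
      rw [Category.assoc, ← R.map_comp, IsIso.inv_hom_id])
    (R.map_mono a)
  obtain ⟨r, hr⟩ := exists_extension_reflexive hnor U hU2 hOc hOr a sp.r sp.f_r
  exact hns r hr

end Groth.Agent.S15849
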