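import Groth.Statements.S15850
import Groth.Agent.H27CurveHilb.Points
import Groth.Agent.H27CurveHilb.Chart
import Groth.Agent.H27Fogarty.Base
import Groth.Agent.H27Fogarty.FiniteType
import Groth.Agent.H22Alg.PnBC

set_option linter.style.haveILetI false
set_option backward.isDefEq.respectTransparency false
set_option backward.isDefEq.respectTransparency.types false

set_option autoImplicit false
universe u
open CategoryTheory CategoryTheory.Limits AlgebraicGeometry
open HilbD

namespace Groth.Agent.S15850

/-- Let k be an algebraically closed field of characteristic zero, S a smooth projective surface over k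
(integral, smooth over k, of dimension two, with a closed immersion over k into some projective
space) and C ⊆ S a non-empty effective Cartier divisor, i.e. a closed subscheme whose ideal is
locally generated by one nonzerodivisor (C may be reducible and non-reduced). If a k-scheme H with
an object Z of Hilb^d(C)(H) represents the Hilbert functor of d points of C over k (closed
subschemes of C ×_k T finite locally free of degree d over T), then the topological Krull dimension
of H is d. (The published lemma concerns the zero scheme of a section of a power of the polarisation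
on a K3 surface; its argument uses only that C is a curve on a smooth surface, which is the
generality taken here.) -/
theorem result
    (k : Type u) [Field k] [IsAlgClosed k] [CharZero k]
    (S : Scheme.{u}) [S.Over (Spec (CommRingCat.of k))] [IsIntegral S]
    [Smooth (S ↘ Spec (CommRingCat.of k))] (hdim : topologicalKrullDim S = 2)
    [IsProper (S ↘ Spec (CommRingCat.of k))]
    (hproj : ∃ (n : ℕ) (ι : S ⟶ CohB1.ProjSpace n k), IsClosedImmersion ι ∧
      ι ≫ CohB1.ProjSpace.toSpec n k = S ↘ Spec (CommRingCat.of k))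
    (I : S.IdealSheafData) (hI : FGA.IsEffCartier I) [Nonempty I.subscheme]
    (d : ℕ) (H : Over (Spec (CommRingCat.of k)))
    (Z : HilbD.Obj (I.subschemeι ≫ (S ↘ Spec (CommRingCat.of k))) d H)
    (hH : HilbD.IsUniversal (I.subschemeι ≫ (S ↘ Spec (CommRingCat.of k))) d H Z) :
    topologicalKrullDim H.left = (d : WithBot ℕ∞) := by
  haveI : LocallyOfFiniteType (S ↘ Spec (CommRingCat.of k)) := inferInstance
  haveI : IsSeparated (S ↘ Spec (CommRingCat.of k)) := inferInstance
  have hqp : RelProj.IsHQuasiProjective (S ↘ Spec (CommRingCat.of k)) := by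
    obtain ⟨n, ι, hι, e⟩ := hproj
    obtain ⟨φ, hφ⟩ := H22Alg.PnBC.isPullback_projSpaceOver n k
    haveI := hι
    refine ⟨n, ι ≫ φ.inv, inferInstance, inferInstance, ?_⟩
    rw [Category.assoc, ← hφ, Iso.inv_hom_id_assoc, e]
  -- finitely many points lie in an affine open of the surface
  have hfin : ∀ E : Set I.subscheme, E.Finite → ∃ V : S.affineOpens, E ⊆ I.subschemeι ⁻¹' (V.1 : Set S) := by
    intro E hE
    obtain ⟨m, x, hx⟩ := hE.fin_embedding
    obtain ⟨U, hU, hUx⟩ := H27Fogarty.exists_affine_of_isHQuasiProjective hqp fun i => I.subschemeι (x i)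
    exact ⟨⟨U, hU⟩, fun y hy => by
      obtain ⟨i, rfl⟩ := hx.superset hy
      exact hUx i⟩
  haveI : LocallyOfFiniteType H.hom := by
    refine H27Fogarty.locallyOfFiniteType (I.subschemeι ≫ (S ↘ Spec (CommRingCat.of k))) (fun x => ?_) H Z hH
    obtain ⟨V, hV⟩ := hfin (Set.range x) (Set.finite_range x)
    exact ⟨I.subschemeι ⁻¹ᵁ V.1, V.2.preimage I.subschemeι, fun i => hV ⟨i, rfl⟩⟩
  rw [H8Props.FieldDim.dim_eq_iSup_cdim]
  refine le_antisymm (iSup_le fun h => H27CurveHilb.cdim_le (I.subschemeι ≫ (S ↘ Spec (CommRingCat.of k))) Z hH (fun E hE => ?_) h) ?_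
  · obtain ⟨V, hV⟩ := hfin E hE
    obtain ⟨alg, hVg⟩ := H8Props.FieldDim.exists_algebra_chart (S ↘ Spec (CommRingCat.of k)) (A := Γ(S, V.1)) V.2.fromSpec
    haveI := H8Props.FieldDim.finiteType_of_chart (S ↘ Spec (CommRingCat.of k)) (A := Γ(S, V.1)) V.2.fromSpec hVg
    obtain ⟨hop, hw, hr⟩ := H27CurveHilb.subchart (S ↘ Spec (CommRingCat.of k)) I V hVg
    refine ⟨Γ(S, V.1) ⧸ I.ideal V, inferInstance, inferInstance,
      Algebra.FiniteType.trans (R := k) (S := Γ(S, V.1)) inferInstance inferInstance,
      I.subschemeCover.f V, hop, hw, hr.symm ▸ hV,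
      H27CurveHilb.ringKrullDim_quotient_le_one (S ↘ Spec (CommRingCat.of k)) I hdim hI V hVg,
      fun L _ _ χ => H27CurveHilb.genTwo_chart (S ↘ Spec (CommRingCat.of k)) I hdim V hVg L χ⟩
  · obtain ⟨V, alg, hVg, p, hp, hp1⟩ := H27CurveHilb.exists_one_dim_component (S ↘ Spec (CommRingCat.of k)) I hdim hI
    haveI := H8Props.FieldDim.finiteType_of_chart (S ↘ Spec (CommRingCat.of k)) (A := Γ(S, V.1)) V.2.fromSpec hVg
    haveI : Algebra.FiniteType k (Γ(S, V.1) ⧸ I.ideal V) :=
      Algebra.FiniteType.trans (R := k) (S := Γ(S, V.1)) inferInstance inferInstance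
    obtain ⟨hop, hw, -⟩ := H27CurveHilb.subchart (S ↘ Spec (CommRingCat.of k)) I V hVg
    haveI := hop
    haveI := hp
    obtain ⟨h, hh⟩ := H27CurveHilb.exists_le_cdim (I.subschemeι ≫ (S ↘ Spec (CommRingCat.of k))) Z hH (I.subschemeCover.f V) hw p hp1
    exact hh.trans (le_iSup (fun x => H8Props.FieldDim.cdim x) h)

end Groth.Agent.S15850
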