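import Groth.Statements.S15851
import Groth.Agent.H7ExtEdge.Bidual
import Groth.Agent.H7ExtEdge.Main
import Groth.Agent.S15848
import Groth.Agent.H27KZero.AmpleRes
import Groth.Agent.H11Ample.Converse
import Groth.Agent.H02CA.SurfStab.Main
-- import your own Groth.Agent.* helpers here

set_option autoImplicit false
universe u
open CategoryTheory CategoryTheory.Limits AlgebraicGeometry
attribute [local instance] HasDerivedCategory.standard
open Surf

namespace Groth.Agent.S15851

/-- Let k be an algebraically closed field of characteristic zero, S a smooth projective surface over k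
(integral, smooth over k, of dimension two, with a closed immersion over k into some projective
space) and ω an O_S-module which is a second exterior power of the sheaf of differentials of S over
k (the canonical sheaf). Let j : C → S be a closed immersion with C integral of dimension one and A
a coherent O_C-module with torsion-free stalks and one-dimensional generic stalk (a rank-one
torsion-free sheaf on C). Put A^* = Ext^1_{O_S}(j_*A, ω), the value at ω of the first right derived
functor of the sheaf Hom functor Hom_{O_S}(j_*A, -) (taken as the right adjoint of j_*A ⊗ -). Then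
Ext^1_{O_S}(A^*, ω) is isomorphic to j_*A: the operation A ↦ A^* is an involution up to isomorphism
(existence of an isomorphism only). (The instance binders on sheaf Hom functors and injective
resolutions always hold.) -/
theorem result
    (k : Type u) [Field k] [IsAlgClosed k] [CharZero k]
    (S : Scheme.{u}) [S.Over (Spec (CommRingCat.of k))] [IsIntegral S]
    [Smooth (S ↘ Spec (CommRingCat.of k))] (hdim : topologicalKrullDim S = 2)
    [IsProper (S ↘ Spec (CommRingCat.of k))]
    (hproj : ∃ (n : ℕ) (ι : S ⟶ CohB1.ProjSpace n k), IsClosedImmersion ι ∧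
      ι ≫ CohB1.ProjSpace.toSpec n k = S ↘ Spec (CommRingCat.of k))
    [HasInjectiveResolutions S.Modules]
    (ω : S.Modules) (hω : Canon.IsTopDiff (S ↘ Spec (CommRingCat.of k)) 2 ω)
    (C : Scheme.{u}) (j : C ⟶ S) [IsClosedImmersion j] [IsIntegral C]
    (hC : topologicalKrullDim C = 1)
    (M : C.Modules) (hM : Coh.IsCoh M) (hMtf : TorSh.IsTorsionFree M)
    (hrk : Module.finrank (C.presheaf.stalk (genericPoint C)) (M.presheaf.stalk (genericPoint C)) = 1)
    [DCoh.HasSheafHom ((Coh.push j).obj M)] [(DCoh.sheafHom ((Coh.push j).obj M)).Additive]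
    [DCoh.HasSheafHom (((DCoh.sheafHom ((Coh.push j).obj M)).rightDerived 1).obj ω)]
    [(DCoh.sheafHom (((DCoh.sheafHom ((Coh.push j).obj M)).rightDerived 1).obj ω)).Additive] :
    Nonempty (((DCoh.sheafHom (((DCoh.sheafHom ((Coh.push j).obj M)).rightDerived 1).obj ω)).rightDerived 1).obj ω ≅ (Coh.push j).obj M) := by
  haveI : IsLocallyNoetherian S := LocallyOfFiniteType.isLocallyNoetherian (S ↘ Spec (CommRingCat.of k))
  haveI : SmoothOfRelativeDimension 2 (S ↘ Spec (CommRingCat.of k)) :=
    H27CurveDiv.smoothOfRelativeDimension_of_dim _ 2 (by exact_mod_cast hdim)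
  haveI : IsLocallyNoetherian C := LocallyOfFiniteType.isLocallyNoetherian (j ≫ S ↘ Spec (CommRingCat.of k))
  have hinv := H26Canon.isInvertible_of_isTopDiff (S ↘ Spec (CommRingCat.of k)) 2 hω
  have hωf := H22Alg.KModel.finLocFree_invertible hinv
  have hgen : genericPoint S ∉ Set.range j.base := by
    intro hη
    have hu : Set.range j.base = Set.univ := by
      refine Set.eq_univ_of_univ_subset ?_
      rw [← (genericPoint_spec S)]
      exact closure_minimal (Set.singleton_subset_iff.2 hη) j.isClosedEmbedding.isClosed_range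
    have h := IsHomeomorph.topologicalKrullDim_eq j.base
      (isHomeomorph_iff_isEmbedding_surjective.2 ⟨j.isClosedEmbedding.isEmbedding, Set.range_eq_univ.1 hu⟩)
    rw [hC, hdim] at h
    exact absurd h (by norm_num)
  have hsub : Subsingleton (((Coh.push j).obj M).presheaf.stalk (genericPoint S)) :=
    H17.PushColim.subsingleton_stalk_push j j.isClosedEmbedding M hgen
  have hcoh : Coh.IsCoh ((Coh.push j).obj M) := H24FSch.isCoh_pushforward_of_isClosedImmersion j hM
  have h0 := H7ExtEdge.isZero_sheafHom ((Coh.push j).obj M) ω hsub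
    (H11Ample.isCoh_of_isInvertible hinv)
    (H25Par.isTorsionFree_of_locFree hωf)
  obtain ⟨n, ι, hι, hιs⟩ := hproj
  obtain ⟨L, hL⟩ : ∃ L : S.Modules, CohB1.IsAmple L := by
    exact ⟨_, H11Ample.isAmple_pullback_of_isAffineHom ι (H11Ample.isAmple_twistProjSpace n k)⟩
  obtain ⟨E, p, hE, hp⟩ := H27KZero.exists_epi_finLocFree hL _ hcoh
  have hK := S15848.result k S hdim C j hC M hM hMtf E hE p
  let T := ShortComplex.mk (kernel.ι p) p (kernel.condition p)
  have hT : T.ShortExact := { exact := ShortComplex.exact_of_f_is_kernel _ (kernelIsKernel p) }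
  let ρ : ∀ (F : S.Modules) [DCoh.HasSheafHom F], DCoh.sheafHom F ≅ H10Inj.SheafExt.homFunctor F :=
    fun F _ => (DCoh.sheafHomAdj F).rightAdjointUniq (H10Inj.SheafExt.homAdj F)
  obtain ⟨A, ⟨a⟩, ⟨b⟩⟩ := H7ExtEdge.nonempty_bidual_iso T hT hK hE hωf
    (fun x => ⟨(H02CA.SurfStab.stalkFree_one hinv x).some.equivFun.trans (LinearEquiv.funUnique (Fin 1) _ _)⟩)
    (h0.of_iso ((ρ _).app ω).symm)
  let e₁ : A ≅ ((DCoh.sheafHom ((Coh.push j).obj M)).rightDerived 1).obj ω :=
    a ≪≫ ((H02CA.ModLocalise.rdMapIso (ρ _) 1).app ω).symm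
  exact ⟨(H02CA.ModLocalise.rdMapIso (ρ _ ≪≫ H10Inj.SheafExt.homCongrIso e₁.symm) 1).app ω ≪≫ b⟩

end Groth.Agent.S15851
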