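import Groth.Statements.S15853
import Groth.Agent.H10Coh.K3Surf.Main
-- import your own Groth.Agent.* helpers here

set_option autoImplicit false
universe u
open CategoryTheory CategoryTheory.Limits AlgebraicGeometry Polynomial
open ShStab

namespace Groth.Agent.S15853

open Groth.Agent
open Groth.Agent.H10Coh.K3Surf Groth.Agent.H10Coh.Stab

set_option backward.isDefEq.respectTransparency.types false
set_option linter.style.haveILetI false
set_option maxHeartbeats 1600000

/-- Let k be an algebraically closed field of characteristic zero and S a K3 surface over k — a smooth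
projective surface (integral, smooth over k, of dimension two, with a closed immersion over k into
some projective space) whose structure sheaf is a second exterior power of its sheaf of
differentials and with H^1(S, O_S) = 0 — whose Picard group is infinite cyclic, generated by the
class of an ample invertible sheaf L. Let V be a coherent O_S-module with torsion-free stalks,
stable of dimension two with respect to L, and let P be its Hilbert polynomial with respect to L,
P(m) = χ(V ⊗ L^m). Assume: the leading coefficient of P is twice that of the Hilbert polynomial of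
O_S (V has rank two); the coefficients of m and of m^2 in P agree (on such a surface this says
c_1(V)·L = L^2, i.e. the first Chern class of V is the class of L); and P(0) = χ(V) ≥ 1
(equivalently c_2(V) ≤ L^2/2 + 3). Then V is an extension of L ⊗ I_Z by O_S for some finite
subscheme Z: there are a coherent subsheaf N ⊆ L with L/N supported in dimension at most zero and a
short exact sequence 0 → O_S → V → N → 0, which moreover does not split. -/
theorem result
    (k : Type u) [Field k] [IsAlgClosed k] [CharZero k]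
    (S : Scheme.{u}) [S.Over (Spec (CommRingCat.of k))] [IsIntegral S]
    [Smooth (S ↘ Spec (CommRingCat.of k))] (hdim : topologicalKrullDim S = 2)
    [IsProper (S ↘ Spec (CommRingCat.of k))]
    (hproj : ∃ (n : ℕ) (ι : S ⟶ CohB1.ProjSpace n k), IsClosedImmersion ι ∧
      ι ≫ CohB1.ProjSpace.toSpec n k = S ↘ Spec (CommRingCat.of k))
    (hK : Canon.IsTopDiff (S ↘ Spec (CommRingCat.of k)) 2 (Coh.structureModule S))
    (hq : Module.finrank k (Coh.HH S (Coh.structureModule S) 1) = 0)
    (L : S.Modules) (hLi : PicF.IsInvertible L) (hLa : CohB1.IsAmple L)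
    [PicGrp.Law S] (hgen : ∀ c : PicLoc.PicSet S, ∃ n : ℤ, c = PicGrp.cls L hLi ^ n)
    (hfree : ∀ n : ℤ, PicGrp.cls L hLi ^ n = 1 → n = 0)
    (V : S.Modules) (hV : Coh.IsCoh V) (hVtf : TorSh.IsTorsionFree V)
    (hst : ShStab.IsStable k S L V 2)
    (P PO : ℚ[X]) (hP : ShStab.IsHilbPoly k S L V P)
    (hPO : ShStab.IsHilbPoly k S L (Coh.structureModule S) PO)
    (hrk : P.coeff 2 = 2 * PO.coeff 2) (hc1 : P.coeff 1 = P.coeff 2) (hchi : 1 ≤ P.coeff 0) :
    ∃ (N : S.Modules) (ι : N ⟶ L) (_ : Mono ι) (_ : Coh.IsCoh N)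
      (_ : topologicalKrullDim (CohB1.support (cokernel ι)) ≤ 0)
      (a : Coh.structureModule S ⟶ V) (b : V ⟶ N) (w : a ≫ b = 0),
      (ShortComplex.mk a b w).ShortExact ∧
        ∀ r : V ⟶ Coh.structureModule S, a ≫ r ≠ 𝟙 (Coh.structureModule S) := by
  obtain rfl : ‹PicGrp.Law S› = H28Vert.picLaw S := Subsingleton.elim _ _
  letI := H28Vert.picLaw S
  haveI := isLocallyNoetherian_of_proper (Z := S) k
  have hX : topologicalKrullDim S = ((2 : ℕ) : WithBot ℕ∞) := by exact_mod_cast hdim
  obtain ⟨r, j, hj, hjk⟩ := hproj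
  haveI := hj
  have d : RankTwo k L V P PO := ⟨hX, hLa, hst, hP, hPO, coeff_one_structure hX hK hLa hPO, hrk, hc1⟩
  obtain ⟨A, hA, s, ha, hs⟩ := d.exists_hom hK j hjk 0 (by
    rw [Nat.cast_zero, ← Polynomial.coeff_zero_eq_eval_zero]; exact hchi)
  rw [Nat.cast_zero, neg_zero] at ha
  obtain ⟨c, W, ι', φ, M, hM, χ, M', hM', ψ, hac, hc0, hc, hb, hsm, hφ, hι', hχ, hψ, hW, hQ, -, -, hdψ⟩ :=
    d.exists_extension hgen hA ha s hs
  obtain rfl : c = 0 := le_antisymm hc0 hac
  haveI := hsm
  haveI := hι'
  haveI := hχ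
  haveI := hψ
  have hO : PicF.IsInvertible (Coh.structureModule S) := H11Proj.isInvertible_structureModule
  obtain ⟨eAM⟩ := (PicGrp.cls_eq_cls_iff hA hM).1 (ha.trans hc.symm)
  obtain ⟨eA⟩ := (PicGrp.cls_eq_one_iff hA).1 (by rw [ha, zpow_zero])
  haveI : Mono φ := mono_of_mono_fac hφ
  haveI : IsIso (φ ≫ χ ≫ eAM.inv) :=
    isIso_endo k hLa (isPure_inv (k := k) hX hA) (H11Ample.isCoh_of_isInvertible hA) (φ ≫ χ ≫ eAM.inv)
  haveI : IsSplitEpi (χ ≫ eAM.inv) := IsSplitEpi.mk' ⟨inv (φ ≫ χ ≫ eAM.inv) ≫ φ, by simp⟩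
  haveI : IsIso (χ ≫ eAM.inv) := isIso_of_mono_of_epi _
  haveI : IsIso φ := IsIso.of_isIso_comp_right φ (χ ≫ eAM.inv)
  let a : Coh.structureModule S ⟶ V := eA.inv ≫ φ ≫ ι'
  haveI : Mono a := inferInstance
  let eN : cokernel a ≅ cokernel ι' :=
    cokernelIsoOfEq (show a = (eA.inv ≫ φ) ≫ ι' from (Category.assoc _ _ _).symm) ≪≫ cokernelEpiComp _ _
  obtain ⟨θ, hθ, hdθ⟩ := exists_twist (Q := cokernel ι') hM' hLi (hb.trans (by rw [sub_zero, zpow_one])) ψ hdψ
  haveI := hθ
  refine ⟨cokernel a, eN.hom ≫ θ, inferInstance,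
    H10Coh.isCoh_cokernel a (H10Coh.isCoh_structureModule' S).1 hV, ?_, a, cokernel.π a, cokernel.condition a,
    { exact := ShortComplex.exact_cokernel a }, fun r hr => ?_⟩
  · rw [H16Derived.MVPush.support_iso (cokernelEpiComp eN.hom θ)]
    exact hdθ
  · have h0 : r = 0 := d.hom_eq_zero hO le_rfl (by
      rw [zpow_zero]; exact (PicGrp.cls_eq_one_iff hO).2 ⟨Iso.refl _⟩) r
    rw [h0, Limits.comp_zero] at hr
    have hz := (IsZero.iff_id_eq_zero (Coh.structureModule S)).2 hr.symm
    have hmem := H25Euler.mem_support_structure (X := S) (genericPoint S)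
    rw [H10Coh.Stab.support_eq_empty_of_isZero hz] at hmem
    exact hmem

end Groth.Agent.S15853
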