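import Groth.Statements.S15854
import Groth.Agent.H10Coh.K3Surf.Main
-- import your own Groth.Agent.* helpers here

set_option autoImplicit false
universe u
open CategoryTheory CategoryTheory.Limits AlgebraicGeometry Polynomial
open ShStab

namespace Groth.Agent.S15854

open Groth.Agent
open Groth.Agent.H10Coh.K3Surf Groth.Agent.H10Coh.Stab

set_option backward.isDefEq.respectTransparency.types false
set_option linter.style.haveILetI false
set_option maxHeartbeats 1600000

/-- Let k be an algebraically closed field of characteristic zero and S a K3 surface over k — a smooth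
projective surface (integral, smooth over k, of dimension two, with a closed immersion over k into
some projective space) whose structure sheaf is a second exterior power of its sheaf of
differentials and with H^1(S, O_S) = 0 — whose Picard group is infinite cyclic, generated by the
class of an ample invertible sheaf L. Let V be a locally free O_S-module of rank two, stable of
dimension two with respect to L, with Hilbert polynomial P, P(m) = χ(V ⊗ L^m), such that the
coefficients of m and m^2 in P agree (c_1(V)·L = L^2, i.e. the first Chern class of V is the class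
of L), and let n be a natural number with P(n) = χ(V ⊗ L^n) ≥ 1 (by Riemann–Roch this is the bound
c_2(V) ≤ (n^2 + n + 1/2) L^2 + 3). Then V is an extension of type m for some m ≤ n: there are a
natural number m ≤ n, an invertible O_S-module M whose class is the inverse of the class of L^{⊗m},
a coherent subsheaf N ⊆ L^{⊗(m+1)} whose quotient is supported in dimension at most zero (N is
L^{⊗(m+1)} twisted by the ideal of a finite subscheme Z_m), and a short exact sequence 0 → M → V → N
→ 0. (The published statement also records the length of Z_m as c_2 + m(m+1)L^2; that Chern-class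
bookkeeping is not restated here. The published statement also assumes the lower bound c_2 >
((n-1)^2 + (n-1) + 1/2) L^2 + 3 with n ≥ 1; the argument uses only the upper bound, and neither the
lower bound nor n ≥ 1 is assumed here.) -/
theorem result
    (k : Type u) [Field k] [IsAlgClosed k] [CharZero k]
    (S : Scheme.{u}) [S.Over (Spec (CommRingCat.of k))] [IsIntegral S]
    [Smooth (S ↘ Spec (CommRingCat.of k))] (hdim : topologicalKrullDim S = 2)
    [IsProper (S ↘ Spec (CommRingCat.of k))]
    (hproj : ∃ (n : ℕ) (ι : S ⟶ CohB1.ProjSpace n k), IsClosedImmersion ι ∧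
      ι ≫ CohB1.ProjSpace.toSpec n k = S ↘ Spec (CommRingCat.of k))
    (hK : Canon.IsTopDiff (S ↘ Spec (CommRingCat.of k)) 2 (Coh.structureModule S))
    (hq : Module.finrank k (Coh.HH S (Coh.structureModule S) 1) = 0)
    (L : S.Modules) (hLi : PicF.IsInvertible L) (hLa : CohB1.IsAmple L)
    [PicGrp.Law S] (hgen : ∀ c : PicLoc.PicSet S, ∃ n : ℤ, c = PicGrp.cls L hLi ^ n)
    (hfree : ∀ n : ℤ, PicGrp.cls L hLi ^ n = 1 → n = 0)
    (V : S.Modules) (hV : FlatMod.IsFinLocFreeOfRank 2 V)
    (hst : ShStab.IsStable k S L V 2)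
    (P : ℚ[X]) (hP : ShStab.IsHilbPoly k S L V P) (hc1 : P.coeff 1 = P.coeff 2)
    (n : ℕ) (hn : 1 ≤ P.eval (n : ℚ)) :
    ∃ (m : ℕ) (_ : m ≤ n) (M : S.Modules) (hM : PicF.IsInvertible M)
      (_ : PicGrp.cls M hM * PicGrp.cls L hLi ^ m = 1)
      (N : S.Modules) (ι : N ⟶ CohB1.tensorPow L (m + 1)) (_ : Mono ι) (_ : Coh.IsCoh N)
      (_ : topologicalKrullDim (CohB1.support (cokernel ι)) ≤ 0)
      (a : M ⟶ V) (b : V ⟶ N) (w : a ≫ b = 0),
      (ShortComplex.mk a b w).ShortExact := by
  obtain rfl : ‹PicGrp.Law S› = H28Vert.picLaw S := Subsingleton.elim _ _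
  letI := H28Vert.picLaw S
  haveI := isLocallyNoetherian_of_proper (Z := S) k
  haveI : CompactSpace S := hLa.2.1
  have hX : topologicalKrullDim S = ((2 : ℕ) : WithBot ℕ∞) := by exact_mod_cast hdim
  have hreg : ∀ x : S, IsRegularLocalRing (S.presheaf.stalk x) := fun x =>
    H19Grp.isRegularLocalRing_stalk_of_smooth (S ↘ Spec (CommRingCat.of k)) x
  obtain ⟨r, j, hj, hjk⟩ := hproj
  haveI := hj
  have hVc : Coh.IsCoh V := hst.1
  have hVf := H22Alg.KModel.finLocFree_of_rank hV
  have hVr : RefHull.IsReflexive V := H02CA.SurfStab.isReflexive_of_vb hVf hVc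
  obtain ⟨PO, hPO⟩ := H02CA.SurfStab.exists_poly (k := k) hLa hX (H10Coh.isCoh_structureModule' S)
  have hrk : P.coeff 2 = 2 * PO.coeff 2 := by
    rw [H25Euler.coeff_hilbPoly_eq_genRank_mul k hLa hX hPO hVc hP,
      show H25Euler.genRank V = 2 from H28RR.LazMuk.finrank_generic_of_rank hV]
    norm_num
  have d : RankTwo k L V P PO := ⟨hX, hLa, hst, hP, hPO, coeff_one_structure hX hK hLa hPO, hrk, hc1⟩
  obtain ⟨A, hA, s, ha, hs⟩ := d.exists_hom hK j hjk n hn
  obtain ⟨c, W, ι', φ, M, hM, χ, M', hM', ψ, hac, hc0, hc, hb, -, hφ, hι', hχ, hψ, hW, hQ, hQp, hdχ, hdψ⟩ :=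
    d.exists_extension hgen hA ha s hs
  haveI := hι'
  haveI := hχ
  haveI := hψ
  have hMc := H11Ample.isCoh_of_isInvertible hM
  obtain ⟨g, hg⟩ := exists_extension (k := k) hX hreg hW hMc hVc hVr χ hdχ ι'
  have hgQ : g ≫ cokernel.π ι' = 0 := eq_zero_of_small (k := k) hW hMc hQ hQp χ hdχ _
    (by rw [← Category.assoc, hg, cokernel.condition])
  obtain ⟨q, hq⟩ := KernelFork.IsLimit.lift' (Abelian.monoIsKernelOfCokernel _ (cokernelIsCokernel ι')) g hgQ
  change q ≫ ι' = g at hq
  have h1 : χ ≫ q = 𝟙 W := by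
    rw [← cancel_mono ι', Category.assoc, hq, hg, Category.id_comp]
  have h2 : q ≫ χ = 𝟙 M := sub_eq_zero.1 (eq_zero_of_small (k := k) hW hMc hMc (isPure_inv (k := k) hX hM) χ hdχ
    (q ≫ χ - 𝟙 M) (by rw [Preadditive.comp_sub, ← Category.assoc, h1, Category.id_comp, Category.comp_id, sub_self]))
  haveI : IsIso q := ⟨⟨χ, h2, h1⟩⟩
  let a : M ⟶ V := q ≫ ι'
  haveI : Mono a := inferInstance
  obtain ⟨m, rfl⟩ : ∃ m : ℕ, c = -(m : ℤ) := ⟨(-c).toNat, by omega⟩
  have hT := H28Vert.isInvertible_tensorPow hLi (m + 1)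
  obtain ⟨θ, hθ, hdθ⟩ := exists_twist (Q := cokernel ι') hM' hT (by
    rw [hb, H28Vert.cls_tensorPow hLi, ← zpow_natCast]
    congr 1
    push_cast
    ring) ψ hdψ
  haveI := hθ
  let eN : cokernel a ≅ cokernel ι' := cokernelEpiComp q ι'
  refine ⟨m, by omega, M, hM, by rw [hc, zpow_neg, zpow_natCast, inv_mul_cancel], cokernel a, eN.hom ≫ θ,
    inferInstance, H10Coh.isCoh_cokernel a hMc.1 hVc, ?_, a, cokernel.π a, cokernel.condition a,
    { exact := ShortComplex.exact_cokernel a }⟩
  rw [H16Derived.MVPush.support_iso (cokernelEpiComp eN.hom θ)]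
  exact hdθ

end Groth.Agent.S15854
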