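import Groth.Statements.S15855
import Groth.Agent.H7ExtEdge.Double
-- import your own Groth.Agent.* helpers here

set_option autoImplicit false
universe u
open CategoryTheory CategoryTheory.Limits AlgebraicGeometry
attribute [local instance] HasDerivedCategory.standard
open Surf

namespace Groth.Agent.S15855

/-- Let k be an algebraically closed field of characteristic zero, S a smooth projective surface over k
(integral, smooth over k, of dimension two, with a closed immersion over k into some projective
space), ω an O_S-module which is a second exterior power of the sheaf of differentials of S over k,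
j : C → S a closed immersion with C integral of dimension one, and A a coherent O_C-module with
torsion-free stalks and one-dimensional generic stalk, with H^0(S, j_*A) ≠ 0 and H^1(S, j_*A) ≠ 0.
For a coherent O_S-module F write F^* = Ext^1_{O_S}(F, ω) (first right derived functor of the sheaf
Hom functor Hom_{O_S}(F, -), the right adjoint of F ⊗ -, at ω). Let A' ⊆ j_*A be the base-point-free
part of A: a globally generated coherent subsheaf such that H^0(S, A') → H^0(S, j_*A) is surjective
(the image of the evaluation map). Let B ⊆ A'^* be, likewise, a globally generated coherent subsheaf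
with H^0(S, B) → H^0(S, A'^*) surjective, and put A'' = B^*. Then both A'' and A''^* are globally
generated (quotients of free O_S-modules). -/
theorem result
    (k : Type u) [Field k] [IsAlgClosed k] [CharZero k]
    (S : Scheme.{u}) [S.Over (Spec (CommRingCat.of k))] [IsIntegral S]
    [Smooth (S ↘ Spec (CommRingCat.of k))] (hdim : topologicalKrullDim S = 2)
    [IsProper (S ↘ Spec (CommRingCat.of k))]
    (hproj : ∃ (n : ℕ) (ι : S ⟶ CohB1.ProjSpace n k), IsClosedImmersion ι ∧
      ι ≫ CohB1.ProjSpace.toSpec n k = S ↘ Spec (CommRingCat.of k))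
    [HasInjectiveResolutions S.Modules]
    (ω : S.Modules) (hω : Canon.IsTopDiff (S ↘ Spec (CommRingCat.of k)) 2 ω)
    (C : Scheme.{u}) (j : C ⟶ S) [IsClosedImmersion j] [IsIntegral C]
    (hC : topologicalKrullDim C = 1)
    (M : C.Modules) (hM : Coh.IsCoh M) (hMtf : TorSh.IsTorsionFree M)
    (hrk : Module.finrank (C.presheaf.stalk (genericPoint C)) (M.presheaf.stalk (genericPoint C)) = 1)
    (h0 : 0 < Module.finrank k (Coh.HH S ((Coh.push j).obj M) 0)) (h1 : 0 < Module.finrank k (Coh.HH S ((Coh.push j).obj M) 1))
    (A' : S.Modules) (ι₁ : A' ⟶ ((Coh.push j).obj M)) [Mono ι₁] (hA'c : Coh.IsCoh A')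
    (hA'g : Curv2.IsGloballyGenerated A') (hA'0 : Function.Surjective (Canon.HHlin k ι₁ 0))
    [DCoh.HasSheafHom A'] [(DCoh.sheafHom A').Additive]
    (B : S.Modules) (ι₂ : B ⟶ ((DCoh.sheafHom A').rightDerived 1).obj ω) [Mono ι₂] (hBc : Coh.IsCoh B)
    (hBg : Curv2.IsGloballyGenerated B) (hB0 : Function.Surjective (Canon.HHlin k ι₂ 0))
    [DCoh.HasSheafHom B] [(DCoh.sheafHom B).Additive]
    [DCoh.HasSheafHom (((DCoh.sheafHom B).rightDerived 1).obj ω)] [(DCoh.sheafHom (((DCoh.sheafHom B).rightDerived 1).obj ω)).Additive] :
    Curv2.IsGloballyGenerated (((DCoh.sheafHom B).rightDerived 1).obj ω) ∧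
      Curv2.IsGloballyGenerated (((DCoh.sheafHom (((DCoh.sheafHom B).rightDerived 1).obj ω)).rightDerived 1).obj ω) := by
  exact H7ExtEdge.isGloballyGenerated_double k S hdim hproj ω hω C j hC M hM hMtf A' ι₁ hA'c hA'g B ι₂ hBc hBg hB0

end Groth.Agent.S15855
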