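import Groth.Statements.S15856
import Groth.Agent.H10Coh.K3Surf.Main
import Groth.Agent.H10Coh.K3Surf.H1
import Groth.Agent.H10Coh.K3Surf.Residue
import Groth.Agent.H10Coh.K3Surf.LocalExt
import Groth.Agent.H28Alg.ExtOne
-- import your own Groth.Agent.* helpers here

set_option autoImplicit false
universe u
open CategoryTheory CategoryTheory.Limits AlgebraicGeometry
open ShStab

namespace Groth.Agent.S15856

open Groth.Agent
open Groth.Agent.H10Coh.K3Surf CategoryTheory.Abelian

set_option backward.isDefEq.respectTransparency.types false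
set_option linter.style.haveILetI false
set_option maxHeartbeats 1600000

/-- Extensions of a line bundle by a line bundle split on a K3 surface of Picard rank one. -/
theorem extClass_eq_zero {k : Type u} [Field k] {X : Scheme.{u}} [X.Over (Spec (CommRingCat.of k))]
    [HasExt.{u} X.Modules] [IsProper (X ↘ Spec (CommRingCat.of k))]
    (h1 : ∀ M : X.Modules, PicF.IsInvertible M → Module.finrank k (Coh.HH X M 1) = 0)
    {T : ShortComplex X.Modules} (hT : T.ShortExact) (h₁ : PicF.IsInvertible T.X₁) {M : X.Modules}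
    (hM : PicF.IsInvertible M) (e : T.X₃ ≅ M) : hT.extClass = 0 := by
  haveI := H10Coh.Stab.isLocallyNoetherian_of_proper (Z := X) k
  obtain ⟨N, hN, ⟨eMN⟩⟩ := H29RR.exists_inverse_comm hM
  have hI := H11Ample.isInvertible_tensor h₁ hN
  haveI := H10Coh.finite_HH_proper k X _ (H11Ample.isCoh_of_isInvertible hI) 1
  obtain ⟨⟨⟨σ, hσ⟩⟩⟩ := H29RR.isSplitEpi_of_h1 (k := k) hT hN (PicGrp.tensorModIso e (Iso.refl _) ≪≫ eMN)
    ((Module.finrank_zero_iff (R := k)).1 (h1 _ hI))
  have h := hT.comp_extClass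
  have h2 : (Ext.mk₀ σ).comp ((Ext.mk₀ T.g).comp hT.extClass (zero_add 1)) (zero_add 1) = 0 := by
    rw [h, Ext.comp_zero]
  rwa [Ext.mk₀_comp_mk₀_assoc, hσ, Ext.mk₀_id_comp] at h2

/-- Let k be an algebraically closed field of characteristic zero and S a K3 surface over k — a smooth
projective surface (integral, smooth over k, of dimension two, with a closed immersion over k into
some projective space) whose structure sheaf is a second exterior power of its sheaf of
differentials and with H^1(S, O_S) = 0 — whose Picard group is infinite cyclic, generated by the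
class of an ample invertible sheaf G. Let L and L' be invertible O_S-modules and N ⊆ L' a coherent
subsheaf whose quotient L'/N is supported in dimension at most zero (N is L' twisted by the ideal
sheaf of a finite subscheme Z). If the group Ext^1_{O_S}(N, L), computed in the category of all
O_S-modules with its k-linear structure (the Ext instance is the stated hypothesis; it holds), has
k-dimension at least 2, then there is a short exact sequence 0 → L → V → N → 0 which does not split
and whose middle term V is not a finite locally free O_S-module. -/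
theorem result
    (k : Type u) [Field k] [IsAlgClosed k] [CharZero k]
    (S : Scheme.{u}) [S.Over (Spec (CommRingCat.of k))] [IsIntegral S]
    [Smooth (S ↘ Spec (CommRingCat.of k))] (hdim : topologicalKrullDim S = 2)
    [IsProper (S ↘ Spec (CommRingCat.of k))]
    (hproj : ∃ (n : ℕ) (ι : S ⟶ CohB1.ProjSpace n k), IsClosedImmersion ι ∧
      ι ≫ CohB1.ProjSpace.toSpec n k = S ↘ Spec (CommRingCat.of k))
    (hK : Canon.IsTopDiff (S ↘ Spec (CommRingCat.of k)) 2 (Coh.structureModule S))
    (hq : Module.finrank k (Coh.HH S (Coh.structureModule S) 1) = 0)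
    (G : S.Modules) (hGi : PicF.IsInvertible G) (hGa : CohB1.IsAmple G)
    [PicGrp.Law S] (hgen : ∀ c : PicLoc.PicSet S, ∃ n : ℤ, c = PicGrp.cls G hGi ^ n)
    (hfree : ∀ n : ℤ, PicGrp.cls G hGi ^ n = 1 → n = 0)
    [HasExt.{u} S.Modules]
    (L L' : S.Modules) (hL : PicF.IsInvertible L) (hL' : PicF.IsInvertible L')
    (N : S.Modules) (ι : N ⟶ L') [Mono ι] (hN : Coh.IsCoh N)
    (hZ : topologicalKrullDim (CohB1.support (cokernel ι)) ≤ 0)
    (h2 : 2 ≤ Module.finrank k (Abelian.Ext N L 1)) :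
    ∃ (V : S.Modules) (a : L ⟶ V) (b : V ⟶ N) (w : a ≫ b = 0),
      (ShortComplex.mk a b w).ShortExact ∧ (∀ r : V ⟶ L, a ≫ r ≠ 𝟙 L) ∧
        ¬ FlatMod.IsFinLocFree V := by
  obtain rfl : ‹PicGrp.Law S› = H28Vert.picLaw S := Subsingleton.elim _ _
  letI := H28Vert.picLaw S
  haveI := H10Coh.Stab.isLocallyNoetherian_of_proper (Z := S) k
  haveI : CompactSpace S := hGa.2.1
  have hX : topologicalKrullDim S = ((2 : ℕ) : WithBot ℕ∞) := by exact_mod_cast hdim
  have hreg : ∀ x : S, IsRegularLocalRing (S.presheaf.stalk x) := fun x =>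
    H19Grp.isRegularLocalRing_stalk_of_smooth (S ↘ Spec (CommRingCat.of k)) x
  have h1 : ∀ M : S.Modules, PicF.IsInvertible M → Module.finrank k (Coh.HH S M 1) = 0 := fun M hM => by
    have h := hc_one_eq_zero k hdim hK hq (g := PicGrp.cls G hGi)
      (H11Ample.isAmple_of_iso (H28RR.PicNum.nonempty_rep_iso hGi).some.symm hGa) hgen (PicGrp.cls M hM)
    rwa [H28RR.PicNum.hc_cls k 1 hM] at h
  have hLc := H11Ample.isCoh_of_isInvertible hL'
  have hd : topologicalKrullDim (CohB1.support (cokernel ι)) < ((1 : ℕ) : WithBot ℕ∞) :=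
    lt_of_le_of_lt hZ (by exact_mod_cast one_pos)
  have hC := H10Coh.isCoh_cokernel ι hN.1 hLc
  -- two independent classes
  obtain ⟨e₁, he₁⟩ : ∃ e : Ext N L 1, e ≠ 0 := by
    haveI : Nontrivial (Ext N L 1) := Module.nontrivial_of_finrank_pos (R := k) (by omega)
    exact exists_ne 0
  obtain ⟨e₂, he₂⟩ : ∃ e : Ext N L 1, ∀ c : k, e ≠ c • e₁ := by
    by_contra hall
    push Not at hall
    have h := finrank_le_one e₁ (fun w => (hall w).imp fun c hc => hc.symm)
    omega
  obtain ⟨V₁, a₁, b₁, w₁, hS₁, hc₁⟩ := H28Alg.exists_shortExact_extClass_eq e₁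
  by_cases hV₁ : ¬ FlatMod.IsFinLocFree V₁
  · exact ⟨V₁, a₁, b₁, w₁, hS₁, retraction_ne_id hS₁ (hc₁ ▸ he₁), hV₁⟩
  push Not at hV₁
  -- a point where `N` is not free
  obtain ⟨z, hz⟩ : ∃ z : S, ¬ Projective ((DerSch.stalkFunctor S z).obj N) := by
    by_contra hall
    push Not at hall
    have hNr : RefHull.IsReflexive N := (H29Ref.isReflexive_iff N hN).2 fun x => by
      haveI := H29Ref.finite_stalk N hN.2 x
      haveI : Module.Finite (S.presheaf.stalk x) ((DerSch.stalkFunctor S x).obj N) := ‹_›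
      haveI : Module.Projective (S.presheaf.stalk x) (N.presheaf.stalk x) :=
        (IsProjective.iff_projective ((DerSch.stalkFunctor S x).obj N)).2 (hall x)
      exact (inferInstance : Module.IsReflexive (S.presheaf.stalk x) (N.presheaf.stalk x))
    obtain ⟨g, hg⟩ := exists_extension (k := k) hX hreg hN hLc hN hNr ι hd (𝟙 N)
    have hg' : g ≫ ι = 𝟙 L' := sub_eq_zero.1 (eq_zero_of_small (k := k) hN hLc hLc
      (isPure_inv (k := k) hX hL') ι hd (g ≫ ι - 𝟙 L')
      (by rw [Preadditive.comp_sub, ← Category.assoc, hg, Category.id_comp, Category.comp_id, sub_self]))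
    exact he₁ (hc₁ ▸ extClass_eq_zero h1 hS₁ hL hL' ⟨ι, g, hg, hg'⟩)
  have hzc : IsClosed ({z} : Set S) := by
    refine isClosed_singleton_of_two_le (k := k) hX (H10Coh.Stab.two_le_dim_stalk (k := k) hX
      (H10Coh.isClosed_support _ hC.2) (d := 0) (by exact_mod_cast hZ) (by omega) ?_)
    by_contra hmem
    refine hz ?_
    let Φ := DerSch.stalkFunctor S z
    haveI : Mono (Φ.map ι) := Φ.map_mono ι
    haveI : Epi (Φ.map ι) := Preadditive.epi_of_isZero_cokernel _
      (((H25Euler.notMem_support_iff _ z).1 hmem).of_iso (PreservesCokernel.iso Φ ι).symm)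
    haveI := isIso_of_mono_of_epi (Φ.map ι)
    obtain ⟨b⟩ := H02CA.SurfStab.stalkFree_one hL' z
    haveI : Projective (Φ.obj L') := ModuleCat.projective_of_free (M := Φ.obj L') b
    exact Projective.of_iso (asIso (Φ.map ι)).symm ‹_›
  let R := S.presheaf.stalk z
  let Φ := DerSch.stalkFunctor S z
  haveI : HasExt.{u} (ModuleCat.{u} R) := hasExt_of_enoughProjectives _
  have hproj' : ∀ {W : S.Modules}, FlatMod.IsFinLocFree W → Projective (Φ.obj W) := fun {W} hW => by
    obtain ⟨_, ⟨b⟩⟩ := H22Alg.KExists.stalk_free hW z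
    exact ModuleCat.projective_of_free (M := Φ.obj W) b
  have hS₁' := hS₁.map_of_exact Φ
  haveI : Projective ((ShortComplex.mk a₁ b₁ w₁).map Φ).X₂ := hproj' hV₁
  obtain ⟨bL⟩ := H02CA.SurfStab.stalkFree_one hL z
  -- the scalar
  obtain ⟨u, hu⟩ := exists_comp_eq hS₁' (A := Φ.obj L) (e₂.mapExactFunctor Φ)
  obtain ⟨r, hr⟩ : ∃ r : R, u = r • 𝟙 (Φ.obj L) := by
    obtain ⟨r, hr⟩ : ∃ r : R, u.hom (bL 0) = r • bL 0 := ⟨bL.repr (u.hom (bL 0)) 0, by
      have h := (bL.sum_repr (u.hom (bL 0))).symm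
      rwa [Fin.sum_univ_one] at h⟩
    refine ⟨r, ModuleCat.hom_ext (bL.ext fun i => ?_)⟩
    obtain rfl : i = 0 := Subsingleton.elim _ _
    exact hr
  obtain ⟨c, hc⟩ := exists_scal_sub_mem (k := k) hzc r
  obtain ⟨V, a, b, w, hS, hcl⟩ := H28Alg.exists_shortExact_extClass_eq (e₂ - c • e₁)
  refine ⟨V, a, b, w, hS, retraction_ne_id hS (hcl ▸ sub_ne_zero.2 (he₂ c)), fun hVf => ?_⟩
  have hsm : Φ.map (c • 𝟙 L) = H26TF1.scalStalk (k := k) z c • 𝟙 (Φ.obj L) := by
    rw [KLin.smul_id]
    exact ModuleCat.hom_ext (LinearMap.ext fun v => H26TF1.stalkLin_smulMod c z v)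
  refine not_projective_of_smul hS₁' hz bL (Φ.map a) (Φ.map b) ((ShortComplex.mk a b w).map Φ).zero
    (hS.map_of_exact Φ) hc ?_ (hproj' hVf)
  refine (Ext.mapExactFunctor_extClass Φ hS).symm.trans ?_
  rw [hcl, sub_eq_add_neg, ← neg_smul, Ext.mapExactFunctor_add, ← hu, hr, sub_smul, sub_eq_add_neg,
    Ext.mk₀_add, Ext.comp_add]
  congr 1
  rw [Ext.smul_eq_comp_mk₀, Ext.mapExactFunctor_comp, Ext.mapExactFunctor_mk₀, ← hc₁,
    Ext.mapExactFunctor_extClass, neg_smul, Φ.map_neg, hsm]
  rfl

end Groth.Agent.S15856
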