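import Groth.Statements.S15857
import Groth.Agent.H11Degen.Main

set_option autoImplicit false
set_option linter.unusedVariables false
set_option linter.style.haveILetI false
universe u
open CategoryTheory CategoryTheory.Limits AlgebraicGeometry
open Coherent

namespace Groth.Agent.S15857

/-- Let k be a field that is algebraically closed with char k = 0 and X a smooth proper variety over k
(an integral k-scheme, smooth and proper over k) of dimension n; let E and F be locally free
O_X-modules of ranks e and f such that the sheaf Hom(E, F) = E^∨ ⊗ F (the right adjoint of E ⊗ - at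
F) is globally generated, and let r be a natural number with r < e and r < f. For a morphism φ : E →
F let D_r(φ) ⊆ X be the closed subscheme where φ has rank at most r, with its determinantal
structure (the subscheme of the (f - r - 1)-st Fitting ideal sheaf of the cokernel of φ, generated
locally by the (r+1)-minors of φ), and let D_r(φ) ∖ D_{r-1}(φ) be its open subscheme where the rank
is exactly r (the complement of the zero set of the (f - r)-th Fitting ideal). Then for φ general —
for all φ in a non-empty Zariski-open subset of the finite-dimensional k-vector space Hom(E, F),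
namely all φ at which some fixed nonzero polynomial in linear coordinates on Hom(E, F) does not
vanish — the scheme D_r(φ) ∖ D_{r-1}(φ) is smooth over k and is either empty or has all its
irreducible components of dimension n - (e - r)(f - r); in particular it is empty when (e - r)(f -
r) > n. (The published statement allows every r and does not ask X to be proper; this row takes r <
e, r < f and X proper, so that Hom(E, F) is a finite-dimensional k-vector space.) -/
theorem result
    (k : Type u) [Field k] [IsAlgClosed k] [CharZero k]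
    (X : Scheme.{u}) [X.Over (Spec (CommRingCat.of k))] [IsIntegral X]
    [Smooth (X ↘ Spec (CommRingCat.of k))] [IsProper (X ↘ Spec (CommRingCat.of k))]
    (n : ℕ) (hdim : topologicalKrullDim X = n)
    (E F : X.Modules) (e f : ℕ) (hE : FlatMod.IsFinLocFreeOfRank e E) (hF : FlatMod.IsFinLocFreeOfRank f F)
    [DCoh.HasSheafHom E] (hgg : Curv2.IsGloballyGenerated ((DCoh.sheafHom E).obj F))
    (r : ℕ) (hre : r < e) (hrf : r < f) :
    ∃ (m : ℕ) (c : (E ⟶ F) ≃ₗ[k] (Fin m → k)) (p : MvPolynomial (Fin m) k), p ≠ 0 ∧
      ∀ φ : E ⟶ F, MvPolynomial.eval (c φ) p ≠ 0 →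
        letI D := Fitt.sheafIdeal (cokernel φ) (f - r - 1)
        letI W : D.subscheme.Opens :=
          D.subschemeι ⁻¹ᵁ ((Fitt.sheafIdeal (cokernel φ) (f - r)).support : TopologicalSpace.Closeds X).compl
        Smooth (W.ι ≫ D.subschemeι ≫ (X ↘ Spec (CommRingCat.of k))) ∧
          (IsEmpty W ∨ ((e - r) * (f - r) ≤ n ∧
            ∀ Z ∈ irreducibleComponents (W : Type u),
              topologicalKrullDim Z = ((n - (e - r) * (f - r) : ℕ) : WithBot ℕ∞))) := by
  have hEc := H16Derived.KFlat.Stalk.isCoh_of_isFinLocFree (fun x => let ⟨U, hx, h⟩ := hE x; ⟨U, e, hx, h⟩ : FlatMod.IsFinLocFree E)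
  have hFc := H16Derived.KFlat.Stalk.isCoh_of_isFinLocFree (fun x => let ⟨U, hx, h⟩ := hF x; ⟨U, f, hx, h⟩ : FlatMod.IsFinLocFree F)
  haveI : Module.Finite k (E ⟶ F) := H29RR.finite_hom hEc hFc
  let bas := Module.finBasis k (E ⟶ F)
  let φb : Fin (Module.finrank k (E ⟶ F)) → (E ⟶ F) := fun i => bas i
  have hspan : ∀ ψ : E ⟶ F, ∃ c : Fin (Module.finrank k (E ⟶ F)) → k, ψ = ∑ i, c i • φb i :=
    fun ψ => ⟨bas.equivFun ψ, (bas.sum_equivFun ψ).symm⟩
  have hn : ∀ x : X, IsClosed ({x} : Set X) → ringKrullDim (X.presheaf.stalk x) = n := fun x hx => by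
    have h1 := H8Props.FieldDim.localDim_eq_stalk_add_cdim (X ↘ Spec (CommRingCat.of k)) x
    rw [H28Int.Curves.cdim_closed hx, H8Props.FieldDim.localDim_eq_dim_of_irreducible (X ↘ Spec (CommRingCat.of k)) x,
      hdim, Nat.cast_zero, add_zero] at h1
    exact h1.symm
  obtain ⟨q, hq0, hq⟩ := H11Degen.exists_poly_global hE hF hgg φb hspan hrf hn
  refine ⟨_, bas.equivFun, q, hq0, fun φ hφ => ?_⟩
  have hgood := hq (bas.equivFun φ) hφ
  rw [show ∑ i, bas.equivFun φ i • φb i = φ from bas.sum_equivFun φ] at hgood
  exact H11Degen.smooth_and_pure φ hgood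

end Groth.Agent.S15857
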