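import Groth.Statements.S15860
import Groth.Agent.H11Plane.Coh

set_option autoImplicit false
open CategoryTheory CategoryTheory.Limits AlgebraicGeometry
open BlowUp

namespace Groth.Agent.S15860

/-- Case of a non-positive coefficient of the exceptional divisor. Let σ : X ⟶ P² be the blow-up of the
complex projective plane at a closed point (universal property), I_E the ideal of the exceptional
curve and H = σ^*O(1). For an integer p and a natural number b write M = σ^*O(p) ⊗ I_E ^ b (the line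
bundle pH − bE) and C(n,2) for the binomial coefficient, taken to be 0 when n < 2. Then the
dimensions h^i = dim H^i(X, M) are: if b ≤ p, h^0 = C(p+2,2) − C(b+1,2) and h^1 = h^2 = 0; if p = b
− 1, h^0 = h^1 = h^2 = 0; if p ≤ b − 2, h^0 = 0, h^1 = C(b+1,2) − C(p+2,2) and h^2 = C(−p−1,2). (The
structure of scheme over C on X is the composite through σ.) -/
theorem result
    (x : ↥(CohB1.ProjSpace 2 ℂ)) (hx : IsClosed ({x} : Set ↥(CohB1.ProjSpace 2 ℂ)))
    {X : Scheme.{0}} [X.Over (Spec (CommRingCat.of ℂ))] (σ : X ⟶ CohB1.ProjSpace 2 ℂ)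
    (hσk : σ ≫ CohB1.ProjSpace.toSpec 2 ℂ = X ↘ Spec (CommRingCat.of ℂ))
    (hσ : BlowUp.IsBlowUp σ (Scheme.IdealSheafData.vanishingIdeal ⟨{x}, hx⟩)) (p : ℤ) (b : ℕ) :
    ((b : ℤ) ≤ p →
      (Module.finrank ℂ (Coh.HH X (CohB1.tensorMod ((Scheme.Modules.pullback σ).obj (Twist.twistProjSpace 2 ℂ p))
        (ClSub.idealMod ((BlowUp.exceptional σ (Scheme.IdealSheafData.vanishingIdeal ⟨{x}, hx⟩)) ^ b))) 0) : ℤ) = ((p + 2).toNat.choose 2 : ℤ) - ((b + 1).choose 2 : ℤ) ∧
      Module.finrank ℂ (Coh.HH X (CohB1.tensorMod ((Scheme.Modules.pullback σ).obj (Twist.twistProjSpace 2 ℂ p))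
        (ClSub.idealMod ((BlowUp.exceptional σ (Scheme.IdealSheafData.vanishingIdeal ⟨{x}, hx⟩)) ^ b))) 1) = 0 ∧
      Module.finrank ℂ (Coh.HH X (CohB1.tensorMod ((Scheme.Modules.pullback σ).obj (Twist.twistProjSpace 2 ℂ p))
        (ClSub.idealMod ((BlowUp.exceptional σ (Scheme.IdealSheafData.vanishingIdeal ⟨{x}, hx⟩)) ^ b))) 2) = 0) ∧
    (p = (b : ℤ) - 1 →
      Module.finrank ℂ (Coh.HH X (CohB1.tensorMod ((Scheme.Modules.pullback σ).obj (Twist.twistProjSpace 2 ℂ p))
        (ClSub.idealMod ((BlowUp.exceptional σ (Scheme.IdealSheafData.vanishingIdeal ⟨{x}, hx⟩)) ^ b))) 0) = 0 ∧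
      Module.finrank ℂ (Coh.HH X (CohB1.tensorMod ((Scheme.Modules.pullback σ).obj (Twist.twistProjSpace 2 ℂ p))
        (ClSub.idealMod ((BlowUp.exceptional σ (Scheme.IdealSheafData.vanishingIdeal ⟨{x}, hx⟩)) ^ b))) 1) = 0 ∧
      Module.finrank ℂ (Coh.HH X (CohB1.tensorMod ((Scheme.Modules.pullback σ).obj (Twist.twistProjSpace 2 ℂ p))
        (ClSub.idealMod ((BlowUp.exceptional σ (Scheme.IdealSheafData.vanishingIdeal ⟨{x}, hx⟩)) ^ b))) 2) = 0) ∧
    (p ≤ (b : ℤ) - 2 →
      Module.finrank ℂ (Coh.HH X (CohB1.tensorMod ((Scheme.Modules.pullback σ).obj (Twist.twistProjSpace 2 ℂ p))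
        (ClSub.idealMod ((BlowUp.exceptional σ (Scheme.IdealSheafData.vanishingIdeal ⟨{x}, hx⟩)) ^ b))) 0) = 0 ∧
      (Module.finrank ℂ (Coh.HH X (CohB1.tensorMod ((Scheme.Modules.pullback σ).obj (Twist.twistProjSpace 2 ℂ p))
        (ClSub.idealMod ((BlowUp.exceptional σ (Scheme.IdealSheafData.vanishingIdeal ⟨{x}, hx⟩)) ^ b))) 1) : ℤ) = ((b + 1).choose 2 : ℤ) - ((p + 2).toNat.choose 2 : ℤ) ∧
      Module.finrank ℂ (Coh.HH X (CohB1.tensorMod ((Scheme.Modules.pullback σ).obj (Twist.twistProjSpace 2 ℂ p))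
        (ClSub.idealMod ((BlowUp.exceptional σ (Scheme.IdealSheafData.vanishingIdeal ⟨{x}, hx⟩)) ^ b))) 2) = (-p - 1).toNat.choose 2) := by
  classical
  let Q := CohB1.ProjSpace 2 ℂ
  haveI : IsIntegral Q := LeadPic.PnRel.isIntegral_projSpace (n := 2) ℂ
  haveI : Smooth (Q ↘ Spec (CommRingCat.of ℂ)) := H26Smooth.smooth_toSpec 2 ℂ
  have hdQ : topologicalKrullDim Q = 2 := by exact_mod_cast S10829.result ℂ 2
  obtain ⟨hint, hdim, hprop, hsm⟩ := H28RR.isSurface_blowUp ℂ hdQ hσ
  haveI := hint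
  haveI : IsProper (X ↘ Spec (CommRingCat.of ℂ)) := hσk ▸ hprop
  haveI : Smooth (X ↘ Spec (CommRingCat.of ℂ)) := hσk ▸ hsm
  obtain ⟨W, c⟩ := H11Plane.exists_ctx hσk hσ hdim
  have hM := H11Plane.cls_idealPow c (H11Plane.cls_twist hσk hσ hdim c p) b
  obtain ⟨K', hK', h2⟩ := H11Plane.h2_eq c hM
  have hχ := H11Plane.euler_two c hM
  have hb2 := H11Plane.two_mul_choose_two (b + 1)
  push_cast at hb2
  refine ⟨fun hbp => ?_, fun hpb => ?_, fun hpb => ?_⟩
  · have h0 := H11Plane.h0_nonpos c hM (by omega) (by omega) (by omega)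
    have hK0 := H11Plane.h0_eq_zero c hK' (Or.inl (by omega))
    have hp2 := H11Plane.two_mul_choose_toNat (m := p + 2) (by omega)
    rw [hK0] at h2
    refine ⟨?_, ?_, h2⟩
    · unfold H11Plane.h0 at h0
      linarith
    · rw [h2] at hχ
      unfold H11Plane.h0 at h0 hχ
      push_cast at hχ
      linarith
  · have h0 := H11Plane.h0_eq_zero c hM (Or.inr (by omega))
    have hK0 := H11Plane.h0_eq_zero c hK' (Or.inl (by omega))
    rw [hK0] at h2
    refine ⟨h0, ?_, h2⟩
    rw [h2, h0] at hχ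
    subst hpb
    push_cast at hχ
    linarith
  · have h0 := H11Plane.h0_eq_zero c hM (Or.inr (by omega))
    rw [h0] at hχ
    push_cast at hχ
    have key : (Module.finrank ℂ (Coh.HH X (CohB1.tensorMod ((Scheme.Modules.pullback σ).obj (Twist.twistProjSpace 2 ℂ p))
        (ClSub.idealMod ((BlowUp.exceptional σ (Scheme.IdealSheafData.vanishingIdeal ⟨{x}, hx⟩)) ^ b))) 2) : ℤ) =
        ((-p - 1).toNat.choose 2 : ℤ) := by
      rw [h2]
      rcases le_or_gt p (-3) with hp | hp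
      · have hpos := H11Plane.h0_nonneg c (1 + b) hK' (by omega) (by push_cast; omega)
        have hp2 := H11Plane.two_mul_choose_toNat (m := -p - 1) (by omega)
        linarith
      · rw [H11Plane.h0_eq_zero c hK' (Or.inl (by omega)), H11Plane.choose_toNat_eq_zero (by omega)]
    refine ⟨h0, ?_, by exact_mod_cast key⟩
    rw [key] at hχ
    rcases le_or_gt 0 p with hp | hp
    · rw [H11Plane.choose_toNat_eq_zero (m := -p - 1) (by omega)] at hχ
      have hp2 := H11Plane.two_mul_choose_toNat (m := p + 2) (by omega)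
      push_cast at hχ
      linarith
    · rw [H11Plane.choose_toNat_eq_zero (m := p + 2) (by omega)]
      rcases le_or_gt p (-3) with hp' | hp'
      · have hp2 := H11Plane.two_mul_choose_toNat (m := -p - 1) (by omega)
        push_cast
        linarith
      · rw [H11Plane.choose_toNat_eq_zero (m := -p - 1) (by omega)] at hχ
        have hpp : p = -1 ∨ p = -2 := by omega
        rcases hpp with rfl | rfl <;> · push_cast at hχ ⊢; linarith

end Groth.Agent.S15860
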