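import Groth.Statements.S15861
import Groth.Agent.H11Plane.Coh

set_option autoImplicit false
open CategoryTheory CategoryTheory.Limits AlgebraicGeometry
open BlowUp

namespace Groth.Agent.S15861

/-- Case of a non-negative coefficient of the exceptional divisor. Let σ : X ⟶ P² be the blow-up of the
complex projective plane at a closed point (universal property), I_E the ideal of the exceptional
curve, H = σ^*O(1), and L an O_X-module with L ⊗ I_E ≅ O_X (L is O_X(E)). For an integer p and a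
natural number b write M = σ^*O(p) ⊗ L^{⊗b} (the line bundle pH + bE) and C(n,2) for the binomial
coefficient, taken to be 0 when n < 2. Then the dimensions h^i = dim H^i(X, M) are: if p + b ≥ 0,
h^0 = C(p+2,2), h^1 = C(b,2) − C(−p−1,2) and h^2 = 0; if p + b = −1, h^0 = h^1 = h^2 = 0; if p + b ≤
−2, h^0 = h^1 = 0 and h^2 = C(−p−1,2) − C(b,2). (The structure of scheme over C on X is the
composite through σ.) -/
theorem result
    (x : ↥(CohB1.ProjSpace 2 ℂ)) (hx : IsClosed ({x} : Set ↥(CohB1.ProjSpace 2 ℂ)))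
    {X : Scheme.{0}} [X.Over (Spec (CommRingCat.of ℂ))] (σ : X ⟶ CohB1.ProjSpace 2 ℂ)
    (hσk : σ ≫ CohB1.ProjSpace.toSpec 2 ℂ = X ↘ Spec (CommRingCat.of ℂ))
    (hσ : BlowUp.IsBlowUp σ (Scheme.IdealSheafData.vanishingIdeal ⟨{x}, hx⟩))
    (L : X.Modules) (hL : ClSub.IsInverseOf L (ClSub.idealMod (BlowUp.exceptional σ (Scheme.IdealSheafData.vanishingIdeal ⟨{x}, hx⟩))))
    (p : ℤ) (b : ℕ) :
    (0 ≤ p + b →
      Module.finrank ℂ (Coh.HH X (CohB1.tensorMod ((Scheme.Modules.pullback σ).obj (Twist.twistProjSpace 2 ℂ p)) (CohB1.tensorPow L b)) 0) = (p + 2).toNat.choose 2 ∧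
      (Module.finrank ℂ (Coh.HH X (CohB1.tensorMod ((Scheme.Modules.pullback σ).obj (Twist.twistProjSpace 2 ℂ p)) (CohB1.tensorPow L b)) 1) : ℤ) = (b.choose 2 : ℤ) - ((-p - 1).toNat.choose 2 : ℤ) ∧
      Module.finrank ℂ (Coh.HH X (CohB1.tensorMod ((Scheme.Modules.pullback σ).obj (Twist.twistProjSpace 2 ℂ p)) (CohB1.tensorPow L b)) 2) = 0) ∧
    (p + b = -1 →
      Module.finrank ℂ (Coh.HH X (CohB1.tensorMod ((Scheme.Modules.pullback σ).obj (Twist.twistProjSpace 2 ℂ p)) (CohB1.tensorPow L b)) 0) = 0 ∧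
      Module.finrank ℂ (Coh.HH X (CohB1.tensorMod ((Scheme.Modules.pullback σ).obj (Twist.twistProjSpace 2 ℂ p)) (CohB1.tensorPow L b)) 1) = 0 ∧
      Module.finrank ℂ (Coh.HH X (CohB1.tensorMod ((Scheme.Modules.pullback σ).obj (Twist.twistProjSpace 2 ℂ p)) (CohB1.tensorPow L b)) 2) = 0) ∧
    (p + b ≤ -2 →
      Module.finrank ℂ (Coh.HH X (CohB1.tensorMod ((Scheme.Modules.pullback σ).obj (Twist.twistProjSpace 2 ℂ p)) (CohB1.tensorPow L b)) 0) = 0 ∧
      Module.finrank ℂ (Coh.HH X (CohB1.tensorMod ((Scheme.Modules.pullback σ).obj (Twist.twistProjSpace 2 ℂ p)) (CohB1.tensorPow L b)) 1) = 0 ∧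
      (Module.finrank ℂ (Coh.HH X (CohB1.tensorMod ((Scheme.Modules.pullback σ).obj (Twist.twistProjSpace 2 ℂ p)) (CohB1.tensorPow L b)) 2) : ℤ) = ((-p - 1).toNat.choose 2 : ℤ) - (b.choose 2 : ℤ)) := by
  classical
  let Q := CohB1.ProjSpace 2 ℂ
  haveI : IsIntegral Q := LeadPic.PnRel.isIntegral_projSpace (n := 2) ℂ
  haveI : Smooth (Q ↘ Spec (CommRingCat.of ℂ)) := H26Smooth.smooth_toSpec 2 ℂ
  have hdQ : topologicalKrullDim Q = 2 := by exact_mod_cast S10829.result ℂ 2
  obtain ⟨hint, hdim, hprop, hsm⟩ := H28RR.isSurface_blowUp ℂ hdQ hσ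
  haveI := hint
  haveI : IsProper (X ↘ Spec (CommRingCat.of ℂ)) := hσk ▸ hprop
  haveI : Smooth (X ↘ Spec (CommRingCat.of ℂ)) := hσk ▸ hsm
  obtain ⟨W, c⟩ := H11Plane.exists_ctx hσk hσ hdim
  have hM := H11Plane.cls_inversePow c hL (H11Plane.cls_twist hσk hσ hdim c p) b
  obtain ⟨K', hK', h2⟩ := H11Plane.h2_eq c hM
  have hχ := H11Plane.euler_two c hM
  have hb2 := H11Plane.two_mul_choose_two b
  refine ⟨fun hpb => ?_, fun hpb => ?_, fun hpb => ?_⟩
  · have hK0 := H11Plane.h0_eq_zero c hK' (Or.inr (by omega))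
    rw [hK0] at h2
    have key : Module.finrank ℂ (Coh.HH X (CohB1.tensorMod ((Scheme.Modules.pullback σ).obj (Twist.twistProjSpace 2 ℂ p))
        (CohB1.tensorPow L b)) 0) = (p + 2).toNat.choose 2 := by
      rcases le_or_gt 0 p with hp | hp
      · have h0 := H11Plane.h0_nonneg c b hM hp rfl
        have hp2 := H11Plane.two_mul_choose_toNat (m := p + 2) (by omega)
        unfold H11Plane.h0 at h0
        have : (Module.finrank ℂ (Coh.HH X (CohB1.tensorMod ((Scheme.Modules.pullback σ).obj (Twist.twistProjSpace 2 ℂ p))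
          (CohB1.tensorPow L b)) 0) : ℤ) = ((p + 2).toNat.choose 2 : ℤ) := by linarith
        exact_mod_cast this
      · rw [show Module.finrank ℂ (Coh.HH X (CohB1.tensorMod ((Scheme.Modules.pullback σ).obj
          (Twist.twistProjSpace 2 ℂ p)) (CohB1.tensorPow L b)) 0) = 0 from H11Plane.h0_eq_zero c hM (Or.inl hp),
          H11Plane.choose_toNat_eq_zero (by omega)]
    refine ⟨key, ?_, h2⟩
    rw [h2, show H11Plane.h0 ℂ (CohB1.tensorMod ((Scheme.Modules.pullback σ).obj (Twist.twistProjSpace 2 ℂ p))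
      (CohB1.tensorPow L b)) = (p + 2).toNat.choose 2 from key] at hχ
    push_cast at hχ
    rcases le_or_gt 0 p with hp | hp
    · rw [H11Plane.choose_toNat_eq_zero (m := -p - 1) (by omega)]
      have hp2 := H11Plane.two_mul_choose_toNat (m := p + 2) (by omega)
      push_cast
      linarith
    · rw [H11Plane.choose_toNat_eq_zero (m := p + 2) (by omega)] at hχ
      have hp2 := H11Plane.two_mul_choose_toNat (m := -p - 1) (by omega)
      push_cast at hχ
      linarith
  · have h0 := H11Plane.h0_eq_zero c hM (Or.inr (by omega))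
    have hK0 := H11Plane.h0_eq_zero c hK' (Or.inr (by omega))
    rw [hK0] at h2
    refine ⟨h0, ?_, h2⟩
    rw [h2, h0] at hχ
    obtain rfl : p = -(b : ℤ) - 1 := by omega
    push_cast at hχ
    linarith
  · have h0 := H11Plane.h0_eq_zero c hM (Or.inr (by omega))
    have key : (Module.finrank ℂ (Coh.HH X (CohB1.tensorMod ((Scheme.Modules.pullback σ).obj (Twist.twistProjSpace 2 ℂ p))
        (CohB1.tensorPow L b)) 2) : ℤ) = ((-p - 1).toNat.choose 2 : ℤ) - (b.choose 2 : ℤ) := by
      rw [h2]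
      have hp2 := H11Plane.two_mul_choose_toNat (m := -p - 1) (by omega)
      rcases Nat.eq_zero_or_pos b with rfl | hb
      · rcases le_or_gt p (-3) with hp | hp
        · have hpos := H11Plane.h0_nonneg c 1 hK' (by omega) (by norm_num)
          push_cast at hb2
          linarith
        · rw [H11Plane.h0_eq_zero c hK' (Or.inl (by omega)), H11Plane.choose_toNat_eq_zero (by omega)]
          simp
      · have hk := H11Plane.h0_nonpos c hK' (by omega) (by omega) (by omega)
        linarith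
    refine ⟨h0, ?_, key⟩
    have hp2 := H11Plane.two_mul_choose_toNat (m := -p - 1) (by omega)
    rw [key, h0] at hχ
    push_cast at hχ
    linarith

end Groth.Agent.S15861
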