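import Groth.Statements.S15866
import Groth.Agent.H11Curve.DegLength
import Groth.Agent.H11Proj.SeparatesPoints
import Groth.Agent.H25Euler.Additive
import Groth.Agent.H28Int.Surface
import Groth.Agent.H28Int.Curves
import Groth.Agent.H8Props.FieldDimSmooth
import Groth.Agent.H8Props.FieldDimFormula
import Groth.Agent.H17.Seshadri.Jets
import Groth.Agent.H13CInt.Spread
import Groth.Agent.H22Alg.CurveAmple

set_option autoImplicit false
set_option linter.style.haveILetI false
set_option backward.isDefEq.respectTransparency.types false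
open CategoryTheory CategoryTheory.Limits AlgebraicGeometry
open SurfBl

namespace Groth.Agent.S15866

/-- Let S be a smooth projective surface over the complex numbers (integral, smooth of relative
dimension 2 over C) with a closed immersion ι over C into some projective space P^n, H = ι^*O(1) the
very ample invertible module, C ⊆ S an integral curve (an integral closed subscheme of dimension
one, closed immersion j over C), P a closed point of S with ideal m_P, and m a natural number such
that the ideal of C is contained in m_P^m, i.e. C has multiplicity at least m at P. Then H·C ≥ m,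
where H·C is the degree of H|_C on C, written χ(C, j^*H) − χ(C, O_C). (The published statement is
for a curve C ⊆ S; this row takes C integral.) -/
theorem result
    (S : Scheme.{0}) [S.Over (Spec (CommRingCat.of ℂ))] [IsIntegral S]
    [SmoothOfRelativeDimension 2 (S ↘ Spec (CommRingCat.of ℂ))]
    (n : ℕ) (ι : S ⟶ CohB1.ProjSpace n ℂ) [IsClosedImmersion ι]
    (hι : ι ≫ CohB1.ProjSpace.toSpec n ℂ = S ↘ Spec (CommRingCat.of ℂ))
    (C : Scheme.{0}) [C.Over (Spec (CommRingCat.of ℂ))] [IsIntegral C] (hdimC : topologicalKrullDim ↥C = 1)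
    (j : C ⟶ S) [IsClosedImmersion j] (hj : j ≫ (S ↘ Spec (CommRingCat.of ℂ)) = C ↘ Spec (CommRingCat.of ℂ))
    (P : ↥S) (hP : IsClosed ({P} : Set ↥S)) (m : ℕ)
    (hm : j.ker ≤ Scheme.IdealSheafData.vanishingIdeal ⟨{P}, hP⟩ ^ m) :
    (m : ℤ) ≤ Curv2.deg ℂ C ((Scheme.Modules.pullback j).obj
      ((Scheme.Modules.pullback ι).obj (Twist.twistProjSpace n ℂ 1))) 1 := by
  classical
  haveI : IsProper (S ↘ Spec (CommRingCat.of ℂ)) :=
    H11Proj.SepPts.isProper_of_projective (S ↘ Spec (CommRingCat.of ℂ)) ⟨n, ι, inferInstance, hι⟩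
  haveI : IsProper (C ↘ Spec (CommRingCat.of ℂ)) := hj ▸ inferInstance
  haveI : IsClosedImmersion (j ≫ ι) := inferInstance
  have hf : (j ≫ ι) ≫ CohB1.ProjSpace.toSpec n ℂ = C ↘ Spec (CommRingCat.of ℂ) := by
    rw [Category.assoc, hι, hj]
  let L := H11Proj.SepPts.L (j ≫ ι)
  have hLa : CohB1.IsAmple L :=
    H11Ample.isAmple_pullback_of_isAffineHom (j ≫ ι) (H11Ample.isAmple_twistProjSpace n ℂ)
  rw [show Curv2.deg ℂ C _ 1 = Curv2.deg ℂ C L 1 by
    simp only [Curv2.deg]
    erw [H25Euler.euler_congr (k := ℂ) ((Scheme.Modules.pullbackComp j ι).app (Twist.twistProjSpace n ℂ 1))]]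
  rcases Nat.eq_zero_or_pos m with rfl | hm0
  · exact_mod_cast (H22Alg.CurveAmple.deg_pos_of_ample (k := ℂ) hdimC hLa).le
  obtain ⟨y, rfl⟩ : P ∈ Set.range j := by
    rw [← j.isClosedEmbedding.isClosed_range.closure_eq, ← Scheme.Hom.support_ker]
    refine Scheme.IdealSheafData.support_antitone (show j.ker ≤ Scheme.IdealSheafData.vanishingIdeal ⟨{P}, hP⟩ from
      hm.trans (Scheme.IdealSheafData.le_def.2 fun U => ?_)) ?_
    · rw [Scheme.IdealSheafData.ideal_pow, Pi.pow_apply]
      exact Ideal.pow_le_self (by omega)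
    · exact Scheme.IdealSheafData.le_support_iff_le_vanishingIdeal.2 le_rfl rfl
  have hy : IsClosed ({y} : Set C) := by
    have h := hP.preimage j.continuous
    rwa [← Set.image_singleton, Set.preimage_image_eq _ j.isClosedEmbedding.injective] at h
  have hne : y ≠ genericPoint C := fun h => by
    have h2 : closure ({genericPoint C} : Set C) = Set.univ := genericPoint_spec C
    rw [← h, hy.closure_eq] at h2
    haveI : Subsingleton C := ⟨fun p q => by
      rw [Set.eq_univ_iff_forall] at h2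
      rw [h2 p, h2 q]⟩
    have h3 : topologicalKrullDim C ≤ 0 := topologicalKrullDim_zero_of_discreteTopology C
    rw [hdimC] at h3
    exact absurd h3 (by decide)
  obtain ⟨c, hc1, hc2⟩ := H11Proj.SepPts.exists_separating (j ≫ ι) (C ↘ Spec (CommRingCat.of ℂ)) hf hy hne
  let g : Γ(L, ⊤) :=
    ∑ i, (show Γ(C, ⊤) from ProjUP.toGlobal (C ↘ Spec (CommRingCat.of ℂ)) (c i)) •
      (show Γ(L, ⊤) from ProjUP.pullSec (j ≫ ι) (Twist.twistProjSpace n ℂ 1) (ProjUP.coord n ℂ i))
  obtain ⟨i, hi⟩ := H11Proj.SepPts.exists_chart ((j ≫ ι) y)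
  let e := H11Proj.SepPts.gen (j ≫ ι) y i
  have he := H11Proj.SepPts.bijective_smul_gen (j ≫ ι) hi
  obtain ⟨a, ha⟩ := he.2 (L.presheaf.germ ⊤ y trivial g)
  have ham : a ∈ IsLocalRing.maximalIdeal (C.presheaf.stalk y) :=
    (H11Proj.SepPts.smul_gen_mem_iff hi _ a).1 (by rw [show a • e = _ from ha]; exact hc1)
  have hg0 : g ≠ 0 := fun h => hc2 (by
    show L.presheaf.germ ⊤ (genericPoint C) trivial g ∈ _
    rw [h, map_zero]
    exact Submodule.zero_mem _)
  refine H11Curve.le_deg_of_section ℂ hdimC.le hLa.1 g (H28Int.Surface.generic_mem_gen hLa.1 hg0)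
    e he a ham ha.symm ?_
  -- the local length
  obtain ⟨V, hV, hyV, -⟩ := exists_isAffineOpen_mem_and_subset (show j y ∈ (⊤ : S.Opens) from trivial)
  haveI : Smooth (S ↘ Spec (CommRingCat.of ℂ)) := SmoothOfRelativeDimension.smooth 2 _
  haveI : IsLocallyNoetherian S := LocallyOfFiniteType.isLocallyNoetherian (S ↘ Spec (CommRingCat.of ℂ))
  have hdimR : (2 : WithBot ℕ∞) ≤ ringKrullDim (S.presheaf.stalk (j y)) := by
    have h := H8Props.FieldDim.localDim_eq_stalk_add_cdim (S ↘ Spec (CommRingCat.of ℂ)) (j y)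
    rw [H8Props.FieldDim.localDim_eq_of_smooth (S ↘ Spec (CommRingCat.of ℂ)) 2 (j y),
      H28Int.Curves.cdim_closed hP] at h
    simp only [Nat.cast_zero, add_zero] at h
    exact h.le
  refine H11Curve.le_length_quotient_span (j.stalkMap y).hom (j.stalkMap_surjective y) hdimR ?_ a ham
  rw [_root_.H13CInt.ker_stalkMap j y ⟨V, hV⟩ hyV]
  refine (Ideal.map_mono (Scheme.IdealSheafData.le_def.1 hm ⟨V, hV⟩)).trans ?_
  rw [Scheme.IdealSheafData.ideal_pow, Pi.pow_apply, Ideal.map_pow]
  refine Ideal.pow_right_mono ?_ m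
  letI := TopCat.Presheaf.algebra_section_stalk S.presheaf (⟨j y, hyV⟩ : V)
  haveI := hV.isLocalization_stalk ⟨j y, hyV⟩
  erw [H17.Seshadri.pointIdeal_ideal (j y) hP ⟨V, hV⟩ hyV]
  exact (IsLocalization.AtPrime.map_eq_maximalIdeal (hV.primeIdealOf ⟨j y, hyV⟩).asIdeal
    (S.presheaf.stalk (j y))).le

end Groth.Agent.S15866
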