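import Groth.Statements.S1587
import Groth.Agent.H29Node.NodeAlg
import Groth.Agent.H29Node.NodeFibre
import Groth.Agent.H29Node.Etale
import Groth.Agent.H11Node.Geom

set_option autoImplicit false
universe u
open CategoryTheory CategoryTheory.Limits AlgebraicGeometry
attribute [local instance] Curv2.resAlgebra Curv2.stalkAlgebra
open Curves

namespace Groth.Agent.S1587

/-- A reduced Noetherian local ring with principal maximal ideal is regular. -/
theorem regular_of_principal {A : Type u} [CommRing A] [IsLocalRing A] [IsNoetherianRing A] [_root_.IsReduced A]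
    (hp : (IsLocalRing.maximalIdeal A).IsPrincipal) : IsRegularLocalRing A ∧ ringKrullDim A ≤ 1 := by
  have hle : ringKrullDim A ≤ 1 := by
    rw [← IsLocalRing.maximalIdeal_height_eq_ringKrullDim]
    haveI := hp
    exact_mod_cast Ideal.height_le_one_of_isPrincipal_of_mem_minimalPrimes (IsLocalRing.maximalIdeal A)
      (IsLocalRing.maximalIdeal A) (by rw [Ideal.minimalPrimes_eq_subsingleton_self]; rfl)
  refine ⟨?_, hle⟩
  by_cases hF : IsField A
  · letI := hF.toField
    infer_instance
  refine IsRegularLocalRing.of_spanFinrank_maximalIdeal_le A ?_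
  have h1 : (IsLocalRing.maximalIdeal A).spanFinrank ≤ 1 := by
    rw [IsLocalRing.spanFinrank_maximalIdeal_eq_finrank_cotangentSpace_of_fg (IsNoetherian.noetherian _)]
    exact IsLocalRing.finrank_cotangentSpace_le_one_iff.2 hp
  have h2 : ¬ ringKrullDim A ≤ 0 := fun h0 => hF <| by
    haveI : Ring.KrullDimLE 0 A := Ring.krullDimLE_iff.2 (by exact_mod_cast h0)
    exact Ring.KrullDimLE.isField_of_isReduced
  refine le_trans (Nat.cast_le.2 h1) ?_
  exact_mod_cast Order.succ_le_of_lt (not_le.1 h2)



/-- Let X be a scheme of finite type over a field k of dimension one and x a closed point of X with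
residue field κ. Then x is a node if and only if κ is separable over k and the completion of the
local ring O_{X,x} is isomorphic, compatibly with the maps from k, to κ[[u, v]]/(a u² + b uv + c v²)
for some a, b, c ∈ κ with 4ac − b² ≠ 0 (a nondegenerate quadratic form). -/
theorem result (k : Type u) [Field k] (X : Scheme.{u}) [X.Over (Spec (CommRingCat.of k))]
    [LocallyOfFiniteType (X ↘ (Spec (CommRingCat.of k)))] [QuasiCompact (X ↘ (Spec (CommRingCat.of k)))] (hdim : topologicalKrullDim X = 1)
    (x : X) (hx : IsClosed ({x} : Set X)) :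
    Curv2.IsNode k X x ↔
      (Algebra.IsSeparable k (X.residueField x) ∧
        ∃ a b c : X.residueField x, 4 * a * c - b ^ 2 ≠ 0 ∧
          ∃ e : AdicCompletion (IsLocalRing.maximalIdeal (X.presheaf.stalk x)) (X.presheaf.stalk x) ≃+*
              (MvPowerSeries (Fin 2) (X.residueField x) ⧸ Ideal.span
                {(MvPowerSeries.C a * MvPowerSeries.X 0 ^ 2 + MvPowerSeries.C b * MvPowerSeries.X 0 * MvPowerSeries.X 1 +
                  MvPowerSeries.C c * MvPowerSeries.X 1 ^ 2 : MvPowerSeries (Fin 2) (X.residueField x))}),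
            ∀ t : k, e (algebraMap (X.presheaf.stalk x) _ (algebraMap k (X.presheaf.stalk x) t)) =
              Ideal.Quotient.mk _ (MvPowerSeries.C (algebraMap k (X.residueField x) t))) := by
  classical
  let K := AlgebraicClosure k
  letI : (Curv2.bc k X K).Over (Spec (CommRingCat.of K)) := ⟨Curv2.bcSnd k X K⟩
  haveI := LocallyOfFiniteType.isLocallyNoetherian (X ↘ Spec (CommRingCat.of k))
  haveI : LocallyOfFiniteType (Curv2.bcSnd k X K) := MorphismProperty.pullback_snd _ _ inferInstance
  haveI : LocallyOfFiniteType (Curv2.bc k X K ↘ Spec (CommRingCat.of K)) := ‹_›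
  haveI := LocallyOfFiniteType.isLocallyNoetherian (Curv2.bcSnd k X K)
  haveI : Flat (Curv2.bcFst k X K) := by
    refine MorphismProperty.pullback_fst _ _ ?_
    rw [HasRingHomProperty.Spec_iff (P := @Flat)]
    exact RingHom.flat_algebraMap_iff.2 inferInstance
  haveI : IsIntegralHom (Curv2.bcFst k X K) := by
    refine MorphismProperty.pullback_fst _ _ ?_
    rw [IsIntegralHom.SpecMap_iff]
    exact Algebra.IsIntegral.isIntegral
  haveI : Surjective (Curv2.bcFst k X K) :=
    MorphismProperty.pullback_fst _ _ ⟨fun z => ⟨IsLocalRing.closedPoint _, Subsingleton.elim (α := PrimeSpectrum k) _ _⟩⟩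
  constructor
  · intro hN
    obtain ⟨-, w₀, hw₀, -⟩ := id hN
    subst hw₀
    haveI := H11Node.isReduced_stalk_of_isNode hN
    have hnp : ¬ (IsLocalRing.maximalIdeal (X.presheaf.stalk (Curv2.bcFst k X K w₀))).IsPrincipal := fun hp => by
      obtain ⟨hreg, hd⟩ := regular_of_principal hp
      exact H11Node.not_isNode_of_isRegularLocalRing hd hN
    have hun : ∀ w : (Curv2.bc k X K : Scheme.{u}), Curv2.bcFst k X K w = Curv2.bcFst k X K w₀ →
        (IsLocalRing.maximalIdeal (X.presheaf.stalk (Curv2.bcFst k X K w))).map ((Curv2.bcFst k X K).stalkMap w).hom =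
          IsLocalRing.maximalIdeal ((Curv2.bc k X K).presheaf.stalk w) := fun w hw => by
      letI := Curv2.stalkAlgebra K (Curv2.bc k X K) w
      letI : Algebra (X.presheaf.stalk (Curv2.bcFst k X K w)) ((Curv2.bc k X K).presheaf.stalk w) :=
        ((Curv2.bcFst k X K).stalkMap w).hom.toAlgebra
      haveI : IsLocalHom (algebraMap (X.presheaf.stalk (Curv2.bcFst k X K w)) ((Curv2.bc k X K).presheaf.stalk w)) :=
        inferInstanceAs (IsLocalHom ((Curv2.bcFst k X K).stalkMap w).hom)
      haveI : Module.Flat (X.presheaf.stalk (Curv2.bcFst k X K w)) ((Curv2.bc k X K).presheaf.stalk w) :=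
        RingHom.flat_algebraMap_iff.1 (Flat.stalkMap (Curv2.bcFst k X K) w)
      exact H29Node.map_maximal_eq_of_node (by rw [hw]; exact hnp) (H29Node.isOrdDoublePt_of_over hN w hw)
    have hsep := H29Node.isSeparable_of_map_maximal_eq hx hun
    refine ⟨hsep, ?_⟩
    letI := Curv2.stalkAlgebra K (Curv2.bc k X K) w₀
    letI : Algebra (X.presheaf.stalk (Curv2.bcFst k X K w₀)) ((Curv2.bc k X K).presheaf.stalk w₀) :=
      ((Curv2.bcFst k X K).stalkMap w₀).hom.toAlgebra
    haveI : IsLocalHom (algebraMap (X.presheaf.stalk (Curv2.bcFst k X K w₀)) ((Curv2.bc k X K).presheaf.stalk w₀)) :=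
      inferInstanceAs (IsLocalHom ((Curv2.bcFst k X K).stalkMap w₀).hom)
    haveI : Module.Flat (X.presheaf.stalk (Curv2.bcFst k X K w₀)) ((Curv2.bc k X K).presheaf.stalk w₀) :=
      RingHom.flat_algebraMap_iff.1 (Flat.stalkMap (Curv2.bcFst k X K) w₀)
    obtain ⟨u, v, huv⟩ := H29Node.exists_pair_of_isOrdDoublePt (H29Node.isOrdDoublePt_of_over hN w₀ rfl)
    obtain ⟨hrank, p, q, a, b, c, hp, hq, hspan, hd, hquad⟩ :=
      H29Node.exists_quad_of_pair (hun w₀ rfl) hnp huv
    letI := Curv2.stalkAlgebra k X (Curv2.bcFst k X K w₀)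
    haveI : Algebra.IsSeparable k (IsLocalRing.ResidueField (X.presheaf.stalk (Curv2.bcFst k X K w₀))) := by
      let e : (X.residueField (Curv2.bcFst k X K w₀) : Type u) ≃ₐ[k]
          IsLocalRing.ResidueField (X.presheaf.stalk (Curv2.bcFst k X K w₀)) :=
        AlgEquiv.ofRingEquiv (f := (RingEquiv.refl (X.residueField (Curv2.bcFst k X K w₀)) :
          (X.residueField (Curv2.bcFst k X K w₀) : Type u) ≃+* IsLocalRing.ResidueField (X.presheaf.stalk (Curv2.bcFst k X K w₀))))
          fun r => rfl
      haveI := hsep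
      exact AlgEquiv.Algebra.isSeparable e
    obtain ⟨a', b', c', hd', e, he⟩ := H29Node.exists_completion_of_quad (k := k) hrank hp hq hspan hd hquad
    exact ⟨a', b', c', hd', e, he⟩
  · rintro ⟨hsep, a, b, c, hd, e, -⟩
    obtain ⟨w, rfl⟩ := (Curv2.bcFst k X K).surjective x
    obtain ⟨hred, hrank, p, q, a', b', c', hp, hq, hspan, hd', hquad⟩ := H29Node.exists_quad_of_completion hd e
    have hwc : IsClosed ({w} : Set (Curv2.bc k X K)) := H29Node.isClosed_of_isIntegralHom _ hx
    refine ⟨hx, w, rfl, ?_⟩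
    letI := Curv2.stalkAlgebra K (Curv2.bc k X K) w
    letI : Algebra (X.presheaf.stalk (Curv2.bcFst k X K w)) ((Curv2.bc k X K).presheaf.stalk w) :=
      ((Curv2.bcFst k X K).stalkMap w).hom.toAlgebra
    haveI : IsLocalHom (algebraMap (X.presheaf.stalk (Curv2.bcFst k X K w)) ((Curv2.bc k X K).presheaf.stalk w)) :=
      inferInstanceAs (IsLocalHom ((Curv2.bcFst k X K).stalkMap w).hom)
    haveI : Module.Flat (X.presheaf.stalk (Curv2.bcFst k X K w)) ((Curv2.bc k X K).presheaf.stalk w) :=
      RingHom.flat_algebraMap_iff.1 (Flat.stalkMap (Curv2.bcFst k X K) w)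
    refine H29Node.isOrdDoublePt_of_quad (H29Node.map_maximal_eq_of_separable K hx w rfl)
      (H29Node.exists_const_sub_mem hwc) (fun h => ?_)
      (H29Node.span_eq_of_le_sup_sq (Ideal.span_le.2 (by rintro z (rfl | rfl) <;> assumption)) hspan.ge) hd' hquad
    have := IsLocalRing.finrank_cotangentSpace_le_one_iff.2 h
    omega

end Groth.Agent.S1587
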