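import Groth.Statements.S6011
import Groth.Agent.H18Torsor.Basic

set_option autoImplicit false
universe u
open CategoryTheory AlgebraicGeometry
open SGA1

namespace Groth.Agent.S6011

/-- An S-scheme X with an action of the S-group G is trivial — equivariantly isomorphic over S to G
acting on itself by translation — if and only if it is formally principal homogeneous (a
pseudo-torsor) and admits a section over S. -/
theorem result {S : Scheme.{u}}
    (G X : Over S) [GrpObj G] (a : AlgGrp.Action G X) :
    Nonempty (NonAbH1.EquivIso (NonAbH1.trivialAction G) a) ↔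
      (NonAbH1.IsPseudoTorsorSch a ∧ NonAbH1.HasSectionOver X (𝟙 S)) := by
  open CartesianMonoidalCategory MonoidalCategory in
  constructor
  · rintro ⟨e, he⟩
    have hiso : e.hom ≫ e.inv = 𝟙 G := e.hom_inv_id
    refine ⟨?_, ((MonObj.one (X := G)) ≫ e.hom).left, Over.w _⟩
    haveI : IsIso (lift (NonAbH1.trivialAction G).act (snd G G)) := NonAbH1.isPseudoTorsorSch_trivialAction G
    have key : lift a.act (snd G X) =
        (G ◁ e.inv) ≫ lift (NonAbH1.trivialAction G).act (snd G G) ≫ (e.hom ⊗ₘ e.hom) := by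
      apply CartesianMonoidalCategory.hom_ext
      · simp only [Category.assoc, tensorHom_fst, lift_fst_assoc, lift_fst]
        rw [he, ← Category.assoc, ← MonoidalCategory.whiskerLeft_comp, Iso.inv_hom_id,
          MonoidalCategory.whiskerLeft_id, Category.id_comp]
      · simp
    show IsIso (lift a.act (snd G X))
    rw [key]
    infer_instance
  · rintro ⟨h, s, hs⟩
    let o : 𝟙_ (Over S) ⟶ X := Over.homMk s hs
    let e : G ≅ X := (rightUnitor G).symm ≪≫ H18Torsor.trivIso a h o ≪≫ rightUnitor X
    have hhom : e.hom = lift (𝟙 G) (toUnit G ≫ o) ≫ a.act := by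
      have e1 : (ρ_ G).inv ≫ lift (fst G (𝟙_ (Over S))) (snd G (𝟙_ (Over S)) ≫ o) = lift (𝟙 G) (toUnit G ≫ o) := by
        apply CartesianMonoidalCategory.hom_ext
        · simp
        · simp [Subsingleton.elim ((ρ_ G).inv ≫ snd G (𝟙_ (Over S))) (toUnit G)]
      simp [e, H18Torsor.trivIso, reassoc_of% e1]
    refine ⟨⟨e, ?_⟩⟩
    rw [hhom]
    show MonObj.mul ≫ _ = _
    have h1 : lift MonObj.mul (toUnit (G ⊗ G) ≫ o) = lift (𝟙 (G ⊗ G)) (toUnit (G ⊗ G) ≫ o) ≫ (MonObj.mul ▷ X) := by
      simp
    have h2 : MonObj.mul ≫ lift (𝟙 G) (toUnit G ≫ o) = lift (MonObj.mul (X := G)) (toUnit (G ⊗ G) ≫ o) := by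
      simp [comp_lift]
    rw [← Category.assoc, h2, h1, Category.assoc, a.mul_act, ← Category.assoc, ← Category.assoc]
    refine congrArg (· ≫ a.act) ?_
    apply CartesianMonoidalCategory.hom_ext
    · simp
    · rw [Category.assoc, whiskerLeft_snd, ← Category.assoc, whiskerLeft_snd, ← Category.assoc]
      refine congrArg (· ≫ a.act) ?_
      apply CartesianMonoidalCategory.hom_ext <;> simp

end Groth.Agent.S6011
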