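import Groth.Statements.S15874
import Groth.Agent.H18GenTors.Residue
import Groth.Agent.S6011
import Groth.Agent.H18DedTors.Main

set_option autoImplicit false
universe u
open CategoryTheory MonoidalCategory CartesianMonoidalCategory MonObj GrpObj AlgebraicGeometry
open NonAbH1

namespace Groth.Agent.S15874

/-- Let G be an étale k-group scheme and S a normal integral k-scheme with generic point η. Then an fppf
torsor over S under G whose base change to Spec κ(η) is trivial is itself trivial: the kernel of
H¹(S, G) → H¹(κ(η), G) on classes of torsors that are schemes is the base point. (The published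
statement takes S merely integral; the connected étale double cover of a nodal cubic over an
algebraically closed field is a non-trivial torsor under the constant group of order 2 that is
trivial at the generic point, so S is taken normal here, which is what the published proof uses.) -/
theorem result (k : Type u) [Field k]
    (G : Over (Spec (CommRingCat.of k))) [GrpObj G] [Etale G.hom]
    (S : Scheme.{u}) [IsIntegral S] (hS : Pi1.IsNormalScheme S) (s : S ⟶ Spec (CommRingCat.of k))
    (c : NonAbH1.H1Sch (Red.bc s G) Scheme.fppfPrecoverage)
    (hc : NonAbH1.H1Sch.bcMap (S.fromSpecResidueField (genericPoint S)) (Red.bc s G) Scheme.fppfPrecoverage c = 1) :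
    c = 1 := by
  induction c using Quot.ind with | mk P =>
  obtain ⟨e⟩ := (Groth.Agent.H18DedTors.equiv_equivalence _ _).eqvGen_iff.1 (Quot.eqvGen_exact hc)
  obtain ⟨t, ht⟩ := ((Groth.Agent.S6011.result _ _ _).1 ⟨Groth.Agent.H18DedTors.symmIso e⟩).2
  obtain ⟨σ, h1, -⟩ := Groth.Agent.H18GenTors.exists_section_residue G s P.act hS P.isTorsor
    (t ≫ Limits.pullback.fst P.X.hom (S.fromSpecResidueField (genericPoint S)))
    (by
      refine (Category.assoc _ _ _).trans ((congrArg (t ≫ ·) Limits.pullback.condition).trans ?_)
      refine (Category.assoc _ _ _).symm.trans ?_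
      exact (congrArg (· ≫ S.fromSpecResidueField (genericPoint S)) ht).trans (Category.id_comp _))
  obtain ⟨f⟩ := (Groth.Agent.S6011.result _ _ P.act).2 ⟨P.isTorsor.1, σ, h1⟩
  exact Quot.sound ⟨Groth.Agent.H18DedTors.symmIso f⟩

end Groth.Agent.S15874
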