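import Groth.Statements.S15875
import Groth.Agent.H19Grp.PointsEq
import Groth.Agent.H18Descent.Basic
import Groth.Agent.H19Grp.Blanchard

set_option autoImplicit false
set_option maxHeartbeats 1000000
set_option synthInstance.maxHeartbeats 100000
set_option linter.style.haveILetI false
set_option backward.isDefEq.respectTransparency false
universe u
open CategoryTheory MonoidalCategory CartesianMonoidalCategory MonObj GrpObj AlgebraicGeometry
open AGF

namespace Groth.Agent.S15875

open CategoryTheory.Limits

/-- A flat surjective homomorphism with quasi-compact kernel is quasi-compact. -/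
theorem quasiCompact_hom {K : Type u} [Field K] {G Q N : Over (Spec (CommRingCat.of K))} [GrpObj G] [GrpObj Q]
    [LocallyOfFiniteType G.hom] [LocallyOfFiniteType Q.hom] (q : G ⟶ Q) [IsMonHom q] [Surjective q.left] [Flat q.left]
    (iN : N ⟶ G) (hN : AlgGrp.IsKernel iN q) [CompactSpace N.left] : QuasiCompact q.left := by
  haveI : IsLocallyNoetherian Q.left := LocallyOfFiniteType.isLocallyNoetherian Q.hom
  haveI : LocallyOfFiniteType q.left := by
    haveI : LocallyOfFiniteType (q.left ≫ Q.hom) := by rw [Over.w q]; infer_instance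
    exact locallyOfFiniteType_of_comp q.left Q.hom
  haveI : LocallyOfFinitePresentation q.left := inferInstance
  haveI : QuasiCompact N.hom := (quasiCompact_iff_compactSpace N.hom).2 inferInstance
  haveI : QuasiCompact (snd N G).left := MorphismProperty.pullback_snd (P := @QuasiCompact) N.hom G.hom inferInstance
  let M : N ⊗ G ⟶ G := (fst N G ≫ iN) * snd N G
  have hM : M ≫ q = snd N G ≫ q := by
    rw [MonObj.mul_comp, Category.assoc, hN.w, ← Category.assoc, toUnit_unique (fst N G ≫ toUnit N) (toUnit _),
      ← Hom.one_def, _root_.one_mul]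
  rw [quasiCompact_iff_forall_isAffineOpen]
  intro U hU
  choose x hx using fun y : U => q.left.surjective y.1
  have hWx : ∀ y : U, ∃ W : G.left.Opens, IsAffineOpen W ∧ x y ∈ W ∧ W ≤ q.left ⁻¹ᵁ U := fun y =>
    exists_isAffineOpen_mem_and_subset (show x y ∈ q.left ⁻¹ᵁ U by show q.left (x y) ∈ U; rw [hx]; exact y.2)
  choose W hWa hxW hWU using hWx
  obtain ⟨t, ht⟩ := hU.isCompact.elim_finite_subcover (fun y : U => q.left '' (W y : Set G.left))
    (fun y => q.left.isOpenMap _ (W y).isOpen)
    (fun y hy => Set.mem_iUnion.2 ⟨⟨y, hy⟩, ⟨x ⟨y, hy⟩, hxW _, hx _⟩⟩)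
  let W₀ : G.left.Opens := ⨆ y ∈ t, W y
  have hW₀ : (W₀ : Set G.left) = ⋃ y ∈ t, (W y : Set G.left) := by simp [W₀]
  have hW₀c : IsCompact (W₀ : Set G.left) := by
    rw [hW₀]; exact t.finite_toSet.isCompact_biUnion fun y _ => (hWa y).isCompact
  suffices (q.left ⁻¹ᵁ U : Set G.left) = M.left '' ((snd N G).left ⁻¹' (W₀ : Set G.left)) by
    show IsCompact (q.left ⁻¹ᵁ U : Set G.left)
    rw [this]
    exact ((snd N G).left.isCompact_preimage hW₀c).image M.left.continuous
  ext z
  constructor
  · intro hz
    obtain ⟨y, hy, w, hw, hwz⟩ : ∃ y ∈ t, ∃ w ∈ W y, q.left w = q.left z := by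
      simpa using ht (show q.left z ∈ (U : Set Q.left) from hz)
    obtain ⟨c, hc₁, hc₂⟩ := Scheme.Pullback.exists_preimage_pullback (f := q.left) (g := q.left) z w hwz.symm
    let P := Limits.pullback q.left q.left
    let s := P.fromSpecResidueField c ≫ pullback.fst q.left q.left ≫ G.hom
    let a : Over.mk s ⟶ G := Over.homMk (P.fromSpecResidueField c ≫ pullback.fst q.left q.left) (Category.assoc _ _ _)
    let b : Over.mk s ⟶ G := Over.homMk (P.fromSpecResidueField c ≫ pullback.snd q.left q.left) (by
      show (_ ≫ pullback.snd q.left q.left) ≫ G.hom = P.fromSpecResidueField c ≫ pullback.fst q.left q.left ≫ G.hom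
      rw [Category.assoc, ← Over.w q, pullback.condition_assoc])
    have hab : a ≫ q = b ≫ q := Over.OverMorphism.ext (by
      simp only [Over.comp_left, a, b, Over.homMk_left, Category.assoc, pullback.condition])
    obtain ⟨n, hn, -⟩ := hN.exists_lift (a * b⁻¹) (toUnit _) (by
      rw [MonObj.mul_comp, GrpObj.inv_comp, hab, mul_inv_cancel, Hom.one_def])
    let pt : ↥(Spec (P.residueField c)) := IsLocalRing.closedPoint _
    refine ⟨(lift n b).left pt, ?_, ?_⟩
    · show (snd N G).left _ ∈ W₀
      rw [← Scheme.Hom.comp_apply, ← Over.comp_left, lift_snd]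
      show pullback.snd q.left q.left (P.fromSpecResidueField c pt) ∈ W₀
      erw [Scheme.fromSpecResidueField_apply, hc₂]
      rw [← SetLike.mem_coe, hW₀]
      exact Set.mem_biUnion hy hw
    · rw [← Scheme.Hom.comp_apply, ← Over.comp_left,
        show lift n b ≫ M = a by
          rw [MonObj.comp_mul, ← Category.assoc, lift_fst, lift_snd, hn, inv_mul_cancel_right]]
      show pullback.fst q.left q.left (P.fromSpecResidueField c pt) = z
      erw [Scheme.fromSpecResidueField_apply, hc₁]
  · rintro ⟨p, hp, rfl⟩
    obtain ⟨y, hy, hpy⟩ : ∃ y ∈ t, (snd N G).left p ∈ W y := by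
      have h' : (snd N G).left p ∈ (W₀ : Set G.left) := hp
      rw [hW₀] at h'
      simpa using h'
    show q.left (M.left p) ∈ U
    rw [← Scheme.Hom.comp_apply, ← Over.comp_left, hM, Over.comp_left, Scheme.Hom.comp_apply]
    exact hWU y hpy


/-- Let k'/k be a finite purely inseparable field extension, G a k-group locally of finite type, q :
G_{k'} → Ḡ a faithfully flat homomorphism onto a k'-group Ḡ locally of finite type with
quasi-compact kernel N, and (R, q_R) a Weil restriction of Ḡ to k carrying a group structure for
which q_R is a homomorphism. Then the comparison morphism i : G → R corresponding to q is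
quasi-compact. (The published statement allows any finite extension k'/k and adds that the kernel of
i is quasi-compact as well; the published proof goes through the purely inseparable case of the
kernel of the counit of Weil restriction, so k'/k is taken purely inseparable here.) -/
theorem result (k k' : Type u) [Field k] [Field k'] [Algebra k k']
    [Module.Finite k k'] [IsPurelyInseparable k k']
    (G : Over (Spec (CommRingCat.of k))) [GrpObj G] [LocallyOfFiniteType G.hom]
    (Gbar : Over (Spec (CommRingCat.of k'))) [GrpObj Gbar] [LocallyOfFiniteType Gbar.hom]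
    (q : Red.bc (Spec.map (CommRingCat.ofHom (algebraMap k k'))) G ⟶ Gbar) [IsMonHom q] [Surjective q.left] [Flat q.left]
    (N : Over (Spec (CommRingCat.of k'))) (iN : N ⟶ Red.bc (Spec.map (CommRingCat.ofHom (algebraMap k k'))) G) (hN : AlgGrp.IsKernel iN q) [CompactSpace N.left]
    (R : Over (Spec (CommRingCat.of k))) [GrpObj R] (qR : Red.bc (Spec.map (CommRingCat.ofHom (algebraMap k k'))) R ⟶ Gbar) [IsMonHom qR]
    (hR : WeilRes.IsWeilRes (Spec.map (CommRingCat.ofHom (algebraMap k k'))) Gbar R qR) :
    QuasiCompact (hR.lift G q).left := by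
  let f := Spec.map (CommRingCat.ofHom (algebraMap k k'))
  let i := hR.lift G q
  let m := (Over.pullback f).map i
  have hm : m ≫ qR = q := hR.restr_lift G q
  haveI : IsSeparated R.hom := Groth.Agent.H19Grp.PointsDense.isSeparated_grp R
  haveI : LocallyOfFiniteType (Red.bc f G).hom :=
    MorphismProperty.pullback_snd (P := @LocallyOfFiniteType) G.hom f inferInstance
  haveI : QuasiCompact q.left := quasiCompact_hom q iN hN
  haveI : IsSeparated qR.left := by
    haveI : IsSeparated (Red.bc f R).hom := MorphismProperty.pullback_snd (P := @IsSeparated) R.hom f inferInstance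
    haveI : IsSeparated (qR.left ≫ Gbar.hom) := by rw [Over.w qR]; infer_instance
    exact IsSeparated.of_comp qR.left Gbar.hom
  haveI : QuasiCompact m.left := by
    haveI : QuasiCompact (m.left ≫ qR.left) := by rw [← Over.comp_left, hm]; infer_instance
    exact QuasiCompact.of_comp m.left qR.left
  have sq : IsPullback m.left (pullback.fst G.hom f) (pullback.fst R.hom f) i.left := by
    refine (IsPullback.of_bot (v₂₁ := pullback.snd R.hom f) (v₂₂ := R.hom) ?_ ?_
      (IsPullback.of_hasPullback R.hom f)).flip
    · have e₁ : m.left ≫ pullback.snd R.hom f = pullback.snd G.hom f := Over.w m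
      rw [e₁, Over.w i]
      exact IsPullback.of_hasPullback G.hom f
    · exact (pullback.lift_fst _ _ _).symm
  haveI : Surjective f := ⟨fun z => ⟨IsLocalRing.closedPoint k', Subsingleton.elim (α := PrimeSpectrum k) _ _⟩⟩
  haveI : Flat f := Groth.Agent.H12AlgSp.flat_to_field f
  haveI : Surjective (pullback.fst R.hom f) := MorphismProperty.pullback_fst _ _ inferInstance
  haveI : Flat (pullback.fst R.hom f) := MorphismProperty.pullback_fst _ _ inferInstance
  haveI : QuasiCompact (pullback.fst R.hom f) := MorphismProperty.pullback_fst _ _ inferInstance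
  exact MorphismProperty.of_isPullback_of_descendsAlong (P := @QuasiCompact) (Q := H18Descent.fpqc) sq
    ⟨⟨inferInstance, inferInstance⟩, inferInstance⟩ ‹QuasiCompact m.left›

end Groth.Agent.S15875
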