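import Groth.Statements.S1588
import Groth.Agent.H29Node.NodeBC

set_option autoImplicit false
universe u
open CategoryTheory CategoryTheory.Limits AlgebraicGeometry
open Curves

namespace Groth.Agent.S1588

/-- Let K be a field extension of k, X locally of finite type over k of dimension one, and y a point of
X_K with image x in X. Then x is a node of X (in particular closed) if and only if y is a node of
X_K. -/
theorem result (k : Type u) [Field k] (X : Scheme.{u}) [X.Over (Spec (CommRingCat.of k))] [LocallyOfFiniteType (X ↘ (Spec (CommRingCat.of k)))]
    (hdim : topologicalKrullDim X = 1) (K : Type u) [Field K] [Algebra k K] (y : Curv2.bc k X K) :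
    Curv2.IsNode k X (Curv2.bcFst k X K y) ↔ @Curv2.IsNode K _ (Curv2.bc k X K) ⟨Curv2.bcSnd k X K⟩ y := by
  refine Groth.Agent.H29Node.isNode_iff_bc (fun a b hab hne => ?_) K y
  exact Groth.Agent.H22Alg.DimOneDiv.isClosed_singleton_of_lt hab hne
    ((topologicalKrullDim_subspace_le X _).trans hdim.le)

end Groth.Agent.S1588
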