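import Groth.Statements.S15880
import Groth.Agent.H17.FreePush.Main
import Groth.Agent.H10Coh.Pn.Results
-- import your own Groth.Agent.* helpers here

set_option autoImplicit false
universe u
open CategoryTheory CategoryTheory.Limits AlgebraicGeometry
open CohB1

namespace Groth.Agent.S15880

/-- Let k be a field, s a k-point of P^n_k and f : F → P^n_k a finite morphism whose direct image of the
structure sheaf is isomorphic to the free module O^{⊕d} on P^n_k. Then F is, over P^n_k, isomorphic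
to the base change F_s ×_k P^n_k of its fibre at s (existence of an isomorphism over P^n_k). (The
published statement is the equivalence of categories between finite k-schemes and finite flat
P^n_k-schemes with free direct image of the structure sheaf, with inverse F ↦ s^*F; this row states
its essential surjectivity in the pinned form F ≅ (s^*F) ×_k P^n_k.) -/
theorem result (k : Type u) [Field k] (n d : ℕ)
    (s : Spec (CommRingCat.of k) ⟶ CohB1.ProjSpace n k) (hs : s ≫ CohB1.ProjSpace.toSpec n k = 𝟙 _)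
    (F : Scheme.{u}) (f : F ⟶ CohB1.ProjSpace n k) [IsFinite f]
    (e : (Scheme.Modules.pushforward f).obj (SheafOfModules.unit F.ringCatSheaf) ≅
      ∐ fun _ : ULift.{u} (Fin d) => (SheafOfModules.unit (CohB1.ProjSpace n k).ringCatSheaf :
        (CohB1.ProjSpace n k).Modules)) :
    Nonempty (Over.mk f ≅ Over.mk (pullback.snd (pullback.snd f s) (CohB1.ProjSpace.toSpec n k))) := by
  let t : ProjSpace n k ⟶ Spec (CommRingCat.of k) := ProjSpace.toSpec n k
  have ht : IsIso t.appTop := H10Coh.Pn.isIso_toS_appTop n k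
  let a : CommRingCat.of k ⟶ Γ(F, ⊤) := (Scheme.ΓSpecIso _).inv ≫ (f ≫ t).appTop
  let g : Spec Γ(F, ⊤) ⟶ Spec (CommRingCat.of k) := Spec.map a
  let q : F ⟶ Spec Γ(F, ⊤) := F.toSpecΓ
  have w : f ≫ t = q ≫ g := by
    change f ≫ t = F.toSpecΓ ≫ Spec.map ((Scheme.ΓSpecIso _).inv ≫ (f ≫ t).appTop)
    rw [Spec.map_comp, ← Category.assoc F.toSpecΓ, ← Scheme.toSpecΓ_naturality, Category.assoc,
      toSpecΓ_SpecMap_ΓSpecIso_inv, Category.comp_id]
  obtain ⟨b, hb⟩ := H17.FreePush.exists_basis f e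
  have hga : ∀ r, g.appTop r = (Scheme.ΓSpecIso Γ(F, ⊤)).inv (a ((Scheme.ΓSpecIso (CommRingCat.of k)).hom r)) := fun r => by
    have h := ConcreteCategory.congr_hom (Scheme.ΓSpecIso_naturality a) r
    simp only [CommRingCat.comp_apply] at h
    rw [← h]
    exact (ConcreteCategory.congr_hom (Scheme.ΓSpecIso Γ(F, ⊤)).hom_inv_id (g.appTop r)).symm
  let v : ULift.{u} (Fin d) → Γ(Spec Γ(F, ⊤), ⊤) := fun i => (Scheme.ΓSpecIso Γ(F, ⊤)).inv (b i)
  have hv : ∀ x : Γ(Spec Γ(F, ⊤), ⊤), ∃ r : ULift.{u} (Fin d) → Γ(Spec (CommRingCat.of k), ⊤),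
      x = ∑ i, g.appTop (r i) * v i := fun x => by
    obtain ⟨c, hc⟩ := (hb ⊤).2 ((Scheme.ΓSpecIso Γ(F, ⊤)).hom x)
    refine ⟨fun i => (inv t.appTop) (c i), ?_⟩
    have hx : x = (Scheme.ΓSpecIso Γ(F, ⊤)).inv ((Scheme.ΓSpecIso Γ(F, ⊤)).hom x) :=
      (ConcreteCategory.congr_hom (Scheme.ΓSpecIso Γ(F, ⊤)).hom_inv_id x).symm
    refine hx.trans ?_
    rw [← hc]
    refine (map_sum (Scheme.ΓSpecIso Γ(F, ⊤)).inv.hom _ _).trans ?_
    refine Finset.sum_congr rfl fun i _ => ?_
    refine (map_mul (Scheme.ΓSpecIso Γ(F, ⊤)).inv.hom _ _).trans ?_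
    rw [hga]
    refine congr_arg₂ (· * ·) ?_ ?_
    · refine congrArg _ ?_
      change f.app ⊤ (c i) = (f ≫ t).appTop ((Scheme.ΓSpecIso (CommRingCat.of k)).inv ((Scheme.ΓSpecIso (CommRingCat.of k)).hom (inv t.appTop (c i))))
      rw [Scheme.Hom.comp_appTop, CommRingCat.comp_apply]
      refine congrArg f.appTop (Eq.symm ?_)
      refine (congrArg t.appTop (ConcreteCategory.congr_hom (Scheme.ΓSpecIso (CommRingCat.of k)).hom_inv_id _)).trans ?_
      exact ConcreteCategory.congr_hom (IsIso.inv_hom_id t.appTop) (c i)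
    · change (Scheme.ΓSpecIso Γ(F, ⊤)).inv (F.presheaf.map (homOfLE (le_top (a := f ⁻¹ᵁ ⊤))).op (b i)) = (Scheme.ΓSpecIso Γ(F, ⊤)).inv (b i)
      refine congrArg _ ?_
      exact ConcreteCategory.congr_hom (F.presheaf.map_id (Opposite.op (⊤ : F.Opens))) (b i)
  haveI : IsIso (pullback.lift f q w) := H17.FreePush.isIso_lift_of_basis f q w v hv fun U => by
    have : (fun i => q.appTop (v i)) = b := funext fun i => by
      rw [show q.appTop = (Scheme.ΓSpecIso Γ(F, ⊤)).hom from Scheme.toSpecΓ_appTop F]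
      exact ConcreteCategory.congr_hom (Scheme.ΓSpecIso Γ(F, ⊤)).inv_hom_id (b i)
    simpa only [congrFun this] using hb U
  have H : IsPullback q f g t := by
    refine (IsPullback.of_iso (IsPullback.of_hasPullback t g) (asIso (pullback.lift f q w)).symm (Iso.refl _) (Iso.refl _) (Iso.refl _) ?_ ?_ ?_ ?_).flip
    · simp only [Iso.symm_hom, asIso_inv, Iso.refl_hom, Category.comp_id, IsIso.eq_inv_comp]
      exact pullback.lift_fst _ _ _
    · simp only [Iso.symm_hom, asIso_inv, Iso.refl_hom, Category.comp_id, IsIso.eq_inv_comp]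
      exact pullback.lift_snd _ _ _
    all_goals simp
  have H₂ := (IsPullback.of_hasPullback f s).paste_horiz H
  rw [show s ≫ t = 𝟙 _ from hs] at H₂
  have hφ : IsIso (pullback.fst f s ≫ q) := H₂.isIso_fst_of_isIso
  have hσ : pullback.snd f s = (pullback.fst f s ≫ q) ≫ g := by simpa using H₂.w.symm
  have H₃ : IsPullback (q ≫ inv (pullback.fst f s ≫ q)) f (pullback.snd f s) t := by
    refine IsPullback.of_iso H (Iso.refl _) (asIso (pullback.fst f s ≫ q)).symm (Iso.refl _) (Iso.refl _) ?_ ?_ ?_ ?_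
    · simp
    · simp
    · simp [hσ]
    · simp
  exact ⟨Over.isoMk H₃.isoPullback (H₃.isoPullback_hom_snd)⟩

end Groth.Agent.S15880
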