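import Groth.Statements.S15883
import Groth.Agent.H26BMCoh.Binary

set_option autoImplicit false
universe u
open CategoryTheory AlgebraicGeometry Opposite
open BMCoh

namespace Groth.Agent.S15883

/-- Let T be a twisted Borel–Moore cohomology theory with coefficients in A (a full subcategory of
R-modules containing R) on a constructible class V of Noetherian schemes, and let i_X : X → W and
i_Y : Y → W be morphisms of V — open immersions with dim X = dim W = dim Y — whose images are
complementary in W, so that W is the disjoint union of X and Y. Then for every coefficient module M
and all integers i, n the map H^i(W, M(n)) → H^i(X, M(n)) × H^i(Y, M(n)) whose components are the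
restriction maps along i_X and i_Y is bijective. -/
theorem result (V : ObjectProperty Scheme.{u}) [BMCoh.IsConstructible V] (R : Type u) [CommRing R] (A : BMCoh.Coefs R) (T : BMCoh.TheoryOn V R A) {X Y W : BMCoh.Obj V} (iX : X ⟶ W) (iY : Y ⟶ W) (h : Set.range iX.hom = (Set.range iY.hom)ᶜ) (M : A.Cat) (i n : ℤ) : Function.Bijective (fun a : T.gp W M i n => ((T.pull iX M i n).hom a, (T.pull iY M i n).hom a)) := by
  exact Groth.Agent.H26BMCoh.pullProd_bijective T.toPreTheory iX iY h M i n

end Groth.Agent.S15883
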