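import Groth.Statements.S15889
import Groth.Agent.H20OT.FrobDual

set_option autoImplicit false
universe u
open Versch

namespace Groth.Agent.S15889
open WithConv

/-- Let p be a prime, R a commutative ring of characteristic p and A a commutative and cocommutative
Hopf algebra over R which is finitely generated and projective as an R-module, of characteristic p
(a finite locally free commutative group scheme G = Spec A over S = Spec R). Let v : A → A ⊗_R
R^(Frob) be the comorphism of the Verschiebung V : G^(p) → G, i.e. the ring map whose transpose
under the canonical pairing is the relative Frobenius of the dual Hopf algebra. Then the composite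
of the relative Frobenius comorphism A^(p) → A with v is the p-th convolution power of the identity
of A: V ∘ F = [p] is multiplication by p on G. (The published notes work over a Noetherian base
ring; the row allows any commutative base ring of characteristic p.) -/
theorem result (p : ℕ) [Fact p.Prime] (R : Type u) [CommRing R] [CharP R p]
    (A : Type u) [CommRing A] [HopfAlgebra R A] [Coalgebra.IsCocomm R A] [Module.Finite R A] [Module.Projective R A]
    [CharP A p] (v : A →+* FrobAlg.BaseChange p R A) (hv : Versch.IsVerschiebung p R A v) :
    (FrobAlg.relFrob p R A).comp v = (SGA3b.powConv R A p).toRingHom := by
  obtain ⟨n, b, φ, hb⟩ := Groth.Agent.H20OT.exists_dual_basis (R := R) (A := A)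
  exact RingHom.ext fun a => Groth.Agent.H20OT.relFrob_verschiebung p b φ hb hv a

end Groth.Agent.S15889
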