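import Groth.Statements.S15890
import Groth.Agent.H20OT.FrobDual
import Groth.Agent.H27Frob.Etale
import Mathlib.LinearAlgebra.Dual.Basis
import Mathlib.Algebra.Algebra.Shrink
import Mathlib.RingTheory.Finiteness.Small
import Groth.Agent.H20OT.Cotan

set_option autoImplicit false
universe u v
open Versch

namespace Groth.Agent.S15890
open TensorProduct WithConv

/-- Let p be a prime, k a field of characteristic p and A a finite-dimensional commutative and
cocommutative Hopf algebra over k (a finite commutative k-group scheme G = Spec A), and let v : A →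
A ⊗_k k^(Frob) be the comorphism of the Verschiebung V : G^(p) → G (the ring map whose transpose
under the canonical pairing is the relative Frobenius of the dual Hopf algebra). Then G is
multiplicative, i.e. the dual Hopf algebra Hom_k(A, k) of the Cartier dual G^D is étale over k, if
and only if v is bijective, i.e. V is an isomorphism. -/
theorem result (p : ℕ) [Fact p.Prime] (k : Type u) [Field k] [CharP k p]
    (A : Type v) [CommRing A] [HopfAlgebra k A] [Coalgebra.IsCocomm k A] [FiniteDimensional k A]
    (v : A →+* FrobAlg.BaseChange p k A) (hv : Versch.IsVerschiebung p k A v) :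
    Algebra.Etale k (CartDual.D k A) ↔ Function.Bijective v := by
  classical
  obtain ⟨n, ⟨b⟩⟩ : ∃ n, Nonempty (Module.Basis (Fin n) k A) := ⟨_, ⟨Module.finBasis k A⟩⟩
  let D := CartDual.D k A
  haveI : Algebra.FinitePresentation k D := by
    haveI : IsNoetherianRing k := inferInstance
    exact Algebra.FinitePresentation.of_finiteType.mp inferInstance
  let y : Fin n → D := fun i => toConv (b.coord i)
  let bD : Module.Basis (Fin n) k D := b.dualBasis.map (CartDual.toDual k A).symm
  have hbD : ∀ i, bD i = y i := fun i => by
    simp only [bD, Module.Basis.map_apply, Module.Basis.coe_dualBasis, y]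
    rfl
  have hva := fun a => Groth.Agent.H20OT.dual_pow_char p (fun i => b i) (fun i => b.coord i) (fun z => b.sum_repr z)
    (x := a) (N := 1)
  -- both sides are the statement that the `p`-th powers of a basis of the dual span
  have hfin : Module.finrank k D = n := by rw [Module.finrank_eq_card_basis bD, Fintype.card_fin]
  constructor
  · intro h
    have hs : Submodule.span k (Set.range fun i => y i ^ p) = ⊤ := by
      haveI : Small.{u} D := Module.Finite.small k D
      let e : Shrink.{u} D ≃ₐ[k] D := Shrink.algEquiv k D
      haveI : Algebra.Etale k (Shrink.{u} D) := Algebra.Etale.of_equiv (A := D) e.symm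
      haveI : CharP (Shrink.{u} D) p := charP_of_injective_algebraMap (fun r s hrs => by
        have := congrArg e hrs
        rwa [AlgEquiv.commutes, AlgEquiv.commutes, (Bialgebra.algebraMap_injective (R := k) D).eq_iff] at this) p
      have hsurj := ((Groth.Agent.H27Frob.etale_iff_bijective_relFrob p k (Shrink.{u} D)).mp inferInstance).2
      have h1 := Groth.Agent.H20OT.span_pow_of_surjective_relFrob p hsurj (bD.map e.symm.toLinearEquiv)
      have h2 := congrArg (Submodule.map e.toLinearMap) h1
      rw [Submodule.map_span, Submodule.map_top, LinearMap.range_eq_top.mpr e.surjective, ← Set.range_comp] at h2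
      rw [← h2]
      congr 2
      funext i
      simp [Function.comp_apply, hbD]
    refine ⟨(injective_iff_map_eq_zero v).mpr fun a ha => ?_, fun z => ?_⟩
    · refine Groth.Agent.H20OT.dual_eval_ext (R := k) fun f => ?_
      obtain ⟨c, hc⟩ := (Submodule.mem_span_range_iff_exists_fun k).mp (hs.symm ▸ Submodule.mem_top (x := f))
      rw [← hc, WithConv.ofConv_sum, LinearMap.sum_apply, map_zero]
      refine Finset.sum_eq_zero fun i _ => ?_
      have h0 := ((Versch.isVerschiebung_iff p k A v).mp hv a (y i)).symm
      rw [ha, map_zero, map_eq_zero_iff _ (FrobAlg.toTwist p k).injective] at h0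
      rw [WithConv.ofConv_smul, LinearMap.smul_apply]
      rw [show ((y i) ^ p).ofConv a = 0 from h0, smul_zero]
    · -- surjectivity
      have hrep : ∃ s : Fin n → k, z = ∑ i, b i ⊗ₜ[k] FrobAlg.toTwist p k (s i) := by
        induction z using TensorProduct.induction_on with
        | zero => exact ⟨0, by simp⟩
        | add z w hz hw =>
          obtain ⟨s, rfl⟩ := hz
          obtain ⟨s', rfl⟩ := hw
          exact ⟨s + s', by simp [tmul_add, Finset.sum_add_distrib]⟩
        | tmul c t =>
          refine ⟨fun i => b.repr c i ^ p * (FrobAlg.toTwist p k).symm t, ?_⟩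
          conv_lhs => rw [← b.sum_repr c, TensorProduct.sum_tmul]
          refine Finset.sum_congr rfl fun i _ => ?_
          rw [TensorProduct.smul_tmul, Algebra.smul_def, FrobAlg.algebraMap_twist, map_mul,
            RingEquiv.apply_symm_apply]
      obtain ⟨s, rfl⟩ := hrep
      have hdual : ∀ i, ∃ c : A, ∀ j, (y j ^ p).ofConv c = if j = i then 1 else 0 := by
        intro i
        obtain ⟨f, hf⟩ := Groth.Agent.H20OT.exists_dual_family hfin _ hs i
        obtain ⟨c, hc⟩ := Groth.Agent.H20OT.exists_eval_eq f
        exact ⟨c, fun j => by rw [← hc]; exact hf j⟩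
      choose c hc using hdual
      refine ⟨∑ i, s i • c i, ?_⟩
      rw [Groth.Agent.H20OT.verschiebung_apply p (fun i => b i) (fun i => b.coord i) (fun z => b.sum_repr z) hv]
      refine Finset.sum_congr rfl fun j _ => ?_
      congr 2
      show (y j ^ p).ofConv (∑ i, s i • c i) = s j
      simp [map_sum, map_smul, hc]
  · intro h
    have hs : Submodule.span k (Set.range fun i => y i ^ p) = ⊤ :=
      Groth.Agent.H20OT.span_pow_dual_of_injective p hv h.1 b
    refine Groth.Agent.H20OT.etale_iff_sq_augIdeal.mpr (le_antisymm (Ideal.pow_le_self two_ne_zero) fun x hx => ?_)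
    obtain ⟨c, hc⟩ := (Submodule.mem_span_range_iff_exists_fun k).mp (hs.symm ▸ Submodule.mem_top (x := x))
    have hp : 2 ≤ p := (Fact.out : p.Prime).two_le
    have hdiff : ∀ i, y i ^ p - algebraMap k D (Bialgebra.counitAlgHom k D (y i ^ p)) ∈
        Groth.Agent.H20OT.augIdeal k D ^ 2 := by
      intro i
      rw [map_pow, map_pow, ← sub_pow_char]
      refine Ideal.pow_le_pow_right hp (Ideal.pow_mem_pow ?_ _)
      rw [RingHom.mem_ker, map_sub, AlgHom.commutes, Algebra.algebraMap_self, RingHom.id_apply, sub_self]
    have hx0 : Bialgebra.counitAlgHom k D x = 0 := hx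
    have hx1 : ∑ i, c i * (Bialgebra.counitAlgHom k D (y i ^ p)) = 0 := by
      rw [← hx0, ← hc, map_sum]
      simp only [map_smul, smul_eq_mul]
    have h2 : ∑ i, c i • algebraMap k D (Bialgebra.counitAlgHom k D (y i ^ p)) = 0 := by
      rw [← map_zero (algebraMap k D), ← hx1, map_sum]
      simp only [map_mul, Algebra.smul_def]
    have : x = ∑ i, c i • (y i ^ p - algebraMap k D (Bialgebra.counitAlgHom k D (y i ^ p))) := by
      simp only [smul_sub, Finset.sum_sub_distrib]
      rw [hc, h2, sub_zero]
    rw [this]
    exact Submodule.sum_mem _ fun i _ => Submodule.smul_of_tower_mem _ _ (hdiff i)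

end Groth.Agent.S15890
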