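import Groth.Statements.S15891
import Groth.Agent.H20OT.FrobDual

set_option autoImplicit false
universe u
open scoped TensorProduct
open Versch

namespace Groth.Agent.S15891
open TensorProduct WithConv

/-- Let p be a prime, R a commutative ring of characteristic p and A a commutative and cocommutative
Hopf algebra over R which is finitely generated and projective as an R-module, of characteristic p
(a finite locally free commutative group scheme G = Spec A over S = Spec R), and let v : A → A^(p) =
A ⊗_R R^(Frob) be the comorphism of the Verschiebung V : G^(p) → G (the ring map whose transpose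
under the canonical pairing is the relative Frobenius of the dual Hopf algebra). Then F ∘ V = [p] is
multiplication by p on the S-group G^(p): the ring endomorphism v ∘ F* of A^(p), where F* : A^(p) →
A is the relative Frobenius comorphism, transported along the symmetry A ⊗_R R^(Frob) ≅ R^(Frob) ⊗_R
A, is the p-th convolution power of the identity of the Hopf algebra R^(Frob) ⊗_R A over R^(Frob)
(the base change of A along the Frobenius of R). (The published notes work over a Noetherian base
ring; the row allows any commutative base ring of characteristic p.) -/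
theorem result (p : ℕ) [Fact p.Prime] (R : Type u) [CommRing R] [CharP R p]
    (A : Type u) [CommRing A] [HopfAlgebra R A] [Coalgebra.IsCocomm R A] [Module.Finite R A] [Module.Projective R A]
    [CharP A p] (v : A →+* FrobAlg.BaseChange p R A) (hv : Versch.IsVerschiebung p R A v) :
    ((Algebra.TensorProduct.comm R A (FrobAlg.Twist p R)).toRingEquiv.toRingHom.comp
        ((v.comp (FrobAlg.relFrob p R A)).comp
          (Algebra.TensorProduct.comm R A (FrobAlg.Twist p R)).symm.toRingEquiv.toRingHom)) =
      (SGA3b.powConv (FrobAlg.Twist p R) (FrobAlg.Twist p R ⊗[R] A) p).toRingHom := by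
  obtain ⟨n, b, φ, hb⟩ := Groth.Agent.H20OT.exists_dual_basis (R := R) (A := A)
  have hva : ∀ r : R, v (algebraMap R A r) = (1 : A) ⊗ₜ[R] FrobAlg.toTwist p R r := by
    intro r
    refine Versch.evTw_injective p R A fun x => ?_
    rw [(Versch.isVerschiebung_iff p R A v).mp hv, Versch.evTw_tmul', ← map_mul]
    congr 1
    rw [Algebra.algebraMap_eq_smul_one, CartDual.coe_apply, map_smul, smul_eq_mul, mul_comm, CartDual.coe_apply]
    congr 1
    exact map_pow (Bialgebra.counitAlgHom R (CartDual.D R A)) x p
  haveI : CharP (FrobAlg.Twist p R ⊗[R] A) p :=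
    charP_of_injective_algebraMap (Bialgebra.algebraMap_injective (R := FrobAlg.Twist p R) (FrobAlg.Twist p R ⊗[R] A)) p
  refine RingHom.ext fun z => ?_
  induction z using TensorProduct.induction_on with
  | zero => rw [map_zero, map_zero]
  | add s t hs ht => rw [map_add, map_add, hs, ht]
  | tmul t a =>
    rw [show t ⊗ₜ[R] a = t • ((1 : FrobAlg.Twist p R) ⊗ₜ[R] a) by
      rw [TensorProduct.smul_tmul', smul_eq_mul, mul_one]]
    conv_rhs => rw [AlgHom.toRingHom_eq_coe, RingHom.coe_coe, map_smul, Groth.Agent.H20OT.powConv_one_tmul]
    rw [TensorProduct.smul_tmul', smul_eq_mul, mul_one]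
    have h : ((v.comp (FrobAlg.relFrob p R A)).comp
        (Algebra.TensorProduct.comm R A (FrobAlg.Twist p R)).symm.toRingEquiv.toRingHom) (t ⊗ₜ[R] a) =
        v (a ^ p * algebraMap R A ((FrobAlg.toTwist p R).symm t)) :=
      (congrArg v (Groth.Agent.H20OT.relFrob_tmul' p a t))
    rw [RingHom.comp_apply, h, map_mul v, map_pow v, hva, RingEquiv.apply_symm_apply, map_mul, map_pow,
      Groth.Agent.H20OT.verschiebung_apply p b φ hb hv, map_sum, sum_pow_char p]
    have hk := Groth.Agent.H20OT.powConv_pow_char p b φ hb 1 a
    rw [pow_one] at hk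
    rw [hk, TensorProduct.tmul_sum, Finset.smul_sum, Finset.sum_mul]
    refine Finset.sum_congr rfl fun i _ => ?_
    show (FrobAlg.toTwist p R (((toConv (φ i) : CartDual.D R A) ^ p).ofConv a) ⊗ₜ[R] b i) ^ p *
        (t ⊗ₜ[R] (1 : A)) = t • ((1 : FrobAlg.Twist p R) ⊗ₜ[R] (_ • b i ^ p))
    rw [Algebra.TensorProduct.tmul_pow, Algebra.TensorProduct.tmul_mul_tmul, mul_one, ← TensorProduct.smul_tmul,
      TensorProduct.smul_tmul', smul_eq_mul]
    congr 1
    rw [Algebra.smul_def, mul_one, FrobAlg.algebraMap_twist, map_pow, mul_comm]

end Groth.Agent.S15891
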