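import Groth.Statements.S15892
import Groth.Agent.H20Quot.Kernel
import Mathlib.RingTheory.Flat.EquationalCriterion
import Mathlib.Algebra.Module.FinitePresentation

set_option autoImplicit false
universe u
open CartDual

namespace Groth.Agent.S15892

noncomputable section

open scoped TensorProduct
open Coalgebra

theorem ff_of_bijective_codRestrict.{w₁, w₂} {R : Type w₁} {A B : Type w₂} [CommRing R] [CommRing A] [CommRing B]
    [Algebra R A] [Algebra R B] (S : Subalgebra R B) (j : A →ₐ[R] B) (hmem : ∀ y, j y ∈ S)
    (hbij : Function.Bijective (j.codRestrict S hmem)) (h : Module.FaithfullyFlat S B) :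
    j.toRingHom.FaithfullyFlat := by
  have h2 : (algebraMap S B).FaithfullyFlat := RingHom.faithfullyFlat_algebraMap_iff.2 h
  have hb : ((j.codRestrict S hmem).toRingHom).FaithfullyFlat :=
    RingHom.FaithfullyFlat.of_bijective hbij
  have h3 := RingHom.FaithfullyFlat.stableUnderComposition
    (R := A) (S := ↥S) (T := B) (j.codRestrict S hmem).toRingHom (algebraMap S B) hb h2
  have h4 : (algebraMap S B).comp (j.codRestrict S hmem).toRingHom = j.toRingHom :=
    RingHom.ext fun _ => rfl
  rwa [h4] at h3

section

variable (R : Type u) [CommRing R] {A A'' : Type u} [CommRing A] [HopfAlgebra R A]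
  [Module.Finite R A] [Module.Projective R A] [CommRing A''] [HopfAlgebra R A'']
  [Module.Finite R A''] [Module.Projective R A''] [Coalgebra.IsCocomm R A]
  [Coalgebra.IsCocomm R A'']

theorem mem_inv_iff (f : A'' →ₐc[R] A) (x : CartDual.D R A) :
    x ∈ H20Quot.inv (H20Quot.rightCoaction
        (CartDual.transpose R f : CartDual.D R A →ₐ[R] CartDual.D R A'')) ↔
      ∀ a c, x (a * f c) = counit (R := R) c * x a := by
  let P : CartDual.D R A ⊗[R] CartDual.D R A'' ≃ₗ[R] Module.Dual R (A ⊗[R] A'') :=
    TensorProduct.congr (CartDual.toDual R A) (CartDual.toDual R A'') ≪≫ₗ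
      CartDual.dualTensorEquiv R A A''
  have hP : ∀ (t : CartDual.D R A ⊗[R] CartDual.D R A) a c,
      P (Algebra.TensorProduct.map (AlgHom.id R (CartDual.D R A))
        (CartDual.transpose R f : CartDual.D R A →ₐ[R] CartDual.D R A'') t) (a ⊗ₜ c) =
      CartDual.ev₂ R A t (a ⊗ₜ f c) := by
    intro t a c
    induction t using TensorProduct.induction_on with
    | zero => simp
    | add u v hu hv => simp [map_add, hu, hv]
    | tmul u v =>
      rw [Algebra.TensorProduct.map_tmul, AlgHom.id_apply]
      simp [P, CartDual.coe_apply]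
  have h1 : ∀ a c, P (x ⊗ₜ[R] (1 : CartDual.D R A'')) (a ⊗ₜ c) = counit (R := R) c * x a := by
    intro a c
    simp [P, CartDual.coe_apply, LinearMap.convOne_def, mul_comm]
  rw [AlgHom.mem_equalizer, Algebra.TensorProduct.includeLeft_apply, ← P.injective.eq_iff]
  constructor
  · intro h a c
    have := LinearMap.congr_fun h (a ⊗ₜ c)
    rw [h1, AlgHom.comp_apply, hP] at this
    rwa [Bialgebra.comulAlgHom_apply, CartDual.ev₂_coalgebra_comul_tmul] at this
  · intro h
    refine TensorProduct.ext' fun a c => ?_
    rw [h1, AlgHom.comp_apply, hP, Bialgebra.comulAlgHom_apply,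
      CartDual.ev₂_coalgebra_comul_tmul, h]

omit [Module.Projective R A] [Module.Projective R A''] [Coalgebra.IsCocomm R A]
  [Coalgebra.IsCocomm R A''] in
theorem exists_retraction [IsNoetherianRing R] (f : A'' →ₐc[R] A)
    (hf : (f : A'' →ₐ[R] A).toRingHom.FaithfullyFlat) :
    ∃ θ : A →ₗ[R] A'', ∀ c, θ (f c) = c := by
  let _ : Algebra A'' A := (f : A'' →ₐ[R] A).toRingHom.toAlgebra
  have : IsScalarTower R A'' A :=
    IsScalarTower.of_algebraMap_eq fun r => ((f : A'' →ₐ[R] A).commutes r).symm
  have : Module.FaithfullyFlat A'' A := hf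
  have : Module.Finite A'' A := Module.Finite.of_restrictScalars_finite R A'' A
  have : IsNoetherianRing A'' := IsNoetherianRing.of_finite R A''
  have : Module.FinitePresentation A'' A := Module.finitePresentation_of_finite A'' A
  have : Module.Projective A'' A := Module.Flat.projective_of_finitePresentation
  obtain ⟨θ, hθ⟩ := H20Quot.exists_linear_retraction (B := A'') (A := A)
  refine ⟨θ.restrictScalars R, fun c => ?_⟩
  have h1 : f c = c • (1 : A) := by
    rw [Algebra.smul_def, mul_one]
    rfl
  rw [LinearMap.restrictScalars_apply, h1, map_smul, hθ, smul_eq_mul, mul_one]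

end

end


/-- Let R be a Noetherian ring and A', A, A'' commutative and cocommutative Hopf algebras over R, each
finitely generated and projective as an R-module (finite flat commutative R-groups G' = Spec A', G =
Spec A, G'' = Spec A''). Let f : A'' → A be a bialgebra homomorphism which is faithfully flat as a
ring map (the comorphism of a faithfully flat homomorphism π : G → G'') and g : A → A' a surjective
bialgebra homomorphism whose kernel is the ideal of A generated by the image under f of the
augmentation ideal of A'' (the comorphism of a closed immersion ι : G' → G identifying G' with the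
kernel of π), so that 1 → G' → G → G'' → 1 is a short exact sequence of finite flat R-groups. Then
the Cartier dual sequence 1 → G''^D → G^D → G'^D → 1 is again short exact: the transpose Hom_R(A',
R) → Hom_R(A, R) of g is a faithfully flat ring map between the dual Hopf algebras, and the
transpose Hom_R(A, R) → Hom_R(A'', R) of f is surjective with kernel the ideal generated by the
image, under the transpose of g, of the augmentation ideal of Hom_R(A', R). -/
theorem result (R : Type u) [CommRing R] [IsNoetherianRing R]
    (A' A A'' : Type u) [CommRing A'] [HopfAlgebra R A'] [Coalgebra.IsCocomm R A'] [Module.Finite R A']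
    [Module.Projective R A'] [CommRing A] [HopfAlgebra R A] [Coalgebra.IsCocomm R A] [Module.Finite R A]
    [Module.Projective R A] [CommRing A''] [HopfAlgebra R A''] [Coalgebra.IsCocomm R A''] [Module.Finite R A'']
    [Module.Projective R A''] (f : A'' →ₐc[R] A) (hf : (f : A'' →ₐ[R] A).toRingHom.FaithfullyFlat)
    (g : A →ₐc[R] A') (hg : Function.Surjective g)
    (hker : RingHom.ker (g : A →ₐ[R] A') = Ideal.map (f : A'' →ₐ[R] A) (RingHom.ker (Bialgebra.counitAlgHom R A''))) :
    (CartDual.transpose R g : CartDual.D R A' →ₐ[R] CartDual.D R A).toRingHom.FaithfullyFlat ∧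
      Function.Surjective (CartDual.transpose R f) ∧
      RingHom.ker (CartDual.transpose R f : CartDual.D R A →ₐ[R] CartDual.D R A'') =
        Ideal.map (CartDual.transpose R g : CartDual.D R A' →ₐ[R] CartDual.D R A)
          (RingHom.ker (Bialgebra.counitAlgHom R (CartDual.D R A'))) := by
  obtain ⟨θ, hθ⟩ := exists_retraction R f hf
  set π := CartDual.transpose R f
  have hπ : Function.Surjective π := fun y =>
    ⟨WithConv.toConv (y.ofConv ∘ₗ θ), WithConv.ofConv_injective (LinearMap.ext fun c => by
      show y.ofConv (θ (f c)) = y.ofConv c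
      rw [hθ])⟩
  set B := H20Quot.inv (H20Quot.rightCoaction (π : CartDual.D R A →ₐ[R] CartDual.D R A''))
  set j : CartDual.D R A' →ₐ[R] CartDual.D R A :=
    (CartDual.transpose R g : CartDual.D R A' →ₐ[R] CartDual.D R A)
  have hgf : ∀ c, g (f c) = algebraMap R A' (Coalgebra.counit c) := by
    intro c
    have h1 : (g : A →ₐ[R] A') ((f : A'' →ₐ[R] A) (c - algebraMap R A'' (Coalgebra.counit c))) = 0 := by
      refine RingHom.mem_ker.1 ?_
      rw [hker]
      refine Ideal.mem_map_of_mem _ (RingHom.mem_ker.2 ?_)
      simp
    rw [map_sub, map_sub, AlgHom.commutes, AlgHom.commutes, sub_eq_zero] at h1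
    exact h1
  have hmem : ∀ y, j y ∈ B := by
    intro y
    rw [mem_inv_iff]
    intro a c
    show y.ofConv (g (a * f c)) = _ * y.ofConv (g a)
    rw [map_mul, hgf, mul_comm, ← Algebra.smul_def, map_smul, smul_eq_mul]
  have hj : Function.Injective j := by
    intro y y' h
    refine WithConv.ofConv_injective (LinearMap.ext fun a' => ?_)
    obtain ⟨a, rfl⟩ := hg a'
    exact LinearMap.congr_fun (congrArg WithConv.ofConv h) a
  have hsurj : ∀ x ∈ B, ∃ y, j y = x := by
    intro x hx
    rw [mem_inv_iff] at hx
    obtain ⟨s, hs⟩ := Module.projective_lifting_property (g : A →ₗ[R] A') LinearMap.id hg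
    refine ⟨WithConv.toConv (x.ofConv ∘ₗ s), WithConv.ofConv_injective (LinearMap.ext fun a => ?_)⟩
    show x.ofConv (s (g a)) = x.ofConv a
    rw [← sub_eq_zero, ← map_sub]
    have hz : s (g a) - a ∈ RingHom.ker (g : A →ₐ[R] A') := by
      rw [RingHom.mem_ker, map_sub, sub_eq_zero]
      exact LinearMap.congr_fun hs (g a)
    rw [hker, Ideal.map] at hz
    suffices h : ∀ z ∈ Ideal.span ((f : A'' →ₐ[R] A) '' (RingHom.ker (Bialgebra.counitAlgHom R A'') : Set A'')),
        ∀ b, x.ofConv (b * z) = 0 by simpa using h _ hz 1
    intro z hz'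
    induction hz' using Submodule.span_induction with
    | mem z hz' =>
      obtain ⟨c, hc, rfl⟩ := hz'
      intro b
      have hc' : Coalgebra.counit (R := R) c = 0 := hc
      refine (hx b c).trans ?_
      rw [hc', zero_mul]
    | zero => simp
    | add u v _ _ hu hv => intro b; rw [mul_add, map_add, hu, hv, add_zero]
    | smul r u _ hu => intro b; rw [smul_eq_mul, ← mul_assoc, hu]
  refine ⟨?_, hπ, le_antisymm ?_ ?_⟩
  · have hbij : Function.Bijective (j.codRestrict B hmem) :=
      ⟨fun y y' h => hj (congrArg Subtype.val h), fun x => (hsurj x x.2).imp fun y hy => Subtype.ext hy⟩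
    exact ff_of_bijective_codRestrict B j hmem hbij
      (H20Quot.isGalois_rightCoaction π hπ).faithfullyFlat
  · refine (H20Quot.ker_le_span_inv π hπ).trans (Ideal.span_le.2 ?_)
    rintro x ⟨hxB, hx0⟩
    obtain ⟨y, rfl⟩ := hsurj x hxB
    refine Ideal.mem_map_of_mem _ (RingHom.mem_ker.2 ?_)
    have h0 : y.ofConv (g 1) = 0 := hx0
    rw [map_one] at h0
    exact h0
  · refine Ideal.map_le_iff_le_comap.2 fun y hy => ?_
    rw [Ideal.mem_comap, RingHom.mem_ker]
    refine WithConv.ofConv_injective (LinearMap.ext fun c => ?_)
    show y.ofConv (g (f c)) = 0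
    have hy'' := RingHom.mem_ker.1 hy
    have hy' : y.ofConv 1 = 0 := hy''
    rw [hgf, Algebra.algebraMap_eq_smul_one, LinearMap.map_smul, hy', smul_zero]

end Groth.Agent.S15892
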