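import Groth.Statements.S15894
import Groth.Agent.H20OT.CartBasic

set_option autoImplicit false
universe u
open scoped TensorProduct
open Versch

namespace Groth.Agent.S15894
open TensorProduct WithConv

/-- Let p be a prime, R a commutative ring of characteristic p and A = R[ℤ/p] the group algebra of the
cyclic group of order p, the Hopf algebra of the group scheme μ_p of p-th roots of unity over Spec
R. Let v : A → A ⊗_R R^(Frob) be the comorphism of the Verschiebung V : μ_p^(p) → μ_p (the ring map
whose transpose under the canonical pairing is the relative Frobenius of the dual Hopf algebra).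
Then v(c·g) = g ⊗ c for every group element g and every scalar c ∈ R, the scalar being moved into
the Frobenius-twisted factor through the identity of underlying rings: under the identification
μ_p^(p) = μ_p the Verschiebung of μ_p is the identity. -/
theorem result (p : ℕ) [Fact p.Prime] (R : Type u) [CommRing R] [CharP R p]
    (v : MonoidAlgebra R (Multiplicative (ZMod p)) →+* FrobAlg.BaseChange p R (MonoidAlgebra R (Multiplicative (ZMod p))))
    (hv : Versch.IsVerschiebung p R (MonoidAlgebra R (Multiplicative (ZMod p))) v)
    (g : Multiplicative (ZMod p)) (c : R) :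
    v (MonoidAlgebra.single g c) = MonoidAlgebra.single g (1 : R) ⊗ₜ[R] FrobAlg.toTwist p R c := by
  classical
  let G := Multiplicative (ZMod p)
  let Aw := FrobAlg.BaseChange p R (MonoidAlgebra R G)
  let f : R →+* Aw :=
    (Algebra.TensorProduct.includeRight (R := R) (A := MonoidAlgebra R G) (B := FrobAlg.Twist p R)).toRingHom.comp
      (FrobAlg.toTwist p R).toRingHom
  let γ : G →* Aw :=
    ((Algebra.TensorProduct.includeLeft : MonoidAlgebra R G →ₐ[R] Aw) : MonoidAlgebra R G →* Aw).comp
      (MonoidAlgebra.of R G)
  let w : MonoidAlgebra R G →+* Aw := MonoidAlgebra.liftNCRingHom f γ fun _ _ => Commute.all _ _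
  have hwg : ∀ (h : G) (r : R), w (MonoidAlgebra.single h r) = MonoidAlgebra.single h (1 : R) ⊗ₜ[R] FrobAlg.toTwist p R r := by
    intro h r
    show MonoidAlgebra.liftNCRingHom f γ _ (MonoidAlgebra.single h r) = _
    rw [MonoidAlgebra.liftNCRingHom_single]
    show ((1 : MonoidAlgebra R G) ⊗ₜ[R] FrobAlg.toTwist p R r) * (MonoidAlgebra.single h (1 : R) ⊗ₜ[R] (1 : FrobAlg.Twist p R)) = _
    rw [Algebra.TensorProduct.tmul_mul_tmul, one_mul, mul_one]
  have hw : Versch.IsVerschiebung p R (MonoidAlgebra R G) w := by
    rw [Versch.isVerschiebung_iff]
    intro a x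
    induction a using MonoidAlgebra.induction_linear with
    | zero => simp [CartDual.coe_apply]
    | add b d hb hd => simp only [map_add, CartDual.coe_apply, hb, hd]
    | single h r =>
      have key : ∀ j : ℕ, (x ^ j).ofConv (MonoidAlgebra.single h 1) = x.ofConv (MonoidAlgebra.single h 1) ^ j := by
        intro j
        induction j with
        | zero => rw [pow_zero x, LinearMap.convOne_apply]; simp
        | succ j ih =>
          rw [pow_succ x, Groth.Agent.H20OT.dual_mul_apply, MonoidAlgebra.comul_single, CommSemiring.comul_apply,
            TensorProduct.map_tmul, MonoidAlgebra.lsingle_apply, CartDual.ev₂_tmul, CartDual.coe_apply, ih, pow_succ]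
      rw [hwg, Versch.evTw_tmul', CartDual.coe_apply, CartDual.coe_apply, ← map_mul, ← key,
        show MonoidAlgebra.single h r = r • MonoidAlgebra.single h (1 : R) by simp, map_smul, smul_eq_mul, mul_comm]
  rw [Versch.IsVerschiebung.unique p R _ hv hw, hwg]

end Groth.Agent.S15894
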