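import Groth.Statements.S15895
import Groth.Agent.H20OT.CartBasic

set_option autoImplicit false
universe u
open scoped TensorProduct
open Versch

namespace Groth.Agent.S15895
open TensorProduct WithConv

/-- Let p be a prime, R a commutative ring of characteristic p and B = Hom_R(R[ℤ/p], R) the dual Hopf
algebra of the group algebra of the cyclic group of order p: the Hopf algebra of the constant group
scheme ℤ/p over Spec R (the Cartier dual of μ_p). Let v : B → B ⊗_R R^(Frob) be the comorphism of
the Verschiebung V : (ℤ/p)^(p) → ℤ/p (the ring map whose transpose under the canonical pairing is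
the relative Frobenius of the dual Hopf algebra of B). Then V is the trivial homomorphism: v is the
composite of the counit ε : B → R, the identity of underlying rings R → R^(Frob) and the inclusion
of the twisted factor R^(Frob) → B ⊗_R R^(Frob), i.e. v(b) = 1 ⊗ ε(b). -/
theorem result (p : ℕ) [Fact p.Prime] (R : Type u) [CommRing R]
    [CharP R p] (v : CartDual.D R (MonoidAlgebra R (Multiplicative (ZMod p))) →+* FrobAlg.BaseChange p R (CartDual.D R (MonoidAlgebra R (Multiplicative (ZMod p)))))
    (hv : Versch.IsVerschiebung p R (CartDual.D R (MonoidAlgebra R (Multiplicative (ZMod p)))) v) :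
    v = ((Algebra.TensorProduct.includeRight (R := R) (A := CartDual.D R (MonoidAlgebra R (Multiplicative (ZMod p))))
            (B := FrobAlg.Twist p R)).toRingHom.comp (FrobAlg.toTwist p R).toRingHom).comp
          (Bialgebra.counitAlgHom R (CartDual.D R (MonoidAlgebra R (Multiplicative (ZMod p))))).toRingHom := by
  classical
  let G := Multiplicative (ZMod p)
  haveI : Module.Finite R (MonoidAlgebra R G) := Module.Finite.of_basis (MonoidAlgebra.basis G R)
  haveI : Module.Projective R (MonoidAlgebra R G) := Module.Projective.of_basis (MonoidAlgebra.basis G R)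
  let B := CartDual.D R (MonoidAlgebra R G)
  let w : B →+* FrobAlg.BaseChange p R B :=
    ((Algebra.TensorProduct.includeRight (R := R) (A := B) (B := FrobAlg.Twist p R)).toRingHom.comp
      (FrobAlg.toTwist p R).toRingHom).comp (Bialgebra.counitAlgHom R B).toRingHom
  have hw : Versch.IsVerschiebung p R B w := by
    rw [Versch.isVerschiebung_iff]
    intro b x
    have hG : ∀ g : G, g ^ p = 1 := fun g => by
      refine Multiplicative.toAdd.injective ?_
      rw [toAdd_pow, toAdd_one, nsmul_eq_mul, ZMod.natCast_self, zero_mul]
    obtain ⟨a, ha⟩ := Groth.Agent.H20OT.bijective_eval.2 x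
    have hx : ∀ y : B, x.ofConv y = y.ofConv a := fun y => by rw [← ha]; rfl
    have hxp : ∀ y : B, (x ^ p).ofConv y = y.ofConv (a ^ p) := fun y => by
      rw [← ha, show (CartDual.eval R (MonoidAlgebra R G) a) ^ p = CartDual.eval R (MonoidAlgebra R G) (a ^ p) from
        (map_pow (CartDual.eval R (MonoidAlgebra R G)) a p).symm]
      rfl
    have hwb : w b = (1 : B) ⊗ₜ[R] FrobAlg.toTwist p R (b.ofConv 1) := rfl
    rw [hwb, Versch.evTw_tmul', CartDual.coe_apply, CartDual.coe_apply, hx, hxp,
      Groth.Agent.H20OT.monoidAlgebra_pow_char p hG, ← map_mul, Algebra.algebraMap_eq_smul_one, map_smul,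
      smul_eq_mul, LinearMap.convOne_apply, Algebra.algebraMap_self, RingHom.id_apply]
  exact Versch.IsVerschiebung.unique p R _ hv hw

end Groth.Agent.S15895
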