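import Groth.Statements.S15896
import Groth.Agent.H20Hopf.MuPart
import Mathlib

set_option autoImplicit false
universe u
open scoped TensorProduct
open Hopf

namespace Groth.Agent.S15896

/-- Let R be a henselian Noetherian local ring and A a commutative and cocommutative Hopf algebra over R
which is finitely generated and projective as an R-module (a finite flat commutative R-group G =
Spec A). Let e ∈ A be an idempotent with ε(e) = 1 such that the ideal (1 − e) is a Hopf ideal and A⁰
= A/(1 − e) is a local ring, projective over R, with cocommutative quotient structure (G⁰ = Spec A⁰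
is the connected component of the unit section). Let B = Hom_R(A⁰, R) be the dual Hopf algebra (the
Cartier dual (G⁰)^D) and e' ∈ B an idempotent with ε(e') = 1 and B/(1 − e') local (the unit
component of (G⁰)^D). Say that x ∈ B is invariant when (id ⊗ (multiplication by e'))(Δ x) = x ⊗ e',
i.e. x is invariant under translation by the unit component of (G⁰)^D, so that the invariant
elements form the Hopf algebra of the maximal étale quotient of (G⁰)^D; the ideal in A⁰ of the
closed subgroup G_μ ⊆ G⁰ ⊆ G consists of the elements annihilated by every invariant x (G_μ is the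
Cartier dual of the étale quotient of (G⁰)^D, a connected multiplicative subgroup of G). Then G_μ is
the largest connected multiplicative closed subgroup of G: for every Hopf ideal J of A such that A/J
is a local ring, projective over R, cocommutative, and has étale dual Hopf algebra Hom_R(A/J, R) (H
= Spec A/J a connected closed subgroup with étale Cartier dual), every a ∈ A whose image in A⁰ is
annihilated by all invariant x lies in J, i.e. H ⊆ G_μ. -/
theorem result (R : Type u) [CommRing R]
    [HenselianLocalRing R] [IsNoetherianRing R] (A : Type u) [CommRing A] [HopfAlgebra R A] [Coalgebra.IsCocomm R A]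
    [Module.Finite R A] [Module.Projective R A] (e : A) (he : IsIdempotentElem e)
    (hε : Bialgebra.counitAlgHom R A e = 1) [(Ideal.span ({1 - e} : Set A)).IsHopfIdeal R] [IsLocalRing (A ⧸ Ideal.span ({1 - e} : Set A))]
    [Module.Projective R (A ⧸ Ideal.span ({1 - e} : Set A))] [Coalgebra.IsCocomm R (A ⧸ Ideal.span ({1 - e} : Set A))]
    (e' : CartDual.D R (A ⧸ Ideal.span ({1 - e} : Set A))) (he' : IsIdempotentElem e')
    (hε' : Bialgebra.counitAlgHom R (CartDual.D R (A ⧸ Ideal.span ({1 - e} : Set A))) e' = 1)
    [IsLocalRing (CartDual.D R (A ⧸ Ideal.span ({1 - e} : Set A)) ⧸ Ideal.span ({1 - e'} : Set (CartDual.D R (A ⧸ Ideal.span ({1 - e} : Set A)))))]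
    (J : Ideal A) [J.IsHopfIdeal R] [IsLocalRing (A ⧸ J)] [Module.Projective R (A ⧸ J)]
    [Coalgebra.IsCocomm R (A ⧸ J)] [Algebra.Etale R (CartDual.D R (A ⧸ J))]
    (a : A) (ha : ∀ x : CartDual.D R (A ⧸ Ideal.span ({1 - e} : Set A)), LinearMap.lTensor (CartDual.D R (A ⧸ Ideal.span ({1 - e} : Set A))) (LinearMap.mulLeft R e') (Coalgebra.comul (R := R) x) = x ⊗ₜ[R] e' → x (Ideal.Quotient.mk (Ideal.span ({1 - e} : Set A)) a) = 0) :
    a ∈ J := by
  let I : Ideal A := Ideal.span {1 - e}
  let π : A →ₐc[R] A ⧸ J := Bialgebra.Quotient.mkBialgHom J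
  let π₀ : (A ⧸ I) →ₐc[R] A ⧸ J := H20Hopf.MuPart.descend I π (H20Hopf.MuPart.map_one_sub_eq_zero π he hε)
  let t := CartDual.transpose R π₀
  rw [← Ideal.Quotient.eq_zero_iff_mem]
  refine (Module.forall_dual_apply_eq_zero_iff R (Ideal.Quotient.mk J a)).1 fun φ => ?_
  exact ha (t (WithConv.toConv φ)) (H20Hopf.MuPart.isInv_of_etale t he' hε' (WithConv.toConv φ))

end Groth.Agent.S15896
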