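import Groth.Statements.S15897
import Groth.Agent.H20OT.Field

set_option autoImplicit false
universe u v
open CartDual

namespace Groth.Agent.S15897

/-- Let R be a commutative ring and A a commutative Hopf algebra over R which is finitely generated and
projective as an R-module (a finite locally free R-group scheme G = Spec A, not assumed
commutative). If the convolution product on the dual Hopf algebra Hom_R(A, R) is commutative, then A
is cocommutative, i.e. G is a commutative group scheme. (The dual Hopf algebra is commutative
exactly when A is cocommutative; the other implication is immediate and not stated. The published
notes work over a Noetherian base ring; the row allows any commutative base ring.) -/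
theorem result (R : Type u) [CommRing R] (A : Type v) [CommRing A] [HopfAlgebra R A]
    [Module.Finite R A] [Module.Projective R A] (h : ∀ x y : CartDual.D R A, x * y = y * x) :
    Coalgebra.IsCocomm R A := by
  exact Groth.Agent.H20OT.isCocomm_of_dual_comm h

end Groth.Agent.S15897
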