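import Groth.Statements.S1590
import Groth.Agent.H29Node.SubNode
import Groth.Agent.S1589
import Groth.Agent.H19Grp.ImageGroup

set_option autoImplicit false
universe u
open CategoryTheory CategoryTheory.Limits AlgebraicGeometry
open Curves

namespace Groth.Agent.S1590

/-- An open piece of a geometrically reduced scheme is geometrically reduced. -/
theorem geometricallyReduced_comp {k : Type u} [Field k] {U X : Scheme.{u}} (j : U ⟶ X) [IsOpenImmersion j]
    (f : X ⟶ Spec (CommRingCat.of k)) [GeometricallyReduced f] : GeometricallyReduced (j ≫ f) := by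
  refine ⟨fun L _ y P a b hP => ?_⟩
  let m : P ⟶ pullback f y := pullback.lift (a ≫ j) b ((Category.assoc _ _ _).trans hP.w)
  have hm : IsPullback a m j (pullback.fst f y) := IsPullback.of_bot
    (by rw [show m ≫ pullback.snd f y = b from pullback.lift_snd _ _ _]; exact hP)
    (pullback.lift_fst _ _ _).symm (IsPullback.of_hasPullback f y)
  haveI : IsOpenImmersion m := MorphismProperty.of_isPullback hm inferInstance
  haveI : AlgebraicGeometry.IsReduced (pullback f y) :=
    GeometricallyReduced.geometrically_isReduced (f := f) _ _ _ (IsPullback.of_hasPullback f y)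
  exact isReduced_of_isOpenImmersion m



/-- Let X be locally of finite type over k, with all irreducible components of dimension one and
at-worst-nodal singularities. A reduced closed subscheme Y of X all of whose irreducible components
have dimension one again has at-worst-nodal singularities. -/
theorem result (k : Type u) [Field k] (X : Scheme.{u}) [X.Over (Spec (CommRingCat.of k))] [LocallyOfFiniteType (X ↘ (Spec (CommRingCat.of k)))]
    (hequi : ∀ Z ∈ irreducibleComponents (X : Type u), topologicalKrullDim Z = 1) (hX : Curv2.AtWorstNodal k X)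
    (I : X.IdealSheafData) [IsReduced I.subscheme]
    (hY : ∀ Z ∈ irreducibleComponents (I.subscheme : Type u), topologicalKrullDim Z = 1) :
    @Curv2.AtWorstNodal k _ I.subscheme ⟨I.subschemeι ≫ (X ↘ (Spec (CommRingCat.of k)))⟩ := by
  classical
  let f := X ↘ Spec (CommRingCat.of k)
  let Y := I.subscheme
  let i : Y ⟶ X := I.subschemeι
  letI : Y.Over (Spec (CommRingCat.of k)) := ⟨i ≫ f⟩
  haveI : LocallyOfFiniteType (Y ↘ Spec (CommRingCat.of k)) := inferInstanceAs (LocallyOfFiniteType (i ≫ f))
  haveI := LocallyOfFiniteType.isLocallyNoetherian f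
  haveI := LocallyOfFiniteType.isLocallyNoetherian (Y ↘ Spec (CommRingCat.of k))
  haveI : AlgebraicGeometry.IsReduced X := H11Node.isReduced_of_atWorstNodal hX
  haveI : GeometricallyReduced f := (S1589.result k X hequi hX).2
  have hXd := H29Node.isClosed_of_pure_one (k := k) hequi
  -- where the subscheme is the whole scheme
  let U : X.Opens := ⟨interior (Set.range i), isOpen_interior⟩
  let W : Y.Opens := i ⁻¹ᵁ U
  have hdense : Dense (W : Set Y) := fun y => by
    let T := irreducibleComponent y
    have hTi : IsIrreducible T := isIrreducible_irreducibleComponent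
    have hTg : closure ({hTi.genericPoint} : Set Y) = T := by
      rw [hTi.genericPoint_closure_eq, isClosed_irreducibleComponent.closure_eq]
    have hmax : ∀ w, w ⤳ i hTi.genericPoint → w = i hTi.genericPoint := fun w hw => by
      by_contra hne
      have hcl := (hXd _ _ hw (Ne.symm hne)).preimage i.continuous
      rw [show i ⁻¹' {i hTi.genericPoint} = {hTi.genericPoint} by ext z; simp [i.isEmbedding.injective.eq_iff]] at hcl
      rw [hcl.closure_eq] at hTg
      haveI : Subsingleton T := by rw [← hTg]; exact Set.subsingleton_singleton.coe_sort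
      haveI : Subsingleton (TopologicalSpace.IrreducibleCloseds T) := ⟨fun a b => SetLike.coe_injective
        ((Subsingleton.eq_univ_of_nonempty a.isIrreducible'.nonempty).trans
          (Subsingleton.eq_univ_of_nonempty b.isIrreducible'.nonempty).symm)⟩
      have h0 : topologicalKrullDim T ≤ 0 := Order.krullDim_nonpos_of_subsingleton
      rw [hY T (irreducibleComponent_mem_irreducibleComponents y)] at h0
      exact absurd h0 (by decide)
    have hη : hTi.genericPoint ∈ W := by
      obtain ⟨V, hV, hηV, -⟩ := exists_isAffineOpen_mem_and_subset (x := i hTi.genericPoint) (U := (⊤ : X.Opens)) trivial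
      haveI : IsNoetherianRing Γ(X, V) := IsLocallyNoetherian.component_noetherian ⟨V, hV⟩
      haveI : TopologicalSpace.NoetherianSpace (V : Set X) := (noetherianSpace_of_isAffineOpen V hV : TopologicalSpace.NoetherianSpace V)
      haveI : QuasiSober (V : Set X) := V.isOpen.isOpenEmbedding_subtypeVal.quasiSober
      let η' : (V : Set X) := ⟨_, hηV⟩
      have hcomp : closure ({η'} : Set (V : Set X)) ∈ irreducibleComponents (V : Set X) := by
        refine ⟨isIrreducible_singleton.closure, fun S hS hle z hz => ?_⟩
        have hg : (hS.genericPoint : (V : Set X)) ⤳ η' := specializes_iff_mem_closure.2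
          (by rw [hS.genericPoint_closure_eq]; exact subset_closure (hle (subset_closure rfl)))
        have heq : hS.genericPoint = η' := Subtype.ext (hmax _ (hg.map continuous_subtype_val))
        rw [← heq, hS.genericPoint_closure_eq]
        exact subset_closure hz
      obtain ⟨o, ho, ⟨z, hz⟩, hoT⟩ :=
        TopologicalSpace.NoetherianSpace.exists_isOpen_nonempty_subset_irreducibleComponent _ hcomp
      show i hTi.genericPoint ∈ interior (Set.range i)
      rw [mem_interior]
      refine ⟨Subtype.val '' o, ?_, V.isOpen.isOpenMap_subtype_val o ho,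
        ⟨η', (specializes_iff_mem_closure.2 (hoT hz)).mem_open ho hz, rfl⟩⟩
      rintro _ ⟨v, hv, rfl⟩
      exact ((specializes_iff_mem_closure.2 (hoT hv)).map continuous_subtype_val).mem_closed
        i.isClosedEmbedding.isClosed_range ⟨_, rfl⟩
    refine closure_mono (Set.singleton_subset_iff.2 hη) ?_
    rw [hTg]
    exact mem_irreducibleComponent
  haveI : Surjective (i ∣_ U) := ⟨fun u => by
    obtain ⟨y, hy⟩ := interior_subset u.2
    exact ⟨⟨y, by show i y ∈ U; rw [hy]; exact u.2⟩, Subtype.ext (by simpa [morphismRestrict_base] using hy)⟩⟩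
  haveI : IsIso (i ∣_ U) := isIso_of_isClosedImmersion_of_surjective _
  haveI : GeometricallyReduced (W.ι ≫ i ≫ f) := by
    rw [← Category.assoc, ← morphismRestrict_ι, Category.assoc, ← Category.assoc]
    exact geometricallyReduced_comp _ f
  haveI : IsDominant W.ι := ⟨by
    show Dense (Set.range W.ι)
    rw [Scheme.Opens.range_ι]
    exact hdense⟩
  haveI : IsSchemeTheoreticallyDominant W.ι := .of_isDominant W.ι
  haveI : GeometricallyReduced (i ≫ f) := H19Grp.geometricallyReduced_of_schDominant W.ι (i ≫ f)
  -- pass to the algebraic closure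
  let K := AlgebraicClosure k
  let XK : Scheme.{u} := Curv2.bc k X K
  let YK : Scheme.{u} := Curv2.bc k Y K
  letI : XK.Over (Spec (CommRingCat.of K)) := ⟨Curv2.bcSnd k X K⟩
  letI : YK.Over (Spec (CommRingCat.of K)) := ⟨Curv2.bcSnd k Y K⟩
  haveI : LocallyOfFiniteType (Curv2.bcSnd k X K) := MorphismProperty.pullback_snd _ _ inferInstance
  haveI : LocallyOfFiniteType (XK ↘ Spec (CommRingCat.of K)) := ‹_›
  have sqX := IsPullback.of_hasPullback f (Spec.map (CommRingCat.ofHom (algebraMap k K)))
  have sqY := IsPullback.of_hasPullback (Y ↘ Spec (CommRingCat.of k)) (Spec.map (CommRingCat.ofHom (algebraMap k K)))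
  let m : YK ⟶ XK := pullback.lift (Curv2.bcFst k Y K ≫ i) (Curv2.bcSnd k Y K) (by
    rw [Category.assoc]; exact pullback.condition)
  have hsq : IsPullback (Curv2.bcFst k Y K) m i (Curv2.bcFst k X K) :=
    IsPullback.of_bot (by
      rw [show m ≫ Curv2.bcSnd k X K = Curv2.bcSnd k Y K from pullback.lift_snd _ _ _]
      exact IsPullback.of_hasPullback _ _)
      (pullback.lift_fst _ _ _).symm (IsPullback.of_hasPullback _ _)
  haveI : IsClosedImmersion m := MorphismProperty.of_isPullback hsq inferInstance
  haveI : AlgebraicGeometry.IsReduced YK :=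
    GeometricallyReduced.geometrically_isReduced (f := i ≫ f) _ _ _ sqY
  haveI : IsIntegralHom (Curv2.bcFst k X K) := by
    refine MorphismProperty.pullback_fst _ _ ?_
    rw [IsIntegralHom.SpecMap_iff]
    exact Algebra.IsIntegral.isIntegral
  have hXK : Curv2.AtWorstNodal K XK := fun y hy => by
    have hx : IsClosed ({Curv2.bcFst k X K y} : Set X) := by
      rw [← Set.image_singleton]
      exact (Curv2.bcFst k X K).isClosedMap _ hy
    rcases hX _ hx with ⟨U, hyU, hU⟩ | hn
    · exact Or.inl ⟨Curv2.bcFst k X K ⁻¹ᵁ U, hyU,
        MorphismProperty.of_isPullback (P := @Smooth)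
          ((isPullback_morphismRestrict (Curv2.bcFst k X K) U).paste_vert sqX) hU⟩
    · exact Or.inr ((H29Node.isNode_iff_bc hXd K y).1 hn)
  have hXKp := (H29Node.pure_iff_bc (k := k) (K := K) (Z := X) (Z' := XK) (Curv2.bcFst k X K) sqX 1).2 hequi
  have hYKp := (H29Node.pure_iff_bc (k := k) (K := K) (Z := Y) (Z' := YK) (Curv2.bcFst k Y K) sqY 1).2 hY
  exact H29Node.atWorstNodal_of_bc (k := k) (K := K) (Z := Y) (Z' := YK) (Curv2.bcFst k Y K) sqY hY
    (H29Node.atWorstNodal_of_closedImmersion m (pullback.lift_snd _ _ _) hXKp hYKp hXK)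

end Groth.Agent.S1590
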