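import Groth.Statements.S15900
import Groth.Agent.H17.KoszSh.Functorial
-- import your own Groth.Agent.* helpers here

set_option autoImplicit false
universe u
open CategoryTheory AlgebraicGeometry Opposite
open KoszSh

namespace Groth.Agent.S15900

/-- Let X be a scheme, E and F finite locally free O_X-modules with cosections s : E → O_X and t : F →
O_X, and let f : E → F be a morphism of O_X-modules with t ∘ f = s. Then for every Koszul complex
K(E, s) of s and every Koszul complex K(F, t) of t there is a unique morphism of chain complexes of
O_X-modules K(E, s) → K(F, t) whose degree-p component sends, on sections over every affine open U,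
the decomposable section e_1 ∧ … ∧ e_p to f(e_1) ∧ … ∧ f(e_p), for all e_1, …, e_p in E(U) and all p
≥ 0 (the p-th exterior power of f, read through the affine-local identifications of the terms with
exterior powers of sections). (The published statement is for arbitrary O_X-modules with a map to
O_X; this row takes E and F locally free of finite rank, the case the surrounding text works in.) -/
theorem result {X : Scheme.{u}} (E F : X.Modules)
    (hE : FlatMod.IsFinLocFree E) (hF : FlatMod.IsFinLocFree F)
    (s : E ⟶ Coh.structureModule X) (t : F ⟶ Coh.structureModule X) (f : E ⟶ F) (hf : f ≫ t = s)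
    (C : KoszSh.Cx E s) (D : KoszSh.Cx F t) :
    ∃! φ : C.K ⟶ D.K, ∀ (p : ℕ) (U : X.affineOpens) (e : Fin p → Γ(E, U.1)),
      (φ.f p).app U.1 ((C.loc p U).symm (exteriorPower.ιMulti _ p e)) =
        (D.loc p U).symm (exteriorPower.ιMulti _ p (fun j => f.app U.1 (e j))) := by
  exact Groth.Agent.H17.KoszSh.existsUnique_chainMap f hf C D

end Groth.Agent.S15900
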