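import Groth.Statements.S15906
import Groth.Agent.H28DP.Orbits

set_option autoImplicit false
open Surf

namespace Groth.Agent.S15906

open W4c3severiratdp in
/-- Work in the lattice of vectors (a; b_1, …, b_δ), standing for divisor classes a ℓ − Σ b_i e_i on the
blow-up of the projective plane at δ points written in a standard basis, with intersection form a a'
− Σ b_i b_i' and canonical class K = (−3; −1, …, −1); a conic class is a class Q with Q·Q = 0 and
K·Q = −2, an exceptional class (the class of a (−1)-curve) is a class E with E·E = −1 and K·E = −1,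
and the Weyl group W_δ is the group of additive automorphisms of the lattice preserving the form and
fixing K. For δ = 8, a class (a; b_1, …, b_8) is a conic class if and only if, up to a permutation
of b_1, …, b_8, it is one of the fifteen vectors (1; 1, 0, 0, 0, 0, 0, 0, 0), (2; 1, 1, 1, 1, 0, 0,
0, 0), (3; 2, 1, 1, 1, 1, 1, 0, 0), (4; 2, 2, 2, 1, 1, 1, 1, 0), (4; 3, 1, 1, 1, 1, 1, 1, 1), (5; 2,
2, 2, 2, 2, 2, 1, 0), (5; 3, 2, 2, 2, 1, 1, 1, 1), (6; 3, 3, 2, 2, 2, 2, 1, 1), (7; 3, 3, 3, 3, 2,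
2, 2, 1), (7; 4, 3, 2, 2, 2, 2, 2, 2), (8; 4, 3, 3, 3, 3, 2, 2, 2), (8; 3, 3, 3, 3, 3, 3, 3, 1), (9;
4, 4, 3, 3, 3, 3, 3, 2), (10; 4, 4, 4, 4, 3, 3, 3, 3), (11; 4, 4, 4, 4, 4, 4, 4, 3). (One line of
the published table is illegible in the available copy; the fifteen vectors here are the complete
solution set of the two defining equations a² = Σ b_i², 3a − Σ b_i = 2.) -/
theorem result (v : DP 8) :
    IsConic v ↔
      ∃ t ∈ ({![1, 1, 0, 0, 0, 0, 0, 0, 0],
        ![2, 1, 1, 1, 1, 0, 0, 0, 0],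
        ![3, 2, 1, 1, 1, 1, 1, 0, 0],
        ![4, 2, 2, 2, 1, 1, 1, 1, 0],
        ![4, 3, 1, 1, 1, 1, 1, 1, 1],
        ![5, 2, 2, 2, 2, 2, 2, 1, 0],
        ![5, 3, 2, 2, 2, 1, 1, 1, 1],
        ![6, 3, 3, 2, 2, 2, 2, 1, 1],
        ![7, 3, 3, 3, 3, 2, 2, 2, 1],
        ![7, 4, 3, 2, 2, 2, 2, 2, 2],
        ![8, 4, 3, 3, 3, 3, 2, 2, 2],
        ![8, 3, 3, 3, 3, 3, 3, 3, 1],
        ![9, 4, 4, 3, 3, 3, 3, 3, 2],
        ![10, 4, 4, 4, 4, 3, 3, 3, 3],
        ![11, 4, 4, 4, 4, 4, 4, 4, 3]} : Set (DP 8)),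
        ∃ σ : Equiv.Perm (Fin 8), v 0 = t 0 ∧ ∀ i : Fin 8, v (σ i).succ = t i.succ := by
  constructor
  · intro hv
    obtain ⟨σ, hσ⟩ := H28DP.exists_sort (fun i : Fin 8 => v i.succ)
    have hc : H28DP.Conn (fun _ => False) v (H28DP.permute σ v) :=
      ⟨H28DP.permute σ, H28DP.isWeyl_permute σ, fun _ hf => hf.elim, rfl⟩
    have hmem := H28DP.mem_typesAll (H28DP.permute σ v) le_rfl 0 (-2) (Or.inl ⟨rfl, rfl⟩)
      (by rw [hc.form_self_eq]; exact hv.1) (by rw [hc.canon_eq]; exact hv.2)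
      (by simpa [H28DP.permute_succ, Function.comp_def] using hσ)
    have hlist : ∀ l ∈ H28DP.typesAll 8 0 (-2), l ∈ ([[1, 1, 0, 0, 0, 0, 0, 0, 0], [2, 1, 1, 1, 1, 0, 0, 0, 0],
        [3, 2, 1, 1, 1, 1, 1, 0, 0], [4, 2, 2, 2, 1, 1, 1, 1, 0], [4, 3, 1, 1, 1, 1, 1, 1, 1],
        [5, 2, 2, 2, 2, 2, 2, 1, 0], [5, 3, 2, 2, 2, 1, 1, 1, 1], [6, 3, 3, 2, 2, 2, 2, 1, 1],
        [7, 3, 3, 3, 3, 2, 2, 2, 1], [7, 4, 3, 2, 2, 2, 2, 2, 2], [8, 4, 3, 3, 3, 3, 2, 2, 2],
        [8, 3, 3, 3, 3, 3, 3, 3, 1], [9, 4, 4, 3, 3, 3, 3, 3, 2], [10, 4, 4, 4, 4, 3, 3, 3, 3],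
        [11, 4, 4, 4, 4, 4, 4, 4, 3]] : List (List ℤ)) := by decide +kernel
    have key := hlist _ hmem
    have hvec := H28DP.toVec_ofFn (H28DP.permute σ v)
    refine ⟨H28DP.permute σ v, ?_, σ, (H28DP.permute_zero σ v).symm, fun i => (H28DP.permute_succ σ v i).symm⟩
    simp only [List.mem_cons, List.not_mem_nil, or_false] at key
    simp only [Set.mem_insert_iff, Set.mem_singleton_iff]
    rw [← hvec]
    rcases key with h | h | h | h | h | h | h | h | h | h | h | h | h | h | h <;> rw [h] <;> decide +kernel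
  · rintro ⟨t, ht, σ, h0, hs⟩
    have hc : H28DP.Conn (fun _ => False) v t := by
      refine ⟨H28DP.permute σ, H28DP.isWeyl_permute σ, fun _ hf => hf.elim, ?_⟩
      funext i
      cases i using Fin.cases with
      | zero => rw [H28DP.permute_zero, h0]
      | succ i => rw [H28DP.permute_succ, hs i]
    unfold IsConic
    rw [← hc.form_self_eq, ← hc.canon_eq]
    simp only [Set.mem_insert_iff, Set.mem_singleton_iff] at ht
    rcases ht with rfl | rfl | rfl | rfl | rfl | rfl | rfl | rfl | rfl | rfl | rfl | rfl | rfl | rfl | rfl <;>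
      exact ⟨by decide +kernel, by decide +kernel⟩

end Groth.Agent.S15906
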