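import Groth.Statements.S15908
import Groth.Agent.H28DP.Orbits

set_option autoImplicit false
open Surf

namespace Groth.Agent.S15908

open W4c3severiratdp in
/-- Work in the lattice of vectors (a; b_1, …, b_δ), standing for divisor classes a ℓ − Σ b_i e_i on the
blow-up of the projective plane at δ points written in a standard basis, with intersection form a a'
− Σ b_i b_i' and canonical class K = (−3; −1, …, −1); a conic class is a class Q with Q·Q = 0 and
K·Q = −2, an exceptional class (the class of a (−1)-curve) is a class E with E·E = −1 and K·E = −1,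
and the Weyl group W_δ is the group of additive automorphisms of the lattice preserving the form and
fixing K. For δ = 8 the ordered pairs (Q_1, Q_2) of conic classes with Q_1·Q_2 = 4 form exactly two
W_8-orbits: there are two such pairs that no element of W_8 carries one to the other, and every such
pair is carried by an element of W_8 to one of these two. -/
theorem result :
    ∃ p₁ p₂ q₁ q₂ : DP 8, IsConic p₁ ∧ IsConic p₂ ∧ IsConic q₁ ∧ IsConic q₂ ∧ form p₁ p₂ = 4 ∧ form q₁ q₂ = 4 ∧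
      (¬ ∃ g : DP 8 ≃ₗ[ℤ] DP 8, IsWeyl g ∧ g p₁ = q₁ ∧ g p₂ = q₂) ∧
      ∀ v₁ v₂ : DP 8, IsConic v₁ → IsConic v₂ → form v₁ v₂ = 4 →
        ∃ g : DP 8 ≃ₗ[ℤ] DP 8, IsWeyl g ∧ ((g v₁ = p₁ ∧ g v₂ = p₂) ∨ (g v₁ = q₁ ∧ g v₂ = q₂)) := by
  refine ⟨H28DP.stdQ 8, H28DP.toVec 8 [4, 0, 2, 2, 2, 1, 1, 1, 1], H28DP.stdQ 8,
    H28DP.toVec 8 [5, 1, 2, 2, 2, 2, 2, 2, 0], ⟨by decide +kernel, by decide +kernel⟩,
    ⟨by decide +kernel, by decide +kernel⟩, ⟨by decide +kernel, by decide +kernel⟩,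
    ⟨by decide +kernel, by decide +kernel⟩, by decide +kernel, by decide +kernel, ?_, fun v₁ v₂ h₁ h₂ h => ?_⟩
  · rintro ⟨g, hg, e1, e2⟩
    have e : g (H28DP.stdQ 8 + H28DP.toVec 8 [4, 0, 2, 2, 2, 1, 1, 1, 1]) =
        (2 : ℤ) • H28DP.toVec 8 [3, 1, 1, 1, 1, 1, 1, 1, 0] := by
      rw [map_add, e1, e2]; decide +kernel
    rw [← g.eq_symm_apply, map_smul] at e
    have e0 := congrFun e 0
    rw [Pi.smul_apply, smul_eq_mul] at e0
    have h5 : (H28DP.stdQ 8 + H28DP.toVec 8 [4, 0, 2, 2, 2, 1, 1, 1, 1]) 0 = 5 := by decide +kernel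
    omega
  · obtain ⟨l, hl, g, hg, e1, e2⟩ := H28DP.conic_pair_normal 8 (by norm_num) le_rfl v₁ v₂ h₁ h₂
    have hsel : ∀ l ∈ H28DP.normalsQ 8, form (H28DP.stdQ 8) (H28DP.toVec 8 l) = 4 →
        l = [4, 0, 2, 2, 2, 1, 1, 1, 1] ∨ l = [5, 1, 2, 2, 2, 2, 2, 2, 0] := by decide +kernel
    refine ⟨g, hg, ?_⟩
    rcases hsel l hl (by rw [← e1, ← e2, hg.1, h]) with rfl | rfl
    · exact Or.inl ⟨e1, e2⟩
    · exact Or.inr ⟨e1, e2⟩

end Groth.Agent.S15908
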