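import Groth.Statements.S15910
import Groth.Agent.H28DP.Exc

set_option autoImplicit false
open Surf

namespace Groth.Agent.S15910

open W4c3severiratdp in
/-- Work in the lattice of vectors (a; b_1, …, b_δ), standing for divisor classes a ℓ − Σ b_i e_i on the
blow-up of the projective plane at δ points written in a standard basis, with intersection form a a'
− Σ b_i b_i' and canonical class K = (−3; −1, …, −1); a conic class is a class Q with Q·Q = 0 and
K·Q = −2, an exceptional class (the class of a (−1)-curve) is a class E with E·E = −1 and K·E = −1,
and the Weyl group W_δ is the group of additive automorphisms of the lattice preserving the form and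
fixing K. Let δ = 8 and let L be an exceptional class. Let B be the set of unordered triples {λ_1,
λ_2, λ_3} of exceptional classes (repetitions allowed) with λ_1 + λ_2 + λ_3 = −2K + L. Then the
stabilizer of L in W_8 has exactly four orbits on B. Triples are written as maps Fin 3 → lattice and
compared up to reordering: there are four members of B, no two of which are identified by an element
of the stabilizer followed by a reordering, and every member of B is so identified with one of the
four. -/
theorem result (L : DP 8) (hL : IsExc L) :
    ∃ r : Fin 4 → (Fin 3 → DP 8),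
      (∀ j, (∀ i, IsExc (r j i)) ∧ r j 0 + r j 1 + r j 2 = L - 2 • canon 8) ∧
      (∀ j j', (∃ g : DP 8 ≃ₗ[ℤ] DP 8, IsWeyl g ∧ g L = L ∧ ∃ σ : Equiv.Perm (Fin 3), ∀ i, g (r j (σ i)) = r j' i) → j = j') ∧
      ∀ t : Fin 3 → DP 8, (∀ i, IsExc (t i)) → t 0 + t 1 + t 2 = L - 2 • canon 8 →
        ∃ j, ∃ g : DP 8 ≃ₗ[ℤ] DP 8, IsWeyl g ∧ g L = L ∧ ∃ σ : Equiv.Perm (Fin 3), ∀ i, g (t (σ i)) = r j i := by
  exact H28DP.triples L hL

end Groth.Agent.S15910
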