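import Groth.Statements.S15914
import Groth.Agent.H28RR.Cor

set_option autoImplicit false
universe u
open CategoryTheory CategoryTheory.Limits AlgebraicGeometry TopologicalSpace
open Groth.Agent
open Surf

namespace Groth.Agent.S15914

/-- Let k be an algebraically closed field of characteristic zero and X a smooth surface over k
(integral, proper and smooth over k of dimension 2) with canonical module W, a second exterior power
of Ω_{X/k}; intersection numbers of invertible modules are (L·M) = χ(O_X) − χ(L) − χ(M) + χ(L ⊗ M),
so that for a closed subscheme C with ideal I_C one has C·C = (I_C·I_C) and K·C = −(I_C·W). If C ⊆ X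
is an integral closed one-dimensional subscheme with K·C = −1, that is (I_C·W) = 1, then C·C is odd
and C·C ≥ −1. -/
theorem result (k : Type u) [Field k] [IsAlgClosed k]
    [CharZero k] (X : Scheme.{u}) [X.Over (Spec (CommRingCat.of k))] [IsIntegral X] [IsProper (X ↘ (Spec (CommRingCat.of k)))] [Smooth (X ↘ (Spec (CommRingCat.of k)))]
    (hdim : topologicalKrullDim X = 2)
    (W : X.Modules) (hW : ExtPow.IsExtPow 2 (Omega.sheaf (X ↘ (Spec (CommRingCat.of k)))) W)
    (C : X.IdealSheafData) (hC : IsIntegral C.subscheme) (hC1 : topologicalKrullDim (C.support : Set X) = 1)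
    (hdeg : FGA.intNum k X 2 ![ClSub.idealMod C, W] (Coh.structureModule X) = 1) :
    Odd (FGA.intNum k X 2 ![ClSub.idealMod C, ClSub.idealMod C] (Coh.structureModule X)) ∧
      -1 ≤ FGA.intNum k X 2 ![ClSub.idealMod C, ClSub.idealMod C] (Coh.structureModule X) := by
  have hCu : H28Surf.IsCurve C := ⟨hC, hC1⟩
  have hCe := H28Surf.isEffCartier_curve k hdim hCu
  have hI := H28Surf.isInvertible_ideal k hCe
  have hWi := H28RR.isInvertible_canonical k hdim hW
  have h1 := H28RR.euler_quot k hdim hW hCe
  have h2 := (H28Surf.euler_le_one k hdim hCu).1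
  rw [H28Surf.intNum_eq_pr k hdim hI hWi] at hdeg
  rw [H28Surf.intNum_eq_pr k hdim hI hI]
  exact ⟨⟨- Curv2.euler k X (ClSub.quotMod C), by omega⟩, by omega⟩

end Groth.Agent.S15914
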