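import Groth.Statements.S15916
import Groth.Agent.H28RR.Nakai

set_option autoImplicit false
universe u
open CategoryTheory CategoryTheory.Limits AlgebraicGeometry TopologicalSpace
open Groth.Agent
open Surf

namespace Groth.Agent.S15916

/-- Let k be an algebraically closed field of characteristic zero and X a smooth projective surface over
k (integral, proper and smooth over k of dimension 2, with a closed immersion over k into some
projective space); intersection numbers of invertible modules are (L·M) = χ(O_X) − χ(L) − χ(M) + χ(L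
⊗ M), and for an integral closed one-dimensional subscheme C ⊆ X write (L·C) = χ(O_C ⊗ L) − χ(O_C);
an invertible module is nef when (L·C) ≥ 0 for all such C. Let D be an invertible module generated
by its global sections, nef, with (D·D) > 0, and let N be a nef invertible module with (D·N) = 0.
Then N is numerically trivial: (N·C) = 0 for every integral curve C ⊆ X. (The published statement
concludes that N is zero in Pic X; on the product of an elliptic curve with the projective line, the
pull-back N of a non-trivial degree-zero class of the elliptic curve is nef, orthogonal to an ample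
base-point-free D, and non-zero, while the printed proof establishes numerical triviality, which is
what this row states.) -/
theorem result (k : Type u) [Field k] [IsAlgClosed k]
    [CharZero k] (X : Scheme.{u}) [X.Over (Spec (CommRingCat.of k))] [IsIntegral X] [IsProper (X ↘ (Spec (CommRingCat.of k)))] [Smooth (X ↘ (Spec (CommRingCat.of k)))]
    (hdim : topologicalKrullDim X = 2)
    (hproj : ∃ (n : ℕ) (ι : X ⟶ CohB1.ProjSpace n k), IsClosedImmersion ι ∧ ι ≫ CohB1.ProjSpace.toSpec n k = (X ↘ (Spec (CommRingCat.of k))))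
    (D N : X.Modules) (hDi : PicF.IsInvertible D) (hNi : PicF.IsInvertible N)
    (hDgg : Curv2.IsGloballyGenerated D)
    (hDnef : ∀ C : X.IdealSheafData, IsIntegral C.subscheme → topologicalKrullDim (C.support : Set X) = 1 → 0 ≤ (Curv2.euler k X (CohB1.tensorMod (ClSub.quotMod C) D) - Curv2.euler k X (ClSub.quotMod C)))
    (hD2 : 0 < FGA.intNum k X 2 ![D, D] (Coh.structureModule X))
    (hNnef : ∀ C : X.IdealSheafData, IsIntegral C.subscheme → topologicalKrullDim (C.support : Set X) = 1 → 0 ≤ (Curv2.euler k X (CohB1.tensorMod (ClSub.quotMod C) N) - Curv2.euler k X (ClSub.quotMod C)))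
    (hDN : FGA.intNum k X 2 ![D, N] (Coh.structureModule X) = 0) :
    ∀ C : X.IdealSheafData, IsIntegral C.subscheme → topologicalKrullDim (C.support : Set X) = 1 → (Curv2.euler k X (CohB1.tensorMod (ClSub.quotMod C) N) - Curv2.euler k X (ClSub.quotMod C)) = 0 := by
  obtain ⟨H, hH⟩ := H28RR.exists_ample k hdim
  have hHi := (H11Ample.isAmple_iff.1 hH).1
  rw [H28Surf.intNum_eq_pr k hdim hDi hDi] at hD2
  rw [H28Surf.intNum_eq_pr k hdim hDi hNi] at hDN
  have hNn : ∀ C : X.IdealSheafData, H28Surf.IsCurve C → 0 ≤ H28Surf.degOn k C N :=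
    fun C hC => hNnef C hC.int hC.dim
  have hDn : ∀ C : X.IdealSheafData, H28Surf.IsCurve C → 0 ≤ H28Surf.degOn k C D :=
    fun C hC => hDnef C hC.int hC.dim
  have hNH := (H28RR.pr_nonneg_of_nef k hdim hH hNi hNn).1
  have hDH := (H28RR.pr_nonneg_of_nef k hdim hH hDi hDn).1
  have hHH : 0 < H28Surf.pr k H H :=
    (H28RR.pr_nonneg_of_nef k hdim hH hHi fun C hC => (H28RR.ample_deg_pos k hdim hH hC).le).2
      fun C hC => H28RR.ample_deg_pos k hdim hH hC
  have hNN0 := H28Surf.pr_self_nonpos_of_orth k hdim hH hDi hNi hD2 hDN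
  -- a nef class has nonnegative square
  have hNN : H28Surf.pr k N N = 0 := by
    by_contra hne
    have ha : 0 < - H28Surf.pr k N N := by omega
    obtain ⟨a, ha'⟩ := Int.eq_ofNat_of_zero_le ha.le
    obtain ⟨b, hb'⟩ := Int.eq_ofNat_of_zero_le hNH
    have hq := H11Ample.isInvertible_tensorPow hNi (3 * b + 1)
    have hp := H11Ample.isInvertible_tensorPow hHi (3 * a)
    have hA := H11Ample.isInvertible_tensor hq hp
    have hAB : ∀ B : X.Modules, PicF.IsInvertible B →
        H28Surf.pr k (CohB1.tensorMod (CohB1.tensorPow N (3 * b + 1)) (CohB1.tensorPow H (3 * a))) B =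
          (3 * (b : ℤ) + 1) * H28Surf.pr k N B + 3 * (a : ℤ) * H28Surf.pr k H B := fun B hB => by
      rw [H28Surf.pr_tensor_left k hdim hq hp hB, H28Surf.pr_pow_left k hdim hNi hB,
        H28Surf.pr_pow_left k hdim hHi hB]
      push_cast
      ring
    have hAN := hAB N hNi
    have hAH := hAB H hHi
    have hAA := hAB _ hA
    rw [H28Surf.pr_symm k H N] at hAN
    rw [H28Surf.pr_symm k N (CohB1.tensorMod _ _), H28Surf.pr_symm k H (CohB1.tensorMod _ _), hAN, hAH] at hAA
    have hamp := H28RR.isAmple_of_pos k hdim hA (by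
      rw [hAA, hb']
      have hnn : H28Surf.pr k N N = -(a : ℤ) := by omega
      rw [hnn]
      generalize H28Surf.pr k H H = h at hHH
      have ha1 : (1 : ℤ) ≤ a := by omega
      nlinarith [mul_le_mul ha1 (show (1 : ℤ) ≤ h by omega) zero_le_one (by omega : (0 : ℤ) ≤ a),
        mul_nonneg (mul_nonneg (show (0 : ℤ) ≤ a by omega) (show (0 : ℤ) ≤ b by omega)) (show (0 : ℤ) ≤ b by omega)])
      fun C hC => by
        have hI := H28Surf.isInvertible_ideal k (H28Surf.isEffCartier_curve k hdim hC)
        have h1 := hNn C hC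
        have h2 := H28RR.ample_deg_pos k hdim hH hC
        rw [H28RR.degOn_eq_pr k hdim hC hNi, H28Surf.pr_symm k] at h1
        rw [H28RR.degOn_eq_pr k hdim hC hHi, H28Surf.pr_symm k] at h2
        rw [H28RR.degOn_eq_pr k hdim hC hA, H28Surf.pr_symm k, hAB _ hI]
        nlinarith
    have h := (H28RR.pr_nonneg_of_nef k hdim hamp hNi hNn).1
    rw [H28Surf.pr_symm k, hAN, hb'] at h
    nlinarith
  intro C hC hCd
  have hCu : H28Surf.IsCurve C := ⟨hC, hCd⟩
  have hI := H28Surf.isInvertible_ideal k (H28Surf.isEffCartier_curve k hdim hCu)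
  show H28Surf.degOn k C N = 0
  have hd := hNn C hCu
  have hd2 := hDn C hCu
  rw [H28RR.degOn_eq_pr k hdim hCu hNi] at hd ⊢
  rw [H28RR.degOn_eq_pr k hdim hCu hDi] at hd2
  -- `V = D² J + (-(J·D)) D` is orthogonal to `D`
  obtain ⟨d, hd'⟩ := Int.eq_ofNat_of_zero_le hD2.le
  obtain ⟨c, hc'⟩ := Int.eq_ofNat_of_zero_le hd2
  have h1 := H11Ample.isInvertible_tensorPow hI d
  have h2 := H11Ample.isInvertible_tensorPow hDi c
  have hV := H11Ample.isInvertible_tensor h1 h2
  let t := (H28Surf.pr k (CohB1.tensorMod (CohB1.tensorPow (ClSub.idealMod C) d) (CohB1.tensorPow D c))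
    (CohB1.tensorMod (CohB1.tensorPow (ClSub.idealMod C) d) (CohB1.tensorPow D c))).natAbs + 1
  have hVB : ∀ B : X.Modules, PicF.IsInvertible B →
      H28Surf.pr k (CohB1.tensorMod (CohB1.tensorPow (ClSub.idealMod C) d) (CohB1.tensorPow D c)) B =
        (d : ℤ) * H28Surf.pr k (ClSub.idealMod C) B + (c : ℤ) * H28Surf.pr k D B := fun B hB => by
    rw [H28Surf.pr_tensor_left k hdim h1 h2 hB, H28Surf.pr_pow_left k hdim hI hB,
      H28Surf.pr_pow_left k hdim hDi hB]
  obtain ⟨N', hN', ⟨e⟩⟩ := H11Sym.exists_inverse hNi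
  have hNt := H11Ample.isInvertible_tensorPow hN' t
  have hU := H11Ample.isInvertible_tensor hV hNt
  have hNB : ∀ B : X.Modules, PicF.IsInvertible B →
      H28Surf.pr k (CohB1.tensorPow N' t) B = - ((t : ℤ) * H28Surf.pr k N B) := fun B hB => by
    rw [H28Surf.pr_pow_left k hdim hN' hB, H28Surf.pr_inv_left k hdim hNi hN' hB (H10Coh.Tw.commIso _ _ ≪≫ e)]
    ring
  have hVD : H28Surf.pr k (CohB1.tensorMod (CohB1.tensorPow (ClSub.idealMod C) d) (CohB1.tensorPow D c)) D = 0 := by
    have h3 : H28Surf.pr k (ClSub.idealMod C) D = -(c : ℤ) := by omega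
    rw [hVB D hDi, h3, hd']
    ring
  have key := H28Surf.pr_self_nonpos_of_orth k hdim hH hDi hU hD2 (by
    rw [H28Surf.pr_symm k, H28Surf.pr_tensor_left k hdim hV hNt hDi, hVD, hNB D hDi, H28Surf.pr_symm k N, hDN]
    ring)
  have hVN := hVB N hNi
  rw [hDN, mul_zero, add_zero] at hVN
  have hVVt : (t : ℤ) = |H28Surf.pr k (CohB1.tensorMod (CohB1.tensorPow (ClSub.idealMod C) d) (CohB1.tensorPow D c))
    (CohB1.tensorMod (CohB1.tensorPow (ClSub.idealMod C) d) (CohB1.tensorPow D c))| + 1 := by simp [t]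
  generalize CohB1.tensorMod (CohB1.tensorPow (ClSub.idealMod C) d) (CohB1.tensorPow D c) = V at hV hU key hVN hVVt
  have hTT : H28Surf.pr k (CohB1.tensorPow N' t) (CohB1.tensorPow N' t) = 0 := by
    rw [hNB _ hNt, H28Surf.pr_symm k N, hNB N hNi, hNN]
    ring
  have hTV : H28Surf.pr k (CohB1.tensorPow N' t) V = - ((t : ℤ) * ((d : ℤ) * H28Surf.pr k (ClSub.idealMod C) N)) := by
    rw [hNB V hV, H28Surf.pr_symm k N, hVN]
  rw [H28Surf.pr_tensor_left k hdim hV hNt hU, H28Surf.pr_symm k V, H28Surf.pr_symm k (CohB1.tensorPow N' t)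
    (CohB1.tensorMod V _), H28Surf.pr_tensor_left k hdim hV hNt hV, H28Surf.pr_tensor_left k hdim hV hNt hNt,
    H28Surf.pr_symm k V (CohB1.tensorPow N' t), hTT, hTV] at key
  generalize H28Surf.pr k V V = v at key hVVt
  generalize H28Surf.pr k (ClSub.idealMod C) N = x at key hd ⊢
  by_contra hne
  nlinarith [mul_le_mul (show (1 : ℤ) ≤ d by omega) (show (1 : ℤ) ≤ -x by omega) zero_le_one (by omega : (0 : ℤ) ≤ d),
    le_abs_self v, neg_abs_le v]

end Groth.Agent.S15916
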