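import Groth.Statements.S15923
import Groth.Agent.S8914
import Groth.Agent.S1561
import Groth.Agent.H28Contr.Factor
import Groth.Agent.H8Props.FlatDimOneBase
import Groth.Agent.H12AlgSp.Codim
import Groth.Agent.H29Blow.OfStalk
import Groth.Agent.H17.LocusBC
import Groth.Agent.H19Grp.RegularSmooth

set_option autoImplicit false
universe u
open CategoryTheory CategoryTheory.Limits AlgebraicGeometry
open Curves

namespace Groth.Agent.S15923

/-- Let k be an algebraically closed field, X a curve over k (proper over k, reduced, connected, every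
irreducible component of dimension one) and P a closed point of X, with m_P the ideal sheaf of the
reduced point P as an O_X-module. Then m_P is invertible (locally on X isomorphic to the structure
sheaf) exactly when some open neighbourhood of P is smooth over k. -/
theorem result (k : Type u) [Field k] [IsAlgClosed k] (X : Scheme.{u}) [X.Over (Spec (CommRingCat.of k))] [IsProper (X ↘ (Spec (CommRingCat.of k)))] [IsReduced X] [ConnectedSpace X]
    (hequi : ∀ Z ∈ irreducibleComponents (X : Type u), topologicalKrullDim Z = 1)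
    (P : X) (hP : IsClosed ({P} : Set X)) :
    PicF.IsInvertible (ClSub.idealMod (Scheme.IdealSheafData.vanishingIdeal ⟨{P}, hP⟩)) ↔
      ∃ U : X.Opens, P ∈ U ∧ Smooth (U.ι ≫ (X ↘ (Spec (CommRingCat.of k)))) := by
  haveI : IsLocallyNoetherian X := LocallyOfFiniteType.isLocallyNoetherian (X ↘ Spec (CommRingCat.of k))
  haveI : LocallyOfFinitePresentation (X ↘ Spec (CommRingCat.of k)) := inferInstance
  let f := X ↘ Spec (CommRingCat.of k)
  have hdX : topologicalKrullDim X ≤ 1 := by
    refine iSup_le fun s => ?_
    obtain ⟨Z, hZ, hsub⟩ := exists_mem_irreducibleComponents_subset_of_isIrreducible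
      (s.last : Set X) s.last.isIrreducible'
    have hZc := isClosed_of_mem_irreducibleComponents Z hZ
    have hle : ∀ i, (s i : Set X) ⊆ Z := fun i =>
      (SetLike.coe_subset_coe.2 (s.monotone (Fin.le_last i))).trans hsub
    let t : LTSeries (TopologicalSpace.IrreducibleCloseds Z) :=
      { length := s.length
        toFun := fun i => ⟨Subtype.val ⁻¹' (s i : Set X),
          ⟨(by
            obtain ⟨y, hy⟩ := (s i).isIrreducible'.nonempty
            exact ⟨⟨y, hle i hy⟩, hy⟩), fun u v hu hv ⟨a, ha, hau⟩ ⟨b, hb, hbv⟩ => by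
            obtain ⟨u', hu', rfl⟩ := isOpen_induced_iff.1 hu
            obtain ⟨v', hv', rfl⟩ := isOpen_induced_iff.1 hv
            obtain ⟨c, hc, hcu, hcv⟩ := (s i).isIrreducible'.2 u' v' hu' hv' ⟨a.1, ha, hau⟩ ⟨b.1, hb, hbv⟩
            exact ⟨⟨c, hle i hc⟩, hc, hcu, hcv⟩⟩,
          (s i).isClosed'.preimage continuous_subtype_val⟩
        step := fun i => by
          refine lt_of_le_of_ne (Set.preimage_mono (SetLike.coe_subset_coe.2 (show s.toFun i.castSucc < s.toFun i.succ from s.step i).le)) fun e => ?_
          refine (show s.toFun i.castSucc < s.toFun i.succ from s.step i).ne (TopologicalSpace.IrreducibleCloseds.ext ?_)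
          have e' := congrArg (Set.image (Subtype.val : Z → X)) e
          simpa [Subtype.image_preimage_coe, Set.inter_eq_right.2 (hle _)] using e' }
    exact (Order.LTSeries.length_le_krullDim t).trans (hequi Z hZ).le
  have hdim : ringKrullDim (X.presheaf.stalk P) = 1 := by
    refine le_antisymm ((H8Props.FlatDimOneBase.ringKrullDim_stalk_le X P).trans hdX) ?_
    have hne : ringKrullDim (X.presheaf.stalk P) ≠ 0 := fun h0 => by
      have hgen := (H12AlgSp.ringKrullDim_stalk_eq_zero_iff P).1 h0
      rw [genericPoints, Set.mem_setOf_eq, hP.closure_eq] at hgen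
      have hd1 := hequi _ hgen
      haveI : Subsingleton ({P} : Set X) := ⟨fun a b => Subtype.ext ((a.2 : a.1 = P).trans (b.2 : b.1 = P).symm)⟩
      haveI : Subsingleton (TopologicalSpace.IrreducibleCloseds ({P} : Set X)) := ⟨fun a b => TopologicalSpace.IrreducibleCloseds.ext
        ((Subsingleton.eq_univ_of_nonempty a.isIrreducible'.nonempty).trans (Subsingleton.eq_univ_of_nonempty b.isIrreducible'.nonempty).symm)⟩
      have h' : topologicalKrullDim ({P} : Set X) ≤ 0 := Order.krullDim_nonpos_of_subsingleton
      rw [hd1] at h'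
      exact absurd h' (by decide)
    have h0 : (0 : WithBot ℕ∞) ≤ ringKrullDim (X.presheaf.stalk P) := ringKrullDim_nonneg_of_nontrivial
    revert hne h0
    cases ringKrullDim (X.presheaf.stalk P) with
    | bot => simp
    | coe n =>
      intro hne _
      have hn : n ≠ 0 := fun e => hne (by simp [e])
      exact_mod_cast Order.one_le_iff_pos.2 (pos_iff_ne_zero.2 hn)
  set I := Scheme.IdealSheafData.vanishingIdeal (X := X) ⟨{P}, hP⟩
  have hst : ∀ (V : X.affineOpens) (hx : P ∈ V.1),
      (I.ideal V).map (X.presheaf.germ V.1 P hx).hom = IsLocalRing.maximalIdeal _ := fun V hx => by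
    rw [← H29Ref.stalkIdeal_eq I P V hx]
    exact H28Contr.stalkIdeal_point hP
  rw [S8914.result]
  constructor
  · intro hI
    obtain ⟨V, hPV, g, hg, hIV⟩ := hI P
    have hmax := hst V hPV
    rw [hIV, Ideal.map_span, Set.image_singleton] at hmax
    have hreg : IsRegularLocalRing (X.presheaf.stalk P) := by
      refine IsRegularLocalRing.of_spanFinrank_maximalIdeal_le _ ?_
      rw [hdim, ← hmax]
      refine le_trans (Nat.cast_le.2 (Submodule.spanFinrank_span_le_ncard_of_finite (Set.finite_singleton _))) ?_
      simp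
    exact ⟨f.smoothLocus, ((S1561.result k X).1 P).2 hreg, H17.LocusBC.smooth_restrict_smoothLocus f⟩
  · rintro ⟨U, hPU, hU⟩
    haveI := hU
    have hreg : IsRegularLocalRing (X.presheaf.stalk P) :=
      haveI := H19Grp.isRegularLocalRing_stalk_of_smooth (U.ι ≫ f) ⟨P, hPU⟩
      IsRegularLocalRing.of_ringEquiv (R := U.toScheme.presheaf.stalk ⟨P, hPU⟩)
        (U.stalkIso ⟨P, hPU⟩).commRingCatIsoToRingEquiv
    haveI := H4Depth.isDomain_of_isRegularLocalRing (X.presheaf.stalk P)
    haveI := H8Props.FlatDimOneBase.isPrincipalIdealRing_of_dim_le_one (X.presheaf.stalk P) hdim.le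
    obtain ⟨g, hg⟩ := (IsPrincipalIdealRing.principal (IsLocalRing.maximalIdeal (X.presheaf.stalk P))).principal
    have hg0 : g ≠ 0 := fun h => by
      have hbot : IsLocalRing.maximalIdeal (X.presheaf.stalk P) = ⊥ := by rw [hg, h, Submodule.span_zero_singleton]
      letI := (IsLocalRing.isField_iff_maximalIdeal_eq.2 hbot).toField
      rw [ringKrullDim_eq_zero_of_field] at hdim
      exact zero_ne_one hdim
    refine _root_.H29Blow.isEffCartierIdeal_of_stalk I fun x V hx => ?_
    by_cases hxP : x = P
    · subst hxP
      exact ⟨g, mem_nonZeroDivisors_of_ne_zero hg0, (hst V hx).trans hg⟩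
    · refine ⟨1, one_mem _, ?_⟩
      rw [_root_.H29Blow.map_germ_eq_top_of_notMem_support I x V hx (fun h => hxP h), Ideal.span_singleton_one]

end Groth.Agent.S15923
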