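import Groth.Statements.S15924
import Groth.Agent.H06SepNode.Main

set_option autoImplicit false
universe u
open CategoryTheory CategoryTheory.Limits AlgebraicGeometry
open Curves TopologicalSpace

namespace Groth.Agent.S15924

/-- Let k be an algebraically closed field, X a curve over k (proper over k, reduced, connected, every
irreducible component of dimension one) and P a separating node of X, i.e. a closed point which is a
node and whose complement X ∖ {P} is not connected. Then the ideal sheaf m_P of the reduced point P,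
as an O_X-module, is not simple: it admits an idempotent endomorphism other than 0 and the identity.
(The converse, simplicity of m_P when P is not a separating node, also holds but is not part of this
statement.) -/
theorem result (k : Type u) [Field k] [IsAlgClosed k] (X : Scheme.{u}) [X.Over (Spec (CommRingCat.of k))] [IsProper (X ↘ (Spec (CommRingCat.of k)))] [IsReduced X] [ConnectedSpace X]
    (hequi : ∀ Z ∈ irreducibleComponents (X : Type u), topologicalKrullDim Z = 1)
    (P : X) (hP : IsClosed ({P} : Set X)) (hnode : Curv2.IsNode k X P) (hsep : ¬ IsPreconnected (({P} : Set X)ᶜ)) :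
    ∃ e : ClSub.idealMod (Scheme.IdealSheafData.vanishingIdeal ⟨{P}, hP⟩) ⟶ ClSub.idealMod (Scheme.IdealSheafData.vanishingIdeal ⟨{P}, hP⟩),
      e ≫ e = e ∧ e ≠ 0 ∧ e ≠ 𝟙 _ := by
  classical
  haveI : IsLocallyNoetherian X := LocallyOfFiniteType.isLocallyNoetherian (X ↘ Spec (CommRingCat.of k))
  obtain ⟨-, hord⟩ := H29Node.isNode_iff_ord.1 hnode
  obtain ⟨e, -⟩ := hord
  have hsep' := hsep
  rw [_root_.IsPreconnected] at hsep'
  push Not at hsep'
  obtain ⟨A, B, hA, hB, hcov, hAne, hBne, hAB⟩ := hsep'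
  let A' : Set X := A ∩ {P}ᶜ
  let B' : Set X := B ∩ {P}ᶜ
  have hA'o : IsOpen A' := hA.inter hP.isOpen_compl
  have hB'o : IsOpen B' := hB.inter hP.isOpen_compl
  have hdisj : ∀ y, y ∈ A' → y ∉ B' := fun y h1 h2 => by
    have h3 : y ∈ ({P}ᶜ : Set X) ∩ (A ∩ B) := ⟨h1.2, h1.1, h2.1⟩
    rw [hAB] at h3; exact h3
  have hall : ∀ y, y ≠ P → y ∈ A' ∨ y ∈ B' := fun y hy =>
    (hcov hy).imp (fun h => ⟨h, hy⟩) fun h => ⟨h, hy⟩
  let Z : Closeds X := ⟨B'ᶜ, hB'o.isClosed_compl⟩
  let Z' : Closeds X := ⟨A'ᶜ, hA'o.isClosed_compl⟩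
  have hcap : (Z : Set X) ∩ Z' = {P} := by
    ext y
    constructor
    · rintro ⟨h1, h2⟩
      by_contra hy
      rcases hall y hy with h | h
      · exact h2 h
      · exact h1 h
    · rintro rfl
      exact ⟨fun h => h.2 rfl, fun h => h.2 rfl⟩
  have hcup : Z ⊔ Z' = ⊤ := by
    refine Closeds.ext (Set.eq_univ_iff_forall.2 fun y => ?_)
    by_cases h : y ∈ A'
    · exact Or.inl (hdisj y h)
    · exact Or.inr h
  have hclo : ∀ C D : Set X, IsOpen C → IsOpen D → C.Nonempty → (∀ y, y ≠ P → y ∈ C ∨ y ∈ D) →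
      (∀ y ∈ C, y ∉ D) → P ∉ C → P ∈ closure (Dᶜ \ {P}) := by
    intro C D hC hD hCne hcd hd hPC
    by_contra hcl
    have hcl' : P ∉ closure C := fun h =>
      hcl (closure_mono (show C ⊆ Dᶜ \ {P} from fun z hz => ⟨hd z hz, fun e => hPC (e ▸ hz)⟩) h)
    have hclosed : IsClosed C := by
      rw [← closure_subset_iff_isClosed]
      intro y hy
      refine (hcd y fun e => hcl' (e ▸ hy)).resolve_right fun hyD => ?_
      obtain ⟨z, hzD, hzC⟩ := mem_closure_iff.1 hy D hD hyD
      exact hd z hzC hzD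
    rcases isClopen_iff.1 ⟨hclosed, hC⟩ with h | h
    · exact hCne.ne_empty h
    · exact hPC (h.ge (Set.mem_univ P))
  have hA'ne : A'.Nonempty := by
    obtain ⟨y, h1, h2⟩ := hAne; exact ⟨y, h2, h1⟩
  have hB'ne : B'.Nonempty := by
    obtain ⟨y, h1, h2⟩ := hBne; exact ⟨y, h2, h1⟩
  have hsup := H06SepNode.sup_eq_point P hP e Z Z' hcup hcap
    (hclo A' B' hA'o hB'o hA'ne hall hdisj fun h => h.2 rfl)
    (hclo B' A' hB'o hA'o hB'ne (fun y hy => (hall y hy).symm) (fun y h1 h2 => hdisj y h2 h1) fun h => h.2 rfl)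
  refine H06SepNode.exists_idempotent_of_decomp hsup (H06SepNode.vanishingIdeal_inf_eq_bot hcup) ?_ ?_
  all_goals intro h
  all_goals have h' := congrArg (fun I : X.IdealSheafData => (I.support : Set X)) h
  all_goals simp only [Scheme.IdealSheafData.support_bot] at h'
  · obtain ⟨y, hy⟩ := hB'ne
    exact ((Scheme.IdealSheafData.coe_support_vanishingIdeal Z).symm.trans h').ge (Set.mem_univ y) hy
  · obtain ⟨y, hy⟩ := hA'ne
    exact ((Scheme.IdealSheafData.coe_support_vanishingIdeal Z').symm.trans h').ge (Set.mem_univ y) hy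

end Groth.Agent.S15924
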