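import Groth.Statements.S15936
import Groth.Agent.H26Canon.Basic
import Groth.Agent.H11Tilde.Local
import Groth.Agent.H23Para.FlatDescent
import Groth.Agent.H22Alg.PB.Local

set_option autoImplicit false
universe u
open CategoryTheory CategoryTheory.Limits AlgebraicGeometry
open Canon

namespace Groth.Agent.S15936

/-- Let S be a locally Noetherian scheme and f : X ⟶ S a locally projective morphism, smooth of relative
dimension n, whose fibres are non-empty and geometrically connected; let ω be an n-th exterior power
of the sheaf of relative differentials of f (the relative canonical sheaf K_{X/S}) and let m ≥ 1 be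
an integer such that the evaluation map f^* f_* K^{⊗m} ⟶ K^{⊗m}, the counit of the adjunction
between pullback and pushforward of modules, is an isomorphism. Then the direct image f_* K^{⊗m} is
an invertible O_S-module: finite locally free of rank one. (The published statement has f projective
and smooth, of possibly varying relative dimension, and also asserts that the formation of f_*
K^{⊗m} commutes with base change; this row takes f locally projective of constant relative dimension
n and states the invertibility only.) -/
theorem result
    {X S : Scheme.{u}} [IsLocallyNoetherian S] (f : X ⟶ S)
    (hproj : RedSub.IsLocallyProjective (Over.mk f))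
    (n : ℕ) [SmoothOfRelativeDimension n f] [GeometricallyConnected f]
    (ω : X.Modules) (hω : Canon.IsTopDiff f n ω) (m : ℕ) (hm : 1 ≤ m)
    (hev : IsIso ((Scheme.Modules.pullbackPushforwardAdjunction f).counit.app (CohB1.tensorPow ω m))) :
    FlatMod.IsFinLocFreeOfRank 1 ((Scheme.Modules.pushforward f).obj (CohB1.tensorPow ω m)) := by
  haveI := H26Canon.isProper_of_isLocallyProjective f hproj
  haveI : Smooth f := SmoothOfRelativeDimension.smooth n f
  haveI := hev
  have hL := H11Ample.isInvertible_tensorPow (H26Canon.isInvertible_of_isTopDiff f n hω) m
  haveI : (CohB1.tensorPow ω m).IsQuasicoherent := H28Mero.isQCoh_of_isInvertible hL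
  haveI := H10Coh.isQuasicoherent_pushforward f (CohB1.tensorPow ω m)
  exact H22Alg.PB.rank_one_of_isInvertible (H23Para.isInvertible_of_pullback f _
    (H11Tilde.isInvertible_of_iso
      (asIso ((Scheme.Modules.pullbackPushforwardAdjunction f).counit.app (CohB1.tensorPow ω m))).symm hL))

end Groth.Agent.S15936
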