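import Groth.Statements.S15938
import Groth.Agent.H26Canon.Basic
import Groth.Agent.H11Tilde.Local
import Groth.Agent.H23Para.FlatDescent
import Groth.Agent.H11Ample.Converse
import Groth.Agent.H28Pinch.DirectImageTrivial

set_option autoImplicit false
universe u
open CategoryTheory CategoryTheory.Limits AlgebraicGeometry
open Canon

namespace Groth.Agent.S15938

/-- Let S be a locally Noetherian scheme, f : X ⟶ S locally projective and smooth of relative dimension
n with non-empty geometrically connected fibres, ω an n-th exterior power of the relative
differentials (the relative canonical sheaf K_{X/S}), and m ≥ 1 such that the evaluation map f^* f_*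
K^{⊗m} ⟶ K^{⊗m} is an isomorphism. Then the formation of f_* K^{⊗m} commutes with base change: for
every morphism g : S′ ⟶ S with S′ locally Noetherian, writing f′ : X ×_S S′ ⟶ S′ and g′ : X ×_S S′ ⟶
X for the projections, the base-change morphism g^* f_* K^{⊗m} ⟶ f′_* g′^* K^{⊗m} (adjoint to g′^*
of the evaluation map, through the canonical identifications of iterated pullbacks) is an
isomorphism. (The published statement has f projective and smooth, of possibly varying relative
dimension; this row takes f locally projective of constant relative dimension n and base changes by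
locally Noetherian schemes.) -/
theorem result
    {X S : Scheme.{u}} [IsLocallyNoetherian S] (f : X ⟶ S)
    (hproj : RedSub.IsLocallyProjective (Over.mk f))
    (n : ℕ) [SmoothOfRelativeDimension n f] [GeometricallyConnected f]
    (ω : X.Modules) (hω : Canon.IsTopDiff f n ω) (m : ℕ) (hm : 1 ≤ m)
    (hev : IsIso ((Scheme.Modules.pullbackPushforwardAdjunction f).counit.app (CohB1.tensorPow ω m)))
    {S' : Scheme.{u}} [IsLocallyNoetherian S'] (g : S' ⟶ S) :
    IsIso (((Scheme.Modules.pullbackPushforwardAdjunction (pullback.snd f g)).homEquiv _ _)
      ((Scheme.Modules.pullbackComp (pullback.snd f g) g).hom.app _ ≫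
        (Scheme.Modules.pullbackCongr (pullback.condition (f := f) (g := g))).inv.app _ ≫
        (Scheme.Modules.pullbackComp (pullback.fst f g) f).inv.app _ ≫
        (Scheme.Modules.pullback (pullback.fst f g)).map
          ((Scheme.Modules.pullbackPushforwardAdjunction f).counit.app (CohB1.tensorPow ω m)))) := by
  haveI := H26Canon.isProper_of_isLocallyProjective f hproj
  haveI : Smooth f := SmoothOfRelativeDimension.smooth n f
  haveI := hev
  have hL := H11Ample.isInvertible_tensorPow (H26Canon.isInvertible_of_isTopDiff f n hω) m
  haveI : (CohB1.tensorPow ω m).IsQuasicoherent := H28Mero.isQCoh_of_isInvertible hL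
  haveI := H10Coh.isQuasicoherent_pushforward f (CohB1.tensorPow ω m)
  have hM : PicF.IsInvertible ((Scheme.Modules.pushforward f).obj (CohB1.tensorPow ω m)) :=
    H23Para.isInvertible_of_pullback f _ (H11Tilde.isInvertible_of_iso
      (asIso ((Scheme.Modules.pullbackPushforwardAdjunction f).counit.app (CohB1.tensorPow ω m))).symm hL)
  haveI := H28Pinch.isIso_unit_of_isFinLocFree (pullback.snd f g) (H26Canon.bijective_app (pullback.snd f g)) _
    (H28Pinch.isFinLocFree_of_isInvertible (H11Ample.isInvertible_pullback g hM))
  rw [Adjunction.homEquiv_unit]
  infer_instance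

end Groth.Agent.S15938
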