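import Groth.Statements.S15939
import Mathlib.Algebra.DualNumber
import Mathlib.FieldTheory.PurelyInseparable.Basic
import Mathlib.FieldTheory.KummerPolynomial
import Mathlib.RingTheory.Artinian.Ring
import Mathlib.RingTheory.IntegralClosure.IsIntegralClosure.Basic
import Mathlib.Algebra.Polynomial.Expand
import Mathlib.RingTheory.AdjoinRoot
import Mathlib.FieldTheory.Perfect

set_option autoImplicit false
universe u
open CAlg

namespace Groth.Agent.S15939

open Polynomial in
/-- Let κ be a field and A a commutative κ-algebra whose only κ-subalgebras are the image of κ and A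
itself, these two being different. Then A is finite-dimensional over κ, and A is isomorphic as a
κ-algebra to the dual numbers over κ, or to κ × κ, or A is a field which is either separable over κ
or isomorphic to κ[X]/(X^p - a) with p the (positive) characteristic of κ and a an element of κ that
is not a p-th power. (The published statement also records that these four cases exclude one
another; that part is not restated.) -/
theorem result (κ A : Type u) [Field κ] [CommRing A] [Algebra κ A]
    (h : IsSimpleOrder (Subalgebra κ A)) :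
    FiniteDimensional κ A ∧
    (Nonempty (A ≃ₐ[κ] DualNumber κ) ∨ Nonempty (A ≃ₐ[κ] (κ × κ)) ∨
      (IsField A ∧ (Algebra.IsSeparable κ A ∨
        ∃ (p : ℕ) (a : κ), p.Prime ∧ CharP κ p ∧ (∀ b : κ, b ^ p ≠ a) ∧
          Nonempty (A ≃ₐ[κ] AdjoinRoot (X ^ p - C a))))) := by
  classical
  haveI := h
  have hex : ∃ a : A, a ∉ (⊥ : Subalgebra κ A) := by
    by_contra hc
    push Not at hc
    exact (bot_ne_top (α := Subalgebra κ A)) (eq_top_iff.mpr fun a _ => hc a)
  haveI : Nontrivial A := by
    obtain ⟨a, ha⟩ := hex
    by_contra hn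
    rw [not_nontrivial_iff_subsingleton] at hn
    exact ha (Subsingleton.elim (0 : A) a ▸ zero_mem _)
  have hgen : ∀ a : A, a ∉ (⊥ : Subalgebra κ A) → Algebra.adjoin κ {a} = ⊤ := fun a ha =>
    (eq_bot_or_eq_top _).resolve_left fun h0 => ha (h0 ▸ Algebra.self_mem_adjoin_singleton κ a)
  have hsurj : ∀ {C : Type u} [CommRing C] [Algebra κ C] (φ : C →ₐ[κ] A) (a : A),
      a ∉ (⊥ : Subalgebra κ A) → a ∈ φ.range → Function.Surjective φ := by
    intro C _ _ φ a ha haφ
    rw [← AlgHom.range_eq_top, eq_top_iff, ← hgen a ha]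
    exact Algebra.adjoin_le (Set.singleton_subset_iff.mpr haφ)
  obtain ⟨a₀, ha₀⟩ := hex
  have halg : IsIntegral κ a₀ := by
    by_contra hint
    have htr : ∀ q : κ[X], Polynomial.aeval a₀ q = 0 → q = 0 := by
      intro q hq
      by_contra hq0
      exact hint (IsAlgebraic.isIntegral ⟨q, hq0, hq⟩)
    have hsq : a₀ ^ 2 ∉ (⊥ : Subalgebra κ A) := by
      intro hm
      obtain ⟨c, hc⟩ := Algebra.mem_bot.mp hm
      have h0 := htr (X ^ 2 - C c) (by simp [hc])
      exact (monic_X_pow_sub_C c two_ne_zero).ne_zero h0
    have hmem : a₀ ∈ Algebra.adjoin κ ({a₀ ^ 2} : Set A) := by rw [hgen _ hsq]; trivial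
    rw [Algebra.adjoin_singleton_eq_range_aeval] at hmem
    obtain ⟨p, hp⟩ := hmem
    have hp' : Polynomial.aeval (a₀ ^ 2) p = a₀ := hp
    have h0 := htr (X - Polynomial.expand κ 2 p) (by rw [map_sub, aeval_X, Polynomial.expand_aeval, hp', sub_self])
    have h1 := congrArg (fun q : κ[X] => q.coeff 1) h0
    simp only [coeff_sub, coeff_X_one, Polynomial.coeff_zero, Polynomial.coeff_expand two_pos] at h1
    norm_num at h1
  haveI hfd : FiniteDimensional κ A := by
    have h1 := halg.fg_adjoin_singleton
    rw [hgen a₀ ha₀] at h1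
    exact ⟨by simpa using h1⟩
  refine ⟨hfd, ?_⟩
  by_cases hnil : ∃ e : A, e ≠ 0 ∧ e * e = 0
  · left
    obtain ⟨e, he0, hee⟩ := hnil
    have he : e ∉ (⊥ : Subalgebra κ A) := by
      intro hm
      obtain ⟨c, rfl⟩ := Algebra.mem_bot.mp hm
      rw [← map_mul] at hee
      have hcc : c * c = 0 := (algebraMap κ A).injective (by rw [hee, map_zero])
      exact he0 (by rw [mul_self_eq_zero.mp hcc, map_zero])
    let φ : DualNumber κ →ₐ[κ] A := DualNumber.lift ⟨(Algebra.ofId κ A, e), hee, fun _ => Commute.all _ _⟩
    have heps : φ DualNumber.eps = e := DualNumber.lift_apply_eps _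
    refine ⟨(AlgEquiv.ofBijective φ ⟨?_, hsurj φ e he ⟨_, heps⟩⟩).symm⟩
    rw [injective_iff_map_eq_zero]
    intro x hx
    have hx' : algebraMap κ A x.fst + x.snd • e = 0 := by
      have hdec : x = algebraMap κ (DualNumber κ) x.fst + x.snd • DualNumber.eps := by
        ext <;> simp [TrivSqZeroExt.algebraMap_eq_inl]
      rw [hdec, map_add, AlgHom.commutes, map_smul, heps] at hx
      exact hx
    have hd : x.snd = 0 := by
      by_contra hd
      refine he (Algebra.mem_bot.mpr ⟨-(x.snd⁻¹ * x.fst), ?_⟩)
      have h2 := congrArg (x.snd⁻¹ • ·) hx'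
      simp only [smul_add, smul_zero, smul_smul, inv_mul_cancel₀ hd, one_smul] at h2
      rw [map_neg, map_mul, ← Algebra.smul_def]
      exact neg_eq_of_add_eq_zero_right h2
    rw [hd, zero_smul, add_zero] at hx'
    exact TrivSqZeroExt.ext ((algebraMap κ A).injective (by simpa using hx')) hd
  push Not at hnil
  haveI : IsReduced A := (isReduced_iff_pow_one_lt 2 one_lt_two).mpr fun x hx => by
    by_contra hx0
    exact hnil x hx0 (by rw [← sq, hx])
  by_cases hf : IsField A
  · right; right
    refine ⟨hf, ?_⟩
    letI := hf.toField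
    rw [or_iff_not_imp_left]
    intro hsep
    have hbot : separableClosure κ A = ⊥ := by
      rcases eq_bot_or_eq_top (separableClosure κ A).toSubalgebra with h0 | h0
      · exact IntermediateField.toSubalgebra_injective (by rw [h0, IntermediateField.bot_toSubalgebra])
      · refine absurd ((separableClosure.eq_top_iff κ A).mp (IntermediateField.toSubalgebra_injective ?_)) hsep
        rw [h0, IntermediateField.top_toSubalgebra]
    haveI : Algebra.IsAlgebraic κ A := Algebra.IsAlgebraic.of_finite κ A
    have hpi : IsPurelyInseparable κ A := separableClosure.eq_bot_iff.mp hbot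
    obtain ⟨p, hp⟩ := CharP.exists κ
    haveI := hp
    rcases CharP.char_is_prime_or_zero κ p with hpp | rfl
    swap
    · haveI : CharZero κ := CharP.charP_to_charZero κ
      exact absurd (inferInstance : Algebra.IsSeparable κ A) hsep
    · haveI : ExpChar κ p := ExpChar.prime hpp
      have hchar := hp
      have hpow := (isPurelyInseparable_iff_pow_mem κ p).mp hpi a₀
      have hfind := Nat.find_spec hpow
      obtain ⟨n, hn⟩ : ∃ n, Nat.find hpow = n + 1 := by
        refine Nat.exists_eq_succ_of_ne_zero fun h0 => ha₀ ?_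
        rw [h0, pow_zero, pow_one] at hfind
        obtain ⟨c, hc⟩ := hfind
        exact Algebra.mem_bot.mpr ⟨c, hc⟩
      let b := a₀ ^ p ^ n
      have hb : b ∉ (⊥ : Subalgebra κ A) := by
        intro hm
        obtain ⟨c, hc⟩ := Algebra.mem_bot.mp hm
        exact Nat.find_min hpow (by omega : n < Nat.find hpow) ⟨c, hc⟩
      rw [hn, pow_succ, pow_mul] at hfind
      obtain ⟨c, hc⟩ := hfind
      have hnot : ∀ d : κ, d ^ p ≠ c := by
        intro d hd
        refine hb (Algebra.mem_bot.mpr ⟨d, ?_⟩)
        haveI := Fact.mk hpp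
        haveI : CharP A p := charP_of_injective_algebraMap (algebraMap κ A).injective p
        exact frobenius_inj A p (by rw [frobenius_def, frobenius_def, ← map_pow, hd, hc])
      refine ⟨p, c, hpp, hchar, hnot, ?_⟩
      haveI : Fact (Irreducible (X ^ p - C c : κ[X])) := ⟨X_pow_sub_C_irreducible_of_prime hpp hnot⟩
      let φ : AdjoinRoot (X ^ p - C c : κ[X]) →ₐ[κ] A :=
        AdjoinRoot.liftAlgHom _ (Algebra.ofId κ A) b (by simp [hc, b, Algebra.ofId_apply])
      exact ⟨(AlgEquiv.ofBijective φ ⟨φ.toRingHom.injective,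
        hsurj φ b hb ⟨AdjoinRoot.root _, AdjoinRoot.liftAlgHom_root ..⟩⟩).symm⟩
  · right; left
    obtain ⟨a, ha0, hau⟩ : ∃ a : A, a ≠ 0 ∧ ¬ IsUnit a := by
      by_contra hc
      push Not at hc
      exact hf ⟨exists_pair_ne A, mul_comm, fun {a} ha => ⟨_, (hc a ha).mul_val_inv⟩⟩
    haveI : IsArtinianRing A := IsArtinianRing.of_finite κ A
    obtain ⟨n, hn⟩ := IsArtinian.monotone_stabilizes (R := A) (M := A)
      ⟨fun k => OrderDual.toDual (Ideal.span {a ^ k}), fun k l h => by
        exact Ideal.span_singleton_le_span_singleton.mpr (pow_dvd_pow a h)⟩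
    have hmem : a ^ n ∈ Ideal.span {a ^ (n + 1)} :=
      (OrderDual.toDual.injective (hn (n + 1) n.le_succ)).le (Ideal.mem_span_singleton_self _)
    obtain ⟨b, hb⟩ := Ideal.mem_span_singleton'.mp hmem
    have hab : a * (1 - a * b) = 0 := by
      refine IsReduced.eq_zero _ ⟨n + 1, ?_⟩
      rw [mul_pow, pow_succ' (1 - a * b), ← mul_assoc]
      refine mul_eq_zero_of_left ?_ _
      calc a ^ (n + 1) * (1 - a * b) = a * (a ^ n - b * a ^ (n + 1)) := by ring
        _ = 0 := by rw [hb, sub_self, mul_zero]
    have he : (a * b) * (a * b) = a * b := by linear_combination -b * hab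
    have he0 : a * b ≠ 0 := fun h0 => ha0 (by linear_combination hab + a * h0)
    have he1 : a * b ≠ 1 := fun h1 => hau (IsUnit.of_mul_eq_one _ h1)
    have heb : a * b ∉ (⊥ : Subalgebra κ A) := by
      intro hm
      obtain ⟨c, hc⟩ := Algebra.mem_bot.mp hm
      rw [← hc, ← map_mul] at he
      have hcc := (algebraMap κ A).injective he
      rcases (show c = 0 ∨ c = 1 by
        by_cases hc0 : c = 0
        · exact Or.inl hc0
        · exact Or.inr (mul_left_cancel₀ hc0 (hcc.trans (mul_one c).symm))) with h | h
      · exact he0 (by rw [← hc, h, map_zero])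
      · exact he1 (by rw [← hc, h, map_one])
    let e := a * b
    let φ : κ × κ →ₐ[κ] A :=
      { toFun := fun xy => algebraMap κ A xy.1 * e + algebraMap κ A xy.2 * (1 - e)
        map_one' := by simp
        map_mul' := fun x y => by
          simp only [Prod.fst_mul, Prod.snd_mul, map_mul]
          have he' : e * e = e := he
          linear_combination (-(algebraMap κ A x.1 * algebraMap κ A y.1) + algebraMap κ A x.1 * algebraMap κ A y.2 +
            algebraMap κ A x.2 * algebraMap κ A y.1 - algebraMap κ A x.2 * algebraMap κ A y.2) * he'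
        map_zero' := by simp
        map_add' := fun x y => by
          simp only [Prod.fst_add, Prod.snd_add, map_add]; ring
        commutes' := fun r => by
          show algebraMap κ A r * e + algebraMap κ A r * (1 - e) = algebraMap κ A r
          ring }
    refine ⟨(AlgEquiv.ofBijective φ ⟨?_, hsurj φ e heb ⟨(1, 0), by simp [φ]⟩⟩).symm⟩
    rw [injective_iff_map_eq_zero]
    rintro ⟨x, y⟩ hxy
    change algebraMap κ A x * e + algebraMap κ A y * (1 - e) = 0 at hxy
    have he' : e * e = e := he
    have hxe : algebraMap κ A x * e = 0 := by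
      linear_combination e * hxy - (algebraMap κ A x - algebraMap κ A y) * he'
    have hye : algebraMap κ A y * (1 - e) = 0 := by rwa [hxe, zero_add] at hxy
    have hx : x = 0 := by
      by_contra hx
      exact he0 ((((isUnit_iff_ne_zero.mpr hx).map (algebraMap κ A)).mul_right_eq_zero).mp hxe)
    have hy : y = 0 := by
      by_contra hy
      exact he1 (sub_eq_zero.mp ((((isUnit_iff_ne_zero.mpr hy).map (algebraMap κ A)).mul_right_eq_zero).mp hye)).symm
    rw [hx, hy]
    rfl

end Groth.Agent.S15939
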