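import Groth.Statements.S1594
import Groth.Agent.H29Node.FieldDescent
import Groth.Agent.H8Props.FieldDimFibre
import Groth.Agent.S4656
import Mathlib.AlgebraicGeometry.Morphisms.LocalFlatDescent

set_option autoImplicit false
universe u
open CategoryTheory CategoryTheory.Limits AlgebraicGeometry
open Curves

namespace Groth.Agent.S1594

/-- (2) implies (1), for a covering by one flat quasi-compact surjective morphism: let f : X → S and g :
S' → S flat, quasi-compact and surjective. If the base change X ×_S S' → S' is at-worst-nodal of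
relative dimension one then so is f. -/
theorem result {X S S' : Scheme.{u}} (f : X ⟶ S) (g : S' ⟶ S) [Flat g] [QuasiCompact g] [Surjective g]
    (h : Curv2.IsNodalFamily (pullback.snd f g)) : Curv2.IsNodalFamily f := by
  obtain ⟨hfl, hlfp, hfib⟩ := h
  haveI := hfl
  haveI := hlfp
  haveI hlfp' : LocallyOfFinitePresentation f :=
    MorphismProperty.of_pullback_snd_of_descendsAlong (P := @LocallyOfFinitePresentation)
      (Q := @Surjective ⊓ @Flat ⊓ @QuasiCompact) (f := f) (g := g)
      ⟨⟨‹Surjective g›, ‹Flat g›⟩, ‹QuasiCompact g›⟩ hlfp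
  haveI : Flat (pullback.fst f g) := MorphismProperty.pullback_fst _ _ ‹_›
  haveI : Surjective (pullback.fst f g) := MorphismProperty.pullback_fst _ _ ‹_›
  haveI : Flat (pullback.fst f g ≫ f) := by rw [pullback.condition]; infer_instance
  haveI hfl' : Flat f := by
    rw [Flat.iff_flat_stalkMap]
    intro x
    obtain ⟨u, rfl⟩ := (pullback.fst f g).surjective x
    exact (Groth.Agent.S4656.result (pullback.fst f g) f u (Flat.stalkMap _ u)).1 (Flat.stalkMap _ u)
  refine ⟨hfl', hlfp', fun s => ?_⟩
  obtain ⟨s', rfl⟩ := g.surjective s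
  obtain ⟨hp, hn⟩ := hfib s'
  letI : (f.fiber (g s')).Over (Spec (CommRingCat.of (S.residueField (g s')))) := ⟨f.fiberToSpecResidueField (g s')⟩
  letI : ((pullback.snd f g).fiber s').Over (Spec (CommRingCat.of (S'.residueField s'))) :=
    ⟨(pullback.snd f g).fiberToSpecResidueField s'⟩
  haveI : LocallyOfFiniteType (f.fiber (g s') ↘ Spec (CommRingCat.of (S.residueField (g s')))) :=
    H8Props.FieldDim.locallyOfFiniteType_fiberToSpec f (g s')
  letI := (g.residueFieldMap s').hom.toAlgebra
  have hc := isPullback_fiberToSpecResidueField_of_isPullback (IsPullback.of_hasPullback f g) s'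
  have hpure := (H29Node.pure_iff_bc (k := S.residueField (g s')) (K := S'.residueField s') (Z := f.fiber (g s')) (Z' := (pullback.snd f g).fiber s') _ hc 1).1 hp
  exact ⟨hpure, H29Node.atWorstNodal_of_bc (k := S.residueField (g s')) (K := S'.residueField s') (Z := f.fiber (g s')) (Z' := (pullback.snd f g).fiber s') _ hc hpure hn⟩

end Groth.Agent.S1594
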