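import Groth.Statements.S15944
import Groth.Agent.H28Pinch.Glued

set_option autoImplicit false
universe u
open Pinch

namespace Groth.Agent.S15944

open CategoryTheory AlgebraicGeometry in
/-- Let Y be a scheme, f : X → Y a morphism, t : T → Y a scheme affine over Y, ξ : Z → T a morphism with
Z affine over Y via ξ followed by t, and ι : Z → X a closed immersion over Y; assume every point of
Y has an affine open neighbourhood U together with an affine open V of X inside the preimage of U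
containing the image under ι of the part of Z over U; assume moreover that Y is locally Noetherian,
f and t are of finite type and ξ is finite, and let X → P ← T be a push-out of ι and ξ in the
category of schemes, with p : P → Y the induced morphism. Then p is of finite type, and if X and T
are proper over Y then so is P. -/
theorem result {X Y T Z : Scheme.{u}} (f : X ⟶ Y) (t : T ⟶ Y) (ξ : Z ⟶ T) (ι : Z ⟶ X)
    [IsAffineHom t] [IsAffineHom (ξ ≫ t)] [IsClosedImmersion ι] (hsq : ι ≫ f = ξ ≫ t)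
    (hstd : ∀ y : Y, ∃ U : Y.Opens, IsAffineOpen U ∧ y ∈ U ∧ ∃ V : X.Opens, IsAffineOpen V ∧
      V ≤ f ⁻¹ᵁ U ∧ ∀ z : Z, (ξ ≫ t).base z ∈ U → ι.base z ∈ V)
    [IsLocallyNoetherian Y] [LocallyOfFiniteType f] [QuasiCompact f] [LocallyOfFiniteType t] [QuasiCompact t]
    [IsFinite ξ] {P : Scheme.{u}} (a : X ⟶ P) (b : T ⟶ P) (hP : IsPushout ι ξ a b)
    (p : P ⟶ Y) (hap : a ≫ p = f) (hbp : b ≫ p = t) :
    (LocallyOfFiniteType p ∧ QuasiCompact p) ∧ (IsProper f → IsProper t → IsProper p) := by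
  have hcov : ∀ τ : T, ∃ π : Groth.Agent.H7Flat.AP ι ξ, τ ∈ π.V := fun τ =>
    let ⟨π, _, _, hτ, _, _⟩ := Groth.Agent.H28Pinch.exists_AP f t ξ ι hsq hstd τ
    ⟨π, hτ⟩
  obtain ⟨e, rfl, rfl⟩ := Groth.Agent.H28Pinch.exists_iso_glued a b hP hcov
  rw [Category.assoc] at hap hbp
  haveI := Groth.Agent.H28Pinch.glued_locallyOfFiniteType hcov f t (e.hom ≫ p) hap hbp hstd
  haveI := Groth.Agent.H28Pinch.glued_quasiCompact hcov f t (e.hom ≫ p) hap hbp
  have he : p = e.inv ≫ e.hom ≫ p := by simp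
  refine ⟨⟨by rw [he]; infer_instance, by rw [he]; infer_instance⟩, fun hf ht => ?_⟩
  haveI : LocallyOfFiniteType (Groth.Agent.H7Flat.inX hcov ≫ e.hom ≫ p) := hap ▸ inferInstance
  haveI := Groth.Agent.H28Pinch.inX_isFinite hcov (e.hom ≫ p)
  haveI := Groth.Agent.H7Flat.inY_isClosedImmersion hcov
  haveI : IsProper (Groth.Agent.H7Flat.inX hcov ≫ e.hom ≫ p) := hap ▸ hf
  haveI : IsProper (Groth.Agent.H7Flat.inY hcov ≫ e.hom ≫ p) := hbp ▸ ht
  haveI := Groth.Agent.H28Pinch.universallyClosed_of_pair (Groth.Agent.H7Flat.inX hcov)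
    (Groth.Agent.H7Flat.inY hcov) (e.hom ≫ p) (Groth.Agent.H28Pinch.exists_preimage hcov)
  haveI := Groth.Agent.H28Pinch.isSeparated_of_pair (Groth.Agent.H7Flat.inX hcov)
    (Groth.Agent.H7Flat.inY hcov) (e.hom ≫ p) (Groth.Agent.H28Pinch.exists_preimage hcov)
  haveI : IsProper (e.hom ≫ p) := { }
  rw [he]
  infer_instance

end Groth.Agent.S15944
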