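import Groth.Statements.S15949
import Groth.Agent.H19Chev.FieldBasic
import Groth.Agent.H19Chev.StructureField
import Groth.Agent.H17.P1Fibre
import Groth.Agent.H22Alg.PnBC
import Groth.Agent.H3Cyc.P1Prod
import Groth.Agent.H21Rank1.GaProps
import Groth.Agent.H19Grp.AffineLineLaw
import Groth.Agent.H27Weil.Geometry
import Groth.Agent.H19Grp.Neutral

set_option autoImplicit false
set_option maxHeartbeats 1000000
set_option synthInstance.maxHeartbeats 100000
set_option linter.style.haveILetI false
set_option backward.isDefEq.respectTransparency false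
universe u
open AlgGrp

namespace Groth.Agent.S15949

open CategoryTheory CategoryTheory.Limits MonoidalCategory CartesianMonoidalCategory MonObj AlgebraicGeometry
open Groth.Agent Groth.Agent.H19Quot Groth.Agent.H19Grp.AffineLineLaw


open CategoryTheory AlgebraicGeometry in
/-- Auxiliary step: let κ be an arbitrary field, G a group scheme over κ which is smooth over κ, and φ :
P¹_κ → G a morphism over κ. Then φ is constant: there is a κ-rational point g of G such that φ is
the structure morphism P¹_κ → Spec κ followed by g. (The published proof states this step for any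
smooth group scheme over a field in the course of proving the main proposition.) -/
theorem result (κ : Type u) [Field κ]
    (G : Over (Spec (CommRingCat.of κ))) [GrpObj G] [Smooth G.hom]
    (φ : CohB1.ProjSpaceOver 1 (Spec (CommRingCat.of κ)) ⟶ G.left)
    (hφ : φ ≫ G.hom = CohB1.ProjSpaceOver.toBase 1 (Spec (CommRingCat.of κ))) :
    ∃ g : Spec (CommRingCat.of κ) ⟶ G.left, g ≫ G.hom = 𝟙 _ ∧
      φ = CohB1.ProjSpaceOver.toBase 1 (Spec (CommRingCat.of κ)) ≫ g := by
  classical
  let P1 := CohB1.ProjSpaceOver 1 (Spec (CommRingCat.of κ))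
  let X : Over (Spec (CommRingCat.of κ)) := Over.mk (CohB1.ProjSpaceOver.toBase 1 (Spec (CommRingCat.of κ)))
  let φ' : X ⟶ G := Over.homMk φ hφ
  haveI : IsProper X.hom := H27Weil.isProper_toBase 1 _
  haveI : GeometricallyIntegral X.hom := H3Cyc.P1Prod.geometricallyIntegral_toBase _
  haveI : IsIntegral X.left := GeometricallyIntegral.isIntegral_of_subsingleton X.hom
  haveI : IsIso X.hom.appTop := (ConcreteCategory.isIso_iff_bijective _).2 (H25Rig.bijective_appTop X.hom)
  haveI : IsSeparated G.hom := H19Grp.AffineQuotient.isSeparated_of_grp G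
  -- the affine chart
  obtain ⟨e, he⟩ := H22Alg.PnBC.isPullback_projSpaceOver (n := 1) κ
  let u : MvPolynomial (H17.P1Fibre.σ 0) κ →ₐ[κ] Polynomial κ := MvPolynomial.aeval fun _ => Polynomial.X
  haveI : Unique (H17.P1Fibre.σ 0) := ⟨⟨⟨1, by decide⟩⟩, fun j => by
    obtain ⟨j, hj⟩ := j
    exact Subtype.ext ((Fin.eq_one_of_ne_zero j hj))⟩
  let v : Polynomial κ →ₐ[κ] MvPolynomial (H17.P1Fibre.σ 0) κ := Polynomial.aeval (MvPolynomial.X default)
  let c : T κ (MvPolynomial (H17.P1Fibre.σ 0) κ) ⟶ X :=
    Over.homMk (H17.P1Fibre.chart κ 0 ≫ e.inv) (by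
      show (H17.P1Fibre.chart κ 0 ≫ e.inv) ≫ CohB1.ProjSpaceOver.toBase 1 _ = _
      rw [← he, Category.assoc, Iso.inv_hom_id_assoc, H17.P1Fibre.chart_toSpec]
      rfl)
  haveI : IsOpenImmersion c.left := by
    haveI := H17.P1Fibre.isIso_chartInv κ 0
    show IsOpenImmersion ((Spec.map (CommRingCat.ofHom _) ≫ Proj.awayι _ _ _ _) ≫ e.inv)
    infer_instance
  haveI : Nonempty (T κ (MvPolynomial (H17.P1Fibre.σ 0) κ)).left :=
    inferInstanceAs (Nonempty (PrimeSpectrum (MvPolynomial (H17.P1Fibre.σ 0) κ)))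
  haveI : IsDominant c.left := ⟨(c.left.isOpenEmbedding.isOpen_range).dense (Set.range_nonempty _)⟩
  let d : T κ (Polynomial κ) ⟶ T κ (MvPolynomial (H17.P1Fibre.σ 0) κ) := Tmap u
  let d' : T κ (MvPolynomial (H17.P1Fibre.σ 0) κ) ⟶ T κ (Polynomial κ) := Tmap v
  have hvu : v.comp u = AlgHom.id _ _ := MvPolynomial.algHom_ext fun i => by
    rw [Unique.eq_default i]; simp [u, v]
  have hd : d' ≫ d = 𝟙 _ := Over.OverMorphism.ext (by
    show Spec.map (CommRingCat.ofHom v.toRingHom) ≫ Spec.map (CommRingCat.ofHom u.toRingHom) = 𝟙 _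
    rw [← Spec.map_comp, ← CommRingCat.ofHom_comp,
      show v.toRingHom.comp u.toRingHom = RingHom.id _ from congrArg AlgHom.toRingHom hvu]
    exact Spec.map_id _)
  -- the additive group
  let A := Red.Ga (Spec (CommRingCat.of κ))
  letI : GrpObj A := inferInstanceAs (GrpObj (Red.Ga (Spec (CommRingCat.of κ))))
  haveI : Smooth A.hom := H21Rank1.smooth_Ga
  haveI : IsAffine A.left := by
    haveI : IsAffine (Red.GaZ.{u}).left := inferInstanceAs (IsAffine (Spec _))
    dsimp [A, Red.Ga, Red.bc]; infer_instance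
  obtain ⟨R, _, _, ⟨eR⟩⟩ := exists_T_iso A
  let w : A ⟶ T κ (Polynomial κ) := eR.inv ≫ Tmap (Polynomial.aeval (val eR.hom))
  let p : T κ (Polynomial κ) ⟶ A := pt Polynomial.X
  have hpw : p ≫ w = 𝟙 _ := by
    let ψ₀ : R →+* Polynomial κ := (Spec.preimage (p ≫ eR.inv).left).hom
    have hψ : ∀ a : κ, ψ₀ (algebraMap κ R a) = algebraMap κ (Polynomial κ) a := fun a => by
      have h1 : CommRingCat.ofHom (algebraMap κ R) ≫ Spec.preimage (p ≫ eR.inv).left =
          CommRingCat.ofHom (algebraMap κ (Polynomial κ)) := Spec.map_injective (by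
        rw [Spec.map_comp, Spec.map_preimage]; exact Over.w (p ≫ eR.inv))
      exact congrArg (fun f : CommRingCat.of κ ⟶ CommRingCat.of (Polynomial κ) => f.hom a) h1
    let ψ : R →ₐ[κ] Polynomial κ := { ψ₀ with commutes' := hψ }
    have hψ' : p ≫ eR.inv = Tmap ψ := Over.OverMorphism.ext (Spec.map_preimage (p ≫ eR.inv).left).symm
    have hval : ψ (val eR.hom) = Polynomial.X := by
      rw [← val_comp, ← hψ', Category.assoc, Iso.inv_hom_id, Category.comp_id, val_pt]
    have he' : ψ.comp (Polynomial.aeval (val eR.hom)) = AlgHom.id _ _ := Polynomial.algHom_ext (by simp [hval])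
    show p ≫ eR.inv ≫ Tmap _ = _
    rw [← Category.assoc, hψ']
    refine Over.OverMorphism.ext ?_
    show Spec.map (CommRingCat.ofHom ψ.toRingHom) ≫ Spec.map (CommRingCat.ofHom (Polynomial.aeval (val eR.hom)).toRingHom) = 𝟙 _
    rw [← Spec.map_comp, ← CommRingCat.ofHom_comp,
      show ψ.toRingHom.comp (Polynomial.aeval (val eR.hom)).toRingHom = RingHom.id _ from congrArg AlgHom.toRingHom he']
    exact Spec.map_id _
  let a : A ⟶ X := w ≫ d ≫ c
  haveI : Surjective w.left := ⟨fun x => ⟨p.left x, by rw [← Scheme.Hom.comp_apply, ← Over.comp_left, hpw]; rfl⟩⟩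
  haveI : Surjective d.left := ⟨fun x => ⟨d'.left x, by rw [← Scheme.Hom.comp_apply, ← Over.comp_left, hd]; rfl⟩⟩
  haveI : IsDominant a.left := by
    show IsDominant (w.left ≫ d.left ≫ c.left)
    infer_instance
  haveI : ConnectedSpace A.left := by
    haveI : IsDomain (Polynomial κ) := inferInstance
    have hwp : Function.LeftInverse w.left p.left := fun x => by
      rw [← Scheme.Hom.comp_apply, ← Over.comp_left, hpw]; rfl
    haveI : ConnectedSpace (T κ (Polynomial κ)).left :=
      inferInstanceAs (ConnectedSpace (PrimeSpectrum (Polynomial κ)))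
    have hpsurj : Function.Surjective p.left := fun y => by
      have hb : ∀ z : T κ R ⟶ A, z = pt (val z) := fun z => (pt_val z).symm
      refine ⟨w.left y, ?_⟩
      have hwp' : w ≫ p = 𝟙 A := by
        rw [← cancel_epi eR.hom]
        simp only [w, Category.assoc, Iso.hom_inv_id_assoc, Category.comp_id]
        apply val_injective
        rw [val_comp, val_pt, Polynomial.aeval_X]
      rw [← Scheme.Hom.comp_apply, ← Over.comp_left, hwp']; rfl
    exact hpsurj.connectedSpace p.left.continuous
  -- translate to the origin and restrict to the identity component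
  let x₀ : 𝟙_ (Over (Spec (CommRingCat.of κ))) ⟶ X := η[A] ≫ a
  let g₀ := x₀ ≫ φ'
  let ψ : X ⟶ G := φ' * (toUnit X ≫ g₀)⁻¹
  obtain ⟨gL, hι⟩ := H19Grp.exists_grpObj_idComp G
  let L := H19Grp.idComp G
  let j : L ⟶ G := H19Grp.idCompι G
  haveI : IsMonHom j := hι
  haveI : IsClosedImmersion j.left := inferInstanceAs (IsClosedImmersion (H19Grp.idCompι G).left)
  haveI : IsOpenImmersion j.left := by
    haveI : Flat j.left := H19Grp.flat_clopenIdeal_subschemeι _
    haveI : IsNoetherianRing (CommRingCat.of κ) := inferInstanceAs (IsNoetherianRing κ)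
    haveI : IsLocallyNoetherian G.left := LocallyOfFiniteType.isLocallyNoetherian G.hom
    haveI : LocallyOfFinitePresentation j.left := inferInstance
    exact IsOpenImmersion.of_flat_of_mono j.left
  have hcomp : Set.range j.left = connectedComponent _ := H19Grp.range_idCompι G
  haveI : ConnectedSpace L.left := by
    have hc : _root_.IsConnected (Set.range j.left) := hcomp ▸ isConnected_connectedComponent
    haveI : ConnectedSpace (Set.range j.left) := isConnected_iff_connectedSpace.1 hc
    exact j.left.isClosedEmbedding.isEmbedding.toHomeomorph.symm.surjective.connectedSpace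
      j.left.isClosedEmbedding.isEmbedding.toHomeomorph.symm.continuous
  haveI : CompactSpace L.left := by
    have hc : IsCompact (Set.range j.left) := hcomp ▸ H19Grp.isCompact_component_ept G
    haveI : CompactSpace (Set.range j.left) := isCompact_iff_compactSpace.1 hc
    exact j.left.isClosedEmbedding.isEmbedding.toHomeomorph.symm.compactSpace
  haveI : QuasiCompact L.hom := (quasiCompact_iff_compactSpace L.hom).2 inferInstance
  haveI : Smooth L.hom := by rw [← Over.w j]; infer_instance
  have hψ0 : x₀ ≫ ψ = 1 := by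
    show x₀ ≫ (φ' * (toUnit X ≫ g₀)⁻¹) = 1
    rw [MonObj.comp_mul, GrpObj.comp_inv, ← Category.assoc, toUnit_unique (x₀ ≫ toUnit X) (𝟙 _), Category.id_comp,
      mul_inv_cancel]
  have hsub : Set.range ψ.left ⊆ Set.range j.left := by
    haveI : ConnectedSpace X.left := inferInstance
    have h1 : η[G].left (IsLocalRing.closedPoint κ) ∈ Set.range j.left :=
      ⟨η[L].left (IsLocalRing.closedPoint κ), by
        rw [← Scheme.Hom.comp_apply, ← Over.comp_left, IsMonHom.one_hom j]⟩
    have hclo : IsClopen (Set.range j.left) :=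
      ⟨j.left.isClosedEmbedding.isClosed_range, j.left.isOpenEmbedding.isOpen_range⟩
    have hconn : _root_.IsPreconnected (Set.range ψ.left) :=
      Set.image_univ ▸ isPreconnected_univ.image ψ.left ψ.left.continuous.continuousOn
    refine hconn.subset_isClopen hclo ⟨_, ⟨x₀.left (IsLocalRing.closedPoint κ), rfl⟩, ?_⟩
    rw [← Scheme.Hom.comp_apply, ← Over.comp_left, hψ0, ← MonObj.one_eq_one]
    exact h1
  let ψ' : X ⟶ L := Over.homMk (IsOpenImmersion.lift j.left ψ.left hsub) (by
    rw [← Over.w j, ← Category.assoc, IsOpenImmersion.lift_fac, Over.w ψ])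
  have hψ' : ψ' ≫ j = ψ := Over.OverMorphism.ext (IsOpenImmersion.lift_fac _ _ _)
  haveI : Mono j := Over.mono_of_mono_left _
  have hψ'0 : x₀ ≫ ψ' = 1 := by rw [← cancel_mono j, Category.assoc, hψ', hψ0, MonObj.one_comp]
  -- the abelian quotient of the identity component
  haveI : IsSeparated L.hom := H19Grp.AffineQuotient.isSeparated_of_grp L
  obtain ⟨N, gN, i, Q, gQ, q, hi, hic, hNa, hNc, -, hq, hqs, hqf, hqp, hk, hQp, hQs, hQc, -⟩ :=
    H19Chev.exists_chevalley_field L
  haveI := hi; haveI := hic; haveI := hNa; haveI := hq; haveI := hQp; haveI := hQs; haveI := hQc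
  haveI : Q.left.IsSeparated := ⟨by rw [← terminal.comp_from Q.hom]; infer_instance⟩
  have hq1 : ψ' ≫ q = 1 := by
    have h1 : a ≫ ψ' ≫ q = 1 := by
      haveI : QuasiCompact A.hom := inferInstance
      haveI : IsMonHom (a ≫ ψ' ≫ q) := H19Chev.isMonHom_to_av _ (by
        rw [← Category.assoc, ← Category.assoc, show (η[A] ≫ a) ≫ ψ' = x₀ ≫ ψ' from rfl, hψ'0, MonObj.one_comp,
          MonObj.one_eq_one])
      exact H19Chev.eq_one_of_affine_to_proper_field _
    refine Over.OverMorphism.ext (ext_of_isDominant a.left ?_)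
    rw [← Over.comp_left, ← Over.comp_left, h1, MonObj.comp_one]
  obtain ⟨θ, hθ⟩ := H19Grp.kernel_lift hk ψ' hq1
  obtain ⟨z, hz⟩ := H19Grp.AntiAffineSmooth.exists_eq_toUnit θ
  have hψ1 : ψ = 1 := by
    have h0 : ψ = toUnit X ≫ (z ≫ i ≫ j) := by
      rw [← hψ', ← hθ, hz, Category.assoc, Category.assoc]
    have h1 : z ≫ i ≫ j = 1 := by
      rw [← hψ0, h0, ← Category.assoc x₀, toUnit_unique (x₀ ≫ toUnit X) (𝟙 _), Category.id_comp]
    rw [h0, h1, MonObj.comp_one]
  refine ⟨g₀.left, Over.w g₀, ?_⟩
  have h := congrArg (fun f : X ⟶ G => f.left) (mul_inv_eq_one.1 hψ1)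
  rw [Over.comp_left] at h
  refine h.trans ?_
  exact congrArg (fun f => f ≫ g₀.left) ((Category.comp_id _).symm.trans (Over.w (toUnit X)))

end Groth.Agent.S15949
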