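import Groth.Statements.S15958
import Groth.Agent.H28Neron.Extension

set_option autoImplicit false
universe u
open Neron

namespace Groth.Agent.S15958

open CategoryTheory AlgebraicGeometry MonObj in
/-- Let S be a Dedekind scheme (integral, Noetherian, separated, of dimension one, with regular local
rings) with generic point η : Spec K → S, and let G', G and G'' be smooth separated group schemes
over S sitting in a short exact sequence 0 → G' → G → G'' → 0: i : G' → G and q : G → G'' are
homomorphisms, i identifies G' with the kernel of q, and q is flat and surjective. If G' and G'' are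
Néron lft-models of their generic fibres (for every smooth S-scheme Y, restriction to η is a
bijection from S-morphisms into them onto K-morphisms of generic fibres), then so is G. -/
theorem result
    {S : Scheme.{u}} [IsIntegral S] [IsNoetherian S] [S.IsSeparated]
    (hreg : ∀ s : S, IsRegularLocalRing (S.presheaf.stalk s)) (hdim : topologicalKrullDim S = 1)
    (G' G G'' : Over S) [GrpObj G'] [GrpObj G] [GrpObj G'']
    [Smooth G'.hom] [IsSeparated G'.hom] [Smooth G.hom] [IsSeparated G.hom] [Smooth G''.hom] [IsSeparated G''.hom]
    (i : G' ⟶ G) (q : G ⟶ G'') [IsMonHom i] [IsMonHom q]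
    (hker : AlgGrp.IsKernel i q) [Flat q.left] [Surjective q.left]
    (hG' : ∀ Y : Over S, Smooth Y.hom →
        Function.Bijective (fun g : Y ⟶ G' => (Over.pullback (S.fromSpecStalk (genericPoint S))).map g))
    (hG'' : ∀ Y : Over S, Smooth Y.hom →
        Function.Bijective (fun g : Y ⟶ G'' => (Over.pullback (S.fromSpecStalk (genericPoint S))).map g)) :
    ∀ Y : Over S, Smooth Y.hom →
        Function.Bijective (fun g : Y ⟶ G => (Over.pullback (S.fromSpecStalk (genericPoint S))).map g) := by
  haveI : Smooth q.left := H28Neron.Extension.smooth_quotient hker
  exact H28Neron.Extension.bijective_of_extension (S.fromSpecStalk (genericPoint S)) hker hG' hG''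

end Groth.Agent.S15958
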