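import Groth.Statements.S1596
import Groth.Agent.LeadBC.GenBC.AppIsoApps
import Groth.Agent.LeadBC.GenBC.Glob
import Groth.Agent.H17.DualSh.Dim
import Groth.Agent.S1589
import Groth.Agent.S1536

set_option autoImplicit false
universe u
open CategoryTheory CategoryTheory.Limits AlgebraicGeometry
open Curves

namespace Groth.Agent.S1596

attribute [local instance 10000] H10Coh.hasSheafifyAb H10Coh.hasWeakSheafifyAb H10Coh.hasExtAb H10Coh.enoughInjAb



/-- Let f : X → S be a proper morphism of schemes that is at-worst-nodal of relative dimension one with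
geometrically connected fibres. Then R¹f_*O_X is a finite locally free O_S-module and R^q f_*O_X = 0
for every q ≥ 2. The published statement also includes the compatibility of these direct images with
base change, which is not asserted here. (Existence of injective resolutions in the category of
O_X-modules is carried as an instance binder.) -/
theorem result {X S : Scheme.{u}} (f : X ⟶ S) [IsProper f] (hf : Curv2.IsNodalFamily f)
    [GeometricallyConnected f] [HasInjectiveResolutions X.Modules] :
    FlatMod.IsFinLocFree ((Coh.Rpush f 1).obj (Coh.structureModule X)) ∧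
      ∀ q : ℕ, 2 ≤ q → IsZero ((Coh.Rpush f q).obj (Coh.structureModule X)) := by
  obtain ⟨hflat, hlfp, hfib⟩ := hf
  haveI := hflat
  haveI := hlfp
  haveI hp : ∀ s : S, IsProper (f.fiberToSpecResidueField s) := fun s =>
    MorphismProperty.of_isPullback (IsPullback.of_hasPullback f (S.fromSpecResidueField s)) ‹IsProper f›
  have hdim : ∀ s : S, topologicalKrullDim ↥(f.fiber s) ≤ 1 := fun s =>
    H17.DualSh.dim_le_of_components fun Z hZ => (hfib s).1 Z hZ
  have hK : ∀ s : S, IsIso (f.fiberToSpecResidueField s).appTop := fun s => by
    letI : (f.fiber s).Over (Spec (S.residueField s)) := ⟨f.fiberToSpecResidueField s⟩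
    haveI : IsProper (f.fiber s ↘ Spec (S.residueField s)) := hp s
    haveI : GeometricallyReduced (f.fiber s ↘ Spec (S.residueField s)) :=
      (S1589.result _ _ (hfib s).1 (hfib s).2).2
    haveI : GeometricallyConnected (f.fiber s ↘ Spec (S.residueField s)) :=
      inferInstanceAs (GeometricallyConnected (pullback.snd f (S.fromSpecResidueField s)))
    exact LeadBC.GenBC.isIso_appTop_of_hRank (k := S.residueField s) (f.fiberToSpecResidueField s)
      (S1536.result (S.residueField s) (f.fiber s))
  refine ⟨LeadBC.GenBC.isFinLocFree_rpush_one f hdim hK, fun q hq => ?_⟩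
  haveI : (Coh.structureModule X).IsQuasicoherent := H10Coh.isQuasicoherent_unit
  refine LeadBC.GenBC.isZero_of_isZero_restrict _ fun y => ?_
  haveI : IsLocallyNoetherian (f.fiber y) :=
    LocallyOfFiniteType.isLocallyNoetherian (f.fiberToSpecResidueField y)
  haveI : CompactSpace (f.fiber y) :=
    QuasiCompact.compactSpace_of_compactSpace (f.fiberToSpecResidueField y)
  haveI : AlgebraicGeometry.IsNoetherian (f.fiber y) := ⟨⟩
  haveI : TopologicalSpace.NoetherianSpace ↥(f.fiber y).toPresheafedSpace := inferInstance
  have hvan : Subsingleton (CohIII.fiberH f (Coh.structureModule X) y q) :=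
    LeadVan.subsingleton_H_of_dim_le (X := (f.fiber y).toPresheafedSpace.carrier) 1 (hdim y)
      (Coh.toAb (CohIII.fiberMod f (Coh.structureModule X) y)) q (by omega)
  obtain ⟨W, -, hyW, -, -, hW, -⟩ := LeadBC.GenBC.exists_vanishing_nhd f _ H06EGA9.isFP_structureModule
    (LeadBC.GenBC.isFlatOver_structure f) q hvan
  exact ⟨W, hyW, hW⟩

end Groth.Agent.S1596
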