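import Groth.Statements.S15963
import Groth.Agent.H18Subint.SN
import Mathlib.AlgebraicGeometry.Morphisms.SchemeTheoreticallyDominant

set_option autoImplicit false
universe u
open HTop

namespace Groth.Agent.S15963

open CategoryTheory AlgebraicGeometry in
/-- Let S be a reduced Noetherian scheme, π : S̃ → S its normalisation (S̃ has integrally closed local
domains, π is integral and an isomorphism over a dense open subset of S with dense preimage), ν : X'
→ S a seminormalization of S (X' seminormal, ν a universal homeomorphism with residue-field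
isomorphisms, initial among such) and g : S̃ → X' a morphism with g followed by ν equal to π. Then ν
and g are scheme-theoretically dominant (the structure sheaf maps injectively into the direct
image), and if π is finite then so are ν and g. -/
theorem result {S Sn X' : Scheme.{u}}
    [IsNoetherian S] [IsReduced S]
    (π : Sn ⟶ S) [IsIntegralHom π] (hn : Pi1.IsNormalScheme Sn)
    (hbir : ∃ U : S.Opens, Dense (U : Set S) ∧ Dense ((π ⁻¹ᵁ U : Sn.Opens) : Set Sn) ∧ IsIso (π ∣_ U))
    (ν : X' ⟶ S) (hν : HTop.IsSeminormalization ν) (hX' : HTop.IsSeminormal X')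
    (g : Sn ⟶ X') (hg : g ≫ ν = π) :
    (IsSchemeTheoreticallyDominant ν ∧ IsSchemeTheoreticallyDominant g) ∧
      (IsFinite π → IsFinite ν ∧ IsFinite g) := by
  obtain ⟨h1, h2, h3⟩ := (Groth.Agent.H7Flat.isUnivHomeo_iff ν).mp hν.1.1
  haveI := h1; haveI := h2; haveI := h3
  haveI : IsReduced X' := Groth.Agent.H18Subint.isReduced_of_isSeminormal hX'
  obtain ⟨U, hU, -, hiso⟩ := hbir
  haveI := hiso
  haveI : Surjective π := ⟨fun s => by
    have hc : IsClosed (Set.range π) := π.isClosedMap.isClosed_range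
    have hsub : (U : Set S) ⊆ Set.range π := fun x hx => by
      obtain ⟨z, hz⟩ := (π ∣_ U).surjective ⟨x, hx⟩
      refine ⟨(π ⁻¹ᵁ U).ι z, ?_⟩
      rw [← Scheme.Hom.comp_apply, ← morphismRestrict_ι, Scheme.Hom.comp_apply, hz]
      rfl
    exact hc.closure_subset_iff.mpr hsub (hU s)⟩
  haveI : Surjective g := ⟨fun x => by
    obtain ⟨z, hz⟩ := π.surjective (ν x)
    refine ⟨z, ν.injective ?_⟩
    rw [← Scheme.Hom.comp_apply, hg, hz]⟩
  refine ⟨⟨IsSchemeTheoreticallyDominant.of_isDominant ν, IsSchemeTheoreticallyDominant.of_isDominant g⟩, fun hfin => ?_⟩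
  haveI : IsFinite (g ≫ ν) := by rw [hg]; exact hfin
  haveI : IsFinite g := IsFinite.of_comp g ν
  haveI : IsSchemeTheoreticallyDominant g := IsSchemeTheoreticallyDominant.of_isDominant g
  refine ⟨{ finite_app := fun V hV => ?_ }, inferInstance⟩
  haveI : IsNoetherianRing Γ(S, V) := IsLocallyNoetherian.component_noetherian ⟨V, hV⟩
  letI := (ν.app V).hom.toAlgebra
  letI : Algebra Γ(S, V) Γ(Sn, g ⁻¹ᵁ ν ⁻¹ᵁ V) := (ν.app V ≫ g.app (ν ⁻¹ᵁ V)).hom.toAlgebra
  haveI : Module.Finite Γ(S, V) Γ(Sn, g ⁻¹ᵁ ν ⁻¹ᵁ V) := by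
    have h := IsFinite.finite_app (g ≫ ν) V hV
    rw [Scheme.Hom.comp_app] at h
    exact h
  let j : Γ(X', ν ⁻¹ᵁ V) →ₐ[Γ(S, V)] Γ(Sn, g ⁻¹ᵁ ν ⁻¹ᵁ V) :=
    { (g.app (ν ⁻¹ᵁ V)).hom with commutes' := fun _ => rfl }
  exact Module.Finite.of_injective j.toLinearMap (g.app_injective (ν ⁻¹ᵁ V))

end Groth.Agent.S15963
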