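import Groth.Statements.S15976
import Groth.Agent.H17.AssPts
import Groth.Agent.H17.PrimaryDecomp
import Groth.Agent.H16Derived.KFlat.SheafTensor
import Groth.Agent.H25Euler.Degree
import Groth.Agent.H10Coh.TensorTilde
import Groth.Agent.H7Lim.ModExact
import Groth.Agent.H25Par.GPDeg
import Groth.Agent.H11Ample.Basic
import Groth.Agent.H06EGA9.StructureStalk

set_option autoImplicit false
universe u
open IntSh

namespace Groth.Agent.S15976

open CategoryTheory CategoryTheory.Limits AlgebraicGeometry TopologicalSpace Opposite TensorProduct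
open Groth.Agent

/-- A map of line bundles generating at the associated points of `F` stays injective after `F ⊗ -`. -/
theorem mono_tensor_of_ass {X : Scheme.{u}} [IsNoetherian X] {L : X.Modules} (hL : PicF.IsInvertible L)
    (F : X.Modules) (hF : Coh.IsCoh F) (τ : Coh.structureModule X ⟶ L)
    (hτ : ∀ y ∈ AssSch.Ass F, Function.Bijective (H06Mod.stalkLin τ y)) :
    Mono (((DCoh.tensorBi (X := X)).obj F).map τ) := by
  let φ := ((DCoh.tensorBi (X := X)).obj F).map τ
  haveI : F.IsQuasicoherent := hF.1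
  haveI : L.IsQuasicoherent := (H11Ample.isCoh_of_isInvertible hL).1
  haveI : (Coh.structureModule X).IsQuasicoherent := H10Coh.isQuasicoherent_unit
  have hK : Coh.IsQCoh (kernel φ) :=
    H7Lim.ModExact.isQCoh_kernel φ (H10Coh.TT.isQCoh_tensorMod F _) (H10Coh.TT.isQCoh_tensorMod F L)
  suffices h : ∀ x : X, Subsingleton ((kernel φ).presheaf.stalk x) by
    exact Abelian.mono_of_kernel_ι_eq_zero _ (IsZero.eq_of_src (H25Par.isZero_of_stalks _ h) _ _)
  intro x
  by_contra hx
  obtain ⟨y, hy, -⟩ := H17.AssPts.exists_ass_specializes (kernel φ) hK (not_subsingleton_iff_nontrivial.1 hx)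
  -- `(F ⊗ O)_y = F_y`
  let e : (H16Derived.KFlat.Stalk.tensor F (Coh.structureModule X)).presheaf.stalk y ≃ₗ[X.presheaf.stalk y]
      F.presheaf.stalk y :=
    (H16Derived.KFlat.Stalk.stalkEquiv F _ y).symm ≪≫ₗ
      LinearEquiv.lTensor _ (LinearEquiv.ofBijective
        (LinearMap.toSpanSingleton (X.presheaf.stalk y) _ (H06EGA9.oneStalk y))
        (H06EGA9.bijective_smul_oneStalk y)).symm ≪≫ₗ TensorProduct.rid _ _
  haveI : Mono (kernel.ι φ) := inferInstance
  have hinj : Function.Injective (H06Mod.stalkLin (kernel.ι φ) y) :=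
    TopCat.Presheaf.stalkFunctor_map_injective_of_app_injective (f := (kernel.ι φ).mapPresheaf)
      (fun U => H10Coh.injective_app_of_mono' (kernel.ι φ) U) y
  have hyF : y ∈ AssSch.Ass F :=
    IsAssociatedPrime.map_of_injective (e.toLinearMap.comp (H06Mod.stalkLin (kernel.ι φ) y)) hy
      (e.injective.comp hinj)
  -- at `y` the map is bijective
  have hb : Function.Injective (H06Mod.stalkLin φ y) := by
    have key : ∀ t, H06Mod.stalkLin φ y (H16Derived.KFlat.Stalk.toStalk F (Coh.structureModule X) y t) =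
        H16Derived.KFlat.Stalk.toStalk F L y (TensorProduct.map (H06Mod.stalkLin (𝟙 F) y) (H06Mod.stalkLin τ y) t) := by
      intro t
      have h := H16Derived.KFlat.Stalk.toStalk_naturality y (𝟙 F) τ t
      rw [CategoryTheory.Functor.map_id, NatTrans.id_app, Category.id_comp] at h
      exact h
    have hid : H06Mod.stalkLin (𝟙 F) y = LinearMap.id :=
      LinearMap.ext fun a => congr($(((DerSch.stalkFunctor X y).map_id F)) a)
    intro a b hab
    obtain ⟨a, rfl⟩ := (H16Derived.KFlat.Stalk.toStalk_bijective F (Coh.structureModule X) y).2 a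
    obtain ⟨b, rfl⟩ := (H16Derived.KFlat.Stalk.toStalk_bijective F (Coh.structureModule X) y).2 b
    rw [key, key, hid] at hab
    exact congrArg _ ((LinearEquiv.lTensor (F.presheaf.stalk y) (LinearEquiv.ofBijective _ (hτ y hyF))).injective
      ((H16Derived.KFlat.Stalk.toStalk_bijective F L y).1 hab))
  have hzero : ∀ a, H06Mod.stalkLin φ y (H06Mod.stalkLin (kernel.ι φ) y a) = 0 := fun a => by
    have h1 := congr($(congrArg (fun g => (DerSch.stalkFunctor X y).map g) (kernel.condition φ)) a)
    rw [Functor.map_comp, Functor.map_zero] at h1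
    exact h1
  haveI : Subsingleton ((kernel φ).presheaf.stalk y) := subsingleton_of_forall_eq 0 fun a =>
    hinj ((hb ((hzero a).trans (map_zero _).symm)).trans (map_zero _).symm)
  obtain ⟨hP, z, hz⟩ := isAssociatedPrime_iff.1 hy
  exact hP.ne_top (hz.trans (Submodule.eq_top_iff'.2 fun r => by
    rw [Submodule.mem_colon_singleton]; rw [Submodule.mem_bot]; exact Subsingleton.elim (α := (kernel φ).presheaf.stalk y) _ _))

open CategoryTheory CategoryTheory.Limits AlgebraicGeometry Opposite in
/-- Let A be a Noetherian local ring with infinite residue field, V a Noetherian scheme over Spec A, L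
an invertible O_V-module generated by finitely many global sections σ_0, …, σ_N (at every point some
σ_i generates L), and F_1, …, F_m coherent O_V-modules. Then some A-linear combination σ of the σ_i
is F_j-regular for every j, regularity of a global section σ of L with respect to F meaning that the
map F ⊗ O_V → F ⊗ L induced by σ is injective. The combination is expressed through the global
sections σ(1), σ_i(1) ∈ Γ(V, L) and the images in Γ(V, O_V) of the coefficients from A. -/
theorem result
    {A : Type u} [CommRing A] [IsNoetherianRing A] [IsLocalRing A]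
    (hA : Infinite (IsLocalRing.ResidueField A))
    {V : Scheme.{u}} [IsNoetherian V] (f : V ⟶ Spec (CommRingCat.of A))
    (L : V.Modules) (hL : PicF.IsInvertible L)
    {N : ℕ} (σ : Fin (N + 1) → (Coh.structureModule V ⟶ L))
    (hgen : ∀ x : V, ∃ i, x ∈ CohB1.genLocus L (σ i))
    {m : ℕ} (F : Fin m → V.Modules) (hF : ∀ j, Coh.IsCoh (F j)) :
    ∃ (τ : Coh.structureModule V ⟶ L) (a : Fin (N + 1) → A),
      τ.val.app (op ⊤) (1 : V.ringCatSheaf.obj.obj (op ⊤)) =
        ∑ i, f.appTop ((Scheme.ΓSpecIso (CommRingCat.of A)).inv (a i)) •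
          (σ i).val.app (op ⊤) (1 : V.ringCatSheaf.obj.obj (op ⊤)) ∧
      ∀ j, Mono (((DCoh.tensorBi (X := V)).obj (F j)).map τ) := by
  classical
  let T : Set V := ⋃ j, AssSch.Ass (F j)
  have hT : T.Finite := Set.finite_iUnion fun j => H17.PrimaryDecomp.finite_ass (hF j)
  let c : A →+* Γ(V, ⊤) := f.appTop.hom.comp (Scheme.ΓSpecIso (CommRingCat.of A)).inv.hom
  let g : Fin (N + 1) → Γ(L, ⊤) := fun i => (σ i).app ⊤ (1 : Γ(V, ⊤))
  let sec : (Fin (N + 1) → A) → Γ(L, ⊤) := fun a => ∑ i, c (a i) • g i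
  let gm : ∀ y : V, Γ(L, ⊤) →+ L.presheaf.stalk y := fun y => (L.presheaf.germ ⊤ y trivial).hom
  have hgm : ∀ (y : V) (r : Γ(V, ⊤)) (s : Γ(L, ⊤)), gm y (r • s) = V.presheaf.germ ⊤ y trivial r • gm y s :=
    fun y r s => H06Mod.germ_smul L ⊤ (x := y) trivial r s
  have hsmul : ∀ r a, sec (r • a) = c r • sec a := fun r a => by
    simp only [sec, Finset.smul_sum, Pi.smul_apply, smul_eq_mul, map_mul, mul_smul]
  have hadd : ∀ a b, sec (a + b) = sec a + sec b := fun a b => by
    simp only [sec, Pi.add_apply, map_add, add_smul, Finset.sum_add_distrib]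
  let mL : ∀ y : V, Submodule (V.presheaf.stalk y) (L.presheaf.stalk y) := fun y =>
    IsLocalRing.maximalIdeal (V.presheaf.stalk y) • ⊤
  let B : V → Submodule A (Fin (N + 1) → A) := fun y =>
    { carrier := {a | gm y (sec a) ∈ mL y}
      add_mem' := fun {a b} ha hb => by
        show gm y (sec (a + b)) ∈ mL y
        rw [hadd, map_add]; exact add_mem ha hb
      zero_mem' := by
        show gm y (sec 0) ∈ mL y
        simp [sec]
      smul_mem' := fun r a ha => by
        show gm y (sec (r • a)) ∈ mL y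
        rw [hsmul, hgm]; exact Submodule.smul_mem _ _ ha }
  -- local generators
  have hgen' : ∀ y : V, ∃ ε : L.presheaf.stalk y,
      Function.Bijective (fun r : V.presheaf.stalk y => r • ε) ∧ ∃ i, gm y (g i) = ε := fun y => by
    obtain ⟨i, hi⟩ := hgen y
    haveI := H25Euler.isIso_stalk_of_mem_genLocus (σ i) hi
    have hb : Function.Bijective (H06Mod.stalkLin (σ i) y) :=
      ConcreteCategory.bijective_of_isIso ((DerSch.stalkFunctor V y).map (σ i))
    refine ⟨H06Mod.stalkLin (σ i) y (H06EGA9.oneStalk y), ?_, i, (H06Mod.stalkLin_germ (σ i) y ⊤ trivial _).symm⟩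
    have : (fun r : V.presheaf.stalk y => r • H06Mod.stalkLin (σ i) y (H06EGA9.oneStalk y)) =
        H06Mod.stalkLin (σ i) y ∘ (fun r : V.presheaf.stalk y => r • H06EGA9.oneStalk y) :=
      funext fun r => (map_smul _ r _).symm
    rw [this]
    exact hb.comp (H06EGA9.bijective_smul_oneStalk y)
  have hproper : ∀ y, B y ≠ ⊤ := fun y hB => by
    obtain ⟨ε, hε, i, hi⟩ := hgen' y
    have hmem : gm y (sec (Pi.single i 1)) ∈ mL y := (hB.symm ▸ Submodule.mem_top : Pi.single i (1 : A) ∈ B y)
    have he : sec (Pi.single i 1) = g i := by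
      show ∑ l, c ((Pi.single i (1 : A) : Fin (N + 1) → A) l) • g l = g i
      rw [Finset.sum_eq_single i]
      · simp
      · intro l _ hl; simp [hl]
      · simp
    rw [he, hi] at hmem
    obtain ⟨r, hr, he'⟩ : ∃ r ∈ IsLocalRing.maximalIdeal (V.presheaf.stalk y), r • ε = ε := by
      refine Submodule.smul_induction_on (p := fun z => ∃ r ∈ IsLocalRing.maximalIdeal (V.presheaf.stalk y), r • ε = z)
        hmem (fun m hm z _ => ?_) (fun _ _ ⟨r, hr, e⟩ ⟨r', hr', e'⟩ => ⟨r + r', add_mem hr hr', by rw [add_smul, e, e']⟩)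
      obtain ⟨w, hw⟩ := hε.2 z
      exact ⟨m * w, Ideal.mul_mem_right _ _ hm, by rw [mul_smul]; exact congrArg _ hw⟩
    exact (IsLocalRing.maximalIdeal.isMaximal _).ne_top ((Ideal.eq_top_iff_one _).2
      (hε.1 (he'.trans (one_smul _ ε).symm) ▸ hr))
  -- reduce modulo the maximal ideal
  let k := IsLocalRing.ResidueField A
  haveI : Infinite k := hA
  let π : (Fin (N + 1) → A) →ₗ[A] (Fin (N + 1) → k) :=
    LinearMap.pi fun i => (Algebra.linearMap A k).comp (LinearMap.proj i)
  have hπ : Function.Surjective π := fun w => by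
    choose a ha using fun i => IsLocalRing.residue_surjective (R := A) (w i)
    exact ⟨a, funext ha⟩
  let W : V → Subspace k (Fin (N + 1) → k) := fun y =>
    { carrier := π '' (B y : Set (Fin (N + 1) → A))
      add_mem' := by rintro _ _ ⟨a, ha, rfl⟩ ⟨b, hb, rfl⟩; exact ⟨a + b, add_mem ha hb, map_add π a b⟩
      zero_mem' := ⟨0, zero_mem _, map_zero π⟩
      smul_mem' := by
        rintro s _ ⟨a, ha, rfl⟩
        obtain ⟨r, rfl⟩ := IsLocalRing.residue_surjective (R := A) s
        exact ⟨r • a, Submodule.smul_mem _ r ha, (map_smul π r a).trans (algebraMap_smul k r (π a)).symm⟩ }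
  have hW : ∀ y, W y ≠ ⊤ := fun y hWy => hproper y (by
    refine top_le_iff.1 (Submodule.le_of_le_smul_of_le_jacobson_bot Module.Finite.fg_top
      (IsLocalRing.maximalIdeal_le_jacobson _) fun a _ => ?_)
    obtain ⟨b, hb, hbe⟩ := (hWy.symm ▸ Submodule.mem_top : π a ∈ W y)
    refine Submodule.mem_sup.2 ⟨b, hb, a - b, ?_, by abel⟩
    have hmem : ∀ i, (a - b) i ∈ IsLocalRing.maximalIdeal A := fun i => (IsLocalRing.residue_eq_zero_iff _).1 (by
      have := congrFun hbe i
      show IsLocalRing.residue A (a i - b i) = 0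
      rw [map_sub, sub_eq_zero]; exact this.symm)
    rw [show a - b = ∑ i, (a - b) i • (Pi.single i (1 : A) : Fin (N + 1) → A) by
      ext l; simp [Finset.sum_apply, Pi.single_apply]]
    exact Submodule.sum_mem _ fun i _ => Submodule.smul_mem_smul (hmem i) trivial)
  obtain ⟨w, hw⟩ : ∃ w, ∀ y ∈ T, w ∉ W y := by
    by_contra hne
    push_neg at hne
    refine Subspace.biUnion_ne_univ_of_top_notMem (s := hT.toFinset.image W) ?_ (Set.eq_univ_of_forall fun w => ?_)
    · simp only [Finset.mem_image, Set.Finite.mem_toFinset, not_exists, not_and]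
      exact fun y _ => hW y
    · obtain ⟨y, hy, hwy⟩ := hne w
      exact Set.mem_iUnion₂.2 ⟨W y, Finset.mem_image.2 ⟨y, hT.mem_toFinset.2 hy, rfl⟩, hwy⟩
  obtain ⟨a, rfl⟩ := hπ w
  -- the morphism
  let s : L.val.sections := PresheafOfModules.sectionsMk
    (fun U => L.presheaf.map (homOfLE (le_top : U.unop ≤ ⊤)).op (sec a))
    (fun U U' i => (congr($((L.presheaf.map_comp (homOfLE (le_top : U.unop ≤ ⊤)).op i).symm) (sec a))).trans rfl)
  let τ : Coh.structureModule V ⟶ L := L.unitHomEquiv.symm s
  have hτ1 : τ.app ⊤ (1 : Γ(V, ⊤)) = sec a := by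
    have h := congrArg (fun t : L.val.sections => t.val (op ⊤)) (L.unitHomEquiv.apply_symm_apply s)
    refine h.trans ?_
    show L.presheaf.map (homOfLE (le_top : (⊤ : V.Opens) ≤ ⊤)).op (sec a) = sec a
    exact congr($(L.presheaf.map_id (op ⊤)) (sec a))
  refine ⟨τ, a, hτ1, fun j => mono_tensor_of_ass hL (F j) (hF j) τ fun y hy => ?_⟩
  have hay : gm y (sec a) ∉ mL y := fun h => hw y (Set.mem_iUnion.2 ⟨j, hy⟩) ⟨a, h, rfl⟩
  obtain ⟨ε, hε, -⟩ := hgen' y
  obtain ⟨r, hr⟩ := hε.2 (gm y (sec a))
  have hru : IsUnit r := by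
    by_contra hnu
    exact hay (hr ▸ Submodule.smul_mem_smul ((IsLocalRing.mem_maximalIdeal r).2 hnu) trivial)
  have hτy : H06Mod.stalkLin τ y (H06EGA9.oneStalk y) = r • ε :=
    ((H06Mod.stalkLin_germ τ y ⊤ trivial _).trans (congrArg (gm y) hτ1)).trans hr.symm
  have : (H06Mod.stalkLin τ y : _ → _) ∘ (fun q : V.presheaf.stalk y => q • H06EGA9.oneStalk y) =
      (fun q : V.presheaf.stalk y => q • ε) ∘ (fun q => q * r) := funext fun q => by
    show H06Mod.stalkLin τ y (q • H06EGA9.oneStalk y) = (q * r) • ε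
    rw [map_smul, hτy, mul_smul]
  refine (Function.Bijective.of_comp_iff _ (H06EGA9.bijective_smul_oneStalk y)).1 ?_
  rw [this]
  exact hε.comp ⟨fun p q h => hru.mul_left_injective h, fun q => ⟨q * hru.unit⁻¹, by simp [mul_assoc]⟩⟩

end Groth.Agent.S15976
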