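import Groth.Statements.S15981
import Groth.Agent.H25K.CohRank

set_option autoImplicit false
universe u
open IntSh

namespace Groth.Agent.S15981

open CategoryTheory CategoryTheory.Limits AlgebraicGeometry in
/-- Let X be a reduced Noetherian scheme and η_i the generic points of its irreducible components (the
points with zero-dimensional local ring). Sending the class of a coherent O_X-module F to the family
of lengths of its stalks F_{η_i} over O_{X,η_i} is a well defined homomorphism rk from the
Grothendieck group of coherent O_X-modules to the group of integer-valued functions on the η_i;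
every such rk is surjective and its kernel is the subgroup generated by the classes of coherent
modules whose support contains no η_i (the first step of the coniveau filtration), so that rk
identifies the zeroth graded piece of that filtration with the free abelian group on the irreducible
components. -/
theorem result
    {X : Scheme.{u}} [IsNoetherian X] [IsReduced X] :
    (∃ rk : SGA6.Kcoh X →+ ({x : X // ringKrullDim (X.presheaf.stalk x) = 0} → ℤ),
        ∀ F : X.Modules, Coh.IsCoh F →
          rk (KZero.clSub (fun M : X.Modules => Coh.IsCoh M) F) =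
            fun x => ((Module.length (X.presheaf.stalk x.1) (F.presheaf.stalk x.1)).toNat : ℤ)) ∧
    ∀ rk : SGA6.Kcoh X →+ ({x : X // ringKrullDim (X.presheaf.stalk x) = 0} → ℤ),
      (∀ F : X.Modules, Coh.IsCoh F →
          rk (KZero.clSub (fun M : X.Modules => Coh.IsCoh M) F) =
            fun x => ((Module.length (X.presheaf.stalk x.1) (F.presheaf.stalk x.1)).toNat : ℤ)) →
        Function.Surjective rk ∧
          rk.ker = AddSubgroup.closure {c : SGA6.Kcoh X | ∃ F : X.Modules, Coh.IsCoh F ∧
            (∀ x ∈ CohB1.support F, (1 : WithBot ℕ∞) ≤ ringKrullDim (X.presheaf.stalk x)) ∧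
            c = KZero.clSub (fun M : X.Modules => Coh.IsCoh M) F} := by
  classical
  let P : ObjectProperty X.Modules := fun M => Coh.IsCoh M
  let L : X.Modules → {x : X // ringKrullDim (X.presheaf.stalk x) = 0} → ℤ := fun F x =>
    ((Module.length (X.presheaf.stalk x.1) (F.presheaf.stalk x.1)).toNat : ℤ)
  have hadd : KZero.relSub P ≤ (FreeAbelianGroup.lift fun F : Subtype P => L F.1).ker := by
    refine (AddSubgroup.closure_le _).2 ?_
    rintro _ ⟨S, h₁, h₂, h₃, hS, rfl⟩
    simp only [SetLike.mem_coe, AddMonoidHom.mem_ker, map_sub, FreeAbelianGroup.lift_apply_of]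
    funext x
    have e := congrArg ENat.toNat (H25K.length_add S hS x.1)
    rw [ENat.toNat_add (H25K.length_stalk_lt_top _ h₁ x.2) (H25K.length_stalk_lt_top _ h₃ x.2)] at e
    simp only [Pi.sub_apply, Pi.zero_apply, L, e]
    push_cast; ring
  refine ⟨⟨QuotientAddGroup.lift (KZero.relSub P) _ hadd, fun F hF => ?_⟩, fun rk hrk => ?_⟩
  · rw [KZero.clSub, dif_pos hF]
    exact (QuotientAddGroup.lift_mk _ hadd _).trans (FreeAbelianGroup.lift_apply_of _ _)
  haveI := H25K.finite_dim_zero (X := X)
  haveI := Fintype.ofFinite {x : X // ringKrullDim (X.presheaf.stalk x) = 0}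
  let cZ : X → TopologicalSpace.Closeds X := fun z => ⟨closure {z}, isClosed_closure⟩
  let g : X → SGA6.Kcoh X := fun z => KZero.clSub P (H25K.redMod (cZ z))
  let C : AddSubgroup (SGA6.Kcoh X) := AddSubgroup.closure {c : SGA6.Kcoh X | ∃ F : X.Modules, Coh.IsCoh F ∧
    (∀ x ∈ CohB1.support F, (1 : WithBot ℕ∞) ≤ ringKrullDim (X.presheaf.stalk x)) ∧
    c = KZero.clSub (fun M : X.Modules => Coh.IsCoh M) F}
  -- values of `rk` on the generators
  have hval : ∀ (z : X) (x : {x : X // ringKrullDim (X.presheaf.stalk x) = 0}),
      rk (g z) x = if x.1 = z then 1 else 0 := fun z x => by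
    simp only [g, P, hrk _ (H25K.isCoh_redMod (cZ z))]
    split
    · next h =>
      subst h
      rw [H25K.length_redMod (cZ x.1) rfl]; rfl
    · next h =>
      have hx : x.1 ∉ CohB1.support (H25K.redMod (cZ z)) := fun hs =>
        h (H25K.eq_of_specializes_of_dim_zero x.2
          (specializes_iff_mem_closure.2 (H25K.support_redMod_subset _ hs))).symm
      haveI := not_not.1 hx
      simp [Module.length_eq_zero]
  let s : ({x : X // ringKrullDim (X.presheaf.stalk x) = 0} → ℤ) →+ SGA6.Kcoh X :=
    { toFun := fun f => ∑ x, f x • g x.1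
      map_zero' := by simp
      map_add' := fun a b => by simp [add_smul, Finset.sum_add_distrib] }
  have hrs : ∀ f, rk (s f) = f := fun f => by
    funext y
    show rk (∑ x, f x • g x.1) y = f y
    rw [map_sum, Finset.sum_apply, Finset.sum_eq_single y]
    · simp [map_zsmul, hval]
    · intro x _ hxy
      simp [map_zsmul, hval, Subtype.coe_injective.ne (Ne.symm hxy)]
    · simp
  have hdim : ∀ {z y : X}, z ⤳ y → ringKrullDim (X.presheaf.stalk y) = 0 → z = y :=
    fun h h0 => H25K.eq_of_specializes_of_dim_zero h0 h
  have hone : ∀ y : X, ringKrullDim (X.presheaf.stalk y) ≠ 0 →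
      (1 : WithBot ℕ∞) ≤ ringKrullDim (X.presheaf.stalk y) := fun y hy => by
    rw [ringKrullDim_stalk_eq_coheight] at hy ⊢
    have h1 : Order.coheight y ≠ 0 := fun h => hy (by rw [h]; rfl)
    exact WithBot.coe_le_coe.2 (Order.one_le_iff_pos.2 (pos_iff_ne_zero.2 h1))
  have hsup : ∀ x : SGA6.Kcoh X, x - s (rk x) ∈ C := by
    have hQ : (fun M : X.Modules => Coh.IsCoh M) = fun M : X.Modules => Coh.IsCoh M ∧ CohB1.support M ⊆ Set.univ := by
      funext M; simp
    have htop : AddSubgroup.closure (Set.range g) = ⊤ := by
      suffices key : ∀ Q : ObjectProperty X.Modules,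
          Q = (fun M : X.Modules => Coh.IsCoh M ∧ CohB1.support M ⊆ Set.univ) →
          AddSubgroup.closure (Set.range fun z => KZero.clSub Q (H25K.redMod (cZ z))) = ⊤ from key _ hQ
      rintro Q rfl
      refine H27KZero.closure_generic_length_one X Set.univ _
        (fun z => ⟨H25K.isCoh_redMod (cZ z), Set.subset_univ _⟩) fun Z hZ _ _ y hy => ?_
      exact ⟨y, hy ▸ H25K.support_redMod_subset (cZ y), H25K.length_redMod (cZ y) rfl⟩
    intro x
    suffices h : AddSubgroup.closure (Set.range g) ≤
        C.comap (AddMonoidHom.id _ - s.comp rk) from h (htop ▸ AddSubgroup.mem_top x)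
    refine (AddSubgroup.closure_le _).2 ?_
    rintro _ ⟨z, rfl⟩
    show g z - s (rk (g z)) ∈ C
    by_cases hz : ringKrullDim (X.presheaf.stalk z) = 0
    · have : s (rk (g z)) = g z := by
        show ∑ x, rk (g z) x • g x.1 = g z
        rw [Finset.sum_eq_single ⟨z, hz⟩]
        · simp [hval]
        · intro x _ hx
          have : x.1 ≠ z := fun h => hx (Subtype.ext h)
          simp [hval, this]
        · simp
      rw [this, sub_self]; exact C.zero_mem
    · have h0 : s (rk (g z)) = 0 := by
        show ∑ x, rk (g z) x • g x.1 = 0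
        refine Finset.sum_eq_zero fun x _ => ?_
        have : x.1 ≠ z := fun h => hz (h ▸ x.2)
        simp [hval, this]
      rw [h0, sub_zero]
      refine AddSubgroup.subset_closure ⟨_, H25K.isCoh_redMod (cZ z), fun y hy => hone y fun hy0 => hz ?_, rfl⟩
      exact (hdim (specializes_iff_mem_closure.2 (H25K.support_redMod_subset _ hy)) hy0).symm ▸ hy0
  refine ⟨fun f => ⟨s f, hrs f⟩, le_antisymm (fun x hx => ?_) ?_⟩
  · have := hsup x
    rw [AddMonoidHom.mem_ker.1 hx, map_zero, sub_zero] at this
    exact this
  · refine (AddSubgroup.closure_le _).2 ?_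
    rintro _ ⟨F, hF, hs, rfl⟩
    rw [SetLike.mem_coe, AddMonoidHom.mem_ker, hrk F hF]
    funext x
    have hx : x.1 ∉ CohB1.support F := fun h => by
      have h1 := hs x.1 h
      rw [x.2] at h1
      exact absurd h1 (not_le.2 zero_lt_one)
    haveI := not_not.1 hx
    simp [Module.length_eq_zero]

end Groth.Agent.S15981
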