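import Groth.Statements.S15987
import Groth.Agent.H24Def.DualAut
import Mathlib.Tactic

set_option autoImplicit false
set_option linter.style.haveILetI false
universe u v
open Deform

namespace Groth.Agent.S15987

open TrivSqZeroExt in
/-- Let k be a field, A a commutative k-algebra and q_i : A → k (i ∈ ι) k-algebra maps (marked k-points
of Spec A). The k-algebra automorphisms φ of the ring of dual numbers A[ε] that fix ε (so are
k[ε]-linear), are the identity modulo ε, and satisfy q_i((φ x)_ε) = q_i(x_ε) for all i and x
(compatibility with the trivial lifts A[ε] → k[ε] of the marked points) are in bijection with the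
k-derivations D : A → A such that q_i ∘ D = 0 for every i, the bijection sending φ to a ↦ (φ(a))_ε.
(The source identifies the right-hand side with the global vector fields vanishing at the marked
points; the condition the computation yields is q_i ∘ D = 0, which is the same for Spec A smooth
over k but is weaker in general, e.g. for A = k[x]/(x^2) with 2 invertible in k.) -/
theorem result
    (k : Type u) [Field k] (A : Type u) [CommRing A] [Algebra k A] {ι : Type v} (q : ι → (A →ₐ[k] k)) :
    ∃ e : {φ : DualNumber A ≃ₐ[k] DualNumber A //
            φ DualNumber.eps = DualNumber.eps ∧ (∀ x, (φ x).fst = x.fst) ∧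
              ∀ i x, q i (φ x).snd = q i x.snd} ≃
          {D : Derivation k A A // ∀ i a, q i (D a) = 0},
      ∀ φ (a : A), (e φ).1 a = (φ.1 (inl a : DualNumber A)).snd := by
    classical
    let toD : {φ : DualNumber A ≃ₐ[k] DualNumber A //
        φ DualNumber.eps = DualNumber.eps ∧ (∀ x, (φ x).fst = x.fst) ∧
          ∀ i x, q i (φ x).snd = q i x.snd} → {D : Derivation k A A // ∀ i a, q i (D a) = 0} := fun φ =>
      ⟨Derivation.mk'
        { toFun := fun a => (φ.1 (inl a : DualNumber A)).snd
          map_add' := fun a b => by rw [inl_add, map_add, snd_add]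
          map_smul' := fun e a => by rw [show (inl (e • a) : DualNumber A) = e • inl a from inl_smul _ e a, map_smul, snd_smul]; rfl }
        (fun a b => by
          change (φ.1 (inl (a * b) : DualNumber A)).snd = a • (φ.1 (inl b : DualNumber A)).snd + b • (φ.1 (inl a : DualNumber A)).snd
          rw [inl_mul, map_mul, DualNumber.snd_mul, φ.2.2.1, φ.2.2.1, fst_inl, fst_inl, smul_eq_mul, smul_eq_mul]
          ring),
       fun i a => (φ.2.2.2 i (inl a)).trans (by simp)⟩
    let ofD : {D : Derivation k A A // ∀ i a, q i (D a) = 0} → {φ : DualNumber A ≃ₐ[k] DualNumber A //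
        φ DualNumber.eps = DualNumber.eps ∧ (∀ x, (φ x).fst = x.fst) ∧
          ∀ i x, q i (φ x).snd = q i x.snd} := fun D =>
      ⟨Groth.Agent.H24Def.dualAut D.1, Groth.Agent.H24Def.dualAut_eps _, fun x => Groth.Agent.H24Def.dualAut_fst _ x,
        fun i x => by simp [map_add, D.2]⟩
    refine ⟨⟨toD, ofD, fun φ => Subtype.ext (AlgEquiv.ext fun x => ?_), fun D => Subtype.ext (Derivation.ext fun a => ?_)⟩, fun φ a => rfl⟩
    · change Groth.Agent.H24Def.dualAut (toD φ).1 x = φ.1 x
      have hx : x = inl x.fst + inl x.snd * DualNumber.eps := TrivSqZeroExt.ext (by simp) (by simp)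
      conv_rhs => rw [hx, map_add, map_mul, φ.2.1]
      refine TrivSqZeroExt.ext (by simp [φ.2.2.1]) ?_
      simp [φ.2.2.1, toD]
    · change (Groth.Agent.H24Def.dualAut D.1 (inl a : DualNumber A)).snd = D.1 a
      simp

end Groth.Agent.S15987
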