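import Groth.Statements.S15988
import Groth.Agent.H24Def.DualAut
import Mathlib.Tactic

set_option autoImplicit false
set_option linter.style.haveILetI false
universe u v
open Deform

namespace Groth.Agent.S15988

open TrivSqZeroExt in
/-- Let k be a field, A a smooth commutative k-algebra, q_i : A → k (i ∈ ι, ι finite) pairwise distinct
k-algebra maps, and q'_i : A[ε] → k[ε] k-algebra maps with q'_i(ε) = ε which reduce to q_i modulo ε
(marked points of a first-order deformation with underlying trivial deformation). Then some
k-algebra automorphism φ of A[ε] with φ(ε) = ε and φ = id modulo ε carries every q'_i to the trivial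
lift of q_i: q'_i(φ x) = (q_i(x_0), q_i(x_ε)) for all i and x. Together with the triviality of
first-order deformations of a smooth affine scheme this gives the source's statement that
first-order deformations of a smooth affine scheme with marked points are trivial. (The published
statement does not say that the finitely many marked points are distinct; for two coincident points
with different lifts no such automorphism exists, so the points are taken pairwise distinct here,
and the source's non-singular is read as smooth over k.) -/
theorem result
    (k : Type u) [Field k] (A : Type u) [CommRing A] [Algebra k A] [Algebra.Smooth k A]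
    {ι : Type v} [Finite ι] (q : ι → (A →ₐ[k] k)) (hq : Function.Injective q)
    (q' : ι → (DualNumber A →ₐ[k] DualNumber k))
    (hε : ∀ i, q' i DualNumber.eps = DualNumber.eps) (hq' : ∀ i x, (q' i x).fst = q i x.fst) :
    ∃ φ : DualNumber A ≃ₐ[k] DualNumber A,
      φ DualNumber.eps = DualNumber.eps ∧ (∀ x, (φ x).fst = x.fst) ∧
        ∀ i x, (q' i (φ x)).fst = q i x.fst ∧ (q' i (φ x)).snd = q i x.snd := by
    classical
    letI := Fintype.ofFinite ι
    let r : A →ₐ[k] (ι → k) := Pi.algHom k _ q
    letI : Algebra A (ι → k) := r.toRingHom.toAlgebra
    haveI : IsScalarTower k A (ι → k) := IsScalarTower.of_algebraMap_eq fun c => (r.commutes c).symm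
    have hsep : ∀ i j, j ≠ i → ∃ a, q i a = 1 ∧ q j a = 0 := fun i j hji => by
      obtain ⟨a, ha⟩ : ∃ a, q i a ≠ q j a := by
        by_contra h
        push_neg at h
        exact hji (hq (AlgHom.ext fun a => (h a).symm))
      exact ⟨(q i a - q j a)⁻¹ • (a - algebraMap k A (q j a)),
        by simp [inv_mul_cancel₀ (sub_ne_zero.mpr ha)], by simp⟩
    choose b hb1 hb0 using hsep
    let bb : ι → ι → A := fun i j => if h : j ≠ i then b i j h else 1
    have hr : Function.Surjective r := fun f => by
      refine ⟨∑ i, f i • ∏ j ∈ Finset.univ.erase i, bb i j, funext fun l => ?_⟩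
      change q l _ = f l
      rw [map_sum, Finset.sum_eq_single l]
      · rw [map_smul, map_prod, Finset.prod_eq_one (fun j hj => ?_), smul_eq_mul, mul_one]
        simp [bb, (Finset.mem_erase.mp hj).1, hb1]
      · intro i _ hil
        rw [map_smul, map_prod, Finset.prod_eq_zero (Finset.mem_erase.mpr ⟨hil.symm, Finset.mem_univ l⟩)
          (by simp [bb, hil.symm, hb0]), smul_zero]
      · exact fun h => absurd (Finset.mem_univ l) h
    let δ : Derivation k A (ι → k) := Derivation.mk'
      { toFun := fun a i => -(q' i (TrivSqZeroExt.inl a)).snd
        map_add' := fun a b => funext fun i => by simp [TrivSqZeroExt.inl_add]; ring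
        map_smul' := fun e a => funext fun i => by simp [show (TrivSqZeroExt.inl (e • a) : DualNumber A) = e • TrivSqZeroExt.inl a from TrivSqZeroExt.inl_smul _ e a] }
      (fun a b => funext fun i => by
        change -(q' i (TrivSqZeroExt.inl (a * b))).snd =
          q i a * -(q' i (TrivSqZeroExt.inl b)).snd + q i b * -(q' i (TrivSqZeroExt.inl a)).snd
        rw [TrivSqZeroExt.inl_mul, map_mul, DualNumber.snd_mul, hq', hq', TrivSqZeroExt.fst_inl, TrivSqZeroExt.fst_inl]
        ring)
    haveI : Module.Projective A Ω[A⁄k] := inferInstance
    obtain ⟨L, hL⟩ := Module.projective_lifting_property (Algebra.linearMap A (ι → k)) δ.liftKaehlerDifferential hr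
    let D : Derivation k A A := L.compDer (KaehlerDifferential.D k A)
    have hD : ∀ i a, q i (D a) = -(q' i (TrivSqZeroExt.inl a)).snd := fun i a => by
      have := congrFun ((LinearMap.congr_fun hL (KaehlerDifferential.D k A a)).trans (δ.liftKaehlerDifferential_comp_D a)) i
      exact this
    refine ⟨Groth.Agent.H24Def.dualAut D, Groth.Agent.H24Def.dualAut_eps D, Groth.Agent.H24Def.dualAut_fst D,
      fun i x => ⟨by rw [hq', Groth.Agent.H24Def.dualAut_fst], ?_⟩⟩
    have hdec : ∀ z : DualNumber A, z = TrivSqZeroExt.inl z.fst + TrivSqZeroExt.inl z.snd * DualNumber.eps :=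
      fun z => TrivSqZeroExt.ext (by simp) (by simp)
    rw [hdec (Groth.Agent.H24Def.dualAut D x), map_add, map_mul, hε, TrivSqZeroExt.snd_add, DualNumber.snd_mul,
      hq', TrivSqZeroExt.fst_inl]
    simp [hD]

end Groth.Agent.S15988
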