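import Groth.Statements.S15989
import Groth.Agent.H17.Genus1.Final
-- import your own Groth.Agent.* helpers here

set_option autoImplicit false
universe u
open ModFun

namespace Groth.Agent.S15989

open AlgebraicGeometry CategoryTheory in
/-- Over an algebraically closed field k, the moduli problem of curves of genus 1 (proper smooth
geometrically irreducible C → T with one-dimensional geometric fibres of genus 1, modulo isomorphism
over T, on all k-schemes T) is not representable: no k-scheme M carries a universal family. (The
published statement asserts non-representability for every genus g and every number n of marked
points, which fails for g = 0 and n = 3: three disjoint sections identify every family with the
projective line over the base marked at 0, 1 and ∞, so that functor is represented by a point; its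
argument is carried out in genus 1 with one marked point, and the unpointed genus-1 case stated here
is what that argument, with the same isotrivial family, proves.) -/
theorem result (k : Type u) [Field k] [IsAlgClosed k]
    (M : Over (Spec (CommRingCat.of k))) :
    ¬ ModFun.IsFineModuli ⊤ (ModFun.Mg (Spec (CommRingCat.of k)) 1) M := by
  exact H17.Genus1.not_isFineModuli M


end Groth.Agent.S15989
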