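import Groth.Statements.S15990
import Groth.Agent.H29Slice.SmoothSection
import Groth.Agent.H29Slice.Fibre
import Groth.Agent.H29Blow.PointsOfAffine

set_option autoImplicit false
universe u
open SDiv

namespace Groth.Agent.S15990

open AlgebraicGeometry CategoryTheory in
/-- Let f : X → Y be separated and smooth of relative dimension 1 and let σ : Y → X be a section of f.
Then σ(Y) is a relative effective Cartier divisor on X/Y: the kernel ideal sheaf of the closed
immersion σ is the ideal sheaf of an effective Cartier divisor (locally on affine opens generated by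
one nonzerodivisor) and the closed subscheme it defines is flat over Y. (The source adds the special
case of the diagonal of X ×_Y X, a section of the first projection.) -/
theorem result
    {X Y : Scheme.{u}} (f : X ⟶ Y) [IsSeparated f] [SmoothOfRelativeDimension 1 f]
    (σ : Y ⟶ X) (hσ : σ ≫ f = 𝟙 Y) :
    BlowUp.IsEffCartierIdeal σ.ker ∧ Flat (σ.ker.subschemeι ≫ f) := by
  haveI : IsClosedImmersion (σ ≫ f) := by rw [hσ]; infer_instance
  haveI : IsClosedImmersion σ := IsClosedImmersion.of_comp σ f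
  haveI : Smooth f := SmoothOfRelativeDimension.smooth 1 f
  refine ⟨fun x => ?_, ?_⟩
  swap
  · have h1 : σ.ker.subschemeι = inv σ.toImage ≫ σ := by
      rw [IsIso.eq_inv_comp]; exact σ.toImage_imageι
    rw [h1, Category.assoc, hσ, Category.comp_id]
    infer_instance
  by_cases hx : x ∈ σ.ker.support
  swap
  · exact Groth.Agent.H29Slice.exists_unit_generator_of_notMem_support σ.ker x hx
  obtain ⟨y, rfl⟩ : x ∈ Set.range σ.base := by
    rw [← SetLike.mem_coe, Scheme.Hom.support_ker, σ.isClosedEmbedding.isClosed_range.closure_eq] at hx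
    exact hx
  obtain ⟨U, hU, V₀, hV₀, hyV₀, e, hstd⟩ :=
    SmoothOfRelativeDimension.exists_isStandardSmoothOfRelativeDimension (n := 1) (f := f) (σ y)
  have hfy : f (σ y) = y := by rw [← Scheme.Hom.comp_apply, hσ]; rfl
  have hyU : y ∈ U := hfy ▸ e hyV₀
  obtain ⟨a, haO, hya⟩ := hU.exists_basicOpen_le (V := σ ⁻¹ᵁ V₀) ⟨y, hyV₀⟩ hyU
  let V' : Y.Opens := Y.basicOpen a
  let W : X.Opens := X.basicOpen (f.appLE U V₀ e a)
  have hV' : IsAffineOpen V' := hU.basicOpen a
  have hW : IsAffineOpen W := hV₀.basicOpen _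
  have hWeq : W = V₀ ⊓ f ⁻¹ᵁ V' := Scheme.basicOpen_appLE f V₀ U e a
  have eW : W ≤ f ⁻¹ᵁ V' := hWeq.le.trans inf_le_right
  have hyW : σ y ∈ W := by
    rw [hWeq]; exact ⟨hyV₀, show f (σ y) ∈ V' by rw [hfy]; exact hya⟩
  have hpre : σ ⁻¹ᵁ W = V' := by
    ext z
    have hz : f (σ z) = z := by rw [← Scheme.Hom.comp_apply, hσ]; rfl
    simp only [TopologicalSpace.Opens.map_coe, Set.mem_preimage, SetLike.mem_coe]
    rw [hWeq]
    exact ⟨fun hh => hz ▸ hh.2, fun hh => ⟨haO hh, show f (σ z) ∈ V' from hz.symm ▸ hh⟩⟩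
  let A := Γ(Y, V')
  let B := Γ(X, W)
  let φ : A ⟶ B := f.appLE V' W eW
  letI := φ.hom.toAlgebra
  haveI : Algebra.Smooth A B := f.smooth_appLE hV' hW eW
  have hstd' : φ.hom.IsStandardSmoothOfRelativeDimension 1 := by
    letI := hU.isLocalization_basicOpen a
    letI := hV₀.isLocalization_basicOpen (f.appLE U V₀ e a)
    show (f.appLE V' W eW).hom.IsStandardSmoothOfRelativeDimension 1
    rw [IsAffineOpen.appLE_eq_away_map f hU hV₀ e a]
    exact (RingHom.isStandardSmoothOfRelativeDimension_localizationPreserves 1).away _ a _ _ hstd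
  haveI : Algebra.IsStandardSmoothOfRelativeDimension 1 A B := hstd'
  haveI : Algebra.IsStandardSmooth A B := Algebra.IsStandardSmoothOfRelativeDimension.isStandardSmooth 1
  let J : Ideal B := RingHom.ker (σ.app W).hom
  have hcomp : φ ≫ σ.app W = Y.presheaf.map (eqToHom hpre).op := by
    show f.appLE V' W eW ≫ σ.app W = _
    have key : ∀ (g : Y ⟶ Y), g = 𝟙 Y → ∀ (O : Y.Opens) (h : O ≤ g ⁻¹ᵁ V') (h' : O = V'),
        g.appLE V' O h = Y.presheaf.map (eqToHom h').op := by
      rintro g rfl O h rfl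
      rw [Scheme.Hom.appLE, Scheme.Hom.id_app]
      refine (Category.id_comp _).trans ?_
      exact congrArg _ (Subsingleton.elim _ _)
    rw [Scheme.Hom.app_eq_appLE, Scheme.Hom.appLE_comp_appLE]
    exact key _ hσ _ _ hpre
  have hb : Function.Bijective (Y.presheaf.map (eqToHom hpre).op) := ConcreteCategory.bijective_of_isIso _
  have hI : ∀ c : A, algebraMap A B c ∈ J ↔ c ∈ Ideal.ofList ([] : List A) := fun c => by
    rw [Ideal.ofList_nil, Ideal.mem_bot, RingHom.mem_ker]
    show (φ ≫ σ.app W) c = 0 ↔ _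
    rw [hcomp]
    exact ⟨fun h => hb.1 (h.trans (map_zero _).symm), fun h => by rw [h, map_zero]⟩
  have hsurj : ∀ b : B, ∃ c, b - algebraMap A B c ∈ J := fun b => by
    obtain ⟨c, hc⟩ := hb.2 (σ.app W b)
    refine ⟨c, ?_⟩
    rw [RingHom.mem_ker, map_sub, sub_eq_zero]
    show _ = (φ ≫ σ.app W) c
    rw [hcomp, hc]
  let q : Ideal B := (hW.primeIdealOf ⟨σ y, hyW⟩).asIdeal
  have hJq : J ≤ q := fun x hx => by
    rw [H29Blow.mem_primeIdealOf_iff hW ⟨σ y, hyW⟩]
    intro hu
    have h2 := hu.map (σ.stalkMap y).hom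
    rw [show (σ.stalkMap y).hom (X.presheaf.germ W (σ y) hyW x) = Y.presheaf.germ (σ ⁻¹ᵁ W) y hyW (σ.app W x)
      from σ.germ_stalkMap_apply W y hyW x,
      show σ.app W x = 0 from hx, map_zero] at h2
    exact not_isUnit_zero h2
  obtain ⟨b, hbq, ws, hws, hJ, hlen⟩ :=
    Groth.Agent.H29Slice.exists_regular_near_section A B [] (RingTheory.Sequence.IsWeaklyRegular.nil _ _)
      J hI hsurj q hJq
  have hrank : Module.finrank (Localization.AtPrime q) (KaehlerDifferential A (Localization.AtPrime q)) = 1 := by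
    haveI : IsLocalizedModule q.primeCompl (KaehlerDifferential.map A A B (Localization.AtPrime q)) :=
      KaehlerDifferential.isLocalizedModule_map A B (Localization.AtPrime q) q.primeCompl
    haveI : Nontrivial B := (algebraMap B (Localization.AtPrime q)).domain_nontrivial
    let bB := Module.Free.chooseBasis B (KaehlerDifferential A B)
    rw [Module.finrank_eq_card_basis (bB.ofIsLocalizedModule (Localization.AtPrime q) q.primeCompl
      (KaehlerDifferential.map A A B (Localization.AtPrime q))), ← Module.finrank_eq_card_basis bB]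
    exact Module.finrank_eq_of_rank_eq
      (Algebra.IsStandardSmoothOfRelativeDimension.rank_kaehlerDifferential 1)
  rw [hrank, List.length_nil, add_zero, List.length_eq_one_iff] at hlen
  obtain ⟨w, rfl⟩ := hlen
  let W₂ : X.Opens := X.basicOpen b
  have hyW₂ : σ y ∈ W₂ := by
    rw [Scheme.mem_basicOpen X b (σ y) hyW]
    by_contra hu
    exact hbq ((H29Blow.mem_primeIdealOf_iff hW ⟨σ y, hyW⟩ b).2 hu)
  letI : Algebra B Γ(X, W₂) := (X.presheaf.map (homOfLE (X.basicOpen_le b)).op).hom.toAlgebra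
  haveI : IsLocalization.Away b Γ(X, W₂) := hW.isLocalization_basicOpen b
  let ε := IsLocalization.algEquiv (Submonoid.powers b) (Localization.Away b) Γ(X, W₂)
  refine ⟨⟨W₂, hW.basicOpen b⟩, hyW₂, ε w, ?_, ?_⟩
  · have hw := (RingTheory.Sequence.isWeaklyRegular_singleton_iff _ _).1 hws
    rw [mem_nonZeroDivisors_iff_right]
    intro t ht
    obtain ⟨t, rfl⟩ := ε.surjective t
    rw [← map_mul, map_eq_zero_iff ε ε.injective] at ht
    rw [map_eq_zero_iff ε ε.injective]
    refine hw ?_
    show w * t = w * 0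
    rw [mul_zero, mul_comm]
    exact ht
  · rw [← Scheme.IdealSheafData.map_ideal σ.ker (U := ⟨W₂, hW.basicOpen b⟩) (V := ⟨W, hW⟩)
      (X.basicOpen_le b), Scheme.Hom.ker_apply]
    have hJ2 := congrArg (Ideal.map ε.toAlgHom.toRingHom) hJ
    rw [Ideal.map_map, Ideal.ofList_singleton, Ideal.map_span, Set.image_singleton] at hJ2
    refine Eq.trans ?_ hJ2
    congr 1
    exact (AlgHom.comp_algebraMap ε.toAlgHom).symm

end Groth.Agent.S15990
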