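import Groth.Statements.S15991
import Groth.Agent.H24Def.MarkedSmooth
import Mathlib.AlgebraicGeometry.Morphisms.Smooth

set_option autoImplicit false
set_option linter.style.haveILetI false
universe u v
open Deform

namespace Groth.Agent.S15991

open AlgebraicGeometry CategoryTheory in
/-- Let k be a field and X an affine scheme smooth over k, with finitely many pairwise distinct
k-rational points p_j (j ∈ ι). Let X' → Spec k[ε] be flat, i : X → X' a morphism making X the fibre
over the closed point Spec k → Spec k[ε] (cartesian square), and p'_j : Spec k[ε] → X' sections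
restricting to the p_j. Then there is an isomorphism φ : X' ≅ X ×_{Spec k} Spec k[ε] over Spec k[ε]
such that i followed by φ is the inclusion of X at the closed point (its first component is the
identity of X) and each p'_j followed by φ is the constant section through p_j: every first-order
deformation of a smooth affine scheme with marked points is trivial. (The source says non-singular;
smooth over k is assumed here, and the marked points are taken pairwise distinct and finite in
number.) -/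
theorem result
    (k : Type u) [Field k] (X : Scheme.{u}) (hX : X ⟶ Spec (CommRingCat.of k)) [IsAffine X] [Smooth hX]
    {ι : Type v} [Finite ι] (p : ι → (Spec (CommRingCat.of k) ⟶ X)) (hp : ∀ j, p j ≫ hX = 𝟙 _)
    (hinj : Function.Injective p)
    (X' : Scheme.{u}) (g : X' ⟶ Spec (CommRingCat.of (DualNumber k))) [Flat g] (i : X ⟶ X')
    (hsq : IsPullback i hX g
      (Spec.map (CommRingCat.ofHom (TrivSqZeroExt.fstHom k k k).toRingHom)))
    (p' : ι → (Spec (CommRingCat.of (DualNumber k)) ⟶ X')) (hp' : ∀ j, p' j ≫ g = 𝟙 _)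
    (hpp' : ∀ j, p j ≫ i = Spec.map (CommRingCat.ofHom (TrivSqZeroExt.fstHom k k k).toRingHom) ≫ p' j) :
    ∃ φ : X' ≅ Limits.pullback hX (Spec.map (CommRingCat.ofHom (algebraMap k (DualNumber k)))),
      φ.hom ≫ Limits.pullback.snd hX (Spec.map (CommRingCat.ofHom (algebraMap k (DualNumber k)))) = g ∧
        i ≫ φ.hom ≫ Limits.pullback.fst hX (Spec.map (CommRingCat.ofHom (algebraMap k (DualNumber k)))) = 𝟙 X ∧
          ∀ j, p' j ≫ φ.hom ≫
              Limits.pullback.fst hX (Spec.map (CommRingCat.ofHom (algebraMap k (DualNumber k)))) =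
            Spec.map (CommRingCat.ofHom (algebraMap k (DualNumber k))) ≫ p j := by
  classical
  let φ0 : CommRingCat.of k ⟶ Γ(X, ⊤) := Spec.preimage (X.isoSpec.inv ≫ hX)
  letI : Algebra k Γ(X, ⊤) := φ0.hom.toAlgebra
  let A : ArtFun.Art k k := ArtFun.Art.dual k k
  have hbase : X.isoSpec.inv ≫ hX = Groth.Agent.H24Def.affPt k Γ(X, ⊤) := (Spec.map_preimage _).symm
  haveI : Algebra.FormallySmooth k Γ(X, ⊤) := by
    have h1 : Smooth (Groth.Agent.H24Def.affPt k Γ(X, ⊤)) := hbase ▸ inferInstance
    have h2 : (algebraMap k Γ(X, ⊤)).Smooth := (HasRingHomProperty.Spec_iff (P := @Smooth)).mp h1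
    exact (RingHom.smooth_algebraMap.mp h2).formallySmooth
  let ξ : ArtFun.DefSch (Spec (CommRingCat.of Γ(X, ⊤))) (Groth.Agent.H24Def.affPt k Γ(X, ⊤)) A :=
    { total := X'
      f := g
      flat := inferInstanceAs (Flat g)
      i := X.isoSpec.inv ≫ i
      isPullback := by
        refine hsq.of_iso X.isoSpec (Iso.refl _) (Iso.refl _) (Iso.refl _) ?_ ?_ ?_ ?_
        · simp
        · show hX ≫ 𝟙 _ = X.isoSpec.hom ≫ Groth.Agent.H24Def.affPt k Γ(X, ⊤)
          rw [← hbase, X.isoSpec.hom_inv_id_assoc, Category.comp_id]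
        · show g ≫ 𝟙 _ = 𝟙 _ ≫ g
          rw [Category.comp_id, Category.id_comp]
        · show Spec.map _ ≫ 𝟙 _ = 𝟙 _ ≫ ArtFun.Art.specRes A
          rw [Category.comp_id, Category.id_comp]
          rfl }
  obtain ⟨D, ⟨a⟩⟩ := Groth.Agent.H24Def.exists_toSch_iso ξ
  let η : X' ≅ Spec (CommRingCat.of D.B) := a.iso
  let αA : CommRingCat.of (DualNumber k) ⟶ CommRingCat.of D.B := CommRingCat.ofHom (algebraMap A D.B)
  let πc : CommRingCat.of D.B ⟶ Γ(X, ⊤) := CommRingCat.ofHom D.π
  have hηf : η.hom ≫ Spec.map αA = g := a.hom_f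
  have hηi : X.isoSpec.inv ≫ i ≫ η.hom = Spec.map πc := (Category.assoc _ _ _).symm.trans a.i_hom
  have hηi' : i ≫ η.hom = X.isoSpec.hom ≫ Spec.map πc := by rw [← hηi, X.isoSpec.hom_inv_id_assoc]
  let q0 : ι → (Γ(X, ⊤) ⟶ CommRingCat.of k) := fun j => Spec.preimage (p j ≫ X.isoSpec.hom)
  have hq0 : ∀ j, φ0 ≫ q0 j = 𝟙 _ := fun j => Spec.map_injective (by
    rw [Spec.map_comp, Spec.map_preimage, Spec.map_preimage, Spec.map_id, Category.assoc,
      X.isoSpec.hom_inv_id_assoc]
    exact hp j)
  let q : ι → (Γ(X, ⊤) →ₐ[k] k) := fun j =>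
    { (q0 j).hom with commutes' := fun c => ConcreteCategory.congr_hom (hq0 j) c }
  have hqi : Function.Injective q := by
    intro j₁ j₂ h
    apply hinj
    rw [← cancel_mono X.isoSpec.hom, ← Spec.map_preimage (p j₁ ≫ X.isoSpec.hom),
      ← Spec.map_preimage (p j₂ ≫ X.isoSpec.hom)]
    exact congrArg Spec.map (CommRingCat.hom_ext (RingHom.ext fun x => DFunLike.congr_fun h x))
  let σ0 : ι → (CommRingCat.of D.B ⟶ CommRingCat.of (DualNumber k)) := fun j => Spec.preimage (p' j ≫ η.hom)
  let σ : ι → (D.B →+* DualNumber k) := fun j => (σ0 j).hom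
  have hσA : ∀ j (b : DualNumber k), σ j (algebraMap A D.B b) = b := fun j b => by
    have : αA ≫ σ0 j = 𝟙 (CommRingCat.of (DualNumber k)) := Spec.map_injective (by
      rw [Spec.map_comp, Spec.map_preimage, Spec.map_id, Category.assoc, hηf]
      exact hp' j)
    exact ConcreteCategory.congr_hom this b
  have hσπ : ∀ j (b : D.B), (σ j b).fst = q j (D.π b) := fun j b => by
    have : σ0 j ≫ CommRingCat.ofHom (TrivSqZeroExt.fstHom k k k).toRingHom = πc ≫ q0 j :=
      Spec.map_injective (by
        rw [Spec.map_comp, Spec.map_comp, Spec.map_preimage, Spec.map_preimage, Category.assoc, ← hηi',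
          ← Category.assoc, ← hpp', Category.assoc])
    exact ConcreteCategory.congr_hom this b
  obtain ⟨s, hs1, hs2, hs3⟩ := D.exists_section_marked q hqi σ hσA hσπ
  have hP0 := D.isPullback_of_section s hs1 hs2
  let sc : Γ(X, ⊤) ⟶ CommRingCat.of D.B := CommRingCat.ofHom s
  let u : X' ⟶ X := η.hom ≫ Spec.map sc ≫ X.isoSpec.inv
  have hP : IsPullback u g hX (Spec.map (CommRingCat.ofHom (algebraMap k (DualNumber k)))) := by
    refine hP0.of_iso η.symm X.isoSpec.symm (Iso.refl _) (Iso.refl _) ?_ ?_ ?_ ?_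
    · show Spec.map sc ≫ X.isoSpec.inv = η.inv ≫ u
      simp [u]
    · show Spec.map αA ≫ 𝟙 _ = η.inv ≫ g
      rw [Category.comp_id, ← hηf, η.inv_hom_id_assoc]
    · show Spec.map _ ≫ 𝟙 _ = X.isoSpec.inv ≫ hX
      rw [Category.comp_id]
      exact hbase.symm
    · show Spec.map _ ≫ 𝟙 _ = 𝟙 _ ≫ Spec.map _
      rw [Category.comp_id, Category.id_comp]
      rfl
  refine ⟨hP.isoPullback, hP.isoPullback_hom_snd, ?_, fun j => ?_⟩
  · rw [hP.isoPullback_hom_fst]
    have h1 : sc ≫ πc = 𝟙 _ := CommRingCat.hom_ext (RingHom.ext hs1)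
    show i ≫ η.hom ≫ Spec.map sc ≫ X.isoSpec.inv = 𝟙 X
    rw [← Category.assoc i, hηi', Category.assoc, ← Spec.map_comp_assoc, h1, Spec.map_id, Category.id_comp,
      X.isoSpec.hom_inv_id]
  · rw [hP.isoPullback_hom_fst]
    have h1 : sc ≫ σ0 j = q0 j ≫ CommRingCat.ofHom (algebraMap k (DualNumber k)) :=
      CommRingCat.hom_ext (RingHom.ext (hs3 j))
    show p' j ≫ η.hom ≫ Spec.map sc ≫ X.isoSpec.inv = _
    rw [← Category.assoc (p' j), ← Spec.map_preimage (p' j ≫ η.hom), ← Spec.map_comp_assoc]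
    show Spec.map (sc ≫ σ0 j) ≫ X.isoSpec.inv = _
    rw [h1, Spec.map_comp, Spec.map_preimage, Category.assoc, Category.assoc, X.isoSpec.hom_inv_id,
      Category.comp_id]

end Groth.Agent.S15991
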