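import Groth.Statements.S15993
import Groth.Agent.H05EGA4.DenseExt
import Groth.Agent.H7Lim.SchDenseLimit
import Mathlib.AlgebraicGeometry.Morphisms.FlatMono

set_option autoImplicit false
open CategoryTheory AlgebraicGeometry
universe u
set_option linter.style.haveILetI false
open EtHull

namespace Groth.Agent.S15993

/-- Let f : X → S be a morphism of schemes which is faithfully flat (flat and surjective), quasi-compact
and separated, and schematically birational in the following sense: there are schematically dense
opens U of S and V of X, with the inclusion V → X quasi-compact, such that f maps V into U and the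
induced morphism V → U is an isomorphism. Then f is an isomorphism. (The source states this for
algebraic spaces and puts no quasi-compactness condition on the dense opens. Its proof base-changes
along f and uses that the inverse image of V in X ×_S X is again schematically dense, which holds
when V → X is quasi-compact, for instance when X is locally Noetherian, and fails in general: over
the Boolean ring of eventually constant sequences of elements of the field with two elements, the
spectrum of the ring of eventually two-periodic sequences is faithfully flat and affine, and it is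
an isomorphism above the open set of principal points, which is schematically dense on both sides,
yet it is not an isomorphism, the point at infinity being doubled. So V is taken retrocompact in X
here, and X, S are schemes.) -/
theorem result {X S : Scheme.{u}} (f : X ⟶ S)
    [Flat f] [Surjective f] [QuasiCompact f] [IsSeparated f]
    (U : S.Opens) (V : X.Opens) [QuasiCompact V.ι]
    (hU : CInt.IsSchematicallyDense U) (hV : CInt.IsSchematicallyDense V)
    (hle : V ≤ f ⁻¹ᵁ U) (hiso : IsIso (f.resLE U V hle)) : IsIso f := by
  open CategoryTheory.Limits in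
  haveI := hiso
  have hfac : f.resLE U V hle ≫ U.ι = V.ι ≫ f := Scheme.Hom.resLE_comp_ι f hle
  haveI hmono : Mono (V.ι ≫ f) := hfac ▸ inferInstance
  -- the preimage of `U` is `V`
  let i := X.homOfLE hle
  have hi : i ≫ (f ∣_ U) = f.resLE U V hle := by
    rw [← cancel_mono U.ι, Category.assoc, morphismRestrict_ι, Scheme.homOfLE_ι_assoc, hfac]
  haveI : IsSeparated (f ∣_ U) := MorphismProperty.of_isPullback (isPullback_morphismRestrict f U).flip ‹IsSeparated f›
  haveI : IsClosedImmersion (i ≫ (f ∣_ U)) := hi ▸ inferInstance
  haveI : IsClosedImmersion i := IsClosedImmersion.of_comp i (f ∣_ U)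
  have hWV : f ⁻¹ᵁ U = V := by
    refine le_antisymm (fun x hx => ?_) hle
    by_contra hxV
    let C : (f ⁻¹ᵁ U).toScheme.Opens := ⟨(Set.range i)ᶜ, i.isClosedEmbedding.isClosed_range.isOpen_compl⟩
    let Z := (f ⁻¹ᵁ U).ι ''ᵁ C
    have hiff : ∀ y, y ∈ Set.range i ↔ ((f ⁻¹ᵁ U).ι y) ∈ V := fun y => by
      constructor
      · rintro ⟨z, rfl⟩
        rw [← Scheme.Hom.comp_apply, Scheme.homOfLE_ι]
        exact z.2
      · intro hy
        refine ⟨⟨_, hy⟩, (f ⁻¹ᵁ U).ι.isEmbedding.injective ?_⟩
        rw [← Scheme.Hom.comp_apply, Scheme.homOfLE_ι]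
        rfl
    have hZ : Z ⊓ V = ⊥ := by
      refine le_bot_iff.1 ?_
      rintro y ⟨⟨z, hz, rfl⟩, hyV⟩
      exact hz ((hiff z).2 hyV)
    have hxZ : x ∈ Z := ⟨⟨x, hx⟩, fun h => hxV ((hiff _).1 h), rfl⟩
    haveI : Subsingleton Γ(X, Z ⊓ V) := hZ ▸ inferInstance
    haveI : Subsingleton Γ(X, Z) := (hV Z).subsingleton
    haveI : Nonempty Z := ⟨⟨x, hxZ⟩⟩
    exact false_of_nontrivial_of_subsingleton Γ(X, Z)
  -- `f` is a monomorphism
  let W := pullback.fst f f ⁻¹ᵁ V
  haveI : QuasiCompact W.ι := MorphismProperty.of_isPullback (isPullback_morphismRestrict (pullback.fst f f) V) ‹QuasiCompact V.ι›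
  have hW : CInt.IsSchematicallyDense W := by
    rw [Groth.Agent.H7Lim.SchDenseLimit.isSchDense_iff]
    haveI := (Groth.Agent.H7Lim.SchDenseLimit.isSchDense_iff V).1 hV
    exact Groth.Agent.H7Lim.SchDenseLimit.isSTD_preimage _ V
  have hW' : W ≤ pullback.snd f f ⁻¹ᵁ V := fun z hz => by
    show pullback.snd f f z ∈ V
    rw [← hWV]
    show f (pullback.snd f f z) ∈ U
    rw [← Scheme.Hom.comp_apply, ← pullback.condition, Scheme.Hom.comp_apply]
    exact hle hz
  have heq : pullback.fst f f = pullback.snd f f := by
    refine Groth.Agent.H05EGA4.DenseExt.ext_of_schDense hW f pullback.condition ?_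
    rw [← Scheme.Hom.resLE_comp_ι (pullback.fst f f) (le_refl W), ← Scheme.Hom.resLE_comp_ι (pullback.snd f f) hW']
    congr 1
    rw [← cancel_mono (V.ι ≫ f), Scheme.Hom.resLE_comp_ι_assoc, Scheme.Hom.resLE_comp_ι_assoc, pullback.condition]
  haveI : Mono f := ⟨fun a b hab => by
    rw [← pullback.lift_fst a b hab, heq, pullback.lift_snd]⟩
  exact Flat.isIso_of_surjective_of_mono f

end Groth.Agent.S15993
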