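import Groth.Statements.S15994
import Groth.Agent.H05EGA4.EtaleFac

set_option autoImplicit false
open CategoryTheory AlgebraicGeometry
universe u
open EtHull

namespace Groth.Agent.S15994

/-- Let S be a Noetherian scheme all of whose local rings are geometrically unibranch and whose
structure sheaf has no embedded associated points, and let f : X → S be flat, surjective and of
finite presentation. Then there is a factorization X → E₀ → S of f with E₀ → S étale and affine and
X → E₀ schematically dominant (the étale affine hull of X over S), and it is initial among all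
factorizations of f through étale affine S-schemes: for every factorization X → E → S of f with E →
S étale and affine there is a unique morphism E₀ → E compatible with the maps from X and to S. In
particular it is the largest factorization with X → E schematically dominant. (The source allows X
to be an algebraic space; X is a scheme here.) -/
theorem result {X S : Scheme.{u}} [IsNoetherian S]
    (hS : ∀ s : S, CAlg2.IsGeomUnibranch (S.presheaf.stalk s))
    (hemb : AssSch.NoEmbedded (Coh.structureModule S))
    (f : X ⟶ S) [Flat f] [Surjective f] [LocallyOfFinitePresentation f] [QuasiCompact f]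
    [QuasiSeparated f] :
    ∃ (E₀ : Scheme.{u}) (g₀ : E₀ ⟶ S) (u₀ : X ⟶ E₀), Etale g₀ ∧ IsAffineHom g₀ ∧
      IsSchemeTheoreticallyDominant u₀ ∧ u₀ ≫ g₀ = f ∧
      ∀ (E : Scheme.{u}) (g : E ⟶ S) (u : X ⟶ E), Etale g → IsAffineHom g → u ≫ g = f →
        ∃! v : E₀ ⟶ E, u₀ ≫ v = u ∧ v ≫ g = g₀ := by
  obtain ⟨L₀, -⟩ := Groth.Agent.H05EGA4.EtaleFac.exists_trivial (f := f)
  obtain ⟨M, -, hM⟩ := Groth.Agent.H05EGA4.EtaleFac.exists_greatest hS hemb (fun _ => True) L₀ trivial
    (fun _ _ _ _ _ _ => trivial)
  haveI := M.dom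
  refine ⟨M.E, M.g, M.u, M.et, M.aff, M.dom, M.w, fun E g u hg hga hug => ?_⟩
  haveI := hg
  haveI := hga
  obtain ⟨L, ι, hι₁, hι₂, -⟩ := Groth.Agent.H05EGA4.EtaleFac.exists_image hS hemb g u hug
  obtain ⟨v, hv₁, hv₂⟩ := hM L trivial
  refine ⟨v ≫ ι, ⟨?_, ?_⟩, fun v' hv' => ?_⟩
  · rw [reassoc_of% hv₁, hι₁]
  · rw [Category.assoc, hι₂, hv₂]
  · refine Groth.Agent.H05EGA4.EtaleFac.ext_of_dominant M.u g ?_ ?_
    · rw [hv'.2, Category.assoc, hι₂, hv₂]
    · rw [hv'.1, reassoc_of% hv₁, hι₁]

end Groth.Agent.S15994
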