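import Groth.Statements.S15996
import Groth.Agent.H05EGA4.AffineHull

set_option autoImplicit false
open CategoryTheory AlgebraicGeometry
universe u
open EtHull

namespace Groth.Agent.S15996

/-- Let R be a Noetherian ring whose localizations at all prime ideals are regular local rings, S = Spec
R, and q : U → S an étale, separated and quasi-compact morphism of schemes. The following are
equivalent: (1) there is an open immersion of U into a scheme E which is étale and affine over S,
compatible with q; (2) the affine hull Spec Γ(U, O_U) → S of U over S is étale. (The source states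
this for a locally Noetherian algebraic space S all of whose étale atlases are locally ℚ-factorial;
this row is the case of an affine regular Noetherian base, a regular scheme being locally
ℚ-factorial.) -/
theorem result {R : Type u} [CommRing R]
    [IsNoetherianRing R] (hreg : ∀ (P : Ideal R) [P.IsPrime], IsRegularLocalRing (Localization.AtPrime P))
    {U : Scheme.{u}} (q : U ⟶ Spec (CommRingCat.of R)) [Etale q] [IsSeparated q] [QuasiCompact q] :
    (∃ (E : Scheme.{u}) (j : U ⟶ E) (g : E ⟶ Spec (CommRingCat.of R)),
        IsOpenImmersion j ∧ Etale g ∧ IsAffineHom g ∧ j ≫ g = q) ↔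
      Etale (Spec.map q.appTop ≫ (Spec (CommRingCat.of R)).isoSpec.inv) := by
  constructor
  · rintro ⟨E, j, g, hj, hg, hga, hjg⟩
    haveI : IsAffine E := isAffine_of_isAffineHom g
    haveI : IsOpenImmersion (j ≫ E.isoSpec.hom) := inferInstance
    haveI : Etale (E.isoSpec.inv ≫ g) := inferInstance
    exact Groth.Agent.H05EGA4.AffineHull.etale_hull_of_openImmersion hreg q (j ≫ E.isoSpec.hom)
      (E.isoSpec.inv ≫ g) (by simp [hjg])
  · intro h
    haveI : LocallyQuasiFinite q := by
      rw [HasRingHomProperty.iff_appLE (P := @LocallyQuasiFinite)]
      intro V W e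
      have h := HasRingHomProperty.appLE @Etale q ‹_› V W e
      algebraize [(q.appLE V W e).hom]
      exact (inferInstance : Algebra.QuasiFinite Γ(Spec (CommRingCat.of R), V) Γ(U, W))
    haveI : U.IsQuasiAffine := Groth.Agent.H05EGA4.AffineHull.isQuasiAffine q
    refine ⟨Spec Γ(U, ⊤), U.toSpecΓ, Spec.map q.appTop ≫ (Spec (CommRingCat.of R)).isoSpec.inv,
      inferInstance, h, inferInstance, ?_⟩
    rw [← Category.assoc, ← Scheme.toSpecΓ_naturality, Category.assoc, Scheme.toSpecΓ_isoSpec_inv,
      Category.comp_id]

end Groth.Agent.S15996
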