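import Groth.Statements.S15997
import Groth.Agent.H05EGA4.SchImageClopen

set_option autoImplicit false
open CategoryTheory AlgebraicGeometry
universe u
open EtHull

namespace Groth.Agent.S15997

/-- Let S be a Noetherian scheme all of whose local rings are geometrically unibranch and whose
structure sheaf has no embedded associated points, and let f : X → S be flat, surjective and of
finite presentation. Call an admissible factorization a factorization X → E → S of f with E → S
étale and affine and X → E schematically dominant. Then any two admissible factorizations X → E₁ → S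
and X → E₂ → S have a supremum: an admissible factorization X → E → S with compatible S-morphisms E
→ E₁ and E → E₂, such that every admissible factorization X → E' → S with compatible S-morphisms E'
→ E₁ and E' → E₂ admits a compatible morphism E' → E. (The source allows X to be an algebraic space;
X is a scheme here.) -/
theorem result {X S : Scheme.{u}} [IsNoetherian S]
    (hS : ∀ s : S, CAlg2.IsGeomUnibranch (S.presheaf.stalk s))
    (hemb : AssSch.NoEmbedded (Coh.structureModule S))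
    (f : X ⟶ S) [Flat f] [Surjective f] [LocallyOfFinitePresentation f] [QuasiCompact f]
    [QuasiSeparated f]
    (E₁ E₂ : Scheme.{u}) (g₁ : E₁ ⟶ S) (g₂ : E₂ ⟶ S) (u₁ : X ⟶ E₁) (u₂ : X ⟶ E₂)
    [Etale g₁] [Etale g₂] [IsAffineHom g₁] [IsAffineHom g₂]
    [IsSchemeTheoreticallyDominant u₁] [IsSchemeTheoreticallyDominant u₂]
    (h₁ : u₁ ≫ g₁ = f) (h₂ : u₂ ≫ g₂ = f) :
    ∃ (E : Scheme.{u}) (g : E ⟶ S) (u : X ⟶ E) (v₁ : E ⟶ E₁) (v₂ : E ⟶ E₂),
      Etale g ∧ IsAffineHom g ∧ IsSchemeTheoreticallyDominant u ∧ u ≫ g = f ∧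
      u ≫ v₁ = u₁ ∧ u ≫ v₂ = u₂ ∧ v₁ ≫ g₁ = g ∧ v₂ ≫ g₂ = g ∧
      ∀ (E' : Scheme.{u}) (g' : E' ⟶ S) (u' : X ⟶ E') (w₁ : E' ⟶ E₁) (w₂ : E' ⟶ E₂),
        Etale g' → IsAffineHom g' → IsSchemeTheoreticallyDominant u' → u' ≫ g' = f →
        u' ≫ w₁ = u₁ → u' ≫ w₂ = u₂ → w₁ ≫ g₁ = g' → w₂ ≫ g₂ = g' →
        ∃ w : E' ⟶ E, u' ≫ w = u ∧ w ≫ v₁ = w₁ ∧ w ≫ v₂ = w₂ := by
  let P := Limits.pullback g₁ g₂
  let h : P ⟶ S := Limits.pullback.fst g₁ g₂ ≫ g₁
  haveI : Etale h := inferInstance
  haveI : IsAffineHom (Limits.pullback.fst g₁ g₂) := MorphismProperty.pullback_fst g₁ g₂ ‹IsAffineHom g₂›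
  haveI : IsAffineHom h := MorphismProperty.comp_mem @IsAffineHom _ _ ‹_› ‹IsAffineHom g₁›
  haveI : IsLocallyNoetherian P := LocallyOfFiniteType.isLocallyNoetherian h
  let w : X ⟶ P := Limits.pullback.lift u₁ u₂ (h₁.trans h₂.symm)
  have hw : w ≫ h = f := (Category.assoc _ _ _).symm.trans ((congrArg (· ≫ g₁) (Limits.pullback.lift_fst _ _ _)).trans h₁)
  haveI : QuasiCompact (w ≫ h) := by rw [hw]; infer_instance
  haveI : QuasiCompact w := QuasiCompact.of_comp w h
  haveI : Flat (w ≫ h) := by rw [hw]; infer_instance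
  haveI : Flat w := Groth.Agent.H05EGA4.SchImageClopen.flat_of_comp w h
  haveI : IsOpenImmersion w.imageι :=
    Groth.Agent.H05EGA4.SchImageClopen.isOpenImmersion_imageι h hS hemb w
  refine ⟨w.image, w.imageι ≫ h, w.toImage, w.imageι ≫ Limits.pullback.fst g₁ g₂,
    w.imageι ≫ Limits.pullback.snd g₁ g₂, inferInstance, inferInstance,
    Groth.Agent.H05EGA4.SchImageClopen.isSchemeTheoreticallyDominant_toImage w, ?_, ?_, ?_, ?_, ?_, ?_⟩
  · rw [Scheme.Hom.toImage_imageι_assoc, hw]
  · rw [Scheme.Hom.toImage_imageι_assoc, Limits.pullback.lift_fst]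
  · rw [Scheme.Hom.toImage_imageι_assoc, Limits.pullback.lift_snd]
  · simp [h]
  · simp [h, Limits.pullback.condition]
  intro E' g' u' w₁ w₂ _ _ hu' _ hw₁ hw₂ hg₁ hg₂
  let t : E' ⟶ P := Limits.pullback.lift w₁ w₂ (hg₁.trans hg₂.symm)
  have ht : u' ≫ t = w := by
    apply Limits.pullback.hom_ext
    · exact (Category.assoc _ _ _).trans ((congrArg (u' ≫ ·) (Limits.pullback.lift_fst _ _ _)).trans
        (hw₁.trans (Limits.pullback.lift_fst _ _ _).symm))
    · exact (Category.assoc _ _ _).trans ((congrArg (u' ≫ ·) (Limits.pullback.lift_snd _ _ _)).trans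
        (hw₂.trans (Limits.pullback.lift_snd _ _ _).symm))
  have hle : w.imageι.ker ≤ t.ker := by
    rw [Scheme.IdealSheafData.ker_subschemeι, ← ht, Scheme.Hom.ker_comp, u'.ker_eq_bot,
      Scheme.IdealSheafData.map_bot]
  refine ⟨IsClosedImmersion.lift w.imageι t hle, ?_, ?_, ?_⟩
  · rw [← cancel_mono w.imageι, Category.assoc, IsClosedImmersion.lift_fac, ht, Scheme.Hom.toImage_imageι]
  · rw [IsClosedImmersion.lift_fac_assoc, Limits.pullback.lift_fst]
  · rw [IsClosedImmersion.lift_fac_assoc, Limits.pullback.lift_snd]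

end Groth.Agent.S15997
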