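import Groth.Statements.S15998
import Groth.Agent.H05EGA4.FUFac

set_option autoImplicit false
open CategoryTheory AlgebraicGeometry
universe u
open EtHull
open Groth.Agent

namespace Groth.Agent.S15998

/-- Let S be a Noetherian scheme, a : X → S flat, surjective and of finite presentation, b : Y → S
formally unramified, and h : X → Y a morphism with h ≫ b = a. Then h factors as X → E → Y where E →
S is étale, X → E is flat, surjective and of finite presentation, and E → Y is a monomorphism which
is locally of finite type, quasi-compact and formally étale (stated affine-locally: for affine opens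
V of Y and U of E over V, the ring map Γ(Y, V) → Γ(E, U) is formally étale); and any two
factorizations X → E → Y, X → E' → Y with E, E' étale over S, X → E and X → E' faithfully flat of
finite presentation and E → Y, E' → Y monomorphisms of finite type are related by a unique morphism
E → E' compatible with the maps from X and to Y. (The source works with algebraic spaces; for
schemes X, Y, S the middle term is automatically a scheme.) -/
theorem result {X Y S : Scheme.{u}} [IsNoetherian S]
    (a : X ⟶ S) [Flat a] [Surjective a] [LocallyOfFinitePresentation a] [QuasiCompact a]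
    [QuasiSeparated a] (b : Y ⟶ S) [FormallyUnramified b] (h : X ⟶ Y) (w : h ≫ b = a) :
    (∃ (E : Scheme.{u}) (u : X ⟶ E) (m : E ⟶ Y), Etale (m ≫ b) ∧
      Flat u ∧ Surjective u ∧ LocallyOfFinitePresentation u ∧ QuasiCompact u ∧ QuasiSeparated u ∧
      Mono m ∧ LocallyOfFiniteType m ∧ QuasiCompact m ∧
      (∀ (V : Y.Opens), IsAffineOpen V → ∀ (U : E.Opens), IsAffineOpen U →
        ∀ (e : U ≤ m ⁻¹ᵁ V), (m.appLE V U e).hom.FormallyEtale) ∧
      u ≫ m = h) ∧
    ∀ (E E' : Scheme.{u}) (u : X ⟶ E) (m : E ⟶ Y) (u' : X ⟶ E') (m' : E' ⟶ Y),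
      Etale (m ≫ b) → Flat u → Surjective u → LocallyOfFinitePresentation u → QuasiCompact u →
      QuasiSeparated u → Mono m → LocallyOfFiniteType m → QuasiCompact m → u ≫ m = h →
      Etale (m' ≫ b) → Flat u' → Surjective u' → LocallyOfFinitePresentation u' → QuasiCompact u' →
      QuasiSeparated u' → Mono m' → LocallyOfFiniteType m' → QuasiCompact m' → u' ≫ m' = h →
      ∃! i : E ⟶ E', u ≫ i = u' ∧ i ≫ m' = m := by
  refine ⟨?_, fun E E' u m u' m' hE hu hs hp _ _ hm _ _ w1 hE' _ _ _ _ _ hm' _ _ w2 => ?_⟩
  · obtain ⟨E, u, m, h1, h2, h3, h4, h5, h6, h7, h8, h9, -, -, h10⟩ := H05EGA4.FUFac.exists_fac a b h w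
    exact ⟨E, u, m, h1, h2, h3, h4, h5, h6, h7, h8, h9,
      fun V hV U hU e => H05EGA4.FUFac.formallyEtale_appLE b m hV hU e, h10⟩
  · obtain ⟨i, hi1, hi2⟩ := H19Grp.FlatMonoFactor.exists_desc u m u' m' (w1.trans w2.symm)
    exact ⟨i, ⟨hi1, hi2⟩, fun j ⟨_, hj⟩ => (cancel_mono m').1 (hj.trans hi2.symm)⟩

end Groth.Agent.S15998
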