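import Groth.Statements.S15999
import Groth.Agent.H05EGA4.FUFac
import Groth.Agent.H05EGA4.EtaleFac

set_option autoImplicit false
open CategoryTheory AlgebraicGeometry
universe u
open EtHull
open Groth.Agent

namespace Groth.Agent.S15999

/-- Let S be a Noetherian scheme and a : X → S flat, surjective and of finite presentation. Let c : P →
S be étale, quasi-compact and quasi-separated and ϖ : X → P a morphism over S which is initial among
S-morphisms from X to étale finitely presented S-schemes: for every étale quasi-compact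
quasi-separated E → S, every S-morphism X → E factors uniquely through ϖ. Then ϖ is initial among
S-morphisms from X to all formally unramified S-schemes: for every formally unramified Y → S, every
S-morphism X → Y factors uniquely through ϖ. (The source allows algebraic spaces and phrases the
hypothesis as the existence of an initial object, for instance the space of connected components of
X over S; schemes here.) -/
theorem result {X P S : Scheme.{u}} [IsNoetherian S]
    (a : X ⟶ S) [Flat a] [Surjective a] [LocallyOfFinitePresentation a] [QuasiCompact a]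
    [QuasiSeparated a] (c : P ⟶ S) [Etale c] [QuasiCompact c] [QuasiSeparated c]
    (ϖ : X ⟶ P) (hϖ : ϖ ≫ c = a)
    (hinit : ∀ (E : Scheme.{u}) (e : E ⟶ S), Etale e → QuasiCompact e → QuasiSeparated e →
      ∀ k : X ⟶ E, k ≫ e = a → ∃! l : P ⟶ E, ϖ ≫ l = k ∧ l ≫ e = c)
    (Y : Scheme.{u}) (b : Y ⟶ S) [FormallyUnramified b] (k : X ⟶ Y) (hk : k ≫ b = a) :
    ∃! l : P ⟶ Y, ϖ ≫ l = k ∧ l ≫ b = c := by
  haveI : Flat (ϖ ≫ c) := hϖ ▸ ‹Flat a›
  haveI : Flat ϖ := H05EGA4.SchImageClopen.flat_of_comp ϖ c
  haveI : LocallyOfFinitePresentation (ϖ ≫ c) := hϖ ▸ ‹_›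
  haveI : LocallyOfFinitePresentation ϖ :=
    H7Lim.locallyOfFinitePresentation_of_comp ϖ c
  haveI : CompactSpace P := QuasiCompact.compactSpace_of_compactSpace c
  haveI : IsLocallyNoetherian P := LocallyOfFiniteType.isLocallyNoetherian c
  haveI : IsNoetherian P := {}
  haveI : Surjective ϖ := by
    let U : P.Opens := ⟨Set.range ϖ.base, ϖ.isOpenMap.isOpen_range⟩
    obtain ⟨l, ⟨hl1, hl2⟩, -⟩ := hinit U (U.ι ≫ c) inferInstance inferInstance inferInstance
      (IsOpenImmersion.lift U.ι ϖ (by simp [U])) (by rw [IsOpenImmersion.lift_fac_assoc, hϖ])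
    obtain ⟨_, -, hu⟩ := hinit P c inferInstance inferInstance inferInstance ϖ hϖ
    have e : l ≫ U.ι = 𝟙 P := (hu _ ⟨by rw [reassoc_of% hl1, IsOpenImmersion.lift_fac], by rw [Category.assoc, hl2]⟩).trans
      (hu _ ⟨Category.comp_id _, Category.id_comp _⟩).symm
    refine ⟨fun x => ?_⟩
    have hx : (l ≫ U.ι).base x = x := by rw [e]; rfl
    obtain ⟨y, hy⟩ := ((l.base x : U.toScheme) : U).2
    exact ⟨y, hy.trans hx⟩
  haveI : EffectiveEpi ϖ := inferInstance
  haveI : Epi ϖ := inferInstance
  obtain ⟨E, u, m, hE, -, -, -, -, -, -, -, -, hq, hqs, hum⟩ := H05EGA4.FUFac.exists_fac a b k hk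
  obtain ⟨l, ⟨hl1, hl2⟩, -⟩ := hinit E (m ≫ b) hE hq hqs u (by rw [reassoc_of% hum, hk])
  refine ⟨l ≫ m, ⟨by rw [reassoc_of% hl1, hum], by rw [Category.assoc, hl2]⟩, fun l' hl' => ?_⟩
  rw [← cancel_epi ϖ, hl'.1, reassoc_of% hl1, hum]

end Groth.Agent.S15999
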