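import Groth.Statements.S16002
import Groth.Agent.H29Pairs.Basic

set_option autoImplicit false
open CategoryTheory AlgebraicGeometry CategoryTheory.Limits
open VBCurve

namespace Groth.Agent.S16002

/-- Let X be a smooth proper integral curve over the complex numbers and (L_i)_{i ∈ ι} a family of
invertible O_X-modules. A tuple is a finite locally free O_X-module E of rank r ≥ 1 with maps φ_i :
E → E ⊗ L_i; a submodule j : G → E (a monomorphism) is invariant when for every i some χ : G → G ⊗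
L_i followed by j ⊗ L_i equals j followed by φ_i; the tuple is semistable when deg G · r ≤ deg E · n
for every invariant finite locally free submodule G of rank n ≥ 1, degrees being χ − rank · χ(O_X).
If (E, φ) and (F, ψ) are semistable tuples of ranks r ≥ 1 and s ≥ 1 over the same family (L_i) and f
: E → F is a nonzero module map with f followed by ψ_i equal to φ_i followed by f ⊗ L_i for every i,
then the slope of E is at most that of F: deg E · s ≤ deg F · r. (The published lemma has finitely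
many pairwise commuting twisting maps and morphisms compatible up to one nonzero scalar; the
commutation is not used, the index set is arbitrary here, and the scalar case reduces to this one by
rescaling the ψ_i.) -/
theorem result
    (X : Scheme.{0}) [X.Over (Spec (CommRingCat.of ℂ))] [IsIntegral X]
    [IsProper (X ↘ Spec (CommRingCat.of ℂ))] [Smooth (X ↘ Spec (CommRingCat.of ℂ))]
    (hdim : topologicalKrullDim X = 1)
    (ι : Type) (L : ι → X.Modules) (hL : ∀ i, PicF.IsInvertible (L i))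
    (r s : ℕ) (hr : 0 < r) (hs : 0 < s)
    (E F : X.Modules) (hE : FlatMod.IsFinLocFreeOfRank r E) (hF : FlatMod.IsFinLocFreeOfRank s F)
    (φ : ∀ i, E ⟶ CohB1.tensorMod E (L i)) (ψ : ∀ i, F ⟶ CohB1.tensorMod F (L i))
    (hEss : (∀ (G : X.Modules) (n : ℕ) (j : G ⟶ E), Mono j → 0 < n → FlatMod.IsFinLocFreeOfRank n G →
      (∀ i, ∃ χ : G ⟶ CohB1.tensorMod G (L i), χ ≫ (CohB1.sheafifyMod X).map (MonoidalCategoryStruct.whiskerRight (C := CohB1.PMod X) j.val (CohB1.toPMod (L i))) = j ≫ φ i) →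
      Curv2.deg ℂ X G n * (r : ℤ) ≤ Curv2.deg ℂ X E r * (n : ℤ)))
    (hFss : (∀ (G : X.Modules) (n : ℕ) (j : G ⟶ F), Mono j → 0 < n → FlatMod.IsFinLocFreeOfRank n G →
      (∀ i, ∃ χ : G ⟶ CohB1.tensorMod G (L i), χ ≫ (CohB1.sheafifyMod X).map (MonoidalCategoryStruct.whiskerRight (C := CohB1.PMod X) j.val (CohB1.toPMod (L i))) = j ≫ ψ i) →
      Curv2.deg ℂ X G n * (s : ℤ) ≤ Curv2.deg ℂ X F s * (n : ℤ)))
    (f : E ⟶ F) (hf : ∀ i, f ≫ ψ i = φ i ≫ (CohB1.sheafifyMod X).map (MonoidalCategoryStruct.whiskerRight (C := CohB1.PMod X) f.val (CohB1.toPMod (L i)))) (hne : f ≠ 0) :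
    Curv2.deg ℂ X E r * (s : ℤ) ≤ Curv2.deg ℂ X F s * (r : ℤ) := by
  haveI := H29RR.isNoetherian_of_proper (k := ℂ) (X := X)
  haveI : ∀ i, (H29RR.twist (L i)).IsEquivalence := fun i => H29Pairs.isEquivalence_twist (hL i)
  haveI : ∀ i, (H29RR.twist (L i)).Additive := fun i =>
    inferInstanceAs ((DCoh.tensorBi (X := X)).flip.obj (L i)).Additive
  obtain ⟨a, n, hK, hI, han, -, hn0, -, hd⟩ := H29RR.exists_image_data (k := ℂ) hdim.le hE hF f
  have hn := hn0 hne
  have hI' := hFss (Abelian.image f) n (Abelian.image.ι f) inferInstance hn hI fun i => by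
    obtain ⟨χ, hχ⟩ := H29Pairs.exists_image_lift (T := H29RR.twist (L i)) f
      ((hf i).trans (congrArg (φ i ≫ ·) (H29Pairs.sheafify_whisker_eq (L i) f)))
    exact ⟨χ, (congrArg (χ ≫ ·) (H29Pairs.sheafify_whisker_eq (L i) _)).trans hχ⟩
  have hK' : Curv2.deg ℂ X (kernel f) a * (r : ℤ) ≤ Curv2.deg ℂ X E r * (a : ℤ) := by
    rcases Nat.eq_zero_or_pos a with ha | ha
    · subst ha
      rw [H29RR.deg_eq_zero_of_rank_zero (k := ℂ) hK]
      simp
    · refine hEss (kernel f) a (kernel.ι f) inferInstance ha hK fun i => ?_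
      obtain ⟨χ, hχ⟩ := H29Pairs.exists_kernel_lift (T := H29RR.twist (L i)) f
        ((hf i).trans (congrArg (φ i ≫ ·) (H29Pairs.sheafify_whisker_eq (L i) f)))
      exact ⟨χ, (congrArg (χ ≫ ·) (H29Pairs.sheafify_whisker_eq (L i) _)).trans hχ⟩
  rw [hd, ← han] at hK' ⊢
  push_cast at hK' ⊢
  have hn' : (0 : ℤ) < n := by exact_mod_cast hn
  refine le_of_mul_le_mul_left ?_ hn'
  nlinarith [mul_le_mul_of_nonneg_left hK' (Int.natCast_nonneg s),
    mul_le_mul_of_nonneg_left hI' (show (0 : ℤ) ≤ (a : ℤ) + n by positivity)]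

end Groth.Agent.S16002
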