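import Groth.Statements.S16003
import Groth.Agent.H29Pairs.Basic

set_option autoImplicit false
open CategoryTheory AlgebraicGeometry CategoryTheory.Limits
open VBCurve

namespace Groth.Agent.S16003

/-- Let X be a smooth proper integral curve over the complex numbers and L an invertible O_X-module; an
L-valued pair is a finite locally free O_X-module E of rank r ≥ 1 with a map φ : E → E ⊗ L; a
submodule j : G → E (a monomorphism) is φ-invariant when some χ : G → G ⊗ L followed by j ⊗ L equals
j followed by φ; the pair is semistable when deg G · r ≤ deg E · n for every φ-invariant finite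
locally free submodule G of rank n ≥ 1, degrees being χ − rank · χ(O_X). If (E, φ) is a semistable
pair and φ is not zero, then L has non-negative degree. (The published statement is for tuples of
finitely many commuting twisting maps; this is the assertion for the one map φ.) -/
theorem result
    (X : Scheme.{0}) [X.Over (Spec (CommRingCat.of ℂ))] [IsIntegral X]
    [IsProper (X ↘ Spec (CommRingCat.of ℂ))] [Smooth (X ↘ Spec (CommRingCat.of ℂ))]
    (hdim : topologicalKrullDim X = 1)
    (L : X.Modules) (hL : PicF.IsInvertible L)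
    (r : ℕ) (hr : 0 < r) (E : X.Modules) (hE : FlatMod.IsFinLocFreeOfRank r E)
    (φ : E ⟶ CohB1.tensorMod E L)
    (hss : (∀ (G : X.Modules) (n : ℕ) (j : G ⟶ E) (χ : G ⟶ CohB1.tensorMod G L), Mono j → 0 < n →
      FlatMod.IsFinLocFreeOfRank n G →
      χ ≫ (CohB1.sheafifyMod X).map (MonoidalCategoryStruct.whiskerRight (C := CohB1.PMod X) j.val (CohB1.toPMod L)) = j ≫ φ →
      Curv2.deg ℂ X G n * (r : ℤ) ≤ Curv2.deg ℂ X E r * (n : ℤ)))
    (hφ : φ ≠ 0) :
    0 ≤ Curv2.deg ℂ X L 1 := by
  haveI := H29RR.isNoetherian_of_proper (k := ℂ) (X := X)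
  let T := H29RR.twist L
  haveI : T.IsEquivalence := H29Pairs.isEquivalence_twist hL
  haveI : T.Additive := inferInstanceAs ((DCoh.tensorBi (X := X)).flip.obj L).Additive
  obtain ⟨a, n, hK, hI, han, -, hn0, -, hd⟩ :=
    H29RR.exists_image_data (k := ℂ) hdim.le hE (H29RR.rank_tensor hE hL) φ
  have hn := hn0 hφ
  have hK' : Curv2.deg ℂ X (kernel φ) a * (r : ℤ) ≤ Curv2.deg ℂ X E r * (a : ℤ) := by
    rcases Nat.eq_zero_or_pos a with ha | ha
    · subst ha
      rw [H29RR.deg_eq_zero_of_rank_zero (k := ℂ) hK]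
      simp
    · obtain ⟨χ, hχ⟩ := H29Pairs.exists_kernel_lift (T := T) (F := T.obj E) (φ := φ) (ψ := T.map φ) φ rfl
      exact hss (kernel φ) a (kernel.ι φ) χ inferInstance ha hK
        ((congrArg (χ ≫ ·) (H29Pairs.sheafify_whisker_eq L _)).trans hχ)
  obtain ⟨χ, hχ⟩ := H29Pairs.exists_image_lift (T := T) (F := T.obj E) (φ := φ) (ψ := T.map φ) φ rfl
  obtain ⟨N, hN, ⟨eN⟩⟩ := H29RR.exists_inverse_comm hL
  let I' := CohB1.tensorMod (Abelian.image φ) N
  let e : T.obj I' ≅ Abelian.image φ :=
    (H29RR.twistInv (H10Coh.Tw.commIso N L ≪≫ eN)).app (Abelian.image φ)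
  let j : I' ⟶ E := T.preimage (e.hom ≫ Abelian.image.ι φ)
  have hj : T.map j = e.hom ≫ Abelian.image.ι φ := T.map_preimage _
  haveI : Mono j := by
    haveI : Mono (T.map j) := by rw [hj]; exact @mono_comp _ _ _ _ _ e.hom inferInstance _ (equalizer.ι_mono)
    exact T.mono_of_mono_map this
  obtain ⟨χ', hχ'⟩ := H29Pairs.exists_untwist_lift (T := T) e hχ hj
  have hI' := hss I' n j χ' inferInstance hn (H29RR.rank_tensor hI hN)
    ((congrArg (χ' ≫ ·) (H29Pairs.sheafify_whisker_eq L _)).trans hχ')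
  have hdI : Curv2.deg ℂ X (Abelian.image φ) n = Curv2.deg ℂ X I' n + (n : ℤ) * Curv2.deg ℂ X L 1 := by
    rw [← H29RR.deg_tensor_bundle (k := ℂ) hdim.le (H29RR.rank_tensor hI hN) hL]
    unfold Curv2.deg
    rw [H25Euler.euler_congr e.symm]
    rfl
  rw [hdI] at hd
  rw [hd, ← han] at hK' hI'
  push_cast at hK' hI'
  by_contra hneg
  push Not at hneg
  have hn' : (0 : ℤ) < n := by exact_mod_cast hn
  have hpos : (0 : ℤ) < (a : ℤ) + n := by positivity
  nlinarith [mul_neg_of_pos_of_neg (mul_pos hn' hpos) hneg]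

end Groth.Agent.S16003
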