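import Groth.Statements.S16004
import Groth.Agent.H29Pairs.Basic

set_option autoImplicit false
open CategoryTheory AlgebraicGeometry CategoryTheory.Limits
open VBCurve

namespace Groth.Agent.S16004

/-- Let X be a smooth proper integral curve over the complex numbers and L an invertible O_X-module of
degree 0; an L-valued pair is a finite locally free O_X-module E of rank r ≥ 1 with a map φ : E → E
⊗ L; a submodule j : G → E (a monomorphism) is φ-invariant when some χ : G → G ⊗ L followed by j ⊗ L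
equals j followed by φ; the pair is semistable when deg G · r ≤ deg E · n for every φ-invariant
finite locally free submodule G of rank n ≥ 1, degrees being χ − rank · χ(O_X). If (E, φ) is a
semistable pair then E is slope-semistable as a module of rank r: deg G · r ≤ deg E · n for every
finite locally free submodule G of rank n ≥ 1, invariant or not. (The published statement deletes
one degree-zero twisting map from a tuple of finitely many commuting ones; this is the case of a
single map.) -/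
theorem result
    (X : Scheme.{0}) [X.Over (Spec (CommRingCat.of ℂ))] [IsIntegral X]
    [IsProper (X ↘ Spec (CommRingCat.of ℂ))] [Smooth (X ↘ Spec (CommRingCat.of ℂ))]
    (hdim : topologicalKrullDim X = 1)
    (L : X.Modules) (hL : PicF.IsInvertible L) (hL0 : Curv2.deg ℂ X L 1 = 0)
    (r : ℕ) (hr : 0 < r) (E : X.Modules) (hE : FlatMod.IsFinLocFreeOfRank r E)
    (φ : E ⟶ CohB1.tensorMod E L)
    (hss : (∀ (G : X.Modules) (n : ℕ) (j : G ⟶ E) (χ : G ⟶ CohB1.tensorMod G L), Mono j → 0 < n →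
      FlatMod.IsFinLocFreeOfRank n G →
      χ ≫ (CohB1.sheafifyMod X).map (MonoidalCategoryStruct.whiskerRight (C := CohB1.PMod X) j.val (CohB1.toPMod L)) = j ≫ φ →
      Curv2.deg ℂ X G n * (r : ℤ) ≤ Curv2.deg ℂ X E r * (n : ℤ))) :
    ∀ (G : X.Modules) (n : ℕ) (j : G ⟶ E), Mono j → 0 < n → FlatMod.IsFinLocFreeOfRank n G →
      Curv2.deg ℂ X G n * (r : ℤ) ≤ Curv2.deg ℂ X E r * (n : ℤ) := by
  intro G n j hj hn hG
  haveI := H29RR.isNoetherian_of_proper (k := ℂ) (X := X)
  let T := H29RR.twist L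
  haveI : T.IsEquivalence := H29Pairs.isEquivalence_twist hL
  haveI : T.Additive := inferInstanceAs ((DCoh.tensorBi (X := X)).flip.obj L).Additive
  obtain ⟨E₁, r₁, i₁, hi₁, hr₁, hE₁, hmax, hrk⟩ := H29RR.exists_maxSlope (k := ℂ) hdim.le hr hE
  haveI := hi₁
  have hr₁' : (0 : ℤ) < r₁ := by exact_mod_cast hr₁
  suffices hmain : Curv2.deg ℂ X E₁ r₁ * (r : ℤ) ≤ Curv2.deg ℂ X E r * (r₁ : ℤ) by
    refine le_of_mul_le_mul_left ?_ hr₁'
    nlinarith [mul_le_mul_of_nonneg_right (hmax G n j hj hn hG) (Int.natCast_nonneg r),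
      mul_le_mul_of_nonneg_left hmain (Int.natCast_nonneg n)]
  have hS : (ShortComplex.mk i₁ (cokernel.π i₁) (cokernel.condition i₁)).ShortExact :=
    { exact := ShortComplex.exact_cokernel _ }
  obtain ⟨c, hC⟩ := H29RR.exists_rank_quotient_of_max (k := ℂ) hdim.le hS hE₁ hE fun G' l hl hG' =>
    le_of_mul_le_mul_right (hmax G' r₁ l hl hr₁ hG') hr₁'
  change FlatMod.IsFinLocFreeOfRank c (cokernel i₁) at hC
  let g : E₁ ⟶ T.obj (cokernel i₁) := i₁ ≫ φ ≫ T.map (cokernel.π i₁)
  have hg : g = 0 := by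
    by_contra hne
    obtain ⟨a, m, hK, hI, ham, -, hm0, -, hd⟩ :=
      H29RR.exists_image_data (k := ℂ) hdim.le hE₁ (H29RR.rank_tensor hC hL) g
    have hm := hm0 hne
    have hK' : Curv2.deg ℂ X (kernel g) a * (r₁ : ℤ) ≤ Curv2.deg ℂ X E₁ r₁ * (a : ℤ) := by
      rcases Nat.eq_zero_or_pos a with ha | ha
      · subst ha
        rw [show Curv2.deg ℂ X (kernel g) 0 = 0 from H29RR.deg_eq_zero_of_rank_zero (k := ℂ) hK]
        simp
      · exact hmax (kernel g) a (kernel.ι g ≫ i₁) (mono_comp _ _) ha hK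
    obtain ⟨N, hN, ⟨eN⟩⟩ := H29RR.exists_inverse_comm hL
    let I' := CohB1.tensorMod (Abelian.image g) N
    let e : T.obj I' ≅ Abelian.image g :=
      (H29RR.twistInv (H10Coh.Tw.commIso N L ≪≫ eN)).app (Abelian.image g)
    let j' : I' ⟶ cokernel i₁ := T.preimage (e.hom ≫ Abelian.image.ι g)
    haveI : Mono j' := by
      haveI : Mono (T.map j') := by
        rw [T.map_preimage]
        exact @mono_comp _ _ _ _ _ e.hom inferInstance _ (equalizer.ι_mono)
      exact T.mono_of_mono_map this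
    have hdI : Curv2.deg ℂ X (Abelian.image g) m = Curv2.deg ℂ X I' m := by
      have h := H29RR.deg_tensor_bundle (k := ℂ) hdim.le (H29RR.rank_tensor hI hN) hL
      rw [hL0, mul_zero, add_zero] at h
      refine Eq.trans ?_ h
      unfold Curv2.deg
      rw [H25Euler.euler_congr e.symm]
      rfl
    haveI : @Mono X.Modules _ I' (ShortComplex.mk i₁ (cokernel.π i₁) (cokernel.condition i₁)).X₃ j' := ‹Mono j'›
    obtain ⟨P, l, hl, hP, hPd⟩ :=
      @H29RR.exists_preimage ℂ _ X _ _ _ _ hdim.le _ hS r₁ r m hE₁ hE I' (H29RR.rank_tensor hI hN) j' ‹Mono j'›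
    have hPm := hmax P (r₁ + m) l hl (by omega) hP
    have hPeq : Curv2.deg ℂ X P (r₁ + m) * (r₁ : ℤ) = Curv2.deg ℂ X E₁ r₁ * ((r₁ + m : ℕ) : ℤ) := by
      refine le_antisymm hPm ?_
      have hPd' : Curv2.deg ℂ X P (r₁ + m) = Curv2.deg ℂ X E₁ r₁ + Curv2.deg ℂ X I' m := hPd
      rw [hPd', ← hdI]
      have hd' : Curv2.deg ℂ X E₁ r₁ = Curv2.deg ℂ X (kernel g) a + Curv2.deg ℂ X (Abelian.image g) m := hd
      rw [hd'] at hK' ⊢
      rw [show (r₁ : ℤ) = (a : ℤ) + m by exact_mod_cast ham.symm] at hK' ⊢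
      push_cast
      rw [show (r₁ : ℤ) = (a : ℤ) + m by exact_mod_cast ham.symm]
      nlinarith
    have := hrk P (r₁ + m) l hl (by omega) hP hPeq
    omega
  have hST := hS.map_of_exact T
  haveI := hST.mono_f
  have hz : (i₁ ≫ φ) ≫ T.map (cokernel.π i₁) = 0 := by rw [Category.assoc]; exact hg
  let χ : E₁ ⟶ T.obj E₁ := hST.exact.lift (i₁ ≫ φ) hz
  exact hss E₁ r₁ i₁ χ inferInstance hr₁ hE₁
    ((congrArg (χ ≫ ·) (H29Pairs.sheafify_whisker_eq L i₁)).trans (hST.exact.lift_f _ hz))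

end Groth.Agent.S16004
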