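import Groth.Statements.S16005
import Groth.Agent.H29Pairs.Basic
import Groth.Agent.H29Pairs.MaxSlope
import Groth.Agent.H29RR.RankTwo

set_option autoImplicit false
open CategoryTheory AlgebraicGeometry CategoryTheory.Limits
open VBCurve

namespace Groth.Agent.S16005

/-- Let X be a smooth proper integral curve over the complex numbers and L an invertible O_X-module; an
L-valued pair is a finite locally free O_X-module E of rank r ≥ 1 with a map φ : E → E ⊗ L; a
submodule j : G → E (a monomorphism) is φ-invariant when some χ : G → G ⊗ L followed by j ⊗ L equals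
j followed by φ; the pair is semistable when deg G · r ≤ deg E · n for every φ-invariant finite
locally free submodule G of rank n ≥ 1, degrees being χ − rank · χ(O_X). Let (E, φ) be a pair and ψ
: E → E an endomorphism commuting with φ (ψ followed by φ equals φ followed by ψ ⊗ L); a submodule
is ψ-invariant when ψ restricts to an endomorphism of it. Then (E, φ, ψ) is semistable, meaning deg
G · r ≤ deg E · n for every finite locally free submodule G of rank n ≥ 1 that is both φ-invariant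
and ψ-invariant, if and only if the pair (E, φ) is semistable. (The published statement takes L to
be the canonical sheaf; the row allows any invertible L.) -/
theorem result
    (X : Scheme.{0}) [X.Over (Spec (CommRingCat.of ℂ))] [IsIntegral X]
    [IsProper (X ↘ Spec (CommRingCat.of ℂ))] [Smooth (X ↘ Spec (CommRingCat.of ℂ))]
    (hdim : topologicalKrullDim X = 1)
    (L : X.Modules) (hL : PicF.IsInvertible L)
    (r : ℕ) (hr : 0 < r) (E : X.Modules) (hE : FlatMod.IsFinLocFreeOfRank r E)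
    (φ : E ⟶ CohB1.tensorMod E L) (ψ : E ⟶ E)
    (hcomm : ψ ≫ φ = φ ≫ (CohB1.sheafifyMod X).map (MonoidalCategoryStruct.whiskerRight (C := CohB1.PMod X) ψ.val (CohB1.toPMod L))) :
    (∀ (G : X.Modules) (n : ℕ) (j : G ⟶ E) (χ : G ⟶ CohB1.tensorMod G L) (ψ' : G ⟶ G), Mono j → 0 < n →
      FlatMod.IsFinLocFreeOfRank n G →
      χ ≫ (CohB1.sheafifyMod X).map (MonoidalCategoryStruct.whiskerRight (C := CohB1.PMod X) j.val (CohB1.toPMod L)) = j ≫ φ → ψ' ≫ j = j ≫ ψ →
      Curv2.deg ℂ X G n * (r : ℤ) ≤ Curv2.deg ℂ X E r * (n : ℤ)) ↔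
    (∀ (G : X.Modules) (n : ℕ) (j : G ⟶ E) (χ : G ⟶ CohB1.tensorMod G L), Mono j → 0 < n →
      FlatMod.IsFinLocFreeOfRank n G →
      χ ≫ (CohB1.sheafifyMod X).map (MonoidalCategoryStruct.whiskerRight (C := CohB1.PMod X) j.val (CohB1.toPMod L)) = j ≫ φ →
      Curv2.deg ℂ X G n * (r : ℤ) ≤ Curv2.deg ℂ X E r * (n : ℤ)) := by
  haveI := H29RR.isNoetherian_of_proper (k := ℂ) (X := X)
  let T := H29RR.twist L
  haveI : T.IsEquivalence := H29Pairs.isEquivalence_twist hL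
  haveI : T.Additive := inferInstanceAs ((DCoh.tensorBi (X := X)).flip.obj L).Additive
  obtain ⟨φ, rfl⟩ : ∃ φ' : E ⟶ T.obj E, φ' = φ := ⟨φ, rfl⟩
  constructor
  swap
  · intro h G n j χ ψ' hj hn hG hχ _
    exact h G n j χ hj hn hG hχ
  intro h G n j χ hj hn hG hχ
  let inv : ∀ G : X.Modules, (G ⟶ E) → Prop := fun G j => ∃ χ : G ⟶ T.obj G, χ ≫ T.map j = j ≫ φ
  obtain ⟨E₁, r₁, i₁, hi₁, hr₁, hE₁, ⟨χ₁, hχ₁⟩, hmax⟩ := H29Pairs.exists_maxSlope_of (k := ℂ) hdim.le hr hE inv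
    ⟨φ, by rw [T.map_id]; exact (Category.comp_id φ).trans (Category.id_comp φ).symm⟩
  haveI := hi₁
  have hG' := (hmax G n j hj hn hG ⟨χ, (congrArg (χ ≫ ·) (H29Pairs.sheafify_whisker_eq L j).symm).trans hχ⟩).1
  suffices hψ : ∃ ψ' : E₁ ⟶ E₁, ψ' ≫ i₁ = i₁ ≫ ψ by
    obtain ⟨ψ', hψ'⟩ := hψ
    have h₁ := h E₁ r₁ i₁ χ₁ ψ' hi₁ hr₁ hE₁
      ((congrArg (χ₁ ≫ ·) (H29Pairs.sheafify_whisker_eq L i₁)).trans hχ₁) hψ'
    have hr₁' : (0 : ℤ) < r₁ := by exact_mod_cast hr₁
    refine le_of_mul_le_mul_left ?_ hr₁'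
    nlinarith [mul_le_mul_of_nonneg_right hG' (Int.natCast_nonneg r), mul_le_mul_of_nonneg_left h₁ (Int.natCast_nonneg n)]
  have hcomm' : ψ ≫ (show E ⟶ T.obj E from φ) = φ ≫ T.map ψ :=
    hcomm.trans (congrArg (φ ≫ ·) (H29Pairs.sheafify_whisker_eq L ψ))
  -- the doubled subbundle
  let S : ShortComplex X.Modules :=
    ShortComplex.mk (biprod.inl : E₁ ⟶ E₁ ⊞ E₁) (biprod.snd : E₁ ⊞ E₁ ⟶ E₁) biprod.inl_snd
  have hS : S.ShortExact := ShortComplex.Splitting.shortExact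
    { r := biprod.fst, s := biprod.inr, f_r := biprod.inl_fst, s_g := biprod.inr_snd, id := biprod.total }
  have hGG : FlatMod.IsFinLocFreeOfRank (r₁ + r₁) (E₁ ⊞ E₁) :=
    H29RR.exists_rank_of_extension (k := ℂ) hdim.le hS hE₁ hE₁
  have hdGG : Curv2.deg ℂ X (E₁ ⊞ E₁) (r₁ + r₁) = Curv2.deg ℂ X E₁ r₁ + Curv2.deg ℂ X E₁ r₁ :=
    (H29RR.deg_add_of_shortExact (k := ℂ) hS hE₁ hGG hE₁).2
  let α : E₁ ⊞ E₁ ⟶ E := biprod.desc i₁ (i₁ ≫ ψ)
  let Φ : E₁ ⊞ E₁ ⟶ T.obj (E₁ ⊞ E₁) := biprod.desc (χ₁ ≫ T.map biprod.inl) (χ₁ ≫ T.map biprod.inr)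
  have hα : α ≫ (show E ⟶ T.obj E from φ) = Φ ≫ T.map α := by
    refine biprod.hom_ext' _ _ ?_ ?_
    · simp only [α, Φ, biprod.inl_desc_assoc, Category.assoc, ← T.map_comp, biprod.inl_desc]
      exact hχ₁.symm
    · simp only [α, Φ, biprod.inr_desc_assoc, Category.assoc, ← T.map_comp, biprod.inr_desc]
      rw [T.map_comp, ← Category.assoc χ₁, hχ₁, Category.assoc]
      exact congrArg (i₁ ≫ ·) hcomm'
  obtain ⟨a, p, hK, hI, hap, -, -, -, hd⟩ := H29RR.exists_image_data (k := ℂ) hdim.le hGG hE α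
  -- the kernel
  let κ : kernel α ⟶ E₁ := kernel.ι α ≫ biprod.snd
  haveI : Mono κ := by
    refine Preadditive.mono_of_cancel_zero _ fun {A} x hx => ?_
    rw [← cancel_mono (kernel.ι α), zero_comp]
    have hx2 : (x ≫ kernel.ι α) ≫ biprod.snd = 0 := by rw [Category.assoc]; exact hx
    refine biprod.hom_ext _ _ ?_ (hx2.trans zero_comp.symm)
    rw [zero_comp, ← cancel_mono i₁, zero_comp]
    have h0 : (x ≫ kernel.ι α) ≫ α = 0 := by rw [Category.assoc, kernel.condition, comp_zero]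
    have hdec : α = biprod.fst ≫ i₁ + biprod.snd ≫ i₁ ≫ ψ := biprod.hom_ext' _ _ (by simp [α]) (by simp [α])
    have h1 := (congrArg ((x ≫ kernel.ι α) ≫ ·) hdec).symm.trans h0
    rw [Preadditive.comp_add, ← Category.assoc _ biprod.snd, hx2, zero_comp, add_zero,
      ← Category.assoc] at h1
    exact h1
  obtain ⟨χK, hχK⟩ := H29Pairs.exists_kernel_lift (T := T) (φ := Φ) (ψ := (show E ⟶ T.obj E from φ)) α hα
  have hκinv : inv (kernel α) (κ ≫ i₁) := by
    refine ⟨χK, ?_⟩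
    have hΦ : Φ ≫ T.map biprod.snd = (biprod.snd : E₁ ⊞ E₁ ⟶ E₁) ≫ χ₁ := by
      refine biprod.hom_ext' _ _ ?_ ?_
      · simp only [Φ, biprod.inl_desc_assoc, Category.assoc, ← T.map_comp, biprod.inl_snd, T.map_zero, comp_zero,
          biprod.inl_snd_assoc, zero_comp]
      · simp only [Φ, biprod.inr_desc_assoc, Category.assoc, ← T.map_comp, biprod.inr_snd, T.map_id,
          Category.comp_id, biprod.inr_snd_assoc]
    simp only [κ, Category.assoc, T.map_comp]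
    rw [← Category.assoc χK, hχK, Category.assoc, ← Category.assoc Φ, hΦ, Category.assoc]
    exact congrArg (fun t => kernel.ι α ≫ biprod.snd ≫ t) hχ₁
  obtain ⟨χI, hχI⟩ := H29Pairs.exists_image_lift (T := T) (φ := Φ) (ψ := (show E ⟶ T.obj E from φ)) α hα
  let j' : E₁ ⟶ Abelian.image α := biprod.inl ≫ Abelian.factorThruImage α
  have hj' : j' ≫ Abelian.image.ι α = i₁ := by
    simp only [j', Category.assoc, Abelian.image.fac]
    exact biprod.inl_desc _ _
  haveI : Mono j' := mono_of_mono_fac hj'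
  have hnp : r₁ ≤ p := H25Par.rank_le_of_mono (genericPoint X) hE₁ hI j'
  have hdK : Curv2.deg ℂ X (kernel α) a * (r₁ : ℤ) ≤ Curv2.deg ℂ X E₁ r₁ * (a : ℤ) := by
    rcases Nat.eq_zero_or_pos a with ha | ha
    · subst ha
      rw [show Curv2.deg ℂ X (kernel α) 0 = 0 from H29RR.deg_eq_zero_of_rank_zero (k := ℂ) hK]
      simp
    · exact (hmax (kernel α) a (κ ≫ i₁) (mono_comp _ _) ha hK hκinv).1
  haveI : Mono (Abelian.image.ι α) := equalizer.ι_mono
  obtain ⟨hdI, hrk⟩ := hmax (Abelian.image α) p (Abelian.image.ι α) inferInstance (by omega) hI ⟨χI, hχI⟩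
  have hd' : Curv2.deg ℂ X E₁ r₁ + Curv2.deg ℂ X E₁ r₁ =
      Curv2.deg ℂ X (kernel α) a + Curv2.deg ℂ X (Abelian.image α) p := hdGG.symm.trans hd
  have hcast : (a : ℤ) + p = r₁ + r₁ := by exact_mod_cast hap
  have heq : Curv2.deg ℂ X (Abelian.image α) p * (r₁ : ℤ) = Curv2.deg ℂ X E₁ r₁ * (p : ℤ) := by
    refine le_antisymm hdI ?_
    have e1 := congrArg (· * (r₁ : ℤ)) hd'
    have e2 := congrArg (Curv2.deg ℂ X E₁ r₁ * ·) hcast
    nlinarith
  obtain rfl : p = r₁ := le_antisymm (hrk heq) hnp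
  have hpos : (0 : ℤ) < p := by exact_mod_cast hr₁
  haveI : IsIso j' := H29RR.isIso_of_deg_eq (k := ℂ) hdim.le hE₁ hI j' (mul_right_cancel₀ hpos.ne' heq).symm
  refine ⟨biprod.inr ≫ Abelian.factorThruImage α ≫ CategoryTheory.inv j', ?_⟩
  rw [Category.assoc, Category.assoc, ← hj', IsIso.inv_hom_id_assoc, Abelian.image.fac, hj']
  exact biprod.inr_desc _ _

end Groth.Agent.S16005
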