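import Groth.Statements.S16008
import Groth.Agent.H29Pairs.Basic
import Groth.Agent.H29CurveDual.Canonical
import Groth.Agent.H29RR.Consts

set_option autoImplicit false
open CategoryTheory AlgebraicGeometry CategoryTheory.Limits
open VBCurve

namespace Groth.Agent.S16008

/-- Let X be a smooth proper integral curve over the complex numbers, of genus g = dim H¹(O_X), E a
finite locally free O_X-module of rank r ≥ 1 and C an integer such that every finite locally free
submodule G of E of rank n ≥ 1 satisfies deg G · r ≤ (deg E + r·C) · n, that is, μ(G) ≤ μ(E) + C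
(degrees being χ − rank · χ(O_X)). Then H¹(X, E ⊗ N) vanishes for every invertible module N with deg
E + r · deg N > r(r − 1)·C + r(2g − 2), that is, whenever μ(E) + deg N > (r − 1)C + 2g − 2. (Only
the degree of the twisting line bundle enters, so any invertible N replaces the twist O_X(m). The
published argument, written for the twists E(m) by a degree-one polarisation, prints the threshold
as m ≥ μ(E) + (r − 1)C + 2g − 1; for E = O(−1) on the projective line and m = −2 that threshold is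
met while H¹(O(−3)) ≠ 0. The degree count in the argument gives the threshold −μ(E) + (r − 1)C + 2g
− 2 < m stated here.) -/
theorem result
    (X : Scheme.{0}) [X.Over (Spec (CommRingCat.of ℂ))] [IsIntegral X]
    [IsProper (X ↘ Spec (CommRingCat.of ℂ))] [Smooth (X ↘ Spec (CommRingCat.of ℂ))]
    (hdim : topologicalKrullDim X = 1)
    (r : ℕ) (hr : 0 < r) (E : X.Modules) (hE : FlatMod.IsFinLocFreeOfRank r E) (C : ℤ)
    (hC : ∀ (G : X.Modules) (n : ℕ) (j : G ⟶ E), Mono j → 0 < n → FlatMod.IsFinLocFreeOfRank n G →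
      Curv2.deg ℂ X G n * (r : ℤ) ≤ (Curv2.deg ℂ X E r + (r : ℤ) * C) * (n : ℤ))
    (N : X.Modules) (hN : PicF.IsInvertible N)
    (hbig : (r : ℤ) * ((r : ℤ) - 1) * C + (r : ℤ) * (2 * (Curv2.genus ℂ X : ℤ) - 2) <
      Curv2.deg ℂ X E r + (r : ℤ) * Curv2.deg ℂ X N 1) :
    Subsingleton (Coh.HH X (CohB1.tensorMod E N) 1) := by
  haveI := H29RR.isNoetherian_of_proper (k := ℂ) (X := X)
  let ω := Omega.sheaf (X ↘ Spec (CommRingCat.of ℂ))
  have hΩ : PicF.IsInvertible ω := H29CurveDual.isInvertible_omega_curve (k := ℂ) hdim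
  have hEN := H29RR.rank_tensor hE hN
  have hENc := H29RR.isCoh_of_rank hEN
  haveI := H10Coh.finite_HH_proper ℂ X _ hENc 1
  by_contra hns
  haveI : Nontrivial (Coh.HH X (CohB1.tensorMod E N) 1) := not_subsingleton_iff_nontrivial.1 hns
  have hpos := Module.finrank_pos (R := ℂ) (M := Coh.HH X (CohB1.tensorMod E N) 1)
  rw [H29CurveDual.finrank_h1_eq (k := ℂ) hdim hENc] at hpos
  letI := H29CurveDual.homModule (k := ℂ) (CohB1.tensorMod E N) ω
  obtain ⟨f, hf⟩ : ∃ f : CohB1.tensorMod E N ⟶ ω, f ≠ 0 := by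
    by_contra! h
    haveI : Subsingleton (CohB1.tensorMod E N ⟶ ω) := subsingleton_of_forall_eq 0 h
    rw [Module.finrank_zero_of_subsingleton] at hpos
    exact lt_irrefl _ hpos
  obtain ⟨a, m, hK, hI, ham, hm1, hm0, -, hd⟩ :=
    H29RR.exists_image_data (k := ℂ) hdim.le hEN (H29RR.rank_one_of_isInvertible hΩ) f
  obtain rfl : m = 1 := by have := hm0 hf; omega
  haveI : Mono (Abelian.image.ι f) := equalizer.ι_mono
  have hdI : Curv2.deg ℂ X (Abelian.image f) 1 ≤ Curv2.deg ℂ X ω 1 := by
    have := H25Par.euler_le_of_mono (k := ℂ) hdim.le hI (H29RR.rank_one_of_isInvertible hΩ) (Abelian.image.ι f)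
    unfold Curv2.deg
    linarith
  have hdω : Curv2.deg ℂ X ω 1 = 2 * (Curv2.genus ℂ X : ℤ) - 2 :=
    H29CurveDual.deg_omega_of_h0 (k := ℂ) hdim (H29RR.finrank_h0_structure ℂ X)
  rw [H29RR.deg_tensor_bundle (k := ℂ) hdim.le hE hN] at hd
  have hdK : Curv2.deg ℂ X (kernel f) a * (r : ℤ) ≤
      (Curv2.deg ℂ X E r + (r : ℤ) * C + (r : ℤ) * Curv2.deg ℂ X N 1) * (a : ℤ) := by
    rcases Nat.eq_zero_or_pos a with ha | ha
    · subst ha
      rw [show Curv2.deg ℂ X (kernel f) 0 = 0 from H29RR.deg_eq_zero_of_rank_zero (k := ℂ) hK]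
      simp
    obtain ⟨M, hM, ⟨eM⟩⟩ := H29RR.exists_inverse_comm hN
    let T := H29RR.twist N
    haveI : T.IsEquivalence := H29Pairs.isEquivalence_twist hN
    let K' := CohB1.tensorMod (kernel f) M
    let e : T.obj K' ≅ kernel f := (H29RR.twistInv (H10Coh.Tw.commIso M N ≪≫ eM)).app (kernel f)
    let j : K' ⟶ E := T.preimage (e.hom ≫ kernel.ι f)
    haveI : Mono j := by
      haveI : Mono (T.map j) := by
        rw [T.map_preimage]
        exact @mono_comp _ _ _ _ _ e.hom inferInstance _ (equalizer.ι_mono)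
      exact T.mono_of_mono_map this
    have hj := hC K' a j inferInstance ha (H29RR.rank_tensor hK hM)
    have hKd : Curv2.deg ℂ X (kernel f) a = Curv2.deg ℂ X K' a + (a : ℤ) * Curv2.deg ℂ X N 1 := by
      refine Eq.trans ?_ (H29RR.deg_tensor_bundle (k := ℂ) hdim.le (H29RR.rank_tensor hK hM) hN)
      unfold Curv2.deg
      rw [H25Euler.euler_congr e.symm]
      rfl
    rw [hKd]
    nlinarith
  have ha' : (a : ℤ) = (r : ℤ) - 1 := by omega
  rw [ha'] at hdK
  have hd' : Curv2.deg ℂ X (kernel f) a =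
      Curv2.deg ℂ X E r + (r : ℤ) * Curv2.deg ℂ X N 1 - Curv2.deg ℂ X (Abelian.image f) 1 := by linarith
  rw [hd'] at hdK
  have hr' : (0 : ℤ) ≤ r := Int.natCast_nonneg r
  nlinarith [mul_le_mul_of_nonneg_right (hdI.trans hdω.le) hr']

end Groth.Agent.S16008
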