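import Groth.Statements.S1601
import Groth.Agent.H28Alg.QuadricSquare

set_option autoImplicit false
universe u
open Resolve

namespace Groth.Agent.S1601

/-- Let κ be a field and I an ideal of κ[x, y] whose colength is greater than one (the quotient is not
of dimension at most one over κ). If a nonzero polynomial a + bx + cy + dx^2 + exy + fy^2 lies in
I^2, then it equals j (g + hx + iy)^2 for some scalars j, g, h, i. -/
theorem result (κ : Type u) [Field κ] (I : Ideal (MvPolynomial (Fin 2) κ))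
    (hI : ¬ (Module.Finite κ (MvPolynomial (Fin 2) κ ⧸ I) ∧ Module.finrank κ (MvPolynomial (Fin 2) κ ⧸ I) ≤ 1))
    (a b c d e f : κ) (hne : (a, b, c, d, e, f) ≠ (0, 0, 0, 0, 0, 0))
    (hmem : (MvPolynomial.C a + MvPolynomial.C b * MvPolynomial.X 0 + MvPolynomial.C c * MvPolynomial.X 1 +
      MvPolynomial.C d * MvPolynomial.X 0 ^ 2 + MvPolynomial.C e * MvPolynomial.X 0 * MvPolynomial.X 1 +
      MvPolynomial.C f * MvPolynomial.X 1 ^ 2 : MvPolynomial (Fin 2) κ) ∈ I ^ 2) :
    ∃ j g h i : κ, (MvPolynomial.C a + MvPolynomial.C b * MvPolynomial.X 0 + MvPolynomial.C c * MvPolynomial.X 1 +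
      MvPolynomial.C d * MvPolynomial.X 0 ^ 2 + MvPolynomial.C e * MvPolynomial.X 0 * MvPolynomial.X 1 +
      MvPolynomial.C f * MvPolynomial.X 1 ^ 2 : MvPolynomial (Fin 2) κ) =
      MvPolynomial.C j * (MvPolynomial.C g + MvPolynomial.C h * MvPolynomial.X 0 + MvPolynomial.C i * MvPolynomial.X 1) ^ 2 := by
  classical
  open Groth.Agent.H28Alg.QuadricSquare in
  change quad a b c d e f ∈ I ^ 2 at hmem
  change ∃ j g h i : κ, Groth.Agent.H28Alg.QuadricSquare.quad a b c d e f =
    MvPolynomial.C j * Groth.Agent.H28Alg.QuadricSquare.aff g h i ^ 2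
  by_cases hV : ∀ g h i : κ, Groth.Agent.H28Alg.QuadricSquare.aff g h i ∈ I → g = 0 ∧ h = 0 ∧ i = 0
  · refine ⟨0, 0, 0, 0, ?_⟩
    rw [Groth.Agent.H28Alg.QuadricSquare.quad_eq_zero_of_mem_sq hV a b c d e f hmem]
    simp
  push Not at hV
  obtain ⟨g, h, i, hlI, hne'⟩ := hV
  have hunit : ∀ g' : κ, Groth.Agent.H28Alg.QuadricSquare.aff g' 0 0 ∈ I → g' = 0 := by
    intro g' hg'
    by_contra hg0
    have hu : IsUnit (MvPolynomial.C g' : MvPolynomial (Fin 2) κ) := (isUnit_iff_ne_zero.2 hg0).map _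
    have htop : I = ⊤ := Ideal.eq_top_of_isUnit_mem _ (by simpa [Groth.Agent.H28Alg.QuadricSquare.aff] using hg') hu
    subst htop
    apply hI
    have : Subsingleton (MvPolynomial (Fin 2) κ ⧸ (⊤ : Ideal (MvPolynomial (Fin 2) κ))) :=
      Ideal.Quotient.subsingleton_iff.2 rfl
    exact ⟨Module.Finite.of_finite, by rw [Module.finrank_zero_of_subsingleton]; exact Nat.zero_le _⟩
  have hl : h ≠ 0 ∨ i ≠ 0 := by
    by_contra! hc
    exact hne' (hunit g (by simpa [hc.1, hc.2] using hlI)) hc.1 hc.2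
  have hdep : ∀ a' b' c', Groth.Agent.H28Alg.QuadricSquare.aff a' b' c' ∈ I →
      ∃ k, Groth.Agent.H28Alg.QuadricSquare.aff a' b' c' = MvPolynomial.C k * Groth.Agent.H28Alg.QuadricSquare.aff g h i := by
    intro a' b' c' h'
    have hdet : h * c' - b' * i = 0 := by
      by_contra hd
      exact hI (Groth.Agent.H28Alg.QuadricSquare.finite_finrank_le_one hlI h' hd)
    obtain ⟨k, hkb, hkc⟩ : ∃ k, b' = k * h ∧ c' = k * i := by
      by_cases hh : h = 0
      · have hi := hl.resolve_left (not_not_intro hh)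
        refine ⟨c' / i, ?_, (div_mul_cancel₀ _ hi).symm⟩
        subst hh
        have : b' * i = 0 := by linear_combination -hdet
        simpa [hi] using this
      · refine ⟨b' / h, (div_mul_cancel₀ _ hh).symm, ?_⟩
        field_simp
        linear_combination hdet
    refine ⟨k, ?_⟩
    have hm := I.sub_mem h' (I.mul_mem_left (MvPolynomial.C k) hlI)
    have hsub : Groth.Agent.H28Alg.QuadricSquare.aff a' b' c' - MvPolynomial.C k * Groth.Agent.H28Alg.QuadricSquare.aff g h i
        = Groth.Agent.H28Alg.QuadricSquare.aff (a' - k * g) 0 0 := by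
      simp only [Groth.Agent.H28Alg.QuadricSquare.aff, hkb, hkc, map_sub, map_mul, map_zero]; ring
    rw [hsub] at hm
    have h0 := hunit _ hm
    rw [← sub_eq_zero, hsub, h0]
    simp [Groth.Agent.H28Alg.QuadricSquare.aff]
  obtain ⟨j, hj⟩ := Groth.Agent.H28Alg.QuadricSquare.eq_mul_sq_of_mem hl hlI hdep a b c d e f hmem
  exact ⟨j, g, h, i, hj⟩

end Groth.Agent.S1601
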