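import Groth.Statements.S16010
import Groth.Agent.H02CA.Constell

set_option autoImplicit false
universe u v w x
open W4c3ghconstell

namespace Groth.Agent.S16010

open W4c3ghconstell Groth.Agent.H02CA.Constell Groth.Agent.H20Comod

/-- Let k be an algebraically closed field of characteristic zero, A a commutative Hopf algebra over k
which is a finitely generated domain and linearly reductive (the coordinate ring of a connected
reductive group G; irreducible representations of G are indexed by the simple subcoalgebras D of A),
R a Noetherian commutative k-algebra with a multiplicative A-coaction (an affine G-scheme X = Spec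
R), and M an R-module with a compatible A-coaction (a G-equivariant quasi-coherent module on X)
which is finite over R, is the sum of its isotypic components M_D, and has dim_k M_D = h(D) < ∞ for
every simple subcoalgebra D. Fix a weight θ from simple subcoalgebras to ℚ, negative at only
finitely many D, with Σ_D θ(D) h(D) = 0 (a convergent real series) and with θ(D) ≠ 0, h(D) ≠ 0 for
some D; the weight of a k-subspace N of M is the real series Σ_D θ(D) · dim_k (N ∩ M_D). If M is
θ-stable, i.e. M has weight 0 and every non-zero proper R-submodule of M stable under the coaction
has weight > 0, then M is generated as an R-module by its isotypic components M_D with θ(D) < 0.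
(The published statement is over the complex numbers and records the multiplicity of each
irreducible representation rather than the dimension of the isotypic component; rescaling θ
translates between the two, and the printed argument uses only the bookkeeping stated here.) -/
theorem result (k : Type u) [Field k] [IsAlgClosed k] [CharZero k]
    (A : Type v) [CommRing A] [IsDomain A] [HopfAlgebra k A] [Algebra.FiniteType k A]
    (hred : HopfRep.IsLinearlyReductive k A)
    (R : Type w) [CommRing R] [Algebra k R] [IsNoetherianRing R] [HopfRep.Comod k A R] [GLin.IsCoactAlg k A R]
    (M : Type x) [AddCommGroup M] [Module k M] [Module R M] [IsScalarTower k R M]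
    [HopfRep.Comod k A M] [TameAct.IsHopfMod k A R M]
    (h : W4c3ghconstell.SimpSub k A → ℕ) (θ : W4c3ghconstell.SimpSub k A → ℚ)
    (hfin : {D | θ D < 0}.Finite) (hsum : HasSum (fun D => (θ D : ℝ) * (h D : ℝ)) 0)
    (hne : ∃ D, θ D ≠ 0 ∧ h D ≠ 0)
    (hM : W4c3ghconstell.IsConstellation k A R M h)
    (hst : W4c3ghconstell.IsThetaStable k A R M θ) :
    W4c3ghconstell.genIn k A R M {D | θ D < 0} ⊤ = ⊤ := by
  let S := {D | θ D < 0}
  let N' : Submodule R M → Submodule R M := fun N => genIn k A R M S N
  have hneg : ∀ (N : Submodule R M) D, θ D < 0 →
      hilbAt M ((N' N).restrictScalars k) D = hilbAt M (N.restrictScalars k) D :=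
    fun N D hD => congrArg (fun W : Submodule k M => Module.finrank k W) (genIn_inf S N hD)
  have hle : ∀ N : Submodule R M, (N' N).restrictScalars k ≤ N.restrictScalars k :=
    fun N x hx => genIn_le S N hx
  have hnz : N' ⊤ ≠ ⊥ := by
    intro hb
    obtain ⟨D, hD, hhD⟩ := hne
    have hz : ∀ D, θ D < 0 → hilbAt M (⊥ : Submodule k M) D = hilbAt M (⊤ : Submodule k M) D := by
      intro D hd
      have := hneg ⊤ D hd
      rwa [hb, Submodule.restrictScalars_bot, Submodule.restrictScalars_top] at this
    have := eq_of_theta_le hM θ hsum.summable bot_le hz
      (by rw [theta_bot hM, theta_top hM θ hsum]) D hD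
    rw [hilb_bot, hilb_top hM] at this
    exact hhD this.symm
  by_contra ht
  have hp := hst.2 (N' ⊤) (isSubcomod_genIn S (by simpa using isSubcomod_top)) hnz ht
  have hl := theta_le hM θ hsum.summable (hle ⊤) (hneg ⊤)
  rw [Submodule.restrictScalars_top] at hl
  linarith [theta_top hM θ hsum]

end Groth.Agent.S16010
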