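import Groth.Statements.S16015
import Mathlib.RingTheory.TensorProduct.Finite
import Mathlib.LinearAlgebra.Dual.Lemmas
import Mathlib.LinearAlgebra.FreeModule.Finite.Basic

set_option autoImplicit false
universe u v w
open W4c3ghconstell

namespace Groth.Agent.S16015

/-- Let B be a commutative ring, E a B-module, F a finitely generated projective B-module and β : E → F
a B-linear map. Then there is a unique ideal I of B such that for every commutative B-algebra C the
base change β_C : C ⊗ E → C ⊗ F is zero if and only if the structure map B → C kills I. (The
published statement is for a homomorphism of modules on a scheme T into a locally free module and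
produces a closed subscheme T₀ through which a morphism factors exactly when the pulled-back
homomorphism vanishes; this row is the case of an affine T with affine test schemes and F of finite
rank, to which it reduces.) -/
theorem result {B : Type u} [CommRing B]
    {E : Type v} [AddCommGroup E] [Module B E]
    {F : Type w} [AddCommGroup F] [Module B F] [Module.Finite B F] [Module.Projective B F]
    (β : E →ₗ[B] F) :
    ∃! I : Ideal B, ∀ (C : Type u) [CommRing C] [Algebra B C],
      LinearMap.baseChange C β = 0 ↔ I ≤ RingHom.ker (algebraMap B C) := by
  classical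
  let I : Ideal B := Ideal.span {b | ∃ (φ : F →ₗ[B] B) (e : E), φ (β e) = b}
  have key : ∀ (C : Type u) [CommRing C] [Algebra B C],
      LinearMap.baseChange C β = 0 ↔ I ≤ RingHom.ker (algebraMap B C) := by
    intro C _ _
    constructor
    · intro h
      refine Ideal.span_le.mpr ?_
      rintro _ ⟨φ, e, rfl⟩
      have h1 := congrArg (fun z => TensorProduct.rid B C (φ.lTensor C z)) (LinearMap.congr_fun h ((1 : C) ⊗ₜ[B] e))
      simpa [Algebra.algebraMap_eq_smul_one] using h1
    · intro h
      obtain ⟨n, f, g, -, -, hfg⟩ := Module.Finite.exists_comp_eq_id_of_projective B F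
      refine TensorProduct.AlgebraTensorModule.curry_injective (LinearMap.ext fun c => LinearMap.ext fun e => ?_)
      simp only [TensorProduct.AlgebraTensorModule.curry_apply, LinearMap.restrictScalars_apply, TensorProduct.curry_apply,
        LinearMap.baseChange_tmul, LinearMap.zero_apply]
      rw [← LinearMap.id_apply (R := B) (β e), ← hfg, LinearMap.comp_apply, pi_eq_sum_univ (g (β e)), map_sum, TensorProduct.tmul_sum]
      refine Finset.sum_eq_zero fun j _ => ?_
      rw [map_smul, ← TensorProduct.smul_tmul, Algebra.smul_def]
      have : algebraMap B C (g (β e) j) = 0 := h (Ideal.subset_span ⟨(LinearMap.proj j).comp g, e, rfl⟩)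
      rw [this, zero_mul, TensorProduct.zero_tmul]
  refine ⟨I, key, fun I' h' => le_antisymm ?_ ?_⟩
  · have h1 := (h' (B ⧸ I)).mp ((key (B ⧸ I)).mpr (le_of_eq Ideal.mk_ker.symm))
    rwa [Ideal.Quotient.algebraMap_eq, Ideal.mk_ker] at h1
  · have h1 := (key (B ⧸ I')).mp ((h' (B ⧸ I')).mpr (le_of_eq Ideal.mk_ker.symm))
    rwa [Ideal.Quotient.algebraMap_eq, Ideal.mk_ker] at h1

end Groth.Agent.S16015
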