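import Groth.Statements.S16016
import Mathlib.LinearAlgebra.Matrix.ToLin
import Mathlib.Tactic

set_option autoImplicit false
universe u
open W4c3ghconstell

namespace Groth.Agent.S16016

/-- Let k be a field with 2 ≠ 0, index k⁶ by two copies of {0,1,2} (basis vectors p₁, p₂, p₃ in the
first copy and p₄, p₅, p₆ in the second), let Q be the symmetric matrix with blocks ((0, 1), (1,
0)), so that the form it defines pairs pᵢ with pᵢ₊₃, and let W₀ be the span of p₁ and p₂. Then a 6 ×
6 matrix A satisfies AᵀQ + QA = 0 (A lies in the orthogonal Lie algebra of Q) and has the image of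
Aᵀ contained in W₀ if and only if A = a · (E₄₂ − E₅₁) for some scalar a, where Eᵢⱼ is the matrix
unit. (The lemma in the source concludes that the set of such A inside a certain nilpotent orbit
closure of this Lie algebra is one-dimensional; this row is the computation its proof performs,
which determines all such A in the Lie algebra. Characteristic 2 is excluded: there E₁₄ᵀ also
qualifies.) -/
theorem result (k : Type u) [Field k] (h2 : (2 : k) ≠ 0)
    (A : Matrix (Fin 3 ⊕ Fin 3) (Fin 3 ⊕ Fin 3) k) :
    (A.transpose * Matrix.fromBlocks (0 : Matrix (Fin 3) (Fin 3) k) 1 1 0 +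
        Matrix.fromBlocks (0 : Matrix (Fin 3) (Fin 3) k) 1 1 0 * A = 0 ∧
      LinearMap.range (Matrix.mulVecLin A.transpose) ≤
        Submodule.span k {Pi.single (Sum.inl 0 : Fin 3 ⊕ Fin 3) (1 : k), Pi.single (Sum.inl 1 : Fin 3 ⊕ Fin 3) (1 : k)}) ↔
    ∃ a : k, A = a • (Matrix.single (Sum.inr 0) (Sum.inl 1) (1 : k) - Matrix.single (Sum.inr 1) (Sum.inl 0) (1 : k)) := by
  classical
  set J : Matrix (Fin 3 ⊕ Fin 3) (Fin 3 ⊕ Fin 3) k := Matrix.fromBlocks 0 1 1 0 with hJ
  have hJ' : ∀ i j, J i j = if i = Sum.swap j then 1 else 0 := by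
    rintro (i | i) (j | j) <;> simp [hJ, Matrix.one_apply]
  have e1 : ∀ i j, (A.transpose * J) i j = A (Sum.swap j) i := by
    intro i j; rcases j with j | j <;> simp [Matrix.mul_apply, hJ', Fintype.sum_sum_type]
  have e2 : ∀ i j, (J * A) i j = A (Sum.swap i) j := by
    intro i j; rcases i with i | i <;> simp [Matrix.mul_apply, hJ', Fintype.sum_sum_type]
  constructor
  · rintro ⟨hskew, hrange⟩
    have hs : ∀ i j, A (Sum.swap j) i + A (Sum.swap i) j = 0 := by
      intro i j
      rw [← e1, ← e2, ← Matrix.add_apply, hskew, Matrix.zero_apply]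
    have hcol : ∀ i j, j ≠ Sum.inl 0 → j ≠ Sum.inl 1 → A i j = 0 := by
      intro i j h0 h1
      have hm : Matrix.mulVecLin A.transpose (Pi.single i 1) ∈ LinearMap.range (Matrix.mulVecLin A.transpose) := ⟨_, rfl⟩
      obtain ⟨s, t, hst⟩ := Submodule.mem_span_pair.mp (hrange hm)
      have := congrFun hst j
      simpa [Pi.single_eq_of_ne h0, Pi.single_eq_of_ne h1] using this.symm
    have hrow : ∀ i j, i ≠ Sum.inr 0 → i ≠ Sum.inr 1 → A i j = 0 := by
      intro i j h0 h1
      have := hs j (Sum.swap i)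
      rw [Sum.swap_swap, hcol (Sum.swap j) _ (by rcases i with i | i <;> simp_all) (by rcases i with i | i <;> simp_all), add_zero] at this
      exact this
    refine ⟨A (Sum.inr 0) (Sum.inl 1), ?_⟩
    have h00 : A (Sum.inr 0) (Sum.inl 0) = 0 := by
      have := hs (Sum.inl 0) (Sum.inl 0)
      rw [← two_mul] at this
      exact (mul_eq_zero.mp this).resolve_left h2
    have h11 : A (Sum.inr 1) (Sum.inl 1) = 0 := by
      have := hs (Sum.inl 1) (Sum.inl 1)
      rw [← two_mul] at this
      exact (mul_eq_zero.mp this).resolve_left h2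
    have h10 : A (Sum.inr 1) (Sum.inl 0) = -A (Sum.inr 0) (Sum.inl 1) :=
      eq_neg_of_add_eq_zero_left (hs (Sum.inl 0) (Sum.inl 1))
    ext i j
    by_cases hi0 : i = Sum.inr 0
    · subst hi0
      by_cases hj0 : j = Sum.inl 0
      · subst hj0; simp [h00]
      by_cases hj1 : j = Sum.inl 1
      · subst hj1; simp
      simp [hcol _ _ hj0 hj1, Matrix.single_apply, Ne.symm hj0, Ne.symm hj1]
    by_cases hi1 : i = Sum.inr 1
    · subst hi1
      by_cases hj0 : j = Sum.inl 0
      · subst hj0; simp [h10]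
      by_cases hj1 : j = Sum.inl 1
      · subst hj1; simp [h11]
      simp [hcol _ _ hj0 hj1, Matrix.single_apply, Ne.symm hj0, Ne.symm hj1]
    simp [hrow _ _ hi0 hi1, Matrix.single_apply, Ne.symm hi0, Ne.symm hi1]
  · rintro ⟨a, rfl⟩
    refine ⟨?_, ?_⟩
    · ext i j
      rw [Matrix.add_apply, e1, e2]
      rcases i with i | i <;> rcases j with j | j <;> fin_cases i <;> fin_cases j <;>
        simp [Matrix.single_apply]
    · rintro _ ⟨v, rfl⟩
      refine Submodule.mem_span_pair.mpr ⟨-(a * v (Sum.inr 1)), a * v (Sum.inr 0), ?_⟩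
      ext x
      rcases x with x | x <;> fin_cases x <;>
        simp [Matrix.mulVec, dotProduct, Matrix.single_apply, Fintype.sum_sum_type, Fin.sum_univ_three]

end Groth.Agent.S16016
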