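import Groth.Statements.S16017
import Mathlib

set_option autoImplicit false
universe u
open W4c3ghconstell

namespace Groth.Agent.S16017

/-- Let ι index the irreducible representations, θ : ι → ℚ a weight negative at only finitely many
indices (the finite set D₋), h h' : ι → ℕ with h' ≤ h pointwise (the isotypic dimensions of an
object and of a sub-object) and Σ_i θ_i h_i summable. For a finite set D of indices put S_D = Σ_{i ∉
D} θ_i h_i, d = #(D ∖ D₋), and θ̃_D = Σ_{i ∈ D} θ_i h'_i + (S_D / d) · Σ_{i ∈ D ∖ D₋} h'_i / h_i,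
the modified weight attached to the parameters chosen for D (for D ⊇ D₋ the first sum is the
negative part plus the part over D ∖ D₋). Then θ̃_D tends to Σ_i θ_i h'_i as D grows through the
finite subsets of ι. (Here D runs over all finite sets of indices and a quotient by zero is zero;
the source lets D run over the finite subsets of the locus θ ≠ 0 containing D₋, and the same tail
estimate gives both.) -/
theorem result {ι : Type u} [DecidableEq ι] (θ : ι → ℚ) (h h' : ι → ℕ)
    (hle : ∀ i, h' i ≤ h i) (hfin : {i | θ i < 0}.Finite)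
    (hsum : Summable (fun i => (θ i : ℝ) * (h i : ℝ))) :
    Filter.Tendsto
      (fun D : Finset ι =>
        (∑ i ∈ D, (θ i : ℝ) * (h' i : ℝ)) +
          ((∑' i, if i ∈ D then (0 : ℝ) else (θ i : ℝ) * (h i : ℝ)) / ((D \ hfin.toFinset).card : ℝ)) *
            ∑ i ∈ D \ hfin.toFinset, ((h' i : ℝ) / (h i : ℝ)))
      Filter.atTop (nhds (∑' i, (θ i : ℝ) * (h' i : ℝ))) := by
  classical
  let a : ι → ℝ := fun i => (θ i : ℝ) * (h' i : ℝ)
  let b : ι → ℝ := fun i => (θ i : ℝ) * (h i : ℝ)
  have hab : Summable a := Summable.of_norm_bounded hsum.norm fun i => by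
    simp only [a, norm_mul, Real.norm_eq_abs, Nat.abs_cast]
    exact mul_le_mul_of_nonneg_left (Nat.cast_le.2 (hle i)) (abs_nonneg _)
  have hb : ∀ D : Finset ι, (∑' i, if i ∈ D then (0 : ℝ) else b i) = (∑' i, b i) - ∑ i ∈ D, b i := by
    intro D
    have h1 : (fun i => if i ∈ D then (0 : ℝ) else b i) = fun i => b i - (if i ∈ D then b i else 0) := by
      ext i; split <;> simp
    have h2 : HasSum (fun i => if i ∈ D then b i else 0) (∑ i ∈ D, b i) := by
      have h2' := hasSum_sum_of_ne_finset_zero (s := D) (f := fun i => if i ∈ D then b i else 0)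
        (L := SummationFilter.unconditional ι) (fun i hi => if_neg hi)
      rwa [Finset.sum_congr rfl fun i hi => if_pos hi] at h2'
    rw [h1, ((hsum.hasSum).sub h2).tsum_eq]
  have hS : Filter.Tendsto (fun D : Finset ι => ∑' i, if i ∈ D then (0 : ℝ) else b i)
      Filter.atTop (nhds 0) := by
    simp only [hb]
    rw [← sub_self (∑' i, b i)]
    exact tendsto_const_nhds.sub hsum.hasSum
  rw [← add_zero (∑' i, (θ i : ℝ) * (h' i : ℝ))]
  refine Filter.Tendsto.add hab.hasSum ?_
  have hS' : Filter.Tendsto (fun D : Finset ι => ‖∑' i, if i ∈ D then (0 : ℝ) else b i‖)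
      Filter.atTop (nhds 0) := by simpa using hS.norm
  refine squeeze_zero_norm (fun D => ?_) hS'
  have hr : ∀ i, (0 : ℝ) ≤ (h' i : ℝ) / (h i : ℝ) ∧ (h' i : ℝ) / (h i : ℝ) ≤ 1 := fun i =>
    ⟨by positivity, div_le_one_of_le₀ (Nat.cast_le.2 (hle i)) (Nat.cast_nonneg _)⟩
  rw [norm_mul, norm_div, Real.norm_of_nonneg (Finset.sum_nonneg fun i _ => (hr i).1),
    Real.norm_natCast]
  have h1 : ∑ i ∈ D \ hfin.toFinset, ((h' i : ℝ) / (h i : ℝ)) ≤ ((D \ hfin.toFinset).card : ℝ) :=
    (Finset.sum_le_sum fun i _ => (hr i).2).trans (by simp)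
  rcases Nat.eq_zero_or_pos (D \ hfin.toFinset).card with h0 | h0
  · simp [h0]
  · refine (mul_le_mul_of_nonneg_left h1 (by positivity)).trans ?_
    rw [div_mul_cancel₀ _ (Nat.cast_pos.2 h0).ne']

end Groth.Agent.S16017
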