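import Groth.Statements.S16020
import Groth.Agent.H15Site.EdgeMaps

open Groth.Agent.H15Site

set_option linter.style.haveILetI false
open CategoryTheory CategoryTheory.Limits Opposite

set_option autoImplicit false
universe u
open CategoryTheory CategoryTheory.Limits Opposite
open CechEdge

namespace Groth.Agent.S16020

/-- On a small site with fibre products, two edge families for the same family of objects over U
coincide; the degree-0 condition, naturality in the presheaf and compatibility with connecting
homomorphisms determine the comparison maps in every degree. -/
theorem result {C : Type u} [SmallCategory C] [HasPullbacks C]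
    (J : GrothendieckTopology C) {U : C} {ι : Type u} (Y : ι → Over U)
    (e e' : ∀ (P : Cᵒᵖ ⥤ AddCommGrpCat.{u}) (p : ℕ), CohCx.cechH P Y p →+ CohSite.HU (CechEdge.shf J P) p U)
    (he : CechEdge.IsEdge J Y e) (he' : CechEdge.IsEdge J Y e') : e = e' := by
  exact Edge.isEdge_unique he he'

end Groth.Agent.S16020
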