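import Groth.Statements.S16023
import Groth.Agent.H15Site.EdgeAcyclic

open Groth.Agent.H15Site

set_option linter.style.haveILetI false
open CategoryTheory CategoryTheory.Limits Opposite

set_option autoImplicit false
universe u
open CategoryTheory CategoryTheory.Limits Opposite
open CechEdge

namespace Groth.Agent.S16023

/-- On a small site with fibre products, for a family of objects over U carrying an edge family (in
particular it covers U) and an abelian sheaf F, the comparison map from the degree-1 Cech cohomology
of F with respect to the family to H^1(U, F) is injective. -/
theorem result {C : Type u} [SmallCategory C] [HasPullbacks C]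
    (J : GrothendieckTopology C) {U : C} {ι : Type u} (Y : ι → Over U)
    (e : ∀ (P : Cᵒᵖ ⥤ AddCommGrpCat.{u}) (p : ℕ), CohCx.cechH P Y p →+ CohSite.HU (CechEdge.shf J P) p U)
    (he : CechEdge.IsEdge J Y e) (F : Sheaf J AddCommGrpCat.{u}) :
    Function.Injective (CechEdge.edgeSh e F 1) := by
  exact Edge.edgeSh_injective F 1 (Edge.injective_one he F)

end Groth.Agent.S16023
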