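import Groth.Statements.S16029
import Groth.Agent.H19Grp.DominantToAffine

set_option autoImplicit false
universe u
open CategoryTheory CategoryTheory.Limits AlgebraicGeometry MonoidalCategory MonObj
open GrpSch

namespace Groth.Agent.S16029

/-- Over a field k, let G be a group scheme of finite type, G' an affine group scheme and u : G ⟶ G' a
homomorphism which is schematically dominant (its kernel ideal sheaf vanishes). Then u is faithfully
flat and G' is of finite type over k. -/
theorem result
    (k : Type u) [Field k] (G G' : Over (Spec (CommRingCat.of k))) [GrpObj G] [GrpObj G']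
    [LocallyOfFiniteType G.hom] [QuasiCompact G.hom] [IsAffine G'.left]
    (u : G ⟶ G') [IsMonHom u] (hdom : u.left.ker = ⊥) :
    Flat u.left ∧ Surjective u.left ∧ LocallyOfFiniteType G'.hom := by
  haveI : QuasiCompact u.left := by
    haveI : QuasiCompact (u.left ≫ G'.hom) := by rw [Over.w u]; infer_instance
    haveI : QuasiSeparated G'.hom := inferInstance
    exact QuasiCompact.of_comp u.left G'.hom
  refine Groth.Agent.H19Grp.DominantToAffine.main G G' u ?_
  have h := congrArg (fun I : G'.left.IdealSheafData => I.ideal ⟨⊤, isAffineOpen_top G'.left⟩) hdom
  simp only [Scheme.Hom.ker_apply, Scheme.IdealSheafData.ideal_bot, Pi.bot_apply] at h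
  exact (RingHom.injective_iff_ker_eq_bot _).mpr h

end Groth.Agent.S16029
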