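import Groth.Statements.S16030
import Mathlib.RingTheory.Derivation.Basic
import Mathlib.RingTheory.Flat.Equalizer
import Mathlib.RingTheory.Henselian
import Mathlib.RingTheory.Regular.RegularSequence
import Mathlib.RingTheory.RegularLocalRing.Defs
import Mathlib.RingTheory.SimpleRing.Principal

set_option autoImplicit false
universe u
open CAlg

namespace Groth.Agent.S16030

/-- For a finite set F of points of the spectrum of a commutative ring A and an open subset U containing
F, some basic open D(a) contains F and is contained in U. -/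
theorem result
    (A : Type u) [CommRing A] (F : Set (PrimeSpectrum A)) (hF : F.Finite)
    (U : TopologicalSpace.Opens (PrimeSpectrum A)) (hFU : F ⊆ (U : Set (PrimeSpectrum A))) :
    ∃ a : A, F ⊆ (PrimeSpectrum.basicOpen a : Set (PrimeSpectrum A)) ∧ PrimeSpectrum.basicOpen a ≤ U := by
  obtain ⟨I, hI⟩ := (PrimeSpectrum.isClosed_iff_zeroLocus_ideal _).mp U.isOpen.isClosed_compl
  have hnot : ¬ ((I : Set A) ⊆ ⋃ i ∈ F, (i.asIdeal : Set A)) := by
    intro h
    rcases F.eq_empty_or_nonempty with hFe | ⟨p0, hp0⟩
    · exact absurd (h I.zero_mem) (by simp [hFe])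
    · obtain ⟨q, hq, hle⟩ := (Ideal.subset_union_prime_finite hF p0 p0 (fun i _ _ _ => i.isPrime)).mp h
      have : q ∈ (U : Set (PrimeSpectrum A))ᶜ := by rw [hI]; exact hle
      exact this (hFU hq)
  obtain ⟨a, ha, ha'⟩ := Set.not_subset.mp hnot
  refine ⟨a, fun p hp hmem => ha' (Set.mem_biUnion hp hmem), fun p hp => ?_⟩
  by_contra hpU
  have : p ∈ PrimeSpectrum.zeroLocus (I : Set A) := hI ▸ hpU
  exact hp (this ha)

end Groth.Agent.S16030
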