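import Groth.Statements.S1604
import Groth.Agent.H29RR.BundleTwist
import Groth.Agent.H29RR.Points
import Groth.Agent.H29CurveDual.SingularVanish
import Groth.Agent.H29Curve.GenusPush
import Groth.Agent.H17.LocImmBlow.Core

set_option autoImplicit false
universe u
open CategoryTheory CategoryTheory.Limits AlgebraicGeometry
open Variety

namespace Groth.Agent.S1604

/-- Let X be proper of dimension at most one over k and D an effective Cartier divisor with ideal sheaf
I. Then D is finite over k, and for E finite locally free of rank n and any invertible module L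
inverse to I (so L plays the role of O_X(D)) one has deg(E ⊗ L) = n · dim_k H^0(X, O_D) + deg E. -/
theorem result (k : Type u) [Field k] (X : Scheme.{u}) [X.Over (Spec (CommRingCat.of k))] [IsProper (X ↘ (Spec (CommRingCat.of k)))] (hdim : topologicalKrullDim X ≤ 1)
    (D : X.IdealSheafData) (hD : BlowUp.IsEffCartierIdeal D)
    (L : X.Modules) (hL : PicF.IsInvertible L) (hLD : ClSub.IsInverseOf L (ClSub.idealMod D))
    (n : ℕ) (E : X.Modules) (hE : FlatMod.IsFinLocFreeOfRank n E) :
    IsFinite (D.subschemeι ≫ (X ↘ (Spec (CommRingCat.of k)))) ∧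
      Curv2.deg k X (CohB1.tensorMod E L) n = n * Module.finrank k (Coh.HH X (ClSub.quotMod D) 0) + Curv2.deg k X E n := by
  haveI := H29RR.isNoetherian_of_proper (k := k) (X := X)
  haveI : JacobsonSpace X := LocallyOfFiniteType.jacobsonSpace (X ↘ Spec (CommRingCat.of k))
  have hd : topologicalKrullDim ((D.support : Set X) : Set X) ≤ 0 := by
    have := H29Curve.GenusPush.dim_compl_le_zero hdim D.support.compl (H17.LocImmBlow.dense_compl hD)
    rwa [show ((D.support.compl : X.Opens) : Set X)ᶜ = (D.support : Set X) from compl_compl _] at this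
  obtain ⟨hfinS, hclS⟩ := H29CurveDual.finite_and_closed_of_dim_le_zero (S := (D.support : Set X)) D.support.isClosed hd
  have hr : Set.range D.subschemeι.base = (D.support : Set X) := D.range_subschemeι
  haveI : Finite ↥D.subscheme := by
    haveI : Finite ↥(Set.range D.subschemeι.base) := by rw [hr]; exact hfinS.to_subtype
    exact Finite.of_injective (fun z => (⟨D.subschemeι.base z, z, rfl⟩ : ↥(Set.range D.subschemeι.base)))
      fun a b hab => D.subschemeι.isClosedEmbedding.injective (by simpa using hab)
  haveI : IsProper (D.subschemeι ≫ (X ↘ Spec (CommRingCat.of k))) := inferInstance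
  haveI : LocallyQuasiFinite (D.subschemeι ≫ (X ↘ Spec (CommRingCat.of k))) :=
    LocallyQuasiFinite.of_finite_preimage_singleton _ fun _ => Set.toFinite _
  refine ⟨IsFinite.of_isProper_of_locallyQuasiFinite _, ?_⟩
  haveI := H10Coh.epi_toSubscheme D
  let Q := ClSub.quotMod D
  have hQc : Coh.IsCoh Q :=
    H24FSch.isCoh_pushforward_of_isClosedImmersion D.subschemeι (H10Coh.isCoh_structureModule' _)
  have hsupp : CohB1.support Q ⊆ (D.support : Set X) := fun y hy => by
    have := LeadProper.support_subset_range (F := Q)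
      (@H10Coh.isQuasicoherent_pushforward _ _ D.subschemeι inferInstance inferInstance _ H10Coh.isQuasicoherent_unit)
      D.subschemeι (Iso.refl _) hy
    rwa [hr] at this
  have hfin := hfinS.subset hsupp
  have hcl : ∀ z ∈ CohB1.support Q, IsClosed ({z} : Set X) := fun z hz => hclS z (hsupp hz)
  have hLf := H28Pinch.isFinLocFree_of_isInvertible hL
  have hEf : FlatMod.IsFinLocFree E := fun y => let ⟨U, hU⟩ := hE y; ⟨U, n, hU⟩
  have hELf := H16Derived.KFlat.Stalk.isFinLocFree_tensor hEf hLf
  let T := (DCoh.tensorBi (X := X)).flip.obj (CohB1.tensorMod E L)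
  have hS : (ShortComplex.mk (ClSub.idealModι D) (ClSub.toSubscheme D) (Limits.kernel.condition _)).ShortExact :=
    { exact := ShortComplex.exact_kernel _
      mono_f := inferInstanceAs (Mono (Limits.kernel.ι _)) }
  have hS' := H16Derived.KFlat.Stalk.isFlatObj_of_isFlat (H16Derived.KFlat.Stalk.isFlat_of_isFinLocFree hELf) _ hS
  obtain ⟨eLI⟩ := hLD
  let e₁ : T.obj (ClSub.idealMod D) ≅ E :=
    H10Coh.Tw.commIso _ _ ≪≫ H10Coh.Tw.assoc E L _ ≪≫ PicGrp.tensorModIso (Iso.refl E) eLI ≪≫
      H10Coh.Tw.rightUnitIso E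
  let e₂ : T.obj (Coh.structureModule X) ≅ CohB1.tensorMod E L := H10Coh.Tw.leftUnitIso _
  let e₃ : T.obj Q ≅ CohB1.tensorMod (CohB1.tensorMod Q E) L := (H10Coh.Tw.assoc Q E L).symm
  have hELc := H16Derived.KFlat.Stalk.isCoh_of_isFinLocFree hELf
  have hEc := H16Derived.KFlat.Stalk.isCoh_of_isFinLocFree hEf
  have h3c : Coh.IsCoh (T.obj Q) := H10Coh.TT.isCoh_tensorMod hQc hELc
  have h := H25Euler.euler_add (k := k) hS' (H10Coh.isCoh_of_iso e₁.symm hEc) (H10Coh.isCoh_of_iso e₂.symm hELc) h3c
  change Curv2.euler k X (T.obj _) = Curv2.euler k X (T.obj _) + Curv2.euler k X (T.obj _) at h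
  rw [H25Euler.euler_congr e₁, H25Euler.euler_congr e₂, H25Euler.euler_congr e₃] at h
  have hsub : CohB1.support (CohB1.tensorMod Q E) ⊆ CohB1.support Q := H25Euler.support_tensor_subset Q E
  have hsub' := (H25Euler.support_tensor_subset (CohB1.tensorMod Q E) L).trans hsub
  rw [H25Euler.euler_eq_sum (CohB1.tensorMod (CohB1.tensorMod Q E) L) 1 fun p hp =>
      H25Par.subsingleton_HH_of_finite_support _ (hfin.subset hsub') (fun z hz => hcl z (hsub' hz))
        (fun y hy => not_not.1 hy) hp, Finset.sum_range_one, pow_zero, one_mul,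
    H29RR.finrank_h0_tensor_of_finite_support (k := k) hL (hfin.subset hsub) (fun z hz => hcl z (hsub hz)),
    H29RR.finrank_h0_tensor_bundle (k := k) hE hfin hcl (H10Coh.finite_HH_proper k X Q hQc 0)] at h
  show Curv2.euler k X (CohB1.tensorMod E L) - n * Curv2.euler k X (Coh.structureModule X) =
    n * Module.finrank k (Coh.HH X Q 0) + (Curv2.euler k X E - n * Curv2.euler k X (Coh.structureModule X))
  push_cast at h
  linarith

end Groth.Agent.S1604
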