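import Groth.Statements.S16044
import Groth.Agent.H7Lim.GlobalFibre
-- import your own Groth.Agent.* helpers here

set_option autoImplicit false
universe u
open CategoryTheory CategoryTheory.Limits AlgebraicGeometry
open GrpSch

namespace Groth.Agent.S16044

/-- Let S be the spectrum of a discrete valuation ring and X a quasi-compact quasi-separated flat
S-scheme, with canonical morphism c : X ⟶ Spec Γ(X, O_X) over S. Then on each fibre over a point of
S the base change of c is schematically dominant (its kernel ideal sheaf vanishes). -/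
theorem result
    (A : Type u) [CommRing A] [IsDomain A] [IsDiscreteValuationRing A]
    (X : Scheme.{u}) (f : X ⟶ Spec (CommRingCat.of A)) [Flat f] [QuasiCompact f] [QuasiSeparated f]
    (g : Spec Γ(X, ⊤) ⟶ Spec (CommRingCat.of A)) (hg : X.toSpecΓ ≫ g = f) (s : ↥(Spec (CommRingCat.of A))) :
    (pullback.map f ((Spec (CommRingCat.of A)).fromSpecResidueField s) g ((Spec (CommRingCat.of A)).fromSpecResidueField s)
        X.toSpecΓ (𝟙 _) (𝟙 _) ((Category.comp_id f).trans hg.symm)
        ((Category.comp_id _).trans (Category.id_comp _).symm)).ker = ⊥ := by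
  set r := (Spec (CommRingCat.of A)).fromSpecResidueField s with hr
  haveI : CompactSpace X := QuasiCompact.compactSpace_of_compactSpace f
  haveI : QuasiSeparatedSpace X := quasiSeparatedSpace_of_quasiSeparated f
  haveI : QuasiCompact X.toSpecΓ := quasiCompact_of_compactSpace _
  have hbij : Function.Bijective X.toSpecΓ.appTop := by
    rw [Scheme.toSpecΓ_appTop]
    exact ConcreteCategory.bijective_of_isIso _
  by_cases hs : s = genericPoint ↥(Spec (CommRingCat.of A))
  · haveI : Flat r := by
      rw [hr]; subst hs
      exact Groth.Agent.H06FlatSub.flat_fromSpecResidueField_genericPoint _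
    haveI : IsSchemeTheoreticallyDominant X.toSpecΓ :=
      ⟨Scheme.IdealSheafData.ext_of_isAffine (by
        rw [Scheme.Hom.ker_apply, Scheme.IdealSheafData.ideal_bot, Pi.bot_apply,
          ← RingHom.injective_iff_ker_eq_bot]
        exact hbij.1)⟩
    set m := pullback.map f r g r X.toSpecΓ (𝟙 _) (𝟙 _) ((Category.comp_id f).trans hg.symm)
      ((Category.comp_id _).trans (Category.id_comp _).symm) with hm
    have hmp : m ≫ pullback.fst g r = pullback.fst f r ≫ X.toSpecΓ := pullback.lift_fst _ _ _
    have hms : m ≫ pullback.snd g r = pullback.snd f r := (pullback.lift_snd _ _ _).trans (Category.comp_id _)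
    have hsq : IsPullback (pullback.fst f r) m X.toSpecΓ (pullback.fst g r) :=
      IsPullback.of_bot (by rw [hms, hg]; exact IsPullback.of_hasPullback f r) hmp.symm
        (IsPullback.of_hasPullback g r)
    exact (IsSchemeTheoreticallyDominant.of_isPullback hsq).ker_eq_bot
  · obtain ⟨π, hπ⟩ := IsDiscreteValuationRing.exists_irreducible A
    have hs0 : s.asIdeal ≠ ⊥ := fun h => hs (by
      rw [genericPoint_eq_bot_of_affine]
      exact PrimeSpectrum.ext h)
    haveI hmax : s.asIdeal.IsMaximal := s.isPrime.isMaximal hs0
    haveI : IsClosedImmersion r :=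
      isClosed_singleton_iff_isClosedImmersion.mp ((PrimeSpectrum.isClosed_singleton_iff_isMaximal s).mpr hmax)
    let e : Γ(Spec (CommRingCat.of A), ⊤) ≃+* A :=
      (Scheme.ΓSpecIso (CommRingCat.of A)).commRingCatIsoToRingEquiv
    have hreg : IsSMulRegular Γ(Spec (CommRingCat.of A), ⊤) (e.symm π) := by
      intro x y hxy
      refine e.injective (mul_left_cancel₀ hπ.ne_zero ?_)
      have h := congrArg e hxy
      simp only [smul_eq_mul, map_mul, RingEquiv.apply_symm_apply] at h
      exact h
    have hker : r.ker.ideal ⟨⊤, isAffineOpen_top _⟩ = Ideal.span {e.symm π} := by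
      rw [Scheme.Hom.ker_apply]
      have hsurj : Function.Surjective (r.app ⊤).hom := r.app_surjective ⊤ (isAffineOpen_top _)
      haveI : Nontrivial Γ(Spec ((Spec (CommRingCat.of A)).residueField s), r ⁻¹ᵁ ⊤) :=
        (Scheme.ΓSpecIso ((Spec (CommRingCat.of A)).residueField s)).commRingCatIsoToRingEquiv.toEquiv.nontrivial
      have hF : IsField Γ(Spec ((Spec (CommRingCat.of A)).residueField s), r ⁻¹ᵁ ⊤) :=
        MulEquiv.isField (Field.toIsField ((Spec (CommRingCat.of A)).residueField s))
          (Scheme.ΓSpecIso ((Spec (CommRingCat.of A)).residueField s)).commRingCatIsoToRingEquiv.toMulEquiv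
      letI := hF.toField
      have hM : (RingHom.ker (r.app ⊤).hom).IsMaximal :=
        RingHom.ker_isMaximal_of_surjective (r.app ⊤).hom hsurj
      have hM' : ((RingHom.ker (r.app ⊤).hom).map (e : Γ(Spec (CommRingCat.of A), ⊤) →+* A)).IsMaximal :=
        Ideal.map_isMaximal_of_equiv e
      have h := (IsLocalRing.eq_maximalIdeal hM').trans hπ.maximalIdeal_eq
      have h2 := congrArg (Ideal.map (e.symm : A →+* Γ(Spec (CommRingCat.of A), ⊤))) h
      erw [Ideal.map_of_equiv] at h2
      rw [Ideal.map_span, Set.image_singleton] at h2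
      exact h2
    exact Groth.Agent.H7Lim.GlobalFibre.ker_map_eq_bot f (e.symm π) r hreg hker g X.toSpecΓ hg hbij

end Groth.Agent.S16044
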