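import Groth.Statements.S16045
import Groth.Agent.H8Props.PushoutProps.BaseChange
-- import your own Groth.Agent.* helpers here

set_option autoImplicit false
universe u
open CategoryTheory CategoryTheory.Limits AlgebraicGeometry
open FlatMor

namespace Groth.Agent.S16045

/-- Let θ₁ : Y ⟶ X₁ and θ₂ : Y ⟶ X₂ be closed immersions of schemes over S and X their pushout in
schemes over S. For a flat morphism g : S' ⟶ S, the square obtained by base change along g is a
pushout in schemes over S': pinching along a closed subscheme commutes with flat base change. -/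
theorem result
    {S S' : Scheme.{u}} (g : S' ⟶ S) [Flat g]
    {Y X₁ X₂ X : Over S} (θ₁ : Y ⟶ X₁) (θ₂ : Y ⟶ X₂) [IsClosedImmersion θ₁.left] [IsClosedImmersion θ₂.left]
    (φ₁ : X₁ ⟶ X) (φ₂ : X₂ ⟶ X) (hX : IsPushout θ₁ θ₂ φ₁ φ₂) :
    IsPushout ((Over.pullback g).map θ₁) ((Over.pullback g).map θ₂)
      ((Over.pullback g).map φ₁) ((Over.pullback g).map φ₂) := by
  refine IsPushout.of_map (Over.forget S') (by rw [← Functor.map_comp, ← Functor.map_comp, hX.w]) ?_
  have hS := hX.map (Over.forget S)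
  have haff : ∀ y : X₂.left, ∃ U : X₁.left.Opens, IsAffineOpen U ∧ θ₂.left ⁻¹' {y} ⊆ θ₁.left ⁻¹' (U : Set X₁.left) :=
    fun y => by
      by_cases hy : ∃ z, θ₂.left z = y
      · obtain ⟨z, rfl⟩ := hy
        obtain ⟨U, hU, hzU, -⟩ :=
          exists_isAffineOpen_mem_and_subset (Set.mem_univ (θ₁.left z)) (U := (⊤ : X₁.left.Opens))
        refine ⟨U, hU, fun z' hz' => ?_⟩
        show θ₁.left z' ∈ U
        rwa [θ₂.left.isClosedEmbedding.injective (show θ₂.left z' = θ₂.left z from hz')]
      · exact ⟨⊥, isAffineOpen_bot _, fun z hz => (hy ⟨z, hz⟩).elim⟩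
  exact H8Props.PushoutProps.isPushout_baseChange_flat (ι := θ₁.left) (ξ := θ₂.left) (a := φ₁.left)
    (b := φ₂.left) hS (H7Flat.exists_adapted_pair _ _ haff) X₁.hom X₂.hom Y.hom X.hom (Over.w θ₁) (Over.w θ₂)
    (Over.w φ₁) (Over.w φ₂) g

end Groth.Agent.S16045
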