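import Groth.Statements.S16046
import Mathlib
-- import your own Groth.Agent.* helpers here

set_option autoImplicit false
universe u
open TensorProduct
open ValRing

namespace Groth.Agent.S16046

/-- Surjectivity assertion: let A ⊆ A' be valuation rings with fraction fields K ⊆ K', A' dominating A
and A dense in A' for the valuation topology, and L a finite extension of K; put L' = K' ⊗_K L. Then
every element of L' modulo its nilradical which is integral over A' is a finite sum Σ a'ᵢ·lᵢ with
a'ᵢ ∈ A' and lᵢ ∈ L integral over A. (The published statement also identifies the kernel of the map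
from the tensor product with the nilradical; that part is not stated here.) -/
theorem result
    (A K L A' K' : Type u) [CommRing A] [IsDomain A] [ValuationRing A] [Field K] [Algebra A K] [IsFractionRing A K]
    [Field L] [Algebra K L] [FiniteDimensional K L] [Algebra A L] [IsScalarTower A K L]
    [CommRing A'] [IsDomain A'] [ValuationRing A'] [Field K'] [Algebra A' K'] [IsFractionRing A' K']
    [Algebra A A'] [IsLocalHom (algebraMap A A')] (hinj : Function.Injective (algebraMap A A'))
    [Algebra K K'] [Algebra A K'] [IsScalarTower A A' K'] [IsScalarTower A K K']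
    (hdense : ∀ a' b' : A', b' ≠ 0 → ∃ a : A, b' ∣ a' - algebraMap A A' a)
    (x : (K' ⊗[K] L) ⧸ nilradical (K' ⊗[K] L))
    (hx : ((Ideal.Quotient.mk (nilradical (K' ⊗[K] L))).comp
            ((Algebra.TensorProduct.includeLeft : K' →ₐ[K] K' ⊗[K] L).toRingHom.comp (algebraMap A' K'))).IsIntegralElem x) :
    ∃ (n : ℕ) (a : Fin n → A') (l : Fin n → L), (∀ i, IsIntegral A (l i)) ∧
      x = Ideal.Quotient.mk (nilradical (K' ⊗[K] L)) (∑ i, algebraMap A' K' (a i) ⊗ₜ[K] l i) := by
  classical
  -- `A' ∩ K = A`
  have hAK : ∀ (c : K) (a' : A'), algebraMap K K' c = algebraMap A' K' a' → ∃ a, algebraMap A K a = c := by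
    intro c a' h
    rcases ValuationRing.isInteger_or_isInteger A c with ⟨a, ha⟩ | ⟨a, ha⟩
    · exact ⟨a, ha⟩
    · rcases eq_or_ne c 0 with rfl | hc
      · exact ⟨0, map_zero _⟩
      have h1 : algebraMap A A' a * a' = 1 := IsFractionRing.injective A' K' (by
        rw [map_mul, ← IsScalarTower.algebraMap_apply, IsScalarTower.algebraMap_apply A K K', ha, ← h,
          ← map_mul, inv_mul_cancel₀ hc, map_one, map_one])
      have hu : IsUnit a := (isUnit_map_iff (algebraMap A A') a).1 (IsUnit.of_mul_eq_one _ h1)
      refine ⟨↑hu.unit⁻¹, ?_⟩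
      rw [← inv_inv c, ← ha]
      exact eq_inv_of_mul_eq_one_left (by rw [← map_mul, IsUnit.val_inv_mul, map_one])
  -- denominators come from `A`
  have happrox : ∀ c : K', ∃ (e : K) (y : A'), c = algebraMap K K' e + algebraMap A' K' y := by
    intro c
    obtain ⟨a', b', hb', rfl⟩ := IsFractionRing.div_surjective A' c
    have hb0 : b' ≠ 0 := nonZeroDivisors.ne_zero hb'
    obtain ⟨s, u, rfl⟩ : ∃ (s : A) (u : A'ˣ), b' = algebraMap A A' s * u := by
      by_cases hbu : IsUnit b'
      · exact ⟨1, hbu.unit, by simp⟩
      · obtain ⟨s, w, hw⟩ := hdense b' (b' ^ 2) (pow_ne_zero _ hb0)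
        have hunit : IsUnit (1 - b' * w) := by
          rcases IsLocalRing.isUnit_or_isUnit_one_sub_self (b' * w) with h | h
          · exact absurd (isUnit_of_mul_isUnit_left h) hbu
          · exact h
        refine ⟨s, hunit.unit⁻¹, ?_⟩
        rw [show algebraMap A A' s = b' * (1 - b' * w) from by linear_combination -hw,
          mul_assoc, IsUnit.mul_val_inv, mul_one]
    have hs : algebraMap A A' s ≠ 0 := left_ne_zero_of_mul hb0
    have hsK : algebraMap A K s ≠ 0 := fun e => hs (by
      rw [IsFractionRing.injective A K (e.trans (map_zero _).symm), map_zero])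
    obtain ⟨a, y, hy⟩ := hdense (a' * ↑u⁻¹) (algebraMap A A' s) hs
    refine ⟨algebraMap A K a / algebraMap A K s, y, ?_⟩
    rw [map_div₀, ← IsScalarTower.algebraMap_apply, ← IsScalarTower.algebraMap_apply,
      IsScalarTower.algebraMap_apply A A' K' a, IsScalarTower.algebraMap_apply A A' K' s,
      div_add' _ _ _ ((map_ne_zero_iff _ (IsFractionRing.injective A' K')).2 hs),
      div_eq_div_iff ((map_ne_zero_iff _ (IsFractionRing.injective A' K')).2 hb0)
        ((map_ne_zero_iff _ (IsFractionRing.injective A' K')).2 hs)]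
    rw [← map_mul, ← map_mul, ← map_add, ← map_mul]
    congr 1
    have e : a' * (↑u⁻¹ : A') * ↑u = a' := by rw [mul_assoc, Units.inv_mul, mul_one]
    linear_combination (algebraMap A A' s * ↑u) * hy - algebraMap A A' s * e
  -- integral scalings of a basis
  let bL := Module.finBasis K L
  have hscale : ∀ i, ∃ s : A, s ≠ 0 ∧ IsIntegral A (algebraMap A L s * bL i) := fun i => by
    obtain ⟨s, hs, hint⟩ := ((IsFractionRing.isAlgebraic_iff A K L).2
      (Algebra.IsAlgebraic.isAlgebraic (R := K) (bL i))).exists_integral_multiple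
    exact ⟨s, hs, by rwa [Algebra.smul_def] at hint⟩
  choose s hs0 hsint using hscale
  let e : Fin (Module.finrank K L) → L := fun i => algebraMap A L (s i) * bL i
  have hsK : ∀ i, algebraMap A K (s i) ≠ 0 := fun i h =>
    hs0 i (IsFractionRing.injective A K (h.trans (map_zero _).symm))
  obtain ⟨t, rfl⟩ := Ideal.Quotient.mk_surjective x
  obtain ⟨c, hc⟩ : ∃ c : Fin (Module.finrank K L) → K', t = ∑ i, c i ⊗ₜ[K] e i := by
    let B := Algebra.TensorProduct.basis K' bL
    refine ⟨fun i => B.repr t i * (algebraMap K K' (algebraMap A K (s i)))⁻¹, ?_⟩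
    conv_lhs => rw [← B.sum_repr t]
    refine Finset.sum_congr rfl fun i _ => ?_
    show B.repr t i • B i = _
    rw [Algebra.TensorProduct.basis_apply, TensorProduct.smul_tmul', smul_eq_mul, mul_one]
    show _ = _ ⊗ₜ[K] (algebraMap A L (s i) * bL i)
    rw [IsScalarTower.algebraMap_apply A K L, ← Algebra.smul_def, ← TensorProduct.smul_tmul,
      Algebra.smul_def, mul_left_comm,
      mul_inv_cancel₀ ((map_ne_zero _).2 (hsK i)), mul_one]
  choose ka ya hka using fun i => happrox (c i)
  let l : L := ∑ i, ka i • e i
  have ht : t = ∑ i, algebraMap A' K' (ya i) ⊗ₜ[K] e i + (1 : K') ⊗ₜ[K] l := by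
    rw [hc, TensorProduct.tmul_sum, ← Finset.sum_add_distrib]
    refine Finset.sum_congr rfl fun i _ => ?_
    rw [hka i, TensorProduct.add_tmul, ← TensorProduct.smul_tmul, Algebra.smul_def, mul_one, add_comm]
  let mk := Ideal.Quotient.mk (nilradical (K' ⊗[K] L))
  let ι : A' →+* K' ⊗[K] L :=
    (Algebra.TensorProduct.includeLeft : K' →ₐ[K] K' ⊗[K] L).toRingHom.comp (algebraMap A' K')
  letI : Algebra A' (K' ⊗[K] L) := ι.toAlgebra
  letI : Algebra A' ((K' ⊗[K] L) ⧸ nilradical (K' ⊗[K] L)) := (mk.comp ι).toAlgebra
  have hl : IsIntegral A l := by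
    -- `1 ⊗ l` is integral over `A'`
    have h1 : IsIntegral A' (mk ((1 : K') ⊗ₜ[K] l)) := by
      have hrest : IsIntegral A' (mk (∑ i, algebraMap A' K' (ya i) ⊗ₜ[K] e i)) := by
        rw [map_sum]
        refine IsIntegral.sum _ fun i _ => ?_
        have he : IsIntegral A' (mk ((1 : K') ⊗ₜ[K] e i)) := by
          obtain ⟨f, hf, hf0⟩ := hsint i
          refine ⟨f.map (algebraMap A A'), hf.map _, ?_⟩
          rw [Polynomial.eval₂_map]
          have h2 := congr_arg (mk.comp (Algebra.TensorProduct.includeRight : L →ₐ[K] K' ⊗[K] L).toRingHom) hf0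
          rw [Polynomial.hom_eval₂, map_zero] at h2
          have hh : (algebraMap A' ((K' ⊗[K] L) ⧸ nilradical (K' ⊗[K] L))).comp (algebraMap A A') =
              (mk.comp (Algebra.TensorProduct.includeRight : L →ₐ[K] K' ⊗[K] L).toRingHom).comp (algebraMap A L) :=
            RingHom.ext fun a => by
              show mk (algebraMap A' K' (algebraMap A A' a) ⊗ₜ[K] 1) = mk ((1 : K') ⊗ₜ[K] algebraMap A L a)
              rw [← IsScalarTower.algebraMap_apply, IsScalarTower.algebraMap_apply A K K',
                Algebra.algebraMap_eq_smul_one, TensorProduct.smul_tmul, ← Algebra.algebraMap_eq_smul_one,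
                ← IsScalarTower.algebraMap_apply]
          rw [hh]
          exact h2
        have : mk (algebraMap A' K' (ya i) ⊗ₜ[K] e i) = algebraMap A' _ (ya i) * mk ((1 : K') ⊗ₜ[K] e i) := by
          show _ = mk (algebraMap A' K' (ya i) ⊗ₜ[K] 1) * _
          rw [← map_mul, Algebra.TensorProduct.tmul_mul_tmul, mul_one, one_mul]
        rw [this]
        exact isIntegral_algebraMap.mul he
      have hx' : IsIntegral A' (mk t) := hx
      rw [ht, map_add] at hx'
      simpa using hx'.sub hrest
    obtain ⟨f, hf, hf0⟩ := h1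
    have hnil : IsNilpotent (f.eval₂ ι ((1 : K') ⊗ₜ[K] l)) := by
      have h2 : mk (f.eval₂ ι ((1 : K') ⊗ₜ[K] l)) = 0 := by
        rw [Polynomial.hom_eval₂]; exact hf0
      exact Ideal.Quotient.eq_zero_iff_mem.1 h2
    obtain ⟨N, hN⟩ := hnil
    have hint : IsIntegral K l := Algebra.IsIntegral.isIntegral l
    set g := minpoly K l with hg
    set f' := (f ^ N).map (algebraMap A' K') with hf'
    have hdiv : g.map (algebraMap K K') ∣ f' := by
      have hgm : (g.map (algebraMap K K')).Monic := (minpoly.monic hint).map _
      refine (Polynomial.modByMonic_eq_zero_iff_dvd hgm).1 ?_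
      set r := f' %ₘ g.map (algebraMap K K') with hr
      have hev : Polynomial.aeval ((1 : K') ⊗ₜ[K] l) r = 0 := by
        have e0 : Polynomial.aeval ((1 : K') ⊗ₜ[K] l) f' = 0 := by
          rw [hf', Polynomial.aeval_def, Polynomial.eval₂_map, ← hN, ← Polynomial.eval₂_pow]; rfl
        have e1 : Polynomial.aeval ((1 : K') ⊗ₜ[K] l) (g.map (algebraMap K K')) = 0 := by
          rw [Polynomial.aeval_map_algebraMap]
          exact (Polynomial.aeval_algHom_apply (Algebra.TensorProduct.includeRight : L →ₐ[K] K' ⊗[K] L) l g).trans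
            (by rw [minpoly.aeval, map_zero])
        rw [hr, Polynomial.modByMonic_eq_sub_mul_div, map_sub, map_mul, e0, e1, zero_mul, sub_zero]
      obtain ⟨P, hP⟩ := LinearMap.exists_leftInverse_of_injective
        (Fintype.linearCombination K (fun i : Fin g.natDegree => l ^ (i : ℕ)))
        (LinearMap.ker_eq_bot.2 (linearIndependent_iff_injective_fintypeLinearCombination.1 (linearIndependent_pow (K := K) l)))
      refine Polynomial.ext fun i => ?_
      rw [Polynomial.coeff_zero]
      by_cases hi : i < g.natDegree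
      · have hdeg : r.natDegree < g.natDegree := by
          have := Polynomial.natDegree_modByMonic_lt f' hgm (fun h => (minpoly.natDegree_pos hint).ne' (by
            have := congr_arg Polynomial.natDegree h
            rwa [Polynomial.natDegree_map, Polynomial.natDegree_one] at this))
          rwa [Polynomial.natDegree_map] at this
        rw [Polynomial.aeval_eq_sum_range' hdeg, ← Fin.sum_univ_eq_sum_range
          (fun j => r.coeff j • ((1 : K') ⊗ₜ[K] l) ^ j)] at hev
        have h3 := congr_arg (LinearMap.lTensor K' ((LinearMap.proj ⟨i, hi⟩).comp P)) hev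
        rw [map_sum, map_zero] at h3
        have hPj : ∀ j : Fin g.natDegree, P (l ^ (j : ℕ)) = Pi.single j 1 := fun j => by
          have := LinearMap.congr_fun hP (Pi.single j 1)
          simpa [Fintype.linearCombination_apply_single] using this
        have h4 := congr_arg (TensorProduct.rid K K') h3
        rw [map_sum, map_zero, Finset.sum_eq_single ⟨i, hi⟩] at h4
        · have hii : P (l ^ i) ⟨i, hi⟩ = 1 := by
            have := congr_fun (hPj ⟨i, hi⟩) ⟨i, hi⟩
            simpa using this
          simpa [Algebra.TensorProduct.tmul_pow, TensorProduct.smul_tmul', hii] using h4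
        · intro j _ hj
          simp [Algebra.TensorProduct.tmul_pow, TensorProduct.smul_tmul', hPj, hj]
        · exact fun h => absurd (Finset.mem_univ _) h
      · refine Polynomial.coeff_eq_zero_of_natDegree_lt (lt_of_lt_of_le ?_ (not_lt.1 hi))
        have := Polynomial.natDegree_modByMonic_lt f' hgm (fun h => (minpoly.natDegree_pos hint).ne' (by
          have := congr_arg Polynomial.natDegree h
          rwa [Polynomial.natDegree_map, Polynomial.natDegree_one] at this))
        rwa [Polynomial.natDegree_map] at this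
    obtain ⟨g', hg'⟩ := IsIntegrallyClosed.eq_map_mul_C_of_dvd K' (hf.pow N) hdiv
    rw [((minpoly.monic hint).map (algebraMap K K')).leadingCoeff, map_one, mul_one] at hg'
    have hco : ∀ i, ∃ a, algebraMap A K a = g.coeff i := fun i => hAK _ (g'.coeff i) (by
      have := congr_arg (fun q => Polynomial.coeff q i) hg'
      simpa using this.symm)
    obtain ⟨g0, hg0, -, hg0m⟩ := Polynomial.lifts_and_degree_eq_and_monic (f := algebraMap A K)
      ((Polynomial.lifts_iff_coeff_lifts g).2 hco) (minpoly.monic hint)
    refine ⟨g0, hg0m, ?_⟩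
    rw [IsScalarTower.algebraMap_eq A K L, ← Polynomial.eval₂_map, hg0]
    exact minpoly.aeval K l
  refine ⟨Module.finrank K L + 1, Fin.snoc ya 1, Fin.snoc e l, fun i => ?_, ?_⟩
  · refine Fin.lastCases ?_ (fun j => ?_) i
    · simpa using hl
    · simpa using hsint j
  · rw [Fin.sum_univ_castSucc, ht]
    simp

end Groth.Agent.S16046
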