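import Groth.Statements.S16048
import Groth.Agent.H24Art.Relative
import Groth.Agent.S12728

set_option autoImplicit false
universe u v
open CategoryTheory
open ArtFun

namespace Groth.Agent.S16048

/-- Let Λ be a complete local Noetherian ring with residue field k and F a functor on Artinian local
Λ-algebras with residue field k which admits a hull. A family ξ of F over a complete local
Noetherian Λ-algebra R with residue field k such that R is isomorphic over Λ to a power series ring
Λ[[t_1, …, t_n]] and the induced map on tangent spaces h_R(k[ε]) → F(k[ε]) is bijective is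
miniversal. (The source states this for the deformation functor of a rational double point over the
Witt vectors of an algebraically closed field, with the Kodaira–Spencer map as the tangent map and
the existence of a hull taken from Schlessinger's criteria; the argument uses only the existence of
a hull, so the hull is carried as a hypothesis and Λ is any complete local Noetherian ring with
residue field k.) -/
theorem result {Λ : Type u} {k : Type u}
    [CommRing Λ] [Field k] [Algebra Λ k] [IsNoetherianRing Λ] [Module.Finite Λ k]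
    [IsLocalRing Λ] [IsAdicComplete (IsLocalRing.maximalIdeal Λ) Λ]
    (hk : Function.Surjective (algebraMap Λ k))
    {F : ArtFun.Art Λ k ⥤ Type v} (hF : ArtFun.HasHull F)
    (R : ArtFun.CRing Λ k) (n : ℕ) (e : R.carrier ≃ₐ[Λ] MvPowerSeries (Fin n) Λ)
    (ξ : ArtFun.Family R.carrier R.res F)
    (hξ : Function.Bijective (ArtFun.TangentSpace.ofFamily ξ)) :
    ArtFun.IsMiniversal ξ := by
  obtain ⟨⟨R₀, ξ₀, hm⟩⟩ := hF
  haveI : Subsingleton (ArtFun.HomSet R₀.carrier R₀.res (ArtFun.Art.base Λ k)) := Groth.Agent.H24Art.subsingleton_homSet_base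
  let φ₀ : ArtFun.HomSet R₀.carrier R₀.res (ArtFun.Art.base Λ k) := ⟨R₀.res, AlgHom.id_comp _⟩
  have key : ∀ x : F.obj (ArtFun.Art.base Λ k), x = ξ₀.app _ φ₀ := by
    intro x
    obtain ⟨φ, hφ⟩ := hm.2.surjective (F.map ArtFun.Art.baseToDual x)
    have h := congrArg (F.map (ArtFun.Art.toBase (ArtFun.Art.dual Λ k))) hφ
    rw [← Groth.Agent.H24Art.map_comp_apply', ← ξ₀.natural] at h
    rw [show (ArtFun.Art.baseToDual ≫ ArtFun.Art.toBase (ArtFun.Art.dual Λ k) : ArtFun.Art.base Λ k ⟶ _) = 𝟙 _ from
      (ArtFun.Art.eq_toBase _).trans (ArtFun.Art.eq_toBase _).symm, Groth.Agent.H24Art.map_id_apply'] at h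
    rw [← h]
    exact congrArg _ (Subsingleton.elim _ _)
  have h0 : ArtFun.H0 F := ⟨⟨ξ₀.app _ φ₀⟩, ⟨fun a b => (key a).trans (key b).symm⟩⟩
  refine ⟨(Groth.Agent.S12728.result h0
    (Groth.Agent.H24Art.s1_of_isVersal ξ₀ hm.1 (Groth.Agent.H24Art.app_surjective_of_isVersal h0 ξ₀ hm.1))
    (Groth.Agent.H24Art.heps_of_isMiniversal ξ₀ hm (Groth.Agent.H24Art.app_surjective_of_isVersal h0 ξ₀ hm.1)) R ξ).mpr ⟨hξ.surjective, fun B A μ hμ φ y _ => ?_⟩, hξ⟩
  exact (Groth.Agent.H24Art.isSmoothFunctor_iff_ps hk R).mpr ⟨n, ⟨e⟩⟩ μ hμ.1 φ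

end Groth.Agent.S16048
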