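import Groth.Statements.S16050
import Groth.Agent.H11LCI.PSHyperExt

set_option autoImplicit false
universe u
open CategoryTheory
open LCI
open scoped TensorProduct
set_option linter.style.haveILetI false

namespace Groth.Agent.S16050

/-- Let k be an algebraically closed field of characteristic p > 0, P = k[[x, y, z]] the power series
ring in three variables, f a non-unit of P defining an isolated singularity — some power of the
maximal ideal of P is contained in (f) + J, where J is the ideal generated by the values D(f) of all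
k-derivations D of P (the Jacobian ideal (f_x, f_y, f_z)) — and R₀ = P/(f). Then Ext²_{R₀}(Ω_{R₀/k},
R₀) = 0 and Ext¹_{R₀}(Ω_{R₀/k}, R₀) is isomorphic as an R₀-module to R₀/J R₀, the Tjurina algebra
(existence of an R₀-linear isomorphism only; the source obtains it from the boundary map of the
dualized conormal sequence). The source states this for the normal form of a rational double point;
the hypotheses used are those given here. Here Ω is the module of Kähler differentials of the
k-algebra R₀. (The lemma also identifies first-order deformations of R₀ with this Ext¹ group; that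
identification is quoted there from another work and is not part of this row.) -/
theorem result (k : Type u) [Field k] [IsAlgClosed k]
    (p : ℕ) [Fact p.Prime] [CharP k p]
    (f : MvPowerSeries (Fin 3) k) (hf : f ∈ IsLocalRing.maximalIdeal (MvPowerSeries (Fin 3) k))
    (hiso : ∃ N : ℕ, IsLocalRing.maximalIdeal (MvPowerSeries (Fin 3) k) ^ N ≤
      Ideal.span {f} ⊔ Ideal.span {g | ∃ D : Derivation k (MvPowerSeries (Fin 3) k) (MvPowerSeries (Fin 3) k), g = D f}) :
    Subsingleton (Abelian.Ext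
        (ModuleCat.of (MvPowerSeries (Fin 3) k ⧸ Ideal.span {f})
          (KaehlerDifferential k (MvPowerSeries (Fin 3) k ⧸ Ideal.span {f})))
        (ModuleCat.of (MvPowerSeries (Fin 3) k ⧸ Ideal.span {f}) (MvPowerSeries (Fin 3) k ⧸ Ideal.span {f})) 2) ∧
      Nonempty (Abelian.Ext
        (ModuleCat.of (MvPowerSeries (Fin 3) k ⧸ Ideal.span {f})
          (KaehlerDifferential k (MvPowerSeries (Fin 3) k ⧸ Ideal.span {f})))
        (ModuleCat.of (MvPowerSeries (Fin 3) k ⧸ Ideal.span {f}) (MvPowerSeries (Fin 3) k ⧸ Ideal.span {f})) 1 ≃ₗ[MvPowerSeries (Fin 3) k ⧸ Ideal.span {f}]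
        ((MvPowerSeries (Fin 3) k ⧸ Ideal.span {f}) ⧸ Ideal.map (Ideal.Quotient.mk (Ideal.span {f}))
          (Ideal.span {g | ∃ D : Derivation k (MvPowerSeries (Fin 3) k) (MvPowerSeries (Fin 3) k), g = D f}))) := by
  classical
  haveI : PerfectRing k p := PerfectRing.ofSurjective k p fun a => by
    obtain ⟨z, hz⟩ := IsAlgClosed.exists_pow_nat_eq a (Fact.out : p.Prime).pos
    exact ⟨z, hz⟩
  let P := MvPowerSeries (Fin 3) k
  let I : Ideal P := Ideal.span {f}
  let R₀ := P ⧸ I
  let J : Ideal P := Ideal.span {g | ∃ D : Derivation k P P, g = D f}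
  obtain ⟨N, hN⟩ := hiso
  have hX : ∀ i : Fin 3, (MvPowerSeries.X i : P) ∈ IsLocalRing.maximalIdeal P := fun i => by
    rw [IsLocalRing.mem_maximalIdeal, mem_nonunits_iff, MvPowerSeries.isUnit_iff_constantCoeff,
      MvPowerSeries.constantCoeff_X]
    exact not_isUnit_zero
  have hf0 : f ≠ 0 := by
    rintro rfl
    have h1 : (MvPowerSeries.X 0 : P) ^ N ∈ IsLocalRing.maximalIdeal P ^ N := Ideal.pow_mem_pow (hX 0) N
    have hJ0 : J = ⊥ := Ideal.span_eq_bot.2 (by rintro _ ⟨D, rfl⟩; exact map_zero D)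
    have h2 := hN h1
    rw [show Ideal.span {g : P | ∃ D : Derivation k P P, g = D 0} = ⊥ from hJ0, sup_bot_eq,
      Ideal.span_singleton_eq_bot.2 rfl, Ideal.mem_bot, MvPowerSeries.X_pow_eq] at h2
    exact one_ne_zero ((MvPowerSeries.coeff_monomial_same (R := k) _ _).symm.trans
      ((congrArg (MvPowerSeries.coeff _) h2).trans (map_zero _)))
  haveI : Module.Projective P Ω[P⁄k] := H11LCI.PSHyperExt.projective_kaehler k p 3
  let s : R₀ →ₗ[R₀] R₀ ⊗[P] Ω[P⁄k] := LinearMap.toSpanSingleton R₀ _ (1 ⊗ₜ KaehlerDifferential.D k P f)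
  have hsurj : Function.Surjective (algebraMap P R₀) := Ideal.Quotient.mk_surjective
  let π : R₀ ⊗[P] Ω[P⁄k] →ₗ[R₀] Ω[R₀⁄k] := KaehlerDifferential.mapBaseChange k P R₀
  -- the Jacobian ideal is the image of the dual
  have hrange : LinearMap.range (LinearMap.applyₗ (1 ⊗ₜ KaehlerDifferential.D k P f) :
      ((R₀ ⊗[P] Ω[P⁄k]) →ₗ[R₀] R₀) →ₗ[R₀] R₀) = J.map (Ideal.Quotient.mk I) := by
    refine le_antisymm ?_ ?_
    · rintro _ ⟨φ, rfl⟩
      let φ₁ : Ω[P⁄k] →ₗ[P] R₀ := (φ.restrictScalars P).comp (TensorProduct.mk P R₀ Ω[P⁄k] 1)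
      obtain ⟨ψ, hψ⟩ : ∃ ψ : Ω[P⁄k] →ₗ[P] P, (Submodule.mkQ I).comp ψ = φ₁ :=
        Module.projective_lifting_property _ _ (Submodule.mkQ_surjective I)
      have h1 : φ (1 ⊗ₜ KaehlerDifferential.D k P f) =
          Ideal.Quotient.mk I ((ψ.compDer (KaehlerDifferential.D k P) : Derivation k P P) f) := (LinearMap.congr_fun hψ _).symm
      refine Eq.mpr (congrArg (· ∈ J.map (Ideal.Quotient.mk I)) h1) ?_
      exact Ideal.mem_map_of_mem _ (Ideal.subset_span ⟨_, rfl⟩)
    · rw [Ideal.map_span, Ideal.span_le]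
      rintro _ ⟨_, ⟨D, rfl⟩, rfl⟩
      let φ₁ : Ω[P⁄k] →ₗ[P] R₀ := LinearMap.comp (Submodule.mkQ I : P →ₗ[P] R₀) D.liftKaehlerDifferential
      refine ⟨LinearMap.liftBaseChange R₀ φ₁, ?_⟩
      change LinearMap.liftBaseChange R₀ φ₁ (1 ⊗ₜ KaehlerDifferential.D k P f) = _
      rw [LinearMap.liftBaseChange_tmul, one_smul]
      exact congrArg (Submodule.mkQ I) (Derivation.liftKaehlerDifferential_comp_D D f)
  have hfI : f ∈ I := Ideal.mem_span_singleton_self f
  have hs : Function.Injective s := by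
    rw [injective_iff_map_eq_zero]
    intro a ha
    obtain ⟨a, rfl⟩ := Ideal.Quotient.mk_surjective a
    have hJ : ∀ t ∈ J, a * t ∈ I := fun t ht => by
      obtain ⟨φ, hφ⟩ := hrange.ge (Ideal.mem_map_of_mem (Ideal.Quotient.mk I) ht)
      change φ (1 ⊗ₜ KaehlerDifferential.D k P f) = Ideal.Quotient.mk I t at hφ
      rw [← Ideal.Quotient.eq_zero_iff_mem, map_mul, ← hφ, ← smul_eq_mul, ← map_smul]
      exact (congrArg φ ha).trans (map_zero φ)
    have hpow : ∀ j, ∀ b : P, (∀ t ∈ IsLocalRing.maximalIdeal P ^ j, b * t ∈ I) → b ∈ I := by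
      intro j
      induction j with
      | zero =>
        intro b hb
        simpa using hb 1 (by rw [pow_zero, Ideal.one_eq_top]; trivial)
      | succ j ih =>
        intro b hb
        refine ih b fun t ht => ?_
        refine H11LCI.PSHyperExt.mem_span_of_maximal_smul (show (0 : Fin 3) ≠ 1 by decide) hf0 ?_ ?_
        all_goals
          rw [mul_left_comm]
          exact hb _ (by rw [pow_succ']; exact Ideal.mul_mem_mul (hX _) ht)
    refine Ideal.Quotient.eq_zero_iff_mem.2 (hpow N a fun t ht => ?_)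
    obtain ⟨t₁, ht₁, t₂, ht₂, rfl⟩ := Submodule.mem_sup.1 (hN ht)
    rw [mul_add]
    exact add_mem (I.mul_mem_left _ ht₁) (hJ t₂ ht₂)
  have hex : Function.Exact s π := by
    intro w
    constructor
    · intro hw
      obtain ⟨c, rfl⟩ := (KaehlerDifferential.exact_kerCotangentToTensor_mapBaseChange k P R₀ hsurj w).1 hw
      obtain ⟨⟨x, hx⟩, rfl⟩ := Ideal.toCotangent_surjective _ c
      rw [KaehlerDifferential.kerCotangentToTensor_toCotangent]
      have hxI : x ∈ I := by
        rw [RingHom.mem_ker] at hx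
        exact Ideal.Quotient.eq_zero_iff_mem.1 hx
      obtain ⟨a, rfl⟩ := Ideal.mem_span_singleton'.1 hxI
      refine ⟨algebraMap P R₀ a, ?_⟩
      have h0 : algebraMap P R₀ f = 0 := Ideal.Quotient.eq_zero_iff_mem.2 hfI
      have hz : f • ((1 : R₀) ⊗ₜ[P] KaehlerDifferential.D k P a) = 0 := by
        rw [TensorProduct.smul_tmul', ← Algebra.algebraMap_eq_smul_one, h0, TensorProduct.zero_tmul]
      rw [Derivation.leibniz, TensorProduct.tmul_add, TensorProduct.tmul_smul, TensorProduct.tmul_smul, hz, add_zero]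
      exact algebraMap_smul R₀ a _
    · rintro ⟨a, rfl⟩
      refine (KaehlerDifferential.exact_kerCotangentToTensor_mapBaseChange k P R₀ hsurj _).2 ?_
      obtain ⟨a, rfl⟩ := hsurj a
      refine ⟨a • Ideal.toCotangent _ ⟨f, Ideal.Quotient.eq_zero_iff_mem.2 hfI⟩, ?_⟩
      rw [LinearMap.map_smul_of_tower, KaehlerDifferential.kerCotangentToTensor_toCotangent,
        LinearMap.toSpanSingleton_apply, algebraMap_smul]
  obtain ⟨h2, ⟨e⟩⟩ := H11LCI.PSHyperExt.ext_of_presentation s π hs
    (KaehlerDifferential.mapBaseChange_surjective k P R₀ hsurj) hex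
  refine ⟨h2, ⟨e.trans (Submodule.quotEquivOfEq _ _ ?_)⟩⟩
  rw [show s 1 = 1 ⊗ₜ KaehlerDifferential.D k P f from one_smul R₀ _]
  exact hrange

end Groth.Agent.S16050
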