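import Groth.Statements.S16051
import Mathlib

set_option autoImplicit false
universe u
open LieAlg

namespace Groth.Agent.S16051

open LieAlgebra Finset

attribute [local instance 100] LieRing.ofAssociativeRing

section

variable {O : Type u} [CommRing O] {n : ℕ}

/-- Entries of a matrix with natural number indices. -/
def ent (y : Matrix (Fin (n + 1)) (Fin (n + 1)) O) (i j : ℕ) : O :=
  if h : i < n + 1 ∧ j < n + 1 then y ⟨i, h.1⟩ ⟨j, h.2⟩ else 0

theorem ent_coe (y : Matrix (Fin (n + 1)) (Fin (n + 1)) O) (i j : Fin (n + 1)) : ent y i j = y i j := by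
  rw [ent, dif_pos ⟨i.2, j.2⟩]

/-- The recursive solution inside the regular block. -/
def zf (Y : ℕ → ℕ → O) : ℕ → ℕ → O
  | 0, _ => 0
  | a + 1, 0 => Y a 0
  | a + 1, b + 1 => Y a (b + 1) + zf Y a b

theorem zf_sum (Y : ℕ → ℕ → O) (d : ℕ) : ∀ b, zf Y (b + d + 1) b = ∑ i ∈ range (b + 1), Y (i + d) i
  | 0 => by simp [zf]
  | b + 1 => by
    rw [sum_range_succ, ← zf_sum Y d b, show b + 1 + d + 1 = (b + d + 1) + 1 by omega, zf, add_comm]
    rw [show b + 1 + d = b + d + 1 by omega]

/-- The invariants detecting the image. -/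
def inv (n : ℕ) : Matrix (Fin (n + 1)) (Fin (n + 1)) O →ₗ[O] (Fin n → O) × O × O where
  toFun y := (fun d => ∑ i ∈ range (n - (d : ℕ)), ent y (i + d) i, ent y n 0, ent y (n - 1) n)
  map_add' y z := by
    have h : ∀ i j, ent (y + z) i j = ent y i j + ent z i j := fun i j => by
      unfold ent; split_ifs with h <;> simp
    ext <;> simp [h, sum_add_distrib]
  map_smul' c y := by
    have h : ∀ i j, ent (c • y) i j = c * ent y i j := fun i j => by
      unfold ent; split_ifs with h <;> simp
    ext <;> simp [h, mul_sum]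

variable (x : Matrix (Fin (n + 1)) (Fin (n + 1)) O)
  (hx : ∀ i j : Fin (n + 1), x i j = if j.val = i.val + 1 ∧ j.val < n then 1 else 0)
include hx

theorem mul_left_apply (z : Matrix (Fin (n + 1)) (Fin (n + 1)) O) (i j : Fin (n + 1)) :
    (x * z) i j = if (i : ℕ) + 1 < n then ent z (i + 1) j else 0 := by
  rw [Matrix.mul_apply]
  split_ifs with h
  · rw [Finset.sum_eq_single ⟨i + 1, by omega⟩, hx, if_pos ⟨rfl, h⟩, one_mul, ← ent_coe z]
    · intro l _ hl
      rw [hx, if_neg (fun h' => hl (Fin.ext h'.1)), zero_mul]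
    · simp
  · exact Finset.sum_eq_zero fun l _ => by rw [hx, if_neg (by omega), zero_mul]

theorem mul_right_apply (z : Matrix (Fin (n + 1)) (Fin (n + 1)) O) (i j : Fin (n + 1)) :
    (z * x) i j = if 1 ≤ (j : ℕ) ∧ (j : ℕ) < n then ent z i (j - 1) else 0 := by
  rw [Matrix.mul_apply]
  split_ifs with h
  · rw [Finset.sum_eq_single ⟨j - 1, by omega⟩, hx, if_pos ⟨by simp only; omega, h.2⟩, mul_one, ← ent_coe z]
    · intro l _ hl
      rw [hx, if_neg (fun h' => hl (Fin.ext (by simp only; omega))), mul_zero]
    · simp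
  · exact Finset.sum_eq_zero fun l _ => by rw [hx, if_neg (by omega), mul_zero]

theorem inv_comm (hn : 1 ≤ n) (z : Matrix (Fin (n + 1)) (Fin (n + 1)) O) : inv n (x * z - z * x) = 0 := by
  have he : ∀ i j, i < n + 1 → j < n + 1 → ent (x * z - z * x) i j =
      (if i + 1 < n then ent z (i + 1) j else 0) - (if 1 ≤ j ∧ j < n then ent z i (j - 1) else 0) := by
    intro i j hi hj
    rw [ent, dif_pos ⟨hi, hj⟩, Matrix.sub_apply, mul_left_apply x hx, mul_right_apply x hx]
  refine Prod.ext (funext fun d => ?_) (Prod.ext ?_ ?_)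
  · show ∑ i ∈ range (n - (d : ℕ)), ent (x * z - z * x) (i + d) i = 0
    rw [Finset.sum_congr rfl fun i hi => he (i + d) i (by rw [mem_range] at hi; omega) (by rw [mem_range] at hi; omega),
      sum_sub_distrib]
    obtain ⟨m, hm⟩ : ∃ m, n - (d : ℕ) = m + 1 := ⟨n - d - 1, by omega⟩
    rw [hm, sum_range_succ, if_neg (by omega), add_zero, sum_range_succ', if_neg (by omega), add_zero, ← sum_sub_distrib]
    refine sum_eq_zero fun i hi => ?_
    rw [mem_range] at hi
    rw [if_pos (by omega), if_pos (by omega), show i + 1 + (d : ℕ) = i + (d : ℕ) + 1 by omega, Nat.add_sub_cancel,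
      sub_self]
  · show ent (x * z - z * x) n 0 = 0
    rw [he n 0 (by omega) (by omega), if_neg (by omega), if_neg (by omega), sub_zero]
  · show ent (x * z - z * x) (n - 1) n = 0
    rw [he (n - 1) n (by omega) (by omega), if_neg (by omega), if_neg (by omega), sub_zero]

theorem exists_preimage (hn : 1 ≤ n) (y : Matrix (Fin (n + 1)) (Fin (n + 1)) O) (hy : y.trace = 0) (h0 : inv n y = 0) :
    ∃ z : Matrix (Fin (n + 1)) (Fin (n + 1)) O, z.trace = 0 ∧ x * z - z * x = y := by
  have hφ : ∀ d, d < n → ∑ i ∈ range (n - d), ent y (i + d) i = 0 := fun d hd =>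
    congrFun (congrArg Prod.fst h0) ⟨d, hd⟩
  have hn0 : ent y n 0 = 0 := congrArg (fun t => t.2.1) h0
  have hcol : ent y (n - 1) n = 0 := congrArg (fun t => t.2.2) h0
  have hnn : ent y n n = 0 := by
    have h := hφ 0 hn
    rw [Matrix.trace, Fin.sum_univ_castSucc] at hy
    rw [show n - 0 = n from rfl, ← Fin.sum_univ_eq_sum_range (fun i => ent y (i + 0) i)] at h
    have hlast : y.diag (Fin.last n) = ent y n n := (ent_coe y (Fin.last n) (Fin.last n)).symm
    have hsum : ∑ i : Fin n, y.diag i.castSucc = 0 := by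
      rw [← h]; exact Finset.sum_congr rfl fun i _ => (ent_coe y i.castSucc i.castSucc).symm
    rw [hsum, hlast, zero_add] at hy
    exact hy
  let c : O := -∑ a ∈ range n, zf (ent y) a a
  let w : ℕ → ℕ → O := fun a b =>
    if a = n then (if b = n then c else -ent y n (b + 1))
    else if b = n then (if a = 0 then 0 else ent y (a - 1) n) else zf (ent y) a b
  have hent : ∀ a b, a < n + 1 → b < n + 1 →
      ent (Matrix.of fun i j : Fin (n + 1) => w i j) a b = w a b := fun a b ha hb => by
    rw [ent, dif_pos ⟨ha, hb⟩]; rfl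
  refine ⟨Matrix.of fun i j => w i j, ?_, Matrix.ext fun i j => ?_⟩
  · rw [Matrix.trace, Fin.sum_univ_castSucc]
    have h1 : (Matrix.of fun i j : Fin (n + 1) => w i j).diag (Fin.last n) = c := by simp [w]
    rw [h1, show c = -∑ a : Fin n, zf (ent y) (a : ℕ) (a : ℕ) from
      congrArg Neg.neg (Fin.sum_univ_eq_sum_range (fun a => zf (ent y) a a) n).symm, ← sub_eq_add_neg, sub_eq_zero]
    refine Finset.sum_congr rfl fun a _ => ?_
    simp [w, a.2.ne]
  · rw [Matrix.sub_apply, mul_left_apply x hx, mul_right_apply x hx, ← ent_coe y i j]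
    obtain ⟨i, hi⟩ := i
    obtain ⟨j, hj⟩ := j
    simp only
    rcases (Nat.lt_succ_iff.1 hi).lt_or_eq with hin | rfl
    · rcases (Nat.lt_succ_iff.1 hj).lt_or_eq with hjn | rfl
      · by_cases hi1 : i + 1 < n
        · rw [if_pos hi1, hent _ _ (by omega) (by omega)]
          rcases Nat.eq_zero_or_pos j with rfl | hj0
          · rw [if_neg (by omega), sub_zero]
            simp [w, hi1.ne, hjn.ne, zf]
          · obtain ⟨b, rfl⟩ : ∃ b, j = b + 1 := ⟨j - 1, by omega⟩
            rw [if_pos ⟨by omega, hjn⟩, hent _ _ (by omega) (by omega)]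
            simp [w, hi1.ne, hin.ne, hjn.ne, (show b ≠ n by omega), zf]
        · rw [if_neg hi1]
          obtain rfl : n = i + 1 := by omega
          rcases Nat.eq_zero_or_pos j with rfl | hj0
          · rw [if_neg (by omega), sub_zero]
            have h := hφ i (by omega)
            rw [show i + 1 - i = 1 by omega, sum_range_one, zero_add] at h
            exact h.symm
          · obtain ⟨b, rfl⟩ : ∃ b, j = b + 1 := ⟨j - 1, by omega⟩
            rw [if_pos ⟨by omega, hjn⟩, hent _ _ (by omega) (by omega), zero_sub]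
            simp only [w, Nat.add_sub_cancel, if_neg hin.ne, if_neg (show b ≠ i + 1 by omega)]
            obtain ⟨d, rfl⟩ : ∃ d, i = b + 1 + d := ⟨i - (b + 1), by omega⟩
            have h := hφ d (by omega)
            rw [show b + 1 + d + 1 - d = b + 1 + 1 by omega, sum_range_succ, ← zf_sum] at h
            rw [show zf (ent y) (b + 1 + d) b = zf (ent y) (b + d + 1) b from
              congrArg (fun a => zf (ent y) a b) (by omega)]
            exact (eq_neg_of_add_eq_zero_right h).symm
      · rw [if_neg (show ¬(1 ≤ j ∧ j < j) by omega), sub_zero]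
        by_cases hi1 : i + 1 < j
        · rw [if_pos hi1, hent _ _ (by omega) (by omega)]
          simp [w, hi1.ne]
        · rw [if_neg hi1, show i = j - 1 by omega]
          exact hcol.symm
    · rw [if_neg (by omega), zero_sub]
      rcases Nat.eq_zero_or_pos j with rfl | hj0
      · rw [if_neg (by omega), neg_zero]
        exact hn0.symm
      · obtain ⟨b, rfl⟩ : ∃ b, j = b + 1 := ⟨j - 1, by omega⟩
        by_cases hbn : b + 1 < i
        · rw [if_pos ⟨by omega, hbn⟩, hent _ _ (by omega) (by omega)]
          simp [w, (show b ≠ i by omega)]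
        · obtain rfl : i = b + 1 := by omega
          rw [if_neg (by omega), neg_zero]
          exact hnn.symm

end


/-- Let O be a discrete valuation ring of characteristic zero with residue field of characteristic p,
let 1 ≤ n with n + 1 < p (type A_n with p above the Coxeter number), and let x ∈ sl_{n+1}(O) be the
standard subregular nilpotent element, the matrix with entries x_{i,i+1} = 1 for i + 1 < n and 0
elsewhere (one Jordan block of size n and one of size 1; in the source this is the sum of the root
vectors of the first n − 1 simple roots, completed there to an sl₂-triple). Then the quotient of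
sl_{n+1}(O) by the image of ad_x is a free O-module of rank n + 2. (The source works over a complete
such ring with algebraically closed residue field; completeness and algebraic closedness are not
used for this statement.) -/
theorem result (O : Type u) [CommRing O] [IsDomain O] [IsDiscreteValuationRing O]
    [CharZero O] (p : ℕ) [Fact p.Prime] [CharP (IsLocalRing.ResidueField O) p]
    (n : ℕ) (hn : 1 ≤ n) (hp : n + 1 < p)
    (x : LieAlgebra.SpecialLinear.sl (Fin (n + 1)) O)
    (hx : ∀ i j : Fin (n + 1), (x : Matrix (Fin (n + 1)) (Fin (n + 1)) O) i j =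
      if j.val = i.val + 1 ∧ j.val < n then 1 else 0) :
    Module.Free O (LieAlgebra.SpecialLinear.sl (Fin (n + 1)) O ⧸
        LinearMap.range (LieAlgebra.ad O (LieAlgebra.SpecialLinear.sl (Fin (n + 1)) O) x)) ∧
      Module.finrank O (LieAlgebra.SpecialLinear.sl (Fin (n + 1)) O ⧸
        LinearMap.range (LieAlgebra.ad O (LieAlgebra.SpecialLinear.sl (Fin (n + 1)) O) x)) = n + 2 := by
  classical
  let f : LieAlgebra.SpecialLinear.sl (Fin (n + 1)) O →ₗ[O] (Fin n → O) × O × O :=
    (inv n).comp (LieAlgebra.SpecialLinear.sl (Fin (n + 1)) O).toSubmodule.subtype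
  have hker : LinearMap.ker f = LinearMap.range (LieAlgebra.ad O (LieAlgebra.SpecialLinear.sl (Fin (n + 1)) O) x) := by
    refine le_antisymm (fun y hy => ?_) ?_
    · obtain ⟨z, hz, hzy⟩ := exists_preimage x.val hx hn y.val y.2 hy
      exact ⟨⟨z, hz⟩, Subtype.ext hzy⟩
    · rintro _ ⟨z, rfl⟩
      exact inv_comm x.val hx hn z.val
  have hsurj : Function.Surjective f := by
    intro t
    let M : Matrix (Fin (n + 1)) (Fin (n + 1)) O := Matrix.of fun i j =>
      if j.val = 0 ∧ i.val < n then (if h : i.val < n then t.1 ⟨i.val, h⟩ else 0)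
      else if i.val = n ∧ j.val = 0 then t.2.1
      else if i.val + 1 = n ∧ j.val = n then t.2.2
      else if i.val = n ∧ j.val = n then -t.1 ⟨0, hn⟩
      else 0
    have hM : M.trace = 0 := by
      rw [Matrix.trace, Fin.sum_univ_castSucc, Finset.sum_eq_single (⟨0, hn⟩ : Fin n)]
      · simp [M, hn, (show n ≠ 0 by omega), (show 0 < n by omega)]
      · intro i _ hi
        have : i.val ≠ 0 := fun h => hi (Fin.ext h)
        have h1 : i.castSucc.val ≠ 0 := this
        have h2 : i.castSucc.val ≠ n := i.2.ne
        simp only [M, Matrix.diag_apply, Matrix.of_apply, h1, h2, and_false, false_and, if_false]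
      · simp
    refine ⟨⟨M, hM⟩, Prod.ext (funext fun d => ?_) (Prod.ext ?_ ?_)⟩
    · show ∑ i ∈ range (n - (d : ℕ)), ent M (i + d) i = t.1 d
      rw [Finset.sum_eq_single 0]
      · simp [ent, M, d.2, (show (d : ℕ) < n + 1 by omega)]
      · intro i hi hi0
        rw [mem_range] at hi
        simp [ent, M, hi0, (show i ≠ n by omega), (show i + (d : ℕ) < n + 1 by omega), (show i < n + 1 by omega)]
      · intro h
        exact absurd (mem_range.2 (by omega)) h
    · show ent M n 0 = t.2.1
      simp [ent, M]
    · show ent M (n - 1) n = t.2.2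
      simp [ent, M, (show n ≠ 0 by omega), (show n - 1 + 1 = n by omega), (show n - 1 < n + 1 by omega), (show n - 1 ≠ n by omega)]
  let e := (Submodule.quotEquivOfEq _ _ hker.symm).trans (f.quotKerEquivOfSurjective hsurj)
  exact ⟨Module.Free.of_equiv e.symm, by rw [e.finrank_eq]; simp⟩

end Groth.Agent.S16051
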