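import Groth.Statements.S1606
import Groth.Agent.H29CurveDual.Subcurve.Generation

set_option autoImplicit false
universe u
open CategoryTheory CategoryTheory.Limits AlgebraicGeometry
open Curves

namespace Groth.Agent.S1606

/-- Let X be proper over k, reduced, connected, of dimension one, and L an invertible module whose
restriction to each reduced connected one-dimensional closed subscheme Y of X has degree at least
twice the k-dimension of H^1(Y, O_Y). Then L is globally generated. -/
theorem result (k : Type u) [Field k] (X : Scheme.{u}) [X.Over (Spec (CommRingCat.of k))] [IsProper (X ↘ (Spec (CommRingCat.of k)))] [IsReduced X] [ConnectedSpace X]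
    (hdim : topologicalKrullDim X = 1) (L : X.Modules) (hL : PicF.IsInvertible L)
    (h : ∀ J : X.IdealSheafData, IsReduced J.subscheme → ConnectedSpace J.subscheme → topologicalKrullDim J.subscheme = 1 →
      2 * (@Curv2.genus k _ J.subscheme ⟨J.subschemeι ≫ (X ↘ (Spec (CommRingCat.of k)))⟩ : ℤ) ≤
        @Curv2.deg k _ J.subscheme ⟨J.subschemeι ≫ (X ↘ (Spec (CommRingCat.of k)))⟩ ((Scheme.Modules.pullback J.subschemeι).obj L) 1) :
    Curv2.IsGloballyGenerated L := by
  exact H29CurveDual.Subcurve.isGloballyGenerated_of_deg_ge_subcurves hdim hL h

end Groth.Agent.S1606
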