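import Groth.Statements.S1607
import Mathlib
import Groth.Agent.H22Alg.DimOnePrincipal

set_option autoImplicit false
universe u
open CategoryTheory CategoryTheory.Limits AlgebraicGeometry
open Variety

namespace Groth.Agent.S1607

/-- If X is affine and each of its local rings is Noetherian of dimension at most one, then every
quasi-compact open subscheme of X is affine. -/
theorem result (X : Scheme.{u}) [IsAffine X]
    (hX : ∀ x : X, IsNoetherianRing (X.presheaf.stalk x) ∧ ringKrullDim (X.presheaf.stalk x) ≤ 1)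
    (U : X.Opens) (hU : IsCompact (U : Set X)) : IsAffineOpen U := by
  haveI : IsAffineHom U.ι := by
    refine isAffineHom_of_forall_exists_isAffineOpen U.ι fun x => ?_
    obtain ⟨s, hs, hUs⟩ := (isCompact_and_isOpen_iff_finite_and_eq_biUnion_basicOpen (X := X)).mp ⟨hU, U.isOpen⟩
    let q : X → Ideal Γ(X, ⊤) := fun y => ((isAffineOpen_top X).primeIdealOf ⟨y, trivial⟩).asIdeal
    have hq : ∀ (y : X) (g : Γ(X, ⊤)), y ∈ X.basicOpen g ↔ g ∉ q y := fun y g => by
      rw [Scheme.mem_basicOpen_top]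
      letI : Algebra Γ(X, ⊤) (X.presheaf.stalk y) := TopCat.Presheaf.algebra_section_stalk X.presheaf (⟨y, trivial⟩ : (⊤ : X.Opens))
      haveI := (isAffineOpen_top X).isLocalization_stalk ⟨y, trivial⟩
      exact IsLocalization.AtPrime.isUnit_to_map_iff (X.presheaf.stalk y) (q y) g
    have hUI : ∀ y : X, y ∈ U ↔ ¬ Ideal.span s ≤ q y := fun y => by
      rw [Ideal.span_le, ← SetLike.mem_coe, hUs]
      simp only [Set.mem_iUnion, exists_prop, SetLike.mem_coe, hq, Set.not_subset]
    letI : Algebra Γ(X, ⊤) (X.presheaf.stalk x) := TopCat.Presheaf.algebra_section_stalk X.presheaf (⟨x, trivial⟩ : (⊤ : X.Opens))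
    haveI := (isAffineOpen_top X).isLocalization_stalk ⟨x, trivial⟩
    obtain ⟨t, ht, g, hg, hP⟩ := Groth.Agent.S1607.exists_principal_near (q x) (X.presheaf.stalk x) (hX x).1 (hX x).2
      (Ideal.span s) ⟨hs.toFinset, by simp⟩
    refine ⟨X.basicOpen t, (hq x t).mpr ht, (isAffineOpen_top X).basicOpen t, ?_⟩
    have e : U ⊓ X.basicOpen t = X.basicOpen (g * t) := by
      ext y
      simp only [TopologicalSpace.Opens.coe_inf, Set.mem_inter_iff, SetLike.mem_coe, hUI, hq,
        (show (q y).IsPrime from ((isAffineOpen_top X).primeIdealOf ⟨y, trivial⟩).2).mul_mem_iff_mem_or_mem, not_or]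
      exact ⟨fun h => ⟨fun hgy => h.1 (hP _ ((isAffineOpen_top X).primeIdealOf ⟨y, trivial⟩).2 h.2 hgy), h.2⟩,
        fun h => ⟨fun hle => h.1 (hle hg), h.2⟩⟩
    rw [← U.ι.isAffineOpen_iff_of_isOpenImmersion]
    rw [Scheme.Hom.image_preimage_eq_opensRange_inf, Scheme.Opens.opensRange_ι, e]
    exact (isAffineOpen_top X).basicOpen _
  exact isAffine_of_isAffineHom U.ι

end Groth.Agent.S1607
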