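import Groth.Statements.S16073
import Groth.Agent.H20OT.OrderP

set_option autoImplicit false
universe u
open Hopf

namespace Groth.Agent.S16073

/-- Let p be a prime and R a commutative ring of characteristic p (p = 0 in R, R nonzero). Then the
constant group scheme ℤ/p and α_p over Spec R are not isomorphic: there is no R-bialgebra
isomorphism between the Hopf algebra Maps(ℤ/p, R) of functions on the cyclic group of order p and
the Hopf algebra R[X]/(X^p) of α_p (X primitive). (Any nonzero commutative base ring of
characteristic p is allowed. The published statement allows any ring R with p·R = 0; over the zero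
ring both Hopf algebras are the zero ring and hence isomorphic, so R is assumed nonzero here.) -/
theorem result (p : ℕ) [Fact p.Prime] (R : Type u) [CommRing R] [CharP R p] :
    IsEmpty (ConstGrp.F R (Multiplicative (ZMod p)) ≃ₐc[R] AlphaP.A p R) := by
  classical
  haveI := Groth.Agent.H20OT.nontrivial_of_charP p R
  constructor
  intro e
  let G := Multiplicative (ZMod p)
  let f : ConstGrp.F R G := ConstGrp.e R 1
  have hf : ∀ n : ℕ, n ≠ 0 → f ^ n = f := by
    intro n
    induction n with
    | zero => intro h; exact absurd rfl h
    | succ n ih =>
      intro _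
      by_cases hn : n = 0
      · rw [hn, zero_add, pow_one]
      · rw [pow_succ, ih hn, ConstGrp.e_mul_e, if_pos rfl]
  obtain ⟨c, hc⟩ : ∃ c : R, e f = algebraMap R _ c := by
    refine ⟨Coalgebra.counit (R := R) (e f) ^ p, ?_⟩
    conv_lhs => rw [← hf p (Fact.out : p.Prime).ne_zero, map_pow]
    exact Groth.Agent.H20OT.alphaP_pow_char p _
  have h2 : f = algebraMap R _ c := EquivLike.injective e (hc.trans (AlgHomClass.commutes e c).symm)
  have hg : Multiplicative.ofAdd (1 : ZMod p) ≠ (1 : G) := by simp
  have h3 := congrFun h2 1
  have h4 := congrFun h2 (Multiplicative.ofAdd (1 : ZMod p))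
  simp only [f, ConstGrp.e_apply_self, ConstGrp.algebraMap_apply, ConstGrp.e_apply_of_ne hg] at h3 h4
  exact one_ne_zero (h3.trans h4.symm)

end Groth.Agent.S16073
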