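import Groth.Statements.S16074
import Groth.Agent.H20OT.OrderP

set_option autoImplicit false
universe u
open Hopf

namespace Groth.Agent.S16074
open TensorProduct

/-- Let p be a prime and R a commutative ring of characteristic p (p = 0 in R, R nonzero). Then μ_p and
α_p over Spec R are not isomorphic: there is no R-bialgebra isomorphism between the group algebra
R[ℤ/p] of the cyclic group of order p (group elements group-like) and the Hopf algebra R[X]/(X^p) of
α_p (X primitive), although the underlying R-algebras R[ℤ/p] = R[Y]/(Y^p) and R[X]/(X^p) are
isomorphic. (Any nonzero commutative base ring of characteristic p is allowed. The published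
statement allows any ring R with p·R = 0; over the zero ring both Hopf algebras are the zero ring
and hence isomorphic, so R is assumed nonzero here.) -/
theorem result (p : ℕ) [Fact p.Prime] (R : Type u) [CommRing R] [CharP R p] :
    IsEmpty (MonoidAlgebra R (Multiplicative (ZMod p)) ≃ₐc[R] AlphaP.A p R) := by
  classical
  haveI := Groth.Agent.H20OT.nontrivial_of_charP p R
  constructor
  intro e
  have hy : Coalgebra.comul (R := R) (e.symm (AlphaP.x p R)) =
      e.symm (AlphaP.x p R) ⊗ₜ[R] 1 + 1 ⊗ₜ[R] e.symm (AlphaP.x p R) := by
    rw [← CoalgHomClass.map_comp_comul_apply e.symm, AlphaP.comul_x]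
    simp
  have h0 := Groth.Agent.H20OT.monoidAlgebra_primitive_eq_zero hy
  have hx : AlphaP.x p R = 0 := by
    have := congrArg e h0
    simpa using this
  have h1 := (AlphaP.basis p R).ne_zero ⟨1, (Fact.out : p.Prime).one_lt⟩
  rw [AlphaP.basis_apply, pow_one] at h1
  exact h1 hx

end Groth.Agent.S16074
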