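import Groth.Statements.S16076
import Groth.Agent.H20OT.OrderP

set_option autoImplicit false
universe u
open scoped TensorProduct
open Versch

namespace Groth.Agent.S16076
open Coalgebra WithConv

/-- Let p be a prime, R a commutative ring of characteristic p and A = R[X]/(X^p) the Hopf algebra of
α_p over Spec R, with X primitive. Let v : A → A ⊗_R R^(Frob) be the comorphism of the Verschiebung
V : α_p^(p) → α_p (the ring map whose transpose under the canonical pairing is the relative
Frobenius of the dual Hopf algebra Hom_R(A, R)). Then V is the trivial homomorphism: v is the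
composite of the counit ε : A → R, the identity of underlying rings R → R^(Frob) and the inclusion
of the twisted factor R^(Frob) → A ⊗_R R^(Frob), i.e. v(a) = 1 ⊗ ε(a). (Any commutative base ring of
characteristic p is allowed.) -/
theorem result (p : ℕ) [Fact p.Prime] (R : Type u) [CommRing R] [CharP R p]
    (v : AlphaP.A p R →+* FrobAlg.BaseChange p R (AlphaP.A p R))
    (hv : Versch.IsVerschiebung p R (AlphaP.A p R) v) :
    v = ((Algebra.TensorProduct.includeRight (R := R) (A := AlphaP.A p R) (B := FrobAlg.Twist p R)).toRingHom.comp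
          (FrobAlg.toTwist p R).toRingHom).comp (Bialgebra.counitAlgHom R (AlphaP.A p R)).toRingHom := by
  classical
  haveI := Groth.Agent.H20OT.nontrivial_of_charP p R
  haveI : Fact p.Prime := inferInstance
  have hp : p.Prime := Fact.out
  let b := AlphaP.basis p R
  let δ : CartDual.D R (AlphaP.A p R) := toConv (b.coord ⟨1, hp.one_lt⟩)
  have hδ : ∀ m : ℕ, m < p → δ.ofConv (AlphaP.x p R ^ m) = if m = 1 then 1 else 0 := by
    intro m hm
    have := AlphaP.basis_apply p R ⟨m, hm⟩
    rw [← this]
    simp only [δ, b, WithConv.ofConv_toConv, Module.Basis.coord_apply, Module.Basis.repr_self, Finsupp.single_apply]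
    exact if_congr Fin.ext_iff rfl rfl
  have hpow : ∀ n m : ℕ, m < p →
      (δ ^ n).ofConv (AlphaP.x p R ^ m) = if m = n then (n.factorial : R) else 0 := by
    intro n
    induction n with
    | zero =>
      intro m _
      rw [pow_zero δ, LinearMap.convOne_apply]
      by_cases hm : m = 0
      · simp [hm]
      · rw [Groth.Agent.H20OT.alphaP_counit_pow p hm, map_zero, if_neg hm]
    | succ n ih =>
      intro m hm
      rw [pow_succ δ, Groth.Agent.H20OT.dual_mul_apply, Groth.Agent.H20OT.alphaP_comul_pow, map_sum]
      rw [Finset.sum_congr rfl fun j hj => by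
        rw [map_nsmul, CartDual.ev₂_tmul, CartDual.coe_apply, CartDual.coe_apply,
          ih j (lt_of_le_of_lt (Finset.mem_range_succ_iff.mp hj) hm),
          hδ (m - j) (lt_of_le_of_lt (Nat.sub_le _ _) hm)]]
      by_cases hmn : m = n + 1
      · subst hmn
        rw [if_pos rfl, Finset.sum_eq_single n]
        · simp [Nat.factorial_succ]
        · intro j _ hj; simp [if_neg hj]
        · intro h; exact absurd (Finset.mem_range.mpr (by omega)) h
      · rw [if_neg hmn]
        refine Finset.sum_eq_zero fun j hj => ?_
        have := Finset.mem_range_succ_iff.mp hj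
        by_cases hjn : j = n
        · rw [if_neg (show ¬ m - j = 1 by omega), mul_zero, smul_zero]
        · rw [if_neg hjn, zero_mul, smul_zero]
  have hu : ∀ n : Fin p, IsUnit (((n : ℕ).factorial : ℕ) : R) := fun n =>
    (CharP.isUnit_natCast_iff (R := R) hp).mpr fun hd => absurd ((hp.dvd_factorial).mp hd) (not_le.mpr n.2)
  have hvanish : ∀ (n m : Fin p), (n : ℕ) ≠ 0 → ((δ ^ (n : ℕ)) ^ p).ofConv (AlphaP.x p R ^ (m : ℕ)) = 0 := by
    intro n m hn
    rw [← pow_mul δ, hpow _ _ m.2, if_neg]
    intro h
    have h1 := Nat.le_mul_of_pos_left p (Nat.pos_of_ne_zero hn)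
    have h2 := m.2
    omega
  have key : ∀ (x : CartDual.D R (AlphaP.A p R)) (a : AlphaP.A p R),
      (x ^ p).ofConv a = x.ofConv 1 ^ p * counit (R := R) a := by
    intro x a
    let c : Fin p → R := fun n => x.ofConv (AlphaP.x p R ^ (n : ℕ)) * ↑((hu n).unit⁻¹)
    have hx : x = ∑ n : Fin p, c n • δ ^ (n : ℕ) := by
      refine WithConv.ofConv_injective (b.ext fun m => ?_)
      rw [AlphaP.basis_apply, WithConv.ofConv_sum, LinearMap.sum_apply, Finset.sum_eq_single m]
      · rw [WithConv.ofConv_smul, LinearMap.smul_apply, hpow _ _ m.2, if_pos rfl, smul_eq_mul, mul_assoc]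
        simp
      · intro n _ hn
        rw [WithConv.ofConv_smul, LinearMap.smul_apply, hpow _ _ m.2, if_neg fun h => hn (Fin.ext h.symm), smul_zero]
      · simp
    have h0 : c ⟨0, hp.pos⟩ = x.ofConv 1 := by
      have : ((hu ⟨0, hp.pos⟩).unit : R) = 1 := by simp
      simp [c, Units.val_eq_one.mp this]
    suffices h : (x ^ p).ofConv = (x.ofConv 1 ^ p) • counit (R := R) (A := AlphaP.A p R) from LinearMap.congr_fun h a
    refine b.ext fun m => ?_
    rw [AlphaP.basis_apply, LinearMap.smul_apply, smul_eq_mul]
    conv_lhs => rw [hx, sum_pow_char p, WithConv.ofConv_sum, LinearMap.sum_apply]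
    rw [Finset.sum_eq_single ⟨0, hp.pos⟩]
    · rw [smul_pow, WithConv.ofConv_smul, LinearMap.smul_apply, smul_eq_mul, h0]
      congr 1
      rw [← pow_mul δ, zero_mul, pow_zero δ, LinearMap.convOne_apply, Algebra.algebraMap_self, RingHom.id_apply]
    · intro n _ hn
      rw [smul_pow, WithConv.ofConv_smul, LinearMap.smul_apply, hvanish n m (fun h => hn (Fin.ext h)), smul_zero]
    · simp
  let w : AlphaP.A p R →+* FrobAlg.BaseChange p R (AlphaP.A p R) :=
    ((Algebra.TensorProduct.includeRight (R := R) (A := AlphaP.A p R) (B := FrobAlg.Twist p R)).toRingHom.comp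
          (FrobAlg.toTwist p R).toRingHom).comp (Bialgebra.counitAlgHom R (AlphaP.A p R)).toRingHom
  have hw : Versch.IsVerschiebung p R (AlphaP.A p R) w := by
    rw [Versch.isVerschiebung_iff]
    intro a x
    have hwa : w a = (1 : AlphaP.A p R) ⊗ₜ[R] FrobAlg.toTwist p R (counit (R := R) a) := rfl
    rw [hwa, Versch.evTw_tmul', CartDual.coe_apply, CartDual.coe_apply, key, ← map_mul]
  exact Versch.IsVerschiebung.unique p R _ hv hw

end Groth.Agent.S16076
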