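import Groth.Statements.S16077
import Mathlib.FieldTheory.Perfect
import Mathlib.RingTheory.Henselian
import Mathlib.RingTheory.MvPolynomial.Ideal
import Mathlib.RingTheory.MvPolynomial.IrreducibleQuadratic
import Mathlib.RingTheory.RegularLocalRing.Defs
import Mathlib.RingTheory.SimpleRing.Principal

set_option autoImplicit false
universe u
open CAlg

namespace Groth.Agent.S16077

/-- Let k be a perfect field of characteristic p > 0 and let e_1, …, e_r ≥ 1 and f_1, …, f_s ≥ 1 be
natural numbers. If the k-algebras k[X_1, …, X_r]/(X_i^{p^{e_i}} : 1 ≤ i ≤ r) and k[X_1, …,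
X_s]/(X_j^{p^{f_j}} : 1 ≤ j ≤ s) are isomorphic, then r = s and (f_j) is a permutation of (e_i):
there is a bijection σ between the index sets with f_{σ(i)} = e_i. Such truncated polynomial
algebras are the coordinate rings of the connected finite k-group schemes, and the row says that the
number of variables and the exponents are invariants of the group, indeed of its algebra. (Only this
invariance is stated here; the existence of such a presentation for every connected finite k-group
is a separate statement.) -/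
theorem result (p : ℕ) [Fact p.Prime] (k : Type u) [Field k]
    [CharP k p] [PerfectField k] (r s : ℕ) (e : Fin r → ℕ) (f : Fin s → ℕ) (he : ∀ i, 1 ≤ e i) (hf : ∀ j, 1 ≤ f j)
    (φ : (MvPolynomial (Fin r) k ⧸ Ideal.span (Set.range fun i : Fin r => (MvPolynomial.X i : MvPolynomial (Fin r) k) ^ p ^ e i)) ≃ₐ[k]
      (MvPolynomial (Fin s) k ⧸ Ideal.span (Set.range fun j : Fin s => (MvPolynomial.X j : MvPolynomial (Fin s) k) ^ p ^ f j))) :
    ∃ σ : Fin r ≃ Fin s, ∀ i : Fin r, f (σ i) = e i := by
  classical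
  have hdim : ∀ (n : ℕ) (a : Fin n → ℕ), Module.finrank k (MvPolynomial (Fin n) k ⧸
      Ideal.span (Set.range fun i ↦ (MvPolynomial.X i : MvPolynomial (Fin n) k) ^ a i)) = ∏ i, a i := by
    intro n a
    let I := Ideal.span (Set.range fun i ↦ (MvPolynomial.X i : MvPolynomial (Fin n) k) ^ a i)
    have hI : ∀ P : MvPolynomial (Fin n) k, P ∈ I ↔ ∀ d ∈ P.support, ∃ i, a i ≤ d i := by
      intro P
      have : I = Ideal.span ((fun s ↦ MvPolynomial.monomial s (1 : k)) '' Set.range fun i ↦ Finsupp.single i (a i)) := by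
        simp only [I, ← Set.range_comp, Function.comp_def, MvPolynomial.X_pow_eq_monomial]
      rw [this, MvPolynomial.mem_ideal_span_monomial_image]
      simp only [Set.exists_range_iff, Finsupp.single_le_iff]
    let emb : (∀ i, Fin (a i)) → (Fin n →₀ ℕ) := fun c ↦ Finsupp.equivFunOnFinite.symm fun i ↦ (c i : ℕ)
    have hemb : Function.Injective emb := fun c c' h ↦ funext fun i ↦ Fin.ext (by simpa [emb] using DFunLike.congr_fun h i)
    let L : MvPolynomial (Fin n) k →ₗ[k] ((∀ i, Fin (a i)) → k) := LinearMap.pi fun c ↦ MvPolynomial.lcoeff k (emb c)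
    have hL : Function.Surjective L := fun g ↦ ⟨∑ c, MvPolynomial.monomial (emb c) (g c), funext fun c ↦ by
      simp [L, MvPolynomial.coeff_monomial, hemb.eq_iff]⟩
    have hker : LinearMap.ker L = I.restrictScalars k := by
      ext P
      rw [LinearMap.mem_ker, Submodule.restrictScalars_mem, hI]
      constructor
      · intro h d hd
        by_contra! hlt
        have := congrFun h fun i ↦ ⟨d i, hlt i⟩
        exact MvPolynomial.mem_support_iff.mp hd (by
          rw [show d = emb fun i ↦ ⟨d i, hlt i⟩ by ext i; simp [emb]]; exact this)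
      · intro h
        funext c
        show MvPolynomial.coeff (emb c) P = 0
        by_contra hne
        obtain ⟨i, hi⟩ := h _ (MvPolynomial.mem_support_iff.mpr hne)
        simp [emb] at hi
        omega
    have e2 : (MvPolynomial (Fin n) k ⧸ I) ≃ₗ[k] ((∀ i, Fin (a i)) → k) :=
      ((Submodule.Quotient.restrictScalarsEquiv k I).symm.trans (Submodule.quotEquivOfEq _ _ hker.symm)).trans
        (L.quotKerEquivOfSurjective hL)
    rw [e2.finrank_eq, Module.finrank_fintype_fun_eq_card, Fintype.card_pi]
    simp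
  have hinv : ∀ (n : ℕ) (a : Fin n → ℕ), (∀ i, 1 ≤ a i) → ∀ j : ℕ,
      Module.finrank k ((MvPolynomial (Fin n) k ⧸ Ideal.span (Set.range fun i ↦ (MvPolynomial.X i : MvPolynomial (Fin n) k) ^ p ^ a i)) ⧸
        Ideal.span {y | ∃ x : MvPolynomial (Fin n) k ⧸ Ideal.span (Set.range fun i ↦ (MvPolynomial.X i : MvPolynomial (Fin n) k) ^ p ^ a i),
          IsNilpotent x ∧ y = x ^ p ^ j}) = p ^ ∑ i, min (a i) j := by
    intro n a ha j
    let I := Ideal.span (Set.range fun i ↦ (MvPolynomial.X i : MvPolynomial (Fin n) k) ^ p ^ a i)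
    let K := Ideal.span (Set.range fun i ↦ (MvPolynomial.X i : MvPolynomial (Fin n) k) ^ p ^ min (a i) j)
    have hIK : I ≤ K := Ideal.span_le.mpr (by
      rintro _ ⟨i, rfl⟩
      exact Ideal.mem_of_dvd _ (pow_dvd_pow _ (Nat.pow_le_pow_right (Fact.out : p.Prime).pos (min_le_left _ _)))
        (Ideal.subset_span ⟨i, rfl⟩))
    have hpj : 0 < p ^ j := pow_pos (Fact.out : p.Prime).pos _
    have hJ : Ideal.span {y | ∃ x : MvPolynomial (Fin n) k ⧸ I, IsNilpotent x ∧ y = x ^ p ^ j} = K.map (Ideal.Quotient.mk I) := by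
      refine le_antisymm (Ideal.span_le.mpr ?_) ?_
      · rintro _ ⟨x, hx, rfl⟩
        obtain ⟨P, rfl⟩ := Ideal.Quotient.mk_surjective x
        rw [← map_pow]
        apply Ideal.mem_map_of_mem
        have h0 : MvPolynomial.constantCoeff P = 0 := by
          obtain ⟨N, hN⟩ := hx
          rw [← map_pow, Ideal.Quotient.eq_zero_iff_mem] at hN
          have hle : I ≤ RingHom.ker MvPolynomial.constantCoeff := Ideal.span_le.mpr (by
            rintro _ ⟨i, rfl⟩
            simp [RingHom.mem_ker, zero_pow (pow_pos (Fact.out : p.Prime).pos _).ne'])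
          exact IsReduced.eq_zero _ ⟨N, by rw [← map_pow]; exact hle hN⟩
        rw [P.as_sum, sum_pow_char_pow]
        refine sum_mem fun d hd ↦ ?_
        obtain ⟨i, hi⟩ : ∃ i, d i ≠ 0 := by
          by_contra! hall
          exact MvPolynomial.mem_support_iff.mp hd (by rw [show d = 0 from Finsupp.ext hall]; exact h0)
        have h1 : (MvPolynomial.X i : MvPolynomial (Fin n) k) ∣ MvPolynomial.monomial d (P.coeff d) :=
          MvPolynomial.X_dvd_monomial.mpr (Or.inr hi)
        exact Ideal.mem_of_dvd _ ((pow_dvd_pow _ (Nat.pow_le_pow_right (Fact.out : p.Prime).pos (min_le_right _ _))).trans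
          (pow_dvd_pow_of_dvd h1 _)) (Ideal.subset_span ⟨i, rfl⟩)
      · rw [Ideal.map_span, Ideal.span_le]
        rintro _ ⟨_, ⟨i, rfl⟩, rfl⟩
        rcases le_total (a i) j with h | h
        · simp only [min_eq_left h]
          rw [show Ideal.Quotient.mk I ((MvPolynomial.X i : MvPolynomial (Fin n) k) ^ p ^ a i) = 0 from
            Ideal.Quotient.eq_zero_iff_mem.mpr (Ideal.subset_span ⟨i, rfl⟩)]
          exact zero_mem _
        · simp only [min_eq_right h]
          refine Ideal.subset_span ⟨Ideal.Quotient.mk I (MvPolynomial.X i), ⟨p ^ a i, ?_⟩, map_pow _ _ _⟩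
          rw [← map_pow]; exact Ideal.Quotient.eq_zero_iff_mem.mpr (Ideal.subset_span ⟨i, rfl⟩)
    rw [((Ideal.quotientEquivAlgOfEq k hJ).trans (DoubleQuot.quotQuotEquivQuotOfLEₐ k hIK)).toLinearEquiv.finrank_eq,
      hdim, Finset.prod_pow_eq_pow_sum]
  have hsum : ∀ j, ∑ i, min (e i) j = ∑ i, min (f i) j := by
    intro j
    apply Nat.pow_right_injective (Fact.out : p.Prime).two_le
    simp only
    rw [← hinv r e he j, ← hinv s f hf j]
    refine (Ideal.quotientEquivAlg _ _ φ ?_).toLinearEquiv.finrank_eq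
    rw [Ideal.map_span]
    congr 1
    ext y
    constructor
    · rintro ⟨x, hx, rfl⟩
      exact ⟨_, ⟨φ.symm x, hx.map φ.symm, rfl⟩, by simp⟩
    · rintro ⟨_, ⟨x, hx, rfl⟩, rfl⟩
      exact ⟨φ x, hx.map φ, map_pow _ _ _⟩
  have hgt : ∀ (n : ℕ) (a : Fin n → ℕ) (j : ℕ),
      ∑ i, min (a i) (j + 1) = ∑ i, min (a i) j + (Finset.univ.filter fun i ↦ j < a i).card := by
    intro n a j
    rw [Finset.card_filter, ← Finset.sum_add_distrib]
    exact Finset.sum_congr rfl fun i _ ↦ by split_ifs with h <;> omega
  have hcard : ∀ j, (Finset.univ.filter fun i ↦ j < e i).card = (Finset.univ.filter fun i ↦ j < f i).card := fun j ↦ by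
    have h1 := hgt r e j
    have h2 := hgt s f j
    have := hsum j
    have := hsum (j + 1)
    omega
  have heq : ∀ (n : ℕ) (a : Fin n → ℕ) (v : ℕ),
      (Finset.univ.filter fun i ↦ v < a i).card = (Finset.univ.filter fun i ↦ a i = v + 1).card + (Finset.univ.filter fun i ↦ v + 1 < a i).card := by
    intro n a v
    simp only [Finset.card_filter, ← Finset.sum_add_distrib]
    exact Finset.sum_congr rfl fun i _ ↦ by split_ifs <;> omega
  have hfib : ∀ v, Nonempty ({i // e i = v} ≃ {i // f i = v}) := by
    intro v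
    rcases v with _ | v
    · exact ⟨@Equiv.equivOfIsEmpty _ _ ⟨fun x ↦ by have := he x.1; have := x.2; omega⟩ ⟨fun x ↦ by have := hf x.1; have := x.2; omega⟩⟩
    · refine ⟨Fintype.equivOfCardEq ?_⟩
      rw [Fintype.card_subtype, Fintype.card_subtype]
      have := heq r e v
      have := heq s f v
      have := hcard v
      have := hcard (v + 1)
      omega
  let σ := fun v ↦ (hfib v).some
  exact ⟨Equiv.ofFiberEquiv σ, fun i ↦ Equiv.ofFiberEquiv_map σ i⟩

end Groth.Agent.S16077
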