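import Groth.Statements.S16078
import Groth.Agent.H20Hopf.ExtConn
import Groth.Agent.H20OT.Cotan
import Mathlib

set_option autoImplicit false
universe u
open scoped TensorProduct
open Hopf

namespace Groth.Agent.S16078

/-- Let R be a henselian Noetherian local ring, A and A'' commutative Hopf algebras over R which are
finite and flat as R-modules, and A'' → A an R-algebra homomorphism compatible with
comultiplications and counits making A faithfully flat over A'' (a faithfully flat homomorphism π :
G → G'' of finite flat R-groups); let J ⊆ A be the ideal generated by the image of the augmentation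
ideal of A'' (G' = Spec A/J = ker π, so that 1 → G' → G → G'' → 1 is exact). Let e ∈ A and e'' ∈ A''
be idempotents with ε(e) = 1, ε(e'') = 1 and A/(1 − e), A''/(1 − e'') local rings (the unit
components G⁰ and G''⁰), and let e' ∈ A be an element whose image in A/J is an idempotent, with
ε(e') = 1 and A/(J + (1 − e')) local (so G'⁰ = Spec (A/J)/(1 − e') is the unit component of G').
Suppose g : A''/(1 − e'') → A/(1 − e) is the ring homomorphism induced by A'' → A (the restriction
π⁰ : G⁰ → G''⁰ of π, which exists because G⁰ is connected). Then g is faithfully flat, and e ≡ e'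
modulo J, i.e. J + (1 − e) = J + (1 − e') and the kernel of π⁰, which is cut out in G⁰ by J, is
exactly G'⁰: the sequence 1 → G'⁰ → G⁰ → G''⁰ → 1 is exact. (The published statement also asserts
exactness of the maximal étale quotient G ↦ G^ét, not stated here.) -/
theorem result (R : Type u) [CommRing R] [HenselianLocalRing R]
    [IsNoetherianRing R] (A A'' : Type u) [CommRing A] [HopfAlgebra R A] [Module.Finite R A] [Module.Flat R A]
    [CommRing A''] [HopfAlgebra R A''] [Module.Finite R A''] [Module.Flat R A'']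
    [Algebra A'' A] [IsScalarTower R A'' A] [Module.FaithfullyFlat A'' A]
    (hΔ : (Bialgebra.comulAlgHom R A).comp (IsScalarTower.toAlgHom R A'' A) =
      (Algebra.TensorProduct.map (IsScalarTower.toAlgHom R A'' A) (IsScalarTower.toAlgHom R A'' A)).comp
        (Bialgebra.comulAlgHom R A''))
    (hε : (Bialgebra.counitAlgHom R A).comp (IsScalarTower.toAlgHom R A'' A) = Bialgebra.counitAlgHom R A'')
    (e : A) (he : IsIdempotentElem e) (heε : Bialgebra.counitAlgHom R A e = 1)
    [IsLocalRing (A ⧸ Ideal.span ({1 - e} : Set A))]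
    (e'' : A'') (he'' : IsIdempotentElem e'') (he''ε : Bialgebra.counitAlgHom R A'' e'' = 1)
    [IsLocalRing (A'' ⧸ Ideal.span ({1 - e''} : Set A''))]
    (e' : A) (he' : IsIdempotentElem (Ideal.Quotient.mk ((RingHom.ker (Bialgebra.counitAlgHom R A'')).map (algebraMap A'' A)) e'))
    (he'ε : Bialgebra.counitAlgHom R A e' = 1)
    [IsLocalRing (A ⧸ (((RingHom.ker (Bialgebra.counitAlgHom R A'')).map (algebraMap A'' A)) ⊔ Ideal.span ({1 - e'} : Set A)))]
    (g : (A'' ⧸ Ideal.span ({1 - e''} : Set A'')) →+* (A ⧸ Ideal.span ({1 - e} : Set A)))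
    (hg : g.comp (Ideal.Quotient.mk (Ideal.span ({1 - e''} : Set A''))) =
      (Ideal.Quotient.mk (Ideal.span ({1 - e} : Set A))).comp (algebraMap A'' A)) :
    g.FaithfullyFlat ∧
      Ideal.Quotient.mk ((RingHom.ker (Bialgebra.counitAlgHom R A'')).map (algebraMap A'' A)) e = Ideal.Quotient.mk ((RingHom.ker (Bialgebra.counitAlgHom R A'')).map (algebraMap A'' A)) e' := by
  let I : Ideal A := Ideal.span {1 - e}
  let I'' : Ideal A'' := Ideal.span {1 - e''}
  let J : Ideal A := (RingHom.ker (Bialgebra.counitAlgHom R A'')).map (algebraMap A'' A)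
  refine ⟨?_, ?_⟩
  · letI : Algebra (A'' ⧸ I'') (A ⧸ I) := g.toAlgebra
    haveI : IsScalarTower A'' (A'' ⧸ I'') (A ⧸ I) := IsScalarTower.of_algebraMap_eq fun x =>
      (RingHom.congr_fun hg x).symm
    haveI : Module.Finite A'' A := Module.Finite.of_restrictScalars_finite R A'' A
    haveI : Module.Finite (A'' ⧸ I'') (A ⧸ I) := Module.Finite.of_restrictScalars_finite A'' _ _
    haveI : Module.Flat A'' (A ⧸ I) := H20Hopf.ExtConn.flat_component he
    haveI : IsLocalization.Away e'' (A'' ⧸ I'') :=
      IsLocalization.away_of_isIdempotentElem he'' Ideal.mk_ker Ideal.Quotient.mk_surjective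
    haveI : Module.Flat (A'' ⧸ I'') (A ⧸ I) :=
      (Module.flat_iff_of_isLocalization (A'' ⧸ I'') (Submonoid.powers e'') (A ⧸ I)).2 inferInstance
    haveI : Module.Free (A'' ⧸ I'') (A ⧸ I) := Module.free_of_flat_of_isLocalRing
    show Module.FaithfullyFlat (A'' ⧸ I'') (A ⧸ I)
    infer_instance
  · have hprod : ∀ (f E : A), IsIdempotentElem (Ideal.Quotient.mk J f) → Bialgebra.counitAlgHom R A f = 1 →
        IsIdempotentElem (Ideal.Quotient.mk J E) → Bialgebra.counitAlgHom R A E = 1 →
        IsLocalRing (A ⧸ (J ⊔ Ideal.span ({1 - E} : Set A))) →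
        Ideal.Quotient.mk J (f * E) = Ideal.Quotient.mk J E := by
      intro f E hf hfε hE hEε hloc
      haveI := hloc
      let K : Ideal A := J ⊔ Ideal.span ({1 - E} : Set A)
      let εB : (A ⧸ K) →ₐ[R] R :=
        Ideal.Quotient.liftₐ _ (Bialgebra.counitAlgHom R A) fun x hx => by
          obtain ⟨j, hj, i, hi, rfl⟩ := Submodule.mem_sup.1 hx
          obtain ⟨r, rfl⟩ := Ideal.mem_span_singleton'.1 hi
          rw [map_add, H20Hopf.ExtConn.counit_eq_zero_of_mem hε hj, map_mul, map_sub, map_one, hEε, sub_self, mul_zero,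
            zero_add]
      have h1 : Ideal.Quotient.mk K f = 1 :=
        H20Hopf.ConnComp.eq_one_of_isIdempotent εB.toRingHom
          (hf.map (Ideal.Quotient.factor (show J ≤ K from le_sup_left))) hfε
      rw [← map_one (Ideal.Quotient.mk K), Ideal.Quotient.eq] at h1
      obtain ⟨j, hj, i, hi, hji⟩ := Submodule.mem_sup.1 h1
      obtain ⟨r, rfl⟩ := Ideal.mem_span_singleton'.1 hi
      have h0 : (1 - E) * E ∈ J := by
        rw [← Ideal.Quotient.eq_zero_iff_mem, map_mul, map_sub, map_one, sub_mul, one_mul, hE.eq, sub_self]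
      rw [Ideal.Quotient.eq]
      have h2 : f * E - E = j * E + r * ((1 - E) * E) := by
        rw [← sub_one_mul, ← hji]; ring
      rw [h2]
      exact add_mem (J.mul_mem_right _ hj) (J.mul_mem_left _ h0)
    have hloc : IsLocalRing (A ⧸ (J ⊔ I)) := by
      haveI : Nontrivial (A ⧸ (J ⊔ I)) := (Ideal.Quotient.liftₐ (J ⊔ I) (Bialgebra.counitAlgHom R A) fun x hx => by
          obtain ⟨j, hj, i, hi, rfl⟩ := Submodule.mem_sup.1 hx
          obtain ⟨r, rfl⟩ := Ideal.mem_span_singleton'.1 hi
          rw [map_add, H20Hopf.ExtConn.counit_eq_zero_of_mem hε hj, map_mul, map_sub, map_one, heε, sub_self, mul_zero,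
            zero_add]).toRingHom.domain_nontrivial
      exact IsLocalRing.of_surjective' (Ideal.Quotient.factor (show I ≤ J ⊔ I from le_sup_right))
        (Ideal.Quotient.factor_surjective _)
    show Ideal.Quotient.mk J e = Ideal.Quotient.mk J e'
    rw [← hprod e e' (he.map _) heε he' he'ε inferInstance, mul_comm e e', hprod e' e he' he'ε (he.map _) heε hloc]

end Groth.Agent.S16078
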