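import Groth.Statements.S16081
import Groth.Agent.H29Ref.StalkRestrict
import Groth.Agent.H29Ref.Rational
import Groth.Agent.H29Ref.Generic

set_option autoImplicit false
universe u
open CategoryTheory CategoryTheory.Limits AlgebraicGeometry TopologicalSpace
open SDiv

namespace Groth.Agent.S16081

/-- Let X be an integral locally Noetherian scheme and F, G coherent O_X-modules with G reflexive. Then
the sheaf Hom 𝓗om_{O_X}(F, G) is reflexive: its canonical map into its reflexive hull is an
isomorphism. -/
theorem result (X : Scheme.{u}) [IsIntegral X] [IsLocallyNoetherian X] (F G : X.Modules)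
    (hF : Coh.IsCoh F) (hG : Coh.IsCoh G) (hGr : RefHull.IsReflexive G) :
    RefHull.IsReflexive (RefHull.homSh F G) := by
  refine (H29Ref.isReflexive_iff _ (H29Ref.isCoh_homSh F G hF hG)).mpr fun x => ?_
  haveI := H29Ref.finite_stalk F hF.2 x
  haveI := H29Ref.finite_stalk G hG.2 x
  haveI : Module.IsReflexive (X.presheaf.stalk x) (G.presheaf.stalk x) :=
    (H29Ref.isReflexive_iff G hG).mp hGr x
  haveI := H1CAlg.isReflexive_hom (R := X.presheaf.stalk x) (F.presheaf.stalk x) (G.presheaf.stalk x)
  let e : (RefHull.homSh F G).presheaf.stalk x ≃ₗ[X.presheaf.stalk x]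
      (F.presheaf.stalk x →ₗ[X.presheaf.stalk x] G.presheaf.stalk x) :=
    LinearEquiv.ofBijective _ (H29Ref.evalStalk_bijective F G (H10Coh.isFP_of_isCoh F hF) x)
  exact H29Ref.isReflexive_of_semilinear (RingEquiv.refl _) e.toAddEquiv fun r m => e.map_smul r m

end Groth.Agent.S16081
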