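import Groth.Statements.S16084
import Groth.Agent.H29Ref.Generic

set_option autoImplicit false
universe u
open CategoryTheory CategoryTheory.Limits AlgebraicGeometry TopologicalSpace
open SDiv

namespace Groth.Agent.S16084

open Groth.Agent.H29Ref

/-- Global sections with bijective generator form. -/
theorem bijective_iff_smul {X : Scheme.{u}} [IsIntegral X] (M : X.Modules) (hM : Coh.IsQCoh M)
    (hMt : TorSh.IsTorsionFree M) (s : Γ(M, ⊤)) (hs : s ≠ 0) (y : ↥X) :
    Function.Bijective (fun a : ↑(X.presheaf.stalk y) => a • M.presheaf.germ ⊤ y trivial s) ↔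
      ∀ v : M.presheaf.stalk y, ∃ a : X.presheaf.stalk y, a • M.presheaf.germ ⊤ y trivial s = v := by
  refine ⟨fun h => h.2, fun h => ⟨fun a b hab => ?_, h⟩⟩
  haveI := hMt y
  have h0 : (a - b) • M.presheaf.germ ⊤ y trivial s = 0 := by
    rw [sub_smul]; exact sub_eq_zero.mpr hab
  refine sub_eq_zero.mp ((smul_eq_zero.mp h0).resolve_right fun hy => hs ?_)
  refine germ_generic_injective M hM hMt (U := ⊤) trivial ?_
  rw [map_zero, ← sp_germ M (U := ⊤) y trivial s, hy, map_zero]

/-- A nonzero vector of the generic stalk of a rank one module spans. -/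
theorem span_generic {X : Scheme.{u}} [IsIntegral X] (M : X.Modules) (hM : RefHull.GenInvertible M)
    (w : M.presheaf.stalk (genericPoint X)) (hw : w ≠ 0) (v : M.presheaf.stalk (genericPoint X)) :
    ∃ c : X.presheaf.stalk (genericPoint X), c • w = v := by
  obtain ⟨e, he⟩ := exists_generator_generic M hM
  obtain ⟨a, ha⟩ := he w
  obtain ⟨b, hb⟩ := he v
  letI := (isField_generic (X := X)).toField
  have ha0 : a ≠ 0 := fun h => hw (by rw [← ha, h, zero_smul])
  exact ⟨b / a, by rw [← ha, smul_smul, div_mul_cancel₀ b ha0, hb]⟩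



/-- Let X be an integral locally Noetherian normal scheme, F a rank one coherent reflexive O_X-module
and s a nonzero global section of F. Let Z be the set of points x at which multiplication by the
germ of s, O_{X,x} → F_x, fails to be bijective (the complement of the open where s generates F).
Then every irreducible component of Z has codimension 1 in X: at each point z of Z to which no other
point of Z specializes, the local ring O_{X,z} has dimension 1. -/
theorem result (X : Scheme.{u}) [IsIntegral X] [IsLocallyNoetherian X]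
    (hX : Pi1.IsNormalScheme X) (F : X.Modules) (hF : RefHull.IsRef1 F) (s : Γ(F, ⊤)) (hs : s ≠ 0) (z : ↥X)
    (hz : ¬ Function.Bijective fun a : ↑(X.presheaf.stalk z) => a • F.presheaf.germ ⊤ z trivial s)
    (hmax : ∀ y : ↥X, ¬ Function.Bijective (fun a : ↑(X.presheaf.stalk y) => a • F.presheaf.germ ⊤ y trivial s) →
      y ⤳ z → y = z) :
    ringKrullDim ↑(X.presheaf.stalk z) = 1 := by
  obtain ⟨hFc, hFr, hFg⟩ := hF
  have hFt := isTorsionFree_of_isReflexive F hFc hFr
  haveI := (hX z).1
  haveI := (hX z).2
  haveI : Module.IsReflexive (X.presheaf.stalk z) (F.presheaf.stalk z) :=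
    (isReflexive_iff F hFc).mp hFr z
  have hsη : F.presheaf.germ ⊤ (genericPoint ↥X) trivial s ≠ 0 := fun h =>
    hs (germ_generic_injective F hFc.1 hFt (U := ⊤) trivial (h.trans (map_zero _).symm))
  by_contra hdim
  refine hz ((bijective_iff_smul F hFc.1 hFt s hs z).mpr fun v => ?_)
  obtain ⟨c, hc⟩ := span_generic F hFg _ hsη (sp F z v)
  -- write the coefficient as a fraction of the local ring
  obtain ⟨U, hU, hzU, -⟩ := exists_isAffineOpen_mem_and_subset (X := X) (x := z) (U := ⊤) trivial
  obtain ⟨d, n, hd, hdn⟩ : ∃ d n : X.presheaf.stalk z, d ≠ 0 ∧ spO z d * c = spO z n := by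
    letI := (X.presheaf.stalkSpecializes
      ((genericPoint_spec ↥X).specializes (Set.mem_univ z))).hom.toAlgebra
    haveI : IsFractionRing (X.presheaf.stalk z) (X.presheaf.stalk (genericPoint ↥X)) :=
      (inferInstance : IsFractionRing (X.presheaf.stalk z) X.functionField)
    obtain ⟨⟨n, d⟩, hnd⟩ := IsLocalization.surj (nonZeroDivisors (X.presheaf.stalk z)) c
    exact ⟨d, n, nonZeroDivisors.ne_zero d.2, (mul_comm _ _).trans hnd⟩
  have hdv : d • v = n • F.presheaf.germ ⊤ z trivial s := by
    refine sp_injective F hFc.1 hFt z ?_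
    rw [sp_smul, sp_smul, sp_germ, ← hdn, mul_smul, hc]
  -- the coefficient is regular in codimension one
  obtain ⟨a, ha⟩ := exists_smul_eq_of_height_one (A := X.presheaf.stalk z) (N := X.presheaf.stalk z)
    d hd n fun q hq hq1 => by
      letI := TopCat.Presheaf.algebra_section_stalk X.presheaf (⟨z, hzU⟩ : U)
      haveI := hU.isLocalization_stalk ⟨z, hzU⟩
      obtain ⟨y, hyq, hydim⟩ := exists_point_of_prime hU (q.comap (algebraMap Γ(X, U) (X.presheaf.stalk z)))
      have hle : (hU.primeIdealOf y).asIdeal ≤ (hU.primeIdealOf ⟨z, hzU⟩).asIdeal := by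
        rw [hyq]
        intro r hr
        by_contra hru
        exact hq.ne_top (Ideal.eq_top_of_isUnit_mem _ hr
          (IsLocalization.map_units (X.presheaf.stalk z) (⟨r, hru⟩ : (hU.primeIdealOf ⟨z, hzU⟩).asIdeal.primeCompl)))
      have hyz : (y : ↥X) ⤳ z := by
        have h1 : hU.primeIdealOf y ⤳ hU.primeIdealOf ⟨z, hzU⟩ :=
          (PrimeSpectrum.le_iff_specializes _ _).mp hle
        have h2 := h1.map hU.fromSpec.continuous
        rwa [hU.fromSpec_primeIdealOf, hU.fromSpec_primeIdealOf] at h2
      have hy1 : ringKrullDim (X.presheaf.stalk (y : ↥X)) = 1 := by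
        rw [hydim, IsLocalization.height_under (hU.primeIdealOf ⟨z, hzU⟩).asIdeal.primeCompl q, hq1]
        rfl
      have hgood : Function.Bijective
          (fun b : ↑(X.presheaf.stalk (y : ↥X)) => b • F.presheaf.germ ⊤ (y : ↥X) trivial s) := by
        by_contra hbad
        exact hdim ((hmax _ hbad hyz) ▸ hy1)
      obtain ⟨b, hb⟩ := hgood.2 ((F.presheaf.stalkSpecializes hyz).hom v)
      letI := TopCat.Presheaf.algebra_section_stalk X.presheaf y
      haveI := hU.isLocalization_stalk y
      obtain ⟨⟨b₁, b₂⟩, hb12⟩ := (IsLocalization.surj (hU.primeIdealOf y).asIdeal.primeCompl b :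
        ∃ p : Γ(X, U) × (hU.primeIdealOf y).asIdeal.primeCompl, _)
      refine ⟨algebraMap Γ(X, U) (X.presheaf.stalk z) b₂, fun h => b₂.2 (hyq.ge (show (b₂ : Γ(X, U)) ∈ q.comap (algebraMap Γ(X, U) (X.presheaf.stalk z)) from h)),
        algebraMap Γ(X, U) (X.presheaf.stalk z) b₁, spO_injective z ?_⟩
      rw [smul_eq_mul, smul_eq_mul, map_mul, map_mul, ← hdn]
      have hcb : c = spO (y : ↥X) b := by
        haveI := hFt (genericPoint ↥X)
        have h1 : sp F (y : ↥X) ((F.presheaf.stalkSpecializes hyz).hom v) = sp F z v := by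
          obtain ⟨V, hzV, m, rfl⟩ := TopCat.Presheaf.exists_germ_eq F.presheaf v
          rw [show (F.presheaf.stalkSpecializes hyz).hom (F.presheaf.germ V z hzV m) =
            F.presheaf.germ V (y : ↥X) (hyz.mem_open V.2 hzV) m from
            TopCat.Presheaf.germ_stalkSpecializes_apply F.presheaf hzV hyz m, sp_germ, sp_germ]
        rw [← hb, sp_smul, sp_germ, ← hc] at h1
        refine (sub_eq_zero.mp ((smul_eq_zero.mp ?_).resolve_right hsη)).symm
        rw [sub_smul]
        exact sub_eq_zero.mpr h1
      have hb' : spO (y : ↥X) b * spO (y : ↥X) (X.presheaf.germ U y y.2 (b₂ : Γ(X, U))) =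
          spO (y : ↥X) (X.presheaf.germ U y y.2 b₁) := by
        rw [← map_mul]; exact congrArg _ hb12
      rw [← hcb, spO_germ, spO_germ] at hb'
      show spO z (X.presheaf.germ U z hzU (b₂ : Γ(X, U))) * (spO z d * c) =
        spO z d * spO z (X.presheaf.germ U z hzU b₁)
      rw [spO_germ, spO_germ, ← hb']
      ring
  refine ⟨a, ?_⟩
  haveI := hFt z
  refine (smul_right_injective _ hd) ?_
  show d • a • _ = d • v
  rw [hdv, smul_smul]
  exact congrArg (· • F.presheaf.germ ⊤ z trivial s) ha

end Groth.Agent.S16084
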