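import Groth.Statements.S16085
import Groth.Agent.H29Ref.DivClass

set_option autoImplicit false
universe u
open CategoryTheory CategoryTheory.Limits AlgebraicGeometry TopologicalSpace
open SDiv

namespace Groth.Agent.S16085

abbrev S (X : Scheme.{u}) := {c : PicF.Cl X // ∃ F : X.Modules, PicF.cl F = c ∧ RefHull.IsRef1 F}

variable {X : Scheme.{u}} [IsIntegral X] [IsLocallyNoetherian X]

noncomputable def rep (a : S X) : X.Modules := a.2.choose

omit [IsIntegral X] [IsLocallyNoetherian X] in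
theorem rep_ref (a : S X) : RefHull.IsRef1 (rep a) := a.2.choose_spec.2

omit [IsIntegral X] [IsLocallyNoetherian X] in
theorem rep_iso (F : X.Modules) (hF : RefHull.IsRef1 F) :
    Nonempty (rep (⟨PicF.cl F, F, rfl, hF⟩ : S X) ≅ F) :=
  H29Ref.nonempty_iso_of_cl_eq (⟨PicF.cl F, F, rfl, hF⟩ : S X).2.choose_spec.1

omit [IsIntegral X] [IsLocallyNoetherian X] in
theorem cl_rep (a : S X) : PicF.cl (rep a) = a.1 := a.2.choose_spec.1

/-- Elements with a common divisor are equal. -/
theorem eq_of_hasOrd (hX : Pi1.IsNormalScheme X) {a b : S X} {D : X → ℤ}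
    (ha : H29Ref.HasOrd (rep a) D) (hb : H29Ref.HasOrd (rep b) D) : a = b :=
  Subtype.ext ((cl_rep a).symm.trans ((Quot.sound
    (H29Ref.HasOrd.nonempty_iso hX (rep_ref a) (rep_ref b) ha hb)).trans (cl_rep b)))

noncomputable def mk (F : X.Modules) (hF : RefHull.IsRef1 F) : S X := ⟨PicF.cl F, F, rfl, hF⟩

theorem hasOrd_mk (hX : Pi1.IsNormalScheme X) {F : X.Modules} (hF : RefHull.IsRef1 F) {D : X → ℤ}
    (h : H29Ref.HasOrd F D) : H29Ref.HasOrd (rep (mk F hF)) D :=
  H29Ref.HasOrd.iso hX hF h (rep_iso F hF).some.symm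


/-- Let X be an integral locally Noetherian normal scheme. Sending (F, G) to the reflexive hull (F
⊗_{O_X} G)^** makes the isomorphism classes of rank one coherent reflexive O_X-modules into an
abelian group: on that set there are a commutative and associative composition law, a neutral
element and inverses, such that the product of the classes of F and G is the class of the reflexive
hull of F ⊗_{O_X} G, the neutral element is the class of O_X, and the inverse of the class of F is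
the class of its dual 𝓗om_{O_X}(F, O_X). -/
theorem result (X : Scheme.{u}) [IsIntegral X] [IsLocallyNoetherian X] (hX : Pi1.IsNormalScheme X) :
    ∃ (mul : {c : PicF.Cl X // ∃ F : X.Modules, PicF.cl F = c ∧ RefHull.IsRef1 F} →
          {c : PicF.Cl X // ∃ F : X.Modules, PicF.cl F = c ∧ RefHull.IsRef1 F} →
            {c : PicF.Cl X // ∃ F : X.Modules, PicF.cl F = c ∧ RefHull.IsRef1 F})
      (one : {c : PicF.Cl X // ∃ F : X.Modules, PicF.cl F = c ∧ RefHull.IsRef1 F})
      (inv : {c : PicF.Cl X // ∃ F : X.Modules, PicF.cl F = c ∧ RefHull.IsRef1 F} →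
          {c : PicF.Cl X // ∃ F : X.Modules, PicF.cl F = c ∧ RefHull.IsRef1 F}),
      (∀ a b, mul a b = mul b a) ∧ (∀ a b c, mul (mul a b) c = mul a (mul b c)) ∧ (∀ a, mul one a = a) ∧
        (∀ a, mul (inv a) a = one) ∧
        (∀ (F G : X.Modules) (hF : RefHull.IsRef1 F) (hG : RefHull.IsRef1 G),
          (mul ⟨PicF.cl F, F, rfl, hF⟩ ⟨PicF.cl G, G, rfl, hG⟩).1 = PicF.cl (RefHull.ddual (CohB1.tensorMod F G))) ∧
        one.1 = PicF.cl (Coh.structureModule X) ∧
        (∀ (F : X.Modules) (hF : RefHull.IsRef1 F), (inv ⟨PicF.cl F, F, rfl, hF⟩).1 = PicF.cl (RefHull.dual F)) := by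
  let mul : S X → S X → S X := fun a b =>
    mk _ (H29Ref.isRef1_refTensor (rep_ref a) (rep_ref b))
  let one : S X := mk _ H29Ref.isRef1_structureModule
  let inv : S X → S X := fun a => mk _ (H29Ref.isRef1_dual (rep_ref a))
  have hmul : ∀ {a b : S X} {D E : X → ℤ}, H29Ref.HasOrd (rep a) D → H29Ref.HasOrd (rep b) E →
      H29Ref.HasOrd (rep (mul a b)) (D + E) := fun {a b D E} ha hb =>
    hasOrd_mk hX _ (ha.refTensor hX (rep_ref a) (rep_ref b) hb)
  have hone : H29Ref.HasOrd (rep one) 0 := hasOrd_mk hX _ H29Ref.hasOrd_structureModule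
  have hinv : ∀ {a : S X} {D : X → ℤ}, H29Ref.HasOrd (rep a) D → H29Ref.HasOrd (rep (inv a)) (-D) :=
    fun {a D} ha => hasOrd_mk hX _ (ha.dual hX (rep_ref a))
  have hex : ∀ a : S X, ∃ D, H29Ref.HasOrd (rep a) D := fun a => H29Ref.exists_hasOrd (rep_ref a)
  refine ⟨mul, one, inv, fun a b => ?_, fun a b c => ?_, fun a => ?_, fun a => ?_, fun F G hF hG => ?_,
    rfl, fun F hF => ?_⟩
  · obtain ⟨D, hD⟩ := hex a
    obtain ⟨E, hE⟩ := hex b
    exact eq_of_hasOrd hX (hmul hD hE) (add_comm E D ▸ hmul hE hD)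
  · obtain ⟨D, hD⟩ := hex a
    obtain ⟨E, hE⟩ := hex b
    obtain ⟨G, hG⟩ := hex c
    exact eq_of_hasOrd hX (hmul (hmul hD hE) hG) ((add_assoc D E G).symm ▸ hmul hD (hmul hE hG))
  · obtain ⟨D, hD⟩ := hex a
    exact eq_of_hasOrd hX (hmul hone hD) ((zero_add D).symm ▸ hD)
  · obtain ⟨D, hD⟩ := hex a
    exact eq_of_hasOrd hX (hmul (hinv hD) hD) ((neg_add_cancel D).symm ▸ hone)
  · obtain ⟨D, hD⟩ := H29Ref.exists_hasOrd hF
    obtain ⟨E, hE⟩ := H29Ref.exists_hasOrd hG
    exact Quot.sound (H29Ref.HasOrd.nonempty_iso hX (H29Ref.isRef1_refTensor (rep_ref _) (rep_ref _))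
      (H29Ref.isRef1_refTensor hF hG)
      ((hasOrd_mk hX hF hD).refTensor hX (rep_ref _) (rep_ref _) (hasOrd_mk hX hG hE))
      (hD.refTensor hX hF hG hE))
  · obtain ⟨D, hD⟩ := H29Ref.exists_hasOrd hF
    exact Quot.sound (H29Ref.HasOrd.nonempty_iso hX (H29Ref.isRef1_dual (rep_ref _))
      (H29Ref.isRef1_dual hF) ((hasOrd_mk hX hF hD).dual hX (rep_ref _)) (hD.dual hX hF))

end Groth.Agent.S16085
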