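import Groth.Statements.S16086
import Groth.Agent.H29Ref.ClassMap

set_option autoImplicit false
universe u
open CategoryTheory CategoryTheory.Limits AlgebraicGeometry TopologicalSpace
open SDiv

namespace Groth.Agent.S16086

/-- The class map is well defined and injective: fix a scheme X that is integral, normal and locally
Noetherian, and write η for its generic point; suppose F and G are rank one coherent reflexive
O_X-modules and let s ∈ F_η and t ∈ G_η be nonzero rational sections. At a point x of codimension 1
the stalks F_x, G_x are free of rank one over the discrete valuation ring O_{X,x}, so s and t have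
orders ord_{x,F}(s), ord_{x,G}(t). Then F ≅ G if and only if the Weil divisors of s and t are
linearly equivalent: for some nonzero rational function f one has ord_{x,F}(s) = ord_{x,G}(t) +
ord_x(f) at every point x of codimension 1. -/
theorem result (X : Scheme.{u}) [IsIntegral X] [IsLocallyNoetherian X]
    (hX : Pi1.IsNormalScheme X) (F G : X.Modules) (hF : RefHull.IsRef1 F) (hG : RefHull.IsRef1 G)
    (s : Cyc.secFibre F (genericPoint ↥X)) (hs : s ≠ 0) (t : Cyc.secFibre G (genericPoint ↥X)) (ht : t ≠ 0) :
    Nonempty (F ≅ G) ↔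
      ∃ f : ↑X.functionField, f ≠ 0 ∧
        ∀ (x : ↥X), Order.coheight x = 1 →
          Cyc.secOrdAt F (genericPoint ↥X) x ((genericPoint_spec ↥X).specializes (Set.mem_univ x)) s =
            Cyc.secOrdAt G (genericPoint ↥X) x ((genericPoint_spec ↥X).specializes (Set.mem_univ x)) t +
              Scheme.ord f x := by
  obtain ⟨v, rfl⟩ := H29Ref.exists_rat_eq F s
  obtain ⟨w, rfl⟩ := H29Ref.exists_rat_eq G t
  have hv : v ≠ 0 := (H29Ref.rat_ne_zero_iff F v).mp hs
  have hw : w ≠ 0 := (H29Ref.rat_ne_zero_iff G w).mp ht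
  constructor
  · rintro ⟨e⟩
    have hb := (H29Ref.isIso_iff_bijective_stalk e.hom).mp inferInstance
    obtain ⟨f, hf⟩ := (H29Ref.bijective_toSpan (H29Ref.stalkFree_generic G hG.1 hG.2.2) hw).2
      (RefHull.stalkMapₗ e.hom (genericPoint X) v)
    have hev : RefHull.stalkMapₗ e.hom (genericPoint X) v ≠ 0 :=
      (map_ne_zero_iff _ (hb _).1).mpr hv
    have hf0 : (f : X.functionField) ≠ 0 := fun h => hev (by
      rw [← hf, show f = 0 from h, map_zero])
    refine ⟨f, hf0, fun x hx => ?_⟩
    obtain ⟨u, hu⟩ := H29Ref.exists_isStalkGen_of_isRef1 hX F hF x hx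
    obtain ⟨g, hg⟩ := H29Ref.exists_isStalkGen_of_isRef1 hX G hG x hx
    have h1 := H29Ref.secO_map e.hom hx hu (hb x).2 (hb _) hv
    rw [← hf] at h1
    have h2 := H29Ref.secO_smul hx hg hw hf0
    exact h1.symm.trans (h2.trans (add_comm _ _))
  · rintro ⟨f, hf0, hf⟩
    have hw' : (f : X.presheaf.stalk (genericPoint X)) • w ≠ 0 := fun h => hf0
      ((H29Ref.bijective_toSpan (H29Ref.stalkFree_generic G hG.1 hG.2.2) hw).1
        (h.trans (map_zero _).symm))
    refine H29Ref.nonempty_iso_of_secO_eq hX hF hG hv hw' fun x hx => ?_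
    obtain ⟨g, hg⟩ := H29Ref.exists_isStalkGen_of_isRef1 hX G hG x hx
    exact (hf x hx).trans ((add_comm _ _).trans (H29Ref.secO_smul hx hg hw hf0).symm)

end Groth.Agent.S16086
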