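import Groth.Statements.S16087
import Groth.Agent.H29Ref.DivIdeal

set_option autoImplicit false
universe u
open CategoryTheory CategoryTheory.Limits AlgebraicGeometry TopologicalSpace
open SDiv

namespace Groth.Agent.S16087

/-- The class map takes values in Weil divisor classes and is surjective: suppose X is a normal scheme
that is integral and locally Noetherian, and denote its generic point by η. For a rank one coherent
reflexive O_X-module F and a nonzero rational section s ∈ F_η write ord_{x,F}(s) for the order of s
with respect to a generator of the free rank one O_{X,x}-module F_x at a point x of codimension 1.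
Then (1) the function sending a codimension-1 point x to ord_{x,F}(s) and every other point to 0 has
locally finite support, so it is a Weil divisor; and (2) every Weil divisor D on X (an
integer-valued function with locally finite support vanishing outside the codimension-1 points)
arises this way: D(x) = ord_{x,F}(s) at all codimension-1 points x for some rank one coherent
reflexive F and nonzero s ∈ F_η. -/
theorem result (X : Scheme.{u}) [IsIntegral X] [IsLocallyNoetherian X]
    (hX : Pi1.IsNormalScheme X) :
    (∀ (F : X.Modules) (hF : RefHull.IsRef1 F) (s : Cyc.secFibre F (genericPoint ↥X)), s ≠ 0 →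
        ∃ D : AlgebraicCycle X ℤ, (∀ x : ↥X, Order.coheight x ≠ 1 → D x = 0) ∧
          ∀ (x : ↥X), Order.coheight x = 1 →
            D x = Cyc.secOrdAt F (genericPoint ↥X) x ((genericPoint_spec ↥X).specializes (Set.mem_univ x)) s) ∧
      ∀ D : AlgebraicCycle X ℤ, (∀ x : ↥X, Order.coheight x ≠ 1 → D x = 0) →
        ∃ (F : X.Modules) (_ : RefHull.IsRef1 F) (s : Cyc.secFibre F (genericPoint ↥X)), s ≠ 0 ∧
          ∀ (x : ↥X), Order.coheight x = 1 →
            D x = Cyc.secOrdAt F (genericPoint ↥X) x ((genericPoint_spec ↥X).specializes (Set.mem_univ x)) s := by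
  constructor
  · intro F hF s hs
    obtain ⟨v, rfl⟩ := H29Ref.exists_rat_eq F s
    have hv := (H29Ref.rat_ne_zero_iff F v).mp hs
    classical
    refine ⟨⟨fun x => if Order.coheight x = 1 then H29Ref.secO F x v else 0, by simp, fun y _ => ?_⟩,
      fun x hx => if_neg hx, fun x hx => if_pos hx⟩
    obtain ⟨W, hW, hyW, -⟩ := exists_isAffineOpen_mem_and_subset (X := X) (x := y) (U := ⊤) trivial
    refine ⟨W, W.2.mem_nhds hyW, (H29Ref.finite_secO_ne_zero F hF.1
      (H29Ref.stalkFree_generic F hF.1 hF.2.2) v hv hW).subset ?_⟩
    rintro x ⟨hxW, hx⟩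
    by_cases hc : Order.coheight x = 1
    · exact ⟨hxW, hc, fun h => hx ((if_pos hc).trans h)⟩
    · exact absurd (if_neg hc) hx
  · intro D hD
    obtain ⟨F, hF, v, hv, hvD⟩ := H29Ref.exists_isRef1_hasOrd hX D
      (fun x hx => not_not.mp fun h => hx (hD x h)) fun W hW => by
        choose t ht htfin using fun y : X => D.supportLocallyFiniteWithinDomain' y (Set.mem_univ y)
        obtain ⟨T, hT⟩ := hW.isCompact.elim_nhds_subcover t fun y _ => ht y
        refine (T.finite_toSet.biUnion fun y _ => htfin y).subset ?_
        rintro z ⟨hzW, hz⟩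
        obtain ⟨y, hy, hzy⟩ := Set.mem_iUnion₂.mp (hT.2 hzW)
        exact Set.mem_iUnion₂.mpr ⟨y, hy, hzy, hz⟩
    exact ⟨F, hF, H29Ref.rat F v, (H29Ref.rat_ne_zero_iff F v).mpr hv, fun x hx => (hvD x hx).symm⟩

end Groth.Agent.S16087
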