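import Groth.Statements.S16089
import Groth.Agent.H11DetMod.Main

set_option autoImplicit false
universe u
open CategoryTheory CategoryTheory.Limits AlgebraicGeometry TopologicalSpace
open SDiv

namespace Groth.Agent.S16089

/-- Suppose X is an integral regular scheme (locally Noetherian, with every local ring regular) whose
dimension is at most 2. Consider an effective Cartier divisor D ⊆ X with ideal sheaf 𝓓, whose
associated closed subscheme is integral, and write i : D ⟶ X for the closed immersion. Take G to be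
a finite locally free O_D-module of rank s, and assume F ⟶ F' ⟶ i_*G ⟶ 0 is exact, where F and F'
are coherent O_X-modules that are both locally free of rank r on some common nonempty open subset.
Then, for any r-th exterior power L of F and L' of F', the reflexive hulls L^** and L'^** are
invertible O_X-modules, and there is an integer k with 0 ≤ k ≤ min(s, r) such that L'^** ≅ L^** ⊗
O_X(D)^{⊗ k}, where O_X(D) = 𝓗om(𝓓, O_X). Although the published version assumes X has dimension
exactly 2, the proof only needs dimension at most 2. -/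
theorem result (X : Scheme.{u}) [IsIntegral X] [IsLocallyNoetherian X]
    (hreg : ∀ x : ↥X, IsRegularLocalRing ↑(X.presheaf.stalk x)) (hdim : topologicalKrullDim ↥X ≤ 2)
    (𝓓 : X.IdealSheafData) (hD : BlowUp.IsEffCartierIdeal 𝓓) (hDi : IsIntegral 𝓓.subscheme) (s : ℕ)
    (G : (𝓓.subscheme).Modules) (hG : FlatMod.IsFinLocFreeOfRank s G) (F F' : X.Modules) (hF : Coh.IsCoh F)
    (hF' : Coh.IsCoh F') (a : F ⟶ F') (b : F' ⟶ (Scheme.Modules.pushforward 𝓓.subschemeι).obj G) (w : a ≫ b = 0)
    (hex : (ShortComplex.mk a b w).Exact) (hb : Epi b) (r : ℕ)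
    (hU : ∃ U : X.Opens, (U : Set ↥X).Nonempty ∧ FlatMod.IsFinLocFreeOfRank r (F.restrict U.ι) ∧
      FlatMod.IsFinLocFreeOfRank r (F'.restrict U.ι))
    (L L' : X.Modules) (hL : ExtPow.IsExtPow r F L) (hL' : ExtPow.IsExtPow r F' L') :
    PicF.IsInvertible (RefHull.ddual L) ∧ PicF.IsInvertible (RefHull.ddual L') ∧
      ∃ k : ℕ, k ≤ min s r ∧
        Nonempty (RefHull.ddual L' ≅
          CohB1.tensorMod (RefHull.ddual L) (CohB1.tensorPow (RefHull.dual (ClSub.idealMod 𝓓)) k)) := by
  open Groth.Agent.H11DetMod in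
  have hufd : ∀ x : X, UniqueFactorizationMonoid (X.presheaf.stalk x) := fun x => by
    haveI := hreg x
    exact H28Alg.ufd_of_regular _
  have hX : Pi1.IsNormalScheme X := fun x => by
    haveI := hufd x
    exact ⟨inferInstance, inferInstance⟩
  haveI := hb
  obtain ⟨U, ⟨x₀, hx₀⟩, hFU, hF'U⟩ := hU
  have hη : genericPoint X ∈ U := H11GenFibre.gen_mem hx₀
  have hfF := fun x hx => isFreeOfRankNear_of_restrict F U hFU x hx
  have hfF' := fun x hx => isFreeOfRankNear_of_restrict F' U hF'U x hx
  obtain ⟨B⟩ : H8Props.FunDescent.StalkFree F r (genericPoint X) :=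
    H8Props.FunDescent.stalkFree_of_isFreeOfRankNear F hF.1 (hfF _ hη)
  obtain ⟨C⟩ : H8Props.FunDescent.StalkFree F' r (genericPoint X) :=
    H8Props.FunDescent.stalkFree_of_isFreeOfRankNear F' hF'.1 (hfF' _ hη)
  have hηD : genericPoint X ∉ Set.range 𝓓.subschemeι := by
    rintro ⟨d, hd⟩
    obtain ⟨V, hV, f, -, hηV, hf0, hf, -⟩ := exists_chart 𝓓 hD (genericPoint X)
    have hdV : 𝓓.subschemeι d ∈ V := by rw [hd]; exact hηV
    have hk := (eq_unit_or_ker 𝓓 hV hf).2 d hdV
    have hu : IsUnit (X.presheaf.germ V (𝓓.subschemeι d) hdV f) := by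
      have hfield : IsField (X.presheaf.stalk (𝓓.subschemeι d)) := by
        rw [hd]; exact H11GenFibre.isField_generic' X
      letI := hfield.toField
      exact isUnit_iff_ne_zero.2 fun h0 =>
        hf0 (germ_injective_of_isIntegral X _ _ (h0.trans (map_zero _).symm))
    have h1 := hk ▸ Ideal.mem_span_singleton_self (X.presheaf.germ V (𝓓.subschemeι d) hdV f)
    rw [RingHom.mem_ker] at h1
    have h2 := hu.map (𝓓.subschemeι.stalkMap d).hom
    rw [h1] at h2
    exact not_isUnit_zero h2
  have hsurj : Function.Surjective (Algz.stalkMapₗ a (genericPoint X)) :=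
    stalk_surjective_of_notMem 𝓓.subschemeι a b w hex _ hηD
  let T : (Fin r → X.functionField) →ₗ[X.functionField] (Fin r → X.functionField) :=
    (C.equivFun.toLinearMap.comp (Algz.stalkMapₗ a (genericPoint X))).comp B.equivFun.symm.toLinearMap
  have hTs : Function.Surjective T :=
    C.equivFun.surjective.comp (hsurj.comp B.equivFun.symm.surjective)
  let e : F.presheaf.stalk (genericPoint X) ≃ₗ[X.functionField] F'.presheaf.stalk (genericPoint X) :=
    (B.equivFun.trans (LinearEquiv.ofBijective T ⟨LinearMap.injective_iff_surjective.2 hTs, hTs⟩)).trans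
      C.equivFun.symm
  have he : ∀ v, e v = Algz.stalkMapₗ a (genericPoint X) v := fun v => by
    show C.equivFun.symm (C.equivFun (Algz.stalkMapₗ a (genericPoint X) (B.equivFun.symm (B.equivFun v)))) = _
    rw [LinearEquiv.symm_apply_apply, LinearEquiv.symm_apply_apply]
  have hB : ∀ v, (B.map e).equivFun (Algz.stalkMapₗ a (genericPoint X) v) = B.equivFun v := fun v => by
    rw [← he]
    simp [Module.Basis.equivFun_apply]
  obtain ⟨k, hk, hδ⟩ := exists_exponent 𝓓 hD hDi hX hG hF hF' a b w hex B (B.map e) hB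
  obtain ⟨h1, v, hv, hgood⟩ := exists_hull B hX hufd hF hL U ⟨x₀, hx₀⟩ hfF
  obtain ⟨h2, v', hv', hgood'⟩ := exists_hull (B.map e) hX hufd hF' hL' U ⟨x₀, hx₀⟩ hfF'
  refine ⟨h1, h2, k, hk, H11DetMod.nonempty_iso 𝓓 (fun x => (hX x).2) hD h1 h2 v v' hv hv' k fun z hz => ?_⟩
  obtain ⟨δ, hδ0, hspan', hspan⟩ := hδ z hz
  exact ⟨δ, hδ0, hgood' z hz δ hspan', fun V hV f hzV hf => hgood z hz _ (hspan V hV f hzV hf)⟩

end Groth.Agent.S16089
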