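import Groth.Statements.S16092
import Groth.Agent.H29Ref.Ops
import Groth.Agent.H11Ample.Tensor

set_option autoImplicit false
universe u
open CategoryTheory CategoryTheory.Limits AlgebraicGeometry TopologicalSpace
open SDiv

namespace Groth.Agent.S16092

/-- Let X be an integral scheme that is locally Noetherian, with generic point η, let L and N be
invertible O_X-modules and s ∈ L_η, t ∈ N_η nonzero rational sections, with orders ord_{x,L}(s),
ord_{x,N}(t) along the prime divisors, i.e. at the points x with dim O_{X,x} = 1, taken with respect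
to generators of the stalks. Then L ⊗_{O_X} N has a nonzero rational section w with ord_{x,L ⊗ N}(w)
= ord_{x,L}(s) + ord_{x,N}(t) at every such x; hence the Weil divisor class of L ⊗ N is the sum of
the classes of L and N. The published statement names w as the product s·t; here only the existence
of such a w is asserted. -/
theorem result (X : Scheme.{u}) [IsIntegral X] [IsLocallyNoetherian X] (L N : X.Modules)
    (hL : PicF.IsInvertible L) (hN : PicF.IsInvertible N) (s : Cyc.secFibre L (genericPoint ↥X)) (hs : s ≠ 0)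
    (t : Cyc.secFibre N (genericPoint ↥X)) (ht : t ≠ 0) :
    ∃ w : Cyc.secFibre (CohB1.tensorMod L N) (genericPoint ↥X), w ≠ 0 ∧
      ∀ (x : ↥X), ringKrullDim ↑(X.presheaf.stalk x) = 1 →
        Cyc.secOrdAt (CohB1.tensorMod L N) (genericPoint ↥X) x ((genericPoint_spec ↥X).specializes (Set.mem_univ x)) w =
          Cyc.secOrdAt L (genericPoint ↥X) x ((genericPoint_spec ↥X).specializes (Set.mem_univ x)) s +
            Cyc.secOrdAt N (genericPoint ↥X) x ((genericPoint_spec ↥X).specializes (Set.mem_univ x)) t := by
  obtain ⟨v, rfl⟩ := H29Ref.exists_rat_eq L s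
  obtain ⟨u, rfl⟩ := H29Ref.exists_rat_eq N t
  have hv := (H29Ref.rat_ne_zero_iff L v).mp hs
  have hu := (H29Ref.rat_ne_zero_iff N u).mp ht
  have hfree : ∀ (M : X.Modules), PicF.IsInvertible M → ∀ x, H8Props.FunDescent.StalkFree M 1 x :=
    fun M hM x => by
      obtain ⟨U, hU, ⟨e⟩⟩ := hM x
      exact H8Props.FunDescent.stalkFree_of_isFreeOfRankNear M (H11Ample.isCoh_of_isInvertible hM).1
        ⟨U, hU, ⟨e ≪≫ (coproductUniqueIso fun _ : Fin 1 =>
          Coh.structureModule (U : Scheme.{u})).symm⟩⟩
  have hgen : ∀ (M : X.Modules), PicF.IsInvertible M → ∀ x, ∃ g, H29Ref.IsStalkGen M x g :=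
    fun M hM x => by
      have hc := H11Ample.isCoh_of_isInvertible hM
      refine H29Ref.exists_isStalkGen hc.1 (fun y => ?_) (hfree M hM _) x (hfree M hM x)
      obtain ⟨b⟩ := hfree M hM y
      haveI := Module.Free.of_basis b
      infer_instance
  refine ⟨H29Ref.rat _ (H16Derived.KFlat.Stalk.pair L N _ v u), (H29Ref.rat_ne_zero_iff _ _).mpr
    (H29Ref.pair_ne_zero (hfree L hL _) (hfree N hN _) hv hu), fun x hx => ?_⟩
  have hc : Order.coheight x = 1 := by
    rw [ringKrullDim_stalk_eq_coheight] at hx
    exact WithBot.coe_injective hx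
  obtain ⟨a, ha⟩ := hgen L hL x
  obtain ⟨b, hb⟩ := hgen N hN x
  exact H29Ref.secO_pair (hfree L hL _) (hfree N hN _) hc ha hb hv hu

end Groth.Agent.S16092
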