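import Groth.Statements.S16093
import Groth.Agent.H26Kosz.Twist

set_option autoImplicit false
universe u
open CategoryTheory AlgebraicGeometry Opposite
open KoszTw

namespace Groth.Agent.S16093

/-- Let X be a scheme, F a finite locally free O_X-module, L an invertible O_X-module, s : F → O_X a
cosection, λ : O_X → L an injective morphism (a global section of L) and t : F ⊗ L → O_X a cosection
of the twisted module compatible with s and λ, in the sense that λ(t(f ⊗ l)) = s(f) · l for all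
sections f of F and l of L over every open. Let K(F, s) and K(F ⊗ L, t) be Koszul complexes of s and
of t, with differentials ∂ and δ and with degree-p terms K_p(F, s) and K_p(F ⊗ L, t) the p-th
exterior powers of F and of F ⊗ L; fix q ≥ 0 and let θ : K_{q+1}(F ⊗ L, t) ≅ K_{q+1}(F, s) ⊗
L^{⊗(q+1)} be the identification Λ^{q+1}(F ⊗ L) ≅ Λ^{q+1} F ⊗ L^{⊗(q+1)} that sends (f_0 ⊗ l_0) ∧ ⋯
∧ (f_q ⊗ l_q) to (f_0 ∧ ⋯ ∧ f_q) ⊗ (l_0 ⊗ ⋯ ⊗ l_q) on sections over every affine open. Then the
kernel of the composite of θ with ∂_{q+1} ⊗ 1 : K_{q+1}(F, s) ⊗ L^{⊗(q+1)} → K_q(F, s) ⊗ L^{⊗(q+1)}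
equals the kernel of δ_{q+1} : K_{q+1}(F ⊗ L, t) → K_q(F ⊗ L, t), as subobjects of K_{q+1}(F ⊗ L,
t); in words, θ identifies Ker(δ_{q+1}) with Ker(∂_{q+1} ⊗ 1_{L^{⊗(q+1)}}). (The published statement
is for an arbitrary integer twist n and reads Ker(∂_{q+1} ⊗ 1_{L^{⊗n}}) = Ker(δ_{q+1}) ⊗
L^{⊗(n-q-1)}; that family follows from the case n = q + 1 stated here by tensoring with the
invertible module L^{⊗(n-q-1)}, negative tensor powers not being used here. The published hypothesis
is that s is non-zero, which forces λ to be injective when X is integral; injectivity of λ is what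
the argument uses and is assumed here directly, for an arbitrary scheme X: on the spectrum of k × k
with F = L = O_X, s = λ = multiplication by (1, 0) and t the identity, s is non-zero while the two
kernels differ.) -/
theorem result {X : Scheme.{u}} (F L : X.Modules)
    (hF : FlatMod.IsFinLocFree F) (hL : PicF.IsInvertible L)
    (s : F ⟶ Coh.structureModule X) (lam : Coh.structureModule X ⟶ L) [Mono lam]
    (t : CohB1.tensorMod F L ⟶ Coh.structureModule X) (htri : KoszTw.TwistTriangle s lam t)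
    (C : KoszSh.Cx F s) (D : KoszSh.Cx (CohB1.tensorMod F L) t) (q : ℕ) (θ : KoszTw.CxDecData C D (q + 1)) :
    Limits.kernelSubobject (θ.iso.hom ≫ KoszTw.tensorMap (C.K.d (q + 1) q) (𝟙 (CohB1.tensorPow L (q + 1)))) =
      Limits.kernelSubobject (D.K.d (q + 1) q) := by
  have key : ∀ (x : X) (W : X.Opens), x ∈ W → ∃ (V : X.Opens), V ≤ W ∧ x ∈ V ∧ ∀ z : Γ(D.K.X (q + 1), V),
      (θ.iso.hom ≫ KoszTw.tensorMap (C.K.d (q + 1) q) (𝟙 (CohB1.tensorPow L (q + 1)))).app V z = 0 ↔
        (D.K.d (q + 1) q).app V z = 0 := by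
    intro x W hx
    obtain ⟨U₀, n, hxU₀, ⟨e₀⟩⟩ := hF x
    obtain ⟨U, hxU, hUW, e, he⟩ := H26Kosz.exists_frame hL x (W ⊓ U₀) ⟨hx, hxU₀⟩
    obtain ⟨bF⟩ := H8Props.FinLocFree.exists_basis_of_chart F e₀ (hUW.trans inf_le_right)
    obtain ⟨b, hb⟩ := (he.bijective (le_refl U.1)).2 (lam.app U.1 (1 : Γ(X, U.1)))
    beta_reduce at hb
    rw [H10Coh.mres_self] at hb
    refine ⟨U.1, hUW.trans inf_le_left, hxU, fun z => ?_⟩
    obtain ⟨y, rfl⟩ := (H26Kosz.Φ_bijective C D he (q + 1)).2 z
    have h1 : (θ.iso.hom ≫ KoszTw.tensorMap (C.K.d (q + 1) q) (𝟙 (CohB1.tensorPow L (q + 1)))).app U.1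
        (H26Kosz.Φ C D he (q + 1) y) = H11Ample.tm ((C.K.d (q + 1) q).app U.1 y) (H11Ample.spow e (q + 1)) := by
      rw [Scheme.Modules.Hom.comp_app, ConcreteCategory.comp_apply, H26Kosz.iso_Φ C D he]
      exact KoszTw.tensorMap_tmul _ _ _ _ _
    rw [h1, show H11Ample.tm ((C.K.d (q + 1) q).app U.1 y) (H11Ample.spow e (q + 1)) =
      H26Kosz.tw _ (H11Ample.isGen_spow he (q + 1)) ((C.K.d (q + 1) q).app U.1 y) from rfl, LinearEquiv.map_eq_zero_iff,
      ← map_eq_zero_iff _ (H26Kosz.Φ_bijective C D he q).1, H26Kosz.Φ_d C D he lam hb.symm htri]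
    haveI : Module.Free Γ(X, U.1) Γ(CohB1.tensorMod F L, U.1) := Module.Free.of_basis (bF.map (H26Kosz.tw F he))
    haveI : Module.Free Γ(X, U.1) Γ(D.K.X q, U.1) := Module.Free.of_equiv (D.loc q U).symm
    refine ⟨fun h => ?_, fun h => by rw [h, smul_zero]⟩
    let B := Module.Free.chooseBasis Γ(X, U.1) Γ(D.K.X q, U.1)
    refine B.repr.injective (Finsupp.ext fun i => ?_)
    rw [map_zero, Finsupp.zero_apply]
    have h2 : b * B.repr ((D.K.d (q + 1) q).app U.1 (H26Kosz.Φ C D he (q + 1) y)) i = 0 := by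
      have := congrArg (fun v => B.repr v i) h
      simpa using this
    refine H10Coh.FibreLift.app_injective_of_mono lam U.1 ?_
    rw [H26Kosz.app_eq_smul, ← hb, smul_smul, mul_comm, h2, zero_smul]
    exact (map_zero _).symm
  refine le_antisymm ?_ ?_ <;> refine Limits.le_kernelSubobject _ _ (H26Kosz.eq_zero_of_local _ fun x W hx => ?_) <;>
    obtain ⟨V, hVW, hxV, hV⟩ := key x W hx <;> refine ⟨V, hVW, hxV, fun z => ?_⟩ <;>
    rw [Scheme.Modules.Hom.comp_app, ConcreteCategory.comp_apply]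
  · rw [← hV, ← ConcreteCategory.comp_apply, ← Scheme.Modules.Hom.comp_app, Limits.kernelSubobject_arrow_comp]
    rfl
  · rw [hV, ← ConcreteCategory.comp_apply, ← Scheme.Modules.Hom.comp_app, Limits.kernelSubobject_arrow_comp]
    rfl

end Groth.Agent.S16093
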