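import Groth.Statements.S16094
import Groth.Agent.H26Kosz.Twist

set_option autoImplicit false
universe u
open CategoryTheory AlgebraicGeometry Opposite
open KoszTw

namespace Groth.Agent.S16094

/-- Let X be a scheme, F a finite locally free O_X-module, L an invertible O_X-module, s : F → O_X and t
: F ⊗ L → O_X cosections and λ : O_X → L a global section such that λ(t(f ⊗ l)) = s(f) · l for all
sections f of F and l of L over every open. Let K(F, s) and K(F ⊗ L, t) be Koszul complexes of s and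
of t, with differentials ∂ and δ and degree-p terms K_p(F, s), K_p(F ⊗ L, t) the p-th exterior
powers of F and of F ⊗ L; fix q ≥ 0 and let θ : K_q(F ⊗ L, t) ≅ K_q(F, s) ⊗ L^{⊗q} be the
identification Λ^q(F ⊗ L) ≅ Λ^q F ⊗ L^{⊗q} that sends (f_1 ⊗ l_1) ∧ ⋯ ∧ (f_q ⊗ l_q) to (f_1 ∧ ⋯ ∧
f_q) ⊗ (l_1 ⊗ ⋯ ⊗ l_q) on sections over every affine open. Write L^{⊗(q+1)} as L^{⊗q} ⊗ L (no
associativity isomorphism is used). Then, as subobjects of (K_q(F, s) ⊗ L^{⊗q}) ⊗ L, the image of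
(∂_{q+1} ⊗ 1_{L^{⊗q}}) ⊗ 1_L : (K_{q+1}(F, s) ⊗ L^{⊗q}) ⊗ L → (K_q(F, s) ⊗ L^{⊗q}) ⊗ L equals the
image of the composite of K_{q+1}(F ⊗ L, t) ≅ K_{q+1}(F ⊗ L, t) ⊗ O_X, of δ_{q+1} ⊗ λ : K_{q+1}(F ⊗
L, t) ⊗ O_X → K_q(F ⊗ L, t) ⊗ L, and of θ ⊗ 1_L; in words, θ ⊗ 1_L identifies Im(δ_{q+1}) ⊗ λ(O_X)
with Im(∂_{q+1} ⊗ 1_{L^{⊗(q+1)}}). (The published statement is for an arbitrary integer twist n and
prints the right-hand side as Im(δ_{q+1}) ⊗ λ(O_X) ⊗ L^{⊗(n-q+1)}; the exponent that makes both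
sides subsheaves of Λ^q F ⊗ L^{⊗n}, and the one the argument yields, is n - q - 1, and that family
follows from the case n = q + 1 stated here by tensoring with the invertible module L^{⊗(n-q-1)},
negative tensor powers not being used here. The published hypothesis that s is non-zero is dropped:
the image identity needs no injectivity of λ.) -/
theorem result {X : Scheme.{u}} (F L : X.Modules)
    (hF : FlatMod.IsFinLocFree F) (hL : PicF.IsInvertible L)
    (s : F ⟶ Coh.structureModule X) (lam : Coh.structureModule X ⟶ L)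
    (t : CohB1.tensorMod F L ⟶ Coh.structureModule X) (htri : KoszTw.TwistTriangle s lam t)
    (C : KoszSh.Cx F s) (D : KoszSh.Cx (CohB1.tensorMod F L) t) (q : ℕ) (θ : KoszTw.CxDecData C D q) :
    Limits.imageSubobject (KoszTw.tensorMap (KoszTw.tensorMap (C.K.d (q + 1) q) (𝟙 (CohB1.tensorPow L q))) (𝟙 L)) =
      Limits.imageSubobject ((SecTwist.unitorR (D.K.X (q + 1))).inv ≫ KoszTw.tensorMap (D.K.d (q + 1) q) lam ≫
        KoszTw.tensorMap θ.iso.hom (𝟙 L)) := by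
  set A := KoszTw.tensorMap (KoszTw.tensorMap (C.K.d (q + 1) q) (𝟙 (CohB1.tensorPow L q))) (𝟙 L) with hA
  set B := (SecTwist.unitorR (D.K.X (q + 1))).inv ≫ KoszTw.tensorMap (D.K.d (q + 1) q) lam ≫
    KoszTw.tensorMap θ.iso.hom (𝟙 L) with hB
  have key : ∀ (x : X) (W : X.Opens), x ∈ W → ∃ (V : X.Opens), V ≤ W ∧ x ∈ V ∧
      (∀ z, ∃ z', B.app V z = A.app V z') ∧ (∀ z, ∃ z', A.app V z = B.app V z') := by
    intro x W hx
    obtain ⟨U, hxU, hUW, e, he⟩ := H26Kosz.exists_frame hL x W hx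
    obtain ⟨b, hb⟩ := (he.bijective (le_refl U.1)).2 (lam.app U.1 (1 : Γ(X, U.1)))
    beta_reduce at hb
    rw [H10Coh.mres_self] at hb
    have hAB : ∀ y, B.app U.1 (H26Kosz.Φ C D he (q + 1) y) =
        A.app U.1 (H11Ample.tm (H11Ample.tm y (H11Ample.spow e q)) e) := by
      intro y
      have h1 : (SecTwist.unitorR (D.K.X (q + 1))).inv.app U.1 (H26Kosz.Φ C D he (q + 1) y) =
          H11Ample.tm (H26Kosz.Φ C D he (q + 1) y) ((1 : Γ(X, U.1)) : Γ(Coh.structureModule X, U.1)) := by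
        have h2 : (SecTwist.unitorR (D.K.X (q + 1))).hom.app U.1
            (H11Ample.tm (H26Kosz.Φ C D he (q + 1) y) ((1 : Γ(X, U.1)) : Γ(Coh.structureModule X, U.1))) =
            H26Kosz.Φ C D he (q + 1) y :=
          (SecTwist.unitorR_tmul (D.K.X (q + 1)) U.1 (H26Kosz.Φ C D he (q + 1) y) (1 : Γ(X, U.1))).trans
            (one_smul Γ(X, U.1) (H26Kosz.Φ C D he (q + 1) y : Γ(D.K.X (q + 1), U.1)))
        conv_lhs => rw [← h2]
        rw [← ConcreteCategory.comp_apply, ← Scheme.Modules.Hom.comp_app, Iso.hom_inv_id]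
        rfl
      rw [hB, Scheme.Modules.Hom.comp_app, ConcreteCategory.comp_apply, h1, Scheme.Modules.Hom.comp_app,
        ConcreteCategory.comp_apply]
      erw [KoszTw.tensorMap_tmul, KoszTw.tensorMap_tmul]
      rw [hA]
      refine Eq.trans ?_ (((KoszTw.tensorMap_tmul _ _ U.1 _ _).trans
        (congrArg (fun w => H11Ample.tm w ((𝟙 L : L ⟶ L).app U.1 e)) (KoszTw.tensorMap_tmul _ _ U.1 _ _)))).symm
      change H11Ample.tm _ (lam.app U.1 (1 : Γ(X, U.1))) = H11Ample.tm (H11Ample.tm _ (H11Ample.spow e q)) e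
      rw [← hb, H11Ample.tm_smul_right, ← H11Ample.tm_smul_left, ← Scheme.Modules.Hom.app_smul,
        ← H26Kosz.Φ_d C D he lam hb.symm htri, H26Kosz.iso_Φ C D he]
    refine ⟨U.1, hUW, hxU, fun z => ?_, fun z => ?_⟩
    · obtain ⟨y, rfl⟩ := (H26Kosz.Φ_bijective C D he (q + 1)).2 z
      exact ⟨_, hAB y⟩
    · obtain ⟨w, rfl⟩ := (H26Kosz.bijective_tm' (M := CohB1.tensorMod (C.K.X (q + 1)) (CohB1.tensorPow L q)) he).2 z
      obtain ⟨y, rfl⟩ := (H26Kosz.bijective_tm' (M := C.K.X (q + 1)) (H11Ample.isGen_spow he q)).2 w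
      exact ⟨_, (hAB y).symm⟩
  have hle : ∀ {P Q : X.Modules} (f : P ⟶ CohB1.tensorMod (CohB1.tensorMod (C.K.X q) (CohB1.tensorPow L q)) L)
      (g : Q ⟶ CohB1.tensorMod (CohB1.tensorMod (C.K.X q) (CohB1.tensorPow L q)) L),
      (∀ (x : X) (W : X.Opens), x ∈ W → ∃ (V : X.Opens), V ≤ W ∧ x ∈ V ∧ ∀ z, ∃ z', f.app V z = g.app V z') →
        Limits.imageSubobject f ≤ Limits.imageSubobject g := by
    intro P Q f g h
    have h2 : f ≫ Limits.cokernel.π g = 0 := H26Kosz.eq_zero_of_local _ fun x W hx => by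
      obtain ⟨V, hVW, hxV, hV⟩ := h x W hx
      refine ⟨V, hVW, hxV, fun z => ?_⟩
      obtain ⟨z', hz'⟩ := hV z
      rw [Scheme.Modules.Hom.comp_app, ConcreteCategory.comp_apply, hz', ← ConcreteCategory.comp_apply,
        ← Scheme.Modules.Hom.comp_app, Limits.cokernel.condition]
      rfl
    rw [(ShortComplex.exact_iff_image_eq_kernel _).1 (ShortComplex.exact_cokernel g)]
    exact Limits.le_kernelSubobject _ _ (Limits.imageSubobject_arrow_comp_eq_zero h2)
  exact le_antisymm (hle A B fun x W hx => by obtain ⟨V, a, b, -, c⟩ := key x W hx; exact ⟨V, a, b, c⟩)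
    (hle B A fun x W hx => by obtain ⟨V, a, b, c, -⟩ := key x W hx; exact ⟨V, a, b, c⟩)

end Groth.Agent.S16094
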