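import Groth.Statements.S16098
import Groth.Agent.H23FunFld.Completion
import Groth.Agent.H23FunFld.Weil

set_option autoImplicit false
universe u
open AdFn

namespace Groth.Agent.S16098

/-- Let `K/k` be a function field of one variable (every element having finitely many poles, so that the
diagonal `K → A_K` exists), `A_K = ∏'_v (K_v, O_v)` its adele ring over all places, and `S` a
nonempty set of places. (1) For every adele `a` some `f ∈ K` has `a_v - f ∈ O_v` at every place `v ∉
S`: `A_K` is the sum of the principal adeles and the adeles integral outside `S`. (2) An adele `b`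
with `b_v = 0` for `v ∉ S` is a principal adele plus an everywhere-integral adele exactly when some
`S`-integer `f ∈ K` has `b_v - f ∈ O_v` for every `v ∈ S`. (The published statement is for a curve
over an algebraically closed field, possibly singular; here it is stated for the places of a
function field `K/k` of one variable over any field `k` algebraically closed in `K`.) -/
theorem result (k K : Type u) [Field k] [Field K]
    [Algebra k K] (hK : FunFld.IsFunctionField k K) [AdFn.HasFinitePoles k K]
    (S : Set (FunFld.Place k K)) (hS : S.Nonempty) :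
    (∀ a : AdFn.AdeleRing k K, ∃ f : K, ∀ v : FunFld.Place k K, v ∉ S →
        AdFn.AdeleRing.proj v (a - AdFn.AdeleRing.diag f) ∈ AdFn.Ov v) ∧
    (∀ b : AdFn.AdeleRing k K, (∀ v : FunFld.Place k K, v ∉ S → AdFn.AdeleRing.proj v b = 0) →
        ((∃ f : K, ∀ v : FunFld.Place k K, AdFn.AdeleRing.proj v (b - AdFn.AdeleRing.diag f) ∈ AdFn.Ov v) ↔
          ∃ f ∈ AdFn.SInt S, ∀ v ∈ S, AdFn.AdeleRing.proj v b - AdFn.toKv v f ∈ AdFn.Ov v)) := by
  classical
  refine ⟨fun a => ?_, fun b hb => ⟨?_, ?_⟩⟩
  · choose b hb using fun v : FunFld.Place k K => H23FunFld.exists_sub_mem_Ov v (AdFn.AdeleRing.proj v a)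
    let c : FunFld.Place k K → K := fun v => if AdFn.AdeleRing.proj v a ∈ AdFn.Ov v then 0 else b v
    have hc : ∀ v, AdFn.AdeleRing.proj v a - AdFn.toKv v (c v) ∈ AdFn.Ov v := fun v => by
      by_cases h : AdFn.AdeleRing.proj v a ∈ AdFn.Ov v
      · simp only [c, if_pos h, map_zero, sub_zero]; exact h
      · simp only [c, if_neg h]; exact hb v
    have hcA : c ∈ FunFld.adele k K := by
      change ∀ᶠ v in Filter.cofinite, _
      refine a.2.mono fun v hv => ?_
      have h : c v = 0 := if_pos hv
      rw [h, map_zero]; exact zero_le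
    obtain ⟨P, hP⟩ := hS
    obtain ⟨N, hN⟩ := H23FunFld.exists_large_deg hK
    set E : FunFld.Divisor k K := Finsupp.single P (N.toNat : ℤ)
    have hE : H23FunFld.phi E = FunFld.genus k K := by
      refine hN E ?_
      rw [H23FunFld.deg_single]
      have h1 : (1 : ℤ) ≤ P.deg := by have := H23FunFld.deg_pos hK P; omega
      have h2 : (N.toNat : ℤ) * 1 ≤ (N.toNat : ℤ) * P.deg := mul_le_mul_of_nonneg_left h1 (Int.natCast_nonneg _)
      omega
    obtain ⟨d, hd, _, ⟨f, rfl⟩, hdf⟩ :=
      Submodule.mem_sup.1 ((H23FunFld.adele_eq hK hE).symm ▸ hcA : c ∈ FunFld.AD E ⊔ LinearMap.range (FunFld.diag k K))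
    refine ⟨f, fun v hv => ?_⟩
    have hne : v ≠ P := fun h => hv (h ▸ hP)
    have hdv : d v = c v - f := by rw [← hdf]; exact (add_sub_cancel_right (d v) f).symm
    rw [map_sub, show AdFn.AdeleRing.proj v (AdFn.AdeleRing.diag f) = AdFn.toKv v f from rfl,
      show AdFn.AdeleRing.proj v a - AdFn.toKv v f = (AdFn.AdeleRing.proj v a - AdFn.toKv v (c v)) +
        AdFn.toKv v (d v) by rw [hdv, map_sub]; ring]
    refine add_mem (hc v) ((AdFn.toKv_mem_Ov v _).2 ?_)
    simpa [E, Finsupp.single_eq_of_ne hne] using hd v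
  · rintro ⟨f, hf⟩
    refine ⟨f, fun v hv => (AdFn.toKv_mem_Ov v f).1 ?_, fun v _ => ?_⟩
    · have h := hf v
      rw [map_sub, hb v hv, zero_sub, show AdFn.AdeleRing.proj v (AdFn.AdeleRing.diag f) = AdFn.toKv v f from rfl] at h
      simpa using neg_mem h
    · have h := hf v
      rwa [map_sub] at h
  · rintro ⟨f, hfS, hf⟩
    refine ⟨f, fun v => ?_⟩
    rw [map_sub, show AdFn.AdeleRing.proj v (AdFn.AdeleRing.diag f) = AdFn.toKv v f from rfl]
    by_cases hv : v ∈ S
    · exact hf v hv
    · rw [hb v hv, zero_sub]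
      exact neg_mem ((AdFn.toKv_mem_Ov v f).2 (hfS v hv))

end Groth.Agent.S16098
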