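import Groth.Statements.S16099
import Groth.Agent.H23FunFld.Weil

set_option autoImplicit false
universe u
open FunFld

namespace Groth.Agent.S16099

/-- For a function field `K/k` of one variable of genus `g` and any place `P`, the `k`-space `K /
(O_{\{P\}} + O_P)` is finite-dimensional of dimension `g` (the number of Weierstrass gaps when `P`
is rational), where `O_{\{P\}}` is the ring of elements of `K` integral at every place other than
`P` and `O_P` is the valuation ring of `P` (written as the elements integral at every place outside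
the complement of `\{P\}`). (The published example is for a curve over an algebraically closed field
and is stated with completions at `P`; this is the equivalent form inside `K`, over any field `k`
algebraically closed in `K`.) -/
theorem result (k K : Type u) [Field k] [Field K]
    [Algebra k K] (hK : FunFld.IsFunctionField k K) (P : FunFld.Place k K) :
    FiniteDimensional k (K ⧸ (Subalgebra.toSubmodule (AdFn.SInt ({P} : Set (FunFld.Place k K))) ⊔
        Subalgebra.toSubmodule (AdFn.SInt (({P} : Set (FunFld.Place k K))ᶜ)))) ∧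
    Module.finrank k (K ⧸ (Subalgebra.toSubmodule (AdFn.SInt ({P} : Set (FunFld.Place k K))) ⊔
        Subalgebra.toSubmodule (AdFn.SInt (({P} : Set (FunFld.Place k K))ᶜ)))) = FunFld.genus k K := by
  classical
  obtain ⟨hfin, hrank⟩ := Groth.Agent.H23FunFld.finrank_quotient_ADK hK (0 : FunFld.Divisor k K)
  rw [Groth.Agent.H23FunFld.phi_zero hK, sub_zero] at hrank
  set S₁ := Subalgebra.toSubmodule (AdFn.SInt ({P} : Set (FunFld.Place k K)))
  set S₂ := Subalgebra.toSubmodule (AdFn.SInt (({P} : Set (FunFld.Place k K))ᶜ))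
  have hS₁ : ∀ x, x ∈ S₁ ↔ ∀ Q : FunFld.Place k K, Q ≠ P → Q.1 x ≤ 1 := fun x => Iff.rfl
  have hS₂ : ∀ x, x ∈ S₂ ↔ P.1 x ≤ 1 := fun x =>
    ⟨fun h => h P (by simp), fun h Q hQ => by
      have : Q = P := by simpa using hQ
      rw [this]; exact h⟩
  have hsing : ∀ x : K, Pi.single P x ∈ FunFld.adele k K := by
    intro x
    change ∀ᶠ Q in Filter.cofinite, _
    rw [Filter.eventually_cofinite]
    refine (Set.finite_singleton P).subset fun Q hQ => ?_
    by_contra hne
    refine hQ ?_
    rw [Pi.single_eq_of_ne hne, map_zero]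
    exact zero_le
  let f : K →ₗ[k] ↥(FunFld.adele k K) ⧸ FunFld.ADK (0 : FunFld.Divisor k K) :=
    (FunFld.ADK (0 : FunFld.Divisor k K)).mkQ ∘ₗ
      (LinearMap.single k (fun _ : FunFld.Place k K => K) P).codRestrict (FunFld.adele k K) hsing
  have hker : LinearMap.ker f = S₁ ⊔ S₂ := by
    ext x
    rw [LinearMap.mem_ker]
    change (FunFld.ADK (0 : FunFld.Divisor k K)).mkQ ⟨Pi.single P x, hsing x⟩ = 0 ↔ _
    rw [Submodule.mkQ_apply, Submodule.Quotient.mk_eq_zero]
    change Pi.single P x ∈ FunFld.AD (0 : FunFld.Divisor k K) ⊔ LinearMap.range (FunFld.diag k K) ↔ _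
    constructor
    · intro h
      obtain ⟨a, ha, _, ⟨z, rfl⟩, haz⟩ := Submodule.mem_sup.1 h
      have key : ∀ Q : FunFld.Place k K, Q.1 ((Pi.single P x : FunFld.Place k K → K) Q - z) ≤ 1 := fun Q => by
        rw [← haz]; simpa [FunFld.diag] using ha Q
      refine Submodule.mem_sup.2 ⟨z, (hS₁ z).2 fun Q hQ => ?_, x - z, (hS₂ _).2 ?_, by ring⟩
      · simpa [Pi.single_eq_of_ne hQ] using key Q
      · simpa using key P
    · intro h
      obtain ⟨z, hz, w, hw, rfl⟩ := Submodule.mem_sup.1 h
      refine Submodule.mem_sup.2 ⟨Pi.single P (z + w) - FunFld.diag k K z, fun Q => ?_, _, ⟨z, rfl⟩, sub_add_cancel _ _⟩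
      rw [Finsupp.coe_zero, Pi.zero_apply, WithZero.exp_zero, Pi.sub_apply]
      change Q.1 (_ - z) ≤ 1
      rcases eq_or_ne Q P with rfl | hQ
      · rw [Pi.single_eq_same, add_sub_cancel_left]; exact (hS₂ w).1 hw
      · rw [Pi.single_eq_of_ne hQ, zero_sub, Valuation.map_neg]; exact (hS₁ z).1 hz Q hQ
  have hsurj : Function.Surjective f := by
    intro c
    induction c using Submodule.Quotient.induction_on with
    | _ a =>
    obtain ⟨N, hN⟩ := Groth.Agent.H23FunFld.exists_large_deg hK
    set E : FunFld.Divisor k K := Finsupp.single P (N.toNat : ℤ)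
    have hE : Groth.Agent.H23FunFld.phi E = FunFld.genus k K := by
      refine hN E ?_
      rw [Groth.Agent.H23FunFld.deg_single]
      have h1 : (1 : ℤ) ≤ P.deg := by have := Groth.Agent.H23FunFld.deg_pos hK P; omega
      have h2 : (N.toNat : ℤ) * 1 ≤ (N.toNat : ℤ) * P.deg := mul_le_mul_of_nonneg_left h1 (Int.natCast_nonneg _)
      omega
    have ha : (a : FunFld.Place k K → K) ∈ FunFld.AD E ⊔ LinearMap.range (FunFld.diag k K) :=
      (Groth.Agent.H23FunFld.adele_eq hK hE).symm ▸ a.2
    obtain ⟨b, hb, _, ⟨z, rfl⟩, hbz⟩ := Submodule.mem_sup.1 ha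
    refine ⟨b P, ?_⟩
    change (FunFld.ADK (0 : FunFld.Divisor k K)).mkQ ⟨Pi.single P (b P), hsing _⟩ = _
    rw [Submodule.mkQ_apply, Submodule.Quotient.eq]
    change Pi.single P (b P) - (a : FunFld.Place k K → K) ∈
      FunFld.AD (0 : FunFld.Divisor k K) ⊔ LinearMap.range (FunFld.diag k K)
    rw [← hbz, sub_add_eq_sub_sub]
    refine sub_mem (Submodule.mem_sup_left fun Q => ?_) (Submodule.mem_sup_right ⟨z, rfl⟩)
    rw [Finsupp.coe_zero, Pi.zero_apply, WithZero.exp_zero, Pi.sub_apply]
    rcases eq_or_ne Q P with rfl | hQ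
    · rw [Pi.single_eq_same, sub_self, map_zero]; exact zero_le
    · rw [Pi.single_eq_of_ne hQ, zero_sub, Valuation.map_neg]
      simpa [E, Finsupp.single_eq_of_ne hQ] using hb Q
  let e := (Submodule.quotEquivOfEq _ _ hker.symm).trans (f.quotKerEquivOfSurjective hsurj)
  exact ⟨e.symm.finiteDimensional, by rw [e.finrank_eq]; exact_mod_cast hrank⟩

end Groth.Agent.S16099
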