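import Groth.Statements.S1610
import Mathlib
import Groth.Agent.H06EGA14b.GeomReducedComp

set_option autoImplicit false
universe u
open CategoryTheory CategoryTheory.Limits AlgebraicGeometry
open Variety

namespace Groth.Agent.S1610

/-- Let k have characteristic p > 0, X a scheme over k and x a point. Then X is geometrically reduced at
x if and only if for every finite purely inseparable extension k' of k and every point x' of X_{k'}
over x, the local ring of X_{k'} at x' is reduced. -/
theorem result (k : Type u) [Field k] (p : ℕ) [Fact p.Prime] [CharP k p]
    (X : Scheme.{u}) [X.Over (Spec (CommRingCat.of k))] (x : X) :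
    Curv2.IsGeomReducedAt k X x ↔
      ∀ (k' : Type u) [Field k'] [Algebra k k'] [FiniteDimensional k k'] [IsPurelyInseparable k k']
        (x' : Curv2.bc k X k'), Curv2.bcFst k X k' x' = x → IsReduced ((Curv2.bc k X k').presheaf.stalk x') := by
  refine ⟨fun h k' _ _ _ _ x' hx' => h k' x' hx', fun h => ?_⟩
  exact Groth.Agent.H06EGA14b.isGeomReducedAt_of_purelyInseparable (X ↘ Spec (CommRingCat.of k)) x
    fun K _ _ _ _ v' hv' => h K v' hv'

end Groth.Agent.S1610
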