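import Groth.Statements.S16100
import Groth.Agent.H23FunFld.Completion
import Groth.Agent.S16099

set_option autoImplicit false
universe u
open AdFn

namespace Groth.Agent.S16100

/-- For a function field `K/k` of one variable of genus `g` and any place `P` with completion `K_P` and
valuation ring `O_P ⊆ K_P`, the `k`-space `K_P / (O_{\{P\}} + O_P)`, where `O_{\{P\}} ⊆ K ⊆ K_P` is
the ring of elements of `K` integral at every place other than `P`, is finite-dimensional of
dimension `g` (the number of Weierstrass gaps when `P` is rational). (The published example is for a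
curve over an algebraically closed field; here any field `k` algebraically closed in `K` and any
place `P` are allowed.) -/
theorem result (k K : Type u) [Field k] [Field K]
    [Algebra k K] (hK : FunFld.IsFunctionField k K) (P : FunFld.Place k K) :
    FiniteDimensional k (AdFn.Kv P ⧸
        (Subalgebra.toSubmodule ((AdFn.SInt ({P} : Set (FunFld.Place k K))).map
            (IsScalarTower.toAlgHom k K (AdFn.Kv P))) ⊔
          Submodule.span k (AdFn.Ov P : Set (AdFn.Kv P)))) ∧
    Module.finrank k (AdFn.Kv P ⧸
        (Subalgebra.toSubmodule ((AdFn.SInt ({P} : Set (FunFld.Place k K))).map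
            (IsScalarTower.toAlgHom k K (AdFn.Kv P))) ⊔
          Submodule.span k (AdFn.Ov P : Set (AdFn.Kv P)))) = FunFld.genus k K := by
  obtain ⟨hfin, hrank⟩ := Groth.Agent.S16099.result k K hK P
  set S₁ := Subalgebra.toSubmodule (AdFn.SInt ({P} : Set (FunFld.Place k K)))
  set S₂ := Subalgebra.toSubmodule (AdFn.SInt (({P} : Set (FunFld.Place k K))ᶜ))
  set W := Subalgebra.toSubmodule ((AdFn.SInt ({P} : Set (FunFld.Place k K))).map
      (IsScalarTower.toAlgHom k K (AdFn.Kv P))) ⊔ Submodule.span k (AdFn.Ov P : Set (AdFn.Kv P))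
  let f : K →ₗ[k] AdFn.Kv P ⧸ W := W.mkQ ∘ₗ (IsScalarTower.toAlgHom k K (AdFn.Kv P)).toLinearMap
  have hsurj : Function.Surjective f := fun c => by
    induction c using Submodule.Quotient.induction_on with
    | _ a =>
    obtain ⟨x, hx⟩ := H23FunFld.exists_sub_mem_Ov P a
    refine ⟨x, ((Submodule.Quotient.eq W).2 ?_).symm⟩
    exact Submodule.mem_sup_right (Submodule.subset_span hx)
  have hker : LinearMap.ker f = S₁ ⊔ S₂ := by
    ext x
    rw [LinearMap.mem_ker]
    change W.mkQ (AdFn.toKv P x) = 0 ↔ _
    rw [Submodule.mkQ_apply, Submodule.Quotient.mk_eq_zero]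
    constructor
    · intro h
      obtain ⟨_, ⟨z, hz, rfl⟩, o, ho, hzo⟩ := Submodule.mem_sup.1 h
      rw [← SetLike.mem_coe, H23FunFld.span_Ov] at ho
      refine Submodule.mem_sup.2 ⟨z, hz, x - z, fun Q hQ => ?_, add_sub_cancel _ _⟩
      have hQP : Q = P := by simpa using hQ
      subst hQP
      rw [← AdFn.toKv_mem_Ov, map_sub, ← hzo]
      simpa using ho
    · intro h
      obtain ⟨z, hz, o, ho, rfl⟩ := Submodule.mem_sup.1 h
      rw [map_add]
      refine Submodule.add_mem_sup ⟨z, hz, rfl⟩ (Submodule.subset_span ((AdFn.toKv_mem_Ov P o).2 (ho P ?_)))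
      simp
  let e := (Submodule.quotEquivOfEq _ _ hker.symm).trans (f.quotKerEquivOfSurjective hsurj)
  exact ⟨e.finiteDimensional, e.finrank_eq.symm.trans hrank⟩

end Groth.Agent.S16100
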