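import Groth.Statements.S16102
import Groth.Agent.LeadBC.GenBC.ZeroApply

set_option autoImplicit false
universe u
open Coherent

namespace Groth.Agent.S16102

open AlgebraicGeometry CategoryTheory Scheme.Modules in
/-- p = 2: let π : X → Y be proper of finite presentation and F a quasi-coherent O_X-module of finite
presentation, flat over Y. Suppose that for every point y of Y, H^2(X_y, F|_{X_y}) = 0 (cohomology
of the restriction of F to the scheme-theoretic fibre) and the degree-0 base change map of the fibre
square at y, κ(y)^* π_* F → (X_y → Spec κ(y))_* (F|_{X_y}) — the adjoint of π_* of the unit F → ι_*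
ι^* F for ι : X_y → X, followed by the identification π_* ι_* = (Spec κ(y) → Y)_* (X_y → Spec
κ(y))_* — is an epimorphism. Then R^1 π_* F, the first right derived functor of π_* on O_X-modules
applied to F, is a finite locally free O_Y-module. (The case p = 2 of the source's statement for an
integer p, whose surjectivity hypothesis in degree p - 2 concerns a higher base change map when p is
at least 3 and is empty when p is at most 1.) -/
theorem result
    {X Y : Scheme.{u}} (π : X ⟶ Y) [IsProper π] [LocallyOfFinitePresentation π]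
    [HasInjectiveResolutions X.Modules]
    (F : X.Modules) [Coh.IsQCoh F] (hfp : CohB1.IsFP F) (hfl : FlatMod.IsFlatOver π F)
    (h2 : ∀ y : Y, Subsingleton (CohIII.fiberH π F y 2))
    (h0 : ∀ y : Y, Epi (((pullbackPushforwardAdjunction (Y.fromSpecResidueField y)).homEquiv ((pushforward π).obj F)
            ((pushforward (π.fiberToSpecResidueField y)).obj ((pullback (π.fiberι y)).obj F))).symm
          ((pushforward π).map ((pullbackPushforwardAdjunction (π.fiberι y)).unit.app F) ≫
            (pushforwardComp (π.fiberι y) π).hom.app ((pullback (π.fiberι y)).obj F) ≫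
            (pushforwardCongr (π.fiber_fac y)).hom.app ((pullback (π.fiberι y)).obj F) ≫
            (pushforwardComp (π.fiberToSpecResidueField y) (Y.fromSpecResidueField y)).inv.app ((pullback (π.fiberι y)).obj F)))) :
    FlatMod.IsFinLocFree ((Coh.Rpush π 1).obj F) := by
  haveI : F.IsQuasicoherent := ‹Coh.IsQCoh F›
  refine Groth.Agent.LeadBC.GenBC.isFinLocFree_of_exact_all π F hfp hfl 1 fun y => ?_
  obtain ⟨W₁, hW₁, h₁, -, hm₁, -⟩ := Groth.Agent.LeadBC.GenBC.exists_vanishing_nhd π F hfp hfl 2 (h2 y)
  have hsq : IsPullback (π.fiberι y) (π.fiberToSpecResidueField y) π (Y.fromSpecResidueField y) :=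
    IsPullback.of_hasPullback π (Y.fromSpecResidueField y)
  obtain ⟨W₂, hW₂, h₂, he₂⟩ := Groth.Agent.LeadBC.GenBC.exists_epiOn_of_epi_zero π F hfp hfl hsq y
    (fun z => Scheme.fromSpecResidueField_apply y z) (by rw [Groth.Agent.LeadBC.GenBC.τ₀_eq]; exact h0 y)
  obtain ⟨W, hW, hy, e, m, -⟩ := Groth.Agent.LeadBC.GenBC.exists_exact_nhd π F hfp hfl h₁
    ((Groth.Agent.LeadBC.GenBC.monoOn_succ_iff π F hW₁ hfp hfl 1).1 hm₁) h₂ he₂
  exact ⟨W, hW, hy, e, m⟩

end Groth.Agent.S16102
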