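import Groth.Statements.S16104
import Mathlib.RingTheory.Length
import Mathlib.RingTheory.Ideal.KrullsHeightTheorem

set_option autoImplicit false
universe u v
open LunaSt

namespace Groth.Agent.S16104
theorem artinian_quot {A : Type*} [CommRing A] [IsLocalRing A] [IsNoetherianRing A] (n : ℕ) :
    IsArtinianRing (A ⧸ IsLocalRing.maximalIdeal A ^ (n + 1)) := by
  refine IsLocalRing.quotient_artinian_of_mem_minimalPrimes_of_isLocalRing _ ?_
  refine ⟨⟨Ideal.IsMaximal.isPrime inferInstance, Ideal.pow_le_self (Nat.succ_ne_zero n)⟩, fun J hJ _ => ?_⟩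
  intro x hx
  exact hJ.1.mem_of_pow_mem (n + 1) (hJ.2 (Ideal.pow_mem_pow hx (n + 1)))


/-- Case of local rings. Let φ : A → B be a local homomorphism of Noetherian local rings whose composite
A → B/m_B² is surjective (the first infinitesimal neighbourhoods give a closed immersion), and
assume that A/m_A^(n+1) and B/m_B^(n+1) have the same length for every n (the associated graded
modules of the two maximal ideals have pieces of the same dimension over the common residue field).
Then for every n the composite A → B/m_B^(n+1) is surjective with kernel m_A^(n+1): φ identifies all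
infinitesimal neighbourhoods. (The published statement is for a pointed morphism of Noetherian local
algebraic stacks; its proof reduces to this case of local rings.) -/
theorem result
    (A : Type u) (B : Type v) [CommRing A] [CommRing B] [IsLocalRing A] [IsLocalRing B]
    [IsNoetherianRing A] [IsNoetherianRing B] (φ : A →+* B) [IsLocalHom φ]
    (h1 : Function.Surjective ((Ideal.Quotient.mk (IsLocalRing.maximalIdeal B ^ 2)).comp φ))
    (hlen : ∀ n : ℕ, Module.length A (A ⧸ IsLocalRing.maximalIdeal A ^ (n + 1)) =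
      Module.length B (B ⧸ IsLocalRing.maximalIdeal B ^ (n + 1))) (n : ℕ) :
    Function.Surjective ((Ideal.Quotient.mk (IsLocalRing.maximalIdeal B ^ (n + 1))).comp φ) ∧
      RingHom.ker ((Ideal.Quotient.mk (IsLocalRing.maximalIdeal B ^ (n + 1))).comp φ) =
        IsLocalRing.maximalIdeal A ^ (n + 1) := by
  let m := IsLocalRing.maximalIdeal A
  let q := IsLocalRing.maximalIdeal B
  have hphi : ∀ {a k}, a ∈ m ^ k → φ a ∈ q ^ k := by
    intro a k ha
    have h1 : (m ^ k).map φ ≤ q ^ k := by
      rw [Ideal.map_pow]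
      exact Ideal.pow_right_mono (((IsLocalRing.local_hom_TFAE φ).out 0 2).1 ‹IsLocalHom φ›) k
    exact h1 (Ideal.mem_map_of_mem φ ha)
  have h2 : ∀ b : B, ∃ a, b - φ a ∈ q ^ 2 := fun b => by
    obtain ⟨a, ha⟩ := h1 (Ideal.Quotient.mk _ b)
    exact ⟨a, Ideal.Quotient.eq.1 ha.symm⟩
  have h3 : ∀ k, ∀ y ∈ q ^ k, ∃ a ∈ m ^ k, y - φ a ∈ q ^ (k + 1) := by
    intro k
    induction k with
    | zero =>
      intro y _
      obtain ⟨a, ha⟩ := h2 y
      exact ⟨a, by simp, Ideal.pow_le_pow_right one_le_two ha⟩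
    | succ k ih =>
      intro y hy
      rw [pow_succ] at hy
      induction hy using Submodule.mul_induction_on' with
      | mem_mul_mem y₁ hy₁ y₂ hy₂ =>
        obtain ⟨a₁, ha₁, hr₁⟩ := ih y₁ hy₁
        obtain ⟨a₂, hr₂⟩ := h2 y₂
        have ha₂ : a₂ ∈ m := by
          have hq : φ a₂ ∈ q := by
            have := sub_mem hy₂ (Ideal.pow_le_self two_ne_zero hr₂)
            simpa using this
          by_contra hc
          exact hq (IsUnit.map φ (by simpa [m] using hc))
        refine ⟨a₁ * a₂, pow_succ m k ▸ Ideal.mul_mem_mul ha₁ ha₂, ?_⟩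
        have e : y₁ * y₂ - φ (a₁ * a₂) = (y₁ - φ a₁) * y₂ + φ a₁ * (y₂ - φ a₂) := by
          rw [map_mul]; ring
        rw [e]
        refine add_mem ?_ ?_
        · rw [pow_succ _ (k + 1)]; exact Ideal.mul_mem_mul hr₁ hy₂
        · rw [show k + 1 + 1 = k + 2 from rfl, pow_add]; exact Ideal.mul_mem_mul (hphi ha₁) hr₂
      | add y₁ _ y₂ _ i₁ i₂ =>
        obtain ⟨a₁, ha₁, hr₁⟩ := i₁
        obtain ⟨a₂, ha₂, hr₂⟩ := i₂
        refine ⟨a₁ + a₂, add_mem ha₁ ha₂, ?_⟩
        rw [map_add, add_sub_add_comm]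
        exact add_mem hr₁ hr₂
  have h4 : ∀ k, ∀ b : B, ∃ a, b - φ a ∈ q ^ k := by
    intro k
    induction k with
    | zero => exact fun b => ⟨0, by simp⟩
    | succ k ih =>
      intro b
      obtain ⟨a, ha⟩ := ih b
      obtain ⟨a', -, ha'⟩ := h3 k _ ha
      exact ⟨a + a', by rw [map_add, ← sub_sub]; exact ha'⟩
  let ψ := (Ideal.Quotient.mk (q ^ (n + 1))).comp φ
  have hsurj : Function.Surjective ψ := fun z => by
    obtain ⟨b, rfl⟩ := Ideal.Quotient.mk_surjective z
    obtain ⟨a, ha⟩ := h4 (n + 1) b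
    exact ⟨a, (Ideal.Quotient.eq.2 ha).symm⟩
  refine ⟨hsurj, ?_⟩
  letI := φ.toAlgebra
  haveI := artinian_quot (A := A) n
  let Q := B ⧸ q ^ (n + 1)
  have hker : m ^ (n + 1) ≤ RingHom.ker ψ := fun a ha => Ideal.Quotient.eq_zero_iff_mem.2 (hphi ha)
  haveI : IsScalarTower A B Q := IsScalarTower.of_algebraMap_eq fun a => rfl
  have hQ : Module.length A Q = Module.length B Q := by
    rw [Module.length_eq_of_surjective (R := Q) (S := A) (M := Q) hsurj,
      Module.length_eq_of_surjective (R := Q) (S := B) (M := Q) Ideal.Quotient.mk_surjective]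
  let g : (A ⧸ m ^ (n + 1)) →ₗ[A] Q := (Ideal.Quotient.liftₐ (m ^ (n + 1)) (Algebra.ofId A Q) (fun a ha => hker ha)).toLinearMap
  have hg : Function.Surjective g := fun z => by
    obtain ⟨a, rfl⟩ := hsurj z
    exact ⟨Ideal.Quotient.mk _ a, rfl⟩
  have hadd := Module.length_eq_add_of_exact (LinearMap.ker g).subtype g (Submodule.subtype_injective _) hg
    (LinearMap.exact_subtype_ker_map g)
  rw [hQ, ← hlen n] at hadd
  have hfin : Module.length A (A ⧸ m ^ (n + 1)) ≠ ⊤ := by
    rw [Module.length_eq_of_surjective (R := A ⧸ m ^ (n + 1)) Ideal.Quotient.mk_surjective]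
    exact Module.length_ne_top
  have h0 : Module.length A (LinearMap.ker g) = 0 := by
    obtain ⟨N, hN⟩ := ENat.ne_top_iff_exists.1 hfin
    rw [← hN] at hadd
    generalize Module.length A (LinearMap.ker g) = l at hadd
    induction l using ENat.recTopCoe with
    | top => simp at hadd
    | coe l =>
      rw [← Nat.cast_add, Nat.cast_inj] at hadd
      simp; omega
  refine le_antisymm (fun a ha => ?_) hker
  have hmem : Ideal.Quotient.mk (m ^ (n + 1)) a ∈ LinearMap.ker g := ha
  haveI := Module.length_eq_zero_iff.1 h0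
  have : (⟨_, hmem⟩ : LinearMap.ker g) = 0 := Subsingleton.elim _ _
  exact Ideal.Quotient.eq_zero_iff_mem.1 (congrArg Subtype.val this)

end Groth.Agent.S16104
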