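import Groth.Statements.S16106
import Groth.Agent.H9Popescu.FPColim
import Groth.Agent.H9Popescu.EtaleSlice
import Groth.Agent.H9Popescu.Popescu
import Groth.Agent.S0600
-- import your own Groth.Agent.* helpers here

set_option autoImplicit false
universe u
open CategoryTheory CategoryTheory.Limits
open LunaSt

namespace Groth.Agent.S16106

/-- Local form. Let A be a local G-ring, that is a Noetherian local ring all of whose local rings have
regular completion maps (for instance an excellent local ring), with maximal ideal m and m-adic
completion Â. Let F be a functor from A-algebras (commutative rings under A) to sets preserving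
filtered colimits, let ξ ∈ F(Â) and N ≥ 0. Then there exist an étale A-algebra A′, a map of
A-algebras φ : A′ → A/m^(N+1) (an étale neighbourhood of the closed point with trivial residue field
extension) and ξ′ ∈ F(A′) such that ξ′ and ξ have the same image in F(A/m^(N+1)); here π is the
A-algebra map Â → A/m^(N+1), pinned by its underlying ring map. (The published statement is for any
point of the spectrum of a G-ring, with a functor locally of finite presentation on all schemes over
it; its proof first localizes at the point, and only the values of the functor on affine schemes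
enter, so the row states this local form for a functor on A-algebras preserving filtered colimits.) -/
theorem result (A : Type u) [CommRing A] [IsLocalRing A]
    (hG : CAlg.IsGRing A)
    (F : Under (CommRingCat.of A) ⥤ Type u)
    (hF : ∀ (J : Type u) [SmallCategory J] [IsFiltered J], PreservesColimitsOfShape J F)
    (N : ℕ)
    (π : Under.mk (CommRingCat.ofHom (algebraMap A
        (AdicCompletion (IsLocalRing.maximalIdeal A) A))) ⟶
      Under.mk (CommRingCat.ofHom (algebraMap A (A ⧸ IsLocalRing.maximalIdeal A ^ (N + 1)))))
    (hπ : π.right = CommRingCat.ofHom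
      (AdicCompletion.evalₐ (IsLocalRing.maximalIdeal A) (N + 1) :
        AdicCompletion (IsLocalRing.maximalIdeal A) A →ₐ[A]
          A ⧸ IsLocalRing.maximalIdeal A ^ (N + 1)).toRingHom)
    (ξ : F.obj (Under.mk (CommRingCat.ofHom (algebraMap A
        (AdicCompletion (IsLocalRing.maximalIdeal A) A))))) :
    ∃ (A' : Type u) (_ : CommRing A') (_ : Algebra A A') (_ : Algebra.Etale A A')
      (φ : Under.mk (CommRingCat.ofHom (algebraMap A A')) ⟶
        Under.mk (CommRingCat.ofHom (algebraMap A (A ⧸ IsLocalRing.maximalIdeal A ^ (N + 1)))))
      (ξ' : F.obj (Under.mk (CommRingCat.ofHom (algebraMap A A')))),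
      F.map φ ξ' = F.map π ξ := by
  haveI := hG.1
  haveI : IsNoetherianRing (AdicCompletion (IsLocalRing.maximalIdeal A) A) :=
    Groth.Agent.H05EGA4.isNoetherianRing_adicCompletion A _
  obtain ⟨P, _, _, hP, g, η, rfl⟩ :=
    Groth.Agent.H9Popescu.exists_finitePresentation_of_preservesColimits F hF _ ξ
  obtain ⟨C, _, _, hC, g₁, h, hgh⟩ := Groth.Agent.H9Popescu.popescu (Groth.Agent.S0600.result A hG _) P hP
    (Groth.Agent.H9Popescu.algHomOfUnder g)
  haveI := hC
  obtain ⟨A', _, _, hA', ψ, gC, hψ⟩ := Groth.Agent.H9Popescu.exists_etale_of_smooth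
    (fun q => by
      obtain ⟨r, rfl⟩ := Ideal.Quotient.mk_surjective q
      exact ⟨r, 1, by simp, by simp⟩)
    ((AdicCompletion.evalₐ (IsLocalRing.maximalIdeal A) (N + 1)).comp h)
  let φ : Under.mk (CommRingCat.ofHom (algebraMap A A')) ⟶
      Under.mk (CommRingCat.ofHom (algebraMap A (A ⧸ IsLocalRing.maximalIdeal A ^ (N + 1)))) :=
    Under.homMk (CommRingCat.ofHom ψ.toRingHom) (CommRingCat.hom_ext (RingHom.ext fun a => ψ.commutes a))
  let j : Under.mk (CommRingCat.ofHom (algebraMap A P)) ⟶ Under.mk (CommRingCat.ofHom (algebraMap A A')) :=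
    Under.homMk (CommRingCat.ofHom (gC.comp g₁).toRingHom)
      (CommRingCat.hom_ext (RingHom.ext fun a => (gC.comp g₁).commutes a))
  refine ⟨A', inferInstance, inferInstance, hA', φ, F.map j η, ?_⟩
  have : j ≫ φ = g ≫ π := Under.UnderMorphism.ext (CommRingCat.hom_ext (RingHom.ext fun x => by
    show ψ (gC (g₁ x)) = π.right.hom (g.right.hom x)
    rw [hπ]
    show _ = AdicCompletion.evalₐ _ _ (g.right.hom x)
    rw [show g.right.hom x = h (g₁ x) from (AlgHom.congr_fun hgh x).symm]
    exact AlgHom.congr_fun hψ (g₁ x)))
  rw [← Functor.map_comp_apply, ← Functor.map_comp_apply, this]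

end Groth.Agent.S16106
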