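import Groth.Statements.S16107
import Groth.Agent.H20Comod.HilbertFG

set_option autoImplicit false
universe u v w

open TensorProduct
open Groth.Agent
open LunaSt

namespace Groth.Agent.S16107

/-- Let k be a field and H a commutative Hopf algebra of finite type over k all of whose
finite-dimensional comodules are semisimple (a linearly reductive affine group G = Spec H of finite
type). Let A be a Noetherian commutative k-algebra with a coaction of H that is an algebra map (an
action of G on Spec A). Then A is of finite type as an algebra over its subring of invariants A^G.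
(The published statement is that a good moduli space with affine diagonal of a Noetherian algebraic
stack is of finite type; this row is its case [Spec A/G] → Spec A^G.) -/
theorem result
    (k : Type u) [Field k] (H : Type v) [CommRing H] [HopfAlgebra k H] [Algebra.FiniteType k H]
    (hG : HopfRep.IsLinearlyReductive k H)
    (A : Type w) [CommRing A] [Algebra k A] [IsNoetherianRing A]
    [HopfRep.Comod k H A] [GLin.IsCoactAlg k H A] :
    Algebra.FiniteType ↥(GLin.invariants k H A) A := by
  classical
  obtain ⟨α, hα, h1⟩ := H20Comod.isLinearlyReductive_iff_exists_isIntegral.1 hG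
  letI cC : HopfRep.Comod k H (A ⊗[k] H) :=
    ComodTens.Comod.tensor (inferInstance : HopfRep.Comod k H A) (HopfRep.Comod.regular k H)
  let ρ : A ⊗[k] H →ₐ[k] (A ⊗[k] H) ⊗[k] H :=
    ((Algebra.TensorProduct.map (AlgHom.id k (A ⊗[k] H)) (Algebra.TensorProduct.lmul' k (S := H))).comp
      (Algebra.TensorProduct.tensorTensorTensorComm k k k k A H H H).toAlgHom).comp
      (Algebra.TensorProduct.map (GLin.coactAlgHom k H A) (Bialgebra.comulAlgHom k H))
  have hρ : cC.coact = ρ.toLinearMap := by
    refine TensorProduct.ext' fun a h => ?_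
    show (ComodTens.Comod.tensor _ _).coact (a ⊗ₜ[k] h) = _
    rw [ComodTens.tensor_coact_tmul]
    rfl
  haveI : GLin.IsCoactAlg k H (A ⊗[k] H) :=
    ⟨(LinearMap.congr_fun hρ 1).trans (map_one ρ), fun x y => by
      have h := fun z => LinearMap.congr_fun hρ z
      exact (h _).trans ((map_mul ρ x y).trans (congrArg₂ (· * ·) (h x).symm (h y).symm))⟩
  have hd : cC.coact = H20Comod.diagCoact k H A := by
    refine TensorProduct.ext' fun a h => ?_
    show (ComodTens.Comod.tensor _ _).coact (a ⊗ₜ[k] h) = _
    rw [ComodTens.tensor_coact_tmul]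
    rfl
  have hAC : Hoch.IsComodHom H (IsScalarTower.toAlgHom k A (A ⊗[k] H)).toLinearMap := by
    apply LinearMap.ext
    intro a
    show cC.coact (a ⊗ₜ[k] (1 : H)) =
      (IsScalarTower.toAlgHom k A (A ⊗[k] H)).toLinearMap.rTensor H
        (HopfRep.Comod.coact (k := k) (A := H) a)
    rw [hd]
    simp only [H20Comod.diagCoact, LinearMap.coe_comp, Function.comp_apply, TensorProduct.map_tmul,
      Bialgebra.comul_one, Algebra.TensorProduct.one_def, LinearEquiv.coe_coe]
    generalize HopfRep.Comod.coact (k := k) (A := H) a = z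
    induction z using TensorProduct.induction_on with
    | zero => simp
    | tmul x c => simp
    | add u v hu hv => simp only [TensorProduct.add_tmul, map_add, hu, hv]
  obtain ⟨s, hs⟩ := H20Comod.exists_finset_invariants_eq_adjoin (A := A) (C := A ⊗[k] H) hα h1 hAC
  let e : A ⊗[k] H →ₐ[k] A :=
    (Algebra.TensorProduct.rid k k A).toAlgHom.comp
      (Algebra.TensorProduct.map (AlgHom.id k A) (Bialgebra.counitAlgHom k H))
  refine ⟨⟨s.image e, eq_top_iff.2 fun a _ => ?_⟩⟩
  have hy : H20Comod.shear A (HopfAlgebra.antipode k) (a ⊗ₜ[k] (1 : H)) ∈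
      GLin.invariants k H (A ⊗[k] H) := by
    show cC.coact _ = _
    rw [hd, ← H20Comod.shear_antipode_rTensor_comul, LinearMap.lTensor_tmul, Bialgebra.comul_one,
      Algebra.TensorProduct.one_def, TensorProduct.assoc_symm_tmul, LinearMap.rTensor_tmul]
  have hea : e (H20Comod.shear A (HopfAlgebra.antipode k) (a ⊗ₜ[k] (1 : H))) = a := by
    rw [H20Comod.shear_tmul, LinearMap.mulRight_one, LinearMap.id_comp]
    have hc := congrArg (TensorProduct.rid k A)
      (LinearMap.congr_fun (HopfRep.Comod.counit_comp (k := k) (A := H) (V := A)) a)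
    simp only [LinearMap.coe_comp, Function.comp_apply, LinearMap.flip_apply, TensorProduct.mk_apply,
      TensorProduct.rid_tmul, one_smul] at hc
    refine Eq.trans ?_ hc
    generalize HopfRep.Comod.coact (k := k) (A := H) a = z
    induction z using TensorProduct.induction_on with
    | zero => simp
    | tmul x c => simp [e]
    | add u v hu hv => simp only [map_add, hu, hv]
  rw [hs] at hy
  have hmem := Set.mem_image_of_mem e (SetLike.mem_coe.2 hy)
  rw [hea, ← Subalgebra.coe_map, AlgHom.map_adjoin, SetLike.mem_coe] at hmem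
  let T : Subalgebra k A :=
    Subalgebra.restrictScalars k (Algebra.adjoin ↥(GLin.invariants k H A) (↑(s.image e) : Set A))
  show a ∈ T
  refine (Algebra.adjoin_le ?_ : _ ≤ T) hmem
  rintro _ ⟨x, ⟨b, hb, rfl⟩ | hx, rfl⟩
  · have : e (algebraMap A (A ⊗[k] H) b) = algebraMap ↥(GLin.invariants k H A) A ⟨b, hb⟩ := by
      show e (b ⊗ₜ[k] (1 : H)) = b
      simp [e]
    rw [this]
    exact (Algebra.adjoin ↥(GLin.invariants k H A) (↑(s.image e) : Set A)).algebraMap_mem ⟨b, hb⟩
  · exact Algebra.subset_adjoin (R := ↥(GLin.invariants k H A))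
      (Finset.mem_coe.2 (Finset.mem_image_of_mem e hx))

end Groth.Agent.S16107
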