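import Groth.Statements.S16109
import Groth.Agent.H16Derived.EvalHom.Main
import Groth.Agent.H16Derived.Dual.Main

set_option autoImplicit false
universe u
open CategoryTheory CategoryTheory.Limits
attribute [local instance] HasDerivedCategory.standard
open DCoh

namespace Groth.Agent.S16109

open Groth.Agent

open AlgebraicGeometry in
/-- Let X be a separated Noetherian scheme; let E be an object of D^b_coh(X), given by a cochain complex
K of O_X-modules whose image in D(O_X) has coherent and bounded cohomology sheaves; let F and G be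
given by bounded complexes L and I of injective O_X-modules whose images in D(O_X) have coherent
cohomology sheaves (so F and G lie in D^b_coh(X) and have finite injective dimension); assume
moreover that RHom(−, F) and RHom(−, G) send D^b_coh(X) into itself. Then for every cochain complex
D representing RHom(E, F) there is an isomorphism RHom(F, G) ⊗^L E ≅ RHom(RHom(E, F), G) in D(O_X);
the derived tensor functors and their right adjoints RHom are taken under their existence binders.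
(The published statement does not assume that F and G have finite injective dimension and names a
canonical map; this row assumes F and G given by bounded complexes of injective modules, the case
its printed argument treats, and asserts only the existence of an isomorphism.) -/
theorem result
    (X : Scheme.{u}) [X.IsSeparated] [IsNoetherian X]
    (K : CochainComplex X.Modules ℤ) [DCoh.HasLTensorCx K] [DCoh.HasRSheafHom K]
    (hKcoh : ∀ i : ℤ, Coh.IsCoh (DCoh.HD (DCoh.toD X K) i))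
    (hKbdd : ∃ a b : ℤ, ∀ i : ℤ, (i < a ∨ b < i) → IsZero (DCoh.HD (DCoh.toD X K) i))
    (L : CochainComplex X.Modules ℤ) [DCoh.HasLTensorCx L] [DCoh.HasRSheafHom L]
    (hLinj : ∀ i : ℤ, Injective (L.X i)) (hLbdd : ∃ a b : ℤ, ∀ i : ℤ, (i < a ∨ b < i) → IsZero (L.X i))
    (hLcoh : ∀ i : ℤ, Coh.IsCoh (DCoh.HD (DCoh.toD X L) i))
    (I : CochainComplex X.Modules ℤ)
    (hIinj : ∀ i : ℤ, Injective (I.X i)) (hIbdd : ∃ a b : ℤ, ∀ i : ℤ, (i < a ∨ b < i) → IsZero (I.X i))
    (hIcoh : ∀ i : ℤ, Coh.IsCoh (DCoh.HD (DCoh.toD X I) i))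
    (hF : ∀ (P : CochainComplex X.Modules ℤ) [DCoh.HasLTensorCx P] [DCoh.HasRSheafHom P],
      (∀ i : ℤ, Coh.IsCoh (DCoh.HD (DCoh.toD X P) i)) →
      (∃ a b : ℤ, ∀ i : ℤ, (i < a ∨ b < i) → IsZero (DCoh.HD (DCoh.toD X P) i)) →
      (∀ i : ℤ, Coh.IsCoh (DCoh.HD ((DCoh.RSheafHom P).obj (DCoh.toD X L)) i)) ∧
        ∃ a b : ℤ, ∀ i : ℤ, (i < a ∨ b < i) → IsZero (DCoh.HD ((DCoh.RSheafHom P).obj (DCoh.toD X L)) i))
    (hG : ∀ (P : CochainComplex X.Modules ℤ) [DCoh.HasLTensorCx P] [DCoh.HasRSheafHom P],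
      (∀ i : ℤ, Coh.IsCoh (DCoh.HD (DCoh.toD X P) i)) →
      (∃ a b : ℤ, ∀ i : ℤ, (i < a ∨ b < i) → IsZero (DCoh.HD (DCoh.toD X P) i)) →
      (∀ i : ℤ, Coh.IsCoh (DCoh.HD ((DCoh.RSheafHom P).obj (DCoh.toD X I)) i)) ∧
        ∃ a b : ℤ, ∀ i : ℤ, (i < a ∨ b < i) → IsZero (DCoh.HD ((DCoh.RSheafHom P).obj (DCoh.toD X I)) i))
    (D : CochainComplex X.Modules ℤ) [DCoh.HasLTensorCx D] [DCoh.HasRSheafHom D]
    (hD : Nonempty (DCoh.toD X D ≅ (DCoh.RSheafHom K).obj (DCoh.toD X L))) :
    Nonempty ((DCoh.LTensorCx K).obj ((DCoh.RSheafHom L).obj (DCoh.toD X I)) ≅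
      (DCoh.RSheafHom D).obj (DCoh.toD X I)) := by
  obtain ⟨a, b, hab⟩ := hKbdd
  obtain ⟨al, bl, habl⟩ := hLbdd
  obtain ⟨ai, bi, habi⟩ := hIbdd
  obtain ⟨eD⟩ := hD
  haveI : (DCoh.toD X K).IsLE b :=
    (DerivedCategory.isLE_iff _ _).2 fun i hi => hab i (Or.inr hi)
  haveI : L.IsStrictlyGE al := (CochainComplex.isStrictlyGE_iff L al).2 fun n hn => habl n (Or.inl hn)
  haveI : (DCoh.toD X L).IsGE al := inferInstance
  haveI := H16Derived.EvalHom.isIso_τ I hIinj habi (k := DCoh.toD X K)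
    (H16Derived.Dual.isPseudoCoherentD_of_isCohD b hKcoh) (DCoh.toD X L) al
  let eD' := eD ≪≫ (H16Derived.Dual.rsheafHomIso K).app (DCoh.toD X L)
  exact ⟨((H16Derived.Dual.ltensorCxIsoT K).app _).symm ≪≫
    ((H16Derived.Dual.T X).mapIso ((H16Derived.Dual.rsheafHomIso L).app (DCoh.toD X I))).app _ ≪≫
    asIso (H16Derived.EvalHom.τ (DCoh.toD X L) (DCoh.toD X I) (DCoh.toD X K)) ≪≫
    (H16Derived.Dual.RIso eD'.symm).app (DCoh.toD X I) ≪≫
    ((H16Derived.Dual.rsheafHomIso D).app (DCoh.toD X I)).symm⟩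

end Groth.Agent.S16109
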