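import Groth.Statements.S1611
import Groth.Agent.H29CurveDual.SingularEmbedding
import Groth.Agent.H29CurveDual.VADescent
import Groth.Agent.H28Int.FieldExt
import Groth.Agent.H17.Dim
import Groth.Agent.H17.AssPush

set_option autoImplicit false
universe u
open CategoryTheory CategoryTheory.Limits AlgebraicGeometry
open Curves

namespace Groth.Agent.S1611

attribute [local instance 10000] H10Coh.hasSheafifyAb H10Coh.hasWeakSheafifyAb H10Coh.hasExtAb H10Coh.enoughInjAb


/-- Let X be proper of dimension one over k with global functions k, geometrically integral, of genus g,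
and L an invertible module with deg L ≥ 2g + 1. Then L is very ample: there is a closed immersion i
of X into some projective space P^n_k over k with i^* O(1) ≅ L. -/
theorem result (k : Type u) [Field k] (X : Scheme.{u}) [X.Over (Spec (CommRingCat.of k))]
    [IsProper (X ↘ (Spec (CommRingCat.of k)))] [GeometricallyIntegral (X ↘ (Spec (CommRingCat.of k)))] (hdim : topologicalKrullDim X = 1)
    (h0 : Module.finrank k (Coh.HH X (Coh.structureModule X) 0) = 1) (L : X.Modules) (hL : PicF.IsInvertible L)
    (hdeg : 2 * (Curv2.genus k X : ℤ) + 1 ≤ Curv2.deg k X L 1) :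
    ∃ (n : ℕ) (i : X ⟶ CohB1.ProjSpace n k), IsClosedImmersion i ∧ i ≫ CohB1.ProjSpace.toSpec n k = X ↘ (Spec (CommRingCat.of k)) ∧
      Nonempty ((Scheme.Modules.pullback i).obj (Twist.twistProjSpace n k 1) ≅ L) := by
  let p := X ↘ Spec (CommRingCat.of k)
  haveI : IsIntegral X := GeometricallyIntegral.isIntegral_of_subsingleton p
  haveI := H29RR.isNoetherian_of_proper (k := k) (X := X)
  let K := AlgebraicClosure k
  let g := Spec.map (CommRingCat.ofHom (algebraMap k K))
  let X' := pullback p g
  let j : X' ⟶ X := pullback.fst p g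
  letI : X'.Over (Spec (CommRingCat.of K)) := ⟨pullback.snd p g⟩
  let p' := X' ↘ Spec (CommRingCat.of K)
  have sq : IsPullback j p' p g := IsPullback.of_hasPullback p g
  haveI : IsProper p' := MorphismProperty.of_isPullback sq ‹IsProper _›
  haveI : IsIntegral X' := GeometricallyIntegral.geometrically_isIntegral g _ _ sq
  haveI : IsIntegralHom g := IsIntegralHom.SpecMap_iff.2 (algebraMap_isIntegral_iff.2 inferInstance)
  haveI : IsIntegralHom j := MorphismProperty.pullback_fst _ _ inferInstance
  have hdim' : topologicalKrullDim X' ≤ 1 :=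
    (H17.topologicalKrullDim_le_of_noSpecializationsInFibres j j.continuous fun x y h e =>
      H17.AssPts.eq_of_specializes_of_map_eq j h e).trans hdim.le
  have hO : Coh.IsCoh (Coh.structureModule X) := H10Coh.isCoh_structureModule' X
  have hLc := H29CurveDual.isCoh_of_isInvertible hL
  let L' := (Scheme.Modules.pullback j).obj L
  have hL' : PicF.IsInvertible L' := H11Ample.isInvertible_pullback j hL
  obtain ⟨e⟩ := H11Ample.nonempty_pullback_structureModule_iso j
  have hO' : ∀ n, Module.finrank K (Coh.HH X' (Coh.structureModule X') n) =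
      Module.finrank k (Coh.HH X (Coh.structureModule X) n) := fun n => by
    rw [← H29CurveDual.finrank_h0_congr (k := K) e n, H28Int.FieldExt.finrank_HH_bc K sq hO n]
  have hg' : Curv2.genus K X' = Curv2.genus k X := hO' 1
  have hd' : Curv2.deg K X' L' 1 = Curv2.deg k X L 1 := by
    rw [H29RR.deg_def, H29RR.deg_def, H28Int.FieldExt.euler_bc K sq hLc, ← H25Euler.euler_congr (k := K) e,
      H28Int.FieldExt.euler_bc K sq hO]
  haveI := H29RR.finite_HH (k := k) L hL 0
  haveI := H29CurveDual.subsingleton_h1_of_deg_ge (k := k) hdim.le h0 hL (by omega)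
  have hrr := H29RR.riemann_roch (k := k) hdim.le L
  rw [h0, Module.finrank_zero_of_subsingleton (R := k) (M := Coh.HH X L 1)] at hrr
  obtain ⟨n, hn⟩ := Nat.exists_eq_succ_of_ne_zero (show Module.finrank k (Coh.HH X L 0) ≠ 0 by omega)
  let β := Module.finBasisOfFinrankEq k (Coh.HH X L 0) hn
  let v : Fin (n + 1) → Γ(L, ⊤) := fun i => H29RR.sec L (β i)
  have hcomb : ∀ s : Γ(L, ⊤), ∃ c : Fin (n + 1) → k, s = ∑ i, ProjUP.toGlobal p (c i) • v i := fun s =>
    ⟨fun i => β.repr ((H29RR.sec L).symm s) i, by
      rw [← H29CurveDual.sec_comb (k := k) (L := L), β.sum_repr, AddEquiv.apply_symm_apply]⟩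
  haveI : L.IsQuasicoherent := hLc.1
  have hcomb' := H29CurveDual.exists_comb_pullTop sq L v hcomb
  obtain ⟨r, hr, hrk, τ, hτ⟩ := H29CurveDual.exists_closedImmersion_of_spanning (k := K) hdim'
    (by rw [hO' 0, h0]) hL' (by rw [hg', hd']; exact hdeg) _ hcomb'
  haveI := hr
  have hva := H29CurveDual.vaData_of_closedImmersion p' hrk τ hτ
  have hsurj : Function.Surjective j := by
    haveI : Surjective g := ⟨fun x => ⟨IsLocalRing.closedPoint _, Subsingleton.elim _ _⟩⟩
    haveI : Surjective j := MorphismProperty.of_isPullback (P := @Surjective) sq.flip inferInstance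
    exact j.surjective
  obtain ⟨r₀, h1, h2, h3⟩ := H29CurveDual.exists_closedImmersion_of_baseChange sq hL (fun x => by
    obtain ⟨z, rfl⟩ := hsurj x
    obtain ⟨l, hl⟩ := hva.cover z
    refine ⟨l, ?_⟩
    have h := H11Ample.gen_smul_pullSect j hL (v l) (c := 1) isUnit_one
    rw [one_smul] at h
    exact h.le hl) hva
  exact ⟨n, r₀, h1, h2, h3⟩

end Groth.Agent.S1611
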