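import Groth.Statements.S16116
import Groth.Agent.H19Grp.UnitsProd
import Groth.Agent.H19Grp.OrbitSmooth

set_option autoImplicit false
set_option maxHeartbeats 1000000
set_option synthInstance.maxHeartbeats 100000
set_option linter.style.haveILetI false
set_option backward.isDefEq.respectTransparency false
universe u
open CategoryTheory MonoidalCategory CartesianMonoidalCategory MonObj GrpObj AlgebraicGeometry CategoryTheory.Limits
open AlgGrp

namespace Groth.Agent.S16116

theorem semiInvariant (k : Type u) [Field k] [IsAlgClosed k]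
    (G X : Over (Spec (CommRingCat.of k))) [GrpObj G] [LocallyOfFiniteType G.hom] [QuasiCompact G.hom]
    [IsReduced G.left] [ConnectedSpace ↥G.left] [IsReduced X.left] [ConnectedSpace ↥X.left]
    [LocallyOfFiniteType X.hom] [QuasiCompact X.hom] (a : AlgGrp.Action G X)
    (f : Γ(X.left, ⊤)) (hf : IsUnit f) :
    ∃! χ : Γ(G.left, ⊤), IsUnit χ ∧ η[G].left.appTop χ = 1 ∧
      μ[G].left.appTop χ = (fst G G).left.appTop χ * (snd G G).left.appTop χ ∧
      a.act.left.appTop f = (fst G X).left.appTop χ * (snd G X).left.appTop f := by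
  open Groth.Agent.H19Grp.UnitsProd in
  obtain ⟨χ, v, hχ, hχe, hχm, hv, he⟩ := exists_character_mul (pb a.act f) (hf.map _)
  open Groth.Agent.H19Grp.UnitsProd in
  have hvf : v = f := by
    have h1 := congrArg (pb (lift (1 : X ⟶ G) (𝟙 X))) he
    rw [map_mul, ← pb_comp _ a.act, ← pb_comp _ (fst G X), ← pb_comp _ (snd G X), lift_fst, lift_snd,
      Groth.Agent.H19Grp.act_one, pb_id, pb_id, Hom.one_def, pb_comp (toUnit X), hχe, map_one, _root_.one_mul] at h1
    exact h1.symm
  rw [hvf] at he
  refine ⟨χ, ⟨hχ, hχe, hχm, he⟩, fun χ' hχ' => ?_⟩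
  obtain ⟨x⟩ := Groth.Agent.H19Grp.UnitsProd.exists_point X
  open Groth.Agent.H19Grp.UnitsProd in
  have key : ∀ χ'' : Γ(G.left, ⊤), pb a.act f = pb (fst G X) χ'' * pb (snd G X) f →
      pb (a.orbitMap x) f = χ'' * pb (toUnit G ≫ x) f := by
    intro χ'' h
    have h1 := congrArg (pb (lift (𝟙 G) (toUnit G ≫ x))) h
    rw [map_mul, ← pb_comp _ a.act, ← pb_comp _ (fst G X), ← pb_comp _ (snd G X), lift_fst, lift_snd, pb_id] at h1
    exact h1
  exact (hf.map (Groth.Agent.H19Grp.UnitsProd.pb (toUnit G ≫ x))).mul_right_cancel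
    ((key χ' hχ'.2.2.2).symm.trans (key χ he))


/-- Over an algebraically closed field k, let G be a connected algebraic group (a smooth connected
k-group scheme of finite type) acting by σ on an irreducible variety X (an integral separated
k-scheme of finite type), and let f be a unit of Γ(X, O_X). Then f is a semi-invariant: there is a
unique character χ of G (a unit of Γ(G, O_G) with e^*(χ) = 1 and m^*(χ) = p₁^*(χ) · p₂^*(χ)) such
that σ^*(f) = p₁^*(χ) · p₂^*(f) in Γ(G × X, O). -/
theorem result (k : Type u) [Field k] [IsAlgClosed k]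
    (G X : Over (Spec (CommRingCat.of k))) [GrpObj G] [Smooth G.hom] [QuasiCompact G.hom] [ConnectedSpace ↥G.left]
    [IsIntegral X.left] [IsSeparated X.hom] [LocallyOfFiniteType X.hom] [QuasiCompact X.hom] (a : AlgGrp.Action G X)
    (f : Γ(X.left, ⊤)) (hf : IsUnit f) :
    ∃! χ : Γ(G.left, ⊤), IsUnit χ ∧ η[G].left.appTop χ = 1 ∧
      μ[G].left.appTop χ = (fst G G).left.appTop χ * (snd G G).left.appTop χ ∧
      a.act.left.appTop f = (fst G X).left.appTop χ * (snd G X).left.appTop f := by
  haveI : IsReduced G.left := Groth.Agent.H13AlgSp.isReduced_of_smooth_mor G.hom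
  exact semiInvariant k G X a f hf

end Groth.Agent.S16116
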