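import Groth.Statements.S1612
import Groth.Agent.H29CurveDual.CanonAux

set_option autoImplicit false
universe u
open CategoryTheory CategoryTheory.Limits AlgebraicGeometry
open Curves

namespace Groth.Agent.S1612

/-- Let X be a smooth proper curve over k whose global functions are k, of genus g, and let Ω be its
sheaf of differentials over k (the conormal sheaf of the diagonal). Then dim_k H^0(X, Ω) = g and deg
Ω = 2g - 2. -/
theorem result (k : Type u) [Field k] (X : Scheme.{u}) [X.Over (Spec (CommRingCat.of k))]
    (hX : Curve.IsSmoothProperCurve k X (X ↘ (Spec (CommRingCat.of k)))) (h0 : Module.finrank k (Coh.HH X (Coh.structureModule X) 0) = 1) :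
    Module.finrank k (Coh.HH X (Omega.sheaf (X ↘ (Spec (CommRingCat.of k)))) 0) = Curv2.genus k X ∧
      Curv2.deg k X (Omega.sheaf (X ↘ (Spec (CommRingCat.of k)))) 1 = 2 * (Curv2.genus k X : ℤ) - 2 := by
  obtain ⟨hp, hs, hi, hdim⟩ := hX
  haveI := hp
  haveI := hs
  haveI := hi
  exact ⟨H29CurveDual.finrank_h1_structure hdim, H29CurveDual.deg_omega_of_h0 hdim h0⟩

end Groth.Agent.S1612
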