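import Groth.Statements.S16120
import Groth.Agent.H12Pic.OpenLine.Main
import Groth.Agent.H12Pic.FinKer.CurveProd
import Groth.Agent.H22Alg.NormalProd
import Groth.Agent.H22Alg.GeomNormalPI
import Groth.Agent.H28Vert.VertGroup
import Groth.Agent.H17.LocusBC

set_option autoImplicit false
set_option linter.style.haveILetI false
set_option backward.isDefEq.respectTransparency.types false
universe u
open CategoryTheory MonoidalCategory CartesianMonoidalCategory MonObj GrpObj AlgebraicGeometry CategoryTheory.Limits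
open PicGrp

namespace Groth.Agent.S16120

section

variable {k : Type u} [Field k]

/-- A normal algebra over an algebraically closed field is geometrically normal. -/
theorem isGeomNormal_of_normal [IsAlgClosed k] {C : Type u} [CommRing C] [Algebra k C]
    (hC : EGA4.IsNormalRing C) : EGA4.IsGeomNormal k C := by
  refine H22Alg.GeomNormalPI.isGeomNormal_of_purelyInseparable fun k' _ _ _ _ => ?_
  haveI : Algebra.IsSeparable k k' := Algebra.IsAlgebraic.isSeparable_of_perfectField
  let e : k ≃ₐ[k] k' := AlgEquiv.ofBijective (Algebra.ofId k k')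
    ⟨(algebraMap k k').injective, IsPurelyInseparable.surjective_algebraMap_of_isSeparable k k'⟩
  exact H05EGA4.isNormalRing_of_ringEquiv
    ((Algebra.TensorProduct.lid k C).symm.trans (Algebra.TensorProduct.congr e AlgEquiv.refl)).toRingEquiv hC

theorem trivial_of_spec_field (M : (Spec (CommRingCat.of k)).Modules) (hM : PicF.IsInvertible M) :
    Nonempty (M ≅ Coh.structureModule (Spec (CommRingCat.of k))) :=
  H12Pic.OpenLine.nonempty_iso_of_ufd (R := CommRingCat.of k) M hM

/-- Pullback of classes. -/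
noncomputable def res {X Y : Scheme.{u}} [PicGrp.Law X] [PicGrp.Law Y] (g : X ⟶ Y) :
    PicLoc.PicSet Y →* PicLoc.PicSet X :=
  PicGrp.pullHom g (H28Vert.pullMul g)

theorem res_res {X Y Z : Scheme.{u}} [PicGrp.Law X] [PicGrp.Law Y] [PicGrp.Law Z] (g : X ⟶ Y) (g' : Y ⟶ Z)
    (h : PicGrp.PullMul g') (c : PicLoc.PicSet Z) :
    res g (PicGrp.pullHom g' h c) = res (g ≫ g') c :=
  (PicGrp.pullHom_comp_apply g g' _ _ _ c).symm

theorem res_eq_self {X : Scheme.{u}} [PicGrp.Law X] {g : X ⟶ X} (hg : g = 𝟙 X) (c : PicLoc.PicSet X) :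
    res g c = c := by
  subst hg
  exact PicGrp.pullHom_id_apply _ c

/-- Classes die on morphisms through the point. -/
theorem res_const {X Z : Scheme.{u}} [PicGrp.Law X] [PicGrp.Law Z] (g : X ⟶ Spec (CommRingCat.of k))
    (z : Spec (CommRingCat.of k) ⟶ Z) (c : PicLoc.PicSet Z) : res (g ≫ z) c = 1 := by
  obtain ⟨M, hM, rfl⟩ := PicGrp.exists_eq_cls c
  obtain ⟨t⟩ := trivial_of_spec_field _ (PicLoc.isInvertible_pullback z hM)
  obtain ⟨eO⟩ := H11Ample.nonempty_pullback_structureModule_iso g
  rw [res, PicGrp.pullHom_cls]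
  exact (PicGrp.cls_eq_one_iff _).2 ⟨((Scheme.Modules.pullbackComp g z).app M).symm ≪≫
    (Scheme.Modules.pullback g).mapIso t ≪≫ eO⟩

variable [IsAlgClosed k]

/-- A module trivial on two axes of a product with rational first factor is trivial. -/
theorem nonempty_iso_of_axes {X Y : Scheme.{u}} (f : X ⟶ Spec (CommRingCat.of k)) (g : Y ⟶ Spec (CommRingCat.of k))
    [IsIntegral X] [LocallyOfFiniteType f]
    [IsIntegral Y] [LocallyOfFiniteType g] [QuasiCompact g]
    (hX : Pi1.IsNormalScheme X) (hY : Pi1.IsNormalScheme Y)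
    (U : X.Opens) {n : Type u} [Finite n] (j₀ : (U : Scheme.{u}) ⟶ 𝔸(n; Spec (CommRingCat.of k)))
    [IsOpenImmersion j₀] (hj₀ : j₀ ≫ (𝔸(n; Spec (CommRingCat.of k)) ↘ Spec (CommRingCat.of k)) = U.ι ≫ f)
    (xU : Spec (CommRingCat.of k) ⟶ (U : Scheme.{u})) (hxU : xU ≫ U.ι ≫ f = 𝟙 _)
    (y₀ : Spec (CommRingCat.of k) ⟶ Y) (hy₀ : y₀ ≫ g = 𝟙 _)
    (hs : y₀ (IsLocalRing.closedPoint k) ∈ g.smoothLocus)
    (L : (pullback f g).Modules) (hL : PicF.IsInvertible L)
    (hA : Nonempty ((Scheme.Modules.pullback (pullback.lift (𝟙 X) (f ≫ y₀)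
      (by rw [Category.assoc, hy₀, Category.comp_id, Category.id_comp]))).obj L ≅ Coh.structureModule X))
    (hB : Nonempty ((Scheme.Modules.pullback (pullback.lift (g ≫ xU ≫ U.ι) (𝟙 Y)
      (by simp only [Category.assoc, hxU, Category.comp_id, Category.id_comp]))).obj L ≅ Coh.structureModule Y)) :
    Nonempty (L ≅ Coh.structureModule (pullback f g)) := by
  haveI : GeometricallyIntegral f := H12Pic.FinKer.geometricallyIntegral_of_isAlgClosed f
  haveI : GeometricallyIntegral g := H12Pic.FinKer.geometricallyIntegral_of_isAlgClosed g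
  haveI : Flat g := H28Def.flat_of_field g
  haveI : IsLocallyNoetherian X := LocallyOfFiniteType.isLocallyNoetherian f
  haveI : IsLocallyNoetherian Y := LocallyOfFiniteType.isLocallyNoetherian g
  haveI : CompactSpace Y := (quasiCompact_iff_compactSpace g).mp inferInstance
  haveI : IsNoetherian Y := {}
  haveI : IsIntegral (pullback f g) := H12Pic.FinKer.isIntegral_prod f g
  let p : pullback f g ⟶ X := pullback.fst f g
  haveI : Flat p := inferInstanceAs (Flat (pullback.fst f g))
  haveI : GeometricallyIntegral p := inferInstanceAs (GeometricallyIntegral (pullback.fst f g))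
  haveI : LocallyOfFiniteType p := inferInstanceAs (LocallyOfFiniteType (pullback.fst f g))
  haveI : IsLocallyNoetherian (pullback f g) := LocallyOfFiniteType.isLocallyNoetherian p
  have hW : Pi1.IsNormalScheme (pullback f g) :=
    H22Alg.NormalProd.isNormalScheme_pullback f g fun A hA' B hB' _ _ _ _ =>
      H05EGA4.isNormalRing_tensor_of_isGeomNormal_general
        (isGeomNormal_of_normal (H28Neron.isNormalRing_sections hX hA')) _ (H28Neron.isNormalRing_sections hY hB')
  let σ : X ⟶ pullback f g := pullback.lift (𝟙 X) (f ≫ y₀)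
    (by rw [Category.assoc, hy₀, Category.comp_id, Category.id_comp])
  have hσ : σ ≫ p = 𝟙 X := pullback.lift_fst _ _ _
  have hpσ : ∀ x : X, p (σ x) = x := fun x =>
    (Scheme.Hom.comp_apply σ p x).symm.trans (by rw [hσ]; rfl)
  -- the piece over `U`
  let o := 𝔸(n; Spec (CommRingCat.of k)) ↘ Spec (CommRingCat.of k)
  let m : pullback (U.ι ≫ f) g ⟶ pullback f g :=
    pullback.map _ _ _ _ U.ι (𝟙 Y) (𝟙 _) (by rw [Category.comp_id]) (by simp)
  haveI : IsOpenImmersion m := by dsimp only [m]; infer_instance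
  let sq := AffineSpace.isPullback_map (n := n) g
  let j : pullback (U.ι ≫ f) g ⟶ 𝔸(n; Y) :=
    sq.lift (pullback.fst _ _ ≫ j₀) (pullback.snd _ _)
      (by rw [Category.assoc, hj₀]; exact pullback.condition)
  have hj : j ≫ (𝔸(n; Y) ↘ Y) = pullback.snd _ _ := sq.lift_snd _ _ _
  have hjp : IsPullback j (pullback.fst _ _) (AffineSpace.map n g) j₀ := by
    refine IsPullback.of_right ?_ (sq.lift_fst _ _ _) sq.flip
    rw [hj, hj₀]
    exact (IsPullback.of_hasPullback (U.ι ≫ f) g).flip
  haveI : IsOpenImmersion j := MorphismProperty.of_isPullback (P := @IsOpenImmersion) hjp.flip inferInstance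
  let σU : Y ⟶ pullback (U.ι ≫ f) g := pullback.lift (g ≫ xU) (𝟙 Y)
    (by simp only [Category.assoc, hxU, Category.comp_id, Category.id_comp])
  have hm : σU ≫ m = pullback.lift (g ≫ xU ≫ U.ι) (𝟙 Y)
      (by simp only [Category.assoc, hxU, Category.comp_id, Category.id_comp]) := by
    have m1 : m ≫ pullback.fst f g = pullback.fst _ _ ≫ U.ι := pullback.lift_fst _ _ _
    have m2 : m ≫ pullback.snd f g = pullback.snd _ _ ≫ 𝟙 Y := pullback.lift_snd _ _ _
    have s1 : σU ≫ pullback.fst (U.ι ≫ f) g = g ≫ xU := pullback.lift_fst _ _ _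
    have s2 : σU ≫ pullback.snd (U.ι ≫ f) g = 𝟙 Y := pullback.lift_snd _ _ _
    apply pullback.hom_ext
    · rw [Category.assoc, m1, ← Category.assoc, s1, Category.assoc, pullback.lift_fst]
    · rw [Category.assoc, m2, ← Category.assoc, s2, pullback.lift_snd, Category.id_comp]
  obtain ⟨ψB⟩ := hB
  obtain ⟨tU⟩ := H12Pic.OpenLine.nonempty_iso_of_section hY j σU (by rw [hj]; exact pullback.lift_snd _ _ _)
    ((Scheme.Modules.pullback m).obj L) (PicLoc.isInvertible_pullback m hL)
    ((Scheme.Modules.pullbackComp σU m).app L ≪≫ (Scheme.Modules.pullbackCongr hm).app L ≪≫ ψB)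
  -- the generic fibre
  let ξ := pullback.fst p (X.fromSpecStalk (genericPoint X))
  have hxX : U.ι (xU (IsLocalRing.closedPoint k)) ∈ U := (xU (IsLocalRing.closedPoint k)).2
  have hgen : genericPoint X ∈ U := ((genericPoint_spec X).specializes trivial).mem_open U.2 hxX
  letI := (H29Ref.isField_generic (X := X)).toField
  have hrange : Set.range ξ ⊆ Set.range m := by
    rintro _ ⟨z, rfl⟩
    dsimp only [m]
    rw [Scheme.Pullback.range_map]
    refine ⟨?_, by simp⟩
    have h1 : p (ξ z) = genericPoint X := by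
      rw [← Scheme.Hom.comp_apply, pullback.condition, Scheme.Hom.comp_apply]
      refine (congrArg _ (Subsingleton.elim
        (α := PrimeSpectrum (X.presheaf.stalk (genericPoint X))) _ (IsLocalRing.closedPoint _))).trans ?_
      exact Scheme.fromSpecStalk_closedPoint
    simp only [Set.mem_preimage, Scheme.Opens.range_ι, SetLike.mem_coe]
    rw [show pullback.fst f g (ξ z) = genericPoint X from h1]
    exact hgen
  let r := IsOpenImmersion.lift m ξ hrange
  obtain ⟨eO⟩ := H11Ample.nonempty_pullback_structureModule_iso r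
  let ψK : (Scheme.Modules.pullback ξ).obj L ≅ Coh.structureModule _ :=
    ((Scheme.Modules.pullbackCongr (IsOpenImmersion.lift_fac m ξ hrange)).app L).symm ≪≫
      ((Scheme.Modules.pullbackComp r m).app L).symm ≪≫ (Scheme.Modules.pullback r).mapIso tU ≪≫ eO
  have hη : p (genericPoint (pullback f g : Scheme.{u})) = genericPoint X := by
    have h : p (genericPoint (pullback f g : Scheme.{u})) ⤳ genericPoint X := by
      have := ((genericPoint_spec (pullback f g : Scheme.{u})).specializes
        (Set.mem_univ (σ (genericPoint X)))).map p.continuous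
      rwa [hpσ] at this
    exact (h.antisymm ((genericPoint_spec X).specializes trivial)).eq
  obtain ⟨v₀, hv₀⟩ := H12Pic.OpenLine.exists_generic_frame p hη L ψK hL
  have hfib : ∀ e : X, IsPreirreducible (p ⁻¹' {e}) := fun e => by
    haveI : IsIntegral (p.fiber e) :=
      GeometricallyIntegral.geometrically_isIntegral _ _ _ (IsPullback.of_hasPullback p _)
    rw [← Scheme.Hom.range_fiberι, ← Set.image_univ]
    exact (PreirreducibleSpace.isPreirreducible_univ).image _ (p.fiberι e).continuous.continuousOn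
  have hufd : ∀ e : X, Order.coheight e ≤ 1 →
      UniqueFactorizationMonoid ((pullback f g).presheaf.stalk (σ e)) := fun e he => by
    let T := g.smoothLocus
    haveI : Smooth (T.ι ≫ g) := H17.LocusBC.smooth_restrict_smoothLocus g
    let mT : pullback f (T.ι ≫ g) ⟶ pullback f g :=
      pullback.map _ _ _ _ (𝟙 X) T.ι (𝟙 _) (by simp) (by rw [Category.comp_id])
    haveI : IsOpenImmersion mT := by dsimp only [mT]; infer_instance
    have hmem : σ e ∈ Set.range mT := by
      dsimp only [mT]
      rw [Scheme.Pullback.range_map]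
      refine ⟨by simp, ?_⟩
      simp only [Set.mem_preimage, Scheme.Opens.range_ι, SetLike.mem_coe]
      rw [show pullback.snd f g (σ e) = y₀ (IsLocalRing.closedPoint k) from by
        rw [← Scheme.Hom.comp_apply, pullback.lift_snd, Scheme.Hom.comp_apply]
        exact congrArg y₀ (Subsingleton.elim (α := PrimeSpectrum k) _ _)]
      exact hs
    obtain ⟨w, hw⟩ := hmem
    have hwe : pullback.fst f (T.ι ≫ g) w = e := by
      have h1 : pullback.fst f g (mT w) = e := by rw [hw]; exact hpσ e
      rwa [← Scheme.Hom.comp_apply, show mT ≫ pullback.fst f g = pullback.fst f (T.ι ≫ g) from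
        (pullback.lift_fst _ _ _).trans (Category.comp_id _)] at h1
    haveI := H12Pic.OpenLine.ufd_of_smooth (pullback.fst f (T.ι ≫ g)) w
      (by rw [hwe]; exact H12Pic.OpenLine.isRegularLocalRing_of_coheight_le_one hX he)
    rw [← hw]
    exact (asIso (mT.stalkMap w)).commRingCatIsoToRingEquiv.symm.toMulEquiv.uniqueFactorizationMonoid inferInstance
  obtain ⟨ψA⟩ := hA
  exact H12Pic.OpenLine.nonempty_iso p σ hσ hW hfib hufd L hL ψA hv₀

end


/-- Over an algebraically closed field k, let X and Y be normal irreducible varieties (integral normal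
separated k-schemes of finite type) and assume X rational: some nonempty open subscheme of X is
isomorphic over k to an open subscheme of an affine space 𝔸ⁿ_k. Assume the Picard group laws on X, Y
and X × Y, with pullback along the two projections multiplicative. Then the map Pic(X) × Pic(Y) →
Pic(X × Y), (c, d) ↦ p₁^*(c) · p₂^*(d), is bijective. (The published companion assertion on divisor
class groups is not stated here.) -/
theorem result (k : Type u) [Field k] [IsAlgClosed k]
    (X Y : Over (Spec (CommRingCat.of k))) [IsIntegral X.left] [IsSeparated X.hom] [LocallyOfFiniteType X.hom] [QuasiCompact X.hom]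
    [IsIntegral Y.left] [IsSeparated Y.hom] [LocallyOfFiniteType Y.hom] [QuasiCompact Y.hom]
    (hX : Pi1.IsNormalScheme X.left) (hY : Pi1.IsNormalScheme Y.left)
    (hrat : ∃ (U : X.left.Opens) (n : ℕ) (V : (𝔸(ULift.{u} (Fin n); Spec (CommRingCat.of k))).Opens)
      (e : (U : Scheme.{u}) ≅ (V : Scheme.{u})), (U : Set ↥X.left).Nonempty ∧
        e.hom ≫ V.ι ≫ (𝔸(ULift.{u} (Fin n); Spec (CommRingCat.of k)) ↘ Spec (CommRingCat.of k)) = U.ι ≫ X.hom)
    [PicGrp.Law X.left] [PicGrp.Law Y.left] [PicGrp.Law (X ⊗ Y).left]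
    (h₁ : PicGrp.PullMul (fst X Y).left) (h₂ : PicGrp.PullMul (snd X Y).left) :
    Function.Bijective (fun cd : PicLoc.PicSet X.left × PicLoc.PicSet Y.left =>
      PicGrp.pullHom (fst X Y).left h₁ cd.1 * PicGrp.pullHom (snd X Y).left h₂ cd.2) := by
  obtain ⟨U, n, V, e, ⟨x, hxU⟩, he⟩ := hrat
  haveI : LocallyOfFiniteType (U.ι ≫ X.hom) := inferInstance
  haveI : JacobsonSpace (U : Scheme.{u}) := LocallyOfFiniteType.jacobsonSpace (U.ι ≫ X.hom)
  haveI : Nonempty (U : Scheme.{u}) := ⟨⟨x, hxU⟩⟩
  obtain ⟨a, -, ha⟩ := nonempty_inter_closedPoints (X := (U : Scheme.{u})) (Set.univ_nonempty) isOpen_univ.isLocallyClosed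
  let xU := pointOfClosedPoint (U.ι ≫ X.hom) a ha
  have hxU' : xU ≫ U.ι ≫ X.hom = 𝟙 _ := pointOfClosedPoint_comp _ a ha
  haveI : JacobsonSpace Y.left := LocallyOfFiniteType.jacobsonSpace Y.hom
  obtain ⟨b, hb, hb'⟩ := nonempty_inter_closedPoints (X := Y.left)
    Y.hom.dense_smoothLocus_of_perfectField.nonempty Y.hom.smoothLocus.2.isLocallyClosed
  let y₀ := pointOfClosedPoint Y.hom b hb'
  have hy₀ : y₀ ≫ Y.hom = 𝟙 _ := pointOfClosedPoint_comp _ b hb'
  let A : X.left ⟶ (X ⊗ Y).left := pullback.lift (𝟙 X.left) (X.hom ≫ y₀)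
    (by rw [Category.assoc, hy₀, Category.comp_id, Category.id_comp])
  let B : Y.left ⟶ (X ⊗ Y).left := pullback.lift (Y.hom ≫ xU ≫ U.ι) (𝟙 Y.left)
    (by simp only [Category.assoc, hxU', Category.comp_id, Category.id_comp])
  have A1 : A ≫ (fst X Y).left = 𝟙 _ := pullback.lift_fst _ _ _
  have A2 : A ≫ (snd X Y).left = X.hom ≫ y₀ := pullback.lift_snd _ _ _
  have B1 : B ≫ (fst X Y).left = Y.hom ≫ xU ≫ U.ι := pullback.lift_fst _ _ _
  have B2 : B ≫ (snd X Y).left = 𝟙 _ := pullback.lift_snd _ _ _
  have key : ∀ cd : PicLoc.PicSet X.left × PicLoc.PicSet Y.left,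
      res A (pullHom (fst X Y).left h₁ cd.1 * pullHom (snd X Y).left h₂ cd.2) = cd.1 ∧
        res B (pullHom (fst X Y).left h₁ cd.1 * pullHom (snd X Y).left h₂ cd.2) = cd.2 := fun cd => by
    rw [map_mul, map_mul, res_res, res_res, res_res, res_res, res_eq_self A1, A2, res_const, B1, res_const,
      res_eq_self B2, _root_.mul_one, _root_.one_mul]
    exact ⟨rfl, rfl⟩
  refine ⟨fun cd cd' h => ?_, fun c => ⟨(res A c, res B c), ?_⟩⟩
  · exact Prod.ext ((key cd).1.symm.trans ((congrArg (res A) h).trans (key cd').1))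
      ((key cd).2.symm.trans ((congrArg (res B) h).trans (key cd').2))
  · obtain ⟨k1, k2⟩ := key (res A c, res B c)
    set c' := pullHom (fst X Y).left h₁ (res A c) * pullHom (snd X Y).left h₂ (res B c)
    have hA1 : res A (c'⁻¹ * c) = 1 := by rw [map_mul, map_inv, k1, inv_mul_cancel]
    have hB1 : res B (c'⁻¹ * c) = 1 := by rw [map_mul, map_inv, k2, inv_mul_cancel]
    obtain ⟨L, hL, hc⟩ := PicGrp.exists_eq_cls (c'⁻¹ * c)
    rw [hc, res, pullHom_cls, cls_eq_one_iff] at hA1 hB1
    obtain ⟨t⟩ := nonempty_iso_of_axes X.hom Y.hom hX hY U (e.hom ≫ V.ι)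
      (by rw [Category.assoc]; exact he) xU hxU' y₀ hy₀
      (by rw [show y₀ (IsLocalRing.closedPoint k) = b from pointOfClosedPoint_apply _ b hb' _]; exact hb)
      L hL hA1 hB1
    exact inv_mul_eq_one.1 (hc.trans ((cls_eq_one_iff hL).2 ⟨t⟩))

end Groth.Agent.S16120
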