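import Groth.Statements.S16124
import Groth.Agent.S2324
-- import your own Groth.Agent.* helpers here

set_option autoImplicit false
universe u
open CategoryTheory MonoidalCategory CartesianMonoidalCategory MonObj GrpObj AlgebraicGeometry CategoryTheory.Limits
open AlgGrp

namespace Groth.Agent.S16124

/-- Over an algebraically closed field k, let X be a quasi-projective variety (a reduced separated
k-scheme, quasi-projective over k) with an action of a finite group Γ by k-automorphisms. Then X is
covered by Γ-stable affine open subschemes: every point x of X lies in an affine open U with σ⁻¹(U)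
= U for every σ in Γ. -/
theorem result (k : Type u) [Field k] [IsAlgClosed k]
    (X : Over (Spec (CommRingCat.of k))) [IsReduced X.left] [IsSeparated X.hom] (hX : RelProj.IsQuasiProjective X.hom)
    (Γgrp : Type u) [Group Γgrp] [Finite Γgrp] (ρ : Γgrp →* Aut X.left)
    (hρ : ∀ σ : Γgrp, (ρ σ).hom ≫ X.hom = X.hom) (x : ↥X.left) :
    ∃ U : X.left.Opens, x ∈ U ∧ IsAffineOpen U ∧ ∀ σ : Γgrp, (ρ σ).hom ⁻¹ᵁ U = U := by
  classical
  obtain ⟨hlft, hqc, L, -, hL⟩ := hX
  haveI := hlft
  haveI := hqc
  haveI : Fintype Γgrp := Fintype.ofFinite Γgrp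
  let T : (Spec (CommRingCat.of k)).affineOpens := ⟨⊤, isAffineOpen_top _⟩
  let Y : X.left.Opens := X.hom ⁻¹ᵁ T.1
  have hY : ∀ y : X.left, y ∈ Y := fun y => trivial
  haveI : CompactSpace X.left := QuasiCompact.compactSpace_of_compactSpace X.hom
  haveI : X.left.IsSeparated := ⟨by rw [← terminal.comp_from X.hom]; infer_instance⟩
  haveI : Y.toScheme.IsSeparated := ⟨by rw [← terminal.comp_from Y.ι]; infer_instance⟩
  haveI : CompactSpace Y.toScheme := isCompact_iff_compactSpace.mp (by
    have : (Y : Set X.left) = Set.univ := Set.eq_univ_of_forall hY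
    rw [this]; exact isCompact_univ)
  have hfin : (Y.ι ⁻¹' Set.range (fun σ : Γgrp => (ρ σ).hom x)).Finite :=
    (Set.finite_range _).preimage Y.ι.isOpenEmbedding.injective.injOn
  obtain ⟨n, s, hs, -, hsa⟩ := Groth.Agent.S2324.result Y.toScheme (L.restrict Y.ι) (hL T) _ hfin ⊤
    (fun _ _ => trivial)
  let U' : X.left.Opens := Y.ι ''ᵁ (CohB1.genLocus _ s)
  have hU' : IsAffineOpen U' := hsa.image_of_isOpenImmersion Y.ι
  refine ⟨⨅ σ : Γgrp, (ρ σ).hom ⁻¹ᵁ U', ?_,
    IsAffineOpen.iInf (fun σ => hU'.preimage (ρ σ).hom), fun τ => ?_⟩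
  · rw [← SetLike.mem_coe, TopologicalSpace.Opens.coe_iInf]
    refine Set.mem_iInter.mpr fun σ => ?_
    obtain ⟨y, hy⟩ : (ρ σ).hom x ∈ Set.range Y.ι := by rw [Scheme.Opens.range_ι]; exact hY _
    exact ⟨y, hs ⟨σ, hy.symm⟩, hy⟩
  · refine TopologicalSpace.Opens.ext (Set.ext fun y => ?_)
    simp only [TopologicalSpace.Opens.coe_iInf, TopologicalSpace.Opens.map_coe, Set.mem_preimage,
      Set.mem_iInter]
    have h : ∀ σ, (ρ σ).hom ((ρ τ).hom y) = (ρ (σ * τ)).hom y := fun σ => by
      rw [map_mul, Aut.Aut_mul_def, Iso.trans_hom, Scheme.Hom.comp_apply]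
    constructor
    · intro hy σ
      have h1 := hy (σ * τ⁻¹)
      rw [h, inv_mul_cancel_right] at h1
      exact h1
    · intro hy σ
      rw [h]
      exact hy _

end Groth.Agent.S16124
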