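import Groth.Statements.S16126
import Groth.Agent.H20Borel.Cartan
import Groth.Agent.H20Num.Semistable

set_option autoImplicit false
set_option maxHeartbeats 1000000
set_option synthInstance.maxHeartbeats 100000
set_option linter.style.haveILetI false
set_option backward.isDefEq.respectTransparency false
universe u
open CategoryTheory MonoidalCategory CartesianMonoidalCategory MonObj GrpObj AlgebraicGeometry CategoryTheory.Limits
open AlgGrp

namespace Groth.Agent.S16126

open Groth.Agent Groth.Agent.H27Witt H20Mu H20Conj H20Borel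

/-- The powers of a point of the multiplicative group. -/
theorem comp_zpow_id {k : Type u} [Field k] {T : Over (Sk k)} (t : T ⟶ Red.Gm (Sk k)) (n : ℤ) :
    t ≫ ((𝟙 (Red.Gm (Sk k))) ^ n) = t ^ n := by
  let τ : (Red.Gm (Sk k) ⟶ Red.Gm (Sk k)) →* (T ⟶ Red.Gm (Sk k)) :=
    { toFun := fun f => t ≫ f, map_one' := MonObj.comp_one t, map_mul' := MonObj.comp_mul t }
  refine (map_zpow τ _ n).trans ?_
  show (t ≫ 𝟙 _) ^ n = t ^ n
  rw [Category.comp_id]

/-- A natural family of multiplicative units on the points of a group gives a character. -/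
theorem exists_hom_of_units {k : Type u} [Field k] {E : Over (Sk k)} [GrpObj E]
    (u : ∀ X : Over (Sk k), (X ⟶ E) →* (Fn X)ˣ)
    (hu : ∀ {X : Over (Sk k)} (x : X ⟶ E), Fn.pull x (u E (𝟙 E) : Fn E) = (u X x : Fn X)) (s : ℤ) :
    ∃ ch : E ⟶ Red.Gm (Sk k), IsMonHom ch ∧
      ∀ {X : Over (Sk k)} (x : X ⟶ E), GmPts.unitOfPt (x ≫ ch) = (u X x) ^ s := by
  let U : (Fn E)ˣ := (u E (𝟙 E)) ^ s
  have hch : ∀ {X : Over (Sk k)} (x : X ⟶ E),
      GmPts.unitOfPt (x ≫ GmPts.ptOfUnit U) = (u X x) ^ s := by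
    intro X x
    have h1 : Units.map ((Fn.pull x : Fn E →ₐ[k] Fn X) : Fn E →* Fn X) (u E (𝟙 E)) = u X x := Units.ext (hu x)
    rw [← pull_zFn, ← h1, ← map_zpow]
    refine Units.ext ?_
    show Fn.pull (x ≫ GmPts.ptOfUnit U) _ = Fn.pull x _
    rw [← Fn.pull_pull]
    congr 1
    refine (congrArg Units.val (pull_zFn (GmPts.ptOfUnit U))).trans ?_
    rw [GmPts.unitOfPt_ptOfUnit]
  refine ⟨GmPts.ptOfUnit U, ?_, hch⟩
  refine @Groth.Agent.H21Diag.isMonHom_of_mul (Over (Sk k)) _ _ E (Red.Gm (Sk k)) _ (Red.grpObj_bc _ _) (GmPts.ptOfUnit U)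
      (fun {X} x y => gm_pt_ext (congrArg Units.val ?_))
  rw [GmPts.unitOfPt_mul, hch, hch, hch, map_mul, mul_zpow]

theorem unitOfPt_id_zpow {k : Type u} [Field k] (n : ℤ) :
    GmPts.unitOfPt ((𝟙 (Red.Gm (Sk k))) ^ n) = (zFn : (Fn (Red.Gm (Sk k)))ˣ) ^ n :=
  map_zpow (unitHom (P := Red.Gm (Sk k))) (𝟙 _) n

theorem exists_hom_of_units' {k : Type u} [Field k] {E : Over (Sk k)} [GrpObj E]
    (u : ∀ X : Over (Sk k), (X ⟶ E) →* (Fn X)ˣ)
    (hu : ∀ {X : Over (Sk k)} (x : X ⟶ E), Fn.pull x (u E (𝟙 E) : Fn E) = (u X x : Fn X))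
    (i : Red.Gm (Sk k) ⟶ E) (N : ℤ) (hN : N ≠ 0)
    (hui : u (Red.Gm (Sk k)) i = (zFn : (Fn (Red.Gm (Sk k)))ˣ) ^ N) :
    ∃ (χ : E ⟶ Red.Gm (Sk k)) (n : ℕ), IsMonHom χ ∧ 1 ≤ n ∧
      ∀ (T : Over (Sk k)) (t : T ⟶ Red.Gm (Sk k)), (t ≫ i) ≫ χ = t ^ n := by
  obtain ⟨χ, hχ, hch⟩ := exists_hom_of_units u hu (if 0 < N then 1 else -1)
  refine ⟨χ, N.natAbs, hχ, Int.natAbs_pos.mpr hN, fun T t => ?_⟩
  have key : i ≫ χ = (𝟙 (Red.Gm (Sk k))) ^ (N.natAbs : ℤ) := by
    refine gm_pt_ext (congrArg Units.val ?_)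
    rw [hch, hui, unitOfPt_id_zpow, ← zpow_mul]
    exact congrArg (fun n : ℤ => (zFn : (Fn (Red.Gm (Sk k)))ˣ) ^ n) (by split <;> omega)
  rw [Category.assoc, key, comp_zpow_id]
  exact zpow_natCast t N.natAbs


/-- Over an algebraically closed field k, let E and G be linear algebraic groups (affine smooth k-group
schemes) with G connected, i : 𝔾_m → E a homomorphism which is a closed immersion with central
image, and f : E → G a flat surjective homomorphism with kernel i (a central extension 1 → 𝔾_m → E →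
G → 1). Then there exist a character χ : E → 𝔾_m and an integer n ≥ 1 such that χ ∘ i is the n-th
power map of 𝔾_m: for every point t of 𝔾_m with values in a k-scheme T, χ(i(t)) = tⁿ in the group of
T-points of 𝔾_m. (The published lemma is stated in a setting where all groups are linear; for a
connected G that is not linear the conclusion can fail.) -/
theorem result (k : Type u) [Field k] [IsAlgClosed k]
    (E G : Over (Spec (CommRingCat.of k))) [GrpObj E] [IsAffine E.left] [Smooth E.hom]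
    [GrpObj G] [IsAffine G.left] [Smooth G.hom] [ConnectedSpace ↥G.left]
    (i : Red.Gm (Spec (CommRingCat.of k)) ⟶ E) [IsMonHom i] [IsClosedImmersion i.left]
    (hcent : ∀ (T : Over (Spec (CommRingCat.of k))) (t : T ⟶ Red.Gm (Spec (CommRingCat.of k))) (g : T ⟶ E),
      (t ≫ i) * g = g * (t ≫ i))
    (f : E ⟶ G) [IsMonHom f] [Flat f.left] [Surjective f.left] (hker : AlgGrp.IsKernel i f) :
    ∃ (χ : E ⟶ Red.Gm (Spec (CommRingCat.of k))) (n : ℕ), IsMonHom χ ∧ 1 ≤ n ∧
      ∀ (T : Over (Spec (CommRingCat.of k))) (t : T ⟶ Red.Gm (Spec (CommRingCat.of k))), (t ≫ i) ≫ χ = t ^ n := by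
  classical
  haveI : IsMonHom i := inferInstance
  haveI : Mono i := Over.mono_of_mono_left i
  obtain ⟨M, χ, hd⟩ := exists_diag_rep i H20Num.isTorus_gm
  choose m hm using fun a => exists_eq_zpow (χ a) (M.isCharFn_diag hd a).1 (M.isCharFn_diag hd a).2
  have hne : ∃ a, m a ≠ 0 := by
    by_contra hcon
    push Not at hcon
    have h1 : i = 1 := M.mat_injective (by
      rw [map_one, ← Category.id_comp i, M.mat_diag hd]
      refine (congrArg Matrix.diagonal (funext fun a => ?_)).trans Matrix.diagonal_one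
      rw [hm, hcon, zpow_zero, Units.val_one, map_one])
    obtain ⟨c, hc⟩ : ∃ c : kˣ, c ≠ 1 := by
      by_contra hall
      push Not at hall
      refine zero_ne_one (α := ℤ) (eq_of_forall_zpow (k := k) fun u => ?_)
      rw [hall u, one_zpow, one_zpow]
    refine hc ?_
    have h2 : ofPar c = (1 : 𝟙_ (Over (Sk k)) ⟶ Red.Gm (Sk k)) := by
      rw [← cancel_mono i, h1, MonObj.comp_one, MonObj.comp_one]
    rw [← par_ofPar c, h2, par_one]
  obtain ⟨a0, ha0⟩ := hne
  let C := {b : Fin M.N // m b = m a0}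
  have hoff : ∀ {X : Over (Sk k)} (g : X ⟶ E) (b c : Fin M.N), m b ≠ m c → M.mat g b c = 0 := by
    intro X g b c hbc
    obtain ⟨c0, hc0⟩ : ∃ c0 : kˣ, c0 ^ m b ≠ c0 ^ m c := by
      by_contra hall
      push Not at hall
      exact hbc (eq_of_forall_zpow hall)
    refine M.entry_zero hd g (ofPar c0) (hcent X _ g).symm ?_
    rw [hm, hm, val_zFn_zpow, val_zFn_zpow, par_ofPar]
    exact fun h => hc0 (Units.ext h)
  let D : ∀ X : Over (Sk k), (X ⟶ E) →* Fn X := fun X =>
    { toFun := fun g => (Matrix.of fun b c : C => M.mat g b.1 c.1).det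
      map_one' := by
        rw [map_one]
        refine (congrArg Matrix.det ?_).trans Matrix.det_one
        ext b c
        simp only [Matrix.of_apply, Matrix.one_apply]
        exact if_congr Subtype.ext_iff.symm rfl rfl
      map_mul' := fun g h => by
        rw [← Matrix.det_mul]
        congr 1
        ext b c
        simp only [Matrix.of_apply, Matrix.mul_apply, map_mul]
        rw [← Finset.sum_subset (Finset.subset_univ (Finset.univ.filter fun r => m r = m a0))
          (fun r _ hr => by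
            rw [hoff g b.1 r (fun h => hr (Finset.mem_filter.mpr ⟨Finset.mem_univ r, h.symm.trans b.2⟩)),
              zero_mul])]
        exact Finset.sum_subtype _ (fun r => by simp) _ }
  let u : ∀ X : Over (Sk k), (X ⟶ E) →* (Fn X)ˣ := fun X => (D X).toHomUnits
  have hu : ∀ {X : Over (Sk k)} (x : X ⟶ E), Fn.pull x (u E (𝟙 E) : Fn E) = (u X x : Fn X) := by
    intro X x
    show Fn.pull x (Matrix.det _) = Matrix.det _
    rw [AlgHom.map_det]
    exact congrArg Matrix.det (Matrix.ext fun b c => (M.mat_comp x (𝟙 E) b.1 c.1).symm.trans (by rw [Category.comp_id]; rfl))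
  let N : ℤ := (Fintype.card C : ℤ) * m a0
  have hN : N ≠ 0 := by
    refine mul_ne_zero ?_ ha0
    haveI : Nonempty C := ⟨⟨a0, rfl⟩⟩
    exact_mod_cast Fintype.card_ne_zero
  have hui : u (Red.Gm (Sk k)) i = (zFn : (Fn (Red.Gm (Sk k)))ˣ) ^ N := by
    refine Units.ext ?_
    show Matrix.det _ = _
    rw [show (Matrix.of fun b c : C => M.mat i b.1 c.1) =
        Matrix.diagonal fun _ : C => ((zFn ^ m a0 : (Fn (Red.Gm (Sk k)))ˣ) : Fn (Red.Gm (Sk k))) by
      ext b c
      rw [Matrix.of_apply, Matrix.diagonal_apply, M.mat_apply, hd]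
      by_cases hbc : b = c
      · subst hbc; rw [if_pos rfl, if_pos rfl, hm, b.2]
      · rw [if_neg hbc, if_neg (fun h => hbc (Subtype.ext h))]]
    rw [Matrix.det_diagonal, Finset.prod_const, Finset.card_univ, ← Units.val_pow_eq_pow_val]
    congr 1
    rw [← zpow_natCast, ← zpow_mul, _root_.mul_comm]
  exact exists_hom_of_units' u hu i N hN hui

end Groth.Agent.S16126
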