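import Groth.Statements.S1613
import Groth.Agent.H29CurveDual.CanonAux

set_option autoImplicit false
universe u
open CategoryTheory CategoryTheory.Limits AlgebraicGeometry
open Curves

namespace Groth.Agent.S1613

/-- Let X be a smooth proper connected curve over an algebraically closed field k, of genus g ≥ 2. Then
every O_X-linear map from the sheaf of differentials Ω_{X/k} to O_X is zero (X has no nonzero
k-derivations of its structure sheaf). -/
theorem result (k : Type u) [Field k] [IsAlgClosed k] (X : Scheme.{u}) [X.Over (Spec (CommRingCat.of k))]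
    (hX : Curve.IsSmoothProperCurve k X (X ↘ (Spec (CommRingCat.of k)))) (hg : 2 ≤ Curv2.genus k X)
    (θ : Omega.sheaf (X ↘ (Spec (CommRingCat.of k))) ⟶ Coh.structureModule X) : θ = 0 := by
  obtain ⟨hp, hs, hi, hdim⟩ := hX
  haveI := hp
  haveI := hs
  haveI := hi
  refine H29CurveDual.hom_eq_zero_of_deg (k := k) hdim.le (H29CurveDual.isInvertible_omega_curve (k := k) hdim)
    (H11Ample.isInvertible_structureModule (X := X)) ?_ θ
  rw [H29RR.deg_structureModule, H29CurveDual.deg_omega_of_h0 hdim (H29RR.finrank_h0_structure k X)]
  omega

end Groth.Agent.S1613
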