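import Groth.Statements.S16131
import Groth.Agent.H19Quot.OrbitDim

set_option autoImplicit false
set_option maxHeartbeats 1000000
set_option synthInstance.maxHeartbeats 100000
set_option linter.style.haveILetI false
set_option backward.isDefEq.respectTransparency false
universe u
open CategoryTheory MonoidalCategory CartesianMonoidalCategory MonObj GrpObj AlgebraicGeometry CategoryTheory.Limits
open AlgGrp

namespace Groth.Agent.S16131

/-- Over an algebraically closed field k, let G be an algebraic group (a smooth k-group scheme of finite
type, not necessarily connected) acting on a variety X (a reduced separated k-scheme of finite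
type), and let x be a k-point of X with orbit G · x (the image of the orbit map). Then the boundary
cl(G · x) ∖ G · x has strictly smaller Krull dimension than G · x (both with the subspace topology
from X); so the orbit closure is the union of the orbit and of orbits of smaller dimension. -/
theorem result (k : Type u) [Field k] [IsAlgClosed k]
    (G X : Over (Spec (CommRingCat.of k))) [GrpObj G] [Smooth G.hom] [QuasiCompact G.hom]
    [IsReduced X.left] [IsSeparated X.hom] [LocallyOfFiniteType X.hom] [QuasiCompact X.hom]
    (a : AlgGrp.Action G X) (x : 𝟙_ (Over (Spec (CommRingCat.of k))) ⟶ X) :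
    topologicalKrullDim ↥(closure (Set.range (a.orbitMap x).left.base) \ Set.range (a.orbitMap x).left.base) <
      topologicalKrullDim ↥(Set.range (a.orbitMap x).left.base) := by
  obtain ⟨Z, z, hz, -, hZc, hZn, hzr, hzd⟩ := Groth.Agent.H19Quot.exists_orbit a x
  haveI := hz; haveI := hZc; haveI := hZn
  set O := Set.range (a.orbitMap x).left.base with hO
  have hlc := Groth.Agent.S7984.result k G X a x
  have hBc : IsClosed (closure O \ O) := by
    simpa [coborder] using hlc.isOpen_coborder.isClosed_compl
  rw [← hzd]
  obtain ⟨Bs, bs, hbs, -, hbr⟩ := Groth.Agent.H17.exists_reduced_of_isLocallyClosed hBc.isLocallyClosed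
  haveI : IsImmersion bs := hbs
  haveI : CompactSpace X.left := QuasiCompact.compactSpace_of_compactSpace X.hom
  haveI : CompactSpace Bs := ⟨bs.isEmbedding.isCompact_iff.2 (by
    rw [Set.image_univ, hbr]; exact hBc.isCompact)⟩
  rw [← hbr, Groth.Agent.H8Props.FieldDim.dim_range bs.isEmbedding]
  rcases isEmpty_or_nonempty Bs with hBe | hBne
  · have h1 : topologicalKrullDim Bs = ⊥ := by
      apply Order.krullDim_eq_bot_iff.2
      exact ⟨fun C => hBe.false C.isIrreducible.nonempty.some⟩
    rw [h1]
    haveI : LocallyOfFiniteType Z.hom := by rw [← Over.w z]; infer_instance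
    obtain ⟨s, hs⟩ := Groth.Agent.H8Props.FieldDim.exists_nat_cdim Z.hom (Classical.arbitrary Z.left)

    refine lt_of_lt_of_le ?_ (topologicalKrullDim_subspace_le _ (closure {Classical.arbitrary Z.left}))
    show ⊥ < Groth.Agent.H8Props.FieldDim.cdim _
    rw [hs]
    exact WithBot.bot_lt_coe _
  · exact Groth.Agent.H19Quot.dim_lt_of_boundary X.hom z.left bs (by rw [hbr, hzr])

end Groth.Agent.S16131
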