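import Groth.Statements.S16132
import Groth.Agent.H19TorQuot.Kernel
import Groth.Agent.H20Num.Semistable

set_option autoImplicit false
universe u
open CategoryTheory MonoidalCategory CartesianMonoidalCategory MonObj GrpObj AlgebraicGeometry CategoryTheory.Limits
open AlgGrp

namespace Groth.Agent.S16132

set_option maxHeartbeats 2000000
set_option synthInstance.maxHeartbeats 400000
set_option backward.isDefEq.respectTransparency false
open Groth.Agent.H19Grp.UnitsProd (pb pb_comp)


/-- Over an algebraically closed field k, let G be a connected algebraic group (a smooth connected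
k-group scheme of finite type, not necessarily affine). Then G has a largest torus quotient through
which all characters factor: there are a torus T (isomorphic to the diagonalizable group of ℤ^r for
some r), a flat surjective homomorphism q : G → T such that every character χ : G → 𝔾_m is χ' ∘ q
for some character χ' of T, and a kernel h : H → G of q (a homomorphism from a k-group scheme H
making the square against the unit section of T cartesian) with H connected and every character of H
trivial. (So H is the smallest closed normal subgroup scheme of G with G/H a torus, and restriction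
identifies the characters of G/H with those of G.) -/
theorem result (k : Type u) [Field k] [IsAlgClosed k]
    (G : Over (Spec (CommRingCat.of k))) [GrpObj G] [Smooth G.hom] [QuasiCompact G.hom] [ConnectedSpace ↥G.left] :
    ∃ (r : ℕ) (T : Over (Spec (CommRingCat.of k))) (_ : GrpObj T) (_ : Red.IsSplitTorusWith (Fin r → ℤ) T)
      (q : G ⟶ T) (_ : IsMonHom q) (H : Over (Spec (CommRingCat.of k))) (_ : GrpObj H) (h : H ⟶ G) (_ : IsMonHom h),
      Flat q.left ∧ Surjective q.left ∧ AlgGrp.IsKernel h q ∧ ConnectedSpace ↥H.left ∧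
      (∀ χ : G ⟶ Red.Gm (Spec (CommRingCat.of k)), IsMonHom χ → ∃ χ' : T ⟶ Red.Gm (Spec (CommRingCat.of k)), IsMonHom χ' ∧ q ≫ χ' = χ) ∧
      (∀ ψ : H ⟶ Red.Gm (Spec (CommRingCat.of k)), IsMonHom ψ → ψ = 1) := by
  obtain ⟨r, q, hq, hT, hqs, hqf, hqp, huniv⟩ := H19TorQuot.exists_torusQuot G
  haveI := hq; haveI := hqs; haveI := hqf; haveI := hqp
  have hfac : ∀ (E : Over (Spec (CommRingCat.of k))) [GrpObj E] (f : G ⟶ E) [IsMonHom f], Red.IsTorus E →
      ∃ g : Red.DS (Spec (CommRingCat.of k)) (Fin r → ℤ) ⟶ E, IsMonHom g ∧ q ≫ g = f :=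
    fun E _ f _ hE => H19TorQuot.exists_factor q huniv hE f
  haveI : IsSeparated (Red.DS (Spec (CommRingCat.of k)) (Fin r → ℤ)).hom := by
    haveI : LocallyOfFiniteType (Red.DS (Spec (CommRingCat.of k)) (Fin r → ℤ)).hom :=
      H21Diag.lft_of_multTypeFT (H21Diag.isMultTypeFT_of_isTorus hT)
    exact H19Grp.AffineQuotient.isSeparated_of_grp _
  obtain ⟨H, gH, h, hh, hhc, hk⟩ := H19Grp.AffineQuotient.exists_kernel q
  haveI := hh; haveI := hhc
  haveI : Mono h := Over.mono_of_mono_left _
  obtain ⟨hHs, hHn⟩ := H19TorQuot.kernel_smooth_connected hT q hfac h hk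
  haveI := hHs; haveI := hHn
  haveI : QuasiCompact H.hom := by rw [← Over.w h]; infer_instance
  refine ⟨r, Red.DS _ (Fin r → ℤ), inferInstance, ⟨Iso.refl _⟩, q, hq, H, gH, h, hh, hqf, hqs, hk, hHn,
    fun χ hχ => ?_, fun ψ hψ => ?_⟩
  · haveI := hχ
    obtain ⟨φ, hφ⟩ := huniv ℤ χ
    exact ⟨Red.DSmap _ φ, H21Diag.isMonHom_DSmap _ _, hφ⟩
  haveI := hψ
  have hGm : Red.IsTorus (Red.Gm (Spec (CommRingCat.of k))) := H20Num.isTorus_gm
  haveI : IsCommMonObj (Red.Gm (Spec (CommRingCat.of k))) := (H19SemiAb.torus_props _ hGm).2.2.2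
  refine H19TorQuot.char_eq_one hGm hT q hfac h hk ψ fun c hc => ?_
  haveI : IsReduced G.left := H19Chev.isReduced_smooth
  haveI : IsReduced H.left := H19Chev.isReduced_smooth
  haveI : IsSeparated H.hom := H19Grp.AffineQuotient.isSeparated_of_grp H
  let d : G ⊗ H ⟶ Red.Gm (Spec (CommRingCat.of k)) := (c ≫ ψ) * (snd G H ≫ ψ)⁻¹
  have hd : d = 1 := by
    refine H21Rank1.gmFn_injective ?_
    rw [H21Rank1.gmFn_one]
    refine H19Grp.UnitsProd.eq_one η[G] η[H] _ (H21Rank1.isUnit_gmFn d) ?_ ?_
    · have e1 : lift (𝟙 G) (toUnit G ≫ η[H]) ≫ c = 1 := by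
        rw [← cancel_mono h, Category.assoc, hc, MonObj.comp_mul, MonObj.comp_mul, GrpObj.comp_inv, lift_fst,
          lift_snd_assoc, ← Hom.one_def, MonObj.one_comp, _root_.mul_one, mul_inv_cancel]
      have e : lift (𝟙 G) (toUnit G ≫ η[H]) ≫ d = 1 := H19TorQuot.comp_div_eq_one _ (c ≫ ψ) (snd G H ≫ ψ) (by
        rw [← Category.assoc, e1, lift_snd_assoc, ← Hom.one_def])
      exact (H21Rank1.gmFn_comp _ d).symm.trans ((congrArg Red.gmFn e).trans H21Rank1.gmFn_one)
    · have e1 : lift (toUnit H ≫ η[G]) (𝟙 H) ≫ c = 𝟙 H := by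
        rw [← cancel_mono h, Category.assoc, hc, MonObj.comp_mul, MonObj.comp_mul, GrpObj.comp_inv, lift_fst,
          lift_snd_assoc, ← Hom.one_def, Category.id_comp, inv_one, _root_.mul_one, _root_.one_mul]
      have e : lift (toUnit H ≫ η[G]) (𝟙 H) ≫ d = 1 := H19TorQuot.comp_div_eq_one _ (c ≫ ψ) (snd G H ≫ ψ) (by
        rw [← Category.assoc, e1, lift_snd_assoc])
      exact (H21Rank1.gmFn_comp _ d).symm.trans ((congrArg Red.gmFn e).trans H21Rank1.gmFn_one)
  exact H19TorQuot.eq_of_div_eq_one hd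

end Groth.Agent.S16132
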