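import Groth.Statements.S16133
import Groth.Agent.H15Magnet.AffineRep
import Groth.Agent.H19Grp.Blanchard
import Groth.Agent.H06Red.Scheme
import Groth.Agent.H06Desc.Geom
import Mathlib.AlgebraicGeometry.Morphisms.LocalFlatDescent

set_option autoImplicit false
set_option maxHeartbeats 1000000
set_option synthInstance.maxHeartbeats 100000
set_option linter.style.haveILetI false
set_option backward.isDefEq.respectTransparency false
universe u
open CategoryTheory MonoidalCategory CartesianMonoidalCategory MonObj GrpObj AlgebraicGeometry CategoryTheory.Limits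
open AlgGrp

namespace Groth.Agent.S16133

open Desc Groth.Agent Groth.Agent.H19Grp

variable {k : Type u} [Field k] {G X Y Z : Over (Spec (CommRingCat.of k))} [GrpObj G]
  (a : AlgGrp.Action G X) {f : X ⟶ Y} (hsq : IsPullback a.act.left (snd G X).left f.left f.left)
  (b : AlgGrp.Action G Z)

include hsq in
theorem existsUnique_trans {T : Over (Spec (CommRingCat.of k))} (x₀ x₁ : T ⟶ X) (h : x₀ ≫ f = x₁ ≫ f) :
    ∃! g : T ⟶ G, lift g x₀ ≫ a.act = x₁ := by
  have hl := congrArg CommaMorphism.left h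
  let l : T ⟶ G ⊗ X := Over.homMk (hsq.lift x₁.left x₀.left hl.symm) (by
    rw [← Over.w (snd G X), ← Category.assoc, hsq.lift_snd]
    exact Over.w x₀)
  have h₁ : l ≫ a.act = x₁ := Over.OverMorphism.ext (hsq.lift_fst _ _ _)
  have h₀ : l ≫ snd G X = x₀ := Over.OverMorphism.ext (hsq.lift_snd _ _ _)
  have hl' : lift (l ≫ fst G X) x₀ = l := by
    apply CartesianMonoidalCategory.hom_ext
    · rw [lift_fst]
    · rw [lift_snd, h₀]
  refine ⟨l ≫ fst G X, by show lift _ x₀ ≫ a.act = x₁; rw [hl', h₁], fun g hg => ?_⟩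
  have e : lift g x₀ = l := Over.OverMorphism.ext (hsq.hom_ext
    (congrArg CommaMorphism.left (hg.trans h₁.symm))
    (congrArg CommaMorphism.left (show lift g x₀ ≫ snd G X = l ≫ snd G X by rw [lift_snd, h₀])))
  rw [← e, lift_fst]

/-- The group element moving `x₀` to `x₁`. -/
noncomputable def tr {T : Over (Spec (CommRingCat.of k))} (x₀ x₁ : T ⟶ X) (h : x₀ ≫ f = x₁ ≫ f) : T ⟶ G :=
  (existsUnique_trans a hsq x₀ x₁ h).exists.choose

theorem tr_spec {T : Over (Spec (CommRingCat.of k))} (x₀ x₁ : T ⟶ X) (h : x₀ ≫ f = x₁ ≫ f) :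
    lift (tr a hsq x₀ x₁ h) x₀ ≫ a.act = x₁ :=
  (existsUnique_trans a hsq x₀ x₁ h).exists.choose_spec

theorem eq_tr {T : Over (Spec (CommRingCat.of k))} (x₀ x₁ : T ⟶ X) (h : x₀ ≫ f = x₁ ≫ f) (g : T ⟶ G)
    (hg : lift g x₀ ≫ a.act = x₁) : g = tr a hsq x₀ x₁ h :=
  (existsUnique_trans a hsq x₀ x₁ h).unique hg (tr_spec a hsq x₀ x₁ h)

/-- Moving a point of `X ⊗ Z` to the point over `x₁`. -/
noncomputable def move {T : Over (Spec (CommRingCat.of k))} (v : T ⟶ X ⊗ Z) (x₁ : T ⟶ X)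
    (h : (v ≫ fst X Z) ≫ f = x₁ ≫ f) : T ⟶ X ⊗ Z :=
  lift x₁ (lift (tr a hsq (v ≫ fst X Z) x₁ h) (v ≫ snd X Z) ≫ b.act)

theorem comp_move {T T' : Over (Spec (CommRingCat.of k))} (t : T' ⟶ T) (v : T ⟶ X ⊗ Z) (x₁ : T ⟶ X)
    (h : (v ≫ fst X Z) ≫ f = x₁ ≫ f) (h' : ((t ≫ v) ≫ fst X Z) ≫ f = (t ≫ x₁) ≫ f) :
    t ≫ move a hsq b v x₁ h = move a hsq b (t ≫ v) (t ≫ x₁) h' := by
  unfold move
  rw [comp_lift, comp_lift_assoc]
  congr 3
  exact eq_tr a hsq _ _ h' _ (by rw [Category.assoc t v, ← comp_lift_assoc, tr_spec])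

theorem move_self {T : Over (Spec (CommRingCat.of k))} (v : T ⟶ X ⊗ Z) :
    move a hsq b v (v ≫ fst X Z) rfl = v := by
  unfold move
  rw [← eq_tr a hsq _ _ rfl 1 (Blanchard.lift_one_act a _), Blanchard.lift_one_act]
  apply CartesianMonoidalCategory.hom_ext <;> simp

theorem move_move {T : Over (Spec (CommRingCat.of k))} (v : T ⟶ X ⊗ Z) (x₁ x₂ : T ⟶ X)
    (h : (v ≫ fst X Z) ≫ f = x₁ ≫ f) (h' : (move a hsq b v x₁ h ≫ fst X Z) ≫ f = x₂ ≫ f)
    (h'' : (v ≫ fst X Z) ≫ f = x₂ ≫ f) :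
    move a hsq b (move a hsq b v x₁ h) x₂ h' = move a hsq b v x₂ h'' := by
  have e : (move a hsq b v x₁ h) ≫ fst X Z = x₁ := lift_fst _ _
  have ez : (move a hsq b v x₁ h) ≫ snd X Z = lift (tr a hsq (v ≫ fst X Z) x₁ h) (v ≫ snd X Z) ≫ b.act :=
    lift_snd _ _
  have key : tr a hsq (move a hsq b v x₁ h ≫ fst X Z) x₂ h' * tr a hsq (v ≫ fst X Z) x₁ h =
      tr a hsq (v ≫ fst X Z) x₂ h'' := by
    refine eq_tr a hsq _ _ h'' _ ?_
    have s := tr_spec a hsq (move a hsq b v x₁ h ≫ fst X Z) x₂ h'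
    rw [← Blanchard.lift_act, tr_spec]
    exact (congrArg (fun z => lift _ z ≫ a.act) e.symm).trans s
  show lift x₂ (lift (tr a hsq (move a hsq b v x₁ h ≫ fst X Z) x₂ h') ((move a hsq b v x₁ h) ≫ snd X Z) ≫ b.act) = _
  rw [ez, Blanchard.lift_act, key]
  rfl

/-- A point as a morphism over the field. -/
noncomputable def pt {T : Scheme.{u}} (x : T ⟶ X.left) : Over.mk (x ≫ X.hom) ⟶ X := Over.homMk x rfl

include f in
theorem base_eq' {T : Scheme.{u}} {x₀ x₁ : T ⟶ X.left} (h : x₀ ≫ f.left = x₁ ≫ f.left) :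
    x₀ ≫ X.hom = x₁ ≫ X.hom := by
  rw [← Over.w f, ← Category.assoc, ← Category.assoc, h]

variable (f) in
/-- A lift as a morphism over the field. -/
noncomputable def ptLift {T : Scheme.{u}} {x₀ : T ⟶ X.left} (x₁ : T ⟶ X.left) (h : x₀ ≫ f.left = x₁ ≫ f.left)
    (v : Lifts (Over.mk (fst X Z).left) x₀) : Over.mk (x₁ ≫ X.hom) ⟶ X ⊗ Z :=
  Over.homMk v.1 (by
    have hv : v.1 ≫ (fst X Z).left = x₀ := v.2
    show v.1 ≫ (X ⊗ Z).hom = x₁ ≫ X.hom
    rw [← Over.w (fst X Z), ← Category.assoc, hv, base_eq' (f := f) h])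

/-- The transport of lifts. -/
noncomputable def phi {T : Scheme.{u}} (x₀ x₁ : T ⟶ X.left) (h : x₀ ≫ f.left = x₁ ≫ f.left)
    (v : Lifts (Over.mk (fst X Z).left) x₀) : Lifts (Over.mk (fst X Z).left) x₁ :=
  ⟨(move a hsq b (ptLift f x₁ h v) (pt x₁) (Over.OverMorphism.ext (by
      have hv : v.1 ≫ (fst X Z).left = x₀ := v.2
      show (v.1 ≫ (fst X Z).left) ≫ f.left = x₁ ≫ f.left
      rw [hv, h]))).left, congrArg CommaMorphism.left (lift_fst (pt x₁) _)⟩

/-- The transport is computed over any test object. -/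
theorem phi_eq {T : Scheme.{u}} (x₀ x₁ : T ⟶ X.left) (h : x₀ ≫ f.left = x₁ ≫ f.left)
    (v : Lifts (Over.mk (fst X Z).left) x₀) {T' : Over (Spec (CommRingCat.of k))} (t : T'.left ⟶ T)
    (w : T' ⟶ X ⊗ Z) (y : T' ⟶ X) (hw : w.left = t ≫ v.1) (hy : y.left = t ≫ x₁)
    (e : (w ≫ fst X Z) ≫ f = y ≫ f) : t ≫ (phi a hsq b x₀ x₁ h v).1 = (move a hsq b w y e).left := by
  let τ : T' ⟶ Over.mk (x₁ ≫ X.hom) := Over.homMk t (by
    show t ≫ x₁ ≫ X.hom = T'.hom
    rw [← Over.w y, hy, Category.assoc])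
  have hw' : w = τ ≫ ptLift f x₁ h v := Over.OverMorphism.ext hw
  have hy' : y = τ ≫ pt x₁ := Over.OverMorphism.ext hy
  have hcongr : ∀ (w' : T' ⟶ X ⊗ Z) (y' : T' ⟶ X) (e' : (w' ≫ fst X Z) ≫ f = y' ≫ f), w = w' → y = y' →
      move a hsq b w' y' e' = move a hsq b w y e := by
    rintro _ _ _ rfl rfl
    rfl
  have e' : ((τ ≫ ptLift f x₁ h v) ≫ fst X Z) ≫ f = (τ ≫ pt x₁) ≫ f := by rw [← hw', ← hy']; exact e
  refine Eq.trans ?_ (congrArg CommaMorphism.left (hcongr _ _ e' hw' hy'))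
  exact congrArg CommaMorphism.left (comp_move a hsq b τ _ _ _ e')

theorem phi_self (T : Scheme.{u}) (x : T ⟶ X.left) (h : x ≫ f.left = x ≫ f.left)
    (v : Lifts (Over.mk (fst X Z).left) x) : phi a hsq b x x h v = v := by
  refine Subtype.ext ?_
  let w := ptLift f x h v
  have hy : pt x = w ≫ fst X Z := Over.OverMorphism.ext (show x = v.1 ≫ (fst X Z).left from v.2.symm)
  show (move a hsq b w (pt x) _).left = v.1
  have := congrArg CommaMorphism.left (move_self a hsq b w)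
  refine Eq.trans ?_ this
  congr 2

theorem phi_trans (T : Scheme.{u}) (x₀ x₁ x₂ : T ⟶ X.left) (h₀ : x₀ ≫ f.left = x₁ ≫ f.left)
    (h₁ : x₁ ≫ f.left = x₂ ≫ f.left) (v : Lifts (Over.mk (fst X Z).left) x₀) :
    phi a hsq b x₁ x₂ h₁ (phi a hsq b x₀ x₁ h₀ v) = phi a hsq b x₀ x₂ (h₀.trans h₁) v := by
  refine Subtype.ext ?_
  let T' : Over (Spec (CommRingCat.of k)) := Over.mk (x₂ ≫ X.hom)
  let w : T' ⟶ X ⊗ Z := ptLift f x₂ (h₀.trans h₁) v
  let y₁ : T' ⟶ X := Over.homMk x₁ (by show x₁ ≫ X.hom = x₂ ≫ X.hom; exact base_eq' (f := f) h₁)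
  have e₁ : (w ≫ fst X Z) ≫ f = y₁ ≫ f := Over.OverMorphism.ext (by
    show (v.1 ≫ (fst X Z).left) ≫ f.left = x₁ ≫ f.left
    rw [show v.1 ≫ (fst X Z).left = x₀ from v.2, h₀])
  have key₁ := phi_eq a hsq b x₀ x₁ h₀ v (T' := T') (𝟙 T) w y₁ (Category.id_comp _).symm (Category.id_comp _).symm e₁
  have e₂ : (move a hsq b w y₁ e₁ ≫ fst X Z) ≫ f = pt x₂ ≫ f := by
    rw [show move a hsq b w y₁ e₁ ≫ fst X Z = y₁ from lift_fst _ _]
    exact Over.OverMorphism.ext h₁
  have key₂ := phi_eq a hsq b x₁ x₂ h₁ (phi a hsq b x₀ x₁ h₀ v) (T' := T') (𝟙 T) (move a hsq b w y₁ e₁) (pt x₂)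
    key₁.symm (Category.id_comp _).symm e₂
  refine ((Category.id_comp _).symm.trans key₂).trans ?_
  exact congrArg CommaMorphism.left (move_move a hsq b w y₁ (pt x₂) e₁ e₂ _)

/-- The descent datum of the associated bundle. -/
noncomputable def datum : SchDD f.left where
  obj := Over.mk (fst X Z).left
  φ T x₀ x₁ h :=
    { toFun := phi a hsq b x₀ x₁ h
      invFun := phi a hsq b x₁ x₀ h.symm
      left_inv := fun v => (phi_trans a hsq b T x₀ x₁ x₀ h h.symm v).trans (phi_self a hsq b T x₀ _ v)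
      right_inv := fun v => (phi_trans a hsq b T x₁ x₀ x₁ h.symm h v).trans (phi_self a hsq b T x₁ _ v) }
  φ_natural T T' g x₀ x₁ h h' v v' hv := by
    have := phi_eq a hsq b x₀ x₁ h v (T' := Over.mk ((g ≫ x₁) ≫ X.hom)) g (ptLift f (g ≫ x₁) h' v') (pt (g ≫ x₁))
      hv rfl (Over.OverMorphism.ext (by
        show (v'.1 ≫ (fst X Z).left) ≫ f.left = (g ≫ x₁) ≫ f.left
        rw [show v'.1 ≫ (fst X Z).left = g ≫ x₀ from v'.2, h']))
    exact this.symm
  φ_self T x v := phi_self a hsq b T x rfl v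
  φ_comp T x₀ x₁ x₂ h₀ h₁ v := phi_trans a hsq b T x₀ x₁ x₂ h₀ h₁ v


/-- Over an algebraically closed field k, let G be an algebraic group (a smooth k-group scheme of finite
type), f : X → Y a principal G-bundle between varieties (X, Y reduced separated k-schemes of finite
type; σ the action on X; f flat and surjective with the square σ, p₂, f, f cartesian), and Z an
affine variety with an action τ of G. Then the associated fibre bundle X ×^G Z → Y exists: there are
a variety W (reduced, separated, of finite type over k), a morphism φ : X × Z → W which is invariant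
for the diagonal action g · (x, z) = (g · x, g · z), and a morphism ψ : W → Y such that the square
formed by p₁ : X × Z → X, φ, f and ψ is cartesian. (The published statement covers every
G-quasi-projective Z; affine G-varieties are G-quasi-projective, and only that case is stated here.) -/
theorem result (k : Type u) [Field k] [IsAlgClosed k]
    (G X Y Z : Over (Spec (CommRingCat.of k))) [GrpObj G] [Smooth G.hom] [QuasiCompact G.hom]
    [IsReduced X.left] [IsSeparated X.hom] [LocallyOfFiniteType X.hom] [QuasiCompact X.hom]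
    [IsReduced Y.left] [IsSeparated Y.hom] [LocallyOfFiniteType Y.hom] [QuasiCompact Y.hom]
    [IsReduced Z.left] [IsAffine Z.left] [LocallyOfFiniteType Z.hom]
    (a : AlgGrp.Action G X) (f : X ⟶ Y) [Flat f.left] [Surjective f.left]
    (hsq : IsPullback a.act.left (snd G X).left f.left f.left) (b : AlgGrp.Action G Z) :
    ∃ (W : Over (Spec (CommRingCat.of k))) (φ : X ⊗ Z ⟶ W) (ψ : W ⟶ Y),
      IsReduced W.left ∧ IsSeparated W.hom ∧ LocallyOfFiniteType W.hom ∧ QuasiCompact W.hom ∧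
      lift ((G ◁ fst X Z) ≫ a.act) ((G ◁ snd X Z) ≫ b.act) ≫ φ = snd G (X ⊗ Z) ≫ φ ∧
      IsPullback (fst X Z).left φ.left f.left ψ.left := by
  haveI : IsAffineHom Z.hom := inferInstance
  haveI : IsAffineHom (fst X Z).left := MorphismProperty.pullback_fst (P := @IsAffineHom) X.hom Z.hom inferInstance
  haveI : LocallyOfFiniteType (fst X Z).left :=
    MorphismProperty.pullback_fst (P := @LocallyOfFiniteType) X.hom Z.hom inferInstance
  haveI : QuasiCompact f.left := by
    haveI : QuasiCompact (f.left ≫ Y.hom) := by rw [Over.w f]; infer_instance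
    exact QuasiCompact.of_comp f.left Y.hom
  let D : SchDD f.left := datum a hsq b
  haveI : IsAffineHom D.obj.hom := inferInstanceAs (IsAffineHom (fst X Z).left)
  obtain ⟨U, ⟨e⟩⟩ := H15Magnet.AffineRep.isEffective_affine f.left D
  let E : Limits.pullback f.left U.hom ⟶ (X ⊗ Z).left := e.hom.hom.left
  let E' : (X ⊗ Z).left ⟶ Limits.pullback f.left U.hom := e.inv.hom.left
  have hE' : E' ≫ pullback.fst f.left U.hom = (fst X Z).left := Over.w e.inv.hom
  have hE'E : E' ≫ E = 𝟙 _ := congrArg CommaMorphism.left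
    (congrArg SchDD.Hom.hom e.inv_hom_id : e.inv.hom ≫ e.hom.hom = 𝟙 D.obj)
  have hEE' : E ≫ E' = 𝟙 _ := congrArg CommaMorphism.left
    (congrArg SchDD.Hom.hom e.hom_inv_id : e.hom.hom ≫ e.inv.hom = _)
  let W : Over (Spec (CommRingCat.of k)) := Over.mk (U.hom ≫ Y.hom)
  let ψ : W ⟶ Y := Over.homMk U.hom rfl
  let φ : X ⊗ Z ⟶ W := Over.homMk (E' ≫ pullback.snd f.left U.hom) (by
    show (E' ≫ pullback.snd f.left U.hom) ≫ U.hom ≫ Y.hom = (X ⊗ Z).hom
    rw [Category.assoc, ← pullback.condition_assoc, Over.w f, reassoc_of% hE', Over.w (fst X Z)])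
  haveI : IsIso E' := ⟨E, hE'E, hEE'⟩
  have hpb : IsPullback (fst X Z).left φ.left f.left ψ.left :=
    IsPullback.of_iso_pullback ⟨by
      show (fst X Z).left ≫ f.left = (E' ≫ pullback.snd f.left U.hom) ≫ U.hom
      rw [Category.assoc, ← pullback.condition, reassoc_of% hE']⟩ (asIso E') hE' rfl
  haveI : Flat φ.left := MorphismProperty.of_isPullback (P := @Flat) hpb inferInstance
  haveI : Surjective φ.left := MorphismProperty.of_isPullback (P := @Surjective) hpb inferInstance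
  haveI : IsAffineHom ψ.left := MorphismProperty.of_isPullback_of_descendsAlong (P := @IsAffineHom)
    (Q := H18Descent.fpqc) hpb ⟨⟨inferInstance, inferInstance⟩, inferInstance⟩ inferInstance
  haveI : LocallyOfFiniteType ψ.left := MorphismProperty.of_isPullback_of_descendsAlong
    (P := @LocallyOfFiniteType) (Q := (@Surjective ⊓ @Flat ⊓ @QuasiCompact : MorphismProperty Scheme.{u})) hpb
    ⟨⟨inferInstance, inferInstance⟩, inferInstance⟩ inferInstance
  haveI : IsSeparated W.hom := by show IsSeparated (ψ.left ≫ Y.hom); infer_instance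
  haveI : LocallyOfFiniteType W.hom := by show LocallyOfFiniteType (ψ.left ≫ Y.hom); infer_instance
  haveI : QuasiCompact W.hom := by show QuasiCompact (ψ.left ≫ Y.hom); infer_instance
  haveI : IsReduced (X ⊗ Z).left := by
    haveI := H06Red.geometricallyReduced_of_perfectField Z.hom
    haveI : IsLocallyNoetherian X.left := LocallyOfFiniteType.isLocallyNoetherian X.hom
    haveI : Flat Z.hom := H12AlgSp.flat_to_field _
    exact H06Red.isReduced_pullback X.hom Z.hom
  refine ⟨W, φ, ψ, H06Desc.isReduced_of_flat_surjective φ.left, inferInstance, inferInstance, inferInstance, ?_, hpb⟩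
  let T := G ⊗ (X ⊗ Z)
  let gX : T ⟶ X := (G ◁ fst X Z) ≫ a.act
  let σ : T ⟶ X ⊗ Z := lift gX ((G ◁ snd X Z) ≫ b.act)
  let x₀ : T.left ⟶ X.left := (snd G (X ⊗ Z) ≫ fst X Z).left
  have h01 : (snd G (X ⊗ Z) ≫ fst X Z) ≫ f = gX ≫ f := by
    have hw : a.act ≫ f = snd G X ≫ f := Over.OverMorphism.ext hsq.w
    rw [Category.assoc (G ◁ fst X Z), hw, whiskerLeft_snd_assoc, Category.assoc]
  have hl : x₀ ≫ f.left = gX.left ≫ f.left := congrArg CommaMorphism.left h01
  let P := snd G (X ⊗ Z)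
  let w : Lifts D.obj x₀ := ⟨P.left, rfl⟩
  let v : Lifts ((toDD f.left).obj U).obj x₀ := ⟨P.left ≫ E', by
    show (P.left ≫ E') ≫ pullback.fst f.left U.hom = x₀
    rw [Category.assoc, hE']; rfl⟩
  have hc := e.hom.comm x₀ gX.left hl v w (by
    show P.left = (P.left ≫ E') ≫ E
    rw [Category.assoc, hE'E, Category.comp_id])
  have hm : (D.φ x₀ gX.left hl w).1 = σ.left := by
    refine (Category.id_comp _).symm.trans ((phi_eq a hsq b x₀ gX.left hl w (𝟙 T.left) P gX
      (Category.id_comp _).symm (Category.id_comp _).symm h01).trans ?_)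
    refine congrArg CommaMorphism.left ?_
    unfold move
    rw [← eq_tr a hsq _ _ h01 (fst G (X ⊗ Z)) (by
      show lift (fst G (X ⊗ Z)) (snd G (X ⊗ Z) ≫ fst X Z) ≫ a.act = (G ◁ fst X Z) ≫ a.act
      congr 1)]
    congr 2
  apply Over.OverMorphism.ext
  show σ.left ≫ E' ≫ pullback.snd f.left U.hom = P.left ≫ E' ≫ pullback.snd f.left U.hom
  rw [← hm, hc, Category.assoc, reassoc_of% hEE']
  show (canMap f.left U x₀ gX.left hl v).1 ≫ pullback.snd f.left U.hom = _
  rw [canMap_val, pullback.lift_snd]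
  exact Category.assoc _ _ _

end Groth.Agent.S16133
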