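import Groth.Statements.S16136
import Groth.Agent.H10Coh.GGFibre

set_option autoImplicit false
universe u
open CategoryTheory CategoryTheory.Limits AlgebraicGeometry
open Coh

namespace Groth.Agent.S16136

/-- Let k be a field, Y a scheme proper over k and f : X → Y a proper flat morphism, X and Y each
carrying an ample invertible module (so both are projective over k), such that every
scheme-theoretic fibre of f is reduced. Let L be an invertible O_X-module with H^1(X, L) = 0 and
with H^i(X_y, L|_{X_y}) = 0 for every closed point y of Y and every i > 0, where X_y is the
scheme-theoretic fibre and L|_{X_y} the module pull-back of L to it. If L|_{X_y} is globally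
generated (a quotient of a free module) for every closed point y and the direct image f_*L is
globally generated on Y, then L is globally generated. (The published statement is over the complex
numbers and imposes the fibre conditions at every point; here k is any field and they are imposed at
closed points, which is what the argument uses.) -/
theorem result (k : Type u) [Field k]
    (X Y : Scheme.{u}) [Y.Over (Spec (CommRingCat.of k))] [IsProper (Y ↘ Spec (CommRingCat.of k))]
    (hY : ∃ B : Y.Modules, CohB1.IsAmple B)
    (f : X ⟶ Y) [IsProper f] [Flat f] (hX : ∃ A : X.Modules, CohB1.IsAmple A)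
    (hred : ∀ y : Y, IsReduced (f.fiber y))
    (L : X.Modules) (hL : PicF.IsInvertible L) (h1 : Subsingleton (Coh.HH X L 1))
    (h2 : ∀ y : Y, IsClosed ({y} : Set Y) → ∀ i : ℕ, 0 < i →
      Subsingleton (Coh.HH (f.fiber y) ((Scheme.Modules.pullback (f.fiberι y)).obj L) i))
    (hfib : ∀ y : Y, IsClosed ({y} : Set Y) →
      Curv2.IsGloballyGenerated ((Scheme.Modules.pullback (f.fiberι y)).obj L))
    (hE : Curv2.IsGloballyGenerated ((Scheme.Modules.pushforward f).obj L)) :
    Curv2.IsGloballyGenerated L := by
  haveI : IsLocallyNoetherian Y :=
    LocallyOfFiniteType.isLocallyNoetherian (Y ↘ Spec (CommRingCat.of k))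
  haveI : CompactSpace Y := QuasiCompact.compactSpace_of_compactSpace (Y ↘ Spec (CommRingCat.of k))
  haveI : CompactSpace X := QuasiCompact.compactSpace_of_compactSpace f
  exact Groth.Agent.H10Coh.GGFibre.isGloballyGenerated f hL (fun y hy => h2 y hy 1 one_pos) hfib hE

end Groth.Agent.S16136
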