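import Groth.Statements.S16137
import Groth.Agent.H29RR.SubBundle
import Groth.Agent.H29RR.CurveIntegral

set_option autoImplicit false
universe u
open CategoryTheory CategoryTheory.Limits AlgebraicGeometry
open VBCurve

namespace Groth.Agent.S16137

/-- Let k be an algebraically closed field of characteristic zero and X a smooth proper geometrically
connected curve over k (topological dimension one) of genus at least 2 (the text's standing setting:
a smooth projective complex curve of genus at least 2). Let 0 → F → E → G → 0 be a short exact
sequence of O_X-modules in which E is finite locally free of rank r ≥ 1 and slope-stable (deg F' · r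
< deg E · r' for every finite locally free submodule F' of E of rank r' with 0 < r' < r). Then
Hom(G, F) = 0: every morphism from the quotient G to the submodule F is zero. (The published
statement writes the conclusion as h^0(G^* ⊗ F) = 0.) -/
theorem result (k : Type u) [Field k] [IsAlgClosed k] [CharZero k]
    (X : Scheme.{u}) [X.Over (Spec (CommRingCat.of k))]
    [IsProper (X ↘ Spec (CommRingCat.of k))] [Smooth (X ↘ Spec (CommRingCat.of k))]
    [GeometricallyConnected (X ↘ Spec (CommRingCat.of k))] (hdim : topologicalKrullDim ↥X = 1)
    (hg : 2 ≤ Curv2.genus k X)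
    (T : ShortComplex X.Modules) (hT : T.ShortExact)
    (r : ℕ) (hr : 0 < r) (hE : FlatMod.IsFinLocFreeOfRank r T.X₂)
    (hst : ModFun.IsSlopeStable k X T.X₂ r)
    (φ : T.X₃ ⟶ T.X₁) : φ = 0 := by
  haveI := H29RR.isIntegral_of_geomConnected k X
  haveI := hT.mono_f
  haveI := hT.epi_g
  let ψ : T.X₂ ⟶ T.X₂ := T.g ≫ φ ≫ T.f
  have hψ : ψ = 0 := by
    by_contra h
    haveI := H29RR.isIso_endo_of_stable (k := k) hdim.le hE hst ψ h
    have h2 : ψ ≫ ψ = 0 := by simp [ψ]
    exact h ((cancel_mono ψ).1 (h2.trans zero_comp.symm))
  rw [← cancel_epi T.g, ← cancel_mono T.f, comp_zero, zero_comp, Category.assoc]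
  exact hψ

end Groth.Agent.S16137
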