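import Groth.Statements.S16142
import Groth.Agent.H22Alg.BiRegP1
import Groth.Agent.H16Derived.KFlat.FinLocFree

set_option autoImplicit false
universe u
open CategoryTheory CategoryTheory.Limits AlgebraicGeometry
open Variety

namespace Groth.Agent.S16142

/-- Let k be an algebraically closed field of characteristic zero and let G₁, G₂ be finite locally free
O-modules on P¹ ×_k P¹. Suppose G₁ is (p, q)-regular and G₂ is (m, n)-regular, regularity being the
bigraded one: F is (p, q)-regular when H^{u₁+u₂}(P¹ × P¹, F(p - u₁, q - u₂)) = 0 for all natural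
numbers u₁, u₂ with u₁ + u₂ > 0. Suppose moreover that G₁(p, q) and G₂(m, n) are globally generated.
Then G₁ ⊗ G₂ is (p + m, q + n)-regular. (The published lemma does not list the global generation of
G₁(p, q) and G₂(m, n) among its hypotheses: it obtains it from the bigraded form of Mumford's
regularity criterion, which the source quotes without proof; here it is carried as a hypothesis. The
source works over the complex numbers.) -/
theorem result (k : Type u) [Field k] [IsAlgClosed k] [CharZero k]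
    (G₁ G₂ : (W4c3multigrregular.biProj 1 1 k).Modules)
    (hG₁ : FlatMod.IsFinLocFree G₁) (hG₂ : FlatMod.IsFinLocFree G₂) (p q m n : ℤ)
    (hreg₁ : W4c3multigrregular.IsBiReg 1 1 k G₁ p q) (hreg₂ : W4c3multigrregular.IsBiReg 1 1 k G₂ m n)
    (hgg₁ : Curv2.IsGloballyGenerated (W4c3multigrregular.twistBi 1 1 k G₁ p q))
    (hgg₂ : Curv2.IsGloballyGenerated (W4c3multigrregular.twistBi 1 1 k G₂ m n)) :
    W4c3multigrregular.IsBiReg 1 1 k (CohB1.tensorMod G₁ G₂) (p + m) (q + n) := by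
  haveI := H28Int.isNoetherian k (X := W4c3multigrregular.biProj 1 1 k)
  have hd := H22Alg.BiRegP1.dim_le (k := k)
  have hA : Coh.IsCoh (W4c3multigrregular.twistBi 1 1 k G₁ p q) :=
    H10Coh.TT.isCoh_tensorMod (H16Derived.KFlat.Stalk.isCoh_of_isFinLocFree hG₁) (H22Alg.BiRegP1.coh_line p q)
  have hAf : FlatMod.IsFlat (W4c3multigrregular.twistBi 1 1 k G₁ p q) :=
    H16Derived.KFlat.Stalk.isFlat_of_isFinLocFree (H22Alg.BiRegP1.finLocFree_twist hG₁ p q)
  have hB : Coh.IsCoh (W4c3multigrregular.twistBi 1 1 k G₂ m n) :=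
    H10Coh.TT.isCoh_tensorMod (H16Derived.KFlat.Stalk.isCoh_of_isFinLocFree hG₂) (H22Alg.BiRegP1.coh_line m n)
  intro u₁ u₂ hu
  obtain ⟨e⟩ := H22Alg.BiRegP1.nonempty_twist_tensor G₁ G₂
    (show p + (m - (u₁ : ℤ)) = p + m - u₁ by ring) (show q + (n - (u₂ : ℤ)) = q + n - u₂ by ring)
    (show m + -(u₁ : ℤ) = m - u₁ by ring) (show n + -(u₂ : ℤ) = n - u₂ by ring)
  refine H22Alg.BiRegGG.van_iso e.symm ?_
  obtain ⟨eA⟩ := H22Alg.BiRegP1.nonempty_twist_one G₁
    (show p + -(u₁ : ℤ) = p - u₁ by ring) (show q + -(u₂ : ℤ) = q - u₂ by ring)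
  obtain ⟨eB⟩ := H22Alg.BiRegP1.nonempty_twist_one G₂
    (show m + -(u₁ : ℤ) = m - u₁ by ring) (show n + -(u₂ : ℤ) = n - u₂ by ring)
  have hM := (H22Alg.BiRegP1.coh_line (r := 1) (s := 1) (k := k) (-(u₁ : ℤ)) (-(u₂ : ℤ))).1
  have h₁ := H22Alg.BiRegGG.van_iso eA (hreg₁ u₁ u₂ hu)
  have h₂ := H22Alg.BiRegGG.van_iso eB (hreg₂ u₁ u₂ hu)
  rcases Nat.lt_or_ge (u₁ + u₂) 2 with h | h
  · obtain ⟨i, hi⟩ : ∃ i, u₁ + u₂ = i := ⟨_, rfl⟩
    rw [hi] at h₁ h₂ ⊢
    obtain rfl : i = 1 := by omega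
    exact H22Alg.BiRegGG.van_one_tensor_gg k hd hA hAf hgg₁ hB hgg₂ hM
      (H22Alg.BiRegP1.van_line (by omega) 2) h₁ h₂
  · rcases h.eq_or_lt with h | h
    · rw [← h] at h₂ ⊢
      exact H22Alg.BiRegGG.van_top_tensor_gg k hd hA hgg₁ (H22Alg.BiRegGG.qcoh_tensor hM hB.1) h₂
    · exact H22Alg.BiRegGG.van_high k
        (H22Alg.BiRegGG.qcoh_tensor (H22Alg.BiRegGG.qcoh_tensor hM hB.1) hA.1) hd h

end Groth.Agent.S16142
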