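import Groth.Statements.S16145
import Groth.Agent.H22Alg.BiRegP1
import Groth.Agent.H22Alg.BiRegExt
import Groth.Agent.H22Alg.KAmple
import Groth.Agent.S15827

set_option autoImplicit false
universe u
open CategoryTheory CategoryTheory.Limits AlgebraicGeometry
open Variety

namespace Groth.Agent.S16145

/-- Let k be an algebraically closed field of characteristic zero and G a finite locally free O-module
on P¹ ×_k P¹ which is (p, q)-regular in the bigraded sense (H^{u₁+u₂}(P¹ × P¹, G(p - u₁, q - u₂)) =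
0 whenever u₁ + u₂ > 0) and whose twist G(p, q) is globally generated. Then for every natural number
j, every j-th exterior power L of G (an O-module with L(U) ≅ ⋀^j G(U) over the affine opens U,
compatibly with restriction) is (j·p, j·q)-regular. (As for the first assertion, the published lemma
has no global-generation hypothesis and takes it from the bigraded form of Mumford's regularity
criterion, quoted without proof in the source; it is carried here. The source states this assertion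
over the complex numbers.) -/
theorem result (k : Type u) [Field k] [IsAlgClosed k] [CharZero k]
    (G : (W4c3multigrregular.biProj 1 1 k).Modules) (hG : FlatMod.IsFinLocFree G) (p q : ℤ)
    (hreg : W4c3multigrregular.IsBiReg 1 1 k G p q)
    (hgg : Curv2.IsGloballyGenerated (W4c3multigrregular.twistBi 1 1 k G p q))
    (j : ℕ) (L : (W4c3multigrregular.biProj 1 1 k).Modules) (hL : ExtPow.IsExtPow j G L) :
    W4c3multigrregular.IsBiReg 1 1 k L (j * p) (j * q) := by
  haveI := H28Int.isNoetherian k (X := W4c3multigrregular.biProj 1 1 k)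
  have hd := H22Alg.BiRegP1.dim_le (k := k)
  intro u₁ u₂ hu
  have hM := (H22Alg.BiRegP1.coh_line (r := 1) (s := 1) (k := k) (-(u₁ : ℤ)) (-(u₂ : ℤ))).1
  have hLq : Coh.IsQCoh L :=
    H22Alg.ExtPowHom.isQCoh_of_isExtPow (H16Derived.KFlat.Stalk.isCoh_of_isFinLocFree hG).1 hL
  rcases Nat.lt_or_ge 2 (u₁ + u₂) with h | h
  · exact H22Alg.BiRegGG.van_high k
      (H22Alg.BiRegGG.qcoh_tensor hLq (H22Alg.BiRegP1.coh_line _ _).1) hd h
  have h2 := H22Alg.BiRegP1.van_two (k := k) (a := -(u₁ : ℤ)) (b := -(u₂ : ℤ)) (by omega)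
  cases j with
  | zero =>
    obtain ⟨e₀⟩ := H22Alg.ExtPowHom.nonempty_iso (H22Alg.KExists.isExtPow_zero G) hL
    refine H22Alg.BiRegGG.van_iso ((H10Coh.Tw.leftUnitIso _).symm ≪≫ PicGrp.tensorModIso e₀
      (eqToIso (congrArg₂ (W4c3multigrregular.lineBundle 1 1 k)
        (show -(u₁ : ℤ) = ((0 : ℕ) : ℤ) * p - u₁ by simp) (show -(u₂ : ℤ) = ((0 : ℕ) : ℤ) * q - u₂ by simp)))) ?_
    obtain h' | h' : u₁ + u₂ = 1 ∨ u₁ + u₂ = 2 := by omega
    · exact H22Alg.BiRegP1.van_line (by omega) _
    · exact h'.symm ▸ h2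
  | succ j =>
    have hA : FlatMod.IsFinLocFree (W4c3multigrregular.twistBi 1 1 k G p q) :=
      H22Alg.BiRegP1.finLocFree_twist hG p q
    obtain ⟨M, hM'⟩ := H22Alg.ExtPowSheaf.exists_isExtPow (j + 1)
      (H16Derived.KFlat.Stalk.isCoh_of_isFinLocFree hA).1
    have hline : PicF.IsInvertible (W4c3multigrregular.lineBundle 1 1 k p q) :=
      H22Alg.BiRegP1.invertible_line p q
    obtain ⟨eM⟩ := S15827.result G (W4c3multigrregular.lineBundle 1 1 k p q) hG
      (H22Alg.KModel.finLocFreeOfRank_invertible hline) (j + 1) M L hM' hL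
    obtain ⟨ep⟩ := H22Alg.BiRegP1.line_pow (r := 1) (s := 1) (k := k) p q (j + 1)
    obtain ⟨e⟩ := H22Alg.BiRegP1.nonempty_twist_one L
      (show ((j + 1 : ℕ) : ℤ) * p + -(u₁ : ℤ) = ((j + 1 : ℕ) : ℤ) * p - u₁ by ring)
      (show ((j + 1 : ℕ) : ℤ) * q + -(u₂ : ℤ) = ((j + 1 : ℕ) : ℤ) * q - u₂ by ring)
    refine H22Alg.BiRegGG.van_iso ((e ≪≫ PicGrp.tensorModIso (Iso.refl _)
      (PicGrp.tensorModIso (Iso.refl L) ep.symm ≪≫ eM.symm)).symm) ?_
    obtain ⟨hv2, hv1⟩ := H22Alg.BiRegExt.van_extPow k hd hA hgg hM h2 j hM'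
    obtain h' | h' : u₁ + u₂ = 1 ∨ u₁ + u₂ = 2 := by omega
    · rw [h']
      refine hv1 (H22Alg.BiRegP1.van_line (by omega) 1) ?_
      obtain ⟨eA⟩ := H22Alg.BiRegP1.nonempty_twist_one G
        (show p + -(u₁ : ℤ) = p - u₁ by ring) (show q + -(u₂ : ℤ) = q - u₂ by ring)
      have hr := hreg u₁ u₂ hu
      rw [h'] at hr
      exact H22Alg.BiRegGG.van_iso eA hr
    · rw [h']
      exact hv2

end Groth.Agent.S16145
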