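import Groth.Statements.S16149
import Groth.Agent.H10Coh.Support
import Groth.Agent.H10Coh.FinType2

set_option autoImplicit false
universe u
open CategoryTheory CategoryTheory.Limits AlgebraicGeometry TopologicalSpace
open SDiv
open Groth.Agent

namespace Groth.Agent.S16149

/-- Let X be a locally Noetherian scheme, F a coherent O_X-module (quasi-coherent of finite type) and s
: O_X → F a global section of F. Then the set of points x of X at which the stalk map (O_X)_x → F_x
of s is bijective is open. (The published statement assumes moreover X integral and normal and F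
reflexive of rank one; the openness assertion uses only that F is coherent on a locally Noetherian
scheme, and it can fail for F quasi-coherent of finite type on a scheme that is not locally
Noetherian.) -/
theorem result (X : Scheme.{u}) [IsLocallyNoetherian X] (F : X.Modules) (hF : Coh.IsCoh F)
    (s : Coh.structureModule X ⟶ F) : IsOpen (RefPow.isoLocus s) := by
  classical
  have hO : Coh.IsCoh (Coh.structureModule X) := by
    refine (H10Coh.isCoh_iff_finite_sections _).2 ⟨H10Coh.isQuasicoherent_unit, fun U hU => ?_⟩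
    exact inferInstanceAs (Module.Finite Γ(X, U) Γ(X, U))
  have hK : CohB1.IsFT (kernel s) := (H10Coh.isCoh_kernel s hO hF.1).2
  have hC : CohB1.IsFT (cokernel s) := (H10Coh.isCoh_cokernel s hO.1 hF).2
  rw [isOpen_iff_forall_mem_open]
  intro x hx
  have hx' : Function.Bijective ((TopCat.Presheaf.stalkFunctor AddCommGrpCat.{u} x).map s.mapPresheaf) := hx
  obtain ⟨U₁, hxU₁, hU₁⟩ := H10Coh.exists_nhd_germ_eq_zero _ hK x (H10Coh.subsingleton_stalk_kernel s x hx'.1)
  obtain ⟨U₂, hxU₂, hU₂⟩ := H10Coh.exists_nhd_germ_eq_zero _ hC x (H10Coh.subsingleton_stalk_cokernel s x hx'.2)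
  have key : ∀ (U : X.Opens), IsIso ((Scheme.Modules.restrictFunctor U.ι).map s) → ∀ O : X.Opens, O ≤ U →
      Function.Bijective (s.app O) := by
    intro U hU O hOU
    have h1 : IsIso (((Scheme.Modules.restrictFunctor U.ι).map s).app (U.ι ⁻¹ᵁ O)) := inferInstance
    have h2 : IsIso (s.app (U.ι ''ᵁ (U.ι ⁻¹ᵁ O))) := h1
    rw [Scheme.Hom.image_preimage_eq_opensRange_inf, Scheme.Opens.opensRange_ι, inf_eq_right.mpr hOU] at h2
    exact ConcreteCategory.bijective_of_isIso _
  let U := U₁ ⊓ U₂
  have hiso : IsIso ((Scheme.Modules.restrictFunctor U.ι).map s) := by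
    have hm : Mono ((Scheme.Modules.restrictFunctor U.ι).map s) := by
      refine H10Coh.mono_restrict_of_isZero_kernel s U ?_
      exact H10Coh.restrict_subsingleton _ fun y hy => hU₁ y hy.1
    have he : Epi ((Scheme.Modules.restrictFunctor U.ι).map s) := by
      refine H10Coh.epi_restrict_of_isZero_cokernel s U ?_
      exact H10Coh.restrict_subsingleton _ fun y hy => hU₂ y hy.2
    exact isIso_of_mono_of_epi _
  refine ⟨U, fun y hy => ?_, U.2, ⟨hxU₁, hxU₂⟩⟩
  change Function.Bijective ((TopCat.Presheaf.stalkFunctor AddCommGrpCat.{u} y).map s.mapPresheaf)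
  constructor
  · rw [injective_iff_map_eq_zero]
    intro a ha
    obtain ⟨O, hO', t, rfl⟩ := TopCat.Presheaf.exists_germ_eq (Coh.structureModule X).presheaf a
    rw [H10Coh.germ_app] at ha
    obtain ⟨V, hyV, i, j, hV⟩ := TopCat.Presheaf.germ_eq F.presheaf y hO' hO' _ 0
      (ha.trans (map_zero (F.presheaf.germ O y hO').hom).symm)
    rw [← TopCat.Presheaf.germ_res_apply _ (homOfLE ((inf_le_left : V ⊓ U ≤ V).trans (leOfHom i))) y ⟨hyV, hy⟩ t]
    have h0 : s.app (V ⊓ U) ((Coh.structureModule X).presheaf.map (homOfLE ((inf_le_left : V ⊓ U ≤ V).trans (leOfHom i))).op t) = 0 := by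
      refine (ConcreteCategory.congr_hom (s.mapPresheaf.naturality (homOfLE ((inf_le_left : V ⊓ U ≤ V).trans (leOfHom i))).op) t).trans ?_
      have := congrArg (F.presheaf.map (homOfLE (inf_le_left : V ⊓ U ≤ V)).op) hV
      simp only [map_zero] at this
      rw [← this, ← ConcreteCategory.comp_apply, ← Functor.map_comp]
      rfl
    rw [(key U hiso _ inf_le_right).1 (h0.trans (map_zero _).symm)]
    exact map_zero _
  · intro b
    obtain ⟨O, hO', t, rfl⟩ := TopCat.Presheaf.exists_germ_eq F.presheaf b
    obtain ⟨t', ht'⟩ := (key U hiso (O ⊓ U) inf_le_right).2 (F.presheaf.map (homOfLE (inf_le_left : O ⊓ U ≤ O)).op t)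
    refine ⟨(Coh.structureModule X).presheaf.germ (O ⊓ U) y ⟨hO', hy⟩ t', ?_⟩
    exact ((H10Coh.germ_app s (O ⊓ U) y ⟨hO', hy⟩ t').trans (congrArg (F.presheaf.germ (O ⊓ U) y ⟨hO', hy⟩) ht')).trans
      (TopCat.Presheaf.germ_res_apply F.presheaf _ y _ t)

end Groth.Agent.S16149
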