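import Groth.Statements.S1615
import Mathlib.AlgebraicGeometry.ProjectiveSpectrum.Basic
import Mathlib.RingTheory.GradedAlgebra.Radical

set_option autoImplicit false
universe u
open CategoryTheory CategoryTheory.Limits AlgebraicGeometry
open Constr

namespace Groth.Agent.S1615

/-- For a graded ring A, quasi-compactness of Proj A is equivalent to the existence of finitely many
homogeneous elements of positive degree generating an ideal whose radical contains the irrelevant
ideal A_+. -/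
theorem result {R A : Type u} [CommRing R] [CommRing A] [Algebra R A] (𝒜 : ℕ → Submodule R A) [GradedAlgebra 𝒜] :
    CompactSpace ↥(Proj 𝒜) ↔ ∃ s : Finset A, (∀ f ∈ s, ∃ d : ℕ, 0 < d ∧ f ∈ 𝒜 d) ∧
      (HomogeneousIdeal.irrelevant 𝒜).toIdeal ≤ (Ideal.span (s : Set A)).radical := by
  classical
  constructor
  · intro hc
    have key : ∀ x : Proj 𝒜, ∃ p : {f : A // ∃ d : ℕ, 0 < d ∧ f ∈ 𝒜 d}, x ∈ Proj.basicOpen 𝒜 p.1 := by
      intro x
      obtain ⟨a, ha, hax⟩ := SetLike.not_le_iff_exists.1 x.not_irrelevant_le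
      obtain ⟨i, hi⟩ : ∃ i, GradedRing.proj 𝒜 i a ∉ x.asHomogeneousIdeal := by
        by_contra h
        push Not at h
        refine hax ?_
        rw [← DirectSum.sum_support_decompose 𝒜 a]
        exact Ideal.sum_mem _ fun i _ => h i
      refine ⟨⟨GradedRing.proj 𝒜 i a, i, Nat.pos_of_ne_zero ?_, SetLike.coe_mem _⟩, hi⟩
      rintro rfl
      rw [(HomogeneousIdeal.mem_irrelevant_iff 𝒜 a).1 ha] at hi
      exact hi (zero_mem _)
    choose p hp using key
    obtain ⟨t, ht⟩ := isCompact_univ.elim_finite_subcover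
      (fun x => (Proj.basicOpen 𝒜 (p x).1 : Set (Proj 𝒜))) (fun x => (Proj.basicOpen 𝒜 (p x).1).2)
      fun x _ => Set.mem_iUnion.2 ⟨x, hp x⟩
    refine ⟨t.image fun x => (p x).1, fun f hf => ?_, ?_⟩
    · obtain ⟨x, -, rfl⟩ := Finset.mem_image.1 hf
      exact (p x).2
    · have hhom : (Ideal.span ((t.image fun x => (p x).1 : Finset A) : Set A)).IsHomogeneous 𝒜 := by
        refine Ideal.homogeneous_span 𝒜 _ fun f hf => ?_
        obtain ⟨x, -, rfl⟩ := Finset.mem_image.1 hf
        obtain ⟨d, -, hd⟩ := (p x).2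
        exact ⟨d, hd⟩
      rw [hhom.radical_eq]
      refine le_sInf fun J ⟨hJh, hle, hJp⟩ => ?_
      by_contra hnot
      let y : Proj 𝒜 := ⟨⟨J, hJh⟩, hJp, fun h => hnot h⟩
      obtain ⟨x, hx, hy⟩ := Set.mem_iUnion₂.1 (ht (Set.mem_univ y))
      exact hy (hle (Ideal.subset_span (Finset.mem_image_of_mem (fun x => (p x).1) hx)))
  · rintro ⟨s, hs, hle⟩
    refine ⟨?_⟩
    have hcov : (Set.univ : Set (Proj 𝒜)) = ⋃ f ∈ s, (Proj.basicOpen 𝒜 f : Set (Proj 𝒜)) := by
      refine (Set.eq_univ_iff_forall.2 fun x => ?_).symm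
      by_contra h
      refine x.not_irrelevant_le (hle.trans (x.isPrime.radical_le_iff.2 (Ideal.span_le.2 fun f hf => ?_)))
      by_contra hfx
      exact h (Set.mem_biUnion (t := fun f => (Proj.basicOpen 𝒜 f : Set (Proj 𝒜))) hf hfx)
    rw [hcov]
    refine s.finite_toSet.isCompact_biUnion fun f hf => ?_
    obtain ⟨d, hd, hfd⟩ := hs f hf
    exact (Proj.isAffineOpen_basicOpen 𝒜 f hfd hd).isCompact

end Groth.Agent.S1615
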