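import Groth.Statements.S16150
import Groth.Agent.H29Ref.RefColim

set_option autoImplicit false
universe u
open CategoryTheory CategoryTheory.Limits AlgebraicGeometry TopologicalSpace
open SDiv

namespace Groth.Agent.S16150

variable {X : Scheme.{u}} [IsIntegral X] [IsLocallyNoetherian X] (U : X.Opens) {F : X.Modules}
  (s : Coh.structureModule X ⟶ F) (hF : RefHull.IsRef1 F) (hU : (U : Set X) = RefPow.isoLocus s)

/-- The cocone of divisions by powers of `s`. -/
noncomputable def legs : RefPow.diagram F s ⟶ (Functor.const ℕ).obj (H29Ref.pushO U) :=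
  NatTrans.ofSequence (H29Ref.leg U s hF hU) fun n => by
    rw [RefPow.diagram_map]
    exact (H29Ref.mulBy_leg U s hF hU n).trans (Category.comp_id _).symm

omit [IsLocallyNoetherian X] in
include hU in
/-- If `U` is empty, multiplication by `s` is zero. -/
theorem mulBy_stalk_zero [IsLocallyNoetherian X] (hF : RefHull.IsRef1 F) (hη : genericPoint X ∉ U) (n : ℕ) (x : X)
    (a : (RefPow.refPow F n).presheaf.stalk x) :
    RefHull.stalkMapₗ (RefPow.mulBy s n) x a = 0 := by
  have hs : H29Ref.sec1 s (genericPoint X) = 0 := by
    by_contra h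
    refine hη (hU.ge (show genericPoint X ∈ RefPow.isoLocus s from ?_))
    refine (Function.Bijective.of_comp_iff _ (H29Ref.bijective_smul_oneStalk _)).mp ?_
    refine (congrArg Function.Bijective (funext fun r => ?_)).mp
      (H29Ref.bijective_toSpan (H29Ref.stalkFree_generic F hF.1 hF.2.2) h)
    exact (map_smul (RefHull.stalkMapₗ s (genericPoint X)) r (H29Ref.oneStalk _)).symm
  have hsx : H29Ref.sec1 s x = 0 :=
    H29Ref.sp_injective F hF.1.1 (H29Ref.isTorsionFree_of_isReflexive F hF.1 hF.2.1) x
      ((H29Ref.sp_sec1 s x).trans (hs.trans (map_zero _).symm))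
  rcases n with _ | n
  · obtain ⟨r, rfl⟩ := (H29Ref.bijective_smul_oneStalk x).2 a
    show RefHull.stalkMapₗ s x (r • H29Ref.oneStalk x) = 0
    exact (map_smul _ r _).trans ((congrArg (r • ·) hsx).trans (smul_zero r))
  · rw [H29Ref.mulBy_stalk, ← H16Derived.KFlat.Stalk.toStalk_tmul]
    refine (congrArg _ (congrArg _ (congrArg (fun w : F.presheaf.stalk x => a ⊗ₜ[X.presheaf.stalk x] w)
      ((H29Ref.sec1_eq_sigma s x).symm.trans hsx)))).trans ?_
    rw [TensorProduct.tmul_zero, map_zero]
    exact map_zero _


/-- Let X be an integral locally Noetherian normal scheme, F a rank one coherent reflexive O_X-module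
and s : O_X → F a global section of F. Let U be the open subscheme of X whose points are those x at
which the stalk map (O_X)_x → F_x of s is bijective, and j : U → X its inclusion. Consider the
system O_X → F → F^[2] → F^[3] → ⋯ of reflexive powers (F^[0] = O_X, F^[1] = F, F^[n+1] the
reflexive hull of F^[n] ⊗ F), each map being multiplication by s. Then j_*(O_X|_U) is the colimit of
this system in the category of O_X-modules; precisely, there is a cocone from the system to
j_*(O_X|_U) whose leg in degree 0 is the restriction map O_X → j_*(O_X|_U) (the unit of the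
adjunction between restriction to U and direct image along j) and which is a colimit cocone. -/
theorem result (X : Scheme.{u}) [IsIntegral X] [IsLocallyNoetherian X]
    (hX : Pi1.IsNormalScheme X) (F : X.Modules) (hF : RefHull.IsRef1 F) (s : Coh.structureModule X ⟶ F)
    (U : X.Opens) (hU : (U : Set X) = RefPow.isoLocus s) :
    ∃ ι : RefPow.diagram F s ⟶ (Functor.const ℕ).obj ((Scheme.Modules.pushforward U.ι).obj ((Coh.structureModule X).restrict U.ι)),
      ι.app 0 = (Scheme.Modules.restrictAdjunction U.ι).unit.app (Coh.structureModule X) ∧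
        Nonempty (IsColimit (Cocone.mk _ ι)) := by
  refine ⟨legs U s hF hU, H29Ref.leg_zero U s hF hU, ?_⟩
  haveI : HasColimitsOfSize.{0, 0} X.Modules := hasColimitsOfSizeShrink.{0, 0, u, u} X.Modules
  let K := RefPow.diagram F s
  let c : Cocone K := Cocone.mk _ (legs U s hF hU)
  suffices IsIso ((colimit.isColimit K).desc c) from ⟨IsColimit.ofPointIso (colimit.isColimit K) (t := c)⟩
  refine H17.PushColim.isIso_of_stalkAb _ fun x => ?_
  haveI : PreservesColimitsOfSize.{0, 0} (H17.PushColim.stalkAb x) :=
    preservesColimitsOfSize_shrink.{0, u, 0, u} _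
  haveI : PreservesFilteredColimitsOfSize.{0, 0} (forget AddCommGrpCat.{u}) :=
    preservesSmallestFilteredColimits_of_preservesFilteredColimits (forget AddCommGrpCat.{u})
  haveI : PreservesColimitsOfShape ℕ (forget AddCommGrpCat.{u}) :=
    PreservesFilteredColimitsOfSize.preserves_filtered_colimits ℕ
  rw [ConcreteCategory.isIso_iff_bijective]
  have hc := isColimitOfPreserves (H17.PushColim.stalkAb x) (colimit.isColimit K)
  let A := H17.PushColim.stalkAb x
  have hfac : ∀ (n : ℕ) (a : (RefPow.refPow F n).presheaf.stalk x),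
      A.map ((colimit.isColimit K).desc c) (A.map (colimit.ι K n) a) =
        RefHull.stalkMapₗ (H29Ref.leg U s hF hU n) x a := fun n a => by
    rw [← ConcreteCategory.comp_apply, ← A.map_comp]
    exact congrArg (fun q => A.map q a) ((colimit.isColimit K).fac c n)
  have hrep : ∀ w, ∃ (n : ℕ) (a : (RefPow.refPow F n).presheaf.stalk x), A.map (colimit.ι K n) a = w :=
    fun w => Concrete.isColimit_exists_rep _ hc w
  constructor
  · refine (injective_iff_map_eq_zero _).mpr fun w hw => ?_
    obtain ⟨n, a, rfl⟩ := hrep w
    have ha : RefHull.stalkMapₗ (H29Ref.leg U s hF hU n) x a = 0 := (hfac n a).symm.trans hw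
    by_cases hη : genericPoint X ∈ U
    · rw [H29Ref.leg_injective U s hF hU hη n x (ha.trans (map_zero _).symm)]
      exact map_zero _
    · rw [← colimit.w K (homOfLE (Nat.le_succ n)), A.map_comp]
      show A.map (colimit.ι K (n + 1)) (A.map (K.map (homOfLE (Nat.le_succ n))) a) = 0
      rw [show A.map (K.map (homOfLE (Nat.le_succ n))) a = RefHull.stalkMapₗ (RefPow.mulBy s n) x a from
        congrArg (fun q => A.map q a) (RefPow.diagram_map F s n), mulBy_stalk_zero U s hU hF hη n x a]
      exact map_zero _
  · intro v
    by_cases hη : genericPoint X ∈ U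
    · obtain ⟨n, b, hb⟩ := H29Ref.exists_leg_eq U s hF hU hX hη x v
      exact ⟨A.map (colimit.ι K n) b, (hfac n b).trans hb⟩
    · haveI := H29Ref.subsingleton_pushO_stalk U (fun y hy => hη (H29Ref.genericPoint_mem hy)) x
      exact ⟨0, @Subsingleton.elim ((H29Ref.pushO U).presheaf.stalk x) _ _ _⟩

end Groth.Agent.S16150
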