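import Groth.Statements.S16151
import Groth.Agent.H29Ref.RefAffine

set_option autoImplicit false
universe u
open CategoryTheory CategoryTheory.Limits AlgebraicGeometry TopologicalSpace
open SDiv

namespace Groth.Agent.S16151

/-- Let X be an integral locally Noetherian normal scheme, F a rank one coherent reflexive O_X-module
and s : O_X → F a global section of F; let U be the open subscheme of X whose points are those x at
which the stalk map (O_X)_x → F_x of s is bijective, and let F^[n] denote the reflexive powers of F
(F^[0] = O_X, F^[1] = F, F^[n+1] the reflexive hull of F^[n] ⊗ F) with s^n ∈ Γ(X, F^[n]) the n-th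
power of s. Then the following are equivalent: (1) the inclusion morphism U → X is affine; (2) for
every point x of X not in U there is an integer n > 0 such that the germ of s^n at x lies in m_x ·
(F^[n])_x, where m_x is the maximal ideal of the local ring at x. -/
theorem result (X : Scheme.{u}) [IsIntegral X] [IsLocallyNoetherian X]
    (hX : Pi1.IsNormalScheme X) (F : X.Modules) (hF : RefHull.IsRef1 F) (s : Coh.structureModule X ⟶ F)
    (U : X.Opens) (hU : (U : Set X) = RefPow.isoLocus s) :
    IsAffineHom U.ι ↔
      ∀ x : X, x ∉ U → ∃ n : ℕ, 0 < n ∧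
        RefPow.sPowGerm s n x ∈ IsLocalRing.maximalIdeal (X.presheaf.stalk x) •
          (⊤ : Submodule (X.presheaf.stalk x) ((RefPow.refPow F n).presheaf.stalk x)) := by
  constructor
  · intro hA x hx
    obtain ⟨V, hV, hxV, -⟩ := exists_isAffineOpen_mem_and_subset (X := X) (x := x) (U := ⊤) trivial
    obtain ⟨n, hn, hmem⟩ := H29Ref.exists_sigma_mem U s hF hU hX hV
      ((hV.preimage U.ι).image_of_isOpenImmersion U.ι) hxV hx
    exact ⟨n, hn, (H29Ref.sigma_eq_sPowGerm s n x) ▸ hmem⟩
  · intro h
    refine isAffineHom_of_forall_exists_isAffineOpen U.ι fun x => ?_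
    obtain ⟨V, hV, hxV, -⟩ := exists_isAffineOpen_mem_and_subset (X := X) (x := x) (U := ⊤) trivial
    refine ⟨V, hxV, hV, (Scheme.Hom.isAffineOpen_iff_of_isOpenImmersion U.ι).1 ?_⟩
    refine H29Ref.isAffineOpen_tr U s hF hU (fun z hz => ?_) hV
    obtain ⟨n, _, hn⟩ := h z hz
    exact ⟨n, (H29Ref.sigma_eq_sPowGerm s n z).symm ▸ hn⟩

end Groth.Agent.S16151
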