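import Groth.Statements.S16152
import Mathlib

set_option autoImplicit false
universe u
open WGauss

namespace Groth.Agent.S16152

open MvPolynomial

section
variable (k : Type u) [Field k] [CharZero k] {N : ℕ}

lemma exists_le_degree (γ : Fin N →₀ ℕ) (m : ℕ) (h : m ≤ γ.degree) : ∃ δ, δ ≤ γ ∧ δ.degree = m := by
  induction m with
  | zero => exact ⟨0, zero_le, by simp⟩
  | succ m ih =>
    obtain ⟨δ, hδ, hdeg⟩ := ih (by omega)
    have : ∃ i, δ i < γ i := by
      by_contra hc
      push Not at hc
      have : δ = γ := le_antisymm hδ hc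
      rw [this] at hdeg
      omega
    obtain ⟨i, hi⟩ := this
    refine ⟨δ + Finsupp.single i 1, fun j => ?_, by rw [map_add, hdeg, Finsupp.degree_single]⟩
    rcases eq_or_ne j i with rfl | hj
    · simp; omega
    · simp [Ne.symm hj, hδ j]

lemma kosz (i j : Fin N) (A B d1 d2 : ℕ) (γ : Fin N →₀ ℕ) (hd : γ.degree = d1 + d2)
    (hab : (A : k) + B ≠ 0) :
    (fun l => monomial γ (1 : k) * (X j * Pi.single (M := fun _ => MvPolynomial (Fin N) k) i 1 l
        - X i * Pi.single (M := fun _ => MvPolynomial (Fin N) k) j 1 l)) ∈ Submodule.span k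
      {g : Fin N → MvPolynomial (Fin N) k |
        ∃ σ τ : MvPolynomial (Fin N) k, σ.IsHomogeneous (d1 + 1) ∧ τ.IsHomogeneous (d2 + 1) ∧
          g = fun l => (B : k) • (τ * pderiv l σ) - (A : k) • (σ * pderiv l τ)} := by
  obtain ⟨δ, hδ, hδd⟩ := exists_le_degree γ d1 (by omega)
  obtain ⟨ε, rfl⟩ : ∃ ε, γ = δ + ε := ⟨γ - δ, (add_tsub_cancel_of_le hδ).symm⟩
  rw [map_add, hδd] at hd
  set D : MvPolynomial (Fin N) k := monomial δ 1
  set E : MvPolynomial (Fin N) k := monomial ε 1
  have hD : D.IsHomogeneous d1 := isHomogeneous_monomial _ hδd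
  have hE : E.IsHomogeneous d2 := isHomogeneous_monomial _ (by omega)
  let W : Fin N → Fin N → Fin N → MvPolynomial (Fin N) k := fun u v l =>
    (B : k) • (E * X v * pderiv l (D * X u)) - (A : k) • (D * X u * pderiv l (E * X v))
  have hW : ∀ u v, W u v ∈ Submodule.span k
      {g : Fin N → MvPolynomial (Fin N) k |
        ∃ σ τ : MvPolynomial (Fin N) k, σ.IsHomogeneous (d1 + 1) ∧ τ.IsHomogeneous (d2 + 1) ∧
          g = fun l => (B : k) • (τ * pderiv l σ) - (A : k) • (σ * pderiv l τ)} := fun u v =>
    Submodule.subset_span ⟨D * X u, E * X v, hD.mul (isHomogeneous_X k u), hE.mul (isHomogeneous_X k v), rfl⟩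
  have key : (fun l => monomial (δ + ε) (1 : k) * (X j * Pi.single (M := fun _ => MvPolynomial (Fin N) k) i 1 l
        - X i * Pi.single (M := fun _ => MvPolynomial (Fin N) k) j 1 l))
      = ((A : k) + B)⁻¹ • (W i j - W j i) := by
    rw [eq_inv_smul_iff₀ hab]
    funext l
    simp only [Pi.smul_apply, Pi.sub_apply, W, pderiv_mul, pderiv_X, smul_eq_C_mul, map_add]
    rw [show monomial (δ + ε) (1 : k) = D * E by simp [D, E, monomial_mul]]
    simp only [Pi.single_apply, eq_comm (a := l)]
    split_ifs <;> ring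
  rw [key]
  exact Submodule.smul_mem _ _ (Submodule.sub_mem _ (hW _ _) (hW _ _))

end

open MvPolynomial in
/-- Over a field k of characteristic zero, for e, a, b positive integers with a < b, the weighted
Gaussian map of the line bundle O(e) on projective n-space is surjective. Concretely, identifying
global sections of O(m) with homogeneous polynomials of degree m in X_0, ..., X_n and global
sections of the twisted cotangent sheaf Omega^1(t) with the (n+1)-tuples of homogeneous polynomials
of degree t - 1 killed by the Euler map (f_i) to sum_i X_i f_i, every such tuple with t = (a+b)e is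
a k-linear combination of the tuples (b tau (d sigma / d X_i) - a sigma (d tau / d X_i))_i with
sigma homogeneous of degree ae and tau homogeneous of degree be. (The source works over the complex
numbers; the statement is one of linear algebra and is given here over any field of characteristic
zero.) -/
theorem result
    (k : Type u) [Field k] [CharZero k] (n e a b : ℕ) (he : 0 < e) (ha : 0 < a) (hab : a < b)
    (f : Fin (n + 1) → MvPolynomial (Fin (n + 1)) k)
    (hf : ∀ i, (f i).IsHomogeneous ((a + b) * e - 1))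
    (hEuler : ∑ i, X i * f i = 0) :
    f ∈ Submodule.span k
      {g : Fin (n + 1) → MvPolynomial (Fin (n + 1)) k |
        ∃ σ τ : MvPolynomial (Fin (n + 1)) k, σ.IsHomogeneous (a * e) ∧ τ.IsHomogeneous (b * e) ∧
          g = fun i => (b : k) • (τ * pderiv i σ) - (a : k) • (σ * pderiv i τ)} := by
  obtain ⟨d1, hd1⟩ : ∃ d1, a * e = d1 + 1 := ⟨a * e - 1, by have := Nat.mul_pos ha he; omega⟩
  obtain ⟨d2, hd2⟩ : ∃ d2, b * e = d2 + 1 := ⟨b * e - 1, by have := Nat.mul_pos (ha.trans hab) he; omega⟩
  have ht : (a + b) * e - 1 = d1 + d2 + 1 := by rw [add_mul, hd1, hd2]; omega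
  rw [ht] at hf
  set t : ℕ := d1 + d2 + 2 with htdef
  have hab' : (a : k) + b ≠ 0 := by
    rw [← Nat.cast_add, Nat.cast_ne_zero]; omega
  rw [hd1, hd2]
  set S := Submodule.span k
      {g : Fin (n + 1) → MvPolynomial (Fin (n + 1)) k |
        ∃ σ τ : MvPolynomial (Fin (n + 1)) k, σ.IsHomogeneous (d1 + 1) ∧ τ.IsHomogeneous (d2 + 1) ∧
          g = fun i => (b : k) • (τ * pderiv i σ) - (a : k) • (σ * pderiv i τ)}
  let g : Fin (n + 1) → Fin (n + 1) → MvPolynomial (Fin (n + 1)) k := fun i j =>
    pderiv j (f i) - pderiv i (f j)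
  let K : Fin (n + 1) → Fin (n + 1) → Fin (n + 1) → MvPolynomial (Fin (n + 1)) k := fun i j l =>
    X j * Pi.single (M := fun _ => MvPolynomial (Fin (n + 1)) k) i 1 l
      - X i * Pi.single (M := fun _ => MvPolynomial (Fin (n + 1)) k) j 1 l
  have hmem : ∀ i j, (fun l => g i j * K i j l) ∈ S := by
    intro i j
    have hg : (g i j).IsHomogeneous (d1 + d2) := by
      have h1 := (hf i).pderiv (i := j)
      have h2 := (hf j).pderiv (i := i)
      simpa [g] using h1.sub h2
    have e1 : (fun l => g i j * K i j l) =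
        ∑ γ ∈ (g i j).support, (g i j).coeff γ • (fun l => monomial γ (1 : k) * K i j l) := by
      funext l
      conv_lhs => rw [as_sum (g i j)]
      simp only [Finset.sum_mul, Finset.sum_apply, Pi.smul_apply, ← smul_mul_assoc, smul_monomial,
        smul_eq_mul, mul_one]
    rw [e1]
    refine Submodule.sum_mem _ fun γ hγ => Submodule.smul_mem _ _ (kosz k i j a b d1 d2 γ ?_ hab')
    have := hg (mem_support_iff.mp hγ)
    simpa [Finsupp.weight_apply, Finsupp.degree_apply, Finsupp.sum] using this
  have hsum : ∑ i, ∑ j, (fun l => g i j * K i j l) = ((2 * t : ℕ) : k) • f := by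
    funext l
    have hE : ∀ i : Fin (n + 1), ∑ j, X j * pderiv i (f j) = - f i := fun i => by
      have h := congr_arg (pderiv i) hEuler
      simp only [map_sum, pderiv_mul, pderiv_X, map_zero, Finset.sum_add_distrib, Pi.single_apply,
        ite_mul, one_mul, zero_mul, Finset.sum_ite_eq', Finset.mem_univ, if_true] at h
      linear_combination h
    have hA : ∑ j, X j * pderiv j (f l) = (d1 + d2 + 1) • f l := (hf l).sum_X_mul_pderiv
    simp only [Finset.sum_apply, K, Pi.single_apply, mul_sub, Finset.sum_sub_distrib, mul_ite, mul_one,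
      mul_zero, Finset.sum_ite_eq, Finset.mem_univ, if_true, Pi.smul_apply]
    rw [Finset.sum_comm (γ := Fin (n + 1))]
    simp only [Finset.sum_ite_eq, Finset.mem_univ, if_true, g, sub_mul, Finset.sum_sub_distrib,
      mul_comm _ (X _)]
    simp only [mul_sub, Finset.sum_sub_distrib]
    rw [hA, hE, smul_eq_C_mul, map_natCast, htdef]
    simp only [nsmul_eq_mul]
    push_cast
    ring
  have h2t : ((2 * t : ℕ) : k) ≠ 0 := Nat.cast_ne_zero.mpr (by omega)
  have : f = ((2 * t : ℕ) : k)⁻¹ • ∑ i, ∑ j, (fun l => g i j * K i j l) := by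
    rw [hsum, inv_smul_smul₀ h2t]
  rw [this]
  exact Submodule.smul_mem _ _ (Submodule.sum_mem _ fun i _ => Submodule.sum_mem _ fun j _ => hmem i j)

end Groth.Agent.S16152
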