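import Groth.Statements.S16153
import Mathlib

set_option autoImplicit false
universe u
open SpinRat

set_option maxHeartbeats 2000000

namespace Groth.Agent.S16153

open MvPolynomial

variable {k : Type*} [Field k]

/-- The exponent `(i, 3 - i, j, 3 - j)`. -/
noncomputable def mon (i j : ℕ) : Fin 4 →₀ ℕ := Finsupp.equivFunOnFinite.symm ![i, 3 - i, j, 3 - j]

/-- The coefficients of a bicubic form. -/
noncomputable def a (f : MvPolynomial (Fin 4) k) (i j : ℕ) : k := coeff (mon i j) f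

theorem weight_apply (w : Fin 4 → ℕ) (d : Fin 4 →₀ ℕ) :
    Finsupp.weight w d = d 0 * w 0 + d 1 * w 1 + d 2 * w 2 + d 3 * w 3 := by
  rw [Finsupp.weight_apply, Finsupp.sum_fintype _ _ (fun i => zero_smul ℕ (w i)), Fin.sum_univ_four]
  simp only [smul_eq_mul]

theorem expand (f : MvPolynomial (Fin 4) k) (h1 : f.IsWeightedHomogeneous (![1, 1, 0, 0] : Fin 4 → ℕ) 3)
    (h2 : f.IsWeightedHomogeneous (![0, 0, 1, 1] : Fin 4 → ℕ) 3) :
    f = ∑ p ∈ Finset.range 4 ×ˢ Finset.range 4, monomial (mon p.1 p.2) (a f p.1 p.2) := by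
  classical
  ext d
  rw [coeff_sum]
  simp only [coeff_monomial]
  by_cases hd : coeff d f = 0
  · rw [hd, Finset.sum_eq_zero fun p _ => ?_]
    split_ifs with h
    · rw [a, h, hd]
    · rfl
  · have e1 := h1 hd
    have e2 := h2 hd
    rw [weight_apply] at e1 e2
    simp at e1 e2
    have hm : mon (d 0) (d 2) = d := by
      ext i
      fin_cases i <;> simp [mon] <;> omega
    rw [Finset.sum_eq_single (d 0, d 2)]
    · rw [if_pos hm, a, hm]
    · intro p hp hne
      rw [if_neg]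
      intro h
      apply hne
      have e3 := DFunLike.congr_fun h 0
      have e4 := DFunLike.congr_fun h 2
      simp [mon] at e3 e4
      exact Prod.ext e3 e4
    · intro h
      refine absurd (Finset.mem_product.mpr ⟨Finset.mem_range.mpr ?_, Finset.mem_range.mpr ?_⟩) h <;> omega

theorem map_expand {B : Type*} [CommRing B] [Algebra k B] (f : MvPolynomial (Fin 4) k)
    (h1 : f.IsWeightedHomogeneous (![1, 1, 0, 0] : Fin 4 → ℕ) 3)
    (h2 : f.IsWeightedHomogeneous (![0, 0, 1, 1] : Fin 4 → ℕ) 3) (y : Fin 4 → B) :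
    aeval y f = ∑ p ∈ Finset.range 4 ×ˢ Finset.range 4,
      algebraMap k B (a f p.1 p.2) * (y 0 ^ p.1 * y 1 ^ (3 - p.1) * y 2 ^ p.2 * y 3 ^ (3 - p.2)) := by
  conv_lhs => rw [expand f h1 h2]
  rw [map_sum]
  refine Finset.sum_congr rfl fun p _ => ?_
  rw [aeval_monomial, Finsupp.prod_fintype _ _ (fun i => pow_zero _), Fin.prod_univ_four]
  simp [mon]

theorem a_swap (f : MvPolynomial (Fin 4) k) (i j : ℕ) :
    a (rename (![2, 3, 0, 1] : Fin 4 → Fin 4) f) j i = a f i j := by
  have hinj : Function.Injective (![2, 3, 0, 1] : Fin 4 → Fin 4) := by decide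
  have hm : (mon i j).mapDomain (![2, 3, 0, 1] : Fin 4 → Fin 4) = mon j i := by
    ext x
    obtain ⟨y, rfl⟩ := (Finite.injective_iff_surjective.mp hinj) x
    rw [Finsupp.mapDomain_apply hinj]
    fin_cases y <;> simp [mon]
  rw [a, a, ← hm, coeff_rename_mapDomain _ hinj]

open DualNumber TrivSqZeroExt in
theorem rels (f : MvPolynomial (Fin 4) k)
    (h1 : f.IsWeightedHomogeneous (![1, 1, 0, 0] : Fin 4 → ℕ) 3)
    (h2 : f.IsWeightedHomogeneous (![0, 0, 1, 1] : Fin 4 → ℕ) 3)
    (hd : (X 0 * X 1 * (X 0 - X 1)) ^ 2 ∣ rename (![0, 1, 0, 1] : Fin 4 → Fin 2) f) :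
    a f 0 0 = 0 ∧ a f 0 1 + a f 1 0 = 0 ∧ a f 3 3 = 0 ∧ a f 2 3 + a f 3 2 = 0 ∧
      (∑ i ∈ Finset.range 4, ∑ j ∈ Finset.range 4, a f i j) = 0 ∧
      (∑ i ∈ Finset.range 4, ∑ j ∈ Finset.range 4, ((i : k) + (j : k)) * a f i j) = 0 := by
  have key : ∀ y : Fin 2 → DualNumber k, (y 0 * y 1 * (y 0 - y 1)) ^ 2 = 0 →
      (∑ i ∈ Finset.range 4, ∑ j ∈ Finset.range 4,
        algebraMap k (DualNumber k) (a f i j) * (y 0 ^ i * y 1 ^ (3 - i) * y 0 ^ j * y 1 ^ (3 - j))) = 0 := by
    intro y hy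
    obtain ⟨g, hg⟩ := hd
    have := congrArg (aeval y) hg
    rw [aeval_rename, map_expand f h1 h2, map_mul, Finset.sum_product] at this
    simp [hy] at this
    exact this
  have k0 := key ![eps, 1] (by simp; linear_combination ((eps - 1) ^ 2 : DualNumber k) * (eps_mul_eps : (eps : DualNumber k) * eps = 0))
  have k1 := key ![1, eps] (by simp; linear_combination ((1 - eps) ^ 2 : DualNumber k) * (eps_mul_eps : (eps : DualNumber k) * eps = 0))
  have k2 := key ![1 + eps, 1] (by simp; linear_combination ((1 + eps) ^ 2 : DualNumber k) * (eps_mul_eps : (eps : DualNumber k) * eps = 0))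
  simp [Finset.sum_range_succ, TrivSqZeroExt.ext_iff, TrivSqZeroExt.algebraMap_eq_inl] at k0 k1 k2 ⊢
  refine ⟨?_, ?_, ?_, ?_, ?_, ?_⟩
  · linear_combination k0.1
  · linear_combination k0.2
  · linear_combination k1.1
  · linear_combination k1.2
  · linear_combination k2.1
  · linear_combination k2.2

end Groth.Agent.S16153

namespace Groth.Agent.S16153

open MvPolynomial in
/-- In the bigraded polynomial ring k[x0, x1, y0, y1] of the quadric surface (variables X 0, X 1, X 2, X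
3 in this order), over a field k of characteristic zero, let iota exchange x_i with y_i, let l = x0
y1 - x1 y0 be the diagonal, h1 = x0 (y1 - y0) + y0 (x1 - x0), h2 = x1 (y0 - y1) + y1 (x0 - x1), h3 =
x0 y1 + x1 y0, h = h1 + h2 + h3, h13 = h1 - h3, h23 = h2 - h3, and let c = x0 x1 (x0 - x1) y0 y1 (y0
- y1) be the product of the six rulings through the three diagonal points (1:0)x(1:0), (0:1)x(0:1),
(1:1)x(1:1). Let I be the space of forms of bidegree (3,3) whose restriction to the diagonal is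
divisible by (x0 x1 (x0 - x1))^2, that is, the bidegree-(3,3) forms through the length-six subscheme
of the diagonal doubled at those three points. Then the iota-invariant forms in I are exactly the
span of c, l^2 h, l^2 h13, l^2 h23; the iota-anti-invariant forms in I are exactly the span of l
h^2, l h h13, l h h23, l h13^2, l h23^2, l h13 h23; and these ten forms are linearly independent.
(The source works over the complex numbers and writes the two eigenspaces as direct sums of the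
displayed pieces; the six-line form c is read as the product of the two cubic factors.) -/
theorem result
    (k : Type u) [Field k] [CharZero k]
    (l h1 h2 h3 h h13 h23 c : MvPolynomial (Fin 4) k)
    (hl : l = X 0 * X 3 - X 1 * X 2)
    (hh1 : h1 = X 0 * (X 3 - X 2) + X 2 * (X 1 - X 0))
    (hh2 : h2 = X 1 * (X 2 - X 3) + X 3 * (X 0 - X 1))
    (hh3 : h3 = X 0 * X 3 + X 1 * X 2)
    (hh : h = h1 + h2 + h3) (hh13 : h13 = h1 - h3) (hh23 : h23 = h2 - h3)
    (hc : c = X 0 * X 1 * (X 0 - X 1) * (X 2 * X 3 * (X 2 - X 3)))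
    (I : Submodule k (MvPolynomial (Fin 4) k))
    (hI : ∀ f, f ∈ I ↔
      (f.IsWeightedHomogeneous (![1, 1, 0, 0] : Fin 4 → ℕ) 3 ∧
       f.IsWeightedHomogeneous (![0, 0, 1, 1] : Fin 4 → ℕ) 3 ∧
       (X 0 * X 1 * (X 0 - X 1)) ^ 2 ∣ rename (![0, 1, 0, 1] : Fin 4 → Fin 2) f)) :
    (∀ f, (f ∈ I ∧ rename (![2, 3, 0, 1] : Fin 4 → Fin 4) f = f) ↔
        f ∈ Submodule.span k ({c, l ^ 2 * h, l ^ 2 * h13, l ^ 2 * h23} : Set (MvPolynomial (Fin 4) k))) ∧
    (∀ f, (f ∈ I ∧ rename (![2, 3, 0, 1] : Fin 4 → Fin 4) f = -f) ↔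
        f ∈ Submodule.span k ({l * h ^ 2, l * h * h13, l * h * h23, l * h13 ^ 2, l * h23 ^ 2, l * h13 * h23} :
          Set (MvPolynomial (Fin 4) k))) ∧
    LinearIndependent k
      ![c, l ^ 2 * h, l ^ 2 * h13, l ^ 2 * h23, l * h ^ 2, l * h * h13, l * h * h23, l * h13 ^ 2, l * h23 ^ 2,
        l * h13 * h23] := by
  have hsum : ∀ (f : MvPolynomial (Fin 4) k), f.IsWeightedHomogeneous (![1, 1, 0, 0] : Fin 4 → ℕ) 3 →
      f.IsWeightedHomogeneous (![0, 0, 1, 1] : Fin 4 → ℕ) 3 → ∀ x : Fin 4 → k, eval x f =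
      ∑ i ∈ Finset.range 4, ∑ j ∈ Finset.range 4,
        a f i j * (x 0 ^ i * x 1 ^ (3 - i) * x 2 ^ j * x 3 ^ (3 - j)) := fun f e1 e2 x => by
    rw [← Finset.sum_product' (f := fun i j => a f i j * (x 0 ^ i * x 1 ^ (3 - i) * x 2 ^ j * x 3 ^ (3 - j))),
      ← aeval_eq_eval, map_expand f e1 e2 x]
    rfl
  let U := (![1, 1, 0, 0] : Fin 4 → ℕ)
  let V := (![0, 0, 1, 1] : Fin 4 → ℕ)
  have u0 : IsWeightedHomogeneous U (X 0 : MvPolynomial (Fin 4) k) 1 := isWeightedHomogeneous_X k U 0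
  have u1 : IsWeightedHomogeneous U (X 1 : MvPolynomial (Fin 4) k) 1 := isWeightedHomogeneous_X k U 1
  have u2 : IsWeightedHomogeneous U (X 2 : MvPolynomial (Fin 4) k) 0 := isWeightedHomogeneous_X k U 2
  have u3 : IsWeightedHomogeneous U (X 3 : MvPolynomial (Fin 4) k) 0 := isWeightedHomogeneous_X k U 3
  have v0 : IsWeightedHomogeneous V (X 0 : MvPolynomial (Fin 4) k) 0 := isWeightedHomogeneous_X k V 0
  have v1 : IsWeightedHomogeneous V (X 1 : MvPolynomial (Fin 4) k) 0 := isWeightedHomogeneous_X k V 1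
  have v2 : IsWeightedHomogeneous V (X 2 : MvPolynomial (Fin 4) k) 1 := isWeightedHomogeneous_X k V 2
  have v3 : IsWeightedHomogeneous V (X 3 : MvPolynomial (Fin 4) k) 1 := isWeightedHomogeneous_X k V 3
  have P : ∀ {W : Fin 4 → ℕ} {n : ℕ} {p q : MvPolynomial (Fin 4) k}, IsWeightedHomogeneous W p n →
      IsWeightedHomogeneous W q n → IsWeightedHomogeneous W (p - q) n := fun {W n p q} hp hq =>
    (weightedHomogeneousSubmodule k W n).sub_mem hp hq
  have ul : IsWeightedHomogeneous U l 1 := hl ▸ P (u0.mul u3) (u1.mul u2)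
  have vl : IsWeightedHomogeneous V l 1 := hl ▸ P (v0.mul v3) (v1.mul v2)
  have uh1 : IsWeightedHomogeneous U h1 1 := hh1 ▸ (u0.mul (P u3 u2)).add (u2.mul (P u1 u0))
  have vh1 : IsWeightedHomogeneous V h1 1 := hh1 ▸ (v0.mul (P v3 v2)).add (v2.mul (P v1 v0))
  have uh2 : IsWeightedHomogeneous U h2 1 := hh2 ▸ (u1.mul (P u2 u3)).add (u3.mul (P u0 u1))
  have vh2 : IsWeightedHomogeneous V h2 1 := hh2 ▸ (v1.mul (P v2 v3)).add (v3.mul (P v0 v1))
  have uh3 : IsWeightedHomogeneous U h3 1 := hh3 ▸ (u0.mul u3).add (u1.mul u2)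
  have vh3 : IsWeightedHomogeneous V h3 1 := hh3 ▸ (v0.mul v3).add (v1.mul v2)
  have uh : IsWeightedHomogeneous U h 1 := hh ▸ (uh1.add uh2).add uh3
  have vh : IsWeightedHomogeneous V h 1 := hh ▸ (vh1.add vh2).add vh3
  have ua : IsWeightedHomogeneous U h13 1 := hh13 ▸ P uh1 uh3
  have va : IsWeightedHomogeneous V h13 1 := hh13 ▸ P vh1 vh3
  have ub : IsWeightedHomogeneous U h23 1 := hh23 ▸ P uh2 uh3
  have vb : IsWeightedHomogeneous V h23 1 := hh23 ▸ P vh2 vh3
  have uc : IsWeightedHomogeneous U c 3 := hc ▸ ((u0.mul u1).mul (P u0 u1)).mul ((u2.mul u3).mul (P u2 u3))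
  have vc : IsWeightedHomogeneous V c 3 := hc ▸ ((v0.mul v1).mul (P v0 v1)).mul ((v2.mul v3).mul (P v2 v3))
  have rl : rename (![0, 1, 0, 1] : Fin 4 → Fin 2) l = 0 := by simp [hl]; ring
  have rc : (X 0 * X 1 * (X 0 - X 1)) ^ 2 ∣ rename (![0, 1, 0, 1] : Fin 4 → Fin 2) c := ⟨1, by simp [hc]; ring⟩
  let σ := rename (R := k) (![2, 3, 0, 1] : Fin 4 → Fin 4)
  have sl : σ l = -l := by simp [σ, hl]; ring
  have sc : σ c = c := by simp [σ, hc]; ring
  have s1 : σ h1 = h1 := by simp [σ, hh1]; ring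
  have s2 : σ h2 = h2 := by simp [σ, hh2]; ring
  have s3 : σ h3 = h3 := by simp [σ, hh3]; ring
  have sh : σ h = h := by simp only [hh, map_add, s1, s2, s3]
  have sa : σ h13 = h13 := by simp only [hh13, map_sub, s1, s3]
  have sb : σ h23 = h23 := by simp only [hh23, map_sub, s2, s3]
  have memI : ∀ {p : MvPolynomial (Fin 4) k}, IsWeightedHomogeneous U p 2 → IsWeightedHomogeneous V p 2 → l * p ∈ I :=
    fun hu hv => (hI _).mpr ⟨ul.mul hu, vl.mul hv, by rw [map_mul, rl, zero_mul]; exact dvd_zero _⟩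
  refine ⟨fun f => ⟨fun hf => ?_, fun hf => ?_⟩, fun f => ⟨fun hf => ?_, fun hf => ?_⟩, ?_⟩
  · obtain ⟨hfI, hs⟩ := hf
    obtain ⟨e1, e2, e3⟩ := (hI f).mp hfI
    have sy : ∀ i j, a f j i = a f i j := fun i j => by
      conv_lhs => rw [← hs]
      exact a_swap f i j
    have R := rels f e1 e2 e3
    simp [Finset.sum_range_succ, sy 0 1, sy 0 2, sy 0 3, sy 1 2, sy 1 3, sy 2 3] at R
    obtain ⟨r0, r1, r3, r2, r4, r5⟩ := R
    simp [r0, r1, r2, r3] at r4 r5
    have z12 : a f 1 2 = -(2 * a f 0 2) - a f 0 3 - a f 1 1 := by linear_combination (2 : k) * r4 - (1 / 2 : k) * r5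
    have z22 : a f 2 2 = 2 * a f 0 2 + a f 1 1 - 2 * a f 1 3 := by linear_combination r5 - 3 * r4
    have key : f = ((2 : k) * a f 0 2 + (1 : k) * a f 1 1) • (c) +
        (((1 : k) / 3) * a f 0 3) • (l ^ 2 * h) +
        (((-1 : k) / 3) * a f 0 3 + ((-1 : k) / 2) * a f 1 3) • (l ^ 2 * h13) +
        (((-1 : k) / 2) * a f 0 2 + ((-1 : k) / 3) * a f 0 3) • (l ^ 2 * h23) := by
      refine MvPolynomial.funext fun x => ?_
      rw [hsum f e1 e2 x]
      simp [Finset.sum_range_succ, sy 0 1, sy 0 2, sy 0 3, sy 1 2, sy 1 3, sy 2 3, r0, r1, r2, r3, z12, z22,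
        hl, hh, hh1, hh2, hh3, hh13, hh23, hc, smul_eval]
      ring
    rw [key]
    exact (Submodule.add_mem _ (Submodule.add_mem _ (Submodule.add_mem _ (Submodule.smul_mem _ _ (Submodule.subset_span (by simp))) (Submodule.smul_mem _ _ (Submodule.subset_span (by simp)))) (Submodule.smul_mem _ _ (Submodule.subset_span (by simp)))) (Submodule.smul_mem _ _ (Submodule.subset_span (by simp))))
  · induction hf using Submodule.span_induction with
    | mem p hp =>
      simp only [Set.mem_insert_iff, Set.mem_singleton_iff] at hp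
      rcases hp with rfl | rfl | rfl | rfl
      · exact ⟨(hI _).mpr ⟨uc, vc, rc⟩, sc⟩
      all_goals refine ⟨?_, ?_⟩
      · rw [pow_two, mul_assoc]; exact memI (ul.mul uh) (vl.mul vh)
      · show σ _ = _; rw [map_mul, map_pow, sl, sh, neg_sq]
      · rw [pow_two, mul_assoc]; exact memI (ul.mul ua) (vl.mul va)
      · show σ _ = _; rw [map_mul, map_pow, sl, sa, neg_sq]
      · rw [pow_two, mul_assoc]; exact memI (ul.mul ub) (vl.mul vb)
      · show σ _ = _; rw [map_mul, map_pow, sl, sb, neg_sq]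
    | zero => exact ⟨I.zero_mem, map_zero _⟩
    | add p q _ _ hp hq => exact ⟨I.add_mem hp.1 hq.1, by rw [map_add, hp.2, hq.2]⟩
    | smul r p _ hp => exact ⟨I.smul_mem r hp.1, by rw [map_smul, hp.2]⟩
  · obtain ⟨hfI, hs⟩ := hf
    obtain ⟨e1, e2, _⟩ := (hI f).mp hfI
    have hneg : a (-f) = -a f := by funext i j; simp [a]
    have sy : ∀ i j, a f j i = -a f i j := fun i j => by
      have := a_swap f i j
      rw [hs, hneg] at this
      exact neg_eq_iff_eq_neg.mp this
    have d : ∀ i, a f i i = 0 := fun i => CharZero.eq_neg_self_iff.mp (sy i i)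
    have key : f = (((-1 : k) / 9) * a f 0 3) • (l * h ^ 2) +
        (((2 : k) / 9) * a f 0 3 + ((1 : k) / 6) * a f 1 3) • (l * h * h13) +
        (((1 : k) / 6) * a f 0 2 + ((2 : k) / 9) * a f 0 3) • (l * h * h23) +
        (((-1 : k) / 9) * a f 0 3 + ((-1 : k) / 6) * a f 1 3 + ((-1 : k) / 4) * a f 2 3) • (l * h13 ^ 2) +
        (((-1 : k) / 4) * a f 0 1 + ((-1 : k) / 6) * a f 0 2 + ((-1 : k) / 9) * a f 0 3) • (l * h23 ^ 2) +
        (((-1 : k) / 6) * a f 0 2 + ((1 : k) / 36) * a f 0 3 + ((-1 : k) / 4) * a f 1 2 + ((-1 : k) / 6) * a f 1 3) • (l * h13 * h23) := by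
      refine MvPolynomial.funext fun x => ?_
      rw [hsum f e1 e2 x]
      simp [Finset.sum_range_succ, sy 0 1, sy 0 2, sy 0 3, sy 1 2, sy 1 3, sy 2 3, d,
        hl, hh, hh1, hh2, hh3, hh13, hh23, smul_eval]
      ring
    rw [key]
    exact (Submodule.add_mem _ (Submodule.add_mem _ (Submodule.add_mem _ (Submodule.add_mem _ (Submodule.add_mem _ (Submodule.smul_mem _ _ (Submodule.subset_span (by simp))) (Submodule.smul_mem _ _ (Submodule.subset_span (by simp)))) (Submodule.smul_mem _ _ (Submodule.subset_span (by simp)))) (Submodule.smul_mem _ _ (Submodule.subset_span (by simp)))) (Submodule.smul_mem _ _ (Submodule.subset_span (by simp)))) (Submodule.smul_mem _ _ (Submodule.subset_span (by simp))))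
  · induction hf using Submodule.span_induction with
    | mem p hp =>
      simp only [Set.mem_insert_iff, Set.mem_singleton_iff] at hp
      rcases hp with rfl | rfl | rfl | rfl | rfl | rfl
      all_goals refine ⟨?_, ?_⟩
      · exact memI (uh.pow 2) (vh.pow 2)
      · show σ _ = _; rw [map_mul, map_pow, sl, sh]; ring
      · rw [mul_assoc]; exact memI (uh.mul ua) (vh.mul va)
      · show σ _ = _; rw [map_mul, map_mul, sl, sh, sa]; ring
      · rw [mul_assoc]; exact memI (uh.mul ub) (vh.mul vb)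
      · show σ _ = _; rw [map_mul, map_mul, sl, sh, sb]; ring
      · exact memI (ua.pow 2) (va.pow 2)
      · show σ _ = _; rw [map_mul, map_pow, sl, sa]; ring
      · exact memI (ub.pow 2) (vb.pow 2)
      · show σ _ = _; rw [map_mul, map_pow, sl, sb]; ring
      · rw [mul_assoc]; exact memI (ua.mul ub) (va.mul vb)
      · show σ _ = _; rw [map_mul, map_mul, sl, sa, sb]; ring
    | zero => exact ⟨I.zero_mem, by simp⟩
    | add p q _ _ hp hq => exact ⟨I.add_mem hp.1 hq.1, by rw [map_add, hp.2, hq.2]; ring⟩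
    | smul r p _ hp => exact ⟨I.smul_mem r hp.1, by rw [map_smul, hp.2, smul_neg]⟩
  · rw [Fintype.linearIndependent_iff]
    intro g hg
    have e0 := congrArg (eval ![(-1 : k), 0, 0, -1]) hg
    have e1 := congrArg (eval ![(0 : k), -1, -1, 0]) hg
    have e2 := congrArg (eval ![(-1 : k), -1, -1, 0]) hg
    have e3 := congrArg (eval ![(-1 : k), -1, 0, -1]) hg
    have e4 := congrArg (eval ![(-1 : k), 0, -1, -1]) hg
    have e5 := congrArg (eval ![(-1 : k), 0, -1, 1]) hg
    have e6 := congrArg (eval ![(-1 : k), 1, 0, -1]) hg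
    have e7 := congrArg (eval ![(0 : k), -1, -1, -1]) hg
    have e8 := congrArg (eval ![(-1 : k), -1, -1, 1]) hg
    have e9 := congrArg (eval ![(-1 : k), 1, -1, 1]) hg
    simp [Fin.sum_univ_succ, hl, hh, hh1, hh2, hh3, hh13, hh23, hc, smul_eval] at e0 e1 e2 e3 e4 e5 e6 e7 e8 e9
    intro i
    fin_cases i
    · show g (0 : Fin 10) = 0
      linear_combination e9
    · show g (1 : Fin 10) = 0
      linear_combination ((1 : k) / 6) * e0 + ((1 : k) / 6) * e1
    · show g (2 : Fin 10) = 0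
      linear_combination ((1 : k) / 12) * e0 + ((1 : k) / 12) * e1 + ((-1 : k) / 4) * e2 + ((-1 : k) / 4) * e4
    · show g (3 : Fin 10) = 0
      linear_combination ((1 : k) / 12) * e0 + ((1 : k) / 12) * e1 + ((-1 : k) / 4) * e3 + ((-1 : k) / 4) * e7
    · show g (4 : Fin 10) = 0
      linear_combination ((1 : k) / 18) * e0 + ((-1 : k) / 18) * e1
    · show g (5 : Fin 10) = 0
      linear_combination ((-7 : k) / 36) * e0 + ((1 : k) / 36) * e1 + ((1 : k) / 12) * e2 + ((-1 : k) / 12) * e5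
    · show g (6 : Fin 10) = 0
      linear_combination ((-7 : k) / 36) * e0 + ((1 : k) / 36) * e1 + ((1 : k) / 12) * e6 + ((1 : k) / 12) * e7
    · show g (7 : Fin 10) = 0
      linear_combination ((-1 : k) / 9) * e0 + ((1 : k) / 36) * e1 + ((-1 : k) / 12) * e2 + ((1 : k) / 8) * e4 + ((-1 : k) / 24) * e5
    · show g (8 : Fin 10) = 0
      linear_combination ((-1 : k) / 9) * e0 + ((1 : k) / 36) * e1 + ((1 : k) / 8) * e3 + ((1 : k) / 24) * e6 + ((-1 : k) / 12) * e7
    · show g (9 : Fin 10) = 0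
      linear_combination ((-2 : k) / 9) * e0 + ((1 : k) / 18) * e1 + ((-1 : k) / 3) * e2 + ((3 : k) / 8) * e3 + ((-1 : k) / 8) * e4 + ((-1 : k) / 24) * e5 + ((1 : k) / 24) * e6 + ((1 : k) / 6) * e7 + ((1 : k) / 8) * e8


end Groth.Agent.S16153
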