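import Groth.Statements.S16154
import Groth.Agent.H10Coh.CI.TopDim
import Groth.Agent.H17.FLI.Smooth

set_option autoImplicit false
universe u
open CategoryTheory CategoryTheory.Limits AlgebraicGeometry
open WGauss
set_option linter.style.haveILetI false
set_option backward.isDefEq.respectTransparency.types false

namespace Groth.Agent.S16154

/-- Let k be a field and X in projective n-space over k the common zero scheme of m forms G_j of degrees
d_1 >= d_2 >= ... >= d_m >= 2 (m >= 1), smooth over k of relative dimension kk >= 1 with kk + m = n,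
so that X is a smooth complete intersection of dimension kk whose twisted conormal bundle N_X^*(t)
is the direct sum of the O_X(t - d_j). Then, for an integer t, H^1(X, O_X(t - d_j)) = 0 for every j
(that is, H^1(X, N_X^*(t)) = 0) if and only if either kk >= 2, or kk = 1 and t > 2 d_1 + d_2 + ... +
d_m - n - 1. Here O_X(c) is the pullback of O(c) from projective space along the inclusion of X.
(The source works over the complex numbers with X smooth projective; the statement is given over any
field.) -/
theorem result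
    (k : Type u) [Field k] (n kk m : ℕ) (hkk : 1 ≤ kk) (hm : 1 ≤ m) (hn : kk + m = n)
    (d : Fin m → ℕ) (hd2 : ∀ j, 2 ≤ d j) (hanti : Antitone d)
    (G : ∀ j : Fin m, LefPen.Form n k (d j))
    [SmoothOfRelativeDimension kk ((LefPen.ciIdeal G).subschemeι ≫ CohB1.ProjSpace.toSpec n k)]
    (t : ℤ) :
    (∀ j : Fin m, Subsingleton (Coh.HH (LefPen.ciIdeal G).subscheme
        ((Scheme.Modules.pullback (LefPen.ciIdeal G).subschemeι).obj
          (Twist.twistProjSpace n k (t - (d j : ℤ)))) 1)) ↔
      (2 ≤ kk ∨ (kk = 1 ∧ ((d ⟨0, hm⟩ : ℤ) + ∑ j : Fin m, (d j : ℤ)) - (n : ℤ) - 1 < t)) := by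
  let X := (LefPen.ciIdeal G).subscheme
  letI : X.Over (Spec (CommRingCat.of k)) :=
    ⟨(LefPen.ciIdeal G).subschemeι ≫ CohB1.ProjSpace.toSpec n k⟩
  haveI : SmoothOfRelativeDimension kk (X ↘ Spec (CommRingCat.of k)) :=
    ‹SmoothOfRelativeDimension kk ((LefPen.ciIdeal G).subschemeι ≫ CohB1.ProjSpace.toSpec n k)›
  have hdim : topologicalKrullDim X ≤ ((n - m : ℕ) : WithBot ℕ∞) := by
    rw [show n - m = kk by omega]
    exact H17.FLI.dim_le_of_smooth k
  have h := H10Coh.CI.dimLE_of_dim G hdim
  have hd1 : ∀ j, 1 ≤ d j := fun j => le_trans one_le_two (hd2 j)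
  rcases Nat.lt_or_ge 1 kk with hk | hk
  · exact ⟨fun _ => Or.inl hk, fun _ j => (H10Coh.CI.good_ci (show m ≤ n by omega) hd1 h
      (LefPen.ciIdeal G).subschemeι (LefPen.ciIdeal G).ker_subschemeι _).1 1 one_pos (by omega)⟩
  obtain rfl : kk = 1 := by omega
  haveI : IsProper (CohB1.ProjSpace.toSpec n k) := H27Weil.isProper_toSpec n k
  haveI : IsProper (X ↘ Spec (CommRingCat.of k)) :=
    inferInstanceAs (IsProper ((LefPen.ciIdeal G).subschemeι ≫ CohB1.ProjSpace.toSpec n k))
  haveI := H28Int.isNoetherian k (X := X)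
  have key : ∀ c : ℤ, Subsingleton (Coh.HH X
      ((Scheme.Modules.pullback (LefPen.ciIdeal G).subschemeι).obj (Twist.twistProjSpace n k c)) 1) ↔
      H10Coh.CI.topE n d < c := fun c => by
    haveI := H10Coh.finite_HH_proper k X _ (H11Ample.isCoh_of_isInvertible (H11Ample.isInvertible_pullback
      (LefPen.ciIdeal G).subschemeι (H22Alg.RegSheaf.isInvertible_twistProjSpace n k c))) 1
    have h1 := H10Coh.CI.finrank_top_ci (show m < n by omega) hd1 h rfl c
    have h2 := H10Coh.CI.topB_pos_iff n d hd1 (show m < n by omega) c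
    rw [show n - m = 1 by omega] at h1
    rw [← h1] at h2
    rw [← not_le, ← h2]
    rw [← Module.finrank_zero_iff (R := k)]
    simp [Nat.pos_iff_ne_zero]
    rfl
  simp only [X] at key
  simp only [key, H10Coh.CI.topE]
  constructor
  · exact fun hall => Or.inr ⟨trivial, by have := hall ⟨0, hm⟩; omega⟩
  · intro hor j
    rcases hor with h2 | ⟨-, hlt⟩
    · omega
    · have := hanti (show (⟨0, hm⟩ : Fin m) ≤ j from Fin.mk_le_mk.2 (Nat.zero_le _) )
      omega

end Groth.Agent.S16154
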