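import Groth.Statements.S16156
import Mathlib.Tactic.Linarith
import Mathlib.Tactic.Ring

set_option autoImplicit false
universe u
open MukaiVec

namespace Groth.Agent.S16156

set_option maxHeartbeats 1000000 in
theorem case_neg (n r d χ p q x : ℤ) (hn : 0 < n) (hr : 2 ≤ r) (hd : 0 < d) (hχ : χ < 0)
    (hodge : 4 * n * p * q ≤ x * x) (hs : -2 ≤ d * x - r * q - χ * p)
    (hx : x < 0) (hB : χ * x < 2 * n * d * q) : False := by
  have hcy : 0 < χ * x := mul_pos_of_neg_of_neg hχ hx
  have hq : 0 < q := by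
    rcases lt_or_ge 0 q with h | h
    · exact h
    · have : 2 * n * d * q ≤ 0 := mul_nonpos_of_nonneg_of_nonpos (by positivity) h
      linarith
  have e2 : χ * x * (-x) < 2 * n * d * q * (-x) := mul_lt_mul_of_pos_right hB (neg_pos.mpr hx)
  have e1 : -χ * (4 * n * p * q) ≤ -χ * (x * x) := mul_le_mul_of_nonneg_left hodge (by linarith)
  have e3 : 2 * n * q * (2 * (-χ * p)) < 2 * n * q * (d * (-x)) := by
    calc 2 * n * q * (2 * (-χ * p)) = -χ * (4 * n * p * q) := by ring
      _ ≤ -χ * (x * x) := e1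
      _ = χ * x * (-x) := by ring
      _ < 2 * n * d * q * (-x) := e2
      _ = 2 * n * q * (d * (-x)) := by ring
  have e4 := lt_of_mul_lt_mul_left e3 (by positivity)
  have h1 : 2 ≤ r * q := le_trans (by linarith) (le_mul_of_one_le_right (by linarith) (show (1:ℤ) ≤ q by linarith))
  have h2 : 1 ≤ d * (-x) := mul_pos hd (neg_pos.mpr hx)
  linarith [show d * (-x) = -(d * x) by ring, show -χ * p = -(χ * p) by ring]

set_option maxHeartbeats 1000000 in
theorem case_pos (n r d χ p q x : ℤ) (hn : 0 < n) (hr : 2 ≤ r) (hd : 0 < d) (hχ : χ < 0)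
    (hodge : 4 * n * p * q ≤ x * x) (hs : d * x - r * q - χ * p ≤ 2)
    (hx : 0 < x) (hA : r * x ≤ 2 * n * d * p) : d = 1 ∧ χ = -1 ∧ x = 1 ∧ q = 0 := by
  have hrx : 0 < r * x := mul_pos (by linarith) hx
  have hp : 1 ≤ p := by
    rcases lt_or_ge 0 p with h | h
    · exact h
    · have : 2 * n * d * p ≤ 0 := mul_nonpos_of_nonneg_of_nonpos (by positivity) h
      linarith
  have hcp : 1 ≤ -χ * p := le_trans (by linarith) (le_mul_of_one_le_right (by linarith) hp)
  have hdx : 1 ≤ d * x := mul_pos hd hx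
  have hcp' : -χ * p = -(χ * p) := by ring
  rcases lt_trichotomy q 0 with hq | hq | hq
  · have : 2 ≤ r * (-q) := le_trans (by linarith) (le_mul_of_one_le_right (by linarith) (show (1:ℤ) ≤ -q by linarith))
    exfalso
    linarith [show r * (-q) = -(r * q) by ring]
  · subst hq
    rw [mul_zero, sub_zero] at hs
    have h1 : d * x = 1 := by linarith
    have h2 : -χ * p = 1 := by linarith
    have hd1 : d = 1 := le_antisymm (h1 ▸ le_mul_of_one_le_right hd.le hx) hd
    have hc1 : -χ = 1 := le_antisymm (h2 ▸ le_mul_of_one_le_right (by linarith) hp) (by linarith)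
    refine ⟨hd1, by linarith, ?_, rfl⟩
    rwa [hd1, one_mul] at h1
  · have e1 : r * (4 * n * p * q) ≤ r * (x * x) := mul_le_mul_of_nonneg_left hodge (by linarith)
    have e2 : r * x * x ≤ 2 * n * d * p * x := mul_le_mul_of_nonneg_right hA hx.le
    have e3 : 2 * n * p * (2 * (r * q)) ≤ 2 * n * p * (d * x) := by
      calc 2 * n * p * (2 * (r * q)) = r * (4 * n * p * q) := by ring
        _ ≤ r * (x * x) := e1
        _ = r * x * x := by ring
        _ ≤ 2 * n * d * p * x := e2
        _ = 2 * n * p * (d * x) := by ring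
    have e4 := le_of_mul_le_mul_left e3 (by positivity)
    have : 2 ≤ r * q := le_trans (by linarith) (le_mul_of_one_le_right (by linarith) (show (1:ℤ) ≤ q by linarith))
    exfalso
    linarith

/-- Let N be an abelian group with a symmetric integer-valued bilinear form and H an element with H·H =
2n for some n > 0 such that every x with x·H = 0 satisfies x·x ≤ 0 (the Hodge index inequality). Fix
integers r ≥ 2, d > 0 and χ < 0 (a Mukai vector v = (r, dH, χ)) and an isotropic Mukai vector u =
(p, η, q), p ≥ 0, η ∈ N, η·η = 2pq, whose pairing ⟨v, u⟩ = d(H·η) − rq − χp has absolute value 1 or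
2. Exclude the case d = 1, χ = −1, H·η = 1, η·η = 0, and when r = 2 also the case p = 0, H·η = 0.
Then the pairings of u∨ = (p, −η, q) with w₀ = (0, rH, −2nd) and with w₁ = (2nd, −χH, 0) are both
non-negative or both negative: 2ndp − r(H·η) ≥ 0 holds if and only if χ(H·η) − 2ndq ≥ 0 holds. -/
theorem result
    (N : Type u) [AddCommGroup N] (B : LinearMap.BilinForm ℤ N) (hB : ∀ x y : N, B x y = B y x)
    (H : N) (n : ℤ) (hn : 0 < n) (hH : B H H = 2 * n) (hodge : ∀ x : N, B x H = 0 → B x x ≤ 0)
    (r d χ p q : ℤ) (η : N) (hr : 2 ≤ r) (hd : 0 < d) (hχ : χ < 0) (hp : 0 ≤ p)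
    (hiso : B η η = 2 * p * q)
    (hvu : 1 ≤ |d * B H η - r * q - χ * p| ∧ |d * B H η - r * q - χ * p| ≤ 2)
    (hexc : ¬ (d = 1 ∧ χ = -1 ∧ B H η = 1 ∧ B η η = 0))
    (hr2 : r = 2 → ¬ (p = 0 ∧ B H η = 0)) :
    (0 ≤ 2 * n * d * p - r * B H η ↔ 0 ≤ χ * B H η - 2 * n * d * q) := by
  set x := B H η with hx
  have hHη : B η H = x := hB η H
  have h0 : B ((2 * n) • η - x • H) H = 0 := by simp [hHη, hH]; ring
  have h1 := hodge _ h0
  have h2 : B ((2 * n) • η - x • H) ((2 * n) • η - x • H) = 2 * n * (4 * n * p * q - x * x) := by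
    simp [hHη, hH, hiso, ← hx]; ring
  rw [h2] at h1
  have hodge' : 4 * n * p * q ≤ x * x := by
    rcases eq_or_lt_of_le h1 with h | h
    · rcases mul_eq_zero.mp h with h | h <;> linarith
    · have := neg_of_mul_neg_right h (by linarith); linarith
  obtain ⟨hs1, hs2⟩ := hvu
  rw [abs_le] at hs2
  have hm : 0 < 2 * n * d := by positivity
  constructor
  · intro hA
    by_contra hBn
    rw [not_le] at hBn
    rcases lt_trichotomy x 0 with hx0 | hx0 | hx0
    · exact case_neg n r d χ p q x hn hr hd hχ hodge' hs2.1 hx0 (by linarith)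
    · rw [hx0] at hodge' hBn hs2 hs1
      have hq : 0 < q := pos_of_mul_pos_right (show 0 < 2 * n * d * q by linarith) hm.le
      have hp0 : p = 0 := by
        refine le_antisymm ?_ hp
        by_contra h
        have : 0 < 4 * n * p * q := by have := not_le.mp h; positivity
        linarith
      rw [hp0] at hs2
      have h3 : r * 1 ≤ r * q := mul_le_mul_of_nonneg_left (by linarith) (by linarith)
      exact hr2 (by linarith) ⟨hp0, hx0⟩
    · obtain ⟨a, b, c, e⟩ := case_pos n r d χ p q x hn hr hd hχ hodge' hs2.2 hx0 (by linarith)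
      exact hexc ⟨a, b, c, by rw [hiso, e, mul_zero]⟩
  · intro hB'
    by_contra hAn
    rw [not_le] at hAn
    have hx0 : 0 < x := by
      refine pos_of_mul_pos_right (a := r) ?_ (by linarith)
      have : 0 ≤ 2 * n * d * p := by positivity
      linarith
    have hq : q < 0 := by
      refine neg_of_mul_neg_right (show 2 * n * d * q < 0 from ?_) hm.le
      have := mul_neg_of_neg_of_pos hχ hx0
      linarith
    have h3 : 2 ≤ r * (-q) := le_trans (by linarith) (le_mul_of_one_le_right (by linarith) (show (1:ℤ) ≤ -q by linarith))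
    have h4 : 1 ≤ d * x := mul_pos hd hx0
    have h5 : 0 ≤ -χ * p := mul_nonneg (by linarith) hp
    linarith [show r * (-q) = -(r * q) by ring, show -χ * p = -(χ * p) by ring]

end Groth.Agent.S16156
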