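import Groth.Statements.S16157
import Groth.Agent.S14147
import Groth.Agent.H25FM.Kernel
import Groth.Agent.H25FM.RankRpush
import Groth.Agent.H16Derived.KFlat.FinLocFree
open Groth.Agent Groth.Agent.H25AbCube Groth.Agent.H25Dual Groth.Agent.H25FM
open Groth.Agent.H16Derived Groth.Agent.H16Derived.KFlat Groth.Agent.H16Derived.KFlat.Stalk


set_option autoImplicit false
set_option linter.style.haveILetI false
set_option backward.isDefEq.respectTransparency false
set_option synthInstance.maxHeartbeats 400000
set_option maxHeartbeats 1000000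
set_option linter.style.haveILetI false
set_option backward.isDefEq.respectTransparency false
set_option synthInstance.maxHeartbeats 200000
universe u
open CategoryTheory CategoryTheory.Limits MonoidalCategory CartesianMonoidalCategory MonObj GrpObj AlgebraicGeometry
attribute [local instance] HasDerivedCategory.standard
open AbVar

namespace Groth.Agent.S16157

/-- Let k be an algebraically closed field, A an abelian variety over k (a proper smooth k-group scheme
with geometrically connected fibres), (A^t, φ) a given dual abelian variety of A for the fppf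
topology with A^t itself an abelian variety, P an invertible module on A ×_k A^t whose class is a
Poincaré class, and Φ_P = Rpr_{2,*}(Lpr_1^*(−) ⊗^L P) the Fourier–Mukai functor D(O_A) → D(O_{A^t})
(the derived functors are assumed to exist). Let F be a coherent O_A-module satisfying the index
condition with index i: the cohomology sheaves of Φ_P(F) vanish in every degree other than i, and
the one in degree i (the transform of F) is finite locally free of rank n. Then the Euler
characteristic χ(A, F) = Σ_j (−1)^j dim_k H^j(A, F) equals (−1)^i · n. (The rank here is that of the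
transform of F, which is what the last step of the published proof computes; reading it as the rank
of F itself is wrong already for an invertible sheaf of degree two on an elliptic curve, whose Euler
characteristic is 2.) -/
theorem result (k : Type u) [Field k] [IsAlgClosed k]
    (A At : Over (Spec (CommRingCat.of k))) [GrpObj A] [IsProper A.hom] [Smooth A.hom] [GeometricallyConnected A.hom]
    [GrpObj At] [IsProper At.hom] [Smooth At.hom] [GeometricallyConnected At.hom]
    (φ : ∀ T : Over (Spec (CommRingCat.of k)), PicF.Cl (PicF.XT A.hom T) → (T ⟶ At))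
    (hφ : AbDual.IsDualAV Scheme.fppfPrecoverage A At φ)
    (P : (pullback A.hom At.hom).Modules) (hP : PicF.IsInvertible P)
    (hPξ : AbDual.IsPoincareCl A At φ (PicF.cl P))
    [DCoh.HasLpull (pullback.fst A.hom At.hom)] [DCoh.HasLTensorMod P] [DCoh.HasRpush (pullback.snd A.hom At.hom)]
    (F : A.left.Modules) (hF : Coh.IsCoh F) (i n : ℕ)
    (hvan : ∀ j : ℤ, j ≠ (i : ℤ) →
      IsZero (DCoh.HD ((DCoh.Lpull (pullback.fst A.hom At.hom) ⋙ DCoh.LTensorMod P ⋙
        DCoh.Rpush (pullback.snd A.hom At.hom)).obj (DCoh.inD A.left F)) j))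
    (hfree : FlatMod.IsFinLocFreeOfRank n
      (DCoh.HD ((DCoh.Lpull (pullback.fst A.hom At.hom) ⋙ DCoh.LTensorMod P ⋙
        DCoh.Rpush (pullback.snd A.hom At.hom)).obj (DCoh.inD A.left F)) (i : ℤ))) :
    @Curv2.euler k _ A.left ⟨A.hom⟩ F = (-1 : ℤ) ^ i * (n : ℤ) := by
  haveI : GeometricallyIntegral A.hom := geometricallyIntegral_of_smooth A
  haveI : GeometricallyIntegral At.hom := geometricallyIntegral_of_smooth At
  let x : 𝟙_ (Over (Spec (CommRingCat.of k))) ⟶ At := η[At]
  let M := (Scheme.Modules.pullback (CartesianMonoidalCategory.lift (𝟙 A) (toUnit A ≫ x)).left).obj P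
  have hM : PicF.IsInvertible M := H11Ample.isInvertible_pullback _ hP
  obtain ⟨eM⟩ : Nonempty (M ≅ Coh.structureModule A.left) := by
    refine (pc_eq_iff hM H11Ample.isInvertible_structureModule).1 ?_
    rw [pc_one, pullP_pc _ P hP hM]
    exact (poincare_facts hφ P hP hPξ (T := A)).2.1 (𝟙 A)
  haveI : DCoh.HasLTensorMod M := hasLTensorMod _
  haveI : DCoh.HasRpush A.hom := GammaAcyclic.hasRpush _
  haveI : DCoh.HasLpull x.left := hasLpull _
  haveI : HasInjectiveResolutions A.left.Modules := QCohD.hasInjectiveResolutions_modules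
  haveI : F.IsQuasicoherent := hF.1
  obtain ⟨e⟩ := S14147.result k A At φ hφ P hP hPξ x
  let Φ := DCoh.Lpull (pullback.fst A.hom At.hom) ⋙ DCoh.LTensorMod P ⋙ DCoh.Rpush (pullback.snd A.hom At.hom)
  let H := DCoh.HD (Φ.obj (DCoh.inD A.left F)) (i : ℤ)
  obtain ⟨e1⟩ := nonempty_ltensorMod_inD F M (isFlat_invertible hM)
  obtain ⟨e2⟩ := nonempty_iso_shift_of_concentrated (Φ.obj (DCoh.inD A.left F)) i hvan (Iso.refl H)
  have hHfree : FlatMod.IsFinLocFree H := fun z => by
    obtain ⟨U, hz, hU⟩ := hfree z
    exact ⟨U, n, hz, hU⟩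
  obtain ⟨e3⟩ := nonempty_lpull_inD x.left (M := H) (H16Derived.KFlat.Stalk.isFlat_of_isFinLocFree hHfree)
  let N := (Scheme.Modules.pullback x.left).obj H
  obtain ⟨eN⟩ : Nonempty (N ≅ FlatMod.freeMod _ n) := by
    obtain ⟨U, hz, ⟨eU⟩⟩ := hfree (x.left (IsLocalRing.closedPoint k))
    haveI : Subsingleton ↥(𝟙_ (Over (Spec (CommRingCat.of k)))).left := inferInstanceAs (Subsingleton (PrimeSpectrum k))
    have hle : Set.range x.left.base ⊆ Set.range U.ι.base := by
      rintro _ ⟨z, rfl⟩
      rw [Scheme.Opens.range_ι, Subsingleton.elim z (IsLocalRing.closedPoint k)]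
      exact hz
    let x' := IsOpenImmersion.lift U.ι x.left hle
    exact ⟨((Scheme.Modules.pullbackCongr (IsOpenImmersion.lift_fac U.ι x.left hle).symm).app H) ≪≫
      ((Scheme.Modules.pullbackComp x' U.ι).app H).symm ≪≫ (Scheme.Modules.pullback x').mapIso
        (((Scheme.Modules.restrictFunctorIsoPullback U.ι).app H).symm ≪≫ eU) ≪≫
      H22Alg.MumfordStep.pullFreeIso x' n⟩
  letI := lpullCommShift x.left
  let E : (DCoh.Rpush A.hom).obj (DCoh.inD A.left F) ≅
      (shiftFunctor (DCoh.D (𝟙_ (Over (Spec (CommRingCat.of k)))).left) (-(i : ℤ))).obj (DCoh.inD _ N) :=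
    (DCoh.Rpush A.hom).mapIso ((DerivedCategory.singleFunctor A.left.Modules 0).mapIso
      ((H10Coh.Tw.rightUnitIso F).symm ≪≫ PicGrp.tensorModIso (Iso.refl F) eM.symm) ≪≫ e1.symm) ≪≫
    e.app ⟨DCoh.inD A.left F, isQCohD_inD hF.1⟩ ≪≫ (DCoh.Lpull x.left).mapIso e2 ≪≫
    ((DCoh.Lpull x.left).commShiftIso (-(i : ℤ))).app (DCoh.inD _ H) ≪≫ (shiftFunctor _ _).mapIso e3
  let E' : (DCoh.Rpush A.hom).obj (DCoh.inD A.left F) ≅
      (DerivedCategory.singleFunctor (Spec (CommRingCat.of k)).Modules (i : ℤ)).obj N :=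
    E ≪≫ (((DerivedCategory.singleFunctors (Spec (CommRingCat.of k)).Modules).shiftIso (-(i : ℤ)) (i : ℤ) 0
      (by omega)).app N)
  letI : A.left.Over (Spec (CommRingCat.of k)) := ⟨A.hom⟩
  haveI : IsProper (A.left ↘ Spec (CommRingCat.of k)) := ‹IsProper A.hom›
  haveI := (Scheme.ΓSpecIso (CommRingCat.of k)).commRingCatIsoToRingEquiv.toEquiv.nontrivial
  have hne : ∀ j : ℕ, j ≠ i → Module.finrank k (Coh.HH A.left F j) = 0 := fun j hj => by
    rw [finrank_HH_eq_rpush F j]
    obtain ⟨ej⟩ := QCohD.nonempty_hd_rpush_single A.hom F j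
    have hz : IsZero ((Coh.Rpush A.hom j).obj F) := by
      refine IsZero.of_iso (IsZero.of_iso ?_ ((DerivedCategory.homologyFunctor _ (j : ℤ)).mapIso E'.symm).symm) ej.symm
      rcases lt_or_gt_of_ne hj with h | h
      · exact DerivedCategory.isZero_of_isGE _ (i : ℤ) _ (by omega)
      · exact DerivedCategory.isZero_of_isLE _ (i : ℤ) _ (by omega)
    haveI : Subsingleton Γ((Coh.Rpush (A.left ↘ Spec (CommRingCat.of k)) j).obj F, ⊤) :=
      subsingleton_of_forall_eq 0 fun z => by
        have := congr($(congr(Scheme.Modules.Hom.app $(hz.eq_of_src (𝟙 _) 0) ⊤)) z)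
        simpa using this
    exact Module.finrank_zero_of_subsingleton
  refine (finsum_eq_single _ i fun j hj => ?_).trans ?_
  · rw [hne j hj]
    simp
  · congr 1
    rw [finrank_HH_eq_rpush F i]
    obtain ⟨ei⟩ := QCohD.nonempty_hd_rpush_single A.hom F i
    erw [finrank_sections_congr (ei.symm ≪≫ (DerivedCategory.homologyFunctor _ (i : ℤ)).mapIso E' ≪≫
      (DerivedCategory.singleFunctorCompHomologyFunctorIso _ (i : ℤ)).app N ≪≫ eN)]
    erw [finrank_sections_freeMod k n]

end Groth.Agent.S16157
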