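import Groth.Statements.S16158
import Mathlib.RingTheory.Ideal.AssociatedPrime.Finiteness
import Mathlib.RingTheory.LocalRing.Module
import Mathlib.LinearAlgebra.Dimension.Free


set_option autoImplicit false
universe u v w
open MadRed

namespace Groth.Agent.S16158

open TensorProduct


/-- Let R be a commutative Noetherian ring and M a finitely generated R-module. Then there is a natural
number n such that in every decomposition of M as an internal direct sum of a family of submodules,
at most n of the summands are nonzero (the nonzero summands are indexed by a finite set of size at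
most n). -/
theorem result (R : Type u) [CommRing R] [IsNoetherianRing R]
    (M : Type v) [AddCommGroup M] [Module R M] [Module.Finite R M] :
    ∃ n : ℕ, ∀ (ι : Type w) [DecidableEq ι] (N : ι → Submodule R M), DirectSum.IsInternal N →
      ∃ s : Finset ι, s.card ≤ n ∧ ∀ i, N i ≠ ⊥ → i ∈ s := by
  classical
  have hfin : (associatedPrimes R M).Finite := associatedPrimes.finite R M
  let P : Finset (PrimeSpectrum R) := hfin.toFinset.attach.image fun q => ⟨q.1, (hfin.mem_toFinset.mp q.2).1⟩
  refine ⟨∑ q ∈ P, Module.finrank q.asIdeal.ResidueField (q.asIdeal.ResidueField ⊗[R] M), fun ι _ N hN => ?_⟩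
  let T : PrimeSpectrum R → Set ι := fun q => {i | q.asIdeal ∈ associatedPrimes R (N i)}
  have hbound : ∀ (q : PrimeSpectrum R) (s : Finset ι), (↑s ⊆ T q) →
      s.card ≤ Module.finrank q.asIdeal.ResidueField (q.asIdeal.ResidueField ⊗[R] M) := by
    intro q s hs
    let K := q.asIdeal.ResidueField
    let e := LinearEquiv.ofBijective (DirectSum.coeLinearMap N) hN
    let π : M →ₗ[R] (Π i : s, N i) :=
      LinearMap.pi fun i => (DirectSum.component R ι (fun i => N i) i) ∘ₗ e.symm.toLinearMap
    have hπ : Function.Surjective π := fun y => by
      refine ⟨e (∑ i : s, DirectSum.of (fun i => N i) i (y i)), funext fun j => ?_⟩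
      simp only [π, LinearMap.pi_apply, LinearMap.comp_apply, LinearEquiv.coe_coe, LinearEquiv.symm_apply_apply,
        map_sum]
      rw [Finset.sum_eq_single j]
      · exact DirectSum.of_eq_same _ _
      · intro i _ hne
        exact DirectSum.of_eq_of_ne _ _ _ (fun h => hne (Subtype.ext h).symm)
      · simp
    let w : K ⊗[R] (Π i : s, N i) ≃ₗ[K] (Π i : s, K ⊗[R] N i) := TensorProduct.piRight R K K _
    have hsurj : Function.Surjective (w.toLinearMap ∘ₗ π.baseChange K) :=
      w.surjective.comp (LinearMap.lTensor_surjective K hπ)
    have : ∀ i : s, Module.Finite R (N i) := fun i => inferInstance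
    have hle := LinearMap.finrank_le_finrank_of_surjective hsurj
    rw [Module.finrank_pi_fintype] at hle
    refine le_trans ?_ hle
    calc s.card = ∑ _i : s, 1 := by simp
      _ ≤ _ := Finset.sum_le_sum fun i _ => by
        have h1 : q ∈ Module.support R (N i) := by
          obtain ⟨x, hx⟩ := ((hs i.2 : _ ∈ associatedPrimes R (N i))).2
          rw [Module.mem_support_iff_of_finite]
          refine le_trans ?_ hx.ge
          intro r hr
          refine Ideal.le_radical ?_
          simp [Module.mem_annihilator.mp hr x]
        have := (Module.mem_support_iff_nontrivial_residueField_tensorProduct q).mp h1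
        exact Module.finrank_pos
  have hTfin : ∀ q, (T q).Finite := fun q => by
    by_contra hinf
    obtain ⟨s, hs1, hs2⟩ := Set.Infinite.exists_subset_card_eq hinf
      (Module.finrank q.asIdeal.ResidueField (q.asIdeal.ResidueField ⊗[R] M) + 1)
    have := hbound q s hs1
    omega
  refine ⟨P.biUnion fun q => (hTfin q).toFinset, Finset.card_biUnion_le.trans (Finset.sum_le_sum fun q _ =>
    hbound q _ (by simp)), fun i hi => ?_⟩
  have : Nontrivial (N i) := Submodule.nontrivial_iff_ne_bot.mpr hi
  obtain ⟨q, hq⟩ := associatedPrimes.nonempty R (N i)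
  have hqM : q ∈ associatedPrimes R M := associatedPrimes.subset_of_injective (N i).injective_subtype hq
  refine Finset.mem_biUnion.mpr ⟨⟨q, hq.1⟩, Finset.mem_image.mpr ⟨⟨q, hfin.mem_toFinset.mpr hqM⟩, Finset.mem_attach _ _, rfl⟩, ?_⟩
  rw [Set.Finite.mem_toFinset]
  exact hq

end Groth.Agent.S16158
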