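import Groth.Statements.S16161
import Mathlib.RingTheory.RootsOfUnity.EnoughRootsOfUnity
import Mathlib.RingTheory.RootsOfUnity.AlgebraicallyClosed
import Mathlib.Algebra.Field.GeomSum


set_option autoImplicit false
universe u v
open MadRed

namespace Groth.Agent.S16161


/-- Let k be an algebraically closed field of characteristic zero and R a reduced finitely generated
commutative k-algebra whose spectrum is connected (R has no idempotents besides 0 and 1); let W =
R^n be a free R-module of finite rank and g an R-linear endomorphism of W of finite order, g^m = 1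
with m > 0 (an element of finite order of GL(W)(R)). Then the action of g on W is diagonalizable
over k: viewing g as a k-linear map, its eigenspaces for eigenvalues in k span W. The source also
assumes that g is diagonalizable over k on every fibre W ⊗ k(x), x a point of Spec R; for g of
finite order this holds automatically (k is algebraically closed of characteristic zero), as the
source itself notes, so that hypothesis is omitted. -/
theorem result
    (k : Type u) [Field k] [IsAlgClosed k] [CharZero k]
    (R : Type v) [CommRing R] [Algebra k R] [IsReduced R] [Algebra.FiniteType k R]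
    (hconn : ∀ e : R, IsIdempotentElem e → e = 0 ∨ e = 1)
    (n : ℕ) (g : Module.End R (Fin n → R)) (m : ℕ) (hm : 0 < m) (hg : g ^ m = 1) :
    ⨆ μ : k, Module.End.eigenspace (g.restrictScalars k) μ = ⊤ := by
  obtain ⟨ζ, hζ⟩ := (IsAlgClosed.exists_pow_nat_eq (1 : k) hm : ∃ z : k, z ^ m = 1)
  clear hζ ζ
  have hm' : (m : k) ≠ 0 := by exact_mod_cast hm.ne'
  have : NeZero (m : k) := ⟨hm'⟩
  obtain ⟨ζ, hζ⟩ := HasEnoughRootsOfUnity.exists_primitiveRoot k m
  rw [eq_top_iff]
  rintro v -
  let u : ℕ → Fin n → R := fun i => ∑ j ∈ Finset.range m, (ζ ^ i) ^ j • (g ^ (m - j)) v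
  have hu : ∀ i, u i ∈ ⨆ μ : k, Module.End.eigenspace (g.restrictScalars k) μ := by
    intro i
    refine Submodule.mem_iSup_of_mem (ζ ^ i) (Module.End.mem_eigenspace_iff.mpr ?_)
    obtain ⟨m', rfl⟩ := Nat.exists_eq_add_of_le' hm
    have hp : ∀ w, (g ^ (m' + 1)) w = w := fun w => by rw [hg]; rfl
    have hζ1 : (ζ ^ i) ^ (m' + 1) = 1 := by rw [← pow_mul, mul_comm, pow_mul, hζ.pow_eq_one, one_pow]
    simp only [u, LinearMap.coe_restrictScalars, map_sum, Finset.smul_sum, smul_smul, ← pow_succ']
    rw [Finset.sum_range_succ', Finset.sum_range_succ]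
    congr 1
    · refine Finset.sum_congr rfl fun j hj => ?_
      rw [LinearMap.map_smul_of_tower, ← Module.End.mul_apply, ← pow_succ']
      congr 3
      have := Finset.mem_range.mp hj
      omega
    · rw [LinearMap.map_smul_of_tower, pow_zero, one_smul, hζ1, one_smul, Nat.sub_zero, hp,
        show m' + 1 - m' = 1 by omega, pow_one]
  have hsum : ∑ i ∈ Finset.range m, u i = (m : k) • v := by
    simp only [u]
    rw [Finset.sum_comm, Finset.sum_eq_single 0]
    · simp [hg, Nat.cast_smul_eq_nsmul]
    · intro j hj hj0
      rw [← Finset.sum_smul]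
      have h1 : ζ ^ j ≠ 1 := hζ.pow_ne_one_of_pos_of_lt hj0 (Finset.mem_range.mp hj)
      have h2 : ∑ i ∈ Finset.range m, (ζ ^ i) ^ j = 0 := by
        simp only [← pow_mul, mul_comm _ j]
        simp only [pow_mul]
        rw [geom_sum_eq h1, ← pow_mul, mul_comm, pow_mul, hζ.pow_eq_one, one_pow, sub_self, zero_div]
      rw [h2, zero_smul]
    · simp [hm]
  have := Submodule.smul_mem _ (m : k)⁻¹ (Submodule.sum_mem _ fun i (_ : i ∈ Finset.range m) => hu i)
  rwa [hsum, smul_smul, inv_mul_cancel₀ hm', one_smul] at this

end Groth.Agent.S16161
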