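import Groth.Statements.S16162
import Mathlib.AlgebraicGeometry.Morphisms.UniversallyOpen


set_option autoImplicit false
open CategoryTheory MonoidalCategory CartesianMonoidalCategory MonObj GrpObj AlgebraicGeometry
universe u
open MadRed

namespace Groth.Agent.S16162


/-- Let S be a scheme, G a group scheme over S, and X an S-scheme with an action of G making X → S a
principal G-bundle (a torsor in the representable fppf sense: X → S surjective, flat and locally of
finite presentation, and G ×_S X → X ×_S X, (g, x) ↦ (g·x, x), an isomorphism). Let P be a closed
subset of X stable under the action: the action map sends into P every point of G ×_S X whose second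
projection lies in P. Then the image of P in S is closed, and P is the full preimage of its image.
(The source works with varieties over the complex numbers and an affine algebraic group; the
assertion holds over any base. Its second assertion, that P → image is again a principal bundle for
the induced reduced structures, then comes from base change and is not part of this row.) -/
theorem result {S : Scheme.{u}}
    {G X : Over S} [GrpObj G] (a : AlgGrp.Action G X) (ha : RedSub.IsTorsor a)
    (P : Set X.left) (hP : IsClosed P)
    (hstab : ∀ w : (G ⊗ X).left, (snd G X).left.base w ∈ P → a.act.left.base w ∈ P) :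
    IsClosed (X.hom.base '' P) ∧ X.hom.base ⁻¹' (X.hom.base '' P) = P := by
  obtain ⟨hs, hfl, hlfp, hiso⟩ := ha
  have : Surjective X.hom := hs
  have : Flat X.hom := hfl
  have : LocallyOfFinitePresentation X.hom := hlfp
  have hpre : X.hom.base ⁻¹' (X.hom.base '' P) = P := by
    refine Set.Subset.antisymm ?_ (Set.subset_preimage_image _ _)
    rintro x ⟨p, hp, hpx⟩
    obtain ⟨z, hz1, hz2⟩ := Scheme.Pullback.exists_preimage_pullback (f := X.hom) (g := X.hom) x p hpx.symm
    have : IsIso (lift a.act (snd G X)).left := inferInstanceAs (IsIso ((Over.forget S).map (lift a.act (snd G X))))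
    let w := (inv (lift a.act (snd G X)).left).base z
    have hw : (lift a.act (snd G X)).left.base w = z := by
      rw [← Scheme.Hom.comp_apply, IsIso.inv_hom_id]; rfl
    have e1 : (snd G X).left.base w = p := by
      rw [← lift_snd a.act (snd G X), Over.comp_left, Scheme.Hom.comp_apply, hw]
      exact hz2
    have e2 : a.act.left.base w = x := by
      rw [← lift_fst a.act (snd G X), Over.comp_left, Scheme.Hom.comp_apply, hw]
      exact hz1
    exact e2 ▸ hstab w (e1 ▸ hp)
  refine ⟨?_, hpre⟩
  have hcompl : (X.hom.base '' P)ᶜ = X.hom.base '' Pᶜ := by
    conv_rhs => rw [← hpre, ← Set.preimage_compl, Set.image_preimage_eq _ X.hom.surjective]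
  rw [← isOpen_compl_iff, hcompl]
  exact X.hom.isOpenMap _ hP.isOpen_compl

end Groth.Agent.S16162
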