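import Groth.Statements.S16164
import Groth.Agent.H28Alg.IdemPair

set_option autoImplicit false
open Neron

namespace Groth.Agent.S16164

/-- Let X, Y₁, Y₂ be finitely generated free abelian groups with chosen bases, so that homomorphisms are
integer matrices acting on column vectors and each group is identified with its dual; let P : X → Y₁
and Q : X → Y₂ be surjective with A = (P over Q) : X → Y₁ ⊕ Y₂ injective, and let Ψ₁, Ψ₂ be
symmetric positive-definite integer matrices on Y₁ and Y₂, Ψ their block-diagonal sum. If the image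
of Aᵀ Ψ : Y₁ ⊕ Y₂ → X coincides with the image of Aᵀ Ψ A : X → X (the reverse inclusion always
holds), then A is bijective. (In the source X, Y₁, Y₂ are character groups of maximal tori, P and Q
specialization maps, Ψ₁ and Ψ₂ monodromy pairings, and the hypothesis expresses that two groups of
components coincide.) -/
theorem result
    {ι κ₁ κ₂ : Type} [Fintype ι] [Fintype κ₁] [Fintype κ₂]
    (P : Matrix κ₁ ι ℤ) (Q : Matrix κ₂ ι ℤ)
    (hP : Function.Surjective P.mulVec) (hQ : Function.Surjective Q.mulVec)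
    (hA : Function.Injective (Matrix.fromRows P Q).mulVec)
    (Ψ₁ : Matrix κ₁ κ₁ ℤ) (Ψ₂ : Matrix κ₂ κ₂ ℤ) (hΨ₁ : Ψ₁.IsSymm) (hΨ₂ : Ψ₂.IsSymm)
    (hΨ₁pos : ∀ y : κ₁ → ℤ, y ≠ 0 → 0 < y ⬝ᵥ Ψ₁.mulVec y)
    (hΨ₂pos : ∀ y : κ₂ → ℤ, y ≠ 0 → 0 < y ⬝ᵥ Ψ₂.mulVec y)
    (himage : LinearMap.range ((Matrix.fromRows P Q).transpose * Matrix.fromBlocks Ψ₁ 0 0 Ψ₂).mulVecLin =
      LinearMap.range ((Matrix.fromRows P Q).transpose * Matrix.fromBlocks Ψ₁ 0 0 Ψ₂ * Matrix.fromRows P Q).mulVecLin) :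
    Function.Bijective (Matrix.fromRows P Q).mulVec := by
  classical
  let M := P.transpose * Ψ₁ * P
  let N := Q.transpose * Ψ₂ * Q
  have hMs : M.IsSymm := by
    show (P.transpose * Ψ₁ * P).transpose = _
    rw [Matrix.transpose_mul, Matrix.transpose_mul, Matrix.transpose_transpose, hΨ₁.eq]
    simp only [M, Matrix.mul_assoc]
  have hNs : N.IsSymm := by
    show (Q.transpose * Ψ₂ * Q).transpose = _
    rw [Matrix.transpose_mul, Matrix.transpose_mul, Matrix.transpose_transpose, hΨ₂.eq]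
    simp only [N, Matrix.mul_assoc]
  have qM : ∀ v, v ⬝ᵥ M.mulVec v = P.mulVec v ⬝ᵥ Ψ₁.mulVec (P.mulVec v) := fun v => by
    simp only [M, ← Matrix.mulVec_mulVec]
    rw [Matrix.dotProduct_mulVec, Matrix.vecMul_transpose]
  have qN : ∀ v, v ⬝ᵥ N.mulVec v = Q.mulVec v ⬝ᵥ Ψ₂.mulVec (Q.mulVec v) := fun v => by
    simp only [N, ← Matrix.mulVec_mulVec]
    rw [Matrix.dotProduct_mulVec, Matrix.vecMul_transpose]
  have nn1 : ∀ y : κ₁ → ℤ, 0 ≤ y ⬝ᵥ Ψ₁.mulVec y := fun y => by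
    rcases eq_or_ne y 0 with rfl | h
    · simp
    · exact (hΨ₁pos y h).le
  have nn2 : ∀ y : κ₂ → ℤ, 0 ≤ y ⬝ᵥ Ψ₂.mulVec y := fun y => by
    rcases eq_or_ne y 0 with rfl | h
    · simp
    · exact (hΨ₂pos y h).le
  have hpd : ∀ v : ι → ℤ, v ≠ 0 → 0 < v ⬝ᵥ (M + N).mulVec v := fun v hv => by
    rw [Matrix.add_mulVec, dotProduct_add, qM, qN]
    have hne : P.mulVec v ≠ 0 ∨ Q.mulVec v ≠ 0 := by
      by_contra hc
      simp only [not_or, not_not] at hc
      apply hv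
      apply hA
      rw [Matrix.fromRows_mulVec, hc.1, hc.2, Matrix.mulVec_zero]
      ext (x | x) <;> rfl
    rcases hne with h | h
    · linarith [hΨ₁pos _ h, nn2 (Q.mulVec v)]
    · linarith [hΨ₂pos _ h, nn1 (P.mulVec v)]
  -- solve `(M + N) χ₁ = M`
  have key : ∀ y : κ₁ ⊕ κ₂ → ℤ, ((Matrix.fromRows P Q).transpose * Matrix.fromBlocks Ψ₁ 0 0 Ψ₂).mulVec y =
      P.transpose.mulVec (Ψ₁.mulVec (y ∘ Sum.inl)) + Q.transpose.mulVec (Ψ₂.mulVec (y ∘ Sum.inr)) := by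
    intro y
    rw [← Matrix.mulVec_mulVec, Matrix.fromBlocks_mulVec, Matrix.transpose_fromRows, Matrix.fromCols_mulVec]
    simp
  have hsol : ∀ v, ∃ x, (M + N).mulVec x = M.mulVec v := by
    intro v
    have hmem : ((Matrix.fromRows P Q).transpose * Matrix.fromBlocks Ψ₁ 0 0 Ψ₂).mulVec (Sum.elim (P.mulVec v) 0) ∈
        LinearMap.range ((Matrix.fromRows P Q).transpose * Matrix.fromBlocks Ψ₁ 0 0 Ψ₂ * Matrix.fromRows P Q).mulVecLin :=
      himage ▸ ⟨_, rfl⟩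
    obtain ⟨x, hx⟩ := hmem
    refine ⟨x, ?_⟩
    rw [Matrix.mulVecLin_apply, ← Matrix.mulVec_mulVec, key, key, Matrix.fromRows_mulVec] at hx
    simp only [Sum.elim_comp_inl, Sum.elim_comp_inr, Matrix.mulVec_zero, add_zero] at hx
    simpa [M, N, Matrix.add_mulVec, ← Matrix.mulVec_mulVec] using hx
  choose χ hχ using fun i : ι => hsol (Pi.single i 1)
  let χ₁ : Matrix ι ι ℤ := Matrix.of fun a i => χ i a
  have hχ1 : (M + N) * χ₁ = M := by
    ext a i
    have h := congrFun (hχ i) a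
    rw [Matrix.mulVec_single_one] at h
    simpa [Matrix.mul_apply, Matrix.mulVec, dotProduct, χ₁] using h
  obtain ⟨h11, h22⟩ := H28Alg.idem_pair M N χ₁ (1 - χ₁) hMs hNs (fun v => by rw [qM]; exact nn1 _)
    (fun v => by rw [qN]; exact nn2 _) hpd (add_sub_cancel _ _) (by
      have : N * χ₁ = M - M * χ₁ := eq_sub_of_add_eq' ((add_mul M N χ₁).symm.trans hχ1)
      rw [this, Matrix.mul_sub, Matrix.mul_one])
  have hM2 : M * (1 - χ₁) = 0 := by
    rw [← hχ1, Matrix.mul_assoc, Matrix.mul_sub, Matrix.mul_one, h11, sub_self, Matrix.mul_zero]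
  have hN1 : N * χ₁ = 0 := by
    have : N * χ₁ = M - M * χ₁ := eq_sub_of_add_eq' ((add_mul M N χ₁).symm.trans hχ1)
    rw [this]
    rw [Matrix.mul_sub, Matrix.mul_one] at hM2
    exact hM2
  have hP0 : ∀ v, P.mulVec ((1 - χ₁).mulVec v) = 0 := fun v => by
    by_contra h
    have hp := hΨ₁pos _ h
    rw [← qM, Matrix.mulVec_mulVec v M (1 - χ₁), hM2, Matrix.zero_mulVec, dotProduct_zero] at hp
    exact lt_irrefl _ hp
  have hQ0 : ∀ v, Q.mulVec (χ₁.mulVec v) = 0 := fun v => by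
    by_contra h
    have hp := hΨ₂pos _ h
    rw [← qN, Matrix.mulVec_mulVec v N χ₁, hN1, Matrix.zero_mulVec, dotProduct_zero] at hp
    exact lt_irrefl _ hp
  refine ⟨hA, fun y => ?_⟩
  obtain ⟨a, ha⟩ := hP (y ∘ Sum.inl)
  obtain ⟨b, hb⟩ := hQ (y ∘ Sum.inr)
  refine ⟨χ₁.mulVec a + (1 - χ₁).mulVec b, ?_⟩
  have h1 : P.mulVec (χ₁.mulVec a) = P.mulVec a := by
    have := hP0 a
    rw [Matrix.sub_mulVec, Matrix.one_mulVec, Matrix.mulVec_sub, sub_eq_zero] at this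
    exact this.symm
  have h2 : Q.mulVec ((1 - χ₁).mulVec b) = Q.mulVec b := by
    rw [Matrix.sub_mulVec, Matrix.one_mulVec, Matrix.mulVec_sub, hQ0, sub_zero]
  rw [Matrix.fromRows_mulVec, Matrix.mulVec_add, Matrix.mulVec_add, hP0, hQ0, h1, h2, add_zero, zero_add, ha, hb]
  ext (x | x) <;> rfl

end Groth.Agent.S16164
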