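import Groth.Statements.S16170
import Groth.Agent.H28Alg.IdemPair

set_option autoImplicit false
open Neron

namespace Groth.Agent.S16170

/-- Let M and N be symmetric positive-semidefinite integer matrices on the same finite index set whose
sum M + N is positive definite, and let χ₁, χ₂ be integer matrices with χ₁ + χ₂ = 1 and M χ₂ = N χ₁.
Then χ₁ and χ₂ are idempotent. (In the intended application M = Pᵀ Ψ₁ P and N = Qᵀ Ψ₂ Q for
surjective integer matrices P, Q and positive-definite Ψ₁, Ψ₂.) -/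
theorem result
    {ι : Type} [Fintype ι] [DecidableEq ι]
    (M N χ₁ χ₂ : Matrix ι ι ℤ) (hM : M.IsSymm) (hN : N.IsSymm)
    (hMpos : ∀ v : ι → ℤ, 0 ≤ v ⬝ᵥ M.mulVec v) (hNpos : ∀ v : ι → ℤ, 0 ≤ v ⬝ᵥ N.mulVec v)
    (hpos : ∀ v : ι → ℤ, v ≠ 0 → 0 < v ⬝ᵥ (M + N).mulVec v)
    (hsum : χ₁ + χ₂ = 1) (hrel : M * χ₂ = N * χ₁) :
    χ₁ * χ₁ = χ₁ ∧ χ₂ * χ₂ = χ₂ := by
  exact H28Alg.idem_pair M N χ₁ χ₂ hM hN hMpos hNpos hpos hsum hrel

end Groth.Agent.S16170
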