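import Groth.Statements.S16174
import Groth.Agent.H9Hens.Limits
import Groth.Agent.H9Hens.Local
import Groth.Agent.H9Hens.PairOps
import Mathlib.RingTheory.Valuation.ValuationRing
-- import your own Groth.Agent.* helpers here

set_option autoImplicit false
universe u
open Hensel

namespace Groth.Agent.S16174

/-- Let V be a Henselian valuation ring and p a prime ideal of V. Then the local rings V_p (localisation
at p) and V/p are Henselian. (Both are again valuation rings, which is elementary and not restated.) -/
theorem result (V : Type u) [CommRing V]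
    [IsDomain V] [ValuationRing V] [HenselianLocalRing V] (p : Ideal V) [p.IsPrime] :
    HenselianLocalRing (Localization.AtPrime p) ∧ HenselianLocalRing (V ⧸ p) := by
  have : HenselianRing V (IsLocalRing.maximalIdeal V) := inferInstance
  have hp : HenselianRing V p :=
    H9Hens.henselianRing_of_le (IsLocalRing.le_maximalIdeal Ideal.IsPrime.ne_top')
  refine ⟨?_, ?_⟩
  · have hmem : ∀ x ∈ IsLocalRing.maximalIdeal (Localization.AtPrime p),
        ∃ y ∈ p, algebraMap V (Localization.AtPrime p) y = x := by
      intro x hx
      obtain ⟨⟨a, s⟩, rfl⟩ := IsLocalization.exists_mk'_eq (S := Localization.AtPrime p) p.primeCompl x |>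
        fun ⟨a, s, h⟩ => (⟨(a, s), h⟩ : ∃ as : V × p.primeCompl, IsLocalization.mk' _ as.1 as.2 = x)
      rw [IsLocalization.AtPrime.mk'_mem_maximal_iff (Localization.AtPrime p) p] at hx
      obtain ⟨c, hc⟩ | ⟨c, hc⟩ := ValuationRing.dvd_total (s : V) a
      · refine ⟨c, ((Ideal.IsPrime.mem_or_mem ‹_› (hc ▸ hx)).resolve_left s.2), ?_⟩
        exact (IsLocalization.mk'_eq_iff_eq_mul.mpr (by rw [← map_mul, hc, mul_comm])).symm
      · exact absurd (hc ▸ p.mul_mem_right c hx) s.2
    have : HenselianRing (Localization.AtPrime p)
        (IsLocalRing.maximalIdeal (Localization.AtPrime p)) := by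
      refine H9Hens.henselianRing_of_gabber (IsLocalRing.maximalIdeal_le_jacobson _)
        fun n hn f hfdeg hf => ?_
      choose c hcp hc using fun i => hmem _ (hf i)
      let g : Polynomial V := ∑ i ∈ Finset.range (n + 1), Polynomial.C (c i) * Polynomial.X ^ i
      have hg : g.map (algebraMap V (Localization.AtPrime p)) = f := by
        rw [Polynomial.as_sum_range_C_mul_X_pow' f (Nat.lt_succ_of_le hfdeg)]
        simp [g, Polynomial.map_sum, hc]
      have hgdeg : g.natDegree ≤ n := Polynomial.natDegree_sum_le_of_forall_le _ _ fun i hi =>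
        (Polynomial.natDegree_C_mul_X_pow_le _ _).trans (Nat.lt_succ_iff.mp (Finset.mem_range.mp hi))
      have hgp : ∀ i, g.coeff i ∈ p := fun i => by
        rw [Polynomial.finsetSum_coeff]
        refine sum_mem fun j _ => ?_
        rw [Polynomial.coeff_C_mul_X_pow]
        split
        · exact hcp j
        · exact zero_mem _
      obtain ⟨α, hα1, hα⟩ := H9Hens.gabber_root (I := p) n hn g hgdeg hgp
      refine ⟨algebraMap V _ α, ?_, ?_⟩
      · rw [← map_one (algebraMap V (Localization.AtPrime p)), ← map_sub]
        exact (IsLocalization.AtPrime.to_map_mem_maximal_iff (Localization.AtPrime p) p _).mpr hα1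
      · have h := hα.map (f := algebraMap V (Localization.AtPrime p))
        rwa [Polynomial.map_add, Polynomial.map_mul, Polynomial.map_pow, Polynomial.map_sub,
          Polynomial.map_X, Polynomial.map_one, hg] at h
    exact H9Hens.henselianLocalRing_of_henselianRing
  · have : IsLocalRing (V ⧸ p) :=
      IsLocalRing.of_surjective' (Ideal.Quotient.mk p) Ideal.Quotient.mk_surjective
    have h := H9Hens.henselianRing_quotient (J := IsLocalRing.maximalIdeal V) p
    have he : (IsLocalRing.maximalIdeal V).map (Ideal.Quotient.mk p) = IsLocalRing.maximalIdeal (V ⧸ p) := by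
      refine IsLocalRing.eq_maximalIdeal ((Ideal.map_eq_top_or_isMaximal_of_surjective _
        Ideal.Quotient.mk_surjective (IsLocalRing.maximalIdeal.isMaximal V)).resolve_left fun ht => ?_)
      refine (IsLocalRing.maximalIdeal.isMaximal V).ne_top ?_
      have h2 := congrArg (Ideal.comap (Ideal.Quotient.mk p)) ht
      rwa [Ideal.comap_map_of_surjective _ Ideal.Quotient.mk_surjective, ← RingHom.ker_eq_comap_bot,
        Ideal.mk_ker, sup_eq_left.mpr (IsLocalRing.le_maximalIdeal Ideal.IsPrime.ne_top'),
        Ideal.comap_top] at h2
    rw [he] at h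
    exact H9Hens.henselianLocalRing_of_henselianRing

end Groth.Agent.S16174
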