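import Groth.Statements.S16178
import Groth.Agent.H3CAlg.ValPd

set_option autoImplicit false
universe u
open CategoryTheory
open CAlg

namespace Groth.Agent.S16178

/-- Let V be a valuation ring, B a flat V-algebra of finite presentation, q a prime ideal of B lying
over the prime p of V, A = B_q the local ring of Spec B at q, and suppose that the local ring A/pA
of the fibre over p at q is a regular local ring of dimension n. Then every finitely presented
A-module M which is flat as a V-module has projective dimension at most n over A. -/
theorem result (V : Type u) [CommRing V] [IsDomain V] [ValuationRing V]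
    (B : Type u) [CommRing B] [Algebra V B] [Module.Flat V B] [Algebra.FinitePresentation V B]
    (q : Ideal B) [q.IsPrime] (n : ℕ)
    (hreg : IsRegularLocalRing (Localization.AtPrime q ⧸ Ideal.map (algebraMap V (Localization.AtPrime q)) (Ideal.comap (algebraMap V B) q)))
    (hn : ringKrullDim (Localization.AtPrime q ⧸ Ideal.map (algebraMap V (Localization.AtPrime q)) (Ideal.comap (algebraMap V B) q)) = n)
    (M : Type u) [AddCommGroup M] [Module (Localization.AtPrime q) M] [Module.FinitePresentation (Localization.AtPrime q) M]
    [Module V M] [IsScalarTower V (Localization.AtPrime q) M] [Module.Flat V M] :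
    HasProjectiveDimensionLE (ModuleCat.of (Localization.AtPrime q) M) n := by
  obtain ⟨hJ, hA, htf⟩ := Groth.Agent.H3CAlg.ValPd.setup V B q
  exact Groth.Agent.H3CAlg.ValPd.pd_le_of_torsionFree _ hJ hA htf hreg hn M
    fun c x hc hx => (smul_eq_zero.mp hx).resolve_left hc

end Groth.Agent.S16178
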