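import Groth.Statements.S16183
import Groth.Agent.H19Unip.SplitAlg
import Groth.Agent.H21Split.Red0.BaseExists
import Groth.Agent.H21Split.Bru.Coradical

set_option autoImplicit false
universe u
open CategoryTheory MonoidalCategory CartesianMonoidalCategory MonObj GrpObj AlgebraicGeometry
open AGF

namespace Groth.Agent.S16183

set_option linter.style.haveILetI false
set_option backward.isDefEq.respectTransparency false
set_option synthInstance.maxHeartbeats 400000
set_option maxHeartbeats 4000000
open CategoryTheory.Limits Groth.Agent.H21Split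


/-- Let G be a reductive group over an algebraically closed field k and T ⊆ G a maximal torus. A
character χ : T → 𝔾_m which is Weyl-invariant — χ ∘ φ = χ whenever φ : T → T is induced by
conjugation by a k-point of G carrying T into itself — is the restriction to T of one and only one
character of G. (The source phrases this as: restriction along T → G → G/[G,G] is an isomorphism
from the character group of the abelianisation onto the Weyl-invariant characters of T; since every
character of G factors through the abelianisation, this is the same statement with characters of G.) -/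
theorem result (k : Type u) [Field k] [IsAlgClosed k]
    (G : Over (Spec (CommRingCat.of k))) [GrpObj G] (hG : Red.IsReductive G)
    (T : Over (Spec (CommRingCat.of k))) [GrpObj T] (iT : T ⟶ G) (hT : Red.IsMaximalTorus iT)
    (χ : T ⟶ Red.Gm (Spec (CommRingCat.of k))) [IsMonHom χ]
    (hχ : ∀ (n : 𝟙_ (Over (Spec (CommRingCat.of k))) ⟶ G) (φ : T ⟶ T), φ ≫ iT = AGF.conjBy n iT → φ ≫ χ = χ) :
    ∃! ψ : G ⟶ Red.Gm (Spec (CommRingCat.of k)), IsMonHom ψ ∧ iT ≫ ψ = χ := by
  classical
  obtain ⟨D, σ, hσm, hσ⟩ := H19Unip.exists_splitRed_of_isMaximalTorus hG hT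
  haveI := hσm; haveI := hT.2.1
  obtain ⟨m, hm, h0⟩ := H19Unip.exists_orth_of_invariant D iT σ hσ χ hχ
  haveI : D.P.IsReduced := Groth.Agent.H21Red0.isReduced_of_nonempty D
  obtain ⟨b⟩ := Groth.Agent.H21Red0.nonempty_base D
  let N : AddSubgroup D.M :=
    { carrier := {x | ∀ a, D.P.coroot a x = 0}
      zero_mem' := fun a => map_zero _
      add_mem' := fun {x y} hx hy a => by rw [map_add, hx a, hy a, add_zero]
      neg_mem' := fun {x} hx a => by rw [map_neg, hx a, neg_zero] }
  obtain ⟨f, hf, hfi, -⟩ := exists_corad D b (N := N) fun x hx c => hx c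
  haveI := hf
  haveI : IsMonHom (Red.chi (Spec (CommRingCat.of k)) (⟨m, h0⟩ : N)) := Groth.Agent.H21Diag.isMonHom_DSmap _ _
  have hψ : iT ≫ f ≫ Red.chi _ (⟨m, h0⟩ : N) = χ := by
    rw [← cancel_epi σ.hom, ← Category.assoc, hσ, ← Category.assoc, hfi, coradT, Category.assoc, hm, Red.chi,
      R2.DSmap_comp, Red.chi]
    congr 2
  refine ⟨f ≫ Red.chi _ (⟨m, h0⟩ : N), ⟨inferInstance, hψ⟩, fun ψ ⟨hψm, hψT⟩ => ?_⟩
  haveI := hψm
  refine H19Unip.hom_ext_split D ψ _ ?_ fun a => ?_
  · rw [← hσ, Category.assoc, Category.assoc, hψT, hψ]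
  · rw [H19Unip.root_comp_eq_one_of_comm D ψ a, H19Unip.root_comp_eq_one_of_comm D (f ≫ _) a]

end Groth.Agent.S16183
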