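import Groth.Statements.S16184
import Groth.Agent.H19Unip.SplitAlg

set_option autoImplicit false
universe u
open CategoryTheory MonoidalCategory CartesianMonoidalCategory MonObj GrpObj AlgebraicGeometry
open AGF

namespace Groth.Agent.S16184

set_option linter.style.haveILetI false
set_option backward.isDefEq.respectTransparency false
set_option synthInstance.maxHeartbeats 400000
set_option maxHeartbeats 4000000
open CategoryTheory.Limits


/-- Let G be a semisimple group over an algebraically closed field k and T ⊆ G a maximal torus. A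
character χ : T → 𝔾_m which is Weyl-invariant — χ ∘ φ = χ whenever φ : T → T is induced by
conjugation by a k-point of G carrying T into itself — is the trivial character. (In the source this
is the vanishing of the Weyl-invariants of the character lattice of the maximal torus of the derived
subgroup.) -/
theorem result (k : Type u) [Field k] [IsAlgClosed k]
    (G : Over (Spec (CommRingCat.of k))) [GrpObj G] (hG : Red.IsSemisimple G)
    (T : Over (Spec (CommRingCat.of k))) [GrpObj T] (iT : T ⟶ G) (hT : Red.IsMaximalTorus iT)
    (χ : T ⟶ Red.Gm (Spec (CommRingCat.of k))) [IsMonHom χ]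
    (hχ : ∀ (n : 𝟙_ (Over (Spec (CommRingCat.of k))) ⟶ G) (φ : T ⟶ T), φ ≫ iT = AGF.conjBy n iT → φ ≫ χ = χ) :
    χ = 1 := by
  have hGr : Red.IsReductive G := ⟨hG.1, hG.2.1, fun s => (hG.2.2 s).1⟩
  obtain ⟨D, σ, hσm, hσ⟩ := H19Unip.exists_splitRed_of_isMaximalTorus hGr hT
  haveI := hσm; haveI := hT.2.1
  obtain ⟨m, hm, h0⟩ := H19Unip.exists_orth_of_invariant D iT σ hσ χ hχ
  have hsat := (Groth.Agent.S8071.satRoots_eq_top_iff D).2 ((Groth.Agent.S8071.result k G D).1 hG)
  have hm0 : m = 0 := Groth.Agent.S8072.coroots_injective D hsat (funext fun a => by simp [h0 a])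
  haveI := hT.1
  rw [← cancel_epi σ.hom, hm, hm0, MonObj.comp_one, Red.chi,
    show zmultiplesHom D.M (0 : D.M) = 0 from AddMonoidHom.ext_int (by simp), Groth.Agent.H21Split.DSmap_zero,
    MonObj.comp_one]

end Groth.Agent.S16184
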