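import Groth.Statements.S16185
import Groth.Agent.H02CA.GorFlat
import Mathlib

set_option autoImplicit false
universe u
open CategoryTheory CategoryTheory.Limits AlgebraicGeometry
open Dual3

namespace Groth.Agent.S16185

/-- Let A be an Artinian local ring with maximal ideal m and let f : P → Spec A be a flat morphism of
schemes whose closed fibre X = P ×_{Spec A} Spec (A/m) is a Gorenstein scheme (locally Noetherian,
all local rings Gorenstein). Then f is a Gorenstein morphism: flat at every point with Gorenstein
local rings on its fibres. (The source takes A to be a local Artinian algebra over a field k with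
residue field k and X a k-scheme deformed flatly over A; the k-algebra structure plays no role, so
the residue field of A is used directly.) -/
theorem result
    {A : Type u} [CommRing A] [IsArtinianRing A] [IsLocalRing A]
    {P X : Scheme.{u}} (f : P ⟶ Spec (CommRingCat.of A)) [Flat f]
    (i : X ⟶ P) (q : X ⟶ Spec (CommRingCat.of (IsLocalRing.ResidueField A)))
    (hsq : IsPullback i q f (Spec.map (CommRingCat.ofHom (IsLocalRing.residue A))))
    (hX : Dual3.IsGorenstein X) : Dual3.IsGorensteinMor f := by
  intro y
  refine ⟨Flat.stalkMap f y, ?_⟩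
  set x := f y with hx
  haveI : x.asIdeal.IsPrime := x.isPrime
  haveI hmax : x.asIdeal.IsMaximal := IsArtinianRing.isMaximal_of_isPrime _
  have hm : x.asIdeal = IsLocalRing.maximalIdeal A := IsLocalRing.eq_maximalIdeal hmax
  let ψ : IsLocalRing.ResidueField A →+* x.asIdeal.ResidueField :=
    Ideal.Quotient.lift _ (algebraMap A _) (fun a ha => by
      rw [Ideal.algebraMap_residueField_eq_zero, hm]; exact ha)
  have hψ : Function.Bijective ψ := by
    refine ⟨ψ.injective, fun z => ?_⟩
    obtain ⟨w, rfl⟩ := (Ideal.bijective_algebraMap_quotient_residueField x.asIdeal).2 z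
    obtain ⟨a, rfl⟩ := Ideal.Quotient.mk_surjective w
    exact ⟨IsLocalRing.residue A a, rfl⟩
  haveI : IsIso (CommRingCat.ofHom ψ) := (ConcreteCategory.isIso_iff_bijective _).2 hψ
  let E := Spec.map (Scheme.Spec.residueFieldIso (CommRingCat.of A) x).inv ≫ Spec.map (CommRingCat.ofHom ψ)
  have hE : E ≫ Spec.map (CommRingCat.ofHom (IsLocalRing.residue A)) =
      (Spec (CommRingCat.of A)).fromSpecResidueField x := by
    rw [Category.assoc, ← Spec.map_comp (CommRingCat.ofHom (IsLocalRing.residue A)) (CommRingCat.ofHom ψ),
      ← CommRingCat.ofHom_comp]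
    exact Scheme.Spec.map_residueFieldIso_inv_eq_fromSpecResidueField (CommRingCat.of A) x
  have hp : IsPullback i (q ≫ inv E) f ((Spec (CommRingCat.of A)).fromSpecResidueField x) :=
    hsq.of_iso (Iso.refl _) (Iso.refl _) (asIso E).symm (Iso.refl _) (by simp) (by simp) (by simp)
      (by simp [← hE])
  obtain ⟨-, hstalk⟩ := hX
  let g : f.fiber x ⟶ X := hp.isoPullback.inv
  exact Groth.Agent.H02CA.GorFlat.gor_of_ringEquiv (asIso (g.stalkMap (f.asFiber y))).commRingCatIsoToRingEquiv
    (hstalk _)

end Groth.Agent.S16185
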