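import Groth.Statements.S16188
import Groth.Agent.H17.Reduced

set_option autoImplicit false
universe u
open CategoryTheory AlgebraicGeometry TopologicalSpace
open SchMor

namespace Groth.Agent.S16188

open CategoryTheory Limits AlgebraicGeometry TopologicalSpace

/-- Let f : X → Y be a morphism of schemes with X reduced and irreducible. Then f factors through an
irreducible component of Y carrying its reduced closed-subscheme structure: there are an irreducible
component Z of Y and a morphism g from X to the closed subscheme of Y cut out by the vanishing ideal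
sheaf of Z with g followed by the inclusion equal to f; that closed subscheme is integral. -/
theorem result
    {X Y : Scheme.{u}} (f : X ⟶ Y) [IsReduced X] [IrreducibleSpace X] :
    ∃ (Z : Closeds Y) (_ : (Z : Set Y) ∈ irreducibleComponents Y)
      (_ : IsIntegral (Scheme.IdealSheafData.vanishingIdeal Z).subscheme)
      (g : X ⟶ (Scheme.IdealSheafData.vanishingIdeal Z).subscheme),
      g ≫ (Scheme.IdealSheafData.vanishingIdeal Z).subschemeι = f := by
  let y := f (genericPoint X)
  let Z : Closeds Y := ⟨irreducibleComponent y, isClosed_irreducibleComponent⟩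
  have hr := Groth.Agent.H17.range_vanishingIdeal_subschemeι Z
  have : IsReduced (Scheme.IdealSheafData.vanishingIdeal Z).subscheme :=
    Groth.Agent.H17.isReduced_vanishingIdeal_subscheme Z
  set i := (Scheme.IdealSheafData.vanishingIdeal Z).subschemeι
  have hirr : IsIrreducible (Set.univ : Set (Scheme.IdealSheafData.vanishingIdeal Z).subscheme) := by
    have h := isIrreducible_irreducibleComponent (x := y)
    obtain ⟨⟨z, hz⟩, hz2⟩ := h
    obtain ⟨w, hw⟩ : z ∈ Set.range i := by rw [hr]; exact hz
    refine ⟨⟨w, trivial⟩, ?_⟩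
    have h3 : IsPreirreducible (i '' Set.univ) := by rw [Set.image_univ, hr]; exact hz2
    rintro a b ha hb ⟨p, -, hpa⟩ ⟨q, -, hqb⟩
    obtain ⟨a', ha', rfl⟩ := i.isEmbedding.isInducing.isOpen_iff.mp ha
    obtain ⟨b', hb', rfl⟩ := i.isEmbedding.isInducing.isOpen_iff.mp hb
    obtain ⟨_, ⟨r, -, rfl⟩, hr1, hr2⟩ := h3 a' b' ha' hb' ⟨i p, ⟨p, trivial, rfl⟩, hpa⟩ ⟨i q, ⟨q, trivial, rfl⟩, hqb⟩
    exact ⟨r, trivial, hr1, hr2⟩
  have : IrreducibleSpace (Scheme.IdealSheafData.vanishingIdeal Z).subscheme := (irreducibleSpace_def _).mpr hirr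
  refine ⟨Z, irreducibleComponent_mem_irreducibleComponents y, isIntegral_of_irreducibleSpace_of_isReduced _,
    Groth.Agent.H17.exists_lift_of_range_subset f i ?_⟩
  rw [hr]
  rintro _ ⟨x, rfl⟩
  exact ((genericPoint_specializes x).map f.continuous).mem_closed isClosed_irreducibleComponent mem_irreducibleComponent

end Groth.Agent.S16188
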