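import Groth.Statements.S16190
import Groth.Agent.H24Def.GeomSmoothing

set_option autoImplicit false
universe u
open CategoryTheory CategoryTheory.Limits AlgebraicGeometry
open Deform

open Groth.Agent
namespace Groth.Agent.S16190

/-- Let k be an algebraically closed field and let X have a geometric smoothing, i.e. there are an
integral k-scheme C smooth of dimension one over k, a k-rational point c of C and a flat proper
morphism π : Y → C whose fibre over c is X (as a k-scheme) and whose fibre over the generic point of
C is smooth. Then X has a smoothing over Spec k[[t]]: a flat proper morphism P → Spec k[[t]] with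
closed fibre X over k and smooth generic fibre P ⊗ Frac k[[t]]. (The published lemma concludes that
X, assumed projective and equidimensional, is formally smoothable; its proof builds exactly this
family over the completed local ring of C at c, identified with k[[t]], and then appeals to a
criterion equating smoothings over a discrete valuation ring with formal smoothings, which is not
restated; the hypotheses on X are not used in the step stated.) -/
theorem result
    (k : Type u) [Field k] [IsAlgClosed k]
    (X : Scheme.{u}) (pX : X ⟶ Spec (CommRingCat.of k))
    (C : Scheme.{u}) (qC : C ⟶ Spec (CommRingCat.of k)) (c : Spec (CommRingCat.of k) ⟶ C)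
    (hc : c ≫ qC = 𝟙 (Spec (CommRingCat.of k))) [IsIntegral C] [Smooth qC]
    (hC : topologicalKrullDim C = 1)
    (Y : Scheme.{u}) (π : Y ⟶ C) [Flat π] [IsProper π] (j : X ⟶ Y) (hsq : IsPullback j pX π c)
    (hgen : Smooth (π.fiberToSpecResidueField (genericPoint C))) :
    ∃ (P : Scheme.{u}) (p : P ⟶ Spec (CommRingCat.of (PowerSeries k))) (_ : Flat p) (_ : IsProper p)
      (i : X ⟶ P),
      IsPullback i pX p (Spec.map (CommRingCat.ofHom (PowerSeries.constantCoeff (R := k)))) ∧
      Smooth (pullback.snd p
        (Spec.map (CommRingCat.ofHom (algebraMap (PowerSeries k) (FractionRing (PowerSeries k)))))) := by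
  exact H24Def.GeomSmoothing.exists_smoothing k X pX C qC c hc hC Y π j hsq hgen

end Groth.Agent.S16190
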