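import Groth.Statements.S16191
import Groth.Agent.H3CAlg.CompletedCI

set_option autoImplicit false
universe u
open CategoryTheory
open Fitt

namespace Groth.Agent.S16191

/-- Let k be an algebraically closed field, R = k[[t]], and let B be presented as a quotient of the
t-adic completion Ã of R[T_1, …, T_r] (restricted power series in r variables) by an ideal (a_1, …,
a_c), such that B is Noetherian, t-adically complete and flat over R, the images of a_1, …, a_c in
Ã/t^{n+1}Ã form a regular sequence for every n (so every level B/t^{n+1}B is a flat local complete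
intersection of relative dimension d = r - c over R/t^{n+1}), and the closed fibre B/tB is reduced.
Let Ω̂ be the t-adic completion of the module of differentials Ω_{B/R} and T^1 = Ext^1_B(Ω̂, B).
Then Fitt_d(Ω̂) = Fitt_0(T^1). (The source states this for a flat local complete intersection
morphism of locally Noetherian formal schemes 𝔛 → Spf k[[t]] of relative dimension d with reduced
closed fibre, as an equality of Fitting ideal sheaves; the row is its affine chart with a fixed
factorisation through formal affine r-space, which is how the proof proceeds.) -/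
theorem result
    (k : Type u) [Field k] [IsAlgClosed k] (r c : ℕ)
    (a : Fin c → AdicCompletion (Ideal.span {MvPolynomial.C (σ := Fin r) (PowerSeries.X (R := k))}) (MvPolynomial (Fin r) (PowerSeries k)))
    (B : Type u) [CommRing B] [Algebra (PowerSeries k) B] [IsNoetherianRing B]
    [IsAdicComplete (Ideal.span {algebraMap (PowerSeries k) B PowerSeries.X}) B]
    [Module.Flat (PowerSeries k) B]
    (ψ : AdicCompletion (Ideal.span {MvPolynomial.C (σ := Fin r) (PowerSeries.X (R := k))}) (MvPolynomial (Fin r) (PowerSeries k)) →ₐ[PowerSeries k] B)
    (hψ : Function.Surjective ψ) (hker : RingHom.ker ψ.toRingHom = Ideal.span (Set.range a))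
    (hreg : ∀ n : ℕ, RingTheory.Sequence.IsRegular
      (AdicCompletion (Ideal.span {MvPolynomial.C (σ := Fin r) (PowerSeries.X (R := k))}) (MvPolynomial (Fin r) (PowerSeries k)) ⧸
        Ideal.span {algebraMap (PowerSeries k) (AdicCompletion (Ideal.span {MvPolynomial.C (σ := Fin r) (PowerSeries.X (R := k))}) (MvPolynomial (Fin r) (PowerSeries k))) PowerSeries.X ^ (n + 1)})
      ((List.ofFn a).map (Ideal.Quotient.mk (Ideal.span {algebraMap (PowerSeries k)
        (AdicCompletion (Ideal.span {MvPolynomial.C (σ := Fin r) (PowerSeries.X (R := k))}) (MvPolynomial (Fin r) (PowerSeries k))) PowerSeries.X ^ (n + 1)}))))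
    [IsReduced (B ⧸ Ideal.span {algebraMap (PowerSeries k) B PowerSeries.X})] :
    Fitt.ideal B (AdicCompletion (Ideal.span {algebraMap (PowerSeries k) B PowerSeries.X})
        (KaehlerDifferential (PowerSeries k) B)) (r - c) =
      Fitt.ideal B (Abelian.Ext.{u} (ModuleCat.of B (AdicCompletion
        (Ideal.span {algebraMap (PowerSeries k) B PowerSeries.X}) (KaehlerDifferential (PowerSeries k) B)))
        (ModuleCat.of B B) 1) 0 := by
  obtain ⟨D, hcr, hJ, -⟩ := H3CAlg.CompletedCI.exists_presentation B a ψ hψ hker (hreg 0) inferInstance
  exact H3CAlg.CompletedCI.fitting_eq B D hcr hJ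

end Groth.Agent.S16191
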