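import Groth.Statements.S16194

set_option autoImplicit false
universe u
open DivAlg

namespace Groth.Agent.S16194

theorem aux {R : Type u} [Ring R] (r : R) (hr : r ∈ Ring.jacobson R) :
    ∃ s : R, s * (1 - r) = 1 := by
  suffices h : Ideal.span ({1 - r} : Set R) = ⊤ by
    exact Ideal.mem_span_singleton'.mp (h ▸ Submodule.mem_top)
  by_contra h
  obtain ⟨m, hm, hle⟩ := Ideal.exists_le_maximal _ h
  have h1 : 1 - r ∈ m := hle (Ideal.subset_span rfl)
  have h2 : r ∈ m := by
    unfold Ring.jacobson Module.jacobson at hr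
    exact Submodule.mem_sInf.mp hr m (Ideal.isMaximal_def.mp hm)
  exact hm.ne_top ((Ideal.eq_top_iff_one m).mpr (by simpa using m.add_mem h1 h2))

/-- In an associative unital ring R, not necessarily commutative, every element r of the Jacobson
radical (the set of elements lying in every maximal left ideal) is quasiregular, i.e. 1 - r is a
two-sided unit. -/
theorem result {R : Type u} [Ring R] (r : R)
    (hr : r ∈ Ring.jacobson R) : IsUnit (1 - r) := by
  obtain ⟨s, hs⟩ := aux r hr
  have hmem : -(s * r) ∈ Ring.jacobson R := neg_mem (Submodule.smul_mem _ s hr)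
  obtain ⟨t, ht⟩ := aux _ hmem
  have hs' : 1 - -(s * r) = s := by
    have : s - s * r = 1 := by rw [← hs, mul_sub, mul_one]
    rw [sub_neg_eq_add, ← this, sub_add_cancel]
  rw [hs'] at ht
  have htt : t = 1 - r := by
    calc t = t * (s * (1 - r)) := by rw [hs, mul_one]
      _ = 1 - r := by rw [← mul_assoc, ht, one_mul]
  exact ⟨⟨1 - r, s, htt ▸ ht, hs⟩, rfl⟩

end Groth.Agent.S16194
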