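import Groth.Statements.S16195
import Mathlib.LinearAlgebra.Prod
import Mathlib.Tactic

set_option autoImplicit false
universe u v w
open DivAlg

namespace Groth.Agent.S16195

/-- Let R be a ring (associative, unital, not necessarily commutative) and M, N left R-modules. For an
R-module P write BiEnd_R(P) for the ring of endomorphisms of P that are linear over the ring
End_R(P), which acts on P through evaluation. Then every T in BiEnd_R(M × N) preserves the two
summands and is induced by a pair (T₁, T₂) with T₁ in BiEnd_R(M) and T₂ in BiEnd_R(N). -/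
theorem result {R : Type u} [Ring R] (M : Type v) (N : Type w)
    [AddCommGroup M] [Module R M] [AddCommGroup N] [Module R N]
    (T : Module.End (Module.End R (M × N)) (M × N)) :
    ∃ (T₁ : Module.End (Module.End R M) M) (T₂ : Module.End (Module.End R N) N),
      ∀ (m : M) (n : N), T (m, n) = (T₁ m, T₂ n) := by
  have hT : ∀ (φ : Module.End R (M × N)) (x : M × N), T (φ x) = φ (T x) := fun φ x => T.map_smul φ x
  let A : M →+ M := ((AddMonoidHom.fst M N).comp T.toAddMonoidHom).comp (AddMonoidHom.inl M N)
  let B : N →+ N := ((AddMonoidHom.snd M N).comp T.toAddMonoidHom).comp (AddMonoidHom.inr M N)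
  let T₁ : Module.End (Module.End R M) M :=
    { toFun := A
      map_add' := A.map_add
      map_smul' := fun φ m => by
        have := hT (φ.prodMap 0) (m, 0)
        simp only [LinearMap.prodMap_apply, LinearMap.zero_apply] at this
        show (T (φ m, 0)).1 = φ (T (m, 0)).1
        rw [this] }
  let T₂ : Module.End (Module.End R N) N :=
    { toFun := B
      map_add' := B.map_add
      map_smul' := fun φ n => by
        have := hT ((0 : Module.End R M).prodMap φ) (0, n)
        simp only [LinearMap.prodMap_apply, LinearMap.zero_apply] at this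
        show (T (0, φ n)).2 = φ (T (0, n)).2
        rw [this] }
  refine ⟨T₁, T₂, fun m n => ?_⟩
  have h1 := hT ((LinearMap.id : M →ₗ[R] M).prodMap (0 : N →ₗ[R] N)) (m, n)
  have h2 := hT ((0 : M →ₗ[R] M).prodMap (LinearMap.id : N →ₗ[R] N)) (m, n)
  simp only [LinearMap.prodMap_apply, LinearMap.zero_apply, LinearMap.id_apply] at h1 h2
  show T (m, n) = ((T (m, 0)).1, (T (0, n)).2)
  rw [h1, h2]

end Groth.Agent.S16195
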