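import Groth.Statements.S16196
import Mathlib.LinearAlgebra.Pi
import Mathlib.Tactic

set_option autoImplicit false
universe u v
open DivAlg

namespace Groth.Agent.S16196

/-- Let R be a ring (associative, unital, not necessarily commutative) and M a left R-module which is a
generator, in the form: for some n there is an R-linear surjection from M^n onto R. Then the natural
ring homomorphism from R to the double endomorphism ring BiEnd_R(M) = End_{End_R(M)}(M)
(endomorphisms of M commuting with every R-linear endomorphism), r ↦ multiplication by r, is
bijective. (The printed form takes R an algebra over a commutative ring k, embeds R in E = End_k(M)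
and asserts R = C_E(C_E(R)); the double centralizer there is BiEnd_R(M).) -/
theorem result {R : Type u} [Ring R] (M : Type v)
    [AddCommGroup M] [Module R M]
    (hgen : ∃ (n : ℕ) (f : (Fin n → M) →ₗ[R] R), Function.Surjective f) :
    Function.Bijective (Module.toModuleEnd (Module.End R M) (S := R) M) := by
  classical
  obtain ⟨n, f, hf⟩ := hgen
  obtain ⟨x, hx⟩ := hf 1
  constructor
  · intro a b h
    have hm : ∀ m : M, a • m = b • m := fun m => LinearMap.congr_fun h m
    have : f (a • x) = f (b • x) := congrArg f (funext fun i => hm (x i))
    rwa [map_smul, map_smul, hx, smul_eq_mul, smul_eq_mul, mul_one, mul_one] at this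
  · intro T
    refine ⟨f (fun i => T (x i)), LinearMap.ext fun m => ?_⟩
    let φ : (Fin n → M) →ₗ[R] M := (LinearMap.toSpanSingleton R M m).comp f
    have key : ∀ y : Fin n → M, T (φ y) = φ (fun i => T (y i)) := by
      intro y
      rw [← Finset.univ_sum_single y, map_sum, map_sum]
      conv_rhs => rw [← Finset.univ_sum_single (fun i => T ((∑ j, Pi.single j (y j) : Fin n → M) i)), map_sum]
      refine Finset.sum_congr rfl fun i _ => ?_
      rw [Finset.univ_sum_single y]
      exact T.map_smul (φ.comp (LinearMap.single R (fun _ : Fin n => M) i)) (y i)
    have := key x
    simp only [φ, LinearMap.comp_apply, hx, LinearMap.toSpanSingleton_apply, one_smul] at this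
    exact this.symm

end Groth.Agent.S16196
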