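import Groth.Statements.S16197
import Mathlib.LinearAlgebra.Finsupp.Pi
import Mathlib.LinearAlgebra.Projection
import Mathlib.Tactic

set_option autoImplicit false
universe u v w
open DivAlg

namespace Groth.Agent.S16197

/-- Let R be a ring (associative, unital, not necessarily commutative) and M a left R-module which is a
generator, used here only through the existence of an R-linear surjection from a direct sum of
copies of M, indexed by an arbitrary type, onto R. Then some finite power M^n decomposes as R × Q
for a submodule Q of M^n. (The published statement is an equivalence; this row states only the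
implication from the existence of such a surjection to the splitting.) -/
theorem result {R : Type u} [Ring R] (M : Type v)
    [AddCommGroup M] [Module R M]
    (hgen : ∃ (ι : Type w) (f : (ι →₀ M) →ₗ[R] R), Function.Surjective f) :
    ∃ (n : ℕ) (Q : Submodule R (Fin n → M)), Nonempty ((Fin n → M) ≃ₗ[R] (R × Q)) := by
  classical
  obtain ⟨ι, f, hf⟩ := hgen
  obtain ⟨x, hx⟩ := hf 1
  let e := x.support.equivFin.symm
  let g : (Fin x.support.card → M) →ₗ[R] R :=
    ∑ i, (f.comp (Finsupp.lsingle (e i : ι))).comp (LinearMap.proj i)
  have hg : g (fun i => x (e i)) = 1 := by
    simp only [g, LinearMap.sum_apply, LinearMap.comp_apply, LinearMap.proj_apply, Finsupp.lsingle_apply]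
    rw [← map_sum, e.sum_comp (fun j : x.support => Finsupp.single (j : ι) (x j)),
      Finset.sum_coe_sort x.support (fun j => Finsupp.single j (x j))]
    exact hx ▸ congrArg f (x.sum_single)
  set y : Fin x.support.card → M := fun i => x (e i) with hy
  refine ⟨x.support.card, LinearMap.ker g, ⟨?_⟩⟩
  exact
    { toFun := fun v => (g v, ⟨v - g v • y, by rw [LinearMap.mem_ker, map_sub, map_smul, hg, smul_eq_mul, mul_one, sub_self]⟩)
      map_add' := fun a b => by ext <;> simp [add_smul, sub_add_sub_comm]
      map_smul' := fun r a => by ext <;> simp [smul_sub, mul_smul]
      invFun := fun p => p.1 • y + p.2.1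
      left_inv := fun v => add_sub_cancel _ _
      right_inv := fun ⟨r, q, hq⟩ => by
        have hq' : g q = 0 := hq
        have : g (r • y + q) = r := by rw [map_add, map_smul, hg, hq', smul_eq_mul, mul_one, add_zero]
        ext <;> simp [this] }

end Groth.Agent.S16197
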