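import Groth.Statements.S16198
import Mathlib.LinearAlgebra.TensorPower.Basic
import Mathlib.LinearAlgebra.Matrix.Determinant.Basic
import Mathlib.LinearAlgebra.Alternating.Basic
import Mathlib.RingTheory.PicardGroup

set_option autoImplicit false
universe u v
open DivAlg

namespace Groth.Agent.S16198

open scoped TensorProduct
open PiTensorProduct

theorem mk_tensorPower {R : Type u} [CommRing R] (N : Type v) [AddCommGroup N] [Module R N]
    [Module.Invertible R N] : ∀ n : ℕ, ∃ _ : Module.Invertible R (⨂[R]^n N),
      CommRing.Pic.mk R (⨂[R]^n N) = CommRing.Pic.mk R N ^ n := by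
  intro n
  induction n with
  | zero =>
    let e : (⨂[R]^0 N) ≃ₗ[R] R := isEmptyEquiv (Fin 0)
    haveI := Module.Invertible.congr e.symm
    exact ⟨inferInstance, by rw [pow_zero, CommRing.Pic.mk_eq_one_iff]; exact ⟨e⟩⟩
  | succ n ih =>
    obtain ⟨_, hn⟩ := ih
    let e1 : (⨂[R]^1 N) ≃ₗ[R] N := subsingletonEquiv (s := fun _ : Fin 1 => N) 0
    let e : (⨂[R]^n N) ⊗[R] N ≃ₗ[R] ⨂[R]^(n + 1) N :=
      (TensorProduct.congr (LinearEquiv.refl R _) e1.symm).trans TensorPower.mulEquiv
    haveI := Module.Invertible.congr e
    refine ⟨inferInstance, ?_⟩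
    rw [pow_succ, ← hn, ← CommRing.Pic.mk_tensor]
    exact CommRing.Pic.mk_eq_mk_iff.2 ⟨e.symm⟩

/-- Alternating bilinear forms on an invertible module vanish. -/
theorem eq_zero_of_alternating {R : Type u} [CommRing R] {N : Type v} [AddCommGroup N] [Module R N]
    [Module.Invertible R N] (β : N →ₗ[R] N →ₗ[R] R) (h : ∀ y, β y y = 0) (y y' : N) : β y y' = 0 := by
  classical
  obtain ⟨T, hT⟩ := TensorProduct.exists_finset ((Module.Invertible.linearEquiv R N).symm 1)
  have h1 : ∑ q ∈ T, q.1 q.2 = 1 := by
    have h1 := congrArg (Module.Invertible.linearEquiv R N) hT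
    rw [LinearEquiv.apply_symm_apply, map_sum] at h1
    exact h1.symm
  have hswap : ∀ (θ : Module.Dual R N) (a b : N), θ a • b = θ b • a := fun θ a b => by
    have := congrArg ((TensorProduct.lid R N).toLinearMap ∘ₗ θ.rTensor N)
      (Module.Invertible.tmul_comm (R := R) (m₁ := a) (m₂ := b))
    simpa using this
  have htop : Ideal.span ((fun q : Module.Dual R N × N => q.1 q.2 ^ 2) '' (↑T : Set _)) = ⊤ := by
    have := Ideal.span_pow_eq_top ((fun q : Module.Dual R N × N => q.1 q.2) '' (↑T : Set _)) ?_ 2
    · rw [Set.image_image] at this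
      exact this
    · rw [Ideal.eq_top_iff_one, ← h1]
      exact Ideal.sum_mem _ fun q hq => Ideal.subset_span ⟨q, hq, rfl⟩
  refine (Submodule.mem_bot R).1 (Submodule.mem_of_span_top_of_smul_mem _ _ htop _ ?_)
  rintro ⟨_, q, -, rfl⟩
  show q.1 q.2 ^ 2 • β y y' ∈ (⊥ : Submodule R R)
  rw [Submodule.mem_bot, sq, mul_smul]
  calc q.1 q.2 • q.1 q.2 • β y y' = β (q.1 q.2 • y) (q.1 q.2 • y') := by
        simp [mul_assoc]
    _ = β (q.1 y • q.2) (q.1 y' • q.2) := by rw [hswap q.1 q.2 y, hswap q.1 q.2 y']
    _ = 0 := by simp [h]

/-- In the case of a commutative ring R, let N be an invertible R-module such that the direct sum N^n is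
isomorphic to R^n for some natural number n. Then the class of N in Pic(R) satisfies [N]^n = 1. (The
published statement is for invertible modules on an arbitrary ringed site; this row states the case
of a commutative ring.) -/
theorem result {R : Type u} [CommRing R] (N : Type v)
    [AddCommGroup N] [Module R N] [Module.Invertible R N] (n : ℕ)
    (e : (Fin n → N) ≃ₗ[R] (Fin n → R)) :
    CommRing.Pic.mk R N ^ n = 1 := by
  classical
  obtain ⟨_, hn⟩ := mk_tensorPower (R := R) N n
  rw [← hn, CommRing.Pic.mk_eq_one_iff]
  let L : Fin n → (N →ₗ[R] Fin n → R) := fun i => e.toLinearMap ∘ₗ LinearMap.single R (fun _ => N) i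
  let μ : MultilinearMap R (fun _ : Fin n => N) R :=
    (Matrix.detRowAlternating (R := R) (n := Fin n)).toMultilinearMap.compLinearMap L
  let Λ : (⨂[R]^n N) →ₗ[R] R := PiTensorProduct.lift μ
  refine ⟨LinearEquiv.ofBijective Λ (Module.Invertible.bijective_of_surjective ?_)⟩
  have h1 : (1 : R) ∈ LinearMap.range Λ := by
    set y : Fin n → Fin n → N := fun j => e.symm (Pi.single j 1) with hy
    have hrow : ∀ j, (Pi.single j (1 : R) : Fin n → R) = ∑ i, L i (y j i) := by
      intro j
      simp only [L, LinearMap.comp_apply, LinearEquiv.coe_coe, ← map_sum, LinearMap.coe_single,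
        Finset.univ_sum_single, hy, LinearEquiv.apply_symm_apply]
    have hone : (Matrix.detRowAlternating (R := R) (n := Fin n)) (fun j => (Pi.single j (1 : R) : Fin n → R)) = 1 := by
      show Matrix.det (Matrix.of fun j => (Pi.single j (1 : R) : Fin n → R)) = 1
      rw [show (Matrix.of fun j => (Pi.single j (1 : R) : Fin n → R)) = 1 from
        Matrix.ext fun a b => by simp [Matrix.one_apply, Pi.single_apply, eq_comm], Matrix.det_one]
    rw [funext hrow] at hone
    rw [← hone]
    rw [show ((Matrix.detRowAlternating (R := R) (n := Fin n)) fun j => ∑ i, L i (y j i)) =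
      ∑ σ : Fin n → Fin n, (Matrix.detRowAlternating (R := R) (n := Fin n)) fun j => L (σ j) (y j (σ j))
      from (Matrix.detRowAlternating (R := R) (n := Fin n)).toMultilinearMap.map_sum _]
    refine Submodule.sum_mem _ fun σ _ => ?_
    by_cases hσ : Function.Injective σ
    · let s : Equiv.Perm (Fin n) := Equiv.ofBijective σ (Finite.injective_iff_bijective.1 hσ)
      let w : Fin n → N := fun i => y (s.symm i) i
      have hw : (fun j => L (σ j) (y j (σ j))) = (fun i => L i (w i)) ∘ s := by
        funext j
        show L (σ j) (y j (σ j)) = L (s j) (y (s.symm (s j)) (s j))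
        rw [Equiv.symm_apply_apply]
        rfl
      rw [hw, AlternatingMap.map_perm]
      exact Submodule.smul_of_tower_mem _ _ ⟨PiTensorProduct.tprod R w, PiTensorProduct.lift.tprod _⟩
    · rw [Function.not_injective_iff] at hσ
      obtain ⟨a, b, hab, hne⟩ := hσ
      convert Submodule.zero_mem _
      set v : Fin n → Fin n → R := fun j => L (σ j) (y j (σ j)) with hv
      let D := Matrix.detRowAlternating (R := R) (n := Fin n)
      let β : N →ₗ[R] N →ₗ[R] R := LinearMap.mk₂ R
        (fun z z' => D (Function.update (Function.update v a (L (σ a) z)) b (L (σ a) z')))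
        (fun z₁ z₂ z' => by
          simp only [map_add]
          rw [Function.update_comm hne, D.map_update_add, Function.update_comm hne.symm, Function.update_comm hne.symm _ _ v])
        (fun c z z' => by
          simp only [map_smul]
          rw [Function.update_comm hne, D.map_update_smul, Function.update_comm hne.symm])
        (fun z z₁ z₂ => by simp only [map_add]; rw [D.map_update_add])
        (fun c z z' => by simp only [map_smul]; rw [D.map_update_smul])
      have := eq_zero_of_alternating β (fun z => D.map_eq_zero_of_eq _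
        (by rw [Function.update_of_ne hne, Function.update_self, Function.update_self]) hne) (y a (σ a)) (y b (σ b))
      have hva : L (σ a) (y a (σ a)) = v a := rfl
      have hvb : L (σ a) (y b (σ b)) = v b := by rw [hab]
      simp only [β, LinearMap.mk₂_apply, hva, hvb, Function.update_eq_self] at this
      exact this
  intro r
  obtain ⟨t, ht⟩ := h1
  exact ⟨r • t, by rw [map_smul, ht, smul_eq_mul, mul_one]⟩

end Groth.Agent.S16198
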