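import Groth.Statements.S16199

set_option autoImplicit false
universe u
open DivAlg

namespace Groth.Agent.S16199

open scoped TensorProduct

/-- Base change of a matrix action to `N^n`. -/
noncomputable def act {R : Type u} [CommRing R] (N : Type u) [AddCommGroup N] [Module R N] (n : ℕ) :
    Matrix (Fin n) (Fin n) R →ₐ[R] Module.End R (Fin n → N) where
  toFun A := LinearMap.pi fun i => ∑ j, A i j • LinearMap.proj j
  map_one' := LinearMap.ext fun x => funext fun i => by
    simp [Matrix.one_apply, ite_smul]
  map_mul' A B := LinearMap.ext fun x => funext fun i => by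
    simp only [LinearMap.pi_apply, LinearMap.sum_apply, LinearMap.smul_apply, LinearMap.proj_apply,
      Module.End.mul_apply, Matrix.mul_apply, Finset.sum_smul, Finset.smul_sum, mul_smul]
    exact Finset.sum_comm
  map_zero' := LinearMap.ext fun x => funext fun i => by simp
  map_add' A B := LinearMap.ext fun x => funext fun i => by
    simp [add_smul, Finset.sum_add_distrib]
  commutes' r := LinearMap.ext fun x => funext fun i => by
    simp [Matrix.algebraMap_matrix_apply, ite_smul]

theorem act_apply {R : Type u} [CommRing R] (N : Type u) [AddCommGroup N] [Module R N] (n : ℕ)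
    (A : Matrix (Fin n) (Fin n) R) (x : Fin n → N) (i : Fin n) : act N n A x i = ∑ j, A i j • x j := by
  simp [act]

theorem act_bijective {R : Type u} [CommRing R] (N : Type u) [AddCommGroup N] [Module R N]
    [Module.Invertible R N] (n : ℕ) : Function.Bijective (act (R := R) N n) := by
  classical
  obtain ⟨hinj, hsurj⟩ := Module.Invertible.toModuleEnd_bijective R N
  constructor
  · intro A B h
    refine Matrix.ext fun i j => hinj (LinearMap.ext fun y => ?_)
    have h1 := congrArg (fun f : Module.End R (Fin n → N) => f (Pi.single j y) i) h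
    simpa [act_apply, Pi.single_apply, smul_ite] using h1
  · intro f
    choose a ha using fun i j : Fin n => hsurj
      (LinearMap.proj i ∘ₗ f ∘ₗ LinearMap.single R (fun _ => N) j)
    refine ⟨Matrix.of a, LinearMap.pi_ext fun j y => funext fun i => ?_⟩
    have h1 := congrArg (fun g : N →ₗ[R] N => g y) (ha i j)
    simp [act_apply, Pi.single_apply, smul_ite] at h1 ⊢
    exact h1

/-- Let R be a commutative ring and n ≥ 1. The natural map from GL_n(R) to the R-algebra automorphisms
of M_n(R) is surjective (every automorphism is inner) if and only if Pic_(n)(R) = 0, i.e. every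
invertible R-module N with N^n ≅ R^n is free. (For n = 0 the left side holds trivially while the
right side fails whenever Pic(R) ≠ 0, so this row assumes n ≥ 1, which the published statement
leaves implicit; invertible modules are quantified in the universe of R, which loses nothing since
every invertible module is finitely generated.) -/
theorem result {R : Type u} [CommRing R] (n : ℕ)
    (hn : 1 ≤ n) :
    (∀ φ : Matrix (Fin n) (Fin n) R ≃ₐ[R] Matrix (Fin n) (Fin n) R,
        ∃ P : GL (Fin n) R, ∀ A : Matrix (Fin n) (Fin n) R, φ A = P.1 * A * (P⁻¹).1) ↔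
      (∀ (N : Type u) [AddCommGroup N] [Module R N] [Module.Invertible R N],
        Nonempty ((Fin n → N) ≃ₗ[R] (Fin n → R)) → Module.Free R N) := by
  classical
  set j₀ : Fin n := ⟨0, hn⟩ with hj₀
  constructor
  · intro hinner N _ _ _ hN
    obtain ⟨e⟩ := hN
    let Ψ : Matrix (Fin n) (Fin n) R ≃ₐ[R] Matrix (Fin n) (Fin n) R :=
      ((AlgEquiv.ofBijective (act N n) (act_bijective N n)).trans (LinearEquiv.conjAlgEquiv R e)).trans
        Matrix.toLinAlgEquiv'.symm
    obtain ⟨P, hP⟩ := hinner Ψ
    let e' : (Fin n → N) ≃ₗ[R] (Fin n → R) :=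
      e.trans (LinearEquiv.ofLinear (Matrix.toLinAlgEquiv' (P⁻¹).1) (Matrix.toLinAlgEquiv' P.1)
        (by rw [← Module.End.mul_eq_comp, ← map_mul, Units.inv_mul, map_one]; rfl)
        (by rw [← Module.End.mul_eq_comp, ← map_mul, Units.mul_inv, map_one]; rfl) :
        (Fin n → R) ≃ₗ[R] (Fin n → R))
    have hcomm : ∀ A x, e' (act N n A x) = A.mulVec (e' x) := by
      intro A x
      have h1 := congrArg (fun g : Module.End R (Fin n → R) => g (e x)) (congrArg Matrix.toLinAlgEquiv' (hP A))
      simp [Ψ, LinearEquiv.conjAlgEquiv_apply, Matrix.toLinAlgEquiv'_apply] at h1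
      simp [e', Matrix.toLinAlgEquiv'_apply, h1, Matrix.mulVec_mulVec, ← mul_assoc]
    have hE : ∀ y, e' (Pi.single j₀ y) = Pi.single j₀ (e' (Pi.single j₀ y) j₀) := by
      intro y
      have h1 := hcomm (Matrix.single j₀ j₀ 1) (Pi.single j₀ y)
      have h2 : act N n (Matrix.single j₀ j₀ (1 : R)) (Pi.single j₀ y) = Pi.single j₀ y := by
        funext i
        rw [act_apply]
        by_cases hi : i = j₀
        · subst hi
          rw [Finset.sum_eq_single j₀ (fun b _ hb => by simp [hb]) (by simp)]
          simp
        · rw [Pi.single_eq_of_ne hi]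
          exact Finset.sum_eq_zero fun b _ => by simp [Ne.symm hi]
      rw [h2] at h1
      conv_lhs => rw [h1]
      funext i
      by_cases hi : i = j₀
      · subst hi
        simp [Matrix.mulVec, dotProduct, Matrix.single_apply]
      · rw [Pi.single_eq_of_ne hi]
        simp [Matrix.mulVec, dotProduct, Matrix.single_apply, Ne.symm hi]
    have hinj : Function.Injective fun y : N => e' (Pi.single j₀ y) j₀ := fun a b hab =>
      Pi.single_injective j₀ (e'.injective (by rw [hE a, hE b]; exact congrArg _ hab))
    refine Module.Free.of_equiv (LinearEquiv.ofBijective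
      (LinearMap.proj j₀ ∘ₗ e'.toLinearMap ∘ₗ LinearMap.single R (fun _ => N) j₀) ⟨hinj, fun r => ?_⟩).symm
    refine ⟨(act N n (Matrix.single j₀ j₀ (1 : R)) (e'.symm (Pi.single j₀ r))) j₀, ?_⟩
    have h2 : Pi.single j₀ ((act N n (Matrix.single j₀ j₀ (1 : R)) (e'.symm (Pi.single j₀ r))) j₀) =
        act N n (Matrix.single j₀ j₀ (1 : R)) (e'.symm (Pi.single j₀ r)) := by
      funext i
      by_cases hi : i = j₀
      · subst hi; simp
      · rw [Pi.single_eq_of_ne hi, act_apply]
        exact (Finset.sum_eq_zero fun b _ => by simp [Ne.symm hi]).symm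
    show e' (Pi.single j₀ _) j₀ = r
    rw [h2, hcomm, LinearEquiv.apply_symm_apply]
    simp [Matrix.mulVec, dotProduct, Matrix.single_apply]
  · intro hfree φ
    let Φ : Matrix (Fin n) (Fin n) R →ₐ[R] Module.End R (Fin n → R) :=
      Matrix.toLinAlgEquiv'.toAlgHom.comp φ.toAlgHom
    have hmul : ∀ A B x, Φ A (Φ B x) = Φ (A * B) x := fun A B x => by rw [map_mul]; rfl
    have hsum : ∀ x, ∑ i, Φ (Matrix.single i i 1) x = x := fun x => by
      rw [← LinearMap.sum_apply, ← map_sum, Matrix.sum_single_one, map_one]
      rfl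
    let N : Submodule R (Fin n → R) := LinearMap.range (Φ (Matrix.single j₀ j₀ 1))
    have hfix : ∀ x ∈ N, Φ (Matrix.single j₀ j₀ 1) x = x := by
      rintro _ ⟨z, rfl⟩
      rw [hmul, Matrix.single_mul_single_same, one_mul]
    let f : (Fin n → N) →ₗ[R] (Fin n → R) :=
      ∑ i, Φ (Matrix.single i j₀ 1) ∘ₗ N.subtype ∘ₗ LinearMap.proj i
    have hmemN : ∀ x (i : Fin n), Φ (Matrix.single j₀ i 1) x ∈ N := fun x i =>
      ⟨Φ (Matrix.single j₀ i 1) x, by rw [hmul, Matrix.single_mul_single_same, one_mul]⟩
    have hf : ∀ y, f y = ∑ i, Φ (Matrix.single i j₀ 1) (y i : Fin n → R) := fun y => by simp [f]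
    let e : (Fin n → N) ≃ₗ[R] (Fin n → R) := LinearEquiv.ofBijective f ⟨fun y z hyz => by
        funext i
        refine Subtype.ext ?_
        have hkey : ∀ y : Fin n → N, Φ (Matrix.single j₀ i 1) (f y) = (y i : Fin n → R) := fun y => by
          rw [hf, map_sum, Finset.sum_eq_single i]
          · rw [hmul, Matrix.single_mul_single_same, one_mul, hfix _ (y i).2]
          · intro b _ hb
            rw [hmul, Matrix.single_mul_single_of_ne _ _ _ _ hb.symm, map_zero]
            rfl
          · simp
        rw [← hkey y, ← hkey z, hyz],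
      fun x => ⟨fun i => ⟨_, hmemN x i⟩, by
        rw [hf]
        conv_rhs => rw [← hsum x]
        exact Finset.sum_congr rfl fun i _ => by
          rw [hmul, Matrix.single_mul_single_same, one_mul]⟩⟩
    -- endomorphisms of `N` are scalars
    have hscalar : ∀ h : N →ₗ[R] N, ∃ r : R, ∀ x, h x = r • x := by
      intro h
      let g : Module.End R (Fin n → R) :=
        N.subtype ∘ₗ h ∘ₗ (Φ (Matrix.single j₀ j₀ 1)).rangeRestrict
      let A := φ.symm (Matrix.toLinAlgEquiv'.symm g)
      have hA : Φ A = g := by
        simp [Φ, A]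
      refine ⟨A j₀ j₀, fun x => Subtype.ext ?_⟩
      obtain ⟨x, hx⟩ := x
      have hxe : Φ (Matrix.single j₀ j₀ 1) x = x := hfix x hx
      have hg : g x = (h ⟨x, hx⟩ : Fin n → R) := by
        show ((h ((Φ (Matrix.single j₀ j₀ 1)).rangeRestrict x)) : Fin n → R) = _
        rw [show (Φ (Matrix.single j₀ j₀ 1)).rangeRestrict x = ⟨x, hx⟩ from Subtype.ext hxe]
      show (h ⟨x, hx⟩ : Fin n → R) = A j₀ j₀ • x
      rw [← hg, ← hfix (g x) (hg ▸ (h ⟨x, hx⟩).2)]
      conv_lhs => rw [← hA, ← hxe]
      rw [hmul, hmul, Matrix.single_mul_mul_single, one_mul, mul_one,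
        ← mul_one (A j₀ j₀), ← smul_eq_mul, ← Matrix.smul_single, map_smul, LinearMap.smul_apply, hxe,
        smul_eq_mul, mul_one]
    obtain ⟨ι', _, θ, y, hy⟩ : ∃ (ι' : Type) (_ : Fintype ι') (θ : ι' → Module.Dual R N) (y : ι' → N),
        ∑ q, θ q (y q) = 1 := by
      refine ⟨Fin n, inferInstance,
        fun q => LinearMap.proj j₀ ∘ₗ e.toLinearMap ∘ₗ LinearMap.single R (fun _ => N) q,
        e.symm (Pi.single j₀ 1), ?_⟩
      simp only [LinearMap.comp_apply, LinearEquiv.coe_coe, ← map_sum, LinearMap.coe_single,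
        Finset.univ_sum_single, LinearEquiv.apply_symm_apply]
      simp
    haveI : Module.Invertible R N := ⟨by
      constructor
      · rw [injective_iff_map_eq_zero]
        intro t ht
        obtain ⟨T, rfl⟩ := TensorProduct.exists_finset t
        rw [map_sum] at ht
        simp only [contractLeft_apply] at ht
        choose r hr using fun p : (Module.Dual R N × N) => fun q : ι' => hscalar ((θ q).smulRight p.2)
        have hqq : ∀ p q, θ q (y q) • p.2 = r p q • y q := fun p q => by simpa using hr p q (y q)
        calc ∑ p ∈ T, p.1 ⊗ₜ[R] p.2 = ∑ p ∈ T, p.1 ⊗ₜ[R] ((∑ q, θ q (y q)) • p.2) := by simp [hy]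
          _ = ∑ q, (∑ p ∈ T, r p q • p.1) ⊗ₜ[R] y q := by
            simp only [Finset.sum_smul, TensorProduct.tmul_sum, hqq, TensorProduct.tmul_smul,
              TensorProduct.sum_tmul, TensorProduct.smul_tmul']
            exact Finset.sum_comm
          _ = 0 := by
            refine Finset.sum_eq_zero fun q _ => ?_
            have h0 : ∑ p ∈ T, r p q • p.1 = 0 := LinearMap.ext fun z => by
              simp only [LinearMap.sum_apply, LinearMap.smul_apply, LinearMap.zero_apply, ← map_smul]
              simp only [fun p => show r p q • z = θ q z • p.2 from (by simpa using (hr p q z).symm),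
                map_smul, ← Finset.smul_sum, ht, smul_zero]
            rw [h0, TensorProduct.zero_tmul]
      · intro c
        refine ⟨c • ∑ q, θ q ⊗ₜ y q, ?_⟩
        rw [map_smul, map_sum]
        simp [hy]⟩
    obtain ⟨u⟩ := (Module.Invertible.free_iff_linearEquiv (R := R) (M := N)).1 (hfree N ⟨e⟩)
    let E : (Fin n → R) ≃ₗ[R] (Fin n → R) := (LinearEquiv.piCongrRight fun _ => u.symm).trans e
    refine ⟨(LinearMap.GeneralLinearGroup.ofLinearEquiv E).map Matrix.toLinAlgEquiv'.symm.toRingEquiv.toMonoidHom, fun A => ?_⟩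
    apply Matrix.toLinAlgEquiv'.injective
    rw [map_mul, map_mul]
    show Φ A = Matrix.toLinAlgEquiv' (Matrix.toLinAlgEquiv'.symm (E : Module.End R (Fin n → R))) *
      Matrix.toLinAlgEquiv' A * Matrix.toLinAlgEquiv' (Matrix.toLinAlgEquiv'.symm (E.symm : Module.End R (Fin n → R)))
    rw [AlgEquiv.apply_symm_apply, AlgEquiv.apply_symm_apply]
    refine LinearMap.ext fun x => ?_
    obtain ⟨z, rfl⟩ := E.surjective x
    simp only [Module.End.mul_apply, LinearEquiv.coe_coe, LinearEquiv.symm_apply_apply, Matrix.toLinAlgEquiv'_apply]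
    have hEz : ∀ z, E z = ∑ i, z i • Φ (Matrix.single i j₀ 1) (u.symm 1 : N) := fun z => by
      show f (fun i => u.symm (z i)) = _
      rw [hf]
      refine Finset.sum_congr rfl fun i _ => ?_
      rw [← map_smul]
      congr 1
      rw [← Submodule.coe_smul, ← map_smul, smul_eq_mul, mul_one]
    rw [hEz, hEz, map_sum]
    simp only [map_smul, hmul]
    have hAE : ∀ i, A * Matrix.single i j₀ (1 : R) = ∑ k, A k i • Matrix.single k j₀ (1 : R) := fun i => by
      ext a b
      by_cases hb : b = j₀
      · subst hb; simp [Matrix.mul_apply, Matrix.single_apply, Matrix.sum_apply]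
      · simp [Matrix.mul_apply, Matrix.single_apply, Matrix.sum_apply, Ne.symm hb]
    simp only [hAE, map_sum, map_smul, LinearMap.sum_apply, LinearMap.smul_apply, Finset.smul_sum,
      Matrix.mulVec, dotProduct, Finset.sum_smul, smul_smul]
    rw [Finset.sum_comm]
    exact Finset.sum_congr rfl fun k _ => Finset.sum_congr rfl fun i _ => by rw [mul_comm]

end Groth.Agent.S16199
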