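import Groth.Statements.S16200
import Mathlib.RingTheory.PicardGroup
import Mathlib.RingTheory.DedekindDomain.Ideal.Lemmas
import Mathlib.RingTheory.DedekindDomain.Factorization

set_option autoImplicit false
universe u v
open DivAlg

namespace Groth.Agent.S16200

universe w

open scoped TensorProduct

theorem exists_injective_dual {R : Type u} [CommRing R] [IsDomain R] (M : Type v) [AddCommGroup M]
    [Module R M] [Module.Invertible R M] : ∃ ψ : M →ₗ[R] R, Function.Injective ψ := by
  obtain ⟨I, ⟨e⟩⟩ := Module.Invertible.exists_linearEquiv_ideal R M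
  exact ⟨I.subtype ∘ₗ e.toLinearMap, Subtype.val_injective.comp e.injective⟩

/-- Steinitz: `M × N ≅ R × (M ⊗ N)`. -/
theorem steinitz {R : Type u} [CommRing R] [IsDedekindDomain R] (M : Type v) (N : Type w)
    [AddCommGroup M] [Module R M] [Module.Invertible R M] [AddCommGroup N] [Module R N]
    [Module.Invertible R N] : Nonempty ((M × N) ≃ₗ[R] R × (M ⊗[R] N)) := by
  classical
  obtain ⟨θ, hθ⟩ := exists_injective_dual (R := R) N
  obtain ⟨ψ₀, hψ₀⟩ := exists_injective_dual (R := R) M
  have hNnt : ∃ y : N, θ y ≠ 0 := by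
    by_contra hc
    push Not at hc
    have hsub : Subsingleton N := ⟨fun a b => hθ (by rw [hc a, hc b])⟩
    haveI : FaithfulSMul R N := inferInstance
    exact one_ne_zero (α := R) (FaithfulSMul.eq_of_smul_eq_smul fun y : N => Subsingleton.elim _ _)
  obtain ⟨ψ, hψ, hco⟩ : ∃ ψ : M →ₗ[R] R, Function.Injective ψ ∧
      LinearMap.range ψ ⊔ LinearMap.range θ = ⊤ := by
    by_cases hJ : LinearMap.range θ = ⊤
    · exact ⟨ψ₀, hψ₀, by rw [hJ, sup_top_eq]⟩
    set I : Ideal R := LinearMap.range ψ₀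
    set J : Ideal R := LinearMap.range θ
    have hI0 : I ≠ ⊥ := fun h0 => by
      have hsub : Subsingleton M := ⟨fun a b => hψ₀ (by
        have ha : ψ₀ a ∈ I := LinearMap.mem_range_self ψ₀ a
        have hb : ψ₀ b ∈ I := LinearMap.mem_range_self ψ₀ b
        rw [h0, Ideal.mem_bot] at ha hb
        rw [ha, hb])⟩
      exact one_ne_zero (α := R) (FaithfulSMul.eq_of_smul_eq_smul fun y : M => Subsingleton.elim _ _)
    obtain ⟨a, haI, ha0⟩ := Submodule.exists_mem_ne_zero_of_ne_bot hI0
    obtain ⟨I', hI'⟩ := Ideal.dvd_iff_le.2 ((Ideal.span_singleton_le_iff_mem I).2 haI)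
    have hI'0 : I' ≠ ⊥ := fun h0 => ha0 (by
      rw [h0, Ideal.mul_bot, Ideal.span_singleton_eq_bot] at hI'; exact hI')
    have hJ0 : J ≠ ⊥ := fun h0 => by
      obtain ⟨y, hy⟩ := hNnt
      have hy' : θ y ∈ J := LinearMap.mem_range_self θ y
      rw [h0, Ideal.mem_bot] at hy'
      exact hy hy'
    obtain ⟨c, hc⟩ := IsDedekindDomain.exists_sup_span_eq (I := I' * J) (J := I')
      Ideal.mul_le_left (mul_ne_zero hI'0 hJ0)
    have hcI' : c ∈ I' := hc ▸ Ideal.mem_sup_right (Ideal.mem_span_singleton_self c)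
    have hc0 : c ≠ 0 := fun h0 => hJ (by
      rw [h0, Ideal.span_singleton_eq_bot.2 rfl, sup_bot_eq] at hc
      exact mul_left_cancel₀ (show I' ≠ 0 from hI'0) (hc.trans (Ideal.mul_top I').symm))
    have hdiv : ∀ x : M, ∃ r : R, a * r = c * ψ₀ x := fun x => by
      have hm : ψ₀ x * c ∈ Ideal.span {a} := hI' ▸ Ideal.mul_mem_mul (LinearMap.mem_range_self ψ₀ x) hcI'
      obtain ⟨r, hr⟩ := Ideal.mem_span_singleton'.1 hm
      exact ⟨r, by rw [mul_comm a, hr, mul_comm]⟩
    choose q hq using hdiv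
    let ψ : M →ₗ[R] R :=
      { toFun := q
        map_add' := fun x y => mul_left_cancel₀ ha0 (by rw [mul_add, hq, hq, hq, map_add, mul_add])
        map_smul' := fun r x => mul_left_cancel₀ ha0 (by
          rw [RingHom.id_apply, hq, map_smul, smul_eq_mul, smul_eq_mul, mul_left_comm a, hq, mul_left_comm]) }
    refine ⟨ψ, fun x y h => hψ₀ (mul_left_cancel₀ hc0 (by rw [← hq, ← hq]; exact congrArg (a * ·) h)), ?_⟩
    refine mul_left_cancel₀ (show Ideal.span {a} ≠ (0 : Ideal R) from
      fun h0 => ha0 (Ideal.span_singleton_eq_bot.1 h0)) ?_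
    rw [Ideal.mul_sup, Ideal.mul_top]
    refine le_antisymm (sup_le Ideal.mul_le_left Ideal.mul_le_left) ?_
    have heq : Ideal.span {a} = Ideal.span {a} * J ⊔ Ideal.span {c} * I := by
      conv_lhs => rw [hI', ← hc]
      rw [Ideal.mul_sup, ← mul_assoc, ← hI', mul_comm I (Ideal.span {c})]
    conv_lhs => rw [heq]
    refine sup_le le_sup_right (le_trans ?_ le_sup_left)
    rw [Ideal.span_singleton_mul_le_iff]
    rintro z ⟨x, rfl⟩
    rw [← hq x]
    exact Ideal.mul_mem_mul (Ideal.mem_span_singleton_self a) (LinearMap.mem_range_self ψ x)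
  obtain ⟨x₀, y₀, hxy⟩ : ∃ x₀ y₀, ψ x₀ + θ y₀ = 1 := by
    have : (1 : R) ∈ LinearMap.range ψ ⊔ LinearMap.range θ := hco ▸ Submodule.mem_top
    obtain ⟨_, ⟨x₀, rfl⟩, _, ⟨y₀, rfl⟩, h⟩ := Submodule.mem_sup.1 this
    exact ⟨x₀, y₀, h⟩
  -- `R × (M ⊗ N) → M × N`
  let u : M ⊗[R] N →ₗ[R] M × N :=
    LinearMap.prod ((TensorProduct.rid R M).toLinearMap ∘ₗ θ.lTensor M)
      (-((TensorProduct.lid R N).toLinearMap ∘ₗ ψ.rTensor N))
  let F : R × (M ⊗[R] N) →ₗ[R] M × N :=
    LinearMap.coprod (LinearMap.toSpanSingleton R (M × N) (x₀, y₀)) u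
  let σ : M × N →ₗ[R] R := LinearMap.coprod ψ θ
  have hu : ∀ t, σ (u t) = 0 := by
    intro t
    induction t using TensorProduct.induction_on with
    | zero => simp
    | tmul x y => simp [σ, u, mul_comm]
    | add s t hs ht => rw [map_add, map_add, hs, ht, add_zero]
  have huinj : Function.Injective u := by
    intro s t h
    have h2 := congrArg Prod.fst h
    exact Module.Flat.lTensor_preserves_injective_linearMap θ hθ
      ((TensorProduct.rid R M).injective h2)
  refine ⟨(LinearEquiv.ofBijective F ⟨?_, ?_⟩).symm⟩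
  · rw [injective_iff_map_eq_zero]
    rintro ⟨r, t⟩ h
    have hr : r = 0 := by
      have h' := congrArg σ h
      simpa [F, σ, hu, map_add, hxy, ← mul_add] using h'
    subst hr
    simp only [F, LinearMap.coprod_apply, map_zero, zero_add] at h
    simp [huinj (h.trans (map_zero u).symm)]
  · intro z
    set r := σ z
    set x := z.1 - r • x₀
    set y := z.2 - r • y₀
    have h0 : ψ x + θ y = 0 := by
      have hrdef : r = ψ z.1 + θ z.2 := rfl
      simp only [x, y, map_sub, map_smul, smul_eq_mul]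
      linear_combination -r * hxy - hrdef
    refine ⟨(r, x ⊗ₜ y₀ - x₀ ⊗ₜ y), ?_⟩
    have hsw : ∀ (a b : M), ψ a • b = ψ b • a := fun a b => hψ (by simp [mul_comm])
    have hsw' : ∀ (a b : N), θ a • b = θ b • a := fun a b => hθ (by simp [mul_comm])
    have hy : θ y = -ψ x := by linear_combination h0
    have hx : ψ x = -θ y := by linear_combination h0
    refine Prod.ext ?_ ?_
    · have hz : θ y₀ • x - θ y • x₀ = x := by
        rw [hy, neg_smul, hsw, sub_neg_eq_add, ← add_smul, add_comm, hxy, one_smul]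
      simp [F, u, hz]
      simp [x]
    · have hz : ψ x₀ • y - ψ x • y₀ = y := by
        rw [hx, neg_smul, hsw', sub_neg_eq_add, ← add_smul, hxy, one_smul]
      simp [F, u, hz]
      simp [y]

theorem exists_split {R : Type u} [CommRing R] [IsDedekindDomain R] (N : Type v) [AddCommGroup N]
    [Module R N] [Module.Invertible R N] : ∀ n : ℕ,
    Nonempty ((Fin (n + 1) → N) ≃ₗ[R] (Fin n → R) × (CommRing.Pic.mk R N ^ (n + 1) : CommRing.Pic R)) := by
  intro n
  induction n with
  | zero =>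
    rw [zero_add, pow_one]
    exact ⟨(LinearEquiv.funUnique (Fin 1) R N).trans
      ((CommRing.Pic.mk.linearEquiv R N).symm.trans LinearEquiv.uniqueProd.symm)⟩
  | succ n ih =>
    obtain ⟨e⟩ := ih
    obtain ⟨s⟩ := steinitz (R := R) N (CommRing.Pic.mk R N ^ (n + 1) : CommRing.Pic R)
    have e2 : Nonempty (N ⊗[R] (CommRing.Pic.mk R N ^ (n + 1) : CommRing.Pic R) ≃ₗ[R]
        (CommRing.Pic.mk R N ^ (n + 2) : CommRing.Pic R)) :=
      CommRing.Pic.mk_eq_iff.1 (by
        rw [CommRing.Pic.mk_tensor, CommRing.Pic.mk_eq_self, ← pow_succ'])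
    obtain ⟨e2⟩ := e2
    let X : Type u := Fin n → R
    let f1 : (N × X × (CommRing.Pic.mk R N ^ (n + 1) : CommRing.Pic R)) ≃ₗ[R]
        X × N × (CommRing.Pic.mk R N ^ (n + 1) : CommRing.Pic R) :=
      (LinearEquiv.prodAssoc R N X _).symm.trans
        (((LinearEquiv.prodComm R N X).prodCongr (LinearEquiv.refl R _)).trans (LinearEquiv.prodAssoc R X N _))
    let f2 : (X × N × (CommRing.Pic.mk R N ^ (n + 1) : CommRing.Pic R)) ≃ₗ[R]
        X × R × (CommRing.Pic.mk R N ^ (n + 2) : CommRing.Pic R) :=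
      (LinearEquiv.refl R X).prodCongr (s.trans ((LinearEquiv.refl R R).prodCongr e2))
    let g : (X × R) ≃ₗ[R] (Fin (n + 1) → R) :=
      (LinearEquiv.prodComm R X R).trans (Fin.consLinearEquiv R (fun _ : Fin (n + 1) => R))
    let f3 : (X × R × (CommRing.Pic.mk R N ^ (n + 2) : CommRing.Pic R)) ≃ₗ[R]
        (Fin (n + 1) → R) × (CommRing.Pic.mk R N ^ (n + 2) : CommRing.Pic R) :=
      (LinearEquiv.prodAssoc R X R _).symm.trans (g.prodCongr (LinearEquiv.refl R _))
    exact ⟨(Fin.consLinearEquiv R (fun _ : Fin (n + 2) => N)).symm.trans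
      (((LinearEquiv.refl R N).prodCongr e).trans (f1.trans (f2.trans f3)))⟩

/-- Let R be a Dedekind domain, N an invertible R-module and n a natural number with [N]^n = 1 in
Pic(R). Then the direct sum N^n is isomorphic to R^n; thus over a Dedekind domain the invertible
modules N with N^n ≅ R^n are exactly the n-torsion classes of Pic(R), the other inclusion holding
over any commutative ring. -/
theorem result {R : Type u} [CommRing R]
    [IsDedekindDomain R] (N : Type v) [AddCommGroup N] [Module R N] [Module.Invertible R N]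
    (n : ℕ) (h : CommRing.Pic.mk R N ^ n = 1) :
    Nonempty ((Fin n → N) ≃ₗ[R] (Fin n → R)) := by
  cases n with
  | zero => exact ⟨LinearEquiv.ofBijective 0 ⟨fun x y _ => Subsingleton.elim _ _, fun x => ⟨0, Subsingleton.elim _ _⟩⟩⟩
  | succ n =>
    obtain ⟨e⟩ := exists_split (R := R) N n
    rw [h] at e
    obtain ⟨e1⟩ := (CommRing.Pic.mk_eq_one_iff (M := (1 : CommRing.Pic R))).1 CommRing.Pic.mk_eq_self
    exact ⟨e.trans (((LinearEquiv.refl R _).prodCongr e1).trans
      ((LinearEquiv.prodComm R _ _).trans (Fin.consLinearEquiv R (fun _ : Fin (n + 1) => R))))⟩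

end Groth.Agent.S16200
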