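import Groth.Statements.S16201
import Mathlib
-- import your own Groth.Agent.* helpers here

set_option autoImplicit false
open CategoryTheory AlgebraicGeometry
open Variety

namespace Groth.Agent.S16201

/-- Let f : Y → Z be a morphism of schemes of finite type over ℂ, with Z irreducible. Suppose that the
general fibre of f is irreducible, in the sense that there is a nonempty open subset V of Z such
that the fibre of f over every closed point of V is an irreducible topological space, and that each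
irreducible component of Y has dense image in Z. Then Y is irreducible. (The published statement is
for a morphism of projective varieties; only finiteness of type over the field is used, and the row
is stated in that generality.) -/
theorem result
    (Y Z : Scheme.{0}) (g : Z ⟶ Spec (CommRingCat.of ℂ)) (f : Y ⟶ Z)
    [LocallyOfFiniteType g] [QuasiCompact g] [LocallyOfFiniteType f] [QuasiCompact f]
    [IrreducibleSpace Z]
    (hgen : ∃ V : Z.Opens, (V : Set Z).Nonempty ∧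
      ∀ z ∈ V, IsClosed ({z} : Set Z) → IsIrreducible (f.base ⁻¹' {z}))
    (hdom : ∀ W ∈ irreducibleComponents Y, Dense (f.base '' W)) :
    IrreducibleSpace Y := by
  haveI hJk : JacobsonSpace (Spec (CommRingCat.of ℂ)) := inferInstance
  haveI hJZ : JacobsonSpace Z := LocallyOfFiniteType.jacobsonSpace g
  haveI hJY : JacobsonSpace Y := LocallyOfFiniteType.jacobsonSpace (f ≫ g)
  obtain ⟨V, hV, hVirr⟩ := hgen
  have hη : genericPoint Z ∈ V :=
    (genericPoint_spec Z).mem_open_set_iff V.2 |>.mpr (by rw [Set.univ_inter]; exact hV)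
  have hne : Nonempty Y := by
    obtain ⟨z, hz, hzc⟩ := nonempty_inter_closedPoints hV V.2.isLocallyClosed
    obtain ⟨y, -⟩ := (hVirr z hz hzc).1
    exact ⟨y⟩
  have key : ∀ U : Y.Opens, (U : Set Y).Nonempty → ∃ u ∈ U, f u = genericPoint Z := by
    rintro U ⟨u, hu⟩
    have hW : irreducibleComponent u ∈ irreducibleComponents Y := irreducibleComponent_mem_irreducibleComponents u
    obtain ⟨w, hw⟩ := QuasiSober.sober (isIrreducible_irreducibleComponent (x := u)) isClosed_irreducibleComponent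
    refine ⟨w, (hw.mem_open_set_iff U.2).mpr ⟨u, mem_irreducibleComponent, hu⟩, ?_⟩
    refine IsGenericPoint.eq ?_ (genericPoint_spec Z)
    show closure {f w} = Set.univ
    refine Set.eq_univ_of_univ_subset ?_
    rw [← (hdom _ hW).closure_eq]
    refine closure_minimal ?_ isClosed_closure
    rintro _ ⟨y, hy, rfl⟩
    have h1 : w ⤳ y := hw.specializes hy
    exact specializes_iff_mem_closure.mp (h1.map f.continuous)
  refine @IrreducibleSpace.mk Y _ ⟨fun U₁ U₂ hU₁ hU₂ h₁ h₂ => ?_⟩ hne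
  by_contra hno
  obtain ⟨u₁, hu₁, hf₁⟩ := key (⟨U₁, hU₁⟩ ⊓ ⊤) (by simpa using h₁)
  obtain ⟨u₂, hu₂, hf₂⟩ := key (⟨U₂, hU₂⟩ ⊓ ⊤) (by simpa using h₂)
  let O₁ : Y.Opens := ⟨U₁, hU₁⟩ ⊓ f ⁻¹ᵁ V
  let O₂ : Y.Opens := ⟨U₂, hU₂⟩
  let P := Limits.pullback (O₁.ι ≫ f) (O₂.ι ≫ f)
  have h₁' : u₁ ∈ Set.range O₁.ι := by
    rw [Scheme.Opens.range_ι]
    exact ⟨hu₁.1, show f u₁ ∈ V by rw [hf₁]; exact hη⟩
  have h₂' : u₂ ∈ Set.range O₂.ι := by
    rw [Scheme.Opens.range_ι]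
    exact hu₂.1
  obtain ⟨a₁, ha₁⟩ := h₁'
  obtain ⟨a₂, ha₂⟩ := h₂'
  obtain ⟨p, -, -⟩ := Scheme.Pullback.exists_preimage_pullback (f := O₁.ι ≫ f) (g := O₂.ι ≫ f) a₁ a₂ (by
    rw [Scheme.Hom.comp_apply, Scheme.Hom.comp_apply, ha₁, ha₂, hf₁, hf₂])
  haveI hlt : LocallyOfFiniteType (Limits.pullback.fst (O₁.ι ≫ f) (O₂.ι ≫ f) ≫ (O₁.ι ≫ f) ≫ g) := inferInstance
  haveI : JacobsonSpace ↑P :=
    LocallyOfFiniteType.jacobsonSpace (Limits.pullback.fst (O₁.ι ≫ f) (O₂.ι ≫ f) ≫ (O₁.ι ≫ f) ≫ g)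
  obtain ⟨q, -, hq⟩ := nonempty_inter_closedPoints (X := ↑P) (Z := Set.univ) ⟨p, trivial⟩
    isClosed_univ.isLocallyClosed
  let π := Limits.pullback.fst (O₁.ι ≫ f) (O₂.ι ≫ f) ≫ O₁.ι ≫ f
  have hz : IsClosed ({π q} : Set Z) := π.closePoints_subset_preimage_closedPoints hq
  have hzV : π q ∈ V := by
    have h : O₁.ι (Limits.pullback.fst (O₁.ι ≫ f) (O₂.ι ≫ f) q) ∈ O₁ := O₁.range_ι.le ⟨_, rfl⟩
    exact h.2
  obtain ⟨-, hpre⟩ := hVirr _ hzV hz
  have hy₁ : (f ⁻¹' {π q} ∩ U₁).Nonempty :=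
    ⟨O₁.ι (Limits.pullback.fst (O₁.ι ≫ f) (O₂.ι ≫ f) q), rfl, (O₁.range_ι.le ⟨_, rfl⟩ : _ ∈ (O₁ : Set Y)).1⟩
  have hy₂ : (f ⁻¹' {π q} ∩ U₂).Nonempty := by
    refine ⟨O₂.ι (Limits.pullback.snd (O₁.ι ≫ f) (O₂.ι ≫ f) q), ?_, (O₂.range_ι.le ⟨_, rfl⟩ : _ ∈ (O₂ : Set Y))⟩
    exact congrArg (fun m : P ⟶ Z => m q) Limits.pullback.condition.symm
  obtain ⟨y, -, hy⟩ := hpre U₁ U₂ hU₁ hU₂ hy₁ hy₂
  exact hno ⟨y, trivial, hy⟩

end Groth.Agent.S16201
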