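import Groth.Statements.S16203
-- import your own Groth.Agent.* helpers here
import Groth.Agent.H22Alg.DimOneDiv
import Groth.Agent.H22Alg.VarDim
import Groth.Agent.H17.DualSh.Equidim
import Groth.Agent.H27Weil.Dimension
import Mathlib

set_option autoImplicit false
open CategoryTheory CategoryTheory.Limits AlgebraicGeometry
open Variety

namespace Groth.Agent.S16203

open TopologicalSpace
open Groth.Agent.H8Props.FieldDim (cdim)

/-- In a Noetherian domain, if all nonzero primes below `Q` contain `t ≠ 0`, then nothing lies strictly between. -/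
theorem no_between_domain {A : Type*} [CommRing A] [IsDomain A] [IsNoetherianRing A] (Q : Ideal A) [Q.IsPrime]
    (t : A) (ht : t ≠ 0) (h : ∀ P : Ideal A, P.IsPrime → P ≠ ⊥ → P ≤ Q → t ∈ P)
    (R : Ideal A) [R.IsPrime] (hR : R ≠ ⊥) (hRQ : R ≤ Q) : R = Q := by
  have hpos : ∀ P : Ideal A, P.IsPrime → P ≠ ⊥ → 1 ≤ P.height := fun P hP hne => by
    have : (⊥ : Ideal A) < P := bot_lt_iff_ne_bot.2 hne
    exact Order.one_le_iff_pos.2 (lt_of_le_of_lt bot_le (Ideal.height_strict_mono_of_isPrime this))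
  have hQ : Q.height ≤ 1 := by
    have hfin := Ideal.finite_minimalPrimes_of_isNoetherianRing A (Ideal.span ({t} : Set A))
    have hsub : (Q : Set A) ⊆ ⋃ i ∈ (Ideal.span ({t} : Set A)).minimalPrimes, ((id i : Ideal A) : Set A) := by
      intro x hx
      by_cases hx0 : x = 0
      · obtain ⟨P, hP, -⟩ := Ideal.exists_minimalPrimes_le (I := Ideal.span ({t} : Set A)) (J := Q)
          ((Ideal.span_singleton_le_iff_mem _).2 (h Q inferInstance (fun e => hR (le_bot_iff.1 (e ▸ hRQ))) le_rfl))
        exact Set.mem_iUnion₂.2 ⟨P, hP, hx0 ▸ (zero_mem P)⟩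
      obtain ⟨P, hP, hPQ⟩ := Ideal.exists_minimalPrimes_le (I := Ideal.span ({x} : Set A)) (J := Q)
        ((Ideal.span_singleton_le_iff_mem _).2 hx)
      haveI := hP.1.1
      have hxP : x ∈ P := hP.1.2 (Ideal.mem_span_singleton_self x)
      have hne : P ≠ ⊥ := fun e => hx0 (by simpa [e] using hxP)
      have h1 : P.height ≤ 1 := Ideal.height_le_one_of_isPrincipal_of_mem_minimalPrimes _ P hP
      refine Set.mem_iUnion₂.2 ⟨P, ⟨⟨inferInstance, (Ideal.span_singleton_le_iff_mem _).2 (h P inferInstance hne hPQ)⟩,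
        fun P' hP' hle => ?_⟩, hxP⟩
      rcases eq_or_lt_of_le hle with e | e
      · exact e.ge
      · haveI := hP'.1
        have hne' : P' ≠ ⊥ := fun e' => ht (by simpa [e'] using hP'.2 (Ideal.mem_span_singleton_self t))
        exact absurd h1 (not_le.2 ((hpos P' hP'.1 hne').trans_lt (Ideal.height_strict_mono_of_isPrime e)))
    obtain ⟨P, hP, hQP⟩ := (Ideal.subset_union_prime_finite hfin (f := id) ⊥ ⊥ fun i hi _ _ => hi.1.1).1 hsub
    haveI := hP.1.1
    exact (Ideal.height_mono hQP).trans (Ideal.height_le_one_of_isPrincipal_of_mem_minimalPrimes _ P hP)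
  rcases eq_or_lt_of_le hRQ with e | e
  · exact e
  · exact absurd hQ (not_le.2 ((hpos R inferInstance hR).trans_lt (Ideal.height_strict_mono_of_isPrime e)))

/-- In a Noetherian ring, if all primes strictly between `P` and `Q` inclusive of `Q` contain some `t ∉ P`. -/
theorem no_between {A : Type*} [CommRing A] [IsNoetherianRing A] (P Q R : Ideal A) [P.IsPrime] [Q.IsPrime] [R.IsPrime]
    (t : A) (ht : t ∉ P) (h : ∀ P' : Ideal A, P'.IsPrime → P < P' → P' ≤ Q → t ∈ P')
    (hPR : P < R) (hRQ : R ≤ Q) : R = Q := by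
  have hPQ : P ≤ Q := hPR.le.trans hRQ
  haveI := Ideal.isPrime_map_quotientMk_of_isPrime hPQ
  haveI := Ideal.isPrime_map_quotientMk_of_isPrime hPR.le
  have key : ∀ J : Ideal A, P ≤ J → (J.map (Ideal.Quotient.mk P)).comap (Ideal.Quotient.mk P) = J := fun J hJ => by
    rw [Ideal.comap_map_of_surjective _ Ideal.Quotient.mk_surjective, ← RingHom.ker_eq_comap_bot, Ideal.mk_ker,
      sup_eq_left]
    exact hJ
  have e := no_between_domain (Q.map (Ideal.Quotient.mk P)) (Ideal.Quotient.mk P t)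
    (fun e => ht (Ideal.Quotient.eq_zero_iff_mem.1 e)) (fun P' hP' hne hle => by
      refine h (P'.comap (Ideal.Quotient.mk P)) inferInstance (lt_of_le_of_ne ?_ fun e => hne ?_) ?_
      · intro x hx
        rw [Ideal.mem_comap, Ideal.Quotient.eq_zero_iff_mem.2 hx]; exact zero_mem _
      · rw [← Ideal.map_comap_of_surjective _ Ideal.Quotient.mk_surjective P', ← e, Ideal.map_quotient_self]
      · exact (Ideal.comap_mono hle).trans (key Q hPQ).le)
    (R.map (Ideal.Quotient.mk P)) (fun e => hPR.ne ((key R hPR.le).symm.trans (by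
      rw [e, ← RingHom.ker_eq_comap_bot, Ideal.mk_ker])).symm) (Ideal.map_mono hRQ)
  rw [← key R hPR.le, e, key Q hPQ]

/-- If all intermediate points lie on a closed set missing the generic one, there is none. -/
theorem immediate {Y : Scheme.{0}} [IsLocallyNoetherian Y] {D : Set Y} (hD : IsClosed D) {y q : Y} (hyD : y ∉ D)
    (hyq : y ⤳ q) (h : ∀ z, y ⤳ z → z ⤳ q → z ≠ y → z ∈ D)
    (z : Y) (h1 : y ⤳ z) (h2 : z ⤳ q) : z = y ∨ z = q := by
  by_cases hzy : z = y
  · exact Or.inl hzy
  refine Or.inr ?_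
  obtain ⟨W, hW, hqW, -⟩ := exists_isAffineOpen_mem_and_subset (x := q) (U := ⊤) trivial
  haveI : IsNoetherianRing Γ(Y, W) := IsLocallyNoetherian.component_noetherian ⟨W, hW⟩
  obtain ⟨Q, rfl⟩ : q ∈ Set.range hW.fromSpec := by rw [hW.range_fromSpec]; exact hqW
  obtain ⟨P, rfl⟩ : y ∈ Set.range hW.fromSpec := by rw [hW.range_fromSpec]; exact hyq.mem_open W.2 hqW
  obtain ⟨R, rfl⟩ : z ∈ Set.range hW.fromSpec := by rw [hW.range_fromSpec]; exact h2.mem_open W.2 hqW
  have hle : ∀ a b : PrimeSpectrum Γ(Y, W), hW.fromSpec a ⤳ hW.fromSpec b ↔ a.asIdeal ≤ b.asIdeal := fun a b =>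
    hW.fromSpec.isOpenEmbedding.isInducing.specializes_iff.trans (PrimeSpectrum.le_iff_specializes a b).symm
  obtain ⟨s, hs⟩ := (PrimeSpectrum.isClosed_iff_zeroLocus _).1 (hD.preimage hW.fromSpec.continuous)
  obtain ⟨t, hts, ht⟩ := Set.not_subset.1 fun hsub => hyD (show P ∈ (hW.fromSpec ⁻¹' D) from hs ▸ hsub)
  haveI := P.2
  haveI := Q.2
  haveI := R.2
  have e := no_between P.asIdeal Q.asIdeal R.asIdeal t ht (fun P' hP' hlt hleQ => by
    have hm : (⟨P', hP'⟩ : PrimeSpectrum Γ(Y, W)) ∈ (hW.fromSpec ⁻¹' D) := by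
      refine h _ ((hle P ⟨P', hP'⟩).2 hlt.le) ((hle ⟨P', hP'⟩ Q).2 hleQ) fun e => hlt.ne ?_
      exact (congrArg PrimeSpectrum.asIdeal (hW.fromSpec.isOpenEmbedding.injective e)).symm
    rw [hs] at hm
    exact hm hts)
    (lt_of_le_of_ne ((hle P R).1 h1) fun e => hzy (congrArg hW.fromSpec (PrimeSpectrum.ext e.symm)))
    ((hle R Q).1 h2)
  exact congrArg hW.fromSpec (PrimeSpectrum.ext e)

end Groth.Agent.S16203

namespace Groth.Agent.S16203

/-- Let f : Y → Z be a flat dominant morphism of integral projective schemes over ℂ, let B be an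
irreducible closed curve in Z (an irreducible closed subset of dimension 1), p a closed point of B
and q a closed point of Y lying over p. Then there is an irreducible closed curve B' in Y passing
through q which is a finite cover of B: an irreducible closed subset B' of Y containing q whose
image is B and which meets every fibre of f in a finite set. -/
theorem result
    (Y Z : Scheme.{0}) (g : Z ⟶ Spec (CommRingCat.of ℂ)) (f : Y ⟶ Z) [IsIntegral Y] [IsIntegral Z]
    (hZ : (∃ (m : ℕ) (ι : Z ⟶ CohB1.ProjSpace m ℂ), IsClosedImmersion ι ∧ ι ≫ CohB1.ProjSpace.toSpec m ℂ = g))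
    (hY : (∃ (n : ℕ) (ι' : Y ⟶ CohB1.ProjSpace n ℂ), IsClosedImmersion ι' ∧ ι' ≫ CohB1.ProjSpace.toSpec n ℂ = f ≫ g))
    [Flat f] (hdomi : DenseRange f.base)
    (B : Set Z) (hBc : IsClosed B) (hBi : IsIrreducible B) (hBd : topologicalKrullDim ↥B = 1)
    (p : Z) (hp : p ∈ B) (hpc : IsClosed ({p} : Set Z))
    (q : Y) (hqc : IsClosed ({q} : Set Y)) (hq : f.base q = p) :
    ∃ B' : Set Y, IsClosed B' ∧ IsIrreducible B' ∧ q ∈ B' ∧ f.base '' B' = B ∧
      ∀ z : Z, (B' ∩ f.base ⁻¹' {z}).Finite := by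
  classical
  obtain ⟨m, ι, hι, hιg⟩ := hZ
  obtain ⟨n, ι', hι', hιf⟩ := hY
  haveI : IsProper (CohB1.ProjSpace.toSpec m ℂ) := H27Weil.isProper_toSpec m ℂ
  haveI : IsProper (CohB1.ProjSpace.toSpec n ℂ) := H27Weil.isProper_toSpec n ℂ
  haveI : IsProper g := hιg ▸ inferInstance
  haveI hfg : IsProper (f ≫ g) := hιf ▸ inferInstance
  haveI : IsProper f := IsProper.of_comp f g
  haveI : IsNoetherian (Spec (CommRingCat.of ℂ)) := inferInstance
  haveI : IsLocallyNoetherian Y := LocallyOfFiniteType.isLocallyNoetherian (f ≫ g)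
  haveI : CompactSpace Y := QuasiCompact.compactSpace_of_compactSpace (f ≫ g)
  haveI : IsNoetherian Y := {}
  let η := hBi.genericPoint
  have hη : closure ({η} : Set Z) = B := hBi.closure_genericPoint hBc
  have hηB : η ∈ B := hη ▸ subset_closure rfl
  have hηp : η ⤳ p := specializes_iff_mem_closure.2 (hη.symm ▸ hp)
  have hBpts : ∀ z ∈ B, z ≠ η → IsClosed ({z} : Set Z) := fun z hz hne =>
    H22Alg.DimOneDiv.isClosed_singleton_of_lt (specializes_iff_mem_closure.2 (hη.symm ▸ hz)) hne (by rw [hη, hBd]; rfl)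
  have hηnc : ¬ IsClosed ({η} : Set Z) := fun hc => by
    have h0 := H17.DualSh.cdim_closed hc
    rw [H8Props.FieldDim.cdim, hη, hBd] at h0
    exact one_ne_zero h0
  have hηnep : η ≠ p := fun e => hηnc (e ▸ hpc)
  obtain ⟨y₀, hy₀q, hy₀⟩ := Flat.generalizingMap f (show η ⤳ f q by exact hq ▸ hηp)
  let S : Set (TopologicalSpace.Closeds Y) := {C | ∃ y : Y, f y = η ∧ y ⤳ q ∧ (C : Set Y) = closure {y}}
  obtain ⟨C, ⟨y, hfy, hyq, hC⟩, hmin⟩ :=
    wellFounded_lt.has_min S ⟨⟨closure {y₀}, isClosed_closure⟩, y₀, hy₀, hy₀q, rfl⟩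
  have hyne : y ≠ q := fun e => hηnep (by rw [← hfy, e]; exact hq)
  have hD : IsClosed (f ⁻¹' ({p} : Set Z)) := hpc.preimage f.continuous
  have himm := immediate hD (fun h => hηnep (hfy.symm.trans h)) hyq fun z h1 h2 hne => by
    show f z = p
    have h2' : f z ⤳ p := by
      have := h2.map f.continuous
      rwa [show f q = p from hq] at this
    have h1' : η ⤳ f z := hfy ▸ h1.map f.continuous
    by_contra hzp
    have hzη : f z = η := by
      by_contra hne'
      exact hzp ((hBpts (f z) (hη ▸ specializes_iff_mem_closure.1 h1') hne').closure_subset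
        (specializes_iff_mem_closure.1 h2')).symm
    refine hmin ⟨closure {z}, isClosed_closure⟩ ⟨z, hzη, h2, rfl⟩ (lt_of_le_of_ne ?_ fun e => hne ?_)
    · show closure ({z} : Set Y) ⊆ C
      rw [hC]; exact specializes_iff_closure_subset.1 h1
    · have hzc : closure ({z} : Set Y) = C := congrArg (fun D : TopologicalSpace.Closeds Y => (D : Set Y)) e
      exact ((specializes_iff_closure_subset.2 (by rw [hzc, hC])).antisymm h1).eq
  have hd1 : H8Props.FieldDim.cdim y = 1 := by
    rw [H22Alg.VarDim.cdim_of_immediate ℂ Y (f ≫ g) hyq hyne himm, H17.DualSh.cdim_closed hqc, zero_add]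
  let B' : Set Y := closure {y}
  have hcl : ∀ w ∈ B', w ≠ y → IsClosed ({w} : Set Y) := fun w hw hne =>
    H22Alg.DimOneDiv.isClosed_singleton_of_lt (specializes_iff_mem_closure.2 hw) hne (le_of_eq hd1)
  have hcmap : ∀ w : Y, IsClosed ({w} : Set Y) → IsClosed ({f w} : Set Z) := fun w hw => by
    have := f.isClosedMap _ hw
    rwa [Set.image_singleton] at this
  refine ⟨B', isClosed_closure, isIrreducible_singleton.closure, specializes_iff_mem_closure.1 hyq, ?_, fun z => ?_⟩
  · refine Set.Subset.antisymm ?_ ?_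
    · rintro _ ⟨w, hw, rfl⟩
      rw [← hη, ← hfy]
      exact specializes_iff_mem_closure.1 ((specializes_iff_mem_closure.2 hw).map f.continuous)
    · rw [← hη]
      exact closure_minimal (Set.singleton_subset_iff.2 ⟨y, subset_closure rfl, hfy⟩) (f.isClosedMap _ isClosed_closure)
  · by_cases hyz : f y = z
    · refine (Set.finite_singleton y).subset fun w hw => ?_
      by_contra hne
      refine hηnc ?_
      rw [← hfy, hyz, ← (show f w = z from hw.2)]
      exact hcmap w (hcl w hw.1 hne)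
    by_cases hzc : IsClosed ({z} : Set Z)
    · have hclosed : IsClosed (B' ∩ f.base ⁻¹' {z}) := isClosed_closure.inter (hzc.preimage f.continuous)
      obtain ⟨T, hTf, hTc, hTi, hT⟩ := TopologicalSpace.NoetherianSpace.exists_finite_set_isClosed_irreducible hclosed
      rw [hT, Set.sUnion_eq_biUnion]
      refine hTf.biUnion fun t ht => ?_
      have hg := IsIrreducible.isGenericPoint_genericPoint (hTi t ht) (hTc t ht)
      obtain ⟨hgB, hgz⟩ := hT.ge (Set.mem_sUnion_of_mem hg.mem ht)
      rw [← hg.def, (hcl _ hgB fun e => hyz (by rw [← e]; exact hgz)).closure_eq]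
      exact Set.finite_singleton _
    · refine Set.Finite.subset Set.finite_empty fun w hw => hzc ?_
      rw [← (show f w = z from hw.2)]
      refine hcmap w (hcl w hw.1 fun e => hyz ?_)
      rw [← e]; exact hw.2

end Groth.Agent.S16203
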