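import Groth.Statements.S16206
import Mathlib

set_option autoImplicit false
open RatCurv

namespace Groth.Agent.S16206

open W4c3cyccovratcurv

noncomputable section Helpers

variable {n k : ℕ}

/-- Slide all other edges at `w` to its neighbour `u`. -/
def slide (G : SimpleGraph (Fin n)) (u w : Fin n) : SimpleGraph (Fin n) :=
  SimpleGraph.fromRel fun a b => (a = u ∧ b = w) ∨ (a ≠ w ∧ b ≠ w ∧ (G.Adj a b ∨ (a = u ∧ G.Adj w b)))

theorem slide_adj {G : SimpleGraph (Fin n)} {u w a b : Fin n} :
    (slide G u w).Adj a b ↔ a ≠ b ∧ (((a = u ∧ b = w) ∨ (a ≠ w ∧ b ≠ w ∧ (G.Adj a b ∨ (a = u ∧ G.Adj w b)))) ∨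
      ((b = u ∧ a = w) ∨ (b ≠ w ∧ a ≠ w ∧ (G.Adj b a ∨ (b = u ∧ G.Adj w a))))) :=
  SimpleGraph.fromRel_adj _ _ _

theorem slide_connected {G : SimpleGraph (Fin n)} (hG : G.Connected) {u w : Fin n} (h : G.Adj u w) :
    (slide G u w).Connected := by
  haveI := hG.nonempty
  have huw : (slide G u w).Adj u w := slide_adj.2 ⟨h.ne, Or.inl (Or.inl ⟨rfl, rfl⟩)⟩
  have step : ∀ a b, G.Adj a b → (slide G u w).Reachable a b := by
    have side : ∀ b, G.Adj w b → (slide G u w).Reachable w b := fun b hb => by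
      by_cases hbu : b = u
      · subst hbu; exact huw.symm.reachable
      · exact huw.symm.reachable.trans
          (slide_adj.2 ⟨Ne.symm hbu, Or.inl (Or.inr ⟨h.ne, hb.ne', Or.inr ⟨rfl, hb⟩⟩)⟩ :
            (slide G u w).Adj u b).reachable
    intro a b hab
    by_cases haw : a = w
    · subst haw; exact side b hab
    by_cases hbw : b = w
    · subst hbw; exact (side a hab.symm).symm
    exact (slide_adj.2 ⟨hab.ne, Or.inl (Or.inr ⟨haw, hbw, Or.inl hab⟩)⟩ : (slide G u w).Adj a b).reachable
  have walks : ∀ {a b : Fin n}, G.Walk a b → (slide G u w).Reachable a b := by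
    intro a b p
    clear huw
    induction p with
    | nil => exact SimpleGraph.Reachable.refl _
    | cons h' _ ih => exact (step _ _ h').trans ih
  refine SimpleGraph.connected_iff_exists_forall_reachable _ |>.2 ⟨u, fun v => ?_⟩
  obtain ⟨p⟩ := hG u v
  exact walks p

theorem slide_isTree {G : SimpleGraph (Fin n)} (hG : G.IsTree) {u w : Fin n} (h : G.Adj u w) :
    (slide G u w).IsTree := by
  classical
  have hc := slide_connected hG.connected h
  rw [SimpleGraph.isTree_iff_connected_and_card]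
  refine ⟨hc, le_antisymm ?_ hc.card_vert_le_card_edgeSet_add_one⟩
  rw [← (SimpleGraph.isTree_iff_connected_and_card.1 hG).2, add_le_add_iff_right]
  let σ : Fin n → Fin n := fun v => if v = w then u else v
  let f : Sym2 (Fin n) → Sym2 (Fin n) := fun e => if e = s(u, w) then e else e.map σ
  have hsub : (slide G u w).edgeSet ⊆ f '' G.edgeSet := by
    intro e
    induction e using Sym2.ind with
    | _ a b =>
      intro hab
      rw [SimpleGraph.mem_edgeSet, slide_adj] at hab
      obtain ⟨hne, hab⟩ := hab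
      have key : ∀ a b : Fin n, ((a = u ∧ b = w) ∨ (a ≠ w ∧ b ≠ w ∧ (G.Adj a b ∨ (a = u ∧ G.Adj w b)))) →
          a ≠ b → s(a, b) ∈ f '' G.edgeSet := by
        intro a b hcase hne
        rcases hcase with ⟨ha, hb⟩ | ⟨ha, hb, hGab | ⟨hau, hwb⟩⟩
        · exact ⟨s(u, w), h, by simp [f, ha, hb]⟩
        · refine ⟨s(a, b), hGab, ?_⟩
          simp only [f]
          rw [if_neg (by simp [Sym2.eq_iff, ha, hb])]
          simp [σ, ha, hb]
        · refine ⟨s(w, b), hwb, ?_⟩
          simp only [f]
          rw [if_neg (by subst hau; simp [Sym2.eq_iff, Ne.symm hne, h.ne'])]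
          simp [σ, hb, hau]
      rcases hab with hab | hab
      · exact key a b hab hne
      · rw [Sym2.eq_swap]
        exact key b a hab hne.symm
  rw [Nat.card_coe_set_eq, Nat.card_coe_set_eq]
  exact (Set.ncard_le_ncard hsub).trans (Set.ncard_image_le)

theorem contract_slide (G : SimpleGraph (Fin n)) {u w : Fin n} (h : G.Adj u w) :
    contract (slide G u w) u w = contract G u w := by
  ext a b
  simp only [contract, SimpleGraph.fromRel_adj, slide_adj]
  have ha := a.2
  have hb := b.2
  have := h.ne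
  have := @SimpleGraph.Adj.symm _ G
  have e : a ≠ b ↔ a.1 ≠ b.1 := Subtype.coe_ne_coe.symm
  grind

/-- Slide the other edges and the marks at `w` to `u`. -/
def slideTree (T : MarkedTree k) {u w : Fin T.n} (h : T.graph.Adj u w) : MarkedTree k :=
  ⟨T.n, slide T.graph u w, slide_isTree T.isTree h, fun i => if T.mark i = w then u else T.mark i⟩

theorem conicAdj_slide (T : MarkedTree k) {u w : Fin T.n} (h : T.graph.Adj u w) : ConicAdj T (slideTree T h) := by
  refine ⟨u, w, u, w, h, slide_adj.2 ⟨h.ne, Or.inl (Or.inl ⟨rfl, rfl⟩)⟩,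
    ⟨Equiv.refl _, fun {a b} => ?_⟩, rfl, fun i => ?_⟩
  · exact iff_of_eq (congrFun (congrFun (congrArg SimpleGraph.Adj (contract_slide T.graph h)) a) b)
  · show contractMark T.mark u w h.ne i = contractMark (fun i => if T.mark i = w then u else T.mark i) u w h.ne i
    unfold contractMark
    by_cases hm : T.mark i = w
    · simp [hm, h.ne]
    · simp [hm]

theorem conicAdj_symm {T₁ T₂ : MarkedTree k} (h : ConicAdj T₁ T₂) : ConicAdj T₂ T₁ := by
  obtain ⟨u₁, w₁, u₂, w₂, h₁, h₂, φ, hφ, hm⟩ := h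
  refine ⟨u₂, w₂, u₁, w₁, h₂, h₁, φ.symm, ?_, fun i => ?_⟩
  · rw [← hφ]; exact φ.symm_apply_apply _
  · rw [← hm i]; exact φ.symm_apply_apply _

theorem exists_star (G : SimpleGraph (Fin n)) (hG : G.IsTree) (m : Fin k → Fin n) (c : Fin n) :
    ∃ (H : SimpleGraph (Fin n)) (hH : H.IsTree) (m' : Fin k → Fin n), (∀ v, v ≠ c → H.Adj c v) ∧
      Relation.ReflTransGen ConicAdj (⟨n, G, hG, m⟩ : MarkedTree k) ⟨n, H, hH, m'⟩ := by
  classical
  induction' hN : (Finset.univ.filter fun v => v ≠ c ∧ ¬ G.Adj c v).card using Nat.strong_induction_on with N ih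
    generalizing G m
  by_cases hall : ∀ v, v ≠ c → G.Adj c v
  · exact ⟨G, hG, m, hall, Relation.ReflTransGen.refl⟩
  push Not at hall
  obtain ⟨v, hvc, hv⟩ := hall
  have walkLemma : ∀ {a b : Fin n}, G.Walk a b → (a = c ∨ G.Adj c a) → ¬ (b = c ∨ G.Adj c b) →
      ∃ x y, G.Adj c x ∧ G.Adj x y ∧ y ≠ c ∧ ¬ G.Adj c y := by
    intro a b p
    induction p with
    | nil => exact fun ha hb => absurd ha hb
    | @cons a d b hd p ihp =>
      intro ha hb
      by_cases hd' : d = c ∨ G.Adj c d
      · exact ihp hd' hb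
      push Not at hd'
      rcases ha with rfl | ha
      · exact absurd hd hd'.2
      · exact ⟨a, d, ha, hd, hd'.1, hd'.2⟩
  obtain ⟨p⟩ := hG.connected c v
  obtain ⟨x, y, hcx, hxy, hyc, hcy⟩ := walkLemma p (Or.inl rfl) (by push Not; exact ⟨hvc, hv⟩)
  have hlt : (Finset.univ.filter fun v => v ≠ c ∧ ¬ (slide G c x).Adj c v).card < N := by
    rw [← hN]
    refine Finset.card_lt_card ((Finset.ssubset_iff_of_subset ?_).2 ⟨y, by simp [hyc, hcy], ?_⟩)
    · intro z hz
      simp only [Finset.mem_filter, Finset.mem_univ, true_and] at hz ⊢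
      refine ⟨hz.1, fun hcz => hz.2 (slide_adj.2 ⟨hz.1.symm, Or.inl ?_⟩)⟩
      by_cases hzx : z = x
      · exact Or.inl ⟨rfl, hzx⟩
      · exact Or.inr ⟨hcx.ne, hzx, Or.inl hcz⟩
    · simp only [Finset.mem_filter, Finset.mem_univ, true_and, not_and, not_not]
      exact fun _ => slide_adj.2 ⟨Ne.symm hyc, Or.inl (Or.inr ⟨hcx.ne, hxy.ne', Or.inr ⟨rfl, hxy⟩⟩)⟩
  obtain ⟨H, hH, m', hH', hr⟩ := ih _ hlt (slide G c x) (slide_isTree hG hcx) (fun i => if m i = x then c else m i) rfl
  exact ⟨H, hH, m', hH', Relation.ReflTransGen.head (conicAdj_slide ⟨n, G, hG, m⟩ hcx) hr⟩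

theorem eq_star {H : SimpleGraph (Fin n)} (hH : H.IsTree) {c : Fin n} (hc : ∀ v, v ≠ c → H.Adj c v) (a b : Fin n) :
    H.Adj a b ↔ a ≠ b ∧ (a = c ∨ b = c) := by
  refine ⟨fun hab => ⟨hab.ne, ?_⟩, ?_⟩
  · by_contra hne
    push Not at hne
    have h1 := (hc a hne.1).symm
    have h2 := hc b hne.2
    have e := hH.2.path_unique ⟨hab.toWalk, by simp [SimpleGraph.Adj.toWalk, hab.ne]⟩
      ⟨SimpleGraph.Walk.cons h1 h2.toWalk, by simp [SimpleGraph.Adj.toWalk, hne.1, hab.ne, h2.ne]⟩
    have := congrArg (fun q : H.Path a b => q.1.length) e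
    simp [SimpleGraph.Adj.toWalk] at this
  · rintro ⟨hne, rfl | rfl⟩
    · exact hc b hne.symm
    · exact (hc a hne).symm

theorem exists_marks (H : SimpleGraph (Fin n)) (hH : H.IsTree) {c : Fin n} (hc : ∀ v, v ≠ c → H.Adj c v)
    (m : Fin k → Fin n) :
    Relation.ReflTransGen ConicAdj (⟨n, H, hH, m⟩ : MarkedTree k) ⟨n, H, hH, fun _ => c⟩ := by
  classical
  induction' hN : (Finset.univ.filter fun i => m i ≠ c).card using Nat.strong_induction_on with N ih generalizing m
  by_cases hall : ∀ i, m i = c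
  · obtain rfl : m = fun _ => c := funext hall
    exact Relation.ReflTransGen.refl
  push Not at hall
  obtain ⟨i, hi⟩ := hall
  have hstar : slide H c (m i) = H := by
    ext a b
    rw [slide_adj, eq_star hH hc]
    simp only [eq_star hH hc]
    grind
  have hlt : (Finset.univ.filter fun j => (if m j = m i then c else m j) ≠ c).card < N := by
    rw [← hN]
    refine Finset.card_lt_card ((Finset.ssubset_iff_of_subset ?_).2 ⟨i, by simp [hi], by simp⟩)
    intro j hj
    simp only [Finset.mem_filter, Finset.mem_univ, true_and] at hj ⊢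
    grind
  refine Relation.ReflTransGen.head ?_ (ih _ hlt (fun j => if m j = m i then c else m j) rfl)
  have := conicAdj_slide (⟨n, H, hH, m⟩ : MarkedTree k) (hc (m i) hi)
  convert this using 1
  unfold slideTree
  simp only [hstar]

end Helpers

/-- Let G₁ and G₂ be dual graphs of linear trees of the same total degree e and with k marked points
each, that is finite trees with e vertices, every vertex of degree one, together with a list of k
marked vertices (repetitions allowed). Then a finite chain of conic deformations leads from G₁ to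
G₂. Here a conic deformation of such a graph is the marked graph obtained by contracting one edge
(the contracted vertex being the unique vertex of degree two), two marked trees are one step apart
when they have isomorphic conic deformations, the isomorphism matching the contracted vertices and
the i-th marked vertices, and the conclusion is that G₁ and G₂ are related by the
reflexive-transitive closure of this one-step relation. -/
theorem result (k : ℕ) (T₁ T₂ : W4c3cyccovratcurv.MarkedTree k)
    (h : T₁.n = T₂.n) :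
    Relation.ReflTransGen W4c3cyccovratcurv.ConicAdj T₁ T₂ := by
  obtain ⟨n₁, G₁, hG₁, m₁⟩ := T₁
  obtain ⟨n₂, G₂, hG₂, m₂⟩ := T₂
  dsimp only at h
  subst h
  obtain ⟨c⟩ := hG₁.connected.nonempty
  obtain ⟨H₁, hH₁, m₁', hc₁, r₁⟩ := exists_star G₁ hG₁ m₁ c
  obtain ⟨H₂, hH₂, m₂', hc₂, r₂⟩ := exists_star G₂ hG₂ m₂ c
  obtain rfl : H₁ = H₂ := by
    ext a b
    rw [eq_star hH₁ hc₁, eq_star hH₂ hc₂]
  have s₁ := r₁.trans (exists_marks H₁ hH₁ hc₁ m₁')
  have s₂ := r₂.trans (exists_marks H₁ hH₂ hc₂ m₂')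
  haveI : Std.Symm (ConicAdj (k := k)) := ⟨fun _ _ h => conicAdj_symm h⟩
  exact s₁.trans (Std.Symm.symm _ _ s₂)

end Groth.Agent.S16206
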