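import Groth.Statements.S16210
import Groth.Agent.H17.GorCurve.Pointed
import Groth.Agent.S16295

set_option autoImplicit false
universe u
open CategoryTheory CategoryTheory.Limits AlgebraicGeometry
attribute [local instance] HasDerivedCategory.standard
open Curves

namespace Groth.Agent.S16210

/-- Let k be an algebraically closed field and X a proper reduced connected scheme of dimension 1 over k
with at-worst-nodal singularities and H^1(X, O_X) = 0, and let p_1, …, p_n (n ≥ 3) be distinct
closed points at which X is smooth over k. Let ω_X be the dualizing module of X (degree −1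
cohomology sheaf of f^! O for the structure morphism f, for any choice of the data Rf_* on D_QCoh
with its right adjoint), N an inverse for the tensor product of the ideal sheaf of the reduced
closed subscheme {p_1, …, p_n}, and M any module isomorphic to ω_X ⊗ N (the dualizing module twisted
by the marked points). Then the n-pointed curve is semistable, i.e. every irreducible component E of
X has at least 2 special points (points of E on other components plus marked points on E), if and
only if M is globally generated. -/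
theorem result (k : Type u) [Field k] [IsAlgClosed k] (X : Scheme.{u}) [X.Over (Spec (CommRingCat.of k))]
    [IsProper (X ↘ (Spec (CommRingCat.of k)))] [IsReduced X] [ConnectedSpace X]
    (hdim : topologicalKrullDim X = 1) (hX : Curv2.AtWorstNodal k X)
    (hg : Subsingleton (Coh.HH X (Coh.structureModule X) 1))
    (n : ℕ) (p : Fin n → X) (hpinj : Function.Injective p) (hpcl : ∀ i, IsClosed ({p i} : Set X))
    (hpsm : ∀ i, ∃ U : X.Opens, p i ∈ U ∧ Smooth (U.ι ≫ (X ↘ (Spec (CommRingCat.of k))))) (hn : 3 ≤ n)
    (N : X.Modules) (hN : ClSub.IsInverseOf N (ClSub.idealMod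
      (Scheme.IdealSheafData.vanishingIdeal ⟨⋃ i, ({p i} : Set X), isClosed_iUnion_of_finite hpcl⟩)))
    [DCoh.HasRpush (X ↘ (Spec (CommRingCat.of k)))] (h : DCoh.RpushPreservesQCoh (X ↘ (Spec (CommRingCat.of k)))) [DCoh.HasShriek (X ↘ (Spec (CommRingCat.of k))) h]
    (OY : DCoh.DQCoh (Spec (CommRingCat.of k)))
    (hOY : Nonempty (OY.obj ≅ DCoh.inD (Spec (CommRingCat.of k)) (Coh.structureModule (Spec (CommRingCat.of k)))))
    (M : X.Modules) (hM : Nonempty (M ≅ CohB1.tensorMod (DCoh.dualizingMod (X ↘ (Spec (CommRingCat.of k))) h OY 1) N)) :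
    (∀ (E : Set X), E ∈ irreducibleComponents (X : Type u) → 2 ≤ (E ∩ closure Eᶜ).ncard + (p ⁻¹' E).ncard) ↔
      Curv2.IsGloballyGenerated M := by
  obtain ⟨hXr, hω⟩ := H17.GorCurve.isDualizing_of_nodal hdim hX h OY hOY
  haveI := H28Int.isNoetherian k (X := X)
  obtain ⟨e⟩ := hM
  let S : TopologicalSpace.Closeds X := ⟨⋃ i, ({p i} : Set X), isClosed_iUnion_of_finite hpcl⟩
  have hS : (S : Set X) = Set.range p := Set.iUnion_singleton_eq_range p
  have hfin : (S : Set X).Finite := hS ▸ Set.finite_range p
  have hsm : ∀ z ∈ S, ∃ U : X.Opens, z ∈ U ∧ Smooth (U.ι ≫ (X ↘ (Spec (CommRingCat.of k)))) := fun z hz => by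
    obtain ⟨i, rfl⟩ := hS.subset hz
    exact hpsm i
  obtain ⟨hMi, hMd, hJ⟩ := H17.GorCurve.twist_numerics (S := S) hdim hω hfin hsm hN e
  have hn : (S : Set X).ncard = n := by
    rw [hS, ← Set.image_univ, Set.ncard_image_of_injective _ hpinj, Set.ncard_univ, Nat.card_fin]
  have hg0 : Curv2.genus k X = 0 := Module.finrank_zero_of_subsingleton
  have key : ∀ E (hE : E ∈ irreducibleComponents (X : Type u)),
      H17.GorCurve.degJ k (H29CurveDual.Subcurve.idl ⟨E, isClosed_of_mem_irreducibleComponents E hE⟩) M =
        -2 + (E ∩ closure Eᶜ).ncard + (p ⁻¹' E).ncard := fun E hE => by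
    obtain ⟨h1, h2, h3⟩ := H17.GorCurve.component_subcurve (k := k) hdim hE
    obtain ⟨γ, δ, d, hγ, hδ, hd, hdeg, -⟩ := hJ _ h1 h2 h3
    rw [H17.GorCurve.genus_subcurve_eq_zero hdim hg0] at hγ
    have hW : H29CurveDual.Subcurve.IsPure (⟨E, isClosed_of_mem_irreducibleComponents E hE⟩ : TopologicalSpace.Closeds X) := by
      have := H17.GorCurve.isPure_support (k := k) hdim.le _ h3
      rwa [show ((H29CurveDual.Subcurve.idl (⟨E, isClosed_of_mem_irreducibleComponents E hE⟩ : TopologicalSpace.Closeds X)).support : TopologicalSpace.Closeds X) = ⟨E, isClosed_of_mem_irreducibleComponents E hE⟩ from TopologicalSpace.Closeds.ext (H17.GorCurve.coe_support_idl _)] at this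
    rw [H17.GorCurve.deltaJ_idl, H17.GorCurve.delta_eq_ncard hX hdim.le (H29CurveDual.Subcurve.isPure_top hdim) hW] at hδ
    have hpE : d = (p ⁻¹' E).ncard := by
      rw [hd, H17.GorCurve.coe_support_idl, hS, ← Set.ncard_image_of_injective _ hpinj,
        Set.image_preimage_eq_inter_range, Set.inter_comm]
      rfl
    have hδ' : (δ : ℤ) = (E ∩ closure Eᶜ).ncard := hδ
    omega
  constructor
  · intro hE
    have hP := H17.GorCurve.degJ_nonneg_of_components (k := k) hdim hMi fun E hE' => by
      have := hE E hE'
      rw [key E hE']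
      omega
    refine (Groth.Agent.S16295.result k X hdim hg M hMi fun J hJi hJd => ?_).2
    exact hP J hJd
  · intro hgg E hE
    obtain ⟨h1, h2, h3⟩ := H17.GorCurve.component_subcurve (k := k) hdim hE
    have := H17.GorCurve.degJ_nonneg_of_isGloballyGenerated (k := k) hdim hMi hgg _ h3
    rw [key E hE] at this
    omega

end Groth.Agent.S16210
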