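import Groth.Statements.S16211
import Mathlib.RingTheory.Smooth.Basic

set_option autoImplicit false
universe u v
open InvTh

namespace Groth.Agent.S16211

/-- Let R be a commutative ring, O a formally smooth R-algebra and G a finite group whose order is
invertible in R, acting on O by R-algebra automorphisms. Then the largest quotient algebra of O on
which G acts trivially, namely the quotient of O by the ideal generated by all g • f - f (the
coordinate ring of the subscheme of G-fixed points of Spec O), is again formally smooth over R: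
invariant homomorphisms lift along square-zero extensions. The published statement is about a scheme
X smooth and of finite presentation over the base and concludes that its fixed-point scheme is
smooth; this row, the affine step of its proof, assumes only that O is formally smooth over R and
concludes only formal smoothness. -/
theorem result (R : Type u) [CommRing R]
    (O : Type u) [CommRing O] [Algebra R O] [Algebra.FormallySmooth R O]
    (G : Type v) [Group G] [Finite G] [MulSemiringAction G O] [SMulCommClass G R O]
    (hG : IsUnit (Nat.card G : R)) :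
    Algebra.FormallySmooth R (O ⧸ Ideal.span {x : O | ∃ (g : G) (f : O), x = g • f - f}) := by
  classical
  haveI := Fintype.ofFinite G
  refine Algebra.FormallySmooth.of_comp_surjective fun C _ _ N hN f => ?_
  let π : O →ₐ[R] O ⧸ Ideal.span {x : O | ∃ (g : G) (f : O), x = g • f - f} := Ideal.Quotient.mkₐ R _
  obtain ⟨g, hg⟩ := Algebra.FormallySmooth.comp_surjective R O N hN (f.comp π)
  obtain ⟨v, hv⟩ := hG
  let u : R := ((v⁻¹ : Rˣ) : R)
  have hu : u * (Fintype.card G : R) = 1 := by
    rw [← Nat.card_eq_fintype_card, ← hv]; exact Units.inv_mul v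
  have hfix : ∀ (γ : G) (a : O), π (γ • a) = π a := fun γ a =>
    Ideal.Quotient.eq.2 (Ideal.subset_span ⟨γ, a, rfl⟩)
  have hgN : ∀ (γ : G) (a : O), g (γ • a) - g a ∈ N := fun γ a => by
    rw [← Ideal.Quotient.eq]
    have h1 := AlgHom.congr_fun hg (γ • a)
    have h2 := AlgHom.congr_fun hg a
    simp only [AlgHom.comp_apply, Ideal.Quotient.mkₐ_eq_mk, hfix] at h1 h2
    rw [h1, h2]
  have hN2 : ∀ x ∈ N, ∀ y ∈ N, x * y = 0 := fun x hx y hy => by
    have := Ideal.mul_mem_mul hx hy
    rwa [← pow_two, hN, Submodule.mem_bot] at this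
  let L : O →ₗ[R] C := u • ∑ γ : G, g.toLinearMap ∘ₗ DistribSMul.toLinearMap R O γ
  have hL : ∀ a, L a = g a + u • ∑ γ : G, (g (γ • a) - g a) := by
    intro a
    simp only [L, LinearMap.smul_apply, LinearMap.sum_apply, LinearMap.comp_apply, AlgHom.toLinearMap_apply,
      DistribSMul.toLinearMap_apply, Finset.sum_sub_distrib, Finset.sum_const, Finset.card_univ, smul_sub,
      ← Nat.cast_smul_eq_nsmul R, smul_smul, hu, one_smul]
    abel
  have hmem : ∀ a, u • ∑ γ : G, (g (γ • a) - g a) ∈ N := fun a => by
    rw [Algebra.smul_def]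
    exact Ideal.mul_mem_left N _ (Ideal.sum_mem _ fun γ _ => hgN γ a)
  have hmul : ∀ a b, L (a * b) = L a * L b := by
    intro a b
    rw [hL, hL, hL, add_mul, mul_add, mul_add, hN2 _ (hmem a) _ (hmem b), add_zero, map_mul, add_assoc]
    congr 1
    rw [mul_smul_comm, smul_mul_assoc, ← smul_add, Finset.mul_sum, Finset.sum_mul, ← Finset.sum_add_distrib]
    congr 1
    refine Finset.sum_congr rfl fun γ _ => ?_
    rw [smul_mul', map_mul]
    linear_combination (hN2 _ (hgN γ a) _ (hgN γ b))
  have hone : L 1 = 1 := by rw [hL]; simp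
  let g' : O →ₐ[R] C := AlgHom.ofLinearMap L hone hmul
  have hinv : ∀ (γ : G) (a : O), L (γ • a) = L a := fun γ a => by
    simp only [L, LinearMap.smul_apply, LinearMap.sum_apply, LinearMap.comp_apply, AlgHom.toLinearMap_apply,
      DistribSMul.toLinearMap_apply, smul_smul]
    congr 1
    exact Fintype.sum_equiv (Equiv.mulRight γ) _ _ fun δ => rfl
  have hker : ∀ a ∈ Ideal.span {x : O | ∃ (g : G) (f : O), x = g • f - f}, g' a = 0 := by
    intro a ha
    have hle : Ideal.span {x : O | ∃ (g : G) (f : O), x = g • f - f} ≤ RingHom.ker g' := by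
      rw [Ideal.span_le]
      rintro _ ⟨γ, c, rfl⟩
      show L (γ • c - c) = 0
      rw [map_sub, hinv, sub_self]
    exact hle ha
  refine ⟨Ideal.Quotient.liftₐ _ g' hker, AlgHom.ext fun x => ?_⟩
  obtain ⟨a, rfl⟩ := Ideal.Quotient.mk_surjective x
  show Ideal.Quotient.mk N (L a) = f (π a)
  rw [hL, map_add, Ideal.Quotient.eq_zero_iff_mem.2 (hmem a), add_zero]
  exact AlgHom.congr_fun hg a

end Groth.Agent.S16211
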