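import Groth.Statements.S16214
import Groth.Agent.H14Quot.DiagSmooth

set_option autoImplicit false
universe u
open CategoryTheory AlgebraicGeometry
open AlgSt

namespace Groth.Agent.S16214

/-- Let k be an algebraically closed field and Δ a finite diagonalizable group scheme over k, written Δ
= D(M) = Spec k[M] for a finite abelian group M. Then the classifying stack BΔ (whose objects over a
k-scheme T are the fppf-locally trivial Δ_T-torsors) is smooth over k, in the chart form: there are
schemes U, V over k, a smooth surjective chart (Sch/U) ⟶ BΔ, a smooth chart (Sch/V) of Spec k and a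
smooth U ⟶ V making the chart square commute up to isomorphism. (Δ itself need not be smooth, e.g.
μ_p in characteristic p.) The published statement allows any diagonalizable Δ; this row takes Δ
finite, i.e. M finite, the case its proof treats. -/
theorem result (k : Type u) [Field k] [IsAlgClosed k]
    (M : Type) [AddCommGroup M] [Finite M] :
    AlgSt.LocQ (AlgSp.LocP @Smooth)
      (FibCat.toSelf (AlgSt.BG Scheme.fppfPrecoverage (Red.diag k M))) := by
  obtain ⟨n, f, hf⟩ := Module.Finite.exists_fin' ℤ M
  let Λ := LinearMap.ker f
  let φ : Λ →+ (Fin n → ℤ) := Λ.subtype.toAddMonoidHom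
  let ψ : (Fin n → ℤ) →+ M := f.toAddMonoidHom
  have hex : ∀ a, ψ a = 0 → ∃ m, φ m = a := fun a ha => ⟨⟨a, ha⟩, rfl⟩
  have : IsAffineHom (Red.diag k M).hom := inferInstanceAs (IsAffineHom (Spec.map _))
  have hft : Algebra.FiniteType k (MonoidAlgebra k (Multiplicative M)) := inferInstance
  have : Flat (Red.diag k M).hom := by
    refine Flat.SpecMap_iff.mpr ?_
    exact RingHom.flat_algebraMap_iff.mpr inferInstance
  have : LocallyOfFinitePresentation (Red.diag k M).hom := by
    refine (HasRingHomProperty.Spec_iff (P := @LocallyOfFinitePresentation)).mpr ?_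
    exact RingHom.finitePresentation_algebraMap.mpr (Algebra.FinitePresentation.of_finiteType.mp hft)
  exact Groth.Agent.H14Quot.locQ_smooth_BG_diag k φ ψ Subtype.val_injective hf (fun m => m.2) hex

end Groth.Agent.S16214
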