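import Groth.Statements.S16215
import Groth.Agent.H24Def.DefSection

set_option autoImplicit false
set_option linter.style.haveILetI false
universe u
open CategoryTheory CategoryTheory.Limits AlgebraicGeometry
open PtDefo

open Groth.Agent
namespace Groth.Agent.S16215

/-- Let k be an algebraically closed field of characteristic neither 2 nor 3, C a smooth proper integral
curve of genus one over k and P a rational point of C. For every local Artinian k-algebra A with
residue field k the forgetful map, from isomorphism classes of deformations of the pointed curve (C,
P) over A (deformations of C over A with a section through P) to isomorphism classes of deformations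
of C over A, is surjective. (The characteristic assumption is the standing one of the source's
section and plays no role.) -/
theorem result
    {k : Type u} [Field k] [IsAlgClosed k] (h2 : (2 : k) ≠ 0) (h3 : (3 : k) ≠ 0)
    (X : Scheme.{u}) [X.Over (Spec (CommRingCat.of k))]
    (hX : Curve.IsSmoothProperCurve k X (X ↘ Spec (CommRingCat.of k))) (hg : Curv2.genus k X = 1)
    (P : Spec (CommRingCat.of k) ⟶ X) (hP : P ≫ (X ↘ Spec (CommRingCat.of k)) = 𝟙 _)
    (A : ArtFun.Art k k) :
    Function.Surjective ((PtDefo.forgetPts (Λ := k) X (X ↘ Spec (CommRingCat.of k)) (fun _ : PUnit.{u + 1} => P)).app A) := by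
  haveI : Smooth (X ↘ Spec (CommRingCat.of k)) := hX.2.1
  intro q
  induction q using Quotient.inductionOn with
  | h ξ =>
    obtain ⟨σ, hσ, hσP⟩ := Groth.Agent.H24Def.exists_section_defSch ξ P hP
    exact ⟨PtDefo.DefSch.cl { toDefSch := ξ, sect := fun _ => σ, sect_f := fun _ => hσ, pt_sect := fun _ => hσP }, rfl⟩

end Groth.Agent.S16215
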