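import Groth.Statements.S16219
import Mathlib

set_option autoImplicit false
universe u
open Lim

namespace Groth.Agent.S16219
set_option backward.isDefEq.respectTransparency false
set_option maxHeartbeats 800000

open AlgebraicGeometry CategoryTheory CategoryTheory.Limits

lemma exists_mem_finset {A C ι : Type u} [CommRing A] [CommRing C] [Algebra A C]
    {S : ι → Subalgebra A C} (hdir : Directed (· ≤ ·) S) (hcov : ∀ c : C, ∃ i, c ∈ S i)
    (i : ι) (s : Finset C) : ∃ j, S i ≤ S j ∧ (↑s : Set C) ⊆ S j := by
  classical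
  induction s using Finset.induction with
  | empty => exact ⟨i, le_rfl, by simp⟩
  | @insert a s ha ih =>
    obtain ⟨j, hij, hs⟩ := ih
    obtain ⟨k, hk⟩ := hcov a
    obtain ⟨l, hjl, hkl⟩ := hdir j k
    refine ⟨l, hij.trans hjl, ?_⟩
    simp only [Finset.coe_insert, Set.insert_subset_iff]
    exact ⟨hkl hk, fun x hx => hjl (hs hx)⟩

/-- finitely many coefficients witness that an open contains a basic open after pullback -/
lemma exists_coeff_basicOpen_subset {R C : Type u} [CommRing R] [CommRing C] (φ : R →+* C)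
    (c : R) (W : Set (PrimeSpectrum R)) (hW : IsOpen W)
    (h : ∀ p : PrimeSpectrum C, φ c ∉ p.asIdeal → PrimeSpectrum.comap φ p ∈ W) :
    ∃ s : Finset C, ∀ (R' : Type u) [CommRing R'] (θ : R →+* R') (φ' : R' →+* C),
      φ'.comp θ = φ → Function.Injective φ' → (∀ x ∈ s, ∃ r, φ' r = x) →
      ∀ q : PrimeSpectrum R', θ c ∉ q.asIdeal → PrimeSpectrum.comap θ q ∈ W := by
  classical
  obtain ⟨I, hI⟩ := (PrimeSpectrum.isClosed_iff_zeroLocus_ideal _).1 (isClosed_compl_iff.2 hW)
  have hrad : φ c ∈ (I.map φ).radical := by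
    rw [Ideal.radical_eq_sInf]
    refine Submodule.mem_sInf.2 ?_
    rintro P ⟨hP1, hP2⟩
    by_contra hc
    have hPI : I ≤ Ideal.comap φ (P : Ideal C) := fun x hx => Ideal.mem_comap.2 (hP1 (Ideal.mem_map_of_mem φ hx))
    have := h ⟨P, hP2⟩ hc
    have h2 : PrimeSpectrum.comap φ ⟨P, hP2⟩ ∈ PrimeSpectrum.zeroLocus (I : Set R) := by
      rw [PrimeSpectrum.mem_zeroLocus]; exact hPI
    rw [← hI] at h2
    exact h2 this
  obtain ⟨N, hN⟩ := hrad
  rw [Ideal.map, Ideal.span] at hN
  obtain ⟨l, hlI, hl⟩ := (Finsupp.mem_span_image_iff_linearCombination C).1 hN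
  refine ⟨l.support.image l, fun R' _ θ φ' hcomp hinj hsub q hq => ?_⟩
  by_contra hnW
  have hqI : I ≤ q.asIdeal.comap θ := by
    have : PrimeSpectrum.comap θ q ∈ PrimeSpectrum.zeroLocus (I : Set R) := by rw [← hI]; exact hnW
    rwa [PrimeSpectrum.mem_zeroLocus] at this
  choose r hr using fun a : l.support => hsub _ (Finset.mem_image_of_mem l a.2)
  have key : θ c ^ N = ∑ a : l.support, r a * θ a.1 := by
    apply hinj
    simp only [map_pow, map_sum, map_mul, hr]
    have hcomp' : ∀ x, φ' (θ x) = φ x := fun x => congr($hcomp x)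
    simp only [hcomp']
    rw [← hl, Finsupp.linearCombination_apply, Finsupp.sum]
    exact (Finset.sum_coe_sort l.support fun a => l a • φ a).symm
  refine hq (q.isPrime.mem_of_pow_mem N ?_)
  rw [key]
  exact Ideal.sum_mem _ fun a _ =>
    q.asIdeal.mul_mem_left _ (hqI ((Finsupp.mem_supported _ _).1 hlI a.2))

/-- an open of `Spec (S i)` containing `D(c)` after pulling back to `C` does so at a finite stage -/
lemma exists_stage_basicOpen_subset {A C ι : Type u} [CommRing A] [CommRing C] [Algebra A C]
    {S : ι → Subalgebra A C} (hdir : Directed (· ≤ ·) S) (hcov : ∀ c : C, ∃ i, c ∈ S i)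
    (i : ι) (c : S i) (W : Set (PrimeSpectrum (S i))) (hW : IsOpen W)
    (h : ∀ p : PrimeSpectrum C, (c : C) ∉ p.asIdeal →
      PrimeSpectrum.comap (S i).val.toRingHom p ∈ W) :
    ∃ j, ∃ hij : S i ≤ S j, ∀ q : PrimeSpectrum (S j), Subalgebra.inclusion hij c ∉ q.asIdeal →
      PrimeSpectrum.comap (Subalgebra.inclusion hij).toRingHom q ∈ W := by
  obtain ⟨s, hs⟩ := exists_coeff_basicOpen_subset (S i).val.toRingHom c W hW h
  obtain ⟨j, hij, hsj⟩ := exists_mem_finset hdir hcov i s
  exact ⟨j, hij, hs (S j) (Subalgebra.inclusion hij).toRingHom (S j).val.toRingHom rfl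
    Subtype.val_injective (fun x hx => ⟨⟨x, hsj hx⟩, rfl⟩)⟩

/-- The data at one chart. -/
lemma exists_chart_lift {A C : Type u} [CommRing A] [CommRing C] [Algebra A C] [IsDomain C]
    {X : Scheme.{u}} (f : X ⟶ Spec (CommRingCat.of A)) [LocallyOfFiniteType f]
    (g : Spec (CommRingCat.of C) ⟶ X)
    (hg : g ≫ f = Spec.map (CommRingCat.ofHom (algebraMap A C)))
    (B : CommRingCat.{u}) (e : Spec B ⟶ X) [IsOpenImmersion e] (c : C)
    (hc0 : c ≠ 0) (hc : ∀ p : PrimeSpectrum C, c ∉ p.asIdeal → g.base p ∈ Set.range e.base) :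
    ∃ s : Finset C, ∀ (T : Subalgebra A C), (↑s : Set C) ⊆ T → ∀ hcT : c ∈ T,
      ∃ h : Spec (CommRingCat.of (Localization.Away (⟨c, hcT⟩ : T))) ⟶ X,
        Set.range h.base ⊆ Set.range e.base ∧
        h ≫ f = Spec.map (CommRingCat.ofHom (algebraMap T (Localization.Away (⟨c, hcT⟩ : T)))) ≫
          Spec.map (CommRingCat.ofHom (algebraMap A T)) ∧
        ∀ (W : Scheme.{u}) (w₁ : W ⟶ _) (w₂ : W ⟶ Spec (CommRingCat.of C)),
          w₁ ≫ Spec.map (CommRingCat.ofHom (algebraMap T (Localization.Away (⟨c, hcT⟩ : T)))) =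
            w₂ ≫ Spec.map (CommRingCat.ofHom T.val.toRingHom) → w₁ ≫ h = w₂ ≫ g := by
  classical
  let locC : CommRingCat.of C ⟶ CommRingCat.of (Localization.Away c) :=
    CommRingCat.ofHom (algebraMap C (Localization.Away c))
  haveI : IsOpenImmersion (Spec.map locC) := IsOpenImmersion.of_isLocalization c
  have hrange : Set.range (Spec.map locC ≫ g).base ⊆ Set.range e.base := by
    rintro - ⟨p, rfl⟩
    refine hc ((Spec.map locC).base p) ?_
    have := (PrimeSpectrum.localization_away_comap_range (Localization.Away c) c).le ⟨p, rfl⟩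
    exact this
  let l₀ := IsOpenImmersion.lift e (Spec.map locC ≫ g) hrange
  have hl₀ : l₀ ≫ e = Spec.map locC ≫ g := IsOpenImmersion.lift_fac _ _ _
  obtain ⟨ψ, hψ⟩ := Spec.map_surjective l₀
  obtain ⟨ρ, hρ⟩ := Spec.map_surjective (e ≫ f)
  have hρft : ρ.hom.FiniteType := by
    haveI : LocallyOfFiniteType (Spec.map ρ) := by rw [hρ]; infer_instance
    exact HasRingHomProperty.Spec_iff.mp ‹LocallyOfFiniteType (Spec.map ρ)›
  have hψρ : ρ ≫ ψ = CommRingCat.ofHom (algebraMap A C) ≫ locC := by
    apply Spec.map_injective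
    rw [Spec.map_comp, Spec.map_comp, hρ, hψ, reassoc_of% hl₀, hg]
  letI := ρ.hom.toAlgebra
  obtain ⟨G, hG⟩ := (RingHom.finiteType_algebraMap (A := A) (B := B)).1 hρft |>.out
  choose num hnum using fun x : B => IsLocalization.surj (Submonoid.powers c) (ψ.hom x)
  refine ⟨G.image fun x => (num x).1, fun T hT hcT => ?_⟩
  let a : T := ⟨c, hcT⟩
  let L := Localization.Away a
  haveI : IsLocalization.Away (T.val.toRingHom a) (Localization.Away c) :=
    (inferInstance : IsLocalization.Away c (Localization.Away c))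
  let j : L →+* Localization.Away c := IsLocalization.Away.map L (Localization.Away c) T.val.toRingHom a
  have hj : ∀ t : T, j (algebraMap T L t) = algebraMap C (Localization.Away c) (t : C) :=
    fun t => IsLocalization.map_eq _ t
  have hjinj : Function.Injective j := by
    apply IsLocalization.map_injective_of_injective'
    · intro ⟨n, hn⟩
      exact pow_ne_zero n (fun h0 : c = 0 => hc0 h0) hn
    · exact Subtype.val_injective
  have hmem : ∀ x : B, ψ.hom x ∈ j.range := by
    intro x
    have hx : x ∈ Algebra.adjoin A (G : Set B) := hG ▸ Algebra.mem_top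
    induction hx using Algebra.adjoin_induction with
    | mem y hy =>
      obtain ⟨⟨-, n, rfl⟩, hn⟩ : ∃ d : Submonoid.powers c,
          ψ.hom y * algebraMap C _ d = algebraMap C _ (num y).1 := ⟨(num y).2, hnum y⟩
      refine ⟨algebraMap T L ⟨(num y).1, hT (Finset.mem_coe.2 (Finset.mem_image_of_mem _ hy))⟩ *
        IsLocalization.Away.invSelf a ^ n, ?_⟩
      rw [map_mul, hj, map_pow]
      rw [← hn, map_pow, mul_assoc, ← mul_pow]
      have : algebraMap C (Localization.Away c) c * j (IsLocalization.Away.invSelf a) = 1 := by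
        rw [← hj a, ← map_mul, IsLocalization.Away.mul_invSelf, map_one]
      rw [this, one_pow, mul_one]
    | algebraMap r =>
      refine ⟨algebraMap T L (algebraMap A T r), ?_⟩
      rw [hj]
      exact (congr($(hψρ).hom r)).symm
    | add _ _ _ _ h1 h2 => rw [map_add]; exact add_mem h1 h2
    | mul _ _ _ _ h1 h2 => rw [map_mul]; exact mul_mem h1 h2
  choose θ hθ using hmem
  let θ' : B →+* L :=
    { toFun := θ
      map_one' := hjinj (by rw [hθ, map_one, map_one])
      map_mul' := fun x y => hjinj (by rw [hθ, map_mul, map_mul, hθ, hθ])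
      map_zero' := hjinj (by rw [hθ, map_zero, map_zero])
      map_add' := fun x y => hjinj (by rw [hθ, map_add, map_add, hθ, hθ]) }
  have hθψ : CommRingCat.ofHom θ' ≫ CommRingCat.ofHom j = ψ := by ext x; exact hθ x
  refine ⟨Spec.map (CommRingCat.ofHom θ') ≫ e, ?_, ?_, ?_⟩
  · rintro - ⟨p, rfl⟩; exact ⟨_, rfl⟩
  · rw [Category.assoc, ← hρ, ← Spec.map_comp, ← Spec.map_comp]
    congr 1
    ext r
    apply hjinj
    show j (θ _) = j (algebraMap T L (algebraMap A T r))
    rw [hθ, hj]
    exact congr($(hψρ).hom r)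
  · intro W w₁ w₂ hw
    let q := Spec.map (CommRingCat.ofHom (algebraMap T (Localization.Away a)))
    haveI : IsOpenImmersion q := IsOpenImmersion.of_isLocalization a
    have hw₂ : Set.range w₂.base ⊆ Set.range (Spec.map locC).base := by
      rintro - ⟨p, rfl⟩
      have h1 : (Spec.map (CommRingCat.ofHom T.val.toRingHom)).base (w₂.base p) ∈
          Set.range q.base := by
        refine ⟨w₁.base p, ?_⟩
        rw [← Scheme.Hom.comp_apply, ← Scheme.Hom.comp_apply, hw]
      have h2 := (PrimeSpectrum.localization_away_comap_range L a).le h1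
      exact (PrimeSpectrum.localization_away_comap_range (Localization.Away c) c).ge h2
    let w₃ := IsOpenImmersion.lift (Spec.map locC) w₂ hw₂
    have hw₃ : w₃ ≫ Spec.map locC = w₂ := IsOpenImmersion.lift_fac _ _ _
    have hjq : Spec.map (CommRingCat.ofHom j) ≫ q =
        Spec.map locC ≫ Spec.map (CommRingCat.ofHom T.val.toRingHom) := by
      rw [← Spec.map_comp, ← Spec.map_comp]
      congr 1; ext t; exact hj t
    have : w₁ = w₃ ≫ Spec.map (CommRingCat.ofHom j) := by
      rw [← cancel_mono q, Category.assoc, hjq, reassoc_of% hw₃, hw]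
    rw [this, Category.assoc, ← Spec.map_comp_assoc, hθψ, hψ, hl₀, reassoc_of% hw₃]

open AlgebraicGeometry CategoryTheory in
/-- Let A be a commutative ring, X a scheme of finite type over Spec A (quasi-compact and locally of
finite type), C an A-algebra that is an integral domain and the union of a directed family of
A-subalgebras C_i, and g : Spec C → X an A-morphism. Then for some index i there is an A-morphism
Spec C_i → X whose composite with the morphism Spec C → Spec C_i induced by the inclusion is g. The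
published statement asserts that the map from the colimit of the sets of A-morphisms Spec C_i → X to
the set of A-morphisms Spec C → X is bijective; this row states only that it is surjective
(injectivity holds for every filtered colimit of A-algebras). -/
theorem result
    {ι : Type u} (A C : Type u) [CommRing A] [CommRing C] [Algebra A C] [IsDomain C]
    (S : ι → Subalgebra A C) (hdir : Directed (· ≤ ·) S) (hcov : ∀ c : C, ∃ i, c ∈ S i)
    (X : Scheme.{u}) (f : X ⟶ Spec (CommRingCat.of A))
    [LocallyOfFiniteType f] [QuasiCompact f]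
    (g : Spec (CommRingCat.of C) ⟶ X)
    (hg : g ≫ f = Spec.map (CommRingCat.ofHom (algebraMap A C))) :
    ∃ (i : ι) (g' : Spec (CommRingCat.of (S i)) ⟶ X),
      g' ≫ f = Spec.map (CommRingCat.ofHom (algebraMap A (S i))) ∧
      Spec.map (CommRingCat.ofHom (S i).val.toRingHom) ≫ g' = g := by
  classical
  choose idx hidx using fun p : PrimeSpectrum C => X.affineCover.exists_eq (g.base p)
  choose O hO hpO hOsub using fun p : PrimeSpectrum C =>
    (PrimeSpectrum.isTopologicalBasis_basic_opens (R := C)).exists_subset_of_mem_open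
      (a := p) (u := g.base ⁻¹' Set.range (X.affineCover.f (idx p)).base)
      (hidx p)
      ((X.affineCover.f (idx p)).isOpenEmbedding.isOpen_range.preimage g.continuous)
  choose c hcO using hO
  have hpc : ∀ p, c p ∉ p.asIdeal := fun p => by
    have h : p ∈ (PrimeSpectrum.basicOpen (c p) : Set (PrimeSpectrum C)) := by
      have := hpO p; rw [← hcO p] at this; exact this
    exact h
  have hcsub : ∀ p q : PrimeSpectrum C, c p ∉ q.asIdeal →
      g.base q ∈ Set.range (X.affineCover.f (idx p)).base := fun p q hq => by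
    refine hOsub p ?_
    rw [← hcO p]; exact hq
  obtain ⟨t, ht⟩ := isCompact_univ.elim_finite_subcover
    (fun p => (PrimeSpectrum.basicOpen (c p) : Set (PrimeSpectrum C)))
    (fun p => (PrimeSpectrum.basicOpen (c p)).isOpen)
    (fun p _ => Set.mem_iUnion.2 ⟨p, hpc p⟩)
  have hspan : Ideal.span (Set.range fun x : t => c x.1) = ⊤ := by
    rw [← PrimeSpectrum.iSup_basicOpen_eq_top_iff, eq_top_iff]
    intro q _
    obtain ⟨x, hx, hq⟩ := Set.mem_iUnion₂.1 (ht (Set.mem_univ q))
    exact TopologicalSpace.Opens.mem_iSup.2 ⟨⟨x, hx⟩, hq⟩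
  obtain ⟨v, hv⟩ := (Submodule.mem_span_range_iff_exists_fun C).1
    (show (1 : C) ∈ Ideal.span (Set.range fun x : t => c x.1) by rw [hspan]; exact Submodule.mem_top)
  choose s hs using fun x : t => exists_chart_lift f g hg _ (X.affineCover.f (idx x.1)) (c x.1)
    (fun h0 => hpc x.1 (h0 ▸ x.1.asIdeal.zero_mem)) (hcsub x.1)
  obtain ⟨i₁, -⟩ := hcov 0
  obtain ⟨i, -, hi⟩ := exists_mem_finset hdir hcov i₁
    ((Finset.univ.biUnion s) ∪ Finset.univ.image v ∪ Finset.univ.image fun x : t => c x.1)
  simp only [Finset.coe_union, Finset.coe_biUnion, Finset.coe_image, Set.union_subset_iff,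
    Finset.coe_univ, Set.image_univ, Set.mem_univ, Set.iUnion_true, Set.iUnion_subset_iff,
    Set.range_subset_iff] at hi
  obtain ⟨⟨his, hiv⟩, hic⟩ := hi
  choose h hh_range hh_f hh using fun x : t => hs x (S i) (his x) (hic x)
  let a : t → S i := fun x => ⟨c x.1, hic x⟩
  let q := fun x : t => Spec.map (CommRingCat.ofHom (algebraMap (S i) (Localization.Away (a x))))
  haveI hq : ∀ x, IsOpenImmersion (q x) := fun x => IsOpenImmersion.of_isLocalization (a x)
  have hqr : ∀ x, Set.range (q x).base = {p : PrimeSpectrum (S i) | a x ∉ p.asIdeal} := fun x =>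
    PrimeSpectrum.localization_away_comap_range (Localization.Away (a x)) (a x)
  let π := Spec.map (CommRingCat.ofHom (S i).val.toRingHom)
  -- enlarge `i` so that overlaps land in the affine charts
  let W : t → t → Set (PrimeSpectrum (S i)) := fun x y =>
    (q x).base '' ((h x).base ⁻¹' Set.range (X.affineCover.f (idx y.1)).base)
  have hW : ∀ x y, IsOpen (W x y) := fun x y => (q x).isOpenEmbedding.isOpenMap _
    ((X.affineCover.f (idx y.1)).isOpenEmbedding.isOpen_range.preimage (h x).continuous)
  have hW' : ∀ x y, ∀ p : PrimeSpectrum C, ((a x * a y : S i) : C) ∉ p.asIdeal →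
      PrimeSpectrum.comap (S i).val.toRingHom p ∈ W x y := by
    intro x y p hp
    have hpx : c x.1 ∉ p.asIdeal := fun h1 => hp (p.asIdeal.mul_mem_right _ h1)
    have hpy : c y.1 ∉ p.asIdeal := fun h1 => hp (p.asIdeal.mul_mem_left _ h1)
    have h1 : π.base p ∈ Set.range (q x).base := by rw [hqr]; exact hpx
    obtain ⟨p', hp'⟩ := h1
    refine ⟨p', ?_, hp'⟩
    have hsnd := Scheme.Pullback.exists_preimage_pullback (f := q x) (g := π) p' p hp'
    obtain ⟨z, hz1, hz2⟩ := hsnd
    have := hh x _ (pullback.fst (q x) π) (pullback.snd (q x) π) pullback.condition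
    have : (h x).base p' = g.base p := by
      rw [← hz1, ← hz2, ← Scheme.Hom.comp_apply, ← Scheme.Hom.comp_apply, this]
    rw [Set.mem_preimage]
    rw [this]; exact hcsub y.1 p hpy
  choose j hij hjW using fun xy : t × t => exists_stage_basicOpen_subset hdir hcov i (a xy.1 * a xy.2)
    (W xy.1 xy.2) (hW xy.1 xy.2) (hW' xy.1 xy.2)
  obtain ⟨k, hk⟩ : ∃ k, S i ≤ S k ∧ ∀ xy, S (j xy) ≤ S k := by
    haveI : Nonempty ι := ⟨i⟩
    obtain ⟨k, hk⟩ := hdir.finset_le (insert i (Finset.univ.image j))
    exact ⟨k, hk i (Finset.mem_insert_self _ _), fun xy => hk (j xy)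
      (Finset.mem_insert_of_mem (Finset.mem_image_of_mem _ (Finset.mem_univ xy)))⟩
  obtain ⟨hik, hjk⟩ := hk
  let T := Spec.map (CommRingCat.ofHom (Subalgebra.inclusion hik).toRingHom)
  let πk := Spec.map (CommRingCat.ofHom (S k).val.toRingHom)
  have hπk : πk ≫ T = π := by rw [← Spec.map_comp]; rfl
  have hcovq : ∀ p : PrimeSpectrum (S i), ∃ x, p ∈ Set.range (q x).base := by
    intro p
    by_contra hn
    simp only [not_exists, hqr, Set.mem_setOf_eq, not_not] at hn
    refine p.isPrime.ne_top ((Ideal.eq_top_iff_one _).2 ?_)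
    have h1 : (1 : S i) = ∑ x : t, ⟨v x, hiv x⟩ * a x := by
      apply Subtype.ext
      simp only [AddSubmonoidClass.coe_finsetSum]
      exact hv.symm
    rw [h1]
    exact Ideal.sum_mem _ fun x _ => p.asIdeal.mul_mem_left _ (hn x)
  let 𝒱 : (Spec (CommRingCat.of (S k))).OpenCover :=
    Scheme.Cover.mkOfCovers t (fun x => pullback T (q x)) (fun x => pullback.fst T (q x))
      (fun p => by
        obtain ⟨x, hx⟩ := hcovq (T.base p)
        refine ⟨x, ?_⟩
        show p ∈ Set.range (pullback.fst T (q x)).base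
        rw [Scheme.Pullback.range_fst]
        exact hx)
      (fun x => inferInstanceAs (IsOpenImmersion (pullback.fst T (q x))))
  let φ : ∀ x : t, pullback T (q x) ⟶ X := fun x => pullback.snd T (q x) ≫ h x
  have key : ∀ (x : t) (Z : Scheme.{u}) (w₁ : Z ⟶ pullback T (q x)) (w₂ : Z ⟶ Spec (CommRingCat.of C)),
      w₁ ≫ pullback.fst T (q x) = w₂ ≫ πk → w₁ ≫ φ x = w₂ ≫ g := by
    intro x Z w₁ w₂ hw
    rw [← hh x Z (w₁ ≫ pullback.snd T (q x)) w₂ ?_, Category.assoc]
    rw [Category.assoc, ← pullback.condition, reassoc_of% hw, hπk]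
  have hglue : ∀ x y : t, pullback.fst (pullback.fst T (q x)) (pullback.fst T (q y)) ≫ φ x =
      pullback.snd (pullback.fst T (q x)) (pullback.fst T (q y)) ≫ φ y := by
    intro x y
    let P := pullback (pullback.fst T (q x)) (pullback.fst T (q y))
    let m : P ⟶ Spec (CommRingCat.of (S k)) := pullback.fst _ _ ≫ pullback.fst T (q x)
    haveI : IsOpenImmersion m := inferInstance
    haveI : IsReduced P := isReduced_of_isOpenImmersion m
    let e := X.affineCover.f (idx y.1)
    have hu : Set.range (pullback.fst (pullback.fst T (q x)) (pullback.fst T (q y)) ≫ φ x).base ⊆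
        Set.range e.base := by
      rintro - ⟨p, rfl⟩
      simp only [φ, Scheme.Hom.comp_apply]
      set z := (pullback.snd T (q x)).base ((pullback.fst _ (pullback.fst T (q y))).base p) with hz
      have hzq : (q x).base z = T.base (m.base p) := by
        simp only [z, m, ← Scheme.Hom.comp_apply, Category.assoc]
        rw [← pullback.condition]
      have hmy : T.base (m.base p) ∈ Set.range (q y).base := by
        refine ⟨(pullback.snd T (q y)).base ((pullback.snd (pullback.fst T (q x)) _).base p), ?_⟩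
        simp only [m, ← Scheme.Hom.comp_apply, Category.assoc, pullback.condition_assoc,
          ← pullback.condition]
        rfl
      have hmx : T.base (m.base p) ∈ Set.range (q x).base := ⟨z, hzq⟩
      rw [hqr] at hmy hmx
      let p₀ : PrimeSpectrum (S (j (x, y))) :=
        PrimeSpectrum.comap (Subalgebra.inclusion (hjk (x, y))).toRingHom (m.base p)
      have := hjW (x, y) p₀ (fun h1 => ((p₀.isPrime).mem_or_mem
        (show Subalgebra.inclusion (hij (x, y)) (a x) * Subalgebra.inclusion (hij (x, y)) (a y) ∈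
          p₀.asIdeal by rw [← map_mul]; exact h1)).elim hmx hmy)
      obtain ⟨z', hz', hzz'⟩ := this
      have : z = z' := (q x).isOpenEmbedding.injective (by rw [hzq, hzz']; rfl)
      rw [this]; exact hz'
    have hv' : Set.range (pullback.snd (pullback.fst T (q x)) (pullback.fst T (q y)) ≫ φ y).base ⊆
        Set.range e.base := by
      rintro - ⟨p, rfl⟩
      simp only [φ, Scheme.Hom.comp_apply]
      exact hh_range y ⟨_, rfl⟩
    rw [← IsOpenImmersion.lift_fac e _ hu, ← IsOpenImmersion.lift_fac e _ hv']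
    congr 1
    haveI : IsDominant (pullback.fst m πk) := by
      constructor
      rw [DenseRange, Scheme.Pullback.range_fst]
      refine Dense.preimage ?_ m.isOpenEmbedding.isOpenMap
      exact (PrimeSpectrum.denseRange_comap_iff_ker_le_nilRadical _).2
        (by rw [(RingHom.injective_iff_ker_eq_bot _).1]; exact bot_le; exact Subtype.val_injective)
    refine ext_of_isDominant (pullback.fst m πk) ?_
    have k1 := key x _ (pullback.fst m πk ≫ pullback.fst (pullback.fst T (q x)) (pullback.fst T (q y)))
      (pullback.snd m πk) (by rw [Category.assoc]; exact pullback.condition)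
    have k2 := key y _ (pullback.fst m πk ≫ pullback.snd (pullback.fst T (q x)) (pullback.fst T (q y)))
      (pullback.snd m πk) (by rw [Category.assoc, ← pullback.condition]; exact pullback.condition)
    rw [← cancel_mono e, Category.assoc, Category.assoc, IsOpenImmersion.lift_fac,
      IsOpenImmersion.lift_fac]
    simpa only [φ, Category.assoc] using k1.trans k2.symm
  let F := 𝒱.glueMorphisms φ hglue
  refine ⟨k, F, 𝒱.hom_ext _ _ fun x => ?_, ?_⟩
  · rw [← Category.assoc, Scheme.Cover.ι_glueMorphisms]
    show (pullback.snd T (q x) ≫ h x) ≫ f = pullback.fst T (q x) ≫ _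
    rw [Category.assoc, hh_f x]
    change pullback.snd T (q x) ≫ q x ≫ _ = _
    rw [← pullback.condition_assoc, ← Spec.map_comp]
    rfl
  · refine Scheme.Cover.hom_ext (𝒱.pullback₁ πk) _ _ fun x => ?_
    show pullback.fst πk (pullback.fst T (q x)) ≫ πk ≫ F = pullback.fst πk (pullback.fst T (q x)) ≫ g
    rw [← Category.assoc, pullback.condition, Category.assoc,
      ← key x _ _ (pullback.fst πk (pullback.fst T (q x))) pullback.condition.symm]
    congr 1
    exact Scheme.Cover.ι_glueMorphisms 𝒱 φ hglue x

end Groth.Agent.S16219
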