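import Groth.Statements.S16226
import Groth.Agent.H19Grp.Reduction

set_option autoImplicit false
set_option linter.style.haveILetI false
set_option backward.isDefEq.respectTransparency false
universe u
open CategoryTheory MonoidalCategory CartesianMonoidalCategory MonObj AlgebraicGeometry
open PrincBund

namespace Groth.Agent.S16226
open Limits

/-- Let i : G → H be a homomorphism of group schemes over a base scheme S which is a closed immersion, F
an H-torsor over S for the etale topology with action aF, and π : F → Q a morphism of S-schemes
exhibiting Q as the quotient F/G, in the sense that the square formed by the restricted action G ×_S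
F → F, the projection G ×_S F → F and π twice is cartesian and π acquires sections etale-locally on
Q. Then for every section σ of Q over S there are a G-torsor E over S for the etale topology and an
i-equivariant morphism φ : E → F over S such that the square (φ, E → S; π, σ) is cartesian; that is,
σ comes from a reduction of the structure group of F to G. (Stated over an arbitrary base scheme and
for arbitrary group schemes; the quotient F/G is taken as data through its torsor property rather
than constructed.) -/
theorem result
    {S : Scheme.{u}} {G H F Q : Over S} [GrpObj G] [GrpObj H]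
    (i : G ⟶ H) [IsMonHom i] [IsClosedImmersion i.left]
    (aF : AlgGrp.Action H F) (hF : NonAbH1.IsTorsorFor Scheme.etalePrecoverage aF)
    (π : F ⟶ Q)
    (hsq : IsPullback (aF.restrict i).act (snd G F) π π)
    (hloc : NonAbH1.IsLocallyTrivialFor Scheme.etalePrecoverage (Over.mk π.left : Over Q.left))
    (σ : 𝟙_ (Over S) ⟶ Q) :
    ∃ (E : Over S) (aE : AlgGrp.Action G E) (φ : E ⟶ F),
      NonAbH1.IsTorsorFor Scheme.etalePrecoverage aE ∧
      AlgGrp.Action.IsEquivariant aE (aF.restrict i) φ ∧
      IsPullback φ (toUnit E) π σ := by
  let E : Over S := pullback π σ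
  let φ : E ⟶ F := pullback.fst π σ
  have hE : IsPullback φ (toUnit E) π σ := by
    rw [toUnit_unique (toUnit E) (pullback.snd π σ)]
    exact IsPullback.of_hasPullback π σ
  have hact : ((G ◁ φ) ≫ (aF.restrict i).act) ≫ π = toUnit (G ⊗ E) ≫ σ := by
    rw [Category.assoc, hsq.w, whiskerLeft_snd_assoc, hE.w, ← Category.assoc, toUnit_unique (snd G E ≫ toUnit E)]
  let act : G ⊗ E ⟶ E := hE.lift ((G ◁ φ) ≫ (aF.restrict i).act) (toUnit _) hact
  have hactφ : act ≫ φ = (G ◁ φ) ≫ (aF.restrict i).act := hE.lift_fst _ _ _
  let aE : AlgGrp.Action G E :=
    { act := act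
      one_act := by
        apply hE.hom_ext
        · rw [Category.assoc, hactφ, ← whisker_exchange_assoc, (aF.restrict i).one_act, leftUnitor_naturality]
        · exact toUnit_unique _ _
      mul_act := by
        apply hE.hom_ext
        · rw [Category.assoc, hactφ, ← whisker_exchange_assoc, (aF.restrict i).mul_act, Category.assoc, Category.assoc,
            hactφ, ← MonoidalCategory.whiskerLeft_comp_assoc, hactφ, MonoidalCategory.whiskerLeft_comp,
            associator_naturality_right_assoc]
          simp only [Category.assoc]
        · exact toUnit_unique _ _ }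
  have heq : AlgGrp.Action.IsEquivariant aE (aF.restrict i) φ := hactφ
  refine ⟨E, aE, φ, ⟨?_, ?_⟩, heq, hE⟩
  · have h : (fst E E ≫ φ) ≫ π = (snd E E ≫ φ) ≫ π := by
      rw [Category.assoc, Category.assoc, hE.w, ← Category.assoc, ← Category.assoc,
        toUnit_unique (fst E E ≫ toUnit E) (snd E E ≫ toUnit E)]
    obtain ⟨g, hg, -⟩ := H19Grp.Reduction.existsUnique_smul_of_isPullback hsq _ _ h.symm
    refine ⟨lift g (snd E E), ?_, ?_⟩
    · obtain ⟨g', -, hu⟩ := H19Grp.Reduction.existsUnique_smul_of_isPullback hsq (snd G E ≫ φ) (act ≫ φ)
        (by rw [hactφ, Category.assoc, Category.assoc, hsq.w, whiskerLeft_snd_assoc])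
      have e1 : lift aE.act (snd G E) ≫ g = fst G E := by
        refine (hu _ ?_).trans (hu _ ?_).symm
        · have h2 := congrArg (lift aE.act (snd G E) ≫ ·) hg
          simp only [H18Torsor.comp_smul, lift_fst_assoc, lift_snd_assoc] at h2
          exact h2
        · show lift _ _ ≫ _ = _
          rw [hactφ]
          congr 1
      apply CartesianMonoidalCategory.hom_ext
      · rw [Category.assoc, lift_fst, e1, Category.id_comp]
      · simp
    · apply CartesianMonoidalCategory.hom_ext
      · rw [Category.assoc, lift_fst, Category.id_comp]
        apply hE.hom_ext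
        · rw [Category.assoc, heq, lift_whiskerLeft_assoc]
          exact hg
        · exact toUnit_unique _ _
      · simp
  · obtain ⟨R, hR, hsec⟩ := hloc
    obtain ⟨J, Z, f, rfl⟩ := R.exists_eq_ofArrows
    refine ⟨Presieve.ofArrows (fun j => pullback σ.left (f j)) (fun j => pullback.fst σ.left (f j)), ?_, ?_⟩
    · exact Precoverage.mem_coverings_of_isPullback (J := Scheme.etalePrecoverage) f hR σ.left _ _
        (fun j => IsPullback.of_hasPullback _ _)
    · rintro S' g ⟨j⟩
      obtain ⟨s, hs⟩ := hsec (f j) (Presieve.ofArrows.mk j)
      let p1 : Over.mk (pullback.fst σ.left (f j)) ⟶ 𝟙_ (Over S) := Over.homMk (pullback.fst σ.left (f j)) (Category.comp_id _)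
      let p2 : Over.mk (pullback.fst σ.left (f j)) ⟶ F := Over.homMk (pullback.snd σ.left (f j) ≫ s) (by
        have h2 : σ.left ≫ Q.hom = 𝟙 S := Over.w σ
        have hs2 : s ≫ π.left = f j := hs
        rw [Category.assoc, ← Over.w π, reassoc_of% hs2, ← pullback.condition_assoc, h2]
        exact Category.comp_id _)
      have hp : p2 ≫ π = p1 ≫ σ := by
        apply Over.OverMorphism.ext
        show (pullback.snd σ.left (f j) ≫ s) ≫ π.left = pullback.fst σ.left (f j) ≫ σ.left
        rw [Category.assoc, pullback.condition]
        exact congrArg (_ ≫ ·) hs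
      exact ⟨(hE.lift p2 p1 hp).left, Over.w (hE.lift p2 p1 hp)⟩

end Groth.Agent.S16226
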