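import Groth.Statements.S16227
import Groth.Agent.H19Grp.Reduction

set_option autoImplicit false
set_option linter.style.haveILetI false
set_option backward.isDefEq.respectTransparency false
universe u
open CategoryTheory MonoidalCategory CartesianMonoidalCategory MonObj AlgebraicGeometry
open PrincBund

namespace Groth.Agent.S16227

/-- Let i : G → H be a homomorphism of group schemes over a base scheme S which is a closed immersion, F
an H-torsor over S for the etale topology with action aF, and π : F → Q a morphism of S-schemes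
exhibiting Q as the quotient F/G, in the sense that the square formed by the restricted action G ×_S
F → F, the projection G ×_S F → F and π twice is cartesian and π acquires sections etale-locally on
Q. Then a reduction of the structure group of F to G, namely a G-torsor E over S for the etale
topology together with an i-equivariant morphism φ : E → F over S, determines a unique section σ of
Q over S such that the composite E → S → Q equals φ followed by π, and for this σ the square (φ, E →
S; π, σ) is cartesian, so that E is recovered as the pullback of F along σ. (Stated over an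
arbitrary base scheme and for arbitrary group schemes; the quotient F/G is taken as data through its
torsor property rather than constructed.) -/
theorem result
    {S : Scheme.{u}} {G H F Q : Over S} [GrpObj G] [GrpObj H]
    (i : G ⟶ H) [IsMonHom i] [IsClosedImmersion i.left]
    (aF : AlgGrp.Action H F) (hF : NonAbH1.IsTorsorFor Scheme.etalePrecoverage aF)
    (π : F ⟶ Q)
    (hsq : IsPullback (aF.restrict i).act (snd G F) π π)
    (hloc : NonAbH1.IsLocallyTrivialFor Scheme.etalePrecoverage (Over.mk π.left : Over Q.left))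
    {E : Over S} (aE : AlgGrp.Action G E) (hE : NonAbH1.IsTorsorFor Scheme.etalePrecoverage aE)
    (φ : E ⟶ F) (hφ : AlgGrp.Action.IsEquivariant aE (aF.restrict i) φ) :
    (∃! σ : 𝟙_ (Over S) ⟶ Q, toUnit E ≫ σ = φ ≫ π) ∧
      ∀ σ : 𝟙_ (Over S) ⟶ Q, toUnit E ≫ σ = φ ≫ π → IsPullback φ (toUnit E) π σ := by
  obtain ⟨R, hR, hsec⟩ := hE.2
  have hR' : R ∈ Scheme.fpqcPrecoverage S :=
    Scheme.proetalePrecoverage_le_fpqcPrecoverage S (Scheme.etalePrecoverage_le_proetalePrecoverage S hR)
  have hpt : ∀ W : Over S, H18Torsor.IsSmall R W.hom → Nonempty (W ⟶ E) := by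
    rintro W ⟨S', h, f, hf, hfw⟩
    obtain ⟨s, hs⟩ := hsec f hf
    exact ⟨Over.homMk (h ≫ s) (by rw [Category.assoc, hs, hfw])⟩
  have hconst : ∀ (W : Over S) (x y : W ⟶ E), x ≫ φ ≫ π = y ≫ φ ≫ π := by
    intro W x y
    obtain ⟨g, hg, -⟩ := H18Torsor.existsUnique_smul aE hE.1 x y
    rw [← hg, ← Category.assoc, ← Category.assoc, H19Grp.Reduction.smul_map hφ,
      H19Grp.Reduction.smul_comp_eq hsq]
  have hex : ∃! σ : 𝟙_ (Over S) ⟶ Q, toUnit E ≫ σ = φ ≫ π := by
    have hw : ∀ {W : Scheme.{u}} (w : W ⟶ S), H18Torsor.IsSmall R w → ∃ x : W ⟶ E.left, x ≫ E.hom = w :=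
      fun w hw => let ⟨x⟩ := hpt (Over.mk w) hw; ⟨x.left, Over.w x⟩
    choose sec hsecw using fun W (w : W ⟶ S) h => hw (W := W) w h
    have hwS : ∀ {W : Scheme.{u}} (w : W ⟶ S), w ≫ 𝟙 S = w := fun w => Category.comp_id w
    obtain ⟨m, hm, hmu⟩ := H18Torsor.existsUnique_glue R hR' (Z := Q.left) (𝟙 S)
      (fun {W} w h => sec W w (hwS w ▸ h) ≫ (φ ≫ π).left) (by
        intro W W' g w h h'
        have e := congrArg CommaMorphism.left (hconst (Over.mk (g ≫ w))
          (Over.homMk (sec W' (g ≫ w) (hwS (g ≫ w) ▸ h')) (hsecw _ _ _))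
          (Over.homMk (g ≫ sec W w (hwS w ▸ h)) (by rw [Category.assoc, hsecw]; rfl)))
        simp only [Over.comp_left, Over.homMk_left, Category.assoc] at e ⊢
        exact e)
    have hover : m ≫ Q.hom = 𝟙 S := by
      obtain ⟨n, -, hu⟩ := H18Torsor.existsUnique_glue R hR' (Z := S) (𝟙 S) (fun w _ => w) (fun g w _ _ => rfl)
      refine (hu _ fun w h => ?_).trans (hu _ fun w _ => Category.comp_id w).symm
      rw [← Category.assoc, hm w h, Category.assoc, Over.w (φ ≫ π), hsecw]
    refine ⟨Over.homMk m hover, ?_, ?_⟩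
    · apply Over.OverMorphism.ext
      obtain ⟨n, -, hu⟩ := H18Torsor.existsUnique_glue R hR' (Z := Q.left) E.hom
        (fun w _ => w ≫ (φ ≫ π).left) (fun g w _ _ => Category.assoc _ _ _)
      refine (hu _ fun {W} w h => ?_).trans (hu _ fun w _ => rfl).symm
      have h1 : H18Torsor.IsSmall R ((w ≫ E.hom) ≫ 𝟙 S) := by rw [Category.comp_id]; exact h
      show w ≫ (E.hom ≫ m) = w ≫ (φ ≫ π).left
      rw [← Category.assoc, hm (w ≫ E.hom) h1]
      have e := congrArg CommaMorphism.left (hconst (Over.mk (w ≫ E.hom))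
        (Over.homMk (sec W (w ≫ E.hom) (hwS (w ≫ E.hom) ▸ h1)) (hsecw _ _ _)) (Over.homMk w rfl))
      exact e
    · intro σ hσ
      apply Over.OverMorphism.ext
      refine hmu σ.left fun {W} w h => ?_
      have e := congrArg (fun q => sec W w (hwS w ▸ h) ≫ CommaMorphism.left q) hσ
      refine Eq.trans ?_ e
      show w ≫ σ.left = sec W w _ ≫ E.hom ≫ σ.left
      rw [← Category.assoc, hsecw]
  refine ⟨hex, fun σ hσ => ?_⟩
  have hp : IsPullback (Limits.pullback.fst π σ) (toUnit (Limits.pullback π σ)) π σ := by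
    rw [toUnit_unique (toUnit _) (Limits.pullback.snd π σ)]
    exact IsPullback.of_hasPullback π σ
  let c : E ⟶ Limits.pullback π σ := hp.lift φ (toUnit E) hσ.symm
  haveI : IsIso c := by
    refine H18Torsor.isIso_of_bijective R hR' c fun W hW => ?_
    obtain ⟨x⟩ := hpt W hW
    have hcomp : ∀ y : W ⟶ E, (y ≫ c) ≫ Limits.pullback.fst π σ = y ≫ φ := fun y => by
      rw [Category.assoc, hp.lift_fst]
    refine ⟨fun y y' hy => ?_, fun z => ?_⟩
    · obtain ⟨g, hg, -⟩ := H18Torsor.existsUnique_smul aE hE.1 x y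
      obtain ⟨g', hg', -⟩ := H18Torsor.existsUnique_smul aE hE.1 x y'
      have e := congrArg (· ≫ Limits.pullback.fst π σ) hy
      simp only [hcomp] at e
      rw [← hg, ← hg', H19Grp.Reduction.smul_map hφ, H19Grp.Reduction.smul_map hφ] at e
      obtain ⟨g₀, -, hu⟩ := H19Grp.Reduction.existsUnique_smul_of_isPullback hsq (x ≫ φ)
        (H18Torsor.smul (aF.restrict i) g' (x ≫ φ)) (H19Grp.Reduction.smul_comp_eq hsq _ _).symm
      rw [← hg, ← hg', hu g e, hu g' rfl]
    · obtain ⟨g, hg, -⟩ := H19Grp.Reduction.existsUnique_smul_of_isPullback hsq (x ≫ φ)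
        (z ≫ Limits.pullback.fst π σ) (by
          rw [Category.assoc, Category.assoc, hp.w, ← hσ, ← Category.assoc, ← Category.assoc,
            toUnit_unique (z ≫ toUnit _) (x ≫ toUnit E)])
      refine ⟨H18Torsor.smul aE g x, hp.hom_ext ?_ (toUnit_unique _ _)⟩
      rw [hcomp, H19Grp.Reduction.smul_map hφ]
      exact hg
  exact IsPullback.of_iso hp (asIso c).symm (Iso.refl _) (Iso.refl _) (Iso.refl _)
    (by simp [c]) (toUnit_unique _ _) (by simp) (by simp)

end Groth.Agent.S16227
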