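import Groth.Statements.S16231
import Groth.Agent.H26Base.PsShift
import Groth.Agent.S16230

set_option autoImplicit false
universe u
open VanCyc

namespace Groth.Agent.S16231

open Groth.Agent.H26Base.PsMorse Groth.Agent.H26Base.PsShift MvPowerSeries in

/-- Let A be a local ring with maximal ideal m that is separated and complete for the m-adic topology (A
is not assumed Noetherian), n a natural number, q an n × n coefficient table over A whose quadratic
form Q(x) = Σ_{i≤j} q_ij x_i x_j is non-degenerate (unit Gram determinant of the polar bilinear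
form), a and ℓ_1, …, ℓ_n elements of m, and F a formal power series in x_1, …, x_n over A whose
coefficients in total degree at most 2 agree with those of a + Σ ℓ_i x_i + Q(x). Then there are an
element a' of m and a non-degenerate coefficient table q' such that A[[x]]/(F) and A[[x]]/(Q'(x) +
a') are isomorphic as A-algebras, Q' the quadratic form of q'. -/
theorem result
    (A : Type u) [CommRing A] [IsLocalRing A]
    [IsAdicComplete (IsLocalRing.maximalIdeal A) A] (n : ℕ)
    (q : Fin n → Fin n → A) (hq : VanCyc.QuadNondeg q)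
    (a : A) (ha : a ∈ IsLocalRing.maximalIdeal A)
    (ℓ : Fin n → A) (hℓ : ∀ i, ℓ i ∈ IsLocalRing.maximalIdeal A)
    (F : MvPowerSeries (Fin n) A)
    (hF : ∀ e : Fin n →₀ ℕ, e.degree ≤ 2 →
      MvPowerSeries.coeff e F = MvPowerSeries.coeff e ((VanCyc.quadPoly q + ∑ i, MvPolynomial.C (ℓ i) * MvPolynomial.X i + MvPolynomial.C a : MvPolynomial (Fin n) A) : MvPowerSeries (Fin n) A)) :
    ∃ (a' : A) (q' : Fin n → Fin n → A), a' ∈ IsLocalRing.maximalIdeal A ∧ VanCyc.QuadNondeg q' ∧
      Nonempty ((MvPowerSeries (Fin n) A ⧸ Ideal.span {F}) ≃ₐ[A]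
        (MvPowerSeries (Fin n) A ⧸ Ideal.span {((VanCyc.quadPoly q' + MvPolynomial.C a' : MvPolynomial (Fin n) A) : MvPowerSeries (Fin n) A)})) := by
  classical
  set I := IsLocalRing.maximalIdeal A with hI
  set P0 : MvPowerSeries (Fin n) A :=
    qe q X + ∑ i, C (ℓ i) * X i + C a with hP0
  have hcoe : ((VanCyc.quadPoly q + ∑ i, MvPolynomial.C (ℓ i) * MvPolynomial.X i + MvPolynomial.C a : MvPolynomial (Fin n) A) : MvPowerSeries (Fin n) A) = P0 := by
    rw [hP0, ← MvPolynomial.coeToMvPowerSeries.ringHom_apply, map_add, map_add, map_sum,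
      MvPolynomial.coeToMvPowerSeries.ringHom_apply, coe_quadPoly]
    simp
  simp only [hcoe] at hF
  have hquad : VanCyc.quadPart F = VanCyc.quadPart P0 := by
    funext i j
    simp only [VanCyc.quadPart]
    split_ifs
    · exact hF _ (by simp)
    · exact hF _ (by simp [map_add])
    · rfl
  -- the degree-two table of the polynomial
  have hpol : VanCyc.polarMatrix (VanCyc.quadPart F) = VanCyc.polarMatrix q := by
    rw [hquad]
    have key : ∀ k l i j : Fin n, k ≤ l → i ≤ j →
        (Finsupp.single i 1 + Finsupp.single j 1 = Finsupp.single k 1 + (Finsupp.single l 1 : Fin n →₀ ℕ)) → i = k ∧ j = l := by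
      intro k l i j hkl hij h
      have h1 := DFunLike.congr_fun h i
      have h2 := DFunLike.congr_fun h j
      have h3 := DFunLike.congr_fun h k
      have h4 := DFunLike.congr_fun h l
      simp only [Finsupp.add_apply, Finsupp.single_apply] at h1 h2 h3 h4
      rw [Fin.le_def] at hkl hij
      simp only [Fin.ext_iff] at h1 h2 h3 h4 ⊢
      split_ifs at h1 h2 h3 h4 <;> omega
    have hc : ∀ i j : Fin n, i ≤ j →
        coeff (Finsupp.single i 1 + Finsupp.single j 1) P0 = q i j := by
      intro i j hij
      have hdeg : (Finsupp.single i 1 + Finsupp.single j 1 : Fin n →₀ ℕ).degree = 2 := by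
        simp [map_add]
      have hterm : ∀ k l : Fin n, coeff (Finsupp.single i 1 + Finsupp.single j 1)
          (if k ≤ l then C (q k l) * X k * X l else (0 : MvPowerSeries (Fin n) A)) =
          if i = k ∧ j = l then q i j else 0 := by
        intro k l
        by_cases hkl : k ≤ l
        · rw [if_pos hkl, mul_assoc, coeff_C_mul, X, X, monomial_mul_monomial, one_mul,
            coeff_monomial]
          by_cases he : i = k ∧ j = l
          · obtain ⟨rfl, rfl⟩ := he; simp
          · rw [if_neg he, if_neg (fun h => he (key k l i j hkl hij h)), mul_zero]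
        · rw [if_neg hkl, if_neg, map_zero]
          rintro ⟨rfl, rfl⟩; exact hkl hij
      have hne : (Finsupp.single i 1 + Finsupp.single j 1 : Fin n →₀ ℕ) ≠ 0 := by
        intro h; rw [h] at hdeg; simp at hdeg
      have hne1 : ∀ k : Fin n, (Finsupp.single i 1 + Finsupp.single j 1 : Fin n →₀ ℕ) ≠ Finsupp.single k 1 := by
        intro k h; rw [h] at hdeg; simp at hdeg
      rw [hP0, map_add, map_add, coeff_C, if_neg hne, map_sum, add_zero, qe, map_sum]
      rw [Finset.sum_eq_zero (s := Finset.univ) (f := fun k => coeff _ (C (ℓ k) * X k))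
        (fun k _ => by rw [coeff_C_mul, coeff_X, if_neg (hne1 k), mul_zero]), add_zero]
      simp only [map_sum, hterm]
      rw [Finset.sum_eq_single i, Finset.sum_eq_single j]
      · simp
      · intro l _ hl; simp [Ne.symm hl]
      · simp
      · intro k _ hk; simp [Ne.symm hk]
      · simp
    ext i j
    simp only [VanCyc.polarMatrix, VanCyc.quadPart]
    rcases lt_trichotomy i j with h | h | h
    · simp [h.ne, h, hc i j h.le]
    · subst h; simp only [if_true]
      rw [← hc i i le_rfl, ← Finsupp.single_add]
    · simp [h.ne', not_lt.mpr h.le, h, hc j i h.le, h.ne]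
  have hdet : IsUnit (VanCyc.polarMatrix (VanCyc.quadPart F)).det := by rw [hpol]; exact hq
  have hlin : ∀ i, coeff (Finsupp.single i 1) F ∈ I := by
    intro i
    rw [hF _ (by simp), hP0, map_add, map_add, coeff_C,
      if_neg (by simp), add_zero, map_sum]
    refine I.add_mem ?_ (I.sum_mem fun k _ => ?_)
    · rw [ord_qe (fun k => ord_X k) _ (by simp)]; exact I.zero_mem
    · rw [coeff_C_mul]; exact I.mul_mem_right _ (hℓ k)
  obtain ⟨t, ht, hcrit⟩ := exists_critical I F hdet hlin
  set G := shift I t ht F with hG
  set q' := VanCyc.quadPart G with hq'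
  set a' := constantCoeff G with ha'
  have hmodI : ∀ e, coeff e G - coeff e F ∈ I := by
    intro e
    apply Ideal.pow_le_self (one_ne_zero)
    rw [← Ideal.Quotient.eq, ← coeff_map, ← coeff_map]
    change coeff e (red I 1 _) = coeff e (red I 1 _)
    rw [red_shift, lift_congr I (t' := 0) ht (fun _ => I.zero_mem) (fun i => by simpa using ht i),
      ← red_shift, shift_eq_self I _ _ rfl]
  have ha'm : a' ∈ I := by
    have h1 := hmodI 0
    rw [hF 0 (by simp), hP0] at h1
    simp only [coeff_zero_eq_constantCoeff_apply, map_add, map_sum, map_mul,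
      constantCoeff_C, constantCoeff_X, mul_zero, Finset.sum_const_zero, add_zero,
      ord_one_iff.mp ((ord_qe (q := q) (fun k => ord_X k)).mono one_le_two), zero_add] at h1
    simpa using I.add_mem h1 ha
  have hnd : VanCyc.QuadNondeg q' := by
    have e : (VanCyc.polarMatrix q').map (Ideal.Quotient.mk I) =
        (VanCyc.polarMatrix (VanCyc.quadPart F)).map (Ideal.Quotient.mk I) := by
      ext i j
      exact Ideal.Quotient.eq.mpr (polar_congr I t ht F i j)
    have e' := congrArg Matrix.det e
    rw [← RingHom.mapMatrix_apply, ← RingHom.mapMatrix_apply, ← RingHom.map_det,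
      ← RingHom.map_det, Ideal.Quotient.eq] at e'
    by_contra h
    have h' : (VanCyc.polarMatrix q').det ∈ I := (IsLocalRing.mem_maximalIdeal _).mpr h
    have := I.sub_mem h' e'
    rw [sub_sub_cancel] at this
    exact (IsLocalRing.mem_maximalIdeal _).mp this hdet
  -- F after translation is Q' + a' up to order three
  have hlow : Ord 3 (G - (qe q' X + C a')) := by
    have hc : ∀ j k, constantCoeff (dec k (dec j G)) = q' j k := by
      intro j k
      rw [← coeff_zero_eq_constantCoeff_apply, coeff_dec, if_pos (by simp), zero_add, coeff_dec]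
      simp only [hq', VanCyc.quadPart]
      rcases lt_trichotomy j k with h | h | h
      · rw [if_pos, if_neg h.ne, if_pos h, add_comm]
        intro l hl; exact Finsupp.single_eq_of_ne (hl.trans h).ne
      · subst h
        rw [if_pos, if_pos rfl, ← Finsupp.single_add]
        intro l hl; exact Finsupp.single_eq_of_ne hl.ne
      · rw [if_neg, if_neg h.ne', if_neg (not_lt.mpr h.le)]
        intro hl; simpa using hl k h
    have hg : ∀ j, constantCoeff (dec j G) = 0 := by
      intro j
      rw [← coeff_zero_eq_constantCoeff_apply, coeff_dec, zero_add]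
      simpa using hcrit j
    have hz : ∀ j k, ¬ j ≤ k → q' j k = 0 := by
      intro j k h
      simp only [hq', VanCyc.quadPart]
      rw [if_neg (fun e => h e.le), if_neg (fun e => h e.le)]
    have expand : G - (qe q' X + C a') =
        ∑ j, ∑ k, X j * (X k * ∑ l, X l * dec l (dec k (dec j G))) := by
      conv_lhs => rw [eq_C_add_sum_dec G, ← ha', add_comm (qe q' X), add_sub_add_left_eq_sub]
      rw [qe, ← Finset.sum_sub_distrib]
      refine Finset.sum_congr rfl fun j _ => ?_
      conv_lhs => rw [eq_C_add_sum_dec (dec j G), hg, map_zero, zero_add, Finset.mul_sum,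
        ← Finset.sum_sub_distrib]
      refine Finset.sum_congr rfl fun k _ => ?_
      conv_lhs => rw [eq_C_add_sum_dec (dec k (dec j G)), hc]
      split_ifs with h
      · ring
      · rw [hz j k h, map_zero]; ring
    rw [expand]
    refine Ord.sum fun j _ => Ord.sum fun k _ => ?_
    exact (ord_X j).mul ((ord_X k).mul
      (Ord.sum fun l _ => (ord_X l).mul_right (dec l (dec k (dec j G)))))
  obtain ⟨h, -, -, -, ⟨e⟩⟩ := Groth.Agent.S16230.result A n 2 le_rfl q' hnd a' G (fun d hd => by
    have := hlow d (Nat.lt_succ_of_le hd)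
    rw [map_sub, sub_eq_zero] at this
    rw [this, MvPolynomial.coe_add, MvPolynomial.coe_C, coe_quadPoly])
  obtain ⟨e0⟩ := quot_equiv (shiftEquiv I t ht) (F := F) (F' := G) rfl
  exact ⟨a', q', ha'm, hnd, ⟨e0.trans e⟩⟩

end Groth.Agent.S16231
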