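import Groth.Statements.S16232
import Groth.Agent.H26Tame.Galois
import Groth.Agent.H3CAlg.TameKummer

set_option autoImplicit false
universe u v
open VanCyc

namespace Groth.Agent.S16232

/-- Let R be a strictly Henselian discrete valuation ring (Henselian, with separably closed residue
field), K its fraction field, Ω a separable closure of K and G the group of K-algebra automorphisms
of Ω; let r ≥ 1 be an integer invertible in the residue field of R, ϖ a uniformizer of R and ρ an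
r-th root of ϖ in Ω, so that the fundamental character χ : G → μ_r(Ω) is σ ↦ σ(ρ)/ρ. Then every
homomorphism φ of the abstract group G into an abelian group M with rM = 0 factors uniquely through
χ: there is exactly one homomorphism u : μ_r(Ω) → M with φ(σ) = u(χ(σ)) for every σ in G.
(Homomorphisms are written as maps respecting the group laws; χ(σ) is the root of unity ζ with ζρ =
σ(ρ).) -/
theorem result
    (R : Type u) [CommRing R] [IsDomain R] [IsDiscreteValuationRing R] [HenselianLocalRing R]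
    [IsSepClosed (IsLocalRing.ResidueField R)]
    (K : Type u) [Field K] [Algebra R K] [IsFractionRing R K]
    (Ω : Type u) [Field Ω] [Algebra K Ω] [IsSepClosure K Ω]
    (r : ℕ) [NeZero r] (hr : IsUnit (r : IsLocalRing.ResidueField R))
    (ϖ : R) (hϖ : Irreducible ϖ) (ρ : Ω) (hρ : ρ ^ r = algebraMap K Ω (algebraMap R K ϖ))
    (M : Type v) [AddCommGroup M] (hM : ∀ x : M, r • x = 0)
    (φ : (Ω ≃ₐ[K] Ω) → M) (hφ : ∀ σ τ : Ω ≃ₐ[K] Ω, φ (σ * τ) = φ σ + φ τ) :
    ∃! u : ↥(rootsOfUnity r Ω) → M, (∀ ζ ξ : ↥(rootsOfUnity r Ω), u (ζ * ξ) = u ζ + u ξ) ∧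
      ∀ (σ : Ω ≃ₐ[K] Ω) (ζ : ↥(rootsOfUnity r Ω)), ((ζ : Ωˣ) : Ω) * ρ = σ ρ → φ σ = u ζ := by
    classical
    obtain ⟨ζ₀, hζ⟩ := H26Tame.exists_primitiveRoot (R := R) hr
    haveI : IsGalois K Ω := ⟨⟩
    have hr0 : r ≠ 0 := NeZero.ne r
    have hϖ0 : algebraMap K Ω (algebraMap R K ϖ) ≠ 0 := by simpa using hϖ.ne_zero
    have hρ0 : ρ ≠ 0 := fun h => hϖ0 (by rw [← hρ, h, zero_pow hr0])
    have hζE := (hζ.map_of_injective (IsFractionRing.injective R K)).map_of_injective (algebraMap K Ω).injective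
    have hfix : ∀ (σ : Ω ≃ₐ[K] Ω) (z : Ω), z ^ r = 1 → σ z = z := fun σ z hz => by
      obtain ⟨i, -, rfl⟩ := hζE.eq_pow_of_pow_eq_one hz
      rw [map_pow, σ.commutes]
    have hexσ : ∀ z : Ω, z ^ r = 1 → ∃ σ : Ω ≃ₐ[K] Ω, σ ρ = z * ρ := fun z hz => by
      refine minpoly.exists_algEquiv_of_root' (Algebra.IsIntegral.isIntegral ρ).isAlgebraic ?_
      rw [← minpoly.eq_of_irreducible_of_monic (H3CAlg.TameKummer.irreducible_X_pow_sub (O := R) (K := K) hϖ (NeZero.pos r))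
        (by simp [hρ]) (Polynomial.monic_X_pow_sub_C _ hr0)]
      simp [mul_pow, hz, hρ]
    have hpow : ∀ ζ : ↥(rootsOfUnity r Ω), (((ζ : Ωˣ) : Ω)) ^ r = 1 := fun ζ => by
      have h := ζ.2
      rw [mem_rootsOfUnity] at h
      rw [← Units.val_pow_eq_pow_val, h, Units.val_one]
    obtain ⟨g₁, hg₁⟩ := hexσ _ hζE.pow_eq_one
    have h1 : φ 1 = 0 := by
      have := hφ 1 1
      rwa [one_mul, left_eq_add] at this
    have hpowφ : ∀ (x : Ω ≃ₐ[K] Ω) (n : ℕ), φ (x ^ n) = n • φ x := fun x n => by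
      induction n with
      | zero => rw [pow_zero, h1, zero_smul]
      | succ n ih => rw [pow_succ, hφ, ih, succ_nsmul]
    have hker : ∀ h : Ω ≃ₐ[K] Ω, h ρ = ρ → φ h = 0 := fun h hh => by
      obtain ⟨x, y, rfl⟩ := H26Tame.exists_pow_mul_pow_absGalois hr hζ hρ0 hρ hg₁ hh
      rw [hφ, hpowφ, hpowφ, hM, hM, add_zero]
    have heq : ∀ σ τ : Ω ≃ₐ[K] Ω, σ ρ = τ ρ → φ σ = φ τ := fun σ τ h => by
      have h2 := hker (τ⁻¹ * σ) (by rw [AlgEquiv.mul_apply, h, ← AlgEquiv.mul_apply, inv_mul_cancel, AlgEquiv.one_apply])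
      rw [← mul_inv_cancel_left τ σ, hφ, h2, add_zero]
    choose σ hσ using fun ζ : ↥(rootsOfUnity r Ω) => hexσ _ (hpow ζ)
    refine ⟨fun ζ => φ (σ ζ), ⟨fun ζ ξ => ?_, fun τ ζ h => heq _ _ (h.symm.trans (hσ ζ).symm)⟩, ?_⟩
    · show φ (σ (ζ * ξ)) = φ (σ ζ) + φ (σ ξ)
      rw [← hφ]
      refine heq _ _ ?_
      rw [AlgEquiv.mul_apply, hσ ξ, map_mul, hfix _ _ (hpow ξ), hσ, hσ, Subgroup.coe_mul, Units.val_mul]
      ring
    · rintro v ⟨-, hv⟩
      funext ζ
      exact (hv (σ ζ) ζ (hσ ζ).symm).symm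

end Groth.Agent.S16232
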