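import Groth.Statements.S16233
import Groth.Agent.H20Tr.Basic

set_option autoImplicit false
open NCTr

namespace Groth.Agent.S16233

/-- Let Λ be a ring, not necessarily commutative, G a finite group, P a left Λ[G]-module with a finite
Λ[G]-basis b, regarded also as a Λ-module by restriction of scalars and equipped with any finite
Λ-basis c, and u a Λ[G]-linear endomorphism of P with diagonal matrix entries u_ii = (b.repr (u (b
i))) i in Λ[G]. Then the trace of u as a Λ-linear endomorphism, taken in Λ modulo additive
commutators with respect to c, equals |G| times the class of the sum over i of the coefficients of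
the identity element of G in the u_ii (that sum of coefficients is the value at the identity class
of the Λ[G]-trace of u, the G-trace of u). The source states this for P finitely generated
projective over Λ[G]; this row is the free case. -/
theorem result
    (Λ : Type*) [Ring Λ] (G : Type*) [Group G] [Fintype G]
    (P : Type*) [AddCommGroup P] [Module Λ P] [Module (MonoidAlgebra Λ G) P]
    [IsScalarTower Λ (MonoidAlgebra Λ G) P]
    {ι κ : Type*} [Fintype ι] [Fintype κ]
    (b : Module.Basis ι (MonoidAlgebra Λ G) P) (c : Module.Basis κ Λ P)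
    (u : P →ₗ[MonoidAlgebra Λ G] P) :
    NCTr.hsTrace c (u.restrictScalars Λ) =
      Fintype.card G • ∑ i, (QuotientAddGroup.mk ((b.repr (u (b i)) i).coeff 1) : NCTr.Abel Λ) := by
  classical
  let τ : Λ →+ NCTr.Abel Λ := QuotientAddGroup.mk' (NCTr.commutatorSubgroup Λ)
  have hτ : ∀ a a', τ (a * a') = τ (a' * a) := fun a a' => by
    rw [← sub_eq_zero, ← map_sub]
    exact (QuotientAddGroup.eq_zero_iff _).mpr (AddSubgroup.subset_closure ⟨a, a', rfl⟩)
  have hrepr : ∀ (r : Λ) (x : P), b.repr (r • x) = (MonoidAlgebra.single (1 : G) r) • b.repr x := fun r x => by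
    have h1 : r • x = (MonoidAlgebra.single (1 : G) r) • x := by
      rw [show MonoidAlgebra.single (1 : G) r = r • (1 : MonoidAlgebra Λ G) by
        rw [MonoidAlgebra.one_def, MonoidAlgebra.smul_single, smul_eq_mul, mul_one], smul_assoc, one_smul]
    rw [h1, map_smul]
  let φ : G × ι → P →ₗ[Λ] Λ := fun a =>
    { toFun := fun x => (b.repr x a.2).coeff a.1
      map_add' := fun x y => by simp
      map_smul' := fun r x => by
        rw [hrepr, Finsupp.smul_apply, smul_eq_mul, MonoidAlgebra.coeff_single_mul_apply, inv_one, one_mul]
        rfl }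
  let x : G × ι → P := fun a => MonoidAlgebra.single a.1 (1 : Λ) • b a.2
  have hsys : ∀ v : P, ∑ a, φ a v • x a = v := by
    intro v
    conv_rhs => rw [← b.sum_repr v]
    rw [Fintype.sum_prod_type, Finset.sum_comm]
    refine Finset.sum_congr rfl fun i _ => ?_
    have hd : ∑ c : G, (b.repr v i).coeff c • MonoidAlgebra.single c (1 : Λ) = b.repr v i := by
      ext h
      simp [MonoidAlgebra.coeff_sum, Finsupp.single_apply]
    conv_rhs => rw [← hd, Finset.sum_smul]
    exact Finset.sum_congr rfl fun h _ => (smul_assoc _ _ _).symm
  show ∑ j, τ (c.repr ((u.restrictScalars Λ) (c j)) j) = _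
  rw [H20Tr.sum_diag_eq_of_dualSystem τ hτ c x φ hsys, Fintype.sum_prod_type]
  have hterm : ∀ (g : G) (i : ι), φ (g, i) ((u.restrictScalars Λ) (x (g, i))) = (b.repr (u (b i)) i).coeff 1 := by
    intro g i
    show (b.repr (u (MonoidAlgebra.single g (1 : Λ) • b i)) i).coeff g = _
    rw [map_smul u, map_smul b.repr, Finsupp.smul_apply, smul_eq_mul, MonoidAlgebra.coeff_single_mul_apply, one_mul,
      inv_mul_cancel]
  simp only [hterm]
  rw [Finset.sum_const, Finset.card_univ]
  rfl

end Groth.Agent.S16233
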