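import Groth.Statements.S16235
import Mathlib.Algebra.Algebra.ZMod
import Mathlib.Algebra.Order.Ring.Star
import Mathlib.Data.Int.ConditionallyCompleteOrder
import Mathlib.Data.Int.Star
import Mathlib.Order.CompletePartialOrder
import Mathlib.RingTheory.Flat.EquationalCriterion
import Mathlib.RingTheory.KrullDimension.Regular
import Mathlib.RingTheory.PowerSeries.Trunc
import Mathlib.RingTheory.Regular.Flat
import Mathlib.RingTheory.WittVector.Basic
import Mathlib.Topology.Algebra.Module.ModuleTopology
import Mathlib.Topology.Instances.Matrix

set_option autoImplicit false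
universe u
open CAlg

namespace Groth.Agent.S16235

/-- Let A be a Noetherian commutative ring and x_1, …, x_r a regular sequence on A (each x_i a
non-zero-divisor on A/(x_1, …, x_{i-1})) generating an ideal I ≠ A. Then the height of I, the
infimum of the heights of the minimal primes over I, equals r. -/
theorem result (A : Type u) [CommRing A] [IsNoetherianRing A]
    (r : ℕ) (x : Fin r → A) (hx : RingTheory.Sequence.IsWeaklyRegular A (List.ofFn x))
    (hI : Ideal.span (Set.range x) ≠ ⊤) :
    (Ideal.span (Set.range x)).height = r := by
  apply le_antisymm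
  · refine (Ideal.height_le_spanFinrank _ hI).trans ?_
    have h := Submodule.spanFinrank_span_le_ncard_of_finite (R := A) (Set.finite_range x)
    have h2 : (Set.range x).ncard ≤ r := by
      rw [← Nat.card_coe_set_eq]; exact (Finite.card_range_le x).trans (by simp)
    exact_mod_cast h.trans h2
  · rw [Ideal.height_eq_inf_minimalPrimes]
    refine le_iInf₂ fun J hJ => ?_
    have := hJ.1.1
    have hmem : ∀ a ∈ List.ofFn x, a ∈ J := by
      intro a ha
      obtain ⟨i, rfl⟩ := List.mem_ofFn.mp ha
      exact hJ.1.2 (Ideal.subset_span ⟨i, rfl⟩)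
    have hreg := hx.isRegular_of_isLocalization_of_mem (S := Localization.AtPrime J) J hmem
    have key := ringKrullDim_add_length_eq_ringKrullDim_of_isRegular _ hreg
    simp only [List.length_map, List.length_ofFn] at key
    have hnt : Nontrivial (Localization.AtPrime J ⧸ Ideal.ofList ((List.ofFn x).map (algebraMap A (Localization.AtPrime J)))) := by
      rw [Ideal.Quotient.nontrivial_iff]
      intro hc
      exact hreg.top_ne_smul (by rw [hc, Submodule.top_smul])
    have h0 : (0 : WithBot ℕ∞) ≤ ringKrullDim (Localization.AtPrime J ⧸ Ideal.ofList ((List.ofFn x).map (algebraMap A (Localization.AtPrime J)))) := ringKrullDim_nonneg_of_nontrivial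
    rw [IsLocalization.AtPrime.ringKrullDim_eq_height J (Localization.AtPrime J)] at key
    have h3 : ((r : ℕ∞) : WithBot ℕ∞) ≤ (J.height : WithBot ℕ∞) := by
      rw [← key]
      calc ((r : ℕ∞) : WithBot ℕ∞) = 0 + (r : WithBot ℕ∞) := by simp
        _ ≤ _ := by gcongr
    exact WithBot.coe_le_coe.mp h3

end Groth.Agent.S16235
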