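import Groth.Statements.S16237
import Groth.Agent.H16Derived.GTheory.AffineLineZero

set_option autoImplicit false
universe u
open CategoryTheory CategoryTheory.Limits AlgebraicGeometry
attribute [local instance] HasDerivedCategory.standard
open SGA6

namespace Groth.Agent.S16237

open H16Derived.GTheory TopologicalSpace

theorem range_zeroL (X : Scheme.{u}) [IsNoetherian X] :
    Set.range (zeroL X) = ((A1 X).basicOpen (tL X) : Set (A1 X))ᶜ := by
  ext x
  constructor
  · rintro ⟨y, rfl⟩ hx
    have h : y ∈ zeroL X ⁻¹ᵁ (A1 X).basicOpen (tL X) := hx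
    rw [Scheme.preimage_basicOpen, show (zeroL X).app ⊤ (tL X) = 0 from zeroL_tL X, Scheme.basicOpen_zero] at h
    exact h
  · intro hx
    by_contra hr
    refine hx ?_
    show x ∈ (A1 X).basicOpen (tL X)
    rw [Scheme.mem_basicOpen (A1 X) (tL X) x (Opens.mem_top x)]
    haveI := H16Derived.ProjFormula.subsingleton_stalk_push (zeroL X) (Coh.structureModule X) x hr
    have hsurj : Function.Surjective (H06Mod.stalkLin (mulT X) x) := fun a => by
      have h := H06Mod.stalk_exact (ShortComplex.mk (mulT X) (evalT X) (mulT_evalT X)) (shortExact_mulT X) x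
      exact (h a).1 (Subsingleton.elim _ _)
    obtain ⟨r, hr⟩ := hsurj ((Coh.structureModule (A1 X)).presheaf.germ ⊤ x (Opens.mem_top x)
      (show Γ(Coh.structureModule (A1 X), ⊤) from (1 : Γ(A1 X, ⊤))))
    obtain ⟨V, hV, r, rfl⟩ := (Coh.structureModule (A1 X)).presheaf.exists_germ_eq r
    have h := (H06Mod.stalkLin_germ (mulT X) x V hV r).symm.trans hr
    obtain ⟨W, hW, i₁, i₂, hi⟩ := TopCat.Presheaf.germ_eq (Coh.structureModule (A1 X)).presheaf x hV
      (Opens.mem_top x) _ _ h
    have h' : (A1 X).presheaf.germ V x hV r * (A1 X).presheaf.germ ⊤ x (Opens.mem_top x) (tL X) = 1 := by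
      have h1 := congrArg ((A1 X).presheaf.germ W x hW)
        (show (A1 X).presheaf.map i₁.op ((show Γ(A1 X, V) from r) *
          (A1 X).presheaf.map (homOfLE (le_top : V ≤ ⊤)).op (tL X)) = (A1 X).presheaf.map i₂.op 1 from hi)
      rw [TopCat.Presheaf.germ_res_apply, TopCat.Presheaf.germ_res_apply, map_mul,
        TopCat.Presheaf.germ_res_apply, map_one] at h1
      exact h1
    exact IsUnit.of_mul_eq_one_right _ h'

/-- Let X be a Noetherian scheme, 𝔸¹_X the affine line over X with coordinate t, and j : U ⟶ 𝔸¹_X an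
open immersion whose image is the open subset D(t) where t is invertible (so U is X × Spec ℤ[t,
t⁻¹]). Restriction along j is exact and preserves coherence (instance hypothesis and hypothesis hj);
the induced homomorphism K₀(Coh 𝔸¹_X) ⟶ K₀(Coh U) between Grothendieck groups of coherent modules is
bijective. -/
theorem result (X : Scheme.{u}) [IsNoetherian X] {U : Scheme.{u}}
    (j : U ⟶ 𝔸(ULift.{u} (Fin 1); X)) [IsOpenImmersion j]
    (hU : Set.range j = ((𝔸(ULift.{u} (Fin 1); X)).basicOpen (AffineSpace.coord X (ULift.up (0 : Fin 1))) : Set (𝔸(ULift.{u} (Fin 1); X))))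
    [PreservesFiniteLimits (Scheme.Modules.restrictFunctor j)]
    (hj : ∀ M : (𝔸(ULift.{u} (Fin 1); X)).Modules, Coh.IsCoh M → Coh.IsCoh ((Scheme.Modules.restrictFunctor j).obj M)) :
    Function.Bijective (SGA6.mapSub (Scheme.Modules.restrictFunctor j) (fun M : (𝔸(ULift.{u} (Fin 1); X)).Modules => Coh.IsCoh M)
      (fun M : (U).Modules => Coh.IsCoh M) hj) := by
  haveI := isNoetherian_A1 X
  let i := zeroL X
  haveI := (Scheme.Modules.pullbackPushforwardAdjunction i).isRightAdjoint
  haveI : (Scheme.Modules.pushforward i).Additive := Functor.additive_of_preserves_binary_products _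
  haveI : (Scheme.Modules.pushforward i).PreservesHomology := H16Derived.ProjFormula.preservesHomology_push i
  haveI : PreservesFiniteColimits (Scheme.Modules.pushforward i) :=
    (Scheme.Modules.pushforward i).preservesFiniteColimits_of_preservesHomology
  haveI : PreservesFiniteLimits (Scheme.Modules.pushforward i) :=
    (Scheme.Modules.pushforward i).preservesFiniteLimits_of_preservesHomology
  have hi : ∀ M : X.Modules, Coh.IsCoh M → Coh.IsCoh ((Scheme.Modules.pushforward i).obj M) :=
    fun M hM => H24FSch.isCoh_pushforward_of_isClosedImmersion i hM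
  have hU' : Set.range j = (Set.range i)ᶜ := by rw [range_zeroL, compl_compl]; exact hU
  refine ⟨?_, surjective_restrict j hj⟩
  rw [← AddMonoidHom.ker_eq_bot_iff, ker_restrict j i hi hU' hj, AddMonoidHom.range_eq_bot_iff]
  refine k0sub_ext fun N hN => ?_
  rw [mapSub_clSub (P := fun M : X.Modules => Coh.IsCoh M) (Q := fun M : (A1 X).Modules => Coh.IsCoh M) _ _ hN,
    AddMonoidHom.zero_apply]
  exact clSub_zeroL X hN

end Groth.Agent.S16237
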