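import Groth.Statements.S16238
import Groth.Agent.H3CAlg.TorRegular

set_option autoImplicit false
universe u
open CategoryTheory
open CAlg

namespace Groth.Agent.S16238

/-- Let A be a Noetherian local ring, x_1, …, x_n a regular sequence on A (each x_i a non-zero-divisor
on A/(x_1, …, x_{i-1})) generating the ideal I, and J an ideal with I + J ≠ A. Then the images of
x_1, …, x_n form a regular sequence on A/J if and only if Tor_i^A(A/I, A/J) = 0 for all i ≥ 1 (in
degree 0 the Tor is A/(I + J) in any case). (The published statement does not ask the x_i to form a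
regular sequence on A itself; without this the equivalence fails, for instance for A = k[e]/(e²), n
= 1, x_1 = e and J = 0, where every higher Tor of A/(e) against the free module A vanishes although
e is a zero-divisor.) -/
theorem result (A : Type u) [CommRing A] [IsNoetherianRing A] [IsLocalRing A]
    (n : ℕ) (x : Fin n → A) (hx : RingTheory.Sequence.IsWeaklyRegular A (List.ofFn x))
    (J : Ideal A) (hIJ : Ideal.span (Set.range x) ⊔ J ≠ ⊤) :
    RingTheory.Sequence.IsWeaklyRegular (A ⧸ J) (List.ofFn (fun i : Fin n => Ideal.Quotient.mk J (x i))) ↔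
      ∀ i : ℕ, 1 ≤ i → Limits.IsZero (((Tor (ModuleCat.{u} A) i).obj
        (ModuleCat.of A (A ⧸ Ideal.span (Set.range x)))).obj (ModuleCat.of A (A ⧸ J))) := by
  have hmax : ∀ i, x i ∈ IsLocalRing.maximalIdeal A := fun i ↦
    IsLocalRing.le_maximalIdeal hIJ (Ideal.mem_sup_left (Ideal.subset_span (Set.mem_range_self i)))
  have hlen : (List.ofFn x).length = n := List.length_ofFn
  let I : ℕ → Ideal A := fun k ↦ Ideal.ofList ((List.ofFn x).take k)
  let y : ℕ → A := fun k ↦ if h : k < n then x ⟨k, h⟩ else 0
  have hget : ∀ (k : ℕ) (hk : k < n), y k = (List.ofFn x)[k]'(hlen.symm ▸ hk) := fun k hk ↦ by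
    simp [y, hk]
  have hIn : I n = Ideal.span (Set.range x) := by
    show Ideal.ofList _ = _
    rw [List.take_of_length_le hlen.le]
    refine congrArg Ideal.span ?_
    ext r
    simp [List.mem_ofFn']
  have hI : ∀ k < n, I (k + 1) = I k ⊔ Ideal.span {y k} := fun k hk ↦ by
    show Ideal.ofList _ = Ideal.ofList _ ⊔ _
    rw [List.take_succ_eq_append_getElem (hlen.symm ▸ hk), Ideal.ofList_append,
      Ideal.ofList_singleton, hget k hk]
  have hregA : ∀ (k : ℕ) (hk : k < n) (a : A), y k * a ∈ I k → a ∈ I k := by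
    intro k hk a ha
    have := hx.regular_mod_prev k (hlen.symm ▸ hk)
    rw [isSMulRegular_quotient_iff_mem_of_smul_mem, smul_eq_mul, Ideal.mul_top] at this
    exact this a (by rw [smul_eq_mul, ← hget k hk]; exact ha)
  have hquot : RingTheory.Sequence.IsWeaklyRegular (A ⧸ J)
      (List.ofFn fun i : Fin n => Ideal.Quotient.mk J (x i)) ↔
      ∀ k < n, ∀ a, y k * a ∈ I k ⊔ J → a ∈ I k ⊔ J := by
    rw [show (List.ofFn fun i : Fin n => Ideal.Quotient.mk J (x i)) =
      (List.ofFn x).map (algebraMap A (A ⧸ J)) by rw [List.map_ofFn]; rfl,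
      RingTheory.Sequence.isWeaklyRegular_map_algebraMap_iff,
      RingTheory.Sequence.isWeaklyRegular_iff]
    have hmem : ∀ (k : ℕ) (a : A), Ideal.Quotient.mk J a ∈
        (Ideal.ofList ((List.ofFn x).take k) • ⊤ : Submodule A (A ⧸ J)) ↔ a ∈ I k ⊔ J := by
      intro k a
      have : (Ideal.ofList ((List.ofFn x).take k) • ⊤ : Submodule A (A ⧸ J)) =
          Submodule.map (Submodule.mkQ J) (I k) := by
        conv_rhs => rw [← Ideal.mul_top (I k), ← smul_eq_mul, Submodule.map_smul'',
          Submodule.map_top, Submodule.range_mkQ]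
      rw [this]
      show a ∈ Submodule.comap (Submodule.mkQ J) (Submodule.map (Submodule.mkQ J) (I k)) ↔ _
      rw [Submodule.comap_map_mkQ, sup_comm]
    constructor
    · intro h k hk a ha
      have := h k (hlen.symm ▸ hk)
      rw [isSMulRegular_quotient_iff_mem_of_smul_mem] at this
      refine (hmem k a).mp (this (Ideal.Quotient.mk J a) ?_)
      rw [← hget k hk, Algebra.smul_def, Ideal.Quotient.algebraMap_eq, ← map_mul]
      exact (hmem k _).mpr ha
    · intro h k hk
      have hk' : k < n := hlen ▸ hk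
      rw [isSMulRegular_quotient_iff_mem_of_smul_mem]
      intro b hb
      obtain ⟨a, rfl⟩ := Ideal.Quotient.mk_surjective b
      rw [← hget k hk', Algebra.smul_def, Ideal.Quotient.algebraMap_eq, ← map_mul] at hb
      exact (hmem k a).mpr (h k hk' a ((hmem k _).mp hb))
  rw [hquot, Groth.Agent.H3CAlg.Tor.regular_iff_tor_vanishing J n I y
    (by simp [I]) hI (fun k hk ↦ by
      rw [IsLocalRing.jacobson_eq_maximalIdeal ⊥ bot_ne_top]; simp only [y, dif_pos hk]; exact hmax _)
    hregA, hIn]
  constructor
  · intro h i hi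
    obtain ⟨i, rfl⟩ := Nat.exists_eq_succ_of_ne_zero (Nat.one_le_iff_ne_zero.mp hi)
    exact h i
  · exact fun h i ↦ h (i + 1) (Nat.le_add_left _ _)

end Groth.Agent.S16238
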