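import Groth.Statements.S16240
import Groth.Agent.H10Coh.RegSyz.Basic
-- import your own Groth.Agent.* helpers here

set_option autoImplicit false
universe u
open CategoryTheory CategoryTheory.Limits AlgebraicGeometry
open Coh

namespace Groth.Agent.S16240

/-- Let X be a Noetherian scheme all of whose local rings are regular, of (topological Krull) dimension
at most m, and let S be an exact sequence of O_X-modules G ⟶ E_m ⟶ ⋯ ⟶ E_1 ⟶ F with m + 2 terms (G
in position 0, F in position m + 1), injective at the first map and surjective at the last, in which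
F is coherent and E_1, …, E_m are finite locally free. Then G is finite locally free. (The source
asks for p + 1 vector bundles with p ≥ dim X − 1, i.e. at least dim X of them, and finite dimension;
here m bounds the dimension.) -/
theorem result (X : Scheme.{u}) [IsNoetherian X]
    (hreg : ∀ x : X, IsRegularLocalRing (X.presheaf.stalk x)) (m : ℕ)
    (hdim : topologicalKrullDim ↥X ≤ (m : WithBot ℕ∞))
    (S : ComposableArrows X.Modules (m + 1)) (hS : S.Exact)
    (hmono : Mono (S.map' 0 1 (Nat.zero_le 1) (Nat.le_add_left 1 m)))
    (hepi : Epi (S.map' m (m + 1) (Nat.le_succ m) (le_refl (m + 1))))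
    (hE : ∀ i : Fin m, FlatMod.IsFinLocFree (S.obj ⟨i.1 + 1, Nat.succ_lt_succ (Nat.lt_succ_of_lt i.2)⟩))
    (hF : Coh.IsCoh (S.obj (Fin.last (m + 1)))) :
    FlatMod.IsFinLocFree (S.obj 0) := by
  exact Groth.Agent.H10Coh.RegSyz.isFinLocFree_first hreg hdim S hS hmono hepi hE hF

end Groth.Agent.S16240
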