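import Groth.Statements.S16242
import Groth.Agent.H27KZero.Node
import Mathlib

set_option autoImplicit false
universe u
open CategoryTheory
open KZero

namespace Groth.Agent.S16242

/-- Let k be a field and A = k[x, y]/(xy) (polynomial ring in two variables x = X_0, y = X_1 modulo xy).
In the Grothendieck group of finitely generated A-modules (free abelian group on them modulo short
exact sequences), the classes of A/(x) ≅ k[y] and A/(y) ≅ k[x] form a basis: the homomorphism ℤ × ℤ
⟶ K₀ sending (a, b) to a·[A/(x)] + b·[A/(y)] is bijective. -/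
theorem result (k : Type u) [Field k] :
    Function.Bijective (fun p : ℤ × ℤ =>
      p.1 • KZero.clSub (fun M : ModuleCat.{u} (MvPolynomial (Fin 2) k ⧸ Ideal.span {(MvPolynomial.X 0 * MvPolynomial.X 1 : MvPolynomial (Fin 2) k)}) => Module.Finite (MvPolynomial (Fin 2) k ⧸ Ideal.span {(MvPolynomial.X 0 * MvPolynomial.X 1 : MvPolynomial (Fin 2) k)}) M)
          (ModuleCat.of (MvPolynomial (Fin 2) k ⧸ Ideal.span {(MvPolynomial.X 0 * MvPolynomial.X 1 : MvPolynomial (Fin 2) k)}) ((MvPolynomial (Fin 2) k ⧸ Ideal.span {(MvPolynomial.X 0 * MvPolynomial.X 1 : MvPolynomial (Fin 2) k)}) ⧸ Ideal.span {Ideal.Quotient.mk (Ideal.span {(MvPolynomial.X 0 * MvPolynomial.X 1 : MvPolynomial (Fin 2) k)}) (MvPolynomial.X 0)})) +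
        p.2 • KZero.clSub (fun M : ModuleCat.{u} (MvPolynomial (Fin 2) k ⧸ Ideal.span {(MvPolynomial.X 0 * MvPolynomial.X 1 : MvPolynomial (Fin 2) k)}) => Module.Finite (MvPolynomial (Fin 2) k ⧸ Ideal.span {(MvPolynomial.X 0 * MvPolynomial.X 1 : MvPolynomial (Fin 2) k)}) M)
          (ModuleCat.of (MvPolynomial (Fin 2) k ⧸ Ideal.span {(MvPolynomial.X 0 * MvPolynomial.X 1 : MvPolynomial (Fin 2) k)}) ((MvPolynomial (Fin 2) k ⧸ Ideal.span {(MvPolynomial.X 0 * MvPolynomial.X 1 : MvPolynomial (Fin 2) k)}) ⧸ Ideal.span {Ideal.Quotient.mk (Ideal.span {(MvPolynomial.X 0 * MvPolynomial.X 1 : MvPolynomial (Fin 2) k)}) (MvPolynomial.X 1)}))) := by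
  exact Groth.Agent.H27KZero.Node.bijective k

end Groth.Agent.S16242
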