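import Groth.Statements.S16243
import Groth.Agent.H3CAlg.TorNode
import Mathlib.Algebra.MvPolynomial.Division
import Mathlib.RingTheory.Henselian
import Mathlib.RingTheory.RegularLocalRing.Defs
import Mathlib.RingTheory.SimpleRing.Principal
import Mathlib.Tactic.LinearCombination
import Mathlib.Tactic.Ring

set_option autoImplicit false
universe u
open CategoryTheory
open CAlg

namespace Groth.Agent.S16243

/-- Let k be a field, A = k[x, y]/(xy) (x = X_0, y = X_1) and κ = A/(x, y) the residue field at the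
origin, viewed as an A-module. Then for every i ≥ 1 the A-module Tor_i^A(κ, κ) has length 2 (it is a
two-dimensional κ-vector space; Tor_0 is κ), and κ admits no finite projective resolution over A:
for no n is its projective dimension less than n. -/
theorem result (k : Type u) [Field k] :
    (∀ i : ℕ, 1 ≤ i →
      Module.length (MvPolynomial (Fin 2) k ⧸ Ideal.span {(MvPolynomial.X 0 * MvPolynomial.X 1 : MvPolynomial (Fin 2) k)}) ((((Tor (ModuleCat.{u} (MvPolynomial (Fin 2) k ⧸ Ideal.span {(MvPolynomial.X 0 * MvPolynomial.X 1 : MvPolynomial (Fin 2) k)})) i).obj (ModuleCat.of (MvPolynomial (Fin 2) k ⧸ Ideal.span {(MvPolynomial.X 0 * MvPolynomial.X 1 : MvPolynomial (Fin 2) k)}) ((MvPolynomial (Fin 2) k ⧸ Ideal.span {(MvPolynomial.X 0 * MvPolynomial.X 1 : MvPolynomial (Fin 2) k)}) ⧸ Ideal.span {Ideal.Quotient.mk (Ideal.span {(MvPolynomial.X 0 * MvPolynomial.X 1 : MvPolynomial (Fin 2) k)}) (MvPolynomial.X 0), Ideal.Quotient.mk (Ideal.span {(MvPolynomial.X 0 * MvPolynomial.X 1 :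 MvPolynomial (Fin 2) k)}) (MvPolynomial.X 1)}))).obj (ModuleCat.of (MvPolynomial (Fin 2) k ⧸ Ideal.span {(MvPolynomial.X 0 * MvPolynomial.X 1 : MvPolynomial (Fin 2) k)}) ((MvPolynomial (Fin 2) k ⧸ Ideal.span {(MvPolynomial.X 0 * MvPolynomial.X 1 : MvPolynomial (Fin 2) k)}) ⧸ Ideal.span {Ideal.Quotient.mk (Ideal.span {(MvPolynomial.X 0 * MvPolynomial.X 1 : MvPolynomial (Fin 2) k)}) (MvPolynomial.X 0), Ideal.Quotient.mk (Ideal.span {(MvPolynomial.X 0 * MvPolynomial.X 1 : MvPolynomial (Fin 2) k)}) (MvPolynomial.X 1)}))) : Type u) = 2) ∧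
    ∀ n : ℕ, ¬ HasProjectiveDimensionLT (ModuleCat.of (MvPolynomial (Fin 2) k ⧸ Ideal.span {(MvPolynomial.X 0 * MvPolynomial.X 1 : MvPolynomial (Fin 2) k)}) ((MvPolynomial (Fin 2) k ⧸ Ideal.span {(MvPolynomial.X 0 * MvPolynomial.X 1 : MvPolynomial (Fin 2) k)}) ⧸ Ideal.span {Ideal.Quotient.mk (Ideal.span {(MvPolynomial.X 0 * MvPolynomial.X 1 : MvPolynomial (Fin 2) k)}) (MvPolynomial.X 0), Ideal.Quotient.mk (Ideal.span {(MvPolynomial.X 0 * MvPolynomial.X 1 : MvPolynomial (Fin 2) k)}) (MvPolynomial.X 1)})) n := by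
  obtain ⟨P, hP⟩ : ∃ P : Ideal (MvPolynomial (Fin 2) k),
      P = Ideal.span {(MvPolynomial.X 0 * MvPolynomial.X 1 : MvPolynomial (Fin 2) k)} := ⟨_, rfl⟩
  rw [← hP]
  have hprime : ∀ i : Fin 2, Prime (MvPolynomial.X i : MvPolynomial (Fin 2) k) := fun i => MvPolynomial.X_prime (i := i)
  have hndvd : ∀ i j : Fin 2, i ≠ j → ¬ (MvPolynomial.X i : MvPolynomial (Fin 2) k) ∣ MvPolynomial.X j := fun i j hij h => hij (MvPolynomial.X_dvd_X.mp h)
  refine Groth.Agent.H3CAlg.TorNode.main (Ideal.Quotient.mk P (MvPolynomial.X 0))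
    (Ideal.Quotient.mk P (MvPolynomial.X 1)) ?_ ?_ ?_
  · rw [← map_mul, Ideal.Quotient.eq_zero_iff_mem, hP]
    exact Ideal.mem_span_singleton_self _
  · intro a b h
    obtain ⟨a, rfl⟩ := Ideal.Quotient.mk_surjective a
    obtain ⟨b, rfl⟩ := Ideal.Quotient.mk_surjective b
    rw [← map_mul, ← map_mul, ← map_add, Ideal.Quotient.eq_zero_iff_mem, hP, Ideal.mem_span_singleton] at h
    obtain ⟨c, hc⟩ := h
    have hb : (MvPolynomial.X 0 : MvPolynomial (Fin 2) k) ∣ b :=
      ((hprime 0).dvd_or_dvd (⟨MvPolynomial.X 1 * c - a, by linear_combination hc⟩ :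
        (MvPolynomial.X 0 : MvPolynomial (Fin 2) k) ∣ b * MvPolynomial.X 1)).resolve_right (hndvd 0 1 (by decide))
    have ha : (MvPolynomial.X 1 : MvPolynomial (Fin 2) k) ∣ a :=
      ((hprime 1).dvd_or_dvd (⟨MvPolynomial.X 0 * c - b, by linear_combination hc⟩ :
        (MvPolynomial.X 1 : MvPolynomial (Fin 2) k) ∣ a * MvPolynomial.X 0)).resolve_right (hndvd 1 0 (by decide))
    constructor
    · obtain ⟨d, rfl⟩ := ha
      rw [map_mul]; exact Ideal.mem_span_singleton.mpr (dvd_mul_right _ _)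
    · obtain ⟨d, rfl⟩ := hb
      rw [map_mul]; exact Ideal.mem_span_singleton.mpr (dvd_mul_right _ _)
  · have hspan : Ideal.span {Ideal.Quotient.mk P (MvPolynomial.X 0), Ideal.Quotient.mk P (MvPolynomial.X 1)} =
        (Ideal.span {(MvPolynomial.X 0 : MvPolynomial (Fin 2) k), MvPolynomial.X 1}).map (Ideal.Quotient.mk P) := by
      rw [Ideal.map_span, Set.image_pair]
    show (Ideal.span _).IsMaximal
    rw [hspan]
    have hker : Ideal.span {(MvPolynomial.X 0 : MvPolynomial (Fin 2) k), MvPolynomial.X 1} =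
        RingHom.ker (MvPolynomial.constantCoeff : MvPolynomial (Fin 2) k →+* k) := by
      refine le_antisymm (Ideal.span_le.mpr ?_) fun f hf => ?_
      · rintro _ (rfl | rfl) <;> simp
      · have key : ∀ q : MvPolynomial (Fin 2) k, q - MvPolynomial.C (MvPolynomial.constantCoeff q) ∈
            Ideal.span {(MvPolynomial.X 0 : MvPolynomial (Fin 2) k), MvPolynomial.X 1} := by
          intro q
          induction q using MvPolynomial.induction_on with
          | C a => simp
          | add q r hq hr =>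
            convert Ideal.add_mem _ hq hr using 1
            rw [map_add, map_add]; ring
          | mul_X q i hq =>
            have hX : (MvPolynomial.X i : MvPolynomial (Fin 2) k) ∈
                Ideal.span {(MvPolynomial.X 0 : MvPolynomial (Fin 2) k), MvPolynomial.X 1} := by
              fin_cases i <;> exact Ideal.subset_span (by simp)
            simpa using Ideal.mul_mem_left _ q hX
        have h := key f
        rwa [RingHom.mem_ker.mp hf, map_zero, sub_zero] at h
    have hmax : (Ideal.span {(MvPolynomial.X 0 : MvPolynomial (Fin 2) k), MvPolynomial.X 1}).IsMaximal := by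
      rw [hker]
      exact RingHom.ker_isMaximal_of_surjective _ fun c => ⟨MvPolynomial.C c, MvPolynomial.constantCoeff_C _ c⟩
    refine Ideal.IsMaximal.map_of_surjective_of_ker_le Ideal.Quotient.mk_surjective ?_
    rw [Ideal.mk_ker, hP, Ideal.span_singleton_le_iff_mem]
    exact Ideal.mul_mem_right _ _ (Ideal.subset_span (by simp))

end Groth.Agent.S16243
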