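import Groth.Statements.S16244
import Mathlib.RingTheory.IntegralDomain
import Mathlib.RingTheory.RootsOfUnity.AlgebraicallyClosed
import Mathlib.Tactic.NormNum

set_option autoImplicit false
universe u
open Curves

namespace Groth.Agent.S16244

/-- Let k be an algebraically closed field in which 2 and 3 are nonzero, and W a short Weierstrass
equation y² = x³ + a₄x + a₆ over k with nonzero discriminant. The admissible changes of variables
(u, r, s, t) that fix W form a cyclic group, of order 6 when a₄ = 0, of order 4 when a₆ = 0, and of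
order 2 when a₄ and a₆ are both nonzero. (The published statement says the automorphism group of the
elliptic curve is cyclic of order 2, 4 or 6; the automorphisms are rendered here as the changes of
variables preserving the equation, and the case distinction is the one the computation gives.) -/
theorem result
    (k : Type u) [Field k] [IsAlgClosed k] (h2 : (2 : k) ≠ 0) (h3 : (3 : k) ≠ 0)
    (W : WeierstrassCurve k) [W.IsShortNF] (hΔ : W.Δ ≠ 0) :
    IsCyclic ↥(MulAction.stabilizer (WeierstrassCurve.VariableChange k) W) ∧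
      (W.a₄ = 0 → Nat.card ↥(MulAction.stabilizer (WeierstrassCurve.VariableChange k) W) = 6) ∧
      (W.a₆ = 0 → Nat.card ↥(MulAction.stabilizer (WeierstrassCurve.VariableChange k) W) = 4) ∧
      (W.a₄ ≠ 0 → W.a₆ ≠ 0 → Nat.card ↥(MulAction.stabilizer (WeierstrassCurve.VariableChange k) W) = 2) := by
  have hstab : ∀ C : WeierstrassCurve.VariableChange k,
      C ∈ MulAction.stabilizer (WeierstrassCurve.VariableChange k) W ↔
        (C.r = 0 ∧ C.s = 0 ∧ C.t = 0 ∧
          ((C.u⁻¹ : kˣ) : k) ^ 4 * W.a₄ = W.a₄ ∧ ((C.u⁻¹ : kˣ) : k) ^ 6 * W.a₆ = W.a₆) := by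
    intro C
    rw [MulAction.mem_stabilizer_iff]
    constructor
    · intro h
      have e1 := congrArg WeierstrassCurve.a₁ h
      have e2 := congrArg WeierstrassCurve.a₂ h
      have e3 := congrArg WeierstrassCurve.a₃ h
      have e4 := congrArg WeierstrassCurve.a₄ h
      have e6 := congrArg WeierstrassCurve.a₆ h
      simp only [WeierstrassCurve.variableChange_def, WeierstrassCurve.IsShortNF.a₁,
        WeierstrassCurve.IsShortNF.a₂, WeierstrassCurve.IsShortNF.a₃] at e1 e2 e3 e4 e6
      have hs : C.s = 0 := by simpa [h2] using e1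
      have hr : C.r = 0 := by simpa [hs, h3] using e2
      have ht : C.t = 0 := by simpa [hr, h2] using e3
      exact ⟨hr, hs, ht, by simpa [hr, hs, ht] using e4, by simpa [hr, hs, ht] using e6⟩
    · rintro ⟨hr, hs, ht, e4, e6⟩
      rw [WeierstrassCurve.variableChange_def]
      ext <;> simp [hr, hs, ht, WeierstrassCurve.IsShortNF.a₁,
        WeierstrassCurve.IsShortNF.a₂, WeierstrassCurve.IsShortNF.a₃] <;>
        first | simpa using e4 | simpa using e6
  let φ : MulAction.stabilizer (WeierstrassCurve.VariableChange k) W →* kˣ :=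
    { toFun := fun C => C.1.u, map_one' := rfl, map_mul' := fun _ _ => rfl }
  have hφ : Function.Injective φ := by
    intro C D h
    obtain ⟨c1, c2, c3, -⟩ := (hstab C.1).mp C.2
    obtain ⟨d1, d2, d3, -⟩ := (hstab D.1).mp D.2
    exact Subtype.ext (WeierstrassCurve.VariableChange.ext h (c1.trans d1.symm) (c2.trans d2.symm)
      (c3.trans d3.symm))
  have hΔ' : W.a₄ ≠ 0 ∨ W.a₆ ≠ 0 := by
    by_contra hcon
    push Not at hcon
    apply hΔ
    simp [WeierstrassCurve.Δ_of_isShortNF, hcon.1, hcon.2]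
  have hcard : ∀ n : ℕ, [NeZero n] → (n : k) ≠ 0 → (∀ u : kˣ, u ^ n = 1 ↔
      ((u⁻¹ : kˣ) : k) ^ 4 * W.a₄ = W.a₄ ∧ ((u⁻¹ : kˣ) : k) ^ 6 * W.a₆ = W.a₆) →
      φ.range = rootsOfUnity n k ∧
      Nat.card ↥(MulAction.stabilizer (WeierstrassCurve.VariableChange k) W) = n := by
    intro n _ hn hu
    have hr : φ.range = rootsOfUnity n k := by
      ext u
      rw [MonoidHom.mem_range, mem_rootsOfUnity, hu]
      constructor
      · rintro ⟨C, rfl⟩
        exact ((hstab C.1).mp C.2).2.2.2
      · intro h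
        exact ⟨⟨⟨u, 0, 0, 0⟩, (hstab _).mpr ⟨rfl, rfl, rfl, h⟩⟩, rfl⟩
    haveI : NeZero (n : k) := ⟨hn⟩
    refine ⟨hr, ?_⟩
    rw [Nat.card_congr (MonoidHom.ofInjective hφ).toEquiv, hr]
    exact HasEnoughRootsOfUnity.natCard_rootsOfUnity k n
  have hinv : ∀ (u : kˣ) (n : ℕ), ((u⁻¹ : kˣ) : k) ^ n = 1 ↔ u ^ n = 1 := fun u n => by
    rw [← Units.val_pow_eq_pow_val, Units.val_eq_one, inv_pow, inv_eq_one]
  have h6 : W.a₄ = 0 → Nat.card ↥(MulAction.stabilizer (WeierstrassCurve.VariableChange k) W) = 6 := by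
    intro h4
    have ha6 : W.a₆ ≠ 0 := hΔ'.resolve_left (not_not.mpr h4)
    refine (hcard 6 ?_ fun u => ?_).2
    · rw [show ((6 : ℕ) : k) = 2 * 3 by norm_num]; exact mul_ne_zero h2 h3
    · rw [h4, mul_zero, mul_eq_right₀ ha6, hinv]; simp
  have h4' : W.a₆ = 0 → Nat.card ↥(MulAction.stabilizer (WeierstrassCurve.VariableChange k) W) = 4 := by
    intro h6'
    have ha4 : W.a₄ ≠ 0 := hΔ'.resolve_right (not_not.mpr h6')
    refine (hcard 4 ?_ fun u => ?_).2
    · rw [show ((4 : ℕ) : k) = 2 * 2 by norm_num]; exact mul_ne_zero h2 h2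
    · rw [h6', mul_zero, mul_eq_right₀ ha4, hinv]; simp
  have h2' : W.a₄ ≠ 0 → W.a₆ ≠ 0 →
      Nat.card ↥(MulAction.stabilizer (WeierstrassCurve.VariableChange k) W) = 2 := by
    intro ha4 ha6
    refine (hcard 2 (by exact_mod_cast h2) fun u => ?_).2
    simp only [mul_eq_right₀ ha4, mul_eq_right₀ ha6, hinv]
    refine ⟨fun h => ⟨by rw [show (4 : ℕ) = 2 * 2 from rfl, pow_mul, h, one_pow],
      by rw [show (6 : ℕ) = 2 * 3 from rfl, pow_mul, h, one_pow]⟩, fun ⟨a, b⟩ => ?_⟩
    calc u ^ 2 = u ^ 4 * u ^ 2 := by rw [a, one_mul]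
      _ = u ^ 6 := by rw [← pow_add]
      _ = 1 := b
  refine ⟨?_, h6, h4', h2'⟩
  have hfin : Finite ↥(MulAction.stabilizer (WeierstrassCurve.VariableChange k) W) := by
    apply Nat.finite_of_card_ne_zero
    by_cases a4 : W.a₄ = 0
    · rw [h6 a4]; norm_num
    · by_cases a6 : W.a₆ = 0
      · rw [h4' a6]; norm_num
      · rw [h2' a4 a6]; norm_num
  exact isCyclic_of_injective_ringHom ((Units.coeHom k).comp φ) (Units.val_injective.comp hφ)

end Groth.Agent.S16244
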