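import Groth.Statements.S16245
import Groth.Agent.S4101
import Groth.Agent.H21Diag.WeilFinite

set_option autoImplicit false
universe u
open CategoryTheory CategoryTheory.Limits AlgebraicGeometry
open SDiv

namespace Groth.Agent.S16245

/-- Let f : X → S be a morphism of schemes, D ⊆ X an effective Cartier divisor with ideal sheaf 𝓘, and
D' ⊆ X a closed subscheme with ideal sheaf 𝓘' such that D' → S is finite, flat and locally of finite
presentation (finite locally free). Then there is a closed subscheme Z ⊆ S such that a morphism g :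
T → S factors through Z exactly when, on X ×_S T, the inverse image ideal of 𝓘 is contained in the
inverse image ideal of 𝓘', that is, the pull-back of D' is a closed subscheme of the pull-back of D.
This universal property determines Z, and compatibility of Z with base change follows from it. (In
the source X is a family of elliptic curves and D, D' are relative effective Cartier divisors, D'
then being finite locally free over S; the argument uses only the hypotheses stated here.) -/
theorem result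
    {X S : Scheme.{u}} (f : X ⟶ S) (𝓘 𝓘' : X.IdealSheafData) (hD : BlowUp.IsEffCartierIdeal 𝓘)
    [IsFinite (𝓘'.subschemeι ≫ f)] [Flat (𝓘'.subschemeι ≫ f)]
    [LocallyOfFinitePresentation (𝓘'.subschemeι ≫ f)] :
    ∃ 𝓩 : S.IdealSheafData, ∀ (T : Scheme.{u}) (g : T ⟶ S),
      (∃ t : T ⟶ 𝓩.subscheme, t ≫ 𝓩.subschemeι = g) ↔
        𝓘.comap (pullback.fst f g) ≤ 𝓘'.comap (pullback.fst f g) := by
  let ι₁ := 𝓘'.subschemeι
  let ι₀ := 𝓘.subschemeι
  let j := pullback.fst ι₁ ι₀
  obtain ⟨T, t, ht, hiff, -⟩ := S4101.result S _ _ (ι₁ ≫ f) (H21Diag.isEssentiallyFree_of_finite _) j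
  haveI := ht
  refine ⟨t.ker, fun T' g => ?_⟩
  have hsub : ∀ {Y : Scheme.{u}} {Z : Scheme.{u}} (I : Y.IdealSheafData) (h : Z ⟶ Y),
      (∃ h', h' ≫ I.subschemeι = h) ↔ I ≤ h.ker := fun I h =>
    ⟨fun ⟨h', e⟩ => by
      have := h'.le_ker_comp I.subschemeι
      rwa [e, Scheme.IdealSheafData.ker_subschemeι] at this,
      fun hle => ⟨IsClosedImmersion.lift I.subschemeι h (by rwa [Scheme.IdealSheafData.ker_subschemeι]),
        IsClosedImmersion.lift_fac _ _ _⟩⟩
  have hT : (∃ s : T' ⟶ t.ker.subscheme, s ≫ t.ker.subschemeι = g) ↔ ∃ g', g' ≫ t = g := by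
    rw [hsub]
    exact ⟨fun hle => ⟨_, IsClosedImmersion.lift_fac t g hle⟩, fun ⟨h', e⟩ => e ▸ h'.le_ker_comp t⟩
  rw [hT, hiff]
  let pr := pullback.fst f g
  let a := pullback.fst (ι₁ ≫ f) g
  let b := pullback.snd (ι₁ ≫ f) g
  have hab : (a ≫ ι₁) ≫ f = b ≫ g := by rw [Category.assoc]; exact pullback.condition
  let w : pullback (ι₁ ≫ f) g ⟶ pullback f g := pullback.lift (a ≫ ι₁) b hab
  have hw : w ≫ pr = a ≫ ι₁ := pullback.lift_fst _ _ _
  let K := 𝓘'.comap pr
  have hK : K.subschemeι ≫ pr = ((𝓘'.comapIso pr).hom ≫ pullback.snd pr ι₁) ≫ ι₁ := by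
    rw [← 𝓘'.comapIso_hom_fst pr, Category.assoc, Category.assoc, pullback.condition]
  constructor
  · intro hiso
    have hl : (inv (pullback.snd j a) ≫ pullback.fst j a ≫ pullback.snd ι₁ ι₀) ≫ ι₀ = a ≫ ι₁ := by
      simp only [Category.assoc]
      rw [← pullback.condition (f := ι₁) (g := ι₀), pullback.condition_assoc (f := j) (g := a), IsIso.inv_hom_id_assoc]
    let c := (𝓘'.comapIso pr).hom ≫ pullback.snd pr ι₁
    have hc : c ≫ (ι₁ ≫ f) = (K.subschemeι ≫ pullback.snd f g) ≫ g := by
      rw [← Category.assoc, ← hK, Category.assoc, Category.assoc, pullback.condition]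
    let c' : K.subscheme ⟶ pullback (ι₁ ≫ f) g := pullback.lift c (K.subschemeι ≫ pullback.snd f g) hc
    have h2 : K.subschemeι ≫ pr = (c' ≫ inv (pullback.snd j a) ≫ pullback.fst j a ≫ pullback.snd ι₁ ι₀) ≫ ι₀ := by
      rw [Category.assoc, hl, hK]
      show c ≫ ι₁ = c' ≫ a ≫ ι₁
      rw [pullback.lift_fst_assoc]
    have h3 : ∃ m, m ≫ (𝓘.comap pr).subschemeι = K.subschemeι :=
      ⟨pullback.lift K.subschemeι _ h2 ≫ (𝓘.comapIso pr).inv, by
        rw [Category.assoc, 𝓘.comapIso_inv_subschemeι pr, pullback.lift_fst]⟩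
    simpa [K] using (hsub _ _).1 h3
  · intro hle
    let m : pullback (ι₁ ≫ f) g ⟶ (𝓘.comap pr).subscheme :=
      (pullback.lift w a hw ≫ (𝓘'.comapIso pr).inv) ≫ Scheme.IdealSheafData.inclusion hle
    have hm : m ≫ (𝓘.comap pr).subschemeι = w := by
      simp only [m, Category.assoc]
      rw [Scheme.IdealSheafData.inclusion_subschemeι, 𝓘'.comapIso_inv_subschemeι pr, pullback.lift_fst]
    have hl : a ≫ ι₁ = (m ≫ (𝓘.comapIso pr).hom ≫ pullback.snd pr ι₀) ≫ ι₀ := by
      simp only [Category.assoc]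
      rw [← pullback.condition (f := pr) (g := ι₀), ← Category.assoc (𝓘.comapIso pr).hom, 𝓘.comapIso_hom_fst pr,
        ← Category.assoc m, hm, hw]
    haveI : IsSplitEpi (pullback.snd j a) :=
      IsSplitEpi.mk' ⟨pullback.lift (pullback.lift a _ hl) (𝟙 _)
        (by rw [Category.id_comp]; exact pullback.lift_fst _ _ _), pullback.lift_snd _ _ _⟩
    exact isIso_of_mono_of_isSplitEpi _

end Groth.Agent.S16245
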