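import Groth.Statements.S16249
import Groth.Agent.H12Pic.PicCurve.EllipticGood

set_option autoImplicit false
universe u
open CategoryTheory CategoryTheory.Limits AlgebraicGeometry
open PicF

namespace Groth.Agent.S16249

/-- Let f : E → S be a family of elliptic curves: f is proper and smooth of relative dimension one with
geometrically connected fibres whose structure sheaf has Euler characteristic 0 (genus one), and σ
is a section of f. Then for every invertible O_E-module L whose restriction to every fibre of f has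
degree zero (Euler characteristic equal to that of the structure sheaf of the fibre) there is
exactly one section P of f such that L ⊗ I_P ≅ I_σ ⊗ f^*M for some invertible O_S-module M, where
I_P and I_σ are the ideal sheaves of the closed subschemes P(S) and σ(S) of E. In other words P ↦
O(P − σ) is a bijection from E(S) onto the classes of fibrewise-degree-zero invertible modules
modulo modules pulled back from S. (The published statement goes on to say that E is thereby an
S-group scheme, with P + Q = R exactly when O(P) ⊗ O(Q) ⊗ O(−σ) ≅ O(R) ⊗ f^*M for some invertible M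
on the base — its printed formula has O(−R), a misprint — ; that transport of the group structure is
not part of this statement.) -/
theorem result
    {E S : Scheme.{u}} (f : E ⟶ S) [IsProper f] [SmoothOfRelativeDimension 1 f]
    (hc : GeometricallyConnected f)
    (hg : ∀ s : S, @FGA.eulerCharLE (S.residueField s) _ (f.fiber s) (f.fiberOverSpecResidueField s)
      (Coh.structureModule (f.fiber s)) 1 = 0)
    (σ : S ⟶ E) (hσ : σ ≫ f = 𝟙 S)
    (L : E.Modules) (hL : PicF.IsInvertible L)
    (hL0 : ∀ s : S, @FGA.eulerCharLE (S.residueField s) _ (f.fiber s) (f.fiberOverSpecResidueField s)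
      ((Scheme.Modules.pullback (f.fiberι s)).obj L) 1 = 0) :
    ∃! P : S ⟶ E, P ≫ f = 𝟙 S ∧ ∃ M : S.Modules, PicF.IsInvertible M ∧
      Nonempty (CohB1.tensorMod L (ClSub.idealMod P.ker) ≅
        CohB1.tensorMod (ClSub.idealMod σ.ker) ((Scheme.Modules.pullback f).obj M)) := by
  haveI := hc
  haveI : Smooth f := SmoothOfRelativeDimension.smooth 1 f
  have hI := Groth.Agent.H29Blow.isInvertible_of_isEffCartierIdeal _
    (Groth.Agent.H12Pic.CurveFam.isEffCartierIdeal_section f σ hσ)
  obtain ⟨N, hN, ⟨eN⟩⟩ := Groth.Agent.H11Sym.exists_inverse hI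
  have hLN := Groth.Agent.H11Ample.isInvertible_tensor hL hN
  obtain ⟨hgood, hO⟩ := Groth.Agent.H12Pic.PicCurve.isGood_of_euler_one f (fun t => by
      rw [Groth.Agent.H12Pic.PicCurve.fibEuler_eq]
      have := hg t
      rw [← this, FGA.eulerCharLE, Finset.sum_range_succ, Finset.sum_range_one, pow_zero, one_mul, pow_one,
        neg_one_mul, ← sub_eq_add_neg]
      let s := Groth.Agent.H16Derived.KFlat.Stalk.structurePullbackIso (f.fiberι t)
      letI := f.fiberOverSpecResidueField t
      exact congrArg₂ (fun a b : ℕ => (a : ℤ) - b)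
        (Groth.Agent.H29RR.hhIso (k := S.residueField t) s 0).finrank_eq
        (Groth.Agent.H29RR.hhIso (k := S.residueField t) s 1).finrank_eq)
    hLN (fun t => by
      rw [Groth.Agent.H12Pic.PicCurve.fibEuler_twist_section f σ hσ hL hN eN t]
      refine (congrArg (· + (1 : ℤ)) (?_ : Groth.Agent.H12Pic.PicCurve.fibEuler f L t = 0)).trans (zero_add 1)
      exact hL0 t)
  obtain ⟨P, hP, huniq⟩ := Groth.Agent.H12Pic.PicCurve.existsUnique_point f hLN hgood hO
  -- comparison of the two twists
  have key : ∀ (Q : S ⟶ E), Groth.Agent.H12Pic.PicCurve.IsPointOf f (CohB1.tensorMod L N) Q ↔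
      (Q ≫ f = 𝟙 S ∧ ∃ M : S.Modules, PicF.IsInvertible M ∧
        Nonempty (CohB1.tensorMod L (ClSub.idealMod Q.ker) ≅
          CohB1.tensorMod (ClSub.idealMod σ.ker) ((Scheme.Modules.pullback f).obj M))) := by
    intro Q
    refine and_congr_right fun _ => exists_congr fun M => and_congr_right fun _ => ?_
    open Groth.Agent.H25Theta in
    constructor
    · rintro ⟨e⟩
      exact ⟨(Groth.Agent.H10Coh.Tw.rightUnitIso _).symm ≪≫ tI (Iso.refl _) eN.symm ≪≫
        (Groth.Agent.H10Coh.Tw.assoc _ _ _).symm ≪≫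
        tI (Groth.Agent.H10Coh.Tw.assoc _ _ _ ≪≫ tI (Iso.refl _) (Groth.Agent.H10Coh.Tw.commIso _ _) ≪≫
          (Groth.Agent.H10Coh.Tw.assoc _ _ _).symm ≪≫ e) (Iso.refl _) ≪≫ Groth.Agent.H10Coh.Tw.commIso _ _⟩
    · rintro ⟨e⟩
      exact ⟨Groth.Agent.H10Coh.Tw.assoc _ _ _ ≪≫ tI (Iso.refl _) (Groth.Agent.H10Coh.Tw.commIso _ _) ≪≫
        (Groth.Agent.H10Coh.Tw.assoc _ _ _).symm ≪≫ tI e (Iso.refl _) ≪≫
        tI (Groth.Agent.H10Coh.Tw.commIso _ _) (Iso.refl _) ≪≫ Groth.Agent.H10Coh.Tw.assoc _ _ _ ≪≫
        tI (Iso.refl _) (Groth.Agent.H10Coh.Tw.commIso _ _ ≪≫ eN) ≪≫ Groth.Agent.H10Coh.Tw.rightUnitIso _⟩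
  exact ⟨P, (key P).1 hP, fun Q hQ => huniq Q ((key Q).2 hQ)⟩

end Groth.Agent.S16249
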