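import Groth.Statements.S16251
import Groth.Agent.H18Et.Cons.Serre
import Groth.Agent.H18Et.Cons.Subsheaf

set_option autoImplicit false
open CategoryTheory CategoryTheory.Limits AlgebraicGeometry Opposite
universe u
open EtPBC

namespace Groth.Agent.S16251

/-- Let ℓ be a prime, X a locally Noetherian scheme and F = (F_n) an ℓ-adic projective system of abelian
sheaves on the small étale site of X, indexed from 0 (so ℓ^(n+1) F_n = 0 and, for n ≤ m, the
transition map F_m ⟶ F_n is a quotient map modulo ℓ^(n+1)). If the first member F_0 is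
constructible, then every member F_n is constructible. (The converse is trivial. The published
statement indexes the system from 1, with ℓ^n killing the n-th member; the statement here indexes it
from 0.) -/
theorem result (ℓ : ℕ) [Fact ℓ.Prime]
    (X : Scheme.{u}) [IsLocallyNoetherian X]
    (F : ARSys.PS (EtCoh.Ab X)) (hF : ARSys.IsAdic (Ideal.span {(ℓ : ℤ)}) F)
    (h0 : EtPBC.IsConstructible (F.obj (op 0))) (n : ℕ) :
    EtPBC.IsConstructible (F.obj (op n)) := by
  induction n with
  | zero => exact h0
  | succ n ih =>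
    let J : Ideal ℤ := Ideal.span {(ℓ : ℤ)}
    have epi : ∀ (a b : ℕ) (h : a ≤ b), Epi (ARSys.tr F h) := fun a b h => ⟨fun {Z} u v huv => by
      obtain ⟨w, -, huniq⟩ := (hF.2 a b h).2 Z (ARSys.tr F h ≫ u) (fun c hc => by
        rw [← Linear.smul_comp, ← Category.comp_id (ARSys.tr F h), ← Linear.comp_smul, (hF.2 a b h).1 c hc,
          comp_zero, zero_comp])
      exact (huniq u rfl).trans (huniq v huv.symm).symm⟩
    let t₀ := ARSys.tr F (Nat.zero_le (n + 1))
    let t := ARSys.tr F (Nat.le_succ n)
    let a : ℤ := (ℓ : ℤ) ^ (n + 1)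
    let φ : F.obj (op (n + 1)) ⟶ F.obj (op (n + 1)) := a • 𝟙 _
    have ha : a ∈ J ^ (n + 1) := Ideal.pow_mem_pow (Ideal.mem_span_singleton_self _) _
    have hφk : ARSys.HomKilledBy (J ^ (0 + 1)) φ := fun c hc => by
      rw [zero_add, pow_one] at hc
      rw [smul_smul]
      exact hF.1 (n + 1) (c * a) (by rw [pow_succ' J (n + 1)]; exact Ideal.mul_mem_mul hc ha)
    obtain ⟨ψ, hψ : t₀ ≫ ψ = φ, -⟩ := (hF.2 0 (n + 1) (Nat.zero_le _)).2 _ φ hφk
    haveI : Epi t₀ := epi _ _ _
    haveI : Epi t := epi _ _ _
    have hzero : ψ ≫ t = 0 := by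
      rw [← cancel_epi t₀, ← Category.assoc, hψ, comp_zero, Linear.smul_comp, Category.id_comp]
      have := (hF.2 n (n + 1) (Nat.le_succ n)).1 a ha
      rw [← Category.comp_id t, ← Linear.comp_smul, this, comp_zero]
    let S : ShortComplex (EtCoh.Ab X) := ShortComplex.mk ψ t hzero
    have hS : S.Exact := by
      refine ShortComplex.exact_of_g_is_cokernel _ ?_
      have hk : ∀ {Z} (x : F.obj (op (n + 1)) ⟶ Z), ψ ≫ x = 0 → ARSys.HomKilledBy (J ^ (n + 1)) x := by
        intro Z x hx c hc
        rw [Ideal.span_singleton_pow, Ideal.mem_span_singleton'] at hc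
        obtain ⟨d, rfl⟩ := hc
        have : a • x = 0 := by
          rw [← Category.id_comp x, ← Linear.smul_comp]
          change φ ≫ x = 0
          rw [← hψ, Category.assoc, hx, comp_zero]
        rw [← smul_smul]
        change d • a • x = 0
        rw [this, smul_zero]
      exact CokernelCofork.IsColimit.ofπ _ _
        (fun x hx => ((hF.2 n (n + 1) (Nat.le_succ n)).2 _ x (hk x hx)).choose)
        (fun x hx => ((hF.2 n (n + 1) (Nat.le_succ n)).2 _ x (hk x hx)).choose_spec.1)
        (fun x hx m hm => ((hF.2 n (n + 1) (Nat.le_succ n)).2 _ x (hk x hx)).choose_spec.2 m hm)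
    let S' : ShortComplex (EtCoh.Ab X) := ShortComplex.mk (kernel.ι t) t (kernel.condition _)
    haveI : Mono S'.f := inferInstanceAs (Mono (kernel.ι t))
    haveI : Epi S'.g := ‹Epi t›
    have hS' : S'.ShortExact := ⟨ShortComplex.exact_of_f_is_kernel _ (kernelIsKernel _)⟩
    haveI : Epi (kernel.lift t ψ hzero) := hS.epi_kernelLift
    exact Groth.Agent.H18Et.Cons.isConstructible_extension S' hS'
      (Groth.Agent.H18Et.Cons.isConstructible_quotient (kernel.lift t ψ hzero) h0) ih

end Groth.Agent.S16251
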