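import Groth.Statements.S16253
import Groth.Agent.H11Jac.Point

set_option autoImplicit false
universe u
open CategoryTheory CategoryTheory.Limits AlgebraicGeometry TopologicalSpace
open SDiv

namespace Groth.Agent.S16253

/-- Let f : X ⟶ Y be locally of finite presentation and quasi-separated and p ≥ 0, and let J^p(X/Y) ⊆ X
be the closed subset cut out by the p-th Fitting ideal of the module of differentials Ω_{X/Y} (the
p-th Jacobian locus). Then a point x of X lies outside J^p(X/Y) if and only if x has an open
neighbourhood U admitting a closed immersion over Y into a Y-scheme U' which is smooth of relative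
dimension p over Y. (The published statement takes f of finite presentation and asks U' smooth over
Y with fibre dimension p at x; after shrinking U' this is smoothness of relative dimension p.
Quasi-separatedness of f is assumed because the module Ω_{X/Y} used here is defined for such f.) -/
theorem result
    {X Y : Scheme.{u}} (f : X ⟶ Y) [LocallyOfFinitePresentation f] [QuasiSeparated f] (p : ℕ) (x : ↥X) :
    x ∉ (Fitt.sheafIdeal (Omega.sheaf f) p).support ↔
      ∃ (U : X.Opens) (U' : Scheme.{u}) (i : (U : Scheme.{u}) ⟶ U') (g : U' ⟶ Y),
        x ∈ U ∧ IsClosedImmersion i ∧ SmoothOfRelativeDimension p g ∧ i ≫ g = U.ι ≫ f := by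
  refine ⟨H11Jac.exists_embedding_of_not_mem_support f p x, ?_⟩
  rintro ⟨U, U', i, g, hxU, hi, hg, hfac⟩
  exact H11Jac.not_mem_support_of_embedding f p x i g hxU hg hfac

end Groth.Agent.S16253
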