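import Groth.Statements.S16254
import Mathlib

set_option autoImplicit false
universe u
open scoped BigOperators
open LefPen

namespace Groth.Agent.S16254

open MvPolynomial in
/-- A map killing `X j - g j` identifies a polynomial with its substitution. -/
theorem sub_aeval_mem {σ : Type*} {A : Type*} [CommRing A] (g : σ → MvPolynomial σ A) (I : Ideal (MvPolynomial σ A))
    (hg : ∀ j, X j - g j ∈ I) (f : MvPolynomial σ A) : f - aeval g f ∈ I := by
  rw [← Ideal.Quotient.eq]
  have : (Ideal.Quotient.mkₐ A I) = (Ideal.Quotient.mkₐ A I).comp (aeval g) := MvPolynomial.algHom_ext fun j => by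
    rw [AlgHom.comp_apply, aeval_X]; exact (Ideal.Quotient.eq).mpr (hg j)
  exact AlgHom.congr_fun this f

open MvPolynomial in
/-- A combination `∑ₖ Qₖₜ colₖ` has determinant in the span of the maximal minors. -/
theorem det_comb_mem {R : Type*} [CommRing R] {κ : Type*} [Fintype κ] {n : ℕ} (col : κ → Fin n → R)
    (Q : κ → Fin n → R) :
    (Matrix.of fun t : Fin n => ∑ k, Q k t • col k).det ∈
      Ideal.span (Set.range fun c : Fin n → κ => (Matrix.of fun i j : Fin n => col (c j) i).det) := by
  classical
  have h : (Matrix.of fun t : Fin n => ∑ k, Q k t • col k).det =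
      ∑ c : Fin n → κ, (∏ t, Q (c t) t) * (Matrix.of fun i j : Fin n => col (c j) i).det := by
    show (Matrix.detRowAlternating (R := R) (n := Fin n)).toMultilinearMap (fun t => ∑ k, Q k t • col k) = _
    rw [MultilinearMap.map_sum]
    refine Finset.sum_congr rfl fun c _ => ?_
    rw [MultilinearMap.map_smul_univ, smul_eq_mul]
    congr 1
    exact (Matrix.det_transpose (Matrix.of fun i j : Fin n => col (c j) i))
  rw [h]
  exact Ideal.sum_mem _ fun c _ => Ideal.mul_mem_left _ _ (Ideal.subset_span ⟨c, rfl⟩)


/-- Let A be a commutative ring and m_1, …, m_s ∈ A^(N+1) linearly independent vectors whose span M has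
projective (that is, locally free) quotient A^(N+1)/M. Write a_0, …, a_N for the coordinate
functions, so that restricting linear forms to M and expressing them in the basis dual to the m_i
gives the A-algebra map A[a_0, …, a_N] ⟶ A[y_1, …, y_s], a_j ↦ Σ_i (m_i)_j y_i (the map
Sym((A^(N+1))^∨) ⟶ Sym(M^∨)). Its kernel is the ideal generated by the (s+1) × (s+1) minors of the
(s+1) × (N+1) matrix whose first s rows are the coordinate rows of m_1, …, m_s and whose last row is
(a_0, …, a_N). The minors are indexed here by all maps c from Fin (s+1) to Fin (N+1) choosing the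
columns (non-injective choices give zero). -/
theorem result
    (A : Type u) [CommRing A] (N s : ℕ) (m : Fin s → (Fin (N + 1) → A))
    (hli : LinearIndependent A m)
    (hproj : Module.Projective A ((Fin (N + 1) → A) ⧸ Submodule.span A (Set.range m))) :
    RingHom.ker (MvPolynomial.aeval (R := A) (S₁ := MvPolynomial (Fin s) A)
        (fun j : Fin (N + 1) => ∑ i : Fin s, MvPolynomial.C (m i j) * MvPolynomial.X i)) =
      Ideal.span (Set.range fun c : Fin (s + 1) → Fin (N + 1) =>
        (Matrix.of fun (i : Fin (s + 1)) (j : Fin (s + 1)) =>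
          (Fin.snoc (α := fun _ => MvPolynomial (Fin (N + 1)) A)
            (fun i' : Fin s => MvPolynomial.C (m i' (c j))) (MvPolynomial.X (c j)) i)).det) := by
  classical
  obtain ⟨sec, hsec⟩ := Module.projective_lifting_property (Submodule.span A (Set.range m)).mkQ LinearMap.id
    (Submodule.mkQ_surjective _)
  let B : Module.Basis (Fin s) A (Submodule.span A (Set.range m)) := Module.Basis.span hli
  let r : (Fin (N + 1) → A) →ₗ[A] Submodule.span A (Set.range m) :=
    (LinearMap.id - sec.comp (Submodule.span A (Set.range m)).mkQ).codRestrict _ fun v => by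
      rw [← Submodule.Quotient.mk_eq_zero]
      have := LinearMap.congr_fun hsec (Submodule.Quotient.mk v)
      simp only [LinearMap.comp_apply, Submodule.mkQ_apply, LinearMap.id_apply] at this
      simp [this]
  have hr : ∀ i, r (m i) = B i := fun i => Subtype.ext <| by
    rw [Module.Basis.coe_span_apply hli i]
    simp [r, (Submodule.Quotient.mk_eq_zero (Submodule.span A (Set.range m))).mpr
        (Submodule.subset_span (Set.mem_range_self (f := m) i))]
  let p : Fin s → Fin (N + 1) → A := fun t k => B.repr (r (Pi.single k 1)) t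
  have hp : ∀ i t, ∑ k, m i k * p t k = if t = i then 1 else 0 := by
    intro i t
    have h1 : m i = ∑ k, m i k • (Pi.single k 1 : Fin (N + 1) → A) := pi_eq_sum_univ' (m i)
    have h2 := congrArg (fun v => B.repr (r v) t) h1
    simp only [map_sum, map_smul, hr, B.repr_self, Finsupp.single_apply, Finsupp.coe_finset_sum,
      Finset.sum_apply, Finsupp.smul_apply, smul_eq_mul] at h2
    rw [← h2]
    simp [eq_comm]
  let lin : Fin (N + 1) → MvPolynomial (Fin s) A :=
    fun j => ∑ i : Fin s, MvPolynomial.C (m i j) * MvPolynomial.X i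
  let col : Fin (N + 1) → Fin (s + 1) → MvPolynomial (Fin (N + 1)) A := fun k =>
    Fin.snoc (α := fun _ => MvPolynomial (Fin (N + 1)) A) (fun i => MvPolynomial.C (m i k)) (MvPolynomial.X k)
  let P : Fin s → MvPolynomial (Fin (N + 1)) A := fun t => ∑ k, MvPolynomial.C (p t k) * MvPolynomial.X k
  let I := Ideal.span (Set.range fun c : Fin (s + 1) → Fin (N + 1) =>
    (Matrix.of fun i j : Fin (s + 1) => col (c j) i).det)
  have hI : I = Ideal.span (Set.range fun c : Fin (s + 1) → Fin (N + 1) =>
        (Matrix.of fun (i : Fin (s + 1)) (j : Fin (s + 1)) =>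
          (Fin.snoc (α := fun _ => MvPolynomial (Fin (N + 1)) A)
            (fun i' : Fin s => MvPolynomial.C (m i' (c j))) (MvPolynomial.X (c j)) i)).det) := rfl
  rw [← hI]
  apply le_antisymm
  · intro f hf
    have hg : ∀ j, MvPolynomial.X j - (∑ i : Fin s, MvPolynomial.C (m i j) * P i) ∈ I := by
      intro j
      let Q : Fin (N + 1) → Fin (s + 1) → MvPolynomial (Fin (N + 1)) A := fun k =>
        Fin.snoc (α := fun _ => MvPolynomial (Fin (N + 1)) A) (fun t => MvPolynomial.C (p t k))
          (if k = j then 1 else 0)
      have hmem := det_comb_mem col Q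
      rw [← Matrix.det_submatrix_equiv_self (finSumFinEquiv : Fin s ⊕ Fin 1 ≃ Fin (s + 1))] at hmem
      have hca : ∀ t : Fin s, Fin.castAdd 1 t = t.castSucc := fun _ => rfl
      have hna : Fin.natAdd s (0 : Fin 1) = Fin.last s := rfl
      have hW : (Matrix.of fun t : Fin (s + 1) => ∑ k, Q k t • col k).submatrix finSumFinEquiv finSumFinEquiv =
          Matrix.fromBlocks 1 (Matrix.of fun t (_ : Fin 1) => P t)
            (Matrix.of fun (_ : Fin 1) i => MvPolynomial.C (m i j)) (Matrix.of fun _ _ => MvPolynomial.X j) := by
        refine Matrix.ext fun a b => ?_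
        rcases a with t | z <;> rcases b with i | z'
        · have e := congrArg (MvPolynomial.C (σ := Fin (N + 1))) (hp i t)
          simp only [map_sum, map_mul] at e
          simp [Matrix.one_apply, col, Q, hca, hna, Finset.sum_apply, smul_eq_mul, mul_comm]
          simpa [mul_comm, apply_ite (MvPolynomial.C (σ := Fin (N + 1)))] using e
        · fin_cases z'
          simp [col, Q, P, hca, hna, Finset.sum_apply, smul_eq_mul, ite_apply]
        · fin_cases z
          simp [col, Q, hca, hna, Finset.sum_apply, smul_eq_mul, ite_apply]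
        · fin_cases z; fin_cases z'
          simp [col, Q, hca, hna, Finset.sum_apply, smul_eq_mul, ite_apply]
      rw [hW, Matrix.det_fromBlocks_one₁₁, Matrix.det_fin_one] at hmem
      simpa [Matrix.mul_apply] using hmem
    have h1 := sub_aeval_mem _ I hg f
    have h2 : MvPolynomial.aeval (fun j => ∑ i : Fin s, MvPolynomial.C (m i j) * P i) f =
        MvPolynomial.aeval P (MvPolynomial.aeval lin f) := by
      rw [← AlgHom.comp_apply, MvPolynomial.comp_aeval]
      simp [lin]
    rw [h2, show MvPolynomial.aeval lin f = 0 from RingHom.mem_ker.mp hf, map_zero, sub_zero] at h1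
    exact h1
  · rw [Ideal.span_le]
    rintro _ ⟨c, rfl⟩
    simp only [SetLike.mem_coe, RingHom.mem_ker, AlgHom.map_det]
    set W := (MvPolynomial.aeval (R := A) lin).mapMatrix (Matrix.of fun i j : Fin (s + 1) => col (c j) i) with hW
    set cv : Fin (s + 1) → MvPolynomial (Fin s) A :=
      Fin.snoc (α := fun _ => MvPolynomial (Fin s) A) MvPolynomial.X (-1)
    have hrow : Matrix.vecMul cv W = 0 := by
      funext jj
      simp [W, cv, col, lin, Matrix.vecMul, dotProduct, Fin.sum_univ_castSucc, mul_comm]
    have h := congrArg (fun v => Matrix.vecMul v W.adjugate (Fin.last s)) hrow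
    simp only [Matrix.vecMul_vecMul, Matrix.mul_adjugate, Matrix.vecMul_smul, Matrix.vecMul_one,
      Matrix.zero_vecMul, Pi.smul_apply, Pi.zero_apply, smul_eq_mul] at h
    simpa [cv] using h

end Groth.Agent.S16254
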