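import Groth.Statements.S16255
import Groth.Agent.H26Base.PsHyp
import Mathlib.RingTheory.Nullstellensatz

set_option autoImplicit false
universe u
open VanCyc

namespace Groth.Agent.S16255

open MvPowerSeries Groth.Agent.H26Base.PsMorse Groth.Agent.H26Base.PsHyp

variable {k : Type u} [Field k] {n : ℕ}

theorem pderiv_shift (c : Fin n → k) (f : MvPolynomial (Fin n) k) (j : Fin n) :
    MvPolynomial.pderiv j (MvPolynomial.aeval (fun i => (MvPolynomial.X i : MvPolynomial (Fin n) k) + MvPolynomial.C (c i)) f) =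
      MvPolynomial.aeval (fun i => (MvPolynomial.X i : MvPolynomial (Fin n) k) + MvPolynomial.C (c i)) (MvPolynomial.pderiv j f) := by
  classical
  induction f using MvPolynomial.induction_on with
  | C a => simp
  | add p q hp hq => simp only [map_add, hp, hq]
  | mul_X p i hp =>
    simp only [map_mul, Derivation.leibniz, smul_eq_mul, hp, MvPolynomial.aeval_X, map_add,
      MvPolynomial.pderiv_C, add_zero]
    rw [MvPolynomial.pderiv_X]
    by_cases h : j = i
    · subst h; simp
    · simp [Pi.single_eq_of_ne h, Pi.single_eq_of_ne (Ne.symm h)]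

theorem lc_pderiv (p : MvPolynomial (Fin n) k) (i j : Fin n) :
    lc j ((MvPolynomial.pderiv i p : MvPolynomial (Fin n) k) : MvPowerSeries (Fin n) k) =
      hess (p : MvPowerSeries (Fin n) k) i j := by
  rw [lc, MvPolynomial.coeff_coe, MvPolynomial.coeff_pderiv, hess_apply, MvPolynomial.coeff_coe,
    add_comm (Finsupp.single i 1)]
  by_cases h : i = j
  · subst h; simp only [Finsupp.single_eq_same, if_true]; push_cast; ring
  · simp [h, Finsupp.single_eq_of_ne h, Finsupp.single_eq_of_ne (Ne.symm h)]

theorem ord_two_of_mem {p : MvPolynomial (Fin n) k} (hp : p ∈ M k n ^ 2) :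
    Ord 2 (p : MvPowerSeries (Fin n) k) := fun e he => by
  rw [MvPolynomial.coeff_coe]
  exact (MvPolynomial.mem_pow_idealOfVars_iff' 2 p).mp hp e he

theorem jac_iff {L : Type u} [CommRing L] [IsLocalRing L] [Algebra k L] {g : MvPolynomial (Fin n) k}
    {φ : MvPolynomial (Fin n) k →ₐ[k] L} (h : IsHypLoc g φ)
    (h2 : Ord 2 (g : MvPowerSeries (Fin n) k)) :
    Ideal.span (Set.range fun i => φ (MvPolynomial.pderiv i g)) = IsLocalRing.maximalIdeal L ↔
      IsUnit (hess (g : MvPowerSeries (Fin n) k)).det := by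
  classical
  set H := hess (g : MvPowerSeries (Fin n) k) with hH
  have hd0 : ∀ i, MvPolynomial.constantCoeff (MvPolynomial.pderiv i g) = 0 := fun i => by
    rw [MvPolynomial.constantCoeff_eq, MvPolynomial.coeff_pderiv]
    have := h2 (0 + Finsupp.single i 1) (by simp)
    rw [MvPolynomial.coeff_coe] at this
    rw [this, zero_mul]
  have hX : ∀ l : Fin n, φ (MvPolynomial.X l) ∈ IsLocalRing.maximalIdeal L := fun l => by
    rw [h.max]
    exact Ideal.mem_map_of_mem φ.toRingHom (mem_M_iff.mpr (by simp))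
  constructor
  · intro he
    have key : ∀ l, ∃ a : Fin n → k, ∀ j, ∑ i, a i * H i j = if l = j then 1 else 0 := by
      intro l
      have hl := hX l
      rw [← he, Ideal.mem_span_range_iff_exists_fun] at hl
      obtain ⟨z, hz⟩ := hl
      choose q hq using fun i => h.exists_poly 2 (z i)
      refine ⟨fun i => MvPolynomial.constantCoeff (q i), fun j => ?_⟩
      have hmem : φ (MvPolynomial.X l - ∑ i, q i * MvPolynomial.pderiv i g) ∈
          IsLocalRing.maximalIdeal L ^ 2 := by
        rw [map_sub, ← hz, map_sum, ← Finset.sum_sub_distrib]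
        refine Ideal.sum_mem _ fun i _ => ?_
        rw [map_mul, ← sub_mul]
        exact Ideal.mul_mem_right _ _ (hq i)
      rw [h.mem_iff] at hmem
      obtain ⟨x, hx, y, hy, e⟩ := Submodule.mem_sup.mp hmem
      obtain ⟨d, rfl⟩ := Ideal.mem_span_singleton.mp hx
      have ho : Ord 2 ((g * d + y : MvPolynomial (Fin n) k) : MvPowerSeries (Fin n) k) := by
        rw [MvPolynomial.coe_add, MvPolynomial.coe_mul]
        exact (h2.mul_right _).add (ord_two_of_mem hy)
      rw [e] at ho
      have h1 := ho (Finsupp.single j 1) (by simp)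
      rw [← MvPolynomial.coeToMvPowerSeries.ringHom_apply, map_sub, map_sum] at h1
      simp only [map_sub, map_sum, map_mul, MvPolynomial.coeToMvPowerSeries.ringHom_apply,
        MvPolynomial.coe_X] at h1
      have h3 : ∀ i, lc j ((q i : MvPowerSeries (Fin n) k) * ((MvPolynomial.pderiv i g :
          MvPolynomial (Fin n) k) : MvPowerSeries (Fin n) k)) = MvPolynomial.constantCoeff (q i) * H i j := fun i => by
        rw [lc_mul _ _ (ord_one_iff.mpr (by
          rw [← coeff_zero_eq_constantCoeff_apply, MvPolynomial.coeff_coe, ← MvPolynomial.constantCoeff_eq]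
          exact hd0 i)), lc_pderiv, ← coeff_zero_eq_constantCoeff_apply, MvPolynomial.coeff_coe,
          ← MvPolynomial.constantCoeff_eq]
      simp only [lc] at h3
      simp only [h3, coeff_X, sub_eq_zero] at h1
      rw [← h1]
      by_cases hlj : l = j
      · subst hlj; simp
      · rw [if_neg hlj, if_neg]
        intro e'; exact hlj ((Finsupp.single_left_inj one_ne_zero).mp e').symm
    choose a ha using key
    refine IsUnit.of_mul_eq_one (Matrix.of a).det ?_
    rw [mul_comm, ← Matrix.det_mul]
    convert Matrix.det_one (n := Fin n) (R := k) using 2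
    ext l j
    rw [Matrix.mul_apply, Matrix.one_apply]
    exact ha l j
  · intro hu
    refine le_antisymm (Ideal.span_le.mpr ?_) ?_
    · rintro _ ⟨i, rfl⟩
      rw [h.max]
      exact Ideal.mem_map_of_mem φ.toRingHom (mem_M_iff.mpr (hd0 i))
    set J := Ideal.span (Set.range fun i => φ (MvPolynomial.pderiv i g))
    have hfg : (IsLocalRing.maximalIdeal L).FG := by
      rw [h.max]; exact (MvPolynomial.idealOfVars_fg (Fin n) k).map _
    refine Submodule.le_of_le_smul_of_le_jacobson_bot (I := IsLocalRing.maximalIdeal L) hfg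
      (by rw [IsLocalRing.jacobson_eq_maximalIdeal _ bot_ne_top]) ?_
    rw [Ideal.smul_eq_mul, ← pow_two]
    conv_lhs => rw [h.max]
    rw [Ideal.map_span, Ideal.span_le]
    rintro _ ⟨_, ⟨l, rfl⟩, rfl⟩
    set w : MvPolynomial (Fin n) k :=
      ∑ i, MvPolynomial.C (H⁻¹ l i) * MvPolynomial.pderiv i g with hw
    have hwJ : φ w ∈ J := by
      rw [map_sum]
      exact Ideal.sum_mem _ fun i _ => by
        rw [map_mul]; exact Ideal.mul_mem_left _ _ (Ideal.subset_span ⟨i, rfl⟩)
    have hord : MvPolynomial.X l - w ∈ M k n ^ 2 := by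
      rw [MvPolynomial.mem_pow_idealOfVars_iff']
      intro e he
      rcases H02CA.PS.degree_lt_two he with rfl | ⟨j, rfl⟩
      · simp only [← MvPolynomial.constantCoeff_eq, map_sub, hw, map_sum, map_mul,
          MvPolynomial.constantCoeff_X, hd0, mul_zero, Finset.sum_const_zero, sub_zero]
      · rw [MvPolynomial.coeff_sub, hw, MvPolynomial.coeff_sum]
        have h3 : ∀ i, MvPolynomial.coeff (Finsupp.single j 1)
            (MvPolynomial.C (H⁻¹ l i) * MvPolynomial.pderiv i g) = H⁻¹ l i * H i j := fun i => by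
          rw [MvPolynomial.coeff_C_mul, ← MvPolynomial.coeff_coe]
          exact congrArg _ (lc_pderiv g i j)
        simp only [h3]
        rw [← Matrix.mul_apply, Matrix.nonsing_inv_mul H hu, MvPolynomial.coeff_X, Matrix.one_apply]
        by_cases hlj : l = j
        · subst hlj; simp
        · rw [if_neg hlj, if_neg]
          · simp
          intro e'; exact hlj ((Finsupp.single_left_inj one_ne_zero).mp e')
    have hm := (h.mem_iff 2 _).mpr (Ideal.mem_sup_right hord)
    rw [map_sub] at hm
    show φ (MvPolynomial.X l) ∈ _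
    have := Submodule.add_mem_sup hwJ hm
    rwa [add_sub_cancel] at this

theorem hess_unit_of_equiv {g f : MvPowerSeries (Fin (n + 1)) k} (hg : Ord 2 g) (hf : Ord 2 f)
    (hgu : IsUnit (hess g).det)
    (e : (MvPowerSeries (Fin (n + 1)) k ⧸ Ideal.span {g}) ≃ₐ[k]
      (MvPowerSeries (Fin (n + 1)) k ⧸ Ideal.span {f})) : IsUnit (hess f).det := by
  classical
  have hlow : ∀ (a : (MvPowerSeries (Fin (n + 1)) k)), Ord 2 a → Ideal.span {a} ≠ ⊤ := fun a ha he => by
    have := (isUnit_iff_constantCoeff.mp (Ideal.span_singleton_eq_top.mp he))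
    rw [ord_one_iff.mp (ha.mono one_le_two)] at this
    exact not_isUnit_zero this
  have hconst : ∀ (a b : (MvPowerSeries (Fin (n + 1)) k)) (_ : Ord 2 a) (_ : Ord 2 b)
      (u : ((MvPowerSeries (Fin (n + 1)) k) ⧸ Ideal.span {a}) ≃ₐ[k] ((MvPowerSeries (Fin (n + 1)) k) ⧸ Ideal.span {b})) (x y : (MvPowerSeries (Fin (n + 1)) k)),
      constantCoeff x = 0 → Ideal.Quotient.mk (Ideal.span {b}) y = u (Ideal.Quotient.mk _ x) →
      Ord 1 y := by
    intro a b ha hb u x y hx he
    rw [ord_one_iff]
    by_contra h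
    have hy : IsUnit y := isUnit_iff_constantCoeff.mpr (Ne.isUnit h)
    have hux := (hy.map (Ideal.Quotient.mk (Ideal.span {b}))).map u.symm
    rw [he, AlgEquiv.symm_apply_apply] at hux
    obtain ⟨v, hv⟩ := hux.exists_right_inv
    obtain ⟨v, rfl⟩ := Ideal.Quotient.mk_surjective v
    rw [← map_mul, ← map_one (Ideal.Quotient.mk (Ideal.span {a})), Ideal.Quotient.eq,
      Ideal.mem_span_singleton] at hv
    obtain ⟨c, hc⟩ := hv
    have := congrArg constantCoeff hc
    rw [map_sub, map_mul, map_mul, hx, ord_one_iff.mp (ha.mono one_le_two), zero_mul, zero_mul,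
      map_one, zero_sub] at this
    exact neg_ne_zero.mpr one_ne_zero this
  choose h hh using fun i => Ideal.Quotient.mk_surjective (e (Ideal.Quotient.mk _ (X i)))
  choose h' hh' using fun i => Ideal.Quotient.mk_surjective (e.symm (Ideal.Quotient.mk _ (X i)))
  have ho : ∀ i, Ord 1 (h i) := fun i => hconst g f hg hf e (X i) (h i) (constantCoeff_X i) (hh i)
  have ho' : ∀ i, Ord 1 (h' i) := fun i =>
    hconst f g hf hg e.symm (X i) (h' i) (constantCoeff_X i) (hh' i)
  have hs := hasSubst_of_ord ho
  haveI : Nontrivial ((MvPowerSeries (Fin (n + 1)) k) ⧸ Ideal.span {f}) := Ideal.Quotient.nontrivial_iff.mpr (hlow f hf)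
  haveI : IsLocalRing ((MvPowerSeries (Fin (n + 1)) k) ⧸ Ideal.span {f}) :=
    IsLocalRing.of_surjective' _ Ideal.Quotient.mk_surjective
  have hcomp : (Ideal.Quotient.mkₐ k (Ideal.span {f})).comp (substAlgHom hs) =
      e.toAlgHom.comp (Ideal.Quotient.mkₐ k (Ideal.span {g})) := by
    refine H02CA.PS.algHom_ext (IsLocalRing.maximalIdeal ((MvPowerSeries (Fin (n + 1)) k) ⧸ Ideal.span {f})) (fun i => ?_) (fun i => ?_)
    · rw [AlgHom.comp_apply, substAlgHom_X, IsLocalRing.mem_maximalIdeal, mem_nonunits_iff]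
      intro hu
      obtain ⟨v, hv⟩ := hu.exists_right_inv
      obtain ⟨v, rfl⟩ := Ideal.Quotient.mk_surjective v
      rw [Ideal.Quotient.mkₐ_eq_mk, ← map_mul, ← map_one (Ideal.Quotient.mk (Ideal.span {f})),
        Ideal.Quotient.eq, Ideal.mem_span_singleton] at hv
      obtain ⟨c, hc⟩ := hv
      have := congrArg constantCoeff hc
      rw [map_sub, map_mul, map_mul, ord_one_iff.mp (ho i), ord_one_iff.mp (hf.mono one_le_two),
        zero_mul, zero_mul, map_one, zero_sub] at this
      exact neg_ne_zero.mpr one_ne_zero this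
    · rw [AlgHom.comp_apply, substAlgHom_X]
      exact hh i
  have hmk : ∀ a : (MvPowerSeries (Fin (n + 1)) k), Ideal.Quotient.mk (Ideal.span {f}) (substAlgHom hs a) =
      e (Ideal.Quotient.mk (Ideal.span {g}) a) := fun a => AlgHom.congr_fun hcomp a
  set Lm : Matrix (Fin (n + 1)) (Fin (n + 1)) k := Matrix.of fun i j => lc j (h i) with hLm
  set Lm' : Matrix (Fin (n + 1)) (Fin (n + 1)) k := Matrix.of fun i j => lc j (h' i) with hLm'
  have hLL : Lm' * Lm = 1 := by
    ext i j
    rw [Matrix.mul_apply, Matrix.one_apply]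
    have h1 : Ideal.Quotient.mk (Ideal.span {f}) (substAlgHom hs (h' i)) = Ideal.Quotient.mk _ (X i) := by
      rw [hmk, hh', AlgEquiv.apply_symm_apply]
    rw [Ideal.Quotient.eq, Ideal.mem_span_singleton] at h1
    obtain ⟨c, hc⟩ := h1
    have h2 := (hf.mul_right c) (Finsupp.single j 1) (by simp)
    rw [← hc, map_sub, sub_eq_zero] at h2
    calc ∑ l, Lm' i l * Lm l j = lc j (substAlgHom hs (h' i)) := (lc_subst hs ho (h' i) j).symm
      _ = lc j (X i) := h2
      _ = _ := by
        simp only [lc, coeff_X]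
        by_cases hij : i = j
        · subst hij; simp
        · rw [if_neg hij, if_neg]
          intro e'; exact hij ((Finsupp.single_left_inj one_ne_zero).mp e').symm
  have hsg : substAlgHom hs g ∈ Ideal.span {f} := by
    rw [← Ideal.Quotient.eq_zero_iff_mem, hmk,
      Ideal.Quotient.eq_zero_iff_mem.mpr (Ideal.mem_span_singleton_self g), map_zero]
  obtain ⟨v, hv⟩ := Ideal.mem_span_singleton.mp hsg
  rw [mul_comm] at hv
  have hH := congrArg Matrix.det (hess_subst hs ho hg)
  rw [hv, hess_mul_left v f hf, Matrix.det_smul, Matrix.det_mul, Matrix.det_mul,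
    Matrix.det_transpose, Fintype.card_fin] at hH
  have hLu : Lm.det ≠ 0 := fun h0 => by
    have := congrArg Matrix.det hLL
    rw [Matrix.det_mul, h0, mul_zero, Matrix.det_one] at this
    exact zero_ne_one this
  rw [isUnit_iff_ne_zero] at hgu ⊢
  intro h0
  rw [h0, mul_zero] at hH
  exact mul_ne_zero (mul_ne_zero hLu hgu) hLu hH.symm

open MvPowerSeries Groth.Agent.H26Base.PsMorse Groth.Agent.H26Base.PsHyp in

/-- (b) ⇔ (c): let k be an algebraically closed field, m ≥ 0, f ∈ k[x_0, …, x_m], B = k[x_0, …, x_m]/(f)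
and P a maximal ideal of B (a closed point y of the hypersurface Y = V(f)) containing the classes of
all partial derivatives ∂f/∂x_j, so that y lies in the m-th Jacobian locus of Y (cut out in Y by the
m-th Fitting ideal of Ω_{Y/k}, which is generated by these classes). Then the following are
equivalent: (b) the classes of the ∂f/∂x_j generate the maximal ideal of the local ring B_P, i.e.
near y the Jacobian locus is the reduced point y; (c) y is a non-degenerate quadratic singularity of
Y of dimension m: the completion of B_P is k-isomorphic to k[[x_0, …, x_m]]/(g) for a power series g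
without constant or linear terms whose quadratic part has unit polar discriminant. (The published
statement is for Y a local complete intersection of virtual dimension m over k and a point of the
m-th but not the (m+1)-st Jacobian locus; the statement here is its affine hypersurface case, to
which its proof reduces by an étale chart. A third equivalent condition there, on the differentials
of the Jacobian scheme at y, is not stated here.) -/
theorem result
    (k : Type u) [Field k] [IsAlgClosed k] (m : ℕ) (f : MvPolynomial (Fin (m + 1)) k)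
    (P : Ideal (MvPolynomial (Fin (m + 1)) k ⧸ Ideal.span {f})) [P.IsMaximal]
    (hP : ∀ j : Fin (m + 1), Ideal.Quotient.mk (Ideal.span {f}) (MvPolynomial.pderiv j f) ∈ P) :
    Ideal.map (algebraMap (MvPolynomial (Fin (m + 1)) k ⧸ Ideal.span {f}) (Localization.AtPrime P))
        (Ideal.span (Set.range fun j : Fin (m + 1) =>
          Ideal.Quotient.mk (Ideal.span {f}) (MvPolynomial.pderiv j f))) =
      IsLocalRing.maximalIdeal (Localization.AtPrime P) ↔
    VanCyc.IsNondegQuadSing k (Localization.AtPrime P) m := by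
  classical
  haveI hQ : (P.comap (Ideal.Quotient.mk (Ideal.span {f}))).IsMaximal :=
    Ideal.comap_isMaximal_of_surjective _ Ideal.Quotient.mk_surjective
  obtain ⟨c, hc⟩ := MvPolynomial.isMaximal_iff_eq_vanishingIdeal_singleton.mp hQ
  let τ : (MvPolynomial (Fin (m + 1)) k) →ₐ[k] (MvPolynomial (Fin (m + 1)) k) := MvPolynomial.aeval fun i => MvPolynomial.X i + MvPolynomial.C (c i)
  let σ : (MvPolynomial (Fin (m + 1)) k) →ₐ[k] (MvPolynomial (Fin (m + 1)) k) := MvPolynomial.aeval fun i => MvPolynomial.X i - MvPolynomial.C (c i)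
  have hτσ : ∀ p, τ (σ p) = p := fun p => by
    have : τ.comp σ = AlgHom.id k (MvPolynomial (Fin (m + 1)) k) := MvPolynomial.algHom_ext fun i => by simp [τ, σ]
    exact AlgHom.congr_fun this p
  have hστ : ∀ p, σ (τ p) = p := fun p => by
    have : σ.comp τ = AlgHom.id k (MvPolynomial (Fin (m + 1)) k) := MvPolynomial.algHom_ext fun i => by simp [τ, σ]
    exact AlgHom.congr_fun this p
  have hev : ∀ p : (MvPolynomial (Fin (m + 1)) k), MvPolynomial.constantCoeff p = MvPolynomial.aeval c (σ p) := fun p => by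
    have : (MvPolynomial.aeval c).comp σ = MvPolynomial.aeval (fun _ : Fin (m + 1) => (0 : k)) :=
      MvPolynomial.algHom_ext fun i => by simp [σ]
    rw [← AlgHom.comp_apply, this, MvPolynomial.constantCoeff_eq]
    simp [MvPolynomial.aeval_def, MvPolynomial.eval₂_zero'_apply, MvPolynomial.constantCoeff_eq]
  have hmemP : ∀ p : (MvPolynomial (Fin (m + 1)) k), Ideal.Quotient.mk (Ideal.span {f}) (σ p) ∈ P ↔
      MvPolynomial.constantCoeff p = 0 := fun p => by
    rw [← Ideal.mem_comap, hc, MvPolynomial.mem_vanishingIdeal_singleton_iff, hev]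
  let g : (MvPolynomial (Fin (m + 1)) k) := τ f
  let φ : (MvPolynomial (Fin (m + 1)) k) →ₐ[k] (Localization.AtPrime P) :=
    ((IsScalarTower.toAlgHom k ((MvPolynomial (Fin (m + 1)) k) ⧸ Ideal.span {f}) (Localization.AtPrime P)).comp (Ideal.Quotient.mkₐ k _)).comp σ
  have hφ : ∀ p, φ p = algebraMap ((MvPolynomial (Fin (m + 1)) k) ⧸ Ideal.span {f}) (Localization.AtPrime P) (Ideal.Quotient.mk _ (σ p)) := fun _ => rfl
  have hmk : ∀ z : (MvPolynomial (Fin (m + 1)) k) ⧸ Ideal.span {f}, ∃ p, Ideal.Quotient.mk _ (σ p) = z := fun z => by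
    obtain ⟨p, rfl⟩ := Ideal.Quotient.mk_surjective z
    exact ⟨τ p, by rw [hστ]⟩
  have hg0 : MvPolynomial.constantCoeff g = 0 := by
    rw [← hmemP, hστ, Ideal.Quotient.eq_zero_iff_mem.mpr (Ideal.mem_span_singleton_self f)]
    exact P.zero_mem
  have hH : IsHypLoc (L := Localization.AtPrime P) g φ := by
    refine IsHypLoc.mk hg0 ?_ ?_ ?_ ?_
    · rw [hφ, hστ, Ideal.Quotient.eq_zero_iff_mem.mpr (Ideal.mem_span_singleton_self f), map_zero]
    · rw [← Localization.AtPrime.map_eq_maximalIdeal]
      refine le_antisymm (Ideal.map_le_iff_le_comap.mpr fun z hz => ?_) (Ideal.map_le_iff_le_comap.mpr fun p hp => ?_)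
      · obtain ⟨p, rfl⟩ := hmk z
        exact Ideal.mem_comap.mpr (Ideal.mem_map_of_mem φ.toRingHom (mem_M_iff.mpr ((hmemP p).mp hz)))
      · exact Ideal.mem_comap.mpr (Ideal.mem_map_of_mem _ ((hmemP p).mpr (mem_M_iff.mp hp)))
    · intro z
      obtain ⟨⟨a, b⟩, hab⟩ := IsLocalization.surj P.primeCompl z
      obtain ⟨p, hp⟩ := hmk a
      obtain ⟨s, hs⟩ := hmk b
      refine ⟨p, s, fun h0 => b.2 ?_, ?_⟩
      · rw [← hs]; exact (hmemP s).mpr h0
      · rw [hφ, hφ, hs, hp]; exact hab
    · intro p hp
      rw [hφ, IsLocalization.map_eq_zero_iff P.primeCompl] at hp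
      obtain ⟨t, ht⟩ := hp
      obtain ⟨s, hs⟩ := hmk t
      refine ⟨s, fun h0 => t.2 ?_, ?_⟩
      · rw [← hs]; exact (hmemP s).mpr h0
      · rw [← hs, ← map_mul, Ideal.Quotient.eq_zero_iff_mem, ← map_mul, Ideal.mem_span_singleton] at ht
        obtain ⟨d, hd⟩ := ht
        rw [Ideal.mem_span_singleton]
        exact ⟨τ d, by rw [← hτσ (s * p), hd, map_mul]⟩
  have hpd : ∀ j, φ (MvPolynomial.pderiv j g) =
      algebraMap ((MvPolynomial (Fin (m + 1)) k) ⧸ Ideal.span {f}) (Localization.AtPrime P) (Ideal.Quotient.mk _ (MvPolynomial.pderiv j f)) := fun j => by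
    rw [hφ, pderiv_shift, hστ]
  have h2 : Ord 2 (g : MvPowerSeries (Fin (m + 1)) k) := by
    rw [ord_two_iff]
    refine ⟨?_, fun i => ?_⟩
    · rw [← coeff_zero_eq_constantCoeff_apply, MvPolynomial.coeff_coe, ← MvPolynomial.constantCoeff_eq]
      exact hg0
    · have h1 : MvPolynomial.constantCoeff (MvPolynomial.pderiv i g) = 0 := by
        rw [← hmemP, pderiv_shift, hστ]; exact hP i
      rw [MvPolynomial.constantCoeff_eq, MvPolynomial.coeff_pderiv, zero_add] at h1
      rw [MvPolynomial.coeff_coe]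
      simpa using h1
  rw [Ideal.map_span, ← Set.range_comp]
  simp only [Function.comp_def, ← hpd]
  rw [jac_iff hH h2]
  obtain ⟨e⟩ := hH.completion
  constructor
  · intro hu
    exact ⟨_, ⟨ord_two_iff.mp h2, hu⟩, ⟨e⟩⟩
  · rintro ⟨g', ⟨hlow, hnd⟩, ⟨e'⟩⟩
    exact hess_unit_of_equiv (ord_two_iff.mpr hlow) h2 hnd (e'.symm.trans e)

end Groth.Agent.S16255
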