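import Groth.Statements.S16259
import Mathlib.Algebra.Polynomial.FieldDivision
import Mathlib.Algebra.Polynomial.Derivative
import Mathlib.Data.Nat.Choose.Basic
import Mathlib.Tactic

set_option autoImplicit false
open W4c3wronskmg

namespace Groth.Agent.S16259

open Polynomial

theorem choose_step (k : Type*) [CommRing k] (a d : ℕ) :
    ((a : k) - d) * (a.choose d : k) = ((d : k) + 1) * (a.choose (d + 1) : k) := by
  rcases le_or_gt d a with h | h
  · rw [← Nat.cast_sub h, ← Nat.cast_succ, ← Nat.cast_mul, ← Nat.cast_mul, mul_comm (a - d),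
      ← Nat.choose_succ_right_eq, mul_comm]
  · rw [Nat.choose_eq_zero_of_lt h, Nat.choose_eq_zero_of_lt (by omega)]
    simp

theorem ode {k : Type*} [CommRing k] (i j n : ℕ) (P : Polynomial k)
    (hP : ∀ m, P.coeff m = if m ≤ n then (i.choose (n - m) : k) * (j.choose m : k) else 0) :
    X * derivative (derivative P) + C ((1 : k) + i - n) * derivative P =
      X ^ 2 * derivative (derivative P) + C ((1 : k) - j - n) * (X * derivative P) + C ((j : k) * n) * P := by
  have hrec : ∀ m : ℕ, ((m : k) + 1) * ((m : k) + 1 + i - n) * P.coeff (m + 1) =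
      ((m : k) - j) * ((m : k) - n) * P.coeff m := by
    intro m
    rw [hP, hP]
    rcases lt_trichotomy m n with h | rfl | h
    · obtain ⟨d, rfl⟩ : ∃ d, n = m + 1 + d := ⟨n - m - 1, by omega⟩
      rw [if_pos (by omega), if_pos h.le, show m + 1 + d - (m + 1) = d by omega,
        show m + 1 + d - m = d + 1 by omega]
      have e1 := choose_step k i d
      have e2 := choose_step k j m
      push_cast
      linear_combination ((m : k) + 1) * (j.choose (m + 1) : k) * e1 - ((d : k) + 1) * (i.choose (d + 1) : k) * e2
    · simp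
    · rw [if_neg (by omega), if_neg (by omega), mul_zero, mul_zero]
  obtain ⟨A, hA⟩ : ∃ A : k, A = 1 + i - n := ⟨_, rfl⟩
  obtain ⟨B, hB⟩ : ∃ B : k, B = 1 - j - n := ⟨_, rfl⟩
  obtain ⟨D, hD⟩ : ∃ D : k, D = j * n := ⟨_, rfl⟩
  rw [← hA, ← hB, ← hD]
  ext m
  rcases m with _ | _ | m
  · have h0 := hrec 0
    simp [coeff_derivative] at h0 ⊢
    subst hA hB hD
    linear_combination h0
  · have h1 := hrec 1
    simp [coeff_derivative, coeff_X_pow_mul', coeff_X_mul] at h1 ⊢
    subst hA hB hD
    linear_combination h1
  · have h2 := hrec (m + 2)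
    simp [coeff_derivative, coeff_X_pow_mul', coeff_X_mul] at h2 ⊢
    subst hA hB hD
    linear_combination h2

open Polynomial in
/-- Over a field of characteristic zero, for positive integers `i, j` and a natural number `n`, the
polynomial `h(W) = ∑_{l=0}^{n} (i choose l) (j choose (n-l)) W^(n-l)`, the coefficient of
`X^(i+j-n)` in `(X+1)^i (X+W)^j`, has no multiple root other than possibly `0` and `1`: every `c ≠
0, 1` has root multiplicity at most one. -/
theorem result
    (k : Type*) [Field k] [CharZero k] (i j n : ℕ) (hi : 0 < i) (hj : 0 < j) (c : k) (hc0 : c ≠ 0) (hc1 : c ≠ 1) :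
    Polynomial.rootMultiplicity c
      (∑ l ∈ Finset.range (n + 1),
        Polynomial.C (((i.choose l) * (j.choose (n - l)) : ℕ) : k) * Polynomial.X ^ (n - l)) ≤ 1 := by
  set P : Polynomial k := ∑ l ∈ Finset.range (n + 1),
      Polynomial.C (((i.choose l) * (j.choose (n - l)) : ℕ) : k) * Polynomial.X ^ (n - l) with hPdef
  have hP : ∀ m, P.coeff m = if m ≤ n then (i.choose (n - m) : k) * (j.choose m : k) else 0 := by
    intro m
    rw [hPdef, finset_sum_coeff]
    simp only [coeff_C_mul_X_pow]
    split_ifs with h
    · rw [Finset.sum_eq_single (n - m)]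
      · rw [if_pos (by omega), show n - (n - m) = m by omega, Nat.cast_mul]
      · intro b hb hne
        rw [Finset.mem_range] at hb
        rw [if_neg (by omega)]
      · intro hh; simp at hh
    · refine Finset.sum_eq_zero fun b hb => ?_
      rw [Finset.mem_range] at hb
      rw [if_neg (by omega)]
  by_contra hgt
  have hμ : 2 ≤ rootMultiplicity c P := by omega
  have hP0 : P ≠ 0 := fun h => by rw [h, rootMultiplicity_zero] at hμ; omega
  have hroot : P.IsRoot c := (rootMultiplicity_pos hP0).1 (by omega)
  have hd1 : rootMultiplicity c (derivative P) = rootMultiplicity c P - 1 :=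
    derivative_rootMultiplicity_of_root hroot
  have hd0 : derivative P ≠ 0 := fun h => by rw [h, rootMultiplicity_zero] at hd1; omega
  have hd2 : rootMultiplicity c (derivative (derivative P)) = rootMultiplicity c P - 2 := by
    rw [derivative_rootMultiplicity_of_root ((rootMultiplicity_pos hd0).1 (by omega)), hd1]
    omega
  have hdvd1 : (X - C c) ^ (rootMultiplicity c P - 1) ∣ derivative P := hd1 ▸ pow_rootMultiplicity_dvd _ _
  have hdvd0 : (X - C c) ^ (rootMultiplicity c P - 1) ∣ P :=
    (pow_dvd_pow _ (Nat.sub_le _ _)).trans (pow_rootMultiplicity_dvd _ _)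
  have hode := ode i j n P hP
  have hlhs : (X - C c) ^ (rootMultiplicity c P - 1) ∣ (X - X ^ 2) * derivative (derivative P) := by
    have : (X - X ^ 2) * derivative (derivative P) = C ((1 : k) - j - n) * (X * derivative P) +
        C ((j : k) * n) * P - C ((1 : k) + i - n) * derivative P := by linear_combination hode
    rw [this]
    exact dvd_sub (dvd_add (dvd_mul_of_dvd_right (dvd_mul_of_dvd_right hdvd1 _) _)
      (dvd_mul_of_dvd_right hdvd0 _)) (dvd_mul_of_dvd_right hdvd1 _)
  have hd20 : derivative (derivative P) ≠ 0 := by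
    intro h
    have hdeg := natDegree_eq_zero_of_derivative_eq_zero h
    rw [eq_C_of_natDegree_eq_zero hdeg, rootMultiplicity_C] at hd1
    omega
  have hx : ¬ ((X - X ^ 2 : Polynomial k)).IsRoot c := by
    simp only [IsRoot, eval_sub, eval_X, eval_pow]
    intro h
    have : c * (1 - c) = 0 := by linear_combination h
    rcases mul_eq_zero.1 this with h' | h'
    · exact hc0 h'
    · exact hc1 (sub_eq_zero.1 h').symm
  have hx0 : (X - X ^ 2 : Polynomial k) ≠ 0 := fun h => hx (by rw [h]; simp)
  have := (le_rootMultiplicity_iff (mul_ne_zero hx0 hd20)).2 hlhs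
  rw [rootMultiplicity_mul (mul_ne_zero hx0 hd20), rootMultiplicity_eq_zero hx, hd2] at this
  omega

end Groth.Agent.S16259
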