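import Groth.Statements.S1626
-- import your own Groth.Agent.* helpers here
import Groth.Agent.S1625
import Groth.Agent.S7645
import Groth.Agent.S9675
import Groth.Agent.S9676
import Groth.Agent.H8Props.NagataAffine
import Groth.Agent.H11Curve.Complete

set_option autoImplicit false
universe u
open CategoryTheory CategoryTheory.Limits AlgebraicGeometry
open Variety

namespace Groth.Agent.S1626

open TopologicalSpace

/-- Points of a Jacobson scheme containing a dense open of dimension at most one. -/
theorem point_dichotomy {X Y : Scheme.{u}} (j : X ⟶ Y) [IsOpenImmersion j] [JacobsonSpace Y]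
    (hdim : topologicalKrullDim X ≤ 1) (hcl : ∀ y ∉ Set.range j.base, IsClosed ({y} : Set Y)) (y : Y) :
    IsClosed ({y} : Set Y) ∨ ∀ y', y' ⤳ y → y' = y := by
  by_cases hy : y ∈ Set.range j.base
  swap
  · exact Or.inl (hcl y hy)
  obtain ⟨x, rfl⟩ := hy
  letI := specializationOrder X
  have hd : Order.krullDim X ≤ 1 := by
    rw [← Order.krullDim_eq_of_orderIso (irreducibleSetEquivPoints (α := X))]; exact hdim
  rcases Order.krullDim_le_one_iff.1 hd x with hmin | hmax
  · refine Or.inl (isClosed_singleton_of_isLocallyClosed_singleton ?_)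
    have hx : IsClosed ({x} : Set X) := by
      rw [← closure_eq_iff_isClosed]
      refine Set.Subset.antisymm (fun z hz => ?_) subset_closure
      have h : x ⤳ z := specializes_iff_mem_closure.2 hz
      exact le_antisymm h (hmin h)
    rw [← Set.image_singleton]
    exact hx.isLocallyClosed.image j.isOpenEmbedding.isInducing j.isOpenEmbedding.isOpen_range.isLocallyClosed
  · refine Or.inr fun y' hy' => ?_
    obtain ⟨x', rfl⟩ := hy'.mem_open j.isOpenEmbedding.isOpen_range ⟨x, rfl⟩
    have h : x' ⤳ x := j.isOpenEmbedding.isInducing.specializes_iff.1 hy'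
    exact congrArg _ (le_antisymm (hmax h) h)


/-- Let X be reduced, separated and of finite type over k with dim X ≤ 1. Then there are a closed
subscheme Y of some P^d_k and a dense, scheme-theoretically dense open immersion j : X → Y over k
whose complement is a finite set of closed points at each of which the local ring of Y is a discrete
valuation ring. -/
theorem result (k : Type u) [Field k] (X : Scheme.{u}) [X.Over (Spec (CommRingCat.of k))] [IsReduced X] [IsSeparated (X ↘ (Spec (CommRingCat.of k)))] [LocallyOfFiniteType (X ↘ (Spec (CommRingCat.of k)))] [QuasiCompact (X ↘ (Spec (CommRingCat.of k)))] (hdim : topologicalKrullDim X ≤ 1) :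
    ∃ (d : ℕ) (Y : Scheme.{u}) (c : Y ⟶ CohB1.ProjSpace d k) (j : X ⟶ Y), IsClosedImmersion c ∧ IsOpenImmersion j ∧
      j ≫ c ≫ CohB1.ProjSpace.toSpec d k = X ↘ (Spec (CommRingCat.of k)) ∧ Dense (Set.range j.base) ∧ IsSchemeTheoreticallyDominant j ∧
      (Set.range j.base)ᶜ.Finite ∧ ∀ y ∈ (Set.range j.base)ᶜ, IsClosed ({y} : Set Y) ∧
        ∃ _ : IsDomain (Y.presheaf.stalk y), IsDiscreteValuationRing (Y.presheaf.stalk y) := by
  obtain ⟨d, Y, c, j, hc, hj, hover, hdense, -, -, hcl⟩ := Groth.Agent.S1625.result k X hdim
  haveI := hc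
  haveI := hj
  let Sk := Spec (CommRingCat.of k)
  let p : Y ⟶ Sk := c ≫ CohB1.ProjSpace.toSpec d k
  haveI : IsProper p := inferInstance
  haveI : IsLocallyNoetherian Y := LocallyOfFiniteType.isLocallyNoetherian p
  haveI : QuasiCompact j := inferInstance
  have hN : ∀ U : Y.affineOpens, CAlg.IsNagata Γ(Y, U) := by
    intro U
    refine Groth.Agent.H8Props.NagataAffine.isNagata_affineOpen Y (fun i : Y.affineOpens => i.1)
      (iSup_affineOpens_eq_top Y) (fun i => i.2) U.1 U.2 fun i => ?_
    have h := HasRingHomProperty.appLE @LocallyOfFiniteType p inferInstance ⟨⊤, isAffineOpen_top Sk⟩ i le_top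
    algebraize [(p.appLE ⊤ i.1 le_top).hom]
    exact Groth.Agent.H1CAlg.isNagata_of_finiteType (R := Γ(Sk, ⊤))
      (Groth.Agent.H11Curve.isNagata_affineOpen_spec_field k ⊤ (isAffineOpen_top Sk))
  haveI : IsFinite j.fromNormalization := Groth.Agent.S9675.result j hN
  set ν := j.fromNormalization
  set j' := j.toNormalization
  haveI : IsOpenImmersion j' := inferInstance
  haveI : JacobsonSpace Y := LocallyOfFiniteType.jacobsonSpace p
  have hjj : ∀ x, ν (j' x) = j x := fun x => congr($(j.toNormalization_fromNormalization) x)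
  -- finite morphisms: no strict specializations in a fibre
  have hfib : ∀ a b : j.normalization, a ⤳ b → ν a = ν b → a = b := by
    intro a b hab h
    haveI : Finite ↥(ν.base ⁻¹' {ν b}) := (ν.finite_preimage_singleton (ν b)).to_subtype
    haveI : DiscreteTopology ↥(ν.base ⁻¹' {ν b}) := (isDiscrete_iff_discreteTopology).1 (ν.isDiscrete_preimage_singleton (ν b))
    have hs : (⟨a, h⟩ : ↥(ν.base ⁻¹' {ν b})) ⤳ ⟨b, rfl⟩ := (subtype_specializes_iff _ _).2 hab
    exact congrArg Subtype.val hs.eq
  haveI : CompactSpace ↥j.normalization := QuasiCompact.compactSpace_of_compactSpace (ν ≫ p)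
  haveI : IsLocallyNoetherian j.normalization := LocallyOfFiniteType.isLocallyNoetherian (ν ≫ p)
  haveI : IsNoetherian j.normalization := ⟨⟩
  haveI : JacobsonSpace ↥j.normalization := LocallyOfFiniteType.jacobsonSpace ν
  -- closedness of the new points
  have hcl' : ∀ y ∉ Set.range j'.base, IsClosed ({y} : Set ↥j.normalization) := by
    intro y hy
    by_cases hνy : IsClosed ({ν y} : Set Y)
    · rw [← closure_eq_iff_isClosed]
      refine Set.Subset.antisymm (fun z hz => ?_) subset_closure
      have hs : y ⤳ z := specializes_iff_mem_closure.2 hz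
      have h1 : ν z ∈ closure ({ν y} : Set Y) := specializes_iff_mem_closure.1 (hs.map ν.continuous)
      rw [hνy.closure_eq] at h1
      exact (hfib y z hs h1.symm).symm
    · exfalso
      rcases point_dichotomy j hdim hcl (ν y) with h | hmax
      · exact hνy h
      obtain ⟨x, hx⟩ : ν y ∈ Set.range j.base := by
        by_contra h
        exact hνy (hcl _ h)
      -- `y` is a generic point, hence in the dense open image
      have hmax' : ∀ a, a ⤳ y → a = y := fun a ha => hfib a y ha (hmax _ (ha.map ν.continuous))
      obtain ⟨g, hg, hgy⟩ := Groth.Agent.H17.exists_genericPoint_specializes y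
      have hgy' : closure ({y} : Set ↥j.normalization) ∈ irreducibleComponents ↥j.normalization := hmax' g hgy ▸ hg
      obtain ⟨O, hO, hOne, hOsub⟩ := NoetherianSpace.exists_isOpen_nonempty_subset_irreducibleComponent _ hgy'
      obtain ⟨_, hzO, x', rfl⟩ := j'.denseRange.inter_open_nonempty O hO hOne
      have hs : y ⤳ j' x' := specializes_iff_mem_closure.2 (hOsub hzO)
      exact hy (hs.mem_open j'.isOpenEmbedding.isOpen_range ⟨x', rfl⟩)
  have hdim' : topologicalKrullDim ↥j.normalization ≤ 1 := by
    letI := specializationOrder ↥j.normalization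
    rw [topologicalKrullDim, Order.krullDim_eq_of_orderIso (irreducibleSetEquivPoints (α := ↥j.normalization))]
    refine Order.krullDim_le_one_iff.2 fun y => ?_
    rcases point_dichotomy j' hdim hcl' y with h | h
    · refine Or.inl fun z hz => ?_
      have : z = y := by
        have := specializes_iff_mem_closure.1 (show y ⤳ z from hz)
        rwa [h.closure_eq] at this
      exact this ▸ le_rfl
    · exact Or.inr fun z hz => (h z hz) ▸ le_rfl
  letI : j.normalization.Over Sk := ⟨ν ≫ p⟩
  haveI : IsProper (j.normalization ↘ Sk) := inferInstanceAs (IsProper (ν ≫ p))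
  obtain ⟨n, i, hi, hik⟩ := Groth.Agent.S7645.result k j.normalization hdim'
  refine ⟨n, j.normalization, i, j', hi, inferInstance, ?_, j'.denseRange, ⟨j.ker_toNormalization⟩, ?_, fun y hy => ⟨hcl' y hy, ?_⟩⟩
  · rw [hik]
    show j' ≫ ν ≫ p = _
    rw [← Category.assoc, j.toNormalization_fromNormalization]
    exact hover
  · haveI : CompactSpace ↥j.normalization := QuasiCompact.compactSpace_of_compactSpace (ν ≫ p)
    haveI : IsLocallyNoetherian j.normalization := LocallyOfFiniteType.isLocallyNoetherian (ν ≫ p)
    haveI : IsNoetherian j.normalization := ⟨⟩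
    obtain ⟨S, hS, hSc, hSi, hSu⟩ := NoetherianSpace.exists_finite_set_isClosed_irreducible
      (α := ↥j.normalization) (j'.isOpenEmbedding.isOpen_range.isClosed_compl)
    rw [hSu]
    refine hS.sUnion fun Z hZ => ?_
    obtain ⟨g, hg⟩ := QuasiSober.sober (hSi Z hZ) (hSc Z hZ)
    have hgC : g ∈ (Set.range j'.base)ᶜ := hSu.ge ⟨Z, hZ, hg.mem⟩
    rw [← hg.def, (hcl' g hgC).closure_eq]
    exact Set.finite_singleton g
  · refine Groth.Agent.S9676.result j hN y ?_ hy
    rw [ringKrullDim_stalk_eq_coheight]
    letI := specializationOrder ↥j.normalization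
    have hle : (Order.coheight y : WithBot ℕ∞) ≤ 1 := by
      refine (Order.coheight_le_krullDim y).trans ?_
      rw [← Order.krullDim_eq_of_orderIso (irreducibleSetEquivPoints (α := ↥j.normalization))]
      exact hdim'
    refine le_antisymm hle ?_
    refine WithBot.coe_le_coe.2 (Order.one_le_iff_pos.2 (pos_iff_ne_zero.2 fun h => hy ?_))
    have hmax : IsMax y := Order.coheight_eq_zero.1 h
    obtain ⟨g, hg, hgy⟩ := Groth.Agent.H17.exists_genericPoint_specializes y
    have hgy' : closure ({y} : Set ↥j.normalization) ∈ irreducibleComponents ↥j.normalization :=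
      (le_antisymm (hmax hgy) hgy : g = y) ▸ hg
    obtain ⟨O, hO, hOne, hOsub⟩ := NoetherianSpace.exists_isOpen_nonempty_subset_irreducibleComponent _ hgy'
    obtain ⟨_, hzO, x', rfl⟩ := j'.denseRange.inter_open_nonempty O hO hOne
    exact (specializes_iff_mem_closure.2 (hOsub hzO)).mem_open j'.isOpenEmbedding.isOpen_range ⟨x', rfl⟩

end Groth.Agent.S1626
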