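import Groth.Statements.S16264
import Groth.Agent.H25Wr.Basic

set_option autoImplicit false
open W4c3wronskmg

namespace Groth.Agent.S16264

open Polynomial in
/-- Let `k` be a field of characteristic zero and `a, i, j` positive integers with `i + j = a - 1`. With
`A = 0`, `B = -1`, `C = ∞` on the projective line and `V` the `(a+1)`-dimensional system of
polynomials `c + X (X+1) F`, `deg F ≤ a - 1` (that is, `H⁰(ω((1+a)C)) ⊕ H⁰(ω(A+B)) ⊆ H⁰(O(a+1))`),
the pairs of points `(P, Q) = (p, q)` of the affine line with `dim V(-iP-jQ) ≥ 3`, i.e. with at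
least a three-dimensional subspace of `V` divisible by `(X-p)^i (X-q)^j`, are exactly `(A, B)` and
`(B, A)`. (Here `P, Q` range over the points other than `C`; when one of them is `C` the dimension
is at most two for degree reasons. The published statement is over the complex numbers.) -/
theorem result
    (k : Type*) [Field k] [CharZero k] (a i j : ℕ) (hi : 0 < i) (hj : 0 < j) (hij : i + j + 1 = a)
    (V : Submodule k (Polynomial k))
    (hV : V = Submodule.span k {(1 : Polynomial k)} ⊔
      ((Ideal.span {(X : Polynomial k) * (X + 1)}).restrictScalars k ⊓ Polynomial.degreeLE k ↑(a + 1)))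
    (p q : k) :
    3 ≤ Module.finrank k ↥(V ⊓ (Ideal.span {(X - C p) ^ i * (X - C q) ^ j}).restrictScalars k) ↔
      (p = 0 ∧ q = -1) ∨ (p = -1 ∧ q = 0) := by
  exact Groth.Agent.H25Wr.three_le_iff a i j hi hj hij V hV p q

end Groth.Agent.S16264
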