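import Groth.Statements.S16265
import Mathlib
import Groth.Agent.H23FunFld.Degree
import Groth.Agent.H23Proj.Basic

set_option autoImplicit false
open FunFld

namespace Groth.Agent.S16265

/-- Let `K/k` be a function field of one variable over an algebraically closed field `k` of
characteristic zero (the function field of a smooth projective curve), `D` a divisor and `V ⊆ L(D)`
a linear system of dimension `r + 1`; write `V(-mP-nQ) = V ∩ L(D - mP - nQ)` for the members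
vanishing to the indicated orders. Assume `V` has no special ramification point, i.e. no place of
weight at least two: for every place `R`, `dim V(-rR) ≤ 1` and `V(-(r+2)R) = 0`. Let `P ≠ Q` be
places and `a, b ≥ 1` with `a + b = r + 1` (so that `V(-aP)` and `V(-bQ)` have dimensions `b` and
`a`). Then the following are equivalent: (1) the system `V(-aP)` has weight at least two at `Q`,
that is `dim V(-aP-(b-1)Q) ≥ 2` or `dim V(-aP-(b+1)Q) ≥ 1`, and the system `V(-bQ)` has weight at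
least two at `P`, that is `dim V(-(a-1)P-bQ) ≥ 2` or `dim V(-(a+1)P-bQ) ≥ 1`; (2) one of (a) `dim
V(-(a+1)P-(b+1)Q) ≥ 1`, (b) `dim V(-(a-1)P-(b-1)Q) ≥ 3`, (c) `dim V(-aP-(b+1)Q) ≥ 1` and `dim
V(-(a-1)P-bQ) ≥ 2`, (d) `dim V(-(a+1)P-bQ) ≥ 1` and `dim V(-aP-(b-1)Q) ≥ 2`. (The published
statement is for a smooth curve over the complex numbers.) -/
theorem result
    (k K : Type*) [Field k] [IsAlgClosed k] [CharZero k] [Field K] [Algebra k K]
    (hK : FunFld.IsFunctionField k K) (D : FunFld.Divisor k K)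
    (V : Submodule k K) (hVD : V ≤ FunFld.L D) (r : ℕ) (hr : Module.finrank k ↥V = r + 1)
    (hns : ∀ R : FunFld.Place k K,
      Module.finrank k ↥(V ⊓ FunFld.L (D - Finsupp.single R (r : ℤ))) ≤ 1 ∧
        V ⊓ FunFld.L (D - Finsupp.single R ((r : ℤ) + 2)) = ⊥)
    (P Q : FunFld.Place k K) (hPQ : P ≠ Q) (a b : ℕ) (ha : 1 ≤ a) (hb : 1 ≤ b) (hab : a + b = r + 1) :
    ((2 ≤ Module.finrank k ↥(V ⊓ FunFld.L (D - Finsupp.single P (a : ℤ) - Finsupp.single Q ((b : ℤ) - 1 : ℤ))) ∨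
        1 ≤ Module.finrank k ↥(V ⊓ FunFld.L (D - Finsupp.single P (a : ℤ) - Finsupp.single Q ((b : ℤ) + 1 : ℤ)))) ∧
      (2 ≤ Module.finrank k ↥(V ⊓ FunFld.L (D - Finsupp.single P ((a : ℤ) - 1 : ℤ) - Finsupp.single Q (b : ℤ))) ∨
        1 ≤ Module.finrank k ↥(V ⊓ FunFld.L (D - Finsupp.single P ((a : ℤ) + 1 : ℤ) - Finsupp.single Q (b : ℤ))))) ↔
    (1 ≤ Module.finrank k ↥(V ⊓ FunFld.L (D - Finsupp.single P ((a : ℤ) + 1 : ℤ) - Finsupp.single Q ((b : ℤ) + 1 : ℤ))) ∨
      3 ≤ Module.finrank k ↥(V ⊓ FunFld.L (D - Finsupp.single P ((a : ℤ) - 1 : ℤ) - Finsupp.single Q ((b : ℤ) - 1 : ℤ))) ∨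
      (1 ≤ Module.finrank k ↥(V ⊓ FunFld.L (D - Finsupp.single P (a : ℤ) - Finsupp.single Q ((b : ℤ) + 1 : ℤ))) ∧
        2 ≤ Module.finrank k ↥(V ⊓ FunFld.L (D - Finsupp.single P ((a : ℤ) - 1 : ℤ) - Finsupp.single Q (b : ℤ)))) ∨
      (1 ≤ Module.finrank k ↥(V ⊓ FunFld.L (D - Finsupp.single P ((a : ℤ) + 1 : ℤ) - Finsupp.single Q (b : ℤ))) ∧
        2 ≤ Module.finrank k ↥(V ⊓ FunFld.L (D - Finsupp.single P (a : ℤ) - Finsupp.single Q ((b : ℤ) - 1 : ℤ))))) := by
  classical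
  open Groth.Agent.H23FunFld in
  have hd1 := fun R : FunFld.Place k K => Groth.Agent.H23Proj.deg_eq_one_of_isAlgClosed hK R
  let U : ℤ → ℤ → Submodule k K := fun i j => V ⊓ FunFld.L (D - Finsupp.single P i - Finsupp.single Q j)
  haveI : ∀ i j : ℤ, FiniteDimensional k (U i j) := fun i j =>
    haveI := finiteDimensional_L hK (D - Finsupp.single P i - Finsupp.single Q j)
    Submodule.finiteDimensional_of_le inf_le_right
  let d : ℤ → ℤ → ℕ := fun i j => Module.finrank k (U i j)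
  have hanti : ∀ i j i' j' : ℤ, i ≤ i' → j ≤ j' → U i' j' ≤ U i j := fun i j i' j' hi hj =>
    inf_le_inf_left V (L_mono (sub_le_sub (sub_le_sub_left (Finsupp.single_mono hi) D) (Finsupp.single_mono hj)))
  have hmeet : ∀ i j i' j' : ℤ, i ≤ i' → j ≤ j' → U i j' ⊓ U i' j ≤ U i' j' := by
    intro i j i' j' hi hj u hu
    refine ⟨hu.1.1, fun R => ?_⟩
    rcases eq_or_ne R Q with rfl | hR
    · have := hu.1.2 R
      simpa [Finsupp.single_eq_of_ne (Ne.symm hPQ)] using this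
    · have := hu.2.2 R
      simpa [Finsupp.single_eq_of_ne hR] using this
  have hsq : ∀ i j : ℤ, d i (j + 1) + d (i + 1) j ≤ d i j + d (i + 1) (j + 1) := by
    intro i j
    have h := Submodule.finrank_sup_add_finrank_inf_eq (U i (j + 1)) (U (i + 1) j)
    have h1 := Submodule.finrank_mono (sup_le (hanti i j i (j + 1) le_rfl (by omega)) (hanti i j (i + 1) j (by omega) le_rfl))
    have h2 := Submodule.finrank_mono (hmeet i j (i + 1) (j + 1) (by omega) (by omega))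
    simp only [d]
    omega
  have hstep : ∀ E : FunFld.Divisor k K, ∀ R : FunFld.Place k K, Module.finrank k ↥(V ⊓ FunFld.L E) ≤
      Module.finrank k ↥(V ⊓ FunFld.L (E - Finsupp.single R 1)) + 1 := by
    intro E R
    haveI := finiteDimensional_L hK E
    haveI := finiteDimensional_L hK (E - Finsupp.single R 1)
    have hle : FunFld.L (E - Finsupp.single R 1) ≤ FunFld.L E := L_mono (sub_le_self _ (Finsupp.single_nonneg.2 zero_le_one))
    have h := Submodule.finrank_sup_add_finrank_inf_eq (V ⊓ FunFld.L E) (FunFld.L (E - Finsupp.single R 1))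
    have h1 := Submodule.finrank_mono (sup_le (inf_le_right : V ⊓ FunFld.L E ≤ _) hle)
    have e : (V ⊓ FunFld.L E) ⊓ FunFld.L (E - Finsupp.single R 1) = V ⊓ FunFld.L (E - Finsupp.single R 1) := by
      rw [inf_assoc, inf_eq_right.2 hle]
    rw [e] at h
    have h2 := ell_sub_le hK (D := E - Finsupp.single R 1) (E := E) (sub_le_self _ (Finsupp.single_nonneg.2 zero_le_one))
    rw [deg_sub, deg_single, hd1] at h2
    simp only [FunFld.ell] at h2
    push_cast at h2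
    omega
  have hP : ∀ i j : ℤ, d i j ≤ d (i + 1) j + 1 := fun i j => by
    have := hstep (D - Finsupp.single P i - Finsupp.single Q j) P
    rwa [show D - Finsupp.single P i - Finsupp.single Q j - Finsupp.single P 1 = D - Finsupp.single P (i + 1) - Finsupp.single Q j by rw [Finsupp.single_add]; abel] at this
  have hQ' : ∀ i j : ℤ, d i j ≤ d i (j + 1) + 1 := fun i j => by
    have := hstep (D - Finsupp.single P i - Finsupp.single Q j) Q
    rwa [sub_sub _ (Finsupp.single Q j), ← Finsupp.single_add] at this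
  have hmono : ∀ i j i' j' : ℤ, i ≤ i' → j ≤ j' → d i' j' ≤ d i j := fun i j i' j' hi hj =>
    Submodule.finrank_mono (hanti i j i' j' hi hj)
  change (2 ≤ d a ((b : ℤ) - 1) ∨ 1 ≤ d a ((b : ℤ) + 1)) ∧ (2 ≤ d ((a : ℤ) - 1) b ∨ 1 ≤ d ((a : ℤ) + 1) b) ↔
    (1 ≤ d ((a : ℤ) + 1) ((b : ℤ) + 1) ∨ 3 ≤ d ((a : ℤ) - 1) ((b : ℤ) - 1) ∨
      (1 ≤ d a ((b : ℤ) + 1) ∧ 2 ≤ d ((a : ℤ) - 1) b) ∨ (1 ≤ d ((a : ℤ) + 1) b ∧ 2 ≤ d a ((b : ℤ) - 1)))
  have s1 := hsq a b
  have s2 := hsq ((a : ℤ) - 1) ((b : ℤ) - 1)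
  rw [sub_add_cancel, sub_add_cancel] at s2
  have p1 := hP a b
  have p2 := hP ((a : ℤ) - 1) ((b : ℤ) - 1)
  rw [sub_add_cancel] at p2
  have q2 := hQ' ((a : ℤ) - 1) ((b : ℤ) - 1)
  rw [sub_add_cancel] at q2
  have m1 := hmono a ((b : ℤ) - 1) a b le_rfl (by omega)
  have m2 := hmono a ((b : ℤ) + 1) ((a : ℤ) + 1) ((b : ℤ) + 1) (by omega) le_rfl
  have m3 := hmono ((a : ℤ) + 1) b ((a : ℤ) + 1) ((b : ℤ) + 1) le_rfl (by omega)
  omega

end Groth.Agent.S16265
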