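import Groth.Statements.S16266
import Mathlib
import Groth.Agent.H23FunFld.Degree

set_option autoImplicit false
open FunFld

namespace Groth.Agent.S16266

/-- Let `K/k` be a function field of one variable over an algebraically closed field `k` of
characteristic zero, `D` a divisor, `V ⊆ L(D)` a linear system of dimension `r + 1` with `r ≥ 1`,
and `P` a place with `V' = V(-P) = V ∩ L(D - P) ≠ V`, an `r`-dimensional system in `L(D - P)`.
Assume that neither `V` nor `V'` has a special ramification point (a place of weight at least two):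
for every place `R`, `dim V ∩ L(D - rR) ≤ 1`, `V ∩ L(D - (r+2)R) = 0`, `dim V' ∩ L(D - P - (r-1)R) ≤
1` and `V' ∩ L(D - P - (r+1)R) = 0`. Then no place `Q ≠ P` is a ramification point of both `V` and
`V'`: for no such `Q` are both `V ∩ L(D - (r+1)Q)` and `V' ∩ L(D - P - rQ)` nonzero. (The published
statement is for a smooth curve over the complex numbers.) -/
theorem result
    (k K : Type*) [Field k] [IsAlgClosed k] [CharZero k] [Field K] [Algebra k K]
    (hK : FunFld.IsFunctionField k K) (D : FunFld.Divisor k K)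
    (V : Submodule k K) (hVD : V ≤ FunFld.L D) (r : ℕ) (hr : Module.finrank k ↥V = r + 1) (hr1 : 1 ≤ r)
    (P : FunFld.Place k K) (hP : V ⊓ FunFld.L (D - Finsupp.single P 1) ≠ V)
    (hns : ∀ R : FunFld.Place k K,
      Module.finrank k ↥(V ⊓ FunFld.L (D - Finsupp.single R (r : ℤ))) ≤ 1 ∧
        V ⊓ FunFld.L (D - Finsupp.single R ((r : ℤ) + 2)) = ⊥)
    (hns' : ∀ R : FunFld.Place k K,
      Module.finrank k ↥(V ⊓ FunFld.L (D - Finsupp.single P 1 - Finsupp.single R ((r : ℤ) - 1))) ≤ 1 ∧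
        V ⊓ FunFld.L (D - Finsupp.single P 1 - Finsupp.single R ((r : ℤ) + 1)) = ⊥)
    (Q : FunFld.Place k K) (hQP : Q ≠ P) :
    ¬ (V ⊓ FunFld.L (D - Finsupp.single Q ((r : ℤ) + 1)) ≠ ⊥ ∧
       V ⊓ FunFld.L (D - Finsupp.single P 1 - Finsupp.single Q (r : ℤ)) ≠ ⊥) := by
  classical
  open Groth.Agent.H23FunFld in
  rintro ⟨hf, hg⟩
  obtain ⟨f, hfm, hf0⟩ := Submodule.exists_mem_ne_zero_of_ne_bot hf
  obtain ⟨g, hgm, hg0⟩ := Submodule.exists_mem_ne_zero_of_ne_bot hg
  have hle1 := (hns Q).1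
  set U := V ⊓ FunFld.L (D - Finsupp.single Q (r : ℤ))
  haveI := finiteDimensional_L hK (D - Finsupp.single Q (r : ℤ))
  haveI : FiniteDimensional k U := Submodule.finiteDimensional_of_le inf_le_right
  have hfU : f ∈ U := ⟨hfm.1, L_mono (sub_le_sub_left (Finsupp.single_mono (by omega)) D) hfm.2⟩
  have hgU : g ∈ U := ⟨hgm.1, L_mono (sub_le_sub_right (sub_le_self _ (Finsupp.single_nonneg.2 zero_le_one)) _) hgm.2⟩
  have h1 : Module.finrank k U = 1 :=
    le_antisymm hle1 (Module.finrank_pos_iff_exists_ne_zero.2 ⟨⟨f, hfU⟩, fun h => hf0 (congrArg Subtype.val h)⟩)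
  obtain ⟨c, hc⟩ := (finrank_eq_one_iff_of_nonzero' (⟨g, hgU⟩ : U) (fun h => hg0 (congrArg Subtype.val h))).1 h1 ⟨f, hfU⟩
  have hc' : f = c • g := (congrArg Subtype.val hc).symm
  have hbot := (hns' Q).2
  have hfbot : f ∈ V ⊓ FunFld.L (D - Finsupp.single P 1 - Finsupp.single Q ((r : ℤ) + 1)) := by
    refine ⟨hfm.1, fun R => ?_⟩
    rcases eq_or_ne R Q with rfl | hR
    · have := hfm.2 R
      simpa [Finsupp.single_eq_of_ne hQP] using this
    · have := (hc' ▸ (FunFld.L _).smul_mem c hgm.2 : f ∈ FunFld.L (D - Finsupp.single P 1 - Finsupp.single Q (r : ℤ))) R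
      simpa [Finsupp.single_eq_of_ne hR] using this
  rw [hbot, Submodule.mem_bot] at hfbot
  exact hf0 hfbot

end Groth.Agent.S16266
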