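import Groth.Statements.S1627
import Mathlib
import Groth.Agent.H22Alg.CurveAffine

set_option autoImplicit false
universe u
open CategoryTheory CategoryTheory.Limits AlgebraicGeometry
open Variety

namespace Groth.Agent.S1627

/-- A curve X over k (integral, separated, of finite type, of dimension one) is either affine or
H-projective, i.e. admits a closed immersion into some P^d_k over k. -/
theorem result (k : Type u) [Field k] (X : Scheme.{u}) [X.Over (Spec (CommRingCat.of k))] [IsIntegral X] [IsSeparated (X ↘ (Spec (CommRingCat.of k)))] [LocallyOfFiniteType (X ↘ (Spec (CommRingCat.of k)))] [QuasiCompact (X ↘ (Spec (CommRingCat.of k)))] (hdim : topologicalKrullDim X = 1) :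
    IsAffine X ∨ ∃ (d : ℕ) (c : X ⟶ CohB1.ProjSpace d k), IsClosedImmersion c ∧ c ≫ CohB1.ProjSpace.toSpec d k = X ↘ (Spec (CommRingCat.of k)) := by
  haveI := Groth.Agent.H22Alg.CurveQProj.isNoetherian_of_finType k (X := X)
  by_cases hp : IsProper (X ↘ (Spec (CommRingCat.of k)))
  · obtain ⟨L, hL⟩ := Groth.Agent.H22Alg.CurveQProj.exists_ample k (X := X) hdim.le
    obtain ⟨d, c, hc, hcq⟩ := Groth.Agent.H22Alg.CurveProj.exists_closedImmersion k X hL
    exact Or.inr ⟨d, c, hc, hcq⟩
  · refine Or.inl (Groth.Agent.H22Alg.CurveAffine.isAffine_of_noProperComponent k hdim.le fun C hC _ hP => hp ?_)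
    have hC' : C = Set.univ :=
      (hC.2 (⟨Set.univ_nonempty, PreirreducibleSpace.isPreirreducible_univ⟩) (Set.subset_univ C)).antisymm'
        (Set.subset_univ C)
    let J := (X.irreducibleComponentIdeal C hC).radical
    have hr : Set.range J.subschemeι = Set.univ := by
      rw [Scheme.IdealSheafData.range_subschemeι, ← hC']; rfl
    haveI : Surjective J.subschemeι := ⟨Set.range_eq_univ.1 hr⟩
    haveI : IsIso J.subschemeι := isIso_of_isClosedImmersion_of_surjective _
    rw [← IsIso.inv_hom_id_assoc J.subschemeι (X ↘ (Spec (CommRingCat.of k)))]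
    infer_instance

end Groth.Agent.S1627
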