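import Groth.Statements.S16273
import Groth.Agent.H18NAH1.Basic

set_option autoImplicit false
universe w' w v u
open CategoryTheory
open NonAbH1

namespace Groth.Agent.S16273

/-- Let C be a category with a Grothendieck topology J, G a sheaf of groups and U a family of objects
which covers every object of the site. Two G-torsors admitting a common Cech class in H^1(U, G)
(each cut out by some family of sections over the U_i) are equivariantly isomorphic. (The published
statement is for an etale covering of a scheme; this row is stated for any family of objects
covering the site.) -/
theorem result {C : Type u} [Category.{v} C]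
    {J : GrothendieckTopology C} {G : Sheaf J GrpCat.{w}} {I : Type w'} (U : I → C) (hU : J.CoversTop U)
    (P Q : NonAbH1.Torsor G)
    (c : PresheafOfGroups.H1 G.obj U) (hPc : P.HasCechClass U c) (hQc : Q.HasCechClass U c) :
    Nonempty (P.toGSheaf ≅ Q.toGSheaf) := by
  exact H18NAH1.exists_iso_of_hasCechClass hU P.isTorsor.1 Q.isTorsor.1 c hPc hQc

end Groth.Agent.S16273
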