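import Groth.Statements.S16274
import Groth.Agent.H18NAH1.OfCocycle

set_option autoImplicit false
universe w' w v u
open CategoryTheory
open NonAbH1

namespace Groth.Agent.S16274

/-- Let C be a category with a Grothendieck topology J, G a sheaf of groups and U a family of objects
which covers every object of the site. Every class in the Cech cohomology set H^1(U, G) is the Cech
class of some G-torsor that has a section over every U_i. (The published statement is for an etale
covering of a scheme; this row is stated for any family of objects covering the site.) -/
theorem result {C : Type u} [Category.{v} C]
    {J : GrothendieckTopology C} (G : Sheaf J GrpCat.{w}) {I : Type w'} (U : I → C) (hU : J.CoversTop U)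
    (c : PresheafOfGroups.H1 G.obj U) :
    ∃ P : NonAbH1.Torsor G, P.TrivialisedBy U ∧ P.HasCechClass U c := by
  induction c using Quot.ind with
  | mk γ =>
    obtain ⟨P, s, hs⟩ := H18NAH1.exists_torsor_isCocycleOf γ hU
    exact ⟨P, fun i => ⟨s i⟩, s, γ, hs, rfl⟩

end Groth.Agent.S16274
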