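import Groth.Statements.S16275
import Groth.Agent.H27Hodge.Divisor
import Groth.Agent.H22Alg.NakaiGen
import Groth.Agent.H11Ample.Converse

set_option backward.isDefEq.respectTransparency.types false

set_option autoImplicit false
universe u
open CategoryTheory CategoryTheory.Limits AlgebraicGeometry
open HodgeNum

namespace Groth.Agent.S16275

/-- Let k be an algebraically closed field of characteristic p > 0 and X a smooth projective k-variety
of dimension n + 1 (an integral k-scheme, smooth of relative dimension n + 1 over k, with a closed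
immersion into some P^N_k over k). Let L be an invertible O_X-module and d₀ ≥ 1 an integer such that
H^q(X, Ω^p_{X/k} ⊗ L^{-d}) = 0 for all d ≥ d₀ and all p, q with p + q ≤ n; here Ω^p_{X/k} ⊗ L^{-d}
is any module E ⊗ M with E a p-th exterior power of the sheaf of differentials and M a tensor
inverse of L^{⊗d}. Let d ≥ d₀ and let Y ⊆ X be a closed subscheme, smooth of relative dimension n
over k, whose ideal sheaf is isomorphic to such an M (a smooth divisor in the linear system of
L^{⊗d}). Then h^{p,q}(Y) = h^{p,q}(X) for all p, q with p + q ≤ n - 1: for F a p-th exterior power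
of Ω_{Y/k} and E a p-th exterior power of Ω_{X/k}, the k-vector spaces H^q(Y, F) and H^q(X, E) have
the same dimension. (The source takes L very ample; that hypothesis is not used by its argument and
is dropped here.) -/
theorem result (k : Type u) [Field k] [IsAlgClosed k]
    (pc : ℕ) [Fact pc.Prime] [CharP k pc] (n N : ℕ)
    (X : Scheme.{u}) [X.Over (Spec (CommRingCat.of k))] [IsIntegral X]
    [SmoothOfRelativeDimension (n + 1) (X ↘ Spec (CommRingCat.of k))]
    (ι : X ⟶ CohB1.ProjSpace N k) [IsClosedImmersion ι] (hι : ι ≫ CohB1.ProjSpace.toSpec N k = X ↘ Spec (CommRingCat.of k))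
    (L : X.Modules) (hL : PicF.IsInvertible L) (d₀ : ℕ) (hd₀ : 1 ≤ d₀)
    (hvan : ∀ d : ℕ, d₀ ≤ d → ∀ M : X.Modules, ClSub.IsInverseOf M (CohB1.tensorPow L d) →
      ∀ p q : ℕ, p + q ≤ n → ∀ E : X.Modules, ExtPow.IsExtPow p (Omega.sheaf (X ↘ Spec (CommRingCat.of k))) E →
        Subsingleton (Coh.HH X (CohB1.tensorMod E M) q))
    (d : ℕ) (hd : d₀ ≤ d) (M : X.Modules) (hM : ClSub.IsInverseOf M (CohB1.tensorPow L d))
    (I : X.IdealSheafData) (hI : Nonempty (ClSub.idealMod I ≅ M))
    [I.subscheme.Over (Spec (CommRingCat.of k))] (hover : I.subscheme ↘ Spec (CommRingCat.of k) = I.subschemeι ≫ X ↘ Spec (CommRingCat.of k))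
    [SmoothOfRelativeDimension n (I.subscheme ↘ Spec (CommRingCat.of k))]
    (p q : ℕ) (hpq : p + q + 1 ≤ n)
    (F : I.subscheme.Modules) (hF : ExtPow.IsExtPow p (Omega.sheaf (I.subscheme ↘ Spec (CommRingCat.of k))) F)
    (E : X.Modules) (hE : ExtPow.IsExtPow p (Omega.sheaf (X ↘ Spec (CommRingCat.of k))) E) :
    Module.finrank k (Coh.HH I.subscheme F q) = Module.finrank k (Coh.HH X E q) := by
  haveI : IsProper (X ↘ Spec (CommRingCat.of k)) := hι ▸ inferInstanceAs (IsProper (ι ≫ CohB1.ProjSpace.toSpec N k))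
  obtain ⟨eM⟩ := hM
  obtain ⟨eI⟩ := hI
  have hLd : PicF.IsInvertible (CohB1.tensorPow L d) := Groth.Agent.H11Ample.isInvertible_tensorPow hL d
  let φ : CohB1.tensorMod (ClSub.idealMod I) (CohB1.tensorPow L d) ≅ Coh.structureModule X :=
    PicGrp.tensorModIso eI (Iso.refl _) ≪≫ eM
  have hIinv : PicF.IsInvertible (ClSub.idealMod I) :=
    Groth.Agent.H17.InvertibleTensor.isInvertible_of_tensor_iso (ClSub.idealMod I) (CohB1.tensorPow L d) φ
  refine Groth.Agent.H27Hodge.finrank_eq I hover n hIinv (fun j hj a b hab G hG => ?_) p q hpq F hF E hE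
  obtain ⟨e₁⟩ := Groth.Agent.H27Hodge.nonempty_pow_inverse φ j
  obtain ⟨e₂⟩ := Groth.Agent.H22Alg.NakaiGen.nonempty_tensorPow_mul L d j
  exact hvan (d * j) (hd.trans (Nat.le_mul_of_pos_right d hj)) _
    ⟨PicGrp.tensorModIso (Iso.refl _) e₂.symm ≪≫ e₁⟩ a b hab G hG

end Groth.Agent.S16275
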