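import Groth.Statements.S16276
import Groth.Agent.S7635
import Groth.Agent.H10Coh.OmegaProd
import Groth.Agent.H10Coh.BiprodHH
import Groth.Agent.H10Coh.AffineAmple
import Groth.Agent.H10Coh.Proper2
import Groth.Agent.H22Alg.ExtPowSES
import Groth.Agent.H27Weil.Geometry

set_option autoImplicit false
universe u
open CategoryTheory CategoryTheory.Limits AlgebraicGeometry
open HodgeNum

set_option linter.style.haveILetI false
set_option backward.isDefEq.respectTransparency.types false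

namespace Groth.Agent.S16276

/-- Let k be an algebraically closed field of characteristic p > 0 and X₁, X₂ smooth projective
k-varieties (integral k-schemes, smooth over k, each with a closed immersion into some projective
space over k), and let X = X₁ ×_k X₂ with its k-structure through the first projection. Then
h^{p,q}(X) = Σ_{p₁+p₂=p, q₁+q₂=q} h^{p₁,q₁}(X₁) · h^{p₂,q₂}(X₂) for all p, q: if E₁ i and E₂ i are
i-th exterior powers of Ω_{X₁/k} and Ω_{X₂/k} for every i and E is a p-th exterior power of Ω_{X/k},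
the dimension of H^q(X, E) over k is the double sum over 0 ≤ i ≤ p and 0 ≤ j ≤ q of dim_k H^j(X₁, E₁
i) · dim_k H^{q-j}(X₂, E₂ (p-i)). -/
theorem result (k : Type u) [Field k] [IsAlgClosed k]
    (pc : ℕ) [Fact pc.Prime] [CharP k pc] (N₁ N₂ : ℕ)
    (X₁ X₂ : Scheme.{u}) [X₁.Over (Spec (CommRingCat.of k))] [X₂.Over (Spec (CommRingCat.of k))] [IsIntegral X₁] [IsIntegral X₂]
    [AlgebraicGeometry.Smooth (X₁ ↘ Spec (CommRingCat.of k))] [AlgebraicGeometry.Smooth (X₂ ↘ Spec (CommRingCat.of k))]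
    (ι₁ : X₁ ⟶ CohB1.ProjSpace N₁ k) [IsClosedImmersion ι₁] (hι₁ : ι₁ ≫ CohB1.ProjSpace.toSpec N₁ k = X₁ ↘ Spec (CommRingCat.of k))
    (ι₂ : X₂ ⟶ CohB1.ProjSpace N₂ k) [IsClosedImmersion ι₂] (hι₂ : ι₂ ≫ CohB1.ProjSpace.toSpec N₂ k = X₂ ↘ Spec (CommRingCat.of k))
    [(pullback (X₁ ↘ Spec (CommRingCat.of k)) (X₂ ↘ Spec (CommRingCat.of k))).Over (Spec (CommRingCat.of k))]
    (hover : pullback (X₁ ↘ Spec (CommRingCat.of k)) (X₂ ↘ Spec (CommRingCat.of k)) ↘ Spec (CommRingCat.of k) = pullback.fst (X₁ ↘ Spec (CommRingCat.of k)) (X₂ ↘ Spec (CommRingCat.of k)) ≫ (X₁ ↘ Spec (CommRingCat.of k)))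
    (E₁ : ℕ → X₁.Modules) (hE₁ : ∀ i, ExtPow.IsExtPow i (Omega.sheaf (X₁ ↘ Spec (CommRingCat.of k))) (E₁ i))
    (E₂ : ℕ → X₂.Modules) (hE₂ : ∀ i, ExtPow.IsExtPow i (Omega.sheaf (X₂ ↘ Spec (CommRingCat.of k))) (E₂ i))
    (p q : ℕ) (E : (pullback (X₁ ↘ Spec (CommRingCat.of k)) (X₂ ↘ Spec (CommRingCat.of k))).Modules)
    (hE : ExtPow.IsExtPow p (Omega.sheaf (pullback (X₁ ↘ Spec (CommRingCat.of k)) (X₂ ↘ Spec (CommRingCat.of k)) ↘ Spec (CommRingCat.of k))) E) :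
    Module.finrank k (Coh.HH (pullback (X₁ ↘ Spec (CommRingCat.of k)) (X₂ ↘ Spec (CommRingCat.of k))) E q) =
      ∑ i ∈ Finset.range (p + 1), ∑ j ∈ Finset.range (q + 1),
        Module.finrank k (Coh.HH X₁ (E₁ i) j) * Module.finrank k (Coh.HH X₂ (E₂ (p - i)) (q - j)) := by
  rename_i o
  obtain ⟨h⟩ := o
  change h = _ at hover
  subst hover
  haveI : IsProper (X₁ ↘ Spec (CommRingCat.of k)) := by rw [← hι₁]; infer_instance
  haveI : IsProper (X₂ ↘ Spec (CommRingCat.of k)) := by rw [← hι₂]; infer_instance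
  haveI : CompactSpace ↥X₁ := QuasiCompact.compactSpace_of_compactSpace (X₁ ↘ Spec (CommRingCat.of k))
  haveI : CompactSpace ↥X₂ := QuasiCompact.compactSpace_of_compactSpace (X₂ ↘ Spec (CommRingCat.of k))
  have hA := Groth.Agent.H19AbSch.OmegaAbScheme.isFinLocFree_omega (X₁ ↘ Spec (CommRingCat.of k))
  have hB := Groth.Agent.H19AbSch.OmegaAbScheme.isFinLocFree_omega (X₂ ↘ Spec (CommRingCat.of k))
  have hqA := Groth.Agent.H8Props.FinLocFree.isQCoh_of_isFinLocFree _ hA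
  have hqB := Groth.Agent.H8Props.FinLocFree.isQCoh_of_isFinLocFree _ hB
  have hfE₁ := fun i => Groth.Agent.H22Alg.ExtPowHom.finLocFree_of_isExtPow hA (hE₁ i)
  have hfE₂ := fun i => Groth.Agent.H22Alg.ExtPowHom.finLocFree_of_isExtPow hB (hE₂ i)
  obtain ⟨eΩ⟩ := Groth.Agent.H10Coh.OmegaProd.nonempty_biprod_iso
    (IsPullback.of_hasPullback (X₁ ↘ Spec (CommRingCat.of k)) (X₂ ↘ Spec (CommRingCat.of k))) rfl
  obtain ⟨eE⟩ := Groth.Agent.H22Alg.ExtPowSum.nonempty_iso_extPow_biprod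
    (Groth.Agent.H16Derived.KFlat.Stalk.isFinLocFree_pullback _ hA)
    (Groth.Agent.H16Derived.KFlat.Stalk.isFinLocFree_pullback _ hB)
    (Groth.Agent.H22Alg.ExtPowSES.isExtPow_of_iso eΩ.symm hE)
    (fun i => (Scheme.Modules.pullback (pullback.fst _ _)).obj (E₁ i))
    (fun i => (Scheme.Modules.pullback (pullback.snd _ _)).obj (E₂ i))
    (fun i => Groth.Agent.H22Alg.ExtPowHom.isExtPow_pullback _ hqA (hE₁ i))
    (fun i => Groth.Agent.H22Alg.ExtPowHom.isExtPow_pullback _ hqB (hE₂ i))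
  haveI : ∀ i j, Module.Finite k (Coh.HH X₁ (E₁ i) j) := fun i j =>
    Groth.Agent.H10Coh.finite_HH_proper k X₁ _ (Groth.Agent.H10Coh.Tw.isCoh_of_vb (hfE₁ i)) j
  haveI : ∀ i j, Module.Finite k (Coh.HH X₂ (E₂ i) j) := fun i j =>
    Groth.Agent.H10Coh.finite_HH_proper k X₂ _ (Groth.Agent.H10Coh.Tw.isCoh_of_vb (hfE₂ i)) j
  letI hO : (pullback (X₁ ↘ (Spec (CommRingCat.of k))) (X₂ ↘ (Spec (CommRingCat.of k)))).Over (Spec (CommRingCat.of k)) :=
    ⟨pullback.fst (X₁ ↘ (Spec (CommRingCat.of k))) (X₂ ↘ (Spec (CommRingCat.of k))) ≫ (X₁ ↘ (Spec (CommRingCat.of k)))⟩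
  have key := fun i : Fin (p + 1) => Groth.Agent.S7635.result k X₁ X₂ (E₁ i)
    (Groth.Agent.H8Props.FinLocFree.isQCoh_of_isFinLocFree _ (hfE₁ i)) (E₂ (p - i))
    (Groth.Agent.H8Props.FinLocFree.isQCoh_of_isFinLocFree _ (hfE₂ _)) q
  have e := fun i => (key i).some
  let T : Fin (p + 1) → (pullback (X₁ ↘ Spec (CommRingCat.of k)) (X₂ ↘ Spec (CommRingCat.of k))).Modules := fun i =>
    CohB1.tensorMod ((Scheme.Modules.pullback (pullback.fst _ _)).obj (E₁ i))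
      ((Scheme.Modules.pullback (pullback.snd _ _)).obj (E₂ (p - i)))
  haveI : ∀ i, Module.Finite k (Coh.HH _ (T i) q) := fun i => Module.Finite.equiv (e i)
  rw [(Groth.Agent.H10Coh.HHSeq.isoₗ (show E ≅ ⨁ T from eE) q).finrank_eq,
    Groth.Agent.H10Coh.BiprodHH.finrank_eq_sum T q, Finset.sum_range]
  refine Finset.sum_congr rfl fun i _ => ?_
  rw [← (e i).finrank_eq, Module.finrank_pi_fintype, Finset.sum_range]
  exact Finset.sum_congr rfl fun j _ => Module.finrank_tensorProduct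

end Groth.Agent.S16276
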