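import Groth.Statements.S16277
import Groth.Agent.H27Hodge.Serre
import Groth.Agent.H22Alg.NakaiGen

set_option backward.isDefEq.respectTransparency.types false

set_option autoImplicit false
universe u
open CategoryTheory CategoryTheory.Limits AlgebraicGeometry
open HodgeNum

namespace Groth.Agent.S16277

/-- Let k be an algebraically closed field of characteristic p > 0, X a smooth projective k-variety of
dimension n + 1 (an integral k-scheme, smooth of relative dimension n + 1 over k, with a closed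
immersion into some P^N_k over k) and L an ample invertible O_X-module. Then for d large enough
every smooth divisor Y in the linear system of L^{⊗d} satisfies h^{p,q}(Y) = h^{p,q}(X) for p + q ≤
n - 1: there is d₀ such that for all d ≥ d₀, every M with M ⊗ L^{⊗d} ≅ O_X, every closed subscheme Y
of X which is smooth of relative dimension n over k and whose ideal sheaf is isomorphic to M, all p,
q with p + q ≤ n - 1, every p-th exterior power F of Ω_{Y/k} and every p-th exterior power E of
Ω_{X/k}, the k-vector spaces H^q(Y, F) and H^q(X, E) have the same dimension. (The published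
statement assumes L very ample; its argument only uses that L is ample, which is what is assumed
here.) -/
theorem result (k : Type u) [Field k] [IsAlgClosed k]
    (pc : ℕ) [Fact pc.Prime] [CharP k pc] (n N : ℕ)
    (X : Scheme.{u}) [X.Over (Spec (CommRingCat.of k))] [IsIntegral X]
    [SmoothOfRelativeDimension (n + 1) (X ↘ Spec (CommRingCat.of k))]
    (ι : X ⟶ CohB1.ProjSpace N k) [IsClosedImmersion ι] (hι : ι ≫ CohB1.ProjSpace.toSpec N k = X ↘ Spec (CommRingCat.of k))
    (L : X.Modules) (hL : CohB1.IsAmple L) :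
    ∃ d₀ : ℕ, ∀ d : ℕ, d₀ ≤ d → ∀ M : X.Modules, ClSub.IsInverseOf M (CohB1.tensorPow L d) →
      ∀ (I : X.IdealSheafData) [I.subscheme.Over (Spec (CommRingCat.of k))],
        I.subscheme ↘ Spec (CommRingCat.of k) = I.subschemeι ≫ X ↘ Spec (CommRingCat.of k) → Nonempty (ClSub.idealMod I ≅ M) →
        SmoothOfRelativeDimension n (I.subscheme ↘ Spec (CommRingCat.of k)) →
        ∀ p q : ℕ, p + q + 1 ≤ n →
          ∀ F : I.subscheme.Modules, ExtPow.IsExtPow p (Omega.sheaf (I.subscheme ↘ Spec (CommRingCat.of k))) F →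
          ∀ E : X.Modules, ExtPow.IsExtPow p (Omega.sheaf (X ↘ Spec (CommRingCat.of k))) E →
            Module.finrank k (Coh.HH I.subscheme F q) = Module.finrank k (Coh.HH X E q) := by
  haveI : IsProper (X ↘ Spec (CommRingCat.of k)) := hι ▸ inferInstanceAs (IsProper (ι ≫ CohB1.ProjSpace.toSpec N k))
  have hLi := (Groth.Agent.H11Ample.isAmple_iff.1 hL).1
  obtain ⟨L', hL', ⟨eL⟩⟩ := Groth.Agent.H11Sym.exists_inverse hLi
  obtain ⟨d₀, hd₀⟩ := Groth.Agent.H27Hodge.exists_bound_omega (k := k) n hL (M := L') ⟨Groth.Agent.H10Coh.Tw.commIso L L' ≪≫ eL⟩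
  refine ⟨d₀, fun d hd M hM I _ hover hI hsm p q hpq F hF E hE => ?_⟩
  haveI := hsm
  obtain ⟨eM⟩ := hM
  obtain ⟨eI⟩ := hI
  have hLd : PicF.IsInvertible (CohB1.tensorPow L d) := Groth.Agent.H11Ample.isInvertible_tensorPow hLi d
  let φ : CohB1.tensorMod (ClSub.idealMod I) (CohB1.tensorPow L d) ≅ Coh.structureModule X :=
    PicGrp.tensorModIso eI (Iso.refl _) ≪≫ eM
  have hIinv : PicF.IsInvertible (ClSub.idealMod I) :=
    Groth.Agent.H17.InvertibleTensor.isInvertible_of_tensor_iso (ClSub.idealMod I) (CohB1.tensorPow L d) φ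
  obtain ⟨eL'⟩ := Groth.Agent.H27Hodge.nonempty_pow_inverse eL d
  let ψ : ClSub.idealMod I ≅ CohB1.tensorPow L' d :=
    (Groth.Agent.H10Coh.Tw.rightUnitIso _).symm ≪≫ PicGrp.tensorModIso (Iso.refl _) eL'.symm ≪≫
      PicGrp.tensorModIso (Iso.refl _) (Groth.Agent.H10Coh.Tw.commIso (CohB1.tensorPow L' d) (CohB1.tensorPow L d)) ≪≫
        (Groth.Agent.H10Coh.Tw.assoc _ _ _).symm ≪≫ PicGrp.tensorModIso φ (Iso.refl _) ≪≫
          Groth.Agent.H10Coh.Tw.leftUnitIso _
  refine Groth.Agent.H27Hodge.finrank_eq I hover n hIinv (fun j hj a b hab G hG => ?_) p q hpq F hF E hE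
  obtain ⟨e₁⟩ := Groth.Agent.H22Alg.NakaiGen.nonempty_tensorPow_mul L' d j
  have hcongr : ∀ i, Nonempty (CohB1.tensorPow (CohB1.tensorPow L' d) i ≅ CohB1.tensorPow (ClSub.idealMod I) i) := by
    intro i
    induction i with
    | zero => exact ⟨Iso.refl _⟩
    | succ i ih => obtain ⟨e⟩ := ih; exact ⟨PicGrp.tensorModIso e ψ.symm⟩
  obtain ⟨e₂⟩ := hcongr j
  exact Groth.Agent.H27Hodge.subsingleton_HH_of_iso (PicGrp.tensorModIso (Iso.refl G) (e₁.symm ≪≫ e₂))
    (hd₀ (d * j) (hd.trans (Nat.le_mul_of_pos_right d hj)) a b hab G hG)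

end Groth.Agent.S16277
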