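import Groth.Statements.S16283
import Groth.Agent.H10Inj.SheafExt.HomFunctor
import Groth.Agent.H10Inj.HomFlasque
import Groth.Agent.H10Coh.ProjFormulaFLF
import Groth.Agent.H10Inj.SheafExt.GrothSSTo
import Groth.Agent.H02CA.ModNullHom
-- import your own Groth.Agent.* helpers here

set_option autoImplicit false
set_option linter.style.haveILetI false
set_option backward.isDefEq.respectTransparency false
universe u
open CategoryTheory CategoryTheory.Limits AlgebraicGeometry ZeroObject
open Coherent

namespace Groth.Agent.S16283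

open TopologicalSpace in
/-- `𝓗om(F, I)` is flasque for injective `I`. -/
theorem surjective_homFunctor_res {X : Scheme.{u}} (F I : X.Modules) [Injective I]
    {U V : X.Opens} (h : U ≤ V) :
    Function.Surjective (((H10Inj.SheafExt.homFunctor F).obj I).presheaf.map (homOfLE h).op) := by
  haveI : DCoh.HasSheafHom F := (H10Inj.SheafExt.homAdj F).isLeftAdjoint
  let e := ((DCoh.sheafHomAdj F).rightAdjointUniq (H10Inj.SheafExt.homAdj F)).app I
  haveI : IsIso ((Scheme.Modules.toPresheaf X).map e.hom) := inferInstance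
  intro s
  obtain ⟨t, ht⟩ := (ConcreteCategory.bijective_of_isIso (((Scheme.Modules.toPresheaf X).map e.hom).app (Opposite.op U))).2 s
  obtain ⟨t', rfl⟩ := H10Inj.sheafHom_flasque F I h t
  exact ⟨e.hom.app V t', (H11Tilde.app_map_apply e.hom h t').symm.trans ht⟩


/-- Let f : X → Y and g : Y → Z be morphisms of schemes, h = g ∘ f, and F, G O_X-modules. For a morphism
u out of X write Ext^b_u(F, -) for the b-th right derived functor of the left exact functor G ↦ u_*
Hom_{O_X}(F, G) from O_X-modules. Then there is an E₂ spectral sequence of O_Z-modules with E₂^{a,b}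
≅ R^a g_*(Ext^b_f(F, G)) for a, b ≥ 0 (and 0 otherwise), bounded, abutting with finite filtrations
to Ext^n_h(F, G) (n ≥ 0; 0 for n < 0). (Stated for schemes, the published statement being for ringed
spaces. Existence only: the E₂ identifications and the abutment are some isomorphisms. The internal
Hom functor of F, injective resolutions on X and Y and additivity of the composite functors are the
stated instance hypotheses, all true.) -/
theorem result (X Y Z : Scheme.{u}) (f : X ⟶ Y) (g : Y ⟶ Z)
    (F G : X.Modules)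
    [ModSite.HasSheafHom (O := X.sheaf) F] [HasInjectiveResolutions (ModSite.Mod X.sheaf)] [HasInjectiveResolutions Y.Modules]
    [(ModSite.sheafHom (O := X.sheaf) F ⋙ Scheme.Modules.pushforward f).Additive]
    [(ModSite.sheafHom (O := X.sheaf) F ⋙ Scheme.Modules.pushforward (f ≫ g)).Additive] :
    ∃ (E : E₂CohomologicalSpectralSequence Z.Modules)
      (a : SpSeq.Abutment E (fun n : ℤ =>
        if 0 ≤ n then ((ModSite.sheafHom (O := X.sheaf) F ⋙ Scheme.Modules.pushforward (f ≫ g)).rightDerived n.toNat).obj G else (0 : Z.Modules))),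
      (∀ n : ℤ, a.IsFinite n) ∧ SpSeq.IsBounded E ∧
      ∀ p q : ℤ, Nonempty ((E.page 2 le_rfl).X (p, q) ≅
        (if 0 ≤ p ∧ 0 ≤ q then (Coh.Rpush g p.toNat).obj (((ModSite.sheafHom (O := X.sheaf) F ⋙ Scheme.Modules.pushforward f).rightDerived q.toNat).obj G)
          else (0 : Z.Modules))) := by
  haveI : EnoughInjectives X.Modules := H02CA.ModNull.enoughInjectives_mod X.sheaf
  haveI : EnoughInjectives Y.Modules := H02CA.ModNull.enoughInjectives_mod Y.sheaf
  haveI : HasInjectiveResolutions X.Modules := ‹HasInjectiveResolutions (ModSite.Mod X.sheaf)›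
  letI := HasDerivedCategory.standard Y.Modules
  letI := HasDerivedCategory.standard Z.Modules
  haveI : (Scheme.Modules.pushforward f).IsRightAdjoint :=
    (Scheme.Modules.pullbackPushforwardAdjunction f).isRightAdjoint
  haveI : (Scheme.Modules.pushforward g).IsRightAdjoint :=
    (Scheme.Modules.pullbackPushforwardAdjunction g).isRightAdjoint
  haveI : DCoh.HasSheafHom F := (H10Inj.SheafExt.homAdj F).isLeftAdjoint
  let T : X.Modules ⥤ Y.Modules := H10Inj.SheafExt.homFunctor F ⋙ Scheme.Modules.pushforward f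
  let eT : (ModSite.sheafHom (O := X.sheaf) F ⋙ Scheme.Modules.pushforward f : X.Modules ⥤ Y.Modules) ≅ T :=
    Functor.isoWhiskerRight (H10Inj.SheafExt.modSiteHomIso F) (Scheme.Modules.pushforward f)
  let eTS : T ⋙ Scheme.Modules.pushforward g ≅
      (ModSite.sheafHom (O := X.sheaf) F ⋙ Scheme.Modules.pushforward (f ≫ g) : X.Modules ⥤ Z.Modules) :=
    Functor.associator _ _ _ ≪≫ Functor.isoWhiskerLeft _ (Scheme.Modules.pushforwardComp f g) ≪≫
      Functor.isoWhiskerRight (H10Inj.SheafExt.modSiteHomIso F).symm (Scheme.Modules.pushforward (f ≫ g))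
  obtain ⟨ES, a, hfin, hb, hE₂⟩ := H10Inj.SheafExt.GrothSSTo.exists_spectralSequence T
    (Scheme.Modules.pushforward g) (fun Q hQ q hq => by
      haveI := hQ
      refine H10Coh.PF.isAcyclic_push_of_flasque g ?_ q hq
      intro U V h
      exact surjective_homFunctor_res F Q ((TopologicalSpace.Opens.map f.base).map (homOfLE h)).le) G
    (fun n : ℤ => if 0 ≤ n then ((ModSite.sheafHom (O := X.sheaf) F ⋙ Scheme.Modules.pushforward (f ≫ g)).rightDerived n.toNat).obj G else (0 : Z.Modules))
    (fun n hn => ⟨(H02CA.ModLocalise.rdMapIso eTS n.toNat).app G ≪≫ eqToIso (if_pos hn).symm⟩)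
    (fun n hn => (Limits.isZero_zero _).of_iso (eqToIso (if_neg (not_le.2 hn))))
  refine ⟨ES, a, hfin, hb, fun p q => ?_⟩
  obtain ⟨e⟩ := hE₂ p q
  by_cases h : 0 ≤ p ∧ 0 ≤ q
  · exact ⟨e ≪≫ eqToIso (if_pos h) ≪≫
      (Coh.Rpush g p.toNat).mapIso ((H02CA.ModLocalise.rdMapIso eT q.toNat).app G).symm ≪≫
      eqToIso (if_pos h).symm⟩
  · exact ⟨e ≪≫ eqToIso ((if_neg h).trans (if_neg h).symm)⟩

end Groth.Agent.S16283
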