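import Groth.Statements.S16280
import Groth.Agent.H10Inj.SheafExt.Sections
import Groth.Agent.H10Inj.SheafExt.SSMem
import Groth.Agent.H10Inj.SheafExt.GrothSSTo
import Groth.Agent.S16283
import Groth.Agent.H10Coh.Proper2
import Groth.Agent.H10Coh.FinType2
import Groth.Agent.H27Weil.Geometry
import Groth.Agent.H02CA.ModNullHom
-- import your own Groth.Agent.* helpers here

set_option autoImplicit false
set_option linter.style.haveILetI false
set_option backward.isDefEq.respectTransparency false
universe u
open CategoryTheory CategoryTheory.Limits AlgebraicGeometry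
open Coherent

namespace Groth.Agent.S16280

open scoped ZeroObject

open CategoryTheory.Limits in
instance isClosedUnderIsomorphisms_isCoh (Y : Scheme.{u}) :
    ObjectProperty.IsClosedUnderIsomorphisms (fun M : Y.Modules => Coh.IsCoh M) :=
  ⟨fun e h => H10Coh.isCoh_of_iso e h⟩

open CategoryTheory.Limits in
/-- Coherent modules on a locally Noetherian scheme form a weak Serre class. -/
theorem isCoh_closed (Y : Scheme.{u}) [IsLocallyNoetherian Y] :
    H16Derived.SpFil.WeakSerre.Closed (fun M : Y.Modules => Coh.IsCoh M) where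
  zero M hM := by
    haveI : M.IsQuasicoherent := H10Coh.isQuasicoherent_zero M hM
    refine (H10Coh.isCoh_iff_finite_sections M).2 ⟨(inferInstance : M.IsQuasicoherent), fun U _ => ?_⟩
    haveI : Subsingleton Γ(M, U) := ⟨fun a b => by
      rw [show a = 0 from congr($(congr(Scheme.Modules.Hom.app $(hM.eq_of_src (𝟙 M) 0) U)) a),
        show b = 0 from congr($(congr(Scheme.Modules.Hom.app $(hM.eq_of_src (𝟙 M) 0) U)) b)]⟩
    infer_instance
  ker {M N K} i g w hi he hN hK := by
    haveI : Mono (ShortComplex.mk i g w).f := hi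
    exact H10Coh.isCoh_of_iso
      (IsLimit.conePointUniqueUpToIso (kernelIsKernel g) he.fIsKernel) (H10Coh.isCoh_kernel g hN hK.1)
  coker {M N K} g π w hπ he hM hN := by
    haveI : Epi (ShortComplex.mk g π w).g := hπ
    exact H10Coh.isCoh_of_iso
      (IsColimit.coconePointUniqueUpToIso (cokernelIsCokernel g) he.gIsCokernel) (H10Coh.isCoh_cokernel g hM.1 hN)
  ext {M N K} i π w hi hπ he hM hK := H10Coh.isCoh_X₂ (S := ShortComplex.mk i π w) ⟨he⟩ hM hK


/-- Let Y be a Noetherian scheme, f : X → Y a morphism admitting a factorisation through a closed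
immersion e : X → P^n_Y followed by the projection (a projective morphism), and F, G coherent
O_X-modules. Then for every p ≥ 0 the relative Ext sheaf Ext^p_f(F, G) — the value at G of the p-th
right derived functor of the left exact functor G ↦ f_* Hom_{O_X}(F, G) from O_X-modules to
O_Y-modules — is a coherent O_Y-module. (The internal Hom functor of F, injective resolutions of
O_X-modules and additivity of the composite functor are the stated instance hypotheses, all true.) -/
theorem result (X Y : Scheme.{u}) [IsNoetherian Y] (f : X ⟶ Y)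
    (n : ℕ) (e : X ⟶ CohB1.ProjSpaceOver n Y) [IsClosedImmersion e] (he : e ≫ CohB1.ProjSpaceOver.toBase n Y = f)
    (F G : X.Modules) (hF : Coh.IsCoh F) (hG : Coh.IsCoh G)
    [ModSite.HasSheafHom (O := X.sheaf) F] [HasInjectiveResolutions (ModSite.Mod X.sheaf)]
    [(ModSite.sheafHom (O := X.sheaf) F ⋙ Scheme.Modules.pushforward f).Additive] (p : ℕ) :
    Coh.IsCoh (((ModSite.sheafHom (O := X.sheaf) F ⋙ Scheme.Modules.pushforward f).rightDerived p).obj G) := by
  haveI : IsProper (CohB1.ProjSpaceOver.toBase n Y) := H27Weil.isProper_toBase n Y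
  haveI : IsProper f := he ▸ inferInstance
  haveI : IsLocallyNoetherian X := LocallyOfFiniteType.isLocallyNoetherian f
  haveI : EnoughInjectives X.Modules := H02CA.ModNull.enoughInjectives_mod X.sheaf
  haveI : EnoughInjectives Y.Modules := H02CA.ModNull.enoughInjectives_mod Y.sheaf
  haveI : HasInjectiveResolutions X.Modules := ‹HasInjectiveResolutions (ModSite.Mod X.sheaf)›
  letI := HasDerivedCategory.standard X.Modules
  letI := HasDerivedCategory.standard Y.Modules
  haveI : (Scheme.Modules.pushforward f).IsRightAdjoint :=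
    (Scheme.Modules.pullbackPushforwardAdjunction f).isRightAdjoint
  let T := H10Inj.SheafExt.homFunctor F
  let eTS : T ⋙ Scheme.Modules.pushforward f ≅
      (ModSite.sheafHom (O := X.sheaf) F ⋙ Scheme.Modules.pushforward f : X.Modules ⥤ Y.Modules) :=
    Functor.isoWhiskerRight (H10Inj.SheafExt.modSiteHomIso F).symm (Scheme.Modules.pushforward f)
  obtain ⟨E, a, hfin, -, hE₂⟩ := H10Inj.SheafExt.GrothSSTo.exists_spectralSequence T
    (Scheme.Modules.pushforward f) (fun Q hQ q hq => by
      haveI := hQ
      refine H10Coh.PF.isAcyclic_push_of_flasque f ?_ q hq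
      intro U V h
      exact S16283.surjective_homFunctor_res F Q h) G
    (fun m : ℤ => if 0 ≤ m then ((ModSite.sheafHom (O := X.sheaf) F ⋙ Scheme.Modules.pushforward f).rightDerived m.toNat).obj G else (0 : Y.Modules))
    (fun m hm => ⟨(H02CA.ModLocalise.rdMapIso eTS m.toNat).app G ≪≫ eqToIso (if_pos hm).symm⟩)
    (fun m hm => (Limits.isZero_zero _).of_iso (eqToIso (if_neg (not_le.2 hm))))
  have h := H10Inj.SheafExt.mem_abutment (fun M : Y.Modules => Coh.IsCoh M) (isCoh_closed Y) E (fun pq => ?_) a (p : ℤ) (hfin p)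
  · exact H10Coh.isCoh_of_iso (eqToIso (if_pos (Int.natCast_nonneg p)) ≪≫ eqToIso (by rw [Int.toNat_natCast])) h
  · obtain ⟨e⟩ := hE₂ pq.1 pq.2
    refine H10Coh.isCoh_of_iso e.symm ?_
    by_cases hpq : 0 ≤ pq.1 ∧ 0 ≤ pq.2
    · exact H10Coh.isCoh_of_iso (eqToIso (if_pos hpq).symm)
        (H10Coh.isCoh_rpush f _ (H10Inj.SheafExt.isCoh_rightDerived F hF _ G hG) _)
    · exact H10Coh.isCoh_of_iso (eqToIso (if_neg hpq).symm) ((isCoh_closed Y).zero _ (Limits.isZero_zero _))

end Groth.Agent.S16280
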