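import Groth.Statements.S16281
import Groth.Agent.H10Inj.SheafExt.RestrictHom
import Groth.Agent.H02CA.RestrScal.Precomp
import Groth.Agent.H02CA.RDPostcomp
import Groth.Agent.H02CA.ModNullHom
-- import your own Groth.Agent.* helpers here

set_option autoImplicit false
set_option linter.style.haveILetI false
set_option backward.isDefEq.respectTransparency false
universe u
open CategoryTheory CategoryTheory.Limits AlgebraicGeometry
open Coherent

namespace Groth.Agent.S16281

/-- Let f : X → Y be a morphism of schemes, F and G O_X-modules, W ⊆ Y an open subscheme and p ≥ 0.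
Write Ext^p_f(F, -) for the p-th right derived functor of the left exact functor G ↦ f_*
Hom_{O_X}(F, G) from O_X-modules to O_Y-modules (the relative Ext sheaves). Then the restriction of
Ext^p_f(F, G) to W is isomorphic to Ext^p_{f'}(F|_{f⁻¹W}, G|_{f⁻¹W}), where f' : f⁻¹W → W is the
restricted morphism. (Stated for schemes, the published statement being for ringed spaces; existence
of an isomorphism of O_W-modules only. The internal Hom functors, injective resolutions and
additivity of the composite functors on X and on f⁻¹W are the stated instance hypotheses, all true.) -/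
theorem result (X Y : Scheme.{u}) (f : X ⟶ Y) (W : Y.Opens)
    (F G : X.Modules) (p : ℕ)
    [ModSite.HasSheafHom (O := X.sheaf) F] [HasInjectiveResolutions (ModSite.Mod X.sheaf)]
    [(ModSite.sheafHom (O := X.sheaf) F ⋙ Scheme.Modules.pushforward f).Additive]
    [ModSite.HasSheafHom (O := (↑(f ⁻¹ᵁ W) : Scheme.{u}).sheaf) (F.restrict (f ⁻¹ᵁ W).ι)]
    [HasInjectiveResolutions (ModSite.Mod (↑(f ⁻¹ᵁ W) : Scheme.{u}).sheaf)]
    [(ModSite.sheafHom (O := (↑(f ⁻¹ᵁ W) : Scheme.{u}).sheaf) (F.restrict (f ⁻¹ᵁ W).ι) ⋙ Scheme.Modules.pushforward (f ∣_ W)).Additive] :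
    Nonempty ((Scheme.Modules.restrictFunctor W.ι).obj (((ModSite.sheafHom (O := X.sheaf) F ⋙ Scheme.Modules.pushforward f).rightDerived p).obj G) ≅
      ((ModSite.sheafHom (O := (↑(f ⁻¹ᵁ W) : Scheme.{u}).sheaf) (F.restrict (f ⁻¹ᵁ W).ι) ⋙ Scheme.Modules.pushforward (f ∣_ W)).rightDerived p).obj
        (G.restrict (f ⁻¹ᵁ W).ι)) := by
  let U : X.Opens := f ⁻¹ᵁ W
  haveI : EnoughInjectives (↑U : Scheme.{u}).Modules := H02CA.ModNull.enoughInjectives_mod (↑U : Scheme.{u}).sheaf
  haveI : HasInjectiveResolutions X.Modules := ‹HasInjectiveResolutions (ModSite.Mod X.sheaf)›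
  haveI : HasInjectiveResolutions (↑U : Scheme.{u}).Modules :=
    ‹HasInjectiveResolutions (ModSite.Mod (↑U : Scheme.{u}).sheaf)›
  let R := Scheme.Modules.restrictFunctor U.ι
  let RW := Scheme.Modules.restrictFunctor W.ι
  haveI : (Scheme.Modules.pushforward f).IsRightAdjoint :=
    (Scheme.Modules.pullbackPushforwardAdjunction f).isRightAdjoint
  haveI : (Scheme.Modules.pushforward (f ∣_ W)).IsRightAdjoint :=
    (Scheme.Modules.pullbackPushforwardAdjunction (f ∣_ W)).isRightAdjoint
  haveI : PreservesFiniteLimits R := inferInstance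
  haveI : PreservesFiniteColimits R := inferInstance
  haveI : PreservesFiniteLimits RW := inferInstance
  haveI : PreservesFiniteColimits RW := inferInstance
  let H : X.Modules ⥤ Y.Modules := H10Inj.SheafExt.homFunctor F ⋙ Scheme.Modules.pushforward f
  let H' : (↑U : Scheme.{u}).Modules ⥤ (↑W : Scheme.{u}).Modules :=
    H10Inj.SheafExt.homFunctor (R.obj F) ⋙ Scheme.Modules.pushforward (f ∣_ W)
  let e₀ : (ModSite.sheafHom (O := X.sheaf) F ⋙ Scheme.Modules.pushforward f : X.Modules ⥤ Y.Modules) ≅ H :=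
    Functor.isoWhiskerRight (H10Inj.SheafExt.modSiteHomIso F) (Scheme.Modules.pushforward f)
  let e₀' : (ModSite.sheafHom (O := (↑U : Scheme.{u}).sheaf) (F.restrict U.ι) ⋙ Scheme.Modules.pushforward (f ∣_ W) :
      (↑U : Scheme.{u}).Modules ⥤ (↑W : Scheme.{u}).Modules) ≅ H' :=
    Functor.isoWhiskerRight (H10Inj.SheafExt.modSiteHomIso (R.obj F)) (Scheme.Modules.pushforward (f ∣_ W))
  let e₁ : H ⋙ RW ≅ R ⋙ H' :=
    Functor.associator _ _ _ ≪≫
      Functor.isoWhiskerLeft _ (H16Derived.KFlat.Stalk.pushRestrictNatIso f W) ≪≫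
      (Functor.associator _ _ _).symm ≪≫
      Functor.isoWhiskerRight (H10Inj.SheafExt.homRestrictIso U F) _ ≪≫ Functor.associator _ _ _
  obtain ⟨e₂⟩ := H02CA.RestrScal.nonempty_precompIso R H' (fun I _ =>
    haveI : Injective (R.obj I) := H10Inj.SheafExt.injective_restrict U I
    H16Derived.AcyclicLES.isAcyclic_of_injective H' _) p
  exact ⟨RW.mapIso ((H02CA.ModLocalise.rdMapIso e₀ p).app G) ≪≫
    ((H02CA.RDPostcomp.postcompIso H RW p).app G).symm ≪≫
    (H02CA.ModLocalise.rdMapIso e₁ p).app G ≪≫ e₂.app G ≪≫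
    ((H02CA.ModLocalise.rdMapIso e₀' p).app (R.obj G)).symm⟩

end Groth.Agent.S16281
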