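import Groth.Statements.S16282
import Groth.Agent.H10Inj.SheafExt.RelExt
import Groth.Agent.H02CA.ModNullHom
-- import your own Groth.Agent.* helpers here

set_option autoImplicit false
set_option linter.style.haveILetI false
set_option backward.isDefEq.respectTransparency false
universe u
open CategoryTheory CategoryTheory.Limits AlgebraicGeometry
open Coherent

namespace Groth.Agent.S16282

/-- Let f : X → Y be a morphism of schemes, F and G O_X-modules, L a finite locally free O_X-module with
dual L^∨ = Hom_{O_X}(L, O_X), N a finite locally free O_Y-module and p ≥ 0. Write Ext^p_f(M, -) for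
the p-th right derived functor of the left exact functor G ↦ f_* Hom_{O_X}(M, G) from O_X-modules to
O_Y-modules. Then Ext^p_f(F ⊗ L, G ⊗ f^*N) is isomorphic to Ext^p_f(F, G ⊗ L^∨) ⊗ N. (Stated for
schemes, the published statement being for ringed spaces and a chain of two functorial isomorphisms;
existence of an isomorphism of O_Y-modules only. The internal Hom functors, injective resolutions
and additivity of the composite functors are the stated instance hypotheses, all true.) -/
theorem result (X Y : Scheme.{u}) (f : X ⟶ Y) (F G L : X.Modules) (N : Y.Modules)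
    (hL : FlatMod.IsFinLocFree L) (hN : FlatMod.IsFinLocFree N) (p : ℕ)
    [ModSite.HasSheafHom (O := X.sheaf) F] [ModSite.HasSheafHom (O := X.sheaf) L]
    [ModSite.HasSheafHom (O := X.sheaf) (CohB1.tensorMod F L)] [HasInjectiveResolutions (ModSite.Mod X.sheaf)]
    [(ModSite.sheafHom (O := X.sheaf) F ⋙ Scheme.Modules.pushforward f).Additive]
    [(ModSite.sheafHom (O := X.sheaf) (CohB1.tensorMod F L) ⋙ Scheme.Modules.pushforward f).Additive] :
    Nonempty (((ModSite.sheafHom (O := X.sheaf) (CohB1.tensorMod F L) ⋙ Scheme.Modules.pushforward f).rightDerived p).obj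
        (CohB1.tensorMod G ((Scheme.Modules.pullback f).obj N)) ≅
      CohB1.tensorMod (((ModSite.sheafHom (O := X.sheaf) F ⋙ Scheme.Modules.pushforward f).rightDerived p).obj
        (CohB1.tensorMod G ((ModSite.sheafHom (O := X.sheaf) L).obj (Coh.structureModule X)))) N) := by
  haveI : EnoughInjectives X.Modules := H02CA.ModNull.enoughInjectives_mod X.sheaf
  haveI : HasInjectiveResolutions X.Modules := ‹HasInjectiveResolutions (ModSite.Mod X.sheaf)›
  haveI : (Scheme.Modules.pushforward f).IsRightAdjoint :=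
    (Scheme.Modules.pullbackPushforwardAdjunction f).isRightAdjoint
  let P := Scheme.Modules.pushforward f
  let H := H10Inj.SheafExt.homFunctor F ⋙ P
  let e₁ : (ModSite.sheafHom (O := X.sheaf) (CohB1.tensorMod F L) ⋙ P : X.Modules ⥤ Y.Modules) ≅
      H10Inj.SheafExt.homFunctor L ⋙ H :=
    Functor.isoWhiskerRight (H10Inj.SheafExt.modSiteHomIso (CohB1.tensorMod F L) ≪≫
      H10Inj.SheafExt.homSwapIso F L ≪≫ H10Inj.SheafExt.homTensorIso F L) P ≪≫ Functor.associator _ _ _
  let e₂ : (ModSite.sheafHom (O := X.sheaf) F ⋙ P : X.Modules ⥤ Y.Modules) ≅ H :=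
    Functor.isoWhiskerRight (H10Inj.SheafExt.modSiteHomIso F) P
  obtain ⟨c⟩ := H10Inj.SheafExt.nonempty_rightDerived_homPrecomp H hL p
  let b : (H10Inj.SheafExt.homFunctor L).obj G ≅
      CohB1.tensorMod G ((ModSite.sheafHom (O := X.sheaf) L).obj (Coh.structureModule X)) :=
    ((H10Inj.SheafExt.dualHomIso L hL).app G).symm ≪≫ H10Inj.SheafExt.tensorSwapIso _ _ ≪≫
      H10Inj.SheafExt.tensorModIso (Iso.refl G)
        ((H10Inj.SheafExt.modSiteHomIso L).app (Coh.structureModule X)).symm
  let d : (H10Inj.SheafExt.homFunctor L).obj (CohB1.tensorMod G ((Scheme.Modules.pullback f).obj N)) ≅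
      CohB1.tensorMod (CohB1.tensorMod G ((ModSite.sheafHom (O := X.sheaf) L).obj (Coh.structureModule X)))
        ((Scheme.Modules.pullback f).obj N) :=
    (H10Inj.SheafExt.tensorHomCommIso L _ (H16Derived.KFlat.Stalk.isFinLocFree_pullback f hN)).app G ≪≫
      H10Inj.SheafExt.tensorModIso b (Iso.refl _)
  obtain ⟨t⟩ := H10Inj.SheafExt.nonempty_relExt_tensor f F
    (CohB1.tensorMod G ((ModSite.sheafHom (O := X.sheaf) L).obj (Coh.structureModule X))) N hN p
  exact ⟨(H02CA.ModLocalise.rdMapIso e₁ p).app _ ≪≫ c.app _ ≪≫ (H.rightDerived p).mapIso d ≪≫ t ≪≫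
    H10Inj.SheafExt.tensorModIso ((H02CA.ModLocalise.rdMapIso e₂ p).app _).symm (Iso.refl N)⟩

end Groth.Agent.S16282
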