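import Groth.Statements.S16284
import Groth.Agent.H10Inj.SheafExt.RelVanish
import Groth.Agent.H10Inj.SheafExt.RelExt
import Groth.Agent.H10Inj.SheafExt.GrothSSTo
import Groth.Agent.H16Derived.SpFil.Line
import Groth.Agent.S16283
import Groth.Agent.S16280
import Groth.Agent.H27Weil.Geometry
import Groth.Agent.H02CA.ModNullHom
-- import your own Groth.Agent.* helpers here

set_option autoImplicit false
set_option linter.style.haveILetI false
set_option backward.isDefEq.respectTransparency false
universe u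
open CategoryTheory CategoryTheory.Limits AlgebraicGeometry
open Coherent

namespace Groth.Agent.S16284


open scoped ZeroObject
open Groth.Agent.H16Derived.SpFil

open CategoryTheory.Limits in
/-- If on page 2 only the column `0` is non-zero in rows up to `n`, the abutment in degree `n` is
the entry `(0, n)`. -/
theorem nonempty_iso_column {C : Type*} [Category C] [Abelian C] (E : E₂CohomologicalSpectralSequence C)
    {H : ℤ → C} (a : SpSeq.Abutment E H) (ha : ∀ n, a.IsFinite n) (n : ℤ)
    (h : ∀ p q : ℤ, p ≠ 0 → (p < 0 ∨ q ≤ n) → IsZero ((E.page 2 le_rfl).X (p, q))) :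
    Nonempty (H n ≅ (E.page 2 le_rfl).X (0, n)) := by
  have hz : ∀ p, p ≠ 0 → IsZero ((a.filObj n).gr p) := fun p hp =>
    isZero_gr E a n p 2 le_rfl (h p (n - p) hp (by omega))
  have hst : SpSeq.StationaryAt E ((0, n) : ℤ × ℤ) 2 := by
    refine ⟨le_rfl, fun r h₀ h₂ => ⟨?_, ?_⟩⟩
    · exact (isZero_page_of_le E 2 le_rfl _ (h (0 - r) (n - (1 - r)) (by omega) (by omega)) r h₀).eq_of_src _ _
    · exact (isZero_page_of_le E 2 le_rfl _ (h (0 + r) (n + (1 - r)) (by omega) (by omega)) r h₀).eq_of_tgt _ _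
  obtain ⟨e₁⟩ := nonempty_iso_gr_of_top_bot (a.filObj n) 0
    (eq_top_of_isCodiscrete _ (ha n).1 _ fun p hp => hz p (by omega))
    (eq_bot_of_isDiscrete _ (ha n).2 _ fun p hp => hz p (by omega))
  obtain ⟨e₂⟩ := nonempty_iso_gr E a n 0 n (by omega) 2 hst
  exact ⟨e₁ ≪≫ e₂⟩


/-- Let Z be a Noetherian scheme, g : Y → Z a morphism factoring through a closed immersion e' : Y →
P^m_Z followed by the projection, O_Y(l) = e'^*O(l), f : X → Y a morphism factoring through a closed
immersion X → P^n_Y followed by the projection, h = g ∘ f, and F, G coherent O_X-modules. For a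
morphism u out of X write Ext^p_u(F, -) for the p-th right derived functor of the left exact functor
G ↦ u_* Hom_{O_X}(F, G). Then for every p ≥ 0 there is l₀ such that for all l ≥ l₀ the O_Z-module
g_* Ext^p_f(F, G ⊗ f^*O_Y(l)) is isomorphic to Ext^p_h(F, G ⊗ f^*O_Y(l)). (Existence of an
isomorphism of O_Z-modules only. The internal Hom functor of F, injective resolutions and additivity
of the composite functors are the stated instance hypotheses, all true.) -/
theorem result (Z : Scheme.{u}) [IsNoetherian Z] (m : ℕ)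
    (Y : Scheme.{u}) (g : Y ⟶ Z) (e' : Y ⟶ CohB1.ProjSpaceOver m Z) [IsClosedImmersion e']
    (he' : e' ≫ CohB1.ProjSpaceOver.toBase m Z = g)
    (n : ℕ) (X : Scheme.{u}) (f : X ⟶ Y) (e : X ⟶ CohB1.ProjSpaceOver n Y) [IsClosedImmersion e]
    (he : e ≫ CohB1.ProjSpaceOver.toBase n Y = f)
    (F G : X.Modules) (hF : Coh.IsCoh F) (hG : Coh.IsCoh G) (p : ℕ)
    [ModSite.HasSheafHom (O := X.sheaf) F] [HasInjectiveResolutions (ModSite.Mod X.sheaf)]
    [(ModSite.sheafHom (O := X.sheaf) F ⋙ Scheme.Modules.pushforward f).Additive]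
    [(ModSite.sheafHom (O := X.sheaf) F ⋙ Scheme.Modules.pushforward (f ≫ g)).Additive] :
    ∃ l₀ : ℕ, ∀ l : ℕ, l₀ ≤ l →
      Nonempty ((Scheme.Modules.pushforward g).obj (((ModSite.sheafHom (O := X.sheaf) F ⋙ Scheme.Modules.pushforward f).rightDerived p).obj
          (CohB1.tensorMod G ((Scheme.Modules.pullback f).obj
            ((Scheme.Modules.pullback e').obj (Twist.twistOver m Z (l : ℤ)))))) ≅
        ((ModSite.sheafHom (O := X.sheaf) F ⋙ Scheme.Modules.pushforward (f ≫ g)).rightDerived p).obj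
          (CohB1.tensorMod G ((Scheme.Modules.pullback f).obj
            ((Scheme.Modules.pullback e').obj (Twist.twistOver m Z (l : ℤ)))))) := by

  haveI : IsProper (CohB1.ProjSpaceOver.toBase m Z) := H27Weil.isProper_toBase m Z
  haveI : IsProper g := he' ▸ inferInstance
  haveI : IsLocallyNoetherian Y := LocallyOfFiniteType.isLocallyNoetherian g
  haveI : CompactSpace Y := QuasiCompact.compactSpace_of_compactSpace g
  haveI : IsNoetherian Y := ⟨⟩
  haveI : EnoughInjectives X.Modules := H02CA.ModNull.enoughInjectives_mod X.sheaf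
  haveI : EnoughInjectives Y.Modules := H02CA.ModNull.enoughInjectives_mod Y.sheaf
  haveI : HasInjectiveResolutions X.Modules := ‹HasInjectiveResolutions (ModSite.Mod X.sheaf)›
  haveI : HasInjectiveResolutions Y.Modules := inferInstance
  haveI : (Scheme.Modules.pushforward f).IsRightAdjoint :=
    (Scheme.Modules.pullbackPushforwardAdjunction f).isRightAdjoint
  haveI : (Scheme.Modules.pushforward g).IsRightAdjoint :=
    (Scheme.Modules.pullbackPushforwardAdjunction g).isRightAdjoint
  let O : ℕ → Y.Modules := fun l => (Scheme.Modules.pullback e').obj (Twist.twistOver m Z (l : ℤ))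
  have hO : ∀ l, FlatMod.IsFinLocFree (O l) := fun l =>
    H22Alg.PnVan.finLocFree_of_inv (H11Ample.isInvertible_pullback e' (H22Alg.RegSheaf.isInvertible_twistOver _))
  let T : X.Modules ⥤ Y.Modules := H10Inj.SheafExt.homFunctor F ⋙ Scheme.Modules.pushforward f
  let eT : (ModSite.sheafHom (O := X.sheaf) F ⋙ Scheme.Modules.pushforward f : X.Modules ⥤ Y.Modules) ≅ T :=
    Functor.isoWhiskerRight (H10Inj.SheafExt.modSiteHomIso F) (Scheme.Modules.pushforward f)
  haveI : T.Additive := Functor.additive_of_iso eT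
  choose K hK using fun b : ℕ => H10Inj.SheafExt.exists_isZero_rpush_twist m e' g he'
    ((T.rightDerived b).obj G) (H10Coh.isCoh_of_iso ((H02CA.ModLocalise.rdMapIso eT b).app G)
      (S16280.result X Y f n e he F G hF hG b))
  refine ⟨∑ b ∈ Finset.range (p + 1), K b, fun l hl => ?_⟩
  let G' : X.Modules := CohB1.tensorMod G ((Scheme.Modules.pullback f).obj (O l))
  obtain ⟨E, a, hfin, -, hE₂⟩ := S16283.result X Y Z f g F G'
  have hzero : ∀ i j : ℤ, i ≠ 0 → (i < 0 ∨ j ≤ (p : ℤ)) → IsZero ((E.page 2 le_rfl).X (i, j)) := by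
    intro i j hi hij
    obtain ⟨ε⟩ := hE₂ i j
    refine IsZero.of_iso ?_ ε
    by_cases hc : 0 ≤ i ∧ 0 ≤ j
    · refine IsZero.of_iso ?_ (eqToIso (if_pos hc))
      obtain ⟨τ⟩ := H10Inj.SheafExt.nonempty_relExt_tensor f F G (O l) (hO l) j.toNat
      refine (hK j.toNat l ((Finset.single_le_sum (fun b _ => Nat.zero_le (K b))
        (Finset.mem_range.2 (by omega))).trans hl) i.toNat (by omega)).of_iso
        ((Coh.Rpush g i.toNat).mapIso ((H02CA.ModLocalise.rdMapIso eT j.toNat).app G' ≪≫ τ))
    · exact (isZero_zero _).of_iso (eqToIso (if_neg hc))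
  obtain ⟨ε₁⟩ := nonempty_iso_column E a hfin (p : ℤ) hzero
  obtain ⟨ε₂⟩ := hE₂ 0 (p : ℤ)
  have hp : ((p : ℤ)).toNat = p := Int.toNat_natCast p
  exact ⟨((Scheme.Modules.pushforward g).rightDerivedZeroIsoSelf.app _).symm ≪≫
    eqToIso (by rw [if_pos ⟨le_rfl, Int.natCast_nonneg p⟩, hp]; rfl) ≪≫ ε₂.symm ≪≫ ε₁.symm ≪≫
    eqToIso (by rw [if_pos (Int.natCast_nonneg p), hp])⟩


end Groth.Agent.S16284
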