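import Groth.Statements.S16287
import Groth.Agent.H15Site.LocCoh
import Mathlib.Topology.Sheaves.MayerVietoris

set_option autoImplicit false
universe u
open CategoryTheory CategoryTheory.Limits TopologicalSpace
open LocCohZ

set_option linter.style.haveILetI false
set_option linter.unusedSectionVars false
set_option backward.isDefEq.respectTransparency false
open CategoryTheory CategoryTheory.Limits

lemma Groth.Agent.S16287.exists_shortExact {C : Type*} [Category C] [Abelian C] {A B B' D X : C}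
    (f : A ⟶ B) (f' : A ⟶ B') (g : B ⟶ D) (g' : B' ⟶ D) (iA : A ⟶ X) (iB : B ⟶ X) (iB' : B' ⟶ X)
    (iD : D ⟶ X) [Mono iD] (hf : f ≫ iB = iA) (hf' : f' ≫ iB' = iA) (hg : g ≫ iD = iB)
    (hg' : g' ≫ iD = iB')
    (hex : ∀ {T : C} (b : T ⟶ B) (b' : T ⟶ B'), b ≫ g + b' ≫ g' = 0 →
      ∃ (T' : C) (π : T' ⟶ T) (_ : Epi π) (a : T' ⟶ A), π ≫ b = a ≫ f ∧ π ≫ b' = -(a ≫ f'))
    (hepi : ∀ {T : C} (d : T ⟶ D), ∃ (T' : C) (π : T' ⟶ T) (_ : Epi π) (b : T' ⟶ B) (b' : T' ⟶ B'),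
      π ≫ d = b ≫ g + b' ≫ g')
    (p : cokernel iA ⟶ cokernel iB) (p' : cokernel iA ⟶ cokernel iB') (q : cokernel iB ⟶ cokernel iD)
    (q' : cokernel iB' ⟶ cokernel iD) (hp : cokernel.π iA ≫ p = cokernel.π iB)
    (hp' : cokernel.π iA ≫ p' = cokernel.π iB') (hq : cokernel.π iB ≫ q = cokernel.π iD)
    (hq' : cokernel.π iB' ≫ q' = cokernel.π iD) :
    ∃ w : biprod.lift p (-p') ≫ biprod.desc q q' = 0, (ShortComplex.mk _ _ w).ShortExact := by
  have w : biprod.lift p (-p') ≫ biprod.desc q q' = 0 := by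
    rw [biprod.lift_desc]
    apply (cancel_epi (cokernel.π iA)).1
    simp [reassoc_of% hp, reassoc_of% hp', hq, hq']
  have lift : ∀ {B₁ : C} (j : B₁ ⟶ X) {T : C} (y : T ⟶ X), y ≫ cokernel.π j = 0 →
      ∃ (T' : C) (π : T' ⟶ T) (_ : Epi π) (b : T' ⟶ B₁), π ≫ y = b ≫ j := fun j _ y hy =>
    (ShortComplex.exact_of_g_is_cokernel (ShortComplex.mk _ _ (cokernel.condition j))
      (cokernelIsCokernel j)).exact_up_to_refinements y hy
  have hm : Mono (biprod.lift p (-p')) := Preadditive.mono_of_cancel_zero _ fun {T} x hx => by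
    obtain ⟨T₁, π₁, _, y, hy⟩ := surjective_up_to_refinements_of_epi (cokernel.π iA) x
    have h1 : y ≫ cokernel.π iB = 0 := by
      have := congrArg (fun t => π₁ ≫ t ≫ biprod.fst) hx
      simpa [reassoc_of% hy, hp] using this
    have h2 : y ≫ cokernel.π iB' = 0 := by
      have := congrArg (fun t => π₁ ≫ t ≫ biprod.snd) hx
      simpa [reassoc_of% hy, hp'] using this
    obtain ⟨T₂, π₂, _, b, hb⟩ := lift iB y h1
    obtain ⟨T₃, π₃, _, b', hb'⟩ := lift iB' (π₂ ≫ y) (by rw [Category.assoc, h2, comp_zero])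
    obtain ⟨T₄, π₄, _, a, ha, ha'⟩ := hex (π₃ ≫ b) (-b') (by
      apply (cancel_mono iD).1
      simp [hg, hg', ← hb, ← hb'])
    have key : (π₄ ≫ π₃ ≫ π₂) ≫ y = a ≫ iA := by
      simp only [Category.assoc]
      rw [hb, ← Category.assoc π₃, ← Category.assoc π₄, ha, Category.assoc, hf]
    apply (cancel_epi ((π₄ ≫ π₃ ≫ π₂) ≫ π₁)).1
    rw [Category.assoc, hy, ← Category.assoc, key, Category.assoc, cokernel.condition, comp_zero,
      comp_zero]
  have he : Epi (biprod.desc q q') := by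
    haveI : Epi q := epi_of_epi_fac hq
    exact epi_of_epi_fac (biprod.inl_desc q q')
  refine ⟨w, { exact := ?_ }⟩
  rw [ShortComplex.exact_iff_exact_up_to_refinements]
  intro T z hz
  dsimp at z hz
  obtain ⟨T₁, π₁, _, y, hy⟩ := surjective_up_to_refinements_of_epi (cokernel.π iB) (z ≫ biprod.fst)
  obtain ⟨T₂, π₂, _, y', hy'⟩ := surjective_up_to_refinements_of_epi (cokernel.π iB') (π₁ ≫ z ≫ biprod.snd)
  have h1 : (π₂ ≫ y + y') ≫ cokernel.π iD = 0 := by
    have hz' : z = z ≫ biprod.fst ≫ biprod.inl + z ≫ biprod.snd ≫ biprod.inr := by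
      rw [← Preadditive.comp_add, biprod.total, Category.comp_id]
    have := congrArg (fun t => π₂ ≫ π₁ ≫ t) hz
    simp only [comp_zero] at this
    rw [hz'] at this
    simp only [Preadditive.add_comp, Preadditive.comp_add, Category.assoc, biprod.inl_desc,
      biprod.inr_desc, reassoc_of% hy, reassoc_of% hy', hq, hq'] at this
    simpa using this
  obtain ⟨T₃, π₃, _, d, hd⟩ := lift iD _ h1
  obtain ⟨T₄, π₄, _, b, b', hbb⟩ := hepi d
  refine ⟨T₄, π₄ ≫ π₃ ≫ π₂ ≫ π₁, inferInstance,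
    ((π₄ ≫ π₃ ≫ π₂) ≫ y - b ≫ iB) ≫ cokernel.π iA, ?_⟩
  have hsum : (π₄ ≫ π₃) ≫ y' - b' ≫ iB' = -((π₄ ≫ π₃ ≫ π₂) ≫ y - b ≫ iB) := by
    have hd' := congrArg (fun t => π₄ ≫ t) hd
    simp only [Preadditive.comp_add, reassoc_of% hbb, Preadditive.add_comp, Category.assoc, hg,
      hg'] at hd'
    simp only [Category.assoc]
    linear_combination (norm := abel) hd'
  dsimp
  apply biprod.hom_ext
  · simp [hp, hy, cokernel.condition]
  · have h3 := congrArg (fun t => t ≫ cokernel.π iB') hsum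
    simp [hp'] at h3 ⊢
    rw [hy']
    simpa [cokernel.condition, sub_eq_neg_add] using h3

lemma Groth.Agent.S16287.exact₁ {C : Type*} [Category C] [Abelian C] [HasExt C] {S : ShortComplex C}
    (hS : S.ShortExact) {F : C} {i : ℕ} (m : Abelian.Ext S.X₂ F i) (h : 1 + i = i + 1) :
    hS.extClass.precomp F h ((Abelian.Ext.mk₀ S.f).comp m (zero_add i)) = 0 :=
  hS.extClass_comp_assoc m (h := h)

lemma Groth.Agent.S16287.exact₃ {C : Type*} [Category C] [Abelian C] [HasExt C] {S : ShortComplex C}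
    (hS : S.ShortExact) {F : C} {i : ℕ} (x : Abelian.Ext S.X₃ F (i + 1))
    (hx : (Abelian.Ext.mk₀ S.g).comp x (zero_add (i + 1)) = 0) (h : 1 + i = i + 1) :
    ∃ z, hS.extClass.precomp F h z = x := by
  obtain ⟨z, hz⟩ := Abelian.Ext.contravariant_sequence_exact₃ hS F x hx h
  exact ⟨z, hz⟩

lemma Groth.Agent.S16287.exact₃' {C : Type*} [Category C] [Abelian C] [HasExt C] {S : ShortComplex C}
    (hS : S.ShortExact) {F : C} {i : ℕ} (z : Abelian.Ext S.X₁ F i) (h : 1 + i = i + 1) :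
    (Abelian.Ext.mk₀ S.g).comp (hS.extClass.precomp F h z) (zero_add (i + 1)) = 0 := by
  show (Abelian.Ext.mk₀ S.g).comp (hS.extClass.comp z h) (zero_add (i + 1)) = 0
  rw [← Abelian.Ext.comp_assoc _ _ _ (zero_add 1) h (show 0 + 1 + i = i + 1 by omega),
    hS.comp_extClass, Abelian.Ext.zero_comp]

open Groth.Agent.H10Coh
set_option maxHeartbeats 1600000
set_option linter.unusedVariables false


namespace Groth.Agent.S16287

/-- Let X be a topological space, F an abelian sheaf on X, and U, U' open subsets with closed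
complements Z = X ∖ U and Z' = X ∖ U' (so Z ∩ Z' = X ∖ (U ∪ U') and Z ∪ Z' = X ∖ (U ∩ U')). With
H^i_{X∖W}(X, F) = Ext^i(Z_X/Z_W, F) and the enlargement-of-support maps r : H^i_{Z∩Z'} → H^i_Z, r' :
H^i_{Z∩Z'} → H^i_{Z'}, s : H^i_Z → H^i_{Z∪Z'}, s' : H^i_{Z'} → H^i_{Z∪Z'}: the map H^0_{Z∩Z'} →
H^0_Z ⊕ H^0_{Z'}, x ↦ (r x, r' x), is injective, and there are connecting homomorphisms δ_i :
H^i_{Z∪Z'}(X, F) → H^{i+1}_{Z∩Z'}(X, F) such that for every i the sequence H^i_{Z∩Z'} → H^i_Z ⊕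
H^i_{Z'} → H^i_{Z∪Z'} → H^{i+1}_{Z∩Z'} → H^{i+1}_Z ⊕ H^{i+1}_{Z'} is exact, the middle map being (y,
y') ↦ s y − s' y'. -/
theorem result {X : TopCat.{u}} (F : CohTop.Ab X) (U U' : Opens X) :
    Function.Injective (fun x : LocCohZ.HZc F 0 (U ⊔ U') =>
      (LocCohZ.resZ F 0 (le_top : U ⊔ U' ≤ ⊤) (le_top : U ≤ ⊤) le_sup_left le_rfl x,
       LocCohZ.resZ F 0 (le_top : U ⊔ U' ≤ ⊤) (le_top : U' ≤ ⊤) le_sup_right le_rfl x)) ∧
    ∃ δ : ∀ i : ℕ, LocCohZ.HZc F i (U ⊓ U') →+ LocCohZ.HZc F (i + 1) (U ⊔ U'),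
      ∀ i : ℕ,
        (∀ y : LocCohZ.HZc F i U × LocCohZ.HZc F i U',
          LocCohZ.resZ F i (le_top : U ≤ ⊤) (le_top : U ⊓ U' ≤ ⊤) inf_le_left le_rfl y.1 -
              LocCohZ.resZ F i (le_top : U' ≤ ⊤) (le_top : U ⊓ U' ≤ ⊤) inf_le_right le_rfl y.2 = 0 ↔
            ∃ x : LocCohZ.HZc F i (U ⊔ U'),
              LocCohZ.resZ F i (le_top : U ⊔ U' ≤ ⊤) (le_top : U ≤ ⊤) le_sup_left le_rfl x = y.1 ∧
              LocCohZ.resZ F i (le_top : U ⊔ U' ≤ ⊤) (le_top : U' ≤ ⊤) le_sup_right le_rfl x = y.2) ∧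
        (∀ w : LocCohZ.HZc F i (U ⊓ U'),
          δ i w = 0 ↔ ∃ y : LocCohZ.HZc F i U × LocCohZ.HZc F i U',
            LocCohZ.resZ F i (le_top : U ≤ ⊤) (le_top : U ⊓ U' ≤ ⊤) inf_le_left le_rfl y.1 -
              LocCohZ.resZ F i (le_top : U' ≤ ⊤) (le_top : U ⊓ U' ≤ ⊤) inf_le_right le_rfl y.2 = w) ∧
        (∀ x : LocCohZ.HZc F (i + 1) (U ⊔ U'),
          (LocCohZ.resZ F (i + 1) (le_top : U ⊔ U' ≤ ⊤) (le_top : U ≤ ⊤) le_sup_left le_rfl x = 0 ∧
            LocCohZ.resZ F (i + 1) (le_top : U ⊔ U' ≤ ⊤) (le_top : U' ≤ ⊤) le_sup_right le_rfl x = 0) ↔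
            ∃ w : LocCohZ.HZc F i (U ⊓ U'), δ i w = x) := by
  let sq := Opens.mayerVietorisSquare U U'
  have hE := sq.shortComplex_shortExact
  have hzero : ∀ {P Q : CohTop.Ab X} (φ : P ⟶ Q), φ + 0 = φ := fun φ => add_zero φ
  obtain ⟨w, hS⟩ := Groth.Agent.S16287.exists_shortExact
    (zmap (inf_le_left : U ⊓ U' ≤ U)) (zmap (inf_le_right : U ⊓ U' ≤ U'))
    (zmap (le_sup_left : U ≤ U ⊔ U')) (zmap (le_sup_right : U' ≤ U ⊔ U'))
    (zmap (le_top : U ⊓ U' ≤ ⊤)) (zmap (le_top : U ≤ ⊤)) (zmap (le_top : U' ≤ ⊤))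
    (zmap (le_top : U ⊔ U' ≤ ⊤))
    (CohFree.freeSheafMap_comp _ _ _).symm (CohFree.freeSheafMap_comp _ _ _).symm
    (CohFree.freeSheafMap_comp _ _ _).symm (CohFree.freeSheafMap_comp _ _ _).symm
    (fun {T} b b' h => by
      obtain ⟨T', π, hπ, a, ha⟩ := hE.exact.exact_up_to_refinements
        ((biprod.lift b b' : T ⟶ sq.shortComplex.X₂)) ((biprod.lift_desc ..).trans h)
      refine ⟨T', π, hπ, a, ?_, ?_⟩
      · exact ((congrArg (π ≫ ·) (biprod.lift_fst b b').symm).trans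
          ((Category.assoc _ _ _).symm.trans ((congrArg (· ≫ biprod.fst) ha).trans
            ((Category.assoc _ _ _).trans (congrArg (a ≫ ·) (biprod.lift_fst _ _))))))
      · exact ((congrArg (π ≫ ·) (biprod.lift_snd b b').symm).trans
          ((Category.assoc _ _ _).symm.trans ((congrArg (· ≫ biprod.snd) ha).trans
            ((Category.assoc _ _ _).trans ((congrArg (a ≫ ·) (biprod.lift_snd _ _)).trans
              (Preadditive.comp_neg _ _)))))))
    (fun {T} d => by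
      haveI := hE.epi_g
      obtain ⟨T', π, hπ, z, hz⟩ := surjective_up_to_refinements_of_epi sq.shortComplex.g d
      refine ⟨T', π, hπ, z ≫ biprod.fst, z ≫ biprod.snd, hz.trans ?_⟩
      exact (congrArg (· ≫ sq.shortComplex.g)
        (biprod.hom_ext z (biprod.lift (z ≫ biprod.fst) (z ≫ biprod.snd)) (biprod.lift_fst _ _).symm (biprod.lift_snd _ _).symm)).trans
        (biprod.lift_desc ..))
    (zqMap le_top le_top inf_le_left le_rfl) (zqMap le_top le_top inf_le_right le_rfl)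
    (zqMap le_top le_top le_sup_left le_rfl) (zqMap le_top le_top le_sup_right le_rfl)
    ((cokernel.π_desc _ _ _).trans ((congrArg (· ≫ _) (CohFree.freeSheafMap_id _ _)).trans (Category.id_comp _)))
    ((cokernel.π_desc _ _ _).trans ((congrArg (· ≫ _) (CohFree.freeSheafMap_id _ _)).trans (Category.id_comp _)))
    ((cokernel.π_desc _ _ _).trans ((congrArg (· ≫ _) (CohFree.freeSheafMap_id _ _)).trans (Category.id_comp _)))
    ((cokernel.π_desc _ _ _).trans ((congrArg (· ≫ _) (CohFree.freeSheafMap_id _ _)).trans (Category.id_comp _)))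
  let p := zqMap (le_top : U ≤ ⊤) (le_top : U ⊓ U' ≤ ⊤) inf_le_left le_rfl
  let p' := zqMap (le_top : U' ≤ ⊤) (le_top : U ⊓ U' ≤ ⊤) inf_le_right le_rfl
  let q := zqMap (le_top : U ⊔ U' ≤ ⊤) (le_top : U ≤ ⊤) le_sup_left le_rfl
  let q' := zqMap (le_top : U ⊔ U' ≤ ⊤) (le_top : U' ≤ ⊤) le_sup_right le_rfl
  let mk : ∀ i : ℕ, HZc F i U → HZc F i U' → Abelian.Ext (zq (le_top : U ≤ ⊤) ⊞ zq (le_top : U' ≤ ⊤)) F i :=
    fun i y y' => (Abelian.Ext.mk₀ biprod.fst).comp y (zero_add i) +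
      (Abelian.Ext.mk₀ biprod.snd).comp y' (zero_add i)
  have hf : ∀ (i : ℕ) y y', (Abelian.Ext.mk₀ (biprod.lift p (-p'))).comp (mk i y y') (zero_add i) =
      resZ F i (le_top : U ≤ ⊤) (le_top : U ⊓ U' ≤ ⊤) inf_le_left le_rfl y -
        resZ F i (le_top : U' ≤ ⊤) (le_top : U ⊓ U' ≤ ⊤) inf_le_right le_rfl y' := fun i y y' => by
    simp [mk, sub_eq_add_neg, p, p']
  have hgl : ∀ (i : ℕ) (x : HZc F i (U ⊔ U')),
      (Abelian.Ext.mk₀ biprod.inl).comp ((Abelian.Ext.mk₀ (biprod.desc q q')).comp x (zero_add i)) (zero_add i) =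
      resZ F i (le_top : U ⊔ U' ≤ ⊤) (le_top : U ≤ ⊤) le_sup_left le_rfl x := fun i x => by simp [q]
  have hgr : ∀ (i : ℕ) (x : HZc F i (U ⊔ U')),
      (Abelian.Ext.mk₀ biprod.inr).comp ((Abelian.Ext.mk₀ (biprod.desc q q')).comp x (zero_add i)) (zero_add i) =
      resZ F i (le_top : U ⊔ U' ≤ ⊤) (le_top : U' ≤ ⊤) le_sup_right le_rfl x := fun i x => by simp [q']
  refine ⟨fun x₁ x₂ hx => ?_, fun i => hS.extClass.precomp F (by omega), fun i => ⟨?_, ?_, ?_⟩⟩
  · obtain ⟨φ₁, rfl⟩ := (Abelian.Ext.mk₀_bijective _ _).2 x₁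
    obtain ⟨φ₂, rfl⟩ := (Abelian.Ext.mk₀_bijective _ _).2 x₂
    haveI : Epi (biprod.desc q q') := hS.epi_g
    have h1 : q ≫ φ₁ = q ≫ φ₂ := (Abelian.Ext.mk₀_bijective _ _).1
      ((Abelian.Ext.mk₀_comp_mk₀ q φ₁).symm.trans ((congrArg Prod.fst hx).trans (Abelian.Ext.mk₀_comp_mk₀ q φ₂)))
    have h2 : q' ≫ φ₁ = q' ≫ φ₂ := (Abelian.Ext.mk₀_bijective _ _).1
      ((Abelian.Ext.mk₀_comp_mk₀ q' φ₁).symm.trans ((congrArg Prod.snd hx).trans (Abelian.Ext.mk₀_comp_mk₀ q' φ₂)))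
    congr 1
    apply (cancel_epi (biprod.desc q q')).1
    exact biprod.hom_ext' _ _
      ((biprod.inl_desc_assoc q q' φ₁).trans (h1.trans (biprod.inl_desc_assoc q q' φ₂).symm))
      ((biprod.inr_desc_assoc q q' φ₁).trans (h2.trans (biprod.inr_desc_assoc q q' φ₂).symm))
  · rintro ⟨y, y'⟩
    rw [← hf]
    constructor
    · intro h
      obtain ⟨x, hx⟩ := Abelian.Ext.contravariant_sequence_exact₂ hS F (mk i y y') h
      refine ⟨x, ?_, ?_⟩
      · rw [← hgl]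
        exact (congrArg (fun t => (Abelian.Ext.mk₀ biprod.inl).comp t (zero_add i)) hx).trans (by simp [mk])
      · rw [← hgr]
        exact (congrArg (fun t => (Abelian.Ext.mk₀ biprod.inr).comp t (zero_add i)) hx).trans (by simp [mk])
    · rintro ⟨x, rfl, rfl⟩
      have : mk i (resZ F i (le_top : U ⊔ U' ≤ ⊤) (le_top : U ≤ ⊤) le_sup_left le_rfl x)
          (resZ F i (le_top : U ⊔ U' ≤ ⊤) (le_top : U' ≤ ⊤) le_sup_right le_rfl x) =
          (Abelian.Ext.mk₀ (biprod.desc q q')).comp x (zero_add i) := by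
        simp only [mk, ← hgl, ← hgr, Abelian.Ext.mk₀_comp_mk₀_assoc, ← Abelian.Ext.add_comp,
          ← Abelian.Ext.mk₀_add, ← Category.assoc, ← Preadditive.add_comp, biprod.total,
          Category.id_comp]
      rw [this, Abelian.Ext.mk₀_comp_mk₀_assoc, w, Abelian.Ext.mk₀_zero, Abelian.Ext.zero_comp]
  · intro x
    constructor
    · intro h
      obtain ⟨z, hz⟩ := Abelian.Ext.contravariant_sequence_exact₁ hS F x (show 1 + i = i + 1 by omega) h
      refine ⟨((Abelian.Ext.mk₀ biprod.inl).comp z (zero_add i), (Abelian.Ext.mk₀ biprod.inr).comp z (zero_add i)), ?_⟩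
      rw [← hf]
      refine Eq.trans ?_ hz
      congr 1
      simp only [mk, Abelian.Ext.mk₀_comp_mk₀_assoc, ← Abelian.Ext.add_comp, ← Abelian.Ext.mk₀_add,
        biprod.total, Abelian.Ext.mk₀_id_comp]
    · rintro ⟨⟨y, y'⟩, rfl⟩
      rw [← hf]
      exact Groth.Agent.S16287.exact₁ hS (mk i y y') (by omega)
  · intro x
    constructor
    · rintro ⟨h1, h2⟩
      have hx : (Abelian.Ext.mk₀ (biprod.desc q q')).comp x (zero_add (i + 1)) = 0 := by
        have := Abelian.Ext.mk₀_id_comp ((Abelian.Ext.mk₀ (biprod.desc q q')).comp x (zero_add (i + 1)))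
        rw [← biprod.total, Abelian.Ext.mk₀_add, Abelian.Ext.add_comp, ← Abelian.Ext.mk₀_comp_mk₀_assoc,
          ← Abelian.Ext.mk₀_comp_mk₀_assoc, hgl, hgr, h1, h2, Abelian.Ext.comp_zero,
          Abelian.Ext.comp_zero, add_zero] at this
        exact this.symm
      exact Groth.Agent.S16287.exact₃ hS x hx (by omega)
    · rintro ⟨z, rfl⟩
      have hx : (Abelian.Ext.mk₀ (biprod.desc q q')).comp
          (hS.extClass.precomp F (show 1 + i = i + 1 by omega) z) (zero_add (i + 1)) = 0 :=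
        Groth.Agent.S16287.exact₃' hS z (by omega)
      constructor
      · rw [← hgl]
        exact (congrArg (fun t => (Abelian.Ext.mk₀ biprod.inl).comp t (zero_add _)) hx).trans (Abelian.Ext.comp_zero ..)
      · rw [← hgr]
        exact (congrArg (fun t => (Abelian.Ext.mk₀ biprod.inr).comp t (zero_add _)) hx).trans (Abelian.Ext.comp_zero ..)

end Groth.Agent.S16287
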