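import Groth.Statements.S16289
import Groth.Agent.H10Inj.SheafExt.FirstVar
import Groth.Agent.H10Inj.SheafExt.RDLES
-- import your own Groth.Agent.* helpers here

set_option autoImplicit false
set_option linter.style.haveILetI false
set_option backward.isDefEq.respectTransparency false
universe u
open CategoryTheory CategoryTheory.Limits AlgebraicGeometry
open Coherent

namespace Groth.Agent.S16289

/-- For relative Ext sheaves in the first variable; let f : X → Y be a morphism of schemes, 0 → F' → F →
F'' → 0 a short exact sequence of O_X-modules (S below, with S.X₁ = F', S.X₂ = F, S.X₃ = F'') and G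
an O_X-module. For an O_X-module M write Ext^p_f(M, -) for the p-th right derived functor of the
left exact functor G ↦ f_* Hom_{O_X}(M, G), and for u : M' → M write u^* : Ext^p_f(M, G) →
Ext^p_f(M', G) for the map induced (right derived natural transformation) by Hom(M, -) → Hom(M', -).
Then Ext^0_f(F'', G) → Ext^0_f(F, G) is a monomorphism, for every p the pair Ext^p_f(F'', G) →
Ext^p_f(F, G) → Ext^p_f(F', G) composes to zero and is exact, and there are connecting morphisms δ_p
: Ext^p_f(F', G) → Ext^{p+1}_f(F'', G) making Ext^p_f(F, G) → Ext^p_f(F', G) → Ext^{p+1}_f(F'', G)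
and Ext^p_f(F', G) → Ext^{p+1}_f(F'', G) → Ext^{p+1}_f(F, G) compose to zero and exact. (Stated for
schemes, the published statement being for ringed spaces; the connecting maps are asserted to exist
only. The internal Hom functors, injective resolutions and additivity of the composite functors are
the stated instance hypotheses, all true.) -/
theorem result (X Y : Scheme.{u}) (f : X ⟶ Y) (S : ShortComplex X.Modules) (hS : S.ShortExact)
    (G : X.Modules)
    [ModSite.HasSheafHom (O := X.sheaf) S.X₁] [ModSite.HasSheafHom (O := X.sheaf) S.X₂] [ModSite.HasSheafHom (O := X.sheaf) S.X₃]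
    [HasInjectiveResolutions (ModSite.Mod X.sheaf)]
    [(ModSite.sheafHom (O := X.sheaf) S.X₁ ⋙ Scheme.Modules.pushforward f).Additive]
    [(ModSite.sheafHom (O := X.sheaf) S.X₂ ⋙ Scheme.Modules.pushforward f).Additive]
    [(ModSite.sheafHom (O := X.sheaf) S.X₃ ⋙ Scheme.Modules.pushforward f).Additive] :
    Mono ((NatTrans.rightDerived (Functor.whiskerRight (ExtSupp.sheafHomMap (O := X.sheaf) S.g) (Scheme.Modules.pushforward f)) 0).app G) ∧
    (∀ p : ℕ, ∃ w : (NatTrans.rightDerived (Functor.whiskerRight (ExtSupp.sheafHomMap (O := X.sheaf) S.g) (Scheme.Modules.pushforward f)) p).app G ≫ (NatTrans.rightDerived (Functor.whiskerRight (ExtSupp.sheafHomMap (O := X.sheaf) S.f) (Scheme.Modules.pushforward f)) p).app G = 0,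
      (ShortComplex.mk _ _ w).Exact) ∧
    ∃ δ : ∀ p : ℕ, ((ModSite.sheafHom (O := X.sheaf) S.X₁ ⋙ Scheme.Modules.pushforward f).rightDerived p).obj G ⟶ ((ModSite.sheafHom (O := X.sheaf) S.X₃ ⋙ Scheme.Modules.pushforward f).rightDerived (p + 1)).obj G,
      ∀ p : ℕ,
        (∃ w : (NatTrans.rightDerived (Functor.whiskerRight (ExtSupp.sheafHomMap (O := X.sheaf) S.f) (Scheme.Modules.pushforward f)) p).app G ≫ δ p = 0, (ShortComplex.mk _ _ w).Exact) ∧
        (∃ w : δ p ≫ (NatTrans.rightDerived (Functor.whiskerRight (ExtSupp.sheafHomMap (O := X.sheaf) S.g) (Scheme.Modules.pushforward f)) (p + 1)).app G = 0, (ShortComplex.mk _ _ w).Exact) := by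
  haveI : HasInjectiveResolutions X.Modules := ‹HasInjectiveResolutions (ModSite.Mod X.sheaf)›
  let adj₁ : (DCoh.tensorBi (X := X)).flip.obj S.X₁ ⊣
      (ModSite.sheafHom (O := X.sheaf) S.X₁ : X.Modules ⥤ X.Modules) := ModSite.sheafHomAdj (O := X.sheaf) S.X₁
  let adj₂ : (DCoh.tensorBi (X := X)).flip.obj S.X₂ ⊣
      (ModSite.sheafHom (O := X.sheaf) S.X₂ : X.Modules ⥤ X.Modules) := ModSite.sheafHomAdj (O := X.sheaf) S.X₂
  let adj₃ : (DCoh.tensorBi (X := X)).flip.obj S.X₃ ⊣
      (ModSite.sheafHom (O := X.sheaf) S.X₃ : X.Modules ⥤ X.Modules) := ModSite.sheafHomAdj (O := X.sheaf) S.X₃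
  let a := Functor.whiskerRight (H10Inj.SheafExt.conjG S adj₂ adj₃) (Scheme.Modules.pushforward f)
  let b := Functor.whiskerRight (H10Inj.SheafExt.conjF S adj₁ adj₂) (Scheme.Modules.pushforward f)
  haveI := (Scheme.Modules.pullbackPushforwardAdjunction f).right_adjoint_additive
  have w : a ≫ b = 0 := by
    refine NatTrans.ext (funext fun I => ?_)
    show (Scheme.Modules.pushforward f).map _ ≫ (Scheme.Modules.pushforward f).map _ = 0
    rw [← Functor.map_comp, H10Inj.SheafExt.conjG_comp_conjF_app S adj₁ adj₂ adj₃ I, Functor.map_zero]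
  exact H10Inj.SheafExt.rightDerived_les a b w (fun I _ =>
    H10Inj.SheafExt.shortExact_push_conj S hS adj₁ adj₂ adj₃ f I) G

end Groth.Agent.S16289
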