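import Groth.Statements.S1629
import Groth.Agent.H7Lim.GRReduction
import Mathlib.AlgebraicGeometry.Morphisms.ClosedImmersion
-- import your own Groth.Agent.* helpers here

set_option autoImplicit false
universe u
open CategoryTheory CategoryTheory.Limits AlgebraicGeometry
open Variety

namespace Groth.Agent.S1629

/-- Let X be a k-scheme locally of finite type, having only finitely many irreducible components. There
is then a finite purely inseparable extension k' of k for which the reduction of X_{k'} (the closed
subscheme defined by the nilradical) is geometrically reduced over k'. -/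
theorem result (k : Type u) [Field k] (X : Scheme.{u}) [X.Over (Spec (CommRingCat.of k))] [LocallyOfFiniteType (X ↘ (Spec (CommRingCat.of k)))]
    (hirr : (irreducibleComponents (X : Type u)).Finite) :
    ∃ (k' : Type u) (_ : Field k') (_ : Algebra k k'), FiniteDimensional k k' ∧ IsPurelyInseparable k k' ∧
      GeometricallyReduced ((Curv2.bc k X k').nilradical.subschemeι ≫ Curv2.bcSnd k X k') := by
  obtain ⟨k', _, _, h1, h2, h3⟩ := Groth.Agent.H7Lim.GRReduction.exists_extension (X ↘ Spec (CommRingCat.of k))
    (genericPoints.finite hirr)
  let P := Curv2.bc k X k'
  haveI : AlgebraicGeometry.IsReduced P.nilradical.subscheme :=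
    (Groth.Agent.H17.eq_nilradical_iff P.nilradical (Scheme.support_nilradical P)).2 rfl
  have hs : Surjective P.nilradical.subschemeι := by
    refine ⟨fun x => ?_⟩
    have h : x ∈ Set.range P.nilradical.subschemeι := by
      rw [Scheme.IdealSheafData.range_subschemeι, Scheme.support_nilradical]; trivial
    exact h
  exact ⟨k', inferInstance, inferInstance, h1, h2, @h3 _ _ P.nilradical.subschemeι
    (IsClosedImmersion.instSubschemeι _) hs⟩

end Groth.Agent.S1629
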