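import Groth.Statements.S16291
import Groth.Agent.H23Gor.Pointed

set_option autoImplicit false
universe u
open CategoryTheory CategoryTheory.Limits AlgebraicGeometry
attribute [local instance] HasDerivedCategory.standard
open Curves

namespace Groth.Agent.S16291

/-- Let k be an algebraically closed field and (X, D) a stable n-pointed curve over k, taken in the
form: X is proper and connected over k, of dimension 1, with at-worst-nodal singularities; D ⊆ X is
a finite closed set of points each having an open neighbourhood smooth over k (the marked points);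
ω_X is the dualizing module of X (degree -1 cohomology sheaf of f^! O for the structure morphism f,
for any choice of the data Rf_* on D_QCoh with its right adjoint); L_D is an invertible module with
L_D ⊗ I_D ≅ O_X, where I_D is the ideal sheaf of D with its reduced structure (so L_D plays the role
of O_X(D)); and the invertible module ω_X(D) := ω_X ⊗ L_D is ample (stability). Then H^1(X,
ω_X(D)^{⊗m}) = 0 for every m ≥ 2. -/
theorem result (k : Type u) [Field k] [IsAlgClosed k] (X : Scheme.{u}) [X.Over (Spec (CommRingCat.of k))]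
    [IsProper (X ↘ (Spec (CommRingCat.of k)))] [ConnectedSpace X] (hdim : topologicalKrullDim X = 1) (hX : Curv2.AtWorstNodal k X)
    [DCoh.HasRpush (X ↘ (Spec (CommRingCat.of k)))] (h : DCoh.RpushPreservesQCoh (X ↘ (Spec (CommRingCat.of k)))) [DCoh.HasShriek (X ↘ (Spec (CommRingCat.of k))) h]
    (OY : DCoh.DQCoh (Spec (CommRingCat.of k))) (hOY : Nonempty (OY.obj ≅ DCoh.inD (Spec (CommRingCat.of k)) (Coh.structureModule (Spec (CommRingCat.of k)))))
    (D : Set X) (hDfin : D.Finite) (hDcl : IsClosed D) (hDsm : ∀ x ∈ D, ∃ U : X.Opens, x ∈ U ∧ Smooth (U.ι ≫ (X ↘ (Spec (CommRingCat.of k)))))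
    (LD : X.Modules) (hLD : PicF.IsInvertible LD)
    (hinv : ClSub.IsInverseOf LD (ClSub.idealMod (Scheme.IdealSheafData.vanishingIdeal (⟨D, hDcl⟩ : TopologicalSpace.Closeds X))))
    (hst : CohB1.IsAmple (CohB1.tensorMod (DCoh.dualizingMod (X ↘ (Spec (CommRingCat.of k))) h OY 1) LD))
    (m : ℕ) (hm : 2 ≤ m) :
    Subsingleton (Coh.HH X (CohB1.tensorPow (CohB1.tensorMod (DCoh.dualizingMod (X ↘ (Spec (CommRingCat.of k))) h OY 1) LD) m) 1) := by
  obtain ⟨hr, -, hω⟩ := H23Gor.pointed_setup hdim hX h OY hOY
  haveI := hr
  exact (H23Gor.stable_pow hdim hω hDcl hDfin hinv hst hm).1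

end Groth.Agent.S16291
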