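import Groth.Statements.S16294
import Groth.Agent.H17.GorCurve.Pointed

set_option autoImplicit false
universe u
open CategoryTheory CategoryTheory.Limits AlgebraicGeometry
attribute [local instance] HasDerivedCategory.standard
open Curves

namespace Groth.Agent.S16294

/-- Let k be an algebraically closed field and (X, D) a semi-stable n-pointed curve over k, taken in the
form: X is proper and connected over k, of dimension 1, with at-worst-nodal singularities; D ⊆ X is
a finite closed set of points each having an open neighbourhood smooth over k; ω_X is the dualizing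
module of X (degree -1 cohomology sheaf of f^! O for the structure morphism f, for any choice of the
data Rf_* on D_QCoh with its right adjoint); L_D is an invertible module with L_D ⊗ I_D ≅ O_X for
the ideal sheaf I_D of D with its reduced structure. Let (V, E, ends) be the dual graph of X over k
(vertices = irreducible components C_v, edges = singular points, each edge joining the components
through its node). Then (X, D) is stable, i.e. ω_X ⊗ L_D is ample, if and only if for every vertex v
one has 2 p_a(C_v) - 2 + e_v + d_v > 0, where p_a(C_v) = dim_k H^1(C_v, O) for the reduced component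
C_v, e_v is the number of nodes of X lying on C_v and on another component (non-loop edges at v) and
d_v is the number of marked points on C_v. (The published criterion is stated per component C̃_v of
the normalisation as 2 g(C̃_v) - 2 + n(C̃_v) > 0, n(C̃_v) counting its points over D and over the
nodes of X; since p_a(C_v) = g(C̃_v) + (number of nodes of X lying on C_v alone) and each such node
has two preimages in C̃_v, the two counts agree.) -/
theorem result (k : Type u) [Field k] [IsAlgClosed k] (X : Scheme.{u}) [X.Over (Spec (CommRingCat.of k))]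
    [IsProper (X ↘ (Spec (CommRingCat.of k)))] [ConnectedSpace X] (hdim : topologicalKrullDim X = 1) (hX : Curv2.AtWorstNodal k X)
    [DCoh.HasRpush (X ↘ (Spec (CommRingCat.of k)))] (h : DCoh.RpushPreservesQCoh (X ↘ (Spec (CommRingCat.of k)))) [DCoh.HasShriek (X ↘ (Spec (CommRingCat.of k))) h]
    (OY : DCoh.DQCoh (Spec (CommRingCat.of k))) (hOY : Nonempty (OY.obj ≅ DCoh.inD (Spec (CommRingCat.of k)) (Coh.structureModule (Spec (CommRingCat.of k)))))
    (D : Set X) (hDfin : D.Finite) (hDcl : IsClosed D) (hDsm : ∀ x ∈ D, ∃ U : X.Opens, x ∈ U ∧ Smooth (U.ι ≫ (X ↘ (Spec (CommRingCat.of k)))))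
    (LD : X.Modules) (hLD : PicF.IsInvertible LD)
    (hinv : ClSub.IsInverseOf LD (ClSub.idealMod (Scheme.IdealSheafData.vanishingIdeal (⟨D, hDcl⟩ : TopologicalSpace.Closeds X))))
    (V E : Type u) [Finite E] (cv : V → Set X) (ce : E → X) (ends : E → V × V)
    (hΓ : DualGr.IsDualGraph (X ↘ (Spec (CommRingCat.of k))) cv ce ends) :
    CohB1.IsAmple (CohB1.tensorMod (DCoh.dualizingMod (X ↘ (Spec (CommRingCat.of k))) h OY 1) LD) ↔
      ∀ v : V, 0 < 2 * (@Curv2.genus k _ (Scheme.IdealSheafData.vanishingIdeal (⟨cv v, isClosed_of_mem_irreducibleComponents (cv v) (hΓ.comp_mem v)⟩ : TopologicalSpace.Closeds X)).subscheme ⟨(Scheme.IdealSheafData.vanishingIdeal (⟨cv v, isClosed_of_mem_irreducibleComponents (cv v) (hΓ.comp_mem v)⟩ : TopologicalSpace.Closeds X)).subschemeι ≫ (X ↘ (Spec (CommRingCat.of k)))⟩ : ℤ) - 2 +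
        (Nat.card {e : E // (ends e).1 ≠ (ends e).2 ∧ ((ends e).1 = v ∨ (ends e).2 = v)} : ℤ) +
        (Nat.card ↥(D ∩ cv v) : ℤ) := by
  obtain ⟨hXr, hω⟩ := H17.GorCurve.isDualizing_of_nodal hdim hX h OY hOY
  haveI := hXr
  obtain ⟨hMi, hMd, hJ⟩ := H17.GorCurve.twist_numerics (S := ⟨D, hDcl⟩) hdim hω hDfin hDsm hinv (Iso.refl _)
  haveI := H28Int.isNoetherian k (X := X)
  set M := CohB1.tensorMod (DCoh.dualizingMod (X ↘ (Spec (CommRingCat.of k))) h OY 1) LD
  haveI := H28Int.isNoetherian k (X := X)
  have key : ∀ v : V, H17.GorCurve.degJ k (H29CurveDual.Subcurve.idl ⟨cv v, isClosed_of_mem_irreducibleComponents (cv v) (hΓ.comp_mem v)⟩) M =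
      2 * (@Curv2.genus k _ (Scheme.IdealSheafData.vanishingIdeal (⟨cv v, isClosed_of_mem_irreducibleComponents (cv v) (hΓ.comp_mem v)⟩ : TopologicalSpace.Closeds X)).subscheme ⟨(Scheme.IdealSheafData.vanishingIdeal (⟨cv v, isClosed_of_mem_irreducibleComponents (cv v) (hΓ.comp_mem v)⟩ : TopologicalSpace.Closeds X)).subschemeι ≫ (X ↘ (Spec (CommRingCat.of k)))⟩ : ℤ) - 2 +
        (Nat.card {e : E // (ends e).1 ≠ (ends e).2 ∧ ((ends e).1 = v ∨ (ends e).2 = v)} : ℤ) +
        (Nat.card ↥(D ∩ cv v) : ℤ) := fun v => by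
    obtain ⟨h1, h2, h3⟩ := H17.GorCurve.component_subcurve (k := k) hdim (hΓ.comp_mem v)
    obtain ⟨γ, δ, d, hγ, hδ, hd, hdeg, -⟩ := hJ _ h1 h2 h3
    have hp := H29CurveDual.Subcurve.isPure_top (X := X) hdim
    have hW : H29CurveDual.Subcurve.IsPure (⟨cv v, isClosed_of_mem_irreducibleComponents (cv v) (hΓ.comp_mem v)⟩ : TopologicalSpace.Closeds X) := by
      have := H17.GorCurve.isPure_support (k := k) hdim.le _ h3
      rwa [show ((H29CurveDual.Subcurve.idl (⟨cv v, isClosed_of_mem_irreducibleComponents (cv v) (hΓ.comp_mem v)⟩ : TopologicalSpace.Closeds X)).support : TopologicalSpace.Closeds X) = ⟨cv v, isClosed_of_mem_irreducibleComponents (cv v) (hΓ.comp_mem v)⟩ from TopologicalSpace.Closeds.ext (H17.GorCurve.coe_support_idl _)] at this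
    rw [H17.GorCurve.deltaJ_idl, H17.GorCurve.delta_eq_ncard hX hdim.le hp hW] at hδ
    have hset : cv v ∩ closure (cv v)ᶜ = ce '' {e : E | (ends e).1 ≠ (ends e).2 ∧ ((ends e).1 = v ∨ (ends e).2 = v)} := by
      ext x
      constructor
      · rintro ⟨hxv, hxc⟩
        have hns : x ∈ DualGr.nonsmoothPts (X ↘ (Spec (CommRingCat.of k))) := fun hs => by
          have hs' : x ∈ (X ↘ (Spec (CommRingCat.of k))).smoothLocus := hs
          haveI : Smooth ((X ↘ (Spec (CommRingCat.of k))).smoothLocus.ι ≫ (X ↘ (Spec (CommRingCat.of k)))) := by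
            rw [← Scheme.Hom.smoothLocus_eq_top_iff, ← Scheme.Hom.preimage_smoothLocus_eq, Scheme.Opens.ι_preimage_self]
          haveI := H06NormCurve.isRegularLocalRing_of_smooth_nhd (k := k) (x := x) ⟨_, hs', ‹_›⟩
          exact H17.GorCurve.not_isDomain_of_mem_inter hdim.le hp hW hxv hxc
            (H4Depth.isDomain_of_isRegularLocalRing (X.presheaf.stalk x))
        obtain ⟨e, rfl⟩ := hΓ.pt_surjective x hns
        refine ⟨e, ⟨fun heq => ?_, (hΓ.incidence e v).2 hxv⟩, rfl⟩
        obtain ⟨T, hT, hTne, hxT⟩ : ∃ T ∈ irreducibleComponents (X : Type u), T ≠ cv v ∧ ce e ∈ T := by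
          have hfin := TopologicalSpace.NoetherianSpace.finite_irreducibleComponents (α := X)
          have hsub : (cv v)ᶜ ⊆ ⋃ T ∈ {T ∈ irreducibleComponents (X : Type u) | T ≠ cv v}, T := fun y hy =>
            Set.mem_iUnion₂.2 ⟨irreducibleComponent y, ⟨irreducibleComponent_mem_irreducibleComponents y,
              fun h => hy (h ▸ mem_irreducibleComponent)⟩, mem_irreducibleComponent⟩
          have hcl : IsClosed (⋃ T ∈ {T ∈ irreducibleComponents (X : Type u) | T ≠ cv v}, T) :=
            (hfin.subset fun T hT => hT.1).isClosed_biUnion fun T hT => isClosed_of_mem_irreducibleComponents T hT.1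
          obtain ⟨T, ⟨hT, hne⟩, hxT⟩ := Set.mem_iUnion₂.1 (closure_minimal hsub hcl hxc)
          exact ⟨T, hT, hne, hxT⟩
        obtain ⟨w, rfl⟩ := hΓ.comp_surjective T hT
        rcases (hΓ.incidence e w).2 hxT with h5 | h5 <;> rcases (hΓ.incidence e v).2 hxv with h6 | h6 <;>
          exact hTne (congrArg cv (by grind))
      · rintro ⟨e, ⟨hne, hv⟩, rfl⟩
        refine ⟨(hΓ.incidence e v).1 hv, ?_⟩
        obtain ⟨w, hw, hwv⟩ : ∃ w, ((ends e).1 = w ∨ (ends e).2 = w) ∧ w ≠ v := by
          rcases hv with h5 | h5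
          · exact ⟨_, Or.inr rfl, fun h6 => hne (h5.trans h6.symm)⟩
          · exact ⟨_, Or.inl rfl, fun h6 => hne (h6.trans h5.symm)⟩
        have hwc := hΓ.comp_mem w
        obtain ⟨η, hη⟩ := QuasiSober.sober hwc.1 (isClosed_of_mem_irreducibleComponents _ hwc)
        have hηv : η ∉ cv v := fun hm => hwv (hΓ.comp_injective (Set.Subset.antisymm
          (hη.def ▸ closure_minimal (Set.singleton_subset_iff.2 hm) (isClosed_of_mem_irreducibleComponents _ (hΓ.comp_mem v)))
          (hwc.2 (hΓ.comp_mem v).1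
            (hη.def ▸ closure_minimal (Set.singleton_subset_iff.2 hm) (isClosed_of_mem_irreducibleComponents _ (hΓ.comp_mem v))))))
        refine closure_mono (Set.singleton_subset_iff.2 hηv) ?_
        rw [hη.def]
        exact (hΓ.incidence e w).1 hw
    have hδ' : (δ : ℤ) = (cv v ∩ closure (cv v)ᶜ).ncard := hδ
    rw [hset, Set.ncard_image_of_injective _ hΓ.pt_injective] at hδ'
    have hd' : d = (D ∩ cv v).ncard := by
      rw [hd, H17.GorCurve.coe_support_idl]
      rfl
    rw [Nat.card_coe_set_eq, ← hd', show Nat.card {e : E // (ends e).1 ≠ (ends e).2 ∧ ((ends e).1 = v ∨ (ends e).2 = v)} =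
      {e : E | (ends e).1 ≠ (ends e).2 ∧ ((ends e).1 = v ∨ (ends e).2 = v)}.ncard from Nat.card_coe_set_eq _, hdeg, hγ, hδ']
  constructor
  · intro hst v
    obtain ⟨h1, h2, h3⟩ := H17.GorCurve.component_subcurve (k := k) hdim (hΓ.comp_mem v)
    have := H17.GorCurve.degJ_pos_of_ample (k := k) hdim.le hst _ h3
    rwa [key v] at this
  · intro hv
    refine H17.GorCurve.isAmple_of_components (k := k) hdim hMi fun C hC => ?_
    obtain ⟨v, rfl⟩ := hΓ.comp_surjective C hC
    have := hv v
    rwa [← key v] at this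

end Groth.Agent.S16294
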