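import Groth.Statements.S16297
import Groth.Agent.H29Nef.CurveField
import Groth.Agent.H14VA.Regular
import Groth.Agent.H22Alg.CurveAmple

set_option autoImplicit false
universe u
open CategoryTheory CategoryTheory.Limits AlgebraicGeometry
open Curves

namespace Groth.Agent.S16297

/-- Let k be a field and X a proper scheme over k of dimension one (not assumed reduced or irreducible)
with H^1(X, O_X) = 0, and let L be an ample invertible O_X-module. Then L is very ample: for some n
there is a closed immersion i : X → P^n_k over k with i^*O(1) isomorphic to L (existence of an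
isomorphism only). -/
theorem result (k : Type u) [Field k] (X : Scheme.{u}) [X.Over (Spec (CommRingCat.of k))]
    [IsProper (X ↘ (Spec (CommRingCat.of k)))] (hdim : topologicalKrullDim X = 1)
    (h1 : Subsingleton (Coh.HH X (Coh.structureModule X) 1))
    (L : X.Modules) (hA : CohB1.IsAmple L) :
    ∃ (n : ℕ) (i : X ⟶ CohB1.ProjSpace n k), IsClosedImmersion i ∧
      i ≫ CohB1.ProjSpace.toSpec n k = X ↘ (Spec (CommRingCat.of k)) ∧
      Nonempty ((Scheme.Modules.pullback i).obj (Twist.twistProjSpace n k 1) ≅ L) := by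
  have hL := hA.1
  obtain ⟨hgg, -⟩ := Groth.Agent.H29Nef.globallyGenerated_and_h1 k hdim.le h1 hL (fun J _ hJ => by
    letI : J.subscheme.Over (Spec (CommRingCat.of k)) := ⟨J.subschemeι ≫ (X ↘ (Spec (CommRingCat.of k)))⟩
    haveI : IsProper (J.subscheme ↘ Spec (CommRingCat.of k)) :=
      inferInstanceAs (IsProper (J.subschemeι ≫ (X ↘ Spec (CommRingCat.of k))))
    exact (Groth.Agent.H22Alg.CurveAmple.deg_pos_of_ample (k := k) hJ
      (Groth.Agent.H11Ample.isAmple_pullback_of_isAffineHom J.subschemeι hA)).le)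
  haveI := Groth.Agent.H14VA.nonempty_of_dim_eq_one hdim
  obtain ⟨n, i, -, hi, hiq, ⟨e⟩⟩ := Groth.Agent.H14VA.exists_closedImmersion_pow (k := k) hdim.le hA hgg 0 h1
  exact ⟨n, i, hi, hiq, ⟨e ≪≫ Groth.Agent.H10Coh.Tw.leftUnitIso L⟩⟩

end Groth.Agent.S16297
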