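import Groth.Statements.S16298
import Groth.Agent.H29Curve.GenusPush
import Groth.Agent.H11Curve.NormFinite
import Groth.Agent.H26BMCoh.NormIso

set_option autoImplicit false
universe u
open CategoryTheory CategoryTheory.Limits AlgebraicGeometry
open Curves

namespace Groth.Agent.S16298

/-- Let k be a field and X a genus-zero curve over k, that is, an integral scheme proper over k of
dimension one with H^1(X, O_X) = 0. Then the normalization Y of X again satisfies H^1(Y, O_Y) = 0,
so Y is again a genus-zero curve. (The two instance binders on the morphism from the generic point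
always hold; they are only needed to form the normalization.) -/
theorem result (k : Type u) [Field k] (X : Scheme.{u}) [X.Over (Spec (CommRingCat.of k))]
    [IsIntegral X] [IsProper (X ↘ (Spec (CommRingCat.of k)))] (hdim : topologicalKrullDim X = 1)
    (h1 : Subsingleton (Coh.HH X (Coh.structureModule X) 1))
    [QuasiCompact (X.fromSpecStalk (genericPoint X))] [QuasiSeparated (X.fromSpecStalk (genericPoint X))] :
    Subsingleton (Coh.HH (Curv2.normalization X) (Coh.structureModule (Curv2.normalization X)) 1) := by
  haveI : IsNoetherian X := Groth.Agent.H28Int.isNoetherian k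
  let ν := Curv2.normalizationι X
  haveI : IsFinite ν := Groth.Agent.H11Curve.isFinite_normalizationι (X ↘ Spec (CommRingCat.of k))
  letI : (Curv2.normalization X).Over (Spec (CommRingCat.of k)) := ⟨ν ≫ (X ↘ Spec (CommRingCat.of k))⟩
  haveI : IsProper ((Curv2.normalization X) ↘ Spec (CommRingCat.of k)) :=
    inferInstanceAs (IsProper (ν ≫ (X ↘ Spec (CommRingCat.of k))))
  obtain ⟨W, hW, hiso⟩ := Groth.Agent.H26BMCoh.exists_isIso_normalization X
  haveI := hiso
  have h := Groth.Agent.H29Curve.GenusPush.genus_le (k := k) (Y := Curv2.normalization X) hdim.le ν rfl W (W.2.dense hW)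
  have h0 : Curv2.genus k X = 0 := by
    haveI := h1
    exact Module.finrank_zero_of_subsingleton
  haveI : IsNoetherian (Curv2.normalization X) := Groth.Agent.H28Int.isNoetherian k
  haveI := Groth.Agent.H10Coh.finite_HH_proper k (Curv2.normalization X) _
    (Groth.Agent.H10Coh.isCoh_structureModule' (Curv2.normalization X)) 1
  exact Module.finrank_zero_iff.1 (Nat.le_zero.1 (h.trans h0.le))

end Groth.Agent.S16298
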