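import Groth.Statements.S16299
import Groth.Agent.H29GenusOne.SingularGen
import Groth.Agent.H11Ample.Tensor

set_option autoImplicit false
universe u
open CategoryTheory CategoryTheory.Limits AlgebraicGeometry
open Curves

namespace Groth.Agent.S16299

/-- Let k be a field and X a Gorenstein genus-one curve over k: an integral scheme, proper over k, of
dimension one, all of whose local rings are Gorenstein, with dim_k H^1(X, O_X) = 1. Let L be an
invertible O_X-module of degree at least 2 over k. Then the base locus of L is contained in the
non-regular locus of X: for every point x of X whose local ring is regular there is a global section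
s : O_X → L with x in the open X_s where s generates L. -/
theorem result (k : Type u) [Field k] (X : Scheme.{u}) [X.Over (Spec (CommRingCat.of k))]
    [IsIntegral X] [IsProper (X ↘ (Spec (CommRingCat.of k)))] (hdim : topologicalKrullDim X = 1)
    (hgor : ∀ x : X, LocCoh.IsGorensteinLocalRing (X.presheaf.stalk x)) (hg : Curv2.genus k X = 1)
    (L : X.Modules) (hL : PicF.IsInvertible L) (hdeg : 2 ≤ Curv2.deg k X L 1)
    (x : X) (hx : IsRegularLocalRing (X.presheaf.stalk x)) :
    ∃ s : Coh.structureModule X ⟶ L, x ∈ CohB1.genLocus L s := by
  have hgg := Groth.Agent.H29GenusOne.isGloballyGenerated_of_two_le_deg (k := k) hdim.le hg hL hdeg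
  obtain ⟨g, hg'⟩ := Groth.Agent.H11Ample.exists_mem_gen_of_isGloballyGenerated hL hgg x
  exact ⟨Groth.Agent.H11Tilde.homOfGlobal L g, hg'⟩

end Groth.Agent.S16299
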