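import Groth.Statements.S1630
import Mathlib

set_option autoImplicit false
universe u
open CategoryTheory CategoryTheory.Limits AlgebraicGeometry
open Variety

namespace Groth.Agent.S1630

/-- Let X be a scheme over k. If X has a cover by a nonempty family of open subschemes, each
geometrically irreducible over k and any two of which meet, then X is geometrically irreducible over
k. -/
theorem result (k : Type u) [Field k] (X : Scheme.{u}) [X.Over (Spec (CommRingCat.of k))]
    (ι : Type u) (U : ι → X.Opens) (hne : Nonempty ι) (hcov : (⨆ i, U i) = ⊤)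
    (hmeet : ∀ i j, ((U i : Set X) ∩ (U j : Set X)).Nonempty)
    (hU : ∀ i, GeometricallyIrreducible ((U i).ι ≫ (X ↘ (Spec (CommRingCat.of k))))) : GeometricallyIrreducible (X ↘ (Spec (CommRingCat.of k))) := by
  set f := X ↘ Spec (CommRingCat.of k)
  refine ⟨geometrically_iff_of_isClosedUnderIsomorphisms.2 fun K _ y => ?_⟩
  haveI : Surjective (pullback.fst f y) := by
    haveI : Surjective y := ⟨fun x => ⟨IsLocalRing.closedPoint K, Subsingleton.elim (α := PrimeSpectrum k) _ _⟩⟩
    infer_instance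
  let V : ι → Set ↥(pullback f y) := fun i => pullback.fst f y ⁻¹' (U i : Set X)
  have hirr : ∀ i, IsIrreducible (V i) := fun i => by
    haveI := hU i
    haveI : IrreducibleSpace ↥(pullback ((U i).ι ≫ f) y) :=
      GeometricallyIrreducible.geometrically_irreducibleSpace _ _ _ (.of_hasPullback _ y)
    let j : pullback ((U i).ι ≫ f) y ⟶ pullback f y :=
      pullback.map ((U i).ι ≫ f) y f y (U i).ι (𝟙 _) (𝟙 _) (by simp) (by simp)
    have hr : Set.range j = V i := by
      rw [Scheme.Pullback.range_map]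
      simp [V]
    rw [← hr, ← Set.image_univ]
    exact (IrreducibleSpace.isIrreducible_univ _).image _ j.continuous.continuousOn
  have hmeetV : ∀ i j, (V i ∩ V j).Nonempty := fun i j => by
    obtain ⟨x, hxi, hxj⟩ := hmeet i j
    obtain ⟨z, rfl⟩ := (pullback.fst f y).surjective x
    exact ⟨z, hxi, hxj⟩
  have hopen : ∀ i, IsOpen (V i) := fun i => (U i).isOpen.preimage (pullback.fst f y).continuous
  obtain ⟨i₀⟩ := hne
  obtain ⟨z₀, hz₀⟩ := (hirr i₀).nonempty
  haveI : Nonempty ↥(pullback f y) := ⟨z₀⟩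
  refine @IrreducibleSpace.mk _ _ ⟨fun A B hA hB ⟨a, ha⟩ ⟨b, hb⟩ => ?_⟩ this
  have hcv : ∀ z, ∃ i, z ∈ V i := fun z => by
    have : pullback.fst f y z ∈ (⨆ i, U i) := hcov ▸ trivial
    exact TopologicalSpace.Opens.mem_iSup.mp this
  obtain ⟨i, hi⟩ := hcv a
  obtain ⟨l, hl⟩ := hcv b
  obtain ⟨p, hpi, ⟨hpl, hpA⟩⟩ := (hirr i).isPreirreducible _ _ (hopen l) hA (hmeetV i l) ⟨a, hi, ha.2⟩
  obtain ⟨q, hql, hqA, hqB⟩ := (hirr l).isPreirreducible _ _ hA hB ⟨p, hpl, hpA⟩ ⟨b, hl, hb.2⟩
  exact ⟨q, trivial, hqA, hqB⟩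

end Groth.Agent.S1630
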