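import Groth.Statements.S16305
import Groth.Agent.H11Span.Points
import Groth.Agent.H27Weil.Geometry

set_option autoImplicit false
universe u
open CategoryTheory CategoryTheory.Limits AlgebraicGeometry
open ProjSp

namespace Groth.Agent.S16305

/-- Let k be a field and Z a zero-dimensional closed subscheme of projective N-space P^N_k, with closed
immersion i : Z → P^N_k. For an integer n write ρ_n : H^0(P^N_k, O(n)) → H^0(P^N_k, i_* i^* O(n)) =
H^0(Z, O(n)|_Z) for the map induced on global sections by the unit O(n) → i_* i^* O(n) (restriction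
of sections to Z). If the image of ρ_1 has codimension at most one in H^0(Z, O(1)|_Z), in the sense
that for some v every element is of the form ρ_1(s) + c v with c in k, then ρ_2 is surjective. -/
theorem result (k : Type u) [Field k] (N : ℕ)
    (Z : (CohB1.ProjSpace N k).IdealSheafData)
    (hZ : topologicalKrullDim (Z.support : Set (CohB1.ProjSpace N k)) ≤ 0) :
    letI : (CohB1.ProjSpace N k).Over (Spec (CommRingCat.of k)) := ⟨CohB1.ProjSpace.toSpec N k⟩
    (∃ v : (Coh.HH (CohB1.ProjSpace N k) ((Scheme.Modules.pushforward Z.subschemeι).obj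
        ((Scheme.Modules.pullback Z.subschemeι).obj (Twist.twistProjSpace N k 1))) 0),
      ∀ t : (Coh.HH (CohB1.ProjSpace N k) ((Scheme.Modules.pushforward Z.subschemeι).obj
        ((Scheme.Modules.pullback Z.subschemeι).obj (Twist.twistProjSpace N k 1))) 0),
        ∃ (s : Coh.HH (CohB1.ProjSpace N k) (Twist.twistProjSpace N k 1) 0) (c : k),
        t = @id (Coh.HH (CohB1.ProjSpace N k) ((Scheme.Modules.pushforward Z.subschemeι).obj
        ((Scheme.Modules.pullback Z.subschemeι).obj (Twist.twistProjSpace N k 1))) 0)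
          (Sheaf.H.map ((SheafOfModules.toSheaf (CohB1.ProjSpace N k).ringCatSheaf).map
            ((Scheme.Modules.pullbackPushforwardAdjunction Z.subschemeι).unit.app (Twist.twistProjSpace N k 1))) 0 s) + c • v) →
    Function.Surjective (fun s : Coh.HH (CohB1.ProjSpace N k) (Twist.twistProjSpace N k 2) 0 =>
      @id (Coh.HH (CohB1.ProjSpace N k) ((Scheme.Modules.pushforward Z.subschemeι).obj
        ((Scheme.Modules.pullback Z.subschemeι).obj (Twist.twistProjSpace N k 2))) 0)
          (Sheaf.H.map ((SheafOfModules.toSheaf (CohB1.ProjSpace N k).ringCatSheaf).map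
            ((Scheme.Modules.pullbackPushforwardAdjunction Z.subschemeι).unit.app (Twist.twistProjSpace N k 2))) 0 s)) := by
  letI : (CohB1.ProjSpace N k).Over (Spec (CommRingCat.of k)) := ⟨CohB1.ProjSpace.toSpec N k⟩
  rintro ⟨v, hv⟩ t
  let i := Z.subschemeι
  haveI : IsLocallyNoetherian Z.subscheme :=
    LocallyOfFiniteType.isLocallyNoetherian (i ≫ CohB1.ProjSpace.toSpec N k)
  have hd : topologicalKrullDim Z.subscheme ≤ 0 := by
    rw [i.isClosedEmbedding.isEmbedding.toHomeomorph.isHomeomorph.topologicalKrullDim_eq]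
    have h : Set.range i = (Z.support : Set (CohB1.ProjSpace N k)) := Z.range_subschemeι
    rw [h]
    exact hZ
  haveI : IsLocallyArtinian Z.subscheme := .of_topologicalKrullDim_le_zero hd
  haveI : DiscreteTopology Z.subscheme := inferInstance
  haveI : CompactSpace (CohB1.ProjSpace N k) := QuasiCompact.compactSpace_of_compactSpace (CohB1.ProjSpace.toSpec N k)
  haveI : CompactSpace Z.subscheme := i.isClosedEmbedding.compactSpace
  haveI : Finite Z.subscheme := finite_of_compact_of_discrete
  haveI : IsAffine Z.subscheme := inferInstance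
  let M := fun n : ℤ => (Scheme.Modules.pushforward i).obj
    ((Scheme.Modules.pullback i).obj (Twist.twistProjSpace N k n))
  let e := fun n : ℤ => H10Coh.HH0Equiv (M n)
  have key : ∀ (n : ℤ) (s : Coh.HH (CohB1.ProjSpace N k) (Twist.twistProjSpace N k n) 0),
      e n (Sheaf.H.map ((SheafOfModules.toSheaf (CohB1.ProjSpace N k).ringCatSheaf).map
        ((Scheme.Modules.pullbackPushforwardAdjunction i).unit.app (Twist.twistProjSpace N k n))) 0 s) =
      H11Ample.pullTop i (H10Coh.HH0Equiv (Twist.twistProjSpace N k n) s) := fun n s => by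
    change H10Coh.H0Equiv _ ⊤ (H10Coh.topEquiv _ 0 (Sheaf.H.map _ 0 s)) = _
    rw [H10Coh.topEquiv_map]
    exact H10Coh.H0Equiv_map _ _
  obtain ⟨s, hs⟩ := H11Span.restrict_quadrics_surjective i (e 1 v) (fun u => by
    obtain ⟨s, c, hsc⟩ := hv ((e 1).symm u)
    refine ⟨H10Coh.HH0Equiv _ s, c, ?_⟩
    have h := congrArg (e 1) hsc
    rw [AddEquiv.apply_symm_apply, map_add] at h
    exact h.trans (congrArg₂ (· + ·) (key 1 s) (H10Coh.HH0Equiv_smul (M 1) _ v))) (e 2 t)
  refine ⟨(H10Coh.HH0Equiv _).symm s, (e 2).injective ?_⟩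
  refine (key 2 _).trans ?_
  rw [AddEquiv.apply_symm_apply]
  exact hs

end Groth.Agent.S16305
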