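import Groth.Statements.S16307
import Groth.Agent.H29GenusOne.NormalGen.Core
import Groth.Agent.H29Nef.NormGen
import Groth.Agent.H14VA.Regular
import Groth.Agent.H10Coh.MulSections

set_option autoImplicit false
universe u
open CategoryTheory CategoryTheory.Limits AlgebraicGeometry
open Curves

namespace Groth.Agent.S16307

open Groth.Agent.H11Ample Groth.Agent.H11Tilde in
theorem nonempty_iso_pow_one {X : Scheme.{u}} {M : X.Modules} (hM : PicF.IsInvertible M) :
    Nonempty (M ≅ CohB1.tensorPow M 1) := by
  obtain ⟨φ, -⟩ := exists_iso_of_gen (P := M) (Q := CohB1.tensorPow M 1)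
    (fun j : {p : Σ V : X.Opens, Γ(M, V) // IsGen M p.2} => j.1.1)
    (fun x => by obtain ⟨V, e, hx, he⟩ := exists_gen hM x; exact ⟨⟨⟨V, e⟩, he⟩, hx⟩)
    (fun j => j.1.2) (fun j => j.2) (fun j => spow j.1.2 1) (fun j => isGen_spow j.2 1)
    fun i j v hv => by rw [spow_res, spow_res, hv, spow_smul, pow_one]
  exact ⟨φ⟩



/-- In the case of a separably closed base field and a curve that is not geometrically integral (the
case proved in the text), let k be a separably closed field and X a Gorenstein genus-one curve over
k: an integral scheme, proper over k, of dimension one, all of whose local rings are Gorenstein,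
with dim_k H^1(X, O_X) = 1 (so H^0(X, O_X) = k). Assume that X is not geometrically integral over k.
Let L be an invertible O_X-module of degree at least 3 over k. Then the section ring ⊕_{m ≥ 0}
H^0(X, L^{⊗ m}) is generated in degree one: for every m, the global sections of L^{⊗ m} ⊗ L = L^{⊗
(m+1)} are spanned over H^0(X, O_X) by the sections a ⊗ b with a a global section of L^{⊗ m} and b a
global section of L; and L is very ample: for some n there is a closed immersion i : X → P^n_k over
k with i^*O(1) isomorphic to L (existence of an isomorphism only). (The published statement is for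
an arbitrary base field and any Gorenstein genus-one curve; the text reduces to a separably closed
field, cites the literature for the geometrically integral case, and proves the remaining case,
which is the one stated here.) -/
theorem result (k : Type u) [Field k] (X : Scheme.{u}) [X.Over (Spec (CommRingCat.of k))] [IsSepClosed k]
    [IsIntegral X] [IsProper (X ↘ (Spec (CommRingCat.of k)))] (hdim : topologicalKrullDim X = 1)
    (hgor : ∀ x : X, LocCoh.IsGorensteinLocalRing (X.presheaf.stalk x)) (hg : Curv2.genus k X = 1)
    (hngi : ¬ GeometricallyIntegral (X ↘ (Spec (CommRingCat.of k))))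
    (L : X.Modules) (hL : PicF.IsInvertible L) (hdeg : 3 ≤ Curv2.deg k X L 1) :
    (∀ m : ℕ, Submodule.span (X.ringCatSheaf.obj.obj (Opposite.op ⊤))
        (Set.range (fun p : (CohB1.tensorPow L m).val.obj (Opposite.op ⊤) × L.val.obj (Opposite.op ⊤) =>
          SecTwist.tmul (CohB1.tensorPow L m) L ⊤ p.1 p.2)) = ⊤) ∧
    ∃ (n : ℕ) (i : X ⟶ CohB1.ProjSpace n k), IsClosedImmersion i ∧
      i ≫ CohB1.ProjSpace.toSpec n k = X ↘ (Spec (CommRingCat.of k)) ∧
      Nonempty ((Scheme.Modules.pullback i).obj (Twist.twistProjSpace n k 1) ≅ L) := by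
  haveI : Infinite k := by
    by_contra h
    haveI := not_infinite_iff_finite.1 h
    haveI : IsAlgClosed k := IsSepClosed.isAlgClosed_of_perfectField k
    exact not_finite k
  haveI := Groth.Agent.H29RR.isNoetherian_of_proper (k := k) (X := X)
  have h0 := Groth.Agent.H29GenusOne.h0_eq_one_of_genus_one (k := k) (X := X) hg
  have hgg := Groth.Agent.H29GenusOne.isGloballyGenerated_of_two_le_deg (k := k) hdim.le hg hL (by omega)
  have hA := Groth.Agent.H22Alg.CurveAmple.isAmple_of_deg_pos (k := k) hdim hL (by omega)
  obtain ⟨φ⟩ := nonempty_iso_pow_one hL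
  have h1 : Subsingleton (Coh.HH X (CohB1.tensorPow L 1) 1) :=
    @Groth.Agent.H10Coh.subsingleton_HH_of_iso _ _ _ φ 1
      (Groth.Agent.H29CurveDual.subsingleton_h1_of_deg_ge (k := k) hdim.le h0 hL (by rw [hg]; push_cast; omega))
  have hs : ∀ m : ℕ, Groth.Agent.H22Alg.CMField.Spanned (CohB1.tensorPow L m) L := fun m => by
    match m with
    | 0 => exact Groth.Agent.H10Coh.MulSections.spanned_comm (Groth.Agent.H22Alg.CMField.spanned_structure L)
    | 1 => exact (Groth.Agent.H29GenusOne.NormalGen.spanned_self (k := k) hdim hg hL hdeg).of_iso_left φ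
    | a + 2 => exact ((Groth.Agent.H14VA.spanned_pow (k := k) hdim.le hL hgg 1 h1 (show 1 + 1 ≤ a + 2 by omega) 1).of_iso_right
        (Groth.Agent.H10Coh.Tw.leftUnitIso L))
  refine ⟨fun m => ?_, ?_⟩
  · refine eq_top_iff.2 fun S _ => ?_
    have hS := hs m S
    induction hS using AddSubgroup.closure_induction with
    | mem x hx =>
      obtain ⟨a, b, rfl⟩ := hx
      exact Submodule.subset_span ⟨(a, b), rfl⟩
    | zero => exact zero_mem _
    | add x y _ _ hx hy => exact add_mem (hx trivial) (hy trivial)
    | neg x _ hx => exact neg_mem (hx trivial)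
  · obtain ⟨n, v, hva⟩ := Groth.Agent.H29Nef.exists_vaData_of_spanned k hA fun m _ => hs m
    obtain ⟨r, hr, hrk, hτ⟩ := Groth.Agent.H29CurveDual.exists_closedImmersion_of_vaData _ hL hva
    exact ⟨n, r, hr, hrk, hτ⟩

end Groth.Agent.S16307
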