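import Groth.Statements.S16309
import Groth.Agent.H29Nef.CurveField
import Groth.Agent.H14VA.Regular
import Groth.Agent.H22Alg.CurveAmple
import Groth.Agent.H10Coh.MulSections

set_option autoImplicit false
universe u
open CategoryTheory CategoryTheory.Limits AlgebraicGeometry
open Curves

namespace Groth.Agent.S16309

/-- Let k be a field and X a proper scheme over k of dimension one (not assumed reduced or irreducible)
with H^1(X, O_X) = 0 and H^0(X, O_X) = k, and let L be an ample invertible O_X-module. Then the
section ring ⊕_{n ≥ 0} H^0(X, L^{⊗ n}) is generated by H^0(X, L) as a k-algebra: for every n, the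
global sections of L^{⊗ n} ⊗ L = L^{⊗ (n+1)} are spanned over H^0(X, O_X) = k by the sections a ⊗ b
with a a global section of L^{⊗ n} and b a global section of L. -/
theorem result (k : Type u) [Field k] (X : Scheme.{u}) [X.Over (Spec (CommRingCat.of k))]
    [IsProper (X ↘ (Spec (CommRingCat.of k)))] (hdim : topologicalKrullDim X = 1)
    (h1 : Subsingleton (Coh.HH X (Coh.structureModule X) 1))
    (h0 : Module.finrank k (Coh.HH X (Coh.structureModule X) 0) = 1)
    (L : X.Modules) (hA : CohB1.IsAmple L) (n : ℕ) :
    Submodule.span (X.ringCatSheaf.obj.obj (Opposite.op ⊤))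
        (Set.range (fun p : (CohB1.tensorPow L n).val.obj (Opposite.op ⊤) × L.val.obj (Opposite.op ⊤) =>
          SecTwist.tmul (CohB1.tensorPow L n) L ⊤ p.1 p.2)) = ⊤ := by
  have hL := (Groth.Agent.H11Ample.isAmple_iff.1 hA).1
  have hgg := (Groth.Agent.H29Nef.globallyGenerated_and_h1 k hdim.le h1 hL (fun J _ hJ => by
    letI : J.subscheme.Over (Spec (CommRingCat.of k)) := ⟨J.subschemeι ≫ (X ↘ (Spec (CommRingCat.of k)))⟩
    haveI : IsProper (J.subscheme ↘ Spec (CommRingCat.of k)) :=
      inferInstanceAs (IsProper (J.subschemeι ≫ (X ↘ Spec (CommRingCat.of k))))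
    exact (Groth.Agent.H22Alg.CurveAmple.deg_pos_of_ample (k := k) hJ
      (Groth.Agent.H11Ample.isAmple_pullback_of_isAffineHom J.subschemeι hA)).le)).1
  have hs : Groth.Agent.H22Alg.CMField.Spanned (CohB1.tensorPow L n) L := by
    rcases Nat.eq_zero_or_pos n with rfl | hn
    · exact Groth.Agent.H10Coh.MulSections.spanned_comm (Groth.Agent.H22Alg.CMField.spanned_structure L)
    · exact ((Groth.Agent.H14VA.spanned_pow (k := k) hdim.le hL hgg 0 h1 hn 1).of_iso_right
        (Groth.Agent.H10Coh.Tw.leftUnitIso L))
  refine eq_top_iff.2 fun S _ => ?_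
  have hS := hs S
  induction hS using AddSubgroup.closure_induction with
  | mem x hx =>
    obtain ⟨a, b, rfl⟩ := hx
    exact Submodule.subset_span ⟨(a, b), rfl⟩
  | zero => exact zero_mem _
  | add x y _ _ hx hy => exact add_mem (hx trivial) (hy trivial)
  | neg x _ hx => exact neg_mem (hx trivial)

end Groth.Agent.S16309
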