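import Groth.Statements.S16312
import Mathlib.Analysis.InnerProductSpace.PiL2
import Mathlib.Topology.Algebra.IsUniformGroup.DiscreteSubgroup

set_option autoImplicit false
universe u
open W4c3irrattreebun

namespace Groth.Agent.S16312

/-- Let N be a closed cone in real n-space, f a function continuous on N, positive at the nonzero points
of N and homogeneous of degree one under scaling by nonnegative reals, and Λ a discrete additive
subgroup. Then for every real c the set of points H of Λ lying in N with f(H) ≤ c is finite. (The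
published statement takes Λ to be a lattice; this row allows any discrete additive subgroup.) -/
theorem result (n : ℕ)
    (N : Set (EuclideanSpace ℝ (Fin n))) (hN : IsClosed N)
    (hcone : ∀ x ∈ N, ∀ r : ℝ, 0 ≤ r → r • x ∈ N)
    (f : EuclideanSpace ℝ (Fin n) → ℝ) (hf : ContinuousOn f N)
    (hpos : ∀ x ∈ N, x ≠ 0 → 0 < f x)
    (hhom : ∀ x ∈ N, ∀ r : ℝ, 0 ≤ r → f (r • x) = r * f x)
    (Λ : Submodule ℤ (EuclideanSpace ℝ (Fin n))) [DiscreteTopology Λ] (c : ℝ) :
    ({x : EuclideanSpace ℝ (Fin n) | x ∈ N ∧ f x ≤ c} ∩ (Λ : Set (EuclideanSpace ℝ (Fin n)))).Finite := by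
  have : DiscreteTopology Λ.toAddSubgroup := ‹DiscreteTopology Λ›
  have hΛ : IsClosed (Λ : Set (EuclideanSpace ℝ (Fin n))) := AddSubgroup.isClosed_of_discrete (H := Λ.toAddSubgroup)
  set K := N ∩ Metric.sphere (0 : EuclideanSpace ℝ (Fin n)) 1 with hK
  obtain ⟨δ, hδ, hbd⟩ : ∃ δ, 0 < δ ∧ ∀ x ∈ K, δ ≤ f x := by
    have hKc : IsCompact K := (isCompact_sphere _ _).inter_left hN
    rcases K.eq_empty_or_nonempty with h | h
    · exact ⟨1, one_pos, fun x hx => by rw [h] at hx; exact hx.elim⟩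
    obtain ⟨x, hx, hmin⟩ := hKc.exists_isMinOn h (hf.mono Set.inter_subset_left)
    have hx0 : x ≠ 0 := fun h0 => by
      have := hx.2
      simp [h0] at this
    exact ⟨f x, hpos x hx.1 hx0, fun y hy => hmin hy⟩
  have hsub : {x : EuclideanSpace ℝ (Fin n) | x ∈ N ∧ f x ≤ c} ⊆ Metric.closedBall 0 (max 0 (c / δ)) := by
    rintro x ⟨hx, hfx⟩
    rw [mem_closedBall_zero_iff]
    rcases eq_or_ne x 0 with rfl | hx0
    · simp
    have hn : 0 < ‖x‖ := norm_pos_iff.2 hx0
    have hmem : ‖x‖⁻¹ • x ∈ K := ⟨hcone x hx _ (inv_nonneg.2 hn.le), by simp [norm_smul, hn.ne']⟩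
    have h2 := hbd _ hmem
    rw [hhom x hx _ (inv_nonneg.2 hn.le), inv_mul_eq_div, le_div_iff₀ hn] at h2
    exact le_max_of_le_right ((le_div_iff₀ hδ).2 (by linarith))
  have hfin := Metric.finite_isBounded_inter_isClosed (isDiscrete_iff_discreteTopology.2 ‹DiscreteTopology Λ›) (Metric.isBounded_closedBall (x := (0 : EuclideanSpace ℝ (Fin n))) (r := max 0 (c / δ))) hΛ
  exact hfin.subset (Set.inter_subset_inter_left _ hsub)

end Groth.Agent.S16312
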