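import Groth.Statements.S16320
import Groth.Agent.H29Pencil.Trick
import Groth.Agent.H29RR.Consts
import Groth.Agent.H11Tilde.Local

set_option autoImplicit false
open CategoryTheory CategoryTheory.Limits AlgebraicGeometry
universe u
open Curves

namespace Groth.Agent.S16320

/-- Let k be an algebraically closed field of characteristic zero and X a smooth proper integral curve
over k (integral, proper and smooth over k, of dimension one) of genus 9 whose Clifford index is 3:
some invertible module M with h^0(M) ≥ 2 and h^1(M) ≥ 2 has deg M − 2(h^0(M) − 1) = 3, and every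
invertible module M with h^0(M) ≥ 2 and h^1(M) ≥ 2 has deg M − 2(h^0(M) − 1) ≥ 3 (degrees are χ(M) −
χ(O_X); in particular X is not hyperelliptic), and let D be a globally generated invertible module
of degree 5 with h^0(D) = 2 (a base-point-free complete g^1_5). Then h^0(D^{⊗2}) is 3 or 4,
h^0(D^{⊗3}) is 7 or 8, and h^0(D^{⊗3}) = 7 whenever h^0(D^{⊗2}) = 3. (The published statement says,
equivalently by Riemann–Roch applied to the numbers h^0(K − iD) − h^0(K − (i+1)D) for a canonical
module K, that the rational normal fourfold scroll formed by the linear spans of the pencil's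
divisors in the canonical embedding has type S(2,1,1,1), S(2,2,1,0) or S(3,1,1,0); the scroll itself
is not restated here.) -/
theorem result
    (k : Type u) [Field k] [IsAlgClosed k] [CharZero k]
    (X : Scheme.{u}) [X.Over (Spec (CommRingCat.of k))] [IsIntegral X]
    [IsProper (X ↘ Spec (CommRingCat.of k))] [Smooth (X ↘ Spec (CommRingCat.of k))]
    (hdim : topologicalKrullDim X = 1) (hg : Curv2.genus k X = 9)
    (hex : ∃ M : X.Modules, PicF.IsInvertible M ∧ 2 ≤ Module.finrank k (Coh.HH X M 0) ∧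
      2 ≤ Module.finrank k (Coh.HH X M 1) ∧ Curv2.deg k X M 1 = 2 * (Module.finrank k (Coh.HH X M 0) : ℤ) + 1)
    (hmin : ∀ M : X.Modules, PicF.IsInvertible M → 2 ≤ Module.finrank k (Coh.HH X M 0) →
      2 ≤ Module.finrank k (Coh.HH X M 1) → 2 * (Module.finrank k (Coh.HH X M 0) : ℤ) + 1 ≤ Curv2.deg k X M 1)
    (D : X.Modules) (hD : PicF.IsInvertible D) (hgD : Curv2.IsGloballyGenerated D)
    (hdD : Curv2.deg k X D 1 = 5) (h0D : Module.finrank k (Coh.HH X D 0) = 2) :
    (Module.finrank k (Coh.HH X (CohB1.tensorPow D 2) 0) = 3 ∨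
        Module.finrank k (Coh.HH X (CohB1.tensorPow D 2) 0) = 4) ∧
      (Module.finrank k (Coh.HH X (CohB1.tensorPow D 3) 0) = 7 ∨
        Module.finrank k (Coh.HH X (CohB1.tensorPow D 3) 0) = 8) ∧
      (Module.finrank k (Coh.HH X (CohB1.tensorPow D 2) 0) = 3 →
        Module.finrank k (Coh.HH X (CohB1.tensorPow D 3) 0) = 7) := by
  have h0O := H29RR.finrank_h0_structure k X
  haveI := H29RR.isNoetherian_of_proper (k := k) (X := X)
  have hΩ : PicF.IsInvertible (Omega.sheaf (X ↘ Spec (CommRingCat.of k))) := H29CurveDual.isInvertible_omega_curve (k := k) hdim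
  have hdOm : Curv2.deg k X (Omega.sheaf (X ↘ Spec (CommRingCat.of k))) 1 = 16 := by
    rw [H29CurveDual.deg_omega_of_h0 (k := k) hdim h0O, hg]; rfl
  let e2 : CohB1.tensorPow D 2 ≅ CohB1.tensorMod D D :=
    PicGrp.tensorModIso (H10Coh.Tw.leftUnitIso D) (Iso.refl D)
  let e3 : CohB1.tensorPow D 3 ≅ CohB1.tensorMod (CohB1.tensorMod D D) D := PicGrp.tensorModIso e2 (Iso.refl D)
  have hDD := H11Ample.isInvertible_tensor hD hD
  have hDDD := H11Ample.isInvertible_tensor hDD hD
  rw [H29CurveDual.finrank_h0_congr (k := k) e2 0, H29CurveDual.finrank_h0_congr (k := k) e3 0]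
  have hdDD : Curv2.deg k X (CohB1.tensorMod D D) 1 = 10 := by
    rw [H29RR.deg_tensor (k := k) hdim.le hD hD, hdD]; rfl
  have hdDDD : Curv2.deg k X (CohB1.tensorMod (CohB1.tensorMod D D) D) 1 = 15 := by
    rw [H29RR.deg_tensor (k := k) hdim.le hDD hD, hdDD, hdD]; rfl
  have htrick := H29Pencil.pencil_trick (k := k) hdim.le hD hgD h0D hD (H10Coh.Tw.rightUnitIso D)
  rw [h0D, h0O] at htrick
  have hrr2 := H29RR.riemann_roch (k := k) hdim.le (CohB1.tensorMod D D)
  rw [h0O, hg, hdDD] at hrr2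
  have hrr3 := H29RR.riemann_roch (k := k) hdim.le (CohB1.tensorMod (CohB1.tensorMod D D) D)
  rw [h0O, hg, hdDDD] at hrr3
  have h2 : Module.finrank k (Coh.HH X (CohB1.tensorMod D D) 0) = 3 ∨
      Module.finrank k (Coh.HH X (CohB1.tensorMod D D) 0) = 4 := by
    by_cases h1 : 2 ≤ Module.finrank k (Coh.HH X (CohB1.tensorMod D D) 1)
    · have := hmin _ hDD (by omega) h1
      omega
    · omega
  obtain ⟨N, hN, ⟨eN⟩⟩ := H29RR.exists_inverse_comm hDDD
  have hW := H11Ample.isInvertible_tensor hΩ hN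
  have hh1 : Module.finrank k (Coh.HH X (CohB1.tensorMod (CohB1.tensorMod D D) D) 1) ≤ 1 := by
    rw [H29CurveDual.finrank_h1_invertible (k := k) hdim hDDD hN eN]
    have hdN : Curv2.deg k X N 1 = -15 := by
      have h := H29RR.deg_tensor (k := k) hdim.le hDDD hN
      rw [H29RR.deg_congr (k := k) eN, H29RR.deg_structureModule, hdDDD] at h
      omega
    have hdW : Curv2.deg k X (CohB1.tensorMod (Omega.sheaf (X ↘ Spec (CommRingCat.of k))) N) 1 = 1 := by
      rw [H29RR.deg_tensor (k := k) hdim.le hΩ hN, hdOm, hdN]; rfl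
    by_contra hlt
    have hrrW := H29RR.riemann_roch (k := k) hdim.le (CohB1.tensorMod (Omega.sheaf (X ↘ Spec (CommRingCat.of k))) N)
    rw [h0O, hg, hdW] at hrrW
    have := hmin _ hW (by omega) (by omega)
    omega
  refine ⟨h2, by omega, fun h3 => ?_⟩
  by_contra hne
  have hpos : 0 < Module.finrank k (Coh.HH X (CohB1.tensorMod (CohB1.tensorMod D D) D) 1) := by omega
  have hone : Module.finrank k (Coh.HH X (CohB1.tensorMod D D) 1) = 1 := by omega
  letI : ∀ F G : X.Modules, Module k (F ⟶ G) := fun F G => H29CurveDual.homModule (k := k) F G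
  rw [H29CurveDual.finrank_h1_eq (k := k) hdim (H29CurveDual.isCoh_of_isInvertible hDDD)] at hpos
  rw [H29CurveDual.finrank_h1_eq (k := k) hdim (H29CurveDual.isCoh_of_isInvertible hDD)] at hone
  obtain ⟨f, hf⟩ : ∃ f : CohB1.tensorMod (CohB1.tensorMod D D) D ⟶ (Omega.sheaf (X ↘ Spec (CommRingCat.of k))), f ≠ 0 := by
    by_contra! hz
    haveI : Subsingleton (CohB1.tensorMod (CohB1.tensorMod D D) D ⟶ (Omega.sheaf (X ↘ Spec (CommRingCat.of k)))) := subsingleton_of_forall_eq 0 hz
    rw [Module.finrank_zero_of_subsingleton] at hpos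
    exact lt_irrefl _ hpos
  haveI : Mono f := (H29RR.mono_of_ne_zero hDDD hΩ hf).1
  obtain ⟨N₂, hN₂, ⟨eN₂⟩⟩ := H29RR.exists_inverse_comm hDD
  let ι : (CohB1.tensorMod D D ⟶ CohB1.tensorMod (CohB1.tensorMod D D) D) →ₗ[k] (CohB1.tensorMod D D ⟶ (Omega.sheaf (X ↘ Spec (CommRingCat.of k)))) :=
    { toFun := fun φ => φ ≫ f
      map_add' := fun φ ψ => Preadditive.add_comp _ _ _ _ _ _
      map_smul' := fun a φ => by
        show (φ ≫ H29CurveDual.scal _ _) ≫ f = (φ ≫ f) ≫ H29CurveDual.scal _ _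
        rw [Category.assoc, H29CurveDual.scal_natural, Category.assoc]; rfl }
  have hinj : Function.Injective ι := fun φ ψ h => (cancel_mono f).1 h
  haveI : Module.Finite k (CohB1.tensorMod D D ⟶ (Omega.sheaf (X ↘ Spec (CommRingCat.of k)))) := Module.finite_of_finrank_pos (by omega)
  have hle := LinearMap.finrank_le_finrank_of_injective hinj
  rw [H29CurveDual.finrank_hom_invertible k hN₂ eN₂ (CohB1.tensorMod (CohB1.tensorMod D D) D), hone,
    H29CurveDual.finrank_h0_congr (k := k) (PicGrp.tensorModIso (H10Coh.Tw.commIso _ D) (Iso.refl N₂) ≪≫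
      H10Coh.Tw.assoc D _ N₂ ≪≫ PicGrp.tensorModIso (Iso.refl D) eN₂ ≪≫ H10Coh.Tw.rightUnitIso D) 0, h0D] at hle
  omega

end Groth.Agent.S16320
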