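import Groth.Statements.S16322
import Groth.Agent.H29Pencil.Trick
import Groth.Agent.H29RR.Consts
import Groth.Agent.H11Tilde.Local

set_option autoImplicit false
open CategoryTheory CategoryTheory.Limits AlgebraicGeometry
universe u
open Curves

namespace Groth.Agent.S16322

/-- Let k be a characteristic-zero algebraically closed field and X a smooth proper integral curve over
k (integral, proper and smooth over k, of dimension one) of genus 9 whose Clifford index is 3: some
invertible module M with h^0(M) ≥ 2 and h^1(M) ≥ 2 has deg M − 2(h^0(M) − 1) = 3, and every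
invertible module M with h^0(M) ≥ 2 and h^1(M) ≥ 2 has deg M − 2(h^0(M) − 1) ≥ 3 (degrees are χ(M) −
χ(O_X); in particular X is not hyperelliptic), and let D₁, D₂ be two non-isomorphic globally
generated invertible modules of degree 5 with h^0(D₁) = h^0(D₂) = 2 (two different base-point-free
complete pencils of degree 5). Then h^0(D₁ ⊗ D₂) = 4. (In the published statement the two pencils
are the ones cut out by the two rulings on a model of the curve in a blow-up of P^1 × P^1; the
printed argument for this equality uses only that they are different base-point-free pencils of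
degree 5 on a genus-9 curve of Clifford index 3, which is what is stated here; the further printed
assertion on a third pencil is not restated.) -/
theorem result
    (k : Type u) [Field k] [IsAlgClosed k] [CharZero k]
    (X : Scheme.{u}) [X.Over (Spec (CommRingCat.of k))] [IsIntegral X]
    [IsProper (X ↘ Spec (CommRingCat.of k))] [Smooth (X ↘ Spec (CommRingCat.of k))]
    (hdim : topologicalKrullDim X = 1) (hg : Curv2.genus k X = 9)
    (hex : ∃ M : X.Modules, PicF.IsInvertible M ∧ 2 ≤ Module.finrank k (Coh.HH X M 0) ∧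
      2 ≤ Module.finrank k (Coh.HH X M 1) ∧ Curv2.deg k X M 1 = 2 * (Module.finrank k (Coh.HH X M 0) : ℤ) + 1)
    (hmin : ∀ M : X.Modules, PicF.IsInvertible M → 2 ≤ Module.finrank k (Coh.HH X M 0) →
      2 ≤ Module.finrank k (Coh.HH X M 1) → 2 * (Module.finrank k (Coh.HH X M 0) : ℤ) + 1 ≤ Curv2.deg k X M 1)
    (D₁ D₂ : X.Modules) (h₁ : PicF.IsInvertible D₁) (h₂ : PicF.IsInvertible D₂)
    (hg₁ : Curv2.IsGloballyGenerated D₁) (hg₂ : Curv2.IsGloballyGenerated D₂)
    (hd₁ : Curv2.deg k X D₁ 1 = 5) (hd₂ : Curv2.deg k X D₂ 1 = 5)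
    (h0₁ : Module.finrank k (Coh.HH X D₁ 0) = 2) (h0₂ : Module.finrank k (Coh.HH X D₂ 0) = 2)
    (hne : IsEmpty (D₁ ≅ D₂)) :
    Module.finrank k (Coh.HH X (CohB1.tensorMod D₁ D₂) 0) = 4 := by
  have h0O := H29RR.finrank_h0_structure k X
  obtain ⟨N, hN, ⟨eN⟩⟩ := H29RR.exists_inverse_comm h₁
  have hM : PicF.IsInvertible (CohB1.tensorMod N D₂) := H11Ample.isInvertible_tensor hN h₂
  let e : CohB1.tensorMod D₁ (CohB1.tensorMod N D₂) ≅ D₂ :=
    (H10Coh.Tw.assoc D₁ N D₂).symm ≪≫ PicGrp.tensorModIso eN (Iso.refl D₂) ≪≫ H10Coh.Tw.leftUnitIso D₂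
  have hdN : Curv2.deg k X N 1 = -5 := by
    have h := H29RR.deg_tensor (k := k) hdim.le h₁ hN
    rw [H29RR.deg_congr (k := k) eN, H29RR.deg_structureModule, hd₁] at h
    omega
  have hM0 : Module.finrank k (Coh.HH X (CohB1.tensorMod N D₂) 0) = 0 := by
    rcases subsingleton_or_nontrivial (Coh.HH X (CohB1.tensorMod N D₂) 0) with h | h
    · exact Module.finrank_zero_of_subsingleton
    exfalso
    obtain ⟨g, hg⟩ := H29RR.exists_global_ne_zero _ h
    haveI := (H29RR.deg_le_of_ne_zero (k := k) hdim.le (H11Ample.isInvertible_structureModule (X := X)) hM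
      (H29RR.homOfGlobal_ne_zero' hg)).2
      (by rw [H29RR.deg_structureModule, H29RR.deg_tensor (k := k) hdim.le hN h₂, hdN, hd₂]; rfl)
    exact hne.false ((H10Coh.Tw.rightUnitIso D₁).symm ≪≫
      PicGrp.tensorModIso (Iso.refl D₁) (asIso (H11Tilde.homOfGlobal (CohB1.tensorMod N D₂) g)) ≪≫ e)
  have htrick := H29Pencil.pencil_trick (k := k) hdim.le h₁ hg₁ h0₁ h₂ e
  rw [h0₂, hM0] at htrick
  have hP := H11Ample.isInvertible_tensor h₁ h₂
  have hrr := H29RR.riemann_roch (k := k) hdim.le (CohB1.tensorMod D₁ D₂)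
  rw [h0O, hg, H29RR.deg_tensor (k := k) hdim.le h₁ h₂, hd₁, hd₂] at hrr
  have hc := hmin _ hP (by omega) (by omega)
  rw [H29RR.deg_tensor (k := k) hdim.le h₁ h₂, hd₁, hd₂] at hc
  omega

end Groth.Agent.S16322
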