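import Groth.Statements.S16324
import Groth.Agent.H3CAlg.KC.CM
import Groth.Agent.H3CAlg.Syz.Hilbert

set_option autoImplicit false
universe u
open GrSyz

namespace Groth.Agent.S16324

/-- Let k be an algebraically closed field of characteristic zero, S = k[x_0, …, x_n] graded by degree,
𝔪 = (x_0, …, x_n), and M a finitely generated ℤ-graded S-module which is Cohen–Macaulay: the Krull
dimension of its support equals its 𝔪-depth. Let F be a minimal graded free resolution of M of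
length exactly ℓ (F_ℓ ≠ 0, F_i = 0 for i > ℓ; so ℓ = pd M) and let ρ be its regularity: every basis
vector of F_i has degree at most ρ + i, with equality for some i and some basis vector (so ρ = reg
M). Let P be the Hilbert polynomial of M, i.e. a polynomial over ℚ with dim_k M_d = P(d) for all
sufficiently large d. Then dim_k M_d ≠ P(d) for d = ρ + ℓ − n − 1: the bound d ≥ reg M + pd M − n
beyond which the Hilbert function agrees with the Hilbert polynomial is sharp for Cohen–Macaulay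
modules. (Part (1) of the published statement, the agreement for d ≥ reg M + pd M − n, follows from
the agreement for d at least the largest generator degree minus n and is not restated.) -/
theorem result (k : Type u) [Field k] [IsAlgClosed k] [CharZero k] (n : ℕ)
    (M : Type u) [AddCommGroup M] [Module k M] [Module (MvPolynomial (Fin (n + 1)) k) M]
    [IsScalarTower k (MvPolynomial (Fin (n + 1)) k) M] [Module.Finite (MvPolynomial (Fin (n + 1)) k) M]
    (ℳ : ℤ → Submodule k M) [DirectSum.Decomposition ℳ] [SetLike.GradedSMul (GrSyz.stdGr k (Fin (n + 1))) ℳ]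
    (hCM : Module.supportDim (MvPolynomial (Fin (n + 1)) k) M = ((LocCoh.idealDepth (GrSyz.irrel (GrSyz.stdGr k (Fin (n + 1)))).toIdeal M : ℕ∞) : WithBot ℕ∞))
    (F : GrSyz.FreeRes (GrSyz.stdGr k (Fin (n + 1))) ℳ) (hF : F.IsMinimal (GrSyz.irrel (GrSyz.stdGr k (Fin (n + 1)))).toIdeal)
    (ℓ : ℕ) (hℓ : F.HasLengthLE ℓ) (hℓ' : F.rk ℓ ≠ 0)
    (ρ : ℤ) (hρ : F.IsGenLE ρ) (hρ' : ∃ (i : ℕ) (b : Fin (F.rk i)), F.deg i b = ρ + i)
    (P : Polynomial ℚ) (hP : ∃ d₁ : ℤ, ∀ d : ℤ, d₁ ≤ d → ((Module.finrank k ↥(ℳ d) : ℤ) : ℚ) = P.eval (d : ℚ)) :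
    ((Module.finrank k ↥(ℳ (ρ + ℓ - n - 1)) : ℤ) : ℚ) ≠ P.eval ((ρ + ℓ - n - 1 : ℤ) : ℚ) := by
  classical
  have hlow : ¬ F.IsGenLE (ρ - 1) := fun h => by
    obtain ⟨i, b, hb⟩ := hρ'
    have := h i b
    omega
  obtain ⟨b₀, hb₀⟩ := Groth.Agent.H3CAlg.KC.exists_deg_eq_of_cm ℳ hCM F hF hℓ hℓ' hρ hlow
  let Q : Polynomial ℚ := ∑ i ∈ Finset.range (ℓ + 1), (-1 : ℚ) ^ i • ∑ b : Fin (F.rk i), Groth.Agent.H3CAlg.KC.binPoly n (F.deg i b)
  let H : ℤ → ℚ := fun d => ∑ i ∈ Finset.range (ℓ + 1), (-1 : ℚ) ^ i *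
    ∑ b : Fin (F.rk i), (if F.deg i b ≤ d then ((Nat.choose (n + (d - F.deg i b).toNat) n : ℕ) : ℚ) else 0)
  have hH : ∀ d, ((Module.finrank k ↥(ℳ d) : ℤ) : ℚ) = H d := by
    intro d
    rw [Groth.Agent.H3CAlg.Syz.finrank_eq_sum F hℓ d, Int.cast_sum]
    refine Finset.sum_congr rfl fun i _ => ?_
    rw [Groth.Agent.H3CAlg.Syz.finrank_piece, Int.cast_mul, Int.cast_pow, Int.cast_neg, Int.cast_one, Int.cast_sum]
    congr 1
    refine Finset.sum_congr rfl fun b _ => ?_
    split_ifs <;> simp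
  have hQ : ∀ d, Q.eval (d : ℚ) = ∑ i ∈ Finset.range (ℓ + 1), (-1 : ℚ) ^ i *
      ∑ b : Fin (F.rk i), (Groth.Agent.H3CAlg.KC.binPoly n (F.deg i b)).eval (d : ℚ) := by
    intro d
    simp [Q, Polynomial.eval_finset_sum, Finset.mul_sum]
  have hPQ : P = Q := by
    obtain ⟨d₁, hd₁⟩ := hP
    let B : ℤ := max d₁ (ρ + ℓ)
    refine Polynomial.eq_of_infinite_eval_eq P Q (Set.Infinite.mono (s := (fun t : ℕ => ((B + t : ℤ) : ℚ)) '' Set.univ) ?_ ?_)
    · rintro _ ⟨t, -, rfl⟩
      show P.eval ((B + t : ℤ) : ℚ) = Q.eval ((B + t : ℤ) : ℚ)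
      rw [← hd₁ (B + t) (by omega), hH, hQ]
      refine Finset.sum_congr rfl fun i hi => ?_
      congr 1
      refine Finset.sum_congr rfl fun b _ => ?_
      have hb := hρ i b
      rw [Finset.mem_range] at hi
      rw [if_pos (by omega), Groth.Agent.H3CAlg.KC.binPoly_eval_of_le n (by omega)]
    · refine Set.infinite_univ.image ?_
      intro a _ b _ h
      have : B + a = B + b := Int.cast_injective h
      omega
  let d₀ : ℤ := ρ + ℓ - n - 1
  show ((Module.finrank k ↥(ℳ d₀) : ℤ) : ℚ) ≠ P.eval (d₀ : ℚ)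
  have hdiff : H d₀ - P.eval (d₀ : ℚ) =
      -((-1 : ℚ) ^ ℓ * ((Finset.univ.filter fun b : Fin (F.rk ℓ) => F.deg ℓ b = ρ + ℓ).card : ℚ) *
        (Groth.Agent.H3CAlg.KC.binPoly n (d₀ + n + 1)).eval (d₀ : ℚ)) := by
    rw [hPQ, hQ, ← Finset.sum_sub_distrib, Finset.sum_eq_single_of_mem ℓ (Finset.self_mem_range_succ ℓ)]
    · rw [← mul_sub, ← Finset.sum_sub_distrib, mul_assoc, ← mul_neg, Finset.card_filter, Nat.cast_sum, Finset.sum_mul,
        ← Finset.sum_neg_distrib]
      congr 1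
      refine Finset.sum_congr rfl fun b _ => ?_
      have hb := hρ ℓ b
      by_cases hle : F.deg ℓ b ≤ d₀
      · rw [if_pos hle, Groth.Agent.H3CAlg.KC.binPoly_eval_of_le n hle, sub_self, if_neg (by omega)]
        simp
      · rw [if_neg hle]
        by_cases htop : F.deg ℓ b = ρ + ℓ
        · rw [if_pos htop, show d₀ + n + 1 = F.deg ℓ b by omega]
          simp
        · rw [if_neg htop, Groth.Agent.H3CAlg.KC.binPoly_eval_eq_zero n (not_le.mp hle) (by omega)]
          simp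
    · intro i hi hne
      rw [← mul_sub, ← Finset.sum_sub_distrib, Finset.sum_eq_zero fun b _ => ?_, mul_zero]
      have hb := hρ i b
      rw [Finset.mem_range] at hi
      by_cases hle : F.deg i b ≤ d₀
      · rw [if_pos hle, Groth.Agent.H3CAlg.KC.binPoly_eval_of_le n hle, sub_self]
      · rw [if_neg hle, Groth.Agent.H3CAlg.KC.binPoly_eval_eq_zero n (not_le.mp hle) (by omega), sub_self]
  rw [hH]
  intro heq
  rw [heq, sub_self, eq_comm, neg_eq_zero] at hdiff
  refine mul_ne_zero (mul_ne_zero (pow_ne_zero _ (by norm_num)) ?_) (Groth.Agent.H3CAlg.KC.binPoly_eval_ne_zero n d₀) hdiff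
  exact Nat.cast_ne_zero.mpr (Finset.card_ne_zero.mpr ⟨b₀, Finset.mem_filter.mpr ⟨Finset.mem_univ _, hb₀⟩⟩)

end Groth.Agent.S16324
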