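import Groth.Statements.S16325
import Mathlib
import Groth.Agent.H22Alg.HomologyElt

set_option autoImplicit false
universe u v
open CategoryTheory
open W4c3biextchow

namespace Groth.Agent.S16325

/-- Let f : C ⟶ D be a chain map of ℕ-indexed chain complexes of modules over a ring R, and consider the
functor it induces between the groupoids attached to C and D (objects: degree-0 elements; morphisms
a ⟶ b: degree-1 elements with boundary b - a, modulo boundaries of degree-2 elements). This functor
is faithful if and only if f is injective on homology in degree 1. (The published statement is for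
complexes of abelian groups; this row allows modules over any ring R.) -/
theorem result
    (R : Type u) [Ring R] (C D : ChainComplex (ModuleCat.{v} R) ℕ) (f : C ⟶ D) :
    (W4c3biextchow.cxFunctor f).Faithful ↔ Mono (HomologicalComplex.homologyMap f 1) := by
  have hp : ∀ i, (ComplexShape.down ℕ).prev i = i + 1 := fun i => by simp
  have hn : ∀ i, (ComplexShape.down ℕ).next (i + 1) = i := fun i => by simp
  have hn0 : (ComplexShape.down ℕ).next 0 = 0 := by simp
  have hd0 : C.d 0 0 = 0 := C.shape _ _ (by simp)
  rw [Groth.Agent.H22Alg.HomologyElt.mono_homologyMap_iff f (hp 1) (hn 0)]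
  constructor
  · intro hF x hx b hb
    let φ : (⟨0⟩ : W4c3biextchow.Obj C) ⟶ ⟨0⟩ := (⟨Submodule.Quotient.mk x, by simpa using hx⟩ : W4c3biextchow.Hom C _ _)
    have hm : (W4c3biextchow.cxFunctor f).map φ = (W4c3biextchow.cxFunctor f).map (𝟙 _) :=
      W4c3biextchow.Hom.ext (by
        simpa [φ, Submodule.Quotient.mk_eq_zero] using (⟨b, hb⟩ : ∃ b, D.d 2 1 b = f.f 1 x))
    have h := (W4c3biextchow.cxFunctor f).map_injective hm
    have h' := congrArg W4c3biextchow.Hom.cl h
    simpa [φ, Submodule.Quotient.mk_eq_zero] using h'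
  · intro h
    refine ⟨fun {a b φ ψ} he => W4c3biextchow.Hom.ext ?_⟩
    have he' := congrArg W4c3biextchow.Hom.cl he
    simp only [W4c3biextchow.cxFunctor_map_cl] at he'
    have hδ : W4c3biextchow.delta C φ.cl = W4c3biextchow.delta C ψ.cl := φ.delta_cl.trans ψ.delta_cl.symm
    generalize φ.cl = u, ψ.cl = w at he' hδ ⊢
    obtain ⟨x, rfl⟩ := Submodule.Quotient.mk_surjective _ u
    obtain ⟨y, rfl⟩ := Submodule.Quotient.mk_surjective _ w
    rw [W4c3biextchow.q1Map_mk, W4c3biextchow.q1Map_mk, Submodule.Quotient.eq] at he'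
    obtain ⟨e, he⟩ := he'
    rw [W4c3biextchow.delta_mk, W4c3biextchow.delta_mk] at hδ
    obtain ⟨a', ha'⟩ := h (x - y) (by rw [map_sub]; exact sub_eq_zero.mpr hδ) e (by rw [map_sub]; exact he)
    exact (Submodule.Quotient.eq _).mpr ⟨a', ha'⟩

end Groth.Agent.S16325
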