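import Groth.Statements.S16326
import Mathlib
import Groth.Agent.H22Alg.HomologyElt

set_option autoImplicit false
universe u v
open CategoryTheory
open W4c3biextchow

namespace Groth.Agent.S16326

/-- Let f : C ⟶ D be a chain map of ℕ-indexed chain complexes of modules over a ring R, and consider the
functor it induces between the groupoids attached to C and D (objects: degree-0 elements; morphisms
a ⟶ b: degree-1 elements with boundary b - a, modulo boundaries of degree-2 elements). This functor
is full if and only if f is surjective on homology in degree 1 and injective on homology in degree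
0. (The published statement is for complexes of abelian groups; this row allows modules over any
ring R.) -/
theorem result
    (R : Type u) [Ring R] (C D : ChainComplex (ModuleCat.{v} R) ℕ) (f : C ⟶ D) :
    (W4c3biextchow.cxFunctor f).Full ↔
      Epi (HomologicalComplex.homologyMap f 1) ∧ Mono (HomologicalComplex.homologyMap f 0) := by
  have hp : ∀ i, (ComplexShape.down ℕ).prev i = i + 1 := fun i => by simp
  have hn : ∀ i, (ComplexShape.down ℕ).next (i + 1) = i := fun i => by simp
  have hn0 : (ComplexShape.down ℕ).next 0 = 0 := by simp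
  have hd0 : C.d 0 0 = 0 := C.shape _ _ (by simp)
  rw [Groth.Agent.H22Alg.HomologyElt.epi_homologyMap_iff f (hp 1) (hn 0),
    Groth.Agent.H22Alg.HomologyElt.mono_homologyMap_iff f (hp 0) hn0]
  constructor
  · intro hF
    refine ⟨fun y hy => ?_, fun x _ b hb => ?_⟩
    · let ψ : (W4c3biextchow.cxFunctor f).obj ⟨0⟩ ⟶ (W4c3biextchow.cxFunctor f).obj ⟨0⟩ :=
        (⟨Submodule.Quotient.mk y, by simpa using hy⟩ : W4c3biextchow.Hom D _ _)
      obtain ⟨φ, hφ⟩ := (W4c3biextchow.cxFunctor f).map_surjective ψ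
      have h := congrArg W4c3biextchow.Hom.cl hφ
      have hδ := φ.delta_cl
      simp only [W4c3biextchow.cxFunctor_map_cl] at h
      generalize φ.cl = u at h hδ
      obtain ⟨x, rfl⟩ := Submodule.Quotient.mk_surjective _ u
      obtain ⟨e, he⟩ := (Submodule.Quotient.eq _).mp h
      refine ⟨x, -e, by simpa using hδ, ?_⟩
      rw [map_neg, show D.d 2 1 e = f.f 1 x - y from he]
      abel
    · let ψ : (W4c3biextchow.cxFunctor f).obj ⟨0⟩ ⟶ (W4c3biextchow.cxFunctor f).obj ⟨x⟩ :=
        (⟨Submodule.Quotient.mk b, by simpa using hb⟩ : W4c3biextchow.Hom D _ _)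
      obtain ⟨φ, -⟩ := (W4c3biextchow.cxFunctor f).map_surjective ψ
      obtain ⟨a, ha⟩ := Submodule.Quotient.mk_surjective _ φ.cl
      exact ⟨a, by simpa [← ha] using φ.delta_cl⟩
  · rintro ⟨hs, hi⟩
    refine ⟨fun {a b} ψ => ?_⟩
    obtain ⟨y, hy⟩ := Submodule.Quotient.mk_surjective _ ψ.cl
    have hδ := ψ.delta_cl
    rw [← hy, W4c3biextchow.delta_mk] at hδ
    obtain ⟨x₀, hx₀⟩ := hi (b.pt - a.pt) (by rw [hd0]; rfl) y (by rw [hδ, map_sub]; rfl)
    obtain ⟨x, e, hx, he⟩ := hs (y - f.f 1 x₀) (by
      rw [map_sub]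
      have hc := congrArg (fun g => g.hom x₀) (f.comm 1 0)
      simp only [ModuleCat.hom_comp, LinearMap.comp_apply] at hc
      rw [show D.d 1 0 (f.f 1 x₀) = f.f 0 (C.d 1 0 x₀) from hc, hx₀, map_sub]
      exact sub_eq_zero.mpr hδ)
    refine ⟨(⟨Submodule.Quotient.mk (x₀ + x), ?_⟩ : W4c3biextchow.Hom C a b), W4c3biextchow.Hom.ext ?_⟩
    · rw [W4c3biextchow.delta_mk, map_add]
      erw [hx, add_zero]
      exact hx₀
    · rw [W4c3biextchow.cxFunctor_map_cl, W4c3biextchow.q1Map_mk, ← hy, Submodule.Quotient.eq]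
      refine ⟨-e, ?_⟩
      show D.d 2 1 (-e) = f.f 1 (x₀ + x) - y
      rw [map_neg, map_add, sub_eq_iff_eq_add.mp he.symm]
      abel

end Groth.Agent.S16326
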