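import Groth.Statements.S16327
import Mathlib
import Groth.Agent.H22Alg.HomologyElt

set_option autoImplicit false
universe u v
open CategoryTheory
open W4c3biextchow

namespace Groth.Agent.S16327

/-- Let f : C ⟶ D be a chain map of ℕ-indexed chain complexes of modules over a ring R, and consider the
functor it induces between the groupoids attached to C and D (objects: degree-0 elements; morphisms
a ⟶ b: degree-1 elements with boundary b - a, modulo boundaries of degree-2 elements). This functor
is essentially surjective if and only if f is surjective on homology in degree 0. (The published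
statement is for complexes of abelian groups; this row allows modules over any ring R.) -/
theorem result
    (R : Type u) [Ring R] (C D : ChainComplex (ModuleCat.{v} R) ℕ) (f : C ⟶ D) :
    (W4c3biextchow.cxFunctor f).EssSurj ↔ Epi (HomologicalComplex.homologyMap f 0) := by
  have hp : ∀ i, (ComplexShape.down ℕ).prev i = i + 1 := fun i => by simp
  have hn : ∀ i, (ComplexShape.down ℕ).next (i + 1) = i := fun i => by simp
  have hn0 : (ComplexShape.down ℕ).next 0 = 0 := by simp
  have hd0 : C.d 0 0 = 0 := C.shape _ _ (by simp)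
  rw [Groth.Agent.H22Alg.HomologyElt.epi_homologyMap_iff f (hp 0) hn0]
  constructor
  · intro hF y _
    let Y : W4c3biextchow.Obj D := ⟨y⟩
    let e := (W4c3biextchow.cxFunctor f).objObjPreimageIso Y
    obtain ⟨b, hb⟩ := Submodule.Quotient.mk_surjective _ (e.hom : W4c3biextchow.Hom D _ _).cl
    refine ⟨((W4c3biextchow.cxFunctor f).objPreimage Y).pt, b, by rw [hd0]; rfl, ?_⟩
    have hδ := (e.hom : W4c3biextchow.Hom D _ _).delta_cl
    rw [← hb, W4c3biextchow.delta_mk] at hδ
    rw [hδ]
    simp [Y]
  · intro h
    refine ⟨fun Y => ?_⟩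
    obtain ⟨x, b, -, hb⟩ := h Y.pt (by rw [show D.d 0 0 = 0 from D.shape _ _ (by simp)]; rfl)
    have hδ : W4c3biextchow.delta D (Submodule.Quotient.mk b) = Y.pt - f.f 0 x := by
      rw [W4c3biextchow.delta_mk, ← hb]; abel
    exact ⟨⟨x⟩, ⟨⟨(⟨Submodule.Quotient.mk b, hδ⟩ : W4c3biextchow.Hom D _ _),
      (⟨-Submodule.Quotient.mk b, by rw [map_neg, hδ, neg_sub]; rfl⟩ : W4c3biextchow.Hom D _ _),
      W4c3biextchow.Hom.ext ((W4c3biextchow.comp_cl D _ _).trans (add_neg_cancel _)), W4c3biextchow.Hom.ext ((W4c3biextchow.comp_cl D _ _).trans (neg_add_cancel _))⟩⟩⟩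

end Groth.Agent.S16327
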