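import Groth.Statements.S16328
import Mathlib
import Groth.Agent.H22Alg.SplitQuasiIso

set_option autoImplicit false
universe v
open CategoryTheory
open W4c3biextchow

namespace Groth.Agent.S16328

/-- Let f : A' ⟶ A and p : A ⟶ A'' be chain maps of ℕ-indexed chain complexes of free abelian groups
forming a short exact sequence in every degree (f injective, p surjective, image of f equal to the
kernel of p), and assume f is a quasi-isomorphism. Then there is a chain map h : A'' ⟶ A such that
in every degree q the map (a'', a') ↦ h(a'') + f(a') is a bijection from A''_q × A'_q onto A_q, so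
that A is the direct sum of the subcomplexes f(A') and h(A''). (The source allows complexes indexed
by all integers; stated here for complexes in non-negative degrees.) -/
theorem result
    (A' A A'' : ChainComplex (ModuleCat.{v} ℤ) ℕ) (f : A' ⟶ A) (p : A ⟶ A'')
    [∀ q, Module.Free ℤ (A'.X q)] [∀ q, Module.Free ℤ (A.X q)] [∀ q, Module.Free ℤ (A''.X q)]
    (hf : ∀ q, Function.Injective (f.f q).hom) (hp : ∀ q, Function.Surjective (p.f q).hom)
    (hfp : ∀ q, Function.Exact (f.f q).hom (p.f q).hom) [QuasiIso f] :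
    ∃ h : A'' ⟶ A, ∀ q : ℕ,
      Function.Bijective (fun x : A''.X q × A'.X q => (h.f q).hom x.1 + (f.f q).hom x.2) := by
  haveI hq : ∀ q, @Module.Projective ℤ _ (Groth.Agent.H22Alg.SplitQuasiIso.Quo f q) _
      (Submodule.Quotient.module _) := fun q =>
    by
    let e : Groth.Agent.H22Alg.SplitQuasiIso.Quo f q ≃+ A''.X q :=
      (QuotientAddGroup.quotientAddEquivOfEq (congrArg Submodule.toAddSubgroup (hfp q).linearMap_ker_eq.symm)).trans
        (QuotientAddGroup.quotientKerEquivOfSurjective (p.f q).hom.toAddMonoidHom (hp q))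
    have h := Module.Projective.of_equiv' (R := ℤ) e.symm.toIntLinearEquiv
    convert! h
    apply Subsingleton.elim
  obtain ⟨g, hg⟩ := Groth.Agent.H22Alg.SplitQuasiIso.exists_retraction f hf
  have hgf : ∀ q (x : A'.X q), g.f q (f.f q x) = x := fun q x =>
    congrArg (fun m : A' ⟶ A' => (m.f q).hom x) hg
  let ψ : A ⟶ A := 𝟙 A - g ≫ f
  have hψ : ∀ q a, ψ.f q a = a - f.f q (g.f q a) := fun q a => rfl
  have hh : ∀ q, ∃ h : A''.X q →ₗ[ℤ] A.X q, ∀ a, h (p.f q a) = a - f.f q (g.f q a) := fun q => by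
    choose σ hσ using hp q
    have hwd : ∀ a a', p.f q a = p.f q a' → ψ.f q a = ψ.f q a' := fun a a' h => by
      obtain ⟨x, hx⟩ := (hfp q (a - a')).mp (by rw [map_sub]; exact sub_eq_zero.mpr h)
      rw [← sub_eq_zero, ← map_sub, ← hx, hψ]
      show f.f q x - f.f q (g.f q (f.f q x)) = 0
      rw [hgf, sub_self]
    let h₀ : A''.X q →+ A.X q := AddMonoidHom.mk' (fun b => ψ.f q (σ b)) fun b c => by
      rw [← map_add]
      refine hwd _ _ ?_
      show (p.f q).hom (σ (b + c)) = (p.f q).hom (σ b + σ c)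
      rw [map_add, hσ, hσ, hσ]
    exact ⟨{ h₀ with map_smul' := fun n b => by simpa using map_intCast_smul h₀ ℤ ℤ n b }, fun a => (hwd _ _ (hσ _)).trans (hψ q a)⟩
  choose h hh using hh
  refine ⟨{ f := fun q => ModuleCat.ofHom (h q), comm' := ?_ }, fun q => ?_⟩
  · intro i j _
    ext b
    obtain ⟨a, rfl⟩ := hp i b
    show A.d i j (h i (p.f i a)) = h j (A''.d i j (p.f i a))
    rw [Groth.Agent.H22Alg.SplitQuasiIso.f_d, hh, hh, map_sub, Groth.Agent.H22Alg.SplitQuasiIso.f_d,
      Groth.Agent.H22Alg.SplitQuasiIso.f_d]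
  · show Function.Bijective fun x : A''.X q × A'.X q => h q x.1 + f.f q x.2
    have hpf : ∀ x, p.f q (f.f q x) = 0 := fun x => ((hfp q) _).mpr ⟨x, rfl⟩
    refine ⟨fun x y hxy => ?_, fun a => ⟨(p.f q a, g.f q a), ?_⟩⟩
    · obtain ⟨b, x⟩ := x
      obtain ⟨c, y⟩ := y
      obtain ⟨a, rfl⟩ := hp q b
      obtain ⟨a', rfl⟩ := hp q c
      simp only at hxy
      have h1 := congrArg (p.f q) hxy
      have h2 := congrArg (g.f q) hxy
      rw [hh, hh] at h1 h2
      simp only [map_add, map_sub, hpf, hgf, sub_zero, add_zero, sub_self, zero_add] at h1 h2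
      exact Prod.ext h1 h2
    · show h q (p.f q a) + f.f q (g.f q a) = a
      rw [hh, sub_add_cancel]

end Groth.Agent.S16328
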