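import Groth.Statements.S1633
import Groth.Agent.H05EGA4.NormEtale

set_option autoImplicit false
universe u
open CategoryTheory CategoryTheory.Limits AlgebraicGeometry
open Resolve

namespace Groth.Agent.S1633

/-- Let (A, m) be a Noetherian local ring whose m-adic completion is reduced, and X an integral scheme
locally of finite type over Spec A such that some open neighbourhood of the generic point of X is
étale over Spec A. Then the normalization morphism of X is finite. -/
theorem result (A : Type u) [CommRing A] [IsLocalRing A] [IsNoetherianRing A]
    [IsReduced (AdicCompletion (IsLocalRing.maximalIdeal A) A)]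
    (X : Scheme.{u}) [IsIntegral X] (f : X ⟶ Spec (CommRingCat.of A)) [LocallyOfFiniteType f]
    (U : X.Opens) (hU : genericPoint X ∈ U) [Etale (U.ι ≫ f)]
    [QuasiCompact (X.fromSpecStalk (genericPoint X))] [QuasiSeparated (X.fromSpecStalk (genericPoint X))] :
    IsFinite (Curv2.normalizationι X) := by
  exact Groth.Agent.H05EGA4.NormEtale.isFinite_normalizationι A X f U hU

end Groth.Agent.S1633
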