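import Groth.Statements.S16331
import Mathlib
import Groth.Agent.H22Alg.SplitQuasiIso

set_option autoImplicit false
universe v
open CategoryTheory
open W4c3biextchow

namespace Groth.Agent.S16331

/-- Let f : A' ⟶ A be a chain map of ℕ-indexed chain complexes of free abelian groups which is injective
in every degree, with free degreewise quotients A_q / f(A'_q), and a quasi-isomorphism; let h' : A'
⟶ B be a chain map to another complex of free abelian groups and g₁, g₂ : A ⟶ A' two chain maps with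
f ≫ g₁ = f ≫ g₂ = 𝟙. Consider the functors induced by g₁ ≫ h' and g₂ ≫ h' between the groupoids
attached to A and B (objects: degree-0 elements; morphisms a ⟶ b: degree-1 elements with boundary b
- a, modulo boundaries of degree-2 elements). Then there is a natural isomorphism between these two
functors whose component at every object of the form f(a'), a' a degree-0 element of A', is the zero
class, i.e. the identity morphism of h'(a'). -/
theorem result
    (A' A B : ChainComplex (ModuleCat.{v} ℤ) ℕ) (f : A' ⟶ A) (h' : A' ⟶ B)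
    [∀ q, Module.Free ℤ (A'.X q)] [∀ q, Module.Free ℤ (A.X q)] [∀ q, Module.Free ℤ (B.X q)]
    (hf : ∀ q, Function.Injective (f.f q).hom)
    (hq : ∀ q, Module.Free ℤ ((A.X q) ⧸ LinearMap.range (f.f q).hom)) [QuasiIso f]
    (g₁ g₂ : A ⟶ A') (h₁ : f ≫ g₁ = 𝟙 A') (h₂ : f ≫ g₂ = 𝟙 A') :
    ∃ N : W4c3biextchow.cxFunctor (g₁ ≫ h') ≅ W4c3biextchow.cxFunctor (g₂ ≫ h'),
      ∀ a : W4c3biextchow.Obj A',
        (N.hom.app ((W4c3biextchow.cxFunctor f).obj a) : W4c3biextchow.Hom B _ _).cl = 0 := by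
  haveI : ∀ q, @Module.Projective ℤ _ (Groth.Agent.H22Alg.SplitQuasiIso.Quo f q) _
      (Submodule.Quotient.module _) := fun q => by
    have := hq q
    convert! Module.Projective.of_free (R := ℤ) (P := Groth.Agent.H22Alg.SplitQuasiIso.Quo f q)
    apply Subsingleton.elim
  obtain ⟨H, hH⟩ := Groth.Agent.H22Alg.SplitQuasiIso.exists_homotopy f hf g₁ g₂ (h₁.trans h₂.symm)
  have hc0 : ∀ a : A.X 0, g₁.f 0 a = A'.d 1 0 (H.hom 0 1 a) + g₂.f 0 a := fun a => by
    have h := H.comm 0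
    rw [Homotopy.dNext_zero_chainComplex, Homotopy.prevD_chainComplex, zero_add] at h
    exact congrArg (fun m : A.X 0 ⟶ A'.X 0 => m.hom a) h
  have hc1 : ∀ a : A.X 1, g₁.f 1 a = H.hom 0 1 (A.d 1 0 a) + A'.d 2 1 (H.hom 1 2 a) + g₂.f 1 a := fun a => by
    have h := H.comm 1
    rw [Homotopy.dNext_succ_chainComplex, Homotopy.prevD_chainComplex] at h
    exact congrArg (fun m : A.X 1 ⟶ A'.X 1 => m.hom a) h
  let N : ∀ a : W4c3biextchow.Obj A,
      (W4c3biextchow.cxFunctor (g₁ ≫ h')).obj a ⟶ (W4c3biextchow.cxFunctor (g₂ ≫ h')).obj a := fun a =>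
    (⟨-Submodule.Quotient.mk (h'.f 1 (H.hom 0 1 a.pt)), by
      rw [map_neg, W4c3biextchow.delta_mk]
      show -(B.d 1 0 (h'.f 1 (H.hom 0 1 a.pt))) = h'.f 0 (g₂.f 0 a.pt) - h'.f 0 (g₁.f 0 a.pt)
      rw [Groth.Agent.H22Alg.SplitQuasiIso.f_d, hc0, map_add]
      abel⟩ : W4c3biextchow.Hom B _ _)
  let M : ∀ a : W4c3biextchow.Obj A,
      (W4c3biextchow.cxFunctor (g₂ ≫ h')).obj a ⟶ (W4c3biextchow.cxFunctor (g₁ ≫ h')).obj a := fun a =>
    (⟨-(N a).cl, by rw [map_neg, (N a).delta_cl, neg_sub]⟩ : W4c3biextchow.Hom B _ _)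
  refine ⟨NatIso.ofComponents (fun a => ⟨N a, M a,
      W4c3biextchow.Hom.ext ((W4c3biextchow.comp_cl B _ _).trans (add_neg_cancel _)),
      W4c3biextchow.Hom.ext ((W4c3biextchow.comp_cl B _ _).trans (neg_add_cancel _))⟩) (fun {a b} φ => ?_),
    fun a => ?_⟩
  · refine W4c3biextchow.Hom.ext ?_
    show W4c3biextchow.q1Map (g₁ ≫ h') φ.cl + -Submodule.Quotient.mk (h'.f 1 (H.hom 0 1 b.pt)) =
      -Submodule.Quotient.mk (h'.f 1 (H.hom 0 1 a.pt)) + W4c3biextchow.q1Map (g₂ ≫ h') φ.cl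
    have hδ := φ.delta_cl
    generalize φ.cl = u at hδ ⊢
    obtain ⟨x, rfl⟩ := Submodule.Quotient.mk_surjective _ u
    rw [W4c3biextchow.delta_mk] at hδ
    rw [W4c3biextchow.q1Map_mk, W4c3biextchow.q1Map_mk]
    show Submodule.Quotient.mk (h'.f 1 (g₁.f 1 x)) + -Submodule.Quotient.mk (h'.f 1 (H.hom 0 1 b.pt)) =
      -Submodule.Quotient.mk (h'.f 1 (H.hom 0 1 a.pt)) + Submodule.Quotient.mk (h'.f 1 (g₂.f 1 x))
    rw [← Submodule.Quotient.mk_neg, ← Submodule.Quotient.mk_neg, ← Submodule.Quotient.mk_add,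
      ← Submodule.Quotient.mk_add, Submodule.Quotient.eq]
    refine ⟨h'.f 2 (H.hom 1 2 x), ?_⟩
    show B.d 2 1 (h'.f 2 (H.hom 1 2 x)) = _
    rw [Groth.Agent.H22Alg.SplitQuasiIso.f_d, hc1, hδ, map_sub, map_add, map_add, map_sub]
    abel
  · show -Submodule.Quotient.mk (h'.f 1 (H.hom 0 1 (f.f 0 a.pt))) = 0
    rw [show H.hom 0 1 (f.f 0 a.pt) = 0 from congrArg (fun m : A'.X 0 ⟶ A'.X 1 => m.hom a.pt) (hH 0 1),
      map_zero, Submodule.Quotient.mk_zero, neg_zero]

end Groth.Agent.S16331
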