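import Groth.Statements.S16333
import Groth.Agent.H18Tsen.Norm

set_option autoImplicit false
universe u
open GalCoh

namespace Groth.Agent.S16333

/-- Let k be an algebraically closed field, K an extension field of k which is finitely generated of
transcendence degree 1 (the function field of an irreducible curve over k), and L a finite Galois
extension of K. Then (1) the norm map from L to K is surjective, and (2) a nonzero element of L has
norm 1 if and only if it lies in the subgroup of units generated by the elements w / g(w), w a unit
of L and g an automorphism of L over K. (The published statement is for the function fields of an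
irreducible curve and of a component of its preimage under a finite abelian étale cover of the
ambient variety; this row takes any finite Galois extension of a function field of transcendence
degree 1 over an algebraically closed field.) -/
theorem result
    (k : Type u) [Field k] [IsAlgClosed k] (K L : Type u) [Field K] [Field L]
    [Algebra k K] [Algebra K L] [FiniteDimensional K L] [IsGalois K L]
    (hfg : (⊤ : IntermediateField k K).FG) (htr : Algebra.trdeg k K = 1) :
    Function.Surjective (Algebra.norm K : L → K) ∧
      ∀ u : Lˣ, Algebra.norm K (u : L) = 1 ↔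
        u ∈ Subgroup.closure {v : Lˣ | ∃ (w : Lˣ) (g : L ≃ₐ[K] L), (v : L) = (w : L) / g (w : L)} := by
  classical
  haveI : Algebra.EssFiniteType k K := IntermediateField.fg_top_iff.mp hfg
  obtain ⟨s, hs⟩ := exists_finset_isTranscendenceBasis k K
  have hcard : s.card = 1 := by
    have := hs.cardinalMk_eq_trdeg
    rw [htr, Cardinal.mk_coe_finset] at this
    exact_mod_cast this
  have hK : Curves.IsCi K 1 := by
    have h := H29Ci.isCi_of_transcendenceBasis (H29Ci.isCi_of_isAlgClosed k) _ hs
    rwa [Fintype.card_coe, hcard, zero_add] at h
  refine ⟨H18Tsen.norm_surjective_of_isCr L (H29Ci.isCr_of_isCi hK), fun u => ?_⟩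
  have hset : {v : Lˣ | ∃ (w : Lˣ) (g : L ≃ₐ[K] L), (v : L) = (w : L) / g (w : L)} =
      {v : Lˣ | ∃ w : Lˣ, ∃ h ∈ (⊤ : Subgroup (L ≃ₐ[K] L)), v = w / H18Tsen.act h w} := by
    ext v
    simp only [Set.mem_setOf]
    constructor
    · rintro ⟨w, g, h⟩
      exact ⟨w, g, Subgroup.mem_top g, Units.ext (by rw [Units.val_div_eq_div_val]; exact h)⟩
    · rintro ⟨w, g, -, rfl⟩
      exact ⟨w, g, by rw [Units.val_div_eq_div_val]; rfl⟩
  rw [hset]
  refine ⟨H18Tsen.mem_J_top_of_norm_eq_one hK u, fun hu => ?_⟩
  let N : Lˣ →* Kˣ := Units.map (Algebra.norm K : L →* K)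
  have hker : Subgroup.closure {v : Lˣ | ∃ w : Lˣ, ∃ h ∈ (⊤ : Subgroup (L ≃ₐ[K] L)), v = w / H18Tsen.act h w} ≤ N.ker := by
    rw [Subgroup.closure_le]
    rintro _ ⟨w, g, -, rfl⟩
    rw [SetLike.mem_coe, MonoidHom.mem_ker, map_div, div_eq_one]
    refine Units.ext ?_
    show Algebra.norm K (w : L) = Algebra.norm K (g (w : L))
    exact (Algebra.norm_eq_of_algEquiv g _).symm
  exact congrArg Units.val (MonoidHom.mem_ker.mp (hker hu))

end Groth.Agent.S16333
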