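import Groth.Statements.S16335


set_option autoImplicit false
universe u v w w'
open TensorProduct
open InvTh

namespace Groth.Agent.S16335

/-- Let `R` be a commutative ring with an action of a finite group `Γ` by ring automorphisms such that
the order of `Γ` is invertible in `R`, and let `A → R` be injective with image exactly the
invariants `R^Γ`, the action being `A`-linear. Then for every commutative `A`-algebra `S`, with `Γ`
acting on `S ⊗_A R` through the factor `R`, the map `S → S ⊗_A R`, `s ↦ s ⊗ 1`, is injective and its
image is exactly the set of `Γ`-fixed elements: `S ≅ (S ⊗_A R)^Γ`. No flatness of `S` over `A` is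
assumed; the invertibility of the order of `Γ` replaces it. This is the affine statement that for a
tame quotient the coarse space commutes with arbitrary base change. (The published lemma is the
statement that the coarse moduli space of a tame Deligne–Mumford stack commutes with arbitrary base
change, whose proof reduces to this ring statement. The published lemma also asserts the analogous
statement for the reduced fibre product when the base-change scheme is reduced; that clause is not
part of this row.) -/
theorem result
    (A : Type u) [CommRing A] (R : Type v) [CommRing R] [Algebra A R]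
    (Γ : Type w) [Group Γ] [Finite Γ] [MulSemiringAction Γ R] [SMulCommClass Γ A R]
    [Algebra.IsInvariant A R Γ] (hinj : Function.Injective (algebraMap A R))
    (hΓ : IsUnit (Nat.card Γ : R))
    (S : Type w') [CommRing S] [Algebra A S] :
    Function.Injective (fun s : S => s ⊗ₜ[A] (1 : R)) ∧
      ∀ x : S ⊗[A] R,
        (∀ γ : Γ, Algebra.TensorProduct.map (AlgHom.id A S) (MulSemiringAction.toAlgHom A R γ) x = x) →
          x ∈ Set.range (fun s : S => s ⊗ₜ[A] (1 : R)) := by
  classical
  haveI := Fintype.ofFinite Γ
  set u : R := (↑hΓ.unit⁻¹ : R) with hu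
  have hu1 : u * (Nat.card Γ : R) = 1 := hΓ.val_inv_mul
  have hnat : ∀ (δ : Γ) (n : ℕ), δ • (n : R) = (n : R) := fun δ n =>
    map_natCast (MulSemiringAction.toRingHom Γ R δ) n
  have hinv : ∀ (r : R) (δ : Γ), δ • (u * ∑ γ : Γ, γ • r) = u * ∑ γ : Γ, γ • r := by
    intro r δ
    have hud : δ • u = u := by
      have h2 := congrArg (δ • ·) hu1
      simp only [smul_mul', smul_one, hnat] at h2
      calc δ • u = δ • u * (u * (Nat.card Γ : R)) := by rw [hu1, mul_one]
        _ = u * (δ • u * (Nat.card Γ : R)) := by ring
        _ = u := by rw [h2, mul_one]
    rw [smul_mul', hud, Finset.smul_sum]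
    congr 1
    exact Fintype.sum_bijective (δ * ·) (Group.mulLeft_bijective δ) _ _ fun g => smul_smul _ _ _
  choose a ha using fun r => Algebra.IsInvariant.isInvariant (A := A) _ (hinv r)
  let P : R →ₗ[A] A :=
    { toFun := a
      map_add' := fun x y => hinj (by
        simp only [map_add, ha, smul_add, Finset.sum_add_distrib, mul_add])
      map_smul' := fun c x => hinj (by
        simp only [RingHom.id_apply, smul_eq_mul, map_mul, ha]
        simp only [Algebra.smul_def, smul_mul', smul_algebraMap, Finset.mul_sum]
        exact Finset.sum_congr rfl fun _ _ => by ring) }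
  have hP1 : P 1 = 1 := hinj (by
    show algebraMap A R (a 1) = _
    rw [ha, map_one]
    simp only [smul_one, Finset.sum_const, Finset.card_univ]
    rw [nsmul_one, Fintype.card_eq_nat_card, hu1])
  let σ : S ⊗[A] R →ₗ[A] S := (TensorProduct.rid A S).toLinearMap ∘ₗ P.lTensor S
  refine ⟨fun s t hst => ?_, fun x hx => ⟨σ x, ?_⟩⟩
  · simpa [σ, hP1] using congrArg σ hst
  · have key : ∀ y : S ⊗[A] R, σ y ⊗ₜ[A] (1 : R) =
        (LinearMap.mulLeft A u).lTensor S (∑ γ : Γ,
          Algebra.TensorProduct.map (AlgHom.id A S) (MulSemiringAction.toAlgHom A R γ) y) := by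
      intro y
      induction y using TensorProduct.induction_on with
      | zero => simp
      | tmul s r =>
        simp only [σ, LinearMap.coe_comp, Function.comp_apply, LinearMap.lTensor_tmul, LinearEquiv.coe_coe,
          TensorProduct.rid_tmul, TensorProduct.smul_tmul, Algebra.TensorProduct.map_tmul, AlgHom.coe_id,
          id_eq, MulSemiringAction.toAlgHom_apply, map_sum, LinearMap.mulLeft_apply,
          ← TensorProduct.tmul_sum, ← Finset.mul_sum]
        rw [← ha r, Algebra.algebraMap_eq_smul_one]
        rfl
      | add x y hx hy => simp only [map_add, TensorProduct.add_tmul, Finset.sum_add_distrib, hx, hy]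
    show σ x ⊗ₜ[A] (1 : R) = x
    rw [key]
    simp only [hx, Finset.sum_const, Finset.card_univ, map_nsmul, Fintype.card_eq_nat_card]
    have h4 : (Nat.card Γ : A) • LinearMap.mulLeft A u = LinearMap.id := by
      ext r
      rw [LinearMap.smul_apply, LinearMap.mulLeft_apply, Algebra.smul_def, map_natCast, ← mul_assoc,
        mul_comm _ u, hu1, one_mul, LinearMap.id_apply]
    rw [← Nat.cast_smul_eq_nsmul A, ← LinearMap.smul_apply, ← LinearMap.lTensor_smul, h4,
      LinearMap.lTensor_id, LinearMap.id_apply]

end Groth.Agent.S16335
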