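import Groth.Statements.S16337


set_option autoImplicit false
universe u v w
open InvTh

namespace Groth.Agent.S16337

/-- Let `A` be a commutative ring, `Γ` a finite group whose order is invertible in `A`, `M` an
`A`-module with an `A`-linear action of `Γ`, and `I` an ideal of `A`. Then reduction modulo `I`
induces a bijection `M^Γ / I·M^Γ ≅ (M / IM)^Γ`: (a) an element of `M` fixed by `Γ` modulo `IM` is
congruent modulo `IM` to a `Γ`-fixed element, and (b) a `Γ`-fixed element lying in `IM` lies in
`I·M^Γ`, where `M^Γ` is the submodule of `Γ`-fixed elements. (The published lemma says that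
push-forward to the coarse space of a tame stack over a complete local base commutes with reduction
modulo powers of the maximal ideal; this row is the module statement its proof establishes, for an
arbitrary ideal.) -/
theorem result
    (A : Type u) [CommRing A] (Γ : Type v) [Group Γ] [Finite Γ] (hΓ : IsUnit (Nat.card Γ : A))
    (M : Type w) [AddCommGroup M] [Module A M] [DistribMulAction Γ M] [SMulCommClass Γ A M]
    (I : Ideal A) :
    (∀ x : M, (∀ γ : Γ, γ • x - x ∈ I • (⊤ : Submodule A M)) →
        ∃ y : M, (∀ γ : Γ, γ • y = y) ∧ x - y ∈ I • (⊤ : Submodule A M)) ∧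
      ∀ y : M, (∀ γ : Γ, γ • y = y) → y ∈ I • (⊤ : Submodule A M) →
        y ∈ I • Submodule.span A {m : M | ∀ γ : Γ, γ • m = m} := by
  classical
  haveI := Fintype.ofFinite Γ
  let av : M →ₗ[A] M := (↑hΓ.unit⁻¹ : A) • ∑ γ : Γ, DistribSMul.toLinearMap A M γ
  have hav : ∀ m, av m = (↑hΓ.unit⁻¹ : A) • ∑ γ : Γ, γ • m := fun m => by
    simp [av, LinearMap.sum_apply]
  have hinv : ∀ (m : M) (δ : Γ), δ • av m = av m := fun m δ => by
    rw [hav, smul_comm, Finset.smul_sum]
    congr 1
    exact Fintype.sum_bijective (δ * ·) (Group.mulLeft_bijective δ) _ _ fun g => smul_smul _ _ _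
  have hone : (↑hΓ.unit⁻¹ : A) * (Fintype.card Γ : A) = 1 := by
    rw [Fintype.card_eq_nat_card, hΓ.val_inv_mul]
  refine ⟨fun x hx => ⟨av x, hinv x, ?_⟩, fun y hy hyI => ?_⟩
  · have : x - av x = (↑hΓ.unit⁻¹ : A) • ∑ γ : Γ, -(γ • x - x) := by
      simp only [neg_sub, Finset.sum_sub_distrib, Finset.sum_const, Finset.card_univ, smul_sub, hav]
      rw [← Nat.cast_smul_eq_nsmul A, smul_smul, hone, one_smul]
    rw [this]
    exact Submodule.smul_mem _ _ (Submodule.sum_mem _ fun γ _ => neg_mem (hx γ))
  · have hy' : av y = y := by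
      simp only [hav, hy, Finset.sum_const, Finset.card_univ]
      rw [← Nat.cast_smul_eq_nsmul A, smul_smul, hone, one_smul]
    rw [← hy']
    refine Submodule.smul_induction_on hyI (fun r hr m _ => ?_) (fun a b ha hb => ?_)
    · rw [map_smul]
      exact Submodule.smul_mem_smul hr (Submodule.subset_span (hinv m))
    · rw [map_add]; exact add_mem ha hb

end Groth.Agent.S16337
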