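import Groth.Statements.S16338
import Groth.Agent.H14IsoNat.Sep
import Groth.Agent.H14QCoh.Chart
import Groth.Agent.H14AlgSt.DMDiag
import Groth.Agent.H14AlgSt.Image
import Groth.Agent.H14AlgSt.Faithful
import Groth.Agent.H14AlgSt.SigmaChart
import Groth.Agent.H13AlgSp.Cover

set_option backward.isDefEq.respectTransparency false
set_option backward.isDefEq.respectTransparency.types false

set_option autoImplicit false
universe u
open CategoryTheory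
open AlgSt

namespace Groth.Agent.S16338

section

open CategoryTheory.Functor CategoryTheory.Limits AlgebraicGeometry
open Groth.Agent.H14Fib Groth.Agent.H14Stk Groth.Agent.H14AlgSt

variable {S : Scheme.{u}} {𝒳 𝒴 𝒰 𝒱 : AlgSt.Cat S}

/-- A component of a 2-endomorphism which is the identity stays so on isomorphic objects. -/
lemma app_eq_id_of_iso {F : 𝒳 ⥤ᵇ 𝒴} (α : F ⟶ F) {a b : 𝒳.obj} (k : a ≅ b)
    (h : H14Stk.app α b = 𝟙 _) : H14Stk.app α a = 𝟙 _ := by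
  have hn : F.map k.hom ≫ H14Stk.app α b = H14Stk.app α a ≫ F.map k.hom := α.toNatTrans.naturality k.hom
  rw [h, Category.comp_id] at hn
  haveI : IsIso (F.map k.hom) := inferInstanceAs (IsIso (F.toFunctor.map k.hom))
  exact (cancel_mono (F.map k.hom)).1 (hn.symm.trans (Category.id_comp _).symm)

/-- The components of a 2-endomorphism are the identity at the objects mapping into a space. -/
lemma app_open_eq_id (h𝒴 : FibCat.IsFibGrpd 𝒴.p) (F : 𝒳 ⥤ᵇ 𝒴) (i : 𝒰 ⥤ᵇ 𝒳) (j : 𝒱 ⥤ᵇ 𝒴)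
    (hj : AlgSt.IsOpenImm j) (h𝒱 : AlgSt.RepByAlgSp 𝒱) (G : 𝒰 ⥤ᵇ 𝒱)
    (e : BasedFunctor.comp G j ≅ BasedFunctor.comp i F) (α : F ⟶ F) (u : 𝒰.obj) :
    H14Stk.app α (i.obj u) = 𝟙 _ := by
  have hV := isFibSetoid_of_rep h𝒱
  have himm : AlgSt.IsImm j := repWith_mono
    (fun _ _ _ h => H12AlgSp.repWith_le (fun _ _ g (_ : IsOpenImmersion g) => inferInstanceAs (IsImmersion g)) h) hj
  have := full_of_isMono hV.1 h𝒴 (isMono_of_isImm himm)
  have := faithful_of_repByAlgSp1 hV.1 h𝒴 (repByAlgSp1_of_with hj)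
  have := faithful_of_fibSetoid hV
  let T := 𝒰.p.obj u
  let E : j.obj (G.obj u) ≅ F.obj (i.obj u) := isoApp e u
  have hE : 𝒴.p.IsHomLift (𝟙 T) E.hom := isoApp_lift e u
  have hα : 𝒴.p.IsHomLift (𝟙 T) (H14Stk.app α (i.obj u)) := BasedNatTrans.isHomLift α (i.w_obj u)
  let β : j.obj (G.obj u) ⟶ j.obj (G.obj u) := E.hom ≫ H14Stk.app α (i.obj u) ≫ E.inv
  have hβ : 𝒴.p.IsHomLift (𝟙 T) β :=
    homLift_id_comp hE (homLift_id_comp hα (@IsHomLift.lift_id_inv _ _ _ _ 𝒴.p T _ _ E hE))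
  let β₀ := j.toFunctor.preimage β
  have hm : j.map β₀ = β := j.toFunctor.map_preimage β
  have hβ₀ : 𝒱.p.IsHomLift (𝟙 T) β₀ := (BasedFunctor.isHomLift_iff j (𝟙 T) β₀).1 (hm ▸ hβ)
  have hid : 𝒱.p.IsHomLift (𝟙 T) (𝟙 (G.obj u)) := IsHomLift.id (G.w_obj u)
  have h0 : β₀ = 𝟙 _ := @homLift_unique _ _ _ _ 𝒱.p _ _ _ (𝟙 T) _ _ β₀ (𝟙 _) hβ₀ hid
  have h1 : β = 𝟙 _ := by rw [← hm, h0]; exact j.toFunctor.map_id _
  have h2 : E.hom ≫ H14Stk.app α (i.obj u) ≫ E.inv = E.hom ≫ 𝟙 _ ≫ E.inv := by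
    rw [Category.id_comp, E.hom_inv_id]; exact h1
  exact (cancel_mono E.inv).1 ((cancel_epi E.hom).1 h2)

/-- The diagonal of a Deligne--Mumford stack with separated isomorphism spaces. -/
lemma diag_sep_unram (h𝒴 : AlgSt.IsDM Scheme.fppfPrecoverage 𝒴)
    (hΔ : AlgSt.RepByAlgSpWith AlgSp.IsSeparatedMor (FibCat.diag (FibCat.toSelf 𝒴))) :
    AlgSt.RepByAlgSpWith (AlgSp.IsSeparatedMor ⊓
      AlgSp.LocP (@LocallyOfFiniteType ⊓ @FormallyUnramified)) (FibCat.diag (FibCat.toSelf 𝒴)) := by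
  intro U y
  obtain ⟨G, e, he, hσ⟩ := hΔ U y
  obtain ⟨k⟩ := spMapOfOver_eq (BasedFunctor.comp e (FibCat.fpFst y (FibCat.diag (FibCat.toSelf 𝒴))))
  exact ⟨G, e, he, hσ, prop_of_repData (sourceIsoInv_locP _) (isDMOver_of_isDM h𝒴 U y) he k⟩

theorem endTrans_eq_id (h𝒳 : AlgSt.IsDM Scheme.fppfPrecoverage 𝒳)
    (h𝒴 : AlgSt.IsDM Scheme.fppfPrecoverage 𝒴)
    (hΔ : AlgSt.RepByAlgSpWith AlgSp.IsSeparatedMor (FibCat.diag (FibCat.toSelf 𝒴)))
    (F : 𝒳 ⥤ᵇ 𝒴) (i : 𝒰 ⥤ᵇ 𝒳) (hi : AlgSt.IsOpenImm i) (h𝒰 : AlgSt.RepByAlgSp 𝒰)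
    (hdense : Dense (Set.range (AlgSt.Points.map i)))
    (j : 𝒱 ⥤ᵇ 𝒴) (hj : AlgSt.IsOpenImm j) (h𝒱 : AlgSt.RepByAlgSp 𝒱)
    (G : 𝒰 ⥤ᵇ 𝒱) (e : BasedFunctor.comp G j ≅ BasedFunctor.comp i F)
    (α : F ⟶ F) : α = 𝟙 F := by
  have hX := h𝒳.1.isStack.1
  have hY := h𝒴.1.isStack.1
  obtain ⟨A, x, hx', hxs⟩ := h𝒳.2
  have hx : AlgSt.RepByAlgSpWith (AlgSp.LocP @Smooth) x := repWith_mono
    (fun _ _ _ h => H12AlgSp.locP_mono etale_le_smooth' (H12AlgSp.locP_etale_of_isEtaleMor h)) hx'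
  have hopen : IsOpenMap (AlgSt.Points.ofChart x) := isOpenMap_ofChart hX
    (repWith_locP_mono H14AlgSt.smooth_le_flat hx) (repWith_locP_mono H14AlgSt.smooth_le_lfp hx)
  -- the open part of the atlas
  obtain ⟨G₀, e₀, he₀, hσ⟩ := hi A x
  obtain ⟨Z, v, fst, sq⟩ := hσ.rep (𝟙 ((AlgSp.yon S).obj A))
  haveI : IsIso fst := sq.isIso_fst_of_isIso
  haveI : IsIso fst.hom := inferInstanceAs (IsIso ((sheafToPresheaf _ _).map fst))
  let e' := BasedFunctor.comp (BasedFunctor.comp (AlgSt.ofOverCat Z) (AlgSt.ofSpMap fst)) e₀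
  have he' : FibCat.IsEquivOver e' :=
    isEquivOver_comp (isEquivOver_comp (ofOverCat_isEquivOver Z) (isEquivOver_ofPshMap fst.hom)) he₀
  obtain ⟨c, ⟨k₁⟩⟩ := exists_overMap_iso (BasedFunctor.comp e' (FibCat.fpFst x i))
  let s : (FibCat.overCat A).obj := (AlgSt.overMap c).obj (topObj Z)
  have hc : Dense (Set.range s.hom.left) := by
    have hs : s.hom.left = c.left := congrArg CommaMorphism.left (Category.id_comp c)
    rw [hs]
    refine Dense.mono ?_ (hdense.preimage hopen)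
    rintro a ⟨q, hq⟩
    rw [ofChart_eq_map x] at hq
    obtain ⟨w, hw, -⟩ := exists_points_fp (fibGrpd_overCat A) (isFibSetoid_of_rep h𝒰).1 hX hq.symm
    obtain ⟨z, rfl⟩ := (points_map_bijective he').2 w
    refine ⟨chartPoint z, ?_⟩
    refine (chartPoint_overMap c z).symm.trans ?_
    rw [← points_map_iso k₁, points_map_comp, hw, chartPoint_ofChart]
  -- the endomorphism at the atlas
  have htop : H14Stk.app α (x.obj (topObj A)) = 𝟙 _ := by
    let ω := e'.obj (topObj Z)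
    let a₁ : ω.obj.fst ≅ s := isoApp k₁ (topObj Z)
    let k : x.obj s ≅ i.obj ω.obj.snd := (x.toFunctor.mapIso a₁).symm ≪≫ ω.obj.iso
    have hαs : H14Stk.app α (x.obj s) = 𝟙 _ := app_eq_id_of_iso α k (app_open_eq_id hY F i j hj h𝒱 G e α _)
    have hψ : 𝒴.p.IsHomLift s.hom (F.map (x.map (toTop s))) :=
      @BasedFunctor.preserves_isHomLift _ _ _ _ F _ _ _ _ s.hom _ (H14Stk.over_map_toTop_lift x s)
    refine H14IsoNat.eq_of_agree_dense hY (diag_sep_unram h𝒴 hΔ) s.hom hc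
      ((F.w_obj _).trans (x.w_obj _)) (F.map (x.map (toTop s))) hψ
      (BasedNatTrans.isHomLift α (x.w_obj (topObj A))) (IsHomLift.id ((F.w_obj _).trans (x.w_obj _))) ?_
    have hn : F.map (x.map (toTop s)) ≫ H14Stk.app α (x.obj (topObj A)) =
        H14Stk.app α (x.obj s) ≫ F.map (x.map (toTop s)) := α.toNatTrans.naturality _
    rw [hn, hαs, Category.id_comp, Category.comp_id]
  -- the values of the atlas
  have hch : ∀ t : (FibCat.overCat A).obj, H14Stk.app α (x.obj t) = 𝟙 _ := by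
    intro t
    let ψ := F.map (x.map (toTop t))
    have hψ : 𝒴.p.IsHomLift t.hom ψ :=
      @BasedFunctor.preserves_isHomLift _ _ _ _ F _ _ _ _ t.hom _ (H14Stk.over_map_toTop_lift x t)
    have hsc := sc_of_fibGrpd hY t.hom ψ
    have hn : ψ ≫ H14Stk.app α (x.obj (topObj A)) = H14Stk.app α (x.obj t) ≫ ψ :=
      α.toNatTrans.naturality _
    rw [htop, Category.comp_id] at hn
    haveI : 𝒴.p.IsHomLift (𝟙 t.left) (H14Stk.app α (x.obj t)) := BasedNatTrans.isHomLift α (x.w_obj t)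
    haveI : 𝒴.p.IsHomLift (𝟙 t.left) (𝟙 (F.obj (x.obj t))) := IsHomLift.id ((F.w_obj _).trans (x.w_obj t))
    exact IsStronglyCartesian.ext 𝒴.p t.hom ψ (𝟙 t.left) (hn.symm.trans (Category.id_comp ψ).symm)
  -- descent
  refine H14Stk.hom_ext fun θ => ?_
  change H14Stk.app α θ = 𝟙 (F.obj θ)
  let T := 𝒳.p.obj θ
  have := isFibered_of_fibGrpd hX
  obtain ⟨z, ez, -, hez⟩ := exists_fromOver (𝒳 := 𝒳) (x := θ) (U := T) rfl
  obtain ⟨A', c', v', hcf, hcl, hcs, ⟨iso⟩⟩ := H14QCoh.exists_fp_cover hX hx hxs z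
  have hR : Sieve.ofArrows (fun _ : PUnit.{u+1} => A') (fun _ => c') ∈ AlgSp.J S T :=
    H13AlgSp.ofArrows_mem_J (fun _ : PUnit.{u+1} => c') (fun _ => hcf) (fun _ => hcl) fun t => ⟨⟨⟩, hcs.surj t⟩
  haveI : 𝒴.p.IsHomLift (𝟙 T) (H14Stk.app α θ) := BasedNatTrans.isHomLift α rfl
  haveI : 𝒴.p.IsHomLift (𝟙 T) (𝟙 (F.obj θ)) := IsHomLift.id (F.w_obj θ)
  refine vert_ext_of_local (isPrestack_of_isStack h𝒴.1.isStack) hR _ _ ?_
  rintro V f ⟨_, g, _, ⟨u⟩, rfl⟩ s₀ ψ hψ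
  let r : (FibCat.overCat A').obj := Over.mk g
  let t : (FibCat.overCat T).obj := (AlgSt.overMap c').obj r
  let φ : z.obj t ⟶ θ := z.map (toTop t) ≫ ez.hom
  have hφ : 𝒳.p.IsHomLift (g ≫ c') φ := by simpa [φ, t, r, AlgSt.overMap] using homLift_comp' (H14Stk.over_map_toTop_lift z t) hez
  have hFφ : 𝒴.p.IsHomLift (g ≫ c') (F.map φ) :=
    @BasedFunctor.preserves_isHomLift _ _ _ _ F _ _ _ _ _ φ hφ
  obtain ⟨ι, -, hι⟩ := exists_vertIso hY (g ≫ c') ψ (F.map φ)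
  have hw : H14Stk.app α (z.obj t) = 𝟙 _ := app_eq_id_of_iso α (isoApp iso r) (hch _)
  have hn : F.map φ ≫ H14Stk.app α θ = H14Stk.app α (z.obj t) ≫ F.map φ := α.toNatTrans.naturality φ
  rw [← hι, Category.assoc, hn, hw, Category.id_comp, Category.comp_id]

end


/-- Let `S` be a scheme, `𝒳` and `𝒴` Deligne–Mumford stacks over `(Sch/S)` (fppf topology) such that the
diagonal of `𝒴` is representable by algebraic spaces and separated (the isomorphism spaces of `𝒴`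
are separated), and `F : 𝒳 → 𝒴` a functor over `(Sch/S)` representable by algebraic spaces. Suppose
`i : 𝒰 → 𝒳` and `j : 𝒱 → 𝒴` are open immersions with `𝒰`, `𝒱` representable by algebraic spaces, the
image of `|𝒰|` is dense in `|𝒳|`, and `F` maps `𝒰` into `𝒱`: there is `G : 𝒰 → 𝒱` with a
2-isomorphism `G ⋙ j ≅ i ⋙ F` over `(Sch/S)`. Then every 2-endomorphism `α : F ⇒ F` over `(Sch/S)`
(all of which are invertible, the fibres being groupoids) equals the identity. Density is taken in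
the topological space of points of `𝒳` (topological, not scheme-theoretic, density). (The published
statement works over a Noetherian base with Deligne–Mumford stacks whose isomorphism spaces are
separated and of finite type; this row keeps only the separatedness of the isomorphism spaces of
`𝒴`, which its proof uses.) -/
theorem result
    (S : AlgebraicGeometry.Scheme.{u}) (𝒳 𝒴 𝒰 𝒱 : AlgSt.Cat S)
    (h𝒳 : AlgSt.IsDM AlgebraicGeometry.Scheme.fppfPrecoverage 𝒳)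
    (h𝒴 : AlgSt.IsDM AlgebraicGeometry.Scheme.fppfPrecoverage 𝒴)
    (hΔ : AlgSt.RepByAlgSpWith AlgSp.IsSeparatedMor (FibCat.diag (FibCat.toSelf 𝒴)))
    (F : 𝒳 ⥤ᵇ 𝒴) (hF : AlgSt.RepByAlgSp1 F)
    (i : 𝒰 ⥤ᵇ 𝒳) (hi : AlgSt.IsOpenImm i) (h𝒰 : AlgSt.RepByAlgSp 𝒰)
    (hdense : Dense (Set.range (AlgSt.Points.map i)))
    (j : 𝒱 ⥤ᵇ 𝒴) (hj : AlgSt.IsOpenImm j) (h𝒱 : AlgSt.RepByAlgSp 𝒱)
    (G : 𝒰 ⥤ᵇ 𝒱) (e : BasedFunctor.comp G j ≅ BasedFunctor.comp i F)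
    (α : F ⟶ F) : α = 𝟙 F := by
  exact endTrans_eq_id h𝒳 h𝒴 hΔ F i hi h𝒰 hdense j hj h𝒱 G e α

end Groth.Agent.S16338
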