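import Groth.Statements.S16339
import Groth.Agent.H14AlgSt.DMDiag

set_option autoImplicit false
set_option backward.isDefEq.respectTransparency false
set_option backward.isDefEq.respectTransparency.types false
universe u
open CategoryTheory
open AlgSt

namespace Groth.Agent.S16339

open CategoryTheory Functor AlgebraicGeometry
open Groth.Agent.H14AlgSt Groth.Agent.H14Fib Groth.Agent.H14Stk

/-- Let `S` be a scheme and `g : 𝒢 → ℱ` a functor over `(Sch/S)` between Deligne–Mumford stacks (fppf
topology). Suppose that for every algebraically closed field `k` and every object `ξ` of `𝒢` lying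
over `Spec k → S`, the homomorphism `Aut(ξ) → Aut(g(ξ))` of automorphism groups over the identity is
injective, stated here as: every endomorphism `a` of `ξ` over the identity of `Spec k` with `g(a) =
𝟙` is `𝟙` (such `a` are automorphisms, the fibres being groupoids). Then `g` is representable by
algebraic spaces. (The published statement is the equivalence of the two conditions. The converse
implication — a functor representable by algebraic spaces is injective on automorphism groups over
identities — holds for every morphism of algebraic stacks and every object, and is not part of this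
row. The published statement works under the convention that Deligne–Mumford stacks have isomorphism
spaces of finite type and separated over a Noetherian base; this row assumes only that both stacks
are Deligne–Mumford.) -/
theorem result
    (S : AlgebraicGeometry.Scheme.{u}) (𝒢 ℱ : AlgSt.Cat S)
    (h𝒢 : AlgSt.IsDM AlgebraicGeometry.Scheme.fppfPrecoverage 𝒢)
    (hℱ : AlgSt.IsDM AlgebraicGeometry.Scheme.fppfPrecoverage ℱ)
    (g : 𝒢 ⥤ᵇ ℱ)
    (hinj : ∀ (k : Type u) [Field k] [IsAlgClosed k] (s : AlgebraicGeometry.Spec (CommRingCat.of k) ⟶ S)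
        (ξ : 𝒢.obj) (hξ : 𝒢.p.obj ξ = Over.mk s) (a : ξ ⟶ ξ),
        𝒢.p.IsHomLift (𝟙 (𝒢.p.obj ξ)) a → g.map a = 𝟙 (g.obj ξ) → a = 𝟙 ξ) :
    AlgSt.RepByAlgSp1 g := by
  intro U y
  have hG := h𝒢.1
  have hF := hℱ.1
  have hE := isAlgStack_fp' (isAlgStack_overCat U) hG hF y g
  have hgd := repWith_diag_cancel (g := FibCat.toSelf ℱ) (baseStable_locP etLocal_unramified)
    cancelsLeft_unramified hG.isStack.1 hF.isStack.1 (rep1_diag_of_algStack hG hF g)
    (with_top_of_repByAlgSp1 hF.diag)
    (by rw [comp_toSelf]; exact isDMOver_of_isDM h𝒢)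
  have hΔ := repWith_diag_comp (sourceIsoInv_locP _) (testOnSchemes_locP _)
    (fun A B C hA hB hC a b => H12AlgSp.locP_comp etLocal_unramified hA hB hC)
    hE.isStack.1 (fibGrpd_overCat U) (repWith_diag_fpFst y hgd)
    (repWith_unramified_diag_of_fibSetoid (isAlgStack_overCat U)
      (isFibSetoid_of_rep (repByAlgSp_overCat U)))
  rw [comp_toSelf] at hΔ
  refine repByAlgSp_of_fibSetoid hE (isFibSetoid_of_pointTrivial hE hΔ
    fun k _ _ sk x T hT σ hσ => ?_)
  have : IsIso T.hom.left := (MorphismProperty.isomorphisms.iff _).1 hT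
  have : IsIso ((Over.forget S).map T.hom) := this
  have : IsIso T.hom := isIso_of_reflects_iso T.hom (Over.forget S)
  let t : Over (Over.mk sk) := Over.mk (𝟙 (Over.mk sk))
  let i : t ≅ T := Over.isoMk (asIso T.hom).symm (by simp [t])
  let a := (x.map i.hom ≫ σ ≫ x.map i.inv).hom.snd
  have hp : (FibCat.fp y g).p.map (x.map i.hom ≫ σ ≫ x.map i.inv) = 𝟙 _ := by
    rw [Functor.map_comp, Functor.map_comp, hσ, Category.id_comp, ← Functor.map_comp,
      ← x.toFunctor.map_comp, i.hom_inv_id, x.toFunctor.map_id, CategoryTheory.Functor.map_id]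
  have hl : (FibCat.fp y g).p.IsHomLift (𝟙 _) (x.map i.hom ≫ σ ≫ x.map i.inv) :=
    IsHomLift.of_fac' _ _ _ rfl rfl (by simpa using hp)
  have hl2 := @fp_isHomLift_snd' _ _ _ _ _ y g _ _ (x.obj t) (x.obj t) _ _ hl
  have hs : 𝒢.p.obj (x.obj t).obj.snd = (FibCat.fp y g).p.obj (x.obj t) :=
    @IsHomLift.domain_eq _ _ _ _ 𝒢.p _ _ _ _ _ a hl2
  have h1 : (x.map i.hom ≫ σ ≫ x.map i.inv).hom.fst = 𝟙 _ :=
    Over.OverMorphism.ext (hp.trans rfl)
  have hw := (x.map i.hom ≫ σ ≫ x.map i.inv).hom.w
  rw [h1, y.toFunctor.map_id, Category.id_comp] at hw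
  have hga : g.map a = 𝟙 (g.obj (x.obj t).obj.snd) := by
    rw [← cancel_epi (x.obj t).obj.iso.hom, ← hw, Category.comp_id]
  have ha : a = 𝟙 _ := hinj k sk (x.obj t).obj.snd (hs.trans (x.w_obj t)) a
    (hs ▸ hl2) hga
  have he : x.map i.hom ≫ σ ≫ x.map i.inv = 𝟙 _ := fp_hom_ext h1 ha
  rw [← cancel_epi (x.map i.hom), ← cancel_mono (x.map i.inv), Category.assoc, he]
  simp [← x.toFunctor.map_comp]

end Groth.Agent.S16339
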