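import Groth.Statements.S16343
import Mathlib

set_option autoImplicit false
open KatoHom

namespace Groth.Agent.S16343

/-- Let P be a set of primes and π : A → T a surjection of abelian groups whose kernel is ℓ-divisible
for every ℓ ∈ P, with T a torsion group; let T(P) be the subgroup of elements of T killed by a
positive integer all of whose prime factors lie in P, and T' the subgroup of elements killed by a
positive integer none of whose prime factors lies in P. Then the preimage π⁻¹(T') is ℓ-divisible for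
every ℓ ∈ P, and π has a section s over T(P) for which (d, t) ↦ d + s(t) is a bijection from π⁻¹(T')
× T(P) onto A, so that A is the direct sum of π⁻¹(T') and a copy of T(P). (The decomposition is
expressed through a section of π over T(P).) -/
theorem result
    {A T : Type*} [AddCommGroup A] [AddCommGroup T] (P : Set ℕ) (hP : ∀ p ∈ P, p.Prime)
    (π : A →+ T) (hπ : Function.Surjective π) (hT : ∀ t : T, ∃ n : ℕ, 0 < n ∧ n • t = 0)
    (hD : ∀ ℓ ∈ P, ∀ x ∈ π.ker, ∃ y ∈ π.ker, ℓ • y = x)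
    (TP T' : AddSubgroup T)
    (hTP : ∀ t, t ∈ TP ↔ ∃ n : ℕ, 0 < n ∧ (∀ p : ℕ, p.Prime → p ∣ n → p ∈ P) ∧ n • t = 0)
    (hT' : ∀ t, t ∈ T' ↔ ∃ n : ℕ, 0 < n ∧ (∀ p : ℕ, p.Prime → p ∣ n → p ∉ P) ∧ n • t = 0) :
    (∀ ℓ ∈ P, ∀ x ∈ T'.comap π, ∃ y ∈ T'.comap π, ℓ • y = x) ∧
    ∃ s : TP →+ A, (∀ t : TP, π (s t) = (t : T)) ∧
      Function.Bijective (fun q : (T'.comap π) × TP => (q.1 : A) + s q.2) := by
  have coprime_of : ∀ a b : ℕ, (∀ q : ℕ, q.Prime → q ∣ a → q ∈ P) → (∀ q : ℕ, q.Prime → q ∣ b → q ∉ P) →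
      a.Coprime b := fun a b ha hb => Nat.coprime_of_dvd fun q hq h1 h2 => hb q hq h2 (ha q hq h1)
  have divn : ∀ n : ℕ, (∀ q : ℕ, q.Prime → q ∣ n → q ∈ P) → 0 < n → ∀ x ∈ π.ker, ∃ y ∈ π.ker, n • y = x := by
    intro n
    induction n using induction_on_primes with
    | zero => intro _ h; omega
    | one => exact fun _ _ x hx => ⟨x, hx, one_nsmul x⟩
    | prime_mul q m hq ih =>
      intro h hpos x hx
      obtain ⟨y, hy, hyx⟩ := hD q (h q hq (dvd_mul_right q m)) x hx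
      obtain ⟨w, hw, hwy⟩ := ih (fun r hr hrm => h r hr (hrm.trans (dvd_mul_left m q))) (Nat.pos_of_mul_pos_left hpos) y hy
      exact ⟨w, hw, by rw [mul_nsmul', hwy, hyx]⟩
  have killed : ∀ (t : T) (a b : ℕ), a.Coprime b → a • t = 0 → b • t = 0 → t = 0 := fun t a b hc ha hb => by
    rw [← AddMonoid.addOrderOf_eq_one_iff]
    exact Nat.eq_one_of_dvd_coprimes hc (addOrderOf_dvd_iff_nsmul_eq_zero.2 ha) (addOrderOf_dvd_iff_nsmul_eq_zero.2 hb)
  have primes_mul : ∀ (S : Set ℕ) (a b : ℕ), (∀ q : ℕ, q.Prime → q ∣ a → q ∈ S) →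
      (∀ q : ℕ, q.Prime → q ∣ b → q ∈ S) → ∀ q : ℕ, q.Prime → q ∣ a * b → q ∈ S :=
    fun S a b ha hb q hq h => (hq.dvd_mul.1 h).elim (ha q hq) (hb q hq)
  have disj : ∀ t : T, t ∈ TP → t ∈ T' → t = 0 := fun t h1 h2 => by
    obtain ⟨a, -, ha, ha'⟩ := (hTP t).1 h1
    obtain ⟨b, -, hb, hb'⟩ := (hT' t).1 h2
    exact killed t a b (coprime_of a b ha hb) ha' hb'
  have div' : ∀ (n : ℕ), (∀ q : ℕ, q.Prime → q ∣ n → q ∈ P) → 0 < n → ∀ t ∈ T', ∃ t' ∈ T', n • t' = t := by
    intro n hn hpos t ht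
    obtain ⟨b, hb0, hb, hb'⟩ := (hT' t).1 ht
    obtain ⟨u, v, huv⟩ : ∃ u v : ℤ, (n : ℤ) * u + (b : ℤ) * v = 1 :=
      ⟨n.gcdA b, n.gcdB b, by rw [← Nat.gcd_eq_gcd_ab, (coprime_of n b hn hb).gcd_eq_one, Nat.cast_one]⟩
    refine ⟨u • t, AddSubgroup.zsmul_mem _ ht u, ?_⟩
    rw [← natCast_zsmul, smul_smul, eq_sub_of_add_eq huv, sub_smul, one_smul, mul_comm (b : ℤ), mul_smul,
      natCast_zsmul, hb', smul_zero, sub_zero]
  have split : ∀ t : T, ∃ t' ∈ T', ∃ tp ∈ TP, t' + tp = t := by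
    intro t
    obtain ⟨n, hn0, hn⟩ := hT t
    obtain ⟨a, b, hab, ha, hb⟩ : ∃ a b, n = a * b ∧ (∀ q : ℕ, q.Prime → q ∣ a → q ∈ P) ∧
        (∀ q : ℕ, q.Prime → q ∣ b → q ∉ P) := by
      clear hn
      induction n using induction_on_primes with
      | zero => omega
      | one => exact ⟨1, 1, rfl, fun q hq h => absurd h hq.not_dvd_one, fun q hq h => absurd h hq.not_dvd_one⟩
      | prime_mul q m hq ih =>
        obtain ⟨a, b, rfl, ha, hb⟩ := ih (Nat.pos_of_mul_pos_left hn0)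
        by_cases hqP : q ∈ P
        · exact ⟨q * a, b, by ring, primes_mul P q a (fun r hr h => (Nat.prime_dvd_prime_iff_eq hr hq).1 h ▸ hqP) ha, hb⟩
        · exact ⟨a, q * b, by ring, ha,
            primes_mul Pᶜ q b (fun r hr h => (Nat.prime_dvd_prime_iff_eq hr hq).1 h ▸ hqP) hb⟩
    have ha0 : 0 < a := Nat.pos_of_ne_zero fun h => by simp [h] at hab; omega
    have hb0 : 0 < b := Nat.pos_of_ne_zero fun h => by simp [h] at hab; omega
    obtain ⟨u, v, huv⟩ : ∃ u v : ℤ, (a : ℤ) * u + (b : ℤ) * v = 1 :=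
      ⟨a.gcdA b, a.gcdB b, by rw [← Nat.gcd_eq_gcd_ab, (coprime_of a b ha hb).gcd_eq_one, Nat.cast_one]⟩
    refine ⟨u • a • t, (hT' _).2 ⟨b, hb0, hb, ?_⟩, v • b • t, (hTP _).2 ⟨a, ha0, ha, ?_⟩, ?_⟩
    · rw [smul_comm, smul_smul b a, mul_comm, ← hab, hn, smul_zero]
    · rw [smul_comm, smul_smul a b, ← hab, hn, smul_zero]
    · rw [← natCast_zsmul t a, ← natCast_zsmul t b, smul_smul, smul_smul, ← add_smul, mul_comm u, mul_comm v, huv,
        one_smul]
  refine ⟨fun ℓ hℓ x hx => ?_, ?_⟩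
  · have hℓP : ∀ q : ℕ, q.Prime → q ∣ ℓ → q ∈ P := fun q hq h =>
      (Nat.prime_dvd_prime_iff_eq hq (hP ℓ hℓ)).1 h ▸ hℓ
    obtain ⟨t', ht', e⟩ := div' ℓ hℓP (hP ℓ hℓ).pos _ hx
    obtain ⟨y₀, rfl⟩ := hπ t'
    obtain ⟨w, hw, hwe⟩ := hD ℓ hℓ (x - ℓ • y₀) (by rw [AddMonoidHom.mem_ker, map_sub, map_nsmul, e, sub_self])
    rw [AddMonoidHom.mem_ker] at hw
    exact ⟨y₀ + w, by simpa [hw] using ht', by rw [smul_add, hwe, add_sub_cancel]⟩
  · obtain ⟨C, -, hC⟩ := zorn_le_nonempty₀ {C : AddSubgroup A | C ≤ TP.comap π ∧ C ⊓ π.ker = ⊥}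
      (fun c hc hch y hy => by
        have hdir : DirectedOn (· ≤ ·) c := hch.directedOn
        refine ⟨sSup c, ⟨sSup_le fun C hCc => (hc hCc).1, ?_⟩, fun z hz => le_sSup hz⟩
        rw [eq_bot_iff]
        rintro x ⟨hx1, hx2⟩
        obtain ⟨C, hCc, hxC⟩ := (AddSubgroup.mem_sSup_of_directedOn ⟨y, hy⟩ hdir).1 hx1
        rw [← (hc hCc).2]
        exact ⟨hxC, hx2⟩) ⊥ ⟨bot_le, bot_inf_eq _⟩
    obtain ⟨hCle, hCker⟩ := hC.prop
    have hgen : ∀ n : ℕ, (∀ q : ℕ, q.Prime → q ∣ n → q ∈ P) → 0 < n → ∀ x ∈ TP.comap π, n • x ∈ C ⊔ π.ker →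
        x ∈ C ⊔ π.ker := by
      intro n
      induction n using induction_on_primes with
      | zero => intro _ h; omega
      | one => intro _ _ x _ h; simpa using h
      | prime_mul q m hq ih =>
        intro h hpos x hx hxm
        refine ih (fun r hr hrm => h r hr (hrm.trans (dvd_mul_left m q))) (Nat.pos_of_mul_pos_left hpos) x hx ?_
        obtain ⟨c, hc, w, hw, e⟩ := AddSubgroup.mem_sup.1 hxm
        obtain ⟨w', hw', rfl⟩ := hD q (h q hq (dvd_mul_right q m)) w hw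
        have hy : q • (m • x - w') = c := by rw [smul_sub, ← mul_nsmul', ← e, add_sub_cancel_right]
        by_contra hn
        have hyn : m • x - w' ∉ C ⊔ π.ker := fun h' =>
          hn (by simpa using add_mem h' (AddSubgroup.mem_sup_right hw'))
        have hbig : C ⊔ AddSubgroup.zmultiples (m • x - w') ≤ C := by
          refine hC.2 ⟨sup_le hCle (AddSubgroup.zmultiples_le.2 ?_), ?_⟩ le_sup_left
          · rw [AddMonoidHom.mem_ker] at hw'
            rw [AddSubgroup.mem_comap, map_sub, hw', sub_zero, map_nsmul]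
            exact TP.nsmul_mem hx m
          · rw [eq_bot_iff]
            rintro z ⟨hz1, hz2⟩
            obtain ⟨c', hc', w, hw, rfl⟩ := AddSubgroup.mem_sup.1 hz1
            obtain ⟨l, rfl⟩ := AddSubgroup.mem_zmultiples_iff.1 hw
            rw [← hCker]
            refine ⟨?_, hz2⟩
            by_cases hl : (q : ℤ) ∣ l
            · obtain ⟨l', rfl⟩ := hl
              rw [mul_comm, mul_smul, natCast_zsmul, hy]
              exact add_mem hc' (AddSubgroup.zsmul_mem _ hc l')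
            · exfalso
              obtain ⟨u, v, huv⟩ := (Nat.prime_iff_prime_int.1 hq).coprime_iff_not_dvd.2 hl
              have h1 : l • (m • x - w') ∈ C ⊔ π.ker := by
                simpa using sub_mem (AddSubgroup.mem_sup_right (S := C) hz2) (AddSubgroup.mem_sup_left (T := π.ker) hc')
              have h2 : (q : ℤ) • (m • x - w') ∈ C ⊔ π.ker := by
                rw [natCast_zsmul, hy]; exact AddSubgroup.mem_sup_left hc
              have := add_mem (AddSubgroup.zsmul_mem _ h2 u) (AddSubgroup.zsmul_mem _ h1 v)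
              rw [smul_smul, smul_smul, ← add_smul, huv, one_smul] at this
              exact hyn this
        exact hyn (AddSubgroup.mem_sup_left (hbig (AddSubgroup.mem_sup_right (AddSubgroup.mem_zmultiples _))))
    have hφ : Function.Bijective (fun c : C => (⟨π c, hCle c.2⟩ : TP)) := by
      refine ⟨fun x y h => Subtype.ext ?_, fun t => ?_⟩
      · have h' : (x : A) - y ∈ C ⊓ π.ker := AddSubgroup.mem_inf.2 ⟨C.sub_mem x.2 y.2, by
          show π ((x : A) - y) = 0
          rw [map_sub, sub_eq_zero]; exact congrArg Subtype.val h⟩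
        rw [hCker, AddSubgroup.mem_bot, sub_eq_zero] at h'
        exact h'
      · obtain ⟨x, hx⟩ := hπ (t : T)
        obtain ⟨n, hn0, hn, hnt⟩ := (hTP (t : T)).1 t.2
        have hmem := hgen n hn hn0 x (by rw [AddSubgroup.mem_comap, hx]; exact t.2)
          (AddSubgroup.mem_sup_right (by rw [AddMonoidHom.mem_ker, map_nsmul, hx, hnt]))
        obtain ⟨c, hc, w, hw, rfl⟩ := AddSubgroup.mem_sup.1 hmem
        rw [AddMonoidHom.mem_ker] at hw
        exact ⟨⟨c, hc⟩, Subtype.ext (by simpa [hw] using hx)⟩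
    let e : C ≃+ TP := AddEquiv.ofBijective
      (show C →+ TP from
      { toFun := fun c : C => (⟨π c, hCle c.2⟩ : TP)
        map_zero' := by ext; simp
        map_add' := fun a b => by ext; simp }) hφ
    have he : ∀ t : TP, π ((e.symm t : C) : A) = t := fun t => congrArg Subtype.val (e.apply_symm_apply t)
    refine ⟨C.subtype.comp e.symm.toAddMonoidHom, he, ?_, fun x => ?_⟩
    · rintro ⟨x₁, t₁⟩ ⟨x₂, t₂⟩ h
      simp only [AddMonoidHom.comp_apply, AddSubgroup.coe_subtype, AddEquiv.coe_toAddMonoidHom] at h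
      have hπeq := congrArg π h
      simp only [map_add, he] at hπeq
      have hd : (t₁ : T) - t₂ ∈ T' := by
        have e' : (t₁ : T) - t₂ = π x₂ - π x₁ := by
          rw [sub_eq_sub_iff_add_eq_add, add_comm, hπeq, add_comm]
        rw [e']; exact sub_mem x₂.2 x₁.2
      have ht : t₁ = t₂ := Subtype.ext (sub_eq_zero.1 (disj _ (sub_mem t₁.2 t₂.2) hd))
      subst ht
      exact Prod.ext (Subtype.ext (add_right_cancel h)) rfl
    · obtain ⟨t', ht', tp, htp, e'⟩ := split (π x)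
      refine ⟨(⟨x - (e.symm ⟨tp, htp⟩ : A), ?_⟩, ⟨tp, htp⟩), sub_add_cancel _ _⟩
      rw [AddSubgroup.mem_comap, map_sub, he, ← e', add_sub_cancel_right]
      exact ht'

end Groth.Agent.S16343
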