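import Groth.Statements.S16344
import Mathlib

set_option autoImplicit false
universe u v
open IdeleMod

namespace Groth.Agent.S16344

/-- Let (G_i) be an inverse system, indexed by a directed preorder, of compact Hausdorff topological
abelian groups with continuous surjective transition maps, let G be its limit (the group of
compatible families) and let m be a natural number. Then the canonical map G/mG → lim G_i/mG_i is
bijective: a compatible family that lies in mG_i at every index is m times a compatible family
(injectivity), and every family that is compatible modulo m agrees modulo m, index by index, with a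
compatible family (surjectivity). -/
theorem result
    {ι : Type u} [Preorder ι] [IsDirected ι (· ≤ ·)]
    (G : ι → Type v) [∀ i, AddCommGroup (G i)] [∀ i, TopologicalSpace (G i)]
    [∀ i, IsTopologicalAddGroup (G i)] [∀ i, CompactSpace (G i)] [∀ i, T2Space (G i)]
    (f : ∀ ⦃i j : ι⦄, i ≤ j → (G j →+ G i)) (hf : ∀ i j (h : i ≤ j), Continuous (f h))
    (hid : ∀ i (x : G i), f (le_refl i) x = x)
    (hcomp : ∀ i j k (hij : i ≤ j) (hjk : j ≤ k) (x : G k), f hij (f hjk x) = f (hij.trans hjk) x)
    (hsurj : ∀ i j (h : i ≤ j), Function.Surjective (f h)) (m : ℕ) :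
    (∀ x : ∀ i, G i, (∀ i j (h : i ≤ j), f h (x j) = x i) → (∀ i, ∃ y : G i, m • y = x i) →
        ∃ z : ∀ i, G i, (∀ i j (h : i ≤ j), f h (z j) = z i) ∧ ∀ i, m • z i = x i) ∧
    (∀ y : ∀ i, G i, (∀ i j (h : i ≤ j), ∃ w : G i, f h (y j) - y i = m • w) →
        ∃ x : ∀ i, G i, (∀ i j (h : i ≤ j), f h (x j) = x i) ∧ ∀ i, ∃ w : G i, x i - y i = m • w) := by
  classical
  have key : ∀ C : ∀ i, Set (G i), (∀ i, IsClosed (C i)) → (∀ i, (C i).Nonempty) →
      (∀ i j (h : i ≤ j), ∀ y ∈ C j, f h y ∈ C i) →
      ∃ z : ∀ i, G i, (∀ i j (h : i ≤ j), f h (z j) = z i) ∧ ∀ i, z i ∈ C i := by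
    intro C hcl hne hmap
    have hne' := hne
    choose c hc using hne'
    let P : Set (∀ i, G i) := Set.univ.pi C
    have hP : IsCompact P := (isClosed_set_pi fun i _ => hcl i).isCompact
    let T : {p : ι × ι // p.1 ≤ p.2} → Set (∀ i, G i) := fun p => {x | f p.2 (x p.1.2) = x p.1.1}
    have hT : ∀ p, IsClosed (T p) := fun p =>
      isClosed_eq ((hf _ _ p.2).comp (continuous_apply _)) (continuous_apply _)
    obtain ⟨z, hz, hz'⟩ := hP.inter_iInter_nonempty T hT fun s => by
      by_cases hι : Nonempty ι
      · obtain ⟨k, hk⟩ := Finset.exists_le (s.image fun p => p.1.2)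
        obtain ⟨w, hw⟩ := hne k
        refine ⟨fun i => if h : i ≤ k then f h w else c i, fun i _ => ?_, ?_⟩
        · dsimp only
          split_ifs with h
          · exact hmap _ _ h w hw
          · exact hc i
        · simp only [Set.mem_iInter]
          intro p hp
          have h2 : p.1.2 ≤ k := hk _ (Finset.mem_image_of_mem _ hp)
          simp only [T, Set.mem_ofPred_eq, dif_pos h2, dif_pos (p.2.trans h2)]
          exact hcomp _ _ _ p.2 h2 w
      · exact ⟨fun i => (hι ⟨i⟩).elim, fun i _ => (hι ⟨i⟩).elim, Set.mem_iInter₂.mpr fun p _ => (hι ⟨p.1.1⟩).elim⟩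
    exact ⟨z, fun i j h => Set.mem_iInter.mp hz' ⟨(i, j), h⟩, fun i => hz i (Set.mem_univ i)⟩
  constructor
  · intro x hx hy
    obtain ⟨z, hz, hzC⟩ := key (fun i => {y | m • y = x i})
      (fun i => isClosed_eq (continuous_nsmul m) continuous_const) hy
      (fun i j h y hy => by
        show m • f h y = x i
        rw [← map_nsmul, show m • y = x j from hy, hx i j h])
    exact ⟨z, hz, hzC⟩
  · intro y hy
    obtain ⟨x, hx, hxC⟩ := key (fun i => Set.range fun w : G i => y i + m • w)
      (fun i => (isCompact_range (continuous_const.add (continuous_nsmul m))).isClosed)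
      (fun i => ⟨y i, 0, by simp⟩) (fun i j h z hz => by
        obtain ⟨w, rfl⟩ := hz
        obtain ⟨w', hw'⟩ := hy i j h
        refine ⟨w' + f h w, ?_⟩
        simp only [map_add, map_nsmul, smul_add, ← hw']
        abel)
    refine ⟨x, hx, fun i => ?_⟩
    obtain ⟨w, hw⟩ := hxC i
    exact ⟨w, by rw [← hw]; simp⟩

end Groth.Agent.S16344
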