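import Groth.Statements.S16345
-- import your own Groth.Agent.* helpers here
import Groth.Agent.H3CAlg.AffineCompl
import Groth.Agent.H06Norm.Criterion
import Groth.Agent.H8Norm.CurveModificationIso
import Groth.Agent.H8Props.FieldDimSmooth
import Groth.Agent.S5792
import Groth.Agent.H28Neron.NormalSmooth


set_option autoImplicit false
universe u
open KatoHom

namespace Groth.Agent.S16345

set_option linter.style.haveILetI false

open AlgebraicGeometry CategoryTheory in
/-- Let X be a connected scheme, proper and smooth of relative dimension d ≥ 2 over a field L, and let D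
⊆ X be a closed subscheme, smooth of relative dimension d − 1 over L (a smooth divisor), whose
complement in X is an affine open subset. Then D is connected (in particular non-empty). -/
theorem result
    {L : Type u} [Field L] {X D : Scheme.{u}} (f : X ⟶ Spec (CommRingCat.of L)) (i : D ⟶ X)
    [IsProper f] (d : ℕ) (hd : 1 < d) [SmoothOfRelativeDimension d f]
    [IsClosedImmersion i] [SmoothOfRelativeDimension (d - 1) (i ≫ f)]
    [ConnectedSpace X] (U : X.Opens) (hU : IsAffineOpen U)
    (hDU : Set.range i.base = (U : Set X)ᶜ) : ConnectedSpace D := by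
  haveI hs : Smooth f := SmoothOfRelativeDimension.smooth d f
  haveI : Flat f := inferInstance
  have hN : Pi1.IsNormalScheme X := Groth.Agent.H28Neron.isNormalScheme_of_smooth f
    (Groth.Agent.H06Norm.isNormalScheme_Spec_isField (CommRingCat.of L) (Field.toIsField L))
  haveI : IsIntegral X := Groth.Agent.H8Norm.CurveModificationIso.isIntegral_of_connected f hN
  have hdimX : topologicalKrullDim X = (d : WithBot ℕ∞) := by
    rw [Groth.Agent.S5792.result]
    refine le_antisymm (iSup_le fun x => (Groth.Agent.H8Props.FieldDim.localDim_eq_of_smooth f d x).le) ?_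
    obtain ⟨x⟩ := (inferInstance : Nonempty X)
    exact le_iSup_of_le x (Groth.Agent.H8Props.FieldDim.localDim_eq_of_smooth f d x).ge
  have h2 : (2 : WithBot ℕ∞) ≤ topologicalKrullDim X := by
    rw [hdimX]; exact_mod_cast hd
  have hne : ((U : Set X)ᶜ).Nonempty := by
    by_contra h
    rw [Set.not_nonempty_iff_eq_empty, Set.compl_empty_iff] at h
    haveI : IsAffine X := by
      have hU' : IsAffineOpen (⊤ : X.Opens) := (show U = ⊤ from TopologicalSpace.Opens.ext h) ▸ hU
      exact IsAffine.of_isIso (X.topIso.inv) (h := hU')
    haveI : IsAffineHom f := inferInstance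
    haveI : IsFinite f := IsFinite.iff_isProper_and_isAffineHom.2 ⟨inferInstance, inferInstance⟩
    have hd0 : topologicalKrullDim X ≤ (0 : WithBot ℕ∞) := by
      haveI : Subsingleton ↥(Spec (CommRingCat.of L)) := inferInstanceAs (Subsingleton (PrimeSpectrum L))
      have hpre : f.base ⁻¹' {f.base (genericPoint X)} = Set.univ :=
        Set.eq_univ_iff_forall.2 fun x => Subsingleton.elim (α := ↥(Spec (CommRingCat.of L))) _ _
      have hdisc := f.isDiscrete_preimage_singleton (f.base (genericPoint X))
      rw [hpre] at hdisc
      haveI : DiscreteTopology ↥X := discreteTopology_iff_forall_isOpen.2 fun s => by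
        have := hdisc.1
        exact ((isOpen_discrete (Subtype.val ⁻¹' s : Set (Set.univ : Set X))).preimage
            (f := fun x : X => (⟨x, trivial⟩ : (Set.univ : Set X))) (continuous_id.subtype_mk _))
      haveI : Subsingleton ↥X := ⟨fun a b => by
        have h1 := (genericPoint_specializes a).eq
        have h2 := (genericPoint_specializes b).eq
        exact h1.symm.trans h2⟩
      rw [Groth.Agent.S5792.result]
      refine iSup_le fun x => (Groth.Agent.H28Top.localDim_le_dim x).trans ?_
      haveI : Subsingleton (TopologicalSpace.IrreducibleCloseds X) := ⟨fun A B => by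
        refine TopologicalSpace.IrreducibleCloseds.ext ?_
        exact (Set.eq_univ_iff_forall.2 fun z => (Subsingleton.elim z A.2.nonempty.some) ▸ A.2.nonempty.some_mem).trans
          (Set.eq_univ_iff_forall.2 fun z => (Subsingleton.elim z B.2.nonempty.some) ▸ B.2.nonempty.some_mem).symm⟩
      exact Order.krullDim_nonpos_of_subsingleton
    rw [hdimX] at hd0
    norm_cast at hd0
    omega
  have hc : _root_.IsConnected (Set.range i.base) := by
    rw [hDU]
    refine ⟨hne, ?_⟩
    by_cases hU0 : (U : Set X).Nonempty
    · exact Groth.Agent.H3CAlg.AffineCompl.isConnected_compl f h2 U hU hU0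
    · rw [Set.not_nonempty_iff_eq_empty.1 hU0, Set.compl_empty]
      exact isPreconnected_univ
  have hp : PreconnectedSpace D := ⟨by
    refine i.isClosedEmbedding.isInducing.isPreconnected_image.1 ?_
    rw [Set.image_univ]
    exact hc.2⟩
  obtain ⟨_, y, -⟩ := hc.1
  exact { toPreconnectedSpace := hp, toNonempty := ⟨y⟩ }

end Groth.Agent.S16345
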