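import Groth.Statements.S16346
import Mathlib

set_option autoImplicit false
universe u v
open KatoHom

namespace Groth.Agent.S16346

/-- Let P be a set of primes and I_P the set of positive integers all of whose prime factors lie in P.
Let A be an abelian group, (B_n)_{n ∈ I_P} an inverse system of abelian groups with transition maps
B_n → B_m for m ∣ n, and φ_n : A → B_n homomorphisms vanishing on nA and compatible with the
transition maps, so that they induce φ̂ : Â → B̂ on the limits Â = lim A/nA and B̂ = lim B_n (limits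
taken as compatible families). Suppose some N ∈ I_P kills the torsion subgroup of B̂ and kills the
kernel of φ̂ (the latter meaning: a compatible family of residues (a_n) with φ_n(a_n) = 0 for all n
has N a_n ∈ nA for all n). Then the subgroup ⋂_{n ∈ I_P} nA is ℓ-divisible for every ℓ ∈ P, and it
contains every subgroup of A that is ℓ-divisible for all ℓ ∈ P; that is, it is the largest
P-divisible subgroup of A. -/
theorem result
    {A : Type u} [AddCommGroup A] (P : Set ℕ) (hP : ∀ p ∈ P, p.Prime)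
    (IP : Set ℕ) (hIP : ∀ n, n ∈ IP ↔ 0 < n ∧ ∀ p : ℕ, p.Prime → p ∣ n → p ∈ P)
    (B : IP → Type v) [∀ n, AddCommGroup (B n)]
    (g : ∀ ⦃m n : IP⦄, (m : ℕ) ∣ (n : ℕ) → (B n →+ B m))
    (hgid : ∀ (n : IP) (b : B n), g (dvd_refl (n : ℕ)) b = b)
    (hgcomp : ∀ (k m n : IP) (hkm : (k : ℕ) ∣ (m : ℕ)) (hmn : (m : ℕ) ∣ (n : ℕ)) (b : B n),
      g hkm (g hmn b) = g (hkm.trans hmn) b)
    (φ : ∀ n : IP, A →+ B n) (hφ : ∀ (n : IP) (a : A), φ n ((n : ℕ) • a) = 0)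
    (hφg : ∀ (m n : IP) (h : (m : ℕ) ∣ (n : ℕ)) (a : A), g h (φ n a) = φ m a)
    (N : ℕ) (hN : N ∈ IP)
    (htor : ∀ b : ∀ n : IP, B n, (∀ (m n : IP) (h : (m : ℕ) ∣ (n : ℕ)), g h (b n) = b m) →
      (∃ k : ℕ, 0 < k ∧ ∀ n, k • b n = 0) → ∀ n, N • b n = 0)
    (hker : ∀ a : IP → A, (∀ m n : IP, (m : ℕ) ∣ (n : ℕ) → ∃ c : A, a n - a m = (m : ℕ) • c) →
      (∀ n, φ n (a n) = 0) → ∀ n : IP, ∃ c : A, N • a n = (n : ℕ) • c) :
    (∀ ℓ ∈ P, ∀ x : A, (∀ n ∈ IP, ∃ y : A, x = n • y) →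
        ∃ y : A, (∀ n ∈ IP, ∃ z : A, y = n • z) ∧ ℓ • y = x) ∧
    (∀ H : AddSubgroup A, (∀ ℓ ∈ P, ∀ x ∈ H, ∃ y ∈ H, ℓ • y = x) →
        ∀ x ∈ H, ∀ n ∈ IP, ∃ y : A, x = n • y) := by
  have one_mem : 1 ∈ IP := (hIP 1).mpr ⟨one_pos, fun q hq hd => absurd (Nat.dvd_one.mp hd) hq.ne_one⟩
  have mul_mem : ∀ a b, a ∈ IP → b ∈ IP → a * b ∈ IP := fun a b ha hb => (hIP _).mpr
    ⟨Nat.mul_pos ((hIP a).mp ha).1 ((hIP b).mp hb).1, fun q hq hd =>
      (hq.dvd_mul.mp hd).elim (((hIP a).mp ha).2 q hq) (((hIP b).mp hb).2 q hq)⟩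
  constructor
  · intro ℓ hℓ x hx
    have hℓIP : ℓ ∈ IP := (hIP ℓ).mpr ⟨(hP ℓ hℓ).pos, fun q hq hd => by
      rwa [(Nat.prime_dvd_prime_iff_eq hq (hP ℓ hℓ)).mp hd]⟩
    have hLIP : ℓ * (N * N) ∈ IP := mul_mem _ _ hℓIP (mul_mem _ _ hN hN)
    obtain ⟨w, hw⟩ := hx _ hLIP
    refine ⟨(N * N) • w, fun n hn => ?_, by rw [hw, smul_smul]⟩
    have h1 : ∀ n : IP, N • φ n w = 0 := by
      refine htor (fun n => φ n w) (fun m n h => hφg m n h w)
        ⟨ℓ * (N * N), ((hIP _).mp hLIP).1, fun n => ?_⟩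
      obtain ⟨y, hy⟩ := hx _ n.2
      rw [← map_nsmul, ← hw, hy]
      exact hφ n y
    have h2 := hker (fun _ => N • w) (fun m n _ => ⟨0, by simp⟩)
      (fun n => by rw [map_nsmul]; exact h1 n) ⟨n, hn⟩
    obtain ⟨c, hc⟩ := h2
    exact ⟨c, by rw [mul_smul]; exact hc⟩
  · intro H hH x hx n hn
    suffices h : ∀ n ∈ IP, ∀ x ∈ H, ∃ y ∈ H, x = n • y by
      obtain ⟨y, _, hy⟩ := h n hn x hx
      exact ⟨y, hy⟩
    intro n
    induction n using Nat.strong_induction_on with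
    | _ n ih =>
      intro hn x hx
      obtain ⟨hn0, hnP⟩ := (hIP n).mp hn
      rcases eq_or_ne n 1 with rfl | h1
      · exact ⟨x, hx, (one_smul _ _).symm⟩
      obtain ⟨q, hq, k, rfl⟩ := Nat.exists_prime_and_dvd h1
      have hk0 : 0 < k := Nat.pos_of_mul_pos_left hn0
      have hk : k ∈ IP := (hIP k).mpr ⟨hk0, fun r hr hd => hnP r hr (hd.mul_left q)⟩
      obtain ⟨y, hy, hxy⟩ := hH q (hnP q hq (dvd_mul_right q k)) x hx
      obtain ⟨z, hz, hyz⟩ := ih k (lt_mul_left hk0 hq.one_lt) hk y hy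
      exact ⟨z, hz, by rw [← hxy, hyz, smul_smul]⟩

end Groth.Agent.S16346
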