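import Groth.Statements.S16350
import Groth.Agent.H25Cubic.PfaffExt

set_option autoImplicit false
universe u
open Cubic

namespace Groth.Agent.S16350

/-- Let k be a field of characteristic zero with algebraic closure K and S = V(F) ⊂ P^3 the cubic
surface of a homogeneous cubic F ∈ k[x_0, …, x_3] which is geometrically irreducible and not a cone
(no nonzero vector v has Σ_i v_i ∂F/∂x_i = 0). Then S admits a linear Pfaffian representation over
some intermediate field k ⊆ E ⊆ K of degree [E : k] ≤ 3. A linear Pfaffian representation over E is
a 6 × 6 alternating matrix M of linear forms in E[x_0, …, x_3] whose Pfaffian is a nonzero constant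
multiple of F; since the determinant of an alternating matrix is the square of its Pfaffian and the
polynomial ring is factorial with no nonconstant units, this is the same as det M = c · F^2 for a
nonzero constant c, which is how it is written here. (The published statement adds that E may be
taken inside the reals when k is a subfield of the reals; that clause is not part of this row.) -/
theorem result (k : Type u) [Field k] [CharZero k]
    (F : MvPolynomial (Fin 4) k) (hF : F.IsHomogeneous 3)
    (hirr : Irreducible (MvPolynomial.map (algebraMap k (AlgebraicClosure k)) F))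
    (hcone : ¬ ∃ v : Fin 4 → k, v ≠ 0 ∧ ∑ i : Fin 4, v i • MvPolynomial.pderiv i F = 0) :
    ∃ E : IntermediateField k (AlgebraicClosure k), FiniteDimensional k ↥E ∧ Module.finrank k ↥E ≤ 3 ∧
      ∃ M : Matrix (Fin 6) (Fin 6) (MvPolynomial (Fin 4) ↥E), (∀ i j, (M i j).IsHomogeneous 1) ∧ M.transpose = -M ∧ (∀ i, M i i = 0) ∧
        ∃ c : ↥E, c ≠ 0 ∧ M.det = MvPolynomial.C c * (MvPolynomial.map (algebraMap k ↥E) F) ^ 2 := by
  haveI : CharZero (AlgebraicClosure k) := charZero_of_injective_algebraMap (algebraMap k _).injective
  exact H25Cubic.pfaffian_degree_le_three hF hirr hcone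

end Groth.Agent.S16350
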