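import Groth.Statements.S16351
import Groth.Agent.H25Cubic.Lines

set_option autoImplicit false
universe u
open Cubic

namespace Groth.Agent.S16351

/-- Let K be a field of characteristic zero and S = V(F) ⊂ P^3_K a cone over a plane cubic curve C,
normalised so that the vertex is [1 : 0 : 0 : 0], i.e. F is a homogeneous cubic in K[x_0, …, x_3]
not involving x_0 and C = V(F) in the plane P^2 of the coordinates x_1, x_2, x_3. If C has five
K-rational points no three of which are collinear, then S has five K-rational points in general
position (no four coplanar: any four representing vectors linearly independent). -/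
theorem result (K : Type u) [Field K] [CharZero K]
    (G : MvPolynomial (Fin 3) K) (hG : G.IsHomogeneous 3) (F : MvPolynomial (Fin 4) K)
    (hF : F = MvPolynomial.rename Fin.succ G)
    (b : Fin 5 → (Fin 3 → K)) (hb : ∀ j : Fin 5, MvPolynomial.eval (b j) G = 0)
    (h3 : ∀ i j l : Fin 5, i ≠ j → j ≠ l → i ≠ l → LinearIndependent K ![b i, b j, b l]) :
    ∃ p : Fin 5 → (Fin 4 → K), (∀ j : Fin 5, MvPolynomial.eval (p j) F = 0) ∧
      ∀ j : Fin 5, LinearIndependent K (fun i : Fin 4 => p (j.succAbove i)) := by
  exact Groth.Agent.H25Cubic.five_points G F hF b hb h3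

end Groth.Agent.S16351
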