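import Groth.Statements.S16353
import Mathlib.RingTheory.MvPolynomial.Homogeneous
import Mathlib.Data.Nat.Factorial.Basic
import Mathlib.Tactic.LinearCombination
import Mathlib.Tactic.Abel

set_option autoImplicit false
universe u
open DegLoci

namespace Groth.Agent.S16353

open MvPolynomial W4c3degenlocivb

variable {k : Type u} [Field k] {m : ℕ}

def cf (α γ : Fin m →₀ ℕ) : ℕ := ∏ i, (γ i + α i).descFactorial (α i)

theorem coeff_contract (D G : MvPolynomial (Fin m) k) (γ : Fin m →₀ ℕ) :
    coeff γ (contract D G) = ∑ α ∈ D.support, coeff α D * coeff (α + γ) G * (cf α γ : k) := by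
  classical
  rw [contract, coeff_sum]
  refine Finset.sum_congr rfl fun α hα => ?_
  rw [coeff_sum, Finset.sum_eq_single (α + γ)]
  · rw [if_pos le_self_add, coeff_monomial, if_pos (add_tsub_cancel_left α γ)]
    congr 2
    rw [cf]
    refine (Finset.prod_subset (Finset.subset_univ _) fun i _ hi => ?_).trans ?_
    · rw [Finsupp.notMem_support_iff] at hi
      simp only [Finsupp.add_apply, Nat.add_eq_zero_iff] at hi ⊢
      simp [hi.1, hi.2]
    · exact Finset.prod_congr rfl fun i _ => by simp [add_comm]
  · intro β hβ hne
    split_ifs with hle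
    · rw [coeff_monomial, if_neg]
      intro he
      exact hne (by rw [← he, add_tsub_cancel_of_le hle])
    · exact coeff_zero _
  · intro hn
    rw [if_pos le_self_add, coeff_monomial, if_pos (add_tsub_cancel_left α γ), notMem_support_iff.1 hn]
    simp

theorem coeff_contract_monomial [CharZero k] (α γ : Fin m →₀ ℕ) (G : MvPolynomial (Fin m) k) :
    coeff γ (contract (monomial α 1) G) = coeff (α + γ) G * (cf α γ : k) := by
  classical
  rw [coeff_contract, support_monomial, if_neg one_ne_zero, Finset.sum_singleton, coeff_monomial, if_pos rfl, one_mul]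

theorem cf_mul (α δ γ : Fin m →₀ ℕ) : cf α γ * cf δ (α + γ) = cf (α + δ) γ := by
  rw [cf, cf, cf, ← Finset.prod_mul_distrib]
  refine Finset.prod_congr rfl fun i _ => ?_
  have := Nat.descFactorial_mul_descFactorial (n := γ i + α i + δ i) (le_add_self : δ i ≤ α i + δ i)
  simp only [Finsupp.add_apply, add_tsub_cancel_right] at this ⊢
  rw [show α i + γ i = γ i + α i by ring, show γ i + (α i + δ i) = γ i + α i + δ i by ring]
  exact this

theorem contract_comm [CharZero k] (D G : MvPolynomial (Fin m) k) (α : Fin m →₀ ℕ) :
    contract D (contract (monomial α 1) G) = contract (monomial α 1) (contract D G) := by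
  refine MvPolynomial.ext _ _ fun γ => ?_
  rw [coeff_contract_monomial, coeff_contract, coeff_contract, Finset.sum_mul]
  refine Finset.sum_congr rfl fun δ _ => ?_
  rw [coeff_contract_monomial]
  have h1 : cf δ γ * cf α (δ + γ) = cf (δ + α) γ := cf_mul δ α γ
  have h2 : cf α γ * cf δ (α + γ) = cf (α + δ) γ := cf_mul α δ γ
  rw [add_comm α δ] at h2
  have h3 : ((cf δ γ * cf α (δ + γ) : ℕ) : k) = ((cf α γ * cf δ (α + γ) : ℕ) : k) := by rw [h1, h2]
  push_cast at h3
  rw [show α + (δ + γ) = δ + (α + γ) by abel]
  linear_combination (coeff δ D * coeff (δ + (α + γ)) G) * h3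

/-- Let k be a field of characteristic zero, R = k[y_0, …, y_{m−1}] acting on S = k[∂_0, …, ∂_{m−1}] by
apolarity (y_i acts as the derivative with respect to ∂_i), F ∈ S homogeneous of degree e and d ≤ e.
Then the degree-d part of the apolar ideal of F is the orthogonal complement of the partial
derivatives of F of order e − d: a homogeneous D ∈ R_d satisfies D(F) = 0 if and only if D(y^α(F)) =
0 for every multi-index α with |α| = e − d (each D(y^α(F)) being a constant, the value of the
apolarity pairing of D with y^α(F)). -/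
theorem result (k : Type u) [Field k] [CharZero k] (m : ℕ)
    (F : MvPolynomial (Fin m) k) (e : ℕ) (hF : F.IsHomogeneous e) (d : ℕ) (hd : d ≤ e)
    (D : MvPolynomial (Fin m) k) (hD : D.IsHomogeneous d) :
    W4c3degenlocivb.contract D F = 0 ↔
      ∀ α : Fin m →₀ ℕ, α.degree = e - d → W4c3degenlocivb.contract D (W4c3degenlocivb.contract (MvPolynomial.monomial α 1) F) = 0 := by
  set E := W4c3degenlocivb.contract D F with hE
  have hEhom : ∀ γ, MvPolynomial.coeff γ E ≠ 0 → γ.degree = e - d := by
    intro γ hγ
    rw [hE, coeff_contract] at hγ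
    obtain ⟨α, hα, hne⟩ := Finset.exists_ne_zero_of_sum_ne_zero hγ
    have h1 := hD (left_ne_zero_of_mul (left_ne_zero_of_mul hne))
    have h2 := hF (right_ne_zero_of_mul (left_ne_zero_of_mul hne))
    rw [Finsupp.weight_apply, Finsupp.sum_fintype _ _ (by simp)] at h1 h2
    simp only [Pi.one_apply, smul_eq_mul, mul_one, Finsupp.add_apply, Finset.sum_add_distrib] at h1 h2
    rw [Finsupp.degree_eq_sum]
    omega
  constructor
  · intro h α hα
    rw [contract_comm, ← hE, h]
    refine MvPolynomial.ext _ _ fun γ => ?_
    rw [coeff_contract_monomial]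
    simp
  · intro h
    refine MvPolynomial.ext _ _ fun α => ?_
    rw [MvPolynomial.coeff_zero]
    by_contra hne
    have h1 := h α (hEhom α hne)
    rw [contract_comm] at h1
    have h2 := congrArg (MvPolynomial.coeff 0) h1
    rw [coeff_contract_monomial, MvPolynomial.coeff_zero, add_zero] at h2
    refine hne ((mul_eq_zero.1 h2).resolve_right (Nat.cast_ne_zero.2 ?_))
    exact Finset.prod_ne_zero_iff.2 fun i _ => by simp [Nat.descFactorial_eq_zero_iff_lt]

end Groth.Agent.S16353
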