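import Groth.Statements.S16356
import Groth.Agent.H27Num.Basic

set_option autoImplicit false
universe u
open OrdAV

namespace Groth.Agent.S16356

/-- For an odd prime p and a perfect field k of characteristic p, a root of unity in the ring of Witt
vectors W(k) whose residue in k is 1 is itself 1: if x ^ n = 1 with n ≥ 1 and the zeroth Witt
component of x is 1, then x = 1. (For p = 2 this fails: -1 in W(F_2).) -/
theorem result (p : ℕ) [Fact p.Prime] (hp : p ≠ 2)
    (k : Type u) [Field k] [CharP k p] [PerfectRing k p]
    (x : WittVector p k) (n : ℕ) (hn : 0 < n) (hx : x ^ n = 1) (h0 : x.coeff 0 = 1) : x = 1 := by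
  exact Groth.Agent.H27Num.wittVector_eq_one p hp k x n hn hx h0

end Groth.Agent.S16356
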