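import Groth.Statements.S16357
import Groth.Agent.H27Num.Basic

set_option autoImplicit false
universe u
open OrdAV

namespace Groth.Agent.S16357

/-- Over a field L of characteristic zero, a monic polynomial h whose square has rational coefficients
has rational coefficients itself. -/
theorem result (L : Type u) [Field L] [CharZero L]
    (h : Polynomial L) (hm : h.Monic) (f : Polynomial ℚ)
    (hf : h ^ 2 = Polynomial.map (algebraMap ℚ L) f) :
    ∃ g : Polynomial ℚ, Polynomial.map (algebraMap ℚ L) g = h := by
  exact Groth.Agent.H27Num.exists_map_eq_of_sq_eq_map L h hm f hf

end Groth.Agent.S16357
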