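import Groth.Statements.S16358
import Groth.Agent.H27LV.DualNum

set_option autoImplicit false
universe u v w
open OrdAV

namespace Groth.Agent.S16358

/-- Let k be a perfect field of characteristic p > 0 and W = W(k); let M be a finitely generated free
W-module on which a finite group G acts W-linearly, with invariant submodule M^G. Then the map
(W/pW) ⊗ M^G → (W/pW) ⊗ M induced by the inclusion is injective. Since M^G is free, this implies
rank_W M^G ≤ dim_k (M/pM)^G; the published statement is that inequality, and this row states the
stronger injectivity. -/
theorem result (p : ℕ) [Fact p.Prime]
    (k : Type u) [Field k] [CharP k p] [PerfectRing k p]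
    (M : Type v) [AddCommGroup M] [Module (WittVector p k) M]
    [Module.Free (WittVector p k) M] [Module.Finite (WittVector p k) M]
    (G : Type w) [Group G] [Finite G] (ρ : Representation (WittVector p k) G M) :
    Function.Injective
      (LinearMap.lTensor (WittVector p k ⧸ Ideal.span {(p : WittVector p k)}) ρ.invariants.subtype) := by
  refine H27LV.lTensor_quotient_span_injective (p : WittVector p k) ρ.invariants (fun m hm g => ?_)
  have h := hm g
  rw [map_smul, ← sub_eq_zero, ← smul_sub, smul_eq_zero] at h
  exact sub_eq_zero.mp (h.resolve_left (WittVector.p_nonzero p k))

end Groth.Agent.S16358
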