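import Groth.Statements.S16359
import Groth.Agent.H8Props.LineStab.Main

set_option autoImplicit false
universe u
open TensorProduct
open HopfRep

namespace Groth.Agent.S16359

/-- Let k be a field and V = k⟦t⟧. Let G = Spec A be a flat affine group scheme of finite type over V (A
a commutative Hopf algebra over V, flat and of finite type) and let Q = Spec B ⊂ G be a flat closed
subgroup scheme distinct from G (B a flat Hopf algebra and π : A → B a surjective, non-injective
bialgebra map). Then there are a free V-module Λ = V^d with a basis e_0, …, e_{d-1} and a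
representation ρ : G → GL(Λ), given by a d × d matrix corepresentation (a_ij) in A (Δ(a_ij) = Σ_l
a_il ⊗ a_lj, ε(a_ij) = δ_ij; a point g acts by e_j ↦ Σ_i a_ij(g) e_i), such that (a) ρ is a closed
immersion: the entries a_ij together with the inverse of det(a_ij) generate A as a V-algebra, and
(b) Q is the closed subgroup scheme of G stabilising the line V e_0: the ideal of Q in A, i.e. the
kernel of π, is the ideal generated by the entries a_i0 with i ≠ 0. (The published statement has an
arbitrary rank-one direct summand Λ' of Λ as the stabilised line; here the basis of Λ is chosen with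
Λ' = V e_0, which loses nothing since V is local.) -/
theorem result (k : Type u) [Field k]
    (A : Type u) [CommRing A] [HopfAlgebra (PowerSeries k) A]
    [Module.Flat (PowerSeries k) A] [Algebra.FiniteType (PowerSeries k) A]
    (B : Type u) [CommRing B] [HopfAlgebra (PowerSeries k) B] [Module.Flat (PowerSeries k) B]
    (π : A →ₐc[PowerSeries k] B) (hπ : Function.Surjective π) (hQ : ¬ Function.Injective π) :
    ∃ (d : ℕ) (hd : 0 < d) (a : Matrix (Fin d) (Fin d) A),
      (∀ i j, CoalgebraStruct.comul (R := PowerSeries k) (a i j) = ∑ l, a i l ⊗ₜ[PowerSeries k] a l j) ∧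
      (∀ i j, CoalgebraStruct.counit (R := PowerSeries k) (a i j) = if i = j then 1 else 0) ∧
      (∃ u : A, u * a.det = 1 ∧
        Algebra.adjoin (PowerSeries k) (Set.range (fun p : Fin d × Fin d => a p.1 p.2) ∪ {u}) = ⊤) ∧
      RingHom.ker π = Ideal.span (Set.range (fun i : {i : Fin d // i ≠ ⟨0, hd⟩} => a i.1 ⟨0, hd⟩)) := by
  exact Groth.Agent.H8Props.LineStab.exists_corep_ker_eq_column π

end Groth.Agent.S16359
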