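import Groth.Statements.S16360
import Groth.Agent.H3CAlg.PerfResDvr
-- import your own Groth.Agent.* helpers here

set_option synthInstance.maxHeartbeats 80000
set_option maxHeartbeats 1000000

set_option autoImplicit false
universe u
open Hensel

namespace Groth.Agent.S16360

/-- Let R be a discrete valuation ring that is Henselian and excellent, write k for its residue field
and p for the characteristic exponent of k. There is a Henselian discrete valuation ring R' and an
injective ring map R → R' such that the maximal ideal of R generates that of R' (so a uniformizer of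
R is a uniformizer of R'), R' is the directed union of R-subalgebras that are finite free R-modules
of rank a power of p, and the residue field k' of R' is a perfect closure of k: every element of k'
is a p-th power in k', and some p-power-th power of it lies in the image of k. (The published
statement also asserts that R' is excellent; that is not asserted here.) -/
theorem result (R : Type u) [CommRing R] [IsDomain R]
    [IsDiscreteValuationRing R] [HenselianLocalRing R] (hR : EGA4.IsExcellent R) :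
    ∃ (R' : Type u) (_ : CommRing R') (_ : IsDomain R') (_ : IsDiscreteValuationRing R')
      (_ : HenselianLocalRing R') (_ : Algebra R R'),
      Function.Injective (algebraMap R R') ∧
      Ideal.map (algebraMap R R') (IsLocalRing.maximalIdeal R) = IsLocalRing.maximalIdeal R' ∧
      (∀ s : Finset R', ∃ S : Subalgebra R R', (↑s : Set R') ⊆ ↑S ∧ Module.Finite R S ∧ Module.Free R S ∧
        ∃ m : ℕ, Module.finrank R S = ringExpChar (IsLocalRing.ResidueField R) ^ m) ∧
      (∀ y : R', ∃ z : R', z ^ ringExpChar (IsLocalRing.ResidueField R) - y ∈ IsLocalRing.maximalIdeal R') ∧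
      (∀ y : R', ∃ (m : ℕ) (z : R),
        algebraMap R R' z - y ^ (ringExpChar (IsLocalRing.ResidueField R) ^ m) ∈ IsLocalRing.maximalIdeal R') := by
  classical
  obtain ⟨ϖ, hirr⟩ := IsDiscreteValuationRing.exists_irreducible R
  have hmax : IsLocalRing.maximalIdeal R = Ideal.span {ϖ} := hirr.maximalIdeal_eq
  have hϖ : ¬ IsUnit ϖ := hirr.not_isUnit
  let K := FractionRing R
  let L := AlgebraicClosure K
  have hinj : Function.Injective (algebraMap R L) := by
    rw [IsScalarTower.algebraMap_eq R K L]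
    exact (algebraMap K L).injective.comp (IsFractionRing.injective R K)
  set p := ringExpChar (IsLocalRing.ResidueField R) with hpdef
  haveI hp' : ExpChar (IsLocalRing.ResidueField R) p := ringExpChar.expChar _
  let Q := Groth.Agent.H3CAlg.PerfResDvr.Good R L ϖ p
  let T : Set (Subalgebra R L) := {S | ∀ s : Finset L, (↑s : Set L) ⊆ S → ∃ A, A ≤ S ∧ Q A ∧ (↑s : Set L) ⊆ A}
  have hbot : (⊥ : Subalgebra R L) ∈ T := fun s hs =>
    ⟨⊥, le_rfl, Groth.Agent.H3CAlg.PerfResDvr.good_bot hinj hmax, hs⟩
  obtain ⟨S, -, hS⟩ := zorn_le_nonempty₀ T (fun c hcT hc y hy => by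
    haveI : Nonempty c := ⟨⟨y, hy⟩⟩
    have hdir : Directed (· ≤ ·) (fun x : c => (x : Subalgebra R L)) := hc.directed
    refine ⟨⨆ x : c, (x : Subalgebra R L), fun s hs => ?_, fun z hz => le_iSup (fun x : c => (x : Subalgebra R L)) ⟨z, hz⟩⟩
    rw [Subalgebra.coe_iSup_of_directed hdir] at hs
    have : ∀ s : Finset L, (↑s : Set L) ⊆ (⋃ x : c, ((x : Subalgebra R L) : Set L)) → ∃ x : c, (↑s : Set L) ⊆ (x : Subalgebra R L) := by
      intro s
      induction s using Finset.induction_on with
      | empty => exact fun _ => ⟨⟨y, hy⟩, by simp⟩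
      | @insert a s ha ih =>
        intro h
        rw [Finset.coe_insert, Set.insert_subset_iff] at h
        obtain ⟨x₁, hx₁⟩ := Set.mem_iUnion.mp h.1
        obtain ⟨x₂, hx₂⟩ := ih h.2
        obtain ⟨x₃, h1, h2⟩ := hdir x₁ x₂
        exact ⟨x₃, by rw [Finset.coe_insert, Set.insert_subset_iff]; exact ⟨h1 hx₁, hx₂.trans h2⟩⟩
    obtain ⟨x, hx⟩ := this s hs
    obtain ⟨A, hA, hQ, hsA⟩ := hcT x.2 s hx
    exact ⟨A, hA.trans (le_iSup (fun x : c => (x : Subalgebra R L)) x), hQ, hsA⟩) ⊥ hbot
  -- stages inside `S`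
  have stage : ∀ x : S, ∃ A, A ≤ S ∧ Q A ∧ (x : L) ∈ A := fun x => by
    obtain ⟨A, h1, h2, h3⟩ := hS.prop {(x : L)} (by simp)
    exact ⟨A, h1, h2, by simpa using h3⟩
  haveI : Algebra.IsIntegral R S := ⟨fun x => by
    obtain ⟨A, h1, h2, h3⟩ := stage x
    haveI := h2.finite
    exact (IsIntegral.of_finite R (⟨x, h3⟩ : A)).map (Subalgebra.inclusion h1)⟩
  have hπS : ¬ IsUnit (algebraMap R S ϖ) := Groth.Agent.H3CAlg.PerfResDvr.not_isUnit_algebraMap hinj hϖ
  have hdec : ∀ x : S, x ≠ 0 → ∃ (n : ℕ) (v : Sˣ), algebraMap R S ϖ ^ n * v = x := fun x hx => by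
    obtain ⟨A, h1, h2, h3⟩ := stage x
    obtain ⟨n, v, hv⟩ := h2.unit_mul_pow hinj hϖ (x := ⟨x, h3⟩) (fun h => hx (Subtype.ext (congrArg (fun z : A => (z : L)) h)))
    refine ⟨n, Units.map (Subalgebra.inclusion h1).toMonoidHom v, ?_⟩
    have h4 := congrArg (Subalgebra.inclusion h1) hv
    rw [map_mul, map_pow, AlgHom.commutes] at h4
    exact h4.symm
  have hunit : ∀ x : S, IsUnit x ∨ algebraMap R S ϖ ∣ x := fun x => by
    by_cases hx : x = 0
    · exact Or.inr (hx ▸ dvd_zero _)
    obtain ⟨n, v, rfl⟩ := hdec x hx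
    cases n with
    | zero => exact Or.inl (by simpa using v.isUnit)
    | succ n => exact Or.inr (dvd_mul_of_dvd_left (dvd_pow_self _ n.succ_ne_zero) _)
  have hirrS : Irreducible (algebraMap R S ϖ) := by
    refine ⟨hπS, fun a b hab => ?_⟩
    rcases hunit a with ha | ⟨a', ha⟩
    · exact Or.inl ha
    rcases hunit b with hb | ⟨b', hb⟩
    · exact Or.inr hb
    exfalso
    have hne : algebraMap R S ϖ ≠ 0 := fun h0 => hirr.ne_zero (hinj (by
      rw [map_zero]; exact congrArg (fun z : S => (z : L)) h0))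
    refine hπS (isUnit_of_dvd_one ⟨a' * b', mul_left_cancel₀ hne ?_⟩)
    rw [mul_one]
    conv_lhs => rw [hab, ha, hb]
    ring
  haveI : IsDiscreteValuationRing S := IsDiscreteValuationRing.ofHasUnitMulPowIrreducibleFactorization
    ⟨algebraMap R S ϖ, hirrS, fun {x} hx => by
      obtain ⟨n, v, hv⟩ := hdec x hx
      exact ⟨n, v, hv⟩⟩
  have hmaxS : IsLocalRing.maximalIdeal S = Ideal.span {algebraMap R S ϖ} := hirrS.maximalIdeal_eq
  haveI : IsLocalHom (algebraMap R S) := (algebraMap_isIntegral_iff.mpr inferInstance).isLocalHom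
    (fun a b h => hinj (congrArg (fun z : S => (z : L)) h))
  haveI : HenselianLocalRing S := (Groth.Agent.H9Hens.henselian_of_isIntegral (R := R) (T := S)).1
  refine ⟨S, inferInstance, inferInstance, inferInstance, inferInstance, inferInstance,
    fun a b h => hinj (congrArg (fun z : S => (z : L)) h), ?_, fun s => ?_, ?_, fun y => ?_⟩
  · rw [hmax, hmaxS, Ideal.map_span, Set.image_singleton]
  · obtain ⟨A, h1, h2, h3⟩ := hS.prop (s.image Subtype.val) fun x hx => by
      obtain ⟨y, -, rfl⟩ := Finset.mem_image.mp (Finset.mem_coe.mp hx)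
      exact y.2
    haveI := h2.finite
    haveI := h2.free
    let e : A ≃ₐ[R] (Subalgebra.inclusion h1).range := AlgEquiv.ofInjective _ (Subalgebra.inclusion_injective h1)
    refine ⟨(Subalgebra.inclusion h1).range, fun x hx => ⟨⟨x, h3 (Finset.mem_image_of_mem _ hx)⟩, rfl⟩,
      Module.Finite.equiv e.toLinearEquiv, Module.Free.of_equiv e.toLinearEquiv, ?_⟩
    obtain ⟨m, hm⟩ := h2.rank
    exact ⟨m, e.toLinearEquiv.finrank_eq.symm.trans hm⟩
  · intro a
    clear_value p
    rcases hp' with _ | hpr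
    · exact ⟨a, by rw [pow_one, sub_self]; exact zero_mem _⟩
    by_contra hna
    push Not at hna
    rw [hmaxS] at hna
    obtain ⟨t, ht⟩ := IsAlgClosed.exists_pow_nat_eq (a : L) hpr.pos
    have hpϖ : ϖ ∣ (p : R) := by
      rw [← Ideal.mem_span_singleton, ← hmax, ← IsLocalRing.residue_eq_zero_iff, map_natCast]
      exact CharP.cast_eq_zero _ _
    have htS : t ∉ S := fun h => hna ⟨t, h⟩ (by
      rw [show (⟨t, h⟩ : S) ^ p = a from Subtype.ext ht, sub_self]
      exact zero_mem _)
    let S' := S ⊔ Algebra.adjoin R {t}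
    let I := {A : Subalgebra R L // A ≤ S ∧ Q A ∧ (a : L) ∈ A}
    haveI : Nonempty I := (stage a).elim fun A hA => ⟨⟨A, hA.1, hA.2.1, hA.2.2⟩⟩
    have hfg : ∀ i j : I, ∃ k : I, i.1 ≤ k.1 ∧ j.1 ≤ k.1 := fun i j => by
      haveI := i.2.2.1.finite
      haveI := j.2.2.1.finite
      obtain ⟨si, hsi⟩ := (Module.Finite.iff_fg (N := i.1.toSubmodule)).mp i.2.2.1.finite
      obtain ⟨sj, hsj⟩ := (Module.Finite.iff_fg (N := j.1.toSubmodule)).mp j.2.2.1.finite
      obtain ⟨A, h1, h2, h3⟩ := hS.prop (insert (a : L) (si ∪ sj)) (by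
        intro x hx
        simp only [Finset.coe_insert, Finset.coe_union, Set.mem_insert_iff, Set.mem_union] at hx
        rcases hx with rfl | hx | hx
        · exact a.2
        · exact i.2.1 (hsi.le (Submodule.subset_span hx))
        · exact j.2.1 (hsj.le (Submodule.subset_span hx)))
      refine ⟨⟨A, h1, h2, h3 (by simp)⟩, fun x hx => ?_, fun x hx => ?_⟩
      · exact (Submodule.span_le (p := A.toSubmodule)).mpr (fun y hy => h3 (by simp [Finset.mem_coe.mp hy])) (hsi.ge hx)
      · exact (Submodule.span_le (p := A.toSubmodule)).mpr (fun y hy => h3 (by simp [Finset.mem_coe.mp hy])) (hsj.ge hx)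
    let F : I → Subalgebra R L := fun i => i.1 ⊔ Algebra.adjoin R {t}
    have hdir : Directed (· ≤ ·) F := fun i j => by
      obtain ⟨k, h1, h2⟩ := hfg i j
      exact ⟨k, sup_le_sup_right h1 _, sup_le_sup_right h2 _⟩
    have hS'le : S' ≤ ⨆ i, F i := sup_le (fun x hx => by
        obtain ⟨A, h1, h2, h3⟩ := hS.prop {(a : L), x} (by simp [Set.insert_subset_iff, hx])
        exact le_iSup F ⟨A, h1, h2, h3 (by simp)⟩ (Algebra.mem_sup_left (h3 (by simp))))
      (le_sup_right.trans (le_iSup F (Classical.arbitrary I)))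
    have hS'T : S' ∈ T := fun s hs => by
      have hs' := hs.trans hS'le
      rw [Subalgebra.coe_iSup_of_directed hdir] at hs'
      obtain ⟨i, hi⟩ : ∃ i, (↑s : Set L) ⊆ F i := by
        clear hs
        induction s using Finset.induction_on with
        | empty => exact ⟨Classical.arbitrary I, by simp⟩
        | @insert x s hxs ih =>
          rw [Finset.coe_insert, Set.insert_subset_iff] at hs'
          obtain ⟨i₁, hi₁⟩ := Set.mem_iUnion.mp hs'.1
          obtain ⟨i₂, hi₂⟩ := ih hs'.2
          obtain ⟨i₃, h1, h2⟩ := hdir i₁ i₂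
          exact ⟨i₃, by rw [Finset.coe_insert, Set.insert_subset_iff]; exact ⟨h1 hi₁, hi₂.trans h2⟩⟩
      refine ⟨F i, sup_le_sup_right i.2.1 _, ?_, hi⟩
      refine Groth.Agent.H3CAlg.PerfResDvr.good_adjoin hinj hϖ hpr hirr.ne_zero hpϖ i.2.2.1 ⟨a, i.2.2.2⟩ t ht
        fun z hz => hna (Subalgebra.inclusion i.2.1 z) (Ideal.mem_span_singleton.mpr ?_)
      have h5 := map_dvd (Subalgebra.inclusion i.2.1) hz
      rw [map_sub, map_pow, AlgHom.commutes] at h5
      exact h5
    exact htS (hS.le_of_ge hS'T le_sup_left (Algebra.mem_sup_right (Algebra.subset_adjoin rfl)))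
  · obtain ⟨A, h1, h2, h3⟩ := stage y
    obtain ⟨m, z, hz⟩ := h2.insep ⟨y, h3⟩
    refine ⟨m, z, hmaxS ▸ Ideal.mem_span_singleton.mpr ?_⟩
    have h5 := map_dvd (Subalgebra.inclusion h1) hz
    rw [map_sub, map_pow, AlgHom.commutes, AlgHom.commutes] at h5
    exact h5

end Groth.Agent.S16360
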