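import Groth.Statements.S16361

set_option autoImplicit false
set_option backward.isDefEq.respectTransparency false
set_option backward.isDefEq.respectTransparency.types false
universe v u
open CategoryTheory CategoryTheory.Limits
open FibCat

namespace Groth.Agent.S16361

/-- Let S be a category, π_X : X ⥤ S and π_Y : Y ⥤ S be fibred in groupoids, and F : Y ⥤ X a functor
with F ⋙ π_X = π_Y. Consider the category of triples (y, x, φ) with φ : F y ≅ x an arbitrary
isomorphism of X and morphisms the compatible pairs of morphisms (the categorical pullback of F and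
the identity of X; the isomorphism φ is not required to lie over an identity of S). Its projection
to X is fibred in groupoids over X, and the composite of that projection with π_X is fibred in
groupoids over S. (The published statement also asserts that y ↦ (y, F y, id) and (y, x, φ) ↦ y form
an equivalence over S; that is not asserted here.) -/
theorem result {S : Type u} [Category.{v} S] {X : Type u} [Category.{v} X]
    {Y : Type u} [Category.{v} Y] (πX : X ⥤ S) (πY : Y ⥤ S) (hX : FibCat.IsFibGrpd πX) (hY : FibCat.IsFibGrpd πY)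
    (F : Y ⥤ X) (hF : F ⋙ πX = πY) :
    FibCat.IsFibGrpd (CategoricalPullback.π₂ F (𝟭 X)) ∧
      FibCat.IsFibGrpd (CategoricalPullback.π₂ F (𝟭 X) ⋙ πX) := by
  have hF' : ∀ y : Y, πX.obj (F.obj y) = πY.obj y := fun y => Functor.congr_obj hF y
  have key : ∀ {R T : S} {a b : Y} (f : R ⟶ T) (φ : a ⟶ b), πY.IsHomLift f φ → πX.IsHomLift f (F.map φ) := by
    intro R T a b f φ h
    refine IsHomLift.of_fac' πX f _ ((hF' a).trans (IsHomLift.domain_eq πY f φ))
      ((hF' b).trans (IsHomLift.codomain_eq πY f φ)) ?_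
    have e := Functor.congr_hom hF φ
    simp only [Functor.comp_map] at e
    rw [e, IsHomLift.fac' πY f φ]
    simp
  have hsc : ∀ {R T : S} {a b : X} (f : R ⟶ T) (φ : a ⟶ b), πX.IsHomLift f φ → πX.IsStronglyCartesian f φ := by
    intro R T a b f φ h
    have := hX.isStronglyCartesian φ
    subst_hom_lift πX f φ
    infer_instance
  have hgr : FibCat.IsFibGrpd (CategoricalPullback.π₂ F (𝟭 X)) := by
    refine ⟨fun {p x'} ψ => ?_, fun {q p} Φ => ⟨fun {r} g Ψ _ => ?_⟩⟩
    · change x' ⟶ p.snd at ψ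
      obtain ⟨y', a, ha⟩ := hY.exists_lift (x := p.fst)
        ((πX.map ψ ≫ πX.map p.iso.inv) ≫ eqToHom (hF' p.fst))
      let f := (πX.map ψ ≫ πX.map p.iso.inv) ≫ eqToHom (hF' p.fst)
      have h1 := key f a ha
      have h2 : πX.IsHomLift f (ψ ≫ p.iso.inv) :=
        IsHomLift.of_fac' πX f _ rfl (hF' p.fst) (by simp [f])
      have := hsc f _ h1
      have := hsc f _ h2
      let i := Functor.IsCartesian.domainUniqueUpToIso πX f (ψ ≫ p.iso.inv) (F.map a)
      have hi : i.hom ≫ ψ ≫ p.iso.inv = F.map a := Functor.IsCartesian.fac πX f (ψ ≫ p.iso.inv) (F.map a)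
      let q : CategoricalPullback F (𝟭 X) := { fst := y', snd := x', iso := i }
      let Φ : q ⟶ p :=
        { fst := a, snd := ψ
          w := by
            change F.map a ≫ p.iso.hom = i.hom ≫ ψ
            rw [← hi]; simp [Category.assoc] }
      exact ⟨q, Φ, IsHomLift.map (CategoricalPullback.π₂ F (𝟭 X)) Φ⟩
    · change r.snd ⟶ q.snd at g
      have hg : g ≫ Φ.snd = Ψ.snd :=
        IsHomLift.eq_of_isHomLift (CategoricalPullback.π₂ F (𝟭 X)) (g ≫ (CategoricalPullback.π₂ F (𝟭 X)).map Φ) Ψ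
      let g' : πY.obj r.fst ⟶ πY.obj q.fst :=
        eqToHom (hF' r.fst).symm ≫ πX.map (r.iso.hom ≫ g ≫ q.iso.inv) ≫ eqToHom (hF' q.fst)
      have eY : ∀ {a b : Y} (φ : a ⟶ b),
          πY.map φ = eqToHom (hF' a).symm ≫ πX.map (F.map φ) ≫ eqToHom (hF' b) := by
        intro a b φ
        have e := Functor.congr_hom hF φ
        simp only [Functor.comp_map] at e
        rw [e]; simp
      have hwF : F.map Φ.fst = q.iso.hom ≫ Φ.snd ≫ p.iso.inv := by
        rw [← Category.assoc, Iso.eq_comp_inv]; exact Φ.w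
      have hwP : F.map Ψ.fst = r.iso.hom ≫ Ψ.snd ≫ p.iso.inv := by
        rw [← Category.assoc, Iso.eq_comp_inv]; exact Ψ.w
      have hbase : g' ≫ πY.map Φ.fst = πY.map Ψ.fst := by
        rw [eY, eY, hwF, hwP, ← hg]
        simp only [g', Category.assoc, eqToHom_trans_assoc, eqToHom_refl, Category.id_comp,
          Functor.map_comp]
        have : ∀ {T : S} (k : πX.obj q.snd ⟶ T), πX.map q.iso.inv ≫ πX.map q.iso.hom ≫ k = k := by
          intro T k; rw [← Category.assoc, ← πX.map_comp, Iso.inv_hom_id]; simp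
        rw [this]
      have := hY.isStronglyCartesian Φ.fst
      obtain ⟨c, ⟨hc1, hc2⟩, hcu⟩ := Functor.IsStronglyCartesian.universal_property πY
        (πY.map Φ.fst) Φ.fst g' (πY.map Ψ.fst) hbase.symm Ψ.fst
      have hgc : g' = πY.map c := IsHomLift.eq_of_isHomLift πY g' c
      have hw : F.map c ≫ q.iso.hom = r.iso.hom ≫ g := by
        rw [← Iso.eq_comp_inv, Category.assoc]
        have hb : πX.map (F.map c) = πX.map (r.iso.hom ≫ g ≫ q.iso.inv) := by
          rw [← cancel_epi (eqToHom (hF' r.fst).symm), ← cancel_mono (eqToHom (hF' q.fst))]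
          simp only [Category.assoc]
          rw [← eY, ← hgc]
        have := hsc _ (F.map Φ.fst) (IsHomLift.map πX (F.map Φ.fst))
        have h3 : πX.IsHomLift (πX.map (F.map c)) (r.iso.hom ≫ g ≫ q.iso.inv) := hb ▸ inferInstance
        refine Functor.IsStronglyCartesian.ext πX (πX.map (F.map Φ.fst)) (F.map Φ.fst) (πX.map (F.map c)) ?_
        rw [← Functor.map_comp, hc2, hwP, hwF, ← hg]
        simp
      let χ : r ⟶ q := { fst := c, snd := g, w := hw }
      refine ⟨χ, ⟨IsHomLift.map (CategoricalPullback.π₂ F (𝟭 X)) χ,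
        CategoricalPullback.hom_ext hc2 hg⟩, ?_⟩
      rintro τ ⟨hτ, e⟩
      have ht : g = τ.snd := IsHomLift.eq_of_isHomLift (CategoricalPullback.π₂ F (𝟭 X)) g τ
      refine CategoricalPullback.hom_ext (hcu _ ⟨?_, congrArg CategoricalPullback.Hom.fst e⟩) ht.symm
      have : g' = πY.map τ.fst := by
        have hwt : F.map τ.fst = r.iso.hom ≫ τ.snd ≫ q.iso.inv := by
          rw [← Category.assoc, Iso.eq_comp_inv]; exact τ.w
        rw [eY, hwt, ← ht]
      rw [this]; infer_instance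
  refine ⟨hgr, ⟨fun {p V} f => ?_, fun {q p} Φ => ?_⟩⟩
  · obtain ⟨x', ψ, hψ⟩ := hX.exists_lift (x := p.snd) f
    obtain ⟨q, Φ, hΦ⟩ := hgr.exists_lift (x := p) ψ
    obtain rfl : q.snd = x' := IsHomLift.domain_eq (CategoricalPullback.π₂ F (𝟭 X)) ψ Φ
    obtain rfl : ψ = Φ.snd := IsHomLift.eq_of_isHomLift (CategoricalPullback.π₂ F (𝟭 X)) ψ Φ
    exact ⟨q, Φ, IsHomLift.of_fac' _ f Φ (IsHomLift.domain_eq πX f Φ.snd) rfl
      (IsHomLift.fac' πX f Φ.snd)⟩
  · have h1 := hgr.isStronglyCartesian Φ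
    have h2 := hX.isStronglyCartesian Φ.snd
    refine ⟨fun {a'} g ψ _ => ?_⟩
    have : πX.IsHomLift (g ≫ πX.map Φ.snd) ψ.snd :=
      IsHomLift.of_fac' πX _ _ rfl rfl (IsHomLift.fac' (CategoricalPullback.π₂ F (𝟭 X) ⋙ πX) (g ≫ (CategoricalPullback.π₂ F (𝟭 X) ⋙ πX).map Φ) ψ)
    obtain ⟨χ, ⟨c1, c2⟩, cu⟩ := Functor.IsStronglyCartesian.universal_property πX (πX.map Φ.snd) Φ.snd g _ rfl ψ.snd
    have : (CategoricalPullback.π₂ F (𝟭 X)).IsHomLift (χ ≫ (CategoricalPullback.π₂ F (𝟭 X)).map Φ) ψ := by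
      have : χ ≫ (CategoricalPullback.π₂ F (𝟭 X)).map Φ = (CategoricalPullback.π₂ F (𝟭 X)).map ψ := c2
      rw [this]; infer_instance
    obtain ⟨θ, ⟨d1, d2⟩, du⟩ := Functor.IsStronglyCartesian.universal_property (CategoricalPullback.π₂ F (𝟭 X))
      ((CategoricalPullback.π₂ F (𝟭 X)).map Φ) Φ χ _ rfl ψ
    refine ⟨θ, ⟨?_, d2⟩, ?_⟩
    · obtain rfl : χ = θ.snd := IsHomLift.eq_of_isHomLift (CategoricalPullback.π₂ F (𝟭 X)) χ θ
      obtain rfl : g = πX.map θ.snd := IsHomLift.eq_of_isHomLift πX g θ.snd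
      exact IsHomLift.map (CategoricalPullback.π₂ F (𝟭 X) ⋙ πX) θ
    · rintro τ ⟨t1, rfl⟩
      obtain rfl : g = πX.map τ.snd :=
        IsHomLift.eq_of_isHomLift (CategoricalPullback.π₂ F (𝟭 X) ⋙ πX) g τ
      obtain rfl : τ.snd = χ := cu τ.snd ⟨inferInstance, rfl⟩
      exact du τ ⟨IsHomLift.map (CategoricalPullback.π₂ F (𝟭 X)) τ, rfl⟩

end Groth.Agent.S16361
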