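import Groth.Statements.S16362
import Groth.Agent.H17.Imports
import Mathlib.RingTheory.Ideal.AssociatedPrime.Localization
import Mathlib.LinearAlgebra.Matrix.SpecialLinearGroup
import Mathlib.LinearAlgebra.Matrix.Transvection
import Mathlib.RingTheory.IntegralClosure.IntegrallyClosed
import Mathlib.RingTheory.Length
import Mathlib.RingTheory.Nakayama
import Mathlib.RingTheory.LocalRing.Basic

set_option autoImplicit false
universe u
open MovLem

namespace Groth.Agent.S16362

open CategoryTheory Limits AlgebraicGeometry TopologicalSpace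

/-- Let A be a commutative ring, p a prime ideal of A, and ζ, u elements of A with u not in p. Then the
quotient of the classes of ζ and u in the fraction field of the domain A ⧸ p is integral over A ⧸ p
if and only if there exist a natural number N and elements a_1, …, a_N of A such that ζ^N + a_1
ζ^(N-1) u + ⋯ + a_N u^N lies in p; equivalently, some binary form of degree N with coefficients in
A, monic in the first variable, evaluated at (ζ, u), lies in p. -/
theorem result
    {A : Type u} [CommRing A] (p : Ideal A) [p.IsPrime] (ζ u : A) (hu : u ∉ p) :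
    IsIntegral (A ⧸ p)
        (algebraMap (A ⧸ p) (FractionRing (A ⧸ p)) (Ideal.Quotient.mk p ζ) /
          algebraMap (A ⧸ p) (FractionRing (A ⧸ p)) (Ideal.Quotient.mk p u)) ↔
      ∃ (N : ℕ) (a : ℕ → A),
        ζ ^ N + ∑ i ∈ Finset.Icc 1 N, a i * ζ ^ (N - i) * u ^ i ∈ p := by
  let φ : A →+* FractionRing (A ⧸ p) := (algebraMap (A ⧸ p) (FractionRing (A ⧸ p))).comp (Ideal.Quotient.mk p)
  have hφ : ∀ x, φ x = 0 ↔ x ∈ p := fun x => by
    rw [← Ideal.Quotient.eq_zero_iff_mem]
    exact map_eq_zero_iff _ (IsFractionRing.injective (A ⧸ p) (FractionRing (A ⧸ p)))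
  have hu0 : φ u ≠ 0 := fun h => hu ((hφ u).mp h)
  have key : ∀ (N : ℕ) (a : ℕ → A), φ (ζ ^ N + ∑ i ∈ Finset.Icc 1 N, a i * ζ ^ (N - i) * u ^ i) =
      ((φ ζ / φ u) ^ N + ∑ i ∈ Finset.Icc 1 N, φ (a i) * (φ ζ / φ u) ^ (N - i)) * φ u ^ N := by
    intro N a
    rw [map_add, map_sum, add_mul, Finset.sum_mul, div_pow, div_mul_cancel₀ _ (pow_ne_zero _ hu0), map_pow]
    congr 1
    refine Finset.sum_congr rfl fun i hi => ?_
    obtain ⟨h1, h2⟩ := Finset.mem_Icc.mp hi
    rw [map_mul, map_mul, map_pow, map_pow, mul_assoc (φ (a i)), mul_assoc (φ (a i)), div_pow]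
    congr 1
    rw [div_mul_eq_mul_div, eq_div_iff (pow_ne_zero _ hu0), mul_assoc, ← pow_add, Nat.add_sub_cancel' h2]
  constructor
  · rintro ⟨P, hP, hev⟩
    refine ⟨P.natDegree, fun i => Function.surjInv Ideal.Quotient.mk_surjective (P.coeff (P.natDegree - i)), (hφ _).mp ?_⟩
    rw [key]
    refine mul_eq_zero_of_left ?_ _
    rw [Polynomial.eval₂_eq_sum_range, Finset.sum_range_succ, hP.coeff_natDegree, map_one, one_mul] at hev
    rw [add_comm, ← hev]
    congr 1
    refine Finset.sum_nbij' (fun i => P.natDegree - i) (fun i => P.natDegree - i) ?_ ?_ ?_ ?_ ?_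
    · intro i hi; simp only [Finset.mem_Icc, Finset.mem_range] at hi ⊢; omega
    · intro i hi; simp only [Finset.mem_Icc, Finset.mem_range] at hi ⊢; omega
    · intro i hi; simp only [Finset.mem_Icc] at hi; omega
    · intro i hi; simp only [Finset.mem_range] at hi; omega
    · intro i hi
      congr 1
      exact congrArg (algebraMap (A ⧸ p) (FractionRing (A ⧸ p))) (Function.surjInv_eq Ideal.Quotient.mk_surjective _)
  · rintro ⟨N, a, h⟩
    have h0 := (hφ _).mpr h
    rw [key, mul_eq_zero, or_iff_left (pow_ne_zero _ hu0)] at h0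
    refine ⟨Polynomial.X ^ N + ∑ i ∈ Finset.Icc 1 N, Polynomial.C (Ideal.Quotient.mk p (a i)) * Polynomial.X ^ (N - i),
      Polynomial.monic_X_pow_add ?_, ?_⟩
    · refine (Polynomial.degree_sum_le _ _).trans_lt ((Finset.sup_lt_iff (WithBot.bot_lt_coe N)).mpr fun i hi => ?_)
      obtain ⟨h1, h2⟩ := Finset.mem_Icc.mp hi
      exact (Polynomial.degree_C_mul_X_pow_le _ _).trans_lt (WithBot.coe_lt_coe.mpr (show N - i < N by omega))
    · simpa [φ, Polynomial.eval₂_finsetSum] using h0

end Groth.Agent.S16362
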