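import Groth.Statements.S16366
import Groth.Agent.H23MovLem.Main

set_option autoImplicit false
universe u
open CategoryTheory Limits Opposite
open MovLem

namespace Groth.Agent.S16366

open AlgebraicGeometry in
/-- Let k be an infinite field, X a scheme of finite type over k and u a global function on X such that
the open subscheme X_u where u is invertible is smooth over k. Let x be a point of X at which u is
not invertible, and let x'_1, …, x'_n be finitely many points of X_u, each of which specializes to
x. Then there exist an open neighbourhood X' of x, a unit e among the functions on X', and the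
k-morphism g : X' → A^1_k = Spec k[T] whose pulled-back coordinate T is e·u restricted to X', such
that g is smooth on some open neighbourhood of each x'_i. (Equivalently: after shrinking X around x,
the equation u of the principal divisor D = (u) is replaced by another equation e·u of the same
divisor that is smooth at the chosen points. The published statement takes D an effective Cartier
divisor, i.e. u a non-zero-divisor; that is not assumed here, and the argument does not need it.) -/
theorem result
    {k : Type u} [Field k] [Infinite k]
    (X : Scheme.{u}) (f : X ⟶ Spec (CommRingCat.of k)) [LocallyOfFiniteType f] [QuasiCompact f]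
    (u : Γ(X, ⊤)) [Smooth ((X.basicOpen u).ι ≫ f)]
    (x : ↥X) (hx : x ∉ X.basicOpen u)
    {ι : Type} [Finite ι] (x' : ι → ↥X) (hx' : ∀ i, x' i ∈ X.basicOpen u) (hgen : ∀ i, x' i ⤳ x) :
    ∃ (X' : X.Opens) (e : Γ(X, X')) (g : (↑X' : Scheme.{u}) ⟶ Spec (CommRingCat.of (Polynomial k))),
      x ∈ X' ∧ IsUnit e ∧
      g ≫ Spec.map (CommRingCat.ofHom (Polynomial.C : k →+* Polynomial k)) = X'.ι ≫ f ∧
      X'.topIso.hom (g.appTop ((Scheme.ΓSpecIso (CommRingCat.of (Polynomial k))).inv Polynomial.X)) =
        e * X.presheaf.map (homOfLE le_top).op u ∧
      ∀ i, ∃ (W : X.Opens) (hW : W ≤ X'), x' i ∈ W ∧ Smooth (X.homOfLE hW ≫ g) := by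
  exact Groth.Agent.H23MovLem.main X f u x hx x' hx' hgen

end Groth.Agent.S16366
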