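import Groth.Statements.S16367
import Mathlib.RingTheory.Ideal.Quotient.Operations
import Mathlib.Algebra.MvPolynomial.CommRing
-- import your own Groth.Agent.* helpers here

set_option autoImplicit false
universe u
open MovLem

namespace Groth.Agent.S16367

/-- The chart computation of its proof: let k be a commutative ring, P = k[x_1, …, x_d, w_1, …, w_n] a
polynomial ring in two groups of variables, u a polynomial in the x-variables alone, v a vector in
k^d, J a set of indices among the w-variables with ζ = ∏_{j ∈ J} w_j, and N ≤ s natural numbers. Let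
(f_λ) be a finite family of elements of P, each of total degree at most N in the x-variables, and
assume that ζ^N + c_1 ζ^(N-1) u + ⋯ + c_N u^N lies in the ideal generated by the f_λ for some c_1,
…, c_N ∈ P. For each λ let φ_λ ∈ P[τ] be the polynomial τ^N · f_λ(x + u^s v/τ, w), written out
monomial by monomial: a monomial a·x^m·w^m' of x-degree e = |m| contributes a · τ^(N-e) · ∏_i (τ x_i
+ u^s v_i)^(m_i) · w^m'. Then there are c'_1, …, c'_N ∈ P[τ] with (τζ)^N + c'_1 (τζ)^(N-1) u + ⋯ +
c'_N u^N in the ideal of P[τ] generated by the φ_λ. (This identity is what shows that translating a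
cycle by t·u^s·v preserves the modulus condition on the chart whose coordinates are the z_i and the
1/z_j, with τ = 1/t; integrality of ζ/u, resp. τζ/u, is expressed by such monic binary forms.) -/
theorem result
    {k : Type u} [CommRing k] (d n : ℕ) (u : MvPolynomial (Fin d) k) (v : Fin d → k)
    (J : Finset (Fin n)) (N s : ℕ) (hs : N ≤ s)
    {Λ : Type u} [Fintype Λ] (f : Λ → MvPolynomial (Fin d ⊕ Fin n) k)
    (hdeg : ∀ l, ∀ m ∈ (f l).support, ∑ i : Fin d, m (Sum.inl i) ≤ N)
    (c : ℕ → MvPolynomial (Fin d ⊕ Fin n) k)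
    (hE : (∏ j ∈ J, MvPolynomial.X (Sum.inr j)) ^ N +
        ∑ i ∈ Finset.Icc 1 N, c i * (∏ j ∈ J, MvPolynomial.X (Sum.inr j)) ^ (N - i) *
          MvPolynomial.rename Sum.inl u ^ i ∈ Ideal.span (Set.range f)) :
    ∃ c' : ℕ → Polynomial (MvPolynomial (Fin d ⊕ Fin n) k),
      (Polynomial.X * Polynomial.C (∏ j ∈ J, MvPolynomial.X (Sum.inr j))) ^ N +
        ∑ i ∈ Finset.Icc 1 N, c' i *
          (Polynomial.X * Polynomial.C (∏ j ∈ J, MvPolynomial.X (Sum.inr j))) ^ (N - i) *
            Polynomial.C (MvPolynomial.rename Sum.inl u) ^ i ∈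
      Ideal.span (Set.range fun l : Λ =>
        ∑ m ∈ (f l).support,
          Polynomial.C (MvPolynomial.C (MvPolynomial.coeff m (f l))) *
            Polynomial.X ^ (N - ∑ i : Fin d, m (Sum.inl i)) *
            (∏ i : Fin d, (Polynomial.X * Polynomial.C (MvPolynomial.X (Sum.inl i)) +
                Polynomial.C (MvPolynomial.rename Sum.inl u ^ s * MvPolynomial.C (v i))) ^ m (Sum.inl i)) *
            ∏ j : Fin n, Polynomial.C (MvPolynomial.X (Sum.inr j)) ^ m (Sum.inr j)) := by
  classical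
  set U : MvPolynomial (Fin d ⊕ Fin n) k := MvPolynomial.rename Sum.inl u with hU
  set Z : MvPolynomial (Fin d ⊕ Fin n) k := ∏ j ∈ J, MvPolynomial.X (Sum.inr j) with hZ
  set φ : Λ → Polynomial (MvPolynomial (Fin d ⊕ Fin n) k) := fun l : Λ =>
    ∑ m ∈ (f l).support,
      Polynomial.C (MvPolynomial.C (MvPolynomial.coeff m (f l))) *
        Polynomial.X ^ (N - ∑ i : Fin d, m (Sum.inl i)) *
        (∏ i : Fin d, (Polynomial.X * Polynomial.C (MvPolynomial.X (Sum.inl i)) +
            Polynomial.C (U ^ s * MvPolynomial.C (v i))) ^ m (Sum.inl i)) *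
        ∏ j : Fin n, Polynomial.C (MvPolynomial.X (Sum.inr j)) ^ m (Sum.inr j) with hφ
  have hmon : ∀ (l : Λ), f l = ∑ m ∈ (f l).support, MvPolynomial.C (MvPolynomial.coeff m (f l)) *
      ((∏ i : Fin d, MvPolynomial.X (Sum.inl i) ^ m (Sum.inl i)) *
        ∏ j : Fin n, MvPolynomial.X (Sum.inr j) ^ m (Sum.inr j)) := by
    intro l
    conv_lhs => rw [(f l).as_sum]
    refine Finset.sum_congr rfl fun m _ => ?_
    rw [MvPolynomial.monomial_eq, Finsupp.prod_fintype _ _ (fun i => pow_zero _), Fintype.prod_sum_type]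
  rcases Nat.eq_zero_or_pos N with rfl | hN
  · refine ⟨fun _ => 0, ?_⟩
    have hφ0 : ∀ l, φ l = Polynomial.C (f l) := by
      intro l
      conv_rhs => rw [hmon l, map_sum]
      refine Finset.sum_congr rfl fun m hm => ?_
      have h0 : ∀ i, m (Sum.inl i) = 0 := fun i =>
        (Finset.sum_eq_zero_iff.1 (Nat.le_zero.1 (hdeg l m hm))) i (Finset.mem_univ i)
      simp [h0]
    have h1 := Ideal.mem_map_of_mem (Polynomial.C : MvPolynomial (Fin d ⊕ Fin n) k →+* _) hE
    rw [Ideal.map_span, ← Set.range_comp] at h1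
    simp only [pow_zero, Finset.Icc_eq_empty_of_lt Nat.zero_lt_one, Finset.sum_empty, add_zero, map_one] at h1 ⊢
    convert h1 using 3
    exact funext hφ0
  let K : Ideal (Polynomial (MvPolynomial (Fin d ⊕ Fin n) k)) :=
    Ideal.span (Set.range φ) ⊔ Ideal.span {Polynomial.C U ^ N}
  have hUs : Ideal.Quotient.mk K (Polynomial.C U ^ N) = 0 :=
    Ideal.Quotient.eq_zero_iff_mem.2 (Ideal.mem_sup_right (Ideal.mem_span_singleton_self _))
  have hcong : ∀ l, Ideal.Quotient.mk K (Polynomial.X ^ N * Polynomial.C (f l)) = 0 := by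
    intro l
    have h : Ideal.Quotient.mk K (φ l) = 0 :=
      Ideal.Quotient.eq_zero_iff_mem.2 (Ideal.mem_sup_left (Ideal.subset_span ⟨l, rfl⟩))
    rw [← h, hmon l]
    simp only [hφ, map_sum, Finset.mul_sum]
    refine Finset.sum_congr rfl fun m hm => ?_
    have hUs' : Ideal.Quotient.mk K (Polynomial.C U) ^ s = 0 := by
      rw [← Nat.add_sub_cancel' hs, pow_add, show Ideal.Quotient.mk K (Polynomial.C U) ^ N = 0 from
        (map_pow _ _ _).symm.trans hUs, zero_mul]
    simp only [map_mul, map_pow, map_prod, map_add, hUs', zero_mul, add_zero,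
      Finset.prod_pow_eq_pow_sum]
    obtain ⟨j, hj⟩ := Nat.exists_eq_add_of_le (hdeg l m hm)
    rw [show N - ∑ i : Fin d, m (Sum.inl i) = j by omega]
    conv_lhs => rw [show Ideal.Quotient.mk K Polynomial.X ^ N = Ideal.Quotient.mk K Polynomial.X ^ (∑ i : Fin d, m (Sum.inl i)) * Ideal.Quotient.mk K Polynomial.X ^ j by rw [← pow_add, ← hj]]
    have key : ∀ {S : Type u} [CommRing S] (T a w : S) (b : Fin d → S) (e : Fin d → ℕ) (j : ℕ),
        T ^ (∑ i, e i) * T ^ j * (a * ((∏ x, b x ^ e x) * w)) = a * T ^ j * (∏ x, (T * b x) ^ e x) * w := by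
      intro S _ T a w b e j
      simp only [mul_pow, Finset.prod_mul_distrib, Finset.prod_pow_eq_pow_sum]
      ring
    exact key (S := Polynomial (MvPolynomial (Fin d ⊕ Fin n) k) ⧸ K) _ _ _ _ _ _
  have hmem : Polynomial.X ^ N * Polynomial.C (Z ^ N + ∑ i ∈ Finset.Icc 1 N, c i * Z ^ (N - i) * U ^ i) ∈ K := by
    obtain ⟨a, ha⟩ := Ideal.mem_span_range_iff_exists_fun.1 hE
    rw [← ha, map_sum, Finset.mul_sum]
    refine sum_mem fun l _ => ?_
    rw [map_mul, mul_left_comm]
    exact Ideal.mul_mem_left _ _ (Ideal.Quotient.eq_zero_iff_mem.1 (hcong l))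
  obtain ⟨y, hy, z, hz, hyz⟩ := Submodule.mem_sup.1 hmem
  obtain ⟨q, rfl⟩ := Ideal.mem_span_singleton'.1 hz
  refine ⟨fun i => Polynomial.X ^ i * Polynomial.C (c i) - if i = N then q else 0, ?_⟩
  convert hy using 1
  rw [eq_sub_of_add_eq hyz]
  simp only [sub_mul, Finset.sum_sub_distrib, ite_mul, zero_mul]
  rw [Finset.sum_ite_eq' (Finset.Icc 1 N) N, if_pos (Finset.mem_Icc.2 ⟨hN, le_rfl⟩), Nat.sub_self,
    pow_zero, mul_one, map_add, map_pow, mul_add, map_sum, Finset.mul_sum, mul_pow,
    ← add_sub_assoc]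
  congr 2
  refine Finset.sum_congr rfl fun i hi => ?_
  rw [map_mul, map_mul, map_pow, map_pow, mul_pow]
  conv_rhs => rw [← Nat.sub_add_cancel (Finset.mem_Icc.1 hi).2, pow_add]
  simp only [Nat.add_sub_cancel]
  ring

end Groth.Agent.S16367
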