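import Groth.Statements.S16368
import Mathlib

set_option autoImplicit false
universe u v
open TensorProduct
open FrobAlg

namespace Groth.Agent.S16368

/-- Let R be a local ring of prime characteristic p and M a finitely presented R-module. Write R' for R
regarded as an R-algebra through its Frobenius a ↦ a^p, so that R' ⊗_R M is the pull-back of M along
the absolute Frobenius of Spec R, an R'-module. If this pull-back is isomorphic to M — there is a
bijective map e : R' ⊗_R M → M, additive and semilinear for the identification R' = R — then M is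
free. -/
theorem result
    (p : ℕ) [Fact p.Prime] (R : Type u) [CommRing R] [IsLocalRing R] [CharP R p]
    (M : Type v) [AddCommGroup M] [Module R M] [Module.FinitePresentation R M]
    (e : (FrobAlg.Twist p R ⊗[R] M) →ₛₗ[((FrobAlg.toTwist p R).symm : FrobAlg.Twist p R →+* R)] M)
    (he : Function.Bijective e) :
    Module.Free R M := by
  classical
  let k := IsLocalRing.ResidueField R
  let b := Module.Free.chooseBasis k (k ⊗[R] M)
  have hlift : ∀ i, ∃ m : M, (1 : k) ⊗ₜ[R] m = b i := by
    intro i
    exact TensorProduct.mk_surjective R M k IsLocalRing.residue_surjective (b i)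
  choose x hx using hlift
  have hspan : Submodule.span R (Set.range x) = ⊤ :=
    IsLocalRing.span_eq_top_of_tmul_eq_basis x b hx
  -- the presentation
  let π : ((Module.Free.ChooseBasisIndex k (k ⊗[R] M)) → R) →ₗ[R] M :=
    Fintype.linearCombination R x
  have hπ : Function.Surjective π := by
    rw [← LinearMap.range_eq_top, Fintype.range_linearCombination, hspan]
  let K := LinearMap.ker π
  have hKfg : K.FG := Module.FinitePresentation.fg_ker π hπ
  have hKm : ∀ c ∈ K, ∀ i, c i ∈ IsLocalRing.maximalIdeal R := by
    intro c hc i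
    have h0 : ∑ j, c j • x j = 0 := by
      simpa [K, π, Fintype.linearCombination_apply] using hc
    have h1 : ∑ j, (algebraMap R k (c j)) • b j = 0 := by
      have := congrArg (fun m : M => (1 : k) ⊗ₜ[R] m) h0
      simpa [TensorProduct.tmul_sum, TensorProduct.tmul_smul, ← hx, algebraMap_smul] using this
    have h2 := Fintype.linearIndependent_iff.mp b.linearIndependent _ h1 i
    exact (Ideal.Quotient.eq_zero_iff_mem).mp h2
  let I : Ideal R := ⨆ i, K.map (LinearMap.proj i)
  have hImem : ∀ c ∈ K, ∀ i, c i ∈ I := fun c hc i =>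
    Submodule.mem_iSup_of_mem i ⟨c, hc, rfl⟩
  have hIfg : I.FG := by
    have : ∀ i, (K.map (LinearMap.proj i : _ →ₗ[R] R)).FG := fun i => hKfg.map _
    exact Submodule.fg_iSup _ this
  -- the transported generators
  let y : (Module.Free.ChooseBasisIndex k (k ⊗[R] M)) → M := fun i => e ((1 : Twist p R) ⊗ₜ[R] x i)
  have hey : ∀ c : (Module.Free.ChooseBasisIndex k (k ⊗[R] M)) → Twist p R,
      e (∑ i, c i ⊗ₜ[R] x i) = ∑ i, (toTwist p R).symm (c i) • y i := by
    intro c
    rw [map_sum]
    refine Finset.sum_congr rfl fun i _ => ?_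
    have h1 : c i ⊗ₜ[R] x i = c i • ((1 : Twist p R) ⊗ₜ[R] x i) := by
      rw [TensorProduct.smul_tmul', smul_eq_mul, mul_one]
    rw [h1, LinearMap.map_smulₛₗ]
    rfl
  have hygen : Submodule.span R (Set.range y) = ⊤ := by
    rw [eq_top_iff]
    rintro m -
    obtain ⟨z, rfl⟩ := he.2 m
    induction z using TensorProduct.induction_on with
    | zero => rw [map_zero]; exact zero_mem _
    | add a b ha hb => rw [map_add]; exact add_mem ha hb
    | tmul t m =>
      obtain ⟨a, rfl⟩ := hπ m
      have h1 : t ⊗ₜ[R] π a = ∑ i, (a i • t) ⊗ₜ[R] x i := by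
        simp [π, Fintype.linearCombination_apply, TensorProduct.tmul_sum,
          TensorProduct.smul_tmul]
      rw [h1, hey]
      exact sum_mem fun i _ => Submodule.smul_mem _ _ (Submodule.subset_span ⟨i, rfl⟩)
  -- relations between the y's are p-th power relations
  have hrel : ∀ d : (Module.Free.ChooseBasisIndex k (k ⊗[R] M)) → R,
      ∑ i, d i • y i = 0 → ∀ i, d i ∈ IsLocalRing.maximalIdeal R * I := by
    intro d hd i
    have hz : ∑ j, toTwist p R (d j) ⊗ₜ[R] x j = 0 := by
      apply he.1
      rw [map_zero, hey]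
      simpa using hd
    have hex : Function.Exact (K.subtype.lTensor (Twist p R)) (π.lTensor (Twist p R)) :=
      lTensor_exact (Twist p R) (LinearMap.exact_subtype_ker_map π) hπ
    have hker : π.lTensor (Twist p R)
        (∑ j, toTwist p R (d j) ⊗ₜ[R] (Pi.single j (1 : R))) = 0 := by
      rw [map_sum, ← hz]
      refine Finset.sum_congr rfl fun j _ => ?_
      simp [π, Fintype.linearCombination_apply_single]
    obtain ⟨z, hz'⟩ := (hex _).mp hker
    let ψ : Twist p R ⊗[R] ((Module.Free.ChooseBasisIndex k (k ⊗[R] M)) → R) →ₗ[R] Twist p R :=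
      (TensorProduct.rid R (Twist p R)).toLinearMap ∘ₗ (LinearMap.proj i).lTensor (Twist p R)
    have h1 : ψ (∑ j, toTwist p R (d j) ⊗ₜ[R] (Pi.single j (1 : R))) = toTwist p R (d i) := by
      simp [ψ, map_sum, Pi.single_apply]
    have h2 : ∀ z : Twist p R ⊗[R] K,
        (toTwist p R).symm (ψ (K.subtype.lTensor (Twist p R) z)) ∈
          IsLocalRing.maximalIdeal R * I := by
      intro z
      induction z using TensorProduct.induction_on with
      | zero => simp
      | add a b ha hb => simp only [map_add]; exact add_mem ha hb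
      | tmul t c =>
        have h3 : (toTwist p R).symm (ψ (K.subtype.lTensor (Twist p R) (t ⊗ₜ[R] c)))
            = (c.1 i) ^ p * (toTwist p R).symm t := by
          simp only [ψ, LinearMap.coe_comp, Function.comp_apply, LinearMap.lTensor_tmul,
            LinearEquiv.coe_coe, TensorProduct.rid_tmul, Algebra.smul_def,
            FrobAlg.algebraMap_twist, map_mul, RingEquiv.symm_apply_apply]
          rfl
        rw [h3]
        refine Ideal.mul_mem_right _ _ ?_
        obtain ⟨q, hq⟩ : ∃ q, p = q + 2 := ⟨p - 2, by have := (Fact.out : p.Prime).two_le; omega⟩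
        rw [hq, pow_succ, pow_succ]
        exact Ideal.mul_mem_mul (Ideal.mul_mem_left _ _ (hKm c.1 c.2 i)) (hImem c.1 c.2 i)
    have := h2 z
    rw [hz', h1] at this
    simpa using this
  -- compare the two systems of generators
  have hy : ∀ i, ∃ t : (Module.Free.ChooseBasisIndex k (k ⊗[R] M)) → R, π t = y i :=
    fun i => hπ (y i)
  choose T hT using hy
  have hx' : ∀ i, ∃ u : (Module.Free.ChooseBasisIndex k (k ⊗[R] M)) → R, ∑ j, u j • y j = x i :=
    fun i => (Submodule.mem_span_range_iff_exists_fun R).mp (hygen ▸ Submodule.mem_top)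
  choose U hU using hx'
  have hUT : ∀ a, (fun l => ∑ j, U a j * T j l - (Pi.single a (1 : R) :
      (Module.Free.ChooseBasisIndex k (k ⊗[R] M)) → R) l) ∈ K := by
    intro a
    show π _ = 0
    have e1 : (fun l => ∑ j, U a j * T j l - (Pi.single a (1 : R) :
        (Module.Free.ChooseBasisIndex k (k ⊗[R] M)) → R) l) =
        (∑ j, U a j • T j) - Pi.single a (1 : R) := by
      funext l; simp
    rw [e1, map_sub, map_sum]
    simp only [map_smul, hT, hU]
    simp [π, Fintype.linearCombination_apply_single]
  have hI : I ≤ IsLocalRing.maximalIdeal R • I := by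
    refine iSup_le fun i => ?_
    rintro _ ⟨c, hc, rfl⟩
    show c i ∈ _
    rw [smul_eq_mul]
    have h0 : ∑ a, c a • x a = 0 := by
      simpa [K, π, Fintype.linearCombination_apply] using hc
    have hd : ∑ j, (∑ a, c a * U a j) • y j = 0 := by
      rw [← h0]
      simp_rw [← hU, Finset.smul_sum, Finset.sum_smul, mul_smul]
      exact Finset.sum_comm
    have hd' := hrel _ hd
    have h1 : c i = ∑ j, (∑ a, c a * U a j) * T j i -
        ∑ a, c a * (∑ j, U a j * T j i - (Pi.single a (1 : R) :
      (Module.Free.ChooseBasisIndex k (k ⊗[R] M)) → R) i) := by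
      simp only [mul_sub, Finset.sum_sub_distrib, Finset.sum_mul, Finset.mul_sum, mul_assoc]
      rw [Finset.sum_comm (f := fun j a => c a * (U a j * T j i))]
      simp [Pi.single_apply]
    rw [h1]
    refine sub_mem (sum_mem fun j _ => Ideal.mul_mem_right _ _ (hd' j)) (sum_mem fun a _ => ?_)
    rw [mul_comm (IsLocalRing.maximalIdeal R) I]
    exact Ideal.mul_mem_mul (hImem c hc a) (hKm _ (hUT a) i)
  have hI0 : I = ⊥ :=
    Submodule.eq_bot_of_le_smul_of_le_jacobson_bot _ I hIfg hI
      (IsLocalRing.maximalIdeal_le_jacobson _)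
  have hK0 : LinearMap.ker π = ⊥ := by
    rw [eq_bot_iff]
    intro c hc
    rw [Submodule.mem_bot]
    funext i
    have := hImem c hc i
    rw [hI0] at this
    simpa using this
  exact Module.Free.of_equiv (LinearEquiv.ofBijective π ⟨LinearMap.ker_eq_bot.mp hK0, hπ⟩)

end Groth.Agent.S16368
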