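import Groth.Statements.S16369
import Groth.Agent.H10Coh.Proper2
import Mathlib.FieldTheory.Perfect
import Mathlib.LinearAlgebra.FiniteDimensional.Lemmas

set_option autoImplicit false
universe u
open CategoryTheory AlgebraicGeometry Opposite
open FrobSch

namespace Groth.Agent.S16369

/-- (i) ⇒ (ii): let k be a perfect field of characteristic p and X a scheme proper over k. Let φ be the
p-th power map on the sheaf of additive groups underlying O_X and B its cokernel in abelian sheaves
(for X smooth over k this is the sheaf B¹ of locally exact one-forms, pushed down along Frobenius).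
If X is Frobenius split — φ admits a retraction s, an additive endomorphism of O_X with s(t^p) = t
and s(a^p·b) = a·s(b) on every open — then H^i(X, B) = 0 for every i. (The source states this for X
normal; normality is not used for this implication, and a split X is reduced anyway.) -/
theorem result
    (p : ℕ) [Fact p.Prime] (k : Type u) [Field k] [CharP k p] [PerfectField k]
    (X : Scheme.{u}) [X.Over (Spec (CommRingCat.of k))] [IsProper (X ↘ Spec (CommRingCat.of k))]
    (φ : Coh.toAb (Coh.structureModule X) ⟶ Coh.toAb (Coh.structureModule X))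
    (hφ : ∀ (U : X.Opens) (t : Γ(X, U)), φ.hom.app (op U) t = t ^ p)
    (s : Coh.toAb (Coh.structureModule X) ⟶ Coh.toAb (Coh.structureModule X))
    (hs : φ ≫ s = 𝟙 _)
    (hlin : ∀ (U : X.Opens) (a b : Γ(X, U)),
      s.hom.app (op U) (a ^ p * b) = a * @id Γ(X, U) (s.hom.app (op U) b))
    (i : ℕ) : Subsingleton (Sheaf.H (Limits.cokernel φ) i) := by
  obtain ⟨σ, hσ⟩ : ∃ σ : Limits.cokernel φ ⟶ Coh.toAb (Coh.structureModule X),
      σ ≫ Limits.cokernel.π φ = 𝟙 _ := by
    refine ⟨Limits.cokernel.desc φ (𝟙 _ - s ≫ φ) ?_, ?_⟩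
    · rw [Preadditive.comp_sub, Category.comp_id, ← Category.assoc, hs, Category.id_comp, sub_self]
    · apply Limits.coequalizer.hom_ext
      rw [Limits.cokernel.π_desc_assoc, Category.comp_id, Preadditive.sub_comp, Category.id_comp,
        Category.assoc, Limits.cokernel.condition, Limits.comp_zero, sub_zero]
  have hinj : Function.Injective (Sheaf.H.map φ i) := fun x y h => by
    have h' := congrArg (Sheaf.H.map s i) h
    rwa [← Sheaf.H.map_comp_apply, ← Sheaf.H.map_comp_apply, hs, Sheaf.H.map_id_apply,
      Sheaf.H.map_id_apply] at h'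
  haveI : CharP k p := inferInstance
  haveI : PerfectRing k p := PerfectField.toPerfectRing p
  have hsl : ∀ (a : k) (x : Coh.HH X (Coh.structureModule X) i),
      Sheaf.H.map φ i (a • x) = (a ^ p) • (Sheaf.H.map φ i x : Coh.HH X (Coh.structureModule X) i) := by
    intro a x
    have hcomm : ∀ r : Coh.Γtop X,
        Coh.smulAb (Coh.structureModule X) r ≫ φ = φ ≫ Coh.smulAb (Coh.structureModule X) (r ^ p) := by
      intro r
      ext U m
      change φ.hom.app U ((Coh.smulAb (Coh.structureModule X) r).hom.app U m) =
        (Coh.smulAb (Coh.structureModule X) (r ^ p)).hom.app U (φ.hom.app U m)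
      rw [Coh.smulAb_app, Coh.smulAb_app, map_pow]
      obtain ⟨U⟩ := U
      refine (hφ U _).trans ?_
      refine Eq.trans (mul_pow (show Γ(X, U) from Coh.resTop X (op U) r) (show Γ(X, U) from m) p) ?_
      exact congrArg (fun t : Γ(X, U) => (show Γ(X, U) from Coh.resTop X (op U) r) ^ p * t) (hφ U m).symm
    change Sheaf.H.map φ i (Sheaf.H.map (Coh.smulAb _ (Coh.toGlobal (X ↘ Spec (CommRingCat.of k)) a)) i x) =
      Sheaf.H.map (Coh.smulAb _ (Coh.toGlobal (X ↘ Spec (CommRingCat.of k)) (a ^ p))) i (Sheaf.H.map φ i x)
    rw [← Sheaf.H.map_comp_apply, ← Sheaf.H.map_comp_apply, hcomm, map_pow]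
  haveI : IsLocallyNoetherian X := LocallyOfFiniteType.isLocallyNoetherian (X ↘ Spec (CommRingCat.of k))
  haveI : Module.Finite k (Coh.HH X (Coh.structureModule X) i) :=
    Groth.Agent.H10Coh.finite_HH_proper k X _ (Groth.Agent.H10Coh.isCoh_structureModule' X) i
  have hsurj : Function.Surjective (Sheaf.H.map φ i) := by
    let V := Coh.HH X (Coh.structureModule X) i
    let f : V →ₛₗ[frobenius k p] V :=
      { toFun := fun x => Sheaf.H.map φ i x
        map_add' := fun x y => map_add _ x y
        map_smul' := fun a x => hsl a x }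
    haveI : RingHomSurjective (frobenius k p) := ⟨(bijective_frobenius k p).2⟩
    let b := Module.finBasis k V
    have hli : LinearIndependent k (fun j => f (b j)) := by
      rw [Fintype.linearIndependent_iff]
      intro g hg j
      choose d hd using fun j => (bijective_frobenius k p).2 (g j)
      have h0 : f (∑ j, d j • b j) = 0 := by
        rw [map_sum]
        simp_rw [map_smulₛₗ, hd]
        exact hg
      have h1 : (∑ j, d j • b j) = 0 := hinj (h0.trans (map_zero (Sheaf.H.map φ i)).symm)
      rw [← hd j, Fintype.linearIndependent_iff.1 b.linearIndependent d h1 j, map_zero]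
    intro y
    have hspan := hli.span_eq_top_of_card_eq_finrank' (Fintype.card_fin _)
    have hy : (y : V) ∈ LinearMap.range f := by
      have hle : Submodule.span k (Set.range fun j => f (b j)) ≤ LinearMap.range f :=
        Submodule.span_le.2 (by rintro _ ⟨j, rfl⟩; exact ⟨b j, rfl⟩)
      exact hle (hspan ▸ Submodule.mem_top)
    exact hy
  refine subsingleton_of_forall_eq 0 fun b => ?_
  obtain ⟨x, hx⟩ := hsurj (Sheaf.H.map σ i b)
  have h := congrArg (Sheaf.H.map (Limits.cokernel.π φ) i) hx
  rw [← Sheaf.H.map_comp_apply, ← Sheaf.H.map_comp_apply, hσ, Sheaf.H.map_id_apply,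
    Limits.cokernel.condition] at h
  rw [← h]
  change ((Sheaf.functorH _ i).map (0 : Coh.toAb (Coh.structureModule X) ⟶ Limits.cokernel φ)).hom x = 0
  rw [Functor.map_zero]
  rfl

end Groth.Agent.S16369
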