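import Groth.Statements.S16370
import Mathlib

set_option autoImplicit false
universe u
open CategoryTheory AlgebraicGeometry Opposite
open FrobSch

namespace Groth.Agent.S16370

/-- (ii) ⇒ (iii): let X be a reduced scheme of prime characteristic p, φ the p-th power map on the sheaf
of additive groups underlying O_X (a monomorphism, X being reduced) and B its cokernel in abelian
sheaves. If H^i(X, B) = 0 for all i ≥ 0, then the endomorphism of H^i(X, O_X) induced by φ — the
Hasse–Witt operation — is bijective for all i. (The source has X normal and proper over a perfect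
field; only reducedness enters this implication.) -/
theorem result
    (p : ℕ) [Fact p.Prime] (X : Scheme.{u}) [IsReduced X] (hp : (p : Γ(X, ⊤)) = 0)
    (φ : Coh.toAb (Coh.structureModule X) ⟶ Coh.toAb (Coh.structureModule X))
    (hφ : ∀ (U : X.Opens) (t : Γ(X, U)), φ.hom.app (op U) t = t ^ p)
    (hB : ∀ i : ℕ, Subsingleton (Sheaf.H (Limits.cokernel φ) i))
    (i : ℕ) : Function.Bijective (Sheaf.H.map φ i) := by
  have hinj : ∀ U, Function.Injective (φ.hom.app (op U)) := by
    intro U a b h
    let A : Γ(X, U) := a
    let B : Γ(X, U) := b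
    have h' : A ^ p = B ^ p := (hφ U A).symm.trans (h.trans (hφ U B))
    have hp' : (p : Γ(X, U)) = 0 := by
      have := congrArg (X.presheaf.map (homOfLE (le_top : U ≤ ⊤)).op).hom hp
      simpa using this
    rcases subsingleton_or_nontrivial Γ(X, U) with hs | hs
    · exact @Subsingleton.elim _ hs _ _
    · haveI : CharP Γ(X, U) p := (CharP.charP_iff_prime_eq_zero Fact.out).mpr hp'
      have h3 : (A - B) ^ p = 0 := by rw [sub_pow_char, h', sub_self]
      exact (sub_eq_zero.mp (eq_zero_of_pow_eq_zero h3) : A = B)
  haveI : ∀ U, Mono (φ.hom.app U) := fun U => (AddCommGrpCat.mono_iff_injective _).mpr (hinj U.unop)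
  haveI : Mono φ.hom := NatTrans.mono_of_mono_app _
  haveI : Mono φ := (sheafToPresheaf _ _).mono_of_mono_map (inferInstanceAs (Mono φ.hom))
  let S := ShortComplex.mk φ (Limits.cokernel.π φ) (Limits.cokernel.condition φ)
  have hS : S.ShortExact :=
    { exact := ShortComplex.exact_cokernel φ
      mono_f := inferInstanceAs (Mono φ)
      epi_g := inferInstanceAs (Epi (Limits.cokernel.π φ)) }
  constructor
  · rw [injective_iff_map_eq_zero]
    intro x hx
    cases i with
    | zero =>
      apply Abelian.Ext.addEquiv₀.injective
      rw [map_zero, ← cancel_mono φ, Limits.zero_comp, ← Sheaf.H.addEquiv₀_map, hx, map_zero]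
    | succ j =>
      obtain ⟨y, rfl⟩ := Abelian.Ext.covariant_sequence_exact₁ _ hS x hx rfl
      haveI := hB j
      rw [show y = 0 from Subsingleton.elim (α := Sheaf.H (Limits.cokernel φ) j) y 0, Abelian.Ext.zero_comp]
  · intro x
    haveI := hB i
    obtain ⟨y, hy⟩ := Abelian.Ext.covariant_sequence_exact₂ _ hS x
      (Subsingleton.elim (α := Sheaf.H (Limits.cokernel φ) i) _ _)
    exact ⟨y, hy⟩

end Groth.Agent.S16370
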