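import Groth.Statements.S16373
import Mathlib

set_option autoImplicit false
universe u
open FrobAlg

namespace Groth.Agent.S16373

/-- Let p be a prime, m ≥ 1, R a commutative ring with p = 0 in R and σ : W_m(R) → R a quasi-F-splitting
of level m (additive, σ(1) = 1, σ(F(x)·y) = x₀·σ(y) with F the componentwise p-th power). Let I ⊆
W_{m+1}(R) be the ideal generated by the shifts V(x) of the x with σ(x) = 0, and Q = W_{m+1}(R)/I.
Then Q is a flat lifting of R modulo p²: an element of Q lies in pQ exactly when the first Witt
component of a representative vanishes (so Q/pQ is R through the first component), and an element of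
Q is killed by p exactly when it lies in pQ. (Stated for a ring; the source has a scheme over the
prime field. For m = 1 this is the lifting attached to a Frobenius splitting.) -/
theorem result
    (p : ℕ) [Fact p.Prime] (m : ℕ) (hm : 0 < m) (R : Type u) [CommRing R] (hp : (p : R) = 0)
    (σ : TruncatedWittVector p m R →+ R) (h1 : σ 1 = 1)
    (hF : ∀ x y : TruncatedWittVector p m R, σ (WittGrp.frob p m hp x * y) = x.coeff ⟨0, hm⟩ * σ y)
    (I : Ideal (TruncatedWittVector p (m + 1) R))
    (hI : I = Ideal.span (WittGrp.shift p (Nat.le_succ m) '' {x : TruncatedWittVector p m R | σ x = 0})) :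
    (∀ w : TruncatedWittVector p (m + 1) R,
        Ideal.Quotient.mk I w ∈ Ideal.span ({(p : TruncatedWittVector p (m + 1) R ⧸ I)} : Set _) ↔
          w.coeff 0 = 0) ∧
    (∀ q : TruncatedWittVector p (m + 1) R ⧸ I,
        (p : TruncatedWittVector p (m + 1) R ⧸ I) * q = 0 ↔
          q ∈ Ideal.span ({(p : TruncatedWittVector p (m + 1) R ⧸ I)} : Set _)) := by
  rcases subsingleton_or_nontrivial R with hR | hR
  · haveI : Subsingleton (TruncatedWittVector p (m + 1) R) :=
      ⟨fun a b => TruncatedWittVector.ext fun _ => Subsingleton.elim _ _⟩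
    haveI : Subsingleton (TruncatedWittVector p (m + 1) R ⧸ I) :=
      Ideal.Quotient.mk_surjective.subsingleton
    exact ⟨fun w => iff_of_true (by rw [Subsingleton.elim (Ideal.Quotient.mk I w) 0]; exact zero_mem _)
      (Subsingleton.elim _ _), fun q => iff_of_true (Subsingleton.elim _ _)
      (by rw [Subsingleton.elim q 0]; exact zero_mem _)⟩
  haveI : CharP R p := (CharP.charP_iff_prime_eq_zero Fact.out).mpr hp
  let sh : TruncatedWittVector p m R →+ TruncatedWittVector p (m + 1) R := WittGrp.shift p (Nat.le_succ m)
  let tr := TruncatedWittVector.truncate (p := p) (R := R) (Nat.le_succ m)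
  have hmul : ∀ (a : TruncatedWittVector p (m + 1) R) (x : TruncatedWittVector p m R),
      a * sh x = sh (WittGrp.frob p m hp (tr a) * x) := by
    intro a x
    obtain ⟨A, rfl⟩ := WittVector.truncate_surjective p (m + 1) R a
    obtain ⟨X, rfl⟩ := WittVector.truncate_surjective p m R x
    have e : tr (WittVector.truncate (m + 1) A) = WittVector.truncate m A :=
      TruncatedWittVector.truncate_wittVector_truncate (Nat.le_succ m) A
    simp only [sh, WittGrp.shift_truncate, e, WittGrp.frob_truncate p m hp A, ← map_mul,
      show (m + 1) - m = 1 by omega, Function.iterate_one]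
    rw [mul_comm (WittVector.frobenius A) X, WittVector.verschiebung_mul_frobenius, mul_comm]
  have hp1 : sh 1 = (p : TruncatedWittVector p (m + 1) R) := by
    rw [← map_one (WittVector.truncate (p := p) (R := R) m)]
    simp only [sh, WittGrp.shift_truncate, show (m + 1) - m = 1 by omega, Function.iterate_one]
    rw [show WittVector.verschiebung (1 : WittVector p R) = (p : WittVector p R) by
      conv_lhs => rw [← map_one (WittVector.frobenius (p := p) (R := R))]
      rw [WittVector.verschiebung_frobenius, one_mul], map_natCast]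
  have hpmul : ∀ a, (p : TruncatedWittVector p (m + 1) R) * a = sh (WittGrp.frob p m hp (tr a)) := fun a => by
    rw [← hp1, mul_comm, hmul, mul_one]
  have hc0 : ∀ x, (sh x).coeff 0 = 0 := fun x => by
    simp only [sh]
    rw [WittGrp.coeff_shift, dif_neg (by simp)]
  have hshinj : Function.Injective sh := by
    intro x y h
    ext i
    have h' := congrArg (fun z : TruncatedWittVector p (m + 1) R => z.coeff ⟨i.val + 1, by omega⟩) h
    simp only [sh, WittGrp.coeff_shift] at h'
    rw [dif_pos (by simp), dif_pos (by simp)] at h'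
    simpa [show i.val + 1 - (m + 1 - m) = i.val by omega] using h'
  have htr : ∀ a, (tr a).coeff ⟨0, hm⟩ = a.coeff 0 := fun a => by
    simp only [tr]
    rw [TruncatedWittVector.coeff_truncate]
    rfl
  -- the ideal is the image of the kernel of the splitting
  let J : Ideal (TruncatedWittVector p (m + 1) R) :=
    { carrier := sh '' {x | σ x = 0}
      zero_mem' := ⟨0, map_zero σ, map_zero sh⟩
      add_mem' := by
        rintro _ _ ⟨x, hx, rfl⟩ ⟨y, hy, rfl⟩
        exact ⟨x + y, by simp [show σ x = 0 from hx, show σ y = 0 from hy], map_add sh x y⟩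
      smul_mem' := by
        rintro a _ ⟨x, hx, rfl⟩
        exact ⟨_, by simp [hF, show σ x = 0 from hx], (hmul a x).symm⟩ }
  have hIJ : I = J := by
    rw [hI]
    exact le_antisymm (Ideal.span_le.mpr fun z hz => hz) fun z hz => Ideal.subset_span hz
  have key : ∀ w : TruncatedWittVector p (m + 1) R, w.coeff 0 = 0 → ∃ a,
      Ideal.Quotient.mk I w = (p : TruncatedWittVector p (m + 1) R ⧸ I) * Ideal.Quotient.mk I a := by
    intro w hw
    let y : TruncatedWittVector p m R := TruncatedWittVector.mk p fun i => w.coeff i.succ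
    have hy : sh y = w := by
      ext i
      simp only [sh, WittGrp.coeff_shift, y, TruncatedWittVector.coeff_mk]
      rcases Fin.eq_zero_or_eq_succ i with rfl | ⟨j, rfl⟩
      · rw [dif_neg (by simp), hw]
      · rw [dif_pos (by simp)]
        congr 1
        exact Fin.ext (by simp)
    let a : TruncatedWittVector p (m + 1) R :=
      WittVector.truncate (m + 1) (WittVector.teichmuller p (σ y))
    have ha : a.coeff 0 = σ y := by
      simp only [a, WittVector.coeff_truncate, Fin.val_zero, WittVector.teichmuller_coeff_zero]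
    refine ⟨a, ?_⟩
    rw [← map_natCast (Ideal.Quotient.mk I), ← map_mul, Ideal.Quotient.eq, hIJ]
    refine ⟨y - WittGrp.frob p m hp (tr a), ?_, by rw [map_sub, hy, hpmul]⟩
    show σ _ = 0
    have := hF (tr a) 1
    rw [mul_one] at this
    rw [map_sub, this, h1, mul_one, htr, ha, sub_self]
  have h0 : ∀ a : TruncatedWittVector p (m + 1) R, ((p : TruncatedWittVector p (m + 1) R) * a).coeff 0 = 0 :=
    fun a => by rw [hpmul, hc0]
  have part1 : ∀ w : TruncatedWittVector p (m + 1) R,
      Ideal.Quotient.mk I w ∈ Ideal.span ({(p : TruncatedWittVector p (m + 1) R ⧸ I)} : Set _) ↔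
        w.coeff 0 = 0 := by
    intro w
    rw [Ideal.mem_span_singleton']
    refine ⟨?_, fun hw => ?_⟩
    · rintro ⟨c, hc⟩
      obtain ⟨c, rfl⟩ := Ideal.Quotient.mk_surjective c
      rw [← map_natCast (Ideal.Quotient.mk I), ← map_mul, mul_comm, hpmul, Ideal.Quotient.eq, hIJ] at hc
      obtain ⟨x, -, hx⟩ := hc
      have hw : w = sh (WittGrp.frob p m hp (tr c) - x) := by rw [map_sub, hx]; abel
      rw [hw, hc0]
    · obtain ⟨a, ha⟩ := key w hw
      exact ⟨_, (mul_comm _ _).trans ha.symm⟩
  refine ⟨part1, fun q => ?_⟩
  obtain ⟨w, rfl⟩ := Ideal.Quotient.mk_surjective q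
  rw [part1, ← map_natCast (Ideal.Quotient.mk I), ← map_mul, Ideal.Quotient.eq_zero_iff_mem, hpmul, hIJ]
  constructor
  · rintro ⟨x, hx, hxw⟩
    have := hF (tr w) 1
    rw [mul_one, ← hshinj hxw, show σ x = 0 from hx, h1, mul_one] at this
    rw [← htr, ← this]
  · intro hw
    refine ⟨_, ?_, rfl⟩
    have := hF (tr w) 1
    rw [mul_one, h1, mul_one, htr, hw] at this
    exact this

end Groth.Agent.S16373
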