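import Groth.Statements.S16374
import Groth.Agent.H27Frob.Small

set_option autoImplicit false
universe u v w
open FrobAlg

namespace Groth.Agent.S16374

/-- Let p be a prime, A a commutative ring, B and C commutative A-algebras with p² = 0 in B, and g : C →
B an A-algebra map such that every g(c) is congruent modulo p to an element of the A-subalgebra of B
generated by the p-th powers (g lifts a relative Frobenius). Then d(g(x)) = 0 in the module of
Kähler differentials of B over A for every x ∈ C that is congruent modulo p to an element of the
A-subalgebra of C generated by the p-th powers. (The source works with a lifting of the relative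
Frobenius of a smooth scheme over a ℤ/p²-thickening and the subsheaf of functions whose reduction
comes from the Frobenius twist; smoothness is not needed for this vanishing.) -/
theorem result
    (p : ℕ) [Fact p.Prime] (A : Type u) [CommRing A] (B : Type v) [CommRing B] [Algebra A B]
    (C : Type w) [CommRing C] [Algebra A C] (hp : (p : B) ^ 2 = 0)
    (g : C →ₐ[A] B)
    (hg : ∀ c : C, ∃ u ∈ Algebra.adjoin A (Set.range fun b : B => b ^ p),
      g c - u ∈ Ideal.span ({(p : B)} : Set B))
    (x y : C) (hy : y ∈ Algebra.adjoin A (Set.range fun c : C => c ^ p))
    (hxy : x - y ∈ Ideal.span ({(p : C)} : Set C)) :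
    KaehlerDifferential.D A B (g x) = 0 := by
  exact Groth.Agent.H27Frob.kaehlerD_map_eq_zero A B C hp g hg x y hy hxy

end Groth.Agent.S16374
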