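import Groth.Statements.S16376
import Groth.Agent.H16Derived.FMKWit.Main

set_option autoImplicit false
universe u
open CategoryTheory CategoryTheory.Limits AlgebraicGeometry
attribute [local instance] HasDerivedCategory.standard
open FMK

namespace Groth.Agent.S16376

/-- Let k be an algebraically closed field, X and Y schemes proper over k with structure morphisms a and
b, L an ample invertible O_Y-module (so Y is projective), and P a cochain complex of modules on X
×_k Y defining a perfect object. Write Φ_P = Rpr_{Y,*}(Lpr_X^*(−) ⊗^L P) : D(O_X) → D(O_Y), Ψ_P =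
Rpr_{X,*}(Lpr_Y^*(−) ⊗^L P) : D(O_Y) → D(O_X) and R^iΦ_P(F) = H^i(Φ_P(F)), the derived functors
involved being assumed to exist. Let F be a cochain complex of O_X-modules defining a perfect object
and i an integer. Then for every sufficiently large n (there is n₀ with the following for all n ≥
n₀): R^iΦ_P(F) = 0 if and only if H^i(X, Ψ_P(L^{⊗ n}) ⊗^L F) = 0. (In the source the condition is
phrased with an arbitrary ample line bundle A on Y that is positive enough: R^iΦ_P F = 0 iff H^i(X,
F ⊗ Ψ_P(A)) = 0; it is rendered with the powers of a fixed ample L, and with X proper and F, P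
perfect, which is what the argument through coherence of the R^jΦ_P F and Serre vanishing uses.) -/
theorem result (k : Type u) [Field k] [IsAlgClosed k]
    (X Y : Scheme.{u}) (a : X ⟶ Spec (CommRingCat.of k)) (b : Y ⟶ Spec (CommRingCat.of k)) [IsProper a] [IsProper b]
    (P : CochainComplex (pullback a b).Modules ℤ) (hP : DCoh.IsPerfect (DCoh.toD (pullback a b) P))
    [DCoh.HasLpull (pullback.fst a b)] [DCoh.HasLpull (pullback.snd a b)] [DCoh.HasLTensorCx P]
    [DCoh.HasRpush (pullback.fst a b)] [DCoh.HasRpush (pullback.snd a b)] [DCoh.HasRΓ X]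
    (L : Y.Modules) (hL : CohB1.IsAmple L)
    (F : CochainComplex X.Modules ℤ) (hF : DCoh.IsPerfect (DCoh.toD X F)) [DCoh.HasLTensorCx F] (i : ℤ) :
    ∃ n₀ : ℕ, ∀ n : ℕ, n₀ ≤ n →
      (IsZero (DCoh.HD ((FMK.phi a b P).obj (DCoh.toD X F)) i) ↔
        IsZero ((DerivedCategory.homologyFunctor AddCommGrpCat.{u} i).obj ((DCoh.RΓ X).obj
          ((DCoh.LTensorCx F).obj ((DCoh.Lpull (pullback.snd a b) ⋙ DCoh.LTensorCx P ⋙ DCoh.Rpush (pullback.fst a b)).obj (DCoh.inD Y (CohB1.tensorPow L n))))))) := by
  obtain ⟨n₀, h⟩ := H16Derived.FMKWit.main a b P hP hL F hF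
  exact ⟨n₀, fun n hn => h n hn i⟩

end Groth.Agent.S16376
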