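import Groth.Statements.S16379
import Groth.Agent.H16Derived.FMKDual.Codim

set_option autoImplicit false
universe u
open CategoryTheory CategoryTheory.Limits AlgebraicGeometry
attribute [local instance] HasDerivedCategory.standard
open FMK

namespace Groth.Agent.S16379

open Groth.Agent.H16Derived

/-- Let k be an algebraically closed field, X and Y proper schemes over k with structure morphisms a and
b, all of whose local rings are Cohen–Macaulay, X equidimensional of dimension d (every irreducible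
component has dimension d). Let Ra_* on D_QCoh have the right adjoint a^× (given as data with its
adjunction), O an object of D_QCoh(Spec k) isomorphic to the structure sheaf in degree 0, and ω_X =
H^{−d}(a^×O) the dualizing module of X; write RΔ(F) = RHom(F, ω_X). Let P be a cochain complex of
modules on X ×_k Y defining a perfect object, and P' a cochain complex representing its derived dual
RHom(P, O_{X×Y}). For a kernel K write Φ_K = Rpr_{Y,*}(Lpr_X^*(−) ⊗^L K) : D(O_X) → D(O_Y) and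
R^iΦ_K = H^i ∘ Φ_K; the derived functors and internal RHom involved are assumed to exist. Let k' ≥ 0
and let F be a cochain complex of O_X-modules defining a perfect object which satisfies WIT_[d−k',d]
with respect to P: R^iΦ_P(F) = 0 for every i outside [d − k', d]. Then RΔ(F) is a GV_{k'}-object
with respect to P': R^iΦ_{P'}(RΔ F) = 0 for i < 0, and for i ≥ 0 the support of R^iΦ_{P'}(RΔ F) has
codimension at least i − k' (the local ring of Y at each of its points has Krull dimension ≥ i −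
k'). -/
theorem result (k : Type u) [Field k] [IsAlgClosed k]
    (X Y : Scheme.{u}) (a : X ⟶ Spec (CommRingCat.of k)) (b : Y ⟶ Spec (CommRingCat.of k)) [IsProper a] [IsProper b]
    (hXcm : ∀ x : ↥X, LocCoh.IsCohenMacaulayLocalRing ↑(X.presheaf.stalk x))
    (hYcm : ∀ y : ↥Y, LocCoh.IsCohenMacaulayLocalRing ↑(Y.presheaf.stalk y))
    (d : ℕ) (hd : topologicalKrullDim ↥X = (d : WithBot ℕ∞))
    (hXeq : ∀ Z ∈ irreducibleComponents ↥X, topologicalKrullDim ↥Z = (d : WithBot ℕ∞))
    [DCoh.HasRpush a] (ha : DCoh.RpushPreservesQCoh a)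
    (adx : DCoh.DQCoh (Spec (CommRingCat.of k)) ⥤ DCoh.DQCoh X) (adj : DCoh.RpushQ a ha ⊣ adx)
    (O : DCoh.DQCoh (Spec (CommRingCat.of k)))
    (hO : Nonempty (O.obj ≅ DCoh.inD (Spec (CommRingCat.of k)) (Coh.structureModule (Spec (CommRingCat.of k)))))
    (P : CochainComplex (pullback a b).Modules ℤ) (hP : DCoh.IsPerfect (DCoh.toD (pullback a b) P))
    [DCoh.HasLpull (pullback.fst a b)] [DCoh.HasLTensorCx P] [DCoh.HasRSheafHom P] [DCoh.HasRpush (pullback.snd a b)]
    (P' : CochainComplex (pullback a b).Modules ℤ) [DCoh.HasLTensorCx P']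
    (hP' : Nonempty (DCoh.toD (pullback a b) P' ≅
      (DCoh.RSheafHom P).obj (DCoh.inD (pullback a b) (Coh.structureModule (pullback a b)))))
    (k' : ℕ) (F : CochainComplex X.Modules ℤ) (hF : DCoh.IsPerfect (DCoh.toD X F)) [DCoh.HasLTensorCx F] [DCoh.HasRSheafHom F]
    (hWIT : ∀ i : ℤ, i < (d : ℤ) - k' ∨ (d : ℤ) < i → IsZero (DCoh.HD ((FMK.phi a b P).obj (DCoh.toD X F)) i)) :
    (∀ i : ℤ, i < 0 → IsZero (DCoh.HD ((FMK.phi a b P').obj
      ((DCoh.RSheafHom F).obj (DCoh.inD X (DCoh.HD (adx.obj O).obj (-(d : ℤ)))))) i)) ∧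
    (∀ (i : ℕ) (y : ↥Y), y ∈ CohB1.support (DCoh.HD ((FMK.phi a b P').obj
      ((DCoh.RSheafHom F).obj (DCoh.inD X (DCoh.HD (adx.obj O).obj (-(d : ℤ)))))) (i : ℤ)) →
      ((i - k' : ℕ) : WithBot ℕ∞) ≤ ringKrullDim ↑(Y.presheaf.stalk y)) := by
  haveI : IsLocallyNoetherian Y := LocallyOfFiniteType.isLocallyNoetherian b
  let p := pullback.fst a b
  let q := pullback.snd a b
  haveI : Flat a := inferInstance
  haveI : LocallyOfFinitePresentation a := inferInstance
  obtain ⟨e⟩ := FMKDual.dual_phi a b hXcm d hXeq ha adx adj O hO hP hF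
  obtain ⟨eP⟩ := hP'
  let eP' : DCoh.toD (pullback a b) P' ≅ Dual.ro (DCoh.toD (pullback a b) P) := eP ≪≫ Dual.dualIso P
  let ω₀ := DCoh.inD X (DCoh.HD (adx.obj O).obj (-(d : ℤ)))
  obtain ⟨es⟩ := FMKDual.nonempty_phi_shift p q ((DCoh.RSheafHom F).obj ω₀) (Dual.ro (DCoh.toD (pullback a b) P)) (d : ℤ)
  let eC : (FMK.phi a b P).obj (DCoh.toD X F) ≅
      (DCoh.Rpush q).obj (((Dual.T _).obj ((DCoh.Lpull p).obj (DCoh.toD X F))).obj (DCoh.toD (pullback a b) P)) :=
    (DCoh.Rpush q).mapIso ((Dual.ltensorCxIsoT P).app _).symm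
  let eA : (DCoh.Rpush q).obj (((Dual.T _).obj ((DCoh.Lpull p).obj ((DCoh.RSheafHom F).obj ω₀))).obj
      (Dual.ro (DCoh.toD (pullback a b) P))) ≅ (FMK.phi a b P').obj ((DCoh.RSheafHom F).obj ω₀) :=
    (DCoh.Rpush q).mapIso (((Dual.T _).obj _).mapIso eP'.symm ≪≫ (Dual.ltensorCxIsoT P').app _)
  have hCp : DCoh.IsPerfect ((FMK.phi a b P).obj (DCoh.toD X F)) := H16Derived.FMKWit.isPerfect_phi a b P hP hF
  refine FMKDual.gv_of_dual _ _ hCp d k' ((LeadBrown.isoR eC.symm).app _ ≪≫ e ≪≫ ?_) hWIT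
  exact (DCoh.Rpush q).mapIso (((Dual.T _).mapIso ((DCoh.Lpull p).mapIso ((shiftFunctor _ (d : ℤ)).mapIso
    ((Dual.rsheafHomIso F).app ω₀).symm))).app _) ≪≫ es ≪≫ (shiftFunctor _ (d : ℤ)).mapIso eA

end Groth.Agent.S16379
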