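import Groth.Statements.S1638
import Mathlib

set_option autoImplicit false
universe u
open Brauer

namespace Groth.Agent.S1638

/-- Let A and A' be algebras over a field k with subalgebras B ⊆ A and B' ⊆ A' having centralizers C and
C'. Then the centralizer of the image of B ⊗ B' in A ⊗_k A' is the image of C ⊗_k C'. -/
theorem result (k : Type u) [Field k] (A A' : Type u) [Ring A] [Ring A'] [Algebra k A] [Algebra k A']
    (B : Subalgebra k A) (B' : Subalgebra k A') :
    Subalgebra.centralizer k ((Algebra.TensorProduct.map B.val B'.val).range : Set (TensorProduct k A A')) =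
      (Algebra.TensorProduct.map (Subalgebra.centralizer k (B : Set A)).val (Subalgebra.centralizer k (B' : Set A')).val).range := by
  classical
  refine le_antisymm (fun z hz => ?_) ?_
  · rw [Subalgebra.mem_centralizer_iff] at hz
    have h1 : z ∈ (Algebra.TensorProduct.map (Subalgebra.centralizer k (B : Set A)).val
        (AlgHom.id k A')).range := by
      rw [← Subalgebra.centralizer_coe_image_includeLeft_eq_center_tensorProduct k A A' (B : Set A),
        Subalgebra.mem_centralizer_iff]
      rintro _ ⟨x, hx, rfl⟩
      exact hz _ ⟨(⟨x, hx⟩ : B) ⊗ₜ[k] (1 : B'), by simp⟩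
    have h2 : z ∈ (Algebra.TensorProduct.map (AlgHom.id k A)
        (Subalgebra.centralizer k (B' : Set A')).val).range := by
      rw [← Subalgebra.centralizer_coe_image_includeRight_eq_center_tensorProduct k A A' (B' : Set A'),
        Subalgebra.mem_centralizer_iff]
      rintro _ ⟨x, hx, rfl⟩
      exact hz _ ⟨(1 : B) ⊗ₜ[k] (⟨x, hx⟩ : B'), by simp⟩
    set C := Subalgebra.centralizer k (B : Set A) with hC
    set C' := Subalgebra.centralizer k (B' : Set A') with hC'
    obtain ⟨π, hπ⟩ := (Subalgebra.toSubmodule C).subtype.exists_leftInverse_of_injective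
      (Submodule.ker_subtype _)
    obtain ⟨w, hw⟩ := h1
    obtain ⟨w2, hw2⟩ := h2
    refine ⟨TensorProduct.map π LinearMap.id w2, ?_⟩
    have e1 : TensorProduct.map π LinearMap.id z = w := by
      rw [← hw]
      change TensorProduct.map π LinearMap.id (TensorProduct.map C.val.toLinearMap LinearMap.id w) = w
      rw [← LinearMap.comp_apply, ← TensorProduct.map_comp]
      have : π.comp C.val.toLinearMap = LinearMap.id := hπ
      rw [this, LinearMap.id_comp, TensorProduct.map_id]
      rfl
    have e2 : TensorProduct.map π LinearMap.id z =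
        TensorProduct.map LinearMap.id C'.val.toLinearMap (TensorProduct.map π LinearMap.id w2) := by
      rw [← hw2]
      change TensorProduct.map π LinearMap.id (TensorProduct.map LinearMap.id C'.val.toLinearMap w2) = _
      rw [← LinearMap.comp_apply, ← LinearMap.comp_apply, ← TensorProduct.map_comp,
        ← TensorProduct.map_comp, LinearMap.comp_id, LinearMap.id_comp, LinearMap.id_comp,
        LinearMap.comp_id]
    rw [← hw, ← e1, e2]
    change TensorProduct.map C.val.toLinearMap C'.val.toLinearMap _ =
      TensorProduct.map C.val.toLinearMap LinearMap.id (TensorProduct.map LinearMap.id C'.val.toLinearMap _)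
    conv_rhs => rw [← LinearMap.comp_apply, ← TensorProduct.map_comp, LinearMap.comp_id, LinearMap.id_comp]
  · rintro _ ⟨w, rfl⟩
    rw [Subalgebra.mem_centralizer_iff]
    rintro _ ⟨v, rfl⟩
    induction w using TensorProduct.induction_on with
    | zero => simp
    | add p q hp hq => simp only [map_add, add_mul, mul_add, hp, hq]
    | tmul c c' =>
      induction v using TensorProduct.induction_on with
      | zero => simp
      | add p q hp hq => simp only [map_add, add_mul, mul_add, hp, hq]
      | tmul b b' =>
        change ((b : A) ⊗ₜ[k] (b' : A')) * ((c : A) ⊗ₜ[k] (c' : A')) =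
          ((c : A) ⊗ₜ[k] (c' : A')) * ((b : A) ⊗ₜ[k] (b' : A'))
        rw [Algebra.TensorProduct.tmul_mul_tmul, Algebra.TensorProduct.tmul_mul_tmul,
          (Subalgebra.mem_centralizer_iff k).mp c.2 b b.2,
          (Subalgebra.mem_centralizer_iff k).mp c'.2 b' b'.2]

end Groth.Agent.S1638
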