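import Groth.Statements.S16380
import Groth.Agent.H16Derived.FMKDual.GVAmple

set_option autoImplicit false
universe u
open CategoryTheory CategoryTheory.Limits AlgebraicGeometry
attribute [local instance] HasDerivedCategory.standard
open FMK

namespace Groth.Agent.S16380

/-- Let k be an algebraically closed field, X and Y proper schemes over k with structure morphisms a and
b, all of whose local rings are Cohen–Macaulay, X equidimensional of dimension d and Y
equidimensional of dimension g. Let Rb_* on D_QCoh have the right adjoint b^× (given as data with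
its adjunction), O an object of D_QCoh(Spec k) isomorphic to the structure sheaf in degree 0, and
ω_Y = H^{−g}(b^×O) the dualizing module of Y. Let L be an ample invertible O_Y-module with an
inverse L' (L ⊗ L' ≅ O_Y), and P a cochain complex of modules on X ×_k Y defining a perfect object.
Write Φ_P = Rpr_{Y,*}(Lpr_X^*(−) ⊗^L P), Ψ_P = Rpr_{X,*}(Lpr_Y^*(−) ⊗^L P) and R^iΦ_P = H^i ∘ Φ_P,
the derived functors involved being assumed to exist. Let k' ≥ 0 and F a cochain complex of
O_X-modules defining a perfect object. Suppose that for every sufficiently large n (all n ≥ some n₀)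
the hypercohomology H^j(X, Ψ_P(L'^{⊗ n} ⊗ ω_Y) ⊗^L F) vanishes for every integer j outside [g, g +
k']. Then F is a GV_{k'}-object with respect to P: R^iΦ_P(F) = 0 for i < 0, and for i ≥ 0 the
support of R^iΦ_P(F) has codimension at least i − k' in Y (the local ring of Y at each of its points
has Krull dimension ≥ i − k'). (The published hypothesis is H^i(F ⊗ Ψ_{P[g]}(A^{−1} ⊗ ω_Y)) = 0 for
i outside [0, k'] and A any sufficiently positive ample line bundle; the kernel shift [g] is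
absorbed into the degree, and A^{−1} is rendered as the powers of the inverse of a fixed ample L.) -/
theorem result (k : Type u) [Field k] [IsAlgClosed k]
    (X Y : Scheme.{u}) (a : X ⟶ Spec (CommRingCat.of k)) (b : Y ⟶ Spec (CommRingCat.of k)) [IsProper a] [IsProper b]
    (hXcm : ∀ x : ↥X, LocCoh.IsCohenMacaulayLocalRing ↑(X.presheaf.stalk x))
    (hYcm : ∀ y : ↥Y, LocCoh.IsCohenMacaulayLocalRing ↑(Y.presheaf.stalk y))
    (d : ℕ) (hd : topologicalKrullDim ↥X = (d : WithBot ℕ∞))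
    (hXeq : ∀ Z ∈ irreducibleComponents ↥X, topologicalKrullDim ↥Z = (d : WithBot ℕ∞))
    (g : ℕ) (hg : topologicalKrullDim ↥Y = (g : WithBot ℕ∞))
    (hYeq : ∀ Z ∈ irreducibleComponents ↥Y, topologicalKrullDim ↥Z = (g : WithBot ℕ∞))
    [DCoh.HasRpush b] (hb : DCoh.RpushPreservesQCoh b)
    (bdx : DCoh.DQCoh (Spec (CommRingCat.of k)) ⥤ DCoh.DQCoh Y) (adj : DCoh.RpushQ b hb ⊣ bdx)
    (O : DCoh.DQCoh (Spec (CommRingCat.of k)))
    (hO : Nonempty (O.obj ≅ DCoh.inD (Spec (CommRingCat.of k)) (Coh.structureModule (Spec (CommRingCat.of k)))))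
    (L L' : Y.Modules) (hL : CohB1.IsAmple L) (hLL' : Nonempty (CohB1.tensorMod L L' ≅ Coh.structureModule Y))
    (P : CochainComplex (pullback a b).Modules ℤ) (hP : DCoh.IsPerfect (DCoh.toD (pullback a b) P))
    [DCoh.HasLpull (pullback.fst a b)] [DCoh.HasLpull (pullback.snd a b)] [DCoh.HasLTensorCx P]
    [DCoh.HasRpush (pullback.fst a b)] [DCoh.HasRpush (pullback.snd a b)] [DCoh.HasRΓ X]
    (k' : ℕ) (F : CochainComplex X.Modules ℤ) (hF : DCoh.IsPerfect (DCoh.toD X F)) [DCoh.HasLTensorCx F]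
    (hvan : ∃ n₀ : ℕ, ∀ n : ℕ, n₀ ≤ n → ∀ j : ℤ, j < (g : ℤ) ∨ (g : ℤ) + k' < j →
      IsZero ((DerivedCategory.homologyFunctor AddCommGrpCat.{u} j).obj ((DCoh.RΓ X).obj
        ((DCoh.LTensorCx F).obj ((DCoh.Lpull (pullback.snd a b) ⋙ DCoh.LTensorCx P ⋙ DCoh.Rpush (pullback.fst a b)).obj
          (DCoh.inD Y (CohB1.tensorMod (CohB1.tensorPow L' n) (DCoh.HD (bdx.obj O).obj (-(g : ℤ))))))))))
    :
    (∀ i : ℤ, i < 0 → IsZero (DCoh.HD ((FMK.phi a b P).obj (DCoh.toD X F)) i)) ∧
    (∀ (i : ℕ) (y : ↥Y), y ∈ CohB1.support (DCoh.HD ((FMK.phi a b P).obj (DCoh.toD X F)) (i : ℤ)) →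
      ((i - k' : ℕ) : WithBot ℕ∞) ≤ ringKrullDim ↑(Y.presheaf.stalk y)) := by
  haveI : DCoh.HasRΓ Y := H16Derived.KFlat.GammaAcyclic.hasRΓ Y
  haveI : IsLocallyNoetherian Y := LocallyOfFiniteType.isLocallyNoetherian b
  obtain ⟨eL⟩ := hLL'
  obtain ⟨-, hWc, -⟩ := S3637.result k Y b hYcm g hYeq hb bdx adj O hO
  have hL' : PicF.IsInvertible L' :=
    H10Coh.Growth.isInvertible_of_tensor hL.1
      (H11Tilde.isInvertible_of_iso (H10Coh.Tw.commIso L' L ≪≫ eL).symm
        (H11Ample.isInvertible_structureModule (X := Y)))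
  refine H16Derived.FMKDual.gv_of_ample b g hYcm hYeq hb bdx adj O hO hL eL k' _
    (H16Derived.FMKWit.isPerfect_phi a b P hP hF) ?_
  obtain ⟨n₀, hn₀⟩ := hvan
  refine ⟨n₀, fun n hn j hj => ?_⟩
  obtain ⟨e⟩ := H16Derived.FMKDual.nonempty_symm a b P hP F hF
    (DCoh.inD Y (CohB1.tensorMod (CohB1.tensorPow L' n) (DCoh.HD (bdx.obj O).obj (-(g : ℤ)))))
    (H25FM.isQCohD_inD (H10Coh.TT.isCoh_tensorMod (H11Ample.isCoh_of_isInvertible (H11Ample.isInvertible_tensorPow hL' n)) hWc).1)
  exact (hn₀ n hn j hj).of_iso ((DerivedCategory.homologyFunctor AddCommGrpCat.{u} j).mapIso e.symm)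

end Groth.Agent.S16380
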