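import Groth.Statements.S16381
import Groth.Agent.H16Derived.FMKDual.Main

set_option autoImplicit false
universe u
open CategoryTheory CategoryTheory.Limits AlgebraicGeometry
attribute [local instance] HasDerivedCategory.standard
open FMK

namespace Groth.Agent.S16381

open Groth.Agent.H16Derived

/-- Let k be an algebraically closed field, X and Y proper schemes over k with structure morphisms a and
b, all of whose local rings are Cohen–Macaulay, X equidimensional of dimension d. Let Ra_* on D_QCoh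
have the right adjoint a^× (given as data with its adjunction), O an object of D_QCoh(Spec k)
isomorphic to the structure sheaf in degree 0, and ω_X = H^{−d}(a^×O) the dualizing module of X;
write RΔ(E) = RHom(E, ω_X) and K^∨ = RHom(K, O). Let P be a cochain complex of modules on X ×_k Y
defining a perfect object and P' a cochain complex representing P^∨. For a kernel K write Φ_K =
Rpr_{Y,*}(Lpr_X^*(−) ⊗^L K) : D(O_X) → D(O_Y); the derived functors and internal RHom involved are
assumed to exist. Then for every cochain complex E of O_X-modules defining a perfect object and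
every cochain complex K on Y representing Φ_P(E), the derived dual K^∨ = (Φ_P E)^∨ is isomorphic in
D(O_Y) to Φ_{P'}(RΔ(E)[d]) (existence of an isomorphism only; the published formula is the
isomorphism of functors (Φ_P)^∨ ≅ Φ_{P^∨} ∘ RΔ_X[dim X]). -/
theorem result (k : Type u) [Field k] [IsAlgClosed k]
    (X Y : Scheme.{u}) (a : X ⟶ Spec (CommRingCat.of k)) (b : Y ⟶ Spec (CommRingCat.of k)) [IsProper a] [IsProper b]
    (hXcm : ∀ x : ↥X, LocCoh.IsCohenMacaulayLocalRing ↑(X.presheaf.stalk x))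
    (hYcm : ∀ y : ↥Y, LocCoh.IsCohenMacaulayLocalRing ↑(Y.presheaf.stalk y))
    (d : ℕ) (hd : topologicalKrullDim ↥X = (d : WithBot ℕ∞))
    (hXeq : ∀ Z ∈ irreducibleComponents ↥X, topologicalKrullDim ↥Z = (d : WithBot ℕ∞))
    [DCoh.HasRpush a] (ha : DCoh.RpushPreservesQCoh a)
    (adx : DCoh.DQCoh (Spec (CommRingCat.of k)) ⥤ DCoh.DQCoh X) (adj : DCoh.RpushQ a ha ⊣ adx)
    (O : DCoh.DQCoh (Spec (CommRingCat.of k)))
    (hO : Nonempty (O.obj ≅ DCoh.inD (Spec (CommRingCat.of k)) (Coh.structureModule (Spec (CommRingCat.of k)))))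
    (P : CochainComplex (pullback a b).Modules ℤ) (hP : DCoh.IsPerfect (DCoh.toD (pullback a b) P))
    [DCoh.HasLpull (pullback.fst a b)] [DCoh.HasLTensorCx P] [DCoh.HasRSheafHom P] [DCoh.HasRpush (pullback.snd a b)]
    (P' : CochainComplex (pullback a b).Modules ℤ) [DCoh.HasLTensorCx P']
    (hP' : Nonempty (DCoh.toD (pullback a b) P' ≅
      (DCoh.RSheafHom P).obj (DCoh.inD (pullback a b) (Coh.structureModule (pullback a b)))))
    (E : CochainComplex X.Modules ℤ) (hE : DCoh.IsPerfect (DCoh.toD X E)) [DCoh.HasLTensorCx E] [DCoh.HasRSheafHom E]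
    (K : CochainComplex Y.Modules ℤ) [DCoh.HasLTensorCx K] [DCoh.HasRSheafHom K]
    (hK : Nonempty (DCoh.toD Y K ≅ (FMK.phi a b P).obj (DCoh.toD X E))) :
    Nonempty ((DCoh.RSheafHom K).obj (DCoh.inD Y (Coh.structureModule Y)) ≅
      (FMK.phi a b P').obj ((shiftFunctor (DCoh.D X) (d : ℤ)).obj
        ((DCoh.RSheafHom E).obj (DCoh.inD X (DCoh.HD (adx.obj O).obj (-(d : ℤ))))))) := by
  let p := pullback.fst a b
  let q := pullback.snd a b
  obtain ⟨e⟩ := FMKDual.dual_phi a b hXcm d hXeq ha adx adj O hO hP hE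
  obtain ⟨eK⟩ := hK
  obtain ⟨eP⟩ := hP'
  let eC : (DCoh.Rpush q).obj (((Dual.T _).obj ((DCoh.Lpull p).obj (DCoh.toD X E))).obj (DCoh.toD (pullback a b) P)) ≅
      DCoh.toD Y K :=
    (DCoh.Rpush q).mapIso ((Dual.ltensorCxIsoT P).app _) ≪≫ eK.symm
  let eP' : DCoh.toD (pullback a b) P' ≅ Dual.ro (DCoh.toD (pullback a b) P) := eP ≪≫ Dual.dualIso P
  let ω₀ := DCoh.inD X (DCoh.HD (adx.obj O).obj (-(d : ℤ)))
  refine ⟨Dual.dualIso K ≪≫ (LeadBrown.isoR eC).app _ ≪≫ e ≪≫ (DCoh.Rpush q).mapIso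
    (((Dual.T _).obj _).mapIso eP'.symm ≪≫
      ((Dual.T _).mapIso ((DCoh.Lpull p).mapIso ((shiftFunctor _ (d : ℤ)).mapIso
        ((Dual.rsheafHomIso E).app ω₀).symm))).app _ ≪≫ (Dual.ltensorCxIsoT P').app _)⟩

end Groth.Agent.S16381
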