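import Groth.Statements.S16382
import Groth.Agent.H16Derived.FMKWit.Locus

set_option autoImplicit false
universe u
open CategoryTheory CategoryTheory.Limits AlgebraicGeometry
attribute [local instance] HasDerivedCategory.standard
open FMK

namespace Groth.Agent.S16382

/-- Let k be an algebraically closed field, X a proper scheme over k and Y a scheme locally of finite
type over k (structure morphisms a and b), P a cochain complex of modules on X ×_k Y defining a
perfect object and F a cochain complex of O_X-modules defining a perfect object. Write Φ_P(F) =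
Rpr_{Y,*}(Lpr_X^*F ⊗^L P), R^iΦ_P(F) = H^i(Φ_P(F)), and for a point y of Y with residue field κ(y)
let X_y = (X ×_k Y) ×_Y Spec κ(y) with first projection j_y : X_y → X ×_k Y, P restricted to the
fibre being Lj_y^*; the i-th cohomological support locus of F is V^i = {y ∈ Y : H^i(X_y,
Lj_y^*(Lpr_X^*F ⊗^L P)) ≠ 0} (hypercohomology on X_y); the derived functors involved are assumed to
exist. Let k' ≥ 0. Then the following are equivalent: (1') for every i ≥ 0 the support of R^iΦ_P(F)
has codimension ≥ i − k' (the local ring of Y at each of its points has Krull dimension ≥ i − k');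
(2) for every i ≥ 0 the locus V^i has codimension ≥ i − k' in the same pointwise sense. (The
published statement has the GV_{k'} condition in (1), which also asks R^iΦ_P(F) = 0 for i < 0; that
extra clause is not implied by (2) for complexes — over X = Y = Spec k with P = k and F = k[1]
condition (2) holds while R^{−1} ≠ 0 — and the published proof only treats the codimension clauses,
which are equivalent as stated here; for F and P sheaves the extra clause is automatic.) -/
theorem result (k : Type u) [Field k] [IsAlgClosed k]
    (X Y : Scheme.{u}) (a : X ⟶ Spec (CommRingCat.of k)) (b : Y ⟶ Spec (CommRingCat.of k)) [IsProper a] [LocallyOfFiniteType b]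
    (P : CochainComplex (pullback a b).Modules ℤ) (hP : DCoh.IsPerfect (DCoh.toD (pullback a b) P))
    [DCoh.HasLpull (pullback.fst a b)] [DCoh.HasLTensorCx P] [DCoh.HasRpush (pullback.snd a b)]
    [∀ y : ↥Y, DCoh.HasLpull (pullback.fst (pullback.snd a b) (Y.fromSpecResidueField y))]
    [∀ y : ↥Y, DCoh.HasRΓ (pullback (pullback.snd a b) (Y.fromSpecResidueField y))]
    (F : CochainComplex X.Modules ℤ) (hF : DCoh.IsPerfect (DCoh.toD X F)) (k' : ℕ) :
    (∀ (i : ℕ) (y : ↥Y), y ∈ CohB1.support (DCoh.HD ((FMK.phi a b P).obj (DCoh.toD X F)) (i : ℤ)) →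
      ((i - k' : ℕ) : WithBot ℕ∞) ≤ ringKrullDim ↑(Y.presheaf.stalk y)) ↔
    (∀ (i : ℕ) (y : ↥Y), ¬ IsZero ((DerivedCategory.homologyFunctor AddCommGrpCat.{u} (i : ℤ)).obj
        ((DCoh.RΓ (pullback (pullback.snd a b) (Y.fromSpecResidueField y))).obj ((DCoh.Lpull (pullback.fst (pullback.snd a b) (Y.fromSpecResidueField y))).obj
          ((DCoh.LTensorCx P).obj ((DCoh.Lpull (pullback.fst a b)).obj (DCoh.toD X F)))))) →
      ((i - k' : ℕ) : WithBot ℕ∞) ≤ ringKrullDim ↑(Y.presheaf.stalk y)) := by
  exact H16Derived.FMKWit.codim_iff a b P hP F hF k'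

end Groth.Agent.S16382
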