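import Groth.Statements.S16383
import Groth.Agent.H16Derived.FMKWit.Succ

set_option autoImplicit false
universe u
open CategoryTheory CategoryTheory.Limits AlgebraicGeometry
attribute [local instance] HasDerivedCategory.standard
open FMK

namespace Groth.Agent.S16383

/-- Let k be an algebraically closed field, X a proper scheme over k all of whose local rings are
Cohen–Macaulay, equidimensional of dimension d, and Y a proper scheme over k all of whose local
rings are Gorenstein (structure morphisms a and b). Let P be a finite locally free module on X ×_k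
Y, viewed as a kernel in degree 0, and F a coherent O_X-module which is perfect as an object of
D(O_X). Write Φ_P(F) = Rpr_{Y,*}(Lpr_X^*F ⊗^L P), R^iΦ_P(F) = H^i(Φ_P(F)), and for a point y of Y
let X_y = (X ×_k Y) ×_Y Spec κ(y) with first projection j_y, and V^i = {y ∈ Y : H^i(X_y,
Lj_y^*(Lpr_X^*F ⊗^L P)) ≠ 0} the i-th cohomological support locus (hypercohomology on X_y; the
derived functors involved are assumed to exist). Let k' ≥ 0 and suppose F is a GV_{k'}-sheaf with
respect to P: for every i ≥ 0 the support of R^iΦ_P(F) has codimension ≥ i − k' (the local ring of Y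
at each of its points has Krull dimension ≥ i − k'). Then V^{i+1} ⊆ V^i for every i ≥ k', so that
V^d ⊆ ⋯ ⊆ V^{k'+1} ⊆ V^{k'}. -/
theorem result (k : Type u) [Field k] [IsAlgClosed k]
    (X Y : Scheme.{u}) (a : X ⟶ Spec (CommRingCat.of k)) (b : Y ⟶ Spec (CommRingCat.of k)) [IsProper a] [IsProper b]
    (hXcm : ∀ x : ↥X, LocCoh.IsCohenMacaulayLocalRing ↑(X.presheaf.stalk x))
    (hYgor : ∀ y : ↥Y, LocCoh.IsGorensteinLocalRing ↑(Y.presheaf.stalk y))
    (d : ℕ) (hd : topologicalKrullDim ↥X = (d : WithBot ℕ∞))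
    (hXeq : ∀ Z ∈ irreducibleComponents ↥X, topologicalKrullDim ↥Z = (d : WithBot ℕ∞))
    (P₀ : (pullback a b).Modules) (hP₀ : FlatMod.IsFinLocFree P₀)
    [DCoh.HasLpull (pullback.fst a b)]
    [DCoh.HasLTensorCx ((HomologicalComplex.single (pullback a b).Modules (ComplexShape.up ℤ) 0).obj P₀)]
    [DCoh.HasRpush (pullback.snd a b)]
    [∀ y : ↥Y, DCoh.HasLpull (pullback.fst (pullback.snd a b) (Y.fromSpecResidueField y))]
    [∀ y : ↥Y, DCoh.HasRΓ (pullback (pullback.snd a b) (Y.fromSpecResidueField y))]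
    (F : X.Modules) (hFc : Coh.IsCoh F) (hF : DCoh.IsPerfect (DCoh.inD X F)) (k' : ℕ)
    (hGV : ∀ (i : ℕ) (y : ↥Y), y ∈ CohB1.support (DCoh.HD ((FMK.phi a b
        ((HomologicalComplex.single (pullback a b).Modules (ComplexShape.up ℤ) 0).obj P₀)).obj (DCoh.inD X F)) (i : ℤ)) →
      ((i - k' : ℕ) : WithBot ℕ∞) ≤ ringKrullDim ↑(Y.presheaf.stalk y))
    (i : ℕ) (hi : k' ≤ i) (y : ↥Y)
    (hy : ¬ IsZero ((DerivedCategory.homologyFunctor AddCommGrpCat.{u} ((i : ℤ) + 1)).obj
        ((DCoh.RΓ (pullback (pullback.snd a b) (Y.fromSpecResidueField y))).obj ((DCoh.Lpull (pullback.fst (pullback.snd a b) (Y.fromSpecResidueField y))).obj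
          ((DCoh.LTensorCx ((HomologicalComplex.single (pullback a b).Modules (ComplexShape.up ℤ) 0).obj P₀)).obj
            ((DCoh.Lpull (pullback.fst a b)).obj (DCoh.inD X F))))))) :
    ¬ IsZero ((DerivedCategory.homologyFunctor AddCommGrpCat.{u} (i : ℤ)).obj
        ((DCoh.RΓ (pullback (pullback.snd a b) (Y.fromSpecResidueField y))).obj ((DCoh.Lpull (pullback.fst (pullback.snd a b) (Y.fromSpecResidueField y))).obj
          ((DCoh.LTensorCx ((HomologicalComplex.single (pullback a b).Modules (ComplexShape.up ℤ) 0).obj P₀)).obj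
            ((DCoh.Lpull (pullback.fst a b)).obj (DCoh.inD X F)))))) := by
  haveI := hYgor y
  refine mt ?_ hy
  exact H16Derived.FMKWit.locus_succ_subset a b hYgor
    ((HomologicalComplex.single (pullback a b).Modules (ComplexShape.up ℤ) 0).obj P₀)
    (H16Derived.KFlat.Stalk.isPerfect_of_iso
      ((DerivedCategory.singleFunctorIsoCompQ (pullback a b).Modules 0).app P₀)
      (H16Derived.KFlat.Stalk.isPerfect_inD hP₀))
    (DCoh.inD X F) hF k' hGV i hi y

end Groth.Agent.S16383
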