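import Groth.Statements.S16384
import Groth.Agent.H16Derived.FMKDual.WIT

set_option autoImplicit false
universe u
open CategoryTheory CategoryTheory.Limits AlgebraicGeometry
attribute [local instance] HasDerivedCategory.standard
open FMK

namespace Groth.Agent.S16384

/-- For a sheaf F and a locally free kernel P, let k be an algebraically closed field, X and Y proper
schemes over k with structure morphisms a and b, all of whose local rings are Cohen–Macaulay, X
equidimensional of dimension d and Y equidimensional of dimension g. Let Ra_* and Rb_* on D_QCoh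
have right adjoints a^× and b^× (given as data with their adjunctions), O an object of D_QCoh(Spec
k) isomorphic to the structure sheaf in degree 0, and ω_X = H^{−d}(a^×O), ω_Y = H^{−g}(b^×O) the
dualizing modules; write RΔ(F) = RHom(F, ω_X). Let P be a finite locally free module on X ×_k Y, P^∨
= Hom(P, O) its dual (the sheaf Hom as right adjoint of P ⊗ −) and Q = P^∨ ⊗ pr_Y^*ω_Y, both used as
kernels in degree 0; for a kernel K write Φ_K = Rpr_{Y,*}(Lpr_X^*(−) ⊗^L K) and R^iΦ_K = H^i ∘ Φ_K,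
the derived functors involved being assumed to exist. Let k' ≥ 0 and F a coherent O_X-module,
perfect as an object of D(O_X), which is a GV_{k'}-sheaf with respect to P: for every i ≥ 0 the
support of R^iΦ_P(F) has codimension ≥ i − k' (the local ring of Y at each of its points has Krull
dimension ≥ i − k'). Then RΔ(F) satisfies WIT_[d−k',d] with respect to Q: R^iΦ_Q(RΔ F) = 0 for every
integer i outside [d − k', d]. (The published statement is for an arbitrary object F of D(X) and an
arbitrary kernel P; in that generality the vanishing above degree d fails — for F = O_X[1] on an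
abelian variety of dimension d ≥ 1 with the Poincaré kernel, F is GV_0 while Φ_Q(RΔF) is a
skyscraper in degree d + 1 — so the row keeps F a sheaf and P locally free, the case of the
applications.) -/
theorem result (k : Type u) [Field k] [IsAlgClosed k]
    (X Y : Scheme.{u}) (a : X ⟶ Spec (CommRingCat.of k)) (b : Y ⟶ Spec (CommRingCat.of k)) [IsProper a] [IsProper b]
    (hXcm : ∀ x : ↥X, LocCoh.IsCohenMacaulayLocalRing ↑(X.presheaf.stalk x))
    (hYcm : ∀ y : ↥Y, LocCoh.IsCohenMacaulayLocalRing ↑(Y.presheaf.stalk y))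
    (d : ℕ) (hd : topologicalKrullDim ↥X = (d : WithBot ℕ∞))
    (hXeq : ∀ Z ∈ irreducibleComponents ↥X, topologicalKrullDim ↥Z = (d : WithBot ℕ∞))
    (g : ℕ) (hg : topologicalKrullDim ↥Y = (g : WithBot ℕ∞))
    (hYeq : ∀ Z ∈ irreducibleComponents ↥Y, topologicalKrullDim ↥Z = (g : WithBot ℕ∞))
    [DCoh.HasRpush a] (ha : DCoh.RpushPreservesQCoh a)
    (adx : DCoh.DQCoh (Spec (CommRingCat.of k)) ⥤ DCoh.DQCoh X) (adja : DCoh.RpushQ a ha ⊣ adx)
    [DCoh.HasRpush b] (hb : DCoh.RpushPreservesQCoh b)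
    (bdx : DCoh.DQCoh (Spec (CommRingCat.of k)) ⥤ DCoh.DQCoh Y) (adjb : DCoh.RpushQ b hb ⊣ bdx)
    (O : DCoh.DQCoh (Spec (CommRingCat.of k)))
    (hO : Nonempty (O.obj ≅ DCoh.inD (Spec (CommRingCat.of k)) (Coh.structureModule (Spec (CommRingCat.of k)))))
    (P₀ : (pullback a b).Modules) (hP₀ : FlatMod.IsFinLocFree P₀) [DCoh.HasSheafHom P₀]
    [DCoh.HasLpull (pullback.fst a b)] [DCoh.HasRpush (pullback.snd a b)]
    [DCoh.HasLTensorCx ((HomologicalComplex.single (pullback a b).Modules (ComplexShape.up ℤ) 0).obj P₀)]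
    [DCoh.HasLTensorCx ((HomologicalComplex.single (pullback a b).Modules (ComplexShape.up ℤ) 0).obj (CohB1.tensorMod ((DCoh.sheafHom P₀).obj (Coh.structureModule (pullback a b))) ((Scheme.Modules.pullback (pullback.snd a b)).obj (DCoh.HD (bdx.obj O).obj (-(g : ℤ))))))]
    (F : X.Modules) (hFc : Coh.IsCoh F) (hF : DCoh.IsPerfect (DCoh.inD X F))
    [DCoh.HasLTensorCx ((HomologicalComplex.single X.Modules (ComplexShape.up ℤ) 0).obj F)] [DCoh.HasRSheafHom ((HomologicalComplex.single X.Modules (ComplexShape.up ℤ) 0).obj F)]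
    (k' : ℕ)
    (hGV : ∀ (i : ℕ) (y : ↥Y), y ∈ CohB1.support (DCoh.HD ((FMK.phi a b ((HomologicalComplex.single (pullback a b).Modules (ComplexShape.up ℤ) 0).obj P₀)).obj (DCoh.inD X F)) (i : ℤ)) →
      ((i - k' : ℕ) : WithBot ℕ∞) ≤ ringKrullDim ↑(Y.presheaf.stalk y))
    (i : ℤ) (hi : i < (d : ℤ) - k' ∨ (d : ℤ) < i) :
    IsZero (DCoh.HD ((FMK.phi a b ((HomologicalComplex.single (pullback a b).Modules (ComplexShape.up ℤ) 0).obj (CohB1.tensorMod ((DCoh.sheafHom P₀).obj (Coh.structureModule (pullback a b))) ((Scheme.Modules.pullback (pullback.snd a b)).obj (DCoh.HD (bdx.obj O).obj (-(g : ℤ))))))).obj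
      ((DCoh.RSheafHom ((HomologicalComplex.single X.Modules (ComplexShape.up ℤ) 0).obj F)).obj (DCoh.inD X (DCoh.HD (adx.obj O).obj (-(d : ℤ)))))) i) := by
  haveI : IsLocallyNoetherian Y := LocallyOfFiniteType.isLocallyNoetherian b
  haveI : CompactSpace Y := QuasiCompact.compactSpace_of_compactSpace b
  haveI : IsLocallyNoetherian (pullback a b) := LocallyOfFiniteType.isLocallyNoetherian (pullback.snd a b)
  obtain ⟨-, hWc, hWp⟩ := S3637.result k Y b hYcm g hYeq hb bdx adjb O hO
  obtain ⟨-, hωc, -⟩ := S3637.result k X a hXcm d hXeq ha adx adja O hO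
  have hdep := H16Derived.FMKDual.depth_eq_dim _ hWc (fun y => (hWp y).1) (fun y => (hWp y).2)
  have hPD := H16Derived.KFlat.Stalk.isPerfect_inD hP₀
  obtain ⟨eC⟩ := H16Derived.FMKDual.nonempty_phi_single a b P₀ (DCoh.inD X F)
  obtain ⟨eH⟩ := H16Derived.FMKDual.nonempty_ro_inD' hP₀
  have hH := H16Derived.FMKDual.isFinLocFree_sheafHom hP₀
  have hC := H16Derived.KFlat.Stalk.isPerfect_of_iso eC (H16Derived.FMKWit.isPerfect_phi a b
    ((HomologicalComplex.single (pullback a b).Modules (ComplexShape.up ℤ) 0).obj P₀)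
    (H16Derived.KFlat.Stalk.isPerfect_of_iso
      ((DerivedCategory.singleFunctorIsoCompQ (pullback a b).Modules 0).app P₀) hPD) hF)
  haveI := H16Derived.FMKDual.isLE_ro_of_fibres hC fun y _ m hm =>
    H16Derived.FMKDual.isZero_fibre_phi a b hP₀ hF y m hm
  have hA := LeadBrown.isQCohD_R_perfect hF (H25FM.isQCohD_inD hωc.1)
  obtain ⟨eA⟩ := H16Derived.FMKDual.nonempty_rsheafHom_single F
    (DCoh.inD X (DCoh.HD (adx.obj O).obj (-(d : ℤ))))
  obtain ⟨eQ⟩ := H16Derived.FMKDual.nonempty_phi_single a b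
    (CohB1.tensorMod ((DCoh.sheafHom P₀).obj (Coh.structureModule (pullback a b)))
      ((Scheme.Modules.pullback (pullback.snd a b)).obj (DCoh.HD (bdx.obj O).obj (-(g : ℤ)))))
    ((H16Derived.Dual.R (DCoh.inD X F)).obj (DCoh.inD X (DCoh.HD (adx.obj O).obj (-(d : ℤ)))))
  obtain ⟨e⟩ := H16Derived.FMKDual.dual_phi a b hXcm d hXeq ha adx adja O hO hPD hF
  obtain ⟨es⟩ := H16Derived.FMKDual.nonempty_phi_shift (pullback.fst a b) (pullback.snd a b)
    ((H16Derived.Dual.R (DCoh.inD X F)).obj (DCoh.inD X (DCoh.HD (adx.obj O).obj (-(d : ℤ)))))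
    (H16Derived.Dual.ro (DCoh.inD (pullback a b) P₀)) (d : ℤ)
  obtain ⟨et⟩ := H16Derived.FMKDual.nonempty_phi_twist a b hP₀ hH eH _ hWc.1 hA
  exact H16Derived.FMKDual.isZero_of_shift_iso _ hWc hdep k' _ hC (fun i y hy =>
    hGV i y ((H16Derived.MVPush.support_iso ((DerivedCategory.homologyFunctor _ (i : ℤ)).mapIso eC)).ge hy))
    _ _ d ((FMK.phi a b _).mapIso eA ≪≫ eQ ≪≫ et) (e ≪≫ es) i hi

end Groth.Agent.S16384
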