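import Groth.Statements.S16386
import Groth.Agent.H25AbCube.Cogen

set_option autoImplicit false
set_option linter.style.haveILetI false
set_option backward.isDefEq.respectTransparency false
set_option synthInstance.maxHeartbeats 200000
universe u
open CategoryTheory MonoidalCategory CartesianMonoidalCategory MonObj GrpObj AlgebraicGeometry
open AbVar

namespace Groth.Agent.S16386

/-- (c₁) ⇒ (a₁): let k be a finite field with q elements and fix a polynomial P with integer
coefficients. Work with abelian varieties over k (proper, geometrically integral commutative group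
schemes over k) together with their q-Frobenius endomorphism π (the identity on points and the q-th
power map on sections; a homomorphism) such that P(π) = 0 in the endomorphism ring; for P the
product of the minimal polynomials of a finite set w of Weil q-numbers these are exactly the abelian
varieties with Weil support in w. Let A be such an abelian variety and suppose that every such Z
admits finitely many homomorphisms ψ_1, …, ψ_n : Z → A which are jointly monomorphic (two T-valued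
points of Z over k with the same image under every ψ_i are equal; equivalently (ψ_i) : Z → A^n is an
injective homomorphism). Then the functor X ↦ Hom(X, A), with values in left End(A)-modules (End(A)
acting by postcomposition), is fully faithful on these abelian varieties: for such X and Y, two
homomorphisms f, g : X → Y inducing the same map Hom(Y, A) → Hom(X, A) are equal, and every additive
End(A)-linear map Hom(Y, A) → Hom(X, A) is precomposition with some homomorphism X → Y. -/
theorem result (k : Type u) [Field k] [Finite k]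
    (P : Polynomial ℤ) (A : Over (Spec (CommRingCat.of k))) [GrpObj A] [IsCommMonObj A] [IsProper A.hom] [GeometricallyIntegral A.hom]
    (πA : A ⟶ A) [IsMonHom πA] (hπAb : πA.left.base = 𝟙 _)
    (hπAle : ∀ U : A.left.Opens, U ≤ πA.left ⁻¹ᵁ U)
    (hπAapp : ∀ (U : A.left.Opens) (s : Γ(A.left, U)), (πA.left.appLE U U (hπAle U)).hom s = s ^ Nat.card k)
    (hPA : Polynomial.eval₂ (Int.castRingHom (EndAV.End A)) (EndAV.End.of πA) P = 0)
    (hcog : ∀ (Z : Over (Spec (CommRingCat.of k))) [GrpObj Z] [IsCommMonObj Z] [IsProper Z.hom] [GeometricallyIntegral Z.hom]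
      (πZ : Z ⟶ Z) [IsMonHom πZ] (hπZb : πZ.left.base = 𝟙 _) (hπZle : ∀ U : Z.left.Opens, U ≤ πZ.left ⁻¹ᵁ U)
      (hπZapp : ∀ (U : Z.left.Opens) (s : Γ(Z.left, U)), (πZ.left.appLE U U (hπZle U)).hom s = s ^ Nat.card k)
      (hPZ : Polynomial.eval₂ (Int.castRingHom (EndAV.End Z)) (EndAV.End.of πZ) P = 0),
      ∃ (n : ℕ) (ψ : Fin n → EndAV.Hom Z A), ∀ (T : Over (Spec (CommRingCat.of k))) (x y : T ⟶ Z),
        (∀ i, x ≫ (ψ i).toHom = y ≫ (ψ i).toHom) → x = y)
    (X Y : Over (Spec (CommRingCat.of k))) [GrpObj X] [IsCommMonObj X] [IsProper X.hom] [GeometricallyIntegral X.hom]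
    [GrpObj Y] [IsCommMonObj Y] [IsProper Y.hom] [GeometricallyIntegral Y.hom]
    (πX : X ⟶ X) [IsMonHom πX] (hπXb : πX.left.base = 𝟙 _)
    (hπXle : ∀ U : X.left.Opens, U ≤ πX.left ⁻¹ᵁ U)
    (hπXapp : ∀ (U : X.left.Opens) (s : Γ(X.left, U)), (πX.left.appLE U U (hπXle U)).hom s = s ^ Nat.card k)
    (hPX : Polynomial.eval₂ (Int.castRingHom (EndAV.End X)) (EndAV.End.of πX) P = 0)
    (πY : Y ⟶ Y) [IsMonHom πY] (hπYb : πY.left.base = 𝟙 _)
    (hπYle : ∀ U : Y.left.Opens, U ≤ πY.left ⁻¹ᵁ U)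
    (hπYapp : ∀ (U : Y.left.Opens) (s : Γ(Y.left, U)), (πY.left.appLE U U (hπYle U)).hom s = s ^ Nat.card k)
    (hPY : Polynomial.eval₂ (Int.castRingHom (EndAV.End Y)) (EndAV.End.of πY) P = 0) :
    (∀ f g : EndAV.Hom X Y, (∀ φ : EndAV.Hom Y A, f ≫ φ = g ≫ φ) → f = g) ∧
      (∀ g : EndAV.Hom Y A →+ EndAV.Hom X A,
        (∀ (φ : EndAV.Hom Y A) (s : EndAV.Hom A A), g (φ ≫ s) = g φ ≫ s) →
          ∃ f : EndAV.Hom X Y, ∀ φ : EndAV.Hom Y A, g φ = f ≫ φ) := by
  obtain ⟨p, hp⟩ := CharP.exists k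
  haveI := hp
  haveI : Fintype k := Fintype.ofFinite k
  obtain ⟨N, hpp, hcard'⟩ := FiniteField.card k p
  haveI : Fact p.Prime := ⟨hpp⟩
  have hcard : Nat.card k = p ^ (N : ℕ) := by rw [Nat.card_eq_fintype_card, hcard']
  have hN : ∀ x : k, x ^ p ^ (N : ℕ) = x := fun x => by rw [← hcard']; exact FiniteField.pow_card x
  have hsep : ∀ f g : EndAV.Hom X Y, (∀ φ : EndAV.Hom Y A, f ≫ φ = g ≫ φ) → f = g := fun f g hfg => by
    obtain ⟨n, ψ, hψ⟩ := hcog Y πY hπYb hπYle hπYapp hPY
    exact EndAV.Hom.ext (hψ X _ _ fun i => congrArg EndAV.Hom.toHom (hfg (ψ i)))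
  refine ⟨hsep, fun g hg => ?_⟩
  haveI : IsIntegral A.left := GeometricallyIntegral.isIntegral_of_subsingleton A.hom
  obtain ⟨d, hd⟩ := H25Grp.exists_nat_dim A.hom
  have key : ∀ (n : ℕ) (ψ : Fin n → EndAV.Hom Y A), (∀ (T : Over (Spec (CommRingCat.of k))) (x y : T ⟶ Y),
      (∀ i, x ≫ (ψ i).toHom = y ≫ (ψ i).toHom) → x = y) →
      ∃ f : EndAV.Hom X Y, ∀ i, f ≫ ψ i = g (ψ i) := by
    intro n ψ hψ
    obtain ⟨B, gB, hB1, hB2, π, hBc, hπ, -, huniv⟩ := H25AbCube.exists_power A hd n
    haveI := hBc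
    haveI := hπ
    have hext : ∀ {T : Over (Spec (CommRingCat.of k))} {a b : T ⟶ B}, (∀ i, a ≫ π i = b ≫ π i) → a = b :=
      fun {T a b} h => (huniv fun i => b ≫ π i).unique h fun i => rfl
    have hmk : ∀ {Z : Over (Spec (CommRingCat.of k))} [GrpObj Z] [IsProper Z.hom] [GeometricallyIntegral Z.hom]
        (a : Fin n → (Z ⟶ A)), (∀ i, η[Z] ≫ a i = η[A]) → ∃ b : Z ⟶ B, IsMonHom b ∧ ∀ i, b ≫ π i = a i := by
      intro Z _ _ _ a ha
      obtain ⟨b, hb, -⟩ := huniv a
      exact ⟨b, H25Rig.isMonHom_of_one_hom _ (hext fun i => by rw [Category.assoc, hb, ha, IsMonHom.one_hom (π i)]), hb⟩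
    obtain ⟨h, hh, hhπ⟩ := hmk (fun i => (ψ i).toHom) fun i => IsMonHom.one_hom (ψ i).toHom
    haveI := hh
    haveI : Mono h := ⟨fun {T} a b hab => hψ T a b fun i => by
      rw [← hhπ, ← Category.assoc, ← Category.assoc, hab]⟩
    haveI : Mono h.left := inferInstanceAs (Mono ((Over.forget _).map h))
    haveI : IsProper h.left := by
      haveI : IsProper (h.left ≫ B.hom) := by rw [Over.w h]; infer_instance
      exact IsProper.of_comp h.left B.hom
    haveI : IsClosedImmersion h.left :=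
      (IsClosedImmersion.iff_isProper_and_mono h.left).2 ⟨inferInstance, inferInstance⟩
    obtain ⟨Q, gQ, q, hQ1, hQ2, hq, hqf, hqs, hqc, hker⟩ := H25Chow.exists_av_quotient h
    haveI := hQ1; haveI := hQ2; haveI := hq; haveI := hqf; haveI := hqs; haveI := hqc
    haveI : IsCommMonObj Q := H25AbCube.isCommMonObj_of_av
    haveI : FrobSch.IsCharP A.left p := FrobSch.IsCharP.of_hom A.hom p
    haveI : FrobSch.IsCharP B.left p := FrobSch.IsCharP.of_hom B.hom p
    haveI : FrobSch.IsCharP Q.left p := FrobSch.IsCharP.of_hom Q.hom p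
    let FB := H25AbCube.FrobPoints.F p B N hN 1
    let FQ := H25AbCube.FrobPoints.F p Q N hN 1
    haveI : IsMonHom FB := H25AbCube.FrobPoints.isMonHom_F p B N hN 1
    haveI : IsMonHom FQ := H25AbCube.FrobPoints.isMonHom_F p Q N hN 1
    have hπA : πA.left = H27Perf.Tower.fr p A.left ((N : ℕ) * 1) := by
      rw [Nat.mul_one]
      exact H25AbCube.Cogen.eq_fr p _ _ hπAb hπAle fun U s => by rw [hπAapp, hcard]
    have hPB : Polynomial.eval₂ (Int.castRingHom (EndAV.End B)) (EndAV.End.of FB) P = 0 := by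
      refine EndAV.End.ext (hext fun i => ?_)
      rw [H25AbCube.Cogen.eval₂_intertwine (EndAV.End.of FB) (EndAV.End.of πA) (π i) (Over.OverMorphism.ext (by
        show H27Perf.Tower.fr p B.left ((N : ℕ) * 1) ≫ (π i).left = (π i).left ≫ πA.left
        rw [hπA]
        exact H25AbCube.FrobPoints.fr_comm p _ _)) P, hPA, EndAV.End.toHom_zero, EndAV.End.toHom_zero,
        MonObj.comp_one, MonObj.one_comp]
    have hPQ : Polynomial.eval₂ (Int.castRingHom (EndAV.End Q)) (EndAV.End.of FQ) P = 0 := by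
      haveI : Epi q := H19Grp.epi_over_of_fpqc q
      refine EndAV.End.ext ((cancel_epi q).1 ?_)
      rw [← H25AbCube.Cogen.eval₂_intertwine (EndAV.End.of FB) (EndAV.End.of FQ) q (Over.OverMorphism.ext
        (H25AbCube.FrobPoints.fr_comm p q.left _)) P, hPB, EndAV.End.toHom_zero, EndAV.End.toHom_zero,
        MonObj.comp_one, MonObj.one_comp]
    obtain ⟨hQb, hQapp⟩ := H25AbCube.Cogen.fr_data p (X := Q.left) ((N : ℕ) * 1)
    have hQle : ∀ U : Q.left.Opens, U ≤ FQ.left ⁻¹ᵁ U := fun U x hx => by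
      show (H27Perf.Tower.fr p Q.left ((N : ℕ) * 1)).base x ∈ U
      rw [hQb]; exact hx
    obtain ⟨m, χ, hχ⟩ := hcog Q FQ hQb hQle (fun U s => (hQapp U (hQle U) s).trans (by rw [hcard, Nat.mul_one])) hPQ
    choose ι' hι' hιπ using fun i : Fin n => hmk (fun l => if l = i then 𝟙 A else 1) fun l => by
      split
      · exact Category.comp_id _
      · rw [MonObj.comp_one, Hom.one_def, toUnit_unique (toUnit _) (𝟙 _), Category.id_comp]
    haveI := hι'
    have hid : (∏ i, π i ≫ ι' i) = 𝟙 B := hext fun l => by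
      let R : (B ⟶ B) →* (B ⟶ A) :=
        { toFun := fun x => x ≫ π l, map_one' := MonObj.one_comp _, map_mul' := fun a b => MonObj.mul_comp a b _ }
      show R (∏ i, π i ≫ ι' i) = 𝟙 B ≫ π l
      rw [map_prod, Category.id_comp, Finset.prod_eq_single l]
      · show (π l ≫ ι' l) ≫ π l = π l
        rw [Category.assoc, hιπ, if_pos rfl, Category.comp_id]
      · intro i _ hi
        show (π i ≫ ι' i) ≫ π l = 1
        rw [Category.assoc, hιπ, if_neg (Ne.symm hi), MonObj.comp_one]
      · intro hl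
        exact absurd (Finset.mem_univ l) hl
    let s : Fin n → Fin m → EndAV.Hom A A := fun i j =>
      haveI : IsMonHom (ι' i ≫ q ≫ (χ j).toHom) := inferInstance
      EndAV.Hom.of (ι' i ≫ q ≫ (χ j).toHom)
    have hdec : ∀ {Z : Over (Spec (CommRingCat.of k))} [GrpObj Z] [IsCommMonObj Z] (z : Z ⟶ B) [IsMonHom z]
        (a : Fin n → EndAV.Hom Z A), (∀ i, z ≫ π i = (a i).toHom) → ∀ j,
        EndAV.Hom.toHom (∑ i, a i ≫ s i j : EndAV.Hom Z A) = z ≫ q ≫ (χ j).toHom := by
      intro Z _ _ z _ a ha j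
      let T₁ : EndAV.Hom Z A →+ Additive (Z ⟶ A) := AddMonoidHom.mk' (fun φ => Additive.ofMul φ.toHom) fun φ ψ => rfl
      have h1 : T₁ (∑ i, a i ≫ s i j) = Additive.ofMul (∏ i, (z ≫ π i) ≫ ι' i ≫ q ≫ (χ j).toHom) := by
        rw [map_sum, ofMul_prod]
        refine Finset.sum_congr rfl fun i _ => congrArg Additive.ofMul ?_
        rw [ha]; rfl
      refine (congrArg Additive.toMul h1).trans ?_
      let L : (B ⟶ B) →* (Z ⟶ A) :=
        { toFun := fun x => z ≫ x ≫ q ≫ (χ j).toHom
          map_one' := by rw [MonObj.one_comp, MonObj.comp_one]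
          map_mul' := fun a b => by rw [MonObj.mul_comp, MonObj.comp_mul] }
      have h2 := congrArg L hid
      rw [map_prod] at h2
      rw [toMul_ofMul]
      refine Eq.trans ?_ (h2.trans (by show z ≫ 𝟙 B ≫ _ = _; rw [Category.id_comp]))
      refine Finset.prod_congr rfl fun i _ => ?_
      show _ = z ≫ (π i ≫ ι' i) ≫ q ≫ (χ j).toHom
      simp only [Category.assoc]
    have hzero : ∀ j, (∑ i, ψ i ≫ s i j) = 0 := fun j => EndAV.Hom.ext (by
      rw [hdec h ψ hhπ j, ← Category.assoc, H19Grp.kernel_comp_eq_one hker, MonObj.one_comp, EndAV.Hom.toHom_zero])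
    obtain ⟨a, ha, haπ⟩ := hmk (fun i => (g (ψ i)).toHom) fun i => IsMonHom.one_hom (g (ψ i)).toHom
    haveI := ha
    have hgz : ∀ j, (∑ i, g (ψ i) ≫ s i j) = 0 := fun j => by
      rw [← map_zero g, ← hzero j, map_sum]
      exact Finset.sum_congr rfl fun i _ => (hg _ _).symm
    have haq : a ≫ q = 1 := hχ X _ _ fun j => by
      rw [Category.assoc, ← hdec a (fun i => g (ψ i)) haπ j, hgz j, MonObj.one_comp, EndAV.Hom.toHom_zero]
    obtain ⟨f, hf⟩ := H19Grp.kernel_lift hker a haq
    haveI : IsMonHom f := H25Rig.isMonHom_of_one_hom _ ((cancel_mono h).1 (by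
      rw [Category.assoc, hf, IsMonHom.one_hom a, IsMonHom.one_hom h]))
    exact ⟨EndAV.Hom.of f, fun i => EndAV.Hom.ext (by
      rw [EndAV.Hom.toHom_comp, EndAV.Hom.toHom_of, ← hhπ, ← Category.assoc, hf, haπ])⟩
  obtain ⟨n, ψ, hψ⟩ := hcog Y πY hπYb hπYle hπYapp hPY
  obtain ⟨f, hf⟩ := key n ψ hψ
  refine ⟨f, fun φ => ?_⟩
  obtain ⟨f', hf'⟩ := key (n + 1) (Fin.cons φ ψ) fun T x y hxy => hψ T x y fun i => hxy i.succ
  have heq : f' = f := EndAV.Hom.ext (hψ X _ _ fun i => by
    have h1 := hf' i.succ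
    rw [Fin.cons_succ, ← hf i] at h1
    exact congrArg EndAV.Hom.toHom h1)
  have h0 := hf' 0
  rw [Fin.cons_zero, heq] at h0
  exact h0.symm

end Groth.Agent.S16386
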