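import Groth.Statements.S16387
import Groth.Agent.H25AbCube.KerFinite
import Groth.Agent.H25AbCube.GeomCharPoly

set_option autoImplicit false
set_option linter.style.haveILetI false
set_option backward.isDefEq.respectTransparency false
set_option synthInstance.maxHeartbeats 200000
universe u
open CategoryTheory MonoidalCategory CartesianMonoidalCategory MonObj GrpObj AlgebraicGeometry
open AbVar

namespace Groth.Agent.S16387

/-- Let k be a finite field with algebraic closure Ω, l a prime number invertible in k, and A, B abelian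
varieties over k (proper, geometrically integral commutative group schemes over k). If the
homomorphism i : A → B is injective (a closed immersion), then the induced ℤ_l-linear map between
the l-adic Tate modules of Ω-points T_l(i) : T_l A → T_l B is injective with torsion-free, hence
free, cokernel: the quotient of T_l B by the image of T_l A is a free ℤ_l-module. -/
theorem result (k Ω : Type u) [Field k] [Finite k]
    [Field Ω] [Algebra k Ω] [IsAlgClosure k Ω] (l : ℕ) [Fact l.Prime] (hl : (l : k) ≠ 0)
    (A B : Over (Spec (CommRingCat.of k))) [GrpObj A] [IsCommMonObj A] [IsProper A.hom] [GeometricallyIntegral A.hom]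
    [GrpObj B] [IsCommMonObj B] [IsProper B.hom] [GeometricallyIntegral B.hom]
    (i : A ⟶ B) [IsMonHom i] [IsClosedImmersion i.left] :
    Function.Injective (AbDual.tateMapₗ (l := l) (T := SGA7.pt Ω) i) ∧
      Module.Free ℤ_[l] (AbDual.TateMod B l (SGA7.pt Ω) ⧸
        LinearMap.range (AbDual.tateMapₗ (l := l) (T := SGA7.pt Ω) i)) := by
  haveI : IsAlgClosed Ω := IsAlgClosure.isAlgClosed k
  haveI : Algebra.IsAlgebraic k Ω := IsAlgClosure.isAlgebraic
  haveI : Mono i := Over.mono_of_mono_left i
  refine ⟨H25AbCube.tateMap_injective_of_mono l i, ?_⟩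
  obtain ⟨h, hh⟩ : ∃ h : ℕ, topologicalKrullDim B.left = h := by
    haveI : IsIntegral B.left := GeometricallyIntegral.isIntegral_of_subsingleton B.hom
    exact H25Grp.exists_nat_dim B.hom
  obtain ⟨b⟩ := H25AbCube.exists_tateBasis_pt (A := B) (Ω := Ω) l hl hh
  haveI : Module.Finite ℤ_[l] (AbDual.TateMod B l (SGA7.pt Ω)) := Module.Finite.of_basis b
  let R := LinearMap.range (AbDual.tateMapₗ (l := l) (T := SGA7.pt Ω) i)
  have key : ∀ (m : ℕ) (y : AbDual.TateMod B l (SGA7.pt Ω)), (l ^ m) • y ∈ R → y ∈ R := fun m => by
    induction m with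
    | zero => intro y hy; rwa [pow_zero, one_smul] at hy
    | succ m ih =>
      intro y hy
      rw [pow_succ', mul_nsmul'] at hy
      exact ih _ (H25AbCube.mem_range_of_smul_mem l i _ hy)
  haveI : Module.IsTorsionFree ℤ_[l] (AbDual.TateMod B l (SGA7.pt Ω) ⧸ R) :=
    Module.isTorsionFree_iff_smul_eq_zero.2 fun c x hcx => by
    by_cases hc : c = 0
    · exact Or.inl hc
    refine Or.inr ?_
    obtain ⟨y, rfl⟩ := Submodule.Quotient.mk_surjective R x
    rw [← Submodule.Quotient.mk_smul, Submodule.Quotient.mk_eq_zero] at hcx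
    rw [Submodule.Quotient.mk_eq_zero]
    refine key c.valuation y ?_
    have h2 := R.smul_mem ((PadicInt.unitCoeff hc)⁻¹ : ℤ_[l]ˣ).val hcx
    rw [smul_smul] at h2
    conv at h2 => enter [2, 1, 2]; rw [PadicInt.unitCoeff_spec hc]
    rw [← _root_.mul_assoc, Units.inv_mul, _root_.one_mul, ← Nat.cast_pow, Nat.cast_smul_eq_nsmul] at h2
    exact h2
  exact Module.free_of_finite_type_torsion_free'

end Groth.Agent.S16387
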