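import Groth.Statements.S16388
import Groth.Agent.H25Weilp.Points

set_option autoImplicit false
set_option linter.style.haveILetI false
set_option backward.isDefEq.respectTransparency false
set_option synthInstance.maxHeartbeats 200000
universe u
open CategoryTheory MonoidalCategory CartesianMonoidalCategory MonObj GrpObj AlgebraicGeometry
open AbVar

namespace Groth.Agent.S16388

/-- For a single prime l different from the characteristic; let k be a finite field with algebraic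
closure Ω, l a prime number invertible in k, and A, B abelian varieties over k (proper,
geometrically integral commutative group schemes over k). For each k-automorphism τ of Ω let ρ_A(τ),
ρ_B(τ) be the ℤ_l-linear endomorphisms of the l-adic Tate modules of Ω-points T_l A, T_l B which act
on every component by the Galois action of τ (this pins them). Then T_l A and T_l B are isomorphic
as Galois modules — there is a ℤ_l-linear isomorphism e with e ∘ ρ_A(τ) = ρ_B(τ) ∘ e for all τ — if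
and only if there is an isogeny A → B of degree prime to l, expressed here as: homomorphisms f : A →
B and g : B → A and an integer N ≥ 1 not divisible by l such that g ∘ f is multiplication by N on A
and f ∘ g is multiplication by N on B. -/
theorem result (k Ω : Type u)
    [Field k] [Finite k] [Field Ω] [Algebra k Ω] [IsAlgClosure k Ω] (l : ℕ) [Fact l.Prime] (hl : (l : k) ≠ 0)
    (A B : Over (Spec (CommRingCat.of k))) [GrpObj A] [IsCommMonObj A] [IsProper A.hom] [GeometricallyIntegral A.hom]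
    [GrpObj B] [IsCommMonObj B] [IsProper B.hom] [GeometricallyIntegral B.hom]
    (ρA : (Ω ≃ₐ[k] Ω) → Module.End ℤ_[l] (AbDual.TateMod A l (SGA7.pt Ω)))
    (hρA : ∀ (τ : Ω ≃ₐ[k] Ω) (z : AbDual.TateMod A l (SGA7.pt Ω)) (m : ℕ),
      (AbDual.TateMod.component A l (SGA7.pt Ω) m (ρA τ z)).toMul =
        SGA7.galAct τ (AbDual.TateMod.component A l (SGA7.pt Ω) m z).toMul)
    (ρB : (Ω ≃ₐ[k] Ω) → Module.End ℤ_[l] (AbDual.TateMod B l (SGA7.pt Ω)))
    (hρB : ∀ (τ : Ω ≃ₐ[k] Ω) (z : AbDual.TateMod B l (SGA7.pt Ω)) (m : ℕ),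
      (AbDual.TateMod.component B l (SGA7.pt Ω) m (ρB τ z)).toMul =
        SGA7.galAct τ (AbDual.TateMod.component B l (SGA7.pt Ω) m z).toMul) :
    (∃ e : AbDual.TateMod A l (SGA7.pt Ω) ≃ₗ[ℤ_[l]] AbDual.TateMod B l (SGA7.pt Ω),
        ∀ τ : Ω ≃ₐ[k] Ω, e.toLinearMap ∘ₗ ρA τ = ρB τ ∘ₗ e.toLinearMap) ↔
      ∃ (f : A ⟶ B) (_ : IsMonHom f) (g : B ⟶ A) (_ : IsMonHom g) (N : ℕ), 0 < N ∧ ¬ l ∣ N ∧
        f ≫ g = (𝟙 A) ^ N ∧ g ≫ f = (𝟙 B) ^ N := by
  obtain rfl : ρA = Groth.Agent.H25TateConj.galT Ω l A := funext (Groth.Agent.H25TateConj.eq_galT ρA hρA)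
  obtain rfl : ρB = Groth.Agent.H25TateConj.galT Ω l B := funext (Groth.Agent.H25TateConj.eq_galT ρB hρB)
  constructor
  · rintro ⟨e, he⟩
    obtain ⟨πA, _, hA⟩ := Groth.Agent.H25Weilp.exists_isFrob A
    obtain ⟨πB, _, hB⟩ := Groth.Agent.H25Weilp.exists_isFrob B
    obtain ⟨F, hF⟩ := Groth.Agent.H25Weilp.exists_galT_eq (k := k) Ω l
    have h := he F
    rw [hF A πA hA, hF B πB hB] at h
    exact Groth.Agent.H25Weilp.exists_isogeny_of_equiv_int Ω l hl hA hB e h
  · rintro ⟨f, _, g, _, N, hN, hlN, hfg, hgf⟩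
    haveI : IsMonHom ((𝟙 A) ^ N : A ⟶ A) := Groth.Agent.H25AbCube.isMonHom_pow N
    haveI : IsMonHom ((𝟙 B) ^ N : B ⟶ B) := Groth.Agent.H25AbCube.isMonHom_pow N
    obtain ⟨c, hc⟩ : IsUnit (N : ℤ_[l]) := by
      rw [PadicInt.isUnit_iff, PadicInt.norm_def, PadicInt.coe_natCast, Padic.norm_natCast_eq_one_iff]
      exact ((Fact.out : l.Prime).coprime_iff_not_dvd).2 hlN
    have h1 : Groth.Agent.H25Weilp.tm Ω l g ∘ₗ Groth.Agent.H25Weilp.tm Ω l f = (N : ℤ_[l]) • LinearMap.id := by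
      rw [← Groth.Agent.H25Weilp.tm_comp, Groth.Agent.H25Weilp.tm_congr Ω l hfg, Groth.Agent.H25Weilp.tm_natPow]
    have h2 : Groth.Agent.H25Weilp.tm Ω l f ∘ₗ Groth.Agent.H25Weilp.tm Ω l g = (N : ℤ_[l]) • LinearMap.id := by
      rw [← Groth.Agent.H25Weilp.tm_comp, Groth.Agent.H25Weilp.tm_congr Ω l hgf, Groth.Agent.H25Weilp.tm_natPow]
    refine ⟨LinearEquiv.ofLinear (Groth.Agent.H25Weilp.tm Ω l f) ((c⁻¹ : (ℤ_[l])ˣ).val • Groth.Agent.H25Weilp.tm Ω l g) ?_ ?_,
      fun τ => (Groth.Agent.H25TateConj.galT_tateMap f τ).symm⟩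
    · rw [LinearMap.comp_smul, h2, smul_smul, ← hc, Units.inv_mul, one_smul]
    · rw [LinearMap.smul_comp, h1, smul_smul, ← hc, Units.inv_mul, one_smul]

end Groth.Agent.S16388
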