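import Groth.Statements.S16390
import Mathlib

set_option autoImplicit false
open AbVar

namespace Groth.Agent.S16390

/-- Let p be a prime number, r > 2 and q = p^r. The polynomial x² − p x + q is irreducible over ℚ, each
of its complex roots has absolute value √q (so its roots are Weil q-numbers), and it has two
distinct roots in ℚ_p, of p-adic valuations 1 and r − 1. The published lemma also computes the index
of the endomorphism algebra of the simple abelian variety attached to a root; this row does not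
state that part. -/
theorem result (p r : ℕ) [Fact p.Prime] (hr : 2 < r) :
    Irreducible (Polynomial.X ^ 2 - Polynomial.C (p : ℚ) * Polynomial.X + Polynomial.C ((p : ℚ) ^ r)) ∧
      (∀ π : ℂ, π ^ 2 - (p : ℂ) * π + (p : ℂ) ^ r = 0 → ‖π‖ = Real.sqrt ((p : ℝ) ^ r)) ∧
      ∃ a b : ℚ_[p], a ≠ b ∧ a ^ 2 - (p : ℚ_[p]) * a + (p : ℚ_[p]) ^ r = 0 ∧
        b ^ 2 - (p : ℚ_[p]) * b + (p : ℚ_[p]) ^ r = 0 ∧ a.valuation = 1 ∧ b.valuation = (r : ℤ) - 1 := by
  have hp : p.Prime := Fact.out
  have hp0 : (0 : ℝ) < p := by exact_mod_cast hp.pos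
  have hp1 : (2 : ℝ) ≤ p := by exact_mod_cast hp.two_le
  have hr' : (p : ℝ) ^ 3 ≤ (p : ℝ) ^ r := pow_le_pow_right₀ (by linarith) (by omega)
  have hdisc : (p : ℝ) ^ 2 < 4 * (p : ℝ) ^ r := by nlinarith [pow_pos hp0 2]
  refine ⟨?_, ?_, ?_⟩
  · rw [Polynomial.irreducible_iff_roots_eq_zero_of_degree_le_three]
    · rw [Multiset.eq_zero_iff_forall_notMem]
      intro x hx
      rw [Polynomial.mem_roots'] at hx
      have h := hx.2
      simp at h
      have h' : ((x : ℝ)) ^ 2 - (p : ℝ) * x + (p : ℝ) ^ r = 0 := by exact_mod_cast h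
      nlinarith [sq_nonneg (2 * (x : ℝ) - p)]
    · have : (Polynomial.X ^ 2 - Polynomial.C (p : ℚ) * Polynomial.X + Polynomial.C ((p : ℚ) ^ r)).natDegree = 2 := by
        compute_degree!
      omega
    · have : (Polynomial.X ^ 2 - Polynomial.C (p : ℚ) * Polynomial.X + Polynomial.C ((p : ℚ) ^ r)).natDegree = 2 := by
        compute_degree!
      omega
  · intro π h
    rw [Complex.norm_def]
    congr 1
    rw [Complex.normSq_apply]
    have hre := congrArg Complex.re h
    have him := congrArg Complex.im h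
    have epow : ((p : ℂ) ^ r) = (((p : ℝ) ^ r : ℝ) : ℂ) := by push_cast; rfl
    rw [epow] at hre him
    simp only [pow_two, Complex.add_re, Complex.sub_re, Complex.mul_re, Complex.add_im, Complex.sub_im,
      Complex.mul_im, Complex.natCast_re, Complex.natCast_im, Complex.zero_re, Complex.zero_im,
      Complex.ofReal_re, Complex.ofReal_im] at hre him
    have hz : (2 * π.re - p) * π.im = 0 := by linarith
    rcases mul_eq_zero.1 hz with h1 | h1
    · nlinarith
    · rw [h1] at hre; nlinarith [sq_nonneg (2 * π.re - p)]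
  · obtain ⟨f, hf⟩ : ∃ f : Polynomial ℤ_[p], f = Polynomial.X ^ 2 - Polynomial.X + Polynomial.C ((p : ℤ_[p]) ^ (r - 2)) :=
      ⟨_, rfl⟩
    have hpn : ‖(p : ℤ_[p]) ^ (r - 2)‖ < 1 := by
      rw [norm_pow]
      exact pow_lt_one₀ (norm_nonneg _) (by rw [PadicInt.norm_p]; exact inv_lt_one_of_one_lt₀ (by linarith)) (by omega)
    obtain ⟨t, ht, ht', -, -⟩ := hensels_lemma (F := f) (a := (1 : ℤ_[p])) (by
      simp [hf, -map_pow, Polynomial.derivative_pow]; norm_num; simpa using hpn)
    have hteq : (t : ℚ_[p]) ^ 2 - (t : ℚ_[p]) + (p : ℚ_[p]) ^ (r - 2) = 0 := by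
      have := congrArg (fun x : ℤ_[p] => (x : ℚ_[p])) ht
      simpa [hf] using this
    have htn : ‖t - 1‖ < 1 := by
      simpa [hf, Polynomial.derivative_pow, show (2 : ℤ_[p]) - 1 = 1 by norm_num] using ht'
    have hu : ‖t‖ = 1 := by
      have := PadicInt.nonarchimedean (t - 1) 1
      have h2 := PadicInt.norm_add_eq_max_of_ne (q := t - 1) (r := 1) (by rw [norm_one]; exact htn.ne)
      simpa [htn.le] using h2
    have ht0 : (t : ℚ_[p]) ≠ 0 := by
      intro h; rw [PadicInt.norm_def, h, norm_zero] at hu; exact zero_ne_one hu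
    have htv : (t : ℚ_[p]).valuation = 0 := by
      have h1 := Padic.norm_eq_zpow_neg_valuation ht0
      rw [← PadicInt.norm_def, hu] at h1
      have h2 := (zpow_right_injective₀ hp0 (by linarith : (p : ℝ) ≠ 1)).eq_iff.1
        (show (p : ℝ) ^ (0 : ℤ) = (p : ℝ) ^ (-(t : ℚ_[p]).valuation) by simpa using h1)
      omega
    have hpq : (p : ℚ_[p]) ≠ 0 := by exact_mod_cast hp.ne_zero
    have hpow : (p : ℚ_[p]) ^ r = (p : ℚ_[p]) ^ (r - 2) * (p : ℚ_[p]) ^ 2 := by
      rw [← pow_add]; congr 1; omega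
    refine ⟨(p : ℚ_[p]) * t, (p : ℚ_[p]) ^ (r - 1) / t, ?_, ?_, ?_, ?_, ?_⟩
    rotate_left
    · rw [hpow]; linear_combination (p : ℚ_[p]) ^ 2 * hteq
    · have e : ((p : ℚ_[p]) ^ (r - 1) / t) ^ 2 - (p : ℚ_[p]) * ((p : ℚ_[p]) ^ (r - 1) / t) + (p : ℚ_[p]) ^ r =
          (p : ℚ_[p]) ^ 2 * (p : ℚ_[p]) ^ (r - 2) / t ^ 2 * ((t : ℚ_[p]) ^ 2 - t + (p : ℚ_[p]) ^ (r - 2)) := by
        rw [hpow, show r - 1 = r - 2 + 1 by omega, pow_succ]
        field_simp
        ring
      rw [e, hteq, mul_zero]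
    · rw [Padic.valuation_mul hpq ht0, htv, Padic.valuation_p]; rfl
    · rw [div_eq_mul_inv, Padic.valuation_mul (pow_ne_zero _ hpq) (inv_ne_zero ht0), Padic.valuation_pow,
        Padic.valuation_inv, htv, Padic.valuation_p]
      push_cast [Nat.cast_sub (by omega : 1 ≤ r)]
      ring
    · intro h
      have := congrArg Padic.valuation h
      rw [Padic.valuation_mul hpq ht0, htv, Padic.valuation_p, div_eq_mul_inv,
        Padic.valuation_mul (pow_ne_zero _ hpq) (inv_ne_zero ht0), Padic.valuation_pow, Padic.valuation_inv, htv,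
        Padic.valuation_p] at this
      omega

end Groth.Agent.S16390
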