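import Groth.Statements.S16391
import Groth.Agent.H25Cog.Kernel
import Groth.Agent.H25Weilp.Hom

set_option autoImplicit false
set_option linter.style.haveILetI false
set_option backward.isDefEq.respectTransparency false
set_option synthInstance.maxHeartbeats 200000
universe u
open CategoryTheory MonoidalCategory CartesianMonoidalCategory MonObj GrpObj AlgebraicGeometry
open AbVar

namespace Groth.Agent.S16391

/-- (c) ⇒ (a₂): let k be a finite field with q elements and fix a polynomial P with integer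
coefficients. Work with abelian varieties over k (proper, geometrically integral commutative group
schemes over k) together with their q-Frobenius endomorphism π (the identity on points, the q-th
power map on sections; a homomorphism) such that P(π) = 0 in the endomorphism ring (for suitable P:
the abelian varieties with Weil support in a given finite set of Weil q-numbers); let A be one of
them and S = End(A) (product = composition). Assume that A is an injective cogenerator: (c₁) every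
such Z admits finitely many homomorphisms Z → A which are jointly monomorphic on T-valued points
over k, and (c₂) for such X, Y and every homomorphism X → Y which is a closed immersion, the
restriction map Hom(Y, A) → Hom(X, A) is surjective. Then the functor X ↦ Hom(X, A) is essentially
surjective onto left S-modules that are free of finite rank over ℤ: for every such module M there
are such an abelian variety X (with its Frobenius and P(π_X) = 0) and an additive bijection M ≅
Hom(X, A) carrying the action of s ∈ S to postcomposition with s. -/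
theorem result
    (k : Type u) [Field k] [Finite k]
    (P : Polynomial ℤ) (A : Over (Spec (CommRingCat.of k))) [GrpObj A] [IsCommMonObj A] [IsProper A.hom] [GeometricallyIntegral A.hom]
    (πA : A ⟶ A) [IsMonHom πA] (hπAb : πA.left.base = 𝟙 _)
    (hπAle : ∀ U : A.left.Opens, U ≤ πA.left ⁻¹ᵁ U)
    (hπAapp : ∀ (U : A.left.Opens) (s : Γ(A.left, U)), (πA.left.appLE U U (hπAle U)).hom s = s ^ Nat.card k)
    (hPA : Polynomial.eval₂ (Int.castRingHom (EndAV.End A)) (EndAV.End.of πA) P = 0)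
    (hcog : ∀ (Z : Over (Spec (CommRingCat.of k))) [GrpObj Z] [IsCommMonObj Z] [IsProper Z.hom] [GeometricallyIntegral Z.hom]
      (πZ : Z ⟶ Z) [IsMonHom πZ] (hπZb : πZ.left.base = 𝟙 _) (hπZle : ∀ U : Z.left.Opens, U ≤ πZ.left ⁻¹ᵁ U)
      (hπZapp : ∀ (U : Z.left.Opens) (s : Γ(Z.left, U)), (πZ.left.appLE U U (hπZle U)).hom s = s ^ Nat.card k)
      (hPZ : Polynomial.eval₂ (Int.castRingHom (EndAV.End Z)) (EndAV.End.of πZ) P = 0),
      ∃ (n : ℕ) (ψ : Fin n → EndAV.Hom Z A), ∀ (T : Over (Spec (CommRingCat.of k))) (x y : T ⟶ Z),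
        (∀ i, x ≫ (ψ i).toHom = y ≫ (ψ i).toHom) → x = y)
    (hext : ∀ (X Y : Over (Spec (CommRingCat.of k))) [GrpObj X] [IsCommMonObj X] [IsProper X.hom] [GeometricallyIntegral X.hom]
      [GrpObj Y] [IsCommMonObj Y] [IsProper Y.hom] [GeometricallyIntegral Y.hom]
      (πX : X ⟶ X) [IsMonHom πX] (hπXb : πX.left.base = 𝟙 _) (hπXle : ∀ U : X.left.Opens, U ≤ πX.left ⁻¹ᵁ U)
      (hπXapp : ∀ (U : X.left.Opens) (s : Γ(X.left, U)), (πX.left.appLE U U (hπXle U)).hom s = s ^ Nat.card k)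
      (hPX : Polynomial.eval₂ (Int.castRingHom (EndAV.End X)) (EndAV.End.of πX) P = 0)
      (πY : Y ⟶ Y) [IsMonHom πY] (hπYb : πY.left.base = 𝟙 _) (hπYle : ∀ U : Y.left.Opens, U ≤ πY.left ⁻¹ᵁ U)
      (hπYapp : ∀ (U : Y.left.Opens) (s : Γ(Y.left, U)), (πY.left.appLE U U (hπYle U)).hom s = s ^ Nat.card k)
      (hPY : Polynomial.eval₂ (Int.castRingHom (EndAV.End Y)) (EndAV.End.of πY) P = 0)
      (φ : EndAV.Hom X Y) [IsClosedImmersion φ.toHom.left] (f : EndAV.Hom X A), ∃ g : EndAV.Hom Y A, φ ≫ g = f)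
    (M : Type u) [AddCommGroup M] [Module (EndAV.End A) M] [Module.Finite ℤ M] [Module.Free ℤ M] :
    ∃ (X : Over (Spec (CommRingCat.of k))) (_ : GrpObj X) (_ : IsCommMonObj X) (_ : IsProper X.hom)
      (_ : GeometricallyIntegral X.hom) (πX : X ⟶ X) (_ : IsMonHom πX) (_ : πX.left.base = 𝟙 _)
      (hπXle : ∀ U : X.left.Opens, U ≤ πX.left ⁻¹ᵁ U)
      (_ : ∀ (U : X.left.Opens) (s : Γ(X.left, U)), (πX.left.appLE U U (hπXle U)).hom s = s ^ Nat.card k)
      (_ : Polynomial.eval₂ (Int.castRingHom (EndAV.End X)) (EndAV.End.of πX) P = 0)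
      (e : M ≃+ EndAV.Hom X A), ∀ (s : EndAV.End A) (m : M), (e (s • m)).toHom = (e m).toHom ≫ s.toHom := by
  classical
  obtain ⟨n, gen, hgen⟩ := Module.Finite.exists_fin (R := ℤ) (M := M)
  haveI : Module.Finite ℤ (EndAV.End A) := Groth.Agent.H25AbCube.moduleFinite_hom
  let S : Type u := EndAV.End A
  let π : (Fin n → EndAV.End A) →ₗ[ℤ] M := ∑ i, ((LinearMap.toSpanSingleton (EndAV.End A) M (gen i)).restrictScalars ℤ).comp (LinearMap.proj i)
  have hπ : ∀ s, π s = ∑ i, s i • gen i := fun s => by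
    simp [π, LinearMap.sum_apply]
  have hπsurj : ∀ m : M, ∃ s, π s = m := fun m => by
    obtain ⟨c, hc⟩ := (Submodule.mem_span_range_iff_exists_fun ℤ).1 (show m ∈ Submodule.span ℤ (Set.range gen) from hgen ▸ trivial)
    exact ⟨fun i => (c i : EndAV.End A), by simp only [hπ, Int.cast_smul_eq_zsmul]; exact hc⟩
  obtain ⟨m, rel, hrel⟩ := Module.Finite.exists_fin (R := ℤ) (M := LinearMap.ker π)
  obtain ⟨An, _, _, _, _, pr, inc, hsum, hdelta, hext'⟩ := Groth.Agent.H25Cog.exists_power' A n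
  obtain ⟨Am, _, _, _, _, pr', inc', hsum', hdelta', hext''⟩ := Groth.Agent.H25Cog.exists_power' A m
  let Φ : (Fin n → EndAV.End A) → EndAV.Hom An A := fun s => ∑ i, pr i ≫ s i
  have hΦadd : ∀ s t, Φ (s + t) = Φ s + Φ t := fun s t => by
    simp only [Φ, Pi.add_apply]
    rw [← Finset.sum_add_distrib]
    exact Finset.sum_congr rfl fun i _ => Preadditive.comp_add _ _ _ (pr i) (s i) (t i)
  have hΦsmul : ∀ (a : EndAV.End A) s, Φ (fun i => a * s i) = Φ s ≫ a := fun a s => by
    simp only [Φ, Preadditive.sum_comp, Category.assoc]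
    rfl
  let ΦH : (Fin n → EndAV.End A) →+ EndAV.Hom An A := AddMonoidHom.mk' Φ hΦadd
  have hΦsurj : ∀ φ : EndAV.Hom An A, Φ (fun i => inc i ≫ φ) = φ := fun φ => by
    show ∑ i, pr i ≫ inc i ≫ φ = φ
    simp only [← Category.assoc, ← Preadditive.sum_comp, hsum, Category.id_comp]
  have hΦinj : ∀ s, Φ s = 0 → s = 0 := fun s h => funext fun i => by
    have h' := congrArg (inc i ≫ ·) h
    simp only [Φ, Preadditive.comp_sum, Limits.comp_zero, ← Category.assoc, hdelta] at h'
    rw [Finset.sum_eq_single i (fun j _ hj => by rw [if_neg (Ne.symm hj), Limits.zero_comp])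
      (fun h => absurd (Finset.mem_univ i) h), if_pos rfl, Category.id_comp] at h'
    exact h'
  let Ψ : EndAV.Hom An Am := ∑ l, Φ (rel l).1 ≫ inc' l
  have hΨ : ∀ l, Ψ ≫ pr' l = Φ (rel l).1 := fun l => by
    rw [Preadditive.sum_comp, Finset.sum_eq_single l (fun j _ hj => by rw [Category.assoc, hdelta', if_neg hj, Limits.comp_zero])
      (fun h => absurd (Finset.mem_univ l) h), Category.assoc, hdelta', if_pos rfl, Category.comp_id]
  -- the abelian part of the kernel
  obtain ⟨N₀, _, iN, hiN, hiNc, hker⟩ := Groth.Agent.H19Grp.AffineQuotient.exists_kernel Ψ.toHom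
  haveI := hiN; haveI := hiNc
  haveI : IsProper N₀.hom := by rw [← Over.w iN]; infer_instance
  obtain ⟨C, _, _, _, c, Q, _, ρ, hc, hcc, hρ, hQf, hlift⟩ := Groth.Agent.H25AbCube.exists_abelian_part N₀
  haveI := hc; haveI := hcc; haveI := hρ; haveI := hQf
  haveI : IsCommMonObj C := Groth.Agent.H25AbCube.isCommMonObj_of_av
  let j : EndAV.Hom C An := EndAV.Hom.of (c ≫ iN)
  haveI : IsClosedImmersion j.toHom.left := by
    show IsClosedImmersion (c.left ≫ iN.left)
    infer_instance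
  haveI : Mono j.toHom := Over.mono_of_mono_left j.toHom
  have hjΨ : j ≫ Ψ = 0 := EndAV.Hom.ext (by
    show (c ≫ iN) ≫ Ψ.toHom = 1
    rw [Category.assoc, Groth.Agent.H19Grp.kernel_comp_eq_one hker, MonObj.comp_one])
  -- every polynomial condition transfers
  obtain ⟨πn, _, hπn⟩ := Groth.Agent.H25Weilp.exists_isFrob An
  obtain ⟨πm, _, hπm⟩ := Groth.Agent.H25Weilp.exists_isFrob Am
  obtain ⟨πC, _, hπC⟩ := Groth.Agent.H25Weilp.exists_isFrob C
  have hA' : Groth.Agent.H25Weilp.IsFrob πA := ⟨hπAb, hπAle, hπAapp⟩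
  have hPow : ∀ {N : ℕ} (Z : Over (Spec (CommRingCat.of k))) [GrpObj Z] [IsCommMonObj Z] [IsProper Z.hom]
      [GeometricallyIntegral Z.hom] (πZ : Z ⟶ Z) [IsMonHom πZ] (p : Fin N → EndAV.Hom Z A),
      Groth.Agent.H25Weilp.IsFrob πZ →
      (∀ {T : Over (Spec (CommRingCat.of k))} (a b : T ⟶ Z), (∀ i, a ≫ (p i).toHom = b ≫ (p i).toHom) → a = b) →
      Polynomial.eval₂ (Int.castRingHom (EndAV.End Z)) (EndAV.End.of πZ) P = 0 := fun {N} Z _ _ _ _ πZ _ p hπZ hp =>
    EndAV.End.ext (hp _ _ fun i => by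
      rw [Groth.Agent.H25Cog.eval_comm (p i) (EndAV.End.of πZ) (EndAV.End.of πA) (hπZ.comm hA' (p i).toHom) P, hPA,
        EndAV.End.toHom_zero, EndAV.End.toHom_zero, MonObj.comp_one, MonObj.one_comp])
  have hPn := hPow An πn pr hπn hext'
  have hPm := hPow Am πm pr' hπm hext''
  have hPC := Groth.Agent.H25Cog.eval_eq_zero_of_mono j (EndAV.End.of πC) (EndAV.End.of πn) (hπC.comm hπn j.toHom) P hPn
  let F : (Fin n → EndAV.End A) →+ EndAV.Hom C A :=
    AddMonoidHom.mk' (fun s => j ≫ Φ s) fun s t => by rw [hΦadd, Preadditive.comp_add]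
  -- relations vanish
  have hFker : ∀ s, π s = 0 → F s = 0 := fun s hs => by
    have hmem : (⟨s, LinearMap.mem_ker.2 hs⟩ : LinearMap.ker π) ∈ Submodule.span ℤ (Set.range rel) := hrel ▸ trivial
    obtain ⟨a, ha⟩ := (Submodule.mem_span_range_iff_exists_fun ℤ).1 hmem
    have ha' : ∑ l, a l • (rel l).1 = s := by
      have := congrArg Subtype.val ha
      simpa using this
    rw [← ha', map_sum]
    refine Finset.sum_eq_zero fun l _ => ?_
    rw [map_zsmul]
    show a l • (j ≫ Φ (rel l).1) = 0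
    rw [← hΨ, ← Category.assoc, hjΨ, Limits.zero_comp, smul_zero]
  -- the converse: the image of the tuple of relations
  obtain ⟨B, _, iB, g, hiB, hiBc, hBp, hBg, hfac, hgh, hgs⟩ := Groth.Agent.H25AbCube.exists_abelian_image Ψ.toHom
  haveI := hiB; haveI := hiBc; haveI := hBp; haveI := hBg; haveI := hgh; haveI := hgs
  haveI : IsCommMonObj B := Groth.Agent.H25AbCube.isCommMonObj_of_av
  haveI : IsClosedImmersion (EndAV.Hom.of iB).toHom.left := hiBc
  haveI : Mono iB := Over.mono_of_mono_left iB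
  haveI : Mono (EndAV.Hom.of iB).toHom := ‹Mono iB›
  obtain ⟨πB, _, hπB⟩ := Groth.Agent.H25Weilp.exists_isFrob B
  have hPB := Groth.Agent.H25Cog.eval_eq_zero_of_mono (EndAV.Hom.of iB) (EndAV.End.of πB) (EndAV.End.of πm)
    (hπB.comm hπm iB) P hPm
  have hgi : EndAV.Hom.of g ≫ EndAV.Hom.of iB = Ψ := EndAV.Hom.ext hfac
  have hjg : j ≫ EndAV.Hom.of g = 0 := EndAV.Hom.ext ((cancel_mono iB).1 (by
    show (j.toHom ≫ g) ≫ iB = (1 : C ⟶ B) ≫ iB
    rw [Category.assoc, hfac, MonObj.one_comp]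
    exact congrArg EndAV.Hom.toHom hjΨ))
  obtain ⟨v, _, N₁, hN₁, hjv⟩ := Groth.Agent.H25Cog.exists_retraction j.toHom
  have hjv' : j ≫ EndAV.Hom.of v = (N₁ : ℤ) • 𝟙 _ := EndAV.Hom.ext (by
    rw [EndAV.Hom.toHom_zsmul, zpow_natCast]; exact hjv)
  haveI : IsProper (B ⊗ C).hom := by
    rw [Over.tensorObj_hom]
    haveI : IsProper (Limits.pullback.fst B.hom C.hom) := MorphismProperty.pullback_fst (P := @IsProper) _ _ inferInstance
    infer_instance
  haveI : GeometricallyIntegral (B ⊗ C).hom := Groth.Agent.H25Rig.geometricallyIntegral_tensor B C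
  haveI : IsCommMonObj (B ⊗ C) := Groth.Agent.H25AbCube.isCommMonObj_of_av
  let τ : An ⟶ B ⊗ C := lift g v
  haveI : IsFinite τ.left := Groth.Agent.H25Cog.isFinite_of_no_abelian τ fun Z _ _ _ _ z _ _ hz => by
    have hzg : z ≫ g = 1 := by
      have := congrArg (· ≫ fst B C) hz
      simpa only [τ, Category.assoc, lift_fst, MonObj.one_comp] using this
    have hzv : z ≫ v = 1 := by
      have := congrArg (· ≫ snd B C) hz
      simpa only [τ, Category.assoc, lift_snd, MonObj.one_comp] using this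
    obtain ⟨w, hw⟩ := Groth.Agent.H19Grp.kernel_lift hker z (by
      rw [← hfac, ← Category.assoc, hzg, MonObj.one_comp])
    haveI : Mono iN := Over.mono_of_mono_left iN
    haveI : IsMonHom w := Groth.Agent.H25Rig.isMonHom_of_one_hom w ((cancel_mono iN).1 (by
      rw [Category.assoc, hw, IsMonHom.one_hom z, IsMonHom.one_hom iN]))
    haveI : IsAffine Q.left := isAffine_of_isAffineHom Q.hom
    obtain ⟨y, hy⟩ := hlift Z w (Groth.Agent.H25Cog.eq_one_of_finite (w ≫ ρ) (IsMonHom.one_hom (w ≫ ρ)))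
    have hyj : y ≫ j.toHom = z := by
      show y ≫ c ≫ iN = z
      rw [← Category.assoc, hy, hw]
    haveI : IsMonHom y := Groth.Agent.H25Rig.isMonHom_of_one_hom y ((cancel_mono j.toHom).1 (by
      rw [Category.assoc, hyj, IsMonHom.one_hom z, IsMonHom.one_hom j.toHom]))
    have hpow : y ^ N₁ = 1 := by
      rw [← hzv, ← hyj, Category.assoc, hjv, MonObj.comp_pow, Category.comp_id]
    rw [← hyj, Groth.Agent.H25Cog.eq_one_of_pow_eq_one y hN₁ hpow, MonObj.one_comp]
  -- a quasi-inverse of the finite map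
  obtain ⟨I', _, iI, τ', hiI, hiIc, hIp, hIg, hτfac, hτh, hτs⟩ := Groth.Agent.H25AbCube.exists_abelian_image τ
  haveI := hiI; haveI := hiIc; haveI := hIp; haveI := hIg; haveI := hτh; haveI := hτs
  haveI : IsCommMonObj I' := Groth.Agent.H25AbCube.isCommMonObj_of_av
  haveI : IsFinite τ'.left := by
    haveI : IsFinite (τ'.left ≫ iI.left) := by rw [← Over.comp_left, hτfac]; infer_instance
    exact IsFinite.of_comp τ'.left iI.left
  obtain ⟨N₂, hN₂, ω, hω, hω1, -⟩ := Groth.Agent.H25AbCube.exists_isogeny_inverse τ'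
  haveI := hω
  obtain ⟨w, _, N₃, hN₃, hiw⟩ := Groth.Agent.H25Cog.exists_retraction iI
  let U : EndAV.Hom (B ⊗ C) An := EndAV.Hom.of (w ≫ ω)
  haveI : IsMonHom (1 : B ⟶ C) := EndAV.Hom.isMonHom_toHom (0 : EndAV.Hom B C)
  haveI : IsMonHom (1 : C ⟶ B) := EndAV.Hom.isMonHom_toHom (0 : EndAV.Hom C B)
  let inB : EndAV.Hom B (B ⊗ C) := EndAV.Hom.of (lift (𝟙 B) 1)
  let inC : EndAV.Hom C (B ⊗ C) := EndAV.Hom.of (lift 1 (𝟙 C))
  have hτ2 : EndAV.Hom.of τ = EndAV.Hom.of g ≫ inB + EndAV.Hom.of v ≫ inC := EndAV.Hom.ext (by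
    show τ = (g ≫ lift (𝟙 B) 1) * (v ≫ lift 1 (𝟙 C))
    refine CartesianMonoidalCategory.hom_ext _ _ ?_ ?_ <;>
      simp [τ, MonObj.mul_comp, MonObj.comp_one])
  have hτU : EndAV.Hom.of τ ≫ U = ((N₂ * N₃ : ℕ) : ℤ) • 𝟙 _ := EndAV.Hom.ext (by
    rw [EndAV.Hom.toHom_zsmul, zpow_natCast]
    show τ ≫ w ≫ ω = (𝟙 An) ^ (N₂ * N₃)
    rw [← hτfac, Category.assoc, ← Category.assoc iI w ω, hiw, MonObj.pow_comp, Category.id_comp,
      MonObj.comp_pow, hω1, ← pow_mul, mul_comm])
  have hdesc : ∀ φ : EndAV.Hom An A, j ≫ φ = 0 →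
      ∃ b : EndAV.Hom B A, ((N₂ * N₃ : ℕ) : ℤ) • φ = EndAV.Hom.of g ≫ b := by
    intro φ hφ
    have hC : inC ≫ U ≫ φ = 0 := by
      have h1 : (N₁ : ℤ) • (inC ≫ U ≫ φ) = 0 := by
        have h2 := congrArg (fun x => j ≫ x ≫ φ) hτU
        simp only [hτ2, Preadditive.add_comp, Preadditive.comp_add, Category.assoc, Preadditive.zsmul_comp,
          Preadditive.comp_zsmul, Category.id_comp, hφ, smul_zero] at h2
        rw [← Category.assoc j (EndAV.Hom.of g), hjg, Limits.zero_comp, zero_add, ← Category.assoc j (EndAV.Hom.of v),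
          hjv', Preadditive.zsmul_comp, Category.id_comp] at h2
        exact h2
      have h3 := congrArg EndAV.Hom.toHom h1
      rw [EndAV.Hom.toHom_zsmul, zpow_natCast, EndAV.Hom.toHom_zero] at h3
      exact EndAV.Hom.ext (Groth.Agent.H25Cog.eq_one_of_pow_eq_one _ hN₁ h3)
    refine ⟨inB ≫ U ≫ φ, ?_⟩
    have h := congrArg (fun x => x ≫ φ) hτU
    simp only [Preadditive.zsmul_comp, Category.id_comp] at h
    rw [← h, hτ2]
    simp only [Preadditive.add_comp, Category.assoc, hC, Limits.comp_zero, add_zero]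
  have hFinj : ∀ s, F s = 0 → π s = 0 := fun s hs => by
    obtain ⟨b, hb⟩ := hdesc (Φ s) hs
    obtain ⟨b', hb'⟩ := hext B Am πB hπB.base hπB.le hπB.app hPB πm hπm.base hπm.le hπm.app hPm (EndAV.Hom.of iB) b
    let a' : Fin m → EndAV.End A := fun l => inc' l ≫ b'
    have h1 : ((N₂ * N₃ : ℕ) : ℤ) • Φ s = Φ (fun i => ∑ l, a' l * (rel l).1 i) := by
      rw [hb, ← hb', ← Category.assoc, hgi]
      conv_lhs => rw [← Category.id_comp b', ← hsum']
      simp only [Preadditive.sum_comp, Preadditive.comp_sum, Category.assoc]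
      show ∑ l, Ψ ≫ pr' l ≫ inc' l ≫ b' = ΦH (fun i => ∑ l, a' l * (rel l).1 i)
      rw [show (fun i => ∑ l, a' l * (rel l).1 i) =
        ∑ l, (fun i => a' l * (rel l).1 i) from funext fun i => by simp [Finset.sum_apply],
        map_sum]
      refine Finset.sum_congr rfl fun l _ => ?_
      rw [← Category.assoc, hΨ]
      exact (hΦsmul _ _).symm
    have h2 : ((N₂ * N₃ : ℕ) : ℤ) • s = fun i => ∑ l, a' l * (rel l).1 i := by
      refine sub_eq_zero.1 (hΦinj _ ?_)
      show ΦH _ = 0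
      rw [map_sub, map_zsmul, sub_eq_zero]
      exact h1
    have h3 : ((N₂ * N₃ : ℕ) : ℤ) • π s = 0 := by
      rw [← map_zsmul, h2, hπ]
      simp only [Finset.sum_smul, mul_smul]
      rw [Finset.sum_comm]
      refine Finset.sum_eq_zero fun l _ => ?_
      rw [← Finset.smul_sum, ← hπ, LinearMap.mem_ker.1 (rel l).2, smul_zero]
    exact (smul_eq_zero.1 h3).resolve_left (by exact_mod_cast (Nat.mul_pos hN₂ hN₃).ne')
  choose sec hsec using hπsurj
  have hwd : ∀ s t, π s = π t → F s = F t := fun s t h => by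
    rw [← sub_eq_zero, ← map_sub]
    exact hFker _ (by rw [map_sub, h, sub_self])
  let e : M →+ EndAV.Hom C A := AddMonoidHom.mk' (fun x => F (sec x)) fun x y => by
    rw [← map_add]
    exact hwd _ _ (by rw [map_add, hsec, hsec, hsec])
  have hebij : Function.Bijective e := by
    refine ⟨(injective_iff_map_eq_zero e).2 fun x hx => (hsec x).symm.trans (hFinj _ hx), fun r => ?_⟩
    obtain ⟨r', hr'⟩ := hext C An πC hπC.base hπC.le hπC.app hPC πn hπn.base hπn.le hπn.app hPn j r
    refine ⟨π (fun i => inc i ≫ r'), (hwd _ _ (hsec _)).trans ?_⟩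
    show j ≫ Φ (fun i => inc i ≫ r') = r
    rw [hΦsurj, hr']
  refine ⟨C, inferInstance, inferInstance, inferInstance, inferInstance, πC, inferInstance, hπC.base, hπC.le, hπC.app,
    hPC, AddEquiv.ofBijective e hebij, fun s x => ?_⟩
  have h : e (s • x) = e x ≫ s := by
    show F (sec (s • x)) = F (sec x) ≫ s
    rw [hwd (sec (s • x)) (fun i => s * sec x i) (by
      rw [hsec, hπ]
      conv_lhs => rw [← hsec x, hπ, Finset.smul_sum]
      simp only [mul_smul])]
    show j ≫ Φ _ = (j ≫ Φ _) ≫ s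
    rw [hΦsmul, Category.assoc]
  exact congrArg EndAV.Hom.toHom h

end Groth.Agent.S16391
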