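import Groth.Statements.S16393
import Groth.Agent.H25Cog.Kernel
import Groth.Agent.H25Weilp.Hom

set_option autoImplicit false
set_option linter.style.haveILetI false
set_option backward.isDefEq.respectTransparency false
set_option synthInstance.maxHeartbeats 200000
universe u
open CategoryTheory MonoidalCategory CartesianMonoidalCategory MonObj GrpObj AlgebraicGeometry
open AbVar

namespace Groth.Agent.S16393

/-- (a₁) ⇒ (b₁): let k be a finite field with q elements and fix a polynomial P with integer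
coefficients. Work with abelian varieties over k (proper, geometrically integral commutative group
schemes over k) with their q-Frobenius endomorphism π (identity on points, q-th power on sections; a
homomorphism) such that P(π) = 0 in the endomorphism ring (for suitable P: the abelian varieties
with Weil support in a given finite set of Weil q-numbers); let A be one of them. Assume (a₁): the
functor X ↦ Hom(X, A), with values in left End(A)-modules (End(A) acting by postcomposition), is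
fully faithful on these abelian varieties — for such X, Y, two homomorphisms X → Y agreeing after
composition with every homomorphism Y → A are equal, and every additive End(A)-linear map Hom(Y, A)
→ Hom(X, A) is precomposition with a homomorphism X → Y. Then (b₁): for such X and every finite
closed subgroup scheme H ⊆ X, H equals the common kernel of the homomorphisms X → A vanishing on H;
on points: a T-valued point of X over k which is sent to the unit by every homomorphism X → A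
killing H factors through H. -/
theorem result
    (k : Type u) [Field k] [Finite k]
    (P : Polynomial ℤ) (A : Over (Spec (CommRingCat.of k))) [GrpObj A] [IsCommMonObj A] [IsProper A.hom] [GeometricallyIntegral A.hom]
    (πA : A ⟶ A) [IsMonHom πA] (hπAb : πA.left.base = 𝟙 _) (hπAle : ∀ U : A.left.Opens, U ≤ πA.left ⁻¹ᵁ U)
      (hπAapp : ∀ (U : A.left.Opens) (s : Γ(A.left, U)), (πA.left.appLE U U (hπAle U)).hom s = s ^ Nat.card k)
    (hPA : Polynomial.eval₂ (Int.castRingHom (EndAV.End A)) (EndAV.End.of πA) P = 0)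
    (hff : ∀ (X Y : Over (Spec (CommRingCat.of k))) [GrpObj X] [IsCommMonObj X] [IsProper X.hom] [GeometricallyIntegral X.hom]
      [GrpObj Y] [IsCommMonObj Y] [IsProper Y.hom] [GeometricallyIntegral Y.hom]
      (πX : X ⟶ X) [IsMonHom πX] (hπXb : πX.left.base = 𝟙 _) (hπXle : ∀ U : X.left.Opens, U ≤ πX.left ⁻¹ᵁ U)
      (hπXapp : ∀ (U : X.left.Opens) (s : Γ(X.left, U)), (πX.left.appLE U U (hπXle U)).hom s = s ^ Nat.card k)
      (hPX : Polynomial.eval₂ (Int.castRingHom (EndAV.End X)) (EndAV.End.of πX) P = 0)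
      (πY : Y ⟶ Y) [IsMonHom πY] (hπYb : πY.left.base = 𝟙 _) (hπYle : ∀ U : Y.left.Opens, U ≤ πY.left ⁻¹ᵁ U)
      (hπYapp : ∀ (U : Y.left.Opens) (s : Γ(Y.left, U)), (πY.left.appLE U U (hπYle U)).hom s = s ^ Nat.card k)
      (hPY : Polynomial.eval₂ (Int.castRingHom (EndAV.End Y)) (EndAV.End.of πY) P = 0),
      (∀ f g : EndAV.Hom X Y, (∀ φ : EndAV.Hom Y A, f ≫ φ = g ≫ φ) → f = g) ∧
        (∀ g : EndAV.Hom Y A →+ EndAV.Hom X A,
          (∀ (φ : EndAV.Hom Y A) (s : EndAV.Hom A A), g (φ ≫ s) = g φ ≫ s) →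
            ∃ f : EndAV.Hom X Y, ∀ φ : EndAV.Hom Y A, g φ = f ≫ φ))
    (X : Over (Spec (CommRingCat.of k))) [GrpObj X] [IsCommMonObj X] [IsProper X.hom] [GeometricallyIntegral X.hom]
    (πX : X ⟶ X) [IsMonHom πX] (hπXb : πX.left.base = 𝟙 _) (hπXle : ∀ U : X.left.Opens, U ≤ πX.left ⁻¹ᵁ U)
      (hπXapp : ∀ (U : X.left.Opens) (s : Γ(X.left, U)), (πX.left.appLE U U (hπXle U)).hom s = s ^ Nat.card k)
    (hPX : Polynomial.eval₂ (Int.castRingHom (EndAV.End X)) (EndAV.End.of πX) P = 0)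
    (H : Over (Spec (CommRingCat.of k))) [GrpObj H] [IsFinite H.hom] (i : H ⟶ X) [IsMonHom i] [IsClosedImmersion i.left]
    (T : Over (Spec (CommRingCat.of k))) (x : T ⟶ X)
    (hx : ∀ f : EndAV.Hom X A, i ≫ f.toHom = 1 → x ≫ f.toHom = 1) :
    ∃ y : T ⟶ H, y ≫ i = x := by
  classical
  haveI : IsIntegral X.left := GeometricallyIntegral.isIntegral_of_subsingleton X.hom
  obtain ⟨Y, _, _, _, _, q, _, _, _, _, hker⟩ := Groth.Agent.H25Cog.exists_quotient i
  haveI : Epi q := Groth.Agent.H19Grp.epi_over_of_fpqc q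
  haveI : Epi (EndAV.Hom.of q).toHom := ‹Epi q›
  obtain ⟨πY, _, hπY⟩ := Groth.Agent.H25Weilp.exists_isFrob Y
  have hcq : πX ≫ q = q ≫ πY := Groth.Agent.H25Weilp.IsFrob.comm ⟨hπXb, hπXle, hπXapp⟩ hπY q
  have hPY := Groth.Agent.H25Cog.eval_eq_zero_of_epi (EndAV.Hom.of q) (EndAV.End.of πX) (EndAV.End.of πY) hcq P hPX
  obtain ⟨hY1, -⟩ := hff Y Y πY hπY.base hπY.le hπY.app hPY πY hπY.base hπY.le hπY.app hPY
  haveI : Module.Finite ℤ (EndAV.Hom Y A) := Groth.Agent.H25AbCube.moduleFinite_hom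
  obtain ⟨n, φ, hφ⟩ := Module.Finite.exists_fin (R := ℤ) (M := EndAV.Hom Y A)
  obtain ⟨An, _, _, _, _, pr, inc, hsum, hdelta, hext⟩ := Groth.Agent.H25Cog.exists_power' A n
  let Ψ : EndAV.Hom Y An := ∑ j, φ j ≫ inc j
  have hΨ : ∀ j, Ψ ≫ pr j = φ j := fun j => by
    rw [Preadditive.sum_comp, Finset.sum_eq_single j (fun l _ hl => by rw [Category.assoc, hdelta, if_neg hl, Limits.comp_zero])
      (fun h => absurd (Finset.mem_univ j) h), Category.assoc, hdelta, if_pos rfl, Category.comp_id]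
  have hkill : ∀ {T : Over (Spec (CommRingCat.of k))} (z : T ⟶ Y), z ≫ Ψ.toHom = 1 → ∀ r : EndAV.Hom Y A, z ≫ r.toHom = 1 := by
    intro T z hz r
    have hr : r ∈ Submodule.span ℤ (Set.range φ) := hφ ▸ trivial
    induction hr using Submodule.span_induction with
    | mem r hr =>
      obtain ⟨j, rfl⟩ := hr
      rw [← hΨ j]
      show z ≫ Ψ.toHom ≫ (pr j).toHom = 1
      rw [← Category.assoc, hz, MonObj.one_comp]
    | zero => rw [EndAV.Hom.toHom_zero, MonObj.comp_one]
    | add a b _ _ ha hb => rw [EndAV.Hom.toHom_add, MonObj.comp_mul, ha, hb, _root_.mul_one]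
    | smul c a _ ha => rw [EndAV.Hom.toHom_zsmul, GrpObj.comp_zpow, ha, one_zpow]
  haveI : IsFinite Ψ.toHom.left := Groth.Agent.H25Cog.isFinite_of_no_abelian Ψ.toHom fun Z _ _ _ _ z _ _ hz => by
    haveI : Mono z := Over.mono_of_mono_left z
    obtain ⟨πZ, _, hπZ⟩ := Groth.Agent.H25Weilp.exists_isFrob Z
    haveI : Mono (EndAV.Hom.of z).toHom := ‹Mono z›
    have hPZ := Groth.Agent.H25Cog.eval_eq_zero_of_mono (EndAV.Hom.of z) (EndAV.End.of πZ) (EndAV.End.of πY)
      (hπZ.comm hπY z) P hPY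
    exact congrArg EndAV.Hom.toHom ((hff Z Y πZ hπZ.base hπZ.le hπZ.app hPZ πY hπY.base hπY.le hπY.app hPY).1
      (EndAV.Hom.of z) 0 fun r => EndAV.Hom.ext ((hkill z hz r).trans (MonObj.one_comp r.toHom).symm))
  obtain ⟨K, _, j, _, _, hK⟩ := Groth.Agent.H19Grp.AffineQuotient.exists_kernel Ψ.toHom
  haveI : IsFinite K.hom := Groth.Agent.H25Cog.isFinite_of_isKernel Ψ.toHom j hK
  obtain ⟨Y', _, _, _, _, q', _, _, _, _, hker'⟩ := Groth.Agent.H25Cog.exists_quotient j
  haveI : Epi q' := Groth.Agent.H19Grp.epi_over_of_fpqc q'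
  haveI : Epi (EndAV.Hom.of q').toHom := ‹Epi q'›
  obtain ⟨πY', _, hπY'⟩ := Groth.Agent.H25Weilp.exists_isFrob Y'
  have hPY' := Groth.Agent.H25Cog.eval_eq_zero_of_epi (EndAV.Hom.of q') (EndAV.End.of πY) (EndAV.End.of πY')
    (hπY.comm hπY' q') P hPY
  have hdesc : ∀ r : EndAV.Hom Y A, ∃ r' : EndAV.Hom Y' A, EndAV.Hom.of q' ≫ r' = r := fun r => by
    obtain ⟨r', hr', hfac, -⟩ := Groth.Agent.H19Grp.exists_monHom_desc q' hker' r.toHom (by
      rw [← Hom.one_def]
      exact hkill j (Groth.Agent.H19Grp.kernel_comp_eq_one hK) r)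
    exact ⟨EndAV.Hom.of r', EndAV.Hom.ext hfac⟩
  choose g hg using hdesc
  have hinj : ∀ a b : EndAV.Hom Y' A, EndAV.Hom.of q' ≫ a = EndAV.Hom.of q' ≫ b → a = b := fun a b h =>
    EndAV.Hom.ext ((cancel_epi q').1 (congrArg EndAV.Hom.toHom h))
  obtain ⟨-, hfull⟩ := hff Y' Y πY' hπY'.base hπY'.le hπY'.app hPY' πY hπY.base hπY.le hπY.app hPY
  obtain ⟨v, hv⟩ := hfull (AddMonoidHom.mk' g fun a b => hinj _ _ (by rw [Preadditive.comp_add, hg, hg, hg]))
    fun r s => hinj _ _ (by
      show EndAV.Hom.of q' ≫ g (r ≫ s) = EndAV.Hom.of q' ≫ g r ≫ s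
      rw [hg, ← Category.assoc, hg])
  have hid : EndAV.Hom.of q' ≫ v = 𝟙 _ := hY1 _ _ fun r => by
    rw [Category.assoc, Category.id_comp, ← hv r]
    exact hg r
  have hxq : x ≫ q = 1 := by
    obtain ⟨y, hy⟩ := Groth.Agent.H19Grp.kernel_lift hK (x ≫ q) (hext _ _ fun l => by
      rw [Category.assoc, Category.assoc]
      show x ≫ q ≫ EndAV.Hom.toHom (Ψ ≫ pr l) = 1 ≫ (pr l).toHom
      rw [hΨ, MonObj.one_comp]
      exact hx (EndAV.Hom.of q ≫ φ l) (by
        show i ≫ q ≫ (φ l).toHom = 1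
        rw [← Category.assoc, Groth.Agent.H19Grp.kernel_comp_eq_one hker, MonObj.one_comp]))
    have h1 : j ≫ q' ≫ v.toHom = j := (congrArg (j ≫ ·) (congrArg EndAV.Hom.toHom hid)).trans (Category.comp_id j)
    rw [← hy, ← h1, ← Category.assoc j, Groth.Agent.H19Grp.kernel_comp_eq_one hker', MonObj.one_comp, MonObj.comp_one]
  exact Groth.Agent.H19Grp.kernel_lift hker x hxq

end Groth.Agent.S16393
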