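import Groth.Statements.S16394
import Groth.Agent.S4362

set_option autoImplicit false
universe u
open CategoryTheory MonoidalCategory CartesianMonoidalCategory MonObj GrpObj AlgebraicGeometry
open AbVar

namespace Groth.Agent.S16394


open CategoryTheory CategoryTheory.Limits MonoidalCategory CartesianMonoidalCategory MonObj AlgebraicGeometry


/-- (b₁) ⇒ (c₁): let k be a finite field and X, A abelian varieties over k (proper, geometrically
integral commutative group schemes over k). Suppose the common kernel of all homomorphisms X → A is
trivial: every T-valued point of X over k that is sent to the unit by every homomorphism X → A is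
the unit point (this is condition (b₁) for the trivial subgroup). Then there are finitely many
homomorphisms ψ_1, …, ψ_n : X → A which are jointly monomorphic on T-valued points — two T-valued
points of X with the same image under every ψ_i are equal — so that (ψ_i) is an injective
homomorphism X → A^n. The published statement restricts X and A to abelian varieties whose Frobenius
is killed by a fixed polynomial; this row has no such restriction. -/
theorem result
    (k : Type u) [Field k] [Finite k] (X A : Over (Spec (CommRingCat.of k))) [GrpObj X] [IsCommMonObj X] [IsProper X.hom] [GeometricallyIntegral X.hom]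
    [GrpObj A] [IsCommMonObj A] [IsProper A.hom] [GeometricallyIntegral A.hom]
    (hsep : ∀ (T : Over (Spec (CommRingCat.of k))) (x : T ⟶ X), (∀ f : EndAV.Hom X A, x ≫ f.toHom = 1) → x = 1) :
    ∃ (n : ℕ) (ψ : Fin n → EndAV.Hom X A), ∀ (T : Over (Spec (CommRingCat.of k))) (x y : T ⟶ X),
      (∀ i, x ≫ (ψ i).toHom = y ≫ (ψ i).toHom) → x = y := by
  classical
  haveI : CompactSpace X.left := QuasiCompact.compactSpace_of_compactSpace X.hom
  haveI : IsLocallyNoetherian X.left := LocallyOfFiniteType.isLocallyNoetherian X.hom
  haveI : IsNoetherian X.left := {}
  haveI : WellFoundedGT X.left.IdealSheafData := Groth.Agent.S4362.result X.left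
  haveI hη : IsClosedImmersion η[A].left := by
    haveI : IsClosedImmersion (η[A].left ≫ A.hom) := by
      rw [Over.w η[A]]
      exact inferInstanceAs (IsClosedImmersion (𝟙 (Spec (CommRingCat.of k))))
    exact IsClosedImmersion.of_comp η[A].left A.hom
  let P : EndAV.Hom X A → X.left.IdealSheafData := fun f => (Limits.pullback.fst f.toHom.left η[A].left).ker
  have key : ∀ (T : Over (Spec (CommRingCat.of k))) (x : T ⟶ X) (f : EndAV.Hom X A),
      x ≫ f.toHom = 1 ↔ P f ≤ x.left.ker := fun T x f => by
    constructor
    · intro h
      have e : x.left ≫ f.toHom.left = (toUnit T).left ≫ η[A].left := by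
        rw [← Over.comp_left, ← Over.comp_left]; exact congrArg CommaMorphism.left h
      show (Limits.pullback.fst f.toHom.left η[A].left).ker ≤ x.left.ker
      conv_rhs => rw [← Limits.pullback.lift_fst x.left (toUnit T).left e]
      exact Scheme.Hom.le_ker_comp _ _
    · intro h
      refine Over.OverMorphism.ext ?_
      have hl := IsClosedImmersion.lift_fac (Limits.pullback.fst f.toHom.left η[A].left) x.left h
      let z := IsClosedImmersion.lift (Limits.pullback.fst f.toHom.left η[A].left) x.left h
      have e : x.left ≫ f.toHom.left = (z ≫ Limits.pullback.snd f.toHom.left η[A].left) ≫ η[A].left := by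
        rw [← hl, Category.assoc, Limits.pullback.condition, Category.assoc]
      have hz : z ≫ Limits.pullback.snd f.toHom.left η[A].left = (toUnit T).left := by
        have h2 := congrArg (· ≫ A.hom) e
        simp only [Category.assoc, Over.w f.toHom, Over.w η[A], Over.w x] at h2
        have h3 := Over.w (toUnit T)
        exact ((Category.assoc _ _ _).trans h2.symm).trans (h3.symm.trans (Category.comp_id _)) |>.trans rfl
      show x.left ≫ f.toHom.left = ((toUnit T) ≫ η[A]).left
      rw [Over.comp_left, ← hz]
      exact e
  obtain ⟨t, ht, hsup⟩ := CompleteLattice.WellFoundedGT.isSupFiniteCompact X.left.IdealSheafData (Set.range P)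
  choose F hF using fun j : t => ht j.2
  refine ⟨Fintype.card t, fun i => F ((Fintype.equivFin t).symm i), fun T x y h => ?_⟩
  have hz : x * y⁻¹ = 1 := by
    refine hsep T _ fun f => (key T _ f).2 ?_
    refine (le_sSup (Set.mem_range_self f)).trans (hsup.le.trans (Finset.sup_le fun j hj => ?_))
    have hj' := h ((Fintype.equivFin t) ⟨j, hj⟩)
    simp only [Equiv.symm_apply_apply] at hj'
    refine (hF ⟨j, hj⟩).symm.le.trans ?_
    refine (key T _ _).1 ?_
    rw [MonObj.mul_comp, GrpObj.inv_comp, hj', mul_inv_cancel]
  exact mul_inv_eq_one.1 hz

end Groth.Agent.S16394
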