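import Groth.Statements.S16395
import Groth.Agent.H25Cog.Kernel
import Groth.Agent.H25Weilp.Hom

set_option autoImplicit false
set_option linter.style.haveILetI false
set_option backward.isDefEq.respectTransparency false
set_option synthInstance.maxHeartbeats 200000
universe u
open CategoryTheory MonoidalCategory CartesianMonoidalCategory MonObj GrpObj AlgebraicGeometry
open AbVar

namespace Groth.Agent.S16395

/-- (a) ⇒ (b₂): let k be a finite field with q elements and fix a polynomial P with integer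
coefficients. Work with abelian varieties over k (proper, geometrically integral commutative group
schemes over k) with their q-Frobenius endomorphism π (identity on points, q-th power on sections; a
homomorphism) such that P(π) = 0 in the endomorphism ring (for suitable P: the abelian varieties
with Weil support in a given finite set of Weil q-numbers); let A be one of them and S = End(A)
(product = composition), acting on each Hom(X, A) by postcomposition. Assume (a): the functor X ↦
Hom(X, A) is an anti-equivalence from these abelian varieties onto left S-modules free of finite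
rank over ℤ — (a₁) for such X, Y, homomorphisms X → Y agreeing after composition with every
homomorphism Y → A are equal and every additive S-linear map Hom(Y, A) → Hom(X, A) is precomposition
with a homomorphism X → Y; (a₂) every left S-module whose additive group is free of finite rank over
ℤ is additively and S-linearly isomorphic to Hom(Y, A) for some such Y. Then (b₂): for every such X
and every additive subgroup M ⊆ Hom(X, A) of finite index stable under postcomposition with
endomorphisms of A, a homomorphism f : X → A lies in M as soon as it kills the common kernel of M,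
i.e. every T-valued point of X over k sent to the unit by all members of M is sent to the unit by f. -/
theorem result
    (k : Type u) [Field k] [Finite k]
    (P : Polynomial ℤ) (A : Over (Spec (CommRingCat.of k))) [GrpObj A] [IsCommMonObj A] [IsProper A.hom] [GeometricallyIntegral A.hom]
    (πA : A ⟶ A) [IsMonHom πA] (hπAb : πA.left.base = 𝟙 _) (hπAle : ∀ U : A.left.Opens, U ≤ πA.left ⁻¹ᵁ U)
      (hπAapp : ∀ (U : A.left.Opens) (s : Γ(A.left, U)), (πA.left.appLE U U (hπAle U)).hom s = s ^ Nat.card k)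
    (hPA : Polynomial.eval₂ (Int.castRingHom (EndAV.End A)) (EndAV.End.of πA) P = 0)
    (hff : ∀ (X Y : Over (Spec (CommRingCat.of k))) [GrpObj X] [IsCommMonObj X] [IsProper X.hom] [GeometricallyIntegral X.hom]
      [GrpObj Y] [IsCommMonObj Y] [IsProper Y.hom] [GeometricallyIntegral Y.hom]
      (πX : X ⟶ X) [IsMonHom πX] (hπXb : πX.left.base = 𝟙 _) (hπXle : ∀ U : X.left.Opens, U ≤ πX.left ⁻¹ᵁ U)
      (hπXapp : ∀ (U : X.left.Opens) (s : Γ(X.left, U)), (πX.left.appLE U U (hπXle U)).hom s = s ^ Nat.card k)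
      (hPX : Polynomial.eval₂ (Int.castRingHom (EndAV.End X)) (EndAV.End.of πX) P = 0)
      (πY : Y ⟶ Y) [IsMonHom πY] (hπYb : πY.left.base = 𝟙 _) (hπYle : ∀ U : Y.left.Opens, U ≤ πY.left ⁻¹ᵁ U)
      (hπYapp : ∀ (U : Y.left.Opens) (s : Γ(Y.left, U)), (πY.left.appLE U U (hπYle U)).hom s = s ^ Nat.card k)
      (hPY : Polynomial.eval₂ (Int.castRingHom (EndAV.End Y)) (EndAV.End.of πY) P = 0),
      (∀ f g : EndAV.Hom X Y, (∀ φ : EndAV.Hom Y A, f ≫ φ = g ≫ φ) → f = g) ∧
        (∀ g : EndAV.Hom Y A →+ EndAV.Hom X A,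
          (∀ (φ : EndAV.Hom Y A) (s : EndAV.Hom A A), g (φ ≫ s) = g φ ≫ s) →
            ∃ f : EndAV.Hom X Y, ∀ φ : EndAV.Hom Y A, g φ = f ≫ φ))
    (hes : ∀ (M : Type u) [AddCommGroup M] [Module (EndAV.End A) M] [Module.Finite ℤ M] [Module.Free ℤ M],
      ∃ (Y : Over (Spec (CommRingCat.of k))) (_ : GrpObj Y) (_ : IsCommMonObj Y) (_ : IsProper Y.hom)
        (_ : GeometricallyIntegral Y.hom) (πY : Y ⟶ Y) (_ : IsMonHom πY) (_ : πY.left.base = 𝟙 _)
        (hπYle : ∀ U : Y.left.Opens, U ≤ πY.left ⁻¹ᵁ U)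
        (_ : ∀ (U : Y.left.Opens) (s : Γ(Y.left, U)), (πY.left.appLE U U (hπYle U)).hom s = s ^ Nat.card k)
        (_ : Polynomial.eval₂ (Int.castRingHom (EndAV.End Y)) (EndAV.End.of πY) P = 0)
        (e : M ≃+ EndAV.Hom Y A), ∀ (s : EndAV.End A) (m : M), (e (s • m)).toHom = (e m).toHom ≫ s.toHom)
    (X : Over (Spec (CommRingCat.of k))) [GrpObj X] [IsCommMonObj X] [IsProper X.hom] [GeometricallyIntegral X.hom]
    (πX : X ⟶ X) [IsMonHom πX] (hπXb : πX.left.base = 𝟙 _) (hπXle : ∀ U : X.left.Opens, U ≤ πX.left ⁻¹ᵁ U)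
      (hπXapp : ∀ (U : X.left.Opens) (s : Γ(X.left, U)), (πX.left.appLE U U (hπXle U)).hom s = s ^ Nat.card k)
    (hPX : Polynomial.eval₂ (Int.castRingHom (EndAV.End X)) (EndAV.End.of πX) P = 0)
    (M : AddSubgroup (EndAV.Hom X A)) (hM : M.FiniteIndex) (hMS : ∀ r ∈ M, ∀ s : EndAV.Hom A A, r ≫ s ∈ M)
    (f : EndAV.Hom X A)
    (hf : ∀ (T : Over (Spec (CommRingCat.of k))) (x : T ⟶ X), (∀ r ∈ M, x ≫ EndAV.Hom.toHom r = 1) → x ≫ f.toHom = 1) :
    f ∈ M := by
  classical
  haveI : IsIntegral X.left := GeometricallyIntegral.isIntegral_of_subsingleton X.hom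
  haveI : Module.Finite ℤ (EndAV.Hom X A) := Groth.Agent.H25AbCube.moduleFinite_hom
  have htf : ∀ (Z : Over (Spec (CommRingCat.of k))) [GrpObj Z] [IsCommMonObj Z] [IsProper Z.hom] [GeometricallyIntegral Z.hom]
      (m : ℤ) (r : EndAV.Hom Z A), m ≠ 0 → m • r = 0 → r = 0 := fun Z _ _ _ _ m r hm h => by
    have h' := congrArg EndAV.Hom.toHom h
    rw [EndAV.Hom.toHom_zsmul] at h'
    exact EndAV.Hom.ext (congrArg Additive.toMul (Groth.Agent.H25AbCube.eq_zero_of_smul_homs (Additive.ofMul r.toHom) m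
      (inferInstanceAs (IsMonHom r.toHom)) hm (congrArg Additive.ofMul h')))
  haveI : Module.IsTorsionFree ℤ (EndAV.Hom X A) :=
    Module.isTorsionFree_iff_smul_eq_zero.2 fun m r h => or_iff_not_imp_left.2 fun hm => htf X m r hm h
  haveI : Module.Finite ℤ M := inferInstanceAs (Module.Finite ℤ M.toIntSubmodule)
  haveI : Module.Free ℤ M :=
    haveI : Module.Free ℤ M.toIntSubmodule := Module.free_of_finite_type_torsion_free'
    ‹Module.Free ℤ M.toIntSubmodule›
  letI : SMul (EndAV.End A) M := ⟨fun s m => ⟨(m : EndAV.Hom X A) ≫ s, hMS m.1 m.2 s⟩⟩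
  letI : Module (EndAV.End A) M :=
    { one_smul := fun m => Subtype.ext (Category.comp_id _)
      mul_smul := fun s t m => Subtype.ext (Category.assoc _ _ _).symm
      smul_zero := fun s => Subtype.ext Limits.zero_comp
      smul_add := fun s a b => Subtype.ext (Preadditive.add_comp _ _ _ _ _ _)
      add_smul := fun s t m => Subtype.ext (Preadditive.comp_add _ _ _ _ _ _)
      zero_smul := fun m => Subtype.ext Limits.comp_zero }
  obtain ⟨Y, _, _, _, _, πY, _, hYb, hYle, hYapp, hPY, e, he⟩ := hes M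
  let e' : EndAV.Hom Y A →+ EndAV.Hom X A := (M.subtype).comp e.symm.toAddMonoidHom
  have heS : ∀ (r : EndAV.Hom Y A) (s : EndAV.Hom A A), e' (r ≫ s) = e' r ≫ s := fun r s => by
    have h : e.symm (r ≫ s) = (show EndAV.End A from s) • e.symm r := e.injective (EndAV.Hom.ext (by
      rw [e.apply_symm_apply, he, e.apply_symm_apply]
      rfl))
    show ((e.symm (r ≫ s) : M) : EndAV.Hom X A) = _
    rw [h]
    rfl
  obtain ⟨hfaith, hfull⟩ := hff X Y πX hπXb hπXle hπXapp hPX πY hYb hYle hYapp hPY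
  obtain ⟨g, hg⟩ := hfull e' heS
  haveI : IsIntegral Y.left := GeometricallyIntegral.isIntegral_of_subsingleton Y.hom
  obtain ⟨N, hN, hNM⟩ : ∃ N : ℕ, N ≠ 0 ∧ ∀ r : EndAV.Hom X A, N • r ∈ M := by
    haveI := hM
    exact ⟨M.index, AddSubgroup.FiniteIndex.index_ne_zero, fun r => M.nsmul_index_mem r⟩
  haveI : IsFinite g.toHom.left := Groth.Agent.H25Cog.isFinite_of_no_abelian g.toHom fun Z _ _ _ _ z _ _ hz => by
    haveI : Mono z := Over.mono_of_mono_left z
    haveI : Mono (EndAV.Hom.of z).toHom := ‹Mono z›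
    obtain ⟨πZ, _, hπZ⟩ := Groth.Agent.H25Weilp.exists_isFrob Z
    have hPZ := Groth.Agent.H25Cog.eval_eq_zero_of_mono (EndAV.Hom.of z) (EndAV.End.of πZ) (EndAV.End.of πX)
      (hπZ.comm ⟨hπXb, hπXle, hπXapp⟩ z) P hPX
    refine congrArg EndAV.Hom.toHom ((hff Z X πZ hπZ.base hπZ.le hπZ.app hPZ πX hπXb hπXle hπXapp hPX).1
      (EndAV.Hom.of z) 0 fun r => ?_)
    rw [Limits.zero_comp]
    refine htf Z (N : ℤ) _ (Int.natCast_ne_zero.2 hN) ?_
    rw [← Preadditive.comp_zsmul, natCast_zsmul]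
    obtain ⟨r', hr'⟩ : ∃ r', e' r' = N • r := ⟨e ⟨_, hNM r⟩, by simp [e']⟩
    rw [← hr', hg r', ← Category.assoc,
      show EndAV.Hom.of z ≫ g = 0 from EndAV.Hom.ext hz, Limits.zero_comp]
  obtain ⟨B, _, i, g', hi, hic, hBp, hBg, hfac, hg', hg's⟩ := Groth.Agent.H25AbCube.exists_abelian_image g.toHom
  haveI := hi; haveI := hic; haveI := hBp; haveI := hBg; haveI := hg'; haveI := hg's
  haveI : IsCommMonObj B := Groth.Agent.H25AbCube.isCommMonObj_of_av
  obtain ⟨v, _, m, hm, hiv⟩ := Groth.Agent.H25Cog.exists_retraction i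
  let h : EndAV.Hom Y Y := (m : ℤ) • 𝟙 _ - EndAV.Hom.of v ≫ EndAV.Hom.of i
  have hgh : g ≫ h = 0 := by
    rw [show g = EndAV.Hom.of g' ≫ EndAV.Hom.of i from EndAV.Hom.ext hfac.symm, Category.assoc]
    have hi0 : EndAV.Hom.of i ≫ h = 0 := by
      rw [Preadditive.comp_sub, Preadditive.comp_zsmul, Category.comp_id, ← Category.assoc,
        show EndAV.Hom.of i ≫ EndAV.Hom.of v = (m : ℤ) • 𝟙 _ from EndAV.Hom.ext (by
          rw [EndAV.Hom.toHom_zsmul, zpow_natCast]; exact hiv),
        Preadditive.zsmul_comp, Category.id_comp, sub_self]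
    rw [hi0, Limits.comp_zero]
  have hh : h = 0 := (hff Y Y πY hYb hYle hYapp hPY πY hYb hYle hYapp hPY).1 h 0 fun r => by
    rw [Limits.zero_comp]
    have h1 : e' (h ≫ r) = 0 := by rw [hg (h ≫ r), ← Category.assoc, hgh, Limits.zero_comp]
    have h2 : e.symm (h ≫ r) = 0 := Subtype.ext h1
    exact e.symm.injective (h2.trans (map_zero e.symm).symm)
  haveI : Surjective i.left := by
    haveI : Surjective ((𝟙 Y) ^ m : Y ⟶ Y).left := Groth.Agent.H25AbCube.surjective_pow hm
    have h1 : ((𝟙 Y) ^ m : Y ⟶ Y) = v ≫ i := by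
      have h2 := congrArg EndAV.Hom.toHom (sub_eq_zero.1 hh)
      rw [EndAV.Hom.toHom_zsmul, zpow_natCast] at h2
      exact h2
    haveI : Surjective (v.left ≫ i.left) := by rw [← Over.comp_left, ← h1]; infer_instance
    exact Surjective.of_comp v.left i.left
  haveI : Surjective g.toHom.left := by rw [← hfac, Over.comp_left]; infer_instance
  haveI : Smooth Y.hom := by
    haveI : GrpObj (Over.mk Y.hom) := inferInstanceAs (GrpObj Y)
    exact smooth_of_grpObj Y.hom
  haveI : Flat g.toHom.left := Groth.Agent.H19Grp.flat_of_surjective g.toHom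
  obtain ⟨K, _, j, _, _, hK⟩ := Groth.Agent.H19Grp.AffineQuotient.exists_kernel g.toHom
  obtain ⟨r, hr, hfr, -⟩ := Groth.Agent.H19Grp.exists_monHom_desc g.toHom hK f.toHom (by
    rw [← Hom.one_def]
    refine hf K j fun m hm => ?_
    obtain ⟨r', hr'⟩ : ∃ r', e' r' = m := ⟨e ⟨m, hm⟩, by simp [e']⟩
    rw [← hr', hg r']
    show j ≫ g.toHom ≫ r'.toHom = 1
    rw [← Category.assoc, Groth.Agent.H19Grp.kernel_comp_eq_one hK, MonObj.one_comp])
  haveI := hr
  have h1 : e' (EndAV.Hom.of r) = f := (hg _).trans (EndAV.Hom.ext hfr)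
  rw [← h1]
  exact (e.symm (EndAV.Hom.of r)).2

end Groth.Agent.S16395
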