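import Groth.Statements.S16396
import Mathlib.Algebra.Order.Ring.Star
import Mathlib.Combinatorics.Nullstellensatz
import Mathlib.Data.Rat.Star
import Mathlib.FieldTheory.Finite.Basic
import Mathlib.LinearAlgebra.BilinearForm.Properties
import Mathlib.RepresentationTheory.Invariants
import Mathlib.RingTheory.Flat.TorsionFree
import Mathlib.RingTheory.Henselian
import Mathlib.RingTheory.Ideal.AssociatedPrime.Basic
import Mathlib.RingTheory.RegularLocalRing.Defs
import Mathlib.RingTheory.SimpleRing.Principal

set_option autoImplicit false
universe u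
open CAlg

namespace Groth.Agent.S16396

open Polynomial in
/-- For a commutative ℚ-algebra A, a ℚ-subalgebra B of the polynomial algebra A[X] that contains X and
is closed under d/dX consists exactly of the polynomials each of whose coefficients is the value at
0 of some element of B; in other words B = ev(B)[X], with ev the evaluation at 0. -/
theorem result
    (A : Type u) [CommRing A] [Algebra ℚ A] (B : Subalgebra ℚ A[X])
    (hX : (X : A[X]) ∈ B) (hD : ∀ P ∈ B, Polynomial.derivative P ∈ B) (P : A[X]) :
    P ∈ B ↔ ∀ i : ℕ, ∃ Q ∈ B, Polynomial.eval 0 Q = P.coeff i := by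
  have key : ∀ n, ∀ Q ∈ B, Q.natDegree ≤ n → ∀ i, Polynomial.C (Q.coeff i) ∈ B := by
    intro n
    induction n with
    | zero =>
      intro Q hQ hn i
      rcases i with _ | i
      · rwa [← Polynomial.eq_C_of_natDegree_le_zero hn]
      · rw [Polynomial.coeff_eq_zero_of_natDegree_lt (by omega), map_zero]; exact zero_mem _
    | succ n ih =>
      intro Q hQ hn
      have hD' := ih _ (hD Q hQ) ((Polynomial.natDegree_derivative_le Q).trans (by omega))
      have hsucc : ∀ i, Polynomial.C (Q.coeff (i+1)) ∈ B := by
        intro i
        have h1 := B.smul_mem (hD' i) ((1 : ℚ) / (i + 1))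
        rw [Polynomial.coeff_derivative] at h1
        convert h1 using 1
        rw [Algebra.smul_def, IsScalarTower.algebraMap_apply ℚ A (Polynomial A), Polynomial.algebraMap_eq, ← map_mul]
        congr 1
        have h2 : ((i : A) + 1) = algebraMap ℚ A ((i : ℚ) + 1) := by simp
        rw [h2, mul_left_comm, ← map_mul, one_div, inv_mul_cancel₀ (by positivity), map_one, mul_one]
      intro i
      rcases i with _ | i
      · have : Polynomial.C (Q.coeff 0) = Q - ∑ i ∈ Finset.range (n+1), Polynomial.C (Q.coeff (i+1)) * X ^ (i+1) := by
          conv_rhs => enter [1]; rw [Q.as_sum_range_C_mul_X_pow' (n := n+2) (by omega), Finset.sum_range_succ']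
          simp
        rw [this]
        exact sub_mem hQ (sum_mem fun i _ => mul_mem (hsucc i) (pow_mem hX _))
      · exact hsucc i
  constructor
  · intro hP i
    exact ⟨_, key _ P hP le_rfl i, by simp⟩
  · intro h
    rw [P.as_sum_range_C_mul_X_pow]
    refine sum_mem fun i _ => mul_mem ?_ (pow_mem hX _)
    obtain ⟨Q, hQ, he⟩ := h i
    rw [← he, ← Polynomial.coeff_zero_eq_eval_zero]
    exact key _ Q hQ le_rfl 0

end Groth.Agent.S16396
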