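import Groth.Statements.S16397
import Mathlib.RingTheory.MvPolynomial.EulerIdentity
import Mathlib.Tactic

set_option autoImplicit false
open W4c3tautjacobian

namespace Groth.Agent.S16397

open MvPolynomial W4c3tautjacobian

theorem mem_idx {g : ℕ} {p : ℕ × ℕ} (h : Valid g p) : p ∈ idx g := by
  obtain ⟨h1, h2, -, -⟩ := h
  simp only [idx, Finset.mem_product, Finset.mem_range]
  omega

noncomputable instance (g : ℕ) : Fintype {p : ℕ × ℕ // Valid g p} :=
  Fintype.ofInjective (fun p => (⟨p.1, mem_idx p.2⟩ : idx g)) fun a b h => by simpa [Subtype.ext_iff] using h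

/-- First degree of the variables. -/
def w1 (g : ℕ) (v : Var g) : ℕ := (wt g v).1

theorem dv_add (g : ℕ) (p : ℕ × ℕ) (P Q : RelRing g) : dv g p (P + Q) = dv g p P + dv g p Q := by
  unfold dv; split_ifs <;> simp

theorem dv_smul (g : ℕ) (p : ℕ × ℕ) (c : ℚ) (P : RelRing g) : dv g p (c • P) = c • dv g p P := by
  unfold dv; split_ifs <;> simp

theorem F_add (g : ℕ) (P Q : RelRing g) : F g (P + Q) = F g P + F g Q := by
  simp only [F, dv_add, mul_add, Finset.sum_add_distrib, smul_add]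
  abel

theorem F_smul (g : ℕ) (c : ℚ) (P : RelRing g) : F g (c • P) = c • F g P := by
  simp only [F, dv_smul, mul_smul_comm, ← Finset.smul_sum, smul_add, smul_comm c (1 / 2 : ℚ)]

theorem xv_valid {g : ℕ} {p : ℕ × ℕ} (h : Valid g p) : xv g (p.1 : ℤ) (p.2 : ℤ) = X (some ⟨p, h⟩) := by
  unfold xv
  rw [if_neg (fun hc => h.2.2.2 (by ext <;> simp <;> omega)), dif_pos (by simpa using h)]
  simp

theorem xv_neg (g : ℕ) (i j : ℤ) (h : i < 0 ∨ j < 0) : xv g i j = 0 := by
  unfold xv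
  rw [if_neg (by omega), dif_neg (by rintro ⟨h1, h2, -⟩; omega)]

theorem xv_zero (g : ℕ) : xv g 0 0 = (g : RelRing g) := by simp [xv]

theorem xv_hom (g : ℕ) (i j : ℤ) : IsWeightedHomogeneous (w1 g) (xv g i j) i.toNat := by
  unfold xv
  split_ifs with h0 h
  · obtain ⟨rfl, rfl⟩ := h0
    rw [← map_natCast (C : ℚ →+* RelRing g)]
    exact isWeightedHomogeneous_C _ _
  · exact isWeightedHomogeneous_X ℚ (w1 g) _
  · exact isWeightedHomogeneous_zero _ _ _

theorem dv_hom {g : ℕ} {P : RelRing g} {i : ℕ} (hP : IsWeightedHomogeneous (w1 g) P i) (p : ℕ × ℕ) :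
    IsWeightedHomogeneous (w1 g) (dv g p P) (i - p.1) ∧ (i < p.1 → dv g p P = 0) := by
  unfold dv
  split_ifs with h
  · by_cases hle : p.1 ≤ i
    · exact ⟨hP.pderiv (show i - p.1 + p.1 = i by omega), fun hc => absurd hc (by omega)⟩
    · have h0 : pderiv (some ⟨p, h⟩) P = 0 := by
        apply pderiv_eq_zero_of_notMem_vars
        intro hv
        obtain ⟨d, hd, hdv⟩ := (mem_vars (p := P) (some ⟨p, h⟩)).1 hv
        have hw := hP (mem_support_iff.1 hd)
        rw [Finsupp.weight_apply] at hw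
        have hle' : d (some ⟨p, h⟩) • w1 g (some ⟨p, h⟩) ≤ i := hw ▸
          Finset.single_le_sum (f := fun v => d v • w1 g v) (fun _ _ => Nat.zero_le _) hdv
        have hpos : 0 < d (some ⟨p, h⟩) := Nat.pos_of_ne_zero (Finsupp.mem_support_iff.1 hdv)
        simp only [w1, wt, smul_eq_mul] at hle'
        nlinarith
      rw [h0]
      exact ⟨isWeightedHomogeneous_zero _ _ _, fun _ => rfl⟩
  · exact ⟨isWeightedHomogeneous_zero _ _ _, fun _ => rfl⟩

theorem merge_two (i : ℕ) : mergeCoeff i 2 = i ∧ mergeCoeff 2 i = i := by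
  rcases i with _ | i
  · simp [mergeCoeff]
  · simp [mergeCoeff, Nat.add_sub_cancel, show 2 + (i + 1) - 2 = i + 1 by omega, Nat.choose_succ_self_right]

theorem F_lower {g : ℕ} {P : RelRing g} {i : ℕ} (hP : IsWeightedHomogeneous (w1 g) P i) :
    IsWeightedHomogeneous (w1 g) (F g P) (i - 2) ∧ (i < 2 → F g P = 0) := by
  have hA : ∀ p q : ℕ × ℕ,
      IsWeightedHomogeneous (w1 g) ((X none * xv g ((p.1 : ℤ) - 1) ((p.2 : ℤ) - 1)
          * xv g ((q.1 : ℤ) - 1) ((q.2 : ℤ) - 1)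
        - (mergeCoeff p.1 q.1 : RelRing g) * xv g ((p.1 : ℤ) + q.1 - 2) ((p.2 : ℤ) + q.2))
        * dv g p (dv g q P)) (i - 2) ∧
      (i < 2 → (X none * xv g ((p.1 : ℤ) - 1) ((p.2 : ℤ) - 1)
          * xv g ((q.1 : ℤ) - 1) ((q.2 : ℤ) - 1)
        - (mergeCoeff p.1 q.1 : RelRing g) * xv g ((p.1 : ℤ) + q.1 - 2) ((p.2 : ℤ) + q.2))
        * dv g p (dv g q P) = 0) := by
    intro p q
    by_cases hp : p.1 = 0 ∨ q.1 = 0
    · have h0 : (X none * xv g ((p.1 : ℤ) - 1) ((p.2 : ℤ) - 1)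
          * xv g ((q.1 : ℤ) - 1) ((q.2 : ℤ) - 1)
        - (mergeCoeff p.1 q.1 : RelRing g) * xv g ((p.1 : ℤ) + q.1 - 2) ((p.2 : ℤ) + q.2)) = 0 := by
        rcases hp with hp | hp <;> simp [mergeCoeff, hp, xv_neg]
      rw [h0, zero_mul]
      exact ⟨isWeightedHomogeneous_zero _ _ _, fun _ => rfl⟩
    push Not at hp
    by_cases hi : p.1 + q.1 ≤ i
    · refine ⟨?_, fun h2 => absurd h2 (by omega)⟩
      have hc : IsWeightedHomogeneous (w1 g) (X none * xv g ((p.1 : ℤ) - 1) ((p.2 : ℤ) - 1)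
          * xv g ((q.1 : ℤ) - 1) ((q.2 : ℤ) - 1)
        - (mergeCoeff p.1 q.1 : RelRing g) * xv g ((p.1 : ℤ) + q.1 - 2) ((p.2 : ℤ) + q.2)) (p.1 + q.1 - 2) := by
        refine IsWeightedHomogeneous.sub ?_ ?_
        · have := ((isWeightedHomogeneous_X ℚ (w1 g) none).mul (xv_hom g ((p.1 : ℤ) - 1) ((p.2 : ℤ) - 1))).mul
            (xv_hom g ((q.1 : ℤ) - 1) ((q.2 : ℤ) - 1))
          rwa [show w1 g none + ((p.1 : ℤ) - 1).toNat + ((q.1 : ℤ) - 1).toNat = p.1 + q.1 - 2 by
            simp only [w1, wt]; omega] at this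
        · rw [← map_natCast (C : ℚ →+* RelRing g)]
          have := (isWeightedHomogeneous_C (w1 g) (mergeCoeff p.1 q.1 : ℚ)).mul
            (xv_hom g ((p.1 : ℤ) + q.1 - 2) ((p.2 : ℤ) + q.2))
          rwa [show 0 + ((p.1 : ℤ) + q.1 - 2).toNat = p.1 + q.1 - 2 by omega] at this
      have := hc.mul (dv_hom (dv_hom hP q).1 p).1
      rwa [show p.1 + q.1 - 2 + (i - q.1 - p.1) = i - 2 by omega] at this
    · have h0 : dv g p (dv g q P) = 0 := by
        by_cases hq : q.1 ≤ i
        · exact (dv_hom (dv_hom hP q).1 p).2 (by omega)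
        · rw [(dv_hom hP q).2 (by omega)]; unfold dv; split_ifs <;> simp
      rw [h0, mul_zero]
      exact ⟨isWeightedHomogeneous_zero _ _ _, fun _ => rfl⟩
  have hB : ∀ p : ℕ × ℕ, IsWeightedHomogeneous (w1 g) (xv g ((p.1 : ℤ) - 2) (p.2 : ℤ) * dv g p P) (i - 2) ∧
      (i < 2 → xv g ((p.1 : ℤ) - 2) (p.2 : ℤ) * dv g p P = 0) := by
    intro p
    by_cases hp : p.1 < 2
    · rw [xv_neg g _ _ (Or.inl (by omega)), zero_mul]
      exact ⟨isWeightedHomogeneous_zero _ _ _, fun _ => rfl⟩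
    by_cases hi : p.1 ≤ i
    · refine ⟨?_, fun h2 => absurd h2 (by omega)⟩
      have := (xv_hom g ((p.1 : ℤ) - 2) (p.2 : ℤ)).mul (dv_hom hP p).1
      rwa [show ((p.1 : ℤ) - 2).toNat + (i - p.1) = i - 2 by omega] at this
    · rw [(dv_hom hP p).2 (by omega), mul_zero]
      exact ⟨isWeightedHomogeneous_zero _ _ _, fun _ => rfl⟩
  constructor
  · refine IsWeightedHomogeneous.add (Submodule.smul_mem (weightedHomogeneousSubmodule ℚ (w1 g) (i - 2)) _ ?_) ?_
    · exact Submodule.sum_mem _ fun p _ => Submodule.sum_mem _ fun q _ => (hA p q).1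
    · exact Submodule.sum_mem (weightedHomogeneousSubmodule ℚ (w1 g) (i - 2)) fun p _ => (hB p).1
  · intro h2
    unfold F
    rw [Finset.sum_eq_zero fun p _ => Finset.sum_eq_zero fun q _ => (hA p q).2 h2,
      Finset.sum_eq_zero fun p _ => (hB p).2 h2, smul_zero, add_zero]

theorem euler {g : ℕ} {P : RelRing g} {i : ℕ} (hP : IsWeightedHomogeneous (w1 g) P i) :
    ∑ p ∈ idx g, (p.1 : RelRing g) * xv g (p.1 : ℤ) (p.2 : ℤ) * dv g p P = i • P := by
  have h := hP.sum_weight_X_mul_pderiv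
  rw [Fintype.sum_option] at h
  simp only [w1, wt, zero_smul, zero_add] at h
  rw [← h]
  have e : ∑ q : {p : ℕ × ℕ // Valid g p}, q.1.1 • (X (some q) * pderiv (some q) P) =
      ∑ p ∈ (idx g).filter (Valid g), (p.1 : RelRing g) * xv g (p.1 : ℤ) (p.2 : ℤ) * dv g p P := by
    rw [Finset.sum_subtype ((idx g).filter (Valid g)) (p := Valid g) (by intro p; simp; exact mem_idx)]
    refine Finset.sum_congr rfl fun q _ => ?_
    rw [xv_valid q.2, dv, dif_pos q.2, nsmul_eq_mul, mul_assoc]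
  rw [e, Finset.sum_filter_of_ne]
  intro p _ hne
  by_contra hc
  exact hne (by rw [dv, dif_neg hc, mul_zero])

/-- The commutator of `F` and multiplication by `x 2 0`. -/
theorem F_mul_x {g : ℕ} (hg : 1 ≤ g) {P : RelRing g} {i : ℕ} (hP : IsWeightedHomogeneous (w1 g) P i) :
    F g (xv g 2 0 * P) = xv g 2 0 * F g P + ((g : ℚ) - i) • P := by
  have hv : Valid g (2, 0) := ⟨by simp, by simp; omega, by decide, by simp⟩
  have hx : xv g 2 0 = X (some ⟨(2, 0), hv⟩) := by simpa using xv_valid hv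
  set x := xv g 2 0 with hxdef
  have hd : ∀ (p : ℕ × ℕ) (Q : RelRing g), dv g p (x * Q) = (if p = (2, 0) then Q else 0) + x * dv g p Q := by
    intro p Q
    unfold dv
    by_cases hp : p = (2, 0)
    · subst hp
      rw [if_pos rfl, dif_pos hv, dif_pos hv, pderiv_mul, hx, pderiv_X_self, one_mul]
    · rw [if_neg hp, zero_add]
      split_ifs with h
      · rw [pderiv_mul, hx, pderiv_X_of_ne (by simpa using Ne.symm hp), zero_mul, zero_add]
      · rw [mul_zero]
  have hd0 : ∀ p, dv g p (0 : RelRing g) = 0 := fun p => by unfold dv; split_ifs <;> simp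
  have h20 : ((2, 0) : ℕ × ℕ) ∈ idx g := mem_idx hv
  set A : ℕ × ℕ → ℕ × ℕ → RelRing g := fun p q => X none * xv g ((p.1 : ℤ) - 1) ((p.2 : ℤ) - 1)
      * xv g ((q.1 : ℤ) - 1) ((q.2 : ℤ) - 1)
    - (mergeCoeff p.1 q.1 : RelRing g) * xv g ((p.1 : ℤ) + q.1 - 2) ((p.2 : ℤ) + q.2) with hA
  have hAl : ∀ p : ℕ × ℕ, A p (2, 0) = -((p.1 : RelRing g) * xv g (p.1 : ℤ) (p.2 : ℤ)) ∧
      A (2, 0) p = -((p.1 : RelRing g) * xv g (p.1 : ℤ) (p.2 : ℤ)) := fun p => by
    constructor <;> simp [A, merge_two, xv_neg]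
  have hdd : ∀ p q, A p q * dv g p (dv g q (x * P)) =
      (if q = (2, 0) then A p q * dv g p P else 0) + (if p = (2, 0) then A p q * dv g q P else 0) +
        x * (A p q * dv g p (dv g q P)) := fun p q => by
    rw [hd q P, dv_add, hd p]
    by_cases hq : q = (2, 0) <;> by_cases hp : p = (2, 0) <;> simp [hp, hq, hd0] <;> ring
  have h2 : ∑ p ∈ idx g, ∑ q ∈ idx g, A p q * dv g p (dv g q (x * P)) =
      -(i • P) + -(i • P) + x * ∑ p ∈ idx g, ∑ q ∈ idx g, A p q * dv g p (dv g q P) := by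
    simp only [hdd, Finset.sum_add_distrib, ← Finset.mul_sum, Finset.sum_ite_eq', if_pos h20]
    congr 1
    congr 1
    · rw [← euler hP, ← Finset.sum_neg_distrib]
      exact Finset.sum_congr rfl fun p _ => by rw [(hAl p).1]; ring
    · rw [Finset.sum_comm]
      simp only [Finset.sum_ite_eq', if_pos h20]
      rw [← euler hP, ← Finset.sum_neg_distrib]
      exact Finset.sum_congr rfl fun p _ => by rw [(hAl p).2]; ring
  have h1 : ∑ p ∈ idx g, xv g ((p.1 : ℤ) - 2) (p.2 : ℤ) * dv g p (x * P) =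
      (g : RelRing g) * P + x * ∑ p ∈ idx g, xv g ((p.1 : ℤ) - 2) (p.2 : ℤ) * dv g p P := by
    simp only [hd, mul_add, mul_ite, mul_zero, Finset.sum_add_distrib, Finset.sum_ite_eq', if_pos h20,
      Finset.mul_sum]
    congr 1
    all_goals first | (simp [xv_zero]; done) | exact Finset.sum_congr rfl fun p _ => by ring
  show (1 / 2 : ℚ) • (∑ p ∈ idx g, ∑ q ∈ idx g, A p q * dv g p (dv g q (x * P))) + _ =
    x * ((1 / 2 : ℚ) • (∑ p ∈ idx g, ∑ q ∈ idx g, A p q * dv g p (dv g q P)) + _) + _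
  rw [h2, h1, mul_add x, mul_smul_comm, sub_smul, smul_add, smul_add, ← Nat.cast_smul_eq_nsmul ℚ i P,
    Nat.cast_smul_eq_nsmul ℚ g P, nsmul_eq_mul, smul_neg, smul_smul]
  have : ((1 / 2 : ℚ) * i) • P + ((1 / 2 : ℚ) * i) • P = (i : ℚ) • P := by rw [← add_smul]; congr 1; ring
  linear_combination -this

/-- In the formal relation ring of genus g ≥ 1, for every element β which is bihomogeneous of bidegree
(2g, n), the (g+1)-st iterate of the operator F kills x 2 0 · β. (Stated for every bihomogeneous β;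
the case of a monomial β is equivalent by linearity.) -/
theorem result
    (g : ℕ) (hg : 1 ≤ g) (n : ℕ) (β : W4c3tautjacobian.RelRing g)
    (hβ : MvPolynomial.IsWeightedHomogeneous (W4c3tautjacobian.wt g) β ((2 * g, n) : ℕ × ℕ)) :
    (W4c3tautjacobian.F g)^[g + 1] (W4c3tautjacobian.E g β) = 0 := by
  classical
  have h1 : MvPolynomial.IsWeightedHomogeneous (w1 g) β (2 * g) := by
    intro d hd
    have h := congrArg Prod.fst (hβ hd)
    simp only [Finsupp.weight_apply, Finsupp.sum, w1] at h ⊢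
    rw [← h, Prod.fst_sum]
    rfl
  have hlow : ∀ m ≤ g, MvPolynomial.IsWeightedHomogeneous (w1 g) ((F g)^[m] β) (2 * g - 2 * m) := by
    intro m
    induction m with
    | zero => intro _; simpa using h1
    | succ m ih =>
      intro hm
      rw [Function.iterate_succ_apply', show 2 * g - 2 * (m + 1) = 2 * g - 2 * m - 2 by omega]
      exact (F_lower (ih (by omega))).1
  have hkey : ∀ m ≤ g, (F g)^[m + 1] (xv g 2 0 * β) =
      xv g 2 0 * (F g)^[m + 1] β + (((m : ℚ) + 1) * ((m : ℚ) - g)) • (F g)^[m] β := by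
    intro m
    induction m with
    | zero =>
      intro _
      simp only [zero_add, Function.iterate_one, Function.iterate_zero, id_eq]
      rw [F_mul_x hg h1]
      congr 2
      push_cast; ring
    | succ m ih =>
      intro hm
      rw [Function.iterate_succ_apply', ih (by omega), F_add, F_smul, F_mul_x hg (hlow (m + 1) hm),
        ← Function.iterate_succ_apply' (F g), ← Function.iterate_succ_apply' (F g), add_assoc, ← add_smul,
        Nat.cast_sub (by omega)]
      congr 2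
      push_cast; ring
  show (F g)^[g + 1] (xv g 2 0 * β) = 0
  rw [hkey g le_rfl, Function.iterate_succ_apply', (F_lower (hlow g le_rfl)).2 (by omega), sub_self]
  simp

end Groth.Agent.S16397
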