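import Groth.Statements.S16398
import Groth.Agent.H02CA.TautRel.Basic

set_option autoImplicit false
open W4c3tautjacobian

namespace Groth.Agent.S16398

/-- In the formal relation ring of genus g ≥ 1, an element of the relation ideal which is bihomogeneous
of bidegree (0, n) with 3n ≤ 2g vanishes; that is, the relations impose nothing on the
first-degree-0 part in second degree at most 2g/3. -/
theorem result
    (g : ℕ) (hg : 1 ≤ g) (n : ℕ) (hn : 3 * n ≤ 2 * g) (P : W4c3tautjacobian.RelRing g)
    (hP : P ∈ W4c3tautjacobian.relIdeal g)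
    (hhom : MvPolynomial.IsWeightedHomogeneous (W4c3tautjacobian.wt g) P ((0, n) : ℕ × ℕ)) :
    P = 0 := by
  refine MvPolynomial.ext _ _ fun d => ?_
  rw [MvPolynomial.coeff_zero]
  by_contra hne
  have h := hhom hne
  rw [H02CA.TautRel.weight_wt] at h
  simp only [Prod.mk.injEq] at h
  exact hne (H02CA.TautRel.coeff_eq_zero hg hn hP d h.1 h.2.le)

end Groth.Agent.S16398
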