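import Groth.Statements.S1640
import Groth.Agent.H22Alg.SemilocalGlue

set_option autoImplicit false
universe u
open Variety

namespace Groth.Agent.S1640

/-- Let K be a field, A ⊆ K a subring with fraction field K, and B_1, …, B_r ⊆ K Noetherian
one-dimensional subrings with finitely many maximal ideals and fraction field K, such that for each
i the subring generated by A and B_i is all of K. Then some nonzero x ∈ A has x⁻¹ lying in B_i and
in the Jacobson radical of B_i for every i. -/
theorem result (K : Type u) [Field K] (A : Subring K) [IsFractionRing A K]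
    (r : ℕ) (B : Fin r → Subring K) [∀ i, IsNoetherianRing (B i)] [∀ i, IsFractionRing (B i) K]
    (hdim : ∀ i, ringKrullDim (B i) = 1) (hsl : ∀ i, Finite (MaximalSpectrum (B i)))
    (hgen : ∀ i, A ⊔ B i = ⊤) :
    ∃ x : K, x ∈ A ∧ x ≠ 0 ∧ ∀ i, ∃ hx : x⁻¹ ∈ B i, (⟨x⁻¹, hx⟩ : B i) ∈ (⊥ : Ideal (B i)).jacobson := by
  have hk := fun i => Groth.Agent.H22Alg.krullDimLE_one_of_dim_eq (B i) (hdim i)
  have hnf := fun i => Groth.Agent.H22Alg.not_isField_of_dim_eq (B i) (hdim i)
  obtain ⟨y, -, hy⟩ := Groth.Agent.H22Alg.exists_inverse_in_jacobson B hnf hsl A hgen 1 one_ne_zero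
  by_cases hy0 : (y : K) = 0
  · refine ⟨1, A.one_mem, one_ne_zero, fun i => ?_⟩
    exfalso
    obtain ⟨j, hj, hjJ⟩ := Groth.Agent.H22Alg.exists_ne_zero_mem_jacobson (B := B i) (hsl i) (hnf i)
    have := Groth.Agent.H22Alg.isDedekindDomain_integralClosure (B := B i) (K := K)
    have hnf' : ¬ IsField (integralClosure (B i) K) := fun h => hnf i
      (isField_of_isIntegral_of_isField (R := B i) (fun a b h => IsFractionRing.injective (B i) K
        (congrArg (fun z : integralClosure (B i) K => (z : K)) h)) h)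
    obtain ⟨m, hm⟩ := Ideal.exists_maximal (integralClosure (B i) K)
    have hne : m ≠ ⊥ := fun e => hnf' (Ring.isField_iff_maximal_bot.mpr (e ▸ hm))
    have h := hy i ⟨m, hm.isPrime, hne⟩
    rw [hy0, map_zero] at h
    exact absurd h not_lt_zero
  obtain ⟨N, hN, hNi⟩ := Groth.Agent.H22Alg.exists_uniform_pow B hnf (y : K)⁻¹ (fun i P => by
    rw [map_inv₀]
    exact inv_lt_one_of_one_lt₀ (hy i P))
  refine ⟨(y : K) ^ N, A.pow_mem y.2 N, pow_ne_zero _ hy0, fun i => ?_⟩
  obtain ⟨h, h'⟩ := hNi i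
  exact ⟨by rwa [← inv_pow], by simpa only [inv_pow] using h'⟩

end Groth.Agent.S1640
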