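import Groth.Statements.S16400
import Mathlib.LinearAlgebra.Matrix.Rank
import Mathlib.LinearAlgebra.FiniteDimensional.Basic

set_option autoImplicit false
universe u v
open CAlgX

namespace Groth.Agent.S16400

/-- Let K be a field, N a finite index set and A a square matrix over K indexed by N whose linear map on
column vectors has kernel equal to its range (so A composed with A is zero and the three-term
sequence it defines is exact in the middle). Then there are subsets N₁₂, N₂₁, N₃₁ of N such that the
block of A with rows in N₃₁ and columns in N₂₁, and the block of A with rows outside N₂₁ and columns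
in N₁₂, both act bijectively on column vectors. (In the original setting K is the prime field and
middle exactness is supplied by the Cartier isomorphism; here exactness is the hypothesis and K is
any field.) -/
theorem result
    {K : Type u} [Field K] {N : Type v} [Fintype N] [DecidableEq N]
    (A : Matrix N N K)
    (hA : LinearMap.ker A.mulVecLin = LinearMap.range A.mulVecLin) :
    ∃ N₁₂ N₂₁ N₃₁ : Finset N,
      Function.Bijective (A.submatrix (Subtype.val : ↥N₃₁ → N) (Subtype.val : ↥N₂₁ → N)).mulVecLin ∧
      Function.Bijective
        (A.submatrix (Subtype.val : {x : N // x ∉ N₂₁} → N) (Subtype.val : ↥N₁₂ → N)).mulVecLin := by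
  classical
  have colBasis : ∀ {p : Type v} [Finite p] {q : Type v} [Fintype q] (M : Matrix p q K),
      ∃ t : Finset q, Function.Injective (M.submatrix id (Subtype.val : ↥t → q)).mulVecLin ∧
        LinearMap.range (M.submatrix id (Subtype.val : ↥t → q)).mulVecLin = LinearMap.range M.mulVecLin := by
    intro p _ q _ M
    obtain ⟨κ, a, ha, hspan, hli⟩ := exists_linearIndependent' K M.col
    haveI : Finite κ := Finite.of_injective a ha
    haveI := Fintype.ofFinite κ
    refine ⟨Finset.univ.image a, ?_, ?_⟩
    · refine Matrix.mulVec_injective_iff.mpr ?_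
      have e : ∀ j : ↥(Finset.univ.image a), ∃ k, a k = j.1 := fun j => by
        obtain ⟨k, _, hk⟩ := Finset.mem_image.mp j.2
        exact ⟨k, hk⟩
      choose g hg using e
      have hcol : (M.submatrix id (Subtype.val : ↥(Finset.univ.image a) → q)).col = (M.col ∘ a) ∘ g := by
        funext j i
        show M i j.1 = M i (a (g j))
        rw [hg]
      rw [hcol]
      exact hli.comp g fun i j h => Subtype.ext (by rw [← hg i, ← hg j, h])
    · rw [Matrix.range_mulVecLin, Matrix.range_mulVecLin, ← hspan]
      congr 1
      ext z
      constructor
      · rintro ⟨⟨j, hj⟩, rfl⟩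
        obtain ⟨k, _, rfl⟩ := Finset.mem_image.mp hj
        exact ⟨k, rfl⟩
      · rintro ⟨k, rfl⟩
        exact ⟨⟨a k, Finset.mem_image_of_mem a (Finset.mem_univ k)⟩, rfl⟩
  obtain ⟨t, htinj, htrange⟩ := colBasis A
  -- rows
  obtain ⟨s, hsinj, hsrange⟩ := colBasis (A.submatrix id (Subtype.val : ↥t → N)).transpose
  have hbij1 : Function.Bijective (A.submatrix (Subtype.val : ↥s → N) (Subtype.val : ↥t → N)).mulVecLin := by
    set M := A.submatrix id (Subtype.val : ↥t → N) with hM
    have hsurj : LinearMap.range M.transpose.mulVecLin = ⊤ := by
      refine Submodule.eq_top_of_finrank_eq ?_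
      change M.transpose.rank = _
      rw [Matrix.rank_transpose]
      change Module.finrank K (LinearMap.range M.mulVecLin) = _
      rw [LinearMap.finrank_range_of_inj htinj]
    rw [hsurj] at hsrange
    have hsbij : Function.Bijective (M.transpose.submatrix id (Subtype.val : ↥s → N)).mulVecLin :=
      ⟨hsinj, LinearMap.range_eq_top.mp hsrange⟩
    set S := A.submatrix (Subtype.val : ↥s → N) (Subtype.val : ↥t → N) with hS
    have heq : M.transpose.submatrix id (Subtype.val : ↥s → N) = S.transpose := rfl
    rw [heq] at hsbij
    have hdim : Module.finrank K (↥s → K) = Module.finrank K (↥t → K) :=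
      LinearEquiv.finrank_eq (LinearEquiv.ofBijective _ hsbij)
    have hinj : Function.Injective S.mulVecLin := by
      rw [← LinearMap.ker_eq_bot, ← Submodule.finrank_eq_zero]
      have h1 := LinearMap.finrank_range_add_finrank_ker S.mulVecLin
      have h2 : Module.finrank K (LinearMap.range S.mulVecLin) = Module.finrank K (↥t → K) := by
        change S.rank = _
        rw [← Matrix.rank_transpose]
        change Module.finrank K (LinearMap.range S.transpose.mulVecLin) = _
        rw [LinearMap.range_eq_top.mpr hsbij.2, finrank_top]
      omega
    exact ⟨hinj, (LinearMap.injective_iff_surjective_of_finrank_eq_finrank hdim.symm).mp hinj⟩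
  obtain ⟨t', ht'inj, ht'range⟩ := colBasis (A.submatrix (Subtype.val : {x : N // x ∉ t} → N) id)
  refine ⟨t', t, s, hbij1, ht'inj, fun w => ?_⟩
  have hmem : w ∈ LinearMap.range (A.submatrix (Subtype.val : {x : N // x ∉ t} → N) id).mulVecLin := by
    let u : N → K := fun i => if h : i ∈ t then 0 else w ⟨i, h⟩
    obtain ⟨v, hv⟩ := htrange.ge (LinearMap.mem_range_self A.mulVecLin u)
    let v' : N → K := fun i => if h : i ∈ t then v ⟨i, h⟩ else 0
    have hv' : A.mulVecLin v' = A.mulVecLin u := by
      rw [← hv]
      funext i
      change ∑ j, A i j * v' j = ∑ j : ↥t, A i j * v j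
      rw [← Finset.sum_subset (Finset.subset_univ t) (fun j _ hj => by simp [v', hj]),
        ← Finset.sum_coe_sort t (fun j => A i j * v' j)]
      refine Finset.sum_congr rfl fun j _ => ?_
      simp [v']
    obtain ⟨y, hy⟩ := hA.le (show u - v' ∈ LinearMap.ker A.mulVecLin by
      rw [LinearMap.mem_ker, map_sub, hv', sub_self])
    refine ⟨y, funext fun i => ?_⟩
    have := congrFun hy i.1
    simp only [Pi.sub_apply, u, v', dif_neg i.2, sub_zero] at this
    exact this
  exact ht'range.ge hmem

end Groth.Agent.S16400
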