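import Groth.Statements.S16401
import Mathlib.RepresentationTheory.Invariants
import Mathlib.RingTheory.Henselian
import Mathlib.RingTheory.LocalProperties.Reduced
import Mathlib.RingTheory.LocalRing.Pullback
import Mathlib.RingTheory.PowerSeries.NoZeroDivisors
import Mathlib.RingTheory.RegularLocalRing.Defs
import Mathlib.RingTheory.SimpleRing.Principal

set_option autoImplicit false
universe u v
open CAlgX

namespace Groth.Agent.S16401

/-- Let R be a commutative ring and (E_a), a ∈ ι, a family of additive subgroups of R indexed by an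
additive commutative group ι, with E_0 = R and E_a · E_b ⊆ E_{a+b}. Let β, γ : Fin r → ι be weight
vectors with Σ_j β_j = Σ_i γ_i, and let ϑ be an r × r matrix over R with ϑ_{ij} ∈ E_{γ_i − β_j} for
all i, j and with unit determinant. Then a column vector u satisfies u_j ∈ E_{β_j} for every j if
and only if (ϑ u)_i ∈ E_{γ_i} for every i; since ϑ is invertible this says that ϑ maps the box Π_j
E_{β_j} bijectively onto the box Π_i E_{γ_i}. -/
theorem result
    {R : Type u} [CommRing R] {ι : Type v} [AddCommGroup ι]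
    (E : ι → AddSubgroup R) (h0 : E 0 = ⊤)
    (hmul : ∀ a b : ι, ∀ x ∈ E a, ∀ y ∈ E b, x * y ∈ E (a + b))
    {r : ℕ} (wβ wγ : Fin r → ι) (hsum : ∑ j, wβ j = ∑ i, wγ i)
    (ϑ : Matrix (Fin r) (Fin r) R) (hϑ : ∀ i j, ϑ i j ∈ E (wγ i - wβ j))
    (hdet : IsUnit ϑ.det) (u : Fin r → R) :
    (∀ j, u j ∈ E (wβ j)) ↔ ∀ i, ϑ.mulVec u i ∈ E (wγ i) := by
  classical
  have h1 : (1 : R) ∈ E 0 := by rw [h0]; trivial
  have hsumm : ∀ (s : Finset (Fin r)) (g : Fin r → R) (w : Fin r → ι), (∀ k ∈ s, g k ∈ E (w k)) →
      ∏ k ∈ s, g k ∈ E (∑ k ∈ s, w k) := by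
    intro s g w
    induction s using Finset.induction_on with
    | empty => intro _; simpa using h1
    | insert a s ha ih =>
      intro h
      rw [Finset.prod_insert ha, Finset.sum_insert ha]
      exact hmul _ _ _ (h a (Finset.mem_insert_self a s)) _ (ih fun k hk => h k (Finset.mem_insert_of_mem hk))
  constructor
  · intro h i
    show ∑ j, ϑ i j * u j ∈ E (wγ i)
    refine AddSubgroup.sum_mem _ fun j _ => ?_
    have := hmul _ _ _ (hϑ i j) _ (h j)
    rwa [sub_add_cancel] at this
  · intro h j
    have hadj : ∀ i, ϑ.adjugate j i ∈ E (wβ j - wγ i) := by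
      intro i
      rw [Matrix.adjugate_apply, Matrix.det_apply]
      refine AddSubgroup.sum_mem _ fun σ _ => ?_
      by_cases hσ : σ j = i
      · rw [Units.smul_def]
        refine AddSubgroup.zsmul_mem _ ?_ _
        rw [← Finset.mul_prod_erase _ _ (Finset.mem_univ j), hσ, Matrix.updateRow_self, Pi.single_eq_same, one_mul]
        have hw : wβ j - wγ i = ∑ k ∈ Finset.univ.erase j, (wγ (σ k) - wβ k) := by
          rw [Finset.sum_erase_eq_sub (Finset.mem_univ j), Finset.sum_sub_distrib, Equiv.sum_comp σ wγ, ← hsum, hσ]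
          simp
        rw [hw]
        refine hsumm _ _ _ fun k hk => ?_
        rw [Matrix.updateRow_ne (fun he => (Finset.mem_erase.mp hk).1 (σ.injective (he.trans hσ.symm)))]
        exact hϑ _ _
      · rw [Finset.prod_eq_zero (Finset.mem_univ (σ.symm i)), smul_zero]
        · exact AddSubgroup.zero_mem _
        · rw [Equiv.apply_symm_apply, Matrix.updateRow_self, Pi.single_eq_of_ne]
          intro he
          exact hσ (by rw [← he, Equiv.apply_symm_apply])
    have h2 : u j = (↑hdet.unit⁻¹ : R) * ∑ i, ϑ.adjugate j i * ϑ.mulVec u i := by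
      have := congrFun (Matrix.mulVec_mulVec u ϑ.adjugate ϑ) j
      rw [Matrix.adjugate_mul, Matrix.smul_mulVec, Matrix.one_mulVec, Pi.smul_apply, smul_eq_mul] at this
      simp only [Matrix.mulVec, dotProduct] at this ⊢
      rw [this, ← mul_assoc, IsUnit.val_inv_mul, one_mul]
    rw [h2]
    have h3 : (↑hdet.unit⁻¹ : R) ∈ E 0 := by rw [h0]; trivial
    have := hmul 0 (wβ j) _ h3 (∑ i, ϑ.adjugate j i * ϑ.mulVec u i) (AddSubgroup.sum_mem _ fun i _ => by
      have := hmul _ _ _ (hadj i) _ (h i)
      rwa [sub_add_cancel] at this)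
    rwa [zero_add] at this

end Groth.Agent.S16401
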