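import Groth.Statements.S16405


set_option autoImplicit false
universe u v
open InvQ

namespace Groth.Agent.S16405

/-- In weight form. Let b : L → ℤ^r be an injective homomorphism of abelian groups (the case in view: L
the character group of a maximal torus T of a semisimple group over ℂ and b the map dual to the
surjection of the rank-r split torus T' onto T that sends the i-th coordinate cocharacter to the
primitive generator of the i-th ray of the Weyl chamber; only the injectivity of b is used, and ℂ is
replaced by any commutative ring k). Grade the monoid algebra k[L × ℕ^r] (the coordinate ring of T ×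
𝔸^r) by ℤ^r, the monomial (w, n) having weight b(w) + n (the weights of the T'-action u·(t, v) =
(b^∨(u) t, u v)), and grade k[ℕ^r] by ℤ^r/b(L), the monomial n having weight the class of n (the
weights of the action on 𝔸^r of the diagonalizable kernel Z of T' → T, a finite group in the case in
view). For a diagonalizable group acting on an affine scheme the ring of invariants is the
weight-zero part, so the two weight-zero parts are the coordinate rings of the quotients (T ×
𝔸^r)//T' and 𝔸^r//Z. The statement: the algebra map k[L × ℕ^r] → k[ℕ^r] induced by the projection L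
× ℕ^r → ℕ^r (restriction to the slice 1 × 𝔸^r) maps the weight-zero part of k[L × ℕ^r] bijectively
onto the weight-zero part of k[ℕ^r]; hence it induces an isomorphism of k-algebras between them. -/
theorem result
    (k : Type u) [CommRing k] (r : ℕ) (L : Type v) [AddCommGroup L]
    (b : L →+ (Fin r → ℤ)) (hb : Function.Injective b) :
    Set.BijOn
      (AddMonoidAlgebra.mapDomainAlgHom k k (AddMonoidHom.snd L (Fin r → ℕ)))
      (AddMonoidAlgebra.gradeBy k
        (b.comp (AddMonoidHom.fst L (Fin r → ℕ)) +
          (AddMonoidHom.compLeft (Nat.castAddMonoidHom ℤ) (Fin r)).comp (AddMonoidHom.snd L (Fin r → ℕ))) 0 :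
        Set (AddMonoidAlgebra k (L × (Fin r → ℕ))))
      (AddMonoidAlgebra.gradeBy k
        ((QuotientAddGroup.mk' b.range).comp (AddMonoidHom.compLeft (Nat.castAddMonoidHom ℤ) (Fin r))) 0 :
        Set (AddMonoidAlgebra k (Fin r → ℕ))) := by
  classical
  let F : L × (Fin r → ℕ) → (Fin r → ℤ) := fun p => b p.1 + (fun i => (p.2 i : ℤ))
  let G : (Fin r → ℕ) → (Fin r → ℤ) ⧸ b.range := fun n => QuotientAddGroup.mk (fun i => (n i : ℤ))
  let p : L × (Fin r → ℕ) → (Fin r → ℕ) := Prod.snd
  let g : (Fin r → ℕ) → L × (Fin r → ℕ) := fun n =>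
    (if h : ∃ w, b w + (fun i => (n i : ℤ)) = 0 then h.choose else 0, n)
  have hinj : Set.InjOn p (F ⁻¹' {0}) := by
    rintro ⟨w, n⟩ hw ⟨w', n'⟩ hw' (rfl : n = n')
    exact congrArg (fun v => (v, n)) (hb (add_right_cancel (hw.trans hw'.symm)))
  have hG : ∀ n, G n = 0 ↔ ∃ w, b w + (fun i => (n i : ℤ)) = 0 := fun n => by
    show (QuotientAddGroup.mk _ : (Fin r → ℤ) ⧸ b.range) = 0 ↔ _
    rw [QuotientAddGroup.eq_zero_iff, AddMonoidHom.mem_range]
    constructor
    · rintro ⟨w, hw⟩; exact ⟨-w, by rw [map_neg, hw, neg_add_cancel]⟩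
    · rintro ⟨w, hw⟩; exact ⟨-w, by rw [map_neg]; exact (eq_neg_of_add_eq_zero_right hw).symm⟩
  refine ⟨fun x hx => ?_, fun x hx y hy h => ?_, fun y hy => ?_⟩
  · rw [SetLike.mem_coe, AddMonoidAlgebra.mem_gradeBy_iff] at hx ⊢
    intro n hn
    obtain ⟨q, hq, rfl⟩ := Finset.mem_image.1 (Finsupp.mapDomain_support (f := p) (s := x.coeff) hn)
    exact (hG q.2).2 ⟨q.1, hx hq⟩
  · rw [SetLike.mem_coe, AddMonoidAlgebra.mem_gradeBy_iff] at hx hy
    exact AddMonoidAlgebra.ext (Finsupp.mapDomain_injOn _ hinj hx hy (congrArg AddMonoidAlgebra.coeff h))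
  · rw [SetLike.mem_coe, AddMonoidAlgebra.mem_gradeBy_iff] at hy
    refine ⟨.ofCoeff (Finsupp.mapDomain g y.coeff), ?_, ?_⟩
    · rw [SetLike.mem_coe, AddMonoidAlgebra.mem_gradeBy_iff]
      intro q hq
      obtain ⟨n, hn, rfl⟩ := Finset.mem_image.1 (Finsupp.mapDomain_support (f := g) (s := y.coeff) hq)
      have hw := (hG n).1 (hy hn)
      show b _ + _ = 0
      simp only [g, dif_pos hw]
      exact hw.choose_spec
    · apply AddMonoidAlgebra.ext
      show Finsupp.mapDomain p (Finsupp.mapDomain g y.coeff) = y.coeff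
      rw [← Finsupp.mapDomain_comp]
      exact Finsupp.mapDomain_id

end Groth.Agent.S16405
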