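import Groth.Statements.S16408
import Groth.Agent.H16Derived.MVTri.Basic

set_option autoImplicit false
universe v u
open CategoryTheory CategoryTheory.Limits CategoryTheory.Pretriangulated
open W4c3perfectstacks W4c3perfectstacks.MVSq

namespace Groth.Agent.S16408

/-- In a Mayer–Vietoris square of triangulated categories (single-square form), the connecting maps of
the Mayer–Vietoris triangles are natural: for a morphism φ : N₁ ⟶ N₂ over X and connecting maps d₁,
d₂ making the two Mayer–Vietoris triangles (first map the two units, second map (unit of f at j_*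
j^* N, minus f_* f^* of the unit of j)) distinguished, the square formed by d₁, d₂, φ⟦1⟧ and f_* f^*
j_* j^* φ commutes. (The four categories are taken in common universes.) -/
theorem result
    (S S' R R' : Type u) [Category.{v} S] [Category.{v} S'] [Category.{v} R] [Category.{v} R']
    [Preadditive S] [Preadditive S'] [Preadditive R] [Preadditive R']
    [HasZeroObject S] [HasZeroObject S'] [HasZeroObject R] [HasZeroObject R']
    [HasShift S ℤ] [HasShift S' ℤ] [HasShift R ℤ] [HasShift R' ℤ]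
    [∀ n : ℤ, (shiftFunctor S n).Additive] [∀ n : ℤ, (shiftFunctor S' n).Additive]
    [∀ n : ℤ, (shiftFunctor R n).Additive] [∀ n : ℤ, (shiftFunctor R' n).Additive]
    [Pretriangulated S] [Pretriangulated S'] [Pretriangulated R] [Pretriangulated R']
    [IsTriangulated S] [IsTriangulated S'] [IsTriangulated R] [IsTriangulated R']
    (q : W4c3perfectstacks.MVSq S S' R R')
    [q.jst.CommShift ℤ] [q.fst.CommShift ℤ] [q.jpst.CommShift ℤ] [q.gst.CommShift ℤ]
    [q.jst.IsTriangulated] [q.fst.IsTriangulated] [q.jpst.IsTriangulated] [q.gst.IsTriangulated]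
    (hq : q.IsMV) (N₁ N₂ : S) (φ : N₁ ⟶ N₂)
    (d₁ : q.fls.obj (q.fst.obj (q.jls.obj (q.jst.obj N₁))) ⟶ N₁⟦(1 : ℤ)⟧)
    (d₂ : q.fls.obj (q.fst.obj (q.jls.obj (q.jst.obj N₂))) ⟶ N₂⟦(1 : ℤ)⟧)
    (h₁ : Triangle.mk (biprod.lift (q.adjJ.unit.app N₁) (q.adjF.unit.app N₁))
        (biprod.desc (q.adjF.unit.app (q.jls.obj (q.jst.obj N₁)))
          (-(q.fls.map (q.fst.map (q.adjJ.unit.app N₁))))) d₁ ∈ distTriang S)
    (h₂ : Triangle.mk (biprod.lift (q.adjJ.unit.app N₂) (q.adjF.unit.app N₂))
        (biprod.desc (q.adjF.unit.app (q.jls.obj (q.jst.obj N₂)))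
          (-(q.fls.map (q.fst.map (q.adjJ.unit.app N₂))))) d₂ ∈ distTriang S) :
    d₁ ≫ (shiftFunctor S (1 : ℤ)).map φ = q.fls.map (q.fst.map (q.jls.map (q.jst.map φ))) ≫ d₂ := by
  exact Groth.Agent.H16Derived.MVTri.naturality hq N₁ N₂ φ d₁ d₂ h₁ h₂

end Groth.Agent.S16408
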