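import Groth.Statements.S1641
import Mathlib
import Groth.Agent.H22Alg.DegBundle
import Groth.Agent.H28Int.Push
import Groth.Agent.H10Coh.ProjFormulaFLF

set_option autoImplicit false
universe u
open CategoryTheory CategoryTheory.Limits AlgebraicGeometry
open Variety

namespace Groth.Agent.S1641

/-- Let X be proper of dimension at most one over k and E finite locally free of rank n. Then deg E is
the sum, over the irreducible components C of X of dimension one with their reduced induced
structure, of m_C · deg(E|_C), where m_C is the length of the local ring of X at the generic point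
of C. -/
theorem result (k : Type u) [Field k] (X : Scheme.{u}) [X.Over (Spec (CommRingCat.of k))] [IsProper (X ↘ (Spec (CommRingCat.of k)))] [IsNoetherian X] (hdim : topologicalKrullDim X ≤ 1)
    (n : ℕ) (E : X.Modules) (hE : FlatMod.IsFinLocFreeOfRank n E) :
    Curv2.deg k X E n = ∑ᶠ Z : irreducibleComponents (X : Type u),
      (if topologicalKrullDim (Z.1 : Set X) = 1 then
        ((Module.length (X.presheaf.stalk Z.2.1.genericPoint) (X.presheaf.stalk Z.2.1.genericPoint)).toNat : ℤ) *
          @Curv2.deg k _ (X.irreducibleComponentIdeal Z.1 Z.2).radical.subscheme ⟨(X.irreducibleComponentIdeal Z.1 Z.2).radical.subschemeι ≫ (X ↘ (Spec (CommRingCat.of k)))⟩ ((Scheme.Modules.pullback (X.irreducibleComponentIdeal Z.1 Z.2).radical.subschemeι).obj E) n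
      else 0) := by
  classical
  have hEf : FlatMod.IsFinLocFree E := fun y => let ⟨U, hU⟩ := hE y; ⟨U, n, hU⟩
  have hdY : topologicalKrullDim (CohB1.support (Coh.structureModule X)) ≤ ((1 : ℕ) : WithBot ℕ∞) :=
    (Topology.IsInducing.subtypeVal.topologicalKrullDim_le).trans hdim
  rw [← Groth.Agent.H22Alg.DegBundle.ψ_structure k (X := X),
    Groth.Agent.H22Alg.DevLength.eq_finsum (Groth.Agent.H22Alg.DegBundle.isAddFn_ψ k hE)
      (Groth.Agent.H22Alg.DegBundle.ψ_eq_zero k hE) (Groth.Agent.H10Coh.isCoh_structureModule' X) hdY]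
  let g : irreducibleComponents (X : Type u) → X := fun Z => Z.2.1.genericPoint
  have hg : ∀ Z, closure ({g Z} : Set X) = Z.1 := fun Z => by
    exact IsIrreducible.closure_genericPoint Z.2.1 (isClosed_of_mem_irreducibleComponents Z.1 Z.2)
  have hinj : Function.Injective g := fun Z W h => Subtype.ext (by rw [← hg Z, ← hg W, h])
  rw [← finsum_mem_univ, finsum_mem_inter_support_eq' _ Set.univ (Set.range g) fun ξ hξ => ?_,
    finsum_mem_range hinj]
  swap
  · refine iff_of_true trivial ?_
    simp only [Function.mem_support] at hξ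
    split_ifs at hξ with h1
    · have hsup : IsIrreducible (closure ({ξ} : Set X)) := isIrreducible_singleton.closure
      obtain ⟨t, htc, hsub⟩ := exists_mem_irreducibleComponents_subset_of_isIrreducible _ hsup
      refine ⟨⟨t, htc⟩, ?_⟩
      by_contra hne
      have hs : g ⟨t, htc⟩ ⤳ ξ := specializes_iff_mem_closure.2 ((hg ⟨t, htc⟩).symm ▸ hsub (subset_closure rfl))
      have := Groth.Agent.H22Alg.DevLength.dim_closure_lt hs (Ne.symm hne) (d := 1)
        ((Topology.IsInducing.subtypeVal.topologicalKrullDim_le).trans hdim)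
      exact this.ne h1
    · exact absurd rfl hξ
  refine finsum_congr fun Z => ?_
  rw [hg Z]
  split_ifs with h1 h2 h2
  · have hlen : Groth.Agent.H22Alg.DevLength.len (Coh.structureModule X) (g Z) =
        Module.length (X.presheaf.stalk (g Z)) (X.presheaf.stalk (g Z)) :=
      ((LinearEquiv.ofBijective (LinearMap.toSpanSingleton _ _ (Groth.Agent.H29Ref.oneStalk (g Z)))
        (Groth.Agent.H06EGA9.bijective_smul_oneStalk (g Z))).length_eq).symm
    rw [hlen]
    congr 1
    let J := (X.irreducibleComponentIdeal Z.1 Z.2).radical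
    have hJ : Scheme.IdealSheafData.vanishingIdeal (Groth.Agent.H22Alg.DevLength.cl (g Z)) = J := by
      refine Eq.trans ?_ Scheme.IdealSheafData.vanishingIdeal_support
      congr 1
      exact SetLike.ext' (hg Z)
    letI : J.subscheme.Over (Spec (CommRingCat.of k)) := ⟨J.subschemeι ≫ (X ↘ (Spec (CommRingCat.of k)))⟩
    haveI : IsLocallyNoetherian J.subscheme := LocallyOfFiniteType.isLocallyNoetherian J.subschemeι
    let O := Coh.structureModule J.subscheme
    have hiso := Groth.Agent.H10Coh.PF.isIso_ψ_of_isFinLocFree J.subschemeι hEf O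
    let eP : CohB1.tensorMod ((Coh.push J.subschemeι).obj O) E ≅
        (Coh.push J.subschemeι).obj (CohB1.tensorMod O ((Scheme.Modules.pullback J.subschemeι).obj E)) :=
      @asIso _ _ _ _ _ hiso
    haveI : O.IsQuasicoherent := Groth.Agent.H10Coh.isQuasicoherent_unit
    haveI : (CohB1.tensorMod O ((Scheme.Modules.pullback J.subschemeι).obj E)).IsQuasicoherent :=
      (Groth.Agent.H10Coh.TT.isCoh_tensorMod (Groth.Agent.H10Coh.isCoh_structureModule' _)
        (Groth.Agent.H16Derived.KFlat.Stalk.isCoh_of_isFinLocFree
          (Groth.Agent.H16Derived.KFlat.Stalk.isFinLocFree_pullback J.subschemeι hEf))).1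
    have e0 : Groth.Agent.H25K.redMod (Groth.Agent.H22Alg.DevLength.cl (g Z)) = (Coh.push J.subschemeι).obj O := by
      rw [Groth.Agent.H25K.redMod, hJ]
    rw [e0]
    show _ - _ = _ - _
    rw [Groth.Agent.H25Euler.euler_congr eP, Groth.Agent.H28Int.Push.euler_push k J.subschemeι rfl,
      Groth.Agent.H28Int.Push.euler_push k J.subschemeι rfl,
      Groth.Agent.H25Euler.euler_congr (Groth.Agent.H10Coh.Tw.leftUnitIso ((Scheme.Modules.pullback J.subschemeι).obj E))]
  all_goals simp_all

end Groth.Agent.S1641
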