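import Groth.Statements.S16410
import Groth.Agent.H16Derived.MVTri.Glue

set_option autoImplicit false
universe v u
open CategoryTheory CategoryTheory.Limits CategoryTheory.Pretriangulated
open W4c3perfectstacks W4c3perfectstacks.MVSq

namespace Groth.Agent.S16410

/-- Glueing along a Mayer–Vietoris square of triangulated categories (single-square form). Given N_U
over U, N' over X' and an isomorphism δ between the restriction of N' to U' and the pullback of N_U
to U', let N over X be the third vertex of a distinguished triangle N ⟶ j_* N_U ⊞ f_* N' ⟶ f_* j'_*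
g^* N_U ⟶ N⟦1⟧ whose middle map has components (unit of f at j_* N_U followed by f_* of the exchange
map f^* j_* N_U ⟶ j'_* g^* N_U) and (minus f_* of: unit of j' at N' followed by j'_* δ). Then the
maps j^* N ⟶ N_U and f^* N ⟶ N' adjoint to the two components of the first arrow are isomorphisms.
(Equivalently, the third vertex may be taken to be f_* f^* j_* N_U, identified with f_* j'_* g^* N_U
through the invertible exchange map; the four categories are taken in common universes.) -/
theorem result
    (S S' R R' : Type u) [Category.{v} S] [Category.{v} S'] [Category.{v} R] [Category.{v} R']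
    [Preadditive S] [Preadditive S'] [Preadditive R] [Preadditive R']
    [HasZeroObject S] [HasZeroObject S'] [HasZeroObject R] [HasZeroObject R']
    [HasShift S ℤ] [HasShift S' ℤ] [HasShift R ℤ] [HasShift R' ℤ]
    [∀ n : ℤ, (shiftFunctor S n).Additive] [∀ n : ℤ, (shiftFunctor S' n).Additive]
    [∀ n : ℤ, (shiftFunctor R n).Additive] [∀ n : ℤ, (shiftFunctor R' n).Additive]
    [Pretriangulated S] [Pretriangulated S'] [Pretriangulated R] [Pretriangulated R']
    [IsTriangulated S] [IsTriangulated S'] [IsTriangulated R] [IsTriangulated R']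
    (q : W4c3perfectstacks.MVSq S S' R R')
    [q.jst.CommShift ℤ] [q.fst.CommShift ℤ] [q.jpst.CommShift ℤ] [q.gst.CommShift ℤ]
    [q.jst.IsTriangulated] [q.fst.IsTriangulated] [q.jpst.IsTriangulated] [q.gst.IsTriangulated]
    (hq : q.IsMV) (NU : R) (N' : S') (δ : q.jpst.obj N' ≅ q.gst.obj NU) (N : S)
    (a : N ⟶ q.jls.obj NU ⊞ q.fls.obj N')
    (d : q.fls.obj (q.jpls.obj (q.gst.obj NU)) ⟶ N⟦(1 : ℤ)⟧)
    (hT : Triangle.mk a
      (biprod.desc (q.adjF.unit.app (q.jls.obj NU) ≫ q.fls.map (q.bc2App NU))
        (-(q.fls.map (q.adjJp.unit.app N' ≫ q.jpls.map δ.hom)))) d ∈ distTriang S) :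
    IsIso ((q.adjJ.homEquiv N NU).symm (a ≫ biprod.fst)) ∧
      IsIso ((q.adjF.homEquiv N N').symm (a ≫ biprod.snd)) := by
  exact Groth.Agent.H16Derived.MVTri.glue hq NU N' δ N a d hT

end Groth.Agent.S16410
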