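import Groth.Statements.S16414
import Groth.Agent.H27Num.Basic

set_option autoImplicit false
open Dieud

namespace Groth.Agent.S16414

/-- Let μ be a rational number with 0 < μ ≤ 1 and i an integer, and put f(i,j) = max(−i−j, −j, 0) for
integers j. Then min over all integers j of f(i,j) + jμ exists and equals max(−iμ, 0). -/
theorem result (μ : ℚ) (hμ0 : 0 < μ) (hμ1 : μ ≤ 1) (i : ℤ) :
    IsLeast (Set.range fun j : ℤ => ((max (max (-i - j) (-j)) 0 : ℤ) : ℚ) + (j : ℚ) * μ)
      (max (-(i : ℚ) * μ) 0) := by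
  exact Groth.Agent.H27Num.isLeast_slope μ hμ0 hμ1 i

end Groth.Agent.S16414
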