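import Groth.Statements.S16416
import Mathlib

set_option autoImplicit false
universe u v w
open Dieud

namespace Groth.Agent.S16416

/-- For a prime p and a perfect field k of characteristic p, write W = W(k) for the ring of Witt vectors
and σ for its Frobenius; let M and N be free W-modules of finite rank, each with additive maps F
(σ-semilinear) and V (with V(σ(a)m) = aV(m)) satisfying FV = VF = p, and H = Hom_W(M, N). On H the
operator F acts through h ↦ F ∘ h ∘ V, and V acts partially: V·h is the W-linear map h' with h'(V m)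
= V(h(m)) for all m, when it exists. Let H₁ be the largest W-submodule of H stable under both (it
contains every submodule stable under both). Then H₁ ∩ V·H = V·H₁: if y ∈ H and V·y exists and lies
in H₁, then y ∈ H₁, so that H₁/VH₁ → H/(H ∩ VH) is injective. (The published statement is for the
Cartier modules of two p-divisible formal groups over k, every slope of the first below every slope
of the second; only the structure just listed is used, so connectedness and the slope condition are
not assumed.) -/
theorem result
    (p : ℕ) [Fact p.Prime] (k : Type u) [Field k] [CharP k p] [PerfectRing k p]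
    (M : Type v) [AddCommGroup M] [Module (WittVector p k) M]
    [Module.Free (WittVector p k) M] [Module.Finite (WittVector p k) M]
    (N : Type w) [AddCommGroup N] [Module (WittVector p k) N]
    [Module.Free (WittVector p k) N] [Module.Finite (WittVector p k) N]
    (FM VM : M →+ M) (FN VN : N →+ N)
    (hFM : ∀ (a : WittVector p k) (m : M), FM (a • m) = WittVector.frobenius a • FM m)
    (hVM : ∀ (a : WittVector p k) (m : M), VM (WittVector.frobenius a • m) = a • VM m)
    (hFVM : ∀ m : M, FM (VM m) = (p : WittVector p k) • m)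
    (hVFM : ∀ m : M, VM (FM m) = (p : WittVector p k) • m)
    (hFN : ∀ (a : WittVector p k) (n : N), FN (a • n) = WittVector.frobenius a • FN n)
    (hVN : ∀ (a : WittVector p k) (n : N), VN (WittVector.frobenius a • n) = a • VN n)
    (hFVN : ∀ n : N, FN (VN n) = (p : WittVector p k) • n)
    (hVFN : ∀ n : N, VN (FN n) = (p : WittVector p k) • n)
    (H₁ : Submodule (WittVector p k) (M →ₗ[WittVector p k] N))
    (hF : ∀ h ∈ H₁, ∃ h' ∈ H₁, ∀ m : M, h' m = FN (h (VM m)))
    (hV : ∀ h ∈ H₁, ∃ h' ∈ H₁, ∀ m : M, h' (VM m) = VN (h m))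
    (hmax : ∀ S : Submodule (WittVector p k) (M →ₗ[WittVector p k] N),
      (∀ h ∈ S, ∃ h' ∈ S, ∀ m : M, h' m = FN (h (VM m))) →
      (∀ h ∈ S, ∃ h' ∈ S, ∀ m : M, h' (VM m) = VN (h m)) → S ≤ H₁)
    (y : M →ₗ[WittVector p k] N) (x : M →ₗ[WittVector p k] N) (hx : x ∈ H₁)
    (hxy : ∀ m : M, x (VM m) = VN (y m)) :
    y ∈ H₁ := by
  let σ := WittVector.frobeniusEquiv p k
  have hσ : ∀ a, WittVector.frobenius (σ.symm a) = a := fun a => σ.apply_symm_apply a
  have hVM' : ∀ (a : WittVector p k) (m : M), VM (a • m) = σ.symm a • VM m := fun a m => by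
    conv_lhs => rw [← hσ a]
    exact hVM _ m
  have hVN' : ∀ (a : WittVector p k) (n : N), VN (a • n) = σ.symm a • VN n := fun a n => by
    conv_lhs => rw [← hσ a]
    exact hVN _ n
  let Φ : (M →ₗ[WittVector p k] N) → (M →ₗ[WittVector p k] N) := fun h =>
    { toFun := fun m => FN (h (VM m))
      map_add' := fun a b => by simp
      map_smul' := fun a m => by simp [hVM', hFN, hσ] }
  let G : ℕ → (M →ₗ[WittVector p k] N) := fun n => Φ^[n] y
  let S := H₁ ⊔ Submodule.span (WittVector p k) (Set.range G)
  have hGS : ∀ n, G n ∈ S := fun n => Submodule.mem_sup_right (Submodule.subset_span ⟨n, rfl⟩)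
  have hxS : x ∈ S := Submodule.mem_sup_left hx
  -- `F`-stability
  have hFS : ∀ h ∈ S, Φ h ∈ S := by
    have hadd : ∀ a b, Φ (a + b) = Φ a + Φ b := fun a b => LinearMap.ext fun m => by simp [Φ]
    have hsm : ∀ (c : WittVector p k) a, Φ (c • a) = WittVector.frobenius c • Φ a := fun c a =>
      LinearMap.ext fun m => by simp [Φ, hFN]
    intro h hh
    obtain ⟨u, hu, v, hv, rfl⟩ := Submodule.mem_sup.mp hh
    rw [hadd]
    refine add_mem (Submodule.mem_sup_left ?_) ?_
    · obtain ⟨h', hh', he⟩ := hF u hu
      rwa [show Φ u = h' from LinearMap.ext fun m => (he m).symm]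
    · clear hh
      induction hv using Submodule.span_induction with
      | mem v hv => obtain ⟨n, rfl⟩ := hv; rw [show Φ (G n) = G (n + 1) from (Function.iterate_succ_apply' _ _ _).symm]; exact hGS _
      | zero => rw [show Φ 0 = 0 from LinearMap.ext fun m => by simp [Φ]]; exact zero_mem _
      | add a b ha' hb' ha hb =>
        rw [hadd]
        exact add_mem ha hb
      | smul c a ha' ha => rw [hsm]; exact Submodule.smul_mem _ _ ha
  -- `V`-stability
  let PV : (M →ₗ[WittVector p k] N) → Prop := fun h => ∃ h' ∈ S, ∀ m : M, h' (VM m) = VN (h m)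
  have hadd : ∀ a b, PV a → PV b → PV (a + b) := by
    rintro a b ⟨a', ha', ha⟩ ⟨b', hb', hb⟩
    exact ⟨a' + b', add_mem ha' hb', fun m => by simp [ha, hb]⟩
  have hVS : ∀ h ∈ S, PV h := by
    intro h hh
    obtain ⟨u, hu, v, hv, rfl⟩ := Submodule.mem_sup.mp hh
    refine hadd _ _ ?_ ?_
    · obtain ⟨h', hh', he⟩ := hV u hu
      exact ⟨h', Submodule.mem_sup_left hh', he⟩
    · clear hh
      induction hv using Submodule.span_induction with
      | zero => exact ⟨0, zero_mem _, fun m => by simp⟩
      | add a b _ _ ha hb => exact hadd _ _ ha hb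
      | smul c a _ ha =>
        obtain ⟨a', ha', he⟩ := ha
        exact ⟨σ.symm c • a', Submodule.smul_mem _ _ ha', fun m => by simp [he, hVN']⟩
      | mem v hv =>
        obtain ⟨n, rfl⟩ := hv
        cases n with
        | zero => exact ⟨x, hxS, hxy⟩
        | succ n =>
          refine ⟨(p : WittVector p k) • G n, Submodule.smul_mem _ _ (hGS n), fun m => ?_⟩
          rw [show G (n + 1) = Φ (G n) from Function.iterate_succ_apply' _ _ _]
          show (p : WittVector p k) • G n (VM m) = VN (FN (G n (VM m)))
          rw [hVFN]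
  exact hmax S (fun h hh => ⟨Φ h, hFS h hh, fun m => rfl⟩) hVS (hGS 0)

end Groth.Agent.S16416
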