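import Groth.Statements.S16417
import Mathlib

set_option autoImplicit false
universe u v w
open Dieud

namespace Groth.Agent.S16417

/-- For a prime p and a perfect field k of characteristic p, write W = W(k) for the ring of Witt vectors
and σ for its Frobenius; let M and N be free W-modules of finite rank, each with additive maps F
(σ-semilinear) and V (with V(σ(a)m) = aV(m)) satisfying FV = VF = p, and H = Hom_W(M, N); write VM ⊆
M and VN ⊆ N for the images of V. (a) A W-linear h : M → N maps VM into VN if and only if h(V m) =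
V(h'(m)) for all m for some W-linear h' : M → N (so the maps with this property form H ∩ V·H). (b)
The natural map from H to the W-linear maps VM → N/VN has image exactly the maps vanishing on pM =
V(FM): every such map is induced by some h ∈ H. (c) The W-length of H/(H ∩ V·H) is r₂ s₁, where r₂
is the length of N/VN and s₁ = rank M − length(M/VM) is the length of VM/pM. (The published
statement is for the Cartier modules of two p-divisible formal groups over k, every slope of the
first below every slope of the second, and phrases (b), (c) as an isomorphism of H/(H ∩ VH) with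
Hom_k(VM/pM, N/VN); only the structure listed is used, so connectedness and the slope condition are
not assumed.) -/
theorem result
    (p : ℕ) [Fact p.Prime] (k : Type u) [Field k] [CharP k p] [PerfectRing k p]
    (M : Type v) [AddCommGroup M] [Module (WittVector p k) M]
    [Module.Free (WittVector p k) M] [Module.Finite (WittVector p k) M]
    (N : Type w) [AddCommGroup N] [Module (WittVector p k) N]
    [Module.Free (WittVector p k) N] [Module.Finite (WittVector p k) N]
    (FM VM : M →+ M) (FN VN : N →+ N)
    (hFM : ∀ (a : WittVector p k) (m : M), FM (a • m) = WittVector.frobenius a • FM m)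
    (hVM : ∀ (a : WittVector p k) (m : M), VM (WittVector.frobenius a • m) = a • VM m)
    (hFVM : ∀ m : M, FM (VM m) = (p : WittVector p k) • m)
    (hVFM : ∀ m : M, VM (FM m) = (p : WittVector p k) • m)
    (hFN : ∀ (a : WittVector p k) (n : N), FN (a • n) = WittVector.frobenius a • FN n)
    (hVN : ∀ (a : WittVector p k) (n : N), VN (WittVector.frobenius a • n) = a • VN n)
    (hFVN : ∀ n : N, FN (VN n) = (p : WittVector p k) • n)
    (hVFN : ∀ n : N, VN (FN n) = (p : WittVector p k) • n)
    (r₂ s₁ : ℕ)
    (hr₂ : Module.length (WittVector p k) (N ⧸ Submodule.span (WittVector p k) (Set.range VN)) = r₂)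
    (hs₁ : (Module.finrank (WittVector p k) M : ℕ∞) =
      Module.length (WittVector p k) (M ⧸ Submodule.span (WittVector p k) (Set.range VM)) + s₁) :
    (∀ h : M →ₗ[WittVector p k] N,
      (∀ m : M, h (VM m) ∈ Submodule.span (WittVector p k) (Set.range VN)) ↔
        ∃ h' : M →ₗ[WittVector p k] N, ∀ m : M, h (VM m) = VN (h' m)) ∧
    (∀ g : Submodule.span (WittVector p k) (Set.range VM) →ₗ[WittVector p k]
        N ⧸ Submodule.span (WittVector p k) (Set.range VN),
      (∀ m : M, g ⟨VM (FM m), Submodule.subset_span ⟨FM m, rfl⟩⟩ = 0) →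
      ∃ h : M →ₗ[WittVector p k] N, ∀ x : Submodule.span (WittVector p k) (Set.range VM),
        (Submodule.span (WittVector p k) (Set.range VN)).mkQ (h x) = g x) ∧
    Module.length (WittVector p k) ((M →ₗ[WittVector p k] N) ⧸
      ⨅ m : M, (Submodule.span (WittVector p k) (Set.range VN)).comap
        (LinearMap.applyₗ (VM m) : (M →ₗ[WittVector p k] N) →ₗ[WittVector p k] N)) = (r₂ * s₁ : ℕ) := by
  classical
  let σ := WittVector.frobeniusEquiv p k
  have hσ : ∀ a, WittVector.frobenius (σ.symm a) = a := fun a => σ.apply_symm_apply a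
  have hVM' : ∀ (a : WittVector p k) (m : M), VM (a • m) = σ.symm a • VM m := fun a m => by
    conv_lhs => rw [← hσ a]
    exact hVM _ m
  have hirr : Irreducible (p : WittVector p k) := WittVector.irreducible p
  set SM := Submodule.span (WittVector p k) (Set.range VM) with hSM
  set SN := Submodule.span (WittVector p k) (Set.range VN) with hSN
  have memSN : ∀ z ∈ SN, ∃ t, VN t = z := by
    intro z hz
    induction hz using Submodule.span_induction with
    | mem z hz => exact hz
    | zero => exact ⟨0, map_zero VN⟩
    | add a b _ _ ha hb => obtain ⟨a', rfl⟩ := ha; obtain ⟨b', rfl⟩ := hb; exact ⟨a' + b', map_add VN a' b'⟩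
    | smul a z _ hz => obtain ⟨t, rfl⟩ := hz; exact ⟨WittVector.frobenius a • t, hVN a t⟩
  have hpM : ∀ m : M, (p : WittVector p k) • m ∈ SM := fun m =>
    hVFM m ▸ Submodule.subset_span ⟨FM m, rfl⟩
  have hpN : ∀ n : N, (p : WittVector p k) • n ∈ SN := fun n =>
    hVFN n ▸ Submodule.subset_span ⟨FN n, rfl⟩
  have hVinj : Function.Injective VN := by
    intro a b h
    have := congrArg FN h
    rw [hFVN, hFVN] at this
    exact smul_right_injective N hirr.ne_zero this
  -- adapted basis
  obtain ⟨n, snf⟩ := Submodule.smithNormalForm (Module.Free.chooseBasis (WittVector p k) M) SM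
  let b := snf.bM
  let U : Finset (Module.Free.ChooseBasisIndex (WittVector p k) M) := Finset.univ.filter fun i => b i ∈ SM
  have hcoord : ∀ x ∈ SM, ∀ i, i ∉ U → (p : WittVector p k) ∣ b.repr x i := by
    intro x hx i hi
    have hbi : b i ∉ SM := by simpa [U] using hi
    have hps := hpM (b i)
    have hmem : i ∈ Set.range snf.f := by
      by_contra hf
      have := snf.repr_eq_zero_of_notMem_range ⟨_, hps⟩ hf
      simp [b, hirr.ne_zero] at this
    obtain ⟨j, rfl⟩ := hmem
    have h1 := snf.repr_apply_embedding_eq_repr_smul ⟨x, hx⟩ (i := j)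
    have h2 := snf.repr_apply_embedding_eq_repr_smul ⟨_, hps⟩ (i := j)
    simp only [map_smul, Finsupp.smul_apply, b, Module.Basis.repr_self, Finsupp.single_eq_same,
      smul_eq_mul, mul_one] at h2
    have hnu : ¬ IsUnit (snf.a j) := by
      intro hu
      obtain ⟨v, hv⟩ := hu
      apply hbi
      have hjm : snf.a j • b (snf.f j) ∈ SM := snf.snf j ▸ (snf.bN j).2
      have := SM.smul_mem (↑v⁻¹ : WittVector p k) hjm
      rwa [smul_smul, ← hv, Units.inv_mul, one_smul] at this
    have hdvd : (p : WittVector p k) ∣ snf.a j := by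
      have hc := h2
      rw [mul_comm] at hc
      generalize snf.bN.repr ⟨_, hps⟩ j = c at hc
      obtain hu | hu := hirr.isUnit_or_isUnit hc
      · exact ⟨↑hu.unit⁻¹, by rw [hc, mul_comm, ← mul_assoc, IsUnit.val_inv_mul, one_mul]⟩
      · exact absurd hu hnu
    show _ ∣ snf.bM.repr x (snf.f j)
    rw [h1]
    exact hdvd.trans ⟨snf.bN.repr ⟨x, hx⟩ j, by rw [map_smul]; rfl⟩
  have hsplit : ∀ x ∈ SM, ∃ m, x = ∑ i ∈ U, b.repr x i • b i + (p : WittVector p k) • m := by
    intro x hx
    choose c hc using fun i (hi : i ∈ Uᶜ) => hcoord x hx i (Finset.mem_compl.mp hi)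
    refine ⟨∑ i ∈ (Uᶜ).attach, c i.1 i.2 • b i.1, ?_⟩
    conv_lhs => rw [← b.sum_repr x, ← Finset.sum_add_sum_compl U]
    congr 1
    rw [Finset.smul_sum, ← Finset.sum_attach Uᶜ]
    exact Finset.sum_congr rfl fun i _ => by rw [smul_smul, ← hc i.1 i.2]
  refine ⟨fun h => ⟨fun hh => ?_, ?_⟩, fun g hg => ?_, ?_⟩
  · choose h' hh' using fun m => memSN _ (hh m)
    refine ⟨{ toFun := h', map_add' := fun a c => hVinj (by simp [hh']), map_smul' := fun a m => hVinj ?_ },
      fun m => (hh' m).symm⟩
    rw [RingHom.id_apply, hh', hVM', map_smul, ← hh']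
    conv_rhs => rw [← hσ a, hVN]
  · rintro ⟨h', hh'⟩ m
    rw [hh']
    exact Submodule.subset_span ⟨_, rfl⟩
  · choose lift hlift using fun z => SN.mkQ_surjective z
    let h : M →ₗ[WittVector p k] N := b.constr (WittVector p k) fun i =>
      if hi : b i ∈ SM then lift (g ⟨b i, hi⟩) else 0
    refine ⟨h, fun x => ?_⟩
    obtain ⟨m, hm⟩ := hsplit x.1 x.2
    have hb : ∀ i (hi : i ∈ U), SN.mkQ (h (b i)) = g ⟨b i, (Finset.mem_filter.mp hi).2⟩ := by
      intro i hi
      simp only [h, Module.Basis.constr_basis]
      rw [dif_pos (Finset.mem_filter.mp hi).2, hlift]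
    have hx : x = (∑ i ∈ U.attach, b.repr x.1 i.1 • (⟨b i.1, (Finset.mem_filter.mp i.2).2⟩ : SM)) +
        ⟨VM (FM m), Submodule.subset_span ⟨FM m, rfl⟩⟩ := by
      apply Subtype.ext
      simp only [Submodule.coe_add, Submodule.coe_sum, Submodule.coe_smul, hVFM]
      rw [Finset.sum_attach U fun i => b.repr x.1 i • b i]
      exact hm
    conv_lhs => rw [hm]
    conv_rhs => rw [hx]
    rw [map_add, map_add, map_add, hg, add_zero, map_sum, map_sum, map_sum,
      show SN.mkQ (h ((p : WittVector p k) • m)) = 0 by
        rw [map_smul]; exact (Submodule.Quotient.mk_eq_zero _).mpr (hpN _), add_zero,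
      ← Finset.sum_attach U]
    exact Finset.sum_congr rfl fun i _ => by rw [map_smul, map_smul, map_smul, hb i.1 i.2]
  · -- lengths
    let ψ : (M →ₗ[WittVector p k] N) →ₗ[WittVector p k] (U → N ⧸ SN) :=
      LinearMap.pi fun i => SN.mkQ ∘ₗ LinearMap.applyₗ (b i.1)
    have hψs : Function.Surjective ψ := by
      intro z
      choose lift hlift using fun w => SN.mkQ_surjective w
      refine ⟨b.constr (WittVector p k) fun i => if hi : i ∈ U then lift (z ⟨i, hi⟩) else 0, funext fun i => ?_⟩
      show SN.mkQ (b.constr (WittVector p k) _ (b i.1)) = z i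
      rw [Module.Basis.constr_basis, dif_pos i.2, hlift]
    have hψk : LinearMap.ker ψ = ⨅ m : M, SN.comap
        (LinearMap.applyₗ (VM m) : (M →ₗ[WittVector p k] N) →ₗ[WittVector p k] N) := by
      ext h
      simp only [LinearMap.mem_ker, Submodule.mem_iInf, Submodule.mem_comap]
      constructor
      · intro hh m
        obtain ⟨m', hm'⟩ := hsplit (VM m) (Submodule.subset_span ⟨m, rfl⟩)
        show h (VM m) ∈ SN
        rw [hm', map_add, map_sum, map_smul]
        refine add_mem (sum_mem fun i hi => ?_) (hpN _)
        rw [map_smul]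
        exact SN.smul_mem _ ((Submodule.Quotient.mk_eq_zero _).mp (congrFun hh ⟨i, hi⟩))
      · intro hh
        funext i
        refine (Submodule.Quotient.mk_eq_zero _).mpr ?_
        have hi : b i.1 ∈ SM := (Finset.mem_filter.mp i.2).2
        have hle : SM ≤ SN.comap h := Submodule.span_le.mpr (by rintro _ ⟨m, rfl⟩; exact hh m)
        exact hle hi
    let χ : M →ₗ[WittVector p k] ({i // i ∈ Uᶜ} → WittVector p k ⧸ Ideal.span {(p : WittVector p k)}) :=
      LinearMap.pi fun i => (Ideal.span {(p : WittVector p k)}).mkQ ∘ₗ b.coord i.1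
    have hχs : Function.Surjective χ := by
      intro z
      choose lift hlift using fun w => (Ideal.span {(p : WittVector p k)}).mkQ_surjective w
      refine ⟨b.equivFun.symm fun i => if hi : i ∈ Uᶜ then lift (z ⟨i, hi⟩) else 0, funext fun i => ?_⟩
      show Submodule.mkQ _ (b.coord i.1 _) = z i
      rw [Module.Basis.coord_apply, Module.Basis.equivFun_symm_apply, Module.Basis.repr_sum_self, dif_pos i.2,
        hlift]
    have hχk : LinearMap.ker χ = SM := by
      ext x
      simp only [LinearMap.mem_ker]
      constructor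
      · intro hx
        rw [← b.sum_repr x]
        refine sum_mem fun i _ => ?_
        by_cases hi : i ∈ U
        · exact SM.smul_mem _ (Finset.mem_filter.mp hi).2
        · obtain ⟨c, hc⟩ := Ideal.mem_span_singleton'.mp
            ((Submodule.Quotient.mk_eq_zero _).mp (congrFun hx ⟨i, Finset.mem_compl.mpr hi⟩))
          rw [show b.repr x i = c * p from hc.symm, mul_comm, mul_smul]
          exact hpM _
      · intro hx
        funext i
        exact (Submodule.Quotient.mk_eq_zero _).mpr
          (Ideal.mem_span_singleton.mpr (hcoord x hx i.1 (Finset.mem_compl.mp i.2)))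
    haveI hmax : (Ideal.span {(p : WittVector p k)}).IsMaximal := PrincipalIdealRing.isMaximal_of_irreducible hirr
    haveI : IsSimpleModule (WittVector p k) (WittVector p k ⧸ Ideal.span {(p : WittVector p k)}) :=
      isSimpleModule_iff_isCoatom.mpr hmax.out
    have hlenM : Module.length (WittVector p k) (M ⧸ SM) = ((Uᶜ).card : ℕ) := by
      rw [← hχk, (χ.quotKerEquivOfSurjective hχs).length_eq, Module.length_pi_of_fintype]
      simp [Module.length_eq_one]
    have hU : U.card = s₁ := by
      rw [hlenM, Module.finrank_eq_card_basis b, ← Finset.card_add_card_compl U] at hs₁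
      have : U.card + (Uᶜ).card = (Uᶜ).card + s₁ := by exact_mod_cast hs₁
      omega
    rw [← hψk, (ψ.quotKerEquivOfSurjective hψs).length_eq, Module.length_pi_of_fintype]
    simp [hr₂, hU, mul_comm]

end Groth.Agent.S16417
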