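import Groth.Statements.S16418
import Mathlib

set_option autoImplicit false
universe u v
open Dieud

namespace Groth.Agent.S16418

/-- Step of the proof: for a prime p and a perfect field k of characteristic p, write W = W(k) and σ for
its Frobenius; let M be a W-module with additive maps F (σ-semilinear) and V (with V(σ(a)m) = aV(m))
such that FV = VF = p, V is injective, ⋂_n V^n M = 0 and M/VM is finitely generated over W. Put M₁ =
{x ∈ M : for every n there is m with V^m x ∈ F^n M} and M₂ = {x ∈ M : F^n x = 0 for some n}. Then M₂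
is killed by a single power of F, and F is injective on M₁. (The published text makes these
assertions inside a proof, for the V-reduced Cartier module of a connected smooth formal group of
finite dimension over k; only the listed structure is used, and V-adic completeness is not needed.) -/
theorem result
    (p : ℕ) [Fact p.Prime] (k : Type u) [Field k] [CharP k p] [PerfectRing k p]
    (M : Type v) [AddCommGroup M] [Module (WittVector p k) M]
    (F V : M →+ M)
    (hF : ∀ (a : WittVector p k) (m : M), F (a • m) = WittVector.frobenius a • F m)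
    (hV : ∀ (a : WittVector p k) (m : M), V (WittVector.frobenius a • m) = a • V m)
    (hFV : ∀ m : M, F (V m) = (p : WittVector p k) • m)
    (hVF : ∀ m : M, V (F m) = (p : WittVector p k) • m)
    (hVinj : Function.Injective V)
    (hsep : ∀ x : M, (∀ n : ℕ, ∃ y : M, x = (⇑V)^[n] y) → x = 0)
    (hfin : Module.Finite (WittVector p k) (M ⧸ Submodule.span (WittVector p k) (Set.range V))) :
    (∃ c : ℕ, ∀ x : M, (∃ n : ℕ, (⇑F)^[n] x = 0) → (⇑F)^[c] x = 0) ∧
    (∀ x : M, (∀ n : ℕ, ∃ (m : ℕ) (y : M), (⇑V)^[m] x = (⇑F)^[n] y) → F x = 0 → x = 0) := by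
  have hcomm : ∀ m, F (V m) = V (F m) := fun m => by rw [hFV, hVF]
  have hc : ∀ (c j : ℕ) (t : M), (⇑F)^[c] ((⇑V)^[j] t) = (⇑V)^[j] ((⇑F)^[c] t) := fun c j t =>
    ((Function.Commute.iterate_iterate (show Function.Commute ⇑F ⇑V from hcomm) c j).eq t)
  have hsmul : ∀ (n : ℕ) (a : WittVector p k) (m : M),
      (⇑F)^[n] (a • m) = (⇑WittVector.frobenius)^[n] a • (⇑F)^[n] m := by
    intro n
    induction n with
    | zero => intros; rfl
    | succ n ih => intro a m; simp only [Function.iterate_succ_apply', ih, hF]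
  have hzero : ∀ n : ℕ, (⇑F)^[n] (0 : M) = 0 := fun n => iterate_map_zero F n
  have hmono : ∀ {n c : ℕ} {x : M}, n ≤ c → (⇑F)^[n] x = 0 → (⇑F)^[c] x = 0 := by
    intro n c x h hx
    rw [show c = (c - n) + n by omega, Function.iterate_add_apply, hx, hzero]
  let K : ℕ → Submodule (WittVector p k) M := fun n =>
    { carrier := {x | (⇑F)^[n] x = 0}
      add_mem' := fun {a b} ha hb => by simp [iterate_map_add, show (⇑F)^[n] a = 0 from ha, show (⇑F)^[n] b = 0 from hb]
      zero_mem' := hzero n
      smul_mem' := fun a x hx => by simp [hsmul, show (⇑F)^[n] x = 0 from hx] }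
  let q := (Submodule.span (WittVector p k) (Set.range V)).mkQ
  let T : Submodule (WittVector p k) (M ⧸ Submodule.span (WittVector p k) (Set.range V)) :=
    ⨆ n, (K n).map q
  haveI := hfin
  obtain ⟨s, hs⟩ : T.FG := IsNoetherian.noetherian T
  have hmonoK : Monotone fun n => (K n).map q := fun a b h => Submodule.map_mono fun x hx => hmono h hx
  have hbound : ∀ g ∈ s, ∃ n, g ∈ (K n).map q := fun g hg =>
    (Submodule.mem_iSup_of_directed _ hmonoK.directed_le).mp (hs.le (Submodule.subset_span hg))
  choose N hN using hbound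
  let c := s.attach.sup fun g => N g.1 g.2
  have hT : T ≤ (K c).map q := by
    rw [← hs, Submodule.span_le]
    intro g hg
    exact hmonoK (Finset.le_sup (f := fun g : s => N g.1 g.2) (Finset.mem_attach s ⟨g, hg⟩)) (hN g hg)
  have hspanV : ∀ z ∈ Submodule.span (WittVector p k) (Set.range V), ∃ t, V t = z := by
    intro z hz
    induction hz using Submodule.span_induction with
    | mem z hz => exact hz
    | zero => exact ⟨0, map_zero V⟩
    | add a b _ _ ha hb => obtain ⟨a', rfl⟩ := ha; obtain ⟨b', rfl⟩ := hb; exact ⟨a' + b', map_add V a' b'⟩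
    | smul a z _ hz => obtain ⟨t, rfl⟩ := hz; exact ⟨WittVector.frobenius a • t, hV a t⟩
  have step : ∀ x, (∃ n, (⇑F)^[n] x = 0) → ∃ a t, (⇑F)^[c] a = 0 ∧ (∃ n, (⇑F)^[n] t = 0) ∧ x = a + V t := by
    rintro x ⟨n, hn⟩
    obtain ⟨a, ha, hax⟩ := hT ((le_iSup (fun n => (K n).map q) n) ⟨x, hn, rfl⟩)
    obtain ⟨t, ht⟩ := hspanV (x - a) ((Submodule.Quotient.eq _).mp hax.symm)
    refine ⟨a, t, ha, ⟨max n c, hVinj.iterate 1 ?_⟩, by rw [ht]; abel⟩
    simp only [Function.iterate_one, map_zero]
    have h1 : (⇑F)^[max n c] (V t) = 0 := by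
      rw [ht, iterate_map_sub, hmono (le_max_left _ _) hn, hmono (le_max_right _ _) (show (⇑F)^[c] a = 0 from ha), sub_zero]
    rw [← h1]
    exact (hc (max n c) 1 t).symm
  have hkill : ∀ x : M, (∃ n : ℕ, (⇑F)^[n] x = 0) → (⇑F)^[c] x = 0 := by
    intro x hx
    apply hsep
    intro j
    induction j generalizing x with
    | zero => exact ⟨_, rfl⟩
    | succ j ih =>
      obtain ⟨a, t, ha, ht, rfl⟩ := step x hx
      obtain ⟨y, hy⟩ := ih t ht
      refine ⟨y, ?_⟩
      rw [iterate_map_add, ha, zero_add, show V t = (⇑V)^[1] t from rfl, hc, hy, ← Function.iterate_add_apply,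
        add_comm]
  refine ⟨⟨c, hkill⟩, fun x hx hFx => ?_⟩
  obtain ⟨m, y, hy⟩ := hx c
  have h1 : (⇑F)^[c + 1] y = 0 := by
    rw [Function.iterate_succ_apply', ← hy]
    have := hc 1 m x
    simp only [Function.iterate_one] at this
    rw [this, hFx]
    exact iterate_map_zero V m
  rw [hkill y ⟨_, h1⟩] at hy
  exact (hVinj.iterate m) (hy.trans (iterate_map_zero V m).symm)

end Groth.Agent.S16418
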