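import Groth.Statements.S16419
import Mathlib.Algebra.Module.StablyFree.Basic
import Mathlib.LinearAlgebra.TensorProduct.Quotient
import Mathlib.LinearAlgebra.TensorProduct.RightExactness
import Mathlib.RingTheory.Artinian.Defs
import Mathlib.RingTheory.LocalRing.Defs
import Mathlib.Tactic.LinearCombination.Lemmas
import Mathlib.Tactic.LinearCombination

set_option autoImplicit false
universe u v
open CAlg

namespace Groth.Agent.S16419

open TensorProduct in
/-- For a commutative local Artinian ring R and an exact sequence 0 → H₁ → H → H₂ → 0 of finite free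
R-modules, let F₁ ⊆ H₁ and F₂ ⊆ H₂ be submodules with H₁/F₁ and H₂/F₂ free; let 𝔫 be an ideal of R
of square zero, R̄ = R/𝔫, and F̄ an R̄-submodule of H̄ = R̄ ⊗ H with free quotient such that F̄
meets the image of R̄ ⊗ H₁ in the image of R̄ ⊗ F₁ and the image of F̄ in R̄ ⊗ H₂ is the image of R̄
⊗ F₂. Then there is a direct summand F of H with F ∩ H₁ = F₁, whose image in H̄ is F̄ and whose
image in H₂ is F₂. -/
theorem result
    (R : Type u) [CommRing R] [IsArtinianRing R] [IsLocalRing R]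
    (H₁ : Type v) (H : Type v) (H₂ : Type v)
    [AddCommGroup H₁] [Module R H₁] [AddCommGroup H] [Module R H] [AddCommGroup H₂] [Module R H₂]
    [Module.Free R H₁] [Module.Finite R H₁] [Module.Free R H] [Module.Finite R H]
    [Module.Free R H₂] [Module.Finite R H₂]
    (f : H₁ →ₗ[R] H) (g : H →ₗ[R] H₂) (hf : Function.Injective f) (hg : Function.Surjective g)
    (hfg : Function.Exact f g)
    (F₁ : Submodule R H₁) (F₂ : Submodule R H₂) [Module.Free R (H₁ ⧸ F₁)] [Module.Free R (H₂ ⧸ F₂)]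
    (𝔫 : Ideal R) (hn : 𝔫 * 𝔫 = ⊥)
    (Fb : Submodule (R ⧸ 𝔫) ((R ⧸ 𝔫) ⊗[R] H))
    [Module.Free (R ⧸ 𝔫) (((R ⧸ 𝔫) ⊗[R] H) ⧸ Fb)]
    (h1 : Fb ⊓ LinearMap.range (f.baseChange (R ⧸ 𝔫)) =
      Submodule.map (f.baseChange (R ⧸ 𝔫)) (F₁.baseChange (R ⧸ 𝔫)))
    (h2 : Submodule.map (g.baseChange (R ⧸ 𝔫)) Fb = F₂.baseChange (R ⧸ 𝔫)) :
    ∃ F : Submodule R H, (∃ C : Submodule R H, IsCompl F C) ∧
      F ⊓ LinearMap.range f = Submodule.map f F₁ ∧
      F.baseChange (R ⧸ 𝔫) = Fb ∧ Submodule.map g F = F₂ := by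
  classical
  let S := R ⧸ 𝔫
  have hsurjmk : ∀ {N : Type v} [AddCommGroup N] [Module R N] (x : S ⊗[R] N),
      ∃ a : N, x = (1 : S) ⊗ₜ[R] a := by
    intro N _ _ x
    induction x using TensorProduct.induction_on with
    | zero => exact ⟨0, by simp⟩
    | tmul s a =>
      obtain ⟨r, rfl⟩ := Ideal.Quotient.mk_surjective s
      exact ⟨r • a, by rw [← TensorProduct.smul_tmul, Algebra.smul_def, mul_one]; rfl⟩
    | add x y hx hy =>
      obtain ⟨a, rfl⟩ := hx
      obtain ⟨b, rfl⟩ := hy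
      exact ⟨a + b, (TensorProduct.tmul_add _ _ _).symm⟩
  haveI : Module.Projective R (H₁ ⧸ F₁) := Module.Projective.of_free
  haveI : Module.Projective R (H₂ ⧸ F₂) := Module.Projective.of_free
  obtain ⟨ρ, hρ⟩ := Module.projective_lifting_property F₁.mkQ LinearMap.id (Submodule.mkQ_surjective _)
  obtain ⟨ρ₂, hρ₂⟩ := Module.projective_lifting_property F₂.mkQ LinearMap.id (Submodule.mkQ_surjective _)
  have hC₁ : IsCompl F₁ (LinearMap.range ρ) := by
    constructor
    · rw [Submodule.disjoint_def]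
      rintro x hx ⟨q, rfl⟩
      have : q = 0 := by
        rw [show q = F₁.mkQ (ρ q) from (LinearMap.congr_fun hρ q).symm]
        exact (Submodule.Quotient.mk_eq_zero _).mpr hx
      simp [this]
    · rw [codisjoint_iff, eq_top_iff]
      intro x _
      exact Submodule.mem_sup.mpr ⟨x - ρ (F₁.mkQ x), (Submodule.Quotient.eq _).mp
        (LinearMap.congr_fun hρ (F₁.mkQ x)).symm, _, LinearMap.mem_range_self _ _, sub_add_cancel _ _⟩
  have hC₂ : IsCompl F₂ (LinearMap.range ρ₂) := by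
    constructor
    · rw [Submodule.disjoint_def]
      rintro x hx ⟨q, rfl⟩
      have : q = 0 := by
        rw [show q = F₂.mkQ (ρ₂ q) from (LinearMap.congr_fun hρ₂ q).symm]
        exact (Submodule.Quotient.mk_eq_zero _).mpr hx
      simp [this]
    · rw [codisjoint_iff, eq_top_iff]
      intro x _
      exact Submodule.mem_sup.mpr ⟨x - ρ₂ (F₂.mkQ x), (Submodule.Quotient.eq _).mp
        (LinearMap.congr_fun hρ₂ (F₂.mkQ x)).symm, _, LinearMap.mem_range_self _ _, sub_add_cancel _ _⟩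
  obtain ⟨σ, hσ⟩ := Module.projective_lifting_property g LinearMap.id hg
  -- `F₂` is projective; choose lifts in `Fb`
  haveI : Module.Projective R F₂ := Module.Projective.of_split F₂.subtype
    (F₂.projectionOnto _ hC₂) (by ext x; simp)
  let π : H →ₗ[R] S ⊗[R] H := (TensorProduct.mk R S H) 1
  have hPmem : ∀ a : F₂, ∃ h : H, g h = a ∧ π h ∈ Fb := by
    intro a
    have ha : (1 : S) ⊗ₜ[R] (a : H₂) ∈ F₂.baseChange S := Submodule.tmul_mem_baseChange_of_mem _ a.2
    rw [← h2] at ha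
    obtain ⟨y, hy, hya⟩ := ha
    obtain ⟨h, rfl⟩ := hsurjmk y
    have hdiff : g h - a ∈ 𝔫 • (⊤ : Submodule R H₂) := by
      rw [← Submodule.Quotient.eq]
      have := congrArg (TensorProduct.quotTensorEquivQuotSMul H₂ 𝔫) hya
      simp only [π, TensorProduct.mk_apply, LinearMap.baseChange_tmul] at this
      erw [TensorProduct.quotTensorEquivQuotSMul_mk_tmul 𝔫 1, TensorProduct.quotTensorEquivQuotSMul_mk_tmul 𝔫 1] at this
      simpa only [one_smul] using this
    rw [← LinearMap.range_eq_top.mpr hg, LinearMap.range_eq_map, ← Submodule.map_smul''] at hdiff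
    obtain ⟨z, hz, hzg⟩ := hdiff
    refine ⟨h - z, by rw [map_sub, hzg, sub_sub_cancel], ?_⟩
    have hz0 : π z = 0 := by
      refine Submodule.smul_induction_on hz (fun r hr x _ => ?_) (fun x y hx hy => by simp [hx, hy])
      rw [map_smul]
      simp only [π, TensorProduct.mk_apply, TensorProduct.smul_tmul', Algebra.smul_def, mul_one,
        Ideal.Quotient.algebraMap_eq, Ideal.Quotient.eq_zero_iff_mem.mpr hr, TensorProduct.zero_tmul, S]
    rw [map_sub, hz0, sub_zero]
    exact hy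
  let P : Submodule R H := (Fb.restrictScalars R).comap π ⊓ F₂.comap g
  let gP : P →ₗ[R] F₂ := g.restrict fun x hx => hx.2
  obtain ⟨s, hs⟩ := Module.projective_lifting_property gP LinearMap.id (fun a => by
    obtain ⟨h, hga, hh⟩ := hPmem a
    exact ⟨⟨h, hh, show g h ∈ F₂ from hga ▸ a.2⟩, Subtype.ext hga⟩)
  have hgs : ∀ a : F₂, g (s a) = a := fun a => congrArg Subtype.val (LinearMap.congr_fun hs a)
  refine ⟨F₁.map f ⊔ LinearMap.range (P.subtype ∘ₗ s),
    ⟨(LinearMap.range ρ).map f ⊔ (LinearMap.range ρ₂).map σ, ⟨?_, ?_⟩⟩, ?_, ?_, ?_⟩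
  · rw [Submodule.disjoint_def]
    intro x hx hx'
    obtain ⟨_, ⟨a, ha, rfl⟩, _, ⟨b, rfl⟩, rfl⟩ := Submodule.mem_sup.mp hx
    obtain ⟨_, ⟨a', ha', rfl⟩, _, ⟨b', hb', rfl⟩, he⟩ := Submodule.mem_sup.mp hx'
    have hg' := congrArg g he
    simp only [map_add, hfg.apply_apply_eq_zero, zero_add, LinearMap.comp_apply,
      Submodule.subtype_apply, hgs, show g (σ b') = b' from LinearMap.congr_fun hσ b'] at hg'
    obtain rfl : b' = 0 := Submodule.disjoint_def.mp hC₂.disjoint b' (hg' ▸ b.2) hb'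
    obtain rfl : b = 0 := Subtype.ext hg'.symm
    simp only [map_zero, add_zero] at he ⊢
    obtain rfl := hf he
    rw [Submodule.disjoint_def.mp hC₁.disjoint a' ha ha', map_zero]
  · rw [codisjoint_iff, eq_top_iff]
    intro h _
    obtain ⟨b, hb, c, hc, hbc⟩ := Submodule.mem_sup.mp (hC₂.sup_eq_top.ge (Submodule.mem_top : g h ∈ ⊤))
    obtain ⟨t, ht⟩ := (hfg (h - s ⟨b, hb⟩ - σ c)).mp (by
      rw [map_sub, map_sub, hgs, show g (σ c) = c from LinearMap.congr_fun hσ c, ← hbc]
      simp)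
    obtain ⟨a, ha, a', ha', rfl⟩ := Submodule.mem_sup.mp (hC₁.sup_eq_top.ge (Submodule.mem_top : t ∈ ⊤))
    refine Submodule.mem_sup.mpr ⟨f a + s ⟨b, hb⟩, ?_, f a' + σ c, ?_, ?_⟩
    · exact Submodule.add_mem_sup (Submodule.mem_map_of_mem ha) ⟨_, rfl⟩
    · exact Submodule.add_mem_sup (Submodule.mem_map_of_mem ha') (Submodule.mem_map_of_mem hc)
    · rw [map_add] at ht
      linear_combination (norm := abel) ht
  · refine le_antisymm ?_ (le_inf le_sup_left LinearMap.map_le_range)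
    rintro x ⟨hx, t, rfl⟩
    obtain ⟨_, ⟨a, ha, rfl⟩, _, ⟨b, rfl⟩, he⟩ := Submodule.mem_sup.mp hx
    have hg' := congrArg g he
    simp only [map_add, hfg.apply_apply_eq_zero, zero_add, LinearMap.comp_apply,
      Submodule.subtype_apply, hgs] at hg'
    obtain rfl : b = 0 := Subtype.ext hg'
    simp only [map_zero, add_zero] at he
    exact ⟨a, ha, he⟩
  · have hFb : ∀ a ∈ F₁, π (f a) ∈ Fb := fun a ha => by
      have : (1 : S) ⊗ₜ[R] f a ∈ Submodule.map (f.baseChange S) (F₁.baseChange S) :=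
        ⟨_, Submodule.tmul_mem_baseChange_of_mem _ ha, LinearMap.baseChange_tmul _ _ _⟩
      rw [← h1] at this
      exact this.1
    refine le_antisymm ?_ fun y hy => ?_
    · rw [Submodule.baseChange_eq_span, Submodule.span_le]
      rintro _ ⟨x, hx, rfl⟩
      obtain ⟨_, ⟨a, ha, rfl⟩, _, ⟨b, rfl⟩, rfl⟩ := Submodule.mem_sup.mp hx
      change π _ ∈ Fb
      rw [map_add]
      exact add_mem (hFb a ha) (s b).2.1
    · have hg2 : g.baseChange S y ∈ Submodule.map (g.baseChange S)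
          ((LinearMap.range (P.subtype ∘ₗ s)).baseChange S) := by
        have hy' : g.baseChange S y ∈ F₂.baseChange S := h2 ▸ Submodule.mem_map_of_mem hy
        refine (?_ : F₂.baseChange S ≤ _) hy'
        rw [Submodule.baseChange_eq_span, Submodule.span_le]
        rintro _ ⟨b, hb, rfl⟩
        exact ⟨_, Submodule.tmul_mem_baseChange_of_mem (1 : S) ⟨⟨b, hb⟩, rfl⟩, by simp [hgs]⟩
      obtain ⟨z, hz, hzy⟩ := hg2
      have hzFb : z ∈ Fb := by
        refine (?_ : (LinearMap.range (P.subtype ∘ₗ s)).baseChange S ≤ Fb) hz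
        rw [Submodule.baseChange_eq_span, Submodule.span_le]
        rintro _ ⟨_, ⟨b, rfl⟩, rfl⟩
        exact (s b).2.1
      have hex := lTensor_exact S hfg hg
      have hk : g.baseChange S (y - z) = 0 := by rw [map_sub, hzy, sub_self]
      obtain ⟨t, ht⟩ := (hex (y - z)).mp hk
      have : y - z ∈ Submodule.map (f.baseChange S) (F₁.baseChange S) :=
        h1 ▸ ⟨sub_mem hy hzFb, t, ht⟩
      rw [← sub_add_cancel y z]
      refine add_mem ?_ ((Submodule.baseChange_mono S le_sup_right hz))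
      obtain ⟨w, hw, hwe⟩ := this
      rw [← hwe]
      refine (?_ : F₁.baseChange S ≤ Submodule.comap (f.baseChange S)
        (Submodule.baseChange S (Submodule.map f F₁ ⊔ LinearMap.range (P.subtype ∘ₗ s)))) hw
      rw [Submodule.baseChange_eq_span, Submodule.span_le]
      rintro _ ⟨a, ha, rfl⟩
      exact Submodule.tmul_mem_baseChange_of_mem _ (Submodule.mem_sup_left (Submodule.mem_map_of_mem ha))
  · refine le_antisymm ?_ fun b hb => ⟨_, Submodule.mem_sup_right ⟨⟨b, hb⟩, rfl⟩, hgs ⟨b, hb⟩⟩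
    rw [Submodule.map_sup, sup_le_iff]
    refine ⟨?_, ?_⟩
    · rintro _ ⟨_, ⟨a, _, rfl⟩, rfl⟩
      rw [hfg.apply_apply_eq_zero]
      exact zero_mem _
    · rintro _ ⟨_, ⟨b, rfl⟩, rfl⟩
      exact (s b).2.2

end Groth.Agent.S16419
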