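import Groth.Statements.S16420
import Mathlib.Algebra.Module.StablyFree.Basic
import Mathlib.LinearAlgebra.TensorProduct.Quotient
import Mathlib.RingTheory.Artinian.Defs
import Mathlib.RingTheory.LocalRing.Defs

set_option autoImplicit false
universe u v
open CAlg

namespace Groth.Agent.S16420

open TensorProduct in
/-- For a commutative local Artinian ring R and an exact sequence 0 → H₁ → H → H₂ → 0 of finite free
R-modules, let F₁ ⊆ H₁ and F₂ ⊆ H₂ be submodules with free quotients, 𝔫 an ideal of R of square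
zero, R̄ = R/𝔫, and F̄ ⊆ H̄ = R̄ ⊗ H an R̄-submodule with free quotient meeting the image of R̄ ⊗ H₁
in the image of R̄ ⊗ F₁ and mapping onto the image of R̄ ⊗ F₂; let L be the set of direct summands F
of H with F ∩ H₁ = F₁, with image F̄ in H̄ and with image F₂ in H₂. Then L is a torsor under
Hom_R(F₂, 𝔫(H₁/F₁)), acting as follows: an R-linear u : H₂ → H₁ with u(H₂) ⊆ 𝔫H₁ moves F ∈ L to the
image of F under x ↦ x + f(u(g(x))). Precisely, for F ∈ L: (1) that image again lies in L; (2) it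
equals F if and only if u(F₂) ⊆ 𝔫F₁; (3) every F' ∈ L is obtained from F in this way for some such
u. (The published statement phrases the torsor under the R̄-linear maps from F̄₂ to 𝔫 ⊗ (H̄₁/F̄₁), a
group identified with the maps u as above modulo those with u(F₂) ⊆ 𝔫F₁, and describes the action
through a lift F₂ → 𝔫 ⊗ H₁ composed with F → F/F₁ ≅ F₂; restricted to F this is x ↦ f(u(g(x))).) -/
theorem result
    (R : Type u) [CommRing R] [IsArtinianRing R] [IsLocalRing R]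
    (H₁ : Type v) (H : Type v) (H₂ : Type v)
    [AddCommGroup H₁] [Module R H₁] [AddCommGroup H] [Module R H] [AddCommGroup H₂] [Module R H₂]
    [Module.Free R H₁] [Module.Finite R H₁] [Module.Free R H] [Module.Finite R H]
    [Module.Free R H₂] [Module.Finite R H₂]
    (f : H₁ →ₗ[R] H) (g : H →ₗ[R] H₂) (hf : Function.Injective f) (hg : Function.Surjective g)
    (hfg : Function.Exact f g)
    (F₁ : Submodule R H₁) (F₂ : Submodule R H₂) [Module.Free R (H₁ ⧸ F₁)] [Module.Free R (H₂ ⧸ F₂)]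
    (𝔫 : Ideal R) (hn : 𝔫 * 𝔫 = ⊥)
    (Fb : Submodule (R ⧸ 𝔫) ((R ⧸ 𝔫) ⊗[R] H))
    [Module.Free (R ⧸ 𝔫) (((R ⧸ 𝔫) ⊗[R] H) ⧸ Fb)]
    (h1 : Fb ⊓ LinearMap.range (f.baseChange (R ⧸ 𝔫)) =
      Submodule.map (f.baseChange (R ⧸ 𝔫)) (F₁.baseChange (R ⧸ 𝔫)))
    (h2 : Submodule.map (g.baseChange (R ⧸ 𝔫)) Fb = F₂.baseChange (R ⧸ 𝔫))
    (F F' : Submodule R H)
    (hF : (∃ C : Submodule R H, IsCompl (F) C) ∧
      (F) ⊓ LinearMap.range f = Submodule.map f F₁ ∧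
      Submodule.baseChange (R ⧸ 𝔫) (F) = Fb ∧ Submodule.map g (F) = F₂)
    (hF' : (∃ C : Submodule R H, IsCompl (F') C) ∧
      (F') ⊓ LinearMap.range f = Submodule.map f F₁ ∧
      Submodule.baseChange (R ⧸ 𝔫) (F') = Fb ∧ Submodule.map g (F') = F₂) :
    (∀ u : H₂ →ₗ[R] H₁, (∀ y : H₂, u y ∈ 𝔫 • (⊤ : Submodule R H₁)) →
      (∃ C : Submodule R H, IsCompl (Submodule.map (LinearMap.id + f ∘ₗ u ∘ₗ g) F) C) ∧
      (Submodule.map (LinearMap.id + f ∘ₗ u ∘ₗ g) F) ⊓ LinearMap.range f = Submodule.map f F₁ ∧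
      Submodule.baseChange (R ⧸ 𝔫) (Submodule.map (LinearMap.id + f ∘ₗ u ∘ₗ g) F) = Fb ∧ Submodule.map g (Submodule.map (LinearMap.id + f ∘ₗ u ∘ₗ g) F) = F₂) ∧
    (∀ u : H₂ →ₗ[R] H₁, (∀ y : H₂, u y ∈ 𝔫 • (⊤ : Submodule R H₁)) →
      (Submodule.map (LinearMap.id + f ∘ₗ u ∘ₗ g) F = F ↔ ∀ y ∈ F₂, u y ∈ 𝔫 • F₁)) ∧
    (∃ u : H₂ →ₗ[R] H₁, (∀ y : H₂, u y ∈ 𝔫 • (⊤ : Submodule R H₁)) ∧
      F' = Submodule.map (LinearMap.id + f ∘ₗ u ∘ₗ g) F) := by
  classical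
  obtain ⟨⟨C0, hC0⟩, hFr, hFb, hFg⟩ := hF
  obtain ⟨-, hFr', hFb', hFg'⟩ := hF'
  have hgf : ∀ h, g (f h) = 0 := hfg.apply_apply_eq_zero
  have hfF : Submodule.map f F₁ ≤ F := hFr.symm.le.trans inf_le_left
  have hfF' : Submodule.map f F₁ ≤ F' := hFr'.symm.le.trans inf_le_left
  -- complements
  obtain ⟨C, hC⟩ : ∃ C : Submodule R H₁, IsCompl F₁ C := by
    haveI : Module.Projective R (H₁ ⧸ F₁) := inferInstance
    obtain ⟨s, hs⟩ := Module.projective_lifting_property F₁.mkQ LinearMap.id F₁.mkQ_surjective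
    refine ⟨LinearMap.range s, ?_⟩
    have := LinearMap.isCompl_of_proj (f := (LinearMap.id - s ∘ₗ F₁.mkQ).codRestrict F₁ (fun x => by
      refine (Submodule.Quotient.mk_eq_zero F₁).mp ?_
      show F₁.mkQ _ = 0
      have h := LinearMap.congr_fun hs (F₁.mkQ x)
      simp only [LinearMap.comp_apply, LinearMap.id_apply] at h
      rw [LinearMap.sub_apply, LinearMap.id_apply, map_sub, LinearMap.comp_apply, h, sub_self])) (fun x => Subtype.ext (by simp [(Submodule.Quotient.mk_eq_zero F₁).mpr x.2]))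
    convert this using 1
    ext x
    simp only [LinearMap.mem_range, LinearMap.mem_ker, LinearMap.codRestrict_apply, Subtype.ext_iff, ZeroMemClass.coe_zero,
      LinearMap.sub_apply, LinearMap.id_apply, LinearMap.comp_apply, sub_eq_zero]
    refine ⟨fun ⟨y, hy⟩ => ?_, fun hx => ⟨_, hx.symm⟩⟩
    have h := LinearMap.congr_fun hs y
    simp only [LinearMap.comp_apply, LinearMap.id_apply] at h
    rw [← hy, h]
  obtain ⟨C2, hC2⟩ : ∃ C2 : Submodule R H₂, IsCompl F₂ C2 := by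
    haveI : Module.Projective R (H₂ ⧸ F₂) := inferInstance
    obtain ⟨s, hs⟩ := Module.projective_lifting_property F₂.mkQ LinearMap.id F₂.mkQ_surjective
    refine ⟨LinearMap.range s, ?_⟩
    have := LinearMap.isCompl_of_proj (f := (LinearMap.id - s ∘ₗ F₂.mkQ).codRestrict F₂ (fun x => by
      refine (Submodule.Quotient.mk_eq_zero F₂).mp ?_
      show F₂.mkQ _ = 0
      have h := LinearMap.congr_fun hs (F₂.mkQ x)
      simp only [LinearMap.comp_apply, LinearMap.id_apply] at h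
      rw [LinearMap.sub_apply, LinearMap.id_apply, map_sub, LinearMap.comp_apply, h, sub_self])) (fun x => Subtype.ext (by simp [(Submodule.Quotient.mk_eq_zero F₂).mpr x.2]))
    convert this using 1
    ext x
    simp only [LinearMap.mem_range, LinearMap.mem_ker, LinearMap.codRestrict_apply, Subtype.ext_iff, ZeroMemClass.coe_zero,
      LinearMap.sub_apply, LinearMap.id_apply, LinearMap.comp_apply, sub_eq_zero]
    refine ⟨fun ⟨y, hy⟩ => ?_, fun hx => ⟨_, hx.symm⟩⟩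
    have h := LinearMap.congr_fun hs y
    simp only [LinearMap.comp_apply, LinearMap.id_apply] at h
    rw [← hy, h]
  let pF : H₁ →ₗ[R] F₁ := Submodule.projectionOnto F₁ C hC
  have hpF : ∀ x ∈ F₁, (pF x : H₁) = x := fun x hx => by rw [Submodule.projectionOnto_apply_left hC ⟨x, hx⟩]
  -- meet of `F₁` with `𝔫H₁`
  have hmeet : ∀ x ∈ F₁, x ∈ 𝔫 • (⊤ : Submodule R H₁) → x ∈ 𝔫 • F₁ := fun x hx hx' => by
    have := Submodule.mem_map_of_mem (f := F₁.subtype ∘ₗ pF) hx'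
    rw [Submodule.map_smul''] at this
    rw [show (F₁.subtype ∘ₗ pF) x = x from hpF x hx] at this
    exact (smul_mono_right 𝔫 (by rintro _ ⟨y, -, rfl⟩; exact (pF y).2) : 𝔫 • Submodule.map (F₁.subtype ∘ₗ pF) ⊤ ≤ 𝔫 • F₁) this
  let φ : (H₂ →ₗ[R] H₁) → (H →ₗ[R] H) := fun u => LinearMap.id + f ∘ₗ u ∘ₗ g
  have hφ : ∀ u x, φ u x = x + f (u (g x)) := fun u x => rfl
  have hgφ : ∀ u x, g (φ u x) = g x := fun u x => by rw [hφ, map_add, hgf, add_zero]
  have hφf : ∀ u h, φ u (f h) = f h := fun u h => by rw [hφ, hgf, map_zero, map_zero, add_zero]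
  have hinv : ∀ u, ∀ x, φ u (φ (-u) x) = x := fun u x => by
    simp only [hφ, LinearMap.neg_apply, map_neg, map_add, hgf, map_zero, add_zero, neg_zero]; abel
  have hinv' : ∀ u, ∀ x, φ (-u) (φ u x) = x := fun u x => by simpa using hinv (-u) x
  have hbc : ∀ u : H₂ →ₗ[R] H₁, (∀ y, u y ∈ 𝔫 • (⊤ : Submodule R H₁)) → ∀ x, (1 : R ⧸ 𝔫) ⊗ₜ[R] φ u x = (1 : R ⧸ 𝔫) ⊗ₜ[R] x := by
    intro u hu x
    rw [hφ, TensorProduct.tmul_add, add_eq_left]
    refine Submodule.smul_induction_on (p := fun h => (1 : R ⧸ 𝔫) ⊗ₜ[R] f h = 0) (hu (g x)) (fun a ha h _ => ?_) (fun a b ha hb => ?_)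
    · rw [map_smul, ← TensorProduct.smul_tmul, Algebra.smul_def, mul_one, Ideal.Quotient.algebraMap_eq,
        Ideal.Quotient.eq_zero_iff_mem.mpr ha, TensorProduct.zero_tmul]
    · rw [map_add, TensorProduct.tmul_add, ha, hb, add_zero]
  refine ⟨fun u hu => ⟨?_, ?_, ?_, ?_⟩, fun u hu => ⟨fun heq y hy => ?_, fun hy => ?_⟩, ?_⟩
  · let e : H ≃ₗ[R] H := LinearEquiv.ofLinear (φ u) (φ (-u)) (LinearMap.ext (hinv u)) (LinearMap.ext (hinv' u))
    refine ⟨Submodule.map (e : H →ₗ[R] H) C0, ?_⟩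
    exact hC0.map (Submodule.orderIsoMapComap e)
  · refine le_antisymm ?_ (le_inf ?_ (fun _ ⟨h, _, he⟩ => ⟨h, he⟩))
    · rintro _ ⟨⟨x, hx, rfl⟩, h, hh⟩
      have hxr : x ∈ LinearMap.range f := ⟨h - u (g x), by rw [map_sub, hh]; exact add_sub_cancel_right x _⟩
      obtain ⟨a, ha, rfl⟩ : x ∈ Submodule.map f F₁ := hFr ▸ (⟨hx, hxr⟩ : x ∈ F ⊓ LinearMap.range f)
      show φ u (f a) ∈ _
      rw [hφf]; exact ⟨a, ha, rfl⟩
    · rintro _ ⟨a, ha, rfl⟩
      exact ⟨f a, hfF ⟨a, ha, rfl⟩, hφf u a⟩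
  · rw [← hFb, Submodule.baseChange_eq_span, Submodule.baseChange_eq_span]
    congr 1
    ext z
    constructor
    · rintro ⟨_, ⟨x, hx, rfl⟩, rfl⟩; exact ⟨x, hx, (hbc u hu x).symm⟩
    · rintro ⟨x, hx, rfl⟩; exact ⟨_, ⟨x, hx, rfl⟩, hbc u hu x⟩
  · rw [← hFg]
    ext y
    constructor
    · rintro ⟨_, ⟨x, hx, rfl⟩, rfl⟩; exact ⟨x, hx, (hgφ u x).symm⟩
    · rintro ⟨x, hx, rfl⟩; exact ⟨_, ⟨x, hx, rfl⟩, hgφ u x⟩
  · obtain ⟨x, hx, rfl⟩ : y ∈ Submodule.map g F := hFg ▸ hy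
    have h1 : φ u x ∈ F := heq.le ⟨x, hx, rfl⟩
    obtain ⟨a, ha, hae⟩ : f (u (g x)) ∈ Submodule.map f F₁ := hFr ▸ (⟨by simpa [hφ] using F.sub_mem h1 hx, ⟨_, rfl⟩⟩ : f (u (g x)) ∈ F ⊓ LinearMap.range f)
    exact hmeet _ (hf hae ▸ ha) (hu _)
  · refine le_antisymm ?_ fun x hx => ?_
    · rintro _ ⟨x, hx, rfl⟩
      exact F.add_mem hx (hfF ⟨_, Submodule.smul_le_right (hy _ (hFg ▸ ⟨x, hx, rfl⟩)), rfl⟩)
    · refine ⟨φ (-u) x, ?_, hinv u x⟩
      rw [hφ, LinearMap.neg_apply, map_neg]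
      exact F.add_mem hx (F.neg_mem (hfF ⟨_, Submodule.smul_le_right (hy _ (hFg ▸ ⟨x, hx, rfl⟩)), rfl⟩))
  -- the torsor is transitive
  let p2 : H₂ →ₗ[R] F₂ := Submodule.projectionOnto F₂ C2 hC2
  haveI : Module.Projective R F₂ := Module.Projective.of_split F₂.subtype p2
    (LinearMap.ext fun x => Submodule.projectionOnto_apply_left hC2 x)
  let gF : F →ₗ[R] F₂ := (g ∘ₗ F.subtype).codRestrict F₂ fun x => hFg ▸ ⟨x, x.2, rfl⟩
  let gF' : F' →ₗ[R] F₂ := (g ∘ₗ F'.subtype).codRestrict F₂ fun x => hFg' ▸ ⟨x, x.2, rfl⟩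
  have hgFs : Function.Surjective gF := fun y => by
    obtain ⟨x, hx, hxy⟩ : (y : H₂) ∈ Submodule.map g F := hFg.symm ▸ y.2
    exact ⟨⟨x, hx⟩, Subtype.ext hxy⟩
  have hgFs' : Function.Surjective gF' := fun y => by
    obtain ⟨x, hx, hxy⟩ : (y : H₂) ∈ Submodule.map g F' := hFg'.symm ▸ y.2
    exact ⟨⟨x, hx⟩, Subtype.ext hxy⟩
  obtain ⟨σ, hσ⟩ := Module.projective_lifting_property gF LinearMap.id hgFs
  obtain ⟨σ', hσ'⟩ := Module.projective_lifting_property gF' LinearMap.id hgFs'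
  have hσg : ∀ y, g (σ y : H) = y := fun y => congrArg Subtype.val (LinearMap.congr_fun hσ y)
  have hσg' : ∀ y, g (σ' y : H) = y := fun y => congrArg Subtype.val (LinearMap.congr_fun hσ' y)
  let fe := LinearEquiv.ofInjective f hf
  let d : F₂ →ₗ[R] LinearMap.range f := (F'.subtype ∘ₗ σ' - F.subtype ∘ₗ σ).codRestrict (LinearMap.range f) fun y =>
    (hfg _).mp (by simp [hσg, hσg'])
  let h : F₂ →ₗ[R] H₁ := fe.symm.toLinearMap ∘ₗ d
  have hh : ∀ y, f (h y) = (σ' y : H) - (σ y : H) := fun y => by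
    rw [← LinearEquiv.ofInjective_apply (h := hf) f (h y)]
    exact congrArg Subtype.val (fe.apply_symm_apply (d y))
  -- `h` takes values in `F₁ + 𝔫H₁`
  have hval : ∀ y, h y ∈ F₁ ⊔ 𝔫 • (⊤ : Submodule R H₁) := by
    intro y
    have hz : (1 : R ⧸ 𝔫) ⊗ₜ[R] f (h y) ∈ Fb ⊓ LinearMap.range (f.baseChange (R ⧸ 𝔫)) := by
      refine ⟨?_, ⟨_, LinearMap.baseChange_tmul _ _ _⟩⟩
      rw [hh, TensorProduct.tmul_sub]
      exact Fb.sub_mem (hFb' ▸ Submodule.tmul_mem_baseChange_of_mem _ (σ' y).2) (hFb ▸ Submodule.tmul_mem_baseChange_of_mem _ (σ y).2)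
    rw [h1] at hz
    obtain ⟨w, hw, hwe⟩ := hz
    rw [← LinearMap.baseChange_tmul] at hwe
    haveI : Module.Projective R H₂ := inferInstance
    obtain ⟨sg, hsg⟩ := Module.projective_lifting_property g LinearMap.id hg
    let r : H →ₗ[R] H₁ := fe.symm.toLinearMap ∘ₗ (LinearMap.id - sg ∘ₗ g).codRestrict (LinearMap.range f) (fun x =>
      (hfg _).mp (by simp [show ∀ z, g (sg z) = z from LinearMap.congr_fun hsg]))
    have hr : ∀ z, r (f z) = z := fun z => fe.injective (Subtype.ext (by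
      simp only [r, LinearMap.comp_apply, LinearEquiv.coe_coe, LinearEquiv.apply_symm_apply, LinearMap.codRestrict_apply]
      show f z - sg (g (f z)) = f z
      rw [hgf, map_zero, sub_zero]))
    have hwe' := congrArg (r.baseChange (R ⧸ 𝔫)) hwe
    have hrf : ∀ z, r.baseChange (R ⧸ 𝔫) (f.baseChange (R ⧸ 𝔫) z) = z := fun z => by
      rw [← LinearMap.comp_apply, ← LinearMap.baseChange_comp, show r ∘ₗ f = LinearMap.id from LinearMap.ext hr, LinearMap.baseChange_id]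
      rfl
    rw [hrf, hrf] at hwe'
    subst hwe'
    -- push into `H₁ ⧸ (F₁ + 𝔫H₁)`
    let T := F₁ ⊔ 𝔫 • (⊤ : Submodule R H₁)
    let q : (R ⧸ 𝔫) ⊗[R] H₁ →ₗ[R] H₁ ⧸ T :=
      (Submodule.factor (show (𝔫 • ⊤ : Submodule R H₁) ≤ T from le_sup_right)) ∘ₗ (TensorProduct.quotTensorEquivQuotSMul H₁ 𝔫).toLinearMap
    have hq : ∀ x : H₁, q ((1 : R ⧸ 𝔫) ⊗ₜ[R] x) = T.mkQ x := fun x => by
      simp only [q, LinearMap.comp_apply, LinearEquiv.coe_coe]
      rw [show (1 : R ⧸ 𝔫) = Ideal.Quotient.mk 𝔫 1 from rfl, TensorProduct.quotTensorEquivQuotSMul_mk_tmul, one_smul]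
      rfl
    rw [← Submodule.Quotient.mk_eq_zero, ← Submodule.mkQ_apply, ← hq]
    rw [Submodule.baseChange_eq_span] at hw
    generalize (1 : R ⧸ 𝔫) ⊗ₜ[R] h y = z at hw ⊢
    induction hw using Submodule.span_induction with
    | mem z hz =>
      obtain ⟨a, ha, rfl⟩ := hz
      show q ((1 : R ⧸ 𝔫) ⊗ₜ[R] a) = 0
      rw [hq]
      exact (Submodule.Quotient.mk_eq_zero T).mpr (Submodule.mem_sup_left ha)
    | zero => rw [map_zero]
    | add a b _ _ ha hb => rw [map_add, ha, hb, add_zero]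
    | smul c a _ ha =>
      obtain ⟨c, rfl⟩ := Ideal.Quotient.mk_surjective c
      rw [← Ideal.Quotient.algebraMap_eq, algebraMap_smul, map_smul, ha, smul_zero]
  let u : H₂ →ₗ[R] H₁ := (LinearMap.id - F₁.subtype ∘ₗ pF) ∘ₗ h ∘ₗ p2
  have hu : ∀ y, u y ∈ 𝔫 • (⊤ : Submodule R H₁) := fun y => by
    obtain ⟨a, ha, b, hb, hab⟩ := Submodule.mem_sup.mp (hval (p2 y))
    simp only [u, LinearMap.comp_apply, LinearMap.sub_apply, LinearMap.id_apply, ← hab, map_add, Submodule.subtype_apply, hpF a ha]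
    rw [sub_self, zero_add]
    refine Submodule.sub_mem _ hb ?_
    have := Submodule.mem_map_of_mem (f := F₁.subtype ∘ₗ pF) hb
    rw [Submodule.map_smul''] at this
    exact (smul_mono_right 𝔫 le_top : _ ≤ 𝔫 • (⊤ : Submodule R H₁)) this
  have hφσ : ∀ y : F₂, φ u (σ y) ∈ F' := fun y => by
    have : φ u (σ y) = (σ' y : H) - f (pF (h y) : H₁) := by
      rw [hφ, hσg]
      simp only [u, LinearMap.comp_apply, LinearMap.sub_apply, LinearMap.id_apply, Submodule.subtype_apply,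
        show p2 (y : H₂) = y from Submodule.projectionOnto_apply_left hC2 y, map_sub, hh]
      abel
    rw [this]
    exact F'.sub_mem (σ' y).2 (hfF' ⟨_, (pF (h y)).2, rfl⟩)
  refine ⟨u, hu, le_antisymm (fun x' hx' => ?_) ?_⟩
  · let y : F₂ := ⟨g x', hFg' ▸ ⟨x', hx', rfl⟩⟩
    obtain ⟨a, ha, hae⟩ : x' - φ u (σ y) ∈ Submodule.map f F₁ :=
      hFr' ▸ (⟨F'.sub_mem hx' (hφσ y), (hfg _).mp (by rw [map_sub, hgφ, hσg]; exact sub_self _)⟩ : x' - φ u (σ y) ∈ F' ⊓ LinearMap.range f)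
    refine ⟨(σ y : H) + f a, F.add_mem (σ y).2 (hfF ⟨a, ha, rfl⟩), ?_⟩
    show φ u _ = x'
    rw [map_add, hφf, hae, add_sub_cancel]
  · rintro _ ⟨x, hx, rfl⟩
    let y : F₂ := ⟨g x, hFg ▸ ⟨x, hx, rfl⟩⟩
    obtain ⟨a, ha, hae⟩ : x - (σ y : H) ∈ Submodule.map f F₁ :=
      hFr ▸ (⟨F.sub_mem hx (σ y).2, (hfg _).mp (by rw [map_sub, hσg]; exact sub_self _)⟩ : x - (σ y : H) ∈ F ⊓ LinearMap.range f)
    show φ u x ∈ F'
    rw [← sub_add_cancel x (σ y : H), map_add, ← hae, hφf]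
    exact F'.add_mem (hfF' ⟨a, ha, rfl⟩) (hφσ y)

end Groth.Agent.S16420
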