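import Groth.Statements.S16421
import Mathlib

set_option autoImplicit false
universe u
open FrobAlg

namespace Groth.Agent.S16421

/-- Let p be a prime and R a commutative ring of characteristic p with a p-basis (x_i), meaning that the
monomials ∏ x_i^(e i) with every exponent e i < p form a basis of R as a module over itself through
the Frobenius, i.e. the map sending a finitely supported family of coefficients c to ∑_e (c e)^p · ∏
x_i^(e i) is a bijection onto R. Then the canonical ring map from R to its perfect closure is
faithfully flat. -/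
theorem result (p : ℕ) [Fact p.Prime]
    (R : Type u) [CommRing R] [CharP R p] (ι : Type u) (x : ι → R)
    (hx : Function.Bijective
      (fun c : {e : ι →₀ ℕ // ∀ i, e i < p} →₀ R =>
        c.sum (fun e r => r ^ p * e.1.prod (fun i n => x i ^ n)))) :
    (PerfectClosure.of R p).FaithfullyFlat := by
  classical
  have hpp : p ≠ 0 := (Fact.out : p.Prime).ne_zero
  set B := fun c : {e : ι →₀ ℕ // ∀ i, e i < p} →₀ R =>
    c.sum (fun e r => r ^ p * e.1.prod (fun i n => x i ^ n))
  -- Frobenius is flat
  have key : ∀ {A S κ : Type u} [CommRing A] [CommRing S] (g : A →+* S) (L : (κ →₀ A) → S),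
      (∀ c d, L (c + d) = L c + L d) → (∀ a c, L (a • c) = g a * L c) → Function.Bijective L → g.Flat := by
    intro A S κ _ _ g L hadd hsmul hbij
    letI := g.toAlgebra
    show Module.Flat A S
    exact Module.Flat.of_linearEquiv
      (LinearEquiv.ofBijective ({ toFun := L, map_add' := hadd, map_smul' := hsmul } : (κ →₀ A) →ₗ[A] S) hbij).symm
  have key2 : ∀ {A S : Type u} [CommRing A] [CommRing S] (g : A →+* S), g.Flat → ∀ {l : ℕ} (f : Fin l → A)
      (z : Fin l → S), ∑ i, g (f i) * z i = 0 → ∃ (k : ℕ) (a : Fin l → Fin k → A) (w : Fin k → S),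
        (∀ i, z i = ∑ j, g (a i j) * w j) ∧ ∀ j, ∑ i, f i * a i j = 0 := by
    intro A S _ _ g hg l f z hz
    letI := g.toAlgebra
    haveI : Module.Flat A S := hg
    exact Module.Flat.isTrivialRelation_of_sum_smul_eq_zero (R := A) (M := S) (f := f) (x := z) hz
  have hflat : (frobenius R p).Flat := by
    refine key (frobenius R p) B (fun c d =>
      Finsupp.sum_add_index (fun e _ => by simp [zero_pow hpp]) fun e _ r s => by
        rw [add_pow_char, add_mul]) (fun a c => ?_) hx
    show (a • c).sum _ = a ^ p * c.sum _
    rw [Finsupp.sum_smul_index' (fun e => by simp [zero_pow hpp]), Finsupp.mul_sum]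
    refine Finsupp.sum_congr fun e _ => ?_
    rw [smul_eq_mul, mul_pow, mul_assoc]
  have hinj : Function.Injective (frobenius R p) := by
    intro a b hab
    have h0 : ∀ i, (0 : ι →₀ ℕ) i < p := fun i => Nat.pos_of_ne_zero hpp
    have h := hx.1 (a₁ := Finsupp.single ⟨0, h0⟩ a) (a₂ := Finsupp.single ⟨0, h0⟩ b)
      (by simpa [B, frobenius_def, zero_pow hpp] using hab)
    exact Finsupp.single_injective _ h
  have hiter : ∀ N, (iterateFrobenius R p N).Flat := by
    intro N
    induction N with
    | zero => rw [iterateFrobenius_zero]; exact RingHom.Flat.id R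
    | succ N ih =>
      rw [iterateFrobenius_add R p N 1, iterateFrobenius_one]
      exact RingHom.Flat.comp hflat ih
  have hofinj : Function.Injective (PerfectClosure.of R p) := by
    intro a b h
    rw [PerfectClosure.of_apply, PerfectClosure.of_apply, PerfectClosure.mk_eq_iff] at h
    obtain ⟨z, hz⟩ := h
    exact (hinj.iterate _) hz
  have hroot : ∀ N (y : R), PerfectClosure.mk R p (N, y) ^ p ^ N = PerfectClosure.of R p y := by
    intro N y
    rw [PerfectClosure.mk_pow, PerfectClosure.of_apply, PerfectClosure.mk_eq_iff]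
    exact ⟨0, by simp [iterate_frobenius]⟩
  have hpinj : ∀ N, Function.Injective fun q : PerfectClosure R p => q ^ p ^ N := by
    intro N
    exact (iterateFrobeniusEquiv (PerfectClosure R p) p N).injective
  rw [RingHom.FaithfullyFlat.iff_flat_and_comap_surjective]
  refine ⟨?_, ?_⟩
  · letI : Algebra R (PerfectClosure R p) := (PerfectClosure.of R p).toAlgebra
    show Module.Flat R (PerfectClosure R p)
    refine Module.Flat.of_forall_isTrivialRelation fun {l f q} hq => ?_
    choose y hy using fun i => PerfectClosure.mk_surjective R p (q i)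
    let N := Finset.univ.sup fun i => (y i).1
    let z : Fin l → R := fun i => (y i).2 ^ p ^ (N - (y i).1)
    have hqz : ∀ i, q i ^ p ^ N = PerfectClosure.of R p (z i) := by
      intro i
      have hN : N = (y i).1 + (N - (y i).1) :=
        (Nat.add_sub_cancel' (Finset.le_sup (f := fun i => (y i).1) (Finset.mem_univ i))).symm
      rw [← hy i, hN, pow_add, pow_mul, hroot, ← map_pow]
    have hrel : ∑ i, f i ^ p ^ N * z i = 0 := by
      apply hofinj
      rw [map_sum, map_zero]
      calc ∑ i, PerfectClosure.of R p (f i ^ p ^ N * z i) = ∑ i, (f i • q i) ^ p ^ N :=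
            Finset.sum_congr rfl fun i _ => by
              rw [Algebra.smul_def, mul_pow, hqz, map_mul, map_pow]
              rfl
        _ = (∑ i, f i • q i) ^ p ^ N := (sum_pow_char_pow p N _ _).symm
        _ = 0 := by rw [hq, zero_pow (pow_ne_zero _ hpp)]
    have htriv : ∃ (k : ℕ) (a : Fin l → Fin k → R) (w : Fin k → R),
        (∀ i, z i = ∑ j, a i j ^ p ^ N * w j) ∧ ∀ j, ∑ i, f i * a i j = 0 := by
      exact key2 (iterateFrobenius R p N) (hiter N) f z (by simpa [iterateFrobenius_def] using hrel)
    obtain ⟨k, a, w, hw, ha⟩ := htriv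
    refine ⟨k, a, fun j => PerfectClosure.mk R p (N, w j), fun i => hpinj N ?_, ha⟩
    show q i ^ p ^ N = (∑ j, a i j • PerfectClosure.mk R p (N, w j)) ^ p ^ N
    rw [sum_pow_char_pow p N, hqz, hw, map_sum]
    refine Finset.sum_congr rfl fun j _ => ?_
    rw [Algebra.smul_def, mul_pow, hroot, map_mul, map_pow]
    rfl
  · refine RingHom.IsIntegral.comap_surjective ?_ hofinj
    intro q
    obtain ⟨⟨N, y⟩, rfl⟩ := PerfectClosure.mk_surjective R p q
    letI : Algebra R (PerfectClosure R p) := (PerfectClosure.of R p).toAlgebra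
    show IsIntegral R _
    refine IsIntegral.of_pow (pow_pos (Nat.pos_of_ne_zero hpp) N) ?_
    rw [hroot]
    exact isIntegral_algebraMap

end Groth.Agent.S16421
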