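import Groth.Statements.S16422

set_option autoImplicit false
universe u
open GrMod

namespace Groth.Agent.S16422

/-- Let S be a commutative ring graded by ℤ with pieces 𝒜 n, and V a decreasing sequence of homogeneous
ideals for which S is graded-complete, i.e. for each degree n the map from 𝒜 n to the inverse limit
of the quotients 𝒜 n / (𝒜 n ∩ V m) is bijective (stated as: a degree-n element in every V m
vanishes, and every sequence in 𝒜 n whose consecutive differences lie in the V m has a limit in 𝒜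
n). Then every graded S-module M which is finitely generated and projective as an S-module is
graded-complete in the same sense for the submodules V m · M: for each n the map from ℳ n to the
inverse limit of ℳ n / (ℳ n ∩ V m · M) is bijective. -/
theorem result
    (S : Type u) [CommRing S] (𝒜 : ℤ → AddSubgroup S) [GradedRing 𝒜]
    (V : ℕ → HomogeneousIdeal 𝒜) (hV : ∀ m, (V (m + 1)).toIdeal ≤ (V m).toIdeal)
    (hsep : ∀ (n : ℤ) (s : S), s ∈ 𝒜 n → (∀ m, s ∈ (V m).toIdeal) → s = 0)
    (hcpl : ∀ (n : ℤ) (f : ℕ → S), (∀ m, f m ∈ 𝒜 n) →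
      (∀ m, f (m + 1) - f m ∈ (V m).toIdeal) → ∃ s ∈ 𝒜 n, ∀ m, s - f m ∈ (V m).toIdeal)
    (M : Type u) [AddCommGroup M] [Module S M] (ℳ : ℤ → AddSubgroup M)
    [DirectSum.Decomposition ℳ] [SetLike.GradedSMul 𝒜 ℳ]
    [Module.Finite S M] [Module.Projective S M] :
    (∀ (n : ℤ) (x : M), x ∈ ℳ n → (∀ m, x ∈ (V m).toIdeal • (⊤ : Submodule S M)) → x = 0) ∧
    (∀ (n : ℤ) (g : ℕ → M), (∀ m, g m ∈ ℳ n) →
      (∀ m, g (m + 1) - g m ∈ (V m).toIdeal • (⊤ : Submodule S M)) →
      ∃ x ∈ ℳ n, ∀ m, x - g m ∈ (V m).toIdeal • (⊤ : Submodule S M)) := by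
  classical
  obtain ⟨t, ht⟩ := Module.Finite.fg_top (R := S) (M := M)
  -- homogeneous generators
  let T : Finset (ℤ × M) := t.biUnion fun y =>
    (DirectSum.decompose ℳ y).support.image fun i => (i, (DirectSum.decompose ℳ y i : M))
  have hTdeg : ∀ c : T, (c.1.2 : M) ∈ ℳ c.1.1 := fun c => by
    obtain ⟨y, -, hc⟩ := Finset.mem_biUnion.1 c.2
    obtain ⟨i, -, hi⟩ := Finset.mem_image.1 hc
    rw [← hi]; exact SetLike.coe_mem _
  let π : (T → S) →ₗ[S] M := Fintype.linearCombination S (fun c : T => c.1.2)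
  have hπ : Function.Surjective π := by
    rw [← LinearMap.range_eq_top, Fintype.range_linearCombination, ← top_le_iff, ← ht, Submodule.span_le]
    intro y hy
    rw [SetLike.mem_coe, ← DirectSum.sum_support_decompose ℳ y]
    refine Submodule.sum_mem _ fun i hi => Submodule.subset_span ?_
    exact ⟨⟨(i, (DirectSum.decompose ℳ y i : M)),
      Finset.mem_biUnion.2 ⟨y, hy, Finset.mem_image.2 ⟨i, hi, rfl⟩⟩⟩, rfl⟩
  obtain ⟨σ, hσ⟩ := Module.projective_lifting_property π LinearMap.id hπ
  -- the component of a coordinate in the expected degree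
  let comp : ℤ → M → T → S := fun n x c => (DirectSum.decompose 𝒜 (σ x c) (n - c.1.1) : S)
  have hcomp_mem : ∀ n x c, comp n x c ∈ 𝒜 (n - c.1.1) := fun n x c => SetLike.coe_mem _
  have hsum_mem : ∀ n : ℤ, ∀ a : T → S, (∀ c, a c ∈ 𝒜 (n - c.1.1)) → ∑ c, a c • c.1.2 ∈ ℳ n := fun n a ha =>
    sum_mem fun c _ => by
      have h := SetLike.GradedSMul.smul_mem (A := 𝒜) (B := ℳ) (ha c) (hTdeg c)
      simpa using h
  have hkey : ∀ (n : ℤ) (x : M), x ∈ ℳ n → x = ∑ c, comp n x c • c.1.2 := by
    intro n x hx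
    have h1 : x = ∑ c : T, σ x c • c.1.2 := by
      conv_lhs => rw [← LinearMap.id_apply (R := S) x, ← hσ]
      rfl
    have h2 : (DirectSum.decompose ℳ (∑ c : T, σ x c • c.1.2) n : M) = ∑ c : T, comp n x c • c.1.2 := by
      rw [DirectSum.decompose_sum, DFinsupp.finsetSum_apply, AddSubmonoidClass.coe_finsetSum]
      refine Finset.sum_congr rfl fun c _ => ?_
      have h4 : σ x c • c.1.2 =
          ∑ i ∈ (DirectSum.decompose 𝒜 (σ x c)).support, (DirectSum.decompose 𝒜 (σ x c) i : S) • c.1.2 := by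
        rw [← Finset.sum_smul, DirectSum.sum_support_decompose]
      rw [h4, DirectSum.decompose_sum, DFinsupp.finsetSum_apply, AddSubmonoidClass.coe_finsetSum,
        Finset.sum_eq_single (n - c.1.1)]
      · exact DirectSum.decompose_of_mem_same ℳ (by
          simpa using SetLike.GradedSMul.smul_mem (A := 𝒜) (B := ℳ) (hcomp_mem n x c) (hTdeg c))
      · intro i _ hi
        refine DirectSum.decompose_of_mem_ne ℳ
          (SetLike.GradedSMul.smul_mem (A := 𝒜) (B := ℳ) (SetLike.coe_mem _) (hTdeg c)) fun h => hi ?_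
        rw [vadd_eq_add] at h
        omega
      · intro hn
        have h0 : (DirectSum.decompose 𝒜 (σ x c) (n - c.1.1) : S) = 0 := by
          rw [DFinsupp.notMem_support_iff.1 hn]; rfl
        rw [h0, zero_smul, DirectSum.decompose_zero]; rfl
    rw [← h1, DirectSum.decompose_of_mem_same ℳ hx] at h2
    exact h2
  have hcompV : ∀ (m : ℕ) (n : ℤ) (x : M), x ∈ (V m).toIdeal • (⊤ : Submodule S M) → ∀ c, comp n x c ∈ (V m).toIdeal := by
    intro m n x hx c
    refine (V m).is_homogeneous' _ ?_
    refine Submodule.smul_induction_on hx (fun r hr y _ => ?_) (fun y z hy hz => ?_)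
    · simp only [map_smul, Pi.smul_apply, smul_eq_mul]
      exact Ideal.mul_mem_right _ _ hr
    · simp only [map_add, Pi.add_apply]
      exact add_mem hy hz
  constructor
  · intro n x hx hV0
    rw [hkey n x hx]
    refine Finset.sum_eq_zero fun c _ => ?_
    rw [hsep _ _ (hcomp_mem n x c) fun m => hcompV m n x (hV0 m) c, zero_smul]
  · intro n g hg hd
    have hlim : ∀ c : T, ∃ s ∈ 𝒜 (n - c.1.1), ∀ m, s - comp n (g m) c ∈ (V m).toIdeal := fun c => by
      refine hcpl _ (fun m => comp n (g m) c) (fun m => hcomp_mem n _ c) fun m => ?_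
      have h := hcompV m n _ (hd m) c
      simp only [comp, map_sub, Pi.sub_apply, DirectSum.decompose_sub, DirectSum.sub_apply,
        AddSubgroupClass.coe_sub] at h
      exact h
    choose s hs hs' using hlim
    refine ⟨∑ c, s c • c.1.2, hsum_mem n s hs, fun m => ?_⟩
    rw [hkey n (g m) (hg m), ← Finset.sum_sub_distrib]
    refine Submodule.sum_mem _ fun c _ => ?_
    rw [← sub_smul]
    exact Submodule.smul_mem_smul (hs' c m) trivial

end Groth.Agent.S16422
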