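import Groth.Statements.S16424
import Groth.Agent.H8Props.FreeLocus.Fibrewise
import Groth.Agent.H19Grp.RegularSmooth
import Groth.Agent.H4Depth.Regular

set_option autoImplicit false
universe u
open CategoryTheory CategoryTheory.Limits AlgebraicGeometry TopologicalSpace
open RhoSh

namespace Groth.Agent.S16424

open IsLocalRing

theorem free_of_torsionFree {R : Type u} [CommRing R] [IsRegularLocalRing R]
    (hd : ringKrullDim R ≤ 1) (M : Type u) [AddCommGroup M] [Module R M] [Module.Finite R M]
    [Module.IsTorsionFree R M] : Module.Free R M := by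
  haveI := H4Depth.isDomain_of_isRegularLocalRing R
  haveI : Ring.KrullDimLE 1 R := Ring.krullDimLE_iff.mpr hd
  obtain ⟨d, ys, hdd, hys⟩ := H4Depth.exists_regular_system_of_parameters R
  have hd1 : d ≤ 1 := by rw [hdd] at hd; exact_mod_cast hd
  have hm : (maximalIdeal R).IsPrincipal := by
    rcases Nat.le_one_iff_eq_zero_or_eq_one.mp hd1 with rfl | rfl
    · exact ⟨0, by rw [← hys, Set.range_eq_empty]; simp⟩
    · exact ⟨ys 0, by rw [← hys, Set.range_unique, Subsingleton.elim (default : Fin 1) 0]⟩
  haveI : IsPrincipalIdealRing R := IsPrincipalIdealRing.of_prime fun P hP => by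
    by_cases hP0 : P = ⊥
    · subst hP0; exact bot_isPrincipal
    · have := hP.isMaximal_of_ne_bot hP0
      rwa [eq_maximalIdeal this]
  exact Module.free_of_finite_type_torsion_free'

/-- Let X be a smooth, proper, geometrically irreducible scheme over a field k admitting an ample
invertible sheaf, S a k-scheme, and F a finitely presented quasi-coherent module on X ×_k S which is
flat over S and whose pullback to every fibre (X ×_k S)_s is torsion-free. Then F is free of finite
rank on some open neighbourhood of every point x whose local ring in its fibre has Krull dimension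
at most 1. In particular F is locally free on a big open subset of X ×_k S. -/
theorem result
    (k : Type u) [Field k] (X S : Scheme.{u})
    (a : X ⟶ Spec (CommRingCat.of k)) (b : S ⟶ Spec (CommRingCat.of k))
    [Smooth a] [IsProper a] [GeometricallyIrreducible a]
    (hproj : ∃ H : X.Modules, CohB1.IsAmple H)
    (F : (pullback a b).Modules) (hfp : CohB1.IsFP F)
    (hfl : FlatMod.IsFlatOver (pullback.snd a b) F)
    (htf : ∀ s : ↥S, TorSh.IsTorsionFree
      ((Scheme.Modules.pullback ((pullback.snd a b).fiberι s)).obj F))
    (x : ↥(pullback a b))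
    (hx : ringKrullDim ↑(CInt.fiberStalk (pullback.snd a b) x) ≤ 1) :
    ∃ (V : (pullback a b).Opens) (n : ℕ), x ∈ V ∧
      Nonempty (F.restrict V.ι ≅ FlatMod.freeMod (↑V) n) := by
  let g := pullback.snd a b
  let z := g.asFiber x
  have hz : g.fiberι (g x) z = x := g.fiberι_asFiber x
  haveI : Smooth (g.fiberToSpecResidueField (g x)) := MorphismProperty.pullback_snd _ _ inferInstance
  haveI : IsRegularLocalRing ((g.fiber (g x)).presheaf.stalk z) :=
    H19Grp.isRegularLocalRing_stalk_of_smooth (k := S.residueField (g x))
      (g.fiberToSpecResidueField (g x)) z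
  let F' := (Scheme.Modules.pullback (g.fiberι (g x))).obj F
  have hF : Coh.IsQCoh F := H29Fitt.isQCoh_of_isFP F hfp
  have hF' : Coh.IsQCoh F' := H29Fitt.isQCoh_pullback _ F hF
  haveI := H8Props.FunDescent.finite_stalk_of_isFT F' hF'
    (H29Fitt.isFT_pullback _ F hF (H29Fitt.isFT_of_isFP F hfp)) z
  haveI : Module.IsTorsionFree ((g.fiber (g x)).presheaf.stalk z) (F'.presheaf.stalk z) := htf (g x) z
  haveI := free_of_torsionFree (R := (g.fiber (g x)).presheaf.stalk z) hx (F'.presheaf.stalk z)
  have h1 := H8Props.FreeLocus.stalkFree_of_fibre g F hfp z (hfl _)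
    (p := Module.finrank ((g.fiber (g x)).presheaf.stalk z) (F'.presheaf.stalk z))
    ⟨Module.finBasis _ _⟩
  rw [hz] at h1
  obtain ⟨V, hxV, e⟩ := H8Props.FunDescent.isFreeOfRankNear_of_stalkFree_of_isFP F hfp h1
  exact ⟨V, _, hxV, e⟩

end Groth.Agent.S16424
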