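import Groth.Statements.S16425
import Groth.Agent.H26Ext.Main

set_option autoImplicit false
universe u
open CategoryTheory CategoryTheory.Limits AlgebraicGeometry TopologicalSpace
open RhoSh

namespace Groth.Agent.S16425

/-- Let X be a smooth, proper, geometrically irreducible scheme over a field k with an ample invertible
sheaf L, let S be a k-scheme, p : Y ⟶ X ×_k S an affine morphism of finite presentation, D ⊂ X ×_k S
an effective Cartier divisor (given by its ideal sheaf I) which is flat over S, Q the open
complement of D, and s a section of p defined over Q. Then the functor sending an affine S-scheme T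
to the set of sections of the base change p_T over X ×_k T whose restriction to the preimage of Q is
the base change of s is represented by a closed subscheme Z of S: a morphism g : T ⟶ S from an
affine scheme factors through Z if and only if such a section exists over X ×_k T (such a section is
unique when it exists). -/
theorem result
    (k : Type u) [Field k] (X S Y : Scheme.{u})
    (a : X ⟶ Spec (CommRingCat.of k)) (b : S ⟶ Spec (CommRingCat.of k))
    [Smooth a] [IsProper a] [GeometricallyIrreducible a]
    (L : X.Modules) (hL : CohB1.IsAmple L)
    (p : Y ⟶ pullback a b) [IsAffineHom p] [LocallyOfFinitePresentation p]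
    (I : (pullback a b).IdealSheafData) (hI : FGA.IsEffCartier I)
    [Flat (I.subschemeι ≫ pullback.snd a b)]
    (Q : (pullback a b).Opens) (hQ : Q = I.support.compl)
    (s : (Q : Scheme.{u}) ⟶ Y) (hs : s ≫ p = Q.ι) :
    ∃ (Z : Scheme.{u}) (i : Z ⟶ S), IsClosedImmersion i ∧
      ∀ (T : Scheme.{u}) (g : T ⟶ S), IsAffine T →
        ((∃ h : T ⟶ Z, h ≫ i = g) ↔
          ∃ f : pullback (pullback.snd a b) g ⟶ Y,
            f ≫ p = pullback.fst (pullback.snd a b) g ∧
            ((pullback.fst (pullback.snd a b) g) ⁻¹ᵁ Q).ι ≫ f =
              ((pullback.fst (pullback.snd a b) g) ∣_ Q) ≫ s) := by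
    obtain ⟨K, hK⟩ := H26Ext.exists_locus (pullback.snd a b) (s := s) hs hI hQ
    refine ⟨K.subscheme, K.subschemeι, inferInstance, fun T g _ => (hK T g).trans ?_⟩
    exact exists_congr fun f => H26Ext.sol_iff _ f

end Groth.Agent.S16425
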