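import Groth.Statements.S16426
import Groth.Agent.H26Van.Main

set_option autoImplicit false
universe u
open CategoryTheory CategoryTheory.Limits AlgebraicGeometry TopologicalSpace
open RhoSh

namespace Groth.Agent.S16426

/-- Let q : Y ⟶ S be proper and of finite presentation, G a quasi-coherent O_Y-module, F a finitely
presented quasi-coherent O_Y-module which is flat over S, and σ : G ⟶ F a morphism of O_Y-modules.
Then the subfunctor of S consisting of the morphisms g : T ⟶ S such that the pullback of σ along the
projection Y ×_S T ⟶ Y vanishes is represented by a closed subscheme Z of S. -/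
theorem result
    (Y S : Scheme.{u}) (q : Y ⟶ S) [IsProper q] [LocallyOfFinitePresentation q]
    (G F : Y.Modules) (hG : Coh.IsQCoh G) (hF : CohB1.IsFP F)
    (hFfl : FlatMod.IsFlatOver q F) (σ : G ⟶ F) :
    ∃ (Z : Scheme.{u}) (i : Z ⟶ S), IsClosedImmersion i ∧
      ∀ (T : Scheme.{u}) (g : T ⟶ S),
        ((∃ h : T ⟶ Z, h ≫ i = g) ↔
          (Scheme.Modules.pullback (pullback.fst q g)).map σ = 0) := by
    obtain ⟨I, hI⟩ := Groth.Agent.H26Van.exists_vanishing_locus q σ hG hF hFfl
    exact ⟨I.subscheme, I.subschemeι, inferInstance, fun T g => hI T g⟩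

end Groth.Agent.S16426
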