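import Groth.Statements.S16427
import Groth.Agent.H26Base.HartogsBig
import Groth.Agent.S14272

set_option autoImplicit false
universe u
open CategoryTheory CategoryTheory.Limits AlgebraicGeometry TopologicalSpace
open RhoSh

namespace Groth.Agent.S16427

theorem exists_section {X : Scheme.{u}} (U : X.Opens) (hZ : H26Base.HartogsBig.HasPairsNhd U)
    (Y : Scheme.{u}) (p : Y ⟶ X) [IsAffineHom p]
    (t : (U : Scheme.{u}) ⟶ Y) (ht : t ≫ p = U.ι) :
    ∃! s : X ⟶ Y, s ≫ p = 𝟙 X ∧ U.ι ≫ s = t := by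
  have hbij : ∀ (V : X.affineOpens), Function.Bijective
      (X.homOfLE (inf_le_right : U ⊓ V.1 ≤ V.1)).appTop.hom := fun V =>
    S14272.homOfLE_appTop_bijective _ (H26Base.HartogsBig.bijective_restrict hZ V.2)
  -- morphisms out of an affine open into an affine scheme are determined on `U ⊓ V`
  have hpre : ∀ (V : X.affineOpens) {A : Scheme.{u}} [IsAffine A]
      (g : ((U ⊓ V.1 : X.Opens) : Scheme.{u}) ⟶ A),
      ∃! h : (V.1 : Scheme.{u}) ⟶ A, X.homOfLE (inf_le_right : U ⊓ V.1 ≤ V.1) ≫ h = g :=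
    fun V {A} _ g => haveI : IsAffine V.1 := V.2; S14272.precomp_bijective _ (hbij V) g
  let IsSol (V : X.affineOpens) (s : (V.1 : Scheme.{u}) ⟶ Y) : Prop :=
    s ≫ p = V.1.ι ∧ X.homOfLE (inf_le_right : U ⊓ V.1 ≤ V.1) ≫ s =
      X.homOfLE (inf_le_left : U ⊓ V.1 ≤ U) ≫ t
  have hsol : ∀ V : X.affineOpens, ∃! s, IsSol V s := by
    intro V
    have : IsAffine (p ⁻¹ᵁ V.1) := V.2.preimage p
    have hrange : Set.range (X.homOfLE (inf_le_left : U ⊓ V.1 ≤ U) ≫ t) ⊆
        Set.range (p ⁻¹ᵁ V.1).ι := by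
      rintro _ ⟨z, rfl⟩
      rw [Scheme.Opens.range_ι]
      show p (t _) ∈ V.1
      rw [← Scheme.Hom.comp_apply t p, ht]
      have hz : U.ι (X.homOfLE (inf_le_left : U ⊓ V.1 ≤ U) z) = z.1 := Scheme.homOfLE_apply _ _
      exact hz ▸ z.2.2
    obtain ⟨h, hh, huniq⟩ := hpre V (IsOpenImmersion.lift (p ⁻¹ᵁ V.1).ι _ hrange)
    have hf : h ≫ (p ∣_ V.1) = 𝟙 _ := by
      haveI : IsAffine V.1 := V.2
      refine (hpre V _).unique (y₁ := h ≫ (p ∣_ V.1)) (y₂ := 𝟙 _) rfl ?_
      rw [Category.comp_id, reassoc_of% hh, ← cancel_mono V.1.ι, Category.assoc, morphismRestrict_ι,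
        IsOpenImmersion.lift_fac_assoc, Category.assoc, ht, Scheme.homOfLE_ι, Scheme.homOfLE_ι]
    refine ⟨h ≫ (p ⁻¹ᵁ V.1).ι, ⟨?_, ?_⟩, ?_⟩
    · rw [Category.assoc, ← morphismRestrict_ι, reassoc_of% hf]
    · rw [reassoc_of% hh, IsOpenImmersion.lift_fac]
    · rintro s ⟨hs1, hs2⟩
      have hsr : Set.range s ⊆ Set.range (p ⁻¹ᵁ V.1).ι := by
        rintro _ ⟨z, rfl⟩
        rw [Scheme.Opens.range_ι]
        show p (s z) ∈ V.1
        rw [← Scheme.Hom.comp_apply s p, hs1]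
        exact z.2
      have := huniq (IsOpenImmersion.lift (p ⁻¹ᵁ V.1).ι s hsr) (show _ = _ by
        rw [← cancel_mono (p ⁻¹ᵁ V.1).ι, Category.assoc, IsOpenImmersion.lift_fac,
          IsOpenImmersion.lift_fac, hs2])
      rw [← this, IsOpenImmersion.lift_fac]
  choose σ hσ hσu using hsol
  have hcompat : ∀ {V V' : X.affineOpens} (e : V ≤ V'), X.homOfLE e ≫ σ V' = σ V := by
    intro V V' e
    refine hσu V _ ⟨?_, ?_⟩
    · rw [Category.assoc, (hσ V').1, Scheme.homOfLE_ι]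
    · rw [Scheme.homOfLE_homOfLE_assoc, ← Scheme.homOfLE_homOfLE_assoc X
        (inf_le_inf_left U e) inf_le_right, (hσ V').2, Scheme.homOfLE_homOfLE_assoc]
  let s : X ⟶ Y := X.directedAffineCover.glueMorphismsOfLocallyDirected (fun V => σ V)
    fun hij => hcompat (leOfHom hij)
  have hs : ∀ V : X.affineOpens, V.1.ι ≫ s = σ V := fun V =>
    X.directedAffineCover.map_glueMorphismsOfLocallyDirected (fun V => σ V) _ V
  refine ⟨s, ⟨?_, ?_⟩, fun s' hs' => ?_⟩
  · refine X.directedAffineCover.hom_ext _ _ fun V => ?_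
    show V.1.ι ≫ s ≫ p = V.1.ι ≫ 𝟙 X
    rw [reassoc_of% (hs V), (hσ V).1, Category.comp_id]
  · refine Scheme.Cover.hom_ext (X.directedAffineCover.pullback₁ U.ι) _ _ fun V => ?_
    show pullback.fst U.ι (V : X.affineOpens).1.ι ≫ U.ι ≫ s = pullback.fst U.ι V.1.ι ≫ t
    rw [pullback.condition_assoc, hs V]
    have hr : Set.range (pullback.fst U.ι V.1.ι ≫ U.ι) ⊆ Set.range (U ⊓ V.1).ι := by
      rintro _ ⟨z, rfl⟩
      rw [Scheme.Opens.range_ι]
      refine ⟨?_, ?_⟩
      · rw [Scheme.Hom.comp_apply]; exact (pullback.fst U.ι V.1.ι z).2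
      · rw [pullback.condition, Scheme.Hom.comp_apply]; exact (pullback.snd U.ι V.1.ι z).2
    obtain ⟨k, hk⟩ : ∃ k, k ≫ (U ⊓ V.1).ι = pullback.fst U.ι V.1.ι ≫ U.ι :=
      ⟨IsOpenImmersion.lift _ _ hr, IsOpenImmersion.lift_fac _ _ _⟩
    have k1 : k ≫ X.homOfLE inf_le_left = pullback.fst U.ι V.1.ι := by
      rw [← cancel_mono U.ι, Category.assoc, Scheme.homOfLE_ι, hk]
    have k2 : k ≫ X.homOfLE inf_le_right = pullback.snd U.ι V.1.ι := by
      rw [← cancel_mono V.1.ι, Category.assoc, Scheme.homOfLE_ι, hk, pullback.condition]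
    rw [← k1, ← k2, Category.assoc, Category.assoc, (hσ V).2]
  · refine X.directedAffineCover.hom_ext _ _ fun V => ?_
    show V.1.ι ≫ s' = V.1.ι ≫ s
    rw [hs V]
    refine hσu V _ ⟨by rw [Category.assoc, hs'.1, Category.comp_id], ?_⟩
    rw [Scheme.homOfLE_ι_assoc, ← hs'.2, Scheme.homOfLE_ι_assoc]

/-- Let X be a smooth, proper, geometrically irreducible scheme over a field k admitting an ample
invertible sheaf, S a k-scheme, and U a big open subset of X ×_k S, i.e. at every point outside U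
the local ring of the fibre over S has Krull dimension at least 2. Let p : Y ⟶ X ×_k S be affine and
of finite type. Then any section s of p over U is the restriction of exactly one section of p over
the whole of X ×_k S. -/
theorem result
    (k : Type u) [Field k] (X S Y : Scheme.{u})
    (a : X ⟶ Spec (CommRingCat.of k)) (b : S ⟶ Spec (CommRingCat.of k))
    [Smooth a] [IsProper a] [GeometricallyIrreducible a]
    (hproj : ∃ H : X.Modules, CohB1.IsAmple H)
    (U : (pullback a b).Opens)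
    (hU : ∀ x : ↥(pullback a b), x ∉ U →
      (2 : WithBot ℕ∞) ≤ ringKrullDim ↑(CInt.fiberStalk (pullback.snd a b) x))
    (p : Y ⟶ pullback a b) [IsAffineHom p] [LocallyOfFiniteType p]
    (s : (U : Scheme.{u}) ⟶ Y) (hs : s ≫ p = U.ι) :
    ∃! t : pullback a b ⟶ Y, t ≫ p = 𝟙 (pullback a b) ∧ U.ι ≫ t = s := by
  exact exists_section U (fun z hz => H26Base.FibreReg.exists_nhd_pair_of_smooth (pullback.snd a b) z (hU z hz)) Y p s hs

end Groth.Agent.S16427
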