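import Groth.Statements.S1643
import Mathlib
import Groth.Agent.H22Alg.MumfordHilb

set_option autoImplicit false
universe u
open CategoryTheory CategoryTheory.Limits AlgebraicGeometry
open Variety

namespace Groth.Agent.S1643

/-- Fix n ≥ 0, r ≥ 1 and a rational polynomial P. There is an integer m, depending only on n, r and P,
such that for every field k and every epimorphism from the free module of rank r on P^n_k onto a
coherent module F whose Euler characteristics χ(F(t)) are given by P for all integers t, the kernel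
is m-regular. -/
theorem result (n r : ℕ) (hr : 1 ≤ r) (P : Polynomial ℚ) :
    ∃ m : ℤ, ∀ (k : Type u) [Field k] (F : (CohB1.ProjSpace n k).Modules) (φ : FlatMod.freeMod (CohB1.ProjSpace n k) r ⟶ F), Coh.IsCoh F → Epi φ →
      (∀ t : ℤ, (Curv2.euler k (CohB1.ProjSpace n k) (CohB1.tensorMod F (Twist.twistProjSpace n k t)) : ℚ) = P.eval (t : ℚ)) →
      Curv2.IsMRegular k n (kernel φ) m := by
  rcases Nat.eq_zero_or_pos n with rfl | hn
  · exact ⟨0, fun k _ F φ _ _ _ i hi hin => by omega⟩
  obtain ⟨Pol, hPol⟩ := Groth.Agent.H22Alg.MumfordField.exists_bound.{u} r n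
  let g : ℤ → ℤ := fun t => (r : ℤ) * Ring.choose (t + n) n - ⌊P.eval (t : ℚ)⌋
  refine ⟨MvPolynomial.eval (fun j : Fin (n + 1) => Groth.Agent.H22Alg.MumfordHilb.newton g j) Pol,
    fun k _ F φ hF hφ hP => ?_⟩
  haveI := hφ
  haveI := Groth.Agent.H22Alg.CMHyper.noetherian k n
  haveI := Groth.Agent.H22Alg.MumfordBound.proper_toSpec (k := k) (n := n)
  have hfam := (Groth.Agent.H22Alg.CMField.setup k n).fam
  have hfree : Coh.IsCoh (FlatMod.freeMod (CohB1.ProjSpace n k) r) :=
    Groth.Agent.H10Coh.isCoh_sigma _ fun _ => Groth.Agent.H10Coh.isCoh_structureModule' _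
  have hK : Coh.IsCoh (kernel φ) := Groth.Agent.H10Coh.isCoh_kernel φ hfree hF.1
  have hS : (ShortComplex.mk (kernel.ι φ) φ (kernel.condition φ)).ShortExact :=
    { exact := ShortComplex.exact_kernel _ }
  have hg : (fun t : ℤ => Curv2.euler k (CohB1.ProjSpace n k)
      (CohB1.tensorMod (kernel φ) (Twist.twistProjSpace n k t))) = g := by
    funext t
    have h := Groth.Agent.H25Euler.euler_add (k := k)
      (Groth.Agent.H10Coh.Tw.shortExact_seq hS (hfam.inv t))
      (Groth.Agent.H11Ample.isCoh_tensor hK (hfam.inv t)) (Groth.Agent.H11Ample.isCoh_tensor hfree (hfam.inv t))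
      (Groth.Agent.H11Ample.isCoh_tensor hF (hfam.inv t))
    have h1 := hP t
    have h2 := Groth.Agent.H22Alg.MumfordHilb.euler_free_twist (k := k) r hn t
    show _ = (r : ℤ) * Ring.choose (t + n) n - ⌊P.eval (t : ℚ)⌋
    rw [← h1, Int.floor_intCast, ← h2]
    exact eq_sub_of_add_eq h.symm
  have h := hPol k (kernel φ) hK ⟨kernel.ι φ, inferInstance⟩
    (fun j : Fin (n + 1) => Groth.Agent.H22Alg.MumfordHilb.newton g j) fun t => by
      have e := Groth.Agent.H22Alg.MumfordHilb.euler_eq_newton hK t
      rw [hg] at e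
      exact e
  exact (Groth.Agent.H22Alg.CMField.reg_iff hK _).1 h

end Groth.Agent.S1643
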