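import Groth.Statements.S16431
import Groth.Agent.H9SInter.Branches
-- import your own Groth.Agent.* helpers here

set_option autoImplicit false
universe u
open Hensel

namespace Groth.Agent.S16431

/-- Purely inseparable residue fields transfer along isomorphisms. -/
theorem pi_transfer {A N N' : Type u} [CommRing A] [CommRing N] [CommRing N'] [Algebra A N] [Algebra A N']
    (e : N ≃ₐ[A] N')
    (h : ∀ (M : Ideal N) [M.IsMaximal], ∀ x : N ⧸ M, ∃ n : ℕ,
      x ^ (ringExpChar (N ⧸ M)) ^ n ∈ ((Ideal.Quotient.mk M).comp (algebraMap A N)).range)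
    (M' : Ideal N') [M'.IsMaximal] (x : N' ⧸ M') : ∃ n : ℕ,
      x ^ (ringExpChar (N' ⧸ M')) ^ n ∈ ((Ideal.Quotient.mk M').comp (algebraMap A N')).range := by
  haveI : (M'.comap e.toRingEquiv.toRingHom).IsMaximal :=
    Ideal.comap_isMaximal_of_surjective _ e.toRingEquiv.surjective
  let E : (N ⧸ M'.comap e.toRingEquiv.toRingHom) ≃+* N' ⧸ M' :=
    Ideal.quotientEquiv _ _ e.toRingEquiv (Ideal.map_comap_of_surjective _ e.toRingEquiv.surjective M').symm
  obtain ⟨n, a, ha⟩ := h _ (E.symm x)
  letI := Ideal.Quotient.field (M'.comap e.toRingEquiv.toRingHom)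
  letI := Ideal.Quotient.field M'
  haveI := E.symm.toRingHom.expChar E.symm.injective (ringExpChar (N ⧸ M'.comap e.toRingEquiv.toRingHom))
  refine ⟨n, a, ?_⟩
  rw [ringExpChar.eq (N' ⧸ M') (ringExpChar (N ⧸ M'.comap e.toRingEquiv.toRingHom))]
  have h1 := congrArg E ha
  rw [map_pow, E.apply_symm_apply] at h1
  rw [← h1]
  show Ideal.Quotient.mk M' (algebraMap A N' a) = E (Ideal.Quotient.mk _ (algebraMap A N a))
  rw [Ideal.quotientEquiv_mk]
  exact congrArg (Ideal.Quotient.mk M') (e.commutes a).symm

/-- A family of nonempty types with no more elements than indices consists of singletons. -/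
theorem forall_subsingleton_iff {ι : Type u} (β : ι → Type u) [∀ i, Nonempty (β i)] [Finite (Σ i, β i)] :
    (∀ i, Subsingleton (β i)) ↔ ENat.card (Σ i, β i) = ENat.card ι := by
  have hsurj : Function.Surjective (Sigma.fst : (Σ i, β i) → ι) :=
    fun i => ⟨⟨i, Classical.arbitrary (β i)⟩, rfl⟩
  haveI : Finite ι := Finite.of_surjective _ hsurj
  rw [ENat.card_eq_coe_natCard, ENat.card_eq_coe_natCard, Nat.cast_inj]
  refine ⟨fun hs => ?_, fun hc i => ⟨fun a b => ?_⟩⟩
  · refine Nat.card_congr (Equiv.ofBijective _ ⟨?_, hsurj⟩)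
    rintro ⟨i, a⟩ ⟨j, b⟩ hij
    obtain rfl : i = j := hij
    exact congrArg _ ((hs i).elim a b)
  · exact eq_of_heq (Sigma.mk.inj
      (((Nat.bijective_iff_surjective_and_card _).mpr ⟨hsurj, hc⟩).1 (a₁ := ⟨i, a⟩) (a₂ := ⟨i, b⟩) rfl)).2


/-- Let A be an excellent reduced local ring with residue field k, let A' be the integral closure of A
in its total ring of fractions, let A^h be a henselization and A^hs a strict henselization of A, and
let A^h → A^hs be the A-algebra map between them (it is the unique one). Then the residue field of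
A' at every maximal ideal is purely inseparable over k — every element has some p^n-th power in the
image of A, p the characteristic exponent — if and only if every minimal prime ideal of A^hs is
generated by its contraction to A^h. -/
theorem result
    (A Ah Ash : Type u) [CommRing A] [IsLocalRing A] [IsReduced A] (hA : EGA4.IsExcellent A)
    [CommRing Ah] [IsLocalRing Ah] [Algebra A Ah] [IsLocalHom (algebraMap A Ah)]
    [Hensel.IsHenselization A Ah]
    [CommRing Ash] [IsLocalRing Ash] [Algebra A Ash] [IsLocalHom (algebraMap A Ash)]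
    [Hensel.IsStrictHenselization A Ash] [Algebra Ah Ash] [IsScalarTower A Ah Ash] :
    (∀ (M : Ideal (integralClosure A (FractionRing A))) [M.IsMaximal], ∀ x : (integralClosure A (FractionRing A)) ⧸ M, ∃ n : ℕ,
        x ^ (ringExpChar ((integralClosure A (FractionRing A)) ⧸ M)) ^ n ∈
          ((Ideal.Quotient.mk M).comp (algebraMap A (integralClosure A (FractionRing A)))).range) ↔
      (∀ Q ∈ minimalPrimes Ash, Q = Ideal.map (algebraMap Ah Ash) (Q.comap (algebraMap Ah Ash))) := by
  classical
  haveI : IsNoetherianRing A := hA.1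
  haveI := (inferInstance : Hensel.IsHenselization A Ah).henselian
  obtain ⟨hloc, hsh⟩ := H9SInter.isStrictHenselization_over (A := A) (Ah := Ah) (Ash := Ash)
  haveI := hloc; haveI := hsh
  haveI : IsReduced Ah := (Groth.Agent.S0514.result A Ah).mp inferInstance
  haveI : IsNoetherianRing Ash := (Groth.Agent.S0540.result A Ash).mp inferInstance
  have hfin := minimalPrimes.finite_of_isNoetherianRing Ash
  rw [H9SInter.forall_extended_iff_card hfin, H9Hens.card_minimalPrimes_henselization A Ah,
    H9Hens.card_minimalPrimes_strictHenselization A Ash]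
  have hcard := H9Hens.card_minimalPrimes_strictHenselization A Ash
  unfold Brnch.numGeomBranches at hcard
  unfold Brnch.numGeomBranches Brnch.numBranches
  have hfA : (minimalPrimes A).Finite := minimalPrimes.finite_of_isNoetherianRing A
  rw [if_pos hfA] at hcard
  rw [if_pos hfA, if_pos hfA]
  haveI := hfin.to_subtype
  haveI : Finite (Σ m' : MaximalSpectrum (CAlg2.normRed A), Brnch.Emb A m') := by
    rw [← ENat.card_lt_top, ← hcard]
    exact ENat.card_lt_top.mpr inferInstance
  haveI : ∀ m', Nonempty (Brnch.Emb A m') := fun m' => (H9Hens.emb_nonempty_and_subsingleton_iff A m').1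
  rw [← forall_subsingleton_iff]
  obtain ⟨e⟩ := H9SInter.nonempty_normRed_algEquiv A
  refine ⟨fun h m' => (H9Hens.emb_nonempty_and_subsingleton_iff A m').2.mpr ?_, fun h M _ x => ?_⟩
  · haveI := m'.isMaximal
    exact pi_transfer e.symm (fun M _ => h M) m'.asIdeal
  · exact pi_transfer e
      (fun M hM => (H9Hens.emb_nonempty_and_subsingleton_iff A ⟨M, hM⟩).2.mp (h ⟨M, hM⟩)) M x

end Groth.Agent.S16431
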