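import Groth.Statements.S16432
import Groth.Agent.H05EGA4.EssEtNormal

set_option autoImplicit false
universe u
open EGA4loc

namespace Groth.Agent.S16432

/-- Let A be an excellent normal local domain and S a strict henselization of A; let D be an
A-subalgebra of S which is a local ring dominated by S (the inclusion is a local homomorphism), an
integrally closed domain, and whose fraction field is generated as a field over the image of A by
finitely many elements of D. Then D is an essentially etale local A-algebra: A-isomorphic to the
localization of an etale A-algebra at a prime ideal over the maximal ideal of A. -/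
theorem result
    (A S : Type u) [CommRing A] [IsLocalRing A] [IsDomain A] [IsIntegrallyClosed A]
    (hA : EGA4.IsExcellent A) [CommRing S] [IsLocalRing S] [Algebra A S] [IsLocalHom (algebraMap A S)]
    [Hensel.IsStrictHenselization A S] (D : Subalgebra A S) [IsLocalRing D]
    [IsLocalHom (algebraMap D S)] [IsDomain D] [IsIntegrallyClosed D]
    (hfg : ∃ s : Finset D, Subfield.closure (Set.range (algebraMap A (FractionRing D)) ∪
        (algebraMap D (FractionRing D)) '' (s : Set D)) = ⊤) :
    EGA4loc.IsEssentiallyEtale A D := by
  exact Groth.Agent.H05EGA4.EssEtNormal.isEssentiallyEtale_of_fg hA D hfg

end Groth.Agent.S16432
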