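import Groth.Statements.S16436
import Groth.Agent.H9SInter.Criterion2
import Groth.Agent.S2747
import Groth.Agent.S0540
import Groth.Agent.S0539
-- import your own Groth.Agent.* helpers here

set_option autoImplicit false
universe u
open Hensel

namespace Groth.Agent.S16436

/-- Let A be an excellent henselian reduced local ring, S a strict henselization of A and D an
A-subalgebra of S which is finitely generated as an A-module. Write D' for the integral closure of D
in its total ring of fractions. Then D is etale over A and every minimal prime ideal of S is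
generated by its contraction to D, if and only if, for every maximal ideal M of D' with residue
field l, writing k_0 for the subfield of l generated by the image of D (the image itself, a copy of
the residue field of D), k_0 is separably closed in l: every element of l separable over k_0 lies in
k_0. -/
theorem result
    (A S : Type u) [CommRing A] [HenselianLocalRing A] [IsReduced A] (hA : EGA4.IsExcellent A)
    [CommRing S] [IsLocalRing S] [Algebra A S] [IsLocalHom (algebraMap A S)]
    [Hensel.IsStrictHenselization A S] (D : Subalgebra A S) [Module.Finite A D] :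
    (Algebra.Etale A D ∧
        ∀ Q ∈ minimalPrimes S, Q = Ideal.map (algebraMap D S) (Q.comap (algebraMap D S))) ↔
      ∀ (M : Ideal (integralClosure D (FractionRing D))) [M.IsMaximal],
        separableClosure (Subfield.closure (Set.range ((algebraMap (integralClosure D (FractionRing D)) M.ResidueField).comp (algebraMap D (integralClosure D (FractionRing D)))))) M.ResidueField = ⊥ := by
  classical
  haveI := (inferInstance : Hensel.IsStrictHenselization A S).henselian
  have h : H9SInter.Strict A S := H9SInter.Strict.of_isStrictHenselization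
  haveI : IsNoetherianRing A := hA.1
  haveI : IsNoetherianRing S := (Groth.Agent.S0540.result A S).mp inferInstance
  haveI : IsReduced S := (Groth.Agent.S2747.result A S).mpr inferInstance
  haveI := Groth.Agent.S0539.result A S
  haveI : IsReduced D := isReduced_of_injective D.val Subtype.val_injective
  haveI : IsNoetherianRing D := IsNoetherianRing.of_finite A D
  have hfin : (minimalPrimes D).Finite := minimalPrimes.finite_of_isNoetherianRing D
  obtain ⟨hint, hDH, hAD, hDS⟩ := h.subalgebra_henselian D
  haveI := hint; haveI := hDH; haveI := hAD; haveI := hDS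
  let R := H9SInter.core D
  have hR : R ≤ D := H9SInter.core_le D
  obtain ⟨hRH, hRS, -, hR'⟩ := h.adjoin (W := {w : S | H9SInter.Simple A w ∧ w ∈ D}) fun w hw => hw.1
  haveI := hRH; haveI := hRS
  have hres : ∀ x ∈ D, ∃ r ∈ R, IsLocalRing.residue S r = IsLocalRing.residue S x :=
    fun x hx => h.exists_core_residue D hx
  refine ⟨fun ⟨het, hgen⟩ M _ => ?_, fun hsep => ?_⟩
  · haveI := het
    haveI : IsLocalHom D.val.toRingHom := ⟨fun x hx => hDS.map_nonunit x hx⟩
    obtain ⟨u, g, -, hu, hadj⟩ := H9SInter.exists_stage_of_subalgebra (R := A) D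
    have hDR : D ≤ R := by
      rw [← hadj]
      exact Algebra.adjoin_le (Set.singleton_subset_iff.mpr
        (Algebra.subset_adjoin ⟨hu, hadj ▸ Algebra.subset_adjoin rfl⟩))
    obtain ⟨Q, hQp, hφ, hQ, hM⟩ := h.exists_component D hfin hR M
    refine (H9SInter.separableClosure_eq_bot_iff D M).mpr
      (h.separably_closed_of_extended D (H9SInter.proj Q) hφ hR' hR hDR hres M hM ?_)
    rw [H9SInter.ker_proj]
    exact (H9SInter.map_comap_mono hDR (hgen Q hQ)).le
  have hgenQ : ∀ Q ∈ minimalPrimes S, Q = (Q.comap (algebraMap R S)).map (algebraMap R S) ∧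
      ∀ x ∈ D, ∃ r : R, x - algebraMap R S r ∈ Q := by
    intro Q hQ
    haveI := hQ.isPrime
    have hk : RingHom.ker (H9SInter.proj (A := A) Q).toRingHom = Q := H9SInter.ker_proj Q
    have hφ : (RingHom.ker (H9SInter.proj (A := A) Q).toRingHom).comap (algebraMap D S) ∈ minimalPrimes D := by
      rw [hk]; exact H9SInter.comap_mem_minimalPrimes D hQ
    have := h.generated_of_closed D (H9SInter.proj (A := A) Q) hφ hR' hR hres hfin
      (fun M _ => (H9SInter.separableClosure_eq_bot_iff D M).mp (hsep M))
    rwa [hk] at this
  have hDR : D ≤ R := fun x hx => by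
    obtain ⟨r, hr⟩ := hR'.mem_range_of_forall (minimalPrimes.finite_of_isNoetherianRing S) (x := x) fun Q hQ => by
      obtain ⟨r, hr⟩ := (hgenQ Q hQ).2 x hx
      exact ⟨r, (hgenQ Q hQ).1 ▸ hr⟩
    exact hr ▸ r.2
  refine ⟨?_, fun Q hQ => H9SInter.map_comap_mono hR (hgenQ Q hQ).1⟩
  obtain ⟨s, hs⟩ := D.fg_of_fg_toSubmodule (Module.Finite.iff_fg.mp ‹_›)
  have hsR : ∀ x : s, ∃ W' ⊆ {w : S | H9SInter.Simple A w ∧ w ∈ D}, W'.Finite ∧ (x : S) ∈ Algebra.adjoin A W' :=
    fun x => H9SInter.exists_finite_of_mem_adjoin (hDR (hs ▸ Algebra.subset_adjoin x.2))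
  choose W hW hWf hWm using hsR
  have hD : D = Algebra.adjoin A (⋃ x, W x) := by
    refine le_antisymm ?_ (Algebra.adjoin_le (Set.iUnion_subset fun x w hw => (hW x hw).2))
    rw [← hs]
    exact Algebra.adjoin_le fun x hx => Algebra.adjoin_mono (Set.subset_iUnion W ⟨x, hx⟩) (hWm ⟨x, hx⟩)
  rw [hD]
  exact h.etale_adjoin (Set.finite_iUnion hWf) fun w hw => by
    obtain ⟨x, hx⟩ := Set.mem_iUnion.mp hw
    exact (hW x hx).1

end Groth.Agent.S16436
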