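import Groth.Statements.S16437
import Groth.Agent.H9SInter.Count2
import Groth.Agent.H9SInter.Excellent
import Groth.Agent.S0539
-- import your own Groth.Agent.* helpers here

set_option autoImplicit false
universe u
open Hensel

namespace Groth.Agent.S16437

open IsLocalRing in
/-- Let A be an excellent henselian local domain with residue field k, whose integral closure A' in its
fraction field is a local ring (as it is, A being henselian) with local inclusion A → A' and residue
field k'; let k^s be the separable closure of k in k', S a strict henselization of A, and E a local
ring which is an essentially etale local A-algebra with local structure map, together with an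
A-algebra map E → S. Then every minimal prime ideal of S is generated by its contraction to E if and
only if the number of k-algebra maps from k^s to the residue field of E equals the degree [k^s : k];
equivalently, the minimal polynomial of a primitive element of k^s over k splits into linear factors
over the residue field of E. -/
theorem result
    (A S E : Type u) [CommRing A] [HenselianLocalRing A] [IsDomain A] (hA : EGA4.IsExcellent A)
    [IsLocalRing (integralClosure A (FractionRing A))] [IsLocalHom (algebraMap A (integralClosure A (FractionRing A)))]
    [CommRing S] [IsLocalRing S] [Algebra A S] [IsLocalHom (algebraMap A S)]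
    [Hensel.IsStrictHenselization A S]
    [CommRing E] [IsLocalRing E] [Algebra A E] [IsLocalHom (algebraMap A E)]
    (hE : EGA4loc.IsEssentiallyEtale A E) [Algebra E S] [IsScalarTower A E S] :
    (∀ Q ∈ minimalPrimes S, Q = Ideal.map (algebraMap E S) (Q.comap (algebraMap E S))) ↔
      Nat.card (separableClosure (ResidueField A) (ResidueField (integralClosure A (FractionRing A))) →ₐ[ResidueField A]
          ResidueField E) =
        Module.finrank (ResidueField A)
          (separableClosure (ResidueField A) (ResidueField (integralClosure A (FractionRing A)))) := by
  classical
  haveI := (inferInstance : Hensel.IsStrictHenselization A S).henselian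
  have h : H9SInter.Strict A S := H9SInter.Strict.of_isStrictHenselization
  haveI := Groth.Agent.S0539.result A S
  let j : E →ₐ[A] S := IsScalarTower.toAlgHom A E S
  haveI : IsLocalHom j.toRingHom := H9Hens.essentiallyEtale_isLocalHom hE j
  obtain ⟨v, hv, hUr⟩ := h.exists_adjoin_eq_range hE j
  obtain ⟨hUH, hUS, -, hU⟩ := h.adjoin (W := {v}) fun x hx => hx ▸ hv
  haveI := hUH; haveI := hUS
  obtain ⟨hA'H, -⟩ := H9SInter.integralClosure_henselian (R := A) (L := FractionRing A)
  haveI := hA'H
  have hN : CAlg.IsNagata A := Groth.Agent.S2654.result A ⟨hA.1, hA.2.2.1, hA.2.2.2⟩
  haveI : Module.Finite A (integralClosure A (FractionRing A)) := by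
    refine H9SInter.finite_integralClosure_of_isNagata hN ∅ Set.finite_empty
      (fun z hz => absurd hz (Set.notMem_empty z)) ?_
    rw [Set.union_empty, eq_top_iff]
    intro z _
    obtain ⟨a, b, -, rfl⟩ := IsFractionRing.div_surjective (A := A) z
    exact div_mem (Subfield.subset_closure ⟨a, rfl⟩) (Subfield.subset_closure ⟨b, rfl⟩)
  haveI : Module.Finite (IsLocalRing.ResidueField A) (IsLocalRing.ResidueField (integralClosure A (FractionRing A))) :=
    inferInstance
  let ψ : IsLocalRing.ResidueField E →ₐ[IsLocalRing.ResidueField A] IsLocalRing.ResidueField S :=
    { IsLocalRing.ResidueField.map j.toRingHom with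
      commutes' := fun a => by
        obtain ⟨a, rfl⟩ := IsLocalRing.residue_surjective a
        exact congrArg (IsLocalRing.residue S) (j.commutes a) }
  haveI := h.sepClosure.sep_closed
  rw [H9SInter.card_algHom_eq_iff ψ]
  have hkey := h.extended_iff_range (L := FractionRing A) (Algebra.adjoin A ({v} : Set S)) hU
  rw [H9SInter.range_residueField_map j (Algebra.adjoin A ({v} : Set S)) hUr] at hkey
  simp_rw [H9SInter.map_comap_range (Algebra.adjoin A ({v} : Set S)) hUr]
  exact hkey

end Groth.Agent.S16437
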