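import Groth.Statements.S16439
import Groth.Agent.H05EGA4.EssEtNoeth

set_option autoImplicit false
universe u
open EGA4loc

namespace Groth.Agent.S16439

open IsLocalRing in
/-- Let A be an excellent reduced local ring with maximal ideal m, S a strict henselization of A, and D
an A-subalgebra of S which is a Noetherian local ring dominated by S (the inclusion is local), whose
total ring of fractions K_D is finitely generated over that of A — there is a finite subset t of K_D
such that every element of K_D, after multiplication by (the image of) a non-zero-divisor of A, is a
polynomial expression in t with coefficients from A — and such that m D is the maximal ideal of D.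
Then D is an essentially etale local A-algebra: A-isomorphic to the localization of an etale
A-algebra at a prime over m. -/
theorem result
    (A S : Type u) [CommRing A] [IsLocalRing A] [IsReduced A] (hA : EGA4.IsExcellent A)
    [CommRing S] [IsLocalRing S] [Algebra A S] [IsLocalHom (algebraMap A S)]
    [Hensel.IsStrictHenselization A S] (D : Subalgebra A S) [IsLocalRing D]
    [IsLocalHom (algebraMap D S)] [IsNoetherianRing D]
    (hfg : ∃ t : Finset (FractionRing D), ∀ x : FractionRing D, ∃ a ∈ nonZeroDivisors A,
      algebraMap A (FractionRing D) a * x ∈ Algebra.adjoin A (t : Set (FractionRing D)))
    (hm : Ideal.map (algebraMap A D) (maximalIdeal A) = maximalIdeal D) :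
    EGA4loc.IsEssentiallyEtale A D := by
  haveI : IsNoetherianRing A := hA.1
  exact Groth.Agent.H05EGA4.EssEtNoeth.isEssentiallyEtale D hfg hm

end Groth.Agent.S16439
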