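import Groth.Statements.S16440
import Groth.Agent.H9SInter.Excellent
-- import your own Groth.Agent.* helpers here

set_option autoImplicit false
universe u
open Hensel

namespace Groth.Agent.S16440

/-- Let A be an excellent henselian reduced local ring, S a strict henselization of A and Q a minimal
prime ideal of S; let K be the fraction field of the domain S/Q and L the subfield of K generated
over the image of A by a finite subset t of K (an intermediate field between the fraction field of
A/(Q ∩ A) and K, finitely generated over the former). Then the intersection of L with S/Q is (the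
underlying set of) an A-subalgebra D' of S/Q which is a finitely generated A-module and formally
unramified over A. (The source adds that S/Q is a strict henselization of D'; that assertion is not
stated here.) -/
theorem result
    (A S : Type u) [CommRing A] [HenselianLocalRing A] [IsReduced A] (hA : EGA4.IsExcellent A)
    [CommRing S] [IsLocalRing S] [Algebra A S] [IsLocalHom (algebraMap A S)]
    [Hensel.IsStrictHenselization A S] (Q : Ideal S) (hQ : Q ∈ minimalPrimes S) [Q.IsPrime]
    (t : Finset (FractionRing (S ⧸ Q))) :
    ∃ D' : Subalgebra A (S ⧸ Q), (D' : Set (S ⧸ Q)) = (algebraMap (S ⧸ Q) (FractionRing (S ⧸ Q))) ⁻¹'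
        (Subfield.closure (Set.range (algebraMap A (FractionRing (S ⧸ Q))) ∪
          (t : Set (FractionRing (S ⧸ Q)))) : Set (FractionRing (S ⧸ Q))) ∧
      Module.Finite A D' ∧ Algebra.FormallyUnramified A D' := by
  obtain ⟨v, hv, hsub, hmem, hfrac, -⟩ := H9SInter.exists_image hA Q t
  let D' : Subalgebra A (S ⧸ Q) := (Algebra.adjoin A ({v} : Set S)).map (Ideal.Quotient.mkₐ A Q)
  have heq : (D' : Set (S ⧸ Q)) = (algebraMap (S ⧸ Q) (FractionRing (S ⧸ Q))) ⁻¹'
      (Subfield.closure (Set.range (algebraMap A (FractionRing (S ⧸ Q))) ∪
        (t : Set (FractionRing (S ⧸ Q)))) : Set (FractionRing (S ⧸ Q))) := by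
    ext x
    constructor
    · rintro ⟨e, he, rfl⟩
      exact hsub e he
    · intro hx
      obtain ⟨y, rfl⟩ := Ideal.Quotient.mk_surjective x
      obtain ⟨e, he, hee⟩ := hmem y hx
      exact ⟨e, he, hee⟩
  haveI := (inferInstance : Hensel.IsStrictHenselization A S).henselian
  obtain ⟨hfin, -, -, hunr⟩ := H9SInter.adjoin_facts (R := A) (Set.finite_singleton v) (fun x hx => hx ▸ hv)
  haveI := hfin; haveI := hunr
  let π : Algebra.adjoin A ({v} : Set S) →ₐ[A] D' :=
    ((Ideal.Quotient.mkₐ A Q).comp (Algebra.adjoin A ({v} : Set S)).val).codRestrict D'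
      fun e => ⟨e, e.2, rfl⟩
  have hπ : Function.Surjective π := by
    rintro ⟨x, e, he, rfl⟩
    exact ⟨⟨e, he⟩, rfl⟩
  exact ⟨D', heq, Module.Finite.of_surjective π.toLinearMap hπ,
    Algebra.FormallyUnramified.of_surjective π hπ⟩

end Groth.Agent.S16440
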