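import Groth.Statements.S16444
import Groth.Agent.S0518
import Groth.Agent.S0505
import Groth.Agent.H9Hens.EssEtale
import Groth.Agent.H05EGA4.CompleteNormalization
import Mathlib
-- import your own Groth.Agent.* helpers here

set_option autoImplicit false
universe u
open scoped TensorProduct
open Hensel

namespace Groth.Agent.S16444

open IsLocalRing in
/-- Let A be a complete Noetherian local ring and R → A a local homomorphism from a henselian Noetherian
local ring R inducing a bijection on residue fields. Then every local ring E which is an essentially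
etale local A-algebra with local structure map is A-isomorphic to A ⊗_R S for some local ring S
which is a finite etale R-algebra (its residue field is then that of E). (The published statement
takes R to be a coefficient ring of A, that is a field or an image of a complete p-ring with the
same residue field; its proof uses only that R is henselian with the same residue field as A, which
is the hypothesis made here.) -/
theorem result
    (R A E : Type u) [CommRing R] [HenselianLocalRing R] [IsNoetherianRing R]
    [CommRing A] [IsLocalRing A] [IsNoetherianRing A] [IsAdicComplete (maximalIdeal A) A]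
    [Algebra R A] [IsLocalHom (algebraMap R A)]
    (hres : Function.Bijective (ResidueField.map (algebraMap R A)))
    [CommRing E] [IsLocalRing E] [Algebra A E] [IsLocalHom (algebraMap A E)]
    (hE : EGA4loc.IsEssentiallyEtale A E) :
    ∃ (S : Type u) (_ : CommRing S) (_ : IsLocalRing S) (_ : Algebra R S),
      Module.Finite R S ∧ Algebra.Etale R S ∧ Nonempty (E ≃ₐ[A] A ⊗[R] S) := by
  classical
  obtain ⟨C, _, _, q, _, _, hq, ⟨e⟩⟩ := id hE
  haveI : IsNoetherianRing C := Algebra.FiniteType.isNoetherianRing A C
  haveI : IsNoetherianRing E := isNoetherianRing_of_ringEquiv _ e.symm.toRingEquiv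
  haveI : Algebra.FormallyUnramified A E := Algebra.FormallyUnramified.of_equiv e.symm
  haveI : Algebra.EssFiniteType A E := by
    haveI : Algebra.EssFiniteType A (Localization.AtPrime q) := Algebra.EssFiniteType.comp A C _
    exact Algebra.EssFiniteType.of_surjective e.symm.toAlgHom e.symm.surjective
  haveI : IsLocalHom (algebraMap R A) := ‹_›
  let kR := ResidueField R
  let kA := ResidueField A
  let ℓ := ResidueField E
  let ρ : kR ≃+* kA := RingEquiv.ofBijective (ResidueField.map (algebraMap R A)) hres
  letI : Algebra kR ℓ := ((algebraMap kA ℓ).comp ρ.toRingHom).toAlgebra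
  haveI : IsScalarTower kR kA ℓ := IsScalarTower.of_algebraMap_eq fun _ => rfl
  haveI : Module.Finite kR kA := Module.Finite.of_surjective (Algebra.linearMap kR kA) hres.2
  haveI : Algebra.IsSeparable kA ℓ := inferInstance
  haveI : Module.Finite kA ℓ := inferInstance
  haveI : Module.Finite kR ℓ := Module.Finite.trans kA ℓ
  haveI : Algebra.IsSeparable kR kA := ⟨fun x => by
    obtain ⟨r, rfl⟩ := ρ.surjective x
    exact isSeparable_algebraMap r⟩
  haveI : Algebra.IsSeparable kR ℓ := Algebra.IsSeparable.trans kR kA ℓ
  haveI : Algebra.FormallyEtale kR ℓ := Algebra.FormallyEtale.of_isSeparable kR ℓ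
  haveI : Algebra.FinitePresentation kR ℓ := Algebra.FinitePresentation.of_finiteType.mp inferInstance
  haveI : Algebra.Etale kR ℓ := ⟨inferInstance, inferInstance⟩
  obtain ⟨S, _, _, hSfin, hSet, ⟨ε⟩⟩ := Groth.Agent.S0518.result R ℓ
  letI : Algebra R ℓ := ((algebraMap A ℓ).comp (algebraMap R A)).toAlgebra
  haveI : IsScalarTower R A ℓ := IsScalarTower.of_algebraMap_eq fun _ => rfl
  haveI : IsScalarTower R kR ℓ := IsScalarTower.of_algebraMap_eq fun r => by
    show algebraMap A ℓ (algebraMap R A r) = algebraMap kA ℓ (ρ (residue R r))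
    rfl
  let χS : S →ₐ[R] ℓ := (ε.toAlgHom.restrictScalars R).comp Algebra.TensorProduct.includeRight
  have hχsurj : Function.Surjective χS := by
    intro x
    obtain ⟨s, hs⟩ := TensorProduct.mk_surjective R S kR Ideal.Quotient.mk_surjective (ε.symm x)
    refine ⟨s, ?_⟩
    have hs' : (1 : kR) ⊗ₜ[R] s = ε.symm x := hs
    show ε ((1 : kR) ⊗ₜ[R] s) = x
    rw [hs', ε.apply_symm_apply]
  have hχker : ∀ s, χS s = 0 → s ∈ (maximalIdeal R).map (algebraMap R S) := by
    intro s hs
    have h0 : (1 : R ⧸ maximalIdeal R) ⊗ₜ[R] s = 0 := ε.injective (hs.trans (map_zero ε).symm)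
    have h1 := (congrArg (TensorProduct.quotTensorEquivQuotSMul S (maximalIdeal R)) h0).trans (LinearEquiv.map_zero _)
    rw [show (1 : R ⧸ maximalIdeal R) = Ideal.Quotient.mk (maximalIdeal R) 1 from rfl,
      TensorProduct.quotTensorEquivQuotSMul_mk_tmul, one_smul, Submodule.Quotient.mk_eq_zero,
      Ideal.smul_top_eq_map, Submodule.restrictScalars_mem] at h1
    exact h1
  haveI : Module.Finite R S := hSfin
  haveI : Algebra.Etale R S := hSet
  haveI : Nontrivial S := χS.toRingHom.domain_nontrivial
  have hχmax : (RingHom.ker χS).IsMaximal := RingHom.ker_isMaximal_of_surjective χS hχsurj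
  haveI : IsLocalRing S := by
    refine IsLocalRing.of_unique_max_ideal ⟨RingHom.ker χS, hχmax, fun M hM => (hχmax.eq_of_le hM.ne_top ?_).symm⟩
    intro s hs
    exact ((Groth.Agent.H9Hens.map_le_jacobson_of_isIntegral (Groth.Agent.H9Hens.maximalIdeal_le_jac R)).trans
      (sInf_le ⟨bot_le, hM⟩)) (hχker s hs)
  let T := A ⊗[R] S
  let χ : T →ₐ[A] ℓ := Algebra.TensorProduct.lift (Algebra.ofId A ℓ) χS fun _ _ => Commute.all _ _
  have hχ1 : ∀ s : S, χ ((1 : A) ⊗ₜ s) = χS s := fun s => by
    show Algebra.ofId A ℓ 1 * χS s = _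
    rw [map_one, one_mul]
  let mT : Ideal T := (maximalIdeal A).map (algebraMap A T)
  have happrox : ∀ t : T, ∃ s : S, t - (1 : A) ⊗ₜ s ∈ mT := by
    intro t
    induction t using TensorProduct.induction_on with
    | zero => exact ⟨0, by simp⟩
    | tmul a s =>
      obtain ⟨r, hr⟩ := hres.2 (residue A a)
      obtain ⟨r, rfl⟩ := residue_surjective r
      refine ⟨r • s, ?_⟩
      have hmem : a - algebraMap R A r ∈ maximalIdeal A := by
        rw [← IsLocalRing.residue_eq_zero_iff, map_sub, ← hr, IsLocalRing.ResidueField.map_residue, sub_self]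
      have h2 : a ⊗ₜ[R] s - (1 : A) ⊗ₜ (r • s) = algebraMap A T (a - algebraMap R A r) * (1 : A) ⊗ₜ[R] s := by
        rw [Algebra.TensorProduct.algebraMap_apply, Algebra.TensorProduct.tmul_mul_tmul, Algebra.algebraMap_self,
          RingHom.id_apply, mul_one, one_mul, TensorProduct.sub_tmul, Algebra.algebraMap_eq_smul_one, TensorProduct.smul_tmul]
      rw [h2]
      exact Ideal.mul_mem_right _ _ (Ideal.mem_map_of_mem _ hmem)
    | add x y hx hy =>
      obtain ⟨a, ha⟩ := hx; obtain ⟨b, hb⟩ := hy
      exact ⟨a + b, by rw [TensorProduct.tmul_add, add_sub_add_comm]; exact add_mem ha hb⟩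
  have hmTker : mT ≤ RingHom.ker χ := by
    refine Ideal.map_le_iff_le_comap.mpr fun a ha => ?_
    rw [Ideal.mem_comap, RingHom.mem_ker, AlgHom.commutes, IsScalarTower.algebraMap_apply A kA ℓ,
      show algebraMap A kA a = 0 from (IsLocalRing.residue_eq_zero_iff a).mpr ha, map_zero]
  have hkerχ : RingHom.ker χ = mT := by
    refine le_antisymm (fun t ht => ?_) hmTker
    obtain ⟨s, hs⟩ := happrox t
    have h1 : χS s = 0 := by
      have := hmTker hs
      rw [RingHom.mem_ker, map_sub, show χ t = 0 from ht, zero_sub, neg_eq_zero] at this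
      rwa [hχ1] at this
    have h2 : (1 : A) ⊗ₜ[R] s ∈ mT := by
      have h3 : ((maximalIdeal R).map (algebraMap R S)).map (Algebra.TensorProduct.includeRight : S →ₐ[R] T).toRingHom ≤ mT := by
        rw [Ideal.map_map, show (Algebra.TensorProduct.includeRight : S →ₐ[R] T).toRingHom.comp (algebraMap R S) =
          (algebraMap A T).comp (algebraMap R A) from RingHom.ext fun r => ((Algebra.TensorProduct.includeRight : S →ₐ[R] T).commutes r).trans (IsScalarTower.algebraMap_apply R A T r), ← Ideal.map_map]
        exact Ideal.map_mono (((local_hom_TFAE (algebraMap R A)).out 0 2).mp ‹_›)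
      exact h3 (Ideal.mem_map_of_mem _ (hχker s h1))
    rw [← sub_add_cancel t ((1 : A) ⊗ₜ[R] s)]
    exact add_mem hs h2
  have hχT : Function.Surjective χ := fun x => by
    obtain ⟨s, rfl⟩ := hχsurj x
    exact ⟨1 ⊗ₜ s, hχ1 s⟩
  haveI : Module.Finite A T := Module.Finite.base_change R A S
  haveI : Algebra.Etale A T := inferInstanceAs (Algebra.Etale A (A ⊗[R] S))
  haveI : Nontrivial T := χ.toRingHom.domain_nontrivial
  have hTmax : (RingHom.ker χ).IsMaximal := RingHom.ker_isMaximal_of_surjective χ hχT
  haveI : IsLocalRing T := by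
    refine IsLocalRing.of_unique_max_ideal ⟨RingHom.ker χ, hTmax, fun M hM => (hTmax.eq_of_le hM.ne_top ?_).symm⟩
    rw [hkerχ]
    exact (Groth.Agent.H9Hens.map_le_jacobson_of_isIntegral (Groth.Agent.H9Hens.maximalIdeal_le_jac A)).trans
      (sInf_le ⟨bot_le, hM⟩)
  have hTm : maximalIdeal T = mT := by rw [← hkerχ]; exact (eq_maximalIdeal hTmax).symm
  haveI : HenselianRing A (maximalIdeal A) := inferInstance
  haveI : HenselianLocalRing A := (HenselianLocalRing.TFAE A).out 1 0 |>.mp (by
    intro f hf a₀ h1 h2
    obtain ⟨a, ha, ha'⟩ := HenselianRing.is_henselian f hf ((residue_surjective a₀).choose) (by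
      rw [← IsLocalRing.residue_eq_zero_iff]
      have h3 := Polynomial.aeval_algebraMap_apply_eq_algebraMap_eval (A := kA) (residue_surjective a₀).choose f
      rw [show algebraMap A kA (residue_surjective a₀).choose = a₀ from (residue_surjective a₀).choose_spec] at h3
      exact h3.symm.trans h1) (by
      show IsUnit (residue A ((Polynomial.derivative f).eval (residue_surjective a₀).choose))
      have h3 := Polynomial.aeval_algebraMap_apply_eq_algebraMap_eval (A := kA) (residue_surjective a₀).choose (Polynomial.derivative f)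
      rw [show algebraMap A kA (residue_surjective a₀).choose = a₀ from (residue_surjective a₀).choose_spec] at h3
      exact isUnit_iff_ne_zero.mpr fun h4 => h2 (h3.trans h4))
    refine ⟨a, ha, ?_⟩
    rw [← (residue_surjective a₀).choose_spec]
    exact Ideal.Quotient.eq.mpr ha')
  haveI : HenselianLocalRing T := Groth.Agent.S0505.result A T
  let eT : ResidueField T ≃ₐ[A] ℓ :=
    (Ideal.quotientEquivAlgOfEq A (show maximalIdeal T = RingHom.ker χ from (eq_maximalIdeal hTmax).symm)).trans
      (Ideal.quotientKerAlgEquivOfSurjective hχT)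
  obtain ⟨ψ, hψ, -⟩ := Groth.Agent.H9Hens.essentiallyEtale_existsUnique_lift (B := T) hE
    (eT.symm.toAlgHom.comp (IsScalarTower.toAlgHom A E ℓ))
  have hψsurj : Function.Surjective ψ := by
    suffices h : Function.Surjective ψ.toLinearMap from h
    rw [← LinearMap.range_eq_top, eq_top_iff]
    refine Submodule.le_of_le_smul_of_le_jacobson_bot Module.Finite.fg_top (IsLocalRing.maximalIdeal_le_jacobson ⊥) fun t _ => ?_
    obtain ⟨x, hx⟩ := residue_surjective (R := E) (χ t)
    have hd : t - ψ x ∈ mT := by
      rw [← hTm, ← IsLocalRing.residue_eq_zero_iff, map_sub, hψ, sub_eq_zero]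
      refine eT.injective ?_
      show eT (residue T t) = eT (eT.symm (residue E x))
      rw [AlgEquiv.apply_symm_apply, hx]
      rfl
    rw [show t = ψ x + (t - ψ x) by abel]
    refine Submodule.add_mem_sup ⟨x, rfl⟩ ?_
    rw [Ideal.smul_top_eq_map, Submodule.restrictScalars_mem]
    exact hd
  haveI : Module.Flat A T := inferInstance
  haveI : Module.FinitePresentation A T := Module.finitePresentation_of_finite A T
  haveI : Module.Projective A T := Module.Flat.projective_of_finitePresentation
  obtain ⟨σ, hσ⟩ := Module.projective_lifting_property ψ.toLinearMap LinearMap.id hψsurj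
  haveI : IsLocalHom ψ.toRingHom := by
    haveI : IsLocalHom (algebraMap A T) :=
      ((local_hom_TFAE (algebraMap A T)).out 0 2).mpr hTm.symm.le
    exact Groth.Agent.H9Hens.essentiallyEtale_isLocalHom hE ψ
  have hψinj : RingHom.ker ψ = ⊥ := by
    refine Submodule.eq_bot_of_le_smul_of_le_jacobson_bot (maximalIdeal E) _ (IsNoetherian.noetherian _) ?_
      (IsLocalRing.maximalIdeal_le_jacobson ⊥)
    intro x hx
    have hxm : x ∈ maximalIdeal E := by
      rw [mem_maximalIdeal, mem_nonunits_iff]
      intro hu
      have := hu.map ψ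
      rw [show ψ x = 0 from hx] at this
      exact not_isUnit_zero this
    rw [← Groth.Agent.H9Hens.essentiallyEtale_map_maximalIdeal hE] at hxm
    have h2 : x ∈ maximalIdeal A • (⊤ : Submodule A E) := by
      rw [Ideal.smul_top_eq_map, Submodule.restrictScalars_mem]; exact hxm
    let π : E →ₗ[A] E := LinearMap.id - σ ∘ₗ ψ.toLinearMap
    have hπ : ∀ y, ψ (π y) = 0 := fun y => by
      have := LinearMap.congr_fun hσ (ψ y)
      simp [π] at this ⊢
      rw [this, sub_self]
    have hπx : π x = x := by simp [π, show ψ x = 0 from hx]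
    rw [← hπx]
    refine Submodule.smul_induction_on h2 (fun a ha y _ => ?_) fun u v hu hv => by rw [map_add]; exact add_mem hu hv
    rw [map_smul, smul_eq_mul, Algebra.smul_def, ← Groth.Agent.H9Hens.essentiallyEtale_map_maximalIdeal hE]
    exact Ideal.mul_mem_mul (Ideal.mem_map_of_mem _ ha) (show π y ∈ RingHom.ker ψ from hπ y)
  exact ⟨S, inferInstance, inferInstance, inferInstance, hSfin, hSet,
    ⟨AlgEquiv.ofBijective ψ ⟨(RingHom.injective_iff_ker_eq_bot _).mpr hψinj, hψsurj⟩⟩⟩

end Groth.Agent.S16444
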