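import Groth.Statements.S16445
import Groth.Agent.H9SInter.Excellent
import Groth.Agent.S2651
-- import your own Groth.Agent.* helpers here

set_option autoImplicit false
universe u
open Hensel

namespace Groth.Agent.S16445

/-- Let A be an excellent henselian reduced local ring, S a strict henselization of A and Q a minimal
prime ideal of S; let K be the fraction field of the domain S/Q and L the subfield of K generated
over the image of A by a finite subset t of K. Then the intersection of L with S/Q is (the
underlying set of) an A-subalgebra D' of S/Q which is an excellent henselian local ring (a domain,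
as a subring of S/Q) whose fraction field is L: every element of L is the quotient of the images of
two elements of D'. (The source's further description of the completion of D' is not stated here.) -/
theorem result
    (A S : Type u) [CommRing A] [HenselianLocalRing A] [IsReduced A] (hA : EGA4.IsExcellent A)
    [CommRing S] [IsLocalRing S] [Algebra A S] [IsLocalHom (algebraMap A S)]
    [Hensel.IsStrictHenselization A S] (Q : Ideal S) (hQ : Q ∈ minimalPrimes S) [Q.IsPrime]
    (t : Finset (FractionRing (S ⧸ Q))) :
    ∃ D' : Subalgebra A (S ⧸ Q), (D' : Set (S ⧸ Q)) = (algebraMap (S ⧸ Q) (FractionRing (S ⧸ Q))) ⁻¹'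
        (Subfield.closure (Set.range (algebraMap A (FractionRing (S ⧸ Q))) ∪
          (t : Set (FractionRing (S ⧸ Q)))) : Set (FractionRing (S ⧸ Q))) ∧
      EGA4.IsExcellent D' ∧ ∃ _ : HenselianLocalRing D',
        ∀ l ∈ Subfield.closure (Set.range (algebraMap A (FractionRing (S ⧸ Q))) ∪
            (t : Set (FractionRing (S ⧸ Q)))),
          ∃ a ∈ D', ∃ b ∈ D', algebraMap (S ⧸ Q) (FractionRing (S ⧸ Q)) b ≠ 0 ∧
            l * algebraMap (S ⧸ Q) (FractionRing (S ⧸ Q)) b =
              algebraMap (S ⧸ Q) (FractionRing (S ⧸ Q)) a := by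
  obtain ⟨v, hv, hsub, hmem, hfrac, -⟩ := H9SInter.exists_image hA Q t
  let D' : Subalgebra A (S ⧸ Q) := (Algebra.adjoin A ({v} : Set S)).map (Ideal.Quotient.mkₐ A Q)
  have heq : (D' : Set (S ⧸ Q)) = (algebraMap (S ⧸ Q) (FractionRing (S ⧸ Q))) ⁻¹'
      (Subfield.closure (Set.range (algebraMap A (FractionRing (S ⧸ Q))) ∪
        (t : Set (FractionRing (S ⧸ Q)))) : Set (FractionRing (S ⧸ Q))) := by
    ext x
    constructor
    · rintro ⟨e, he, rfl⟩
      exact hsub e he
    · intro hx
      obtain ⟨y, rfl⟩ := Ideal.Quotient.mk_surjective x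
      obtain ⟨e, he, hee⟩ := hmem y hx
      exact ⟨e, he, hee⟩
  haveI := (inferInstance : Hensel.IsStrictHenselization A S).henselian
  obtain ⟨hfin, -, -, hunr⟩ := H9SInter.adjoin_facts (R := A) (Set.finite_singleton v) (fun x hx => hx ▸ hv)
  haveI := hfin; haveI := hunr
  let π : Algebra.adjoin A ({v} : Set S) →ₐ[A] D' :=
    ((Ideal.Quotient.mkₐ A Q).comp (Algebra.adjoin A ({v} : Set S)).val).codRestrict D'
      fun e => ⟨e, e.2, rfl⟩
  have hπ : Function.Surjective π := by
    rintro ⟨x, e, he, rfl⟩
    exact ⟨⟨e, he⟩, rfl⟩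
  haveI : Module.Finite A D' := Module.Finite.of_surjective π.toLinearMap hπ
  obtain ⟨-, hH, -, -⟩ := H9SInter.adjoin_henselian (R := A) (W := ({v} : Set S)) fun x hx => hx ▸ hv
  haveI := hH
  haveI : Nontrivial D' := D'.val.toRingHom.domain_nontrivial
  haveI : IsLocalRing D' := .of_surjective' π.toRingHom hπ
  haveI : Algebra.IsIntegral A D' := Algebra.IsIntegral.of_finite A D'
  haveI : IsLocalHom (algebraMap A D') := H9SInter.isLocalHom_algebraMap
  refine ⟨D', heq, Groth.Agent.S2651.result A hA D', (H9Hens.henselian_of_isIntegral (R := A) (T := D')).1,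
    fun l hl => ?_⟩
  obtain ⟨e, he, e', he', hne, hee⟩ := hfrac l hl
  exact ⟨_, ⟨e, he, rfl⟩, _, ⟨e', he', rfl⟩, hne, hee⟩

end Groth.Agent.S16445
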