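import Groth.Statements.S16446
import Groth.Agent.H9SInter.Excellent
import Groth.Agent.H9SInter.Stages
import Groth.Agent.S0540
-- import your own Groth.Agent.* helpers here

set_option autoImplicit false
universe u
open Hensel

namespace Groth.Agent.S16446

/-- Let A be an excellent henselian reduced local ring, S a strict henselization of A and Q a minimal
prime ideal of S with contraction q to A; let K be the fraction field of S/Q and L the subfield of K
generated over the image of A by a finite subset t of K. Then there is an A-subalgebra E of S, a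
local ring and an essentially etale local A-algebra, such that (i) every minimal prime ideal of S
over the ideal qS is generated by its contraction to E, and (ii) every element of S/Q whose image in
K lies in L is the class of an element of E — so that the intersection of L with S/Q equals its
intersection with the image of E. -/
theorem result
    (A S : Type u) [CommRing A] [HenselianLocalRing A] [IsReduced A] (hA : EGA4.IsExcellent A)
    [CommRing S] [IsLocalRing S] [Algebra A S] [IsLocalHom (algebraMap A S)]
    [Hensel.IsStrictHenselization A S] (Q : Ideal S) (hQ : Q ∈ minimalPrimes S) [Q.IsPrime]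
    (t : Finset (FractionRing (S ⧸ Q))) :
    ∃ E : Subalgebra A S, ∃ _ : IsLocalRing E, EGA4loc.IsEssentiallyEtale A E ∧
      (∀ Q' ∈ ((Q.comap (algebraMap A S)).map (algebraMap A S)).minimalPrimes,
        Q' = Ideal.map (algebraMap E S) (Q'.comap (algebraMap E S))) ∧
      ∀ x : S, algebraMap (S ⧸ Q) (FractionRing (S ⧸ Q)) (Ideal.Quotient.mk Q x) ∈
          Subfield.closure (Set.range (algebraMap A (FractionRing (S ⧸ Q))) ∪
            (t : Set (FractionRing (S ⧸ Q)))) →
        ∃ e ∈ E, Ideal.Quotient.mk Q e = Ideal.Quotient.mk Q x := by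
  classical
  obtain ⟨v, hv, -, hmem, -, -⟩ := H9SInter.exists_image hA Q t
  haveI : IsNoetherianRing A := hA.1
  haveI : IsNoetherianRing S := (Groth.Agent.S0540.result A S).mp inferInstance
  let Mq := ((Q.comap (algebraMap A S)).map (algebraMap A S)).minimalPrimes
  haveI : Finite Mq := (Ideal.finite_minimalPrimes_of_isNoetherianRing S _).to_subtype
  have hex : ∀ Q' : Mq, ∃ v' : S, H9SInter.Simple A v' ∧
      Q'.1 = (Q'.1.comap (algebraMap (Algebra.adjoin A ({v'} : Set S)) S)).map
        (algebraMap (Algebra.adjoin A ({v'} : Set S)) S) := fun Q' => by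
    haveI := Q'.2.isPrime
    obtain ⟨v', hv', -, -, -, h'⟩ := H9SInter.exists_image hA Q'.1 (∅ : Finset _)
    exact ⟨v', hv', h'⟩
  choose v' hv' hgen using hex
  let W : Set S := insert v (Set.range v')
  have hW : ∀ w ∈ W, H9SInter.Simple A w := by
    rintro w (rfl | ⟨Q', rfl⟩)
    · exact hv
    · exact hv' Q'
  haveI := (inferInstance : Hensel.IsStrictHenselization A S).henselian
  have h : H9SInter.Strict A S := H9SInter.Strict.of_isStrictHenselization
  obtain ⟨hl, het⟩ := h.isEssentiallyEtale_adjoin ((Set.finite_range v').insert v) hW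
  refine ⟨Algebra.adjoin A W, hl, het, fun Q' hQ' => ?_, fun x hx => ?_⟩
  · exact H9SInter.map_comap_mono (Algebra.adjoin_mono (Set.singleton_subset_iff.mpr
      (Set.mem_insert_of_mem _ (Set.mem_range_self (f := v') ⟨Q', hQ'⟩)))) (hgen ⟨Q', hQ'⟩)
  · obtain ⟨e, he, hee⟩ := hmem x hx
    exact ⟨e, Algebra.adjoin_mono (Set.singleton_subset_iff.mpr (Set.mem_insert v _)) he, hee⟩

end Groth.Agent.S16446
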