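import Groth.Statements.S16452
import Groth.Prelude.Def_GrMap
import Mathlib.Algebra.DualNumber
import Mathlib.RingTheory.Ideal.Quotient.PowTransition
import Mathlib.RingTheory.Smooth.StandardSmoothCotangent

set_option autoImplicit false
universe u
open CAlg

namespace Groth.Agent.S16452

/-- Let R → S be formally étale and J an ideal of S such that the composite R → S → S/J is surjective;
let I ⊆ R be its kernel, the preimage of J in R. Then the homomorphism of associated graded rings ⊕ₙ
Iⁿ/Iⁿ⁺¹ → ⊕ₙ Jⁿ/Jⁿ⁺¹ induced by R → S (which carries I into J) is bijective. -/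
theorem result (R : Type u) [CommRing R] (S : Type u)
    [CommRing S] [Algebra R S] [Algebra.FormallyEtale R S] (J : Ideal S)
    (hJ : Function.Surjective (algebraMap R (S ⧸ J))) :
    Function.Bijective (AssocGr.map (AssocGr.IsFiltHom.adic
      (Ideal.map_comap_le : (J.comap (algebraMap R S)).map (algebraMap R S) ≤ J))) := by
  classical
  let I : Ideal R := J.comap (algebraMap R S)
  have key : ∀ n : ℕ, (J ^ n).comap (algebraMap R S) = I ^ n ∧
      ∀ b : S, ∃ a : R, b - algebraMap R S a ∈ J ^ n := by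
    intro n
    rcases Nat.eq_zero_or_pos n with rfl | hn
    · simp only [pow_zero, Ideal.one_eq_top]
      exact ⟨rfl, fun b => ⟨0, trivial⟩⟩
    let g₀ : (R ⧸ I) →ₐ[R] S ⧸ J :=
      Ideal.Quotient.liftₐ I (Algebra.ofId R (S ⧸ J)) fun a ha => Ideal.Quotient.eq_zero_iff_mem.mpr ha
    have hg₀ : Function.Bijective g₀ := by
      refine ⟨(injective_iff_map_eq_zero g₀).mpr fun a ha => ?_, fun b => ?_⟩
      · obtain ⟨a, rfl⟩ := Ideal.Quotient.mk_surjective a
        exact Ideal.Quotient.eq_zero_iff_mem.mpr (show a ∈ I from Ideal.mem_comap.mpr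
          (Ideal.Quotient.eq_zero_iff_mem.mp (show Ideal.Quotient.mk J (algebraMap R S a) = 0 from ha)))
      · obtain ⟨a, ha⟩ := hJ b
        exact ⟨Ideal.Quotient.mk I a, ha⟩
    let e := AlgEquiv.ofBijective g₀ hg₀
    let r : (R ⧸ I ^ n) →ₐ[R] R ⧸ I := Ideal.Quotient.factorₐ R (Ideal.pow_le_self hn.ne')
    have hr : Function.Surjective r := Ideal.Quotient.factor_surjective (Ideal.pow_le_self hn.ne')
    have hrn : IsNilpotent (RingHom.ker (r : R ⧸ I ^ n →+* R ⧸ I)) := by
      refine ⟨n, le_antisymm ?_ bot_le⟩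
      rw [show RingHom.ker (r : R ⧸ I ^ n →+* R ⧸ I) = I.map (Ideal.Quotient.mk (I ^ n)) from
        Ideal.Quotient.factor_ker (Ideal.pow_le_self hn.ne'), ← Ideal.map_pow, Ideal.map_quotient_self]
      rfl
    let f : S →ₐ[R] R ⧸ I := e.symm.toAlgHom.comp (Ideal.Quotient.mkₐ R J)
    let σ : S →ₐ[R] R ⧸ I ^ n := Algebra.FormallySmooth.liftOfSurjective f r hr hrn
    have hσ : ∀ s, r (σ s) = f s := Algebra.FormallySmooth.liftOfSurjective_apply f r hr hrn
    have hσJ : ∀ s ∈ J ^ n, σ s = 0 := by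
      intro s hs
      have h1 : J.map σ ≤ RingHom.ker (r : R ⧸ I ^ n →+* R ⧸ I) := by
        rw [Ideal.map_le_iff_le_comap]
        intro x hx
        rw [Ideal.mem_comap, RingHom.mem_ker]
        show r (σ x) = 0
        rw [hσ]
        show e.symm (Ideal.Quotient.mk J x) = 0
        rw [Ideal.Quotient.eq_zero_iff_mem.mpr hx, map_zero]
      have h2 : σ s ∈ J.map σ ^ n := Ideal.map_pow σ J n ▸ Ideal.mem_map_of_mem σ hs
      have h3 := Ideal.pow_right_mono h1 n h2
      rw [show RingHom.ker (r : R ⧸ I ^ n →+* R ⧸ I) = I.map (Ideal.Quotient.mk (I ^ n)) from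
        Ideal.Quotient.factor_ker (Ideal.pow_le_self hn.ne'), ← Ideal.map_pow, Ideal.map_quotient_self] at h3
      exact h3
    have hle : (I ^ n) ≤ (J ^ n).comap (algebraMap R S) :=
      Ideal.map_le_iff_le_comap.mp ((Ideal.map_pow _ _ _).trans_le (Ideal.pow_right_mono Ideal.map_comap_le n))
    refine ⟨le_antisymm (fun a ha => ?_) hle, fun b => ?_⟩
    · have := hσJ _ ha
      rw [AlgHom.commutes] at this
      exact Ideal.Quotient.eq_zero_iff_mem.mp this
    · let τ : (R ⧸ I ^ n) →ₐ[R] S ⧸ J ^ n :=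
        Ideal.Quotient.liftₐ _ (Algebra.ofId R (S ⧸ J ^ n)) fun a ha =>
          Ideal.Quotient.eq_zero_iff_mem.mpr (hle ha)
      let p : (S ⧸ J ^ n) →ₐ[R] S ⧸ J := Ideal.Quotient.factorₐ R (Ideal.pow_le_self hn.ne')
      have hp : IsNilpotent (RingHom.ker (p : S ⧸ J ^ n →+* S ⧸ J)) := by
        refine ⟨n, le_antisymm ?_ bot_le⟩
        rw [show RingHom.ker (p : S ⧸ J ^ n →+* S ⧸ J) = J.map (Ideal.Quotient.mk (J ^ n)) from
          Ideal.Quotient.factor_ker (Ideal.pow_le_self hn.ne'), ← Ideal.map_pow, Ideal.map_quotient_self]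
        rfl
      have hcomp : τ.comp σ = Ideal.Quotient.mkₐ R (J ^ n) := by
        refine Algebra.FormallyUnramified.lift_unique' p hp _ _ (AlgHom.ext fun s => ?_)
        have hpt : p.comp τ = g₀.comp r := Ideal.Quotient.algHom_ext _ (AlgHom.ext fun a => rfl)
        show p (τ (σ s)) = Ideal.Quotient.mk J s
        rw [← AlgHom.comp_apply, hpt, AlgHom.comp_apply, hσ]
        exact e.apply_symm_apply (Ideal.Quotient.mk J s)
      obtain ⟨a, ha⟩ := Ideal.Quotient.mk_surjective (σ b)
      refine ⟨a, Ideal.Quotient.eq.mp ?_⟩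
      have := AlgHom.congr_fun hcomp b
      rw [AlgHom.comp_apply, ← ha] at this
      exact this.symm
  constructor
  · rw [injective_iff_map_eq_zero]
    intro x hx
    obtain ⟨f, rfl⟩ := AssocGr.mkG_surjective _ x
    rw [AssocGr.mkG_eq_zero_iff]
    have hf := (AssocGr.mkG_eq_zero_iff _ _).mp hx
    intro n
    show (f : Polynomial R).coeff n ∈ I ^ (n + 1)
    rw [← (key (n + 1)).1, Ideal.mem_comap]
    have := hf n
    rwa [AssocGr.coe_reesMap, Polynomial.coeff_map] at this
  · intro y
    obtain ⟨g, rfl⟩ := AssocGr.mkG_surjective _ y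
    choose a ha using fun n => (key (n + 1)).2 ((g : Polynomial S).coeff n)
    let P : Polynomial R := ∑ n ∈ (g : Polynomial S).support, Polynomial.monomial n (a n)
    have hP : ∀ n, P.coeff n = if n ∈ (g : Polynomial S).support then a n else 0 := fun n => by
      simp [P, Polynomial.finset_sum_coeff, Polynomial.coeff_monomial]
    have hmem : P ∈ (FiltBl.IdealFiltration.adic I).rees := by
      rw [AssocGr.mem_rees_iff]
      intro n
      show P.coeff n ∈ I ^ n
      rw [hP]
      split_ifs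
      · rw [← (key n).1, Ideal.mem_comap]
        have h1 : (g : Polynomial S).coeff n ∈ J ^ n := g.2 n
        simpa using sub_mem h1 (Ideal.pow_le_pow_right n.le_succ (ha n))
      · exact zero_mem _
    refine ⟨AssocGr.mkG _ ⟨P, hmem⟩, ?_⟩
    refine Eq.trans (show _ = AssocGr.mkG _ (AssocGr.reesMap _ ⟨P, hmem⟩) from rfl) ?_
    rw [← sub_eq_zero, ← map_sub, AssocGr.mkG_eq_zero_iff]
    intro n
    show (((AssocGr.reesMap _ ⟨P, hmem⟩ : (FiltBl.IdealFiltration.adic J).rees) : Polynomial S) -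
      (g : Polynomial S)).coeff n ∈ J ^ (n + 1)
    rw [Polynomial.coeff_sub, AssocGr.coe_reesMap, Polynomial.coeff_map, hP]
    split_ifs with h
    · rw [← neg_sub]
      exact neg_mem (ha n)
    · rw [Polynomial.notMem_support_iff.mp h, map_zero, sub_zero]
      exact zero_mem _

end Groth.Agent.S16452
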