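import Groth.Statements.S16454
import Groth.Agent.H7Flat.FibreCriterion

set_option autoImplicit false
universe u
open TensorProduct
open EGA43

namespace Groth.Agent.S16454

/-- Let A be a commutative ring, I a nilpotent ideal of A and M an A-module, and form the associated
graded ring G = ⊕ₙ Iⁿ/Iⁿ⁺¹ and the associated graded G-module gr_I(M) = ⊕ₙ IⁿM/Iⁿ⁺¹M. Assume that
M/IM is flat over A/I and that the canonical homomorphism (M/IM) ⊗ G → gr_I(M), [x] ⊗ [a] ↦ [a·x],
is injective: degree by degree, whenever elements a_i ∈ Iⁿ and x_i ∈ M satisfy Σ_i [a_i]·[x_i] = 0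
in gr_I(M) (that is Σ a_i x_i ∈ Iⁿ⁺¹M), the element Σ_i [a_i] ⊗ [x_i] of (Iⁿ/Iⁿ⁺¹) ⊗ (M/IM) is zero.
Then M is a flat A-module. (The published lemma is stated for any finite decreasing multiplicative
filtration A = J₀ ⊇ J₁ ⊇ … ⊇ J_N₊₁ = 0 of A with M filtered by the submodules JₙM; this row is its
case Jₙ = Iⁿ.) -/
theorem result (A : Type u) [CommRing A] (I : Ideal A)
    (hI : IsNilpotent I) (M : Type u) [AddCommGroup M] [Module A M]
    (hflat : Module.Flat (A ⧸ I) (M ⧸ (I • (⊤ : Submodule A M))))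
    (hinj : ∀ (n k : ℕ) (a : Fin k → ↥((FiltBl.IdealFiltration.adic I).F n))
      (x : Fin k → ↥((Rees.powFilt I M).N 0)),
      (∑ i, (AssocGr.inDeg (FiltBl.IdealFiltration.adic I) n (a i) :
          AssocGr.GrRing (FiltBl.IdealFiltration.adic I)) •
        (AssocGr.inDegM (Rees.powFilt I M) 0 (x i) : AssocGr.GrMod (Rees.powFilt I M))) = 0 →
      (∑ i, (AssocGr.inDeg (FiltBl.IdealFiltration.adic I) n (a i)) ⊗ₜ[A]
          (Submodule.Quotient.mk (x i : M)) :
        ↥(AssocGr.gr (FiltBl.IdealFiltration.adic I) n) ⊗[A] (M ⧸ (I • (⊤ : Submodule A M)))) = 0) :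
    Module.Flat A M := by
  classical
  let 𝓕 := FiltBl.IdealFiltration.adic I
  let φ : ∀ n : ℕ, ↥(I ^ n) ⊗[A] M →ₗ[A] M := fun n =>
    TensorProduct.lift ((LinearMap.lsmul A M).comp (Submodule.subtype (I ^ n)))
  obtain ⟨N, hN⟩ := hI
  have key : ∀ d n, N ≤ n + d → Function.Injective (φ n) := by
    intro d
    induction d with
    | zero =>
      intro n hn
      have h0 : ∀ a : ↥(I ^ n), a = 0 := fun a => Subtype.ext <| by
        have := Ideal.pow_le_pow_right (show N ≤ n by omega) a.2
        rw [hN] at this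
        simpa using this
      haveI : Subsingleton ↥(I ^ n) := ⟨fun a b => (h0 a).trans (h0 b).symm⟩
      exact Function.injective_of_subsingleton _
    | succ d ih =>
      intro n hn
      rw [injective_iff_map_eq_zero]
      intro x hx
      let ι : ↥(I ^ (n + 1)) →ₗ[A] ↥(I ^ n) := Submodule.inclusion (Ideal.pow_le_pow_right (by omega))
      let π : ↥(I ^ n) →ₗ[A] ↥(AssocGr.gr 𝓕 n) := AssocGr.inDeg 𝓕 n
      have hex : Function.Exact ι π := by
        intro a
        refine ⟨fun h => ⟨⟨a.1, (AssocGr.inDeg_eq_zero_iff 𝓕 n a).mp h⟩, Subtype.ext rfl⟩, ?_⟩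
        rintro ⟨b, rfl⟩
        exact (AssocGr.inDeg_eq_zero_iff 𝓕 n _).mpr b.2
      obtain ⟨S, rfl⟩ := TensorProduct.exists_finset x
      obtain ⟨k, a, m, heq⟩ : ∃ (k : ℕ) (a : Fin k → ↥(I ^ n)) (m : Fin k → M),
          ∑ i ∈ S, i.1 ⊗ₜ[A] i.2 = ∑ i, a i ⊗ₜ[A] m i :=
        ⟨S.card, fun i => (S.equivFin.symm i).1.1, fun i => (S.equivFin.symm i).1.2,
          (Finset.sum_coe_sort S fun i => i.1 ⊗ₜ[A] i.2).symm.trans
            (S.equivFin.symm.sum_comp fun i => i.1.1 ⊗ₜ[A] i.1.2).symm⟩
      rw [heq] at hx ⊢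
      clear heq
      have hsum : ∑ i, (a i : A) • m i = 0 := by simpa [φ] using hx
      have hm : ∀ i, m i ∈ (Rees.powFilt I M).N 0 := fun i => by simp [Rees.powFilt]
      have h1 := hinj n k a (fun i => ⟨m i, hm i⟩) (by
        simp_rw [AssocGr.inDeg_smul_inDegM]
        rw [← AddSubgroup.val_finsetSum, ← map_sum]
        rw [ZeroMemClass.coe_eq_zero, AssocGr.inDegM_eq_zero_iff]
        simp [AddSubmonoidClass.coe_finsetSum, hsum])
      have hg : π.rTensor M (∑ i, a i ⊗ₜ[A] m i) = 0 := by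
        have hq : Function.Exact (I • ⊤ : Submodule A M).subtype (I • ⊤ : Submodule A M).mkQ :=
          LinearMap.exact_subtype_mkQ _
        have h2 := (lTensor_exact (↥(AssocGr.gr 𝓕 n)) hq (Submodule.mkQ_surjective _)
          (π.rTensor M (∑ i, a i ⊗ₜ[A] m i))).mp (by
            simp only [map_sum, LinearMap.rTensor_tmul, LinearMap.lTensor_tmul]
            exact h1)
        obtain ⟨y, hy⟩ := h2
        rw [← hy]
        have hz : ∀ (g : ↥(AssocGr.gr 𝓕 n)) (z : M), z ∈ I • (⊤ : Submodule A M) →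
            g ⊗ₜ[A] z = 0 := by
          intro g z hz
          induction hz using Submodule.smul_induction_on' with
          | smul r hr z _ =>
            obtain ⟨b, rfl⟩ := AssocGr.inDeg_surjective 𝓕 n g
            rw [← TensorProduct.smul_tmul, ← map_smul,
              (AssocGr.inDeg_eq_zero_iff 𝓕 n _).mpr (by
                change r * (b : A) ∈ I ^ (n + 1)
                rw [pow_succ']
                exact Ideal.mul_mem_mul hr b.2), TensorProduct.zero_tmul]
          | add z _ z' _ h h' => rw [TensorProduct.tmul_add, h, h', add_zero]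
        clear hy
        induction y with
        | zero => simp
        | add y y' h h' => rw [map_add, h, h', add_zero]
        | tmul g z => simpa using hz g z.1 z.2
      obtain ⟨y, hy⟩ := (rTensor_exact M hex (AssocGr.inDeg_surjective 𝓕 n) _).mp hg
      have hcomp : φ n ∘ₗ ι.rTensor M = φ (n + 1) := TensorProduct.ext' fun b z => by simp [φ, ι]
      have : y = 0 := ih (n + 1) (by omega) (by
        rw [← hcomp, LinearMap.comp_apply, hy, hx, map_zero])
      rw [← hy, this, map_zero]
  haveI : Module.Flat (A ⧸ I) ((A ⧸ I) ⊗[A] M) :=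
    Module.Flat.of_linearEquiv
      ((TensorProduct.quotTensorEquivQuotSMul M I).extendScalarsOfSurjective
        Ideal.Quotient.mk_surjective)
  refine H7Flat.flat_of_isNilpotent I ⟨N, hN⟩ ?_
  have h1 := key N 1 (by omega)
  let e : M ⊗[A] ↥I ≃ₗ[A] ↥(I ^ 1) ⊗[A] M :=
    (TensorProduct.comm A M ↥I).trans
      (LinearEquiv.rTensor M (LinearEquiv.ofEq I (I ^ 1) (pow_one I).symm))
  have heq : (TensorProduct.rid A M).toLinearMap ∘ₗ (Submodule.subtype I).lTensor M = φ 1 ∘ₗ e.toLinearMap :=
    TensorProduct.ext' fun z b => by simp [φ, e]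
  have h2 := h1.comp e.injective
  intro x y hxy
  apply h2
  have hx := LinearMap.congr_fun heq x
  have hy := LinearMap.congr_fun heq y
  simp only [LinearMap.comp_apply, LinearEquiv.coe_coe] at hx hy
  rw [Function.comp_apply, Function.comp_apply, ← hx, ← hy, hxy]

end Groth.Agent.S16454
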