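import Groth.Statements.S16455
import Mathlib
import Groth.Agent.H05EGA4.NormalFlat
import Groth.Prelude.Def_AssocGrMod

set_option autoImplicit false
universe u
open EGA4

open Groth.Agent Groth.Agent.H05EGA4 IsLocalRing

namespace Groth.Agent.S16455

/-- For a commutative ring A, an ideal I of A and an A-module M, the following are equivalent: every
quotient IⁿM/Iⁿ⁺¹M (n ≥ 0) is a flat A/I-module; the associated graded module gr_I(M) = ⊕ₙ
IⁿM/Iⁿ⁺¹M, as one module over A/I, is flat. Either condition says that M is normally flat along I.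
(The source defines normal flatness for a coherent module on a locally Noetherian scheme through the
second condition and notes it amounts to the first; the equivalence holds for every ring and
module.) -/
theorem result (A : Type u) [CommRing A] (I : Ideal A) (M : Type u)
    [AddCommGroup M] [Module A M] :
    EGA4.IsNormallyFlat I M ↔ Module.Flat (A ⧸ I) (AssocGr.GrMod (Rees.powFilt I M)) := by
  let F := Rees.powFilt I M
  let Q : ℕ → Type u := fun n => ↥(I ^ n • (⊤ : Submodule A M)) ⧸ (I • (⊤ : Submodule A ↥(I ^ n • (⊤ : Submodule A M))))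
  have hN : ∀ n, F.N n = I ^ n • (⊤ : Submodule A M) := fun n => rfl
  have hsucc : ∀ n, (I • (⊤ : Submodule A ↥(I ^ n • (⊤ : Submodule A M)))).map (Submodule.subtype _) = F.N (n + 1) := fun n => by
    rw [Submodule.map_smul'', Submodule.map_top, Submodule.range_subtype, ← mul_smul, ← pow_succ', hN]
  -- the map to the sum of the pieces
  let mon : ∀ n, ↥(I ^ n • (⊤ : Submodule A M)) →ₗ[A] AssocGr.GrMod F := fun n =>
    { toFun := fun x => AssocGr.mkGM F (AssocGr.monomM F n x)
      map_add' := fun x y => by
        rw [← map_add]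
        congr 1
        refine AssocGr.ReesM.ext F fun m => ?_
        simp only [AssocGr.ReesM.coeff_add, AssocGr.ReesM.coeff_monomM]
        split_ifs <;> simp
      map_smul' := fun a x => by
        rw [RingHom.id_apply, ← map_smul]
        congr 1
        refine AssocGr.ReesM.ext F fun m => ?_
        simp only [AssocGr.ReesM.coeff_smul_base, AssocGr.ReesM.coeff_monomM]
        split_ifs <;> simp }
  have hker : ∀ n, I • (⊤ : Submodule A ↥(I ^ n • (⊤ : Submodule A M))) ≤ LinearMap.ker (mon n) := fun n x hx => by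
    refine (AssocGr.mkGM_eq_zero_iff F _).mpr fun m => ?_
    rw [AssocGr.ReesM.coeff_monomM]
    split_ifs with h
    · subst h
      rw [← hsucc]
      exact ⟨x, hx, rfl⟩
    · exact zero_mem _
  let φA : ∀ n, Q n →ₗ[A] AssocGr.GrMod F := fun n => Submodule.liftQ _ (mon n) (hker n)
  let φ : ∀ n, Q n →ₗ[A ⧸ I] AssocGr.GrMod F := fun n =>
    LinearMap.extendScalarsOfSurjective (show Function.Surjective (algebraMap A (A ⧸ I)) from Ideal.Quotient.mk_surjective) (φA n)
  let Φ : (DirectSum ℕ Q) →ₗ[A ⧸ I] AssocGr.GrMod F := DirectSum.toModule (A ⧸ I) ℕ (AssocGr.GrMod F) φ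
  have hΦ : ∀ n (x : ↥(I ^ n • (⊤ : Submodule A M))),
      Φ (DirectSum.lof (A ⧸ I) ℕ Q n (Submodule.Quotient.mk x)) = AssocGr.mkGM F (AssocGr.monomM F n x) := fun n x => by
    show DirectSum.toModule (A ⧸ I) ℕ (AssocGr.GrMod F) φ _ = _
    erw [DirectSum.toModule_lof]
    rfl
  have hbij : Function.Bijective Φ := by
    refine ⟨@LinearMap.ker_eq_bot (A ⧸ I) (A ⧸ I) (DirectSum ℕ Q) (AssocGr.GrMod F) _ _ _ _ _ _ _ Φ |>.mp
      (LinearMap.ker_eq_bot'.mpr fun z hz => ?_), fun y => ?_⟩
    · classical
      choose s hs using fun n => Submodule.Quotient.mk_surjective _ (z n)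
      let y : AssocGr.ReesM F := ∑ n ∈ z.support, AssocGr.monomM F n (s n)
      have hy : Φ z = AssocGr.mkGM F y := by
        conv_lhs => rw [← DirectSum.sum_support_of z]
        rw [map_sum, map_sum]
        refine Finset.sum_congr rfl fun n _ => ?_
        rw [← hs n]
        exact hΦ n (s n)
      rw [hy, AssocGr.mkGM_eq_zero_iff] at hz
      refine DFinsupp.ext fun n => ?_
      by_cases hn : n ∈ z.support
      · have h1 := hz n
        rw [← AssocGr.ReesM.coeffHom_apply, map_sum] at h1
        simp only [AssocGr.ReesM.coeffHom_apply, AssocGr.ReesM.coeff_monomM, Finset.sum_ite_eq', if_pos hn] at h1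
        rw [← hsucc] at h1
        obtain ⟨x, hx, hxs⟩ := h1
        rw [← hs n]
        refine (Submodule.Quotient.mk_eq_zero _).mpr ?_
        rwa [show s n = x from Subtype.ext hxs.symm]
      · exact DFinsupp.notMem_support_iff.mp hn
    · obtain ⟨y, rfl⟩ := AssocGr.mkGM_surjective F y
      refine ⟨∑ n ∈ ((AssocGr.toReesM F).symm y : PolynomialModule A M).coeff.support,
        DirectSum.lof (A ⧸ I) ℕ Q n (Submodule.Quotient.mk ⟨AssocGr.ReesM.coeff F y n, AssocGr.ReesM.coeff_mem F y n⟩), ?_⟩
      conv_rhs => rw [← AssocGr.sum_termM F y]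
      rw [map_sum, map_sum]
      exact Finset.sum_congr rfl fun n _ => hΦ n _
  let e := LinearEquiv.ofBijective Φ hbij
  refine (Iff.intro (fun h => ?_) (fun h n => ?_))
  · haveI : ∀ n, Module.Flat (A ⧸ I) (Q n) := h
    exact Module.Flat.of_linearEquiv e.symm
  · haveI : Module.Flat (A ⧸ I) (DirectSum ℕ Q) := Module.Flat.of_linearEquiv e
    exact Module.Flat.directSum_iff.mp this n

end Groth.Agent.S16455
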