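import Groth.Statements.S16456
import Groth.Agent.H24AdicGr.Approx

set_option autoImplicit false
set_option linter.style.haveILetI false
universe u
open AdicGr

namespace Groth.Agent.S16456

/-- Let φ : A → B be a ring homomorphism, I ⊆ A and J ⊆ B ideals with φ(I)B ⊆ J, so that φ is a
homomorphism of filtered rings for the I-adic and J-adic filtrations. Assume that A is I-adically
complete in the sense that every I-adically Cauchy sequence has a limit, that B is J-adically
separated, and that the induced homomorphism of associated graded rings ⊕ₙ Iⁿ/Iⁿ⁺¹ → ⊕ₙ Jⁿ/Jⁿ⁺¹ is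
surjective. Then φ is surjective, φ is strict (Jⁿ = φ(Iⁿ)B for all n, that is J = φ(I)B), and B is
J-adically separated and complete. (The published statement is for a homomorphism of filtered
modules over a filtered ring, with arbitrary compatible filtrations; this row is its case of a ring
homomorphism with adic filtrations.) -/
theorem result (A : Type u) [CommRing A] (B : Type u)
    [CommRing B] (φ : A →+* B) (I : Ideal A) (J : Ideal B) (hIJ : I.map φ ≤ J)
    [IsPrecomplete I A] [IsHausdorff J B]
    (h : Function.Surjective (AssocGr.map (AssocGr.IsFiltHom.adic hIJ))) :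
    Function.Surjective φ ∧ I.map φ = J ∧ IsAdicComplete J B := by
    classical
    have hstep : ∀ (n : ℕ) (b : ↥(J ^ n)), ∃ a ∈ I ^ n, φ a - (b : B) ∈ J ^ (n + 1) := fun n b =>
      Groth.Agent.H24AdicGr.exists_of_map_surjective _ h n b.2
    choose a ha hab using hstep
    have key : ∀ (n : ℕ) (b : B), b ∈ J ^ n → ∃ L ∈ I ^ n, φ L = b := by
      intro n b hb
      let r : ∀ j, ↥(J ^ (n + j)) := fun j =>
        Nat.rec (motive := fun j => ↥(J ^ (n + j))) ⟨b, hb⟩
          (fun j z => ⟨z.1 - φ (a _ z), by rw [← neg_sub]; exact neg_mem (hab _ z)⟩) j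
      obtain ⟨L, hL⟩ := Groth.Agent.H24AdicGr.exists_limit I 0 (fun j => a (n + j) (r j))
        (fun j => Ideal.pow_le_pow_right (by omega) (ha (n + j) (r j)))
      have hr : ∀ j, (r j).1 = b - φ (∑ l ∈ Finset.range j, a (n + l) (r l)) := fun j => by
        induction j with
        | zero => simp [r]
        | succ j ih =>
          change (r j).1 - φ (a (n + j) (r j)) = _
          rw [ih, Finset.sum_range_succ, map_add]
          ring
      refine ⟨L, ?_, ?_⟩
      · have h1 := add_mem (hL n) (Ideal.sum_mem (I ^ (n - 0)) fun l (_ : l ∈ Finset.range n) =>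
          Ideal.pow_le_pow_right (by omega : n - 0 ≤ n + l) (ha (n + l) (r l)))
        rwa [sub_add_cancel, Nat.sub_zero] at h1
      · refine sub_eq_zero.mp (IsHausdorff.haus (I := J) inferInstance _ fun j => ?_)
        rw [SModEq.zero, smul_eq_mul, Ideal.mul_top,
          show φ L - b = φ (L - ∑ l ∈ Finset.range j, a (n + l) (r l)) - (r j).1 by rw [hr, map_sub]; ring]
        refine sub_mem ?_ (Ideal.pow_le_pow_right (by omega) (r j).2)
        have h1 := Ideal.mem_map_of_mem φ (hL j)
        rw [Nat.sub_zero, Ideal.map_pow] at h1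
        exact Ideal.pow_right_mono hIJ j h1
    have hsurj : Function.Surjective φ := fun b => by
      obtain ⟨L, -, hL⟩ := key 0 b (by simp)
      exact ⟨L, hL⟩
    have hIJ' : I.map φ = J := le_antisymm hIJ fun b hb => by
      obtain ⟨L, hL, rfl⟩ := key 1 b (by rwa [pow_one])
      exact Ideal.mem_map_of_mem φ (by rwa [pow_one] at hL)
    haveI : IsPrecomplete J B := ⟨fun x hx => by
      have hd : ∀ j, ∃ d ∈ I ^ j, φ d = x (j + 1) - x j := fun j => key j _ (by
        have := hx (Nat.le_succ j)
        rw [SModEq.sub_mem, smul_eq_mul, Ideal.mul_top] at this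
        rw [← neg_sub]
        exact neg_mem this)
      choose d hdI hd using hd
      obtain ⟨L, hL⟩ := Groth.Agent.H24AdicGr.exists_limit I 0 d (fun j => by simpa using hdI j)
      refine ⟨φ L + x 0, fun j => ?_⟩
      rw [SModEq.sub_mem, smul_eq_mul, Ideal.mul_top]
      have hxj : x j = φ (∑ l ∈ Finset.range j, d l) + x 0 := by
        induction j with
        | zero => simp
        | succ j ih => rw [Finset.sum_range_succ, map_add, hd, add_right_comm, ← ih, add_sub_cancel]
      rw [hxj, add_sub_add_right_eq_sub, ← map_sub, ← neg_sub, map_neg]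
      have h1 := Ideal.mem_map_of_mem φ (hL j)
      rw [Nat.sub_zero, Ideal.map_pow] at h1
      exact neg_mem (Ideal.pow_right_mono hIJ j h1)⟩
    exact ⟨hsurj, hIJ', ⟨⟩⟩

end Groth.Agent.S16456
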