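import Groth.Statements.S16459
import Groth.Agent.H24AdicGr.Approx

set_option autoImplicit false
set_option linter.style.haveILetI false
universe u
open AdicGr

namespace Groth.Agent.S16459

/-- Let A be a commutative ring and I an ideal such that every I-adically Cauchy sequence in A has a
limit, and let M be an A-module with an I-filtration M = N₀ ⊇ N₁ ⊇ … (I·Nₙ ⊆ Nₙ₊₁) which is
separated, ⋂ₙ Nₙ = 0. If the associated graded module gr(M) = ⊕ₙ Nₙ/Nₙ₊₁ is a Noetherian module over
the associated graded ring ⊕ₙ Iⁿ/Iⁿ⁺¹, then M is a Noetherian A-module and every submodule M' of M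
is closed for the topology defined by the filtration, that is ⋂ₙ (M' + Nₙ) = M'. (The published
statement allows any complete filtered ring; this row takes the I-adic filtration on A.) -/
theorem result (A : Type u) [CommRing A]
    (I : Ideal A) [IsPrecomplete I A] (M : Type u) [AddCommGroup M] [Module A M] (F : I.Filtration M)
    (h0 : F.N 0 = ⊤) (hsep : ⨅ n, F.N n = ⊥)
    [IsNoetherian (AssocGr.GrRing (FiltBl.IdealFiltration.adic I)) (AssocGr.GrMod F)] :
    IsNoetherian A M ∧ ∀ M' : Submodule A M, ⨅ n, M' ⊔ F.N n = M' := by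
    classical
    have key : ∀ T : Submodule A M, ∃ (k : ℕ) (d : Fin k → ℕ) (x : ∀ i, ↥(F.N (d i))), (∀ i, (x i : M) ∈ T) ∧
        ∀ T' : Submodule A M, T ≤ T' → (∀ n, F.N n ⊓ T' ≤ (F.N n ⊓ T) ⊔ F.N (n + 1)) →
          T' ≤ Submodule.span A (Set.range fun i => (x i : M)) := by
      intro T
      obtain ⟨k, d, x, hxT, hx⟩ := Groth.Agent.H24AdicGr.exists_homogeneous_generators F T (IsNoetherian.noetherian _)
      refine ⟨k, d, x, hxT, fun T' hTT' hT' => ?_⟩
      refine Groth.Agent.H24AdicGr.le_span_of_approx F h0 hsep d x T' (fun i => hTT' (hxT i)) fun n y hy => ?_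
      obtain ⟨m, hm, r, hr, hmr⟩ := Submodule.mem_sup.mp (hT' n ⟨y.2, hy⟩)
      obtain ⟨a, ha, ha', hmem⟩ := Groth.Agent.H24AdicGr.exists_coeffs F d x n ⟨m, hm.1⟩ (hx n ⟨m, hm.1⟩ hm.2)
      refine ⟨a, ha, ha', ?_⟩
      rw [← hmr, add_sub_right_comm]
      exact add_mem hmem hr
    refine ⟨⟨fun T => ?_⟩, fun T => le_antisymm ?_ (le_iInf fun n => le_sup_left)⟩
    · obtain ⟨k, d, x, hxT, hx⟩ := key T
      refine ⟨Finset.univ.image fun i => (x i : M), ?_⟩
      rw [Finset.coe_image, Finset.coe_univ, Set.image_univ]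
      exact le_antisymm (Submodule.span_le.mpr (by rintro _ ⟨i, rfl⟩; exact hxT i)) (hx T le_rfl fun n => le_sup_left)
    · obtain ⟨k, d, x, hxT, hx⟩ := key T
      have hanti : Antitone F.N := antitone_nat_of_succ_le F.mono
      refine (hx (⨅ n, T ⊔ F.N n) (le_iInf fun n => le_sup_left) fun n y hy => ?_).trans
        (Submodule.span_le.mpr (by rintro _ ⟨i, rfl⟩; exact hxT i))
      obtain ⟨hyn, hy'⟩ := hy
      obtain ⟨m, hm, r, hr, rfl⟩ := Submodule.mem_sup.mp ((Submodule.mem_iInf _).mp hy' (n + 1))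
      refine Submodule.add_mem_sup ⟨?_, hm⟩ hr
      have := sub_mem hyn (hanti (Nat.le_succ n) hr)
      rwa [add_sub_cancel_right] at this

end Groth.Agent.S16459
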