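import Groth.Statements.S16460
import Groth.Agent.H24AdicGr.Approx

set_option autoImplicit false
set_option linter.style.haveILetI false
universe u
open AdicGr

namespace Groth.Agent.S16460

/-- Let A be a commutative ring with a decreasing filtration by ideals A = F₀ ⊇ F₁ ⊇ F₂ ⊇ … satisfying
F_m·F_n ⊆ F_{m+n}, and assume the filtration is separated, ⋂ₙ Fₙ = 0. If the associated graded ring
⊕ₙ Fₙ/Fₙ₊₁ is an integral domain, then A is an integral domain. -/
theorem result (A : Type u) [CommRing A]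
    (𝓕 : FiltBl.IdealFiltration A) (hsep : ⨅ n, 𝓕.F n = ⊥) [IsDomain (AssocGr.GrRing 𝓕)] :
    IsDomain A := by
    classical
    haveI : Nontrivial A := by
      by_contra h
      rw [not_nontrivial_iff_subsingleton] at h
      have : (1 : AssocGr.GrRing 𝓕) = 0 := by
        rw [← map_one (algebraMap A (AssocGr.GrRing 𝓕)), Subsingleton.elim (1 : A) 0, map_zero]
      exact one_ne_zero this
    haveI : NoZeroDivisors A := ⟨fun {a b} hab => by
      by_contra h
      push_neg at h
      have hord : ∀ c : A, c ≠ 0 → ∃ n, c ∈ 𝓕.F n ∧ c ∉ 𝓕.F (n + 1) := fun c hc => by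
        by_contra hn
        push_neg at hn
        have : ∀ n, c ∈ 𝓕.F n := fun n => by
          induction n with
          | zero => rw [𝓕.zero_eq]; trivial
          | succ n ih => exact hn n ih
        exact hc ((Ideal.mem_bot).mp (hsep ▸ (Submodule.mem_iInf _).mpr this))
      obtain ⟨m, ha, ha'⟩ := hord a h.1
      obtain ⟨n, hb, hb'⟩ := hord b h.2
      have hne : ∀ (i : ℕ) (c : A) (hc : c ∈ 𝓕.F i), c ∉ 𝓕.F (i + 1) → (AssocGr.inDeg 𝓕 i ⟨c, hc⟩ : AssocGr.GrRing 𝓕) ≠ 0 :=
        fun i c hc hc' h0 => hc' ((AssocGr.inDeg_eq_zero_iff 𝓕 i ⟨c, hc⟩).mp (Submodule.coe_eq_zero.mp h0))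
      have := mul_ne_zero (hne m a ha ha') (hne n b hb hb')
      rw [AssocGr.coe_inDeg_mul] at this
      apply this
      rw [Submodule.coe_eq_zero, AssocGr.inDeg_eq_zero_iff]
      simp [hab]⟩
    exact NoZeroDivisors.to_isDomain A

end Groth.Agent.S16460
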