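import Groth.Statements.S16461
import Groth.Agent.H10Coh.FlatBC.BcQ
import Groth.Agent.S11133
-- import your own Groth.Agent.* helpers here

set_option autoImplicit false
universe u
open Coherent

namespace Groth.Agent.S16461

open CategoryTheory AlgebraicGeometry AlgebraicGeometry.Scheme.Modules in
/-- Part (1): (flat base change, with the base change morphism named): let X' = X ×_S S' be a cartesian
square of schemes with f : X → S quasi-compact and quasi-separated and g : S' → S flat, with
projections f' : X' → S' and g' : X' → X, and let M be a quasi-coherent O_X-module. Then for every i
≥ 0 the base change morphism g^*(R^i f_* M) → R^i f'_*(g'^* M) is an isomorphism, the higher direct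
images being the right derived functors of direct image on O-modules. (The exactness of the inverse
image g'^* on O-modules, which holds because g' is flat as a base change of g, is carried as an
instance argument: it is what the construction of the base change morphism uses and it is not
derivable from flatness at this level of generality here.) -/
theorem result {X S X' S' : Scheme.{u}} (f : X ⟶ S) (g : S' ⟶ S)
    (g' : X' ⟶ X) (f' : X' ⟶ S') (h : IsPullback g' f' f g) [QuasiCompact f] [QuasiSeparated f]
    [Flat g] [HasInjectiveResolutions X.Modules] [HasInjectiveResolutions X'.Modules]
    [Limits.PreservesFiniteLimits (pullback g')] (M : X.Modules) [Coh.IsQCoh M] (i : ℕ) :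
    IsIso (CohBC.bcQ f g f' g' h.w i M) := by
  cases i with
  | succ n => exact H10Coh.FBC.isIso_bcQ_succ f h M ‹Coh.IsQCoh M› n
  | zero =>
    have : (pushforward f).IsRightAdjoint := (pullbackPushforwardAdjunction f).isRightAdjoint
    have : (pushforward f').IsRightAdjoint := (pullbackPushforwardAdjunction f').isRightAdjoint
    have hbc : IsIso (CohBC.bc0 f g f' g' h.w M) := by
      have h0 := Groth.Agent.S11133.result f g g' f' h M
      rw [CohBC.bc0, CohBC.bc0Adj, Adjunction.homEquiv_counit]
      simp only [Functor.map_comp, Category.assoc] at h0 ⊢
      simpa only [Iso.trans_hom, NatTrans.comp_app, Iso.symm_hom, Functor.map_comp, Category.assoc] using h0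
    haveI := hbc
    haveI : IsIso ((pushforward f).toRightDerivedZero.app M) := inferInstance
    haveI : IsIso ((pushforward f').toRightDerivedZero.app ((pullback g').obj M)) := inferInstance
    exact IsIso.of_isIso_fac_left (CohBC.bcQ_zero_compat f g f' g' h.w M)


end Groth.Agent.S16461
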