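import Groth.Statements.S16469
import Groth.Agent.H29RR.SubBundle
import Groth.Agent.H29RR.CurveIntegral

set_option autoImplicit false
universe u
open CategoryTheory CategoryTheory.Limits AlgebraicGeometry
open VBCurve

namespace Groth.Agent.S16469

/-- Let X be a smooth proper integral curve (integral, smooth and proper of dimension one) over an
algebraically closed field k, and let E, F be finite locally free O_X-modules of ranks r ≥ 1, s ≥ 1,
both slope-semistable (deg G · rank ≤ deg · rank G on finite locally free submodules G of positive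
rank; degree = χ − rank·χ(O_X)) and of the same slope μ: deg E · s = deg F · r. Then for every
homomorphism f : E → F the kernel and the cokernel of f, taken in the abelian category of
O_X-modules, are finite locally free of some ranks r₀ and s₀, have slope μ when nonzero (deg(ker f)
· r = deg E · r₀ and deg(coker f) · s = deg F · s₀) and are slope-semistable: deg G · r₀ ≤ deg(ker
f) · n for every finite locally free submodule G ⊂ ker f of rank n ≥ 1, and likewise for coker f
with s₀. In other words the semistable bundles of slope μ form an abelian subcategory, and the image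
of f is a sub-bundle of F. -/
theorem result (k : Type u) [Field k] [IsAlgClosed k] (X : Scheme.{u}) [X.Over (Spec (CommRingCat.of k))]
    [IsIntegral X] [IsProper (X ↘ Spec (CommRingCat.of k))] [Smooth (X ↘ Spec (CommRingCat.of k))]
    (hdim : topologicalKrullDim X = 1)
    (r s : ℕ) (hr : 0 < r) (hs : 0 < s) (E F : X.Modules)
    (hE : FlatMod.IsFinLocFreeOfRank r E) (hF : FlatMod.IsFinLocFreeOfRank s F)
    (hEss : ModFun.IsSlopeSemistable k X E r) (hFss : ModFun.IsSlopeSemistable k X F s)
    (hμ : Curv2.deg k X E r * (s : ℤ) = Curv2.deg k X F s * (r : ℤ)) (f : E ⟶ F) :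
    (∃ r₀ : ℕ, FlatMod.IsFinLocFreeOfRank r₀ (kernel f) ∧
        Curv2.deg k X (kernel f) r₀ * (r : ℤ) = Curv2.deg k X E r * (r₀ : ℤ) ∧
        ∀ (G : X.Modules) (n : ℕ) (j : G ⟶ kernel f), Mono j → 0 < n → FlatMod.IsFinLocFreeOfRank n G →
          Curv2.deg k X G n * (r₀ : ℤ) ≤ Curv2.deg k X (kernel f) r₀ * (n : ℤ)) ∧
      (∃ s₀ : ℕ, FlatMod.IsFinLocFreeOfRank s₀ (cokernel f) ∧
        Curv2.deg k X (cokernel f) s₀ * (s : ℤ) = Curv2.deg k X F s * (s₀ : ℤ) ∧
        ∀ (G : X.Modules) (n : ℕ) (j : G ⟶ cokernel f), Mono j → 0 < n → FlatMod.IsFinLocFreeOfRank n G →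
          Curv2.deg k X G n * (s₀ : ℤ) ≤ Curv2.deg k X (cokernel f) s₀ * (n : ℤ)) := by
  haveI := H29RR.isNoetherian_of_proper (k := k) (X := X)
  obtain ⟨a, n, hK, hI, han, hn0, hd, hμ'⟩ := H29RR.semistable_image_ge (k := k) hdim.le hE hF hEss f
  have hr' : (0 : ℤ) < r := by exact_mod_cast hr
  have hs' : (0 : ℤ) < s := by exact_mod_cast hs
  have hle : Curv2.deg k X (Abelian.image f) n * (s : ℤ) ≤ Curv2.deg k X F s * (n : ℤ) := by
    rcases Nat.eq_zero_or_pos n with hn | hn
    · subst hn; simp [H29RR.deg_eq_zero_of_rank_zero (k := k) hI]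
    · exact hFss _ n (Abelian.image.ι f) inferInstance hn hI
  have hIeq : Curv2.deg k X (Abelian.image f) n * (s : ℤ) = Curv2.deg k X F s * (n : ℤ) := by
    refine le_antisymm hle ?_
    have h1 : Curv2.deg k X F s * (n : ℤ) * r ≤ Curv2.deg k X (Abelian.image f) n * (s : ℤ) * r := by
      nlinarith [mul_le_mul_of_nonneg_right hμ' hs'.le, congrArg (· * (n : ℤ)) hμ]
    exact le_of_mul_le_mul_right h1 hr'
  have hIeq' : Curv2.deg k X (Abelian.image f) n * (r : ℤ) = Curv2.deg k X E r * (n : ℤ) := by
    refine mul_right_cancel₀ hs'.ne' ?_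
    linear_combination (r : ℤ) * hIeq - (n : ℤ) * hμ
  have hKeq : Curv2.deg k X (kernel f) a * (r : ℤ) = Curv2.deg k X E r * (a : ℤ) := by
    have : (r : ℤ) = a + n := by omega
    rw [this] at hIeq' ⊢
    rw [hd] at hIeq' ⊢
    linear_combination -hIeq'
  refine ⟨⟨a, hK, hKeq, fun G m j hj hm hG => ?_⟩, ?_⟩
  · haveI := hj
    have h := hEss G m (j ≫ kernel.ι f) (mono_comp _ _) hm hG
    refine le_of_mul_le_mul_right ?_ hr'
    calc Curv2.deg k X G m * (a : ℤ) * r = Curv2.deg k X G m * r * a := by ring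
      _ ≤ Curv2.deg k X E r * m * a := mul_le_mul_of_nonneg_right h (Nat.cast_nonneg _)
      _ = Curv2.deg k X (kernel f) a * m * r := by rw [mul_right_comm _ _ (a : ℤ), ← hKeq]; ring
  let S := ShortComplex.mk (Abelian.image.ι f) (cokernel.π f) (kernel.condition _)
  have hS : S.ShortExact :=
    { exact := ShortComplex.exact_kernel _
      mono_f := inferInstanceAs (Mono (kernel.ι _))
      epi_g := inferInstanceAs (Epi (cokernel.π f)) }
  obtain ⟨c, hc⟩ := H29RR.exists_rank_quotient_of_max (k := k) hdim.le hS hI hF (fun G m hm hG => by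
    rcases Nat.eq_zero_or_pos n with hn | hn
    · subst hn
      exact le_of_eq ((H29RR.deg_eq_zero_of_rank_zero (k := k) hG).trans
        (H29RR.deg_eq_zero_of_rank_zero (k := k) hI).symm)
    · refine le_of_mul_le_mul_right ?_ hs'
      exact (hFss G n m hm hn hG).trans hIeq.ge)
  obtain ⟨hnc, hdc⟩ := H29RR.deg_add_of_shortExact (k := k) hS hI hF hc
  change Curv2.deg k X F s = Curv2.deg k X (Abelian.image f) n + Curv2.deg k X (cokernel f) c at hdc
  have hsc : (s : ℤ) = n + c := by omega
  have hCeq : Curv2.deg k X (cokernel f) c * (s : ℤ) = Curv2.deg k X F s * (c : ℤ) := by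
    rw [hdc, hsc] at hIeq ⊢
    linear_combination -hIeq
  refine ⟨c, hc, hCeq, fun G m j hj hm hG => ?_⟩
  haveI := hj
  obtain ⟨P, l, hl, hP, hdP⟩ := H29RR.exists_preimage (k := k) hdim.le hS hI hF hG j
  have h := hFss P (n + m) l hl (by omega) hP
  rw [hdP] at h
  change (Curv2.deg k X (Abelian.image f) n + Curv2.deg k X G m) * (s : ℤ) ≤ _ at h
  push_cast at h
  have h' : Curv2.deg k X G m * (s : ℤ) ≤ Curv2.deg k X F s * (m : ℤ) := by nlinarith
  refine le_of_mul_le_mul_right ?_ hs'
  calc Curv2.deg k X G m * (c : ℤ) * s = Curv2.deg k X G m * s * c := by ring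
    _ ≤ Curv2.deg k X F s * m * c := mul_le_mul_of_nonneg_right h' (Nat.cast_nonneg _)
    _ = Curv2.deg k X (cokernel f) c * m * s := by rw [mul_right_comm _ _ (c : ℤ), ← hCeq]; ring

end Groth.Agent.S16469
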