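import Groth.Statements.S16470
import Groth.Agent.H29RR.SubBundle
import Groth.Agent.H29RR.CurveIntegral

set_option autoImplicit false
universe u
open CategoryTheory CategoryTheory.Limits AlgebraicGeometry
open VBCurve

namespace Groth.Agent.S16470

/-- Let X be a smooth proper integral curve (integral, smooth and proper of dimension one) over an
algebraically closed field k and E a finite locally free O_X-module of rank r ≥ 1 (degree = χ −
rank·χ(O_X), slope = degree / rank). There is a finite locally free submodule E₁ ⊂ E (a monomorphism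
of O_X-modules) of some rank r₁ ≥ 1, the destabilising sub-bundle, such that: every finite locally
free submodule F ⊂ E of rank r' ≥ 1 has slope at most that of E₁ (deg F · r₁ ≤ deg E₁ · r'); and the
maximal slope drops in the quotient, i.e. every finite locally free submodule G of rank r' ≥ 1 of
the cokernel E/E₁ has deg G · r₁ < deg E₁ · r'. Moreover a submodule with these two properties is
unique: any two are the same subobject of E. (Such an E₁ is slope-semistable, every submodule of E₁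
being a submodule of E; the published statement lists semistability of E₁ as a third property, which
is therefore omitted here.) -/
theorem result (k : Type u) [Field k] [IsAlgClosed k] (X : Scheme.{u}) [X.Over (Spec (CommRingCat.of k))]
    [IsIntegral X] [IsProper (X ↘ Spec (CommRingCat.of k))] [Smooth (X ↘ Spec (CommRingCat.of k))]
    (hdim : topologicalKrullDim X = 1)
    (r : ℕ) (hr : 0 < r) (E : X.Modules) (hE : FlatMod.IsFinLocFreeOfRank r E) :
    (∃ (E₁ : X.Modules) (r₁ : ℕ) (i₁ : E₁ ⟶ E), Mono i₁ ∧ 0 < r₁ ∧ FlatMod.IsFinLocFreeOfRank r₁ E₁ ∧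
      (∀ (F : X.Modules) (r' : ℕ) (j : F ⟶ E), Mono j → 0 < r' → FlatMod.IsFinLocFreeOfRank r' F →
        Curv2.deg k X F r' * (r₁ : ℤ) ≤ Curv2.deg k X E₁ r₁ * (r' : ℤ)) ∧
      (∀ (Q : X.Modules) (s : ℕ) (j : Q ⟶ cokernel i₁), Mono j → 0 < s → FlatMod.IsFinLocFreeOfRank s Q →
        Curv2.deg k X Q s * (r₁ : ℤ) < Curv2.deg k X E₁ r₁ * (s : ℤ))) ∧
    (∀ (E₁ E₁' : X.Modules) (r₁ r₁' : ℕ) (i₁ : E₁ ⟶ E) (i₁' : E₁' ⟶ E),
      Mono i₁ → 0 < r₁ → FlatMod.IsFinLocFreeOfRank r₁ E₁ →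
      (∀ (F : X.Modules) (r' : ℕ) (j : F ⟶ E), Mono j → 0 < r' → FlatMod.IsFinLocFreeOfRank r' F →
        Curv2.deg k X F r' * (r₁ : ℤ) ≤ Curv2.deg k X E₁ r₁ * (r' : ℤ)) →
      (∀ (Q : X.Modules) (s : ℕ) (j : Q ⟶ cokernel i₁), Mono j → 0 < s → FlatMod.IsFinLocFreeOfRank s Q →
        Curv2.deg k X Q s * (r₁ : ℤ) < Curv2.deg k X E₁ r₁ * (s : ℤ)) →
      Mono i₁' → 0 < r₁' → FlatMod.IsFinLocFreeOfRank r₁' E₁' →
      (∀ (F : X.Modules) (r' : ℕ) (j : F ⟶ E), Mono j → 0 < r' → FlatMod.IsFinLocFreeOfRank r' F →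
        Curv2.deg k X F r' * (r₁' : ℤ) ≤ Curv2.deg k X E₁' r₁' * (r' : ℤ)) →
      (∀ (Q : X.Modules) (s : ℕ) (j : Q ⟶ cokernel i₁'), Mono j → 0 < s → FlatMod.IsFinLocFreeOfRank s Q →
        Curv2.deg k X Q s * (r₁' : ℤ) < Curv2.deg k X E₁' r₁' * (s : ℤ)) →
      ∃ e : E₁ ≅ E₁', e.hom ≫ i₁' = i₁) := by
  refine ⟨?_, fun E₁ E₁' r₁ r₁' i₁ i₁' hi hr₁ hE₁ hmax hq hi' hr₁' hE₁' hmax' hq' => ?_⟩
  · obtain ⟨E₁, r₁, i₁, hi, hr₁, hE₁, h1, h2⟩ := H29RR.exists_maxSlope (k := k) hdim.le hr hE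
    refine ⟨E₁, r₁, i₁, hi, hr₁, hE₁, h1, fun Q s j hj hs hQ => ?_⟩
    haveI := hi
    haveI := hj
    let S := ShortComplex.mk i₁ (cokernel.π i₁) (cokernel.condition i₁)
    have hS : S.ShortExact := { exact := ShortComplex.exact_cokernel _ }
    obtain ⟨P, l, hl, hP, hd⟩ := H29RR.exists_preimage (k := k) hdim.le hS hE₁ hE hQ j
    have h := h1 P (r₁ + s) l hl (by omega) hP
    have h' := h2 P (r₁ + s) l hl (by omega) hP
    rw [hd] at h h'
    change (Curv2.deg k X E₁ r₁ + Curv2.deg k X Q s) * (r₁ : ℤ) ≤ _ at h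
    change (Curv2.deg k X E₁ r₁ + Curv2.deg k X Q s) * (r₁ : ℤ) = _ → _ at h'
    push_cast at h h'
    refine lt_of_le_of_ne (by nlinarith) fun he => ?_
    have := h' (by linear_combination he)
    omega
  · haveI := hi
    haveI := hi'
    have key : ∀ (A A' : X.Modules) (a a' : ℕ) (l : A ⟶ E) (l' : A' ⟶ E), Mono l → Mono l' → 0 < a → 0 < a' →
        FlatMod.IsFinLocFreeOfRank a A → FlatMod.IsFinLocFreeOfRank a' A' →
        (∀ (F : X.Modules) (r' : ℕ) (j : F ⟶ E), Mono j → 0 < r' → FlatMod.IsFinLocFreeOfRank r' F →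
          Curv2.deg k X F r' * (a : ℤ) ≤ Curv2.deg k X A a * (r' : ℤ)) →
        (∀ (F : X.Modules) (r' : ℕ) (j : F ⟶ E), Mono j → 0 < r' → FlatMod.IsFinLocFreeOfRank r' F →
          Curv2.deg k X F r' * (a' : ℤ) ≤ Curv2.deg k X A' a' * (r' : ℤ)) →
        (∀ (Q : X.Modules) (s : ℕ) (j : Q ⟶ cokernel l'), Mono j → 0 < s → FlatMod.IsFinLocFreeOfRank s Q →
          Curv2.deg k X Q s * (a' : ℤ) < Curv2.deg k X A' a' * (s : ℤ)) →
        ∃ φ : A ⟶ A', φ ≫ l' = l := by
      intro A A' a a' l l' hl hl' ha ha' hA hA' hm hm' hq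
      haveI := hl
      haveI := hl'
      have hAss : H29RR.SemistableBundle k X A a := fun G s i hmi hs hG => by
        haveI := hmi
        exact hm G s (i ≫ l) (mono_comp _ _) hs hG
      obtain ⟨c, hc⟩ := H29RR.exists_rank_quotient_of_max (k := k) hdim.le
        (S := ShortComplex.mk l' (cokernel.π l') (cokernel.condition l'))
        { exact := ShortComplex.exact_cokernel _ } hA' hE (fun G m hml hG => by
          refine le_of_mul_le_mul_right ?_ (show (0 : ℤ) < a' by exact_mod_cast ha')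
          exact hm' G a' m hml ha' hG)
      obtain ⟨b, n, -, hI, -, hn0, -, hμ⟩ :=
        H29RR.semistable_image_ge (k := k) hdim.le hA hc hAss (l ≫ cokernel.π l')
      by_cases hz : l ≫ cokernel.π l' = 0
      · exact ⟨(ShortComplex.exact_cokernel l').lift l hz, ShortComplex.Exact.lift_f _ _ _⟩
      · exfalso
        have h := hq (Abelian.image (l ≫ cokernel.π l')) n (Abelian.image.ι _) inferInstance (hn0 hz) hI
        have e1 := hm A' a' l' hl' ha' hA'
        have e2 := hm' A a l hl ha hA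
        have ha0 : (0 : ℤ) < a := by exact_mod_cast ha
        have ha0' : (0 : ℤ) < a' := by exact_mod_cast ha'
        nlinarith [mul_le_mul_of_nonneg_right hμ ha0'.le, mul_lt_mul_of_pos_right h ha0,
          congrArg (· * (n : ℤ)) (le_antisymm e1 e2)]
    obtain ⟨φ, hφ⟩ := key E₁ E₁' r₁ r₁' i₁ i₁' hi hi' hr₁ hr₁' hE₁ hE₁' hmax hmax' hq'
    obtain ⟨ψ, hψ⟩ := key E₁' E₁ r₁' r₁ i₁' i₁ hi' hi hr₁' hr₁ hE₁' hE₁ hmax' hmax hq
    exact ⟨⟨φ, ψ, by rw [← cancel_mono i₁, Category.assoc, hψ, hφ, Category.id_comp],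
      by rw [← cancel_mono i₁', Category.assoc, hφ, hψ, Category.id_comp]⟩, hφ⟩

end Groth.Agent.S16470
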