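import Groth.Statements.S16474
import Groth.Agent.H20Comod.GLTwist

set_option autoImplicit false
open LaurentPolynomial
open ComodTens

namespace Groth.Agent.S16474

/-- Let r ≥ 1 and let V be a finite-dimensional rational representation of the general linear group GL_r
over the complex numbers (a finite-dimensional comodule over its coordinate Hopf algebra) which is
homogeneous of some integer degree h, i.e. restricted to the scalar one-parameter subgroup t ↦ t·1
every vector of V has weight h. Then there are natural numbers a, b, c with c > 0 such that V is a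
direct summand, as a representation, of ((ℂ^r)^(⊗a))^(⊕b) ⊗ det^(-c): there are equivariant linear
maps i : V → E and p : E → V with p ∘ i the identity, where E is the direct sum of b copies of the
a-th tensor power of the standard representation on ℂ^r, twisted by the (−c)-th power of the
determinant character. -/
theorem result (r : ℕ) (hr : 0 < r)
    (V : Type) [AddCommGroup V] [Module ℂ V] [Module.Finite ℂ V] (ρ : HopfRep.Comod ℂ (CoordGrp.GLn r ℂ) V)
    (h : ℤ)
    (hh : @HopfRep.eigenspace ℂ ℂ[T;T⁻¹] _ _ _ V _ _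
      (GLin.comodAlong (CoordGrp.GLn.diag r ℂ (fun _ => 1)) ρ) (T h) = ⊤) :
    ∃ (a b c : ℕ), 0 < c ∧
      ∃ (i : V →ₗ[ℂ] (Fin b → TensorPower ℂ a (Fin r → ℂ)))
        (p : (Fin b → TensorPower ℂ a (Fin r → ℂ)) →ₗ[ℂ] V),
        p ∘ₗ i = LinearMap.id ∧
        @Hoch.IsComodHom ℂ _ (CoordGrp.GLn r ℂ) _ _ _ V _ _ ρ (Fin b → TensorPower ℂ a (Fin r → ℂ)) _ _
          (ComodTens.Comod.twist
            (ComodTens.Comod.pi fun _ : Fin b =>
              ComodTens.Comod.tpow (GLin.comodAlong (CoordGrp.Mat.toGLn r ℂ) (ComodTens.stdVec r ℂ)) a)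
            (CoordGrp.GLn.Dinv ^ c) (IsGroupLikeElem.pow ⟨CoordGrp.GLn.counit_Dinv, CoordGrp.GLn.comul_Dinv⟩)) i ∧
        @Hoch.IsComodHom ℂ _ (CoordGrp.GLn r ℂ) _ _ _ (Fin b → TensorPower ℂ a (Fin r → ℂ)) _ _
          (ComodTens.Comod.twist
            (ComodTens.Comod.pi fun _ : Fin b =>
              ComodTens.Comod.tpow (GLin.comodAlong (CoordGrp.Mat.toGLn r ℂ) (ComodTens.stdVec r ℂ)) a)
            (CoordGrp.GLn.Dinv ^ c) (IsGroupLikeElem.pow ⟨CoordGrp.GLn.counit_Dinv, CoordGrp.GLn.comul_Dinv⟩)) V _ _ ρ p := by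
  letI := ρ
  refine H20Comod.exists_summand_twist_tpow hr ρ h fun v => ?_
  have hv : v ∈ (⊤ : Submodule ℂ V) := trivial
  rw [← hh] at hv
  exact hv

end Groth.Agent.S16474
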