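import Groth.Statements.S16478
import Mathlib

set_option autoImplicit false
universe u
open GaDual

namespace Groth.Agent.S16478

open scoped TensorProduct

/-- Let A be a commutative ring of prime characteristic p and n ≥ 1, and let φ be the comorphism of the
closed immersion α_{p^n} → G_a over A: the bialgebra map from the Hopf algebra of the additive group
(generator t primitive) to A[x]/(x^(p^n)) (x primitive) sending t to x. Then the restriction map on
characters, from those of the additive group over A to those of α_{p^n} over A, is surjective: every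
group-like element of A[x]/(x^(p^n)) is the image under φ of a group-like element of the Hopf
algebra of the additive group. -/
theorem result (p : ℕ) [Fact p.Prime] (A : Type u) [CommRing A] [CharP A p]
    (n : ℕ) (hn : 1 ≤ n) (φ : SekSuwa.A A 0 →ₐc[A] AlphaPn.A p n A) (hφ : φ SekSuwa.A.t = AlphaPn.x p n A)
    (u : AlphaPn.A p n A) (hu : IsGroupLikeElem A u) :
    ∃ g : SekSuwa.A A 0, IsGroupLikeElem A g ∧ φ g = u := by
  haveI : Nontrivial A := CharP.nontrivial_of_char_ne_one (R := A) (v := p) (Fact.out : p.Prime).ne_one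
  let b := AlphaPn.basis p n A
  let σ : AlphaPn.A p n A →ₗ[A] SekSuwa.A A 0 := b.constr A fun i => SekSuwa.A.t ^ (i : ℕ)
  have hσ : ∀ i : ℕ, i < p ^ n → σ (AlphaPn.x p n A ^ i) = SekSuwa.A.t ^ i := fun i hi => by
    have := b.constr_basis A (fun j : Fin (p ^ n) => (SekSuwa.A.t : SekSuwa.A A 0) ^ (j : ℕ)) ⟨i, hi⟩
    rwa [AlphaPn.basis_apply] at this
  refine ⟨σ u, ⟨?_, ?_⟩, ?_⟩
  · have : (CoalgebraStruct.counit (R := A) (A := SekSuwa.A A 0)).comp σ =
        CoalgebraStruct.counit (R := A) (A := AlphaPn.A p n A) := b.ext fun i => by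
      rw [LinearMap.comp_apply, AlphaPn.basis_apply, hσ i i.2]
      rw [Bialgebra.counit_pow, Bialgebra.counit_pow, SekSuwa.A.counit_t, AlphaPn.counit_x]
    exact (LinearMap.congr_fun this u).trans hu.counit_eq_one
  · have : (CoalgebraStruct.comul (R := A) (A := SekSuwa.A A 0)).comp σ =
        (TensorProduct.map σ σ).comp (CoalgebraStruct.comul (R := A) (A := AlphaPn.A p n A)) := b.ext fun i => by
      rw [LinearMap.comp_apply, LinearMap.comp_apply, AlphaPn.basis_apply, hσ i i.2, Bialgebra.comul_pow,
        Bialgebra.comul_pow, SekSuwa.A.comul_t, AlphaPn.comul_x, zero_smul, add_zero, add_pow, add_pow, map_sum]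
      refine Finset.sum_congr rfl fun k hk => ?_
      have hk' : k ≤ (i : ℕ) := Nat.lt_succ_iff.1 (Finset.mem_range.1 hk)
      rw [Algebra.TensorProduct.tmul_pow, Algebra.TensorProduct.tmul_pow, Algebra.TensorProduct.tmul_pow,
        Algebra.TensorProduct.tmul_pow, one_pow, one_pow, one_pow, one_pow, Algebra.TensorProduct.tmul_mul_tmul,
        Algebra.TensorProduct.tmul_mul_tmul, mul_one, one_mul, mul_one, one_mul, ← nsmul_eq_mul',
        ← nsmul_eq_mul', map_nsmul, TensorProduct.map_tmul, hσ _ (hk'.trans_lt i.2),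
        hσ _ ((Nat.sub_le _ _).trans_lt i.2)]
    rw [← LinearMap.comp_apply, this, LinearMap.comp_apply, hu.comul_eq_tmul_self, TensorProduct.map_tmul]
  · have : (φ : SekSuwa.A A 0 →ₐ[A] AlphaPn.A p n A).toLinearMap.comp σ = LinearMap.id := b.ext fun i => by
      rw [LinearMap.comp_apply, AlphaPn.basis_apply, hσ i i.2]
      simp [hφ]
    exact LinearMap.congr_fun this u

end Groth.Agent.S16478
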