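import Groth.Statements.S16482
import Mathlib

set_option autoImplicit false
open CategoryTheory CategoryTheory.Limits AlgebraicGeometry
universe u
open FrobSch

namespace Groth.Agent.S16482

/-- Let p be a prime and S a reduced scheme on which p = 0 whose absolute Frobenius is flat; let Y be a
reduced S-scheme with structure map a, Z an S-scheme with structure map b, and g₁, g₂ : Y ⟶ Z two
S-morphisms. For i = 1, 2 let h_i : Y ⟶ Z^(p) be the relative Frobenius F_{Y/S} : Y ⟶ Y^(p) followed
by the base change Y^(p) ⟶ Z^(p) of g_i along the absolute Frobenius of S. If h₁ = h₂, then g₁ = g₂.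
(The published statement works over the reduced special fibre of a flat formal scheme of finite type
over the Witt vectors of a perfect field; only reducedness of S and flatness of its absolute
Frobenius are kept here.) -/
theorem result (p : ℕ) [Fact p.Prime]
    {Y Z S : Scheme.{u}} [FrobSch.IsCharP S p] [IsReduced S] [Flat (FrobSch.frob S p)]
    [IsReduced Y] (a : Y ⟶ S) (b : Z ⟶ S) (g₁ g₂ : Y ⟶ Z) (hg₁ : g₁ ≫ b = a) (hg₂ : g₂ ≫ b = a)
    (h : FrobSch.relFrob a p ≫ pullback.map a (FrobSch.frob S p) b (FrobSch.frob S p) g₁ (𝟙 S) (𝟙 S)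
        ((Category.comp_id a).trans hg₁.symm) ((Category.comp_id _).trans (Category.id_comp _).symm) =
      FrobSch.relFrob a p ≫ pullback.map a (FrobSch.frob S p) b (FrobSch.frob S p) g₂ (𝟙 S) (𝟙 S)
        ((Category.comp_id a).trans hg₂.symm) ((Category.comp_id _).trans (Category.id_comp _).symm)) :
    g₁ = g₂ := by
  haveI : FrobSch.IsCharP Y p := FrobSch.IsCharP.of_hom a p
  have h0 : FrobSch.frob Y p ≫ g₁ = FrobSch.frob Y p ≫ g₂ := by
    have h1 := h =≫ pullback.fst b (FrobSch.frob S p)
    simp only [Category.assoc, pullback.map, pullback.lift_fst, FrobSch.relFrob_fst_assoc] at h1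
    exact h1
  have hb : g₁.base = g₂.base := congrArg (fun m => m.base) h0
  refine Scheme.Hom.ext hb fun U => ?_
  ext s
  have hU : g₂ ⁻¹ᵁ U = g₁ ⁻¹ᵁ U := by
    ext y; simp [hb]
  have h2 := Scheme.Hom.congr_app h0 U
  apply (show Function.Injective fun t : Γ(Y, g₂ ⁻¹ᵁ U) => t ^ p from fun t t' ht => by
    have h3 : (t - t') ^ p = 0 := by
      rcases subsingleton_or_nontrivial Γ(Y, g₂ ⁻¹ᵁ U) with hs | hs
      · exact Subsingleton.elim _ _
      · haveI : CharP Γ(Y, g₂ ⁻¹ᵁ U) p :=
          (CharP.charP_iff_prime_eq_zero Fact.out).mpr (FrobSch.natCast_eq_zero_app Y p _)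
        rw [sub_pow_char]; exact sub_eq_zero.mpr ht
    exact sub_eq_zero.mp (eq_zero_of_pow_eq_zero h3))
  have h4 := (ConcreteCategory.congr_hom h2 s)
  simp only [Scheme.Hom.comp_app, ConcreteCategory.comp_apply] at h4
  show ((g₁.app U ≫ Y.presheaf.map (eqToHom hU).op) s) ^ p = (g₂.app U s) ^ p
  rw [ConcreteCategory.comp_apply]
  change (g₁.app U s) ^ p = Y.presheaf.map _ ((g₂.app U s) ^ p) at h4
  rw [← map_pow, h4, ← ConcreteCategory.comp_apply, ← Y.presheaf.map_comp]
  rw [Subsingleton.elim (_ ≫ _) (𝟙 _), Y.presheaf.map_id]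
  rfl

end Groth.Agent.S16482
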