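import Groth.Statements.S16489
import Groth.Agent.H29Ref.Hartogs

set_option autoImplicit false
universe u
open CategoryTheory CategoryTheory.Limits AlgebraicGeometry TopologicalSpace
open VBPn

namespace Groth.Agent.S16489

/-- Let X be an integral locally Noetherian scheme all of whose local rings are regular, and F a
coherent O_X-module. Call F normal when for all open subsets V ⊆ U of X such that every point of U
not in V has local ring O_{X,x} of dimension at least 2, the restriction map F(U) → F(V) is
bijective. Then F is reflexive (the canonical map F → F^** is an isomorphism) if and only if F is
torsion-free (each stalk F_x is a torsion-free O_{X,x}-module) and normal. The published statement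
is for coherent analytic sheaves on a complex manifold, a sheaf being called normal when for every
open U and every analytic subset A ⊆ U of codimension at least 2 the restriction F(U) → F(U ∖ A) is
bijective; this row is its statement for coherent sheaves on a regular integral locally Noetherian
scheme, with normality phrased through open subsets V ⊆ U whose complement in U consists of points
with local ring of dimension at least 2, where the same argument applies. -/
theorem result (X : Scheme.{u}) [IsIntegral X] [IsLocallyNoetherian X]
    (hreg : ∀ x : X, IsRegularLocalRing (X.presheaf.stalk x)) (F : X.Modules) (hF : Coh.IsCoh F) :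
    RefHull.IsReflexive F ↔
      TorSh.IsTorsionFree F ∧
      (∀ (U V : X.Opens) (hVU : V ≤ U), (∀ x : X, x ∈ U → x ∉ V → (2 : WithBot ℕ∞) ≤ ringKrullDim (X.presheaf.stalk x)) →
        Function.Bijective (F.presheaf.map (homOfLE hVU).op)) := by
  constructor
  · intro hr
    exact ⟨H29Ref.isTorsionFree_of_isReflexive F hF hr, fun U V hVU h =>
      H29Ref.bijective_res (H29Ref.isNormalScheme_of_regular hreg) F hF hr hVU h⟩
  · rintro ⟨ht, h⟩
    exact H29Ref.isReflexive_of_res (H29Ref.isNormalScheme_of_regular hreg) F hF ht
      fun U V hVU h' => (h U V hVU h').2

end Groth.Agent.S16489
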