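import Groth.Statements.S16493
import Groth.Agent.H4RSH.CurveBidual
import Groth.Agent.H25Index.HHIneq

set_option autoImplicit false
set_option synthInstance.maxHeartbeats 400000
set_option maxHeartbeats 1000000
set_option linter.style.haveILetI false
universe u
open CategoryTheory CategoryTheory.Limits AlgebraicGeometry
attribute [local instance] HasDerivedCategory.standard
open TFCurv

namespace Groth.Agent.S16493

/-- Let X be an integral proper curve (integral, proper, of dimension one) over an algebraically closed
field k, ω_X its dualizing module (the cohomology sheaf in degree -1 of f^! O for f : X → Spec k,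
assuming the derived direct image Rf_* on D_QCoh and its right adjoint exist, which is how the
prelude presents f^!), and F a coherent torsion-free O_X-module of rank n (its stalk at the generic
point has dimension n over the function field). Define the degree of a module G of rank n by the
formula deg G = χ(G) − n·χ(O_X), and the arithmetic genus by g = 1 − χ(O_X). Then the ω-dual F* =
𝓗om_{O_X}(F, ω_X) has degree deg F* = n(2g − 2) − deg F. -/
theorem result (k : Type u) [Field k] [IsAlgClosed k] (X : Scheme.{u}) [X.Over (Spec (CommRingCat.of k))]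
    [IsIntegral X] [IsProper (X ↘ (Spec (CommRingCat.of k)))] (hdim : topologicalKrullDim X = 1)
    [DCoh.HasRpush (X ↘ (Spec (CommRingCat.of k)))] (h : DCoh.RpushPreservesQCoh (X ↘ (Spec (CommRingCat.of k)))) [DCoh.HasShriek (X ↘ (Spec (CommRingCat.of k))) h]
    (OY : DCoh.DQCoh (Spec (CommRingCat.of k))) (hOY : Nonempty (OY.obj ≅ DCoh.inD (Spec (CommRingCat.of k)) (Coh.structureModule (Spec (CommRingCat.of k)))))
    (F : X.Modules) (hFc : Coh.IsCoh F) (hFt : TorSh.IsTorsionFree F) (n : ℕ)
    (hn : Module.finrank (X.presheaf.stalk (genericPoint X)) (F.presheaf.stalk (genericPoint X)) = n) :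
    Curv2.deg k X (RefHull.homSh F (DCoh.dualizingMod (X ↘ (Spec (CommRingCat.of k))) h OY 1)) n =
      (n : ℤ) * (2 * (1 - Curv2.euler k X (Coh.structureModule X)) - 2) - Curv2.deg k X F n := by
  classical
  haveI := H4RepDual.hasExtModules X
  let fX := X ↘ Spec (CommRingCat.of k)
  let ω := DCoh.dualizingMod fX h OY 1
  have adj := DCoh.shriekAdj fX h
  obtain ⟨hc, hN, hE, hcoh, -⟩ := H4RSH.ProperLocal.exists_setup_field fX adj OY hOY
  haveI := hc
  haveI := hN
  haveI : AlgebraicGeometry.IsNoetherian X := {}
  have hω : Coh.IsCoh ω := hcoh _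
  have hωg : H4RSH.CurveGen.GenInj ω := H4RSH.CurveBidual.genInj_top hdim.le hE hω.1
  obtain ⟨t, ht⟩ := H4RSH.SerreDual.exists_trace adj OY hOY (d := 1) (le_of_eq hdim)
  have hFg : H4RSH.CurveGen.GenInj F := fun U hU m hm =>
    H29Ref.germ_generic_injective F hFc.1 hFt hU (hm.trans (map_zero _).symm)
  haveI hiso := H4RSH.CurveBidual.isIso_bidual (k := k) t ht hdim hω hωg (H4RSH.ProperLocal.cyclic_stalk_generic hE _)
    (H4RSH.CurveBidual.nontrivial_top_generic hE hdim) hFc hFg
  have hH := H29Ref.isCoh_homSh F ω hFc hω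
  have h1 := H4RSH.CurveBidual.finrank_H1_eq (k := k) t ht (F := F) hFc hω
  have h2 := H4RSH.CurveBidual.finrank_H1_eq (k := k) t ht (F := RefHull.homSh F ω) hH hω
  have h3 := H25Index.hd_congr (k := k) (asIso (H4RSH.HomDual.bidual F ω)) 0
  unfold H25Index.hd at h3
  unfold Curv2.deg
  rw [H29RR.euler_eq_sub (k := k) hdim.le (RefHull.homSh F (DCoh.dualizingMod (X ↘ (Spec (CommRingCat.of k))) h OY 1)),
    H29RR.euler_eq_sub (k := k) hdim.le F]
  rw [show Module.finrank k (Coh.HH X (RefHull.homSh F (DCoh.dualizingMod (X ↘ (Spec (CommRingCat.of k))) h OY 1)) 1) =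
      Module.finrank k (Coh.HH X F 0) from h2.trans h3.symm,
    show Module.finrank k (Coh.HH X (RefHull.homSh F (DCoh.dualizingMod (X ↘ (Spec (CommRingCat.of k))) h OY 1)) 0) =
      Module.finrank k (Coh.HH X F 1) from h1.symm]
  ring

end Groth.Agent.S16493
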