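import Groth.Statements.S16495
import Groth.Agent.H4RSH.BirationalTrace
import Groth.Agent.H10Coh.TensorTilde
import Groth.Agent.H29Fitt.PullbackQCoh

set_option autoImplicit false
set_option synthInstance.maxHeartbeats 400000
set_option maxHeartbeats 1000000
set_option linter.style.haveILetI false
universe u
open CategoryTheory CategoryTheory.Limits AlgebraicGeometry
attribute [local instance] HasDerivedCategory.standard
open ResProp

namespace Groth.Agent.S16495

/-- Let k be a field and let X and Y be integral normal schemes, proper over k, both of dimension d; let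
ω_X and ω_Y be their dualizing modules (the cohomology sheaf in degree -d of p^! O for the structure
morphism p to Spec k, assuming the derived direct image Rp_* on D_QCoh and its right adjoint exist,
which is how the prelude presents p^!), and let f : Y → X be a k-morphism which is birational (an
isomorphism over some nonempty open subset of X). Then for every coherent O_X-module F there is a
surjective k-linear map H^d(Y, 𝓗om_{O_Y}(f^*ω_X, ω_Y) ⊗ f^*F) → H^d(X, F). The published statement
says 'd-dimensional normal schemes'; the row takes X and Y integral, the case to which the text has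
reduced before the lemma. -/
theorem result (k : Type u) [Field k]
    (X Y : Scheme.{u}) [X.Over (Spec (CommRingCat.of k))] [Y.Over (Spec (CommRingCat.of k))] [IsProper (X ↘ (Spec (CommRingCat.of k)))] [IsProper (Y ↘ (Spec (CommRingCat.of k)))]
    [IsIntegral X] [IsIntegral Y] (hXn : Pi1.IsNormalScheme X) (hYn : Pi1.IsNormalScheme Y)
    (d : ℕ) (hdX : topologicalKrullDim X = d) (hdY : topologicalKrullDim Y = d)
    (f : Y ⟶ X) (hf : f ≫ (X ↘ (Spec (CommRingCat.of k))) = Y ↘ (Spec (CommRingCat.of k)))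
    (hbir : ∃ U : X.Opens, (U : Set X).Nonempty ∧ IsIso (f ∣_ U))
    [DCoh.HasRpush (X ↘ (Spec (CommRingCat.of k)))] (hX : DCoh.RpushPreservesQCoh (X ↘ (Spec (CommRingCat.of k)))) [DCoh.HasShriek (X ↘ (Spec (CommRingCat.of k))) hX]
    [DCoh.HasRpush (Y ↘ (Spec (CommRingCat.of k)))] (hY : DCoh.RpushPreservesQCoh (Y ↘ (Spec (CommRingCat.of k)))) [DCoh.HasShriek (Y ↘ (Spec (CommRingCat.of k))) hY]
    (OS : DCoh.DQCoh (Spec (CommRingCat.of k))) (hOS : Nonempty (OS.obj ≅ DCoh.inD (Spec (CommRingCat.of k)) (Coh.structureModule (Spec (CommRingCat.of k)))))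
    (F : X.Modules) (hF : Coh.IsCoh F) :
    ∃ φ : Coh.HH Y (CohB1.tensorMod
          (RefHull.homSh ((Scheme.Modules.pullback f).obj (DCoh.dualizingMod (X ↘ (Spec (CommRingCat.of k))) hX OS d))
            (DCoh.dualizingMod (Y ↘ (Spec (CommRingCat.of k))) hY OS d))
          ((Scheme.Modules.pullback f).obj F)) d →ₗ[k] Coh.HH X F d,
      Function.Surjective φ := by
  classical
  haveI := H4RepDual.hasExtModules X
  haveI := H4RepDual.hasExtModules Y
  let fX := X ↘ Spec (CommRingCat.of k)
  let fY := Y ↘ Spec (CommRingCat.of k)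
  let ωX := DCoh.dualizingMod fX hX OS d
  let ωY := DCoh.dualizingMod fY hY OS d
  obtain ⟨hcX, hNX, -, hcohX, -⟩ := H4RSH.ProperLocal.exists_setup_field fX (DCoh.shriekAdj fX hX) OS hOS
  obtain ⟨hcY, hNY, hE, hcohY, -⟩ := H4RSH.ProperLocal.exists_setup_field fY (DCoh.shriekAdj fY hY) OS hOS
  haveI := hcX
  haveI := hNX
  haveI := hcY
  haveI := hNY
  haveI : AlgebraicGeometry.IsNoetherian X := {}
  obtain ⟨t, ht⟩ := H4RSH.SerreDual.exists_trace (DCoh.shriekAdj fX hX) OS hOS (d := d) (le_of_eq hdX)
  obtain ⟨t', ht'⟩ := H4RSH.SerreDual.exists_trace (DCoh.shriekAdj fY hY) OS hOS (d := d) (le_of_eq hdY)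
  have hωX : Coh.IsCoh ωX := hcohX _
  have hA : Coh.IsCoh ((Scheme.Modules.pullback f).obj ωX) :=
    ⟨H29Fitt.isQCoh_pullback _ ωX hωX.1, H29Fitt.isFT_pullback _ ωX hωX.1 hωX.2⟩
  have hB : Nontrivial (ωY.presheaf.stalk (genericPoint Y)) := by
    refine (Set.ext_iff.1 (H4RSH.ProperLocal.support_top_eq hE (le_of_eq hdY)) (genericPoint Y)).2
      (Set.mem_iUnion₂.2 ⟨Set.univ, ⟨?_, ?_⟩, trivial⟩)
    · exact (irreducibleComponents_eq_singleton (X := Y)).ge rfl
    · exact (Homeomorph.Set.univ Y).isHomeomorph.topologicalKrullDim_eq.trans hdY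
  haveI : ((Scheme.Modules.pullback f).obj F).IsQuasicoherent := H29Fitt.isQCoh_pullback _ F hF.1
  haveI : (RefHull.homSh ((Scheme.Modules.pullback f).obj ωX) ωY).IsQuasicoherent :=
    (H29Ref.isCoh_homSh _ _ hA (hcohY _)).1
  exact H4RSH.BirationalTrace.exists_surjective f hf (H4RSH.BirationalTrace.map_generic f hbir) hdX t ht hωX t' ht'
    (H10Coh.isFP_of_isCoh _ hA) hB hF (H10Coh.TT.isQCoh_tensorMod _ _)

end Groth.Agent.S16495
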