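import Groth.Statements.S16501
import Groth.Agent.H9Hens.Newton
import Groth.Agent.H24Adic.Basic
-- import your own Groth.Agent.* helpers here

set_option autoImplicit false
universe u
open Hensel

namespace Groth.Agent.S16501

open Polynomial in
/-- Newton's lemma with a derivative dividing a power of `ϖ`. -/
theorem exists_root_of_deriv_dvd {C : Type u} [CommRing C] (π : C) [HenselianRing C (Ideal.span {π})]
    (f : C[X]) (c g d : C) (e k : ℕ) (hd : f.derivative.eval c * g = π ^ e)
    (hc : f.eval c = π ^ (2 * e + 2 + k) * d) : ∃ x, f.eval x = 0 := by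
  classical
  obtain ⟨q, hq⟩ := (f.map Polynomial.C).binomExpansion (Polynomial.C c) (Polynomial.C (π ^ (e + 1) * g) * X)
  let P : C[X] := Polynomial.C (π ^ (1 + k) * d) + X + Polynomial.C (π * g ^ 2) * q * X ^ 2
  have hfP : ∀ z, f.eval (c + π ^ (e + 1) * g * z) = π ^ (2 * e + 1) * P.eval z := by
    intro z
    have h := congrArg (Polynomial.eval z) hq
    have h1 : ∀ (p : C[X]) (y : C[X]), ((p.map Polynomial.C).eval y).eval z = p.eval (y.eval z) := by
      intro p y
      induction p using Polynomial.induction_on' with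
      | add a b ha hb => simp [ha, hb]
      | monomial n a => simp [Polynomial.map_monomial]
    rw [Polynomial.derivative_map] at h
    simp only [eval_add, eval_mul, eval_pow, h1, eval_C, eval_X] at h
    rw [h, hc]
    simp only [P, eval_add, eval_mul, eval_pow, eval_C, eval_X]
    linear_combination (π ^ (e + 1) * z) * hd
  let P₁ : MvPolynomial (Fin 1) C := Polynomial.aeval (MvPolynomial.X 0) P
  have hev : ∀ (Q : C[X]) (a : Fin 1 → C),
      MvPolynomial.eval a (Polynomial.aeval (MvPolynomial.X 0) Q) = Q.eval (a 0) := by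
    intro Q a
    induction Q using Polynomial.induction_on' with
    | add a b ha hb => simp [ha, hb]
    | monomial n r => simp [aeval_monomial]
  have hpd : MvPolynomial.pderiv 0 P₁ = Polynomial.aeval (MvPolynomial.X (0 : Fin 1)) P.derivative := by
    show MvPolynomial.pderiv 0 (Polynomial.aeval (MvPolynomial.X 0) P) = _
    induction P using Polynomial.induction_on' with
    | add a b ha hb => simp [ha, hb]
    | monomial n r =>
      simp [aeval_monomial, derivative_monomial, map_natCast]
      ring
  have hdet : (Matrix.of fun i j : Fin 1 => MvPolynomial.eval (fun _ => (0 : C)) (MvPolynomial.pderiv j P₁)).det = 1 := by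
    rw [Matrix.det_fin_one, Matrix.of_apply, hpd, hev]
    simp [P, derivative_pow]
  obtain ⟨a, ha, -⟩ := Groth.Agent.H9Hens.exists_zero_of_jacobian (I := Ideal.span {π}) (fun _ : Fin 1 => P₁) (fun _ => (0 : C))
    (fun _ => by
      rw [hev]
      simp only [P, eval_add, eval_mul, eval_pow, eval_C, eval_X]
      refine Ideal.mem_span_singleton'.2 ⟨π ^ k * d, ?_⟩
      ring)
    (by rw [hdet, map_one]; exact isUnit_one)
  have hPa : P.eval (a 0) = 0 := by rw [← hev P a]; exact ha 0
  exact ⟨c + π ^ (e + 1) * g * a 0, by rw [hfP, hPa, mul_zero]⟩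

theorem finrank_le_of_quot {A : Type u} [CommRing A] [IsDomain A] [IsNoetherianRing A] (π : A)
    (hπ : Ideal.span {π} ≤ Ideal.jacobson ⊥)
    {B C : Type u} [CommRing B] [CommRing C] [Algebra A B] [Algebra A C] [Module.Finite A B] [Module.Free A B]
    [Module.Finite A C] (e : (B ⧸ Ideal.span {algebraMap A B π}) →ₐ[A] (C ⧸ Ideal.span {algebraMap A C π}))
    (he : Function.Surjective e) : Module.finrank A C ≤ Module.finrank A B := by
  obtain ⟨l, hl⟩ := Module.projective_lifting_property
    (Ideal.Quotient.mkₐ A (Ideal.span {algebraMap A C π})).toLinearMap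
    (e.comp (Ideal.Quotient.mkₐ A (Ideal.span {algebraMap A B π}))).toLinearMap Ideal.Quotient.mk_surjective
  have htop : (⊤ : Submodule A C) ≤ LinearMap.range l := by
    refine Submodule.le_of_le_smul_of_le_jacobson_bot Module.Finite.fg_top hπ fun c _ => ?_
    obtain ⟨b', hb'⟩ := he (Ideal.Quotient.mk _ c)
    obtain ⟨b, rfl⟩ := Ideal.Quotient.mk_surjective b'
    have h1 : Ideal.Quotient.mk (Ideal.span {algebraMap A C π}) (c - l b) = 0 := by
      rw [map_sub, sub_eq_zero, ← hb']
      exact (LinearMap.congr_fun hl b).symm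
    obtain ⟨w, hw⟩ := Ideal.mem_span_singleton'.1 (Ideal.Quotient.eq_zero_iff_mem.1 h1)
    have h2 : c = l b + π • w := by rw [Algebra.smul_def, mul_comm, hw, add_sub_cancel]
    rw [h2]
    exact Submodule.add_mem_sup ⟨b, rfl⟩
      (Submodule.smul_mem_smul (Ideal.mem_span_singleton_self π) Submodule.mem_top)
  have h3 := LinearMap.finrank_range_le l
  rw [top_le_iff.1 htop, finrank_top] at h3
  exact h3

/-- Let A be a complete discrete valuation ring with uniformizer ϖ and fraction field K, let L be a
finite separable extension of K and B the integral closure of A in L. There is a positive integer m₀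
such that for every discrete valuation ring C that is a module-finite A-algebra, B ≅ C as A-algebras
if and only if B/ϖ^m B ≅ C/ϖ^m C as A-algebras for some m > m₀. (Finiteness of L over K is implicit
in the source, which takes a primitive element.) -/
theorem result
    (A : Type u) [CommRing A] [IsDomain A] [IsDiscreteValuationRing A]
    [IsAdicComplete (IsLocalRing.maximalIdeal A) A] (ϖ : A) (hϖ : Irreducible ϖ)
    (K : Type u) [Field K] [Algebra A K] [IsFractionRing A K]
    (L : Type u) [Field L] [Algebra K L] [Algebra A L] [IsScalarTower A K L]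
    [FiniteDimensional K L] [Algebra.IsSeparable K L]
    (B : Type u) [CommRing B] [Algebra A B] [Algebra B L] [IsScalarTower A B L]
    [IsIntegralClosure B A L] :
    ∃ m₀ : ℕ, 0 < m₀ ∧ ∀ (C : Type u) [CommRing C] [IsDomain C] [IsDiscreteValuationRing C]
      [Algebra A C] [Module.Finite A C],
      Nonempty (B ≃ₐ[A] C) ↔ ∃ m : ℕ, m₀ < m ∧
        Nonempty ((B ⧸ Ideal.span {algebraMap A B (ϖ ^ m)}) ≃ₐ[A]
          (C ⧸ Ideal.span {algebraMap A C (ϖ ^ m)})) := by
  classical
  haveI : IsNoetherianRing A := inferInstance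
  haveI : IsDomain B := (IsIntegralClosure.algebraMap_injective B A L).isDomain
  haveI : Module.Finite A B := IsIntegralClosure.finite A K L B
  haveI : IsFractionRing B L := IsIntegralClosure.isFractionRing_of_finite_extension A K L B
  haveI : Algebra.IsIntegral A B := Algebra.IsIntegral.of_finite A B
  have hAL : Function.Injective (algebraMap A L) := by
    rw [IsScalarTower.algebraMap_eq A K L]
    exact (algebraMap K L).injective.comp (IsFractionRing.injective A K)
  have hAB : Function.Injective (algebraMap A B) := fun x y h => hAL (by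
    rw [IsScalarTower.algebraMap_apply A B L, IsScalarTower.algebraMap_apply A B L, h])
  haveI : FaithfulSMul A B := (faithfulSMul_iff_algebraMap_injective A B).2 hAB
  haveI : IsDomain B := (IsIntegralClosure.algebraMap_injective B A L).isDomain
  haveI : Module.IsTorsionFree A B := Module.IsTorsionFree.of_smul_eq_zero fun a b h => by
    rw [Algebra.smul_def, mul_eq_zero] at h
    exact h.imp (fun h => hAB (h.trans (map_zero _).symm)) id
  haveI : Module.Free A B := Module.free_of_finite_type_torsion_free'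
  obtain ⟨α₀, hα₀⟩ := Field.exists_primitive_element K L
  obtain ⟨⟨a, ha⟩, hint⟩ := (IsIntegral.of_finite K α₀).exists_multiple_integral_of_isLocalization (nonZeroDivisors A) _
  let α : B := IsIntegralClosure.mk' B (a • α₀) hint
  have hα : algebraMap B L α = a • α₀ := IsIntegralClosure.algebraMap_mk' _ _ _
  have hadj : IntermediateField.adjoin K {algebraMap B L α} = ⊤ := by
    rw [eq_top_iff, ← hα₀, IntermediateField.adjoin_le_iff, Set.singleton_subset_iff]
    have ha0 : algebraMap A K a ≠ 0 := fun h =>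
      nonZeroDivisors.ne_zero ha (IsFractionRing.injective A K (h.trans (map_zero _).symm))
    have hmem := IntermediateField.smul_mem (IntermediateField.adjoin K {algebraMap B L α})
      (IntermediateField.mem_adjoin_simple_self K (algebraMap B L α)) (x := (algebraMap A K a)⁻¹)
    have e1 : (algebraMap A K a)⁻¹ • algebraMap B L α = α₀ := by
      rw [hα, ← algebraMap_smul K a α₀, inv_smul_smul₀ ha0]
    rw [e1] at hmem
    exact hmem
  have hintα : IsIntegral A α := Algebra.IsIntegral.isIntegral α
  set f := minpoly A α with hf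
  have hfK : minpoly K (algebraMap B L α) = f.map (algebraMap A K) :=
    minpoly.isIntegrallyClosed_eq_field_fractions K L hintα
  have hfd : Polynomial.aeval α f.derivative ≠ 0 := by
    intro h
    have h1 := (Algebra.IsSeparable.isSeparable K (algebraMap B L α)).aeval_derivative_ne_zero (minpoly.aeval K (algebraMap B L α))
    rw [hfK, Polynomial.derivative_map, Polynomial.aeval_map_algebraMap, Polynomial.aeval_algebraMap_apply, h, map_zero] at h1
    exact h1 rfl
  have hdvd : ∃ e : ℕ, ∃ g : B, Polynomial.aeval α f.derivative * g = algebraMap A B (ϖ ^ e) := by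
    obtain ⟨r, hr, g, hgr⟩ := (Algebra.IsAlgebraic.isAlgebraic (R := A) (Polynomial.aeval α f.derivative)).exists_nonzero_dvd
      (mem_nonZeroDivisors_of_ne_zero hfd)
    obtain ⟨e, he⟩ := IsDiscreteValuationRing.associated_pow_irreducible hr hϖ
    obtain ⟨v, hv⟩ := he
    exact ⟨e, g * algebraMap A B (v : A), by rw [← mul_assoc, ← hgr, ← map_mul, hv]⟩
  obtain ⟨e, g, hg⟩ := hdvd
  refine ⟨2 * e + 2, by omega, fun C _ _ _ _ _ => ⟨fun ⟨ε⟩ => ⟨2 * e + 3, by omega, ⟨?_⟩⟩, ?_⟩⟩
  · refine Ideal.quotientEquivAlg _ _ ε ?_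
    rw [Ideal.map_span, Set.image_singleton]
    exact congrArg (fun y => Ideal.span {y}) (ε.commutes _).symm
  rintro ⟨m, hm, ⟨E⟩⟩
  have hπB : ¬ IsUnit (algebraMap A B ϖ) := fun h => hϖ.not_isUnit (by
    haveI : IsLocalHom (algebraMap A B) := RingHom.IsIntegral.isLocalHom (Algebra.IsIntegral.isIntegral) hAB
    exact isUnit_of_map_unit (algebraMap A B) ϖ h)
  have hπC : algebraMap A C ϖ ≠ 0 := by
    intro h
    have h1 : algebraMap A (B ⧸ Ideal.span {algebraMap A B (ϖ ^ m)}) ϖ = 0 := by
      apply E.injective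
      rw [AlgEquiv.commutes, map_zero, IsScalarTower.algebraMap_apply A C (C ⧸ Ideal.span {algebraMap A C (ϖ ^ m)}), h, map_zero]
    rw [IsScalarTower.algebraMap_apply A B (B ⧸ Ideal.span {algebraMap A B (ϖ ^ m)}), Ideal.Quotient.algebraMap_eq,
      Ideal.Quotient.eq_zero_iff_mem, Ideal.mem_span_singleton'] at h1
    obtain ⟨b, hb⟩ := h1
    obtain ⟨j, rfl⟩ : ∃ j, m = j + 2 := ⟨m - 2, by omega⟩
    refine hπB ⟨⟨algebraMap A B ϖ, b * algebraMap A B ϖ ^ j, ?_, ?_⟩, rfl⟩
    all_goals
      have h2 : (b * algebraMap A B ϖ ^ j * algebraMap A B ϖ) * algebraMap A B ϖ = 1 * algebraMap A B ϖ := by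
        rw [one_mul]
        refine Eq.trans ?_ hb
        rw [map_pow]
        ring
      have h3 := mul_right_cancel₀ (fun h0 => hϖ.ne_zero (hAB (h0.trans (map_zero _).symm))) h2
    · rw [mul_comm]; exact h3
    · exact h3
  have hAC : Function.Injective (algebraMap A C) := by
    rw [injective_iff_map_eq_zero]
    intro x hx
    by_contra hx0
    obtain ⟨n, v, rfl⟩ := IsDiscreteValuationRing.eq_unit_mul_pow_irreducible hx0 hϖ
    rw [map_mul, map_pow, mul_eq_zero] at hx
    rcases hx with hx | hx
    · exact (v.isUnit.map (algebraMap A C)).ne_zero hx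
    · exact hπC (pow_eq_zero_iff'.1 hx).1
  haveI : FaithfulSMul A C := (faithfulSMul_iff_algebraMap_injective A C).2 hAC
  haveI : Module.IsTorsionFree A C := Module.IsTorsionFree.of_smul_eq_zero fun a b h => by
    rw [Algebra.smul_def, mul_eq_zero] at h
    exact h.imp (fun h => hAC (h.trans (map_zero _).symm)) id
  haveI : Module.Free A C := Module.free_of_finite_type_torsion_free'
  have hmax : IsLocalRing.maximalIdeal A = Ideal.span {ϖ} := hϖ.maximalIdeal_eq
  haveI : IsAdicComplete (Ideal.span {algebraMap A C ϖ}) C := by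
    rw [← Set.image_singleton, ← Ideal.map_span, ← hmax, IsAdicComplete.map_algebraMap_iff]
    exact Groth.Agent.H24Adic.isAdicComplete_of_finite (IsLocalRing.maximalIdeal A)
  obtain ⟨c, hc⟩ := Ideal.Quotient.mk_surjective (E (Ideal.Quotient.mk _ α))
  have hEmk : ∀ p : Polynomial A, Ideal.Quotient.mk (Ideal.span {algebraMap A C (ϖ ^ m)}) (Polynomial.aeval c p) =
      E (Ideal.Quotient.mk (Ideal.span {algebraMap A B (ϖ ^ m)}) (Polynomial.aeval α p)) := by
    intro p
    rw [← Ideal.Quotient.mkₐ_eq_mk A, ← Ideal.Quotient.mkₐ_eq_mk A, ← Polynomial.aeval_algHom_apply, ← Polynomial.aeval_algHom_apply]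
    rw [← AlgEquiv.coe_algHom E, ← Polynomial.aeval_algHom_apply]
    rw [Ideal.Quotient.mkₐ_eq_mk, hc]
    rfl
  obtain ⟨d, hd⟩ := Ideal.mem_span_singleton'.1 (Ideal.Quotient.eq_zero_iff_mem.1
    ((hEmk f).trans (by rw [minpoly.aeval, map_zero, map_zero])))
  obtain ⟨g', hg'⟩ := Ideal.Quotient.mk_surjective (E (Ideal.Quotient.mk _ g))
  have h4 : Polynomial.aeval c f.derivative * g' - algebraMap A C ϖ ^ e ∈ Ideal.span {algebraMap A C (ϖ ^ m)} := by
    rw [← Ideal.Quotient.eq, map_mul, hEmk, hg', ← map_mul, ← map_mul, hg, ← map_pow]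
    exact E.commutes (ϖ ^ e)
  obtain ⟨t, ht⟩ := Ideal.mem_span_singleton'.1 h4
  rw [map_pow] at ht
  obtain ⟨v, hv⟩ := Ideal.mem_jacobson_bot.1 (HenselianRing.jac (I := Ideal.span {algebraMap A C ϖ})
    (Ideal.mem_span_singleton_self (algebraMap A C ϖ))) (algebraMap A C ϖ ^ (m - e - 1) * t)
  have hme : algebraMap A C ϖ ^ m = algebraMap A C ϖ ^ e * algebraMap A C ϖ ^ (m - e - 1) * algebraMap A C ϖ := by
    rw [← pow_add, ← pow_succ]
    congr 1
    omega
  have hd' : (f.map (algebraMap A C)).derivative.eval c * (g' * ↑v⁻¹) = algebraMap A C ϖ ^ e := by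
    rw [Polynomial.derivative_map, Polynomial.eval_map_algebraMap, ← mul_assoc]
    rw [← Units.eq_mul_inv_iff_mul_eq, inv_inv]
    rw [show (v : C) = algebraMap A C ϖ * (algebraMap A C ϖ ^ (m - e - 1) * t) + 1 from hv]
    linear_combination -ht + t * hme
  obtain ⟨x, hx⟩ := exists_root_of_deriv_dvd (algebraMap A C ϖ) (f.map (algebraMap A C)) c (g' * ↑v⁻¹) d e
    (m - (2 * e + 2)) hd' (by
      rw [Polynomial.eval_map_algebraMap, ← hd, map_pow, show 2 * e + 2 + (m - (2 * e + 2)) = m by omega]
      ring)
  rw [Polynomial.eval_map_algebraMap] at hx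
  have hJ : Ideal.span {ϖ} ≤ Ideal.jacobson ⊥ := hmax ▸ IsLocalRing.maximalIdeal_le_jacobson ⊥
  have hsur : ∀ (B' C' : Type u) [CommRing B'] [CommRing C'] [Algebra A B'] [Algebra A C']
      (E' : (B' ⧸ Ideal.span {algebraMap A B' (ϖ ^ m)}) ≃ₐ[A] (C' ⧸ Ideal.span {algebraMap A C' (ϖ ^ m)})),
      ∃ e' : (B' ⧸ Ideal.span {algebraMap A B' ϖ}) →ₐ[A] (C' ⧸ Ideal.span {algebraMap A C' ϖ}), Function.Surjective e' := by
    intro B' C' _ _ _ _ E'
    have hle : Ideal.span {algebraMap A C' (ϖ ^ m)} ≤ Ideal.span {algebraMap A C' ϖ} := by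
      rw [Ideal.span_singleton_le_span_singleton, map_pow]
      exact dvd_pow_self _ (by omega)
    let h : B' →ₐ[A] C' ⧸ Ideal.span {algebraMap A C' ϖ} :=
      (Ideal.Quotient.factorₐ A hle).comp (E'.toAlgHom.comp (Ideal.Quotient.mkₐ A _))
    refine ⟨Ideal.Quotient.liftₐ _ h fun y hy => ?_, fun z => ?_⟩
    · obtain ⟨w, rfl⟩ := Ideal.mem_span_singleton'.1 hy
      rw [map_mul, AlgHom.commutes, IsScalarTower.algebraMap_apply A C' (C' ⧸ Ideal.span {algebraMap A C' ϖ}),
        Ideal.Quotient.algebraMap_eq, Ideal.Quotient.eq_zero_iff_mem.2 (Ideal.mem_span_singleton_self _), mul_zero]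
    · obtain ⟨w, rfl⟩ := Ideal.Quotient.mk_surjective z
      obtain ⟨b, hb⟩ := Ideal.Quotient.mk_surjective (E'.symm (Ideal.Quotient.mk _ w))
      refine ⟨Ideal.Quotient.mk _ b, ?_⟩
      show Ideal.Quotient.factorₐ A hle (E' (Ideal.Quotient.mk _ b)) = _
      rw [hb, AlgEquiv.apply_symm_apply]
      rfl
  have hrank : Module.finrank A C = Module.finrank A B := by
    obtain ⟨e₁, he₁⟩ := hsur B C E
    obtain ⟨e₂, he₂⟩ := hsur C B E.symm
    exact le_antisymm (finrank_le_of_quot ϖ hJ e₁ he₁) (finrank_le_of_quot ϖ hJ e₂ he₂)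
  let M := FractionRing C
  have hAM : Function.Injective (algebraMap A M) := by
    rw [IsScalarTower.algebraMap_eq A C M]
    exact (IsFractionRing.injective C M).comp hAC
  letI : Algebra K M := (IsFractionRing.lift (K := K) hAM).toAlgebra
  haveI : IsScalarTower A K M := IsScalarTower.of_algebraMap_eq fun r => (IsFractionRing.lift_algebraMap hAM r).symm
  have hrM : Module.finrank K M = Module.finrank A C := by
    rw [IsFractionRing.finrank_right_eq A (S := K) M, IsFractionRing.finrank_left_eq A (S := C) M]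
  have hrL : Module.finrank K L = Module.finrank A B := by
    rw [IsFractionRing.finrank_right_eq A (S := K) L, IsFractionRing.finrank_left_eq A (S := B) L]
  haveI : FiniteDimensional K M := Module.finite_of_finrank_pos (by rw [hrM, hrank, ← hrL]; exact Module.finrank_pos)
  let pb : PowerBasis K L := (IntermediateField.adjoin.powerBasis (IsIntegral.of_finite K (algebraMap B L α))).map
    ((IntermediateField.equivOfEq hadj).trans IntermediateField.topEquiv)
  have hgen : pb.gen = algebraMap B L α := rfl
  have hxM : Polynomial.aeval (algebraMap C M x) (minpoly K pb.gen) = 0 := by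
    rw [hgen, hfK, Polynomial.aeval_map_algebraMap, Polynomial.aeval_algebraMap_apply, hx, map_zero]
  let ψ : L →ₐ[K] M := pb.lift (algebraMap C M x) hxM
  have hψ : Function.Bijective ψ := ⟨ψ.toRingHom.injective,
    (LinearMap.injective_iff_surjective_of_finrank_eq_finrank (f := ψ.toLinearMap)
      (by rw [hrM, hrank, hrL])).1 ψ.toRingHom.injective⟩
  let Ψ : L ≃ₐ[K] M := AlgEquiv.ofBijective ψ hψ
  letI : Algebra C L := (Ψ.symm.toAlgHom.toRingHom.comp (algebraMap C M)).toAlgebra
  haveI : IsScalarTower A C L := IsScalarTower.of_algebraMap_eq fun r => by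
    show _ = Ψ.symm (algebraMap C M (algebraMap A C r))
    rw [← IsScalarTower.algebraMap_apply A C M, IsScalarTower.algebraMap_apply A K M, AlgEquiv.commutes,
      ← IsScalarTower.algebraMap_apply A K L]
  haveI : IsIntegralClosure C A L :=
    { algebraMap_injective := Ψ.symm.injective.comp (IsFractionRing.injective C M)
      isIntegral_iff := fun {y} => by
        haveI : Algebra.IsIntegral A C := Algebra.IsIntegral.of_finite A C
        constructor
        · intro hy
          have h5 : IsIntegral A (Ψ y) := hy.map (Ψ.toAlgHom.restrictScalars A)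
          obtain ⟨z, hz⟩ := IsIntegrallyClosed.isIntegral_iff.1 (h5.tower_top (A := C))
          exact ⟨z, (congrArg Ψ.symm hz).trans (Ψ.symm_apply_apply y)⟩
        · rintro ⟨z, rfl⟩
          exact (Algebra.IsIntegral.isIntegral z).map (IsScalarTower.toAlgHom A C L) }
  exact ⟨IsIntegralClosure.equiv A B L C⟩

end Groth.Agent.S16501
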