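import Groth.Statements.S16502
import Groth.Agent.H28AbExt.RatMap

set_option autoImplicit false
universe u
open CategoryTheory AlgebraicGeometry
open Curves

namespace Groth.Agent.S16502

/-- Over an algebraically closed field k, let X be a smooth projective variety and Y a projective
variety which contains no rational curve (every k-morphism from the projective line to Y is
constant). Then every rational map from X to Y is everywhere defined: a k-morphism to Y from a
nonempty open subscheme of X extends to a k-morphism on all of X. (The base field is taken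
algebraically closed here.) -/
theorem result
    (k : Type u) [Field k] [IsAlgClosed k]
    (X : Scheme.{u}) [X.Over (Spec (CommRingCat.of k))] [IsIntegral X] [Smooth (X ↘ Spec (CommRingCat.of k))]
    (hX : ∃ (n : ℕ) (ι : X ⟶ CohB1.ProjSpace n k), IsClosedImmersion ι ∧
      ι ≫ CohB1.ProjSpace.toSpec n k = X ↘ Spec (CommRingCat.of k))
    (Y : Scheme.{u}) [Y.Over (Spec (CommRingCat.of k))] [IsIntegral Y]
    (hY : ∃ (n : ℕ) (ι : Y ⟶ CohB1.ProjSpace n k), IsClosedImmersion ι ∧
      ι ≫ CohB1.ProjSpace.toSpec n k = Y ↘ Spec (CommRingCat.of k))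
    (hnorat : ∀ g : CohB1.ProjSpace 1 k ⟶ Y,
      g ≫ (Y ↘ Spec (CommRingCat.of k)) = CohB1.ProjSpace.toSpec 1 k → ∃ y : Y, Set.range g.base ⊆ {y})
    (U : X.Opens) (hU : (U : Set X).Nonempty) (g : (U : Scheme.{u}) ⟶ Y)
    (hg : g ≫ (Y ↘ Spec (CommRingCat.of k)) = U.ι ≫ (X ↘ Spec (CommRingCat.of k))) :
    ∃ g' : X ⟶ Y, U.ι ≫ g' = g ∧ g' ≫ (Y ↘ Spec (CommRingCat.of k)) = X ↘ Spec (CommRingCat.of k) := by
  haveI : IsProper (Y ↘ Spec (CommRingCat.of k)) := Groth.Agent.H28AbExt.isProper_of_projective _ hY
  exact Groth.Agent.H28AbExt.exists_extension_of_noRat _ _ hnorat U hU g hg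

end Groth.Agent.S16502
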