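import Groth.Statements.S1651
import Groth.Agent.H06DeltaBC.FieldExt

set_option autoImplicit false
universe u
open CategoryTheory CategoryTheory.Limits AlgebraicGeometry
open Variety

namespace Groth.Agent.S1651

/-- Let X be locally of finite type over k, K a field extension, y a point of X_K with image x. Assume X
is geometrically reduced at x and the local rings at x and at y both have dimension one. Then the
δ-invariant of X at x is at most the δ-invariant of X_K at y. -/
theorem result (k : Type u) [Field k] (X : Scheme.{u}) [X.Over (Spec (CommRingCat.of k))] [LocallyOfFiniteType (X ↘ (Spec (CommRingCat.of k)))] (K : Type u) [Field K] [Algebra k K]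
    (y : Curv2.bc k X K) (hx : Curv2.IsGeomReducedAt k X (Curv2.bcFst k X K y))
    (hdx : ringKrullDim (X.presheaf.stalk (Curv2.bcFst k X K y)) = 1)
    (hdy : ringKrullDim ((Curv2.bc k X K).presheaf.stalk y) = 1) :
    Curv2.deltaInv (X.presheaf.stalk (Curv2.bcFst k X K y)) ≤ Curv2.deltaInv ((Curv2.bc k X K).presheaf.stalk y) := by
  let π : Curv2.bc k X K ⟶ X := Curv2.bcFst k X K
  haveI : Flat (Spec.map (CommRingCat.ofHom (algebraMap k K))) :=
    (HasRingHomProperty.Spec_iff (P := @Flat)).mpr (RingHom.flat_algebraMap_iff.mpr inferInstance)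
  haveI : Flat π := MorphismProperty.pullback_fst _ _ ‹Flat (Spec.map (CommRingCat.ofHom (algebraMap k K)))›
  haveI : IsLocallyNoetherian X := LocallyOfFiniteType.isLocallyNoetherian (X ↘ (Spec (CommRingCat.of k)))
  haveI : IsLocallyNoetherian (Curv2.bc k X K) :=
    LocallyOfFiniteType.isLocallyNoetherian
      (pullback.snd (X ↘ Spec (CommRingCat.of k)) (Spec.map (CommRingCat.ofHom (algebraMap k K))))
  letI := Curv2.stalkAlgebra k X (π y)
  haveI : Algebra.IsGeometricallyReduced k (X.presheaf.stalk (π y)) :=
    (H22Alg.GeomReducedAt.isGeomReducedAt_iff k X (π y)).mp hx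
  haveI := Algebra.isReduced_of_isGeometricallyReduced k (A := X.presheaf.stalk (π y))
  let A : Type u := X.presheaf.stalk (π y)
  let B : Type u := (Curv2.bc k X K).presheaf.stalk y
  letI : Algebra A B := (π.stalkMap y).hom.toAlgebra
  haveI : IsLocalHom (algebraMap A B) := inferInstanceAs (IsLocalHom (π.stalkMap y).hom)
  haveI : Module.Flat A B := Flat.stalkMap π y
  haveI : Module.FaithfullyFlat A B := Module.FaithfullyFlat.of_flat_of_isLocalHom
  exact H06DeltaBC.deltaInv_le A B (H06DeltaBC.isFiniteLength_fibre A B hdx hdy)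

end Groth.Agent.S1651
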