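import Groth.Statements.S16511
import Groth.Agent.H17.FibProj.Surface
import Groth.Agent.H05EGA4.CompleteNormalization

set_option autoImplicit false
universe u
open CategoryTheory AlgebraicGeometry
open Curves

namespace Groth.Agent.S16511

/-- Over an algebraically closed field k, let π : X → B be a surjective k-morphism from a projective
surface onto a smooth proper curve whose fibres over closed points are all isomorphic to the
projective line. Then X is isomorphic over B to the projective bundle of a locally free sheaf of
rank 2 on B: π together with some invertible quotient q : π^*E → O(1), E locally free of rank 2 on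
B, has the universal property of P(E). -/
theorem result
    (k : Type u) [Field k] [IsAlgClosed k]
    (X : Scheme.{u}) [X.Over (Spec (CommRingCat.of k))] [IsIntegral X] (hX2 : topologicalKrullDim X = 2)
    (hX : ∃ (N : ℕ) (ι : X ⟶ CohB1.ProjSpace N k), IsClosedImmersion ι ∧
      ι ≫ CohB1.ProjSpace.toSpec N k = X ↘ Spec (CommRingCat.of k))
    (B : Scheme.{u}) [B.Over (Spec (CommRingCat.of k))] (hB : Curve.IsSmoothProperCurve k B (B ↘ Spec (CommRingCat.of k)))
    (π : X ⟶ B) (hπ : π ≫ (B ↘ Spec (CommRingCat.of k)) = X ↘ Spec (CommRingCat.of k))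
    (hsurj : Function.Surjective π.base)
    (hfib : ∀ b : B, IsClosed ({b} : Set B) → Nonempty (π.fiber b ≅ CohB1.ProjSpace 1 k)) :
    ∃ (E : B.Modules) (L : X.Modules) (q : (Scheme.Modules.pullback π).obj E ⟶ L),
      FlatMod.IsFinLocFreeOfRank 2 E ∧ KRR.IsProjBundle π E L q := by
  obtain ⟨hBp, hBs, hBi, hBd⟩ := id hB
  haveI := hBp
  haveI := hBs
  haveI := hBi
  obtain ⟨N, ι, hι, hιX⟩ := hX
  haveI : IsProper (X ↘ Spec (CommRingCat.of k)) := by
    rw [← hιX]
    haveI := hι
    haveI : IsProper (CohB1.ProjSpace.toSpec N k) := inferInstance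
    infer_instance
  exact Groth.Agent.H17.FibProj.exists_isProjBundle_of_surface hX2 hB (fun y => by
    haveI := Groth.Agent.H19Grp.isRegularLocalRing_stalk_of_smooth (B ↘ Spec (CommRingCat.of k)) y
    exact Groth.Agent.H05EGA4.isIntegrallyClosed_of_isRegularLocalRing _) π hπ hsurj hfib

end Groth.Agent.S16511
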