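import Groth.Statements.S16513
import Groth.Agent.H28AbExt.RatMap

set_option autoImplicit false
universe u
open CategoryTheory AlgebraicGeometry
open Curves

namespace Groth.Agent.S16513

/-- Over an algebraically closed field k, a birational self-map of a smooth projective variety X
containing no rational curve (every k-morphism from the projective line to X is constant) is an
automorphism: a k-isomorphism between two nonempty open subschemes of X extends to a k-automorphism
of X. (The base field is taken algebraically closed here.) -/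
theorem result
    (k : Type u) [Field k] [IsAlgClosed k]
    (X : Scheme.{u}) [X.Over (Spec (CommRingCat.of k))] [IsIntegral X] [Smooth (X ↘ Spec (CommRingCat.of k))]
    (hX : ∃ (n : ℕ) (ι : X ⟶ CohB1.ProjSpace n k), IsClosedImmersion ι ∧
      ι ≫ CohB1.ProjSpace.toSpec n k = X ↘ Spec (CommRingCat.of k))
    (hnorat : ∀ g : CohB1.ProjSpace 1 k ⟶ X,
      g ≫ (X ↘ Spec (CommRingCat.of k)) = CohB1.ProjSpace.toSpec 1 k → ∃ x : X, Set.range g.base ⊆ {x})
    (U V : X.Opens) (hU : (U : Set X).Nonempty) (φ : (U : Scheme.{u}) ≅ (V : Scheme.{u}))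
    (hφ : φ.hom ≫ V.ι ≫ (X ↘ Spec (CommRingCat.of k)) = U.ι ≫ (X ↘ Spec (CommRingCat.of k))) :
    ∃ e : X ≅ X, U.ι ≫ e.hom = φ.hom ≫ V.ι ∧
      e.hom ≫ (X ↘ Spec (CommRingCat.of k)) = X ↘ Spec (CommRingCat.of k) := by
  haveI : IsProper (X ↘ Spec (CommRingCat.of k)) := Groth.Agent.H28AbExt.isProper_of_projective _ hX
  exact Groth.Agent.H28AbExt.exists_iso_of_birational _ hnorat U V hU φ hφ

end Groth.Agent.S16513
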