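import Groth.Statements.S16515
import Groth.Agent.H3CAlg.FormsDim

set_option autoImplicit false
universe u
open RatCurv

namespace Groth.Agent.S16515

/-- If C ⊂ P^n is a rational normal curve and P ⊂ P^n a linear r-plane with (r + 2) k ≥ (r + 1)(n + 1),
then P is contained in a k-secant (k − 1)-plane of C, i.e. in the span of some effective divisor of
degree k on C. Stated through the identification of the linear forms on P^n with the binary forms of
degree n on C ≅ P^1: the r-plane P is recorded by the space U of degree-n binary forms vanishing on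
it (of codimension r + 1), an effective divisor of degree k on C by a nonzero binary form g of
degree k, and P ⊂ span(div g) says that every degree-n form divisible by g lies in U. Here k ≤ n,
and the ground field is arbitrary (the source works over the complex numbers). -/
theorem result (K : Type u) [Field K] (n r k : ℕ)
    (hkn : k ≤ n) (hineq : (r + 1) * (n + 1) ≤ (r + 2) * k)
    (U : Submodule K (MvPolynomial (Fin 2) K))
    (hU : U ≤ MvPolynomial.homogeneousSubmodule (Fin 2) K n)
    (hcodim : Module.finrank K ↥U + (r + 1) = n + 1) :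
    ∃ g ∈ MvPolynomial.homogeneousSubmodule (Fin 2) K k, g ≠ 0 ∧
      ∀ h ∈ MvPolynomial.homogeneousSubmodule (Fin 2) K (n - k), g * h ∈ U := by
  open MvPolynomial in
    let F := fun e => homogeneousSubmodule (Fin 2) K e
    haveI hfin : ∀ e, Module.Finite K (F e) := fun e => (Groth.Agent.H3CAlg.finrank_homogeneous (k := K) 1 e).1
    have hF : ∀ e, Module.finrank K (F e) = e + 1 := fun e =>
      (Groth.Agent.H3CAlg.finrank_homogeneous (k := K) 1 e).2.trans (Nat.choose_one_right _)
    let U' : Submodule K (F n) := U.comap (F n).subtype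
    have hU' : Module.finrank K U' = Module.finrank K U :=
      (Submodule.comapSubtypeEquivOfLe hU).finrank_eq
    let μ : F k →ₗ[K] F (n - k) →ₗ[K] (F n ⧸ U') :=
      LinearMap.mk₂ K (fun g h => Submodule.Quotient.mk (⟨g.1 * h.1, by
          have := (show g.1.IsHomogeneous k from g.2).mul (show h.1.IsHomogeneous (n - k) from h.2)
          rwa [Nat.add_sub_cancel' hkn] at this⟩ : F n))
        (fun g g' h => (congrArg _ (Subtype.ext (add_mul g.1 g'.1 h.1))).trans (Submodule.Quotient.mk_add _))
        (fun c g h => (congrArg _ (Subtype.ext (smul_mul_assoc c g.1 h.1))).trans (Submodule.Quotient.mk_smul _ _ _))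
        (fun g h h' => (congrArg _ (Subtype.ext (mul_add g.1 h.1 h'.1))).trans (Submodule.Quotient.mk_add _))
        (fun c g h => (congrArg _ (Subtype.ext (mul_smul_comm c g.1 h.1))).trans (Submodule.Quotient.mk_smul _ _ _))
    have hlt : Module.finrank K (F (n - k) →ₗ[K] (F n ⧸ U')) < Module.finrank K (F k) := by
      have := U'.finrank_quotient_add_finrank
      rw [hF, hU'] at this
      have hq : Module.finrank K (F n ⧸ U') = r + 1 := by omega
      rw [Module.finrank_linearMap, hF, hF, hq]
      obtain ⟨e, rfl⟩ : ∃ e, n = k + e := ⟨n - k, by omega⟩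
      rw [Nat.add_sub_cancel_left]
      nlinarith
    obtain ⟨g, hg, hg0⟩ := (Submodule.ne_bot_iff _).1 (LinearMap.ker_ne_bot_of_finrank_lt (f := μ) hlt)
    refine ⟨g.1, g.2, fun h => hg0 (Subtype.ext h), fun h hh => ?_⟩
    have := LinearMap.congr_fun (LinearMap.mem_ker.1 hg) ⟨h, hh⟩
    exact (Submodule.Quotient.mk_eq_zero U').1 this

end Groth.Agent.S16515
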