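import Groth.Statements.S16516
import Mathlib

set_option autoImplicit false
universe u
open RatCurv

namespace Groth.Agent.S16516

open MvPolynomial

theorem finrank_homog {K : Type u} [Field K] (n : ℕ) :
    Module.Finite K ↥(MvPolynomial.homogeneousSubmodule (Fin 2) K n) ∧
    Module.finrank K ↥(MvPolynomial.homogeneousSubmodule (Fin 2) K n) = n + 1 := by
  classical
  have h : MvPolynomial.homogeneousSubmodule (Fin 2) K n =
      MvPolynomial.restrictSupport K {d : Fin 2 →₀ ℕ | d.degree = n} :=
    MvPolynomial.homogeneousSubmodule_eq_finsupp_supported _ _ n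
  have hd : ∀ d : Fin 2 →₀ ℕ, d.degree = d 0 + d 1 := fun d => by
    rw [Finsupp.degree_eq_sum, Fin.sum_univ_two]
  let e : {d : Fin 2 →₀ ℕ | d.degree = n} ≃ Fin (n + 1) :=
    { toFun := fun d => ⟨d.1 0, by have := d.2; simp only [Set.mem_setOf_eq, hd] at this; omega⟩
      invFun := fun a => ⟨Finsupp.single 0 (a : ℕ) + Finsupp.single 1 (n - a), by
        show Finsupp.degree _ = n
        rw [map_add, Finsupp.degree_single, Finsupp.degree_single]; omega⟩
      left_inv := fun d => by
        have := d.2
        simp only [Set.mem_setOf_eq, hd] at this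
        refine Subtype.ext (Finsupp.ext fun i => ?_)
        fin_cases i <;> simp <;> omega
      right_inv := fun a => by simp }
  rw [h]
  haveI : Finite {d : Fin 2 →₀ ℕ | d.degree = n} := Finite.of_equiv _ e.symm
  refine ⟨Module.Finite.of_basis (MvPolynomial.basisRestrictSupport K _), ?_⟩
  rw [Module.finrank_eq_nat_card_basis (MvPolynomial.basisRestrictSupport K _), Nat.card_congr e, Nat.card_fin]

/-- A smooth nondegenerate rational quintic curve C ⊂ P^4 has exactly one 3-secant line. Stated for C
given as the image of P^1 under a 5-dimensional linear series V of binary quintic forms which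
separates every length-2 subscheme of P^1 (for every nonzero quadratic form e the forms of V
together with the multiples of e span all quintic forms), so that P^1 → P(V^*) = P^4 is a closed
embedding with nondegenerate image; the linear forms on P^4 are the elements of V, a line L ⊂ P^4 is
recorded by the 3-dimensional space of linear forms vanishing on it, and L ∩ C has length at least 3
exactly when that space consists of the multiples g · K[s,t]_2 of a cubic form g. The conclusion: a
nonzero cubic g with g · K[s,t]_2 ⊆ V exists and is unique up to a scalar. (That such a line meets C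
in length exactly 3, i.e. is not 4-secant, is immediate in this description and is not restated; the
ground field is algebraically closed of characteristic zero in place of the complex numbers.) -/
theorem result (K : Type u) [Field K] [IsAlgClosed K]
    [CharZero K] (V : Submodule K (MvPolynomial (Fin 2) K))
    (hV : V ≤ MvPolynomial.homogeneousSubmodule (Fin 2) K 5) (hdim : Module.finrank K ↥V = 5)
    (hsep : ∀ e ∈ MvPolynomial.homogeneousSubmodule (Fin 2) K 2, e ≠ 0 →
      ∀ F ∈ MvPolynomial.homogeneousSubmodule (Fin 2) K 5, ∃ v ∈ V,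
        ∃ h ∈ MvPolynomial.homogeneousSubmodule (Fin 2) K 3, F = v + e * h) :
    ∃ g ∈ MvPolynomial.homogeneousSubmodule (Fin 2) K 3, g ≠ 0 ∧
      (∀ h ∈ MvPolynomial.homogeneousSubmodule (Fin 2) K 2, g * h ∈ V) ∧
      ∀ g' ∈ MvPolynomial.homogeneousSubmodule (Fin 2) K 3,
        (∀ h ∈ MvPolynomial.homogeneousSubmodule (Fin 2) K 2, g' * h ∈ V) → ∃ c : K, g' = c • g := by
  classical
  haveI := (finrank_homog (K := K) 2).1
  haveI := (finrank_homog (K := K) 3).1
  haveI := (finrank_homog (K := K) 5).1
  have h2 := (finrank_homog (K := K) 2).2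
  have h3 := (finrank_homog (K := K) 3).2
  have h5 := (finrank_homog (K := K) 5).2
  have hW : Module.finrank K ↥(V.submoduleOf (MvPolynomial.homogeneousSubmodule (Fin 2) K 5)) = 5 := by
    exact ((Submodule.submoduleOfEquivOfLe hV).finrank_eq).trans hdim
  have hWlt : V.submoduleOf (MvPolynomial.homogeneousSubmodule (Fin 2) K 5) < ⊤ := by
    refine lt_top_iff_ne_top.2 fun h => ?_
    rw [h, finrank_top] at hW
    omega
  obtain ⟨φ, hφ, hφW⟩ := Submodule.exists_le_ker_of_lt_top _ hWlt
  have hker : LinearMap.ker φ = V.submoduleOf (MvPolynomial.homogeneousSubmodule (Fin 2) K 5) := by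
    refine (Submodule.eq_of_le_of_finrank_le hφW ?_).symm
    have hne : LinearMap.ker φ ≠ ⊤ := fun h => hφ (LinearMap.ker_eq_top.1 h)
    have := Submodule.finrank_lt hne
    omega
  let P : ↥(MvPolynomial.homogeneousSubmodule (Fin 2) K 3) →ₗ[K] ↥(MvPolynomial.homogeneousSubmodule (Fin 2) K 2) →ₗ[K]
      ↥(MvPolynomial.homogeneousSubmodule (Fin 2) K 5) :=
    LinearMap.mk₂ K (fun g h => ⟨g.1 * h.1, MvPolynomial.IsHomogeneous.mul g.2 h.2⟩)
      (fun a b c => Subtype.ext (add_mul _ _ _)) (fun c a b => Subtype.ext (smul_mul_assoc _ _ _))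
      (fun a b c => Subtype.ext (mul_add _ _ _)) (fun c a b => Subtype.ext (mul_smul_comm _ _ _))
  let Ψ := P.compr₂ φ
  have hmem : ∀ (g : ↥(MvPolynomial.homogeneousSubmodule (Fin 2) K 3))
      (h : ↥(MvPolynomial.homogeneousSubmodule (Fin 2) K 2)), Ψ g h = 0 ↔ g.1 * h.1 ∈ V := fun g h => by
    show φ (P g h) = 0 ↔ _
    rw [← LinearMap.mem_ker, hker]
    rfl
  have hinj : Function.Injective Ψ.flip := by
    refine (injective_iff_map_eq_zero _).2 fun e he => ?_
    by_contra hne
    refine hφ (LinearMap.ker_eq_top.1 ?_)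
    rw [hker]
    refine eq_top_iff.2 fun F _ => ?_
    obtain ⟨v, hv, h, hh, hF⟩ := hsep e.1 e.2 (fun h0 => hne (Subtype.ext h0)) F.1 F.2
    show F.1 ∈ V
    rw [hF, mul_comm e.1]
    exact add_mem hv ((hmem ⟨h, hh⟩ e).1 (LinearMap.congr_fun he ⟨h, hh⟩))
  have hsur : Function.Surjective Ψ := LinearMap.flip_injective_iff₂.1 hinj
  have hk : Module.finrank K ↥(LinearMap.ker Ψ) = 1 := by
    have := LinearMap.finrank_range_add_finrank_ker Ψ
    rw [LinearMap.range_eq_top.2 hsur, finrank_top, Module.finrank_linearMap, Module.finrank_self, h3, h2] at this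
    omega
  have hne : LinearMap.ker Ψ ≠ ⊥ := fun h => by rw [h, finrank_bot] at hk; omega
  obtain ⟨g, hgK, hg0⟩ := Submodule.exists_mem_ne_zero_of_ne_bot hne
  have hspan : Submodule.span K {g} = LinearMap.ker Ψ :=
    Submodule.eq_of_le_of_finrank_le ((Submodule.span_singleton_le_iff_mem _ _).2 hgK)
      (by rw [hk, finrank_span_singleton hg0])
  refine ⟨g.1, g.2, fun h => hg0 (Subtype.ext h), fun h hh => ?_, fun g' hg' hg'V => ?_⟩
  · exact (hmem g ⟨h, hh⟩).1 (LinearMap.congr_fun (LinearMap.mem_ker.1 hgK) ⟨h, hh⟩)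
  · have hg'K : (⟨g', hg'⟩ : ↥(MvPolynomial.homogeneousSubmodule (Fin 2) K 3)) ∈ LinearMap.ker Ψ :=
      LinearMap.mem_ker.2 (LinearMap.ext fun h => (hmem ⟨g', hg'⟩ h).2 (hg'V h.1 h.2))
    rw [← hspan] at hg'K
    obtain ⟨c, hc⟩ := Submodule.mem_span_singleton.1 hg'K
    exact ⟨c, (congrArg Subtype.val hc).symm⟩

end Groth.Agent.S16516
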