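import Groth.Statements.S16519
import Mathlib.Data.Fintype.Pi
import Mathlib.Data.Fintype.Card
import Mathlib.Tactic

set_option autoImplicit false
open CubicSurf

namespace Groth.Agent.S16519

/-- On a smooth cubic surface there are exactly 72 divisor classes L with L² = 1 and L · K = −3. Stated
in the lattice ℤ^{1,6} with basis l, e_1, …, e_6 (l² = 1, e_i² = −1, K = −3l + Σ e_i): the integer
vectors (a, b) ∈ ℤ × ℤ^6, standing for a·l − Σ b_i e_i, with 3a − Σ b_i = 3 and a² − Σ b_i² = 1 form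
a set of exactly 72 elements. -/
theorem result :
    {p : ℤ × (Fin 6 → ℤ) | 3 * p.1 - (Finset.univ.sum fun i => p.2 i) = 3 ∧
        p.1 ^ 2 - (Finset.univ.sum fun i => p.2 i ^ 2) = 1}.ncard = 72 := by
  have key : {p : ℤ × (Fin 6 → ℤ) | 3 * p.1 - (Finset.univ.sum fun i => p.2 i) = 3 ∧
      p.1 ^ 2 - (Finset.univ.sum fun i => p.2 i ^ 2) = 1} =
      ↑((((Finset.Icc (1:ℕ) 5) ×ˢ Fintype.piFinset (fun _ : Fin 6 => Finset.range 3)).filter
        (fun p => 3 * p.1 = 3 + (Finset.univ.sum fun i => p.2 i) ∧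
          p.1 ^ 2 = 1 + (Finset.univ.sum fun i => p.2 i ^ 2))).map
        ⟨fun p => ((p.1 : ℤ), fun i => (p.2 i : ℤ)), fun x y h => by
          simp only [Prod.mk.injEq, Nat.cast_inj, funext_iff] at h
          exact Prod.ext h.1 (funext h.2)⟩) := by
    ext ⟨l, a⟩
    simp only [Set.mem_ofPred_eq, Finset.coe_map, Function.Embedding.coeFn_mk, Set.mem_image,
      Finset.mem_coe, Finset.mem_filter, Finset.mem_product, Finset.mem_Icc, Fintype.mem_piFinset,
      Finset.mem_range, Prod.mk.injEq, Prod.exists]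
    constructor
    · rintro ⟨h1, h2⟩
      have hsum : ∑ i, (2 * a i - (l - 1)) ^ 2 = -2 * (l - 1) * (l - 5) := by
        simp only [Fin.sum_univ_six] at h1 h2 ⊢
        linear_combination (4 * (l - 1)) * h1 - 4 * h2
      have hl0 : 0 ≤ -2 * (l - 1) * (l - 5) := hsum ▸ Finset.sum_nonneg fun i _ => sq_nonneg _
      have hl : 1 ≤ l ∧ l ≤ 5 := ⟨by nlinarith, by nlinarith⟩
      have hi : ∀ i, 0 ≤ a i ∧ a i < 3 := by
        intro i
        have hb : (2 * a i - (l - 1)) ^ 2 ≤ -2 * (l - 1) * (l - 5) :=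
          hsum ▸ Finset.single_le_sum (f := fun j => (2 * a j - (l - 1)) ^ 2) (fun j _ => sq_nonneg _)
            (Finset.mem_univ i)
        obtain ⟨l1, l5⟩ := hl
        constructor <;> by_contra hc <;> interval_cases l <;> nlinarith
      refine ⟨l.toNat, fun i => (a i).toNat, ⟨⟨⟨by omega, by omega⟩, fun i => by have := hi i; show (a i).toNat < 3; omega⟩, ?_, ?_⟩,
        Int.toNat_of_nonneg (by omega), funext fun i => Int.toNat_of_nonneg (hi i).1⟩
      · zify
        simp only [Int.toNat_of_nonneg (hi _).1, Int.toNat_of_nonneg (by omega : 0 ≤ l)]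
        linarith
      · zify
        simp only [Int.toNat_of_nonneg (hi _).1, Int.toNat_of_nonneg (by omega : 0 ≤ l)]
        linarith
    · rintro ⟨m, b, ⟨-, h1, h2⟩, rfl, rfl⟩
      zify at h1 h2
      exact ⟨by linarith, by linarith⟩
  rw [key, Set.ncard_coe_finset, Finset.card_map]
  decide +kernel

end Groth.Agent.S16519
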