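import Groth.Statements.S1652
import Mathlib
import Groth.Agent.H29RR.Sections
import Groth.Agent.H11Ample.Basic

set_option autoImplicit false
universe u
open CategoryTheory CategoryTheory.Limits AlgebraicGeometry
open Variety

namespace Groth.Agent.S1652

/-- On a proper curve over a field, if L and M are invertible modules with L ⊗ M ≅ O_X and both L and M
have a nonzero global section, then L is isomorphic to the structure sheaf. -/
theorem result (k : Type u) [Field k] (X : Scheme.{u}) [X.Over (Spec (CommRingCat.of k))]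
    [IsIntegral X] [IsProper (X ↘ (Spec (CommRingCat.of k)))] (hdim : topologicalKrullDim X = 1)
    (L M : X.Modules) (hL : PicF.IsInvertible L) (hM : PicF.IsInvertible M) (hLM : ClSub.IsInverseOf L M)
    (s : Coh.structureModule X ⟶ L) (hs : s ≠ 0) (t : Coh.structureModule X ⟶ M) (ht : t ≠ 0) :
    Nonempty (L ≅ Coh.structureModule X) := by
  haveI := Groth.Agent.H29RR.isNoetherian_of_proper (k := k) (X := X)
  have hnt : ∀ {N : X.Modules} (a : Coh.structureModule X ⟶ N), a ≠ 0 → Nontrivial (Coh.HH X N 0) := by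
    intro N a ha
    have hv : (SecTwist.val a ⊤ : Γ(N, ⊤)) ≠ 0 := fun h0 => ha (Scheme.Modules.hom_ext _ _ fun W => by
      ext r
      refine (Groth.Agent.H06Mod.app_unit a W r).trans ?_
      refine Eq.trans (congrArg (fun z => (show Γ(X, W) from r) • (N.presheaf.map (homOfLE (le_top : W ≤ ⊤)).op z)) h0) ?_
      erw [map_zero, smul_zero]
      rfl)
    let e := (Groth.Agent.H10Coh.HHEquiv N 0).trans
      (Groth.Agent.H10Coh.H0Equiv (Groth.Agent.H10Coh.sh N) (⊤ : X.Opens))
    exact ⟨⟨e.symm (SecTwist.val a ⊤), 0, fun h0 => hv (e.symm.injective (h0.trans (map_zero e.symm).symm))⟩⟩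
  obtain ⟨hL0, -, -, hiso⟩ := Groth.Agent.H29RR.bounds_of_section (k := k) hdim.le hL (hnt s hs)
  obtain ⟨hM0, -, -, -⟩ := Groth.Agent.H29RR.bounds_of_section (k := k) hdim.le hM (hnt t ht)
  obtain ⟨e⟩ := hLM
  have h := Groth.Agent.H29RR.deg_tensor (k := k) hdim.le hL hM
  rw [Groth.Agent.H29RR.deg_congr e, Groth.Agent.H29RR.deg_structureModule] at h
  exact hiso (by omega)

end Groth.Agent.S1652
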