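import Groth.Statements.S1653
import Mathlib
import Groth.Agent.H22Alg.FibreDimBound

set_option autoImplicit false
universe u
open CategoryTheory CategoryTheory.Limits AlgebraicGeometry
open Variety

namespace Groth.Agent.S1653

/-- Let f : X → Y be a k-morphism of schemes locally of finite type over a field k, with X irreducible
of dimension a, and let the closure of the image of f have dimension b. Then the local fibre
dimension of f at every point of X is at least a - b, and the set of points where it equals a - b is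
open and dense. -/
theorem result (k : Type u) [Field k] (X Y : Scheme.{u}) [X.Over (Spec (CommRingCat.of k))] [Y.Over (Spec (CommRingCat.of k))]
    [LocallyOfFiniteType (X ↘ (Spec (CommRingCat.of k)))] [LocallyOfFiniteType (Y ↘ (Spec (CommRingCat.of k)))] [IrreducibleSpace X]
    (f : X ⟶ Y) (hf : f ≫ (Y ↘ (Spec (CommRingCat.of k))) = X ↘ (Spec (CommRingCat.of k))) (a b : ℕ) (ha : topologicalKrullDim X = a)
    (hb : topologicalKrullDim (closure (Set.range f.base)) = b) :
    (∀ x : X, ((a - b : ℕ) : WithBot ℕ∞) ≤ FlatMor.fibreDimAt f x) ∧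
      IsOpen {x : X | FlatMor.fibreDimAt f x = (a - b : ℕ)} ∧ Dense {x : X | FlatMor.fibreDimAt f x = (a - b : ℕ)} := by
  open Groth.Agent.H8Props in
  haveI : LocallyOfFiniteType (f ≫ (Y ↘ (Spec (CommRingCat.of k)))) := hf ▸ inferInstance
  haveI : LocallyOfFiniteType f := locallyOfFiniteType_of_comp f (Y ↘ (Spec (CommRingCat.of k)))
  let η := genericPoint X
  have hη : IsGenericPoint η (Set.univ : Set X) := genericPoint_spec X
  have hη1 : closure ({η} : Set X) = Set.univ := hη.def
  have hmaxη : ∀ ζ, ζ ⤳ η → ζ = η := fun ζ hζ =>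
    (hζ.antisymm (hη.specializes trivial)).eq
  have hcX : FieldDim.cdim η = topologicalKrullDim X := by
    unfold FieldDim.cdim
    rw [hη1]
    exact IsHomeomorph.topologicalKrullDim_eq _ (Homeomorph.Set.univ X).isHomeomorph
  have hcl : closure (Set.range f.base) = closure {f.base η} := by
    refine le_antisymm (closure_minimal ?_ isClosed_closure) (closure_mono (Set.singleton_subset_iff.mpr ⟨η, rfl⟩))
    rintro _ ⟨z, rfl⟩
    exact ((hη.specializes trivial).map f.continuous).mem_closure
  have hcY : FieldDim.cdim (f η) = b := by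
    rw [← hb, hcl]; rfl
  have hadd := FieldDim.cdim_eq_add (X ↘ _) (Y ↘ _) f hf η
  rw [hcX, ha, hcY] at hadd
  haveI := FieldDim.locallyOfFiniteType_fiberToSpec f (f η)
  obtain ⟨c, hc, -⟩ := FieldDim.exists_trdeg_fiber f (f.asFiber η)
  rw [hc] at hadd
  have hab : a = c + b := by exact_mod_cast hadd
  have hfη : FlatMor.fibreDimAt f η = ((a - b : ℕ) : WithBot ℕ∞) := by
    rw [show a - b = c by omega, ← hc]
    refine FieldDim.localDim_of_maximal (k := Y.residueField (f η)) (f.fiberToSpecResidueField (f η)) (f.asFiber η) fun u hu => ?_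
    refine (f.fiberι (f η)).isEmbedding.injective ?_
    have := hu.map (f.fiberι (f η)).continuous
    rw [f.fiberι_asFiber] at this ⊢
    exact hmaxη _ this
  have hge : ∀ x : X, ((a - b : ℕ) : WithBot ℕ∞) ≤ FlatMor.fibreDimAt f x := fun x =>
    hfη ▸ FieldDim.fibreDimAt_le_of_specializes f (hη.specializes (Set.mem_univ x))
  have hset : {x : X | FlatMor.fibreDimAt f x = (a - b : ℕ)} = {x : X | FlatMor.fibreDimAt f x ≤ ((a - b : ℕ) : WithBot ℕ∞)} :=
    Set.ext fun x => ⟨fun h => h.le, fun h => le_antisymm h (hge x)⟩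
  refine ⟨hge, hset ▸ FieldDim.isOpen_fibreDimAt_le f (a - b), ?_⟩
  intro y
  have hy : y ∈ closure ({η} : Set X) := hη1 ▸ Set.mem_univ y
  exact closure_mono (show ({η} : Set X) ⊆ {x : X | FlatMor.fibreDimAt f x = (a - b : ℕ)} from Set.singleton_subset_iff.mpr hfη) hy

end Groth.Agent.S1653
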