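import Groth.Statements.S16534
import Groth.Agent.H23Quintic.Equations

set_option autoImplicit false
universe u
open CategoryTheory CategoryTheory.Limits AlgebraicGeometry
open Curves

namespace Groth.Agent.S16534

/-- Over an algebraically closed field k of characteristic zero (in place of the complex numbers), a
smooth connected quintic curve of genus 2 in P^4 lies in a hyperplane and on a quadric surface in
that hyperplane. Here C is smooth, proper and integral of dimension one over k with dim_k H^1(C,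
O_C) = 2, i : C → P^4_k is a closed immersion over k with deg i^*O(1) = χ(i^*O(1)) − χ(O_C) = 5, and
the conclusion provides a nonzero linear form l and a quadratic form q not divisible by l such that
i factors through V_+(l) ∩ V_+(q). -/
theorem result (k : Type u) [Field k] [IsAlgClosed k]
    [CharZero k] (C : Scheme.{u}) [C.Over (Spec (CommRingCat.of k))] [Smooth (C ↘ Spec (CommRingCat.of k))] [IsProper (C ↘ Spec (CommRingCat.of k))]
    [IsIntegral C] (hC : topologicalKrullDim C = 1) (hg : Curv2.genus k C = 2)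
    (i : C ⟶ CohB1.ProjSpace 4 k) [IsClosedImmersion i] (hi : i ≫ CohB1.ProjSpace.toSpec 4 k = C ↘ Spec (CommRingCat.of k))
    (hdeg : Curv2.deg k C ((Scheme.Modules.pullback i).obj (Twist.twistProjSpace 4 k 1)) 1 = 5) :
    ∃ (l : LefPen.Form 4 k 1) (q : LefPen.Form 4 k 2), l ≠ 0 ∧ q.1 ∉ Ideal.span {l.1} ∧
      ∃ j : C ⟶ (LefPen.hypIdeal l ⊔ LefPen.hypIdeal q).subscheme,
        j ≫ (LefPen.hypIdeal l ⊔ LefPen.hypIdeal q).subschemeι = i := by
  haveI := H29RR.isNoetherian_of_proper (k := k) (X := C)
  let O : ℤ → (CohB1.ProjSpace 4 k).Modules := fun d => Twist.twistProjSpace 4 k d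
  let L := (Scheme.Modules.pullback i).obj (O 1)
  have hL : PicF.IsInvertible L :=
    H11Ample.isInvertible_pullback i (H22Alg.RegSheaf.isInvertible_twistProjSpace 4 k 1)
  have hL2 : PicF.IsInvertible ((Scheme.Modules.pullback i).obj (O 2)) :=
    H11Ample.isInvertible_pullback i (H22Alg.RegSheaf.isInvertible_twistProjSpace 4 k 2)
  obtain ⟨a⟩ := (H10Coh.Stab.isTwistFamily_projSpace 4 k).add 1 1
  let e : (Scheme.Modules.pullback i).obj (O 2) ≅ CohB1.tensorMod L L :=
    (Scheme.Modules.pullback i).mapIso a.symm ≪≫ (H16Derived.KFlat.Stalk.pullTensorLIso i (O 1)).app (O 1)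
  have h0 : Module.finrank k (Coh.HH C (Coh.structureModule C) 0) = 1 := H29RR.finrank_h0_structure k C
  have hdω := H29CurveDual.deg_omega_of_h0 (k := k) (X := C) hC h0
  have hd1 : Curv2.deg k C L 1 = 5 := hdeg
  have hd2 : Curv2.deg k C ((Scheme.Modules.pullback i).obj (O 2)) 1 = 10 := by
    rw [H29RR.deg_congr (k := k) e, H29RR.deg_tensor (k := k) hC.le hL hL, hd1]
    norm_num
  haveI := H29CurveDual.subsingleton_h1_of_deg (k := k) hC hL (by rw [hd1, hdω, hg]; norm_num)
  haveI := H29CurveDual.subsingleton_h1_of_deg (k := k) hC hL2 (by rw [hd2, hdω, hg]; norm_num)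
  have hr1 := H29RR.riemann_roch (k := k) hC.le L
  have hr2 := H29RR.riemann_roch (k := k) hC.le ((Scheme.Modules.pullback i).obj (O 2))
  rw [Module.finrank_zero_of_subsingleton (R := k) (M := Coh.HH C L 1), hd1, hg, h0] at hr1
  rw [Module.finrank_zero_of_subsingleton (R := k)
    (M := Coh.HH C ((Scheme.Modules.pullback i).obj (O 2)) 1), hd2, hg, h0] at hr2
  have hf1 : FiniteDimensional k (Coh.HH C ((Scheme.Modules.pullback i).obj (O ((1 : ℕ) : ℤ))) 0) :=
    H29RR.finite_HH (k := k) L hL 0
  have hf2 : FiniteDimensional k (Coh.HH C ((Scheme.Modules.pullback i).obj (O ((2 : ℕ) : ℤ))) 0) :=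
    H29RR.finite_HH (k := k) ((Scheme.Modules.pullback i).obj (O 2)) hL2 0
  obtain ⟨l, hl, hle⟩ := H23Quintic.exists_form_vanishing' (n := 4) i hi 1 hf1 ⊥ (by
    rw [finrank_bot]
    show 0 + Module.finrank k (Coh.HH C L 0) < Nat.choose (1 + 4) 4
    norm_num [Nat.choose]
    omega)
  haveI : FiniteDimensional k (LefPen.Form 4 k 1) := (H3CAlg.finrank_homogeneous 4 1).1
  have hrange := LinearMap.finrank_range_le (H23Quintic.mulForm l)
  rw [H23Quintic.finrank_form 4 1] at hrange
  obtain ⟨q, hq, hqe⟩ := H23Quintic.exists_form_vanishing' (n := 4) i hi 2 hf2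
    (LinearMap.range (H23Quintic.mulForm l)) (by
    show _ + Module.finrank k (Coh.HH C ((Scheme.Modules.pullback i).obj (O 2)) 0) < Nat.choose (2 + 4) 4
    norm_num [Nat.choose] at hrange ⊢
    omega)
  have hker : (LefPen.hypIdeal l ⊔ LefPen.hypIdeal q).subschemeι.ker ≤ i.ker := by
    rw [Scheme.IdealSheafData.ker_subschemeι]
    exact sup_le hle hqe
  exact ⟨l, q, fun h => hl (h ▸ Submodule.zero_mem _), H23Quintic.notMem_span_of_notMem_range l hq,
    IsClosedImmersion.lift _ i hker, IsClosedImmersion.lift_fac _ _ _⟩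

end Groth.Agent.S16534
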