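import Groth.Statements.S16539
import Mathlib
import Groth.Agent.H27Disp.Level
import Groth.Agent.H27Disp.VSharp
import Groth.Agent.H27Disp.IdemEnd

set_option autoImplicit false
universe u v
open Disp
open scoped Pointwise

namespace Groth.Agent.S16539

/-- Let p be a prime, k a perfect commutative ring of characteristic p, W = W(k) with Frobenius
automorphism σ, and M a finitely generated projective W-module carrying a Dieudonné module
structure, a σ-semilinear F and a σ⁻¹-semilinear V with FV = VF = p. Let D be the associated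
3n-display (M, VM, F, V⁻¹): the 3n-display structure on M whose submodule is the image of V, whose
Frobenius operator is F and whose inverse operator sends V m to m. Then D is a display, i.e. its
operator V# satisfies the nilpotence condition, if and only if V is topologically nilpotent for the
p-adic topology on M: for every e some power of V maps M into p^e M. -/
theorem result (p : ℕ) [Fact p.Prime] (k : Type u) [CommRing k]
    [CharP k p] [PerfectRing k p]
    (M : Type v) [AddCommGroup M] [Module (WittVector p k) M] [Module.Finite (WittVector p k) M]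
    [Module.Projective (WittVector p k) M] (Dm : Dieu.DieuMod p k M) (D : W4c1extbt610.Display3n p k M)
    (hF : D.F = Dm.F) (hQ : ∀ x : M, x ∈ D.Q ↔ x ∈ Set.range Dm.V)
    (hV : ∀ (m : M) (h : Dm.V m ∈ D.Q), D.Vinv ⟨Dm.V m, h⟩ = m) :
    Dieu.IsDisplay D ↔ Dm.VTopNilp := by
  classical
  haveI := Groth.Agent.H27Disp.isReduced_perfect p k
  haveI hσs : RingHomSurjective (WittVector.frobenius : WittVector p k →+* WittVector p k) :=
    ⟨(WittVector.frobenius_bijective p k).2⟩
  obtain ⟨Vs, hVs⟩ := Groth.Agent.H27Disp.exists_vSharp (p := p) ⟨1, by rw [pow_one, CharP.cast_eq_zero]⟩ D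
  have hone : ∀ x : M, Vs x = Dieu.BC.tmul _ 1 (Dm.V x) := by
    intro x
    have h := hVs.app_smul_Vinv 1 ⟨Dm.V x, (hQ _).mpr ⟨x, rfl⟩⟩
    rw [one_smul, hV] at h
    exact h
  have hpow : ∀ (n : ℕ) (x : M), Dieu.vSharpPow Vs n x = Dieu.BC.tmul _ 1 ((⇑Dm.V)^[n + 1] x) := by
    intro n
    induction n with
    | zero =>
      intro x
      rw [Dieu.vSharpPow_zero_apply, hone, Dieu.BC.castHom_tmul]
      rfl
    | succ n ih =>
      intro x
      rw [Dieu.vSharpPow_succ_apply, hone, Dieu.BC.map_tmul, ih, Dieu.BC.lift_tmul, one_smul,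
        Dieu.BC.push_tmul, map_one, Dieu.BC.castHom_tmul, Function.iterate_succ_apply _ (n + 1)]
  have hJ : W4c1extbt610.IV p k ⊔ Ideal.span {(p : WittVector p k)} = Ideal.span {(p : WittVector p k)} :=
    sup_eq_right.mpr fun x hx =>
      (WittVector.mem_span_p_iff_coeff_zero_eq_zero x).mpr (Groth.Agent.H27Disp.coeff_zero_of_mem_IV hx)
  obtain ⟨l, g, hg⟩ := Module.Finite.exists_fin' (WittVector p k) M
  obtain ⟨s, hs⟩ := Module.projective_lifting_property g LinearMap.id hg
  have hdet : ∀ (n : ℕ) (y : M),
      Dieu.BC.tmul ((WittVector.frobenius : WittVector p k →+* WittVector p k) ^ n) 1 y ∈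
        Ideal.span {(p : WittVector p k)} •
          (⊤ : Submodule (WittVector p k) (Dieu.BC ((WittVector.frobenius : WittVector p k →+* WittVector p k) ^ n) M)) →
      y ∈ Ideal.span {(p : WittVector p k)} • (⊤ : Submodule (WittVector p k) M) := by
    intro n y hy
    have hbij : Function.Bijective ((WittVector.frobenius : WittVector p k →+* WittVector p k) ^ n) := by
      rw [RingHom.coe_pow]
      exact (WittVector.frobenius_bijective p k).iterate n
    have hcoord : ∀ i, s y i ∈ Ideal.span {(p : WittVector p k)} := fun i => by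
      let c := Dieu.BC.lift ((WittVector.frobenius : WittVector p k →+* WittVector p k) ^ n)
        ((Dieu.semilinearOfRingHom ((WittVector.frobenius : WittVector p k →+* WittVector p k) ^ n)).comp
          ((LinearMap.proj i : (Fin l → WittVector p k) →ₗ[WittVector p k] WittVector p k) ∘ₗ s))
      have h := Groth.Agent.H27Disp.map_mem_smul_top _ c hy
      simp only [c, Dieu.BC.lift_tmul, one_smul, smul_eq_mul, Ideal.mul_top] at h
      rw [one_mul] at h
      change ((WittVector.frobenius : WittVector p k →+* WittVector p k) ^ n) (s y i) ∈ Ideal.span {(p : WittVector p k)} at h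
      obtain ⟨b, hb⟩ := Ideal.mem_span_singleton'.mp h
      obtain ⟨b, rfl⟩ := hbij.2 b
      have : b * (p : WittVector p k) = s y i := hbij.1 (by rw [map_mul, map_natCast, hb])
      exact Ideal.mem_span_singleton'.mpr ⟨b, this⟩
    have h := Groth.Agent.H27Disp.map_mem_smul_top _ g (Groth.Agent.H27Disp.pi_mem_smul_top _ _ hcoord)
    rwa [show g (s y) = y from LinearMap.congr_fun hs y] at h
  constructor
  · rintro ⟨Vs', hVs', n, hn⟩
    rw [Groth.Agent.H27Disp.vSharp_unique D hVs' hVs] at hn
    have h1 : ∀ x, (⇑Dm.V)^[n + 1] x ∈ Ideal.span {(p : WittVector p k)} • (⊤ : Submodule (WittVector p k) M) := by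
      intro x
      refine hdet (n + 1) _ ?_
      have := hn x
      rwa [hJ, hpow] at this
    intro e
    refine ⟨(n + 1) * e, ?_⟩
    induction e with
    | zero => intro m; simp
    | succ e ih =>
      intro m
      obtain ⟨z, -, hz⟩ : (⇑Dm.V)^[n + 1] m ∈ (p : WittVector p k) • (⊤ : Submodule (WittVector p k) M) := by
        have := h1 m
        rwa [Submodule.ideal_span_singleton_smul] at this
      have hVp : ∀ (j : ℕ) (z : M), (⇑Dm.V)^[j] ((p : WittVector p k) • z) = (p : WittVector p k) • (⇑Dm.V)^[j] z := by
        intro j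
        induction j with
        | zero => intro z; rfl
        | succ j ihj =>
          intro z
          rw [Function.iterate_succ_apply, Function.iterate_succ_apply, LinearMap.map_smulₛₗ Dm.V, map_natCast, ihj]
      rw [Nat.mul_succ, Function.iterate_add_apply, ← hz]
      show (⇑Dm.V)^[(n + 1) * e] ((p : WittVector p k) • z) ∈ _
      rw [hVp, pow_succ', Submodule.mul_smul]
      exact Submodule.smul_mem_smul (Ideal.mem_span_singleton_self _) (ih z)
  · intro h
    obtain ⟨n, hn⟩ := h 1
    refine ⟨Vs, hVs, n, fun x => ?_⟩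
    rw [hJ, hpow, Function.iterate_succ_apply]
    have := hn (Dm.V x)
    rw [pow_one] at this
    refine Submodule.smul_induction_on (p := fun y => Dieu.BC.tmul _ 1 y ∈ _) this (fun r hr y _ => ?_) (fun a b ha hb => ?_)
    · rw [← Dieu.BC.tmul_mul_apply, one_mul, Dieu.BC.tmul_eq_smul_tmul_one]
      refine Submodule.smul_mem_smul ?_ Submodule.mem_top
      obtain ⟨c, rfl⟩ := Ideal.mem_span_singleton'.mp hr
      rw [map_mul, map_natCast]
      exact Ideal.mul_mem_left _ _ (Ideal.mem_span_singleton_self _)
    · rw [Dieu.BC.tmul_add]; exact add_mem ha hb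

end Groth.Agent.S16539
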