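import Groth.Statements.S16542
import Mathlib

set_option autoImplicit false
universe u v
open Disp

namespace Groth.Agent.S16542

/-- Let p be a prime, S → R a faithfully flat homomorphism of commutative rings with p nilpotent in S,
(P, Q, F, V⁻¹) a display over S, and (P_R, Q_R, F_R, V_R⁻¹) a 3n-display structure on P_R = W(R)
⊗_{W(S)} P which is its base change along S → R (Q_R the kernel of P_R → R ⊗_S (P/Q), F_R(w ⊗ x) =
σ(w) ⊗ F x, V_R⁻¹(w ⊗ y) = σ(w) ⊗ V⁻¹ y for y ∈ Q, V_R⁻¹(V(w) ⊗ x) = w ⊗ F x). Then for x ∈ P one
has x ∈ Q if and only if 1 ⊗ x ∈ Q_R: together with the exactness of 0 → P → P_R ⇉ P_{R ⊗ R} this is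
the exactness of 0 → Q → Q_R ⇉ Q_{R ⊗ R} at Q. -/
theorem result (p : ℕ) [Fact p.Prime]
    (S R : Type u) [CommRing S] [CommRing R] [Algebra S R] [Module.FaithfullyFlat S R] (hp : IsNilpotent (p : S))
    (P : Type v) [AddCommGroup P] [Module (WittVector p S) P] (D : W4c1extbt610.Display3n p S P)
    (hD : Dieu.IsDisplay D)
    (DR : W4c1extbt610.Display3n p R (Dieu.BC (WittVector.map (algebraMap S R) : WittVector p S →+* WittVector p R) P))
    (hDR : Dieu.IsDispBaseChange (algebraMap S R) D DR) (x : P) :
    x ∈ D.Q ↔ Dieu.BC.ι (WittVector.map (algebraMap S R) : WittVector p S →+* WittVector p R) P x ∈ DR.Q := by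
  rw [hDR.Q_eq, LinearMap.mem_ker, Dieu.BC.ι_apply, Dieu.bcQuotMap_tmul, map_one]
  constructor
  · intro hx
    rw [Submodule.mkQ_apply, (Submodule.Quotient.mk_eq_zero _).mpr hx, Dieu.BC.tmul_zero]
  · intro hx
    rw [← Submodule.Quotient.mk_eq_zero D.Q, ← Submodule.mkQ_apply]
    generalize D.Q.mkQ x = m at hx ⊢
    letI : SMul S (P ⧸ D.Q) := ⟨fun s m => WittVector.teichmuller p s • m⟩
    have hsmul : ∀ (c : WittVector p S) (m : P ⧸ D.Q),
        (WittVector.constantCoeff c) • m = c • m := by
      intro c m
      induction m using Submodule.Quotient.induction_on with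
      | H y =>
        show WittVector.teichmuller p (WittVector.constantCoeff c) • D.Q.mkQ y = c • D.Q.mkQ y
        rw [Submodule.mkQ_apply]
        rw [← Submodule.Quotient.mk_smul, ← Submodule.Quotient.mk_smul, Submodule.Quotient.eq,
          ← sub_smul]
        refine D.IV_smul_le (Submodule.smul_mem_smul ?_ Submodule.mem_top)
        set d := WittVector.teichmuller p (WittVector.constantCoeff c) - c with hd
        have h0 : ∀ i < 1, d.coeff i = 0 := by
          intro i hi
          obtain rfl : i = 0 := by omega
          have : WittVector.constantCoeff d = 0 := by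
            rw [hd, map_sub, sub_eq_zero]
            exact WittVector.teichmuller_coeff_zero p _
          exact this
        rw [WittVector.eq_iterate_verschiebung h0]
        exact W4c1extbt610.verschiebung_mem_IV p S _
    letI : Module S (P ⧸ D.Q) :=
      Function.Surjective.moduleLeft (WittVector.constantCoeff : WittVector p S →+* S)
        (fun s => ⟨WittVector.teichmuller p s, WittVector.teichmuller_coeff_zero p s⟩) hsmul
    let g := (WittVector.constantCoeff : WittVector p R →+* R).comp
      (WittVector.map (algebraMap S R) : WittVector p S →+* WittVector p R)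
    let ψ : Dieu.BC g (P ⧸ D.Q) →+ TensorProduct S R (P ⧸ D.Q) :=
      TensorProduct.liftAddHom
        (AddMonoidHom.mk' (fun t : Dieu.Res g => (TensorProduct.mk S R (P ⧸ D.Q) t.val).toAddMonoidHom)
          (fun a b => AddMonoidHom.ext fun y => TensorProduct.add_tmul a.val b.val y))
        (fun c t y => by
          show TensorProduct.tmul S (g c * t.val) y = TensorProduct.tmul S t.val (c • y)
          rw [← hsmul c y, ← TensorProduct.smul_tmul, Algebra.smul_def]
          rfl)
    have h1 : TensorProduct.tmul S (1 : R) m = 0 := (congrArg ψ hx).trans (map_zero ψ)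
    exact Module.FaithfullyFlat.tensorProduct_mk_injective (B := R) (P ⧸ D.Q)
      (h1.trans (TensorProduct.tmul_zero _ 1).symm)

end Groth.Agent.S16542
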