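import Groth.Statements.S16543
import Groth.Agent.H27Disp.Lifting
import Mathlib

set_option autoImplicit false
universe u v
open Disp

namespace Groth.Agent.S16543

/-- Let p be a prime, S a commutative ring in which p is nilpotent, f : S → R a surjective homomorphism
of commutative rings whose kernel is a nilpotent ideal, and (P, Q, F, V⁻¹), (P', Q', F', V'⁻¹) two
displays over S, i.e. 3n-displays whose operators V# satisfy the nilpotence condition. Let (P_R,
Q_R, F_R, V_R⁻¹) and (P'_R, Q'_R, F'_R, V'_R⁻¹) be their base changes along f, the 3n-display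
structures on W(R) ⊗_{W(S)} P and W(R) ⊗_{W(S)} P' characterised by Q_R = ker(P_R → R ⊗_S P/Q),
F_R(w ⊗ x) = σ(w) ⊗ F x, V_R⁻¹(w ⊗ y) = σ(w) ⊗ V⁻¹ y for y ∈ Q and V_R⁻¹(V(w) ⊗ x) = w ⊗ F x (and
likewise for P'). Then the natural map ψ ↦ id ⊗ ψ from homomorphisms of 3n-displays P → P' to
homomorphisms P_R → P'_R is injective, and its cokernel is a p-torsion group: for every homomorphism
χ of the base-changed 3n-displays there are n and a homomorphism ψ over S with id ⊗ ψ = p^n·χ. -/
theorem result (p : ℕ) [Fact p.Prime]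
    (S R : Type u) [CommRing S] [CommRing R] (hp : IsNilpotent (p : S))
    (f : S →+* R) (hf : Function.Surjective f) (hker : IsNilpotent (RingHom.ker f))
    (P P' : Type v) [AddCommGroup P] [Module (WittVector p S) P] [AddCommGroup P'] [Module (WittVector p S) P']
    (D : W4c1extbt610.Display3n p S P) (D' : W4c1extbt610.Display3n p S P')
    (hD : Dieu.IsDisplay D) (hD' : Dieu.IsDisplay D')
    (DR : W4c1extbt610.Display3n p R (Dieu.BC (WittVector.map f : WittVector p S →+* WittVector p R) P)) (hDR : Dieu.IsDispBaseChange f D DR)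
    (DR' : W4c1extbt610.Display3n p R (Dieu.BC (WittVector.map f : WittVector p S →+* WittVector p R) P')) (hDR' : Dieu.IsDispBaseChange f D' DR') :
    (∀ ψ χ : P →ₗ[WittVector p S] P', W4c1extbt610.IsHom D D' ψ → W4c1extbt610.IsHom D D' χ →
        Dieu.BC.map (WittVector.map f : WittVector p S →+* WittVector p R) ψ = Dieu.BC.map (WittVector.map f : WittVector p S →+* WittVector p R) χ → ψ = χ) ∧
      ∀ χ : Dieu.BC (WittVector.map f : WittVector p S →+* WittVector p R) P →ₗ[WittVector p R] Dieu.BC (WittVector.map f : WittVector p S →+* WittVector p R) P', W4c1extbt610.IsHom DR DR' χ →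
        ∃ (n : ℕ) (ψ : P →ₗ[WittVector p S] P'), W4c1extbt610.IsHom D D' ψ ∧
          Dieu.BC.map (WittVector.map f : WittVector p S →+* WittVector p R) ψ = ((p : WittVector p R) ^ n) • χ := by
  exact Groth.Agent.H27Disp.map_injective_and_exists_lift f hp hf hker D hD D' DR hDR DR' hDR'

end Groth.Agent.S16543
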