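import Groth.Statements.S16544
import Mathlib
import Groth.Agent.H27Disp.Rigid

set_option autoImplicit false
universe u v
open Disp

namespace Groth.Agent.S16544

/-- Let p be a prime and S a commutative ring in which p is nilpotent and whose nilradical (the ideal of
nilpotent elements) is a nilpotent ideal; let (P, Q, F, V⁻¹) and (P', Q', F', V'⁻¹) be displays over
S, i.e. 3n-displays whose operators V# satisfy the nilpotence condition. Then the group of
homomorphisms of displays from P to P' has no p-torsion: a W(S)-linear ψ : P → P' which is a
homomorphism of 3n-displays and satisfies p·ψ = 0 is zero. (The published statement says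
torsion-free; primes other than p are units in S, and the published proof treats the prime p.) -/
theorem result (p : ℕ) [Fact p.Prime]
    (S : Type u) [CommRing S] (hp : IsNilpotent (p : S)) (hn : IsNilpotent (nilradical S))
    (P P' : Type v) [AddCommGroup P] [Module (WittVector p S) P] [AddCommGroup P'] [Module (WittVector p S) P']
    (D : W4c1extbt610.Display3n p S P) (D' : W4c1extbt610.Display3n p S P')
    (hD : Dieu.IsDisplay D) (hD' : Dieu.IsDisplay D')
    (ψ : P →ₗ[WittVector p S] P') (hψ : W4c1extbt610.IsHom D D' ψ)
    (h : (p : WittVector p S) • ψ = 0) : ψ = 0 := by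
  classical
  haveI := D'.finite
  haveI := D'.projective
  obtain ⟨n, g, hg⟩ := Module.Finite.exists_fin' (WittVector p S) P'
  obtain ⟨i, hi⟩ := Module.projective_lifting_property g LinearMap.id hg
  let v : Fin n → P' := fun j => g (Pi.single j 1)
  have hv : ∀ z, z = ∑ j, i z j • v j := fun z => by
    have hz : g (i z) = z := LinearMap.congr_fun hi z
    have hsum : i z = ∑ j, i z j • Pi.single j (1 : WittVector p S) := by
      ext j : 1
      simp [Finset.sum_apply, Pi.single_apply]
    conv_lhs => rw [← hz, hsum, map_sum]
    simp only [map_smul, v]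
  obtain ⟨N, hN⟩ := hn
  have key : ∀ k : ℕ, ∀ x j, WittVector.map (Ideal.Quotient.mk (nilradical S ^ (k + 1))) (i (ψ x) j) = 0 := by
    intro k
    induction k with
    | zero =>
      intro x j
      rw [zero_add, pow_one]
      haveI : IsReduced (S ⧸ nilradical S) :=
        (Ideal.isRadical_iff_quotient_reduced _).mp (Ideal.radical_isRadical (⊥ : Ideal S))
      have hp0 : (p : S ⧸ nilradical S) = 0 := by
        rw [← map_natCast (Ideal.Quotient.mk (nilradical S)), Ideal.Quotient.eq_zero_iff_mem]
        exact mem_nilradical.mpr hp
      have hc : (p : WittVector p S) * i (ψ x) j = 0 := by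
        have h' := LinearMap.congr_fun h x
        rw [LinearMap.smul_apply, LinearMap.zero_apply] at h'
        have h'' := congrFun (congrArg i h') j
        rwa [map_smul, map_zero, Pi.smul_apply, smul_eq_mul] at h''
      rcases subsingleton_or_nontrivial (S ⧸ nilradical S) with hsub | hnt
      · ext m
        exact Subsingleton.elim _ _
      · haveI : CharP (S ⧸ nilradical S) p :=
          (CharP.charP_iff_prime_eq_zero Fact.out).mpr hp0
        have h' := congrArg (WittVector.map (Ideal.Quotient.mk (nilradical S))) hc
        rw [map_mul, map_natCast, map_zero, mul_comm, ← WittVector.verschiebung_frobenius] at h'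
        ext m
        have h'' := congrArg (fun w => w.coeff (m + 1)) h'
        simp only [WittVector.verschiebung_coeff_succ, WittVector.coeff_frobenius_charP,
          WittVector.zero_coeff] at h''
        simpa using IsReduced.eq_zero _ ⟨p, h''⟩
    | succ k ih =>
      set f := Ideal.Quotient.mk (nilradical S ^ (k + 1 + 1)) with hf
      have h2 : ∀ a ∈ (nilradical S ^ (k + 1)).map f, ∀ b ∈ (nilradical S ^ (k + 1)).map f, a * b = 0 := by
        intro a ha b hb
        obtain ⟨a, ha', rfl⟩ := (Ideal.mem_map_iff_of_surjective f Ideal.Quotient.mk_surjective).mp ha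
        obtain ⟨b, hb', rfl⟩ := (Ideal.mem_map_iff_of_surjective f Ideal.Quotient.mk_surjective).mp hb
        rw [← map_mul, hf, Ideal.Quotient.eq_zero_iff_mem]
        refine Ideal.pow_le_pow_right (n := k + 1 + (k + 1)) (by omega) ?_
        rw [pow_add]
        exact Ideal.mul_mem_mul ha' hb'
      have hpI : ∀ a ∈ (nilradical S ^ (k + 1)).map f, (p : S ⧸ nilradical S ^ (k + 1 + 1)) * a = 0 := by
        intro a ha
        obtain ⟨a, ha', rfl⟩ := (Ideal.mem_map_iff_of_surjective f Ideal.Quotient.mk_surjective).mp ha
        rw [← map_natCast f, ← map_mul, hf, Ideal.Quotient.eq_zero_iff_mem, pow_succ' _ (k + 1)]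
        exact Ideal.mul_mem_mul (mem_nilradical.mpr hp) ha'
      refine fun x j => Groth.Agent.H27Disp.step f D hD D' hψ i v hv _ h2 hpI (fun y l => ?_) x j
      rw [Groth.Agent.H27Disp.mem_WI]
      intro m
      rw [WittVector.map_coeff]
      refine Ideal.mem_map_of_mem f ?_
      have := congrArg (fun w => w.coeff m) (ih y l)
      simpa [WittVector.map_coeff, Ideal.Quotient.eq_zero_iff_mem] using this
  ext x
  rw [hv (ψ x), LinearMap.zero_apply]
  refine Finset.sum_eq_zero fun j _ => ?_
  suffices i (ψ x) j = 0 by rw [this, zero_smul]
  ext m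
  have h' := congrArg (fun w => w.coeff m) (key N x j)
  simp only [WittVector.map_coeff, WittVector.zero_coeff, Ideal.Quotient.eq_zero_iff_mem, pow_succ, hN] at h'
  rw [WittVector.zero_coeff]
  simpa using h'

end Groth.Agent.S16544
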