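import Groth.Statements.S16545
import Groth.Agent.H27Disp.Descent

set_option autoImplicit false
universe u v
open Disp

namespace Groth.Agent.S16545

/-- Let p be a prime, S → R a faithfully flat homomorphism of commutative rings with p nilpotent in S,
ι₁, ι₂ : R → R ⊗_S R the two coprojections, and (P, Q, F, V⁻¹), (P', Q', F', V'⁻¹) displays over S
with base changes (P_R, Q_R, F_R, V_R⁻¹) and (P'_R, Q'_R, F'_R, V'_R⁻¹) along S → R (the 3n-display
structures on W(R) ⊗_{W(S)} P and W(R) ⊗_{W(S)} P' with Q_R = ker(P_R → R ⊗_S P/Q), F_R(w ⊗ x) =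
σ(w) ⊗ F x, V_R⁻¹(w ⊗ y) = σ(w) ⊗ V⁻¹ y for y ∈ Q, V_R⁻¹(V(w) ⊗ x) = w ⊗ F x, and likewise for P').
Let χ : P_R → P'_R be a homomorphism of 3n-displays whose two scalar extensions along W(ι₁) and
W(ι₂) agree, after the modules W(R ⊗_S R) ⊗_{W(ι_i),W(R)} (W(R) ⊗_{W(S)} P) are mapped to W(R ⊗_S R)
⊗_{W(S)} P by the canonical maps u ⊗ (w ⊗ x) ↦ u·W(ι_i)(w) ⊗ x (and likewise for P'). Then there is
exactly one homomorphism of 3n-displays ψ : P → P' over S with id ⊗ ψ = χ: the sequence 0 → Hom(P,
P') → Hom(P_R, P'_R) ⇉ Hom(P_{R⊗R}, P'_{R⊗R}) is exact. The hypotheses e₁, e₂ record that both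
composite ring maps W(S) → W(R) → W(R ⊗_S R) equal W(S → R ⊗_S R); they serve to identify targets. -/
theorem result (p : ℕ) [Fact p.Prime]
    (S R : Type u) [CommRing S] [CommRing R] [Algebra S R] [Module.FaithfullyFlat S R] (hp : IsNilpotent (p : S))
    (e₁ : (WittVector.map (Algebra.TensorProduct.includeLeftRingHom : R →+* TensorProduct S R R) : WittVector p R →+* WittVector p (TensorProduct S R R)).comp (WittVector.map (algebraMap S R) : WittVector p S →+* WittVector p R) = (WittVector.map (algebraMap S (TensorProduct S R R)) : WittVector p S →+* WittVector p (TensorProduct S R R)))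
    (e₂ : (WittVector.map ((Algebra.TensorProduct.includeRight : R →ₐ[S] TensorProduct S R R) : R →+* TensorProduct S R R) : WittVector p R →+* WittVector p (TensorProduct S R R)).comp (WittVector.map (algebraMap S R) : WittVector p S →+* WittVector p R) = (WittVector.map (algebraMap S (TensorProduct S R R)) : WittVector p S →+* WittVector p (TensorProduct S R R)))
    (P P' : Type v) [AddCommGroup P] [Module (WittVector p S) P] [AddCommGroup P'] [Module (WittVector p S) P']
    (D : W4c1extbt610.Display3n p S P) (D' : W4c1extbt610.Display3n p S P')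
    (hD : Dieu.IsDisplay D) (hD' : Dieu.IsDisplay D')
    (DR : W4c1extbt610.Display3n p R (Dieu.BC (WittVector.map (algebraMap S R) : WittVector p S →+* WittVector p R) P)) (hDR : Dieu.IsDispBaseChange (algebraMap S R) D DR)
    (DR' : W4c1extbt610.Display3n p R (Dieu.BC (WittVector.map (algebraMap S R) : WittVector p S →+* WittVector p R) P')) (hDR' : Dieu.IsDispBaseChange (algebraMap S R) D' DR')
    (χ : Dieu.BC (WittVector.map (algebraMap S R) : WittVector p S →+* WittVector p R) P →ₗ[WittVector p R] Dieu.BC (WittVector.map (algebraMap S R) : WittVector p S →+* WittVector p R) P') (hχ : W4c1extbt610.IsHom DR DR' χ)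
    (hdesc : ∀ (z₁ : Dieu.BC (WittVector.map (Algebra.TensorProduct.includeLeftRingHom : R →+* TensorProduct S R R) : WittVector p R →+* WittVector p (TensorProduct S R R)) (Dieu.BC (WittVector.map (algebraMap S R) : WittVector p S →+* WittVector p R) P)) (z₂ : Dieu.BC (WittVector.map ((Algebra.TensorProduct.includeRight : R →ₐ[S] TensorProduct S R R) : R →+* TensorProduct S R R) : WittVector p R →+* WittVector p (TensorProduct S R R)) (Dieu.BC (WittVector.map (algebraMap S R) : WittVector p S →+* WittVector p R) P)),
      (Dieu.BC.castHom (P := P) e₁).comp (Dieu.BC.lift (WittVector.map (Algebra.TensorProduct.includeLeftRingHom : R →+* TensorProduct S R R) : WittVector p R →+* WittVector p (TensorProduct S R R)) (Dieu.BC.push (WittVector.map (algebraMap S R) : WittVector p S →+* WittVector p R) (WittVector.map (Algebra.TensorProduct.includeLeftRingHom : R →+* TensorProduct S R R) : WittVector p R →+* WittVector p (TensorProduct S R R)))) z₁ = (Dieu.BC.castHom (P := P) e₂).comp (Dieu.BC.lift (WittVector.map ((Algebra.TensorProduct.includeRight : R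 →ₐ[S] TensorProduct S R R) : R →+* TensorProduct S R R) : WittVector p R →+* WittVector p (TensorProduct S R R)) (Dieu.BC.push (WittVector.map (algebraMap S R) : WittVector p S →+* WittVector p R) (WittVector.map ((Algebra.TensorProduct.includeRight : R →ₐ[S] TensorProduct S R R) : R →+* TensorProduct S R R) : WittVector p R →+* WittVector p (TensorProduct S R R)))) z₂ →
        (Dieu.BC.castHom (P := P') e₁).comp (Dieu.BC.lift (WittVector.map (Algebra.TensorProduct.includeLeftRingHom : R →+* TensorProduct S R R) : WittVector p R →+* WittVector p (TensorProduct S R R)) (Dieu.BC.push (WittVector.map (algebraMap S R) : WittVector p S →+* WittVector p R) (WittVector.map (Algebra.TensorProduct.includeLeftRingHom : R →+* TensorProduct S R R) : WittVector p R →+* WittVector p (TensorProduct S R R)))) (Dieu.BC.map (WittVector.map (Algebra.TensorProduct.includeLeftRingHom : R →+* TensorProduct S R R) : WittVector p R →+* WittVector p (TensorProduct S R R)) χ z₁) =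
          (Dieu.BC.castHom (P := P') e₂).comp (Dieu.BC.lift (WittVector.map ((Algebra.TensorProduct.includeRight : R →ₐ[S] TensorProduct S R R) : R →+* TensorProduct S R R) : WittVector p R →+* WittVector p (TensorProduct S R R)) (Dieu.BC.push (WittVector.map (algebraMap S R) : WittVector p S →+* WittVector p R) (WittVector.map ((Algebra.TensorProduct.includeRight : R →ₐ[S] TensorProduct S R R) : R →+* TensorProduct S R R) : WittVector p R →+* WittVector p (TensorProduct S R R)))) (Dieu.BC.map (WittVector.map ((Algebra.TensorProduct.includeRight : R →ₐ[S] TensorProduct S R R) : R →+* TensorProduct S R R) : WittVector p R →+* WittVector p (TensorProduct S R R)) χ z₂)) :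
    ∃! ψ : P →ₗ[WittVector p S] P', W4c1extbt610.IsHom D D' ψ ∧ Dieu.BC.map (WittVector.map (algebraMap S R) : WittVector p S →+* WittVector p R) ψ = χ := by
  classical
  refine Groth.Agent.H27Disp.existsUnique_isHom D D' DR hDR DR' hDR' χ hχ fun x => ?_
  haveI := D'.finite
  haveI := D'.projective
  obtain ⟨n, q, hq⟩ := Module.Finite.exists_fin' (WittVector p S) P'
  obtain ⟨i, hi⟩ := Module.projective_lifting_property q LinearMap.id hq
  have hv : ∀ z, z = ∑ j, i z j • q (fun k => if j = k then 1 else 0) := fun z => by
    conv_lhs => rw [← LinearMap.id_apply (R := WittVector p S) z, ← hi, LinearMap.comp_apply,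
      pi_eq_sum_univ (i z), map_sum]
    simp only [map_smul]
  refine Groth.Agent.H27Disp.exists_tmul_eq _ _ _ e₁ e₂
    (fun w h => Groth.Agent.H27Disp.witt_mem_range w h) hv _ ?_
  have h := hdesc (Dieu.BC.tmul _ 1 (Dieu.BC.tmul _ 1 x)) (Dieu.BC.tmul _ 1 (Dieu.BC.tmul _ 1 x))
    (by simp only [LinearMap.comp_apply, Dieu.BC.lift_tmul, one_smul, Dieu.BC.push_tmul, map_one,
      Dieu.BC.castHom_tmul])
  simpa only [LinearMap.comp_apply, Dieu.BC.map_tmul, Dieu.BC.lift_tmul, one_smul] using h

end Groth.Agent.S16545
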