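import Groth.Statements.S16546
import Mathlib
import Groth.Agent.H27Disp.Matrix

set_option autoImplicit false
universe u v w
open Disp

namespace Groth.Agent.S16546

/-- Let p be a prime and R a commutative ring in which p is nilpotent (in particular every prime number
other than p is a unit in R); write W = W(R) with Frobenius σ, Verschiebung V, I_R = V(W) and w₀ : W
→ R for the zeroth Witt component. Let (P, Q, F, V⁻¹) be a 3n-display over R with a normal
decomposition P = L ⊕ T, Q = L + I_R·T in which T and L are free with finite bases (t_j) and (l_k).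
Let α be the square matrix over W, indexed by the disjoint union of the two index sets, such that
F(t_j) = Σ_i α_{i,j} e_i and V⁻¹(l_k) = Σ_i α_{i,k} e_i, where (e_i) is the basis of P formed by the
t_j followed by the l_k, and let β be a two-sided inverse of α. Let B be the square block of β on
the L-indices, reduced to R/pR through w₀, and write B^{(p^i)} for the matrix whose entries are the
p^i-th powers of those of B. Then (P, Q, F, V⁻¹) is a display, i.e. its operator V# satisfies the
nilpotence condition, if and only if B^{(p^{N-1})} ⋯ B^{(p)} · B = 0 for some N ≥ 1. -/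
theorem result (p : ℕ) [Fact p.Prime] (R : Type u) [CommRing R]
    (hR : ∀ ℓ : ℕ, ℓ.Prime → ℓ ≠ p → IsUnit (ℓ : R)) (hp : IsNilpotent (p : R))
    (P : Type v) [AddCommGroup P] [Module (WittVector p R) P] (D : W4c1extbt610.Display3n p R P)
    (L T : Submodule (WittVector p R) P) (hLT : IsCompl L T)
    (hQ : D.Q = L ⊔ W4c1extbt610.IV p R • T) (hLQ : L ≤ D.Q)
    (ιT ιL : Type w) [Fintype ιT] [Fintype ιL] [DecidableEq ιT] [DecidableEq ιL]
    (bT : Module.Basis ιT (WittVector p R) T) (bL : Module.Basis ιL (WittVector p R) L)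
    (α β : Matrix (ιT ⊕ ιL) (ιT ⊕ ιL) (WittVector p R)) (hαβ : α * β = 1) (hβα : β * α = 1)
    (hF : ∀ j : ιT, D.F (bT j : P) =
      Finset.univ.sum fun i : ιT ⊕ ιL => α i (Sum.inl j) • Sum.elim (fun a : ιT => (bT a : P)) (fun a : ιL => (bL a : P)) i)
    (hV : ∀ k : ιL, D.Vinv ⟨(bL k : P), hLQ (bL k).2⟩ =
      Finset.univ.sum fun i : ιT ⊕ ιL => α i (Sum.inr k) • Sum.elim (fun a : ιT => (bT a : P)) (fun a : ιL => (bL a : P)) i) :
    Dieu.IsDisplay D ↔
      ∃ N : ℕ, 0 < N ∧
        (((List.range N).reverse.map fun i : ℕ =>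
            (Matrix.of fun k l : ιL =>
                Ideal.Quotient.mk (Ideal.span {(p : R)}) (WittVector.constantCoeff (β (Sum.inr k) (Sum.inr l)))).map
              fun x : R ⧸ Ideal.span {(p : R)} => x ^ p ^ i).prod
          = 0) := by
  exact Groth.Agent.H27Disp.isDisplay_iff hp D L T hLT hLQ bT bL α β hαβ hF hV

end Groth.Agent.S16546
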