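import Groth.Statements.S16547
import Groth.Agent.H3CAlg.Eakin
import Groth.Agent.S0560
import Mathlib.Tactic.Ring

set_option autoImplicit false
universe u
open CAlg

namespace Groth.Agent.S16547

/-- Let A be a Noetherian factorial local domain and G a finite group acting faithfully on A by ring
automorphisms; let B be a ring with an injective ring map to A whose image is exactly the ring of
invariants of G, and assume A is a finite B-module. Let q be a prime ideal of B of height one and p
a prime ideal of A lying over q such that the extension of residue fields of the local rings B_q and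
A_p is trivial (every element of A is congruent modulo p to some c⁻¹b with b, c in B, c outside q).
Then q is a principal ideal; and if moreover B/q is a regular local ring, then B is a regular local
ring. -/
theorem result
    {A B G : Type u} [CommRing A] [IsDomain A] [IsNoetherianRing A] [IsLocalRing A]
    [UniqueFactorizationMonoid A]
    [CommRing B] [Algebra B A] [FaithfulSMul B A] [Module.Finite B A]
    [Group G] [Finite G] [MulSemiringAction G A] [FaithfulSMul G A] [SMulCommClass G B A]
    [Algebra.IsInvariant B A G]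
    (q : Ideal B) [q.IsPrime] (hq : q.height = 1) (p : Ideal A) [p.IsPrime] [p.LiesOver q]
    (hres : ∀ a : A, ∃ b c : B, c ∉ q ∧ algebraMap B A c * a - algebraMap B A b ∈ p) :
    Submodule.IsPrincipal q ∧ (IsRegularLocalRing (B ⧸ q) → IsRegularLocalRing B) := by
  open scoped Pointwise in
  classical
  cases nonempty_fintype G
  haveI := Algebra.IsInvariant.isIntegral B A G
  have hinj : Function.Injective (algebraMap B A) := FaithfulSMul.algebraMap_injective B A
  haveI : IsDomain B := hinj.isDomain
  haveI : IsNoetherianRing B := Groth.Agent.H3CAlg.isNoetherianRing_of_injective_of_finite B A hinj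
  haveI : IsLocalRing B := RingHom.domain_isLocalRing (algebraMap B A)
  have hqp : p.comap (algebraMap B A) = q := (Ideal.LiesOver.over (p := q) (P := p)).symm
  have hq0 : q ≠ ⊥ := fun h => by
    subst h
    rw [Ideal.height_bot] at hq
    exact zero_ne_one hq
  have hsmall : ∀ q' : Ideal B, q'.IsPrime → q' ≠ ⊥ → q' ≤ q → q' = q := by
    intro q' hq' hne hle
    by_contra hneq
    haveI := hq'
    have h1 := Ideal.height_strict_mono_of_isPrime (lt_of_le_of_ne hle hneq)
    rw [hq] at h1
    have h2 : q'.height = 0 := ENat.lt_one_iff_eq_zero.mp h1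
    exact hne (Ideal.height_eq_zero_iff_eq_bot.mp h2)
  have hp0 : p ≠ ⊥ := by
    intro h
    apply hq0
    rw [← hqp, h, Ideal.comap_bot_of_injective _ hinj]
  obtain ⟨a, hap, ha⟩ := Ideal.IsPrime.exists_mem_prime_of_ne_bot ‹p.IsPrime› hp0
  have hpa : p = Ideal.span {a} := by
    haveI : (Ideal.span {a}).IsPrime := (Ideal.span_singleton_prime ha.ne_zero).mpr ha
    have hle : Ideal.span {a} ≤ p := (Ideal.span_singleton_le_iff_mem _).mpr hap
    by_contra hne
    obtain ⟨x, hxp, hxa⟩ := SetLike.exists_of_lt (lt_of_le_of_ne hle (Ne.symm hne))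
    have h1 := Ideal.comap_lt_comap_of_integral_mem_sdiff hle ⟨hxp, hxa⟩ (Algebra.IsIntegral.isIntegral (R := B) x)
    rw [hqp] at h1
    refine absurd (hsmall _ (Ideal.IsPrime.comap _) ?_ h1.le) h1.ne
    exact Ideal.comap_ne_bot_of_integral_mem ha.ne_zero (Ideal.mem_span_singleton_self a)
      (Algebra.IsIntegral.isIntegral (R := B) a)
  have hfix : ∀ (g : G) (b : B), g • algebraMap B A b = algebraMap B A b := fun g b =>
    smul_algebraMap g b
  have hdvd : ∀ (g : G) {x y : A}, x ∣ y → g • x ∣ g • y := by
    rintro g x y ⟨c, rfl⟩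
    exact ⟨g • c, smul_mul' g x c⟩
  have hmemp : ∀ (g : G) (x : A), x ∈ g • p ↔ g • a ∣ x := by
    intro g x
    rw [hpa, Ideal.pointwise_smul_def, Ideal.map_span, Set.image_singleton, Ideal.mem_span_singleton]
    rfl
  have hga : ∀ g : G, Prime (g • a) := fun g =>
    (MulEquiv.prime_iff (MulSemiringAction.toRingEquiv G A g).toMulEquiv).mpr ha
  -- the orbit of `a` up to units
  let F : G → Associates A := fun g => Associates.mk (g • a)
  let O : Finset (Associates A) := Finset.univ.image F
  let rep : Associates A → A := Quotient.out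
  have hrep : ∀ o, Associates.mk (rep o) = o := fun o => Quotient.out_eq o
  have hrepg : ∀ o ∈ O, ∃ g : G, Associated (g • a) (rep o) := by
    intro o ho
    obtain ⟨g, -, rfl⟩ := Finset.mem_image.mp ho
    exact ⟨g, (Associates.mk_eq_mk_iff_associated.mp (hrep _)).symm⟩
  have hreppr : ∀ o ∈ O, Prime (rep o) := fun o ho => by
    obtain ⟨g, hg⟩ := hrepg o ho
    exact hg.prime (hga g)
  let Na : A := ∏ o ∈ O, rep o
  have hN0 : ∀ o ∈ O, rep o ≠ 0 := fun o ho => (hreppr o ho).ne_zero
  have hprime_dvd : ∀ {g : G} {o}, o ∈ O → g • a ∣ rep o → F g = o := by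
    intro g o ho h
    exact (Associates.mk_eq_mk_iff_associated.mpr ((hga g).associated_of_dvd (hreppr o ho) h)).trans (hrep o)
  -- any element of `B` divisible by `a ^ j` is divisible by `Na ^ j`
  have hpow : ∀ (b : B) (j : ℕ), a ^ j ∣ algebraMap B A b → Na ^ j ∣ algebraMap B A b := by
    intro b j hj
    rw [show Na ^ j = ∏ o ∈ O, rep o ^ j from (Finset.prod_pow O j rep).symm]
    refine Finset.prod_dvd_of_isRelPrime ?_ fun o ho => ?_
    · intro o ho o' ho' hne
      refine IsRelPrime.pow ?_
      rw [(hreppr o ho).irreducible.isRelPrime_iff_not_dvd]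
      intro h
      apply hne
      rw [← hrep o, ← hrep o', Associates.mk_eq_mk_iff_associated]
      exact (hreppr o ho).associated_of_dvd (hreppr o' ho') h
    · obtain ⟨g, hg⟩ := hrepg o ho
      have h := hdvd g hj
      rw [smul_pow', hfix] at h
      exact (pow_dvd_pow_of_dvd hg.dvd' j).trans h
  -- minimal valuation on `q`
  obtain ⟨b₁, hb₁q, hb₁0⟩ := Submodule.exists_mem_ne_zero_of_ne_bot hq0
  have hfm : ∀ b : B, b ≠ 0 → FiniteMultiplicity a (algebraMap B A b) := fun b hb =>
    FiniteMultiplicity.of_prime_left ha (fun h => hb (hinj (h.trans (map_zero _).symm)))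
  have hex : ∃ n, ∃ b ∈ q, b ≠ 0 ∧ ¬ a ^ (n + 1) ∣ algebraMap B A b := by
    obtain ⟨n, hn⟩ := hfm b₁ hb₁0
    exact ⟨n, b₁, hb₁q, hb₁0, hn⟩
  let e := Nat.find hex
  obtain ⟨b₀, hb₀q, hb₀0, hb₀e⟩ := Nat.find_spec hex
  have hmin : ∀ b ∈ q, a ^ e ∣ algebraMap B A b := by
    intro b hb
    by_cases hb0 : b = 0
    · rw [hb0, map_zero]; exact dvd_zero _
    rcases Nat.eq_zero_or_pos e with h0 | hpos
    · rw [h0, pow_zero]; exact one_dvd _
    by_contra hnd
    have := Nat.find_min hex (Nat.sub_lt hpos one_pos)
    exact this ⟨b, hb, hb0, by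
      show ¬ a ^ (e - 1 + 1) ∣ algebraMap B A b
      rwa [Nat.sub_add_cancel hpos]⟩
  obtain ⟨y, hy⟩ := hpow b₀ e (hmin b₀ hb₀q)
  have hyp : ∀ g : G, ¬ g • a ∣ y := by
    intro g hg
    have hgo : F g ∈ O := Finset.mem_image_of_mem F (Finset.mem_univ g)
    have hgd : g • a ∣ Na :=
      (Associates.mk_eq_mk_iff_associated.mp (hrep (F g))).symm.dvd.trans (Finset.dvd_prod_of_mem rep hgo)
    have h1 : (g • a) ^ (e + 1) ∣ algebraMap B A b₀ := by
      rw [hy, pow_succ]
      exact mul_dvd_mul (pow_dvd_pow_of_dvd hgd e) hg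
    have h2 := hdvd g⁻¹ h1
    rw [smul_pow', inv_smul_smul, hfix] at h2
    exact hb₀e h2
  obtain ⟨c, hcq, hcy⟩ : ∃ c : B, c ∉ q ∧ y ∣ algebraMap B A c := by
    by_contra hc
    have hle : (Ideal.span {y}).comap (algebraMap B A) ≤ q := fun c hcm =>
      by_contra fun h => hc ⟨c, h, Ideal.mem_span_singleton.mp hcm⟩
    obtain ⟨Q, hQy, hQ, hQq⟩ := Ideal.exists_ideal_over_prime_of_isIntegral q _ hle
    haveI := hQ
    obtain ⟨g, rfl⟩ := Algebra.IsInvariant.exists_smul_of_under_eq B A G p Q
      (show p.comap (algebraMap B A) = Q.comap (algebraMap B A) by rw [hqp, hQq])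
    exact hyp g ((hmemp g y).mp (hQy (Ideal.mem_span_singleton_self y)))
  -- filtration
  let l : List A := (List.replicate e O.toList).flatten.map rep
  have hlen : l.length = e * O.card := by
    simp [l]
  have hprod : l.prod = Na ^ e := by
    simp only [l, List.map_flatten, List.map_replicate, List.prod_flatten, List.prod_replicate,
      Finset.prod_map_toList, Na]
  let P : ℕ → A := fun k => (l.take k).prod
  let W : Submodule B A := Submodule.span B (Set.range fun k : Fin l.length => P k)
  let Q : Submodule B A := q • (⊤ : Submodule B A)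
  have hres' : ∀ (x : A), x ∈ l → ∀ z : A, ∃ (b c : B) (z' : A), c ∉ q ∧ c • z = b • (1 : A) + x * z' := by
    intro x hx z
    obtain ⟨o, ho, rfl⟩ := List.mem_map.mp hx
    obtain ⟨L', hL', hoL'⟩ := List.mem_flatten.mp ho
    obtain rfl := List.eq_of_mem_replicate hL'
    obtain ⟨g, hg⟩ := hrepg o (Finset.mem_toList.mp hoL')
    obtain ⟨b, c, hc, hbc⟩ := hres (g⁻¹ • z)
    rw [hpa, Ideal.mem_span_singleton] at hbc
    have h := hdvd g hbc
    rw [smul_sub, smul_mul', hfix, hfix, smul_inv_smul] at h
    obtain ⟨z', hz'⟩ := hg.dvd'.trans h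
    exact ⟨b, c, z', hc, by rw [Algebra.smul_def, Algebra.smul_def, mul_one, ← hz', add_sub_cancel]⟩
  have hsp : ∀ i, i ≤ l.length → ∀ z : A, ∃ c : B, c ∉ q ∧
      c • (P (l.length - i) * z) ∈ W ⊔ Q := by
    intro i
    induction i with
    | zero =>
      intro _ z
      obtain ⟨w, hw⟩ := hcy
      refine ⟨c, hcq, Submodule.mem_sup_right ?_⟩
      have : c • (P (l.length - 0) * z) = b₀ • (w * z) := by
        simp only [P, Nat.sub_zero, List.take_length, hprod, Algebra.smul_def, hy, hw]
        ring
      rw [this]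
      exact Submodule.smul_mem_smul hb₀q Submodule.mem_top
    | succ i ih =>
      intro hi z
      have hk : l.length - (i + 1) < l.length := by omega
      obtain ⟨b, c₁, z', hc₁, hz'⟩ := hres' (l[l.length - (i + 1)]) (List.getElem_mem hk) z
      obtain ⟨c₂, hc₂, hm⟩ := ih (by omega) z'
      refine ⟨c₂ * c₁, fun h => ((Ideal.IsPrime.mem_or_mem ‹q.IsPrime› h).elim hc₂ hc₁), ?_⟩
      have hP : P (l.length - i) = P (l.length - (i + 1)) * l[l.length - (i + 1)] := by
        simp only [P]
        rw [show l.length - i = l.length - (i + 1) + 1 by omega, List.prod_take_succ _ _ hk]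
      rw [mul_smul, ← mul_smul_comm, hz', mul_add, ← mul_assoc, ← hP, smul_add, mul_smul_comm, mul_one]
      exact add_mem (Submodule.mem_sup_left (Submodule.smul_mem _ _ (Submodule.smul_mem _ _
        (Submodule.subset_span ⟨⟨l.length - (i + 1), hk⟩, rfl⟩)))) hm
  have hall : ∀ z : A, ∃ c : B, c ∉ q ∧ c • z ∈ W ⊔ Q := fun z => by
    obtain ⟨c, hc, hm⟩ := hsp l.length le_rfl z
    exact ⟨c, hc, by simpa [P] using hm⟩
  -- determinant trick
  obtain ⟨d, hdq, hd⟩ : ∃ d : B, d ∉ q ∧ ∀ z : A, d • z ∈ W := by
    obtain ⟨s, hs⟩ := Module.Finite.fg_top (R := B) (M := A)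
    choose c hc hcm using hall
    let C : B := ∏ z ∈ s, c z
    have hCq : C ∉ q := fun h => by
      obtain ⟨z, -, hz⟩ := (Ideal.IsPrime.prod_mem_iff (p := q)).mp h
      exact hc z hz
    have hC : ∀ z : A, C • z ∈ W ⊔ Q := by
      intro z
      have hz : z ∈ Submodule.span B (s : Set A) := hs ▸ Submodule.mem_top
      have : Submodule.span B (s : Set A) ≤ (W ⊔ Q).comap (LinearMap.lsmul B A C) := by
        refine Submodule.span_le.mpr fun x hx => ?_
        obtain ⟨k, hk⟩ := Finset.dvd_prod_of_mem c hx
        change (∏ z ∈ s, c z) • x ∈ W ⊔ Q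
        rw [hk, mul_comm, mul_smul]
        exact Submodule.smul_mem _ _ (hcm x)
      exact this hz
    let M := A ⧸ W
    have hrange : LinearMap.range (C • (LinearMap.id : M →ₗ[B] M)) ≤ q • ⊤ := by
      rintro _ ⟨m, rfl⟩
      obtain ⟨z, rfl⟩ := W.mkQ_surjective m
      obtain ⟨w, hw, z', hz', hsum⟩ := Submodule.mem_sup.mp (hC z)
      rw [LinearMap.smul_apply, LinearMap.id_apply, ← map_smul, ← hsum, map_add,
        show W.mkQ w = 0 from (Submodule.Quotient.mk_eq_zero W).mpr hw, zero_add]
      have := Submodule.mem_map_of_mem (f := W.mkQ) hz'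
      rw [Submodule.map_smul''] at this
      exact Submodule.smul_mono (le_refl q) le_top this
    obtain ⟨f, hfm, -, hfc, hf0⟩ :=
      LinearMap.exists_monic_and_natDegree_eq_and_coeff_mem_pow_and_aeval_eq_zero B
        (C • (LinearMap.id : M →ₗ[B] M)) q hrange
    refine ⟨f.eval C, fun h => ?_, fun z => ?_⟩
    · rw [Polynomial.eval_eq_sum_range, Finset.sum_range_succ] at h
      have h1 : ∑ k ∈ Finset.range f.natDegree, f.coeff k * C ^ k ∈ q := by
        refine Ideal.sum_mem _ fun k hk => Ideal.mul_mem_right _ _ ?_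
        exact Ideal.pow_le_self (by have := Finset.mem_range.mp hk; omega) (hfc k)
      have h2 := q.sub_mem h h1
      rw [add_sub_cancel_left, hfm.coeff_natDegree, one_mul] at h2
      exact hCq (Ideal.IsPrime.mem_of_pow_mem ‹q.IsPrime› _ h2)
    · have hmap : Polynomial.aeval (C • (LinearMap.id : M →ₗ[B] M)) f =
          algebraMap B (Module.End B M) (f.eval C) := by
        have : (C • (LinearMap.id : M →ₗ[B] M)) = algebraMap B (Module.End B M) C := by
          ext m; rfl
        rw [this, Polynomial.aeval_algebraMap_apply, Polynomial.coe_aeval_eq_eval]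
      rw [hf0] at hmap
      have h2 := (DFunLike.congr_fun hmap (W.mkQ z)).symm
      rw [Module.algebraMap_end_apply, LinearMap.zero_apply, ← map_smul] at h2
      exact (Submodule.Quotient.mk_eq_zero W).mp h2
  have hcard : Fintype.card G ≤ l.length := by
    by_contra hlt
    let L := FractionRing A
    let v : G → (Fin l.length → L) := fun g k => algebraMap A L (g • P k)
    have hdep : ¬ LinearIndependent L v := fun h => by
      have := h.fintype_card_le_finrank
      rw [Module.finrank_fintype_fun_eq_card, Fintype.card_fin] at this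
      exact hlt this
    obtain ⟨lam, hlam, hne⟩ := Fintype.not_linearIndependent_iff.mp hdep
    let f : G → (A →* L) := fun g =>
      ((algebraMap A L).comp (MulSemiringAction.toRingHom G A g)).toMonoidHom
    have hf : Function.Injective f := by
      intro g h hgh
      refine FaithfulSMul.eq_of_smul_eq_smul (α := A) fun x => ?_
      exact IsFractionRing.injective A L (DFunLike.congr_fun hgh x)
    have hind := (linearIndependent_monoidHom A L).comp f hf
    have hzero : ∀ z : A, ∑ g, lam g * algebraMap A L (g • z) = 0 := by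
      intro z
      have hW : ∀ w ∈ W, ∑ g, lam g * algebraMap A L (g • w) = 0 := by
        intro w hw
        induction hw using Submodule.span_induction with
        | mem w hw =>
          obtain ⟨k, rfl⟩ := hw
          have := congrFun hlam k
          simpa [v] using this
        | zero => simp
        | add u u' _ _ hu hu' => simp [smul_add, mul_add, Finset.sum_add_distrib, hu, hu']
        | smul b u _ hu =>
          simp only [Algebra.smul_def, smul_mul', hfix, map_mul, mul_left_comm (lam _), ← Finset.mul_sum,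
            hu, mul_zero]
      have h1 := hW _ (hd z)
      simp only [Algebra.smul_def, smul_mul', hfix, map_mul, mul_left_comm (lam _), ← Finset.mul_sum] at h1
      refine (mul_eq_zero.mp h1).resolve_left fun h => hdq ?_
      have h0 : algebraMap B A d = 0 := IsFractionRing.injective A L (h.trans (map_zero _).symm)
      rw [hinj (h0.trans (map_zero _).symm)]
      exact q.zero_mem
    obtain ⟨i, hi⟩ := hne
    exact hi (Fintype.linearIndependent_iff.mp hind lam (funext fun z => by
      simpa [f] using hzero z) i)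
  -- the norm of `a`
  let d₁ := (Finset.univ.filter fun g : G => F g = F 1).card
  have hfib : ∀ o ∈ O, (Finset.univ.filter fun g : G => F g = o).card = d₁ := by
    intro o ho
    obtain ⟨h, -, rfl⟩ := Finset.mem_image.mp ho
    refine Finset.card_equiv (Equiv.mulLeft h⁻¹) fun g => ?_
    simp only [Finset.mem_filter, Finset.mem_univ, true_and, Equiv.coe_mulLeft, F,
      Associates.mk_eq_mk_iff_associated, one_smul, mul_smul]
    constructor
    · intro hh
      have := hh.map (MulSemiringAction.toRingHom G A h⁻¹)
      simpa using this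
    · intro hh
      have := hh.map (MulSemiringAction.toRingHom G A h)
      simpa using this
  have hd1e : d₁ ≤ e := by
    have h1 : Fintype.card G = O.card * d₁ := by
      rw [← Finset.card_univ, Finset.card_eq_sum_card_image F, Finset.sum_congr rfl hfib,
        Finset.sum_const, smul_eq_mul]
    have h2 : 0 < O.card := Finset.card_pos.mpr (Finset.univ_nonempty.image F)
    rw [hlen, h1, mul_comm e] at hcard
    exact Nat.le_of_mul_le_mul_left hcard h2
  let N : A := ∏ g : G, g • a
  have hNA : N ∣ Na ^ e := by
    have h1 : Associates.mk N = Associates.mk (Na ^ d₁) := by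
      calc Associates.mk N = ∏ g : G, F g := map_prod Associates.mkMonoidHom _ _
        _ = ∏ o ∈ O, o ^ d₁ := by
          rw [Finset.prod_comp (f := fun o => o) (g := F)]
          exact Finset.prod_congr rfl fun o ho => by rw [hfib o ho]
        _ = (∏ o ∈ O, Associates.mk (rep o)) ^ d₁ := by
          rw [Finset.prod_pow]
          simp only [hrep]
        _ = Associates.mk (Na ^ d₁) := by
          rw [Associates.mk_pow]
          congr 1
          exact (map_prod Associates.mkMonoidHom _ _).symm
    exact (Associates.mk_eq_mk_iff_associated.mp h1).dvd.trans (pow_dvd_pow _ hd1e)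
  have hNinv : ∀ g : G, g • N = N := fun g => Finset.smul_prod_perm a g
  obtain ⟨n, hn⟩ := Algebra.IsInvariant.isInvariant (A := B) N hNinv
  have hnq : n ∈ q := by
    rw [← hqp, Ideal.mem_comap, hn]
    have h1 : (1 : G) • a ∣ N := Finset.dvd_prod_of_mem (fun g : G => g • a) (Finset.mem_univ 1)
    rw [one_smul] at h1
    exact hpa ▸ Ideal.mem_span_singleton.mpr h1
  have hN0' : N ≠ 0 := Finset.prod_ne_zero_iff.mpr fun g _ => (hga g).ne_zero
  have hqn : q = Ideal.span {n} := by
    refine le_antisymm (fun b hb => ?_) ((Ideal.span_singleton_le_iff_mem _).mpr hnq)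
    obtain ⟨w, hw⟩ := hNA.trans (hpow b e (hmin b hb))
    have hwinv : ∀ g : G, g • w = w := fun g => by
      have : g • algebraMap B A b = g • (N * w) := by rw [hw]
      rw [hfix, smul_mul', hNinv, hw] at this
      exact (mul_left_cancel₀ hN0' this).symm
    obtain ⟨v, hv⟩ := Algebra.IsInvariant.isInvariant (A := B) w hwinv
    exact Ideal.mem_span_singleton.mpr ⟨v, hinj (by rw [hw, map_mul, hn, hv])⟩
  refine ⟨⟨⟨n, hqn⟩⟩, fun hreg => ?_⟩
  subst hqn
  haveI := hreg
  exact Groth.Agent.S0560.result B n
    (IsLocalRing.le_maximalIdeal (Ideal.IsPrime.ne_top ‹_›) (Ideal.mem_span_singleton_self n))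
    (mem_nonZeroDivisors_of_ne_zero (fun h => hN0' (by rw [← hn, h, map_zero])))

end Groth.Agent.S16547
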