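import Groth.Statements.S16548
import Groth.Agent.H29Curve.SmoothStalk
import Groth.Agent.H27CurveDiv.Field

set_option autoImplicit false
universe u
open CategoryTheory CategoryTheory.Limits AlgebraicGeometry
attribute [local instance] Curv2.resAlgebra
open Curves

namespace Groth.Agent.S16548

open KaehlerDifferential IsLocalRing in
/-- If the residue extension is separable and `Spec B → Spec A` is ramified, the residue field of a
one-dimensional smooth local ring `B` over `k` is separable over `k`. -/
theorem isSeparable_residue_of_ramified (k A B : Type u) [Field k] [CommRing A] [CommRing B]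
    [IsLocalRing A] [IsLocalRing B] [Algebra k A] [Algebra k B] [Algebra A B] [IsScalarTower k A B]
    [IsLocalHom (algebraMap A B)] [Algebra.EssFiniteType k B] [Algebra.EssFiniteType A B]
    [Module.Free B Ω[B⁄k]] (hr : Module.finrank B Ω[B⁄k] = 1)
    [Algebra.IsSeparable (ResidueField A) (ResidueField B)] [Module.Finite k (ResidueField B)]
    (hm : (maximalIdeal A).map (algebraMap A B) ≠ maximalIdeal B) :
    Algebra.IsSeparable k (ResidueField B) := by
  by_cases h0 : Subsingleton Ω[ResidueField B⁄k]
  · haveI : Algebra.FormallyUnramified k (ResidueField B) := ⟨h0⟩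
    exact Algebra.FormallyUnramified.isSeparable k _
  exfalso
  apply hm
  suffices hS : Subsingleton Ω[B⁄A] by
    haveI : Algebra.FormallyUnramified A B := ⟨hS⟩
    exact (Algebra.FormallyUnramified.iff_map_maximalIdeal_eq.mp inferInstance).2
  let N : Submodule B Ω[B⁄k] := Submodule.span B (Set.range fun a : A => D k B (algebraMap A B a))
  suffices hN : N = ⊤ by
    have : N ≤ LinearMap.ker (KaehlerDifferential.map k A B B) := by
      rw [Submodule.span_le]
      rintro _ ⟨a, rfl⟩
      simp
    refine subsingleton_of_forall_eq 0 fun v => ?_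
    obtain ⟨v', rfl⟩ := KaehlerDifferential.map_surjective k A B v
    exact LinearMap.mem_ker.mp (this (hN ▸ Submodule.mem_top))
  haveI : Algebra.FormallyUnramified (ResidueField A) (ResidueField B) :=
    Algebra.FormallyUnramified.of_isSeparable _ _
  let π : Ω[B⁄k] →ₗ[B] Ω[ResidueField B⁄k] := KaehlerDifferential.map k k B (ResidueField B)
  let b := Module.finBasisOfFinrankEq B Ω[B⁄k] hr
  by_contra hN
  apply h0
  have hco : ∀ n ∈ N, b.repr n 0 ∈ maximalIdeal B := by
    intro n hn
    by_contra hu
    obtain ⟨u, hu⟩ := IsLocalRing.notMem_maximalIdeal.mp hu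
    refine hN (eq_top_iff.mpr fun v _ => ?_)
    have hn' : n = (u : B) • b 0 := by
      conv_lhs => rw [← b.sum_repr n, Fin.sum_univ_one]
      rw [← hu]
    have hb : b 0 = ((u⁻¹ : Bˣ) : B) • n := by rw [hn', smul_smul, Units.inv_mul, one_smul]
    rw [← b.sum_repr v, Fin.sum_univ_one, hb]
    exact N.smul_mem _ (N.smul_mem _ hn)
  have hπ : ∀ n ∈ N, π n = 0 := by
    intro n hn
    rw [← b.sum_repr n, Fin.sum_univ_one, map_smul, ← algebraMap_smul (ResidueField B),
      show algebraMap B (ResidueField B) (b.repr n 0) = 0 from (residue_eq_zero_iff _).2 (hco n hn), zero_smul]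
  have hspan : Submodule.span (ResidueField B)
      (Set.range fun a : ResidueField A => D k (ResidueField B) (algebraMap _ _ a)) = ⊤ := by
    rw [eq_top_iff]
    intro v hv
    clear hv
    obtain ⟨t, rfl⟩ := (KaehlerDifferential.exact_mapBaseChange_map k (ResidueField A) (ResidueField B) v).mp
      (Subsingleton.elim _ _)
    induction t using TensorProduct.induction_on with
    | zero => simp
    | add x y hx hy => rw [map_add]; exact add_mem hx hy
    | tmul c w =>
      rw [KaehlerDifferential.mapBaseChange_tmul]
      refine Submodule.smul_mem _ c ?_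
      have : w ∈ Submodule.span (ResidueField A) (Set.range (D k (ResidueField A))) := by
        rw [KaehlerDifferential.span_range_derivation]; trivial
      induction this using Submodule.span_induction with
      | mem x hx => obtain ⟨a, rfl⟩ := hx; exact Submodule.subset_span ⟨a, by simp⟩
      | zero => simp
      | add x y _ _ hx hy => rw [map_add]; exact add_mem hx hy
      | smul a x _ hx => rw [map_smul]; exact Submodule.smul_of_tower_mem _ a hx
  refine subsingleton_of_forall_eq 0 fun v => ?_
  have hv : v ∈ Submodule.span (ResidueField B)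
      (Set.range fun a : ResidueField A => D k (ResidueField B) (algebraMap _ _ a)) := hspan ▸ trivial
  induction hv using Submodule.span_induction with
  | mem x hx =>
    obtain ⟨a, rfl⟩ := hx
    obtain ⟨a, rfl⟩ := IsLocalRing.residue_surjective a
    have := hπ _ (Submodule.subset_span ⟨a, rfl⟩)
    rw [KaehlerDifferential.map_D] at this
    exact this
  | zero => rfl
  | add x y _ _ hx hy => rw [hx, hy, add_zero]
  | smul a x _ hx => rw [hx, smul_zero]

/-- Residue fields at closed points of schemes locally of finite type over a field are finite over it. -/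
theorem finite_resField (k : Type u) [Field k] (X : Scheme.{u}) [X.Over (Spec (CommRingCat.of k))]
    [LocallyOfFiniteType (X ↘ Spec (CommRingCat.of k))] {x : X} (hx : IsClosed ({x} : Set X)) :
    Module.Finite k (X.residueField x) := by
  let f := X ↘ Spec (CommRingCat.of k)
  haveI := LocallyOfFiniteType.jacobsonSpace f
  haveI := isClosed_singleton_iff_locallyOfFiniteType.mp hx
  let ψ : CommRingCat.of k ⟶ X.residueField x :=
    (Scheme.ΓSpecIso (CommRingCat.of k)).inv ≫ f.appTop ≫ X.presheaf.germ ⊤ x trivial ≫ X.residue x
  have h : X.fromSpecResidueField x ≫ f = Spec.map ψ := by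
    apply ext_of_isAffine
    rw [Scheme.fromSpecResidueField, Category.assoc, Scheme.Hom.comp_appTop, Scheme.Hom.comp_appTop,
      Scheme.fromSpecStalk_appTop, ← cancel_mono (Scheme.ΓSpecIso _).hom]
    refine Eq.trans ?_ (Scheme.ΓSpecIso_naturality ψ).symm
    simp [ψ, Scheme.ΓSpecIso_naturality]
  haveI : LocallyOfFiniteType (Spec.map ψ) := by rw [← h]; infer_instance
  have hfin : IsFinite (Spec.map ψ) := isFinite_iff_locallyOfFiniteType_of_jacobsonSpace.mpr inferInstance
  exact (IsFinite.SpecMap_iff ψ).mp hfin


/-- Let k be a field, X and Y smooth over k of relative dimension one (not necessarily proper), f : X ->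
Y a finite k-morphism and x a closed point of X, with y = f(x). Suppose f is tamely ramified at x:
m_y O_{X,x} = m_x^e for an integer e ≥ 2 prime to the characteristic of k, and κ(x) is separable
over κ(y). Then κ(x) is separable over k. (Consequently the field generated over k by the residue
fields of all such points is Galois over k.) -/
theorem result (k : Type u) [Field k]
    (X Y : Scheme.{u}) [X.Over (Spec (CommRingCat.of k))] [Y.Over (Spec (CommRingCat.of k))]
    [SmoothOfRelativeDimension 1 (X ↘ Spec (CommRingCat.of k))]
    [SmoothOfRelativeDimension 1 (Y ↘ Spec (CommRingCat.of k))]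
    (f : X ⟶ Y) [IsFinite f] (hf : f ≫ (Y ↘ Spec (CommRingCat.of k)) = X ↘ Spec (CommRingCat.of k))
    (x : X) (hx : IsClosed ({x} : Set X)) (e : ℕ)
    (he : (IsLocalRing.maximalIdeal (Y.presheaf.stalk (f.base x))).map (f.stalkMap x).hom =
      IsLocalRing.maximalIdeal (X.presheaf.stalk x) ^ e)
    (h2 : 2 ≤ e) (hp : ¬ ringChar k ∣ e)
    (hsep : @Algebra.IsSeparable (Y.residueField (f.base x)) (X.residueField x) _ _
      (f.residueFieldMap x).hom.toAlgebra) :
    Algebra.IsSeparable k (X.residueField x) := by
  haveI : Smooth (X ↘ Spec (CommRingCat.of k)) := SmoothOfRelativeDimension.smooth 1 _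
  letI := Curv2.stalkAlgebra k X x
  letI := Curv2.stalkAlgebra k Y (f.base x)
  letI : Algebra (Y.presheaf.stalk (f.base x)) (X.presheaf.stalk x) := (f.stalkMap x).hom.toAlgebra
  haveI : IsScalarTower k (Y.presheaf.stalk (f.base x)) (X.presheaf.stalk x) :=
    IsScalarTower.of_algebraMap_eq fun r => by
      show X.presheaf.germ ⊤ x trivial (Coh.toGlobal _ r) =
        f.stalkMap x (Y.presheaf.germ ⊤ (f.base x) trivial (Coh.toGlobal _ r))
      rw [Scheme.Hom.germ_stalkMap_apply]
      refine congrArg (X.presheaf.germ ⊤ x trivial) ?_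
      show (X ↘ Spec (CommRingCat.of k)).appTop _ = f.app ⊤ ((Y ↘ Spec (CommRingCat.of k)).appTop _)
      rw [← hf, Scheme.Hom.comp_appTop]
      rfl
  haveI : IsLocalHom (algebraMap (Y.presheaf.stalk (f.base x)) (X.presheaf.stalk x)) :=
    inferInstanceAs <| IsLocalHom (f.stalkMap x).hom
  haveI : Algebra.EssFiniteType (Y.presheaf.stalk (f.base x)) (X.presheaf.stalk x) := by
    rw [← RingHom.essFiniteType_algebraMap, RingHom.algebraMap_toAlgebra]
    exact LocallyOfFiniteType.stalkMap f x
  obtain ⟨-, heft, hfree, hrk⟩ := H29Curve.stalk_of_smooth k X x 1 ⊤ trivial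
    (show SmoothOfRelativeDimension 1 ((⊤ : X.Opens).ι ≫ (X ↘ Spec (CommRingCat.of k))) from
      (inferInstance : SmoothOfRelativeDimension (0 + 1) _))
  haveI := heft
  haveI := hfree
  have hR : (inferInstance : Algebra (IsLocalRing.ResidueField (Y.presheaf.stalk (f.base x)))
      (IsLocalRing.ResidueField (X.presheaf.stalk x))) =
      ((f.residueFieldMap x).hom.toAlgebra : Algebra (Y.residueField (f.base x)) (X.residueField x)) := by
    refine Algebra.algebra_ext _ _ fun z ↦ ?_
    obtain ⟨z, rfl⟩ := IsLocalRing.residue_surjective z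
    rfl
  haveI : Algebra.IsSeparable (IsLocalRing.ResidueField (Y.presheaf.stalk (f.base x)))
      (IsLocalRing.ResidueField (X.presheaf.stalk x)) := by
    have h : @Algebra.IsSeparable (IsLocalRing.ResidueField (Y.presheaf.stalk (f.base x)))
      (IsLocalRing.ResidueField (X.presheaf.stalk x)) _ _ (f.residueFieldMap x).hom.toAlgebra := hsep
    convert h
  have hRk : (inferInstance : Algebra k (IsLocalRing.ResidueField (X.presheaf.stalk x))) =
      (Curv2.resAlgebra k X x : Algebra k (X.residueField x)) :=
    Algebra.algebra_ext _ _ fun _ ↦ rfl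
  haveI : Module.Finite k (IsLocalRing.ResidueField (X.presheaf.stalk x)) := by
    change @Module.Finite k (IsLocalRing.ResidueField (X.presheaf.stalk x)) _ _
      (inferInstance : Algebra k (IsLocalRing.ResidueField (X.presheaf.stalk x))).toModule
    erw [hRk]; exact finite_resField k X hx
  have hm : (IsLocalRing.maximalIdeal (Y.presheaf.stalk (f.base x))).map (algebraMap _ (X.presheaf.stalk x)) ≠
      IsLocalRing.maximalIdeal (X.presheaf.stalk x) := by
    intro h
    rw [RingHom.algebraMap_toAlgebra, he] at h
    haveI : IsLocallyNoetherian X := LocallyOfFiniteType.isLocallyNoetherian (X ↘ Spec (CommRingCat.of k))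
    have hbot : IsLocalRing.maximalIdeal (X.presheaf.stalk x) = ⊥ := by
      refine Submodule.eq_bot_of_le_smul_of_le_jacobson_bot (IsLocalRing.maximalIdeal _) _
        (IsNoetherian.noetherian _) ?_ (IsLocalRing.maximalIdeal_le_jacobson _)
      rw [smul_eq_mul, ← pow_two]
      exact h.ge.trans (Ideal.pow_le_pow_right h2)
    have hd := H27CurveDiv.dim_stalk_of_isClosed (X ↘ Spec (CommRingCat.of k)) hx
    rw [ringKrullDim_eq_zero_of_isField (IsLocalRing.isField_iff_maximalIdeal_eq.mpr hbot)] at hd
    exact zero_ne_one hd
  have := isSeparable_residue_of_ramified k (Y.presheaf.stalk (f.base x)) (X.presheaf.stalk x) hrk hm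
  exact hRk ▸ this

end Groth.Agent.S16548
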