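import Groth.Statements.S1655
import Mathlib
import Groth.Agent.H7Lim.NormalPoint

set_option autoImplicit false
universe u
open CategoryTheory CategoryTheory.Limits AlgebraicGeometry
open Variety

namespace Groth.Agent.S1655

/-- Let X be a Noetherian integral scheme, Y an integral scheme, and f : Y → X a proper morphism that
restricts to an isomorphism over some nonempty open subscheme of X. If x is a point of X whose local
ring is integrally closed and f is quasi-finite at some point lying over x, then f restricts to an
isomorphism over an open neighbourhood of x. -/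
theorem result {X Y : Scheme.{u}} [IsNoetherian X] [IsIntegral X] [IsIntegral Y]
    (f : Y ⟶ X) [IsProper f] (W : X.Opens) (hW : (W : Set X).Nonempty) (hfW : IsIso (f ∣_ W))
    (x : X) (hx : IsIntegrallyClosed (X.presheaf.stalk x)) (y : Y) (hy : f.base y = x) (hq : f.QuasiFiniteAt y) :
    ∃ V : X.Opens, x ∈ V ∧ IsIso (f ∣_ V) := by
  subst hy
  have hne : Nonempty (W : Scheme) := hW.to_subtype
  have : Nonempty ((f ⁻¹ᵁ W : Y.Opens) : Scheme) := Nonempty.map (inv (f ∣_ W)) hne
  let η : (f ⁻¹ᵁ W : Y.Opens).toScheme := genericPoint _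
  have hη : (f ⁻¹ᵁ W).ι η = genericPoint Y := genericPoint_eq_of_isOpenImmersion (f ⁻¹ᵁ W).ι
  have : IsIntegral (W : Scheme) := isIntegral_of_isOpenImmersion W.ι
  have : IsIntegral (f ⁻¹ᵁ W : Y.Opens).toScheme := isIntegral_of_isOpenImmersion (f ⁻¹ᵁ W).ι
  have hgen : f (genericPoint Y) = genericPoint X := by
    rw [← hη, ← Scheme.Hom.comp_apply, ← morphismRestrict_ι, Scheme.Hom.comp_apply,
      genericPoint_eq_of_isOpenImmersion (f ∣_ W), genericPoint_eq_of_isOpenImmersion W.ι]
  have : IsIso (f.stalkMap (genericPoint Y)) := by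
    rw [← hη]
    exact ((MorphismProperty.isomorphisms _).arrow_mk_iso_iff (morphismRestrictStalkMap f W η)).mp
      (inferInstance : IsIso ((f ∣_ W).stalkMap η))
  exact Groth.Agent.H7Lim.exists_isIso_restrict f hgen y hx hq

end Groth.Agent.S1655
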