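import Groth.Statements.S16551
import Groth.Agent.S9821
import Mathlib.RingTheory.IntegralClosure.GoingDown
import Mathlib.AlgebraicGeometry.Morphisms.QuasiFinite

set_option autoImplicit false
universe u
open CategoryTheory CategoryTheory.Limits AlgebraicGeometry TopologicalSpace
open Models

namespace Groth.Agent.S16551

/-- Generalisations lift along finite surjective morphisms to normal integral schemes. -/
theorem exists_lift {A B : Scheme.{u}} [IsIntegral A] [IsIntegral B] (hB : Pi1.IsNormalScheme B)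
    (f : A ⟶ B) [IsFinite f] [Surjective f] {a : A} {b : B} (h : b ⤳ f a) :
    ∃ a' : A, a' ⤳ a ∧ f a' = b := by
  obtain ⟨V, hV, haV, -⟩ := exists_isAffineOpen_mem_and_subset (U := (⊤ : B.Opens)) (x := f a) trivial
  have hbV : b ∈ V := h.mem_open V.2 haV
  haveI : Nonempty V := ⟨⟨b, hbV⟩⟩
  haveI : IsIntegrallyClosed Γ(B, V) := (Groth.Agent.S9821.result B).1 hB V hV
  let U := f ⁻¹ᵁ V
  have hU : IsAffineOpen U := hV.preimage f
  haveI : Nonempty U := ⟨⟨a, haV⟩⟩
  let φ := f.appLE V U le_rfl
  letI : Algebra Γ(B, V) Γ(A, U) := φ.hom.toAlgebra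
  have hfin : φ.hom.Finite := by
    have h1 := IsFinite.finite_app (f := f) V hV
    rwa [show φ = f.app V from f.app_eq_appLE.symm]
  haveI : Module.Finite Γ(B, V) Γ(A, U) := hfin
  haveI : Algebra.IsIntegral Γ(B, V) Γ(A, U) := Algebra.IsIntegral.of_finite _ _
  have key : ∀ q : PrimeSpectrum Γ(A, U),
      hV.fromSpec (PrimeSpectrum.comap φ.hom q) = f (hU.fromSpec q) := fun q =>
    congr($(hV.SpecMap_appLE_fromSpec f hU le_rfl).base q)
  have hinj : Function.Injective φ.hom := by
    rw [injective_iff_map_eq_zero]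
    intro c hc
    by_contra hc0
    have hne : (B.basicOpen c : Set B).Nonempty := by
      rw [Set.nonempty_iff_ne_empty]
      intro he
      exact hc0 ((basicOpen_eq_bot_iff c).1 (Opens.ext (he.trans Opens.coe_bot.symm)))
    obtain ⟨y, hy⟩ := hne
    obtain ⟨x, hx⟩ := f.surjective y
    have hx' : x ∈ f ⁻¹ᵁ B.basicOpen c := show f x ∈ B.basicOpen c from hx.symm ▸ hy
    rw [Scheme.preimage_basicOpen, show f.app V c = 0 from (by rw [show φ = f.app V from f.app_eq_appLE.symm] at hc; exact hc),
      Scheme.basicOpen_zero] at hx'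
    exact hx'
  haveI : FaithfulSMul Γ(B, V) Γ(A, U) := (faithfulSMul_iff_algebraMap_injective _ _).2 hinj
  have hgd : GeneralizingMap (PrimeSpectrum.comap (algebraMap Γ(B, V) Γ(A, U))) :=
    Algebra.HasGoingDown.iff_generalizingMap_primeSpectrumComap.1 inferInstance
  obtain ⟨q, hq⟩ : a ∈ Set.range hU.fromSpec := hU.range_fromSpec.ge haV
  obtain ⟨p, hp⟩ : b ∈ Set.range hV.fromSpec := hV.range_fromSpec.ge hbV
  have hpq : p ⤳ PrimeSpectrum.comap φ.hom q := by
    refine hV.fromSpec.isOpenEmbedding.isInducing.specializes_iff.1 ?_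
    refine Eq.subst (motive := fun y => hV.fromSpec p ⤳ y) (((key q).trans (congrArg f hq)).symm) ?_
    exact hp.symm ▸ h
  obtain ⟨q', hq', hpq'⟩ := hgd hpq
  refine ⟨hU.fromSpec q', hq ▸ hq'.map hU.fromSpec.continuous, ?_⟩
  exact ((key q').symm.trans (congrArg hV.fromSpec hpq')).trans hp

/-- Let R be a discrete valuation ring, W and Z integral normal schemes which are flat, of finite type
and of dimension 2 over Spec R, and ψ : W -> Z a finite surjective R-morphism. Let z be a closed
point of Z lying in the special fibre, w a point of W with ψ(w) = z, and Δ an irreducible component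
of the special fibre of Z with z ∈ Δ. Then some irreducible component Γ of the special fibre of W
contains w and satisfies ψ(Γ) = Δ. (The published statement asks W and Z only to be normal; they are
taken integral as well here.) -/
theorem result
    (R : Type u) [CommRing R] [IsDomain R] [IsDiscreteValuationRing R]
    (W Z : Over (Spec (CommRingCat.of R))) [IsIntegral W.left] [IsIntegral Z.left]
    (hWn : Pi1.IsNormalScheme W.left) (hZn : Pi1.IsNormalScheme Z.left)
    [Flat W.hom] [LocallyOfFiniteType W.hom] [QuasiCompact W.hom]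
    [Flat Z.hom] [LocallyOfFiniteType Z.hom] [QuasiCompact Z.hom]
    (hdW : topologicalKrullDim W.left = 2) (hdZ : topologicalKrullDim Z.left = 2)
    (ψ : W ⟶ Z) [IsFinite ψ.left] [Surjective ψ.left]
    (z : Z.left) (hzc : IsClosed ({z} : Set Z.left)) (hz : z ∈ Models.specialFibreSet R Z)
    (w : W.left) (hw : ψ.left.base w = z)
    (Δ : Set Z.left) (hΔ : Δ ∈ Models.fibreComponents R Z) (hzΔ : z ∈ Δ) :
    ∃ Γ ∈ Models.fibreComponents R W, w ∈ Γ ∧ ψ.left.base '' Γ = Δ := by
  have hcl := Models.isClosed_specialFibreSet R Z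
  have hclW := Models.isClosed_specialFibreSet R W
  have hΔcl : IsClosed Δ := by
    have h : closure Δ ≤ Δ := hΔ.2 ⟨hΔ.1.1.closure, closure_minimal hΔ.1.2 hcl⟩ subset_closure
    exact closure_subset_iff_isClosed.1 h
  obtain ⟨δ, hδ⟩ := QuasiSober.sober hΔ.1.1 hΔcl
  have hδz : δ ⤳ z := specializes_iff_mem_closure.2 (hδ.def.symm ▸ hzΔ)
  obtain ⟨γ, hγw, hγ⟩ := exists_lift hZn ψ.left (a := w) (hw.symm ▸ hδz)
  have hov : ∀ x : W.left, Z.hom (ψ.left x) = W.hom x := fun x => congr($(Over.w ψ).base x)
  have hmem : ∀ x : W.left, x ∈ Models.specialFibreSet R W ↔ ψ.left x ∈ Models.specialFibreSet R Z := fun x => by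
    show W.hom x = _ ↔ Z.hom (ψ.left x) = _
    rw [hov]
  have hγS : γ ∈ Models.specialFibreSet R W := (hmem γ).2 (hγ.symm ▸ hΔ.1.2 (hδ.def ▸ subset_closure rfl))
  refine ⟨closure {γ}, ⟨⟨isIrreducible_singleton.closure, closure_minimal (Set.singleton_subset_iff.2 hγS) hclW⟩,
    fun T hT hle => ?_⟩, specializes_iff_mem_closure.1 hγw, ?_⟩
  · obtain ⟨γ', hγ'⟩ := QuasiSober.sober hT.1.closure isClosed_closure
    have hT'S : closure T ⊆ Models.specialFibreSet R W := closure_minimal hT.2 hclW
    have hspec : γ' ⤳ γ := specializes_iff_mem_closure.2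
      (hγ'.def.symm ▸ subset_closure (hle (subset_closure rfl)))
    have hge : Δ ≤ closure {ψ.left γ'} := hδ.def ▸ closure_minimal
      (Set.singleton_subset_iff.2 (hγ ▸ (hspec.map ψ.left.continuous).mem_closure)) isClosed_closure
    have heq : closure {ψ.left γ'} ≤ Δ := hΔ.2 ⟨isIrreducible_singleton.closure, closure_minimal
      (Set.singleton_subset_iff.2 ((hmem γ').1 (hT'S (hγ'.def ▸ subset_closure rfl)))) hcl⟩ hge
    have himg : ψ.left γ' = ψ.left γ := by
      rw [hγ]
      exact ((specializes_iff_mem_closure.2 (hge (hδ.def ▸ subset_closure rfl))).antisymm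
        (specializes_iff_mem_closure.2 (hδ.def.symm ▸ heq (subset_closure rfl)))).eq
    have hd := (ψ.left.isDiscrete_preimage_singleton (ψ.left γ)).to_subtype
    have : (⟨γ', himg⟩ : ψ.left ⁻¹' {ψ.left γ}) = ⟨γ, rfl⟩ :=
      ((subtype_specializes_iff (⟨γ', himg⟩ : ψ.left ⁻¹' {ψ.left γ}) ⟨γ, rfl⟩).2 hspec).eq
    have hγγ : γ' = γ := congrArg Subtype.val this
    intro t ht
    rw [← hγγ, hγ'.def]
    exact subset_closure ht
  · refine subset_antisymm ?_ ?_
    · refine (image_closure_subset_closure_image ψ.left.continuous).trans ?_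
      rw [Set.image_singleton, hγ, hδ.def]
    · refine hδ.def ▸ closure_minimal (Set.singleton_subset_iff.2 ⟨γ, subset_closure rfl, hγ⟩) ?_
      exact ψ.left.isClosedMap _ isClosed_closure

end Groth.Agent.S16551
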