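import Groth.Statements.S16557
import Groth.Agent.H28RR.Duality

set_option autoImplicit false
universe u
open CategoryTheory CategoryTheory.Limits AlgebraicGeometry TopologicalSpace
open Groth.Agent
open Surf

namespace Groth.Agent.S16557

/-- Let X be a smooth proper integral surface over an algebraically closed field k, W = Λ²Ω_{X/k} a
canonical module, and suppose H⁰(X, W) = 0 (the source states this for smooth rational surfaces and
uses exactly the vanishing of H⁰(X, K_X)). If L is an invertible O_X-module with H⁰(X, L) ≠ 0, then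
H²(X, L) = 0. -/
theorem result (k : Type u) [Field k] [IsAlgClosed k]
    (X : Scheme.{u}) [X.Over (Spec (CommRingCat.of k))] [IsIntegral X] [IsProper (X ↘ (Spec (CommRingCat.of k)))] [Smooth (X ↘ (Spec (CommRingCat.of k)))]
    (hdim : topologicalKrullDim X = 2)
    (W : X.Modules) (hW : ExtPow.IsExtPow 2 (Omega.sheaf (X ↘ (Spec (CommRingCat.of k)))) W)
    (hpg : Subsingleton (Coh.HH X W 0))
    (L : X.Modules) (hL : PicF.IsInvertible L) (h0 : Nontrivial (Coh.HH X L 0)) :
    Subsingleton (Coh.HH X L 2) := by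
  haveI := H28Int.isNoetherian k (X := X)
  obtain ⟨N, hN, ⟨e₀⟩⟩ := H11Sym.exists_inverse hL
  let e := H10Coh.Tw.commIso L N ≪≫ e₀
  have hWi := H28RR.isInvertible_canonical k hdim hW
  haveI := H10Coh.finite_HH_proper k X L (H11Ample.isCoh_of_isInvertible hL) 2
  obtain ⟨Z, hZ, ⟨eZ⟩⟩ := H28RR.exists_divisor k hL h0
  let τ : N ≅ ClSub.idealMod Z :=
    (H10Coh.Tw.rightUnitIso N).symm ≪≫ PicGrp.tensorModIso (Iso.refl N) eZ.symm ≪≫ (H10Coh.Tw.assoc N L _).symm ≪≫
      PicGrp.tensorModIso (H10Coh.Tw.commIso N L ≪≫ e) (Iso.refl _) ≪≫ H10Coh.Tw.leftUnitIso _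
  haveI := H10Coh.epi_toSubscheme Z
  have hS := H10Coh.Tw.shortExact_seq (H10Coh.shortExact_kernel (ClSub.toSubscheme Z)) hWi
  refine (Module.finrank_zero_iff (R := k)).1 ?_
  rw [H28RR.finrank_h2 k hdim hW hL hN e,
    H22Alg.CurveAmple.finrank_HH_congr (k := k) (H10Coh.Tw.commIso W N ≪≫ PicGrp.tensorModIso τ (Iso.refl W)) 0]
  let S := H10Coh.Tw.seq (ShortComplex.mk _ (ClSub.toSubscheme Z) (kernel.condition _)) hWi
  have hinj : Function.Injective (Canon.HHlin k S.f 0) := by
    haveI : Mono ((SheafOfModules.toSheaf X.ringCatSheaf).map S.f) := (H10Coh.shortExact_sh hS).mono_f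
    exact Abelian.Ext.postcomp_mk₀_injective_of_mono _ _
  have h2 : Subsingleton (Coh.HH X S.X₂ 0) :=
    (H29RR.hhIso (k := k) (H10Coh.Tw.leftUnitIso W) 0).toEquiv.subsingleton
  have h1 : Subsingleton (Coh.HH X S.X₁ 0) := @Function.Injective.subsingleton _ _ _ hinj h2
  exact @Module.finrank_zero_of_subsingleton k (Coh.HH X S.X₁ 0) _ _ _ _ h1

end Groth.Agent.S16557
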