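import Groth.Statements.S1656
import Groth.Agent.H4RSH.SerreCurve
import Groth.Agent.S3637

set_option autoImplicit false
universe u
open CategoryTheory CategoryTheory.Limits AlgebraicGeometry
attribute [local instance] HasDerivedCategory.standard
open Curves

namespace Groth.Agent.S1656

/-- Let X be proper over k, Cohen–Macaulay and equidimensional of dimension one, and let ω_X be its
dualizing module, i.e. the cohomology sheaf in degree -1 of f^! O for f : X → Spec k (assuming the
derived direct image Rf_* on D_QCoh and its right adjoint exist, which is how the shared prelude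
presents f^!). Then χ(X, O_X) = -χ(X, ω_X). -/
theorem result (k : Type u) [Field k] (X : Scheme.{u}) [X.Over (Spec (CommRingCat.of k))] [IsProper (X ↘ (Spec (CommRingCat.of k)))]
    (hCM : ∀ x : X, LocCoh.IsCohenMacaulayLocalRing (X.presheaf.stalk x))
    (hequi : ∀ Z ∈ irreducibleComponents (X : Type u), topologicalKrullDim Z = 1)
    [DCoh.HasRpush (X ↘ (Spec (CommRingCat.of k)))] (h : DCoh.RpushPreservesQCoh (X ↘ (Spec (CommRingCat.of k)))) [DCoh.HasShriek (X ↘ (Spec (CommRingCat.of k))) h]
    (OY : DCoh.DQCoh (Spec (CommRingCat.of k))) (hOY : Nonempty (OY.obj ≅ DCoh.inD (Spec (CommRingCat.of k)) (Coh.structureModule (Spec (CommRingCat.of k))))) :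
    Curv2.euler k X (Coh.structureModule X) = - Curv2.euler k X (DCoh.dualizingMod (X ↘ (Spec (CommRingCat.of k))) h OY 1) := by
  classical
  haveI := H4RepDual.hasExtModules X
  let fX := X ↘ Spec (CommRingCat.of k)
  have hX := H4RSH.ProperLocal.dim_le_of_components (c := ((1 : ℕ) : WithBot ℕ∞)) (fun Z hZ => (hequi Z hZ).le)
  obtain ⟨hz, hcoh, -⟩ := Groth.Agent.S3637.result k X fX hCM 1 hequi h (DCoh.shriek fX h)
    (DCoh.shriekAdj fX h) OY hOY
  have hq : Coh.IsQCoh (DCoh.dualizingMod fX h OY 1) := hcoh.1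
  obtain ⟨e0⟩ := H4RSH.SerreDual.nonempty_serre_equiv (DCoh.shriekAdj fX h) OY hOY hz hX (p := 0) (q := 1) rfl
  obtain ⟨e1⟩ := H4RSH.SerreDual.nonempty_serre_equiv (DCoh.shriekAdj fX h) OY hOY hz hX (p := 1) (q := 0) rfl
  rw [H4RSH.SerreDual.euler_eq (hf := h) hX H10Coh.isQuasicoherent_unit,
    H4RSH.SerreDual.euler_eq (hf := h) hX hq, e0.finrank_eq, e1.finrank_eq,
    Subspace.dual_finrank_eq, Subspace.dual_finrank_eq]
  ring

end Groth.Agent.S1656
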