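import Groth.Statements.S16560
import Groth.Agent.H28RR.PlaneBlow
import Groth.Agent.H22Alg.NakaiGen
import Groth.Agent.H29RR.FiniteSupport

set_option autoImplicit false
universe u
open CategoryTheory CategoryTheory.Limits AlgebraicGeometry TopologicalSpace
open Groth.Agent
open Surf

namespace Groth.Agent.S16560

/-- Let k be an algebraically closed field, p_1, …, p_r distinct closed points of the projective plane
P²_k and σ : X → P²_k the blow-up of P²_k in the ideal of the reduced finite set {p_1, …, p_r}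
(universal property), X being regarded over k through σ; X is then an integral smooth proper surface
(carried as hypotheses). Write H = σ^*O(1), (L·M) = χ(O_X) − χ(L) − χ(M) + χ(L ⊗ M) for the
intersection number of invertible modules L, M, and for a closed subscheme C ⊆ X with ideal I_C
write (L·C) = χ(O_C ⊗ L) − χ(O_C) and C² = (I_C·I_C). Let W = Λ²Ω_{X/k} be a canonical module. If L
is an invertible O_X-module with (L·H) ≥ −2 and (L·L) − (L·W) ≥ 0, then H⁰(X, L) ≠ 0. (The source
takes the points in general position; that assumption plays no role here.) -/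
theorem result (k : Type u) [Field k] [IsAlgClosed k]
    (r : ℕ) (P : Fin r → ↥(CohB1.ProjSpace 2 k)) (hP : Function.Injective P)
    (hPc : ∀ i, IsClosed ({P i} : Set ↥(CohB1.ProjSpace 2 k))) (hZ : IsClosed (Set.range P))
    (X : Scheme.{u}) [X.Over (Spec (CommRingCat.of k))] (σ : X ⟶ CohB1.ProjSpace 2 k)
    (hσk : σ ≫ CohB1.ProjSpace.toSpec 2 k = X ↘ (Spec (CommRingCat.of k)))
    (hσ : BlowUp.IsBlowUp σ (Scheme.IdealSheafData.vanishingIdeal ⟨Set.range P, hZ⟩))
    [IsIntegral X] [IsProper (X ↘ (Spec (CommRingCat.of k)))] [Smooth (X ↘ (Spec (CommRingCat.of k)))] (hdim : topologicalKrullDim X = 2)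
    (W : X.Modules) (hW : ExtPow.IsExtPow 2 (Omega.sheaf (X ↘ (Spec (CommRingCat.of k)))) W)
    (L : X.Modules) (hL : PicF.IsInvertible L) (hLH : -2 ≤ FGA.intNum k X 2 ![L, ((Scheme.Modules.pullback σ).obj (Twist.twistProjSpace 2 k 1))] (Coh.structureModule X))
    (hRR : 0 ≤ FGA.intNum k X 2 ![L, L] (Coh.structureModule X) - FGA.intNum k X 2 ![L, W] (Coh.structureModule X)) :
    Nontrivial (Coh.HH X L 0) := by
  obtain ⟨hH, -, hχ, -⟩ := H28RR.PlaneBlow.facts k r P hPc hZ X σ hσk hσ hdim
  haveI := H28Int.isNoetherian k (X := X)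
  rw [H28Surf.intNum_eq_pr k hdim hL hH] at hLH
  have h2 := H28RR.PlaneBlow.subsingleton_h2 k r P hP hPc hZ X σ hσk hσ hdim hL hLH
  have hWi := H28RR.isInvertible_canonical k hdim hW
  rw [H28Surf.intNum_eq_pr k hdim hL hL, H28Surf.intNum_eq_pr k hdim hL hWi] at hRR
  have hr := H28RR.riemann_roch' k hdim hW hL
  have he := H28RR.euler_eq_three k hdim (H11Ample.isCoh_of_isInvertible hL)
  rw [@Module.finrank_zero_of_subsingleton k (Coh.HH X L 2) _ _ _ _ h2] at he
  refine not_subsingleton_iff_nontrivial.1 fun h0 => ?_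
  rw [@Module.finrank_zero_of_subsingleton k (Coh.HH X L 0) _ _ _ _ h0] at he
  omega

end Groth.Agent.S16560
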