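import Groth.Statements.S16561
import Groth.Agent.H28RR.PlaneBlow
import Groth.Agent.H22Alg.NakaiGen
import Groth.Agent.H29RR.FiniteSupport

set_option autoImplicit false
universe u
open CategoryTheory CategoryTheory.Limits AlgebraicGeometry TopologicalSpace
open Groth.Agent
open Surf

namespace Groth.Agent.S16561

/-- Let k be an algebraically closed field, p_1, …, p_r distinct closed points of the projective plane
P²_k and σ : X → P²_k the blow-up of P²_k in the ideal of the reduced finite set {p_1, …, p_r}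
(universal property), X being regarded over k through σ; X is then an integral smooth proper surface
(carried as hypotheses). Write H = σ^*O(1), (L·M) = χ(O_X) − χ(L) − χ(M) + χ(L ⊗ M) for the
intersection number of invertible modules L, M, and for a closed subscheme C ⊆ X with ideal I_C
write (L·C) = χ(O_C ⊗ L) − χ(O_C) and C² = (I_C·I_C). A (−1)-curve is an integral closed
one-dimensional subscheme E ⊆ X with H¹(E, O_E) = 0 and E² = −1. Let L be an invertible O_X-module,
d = (L·H), χ⁻ = max(−χ(L), 0), and E a (−1)-curve with (H·E) ≤ d + 2. If dim_k H¹(X, L) = χ⁻, then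
(L·E) ≥ −1 − χ⁻. (The source takes the points in general position; that assumption plays no role
here.) -/
theorem result (k : Type u) [Field k] [IsAlgClosed k]
    (r : ℕ) (P : Fin r → ↥(CohB1.ProjSpace 2 k)) (hP : Function.Injective P)
    (hPc : ∀ i, IsClosed ({P i} : Set ↥(CohB1.ProjSpace 2 k))) (hZ : IsClosed (Set.range P))
    (X : Scheme.{u}) [X.Over (Spec (CommRingCat.of k))] (σ : X ⟶ CohB1.ProjSpace 2 k)
    (hσk : σ ≫ CohB1.ProjSpace.toSpec 2 k = X ↘ (Spec (CommRingCat.of k)))
    (hσ : BlowUp.IsBlowUp σ (Scheme.IdealSheafData.vanishingIdeal ⟨Set.range P, hZ⟩))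
    [IsIntegral X] [IsProper (X ↘ (Spec (CommRingCat.of k)))] [Smooth (X ↘ (Spec (CommRingCat.of k)))] (hdim : topologicalKrullDim X = 2)
    (L : X.Modules) (hL : PicF.IsInvertible L)
    (E : X.IdealSheafData) (hEi : IsIntegral E.subscheme) (hE1 : topologicalKrullDim (E.support : Set X) = 1)
    (hEg : Subsingleton (Coh.HH E.subscheme (Coh.structureModule E.subscheme) 1))
    (hEE : FGA.intNum k X 2 ![ClSub.idealMod E, ClSub.idealMod E] (Coh.structureModule X) = -1)
    (hEH : (Curv2.euler k X (CohB1.tensorMod (ClSub.quotMod E) ((Scheme.Modules.pullback σ).obj (Twist.twistProjSpace 2 k 1))) - Curv2.euler k X (ClSub.quotMod E)) ≤ FGA.intNum k X 2 ![L, ((Scheme.Modules.pullback σ).obj (Twist.twistProjSpace 2 k 1))] (Coh.structureModule X) + 2)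
    (h1 : (Module.finrank k (Coh.HH X L 1) : ℤ) = max (-Curv2.euler k X L) 0) :
    -1 - max (-Curv2.euler k X L) 0 ≤ (Curv2.euler k X (CohB1.tensorMod (ClSub.quotMod E) L) - Curv2.euler k X (ClSub.quotMod E)) := by
  classical
  obtain ⟨hH, -, -, -⟩ := H28RR.PlaneBlow.facts k r P hPc hZ X σ hσk hσ hdim
  haveI := H28Int.isNoetherian k (X := X)
  have hC : H28Surf.IsCurve E := ⟨hEi, hE1⟩
  have hEc := H28Surf.isEffCartier_curve k hdim hC
  have hI := H28Surf.isInvertible_ideal k hEc
  rw [H28Surf.intNum_eq_pr k hdim hL hH] at hEH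
  change H28Surf.degOn k E _ ≤ _ at hEH
  rw [H28RR.degOn_eq_pr k hdim hC hH] at hEH
  have hLI := H11Ample.isInvertible_tensor hI hL
  have h2 := H28RR.PlaneBlow.subsingleton_h2 k r P hP hPc hZ X σ hσk hσ hdim hLI (by
    rw [H28Surf.pr_tensor_left k hdim hI hL hH]
    omega)
  haveI := H10Coh.epi_toSubscheme E
  let S₀ : ShortComplex X.Modules := ShortComplex.mk (ClSub.idealModι E) (ClSub.toSubscheme E) (kernel.condition _)
  let S := S₀.map ((DCoh.tensorBi (X := X)).flip.obj L)
  have hS : S.ShortExact := H28Int.tensor_shortExact (H10Coh.shortExact_kernel (ClSub.toSubscheme E)) hL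
  have hsurj : Function.Surjective (Canon.HHlin k S.g 1) :=
    H22Alg.NakaiGen.hhlin_g_surjective k hS 1 fun a b _ =>
      (show Subsingleton (Coh.HH X S.X₁ 2) from h2).elim a b
  have hq : Coh.IsCoh (CohB1.tensorMod (ClSub.quotMod E) L) :=
    H11Ample.isCoh_tensor (H28Surf.isCoh_quot k E) hL
  haveI := H10Coh.finite_HH_proper k X _ hq 1
  have hO2 : Coh.IsCoh S.X₂ := H11Ample.isCoh_tensor (H10Coh.isCoh_structureModule' X) hL
  haveI := H10Coh.finite_HH_proper k X _ hO2 1
  have hle : Module.finrank k (Coh.HH X (CohB1.tensorMod (ClSub.quotMod E) L) 1) ≤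
      Module.finrank k (Coh.HH X S.X₂ 1) := by
    have h := LinearMap.finrank_le_finrank_of_surjective (f := Canon.HHlin k S.g 1) hsurj
    exact h
  have heq : Module.finrank k (Coh.HH X S.X₂ 1) = Module.finrank k (Coh.HH X L 1) :=
    (H29RR.hhIso (k := k) (H10Coh.Tw.leftUnitIso L) 1).finrank_eq
  have hs := H28Surf.euler_eq_sub' k hdim hEc hq
    (fun x hx => (H28Surf.support_quot k E).subset (H25Euler.support_tensor_subset _ L hx))
  have hg := (H28RR.subsingleton_h1_iff k hdim hC).1 hEg
  omega

end Groth.Agent.S16561
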