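import Groth.Statements.S16562
import Groth.Agent.H28Surf.Twist
import Groth.Agent.S16558

set_option autoImplicit false
universe u
open CategoryTheory CategoryTheory.Limits AlgebraicGeometry TopologicalSpace
open Surf

namespace Groth.Agent.S16562

/-- Let k be an algebraically closed field, p_1, …, p_r distinct closed points of the projective plane
P²_k and σ : X → P²_k the blow-up of P²_k in the ideal of the reduced finite set {p_1, …, p_r}
(universal property), X being regarded over k through σ; X is then an integral smooth proper surface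
(carried as hypotheses). Write H = σ^*O(1), (L·M) = χ(O_X) − χ(L) − χ(M) + χ(L ⊗ M) for the
intersection number of invertible modules L, M, and for a closed subscheme C ⊆ X with ideal I_C
write (L·C) = χ(O_C ⊗ L) − χ(O_C) and C² = (I_C·I_C). A (−1)-curve is an integral closed
one-dimensional subscheme E ⊆ X with H¹(E, O_E) = 0 and E² = −1. If L is an invertible O_X-module
and E a (−1)-curve whose H-degree satisfies 2(H·E) > (L·H), and (L·E) < −1, then H⁰(X, L) = 0. (The
source takes the points in general position; that assumption plays no role here.) -/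
theorem result (k : Type u) [Field k] [IsAlgClosed k]
    (r : ℕ) (P : Fin r → ↥(CohB1.ProjSpace 2 k)) (hP : Function.Injective P)
    (hPc : ∀ i, IsClosed ({P i} : Set ↥(CohB1.ProjSpace 2 k))) (hZ : IsClosed (Set.range P))
    (X : Scheme.{u}) [X.Over (Spec (CommRingCat.of k))] (σ : X ⟶ CohB1.ProjSpace 2 k)
    (hσk : σ ≫ CohB1.ProjSpace.toSpec 2 k = X ↘ (Spec (CommRingCat.of k)))
    (hσ : BlowUp.IsBlowUp σ (Scheme.IdealSheafData.vanishingIdeal ⟨Set.range P, hZ⟩))
    [IsIntegral X] [IsProper (X ↘ (Spec (CommRingCat.of k)))] [Smooth (X ↘ (Spec (CommRingCat.of k)))] (hdim : topologicalKrullDim X = 2)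
    (L : X.Modules) (hL : PicF.IsInvertible L)
    (E : X.IdealSheafData) (hEi : IsIntegral E.subscheme) (hE1 : topologicalKrullDim (E.support : Set X) = 1)
    (hEg : Subsingleton (Coh.HH E.subscheme (Coh.structureModule E.subscheme) 1))
    (hEE : FGA.intNum k X 2 ![ClSub.idealMod E, ClSub.idealMod E] (Coh.structureModule X) = -1)
    (hEH : FGA.intNum k X 2 ![L, ((Scheme.Modules.pullback σ).obj (Twist.twistProjSpace 2 k 1))] (Coh.structureModule X) < 2 * (Curv2.euler k X (CohB1.tensorMod (ClSub.quotMod E) ((Scheme.Modules.pullback σ).obj (Twist.twistProjSpace 2 k 1))) - Curv2.euler k X (ClSub.quotMod E)))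
    (hLE : (Curv2.euler k X (CohB1.tensorMod (ClSub.quotMod E) L) - Curv2.euler k X (ClSub.quotMod E)) < -1) :
    Subsingleton (Coh.HH X L 0) := by
  haveI := Groth.Agent.H28Int.isNoetherian k (X := X)
  have hC : Groth.Agent.H28Surf.IsCurve E := ⟨hEi, hE1⟩
  have hCe := Groth.Agent.H28Surf.isEffCartier_curve k hdim hC
  have hI := Groth.Agent.H28Surf.isInvertible_ideal k hCe
  let H := (Scheme.Modules.pullback σ).obj (Twist.twistProjSpace 2 k 1)
  have hH : PicF.IsInvertible H := Groth.Agent.H11Ample.isInvertible_pullback σ Groth.Agent.H11Ample.isInvertible_twist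
  have hd : topologicalKrullDim X ≤ ((2 : ℕ) : WithBot ℕ∞) := hdim.le
  have hA := Groth.Agent.H28Int.Surface.isCoh_structure k (X := X)
  have hdA : topologicalKrullDim (CohB1.support (Coh.structureModule X)) ≤ ((2 : ℕ) : WithBot ℕ∞) :=
    Topology.IsInducing.subtypeVal.topologicalKrullDim_le.trans hd
  have key : ∀ M : X.Modules, PicF.IsInvertible M → FGA.intNum k X 2 ![M, H] (Coh.structureModule X) =
      Groth.Agent.H28Int.D k [M, H] (Coh.structureModule X) := fun M hM =>
    Groth.Agent.H28Int.intNum_eq k hd _ (fun i => by fin_cases i <;> first | exact hM | exact hH) hA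
  have hEd : Groth.Agent.H28Int.D k [ClSub.idealMod E, H] (Coh.structureModule X) =
      - Groth.Agent.H28Surf.degOn k E H := by
    rw [← key _ hI, Groth.Agent.H28Surf.degOn_eq, neg_neg]
    exact Groth.Agent.H28Surf.intNum_idealMod k hd E hI hH
  let L₁ := CohB1.tensorMod L (ClSub.idealMod E)
  let L₂ := CohB1.tensorMod L₁ (ClSub.idealMod E)
  have hL₁ : PicF.IsInvertible L₁ := Groth.Agent.H11Ample.isInvertible_tensor hL hI
  have hL₂ : PicF.IsInvertible L₂ := Groth.Agent.H11Ample.isInvertible_tensor hL₁ hI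
  have h2 : FGA.intNum k X 2 ![L₂, H] (Coh.structureModule X) < 0 := by
    rw [key _ hL₂, Groth.Agent.H28Int.D_cons_tensor k (l := [H]) (List.forall_mem_singleton.2 hH) hL₁ hI hA hdA,
      Groth.Agent.H28Int.D_cons_tensor k (l := [H]) (List.forall_mem_singleton.2 hH) hL hI hA hdA,
      ← key _ hL, hEd]
    show _ + (-(Curv2.euler k X _ - Curv2.euler k X _)) + (-(Curv2.euler k X _ - Curv2.euler k X _)) < 0
    have h' : FGA.intNum k X 2 ![L, H] (Coh.structureModule X) <
      2 * (Curv2.euler k X (CohB1.tensorMod (ClSub.quotMod E) H) - Curv2.euler k X (ClSub.quotMod E)) := hEH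
    omega
  have h0 : Subsingleton (Coh.HH X L₂ 0) :=
    Groth.Agent.S16558.result k r P hP hPc hZ X σ hσk hσ hdim L₂ hL₂ h2
  have h := Groth.Agent.H28Surf.finrank_twist_pow k hdim hC 2 hL (by omega) fun j hj => by
    show Curv2.euler k X _ - Curv2.euler k X _ - _ < 0
    rw [show Groth.Agent.H28Surf.dot k E E = -1 from hEE]
    omega
  obtain ⟨eI⟩ := Groth.Agent.H28Vert.nonempty_idealMod_mul hCe hCe
  rw [pow_two, ← (Groth.Agent.H29RR.hhIso (k := k) (Groth.Agent.H10Coh.Tw.assoc _ _ _ ≪≫
    PicGrp.tensorModIso (Iso.refl L) eI) 0).finrank_eq] at h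
  rw [Module.finrank_zero_of_subsingleton (R := k) (M := Coh.HH X L₂ 0)] at h
  haveI := Groth.Agent.H10Coh.finite_HH_proper k X _ (Groth.Agent.H11Ample.isCoh_of_isInvertible hL) 0
  exact (Module.finrank_zero_iff (R := k)).1 h.symm

end Groth.Agent.S16562
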