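import Groth.Statements.S16564
import Groth.Agent.H28RR.PlaneBlow
import Groth.Agent.H22Alg.NakaiGen
import Groth.Agent.H29RR.FiniteSupport

set_option autoImplicit false
universe u
open CategoryTheory CategoryTheory.Limits AlgebraicGeometry TopologicalSpace
open Groth.Agent
open Surf

namespace Groth.Agent.S16564

/-- Let k be an algebraically closed field, p_1, …, p_r distinct closed points of the projective plane
P²_k and σ : X → P²_k the blow-up of P²_k in the ideal of the reduced finite set {p_1, …, p_r}
(universal property), X being regarded over k through σ; X is then an integral smooth proper surface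
(carried as hypotheses). Write H = σ^*O(1), (L·M) = χ(O_X) − χ(L) − χ(M) + χ(L ⊗ M) for the
intersection number of invertible modules L, M, and for a closed subscheme C ⊆ X with ideal I_C
write (L·C) = χ(O_C ⊗ L) − χ(O_C) and C² = (I_C·I_C). A (−1)-curve is an integral closed
one-dimensional subscheme E ⊆ X with H¹(E, O_E) = 0 and E² = −1. Call an invertible module M
non-special when at most one of H⁰(X, M), H¹(X, M), H²(X, M) is nonzero. Suppose every invertible M
with (M·E) ≥ −1 for every (−1)-curve E is non-special (the non-speciality hypothesis for X). Then no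
integral closed one-dimensional subscheme C ⊆ X has C² ≤ −2. (The source concludes that the curves
of negative self-intersection are exactly the (−1)-curves; its argument treats C² ≤ −2, which is
what is stated here.) (The source takes the points in general position; that assumption plays no
role here.) -/
theorem result (k : Type u) [Field k] [IsAlgClosed k]
    (r : ℕ) (P : Fin r → ↥(CohB1.ProjSpace 2 k)) (hP : Function.Injective P)
    (hPc : ∀ i, IsClosed ({P i} : Set ↥(CohB1.ProjSpace 2 k))) (hZ : IsClosed (Set.range P))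
    (X : Scheme.{u}) [X.Over (Spec (CommRingCat.of k))] (σ : X ⟶ CohB1.ProjSpace 2 k)
    (hσk : σ ≫ CohB1.ProjSpace.toSpec 2 k = X ↘ (Spec (CommRingCat.of k)))
    (hσ : BlowUp.IsBlowUp σ (Scheme.IdealSheafData.vanishingIdeal ⟨Set.range P, hZ⟩))
    [IsIntegral X] [IsProper (X ↘ (Spec (CommRingCat.of k)))] [Smooth (X ↘ (Spec (CommRingCat.of k)))] (hdim : topologicalKrullDim X = 2)
    (hconj : ∀ (M : X.Modules), PicF.IsInvertible M →
      (∀ (E : X.IdealSheafData), IsIntegral E.subscheme → topologicalKrullDim (E.support : Set X) = 1 →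
        Subsingleton (Coh.HH E.subscheme (Coh.structureModule E.subscheme) 1) →
        FGA.intNum k X 2 ![ClSub.idealMod E, ClSub.idealMod E] (Coh.structureModule X) = -1 →
        -1 ≤ (Curv2.euler k X (CohB1.tensorMod (ClSub.quotMod E) M) - Curv2.euler k X (ClSub.quotMod E))) →
      ((Subsingleton (Coh.HH X M 0) ∧ Subsingleton (Coh.HH X M 1)) ∨ (Subsingleton (Coh.HH X M 0) ∧ Subsingleton (Coh.HH X M 2)) ∨
        (Subsingleton (Coh.HH X M 1) ∧ Subsingleton (Coh.HH X M 2))))
    (C : X.IdealSheafData) (hCi : IsIntegral C.subscheme) (hC1 : topologicalKrullDim (C.support : Set X) = 1) :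
    -1 ≤ FGA.intNum k X 2 ![ClSub.idealMod C, ClSub.idealMod C] (Coh.structureModule X) := by
  classical
  obtain ⟨hH, -, hχ, hHW⟩ := H28RR.PlaneBlow.facts k r P hPc hZ X σ hσk hσ hdim
  haveI := H28Int.isNoetherian k (X := X)
  obtain ⟨W, hW⟩ := H28RR.exists_canonical k hdim
  have hC : H28Surf.IsCurve C := ⟨hCi, hC1⟩
  have hCc := H28Surf.isEffCartier_curve k hdim hC
  have hI := H28Surf.isInvertible_ideal k hCc
  rw [H28Surf.intNum_eq_pr k hdim hI hI]
  by_contra hlt
  obtain ⟨N, hN, ⟨e₀⟩⟩ := H11Sym.exists_inverse hI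
  have e : CohB1.tensorMod (ClSub.idealMod C) N ≅ Coh.structureModule X := H10Coh.Tw.commIso _ N ≪≫ e₀
  have hcases := hconj N hN fun E hEi hE1 hEg hEE => by
    have hE : H28Surf.IsCurve E := ⟨hEi, hE1⟩
    have hIE := H28Surf.isInvertible_ideal k (H28Surf.isEffCartier_curve k hdim hE)
    rw [H28Surf.intNum_eq_pr k hdim hIE hIE] at hEE
    show -1 ≤ H28Surf.degOn k E N
    rw [H28RR.degOn_eq_pr k hdim hE hN, H28Surf.pr_symm k (ClSub.idealMod E) N,
      H28Surf.pr_inv_left k hdim hI hN hIE e, neg_neg]
    have hne : C ≠ E := fun h => by subst h; omega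
    have := (H28Reg.pr_curves_nonneg k hdim hC hE hI hIE hne).1
    omega
  have hχN : Curv2.euler k X N ≤ 0 := by
    have hr := H28RR.riemann_roch' k hdim hW hN
    rw [H28Surf.pr_inv_left k hdim hI hN hN e, H28Surf.pr_symm k (ClSub.idealMod C) N,
      H28Surf.pr_inv_left k hdim hI hN hI e,
      H28Surf.pr_inv_left k hdim hI hN (H28RR.isInvertible_canonical k hdim hW) e, hχ] at hr
    have hq := H28RR.euler_quot k hdim hW hCc
    have := (H28Surf.euler_le_one k hdim hC).1
    omega
  have hh0 : 1 ≤ Module.finrank k (Coh.HH X (Coh.structureModule X) 0) := by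
    have he := H28RR.euler_eq_three k hdim (H10Coh.isCoh_structureModule' X)
    have hd : -2 ≤ H28Surf.pr k (Coh.structureModule X)
        ((Scheme.Modules.pullback σ).obj (Twist.twistProjSpace 2 k 1)) := by
      rw [H28Surf.pr_structure_left k hH]; norm_num
    rw [hχ, @Module.finrank_zero_of_subsingleton k (Coh.HH X (Coh.structureModule X) 2) _ _ _ _
      (H28RR.PlaneBlow.subsingleton_h2 k r P hP hPc hZ X σ hσk hσ hdim (H28Int.isInvertible_structureModule X) hd)] at he
    omega
  have hN0 : 1 ≤ Module.finrank k (Coh.HH X N 0) := by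
    haveI := H10Coh.epi_toSubscheme C
    let S₀ : ShortComplex X.Modules := ShortComplex.mk (ClSub.idealModι C) (ClSub.toSubscheme C) (kernel.condition _)
    let S := S₀.map ((DCoh.tensorBi (X := X)).flip.obj N)
    have hS : S.ShortExact := H28Int.tensor_shortExact (H10Coh.shortExact_kernel (ClSub.toSubscheme C)) hN
    haveI := hS.mono_f
    let φ : Coh.structureModule X ⟶ N := e.inv ≫ S.f ≫ (H10Coh.Tw.leftUnitIso N).hom
    haveI : Mono φ := mono_comp' (IsIso.mono_of_iso e.inv) (mono_comp' hS.mono_f (IsIso.mono_of_iso (H10Coh.Tw.leftUnitIso N).hom))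
    haveI := H10Coh.finite_HH_proper k X _ (H11Ample.isCoh_of_isInvertible hN) 0
    exact hh0.trans (LinearMap.finrank_le_finrank_of_injective (H29RR.hhlin_zero_injective (k := k) φ))
  have hnon : ¬ Subsingleton (Coh.HH X N 0) := fun h => by
    rw [@Module.finrank_zero_of_subsingleton k (Coh.HH X N 0) _ _ _ _ h] at hN0
    omega
  rcases hcases with ⟨h, -⟩ | ⟨h, -⟩ | ⟨h1, h2⟩
  · exact hnon h
  · exact hnon h
  have he := H28RR.euler_eq_three k hdim (H11Ample.isCoh_of_isInvertible hN)
  rw [@Module.finrank_zero_of_subsingleton k (Coh.HH X N 1) _ _ _ _ h1,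
    @Module.finrank_zero_of_subsingleton k (Coh.HH X N 2) _ _ _ _ h2] at he
  omega

end Groth.Agent.S16564
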