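import Groth.Statements.S16565
import Groth.Agent.H28RR.LineFibration
import Groth.Agent.H7Flat.CohDim.Fibre
import Groth.Agent.H12Pic.CurveFam.ComapIdeal
import Groth.Agent.H28RR.Fibre
import Groth.Agent.H28Surf.Twist
import Groth.Agent.H29RR.GenPoint
import Groth.Agent.H26Smooth.ProjSmooth

set_option autoImplicit false
universe u
open CategoryTheory CategoryTheory.Limits AlgebraicGeometry TopologicalSpace
open Groth.Agent
open Surf

namespace Groth.Agent.S16565


attribute [local instance] H29RR.PnPic.overSpec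

theorem isProper_line (k : Type u) [Field k] :
    IsProper (CohB1.ProjSpace 1 k ↘ Spec (CommRingCat.of k)) := H27Weil.isProper_toSpec 1 k

theorem dim_fibre_le (k : Type u) [Field k] [IsAlgClosed k] {X : Scheme.{u}} [X.Over (Spec (CommRingCat.of k))]
    [IsIntegral X] (π : X ⟶ CohB1.ProjSpace 1 k) [IsProper π] [Surjective π] (hdim : topologicalKrullDim X = 2)
    (hPd : topologicalKrullDim (CohB1.ProjSpace 1 k) = 1) (y : CohB1.ProjSpace 1 k) :
    topologicalKrullDim ↥(π.fiber y) ≤ ((1 : ℕ) : WithBot ℕ∞) := by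
  haveI := isProper_line k
  haveI : JacobsonSpace (CohB1.ProjSpace 1 k) :=
    LocallyOfFiniteType.jacobsonSpace (CohB1.ProjSpace 1 k ↘ Spec (CommRingCat.of k))
  obtain ⟨hint, -, -⟩ := H28Curve.projLine_facts k
  haveI := hint
  obtain ⟨z, hz, hyz⟩ := H28RR.Ruled.exists_closed_specialization y
  refine hyz.mem_open (S0403.result π ((1 : ℕ) : WithBot ℕ∞)) ?_
  show topologicalKrullDim ↥(π.fiber z) ≤ _
  rw [(IsHomeomorph.topologicalKrullDim_eq _ (π.fiberHomeo z).isHomeomorph)]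
  have hη : genericPoint X ∉ π ⁻¹' ({z} : Set (CohB1.ProjSpace 1 k)) := by
    intro h
    have h' : z = genericPoint (CohB1.ProjSpace 1 k) := (Set.mem_singleton_iff.1 h).symm.trans (H28RR.Ruled.gen_map π)
    have huniv : ({z} : Set (CohB1.ProjSpace 1 k)) = Set.univ := by
      rw [← hz.closure_eq, h']
      exact genericPoint_spec _
    haveI : Subsingleton (CohB1.ProjSpace 1 k) := ⟨fun a b => by
      have ha : a ∈ ({z} : Set (CohB1.ProjSpace 1 k)) := huniv ▸ trivial
      have hb : b ∈ ({z} : Set (CohB1.ProjSpace 1 k)) := huniv ▸ trivial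
      rw [Set.mem_singleton_iff.1 ha, Set.mem_singleton_iff.1 hb]⟩
    have := topologicalKrullDim_zero_of_discreteTopology (CohB1.ProjSpace 1 k)
    rw [hPd] at this
    exact absurd this (not_le.2 zero_lt_one)
  have hlt := H28Int.dim_lt_of_notMem (C := Set.univ) (genericPoint_spec X) (n := 2)
    ((Topology.IsInducing.subtypeVal.topologicalKrullDim_le).trans hdim.le)
    (hz.preimage π.continuous) (fun _ _ => trivial) hη
  exact Order.le_of_lt_succ (hlt.trans_le (le_of_eq (by rfl)))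

theorem nonempty_point_iso (k : Type u) [Field k] [IsAlgClosed k] (q : CohB1.ProjSpace 1 k)
    (hq : IsClosed ({q} : Set (CohB1.ProjSpace 1 k))) :
    Nonempty (ClSub.idealMod (Scheme.IdealSheafData.vanishingIdeal ⟨{q}, hq⟩) ≅ Twist.twistProjSpace 1 k (-1)) := by
  haveI := isProper_line k
  haveI : Smooth (CohB1.ProjSpace 1 k ↘ Spec (CommRingCat.of k)) := H26Smooth.smooth_toSpec 1 k
  obtain ⟨hint, -, hPd⟩ := H28Curve.projLine_facts k
  haveI := hint
  have hI : PicF.IsInvertible (ClSub.idealMod (Scheme.IdealSheafData.vanishingIdeal ⟨{q}, hq⟩)) :=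
    H29Blow.isInvertible_of_isEffCartierIdeal _ (H28RR.isEffCartier_point k hPd hq)
  have hpt : H29RR.ptIdeal q = Scheme.IdealSheafData.vanishingIdeal ⟨{q}, hq⟩ := by
    haveI : IsClosedImmersion ((CohB1.ProjSpace 1 k).fromSpecResidueField q) :=
      isClosed_singleton_iff_isClosedImmersion.mp hq
    rw [H29RR.ptIdeal, H17.ker_eq_vanishingIdeal]
    congr 1
    refine Closeds.ext ?_
    show closure (Set.range ((CohB1.ProjSpace 1 k).fromSpecResidueField q)) = {q}
    rw [Scheme.range_fromSpecResidueField, hq.closure_eq]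
  obtain ⟨d, -, ⟨e⟩⟩ := H29RR.PnPic.exists_splitting (k := k) 1 _ (H29RR.rank_one_of_isInvertible hI)
  let e' : ClSub.idealMod (Scheme.IdealSheafData.vanishingIdeal ⟨{q}, hq⟩) ≅ Twist.twistProjSpace 1 k (d 0) :=
    e ≪≫
      { hom := Sigma.desc (fun i : Fin 1 => eqToHom (congrArg (fun j => Twist.twistProjSpace 1 k (d j))
          (Subsingleton.elim i 0)))
        inv := Sigma.ι (fun i : Fin 1 => Twist.twistProjSpace 1 k (d i)) 0
        hom_inv_id := Sigma.hom_ext _ _ fun i => by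
          obtain rfl := Subsingleton.elim i 0
          simp
        inv_hom_id := by simp }
  obtain ⟨-, -, h⟩ := H29RR.twist_point (k := k) hq (H28Int.isInvertible_structureModule (CohB1.ProjSpace 1 k))
    (hpt ▸ H11Ample.isCoh_of_isInvertible hI)
  rw [H25Euler.euler_congr (H10Coh.Tw.rightUnitIso _), hpt, H25Euler.euler_congr e',
    H29RR.finrank_residue_eq_one (k := k) hq] at h
  obtain ⟨c, -, hc⟩ := H29RR.PnPic.deg_twist_line (k := k)
  have h1 := hc 1
  rw [H29DoubleCover.deg_twist_one, one_mul] at h1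
  have h2 := hc (d 0)
  rw [← h1, mul_one, Curv2.deg, Nat.cast_one, one_mul] at h2
  have : d 0 = -1 := by omega
  exact ⟨e' ≪≫ eqToIso (congrArg _ this)⟩

theorem nonempty_trivial (k : Type u) [Field k] {X : Scheme.{u}} (π : X ⟶ CohB1.ProjSpace 1 k)
    (q : CohB1.ProjSpace 1 k) (hq : IsClosed ({q} : Set (CohB1.ProjSpace 1 k))) {A : (CohB1.ProjSpace 1 k).Modules}
    (hA : PicF.IsInvertible A) :
    Nonempty ((Scheme.Modules.pullback ((Scheme.IdealSheafData.vanishingIdeal ⟨{q}, hq⟩).comap π).subschemeι).obj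
        ((Scheme.Modules.pullback π).obj A) ≅
      Coh.structureModule ((Scheme.IdealSheafData.vanishingIdeal ⟨{q}, hq⟩).comap π).subscheme) := by
  set F := (Scheme.IdealSheafData.vanishingIdeal ⟨{q}, hq⟩).comap π
  let h := F.subschemeι ≫ π
  have hconst : ∀ y, h y = q := fun y => by
    have hy : F.subschemeι y ∈ Set.range F.subschemeι := ⟨y, rfl⟩
    rw [Scheme.IdealSheafData.range_subschemeι, Scheme.IdealSheafData.support_comap,
      TopologicalSpace.Closeds.coe_preimage, Scheme.IdealSheafData.coe_support_vanishingIdeal] at hy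
    exact hy
  obtain ⟨U, hxU, ⟨e⟩⟩ := hA q
  have hle : ⊤ ≤ h ⁻¹ᵁ U := fun y _ => show h y ∈ U from (hconst y).symm ▸ hxU
  let j : F.subscheme ⟶ U := IsOpenImmersion.lift U.ι h (by
    rintro _ ⟨y, rfl⟩
    rw [Scheme.Opens.range_ι]
    exact hle trivial)
  have hj : j ≫ U.ι = h := IsOpenImmersion.lift_fac _ _ _
  exact ⟨(Scheme.Modules.pullbackComp F.subschemeι π).app A ≪≫ eqToIso (by rw [hj]) ≪≫
    ((Scheme.Modules.pullbackComp j U.ι).app A).symm ≪≫
    (Scheme.Modules.pullback j).mapIso ((Scheme.Modules.restrictFunctorIsoPullback U.ι).symm.app A ≪≫ e) ≪≫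
    H16Derived.KFlat.Stalk.structurePullbackIso j⟩

set_option maxHeartbeats 1600000 in
/-- Let X be a smooth proper integral surface over an algebraically closed field k, π : X → P¹_k a
surjective k-morphism, L an invertible O_X-module with R¹π_*L = 0, q a closed point of P¹_k and F =
π⁻¹(q) its fibre, with ideal I_F. Assume the restriction map H⁰(X, L) → H⁰(F, L|_F) is surjective,
stated as dim_k H⁰(X, L) = dim_k H⁰(X, L ⊗ I_F) + dim_k H⁰(X, L ⊗ O_F) (the sequence 0 → L ⊗ I_F → L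
→ L ⊗ O_F → 0 being exact). Then H¹(X, L) = 0 = H¹(X, L ⊗ I_F), and H¹(P¹_k, π_*L ⊗ O(−1)) = 0, i.e.
the line bundle summands of π_*L all have degree ≥ 0. (The source states this for the blow-up of
P²_k at points in general position fibred over P¹_k by projection from one of the points; its
argument uses only a smooth projective surface mapping onto P¹_k.) -/
theorem result (k : Type u) [Field k] [IsAlgClosed k]
    (X : Scheme.{u}) [X.Over (Spec (CommRingCat.of k))] [IsIntegral X] [IsProper (X ↘ (Spec (CommRingCat.of k)))] [Smooth (X ↘ (Spec (CommRingCat.of k)))]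
    (hdim : topologicalKrullDim X = 2) [HasInjectiveResolutions X.Modules]
    (π : X ⟶ CohB1.ProjSpace 1 k) (hπk : π ≫ CohB1.ProjSpace.toSpec 1 k = X ↘ (Spec (CommRingCat.of k))) (hπs : Function.Surjective π)
    (L : X.Modules) (hL : PicF.IsInvertible L) (hR1 : IsZero ((Coh.Rpush π 1).obj L))
    (q : ↥(CohB1.ProjSpace 1 k)) (hq : IsClosed ({q} : Set ↥(CohB1.ProjSpace 1 k)))
    (hres : Module.finrank k (Coh.HH X L 0) =
      Module.finrank k (Coh.HH X (CohB1.tensorMod L (ClSub.idealMod ((Scheme.IdealSheafData.vanishingIdeal ⟨{q}, hq⟩).comap π))) 0) +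
        Module.finrank k (Coh.HH X (CohB1.tensorMod (ClSub.quotMod ((Scheme.IdealSheafData.vanishingIdeal ⟨{q}, hq⟩).comap π)) L) 0)) :
    Subsingleton (Coh.HH X L 1) ∧ Subsingleton (Coh.HH X (CohB1.tensorMod L (ClSub.idealMod ((Scheme.IdealSheafData.vanishingIdeal ⟨{q}, hq⟩).comap π))) 1) ∧
      Subsingleton (Coh.HH (CohB1.ProjSpace 1 k) (CohB1.tensorMod ((Coh.push π).obj L) (Twist.twistProjSpace 1 k (-1))) 1) := by
  classical
  letI := H29RR.PnPic.overSpec 1 k
  haveI : IsProper (CohB1.ProjSpace 1 k ↘ Spec (CommRingCat.of k)) := H27Weil.isProper_toSpec 1 k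
  haveI : Smooth (CohB1.ProjSpace 1 k ↘ Spec (CommRingCat.of k)) := H26Smooth.smooth_toSpec 1 k
  obtain ⟨hint, -, hPd⟩ := H28Curve.projLine_facts k
  haveI := hint
  haveI : Surjective π := ⟨hπs⟩
  haveI := H10Coh.enoughInjMod X
  haveI := H28Int.isNoetherian k (X := X)
  haveI := H28Int.isNoetherian k (X := CohB1.ProjSpace 1 k)
  haveI := H28RR.Ruled.isProper_proj k π hπk
  haveI := H28RR.Ruled.flat_proj k π hPd
  haveI : LocallyOfFinitePresentation π := LocallyOfFinitePresentation.iff_locallyOfFiniteType.2 inferInstance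
  -- vanishing of the higher direct images
  have hLc := H11Ample.isCoh_of_isInvertible hL
  haveI : Coh.IsQCoh L := hLc.1
  have hdimfib := dim_fibre_le k π hdim hPd
  have hR : ∀ p : ℕ, 0 < p → IsZero ((Coh.Rpush π p).obj L) := by
    intro p hp
    rcases Nat.lt_or_ge 1 p with h | h
    · exact H17.FPExt.isZero_of_stalk _ fun y =>
        H7Flat.CohDim.subsingleton_stalk π y 1 (hdimfib y) L p h
    · obtain rfl : p = 1 := by omega
      exact hR1
  -- the direct image is a bundle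
  have hfl := H10Coh.SheafHom.isFlatOver_of_isFinLocFree π L (H23Para.isFinLocFree_of_isInvertible hL)
  obtain ⟨-, hfree⟩ := H10Coh.BaseChange.acyclic π L hLc hfl hR
  obtain ⟨r, hE⟩ := H22Alg.KModel.exists_rank (X := CohB1.ProjSpace 1 k) (M := (Coh.push π).obj L)
    fun y => let ⟨U, hU, h⟩ := hfree y; ⟨U, _, hU, h⟩
  -- twists
  let O : ℤ → (CohB1.ProjSpace 1 k).Modules := fun d => Twist.twistProjSpace 1 k d
  have hO := H10Coh.Stab.isTwistFamily_projSpace 1 k
  let G : ℤ → X.Modules := fun d => (Scheme.Modules.pullback π).obj (O d)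
  have hGf := hO.pullback π
  let M : ℕ → X.Modules := fun m => CohB1.tensorMod L (G ((m : ℤ) - 1))
  let N : ℕ → (CohB1.ProjSpace 1 k).Modules := fun m => (Coh.push π).obj (M m)
  have hMi : ∀ m, PicF.IsInvertible (M m) := fun m => H11Ample.isInvertible_tensor hL (hGf.inv _)
  have hN : ∀ m : ℕ, Nonempty (N m ≅ CohB1.tensorMod ((Coh.push π).obj L) (O ((m : ℤ) - 1))) := fun m =>
    ⟨(H10Coh.Tw.nonempty_push_tensor_iso π L (hO.inv ((m : ℤ) - 1))).some.symm⟩
  have hacyc : ∀ m (i : ℕ), 0 < i → IsZero ((Coh.Rpush π i).obj (M m)) := by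
    intro m i hi
    obtain ⟨e⟩ := H10Coh.PF.nonempty_projectionFormula' π L
      (H23Para.isFinLocFree_of_isInvertible (hO.inv ((m : ℤ) - 1))) i
    exact ((((DCoh.tensorBi (X := CohB1.ProjSpace 1 k)).obj (O ((m : ℤ) - 1))).map_isZero (hR i hi)).of_iso
      e.symm).of_iso ((Coh.Rpush π i).mapIso (H10Coh.Tw.commIso _ _))
  have hH : ∀ m (i : ℕ), Nonempty (Coh.HH X (M m) i ≃ₗ[k] Coh.HH (CohB1.ProjSpace 1 k) (N m) i) := fun m i =>
    H28RR.Ruled.nonempty_push_equiv k π hπk (M m) (hacyc m) i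
  -- the ideal of the fibre
  have hpt : BlowUp.IsEffCartierIdeal (Scheme.IdealSheafData.vanishingIdeal ⟨{q}, hq⟩) :=
    H28RR.isEffCartier_point k hPd hq
  have hF : BlowUp.IsEffCartierIdeal ((Scheme.IdealSheafData.vanishingIdeal ⟨{q}, hq⟩).comap π) :=
    H28RR.ker_fiberι π hq ▸ H28RR.isEffCartier_fibre k hPd π hq
  set F := (Scheme.IdealSheafData.vanishingIdeal ⟨{q}, hq⟩).comap π with hFdef
  obtain ⟨ept⟩ := nonempty_point_iso k q hq
  obtain ⟨ec⟩ := H12Pic.CurveFam.nonempty_pullback_idealMod_comap π hpt hF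
  let eF : ClSub.idealMod F ≅ G (-1) := ec.symm ≪≫ (Scheme.Modules.pullback π).mapIso ept
  -- the restrictions to the fibre agree
  have hquot : ∀ m : ℕ, Nonempty (CohB1.tensorMod (ClSub.quotMod F) (M m) ≅ CohB1.tensorMod (ClSub.quotMod F) L) := by
    intro m
    obtain ⟨a⟩ := H28Surf.nonempty_quot_tensor_iso (k := k) F (hMi m)
    obtain ⟨b⟩ := H28Surf.nonempty_quot_tensor_iso (k := k) F hL
    obtain ⟨c⟩ := nonempty_trivial k π q hq (hO.inv ((m : ℤ) - 1))
    let t : (Scheme.Modules.pullback F.subschemeι).obj (M m) ≅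
        CohB1.tensorMod ((Scheme.Modules.pullback F.subschemeι).obj L)
          ((Scheme.Modules.pullback F.subschemeι).obj (G ((m : ℤ) - 1))) :=
      (Scheme.Modules.pullback F.subschemeι).mapIso (eqToIso (H25Euler.tensorBi_flip_obj _ _).symm) ≪≫
        (H16Derived.KFlat.Stalk.pullTensorLIso F.subschemeι (G ((m : ℤ) - 1))).app L ≪≫
        eqToIso (H25Euler.tensorBi_flip_obj _ _)
    exact ⟨a ≪≫ (Coh.push F.subschemeι).mapIso (t ≪≫ PicGrp.tensorModIso (Iso.refl _) c ≪≫
      H10Coh.Tw.rightUnitIso _) ≪≫ b.symm⟩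
  let δ : ℕ := Module.finrank k (Coh.HH X (CohB1.tensorMod (ClSub.quotMod F) L) 0)
  -- the sequences
  have hbig : ∀ m : ℕ, Subsingleton (Coh.HH (CohB1.ProjSpace 1 k) (N m) 1) →
      Module.finrank k (Coh.HH (CohB1.ProjSpace 1 k) (N (m + 1)) 0) =
        Module.finrank k (Coh.HH (CohB1.ProjSpace 1 k) (N m) 0) + δ := by
    intro m hm
    rw [← (hH (m + 1) 0).some.finrank_eq, ← (hH m 0).some.finrank_eq]
    obtain ⟨S, hS, e₁, e₂, e₃⟩ := H28Surf.exists_restrict_seq (k := k) F (hMi (m + 1))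
    obtain ⟨ea⟩ := hGf.add ((m + 1 : ℕ) - 1 : ℤ) (-1)
    have hidx : ((m + 1 : ℕ) : ℤ) - 1 + -1 = (m : ℤ) - 1 := by push_cast; ring
    let i₁ : S.X₁ ≅ M m := eqToIso e₁ ≪≫ H10Coh.Tw.commIso _ _ ≪≫ PicGrp.tensorModIso (Iso.refl _) eF ≪≫
      H10Coh.Tw.assoc _ _ _ ≪≫ PicGrp.tensorModIso (Iso.refl _) (ea ≪≫ eqToIso (congrArg G hidx))
    let i₂ : S.X₂ ≅ M (m + 1) := eqToIso e₂ ≪≫ H10Coh.Tw.leftUnitIso _
    let i₃ : S.X₃ ≅ CohB1.tensorMod (ClSub.quotMod F) L := eqToIso e₃ ≪≫ (hquot (m + 1)).some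
    haveI : Subsingleton (Coh.HH X S.X₁ 1) :=
      ((H29RR.hhIso (k := k) i₁ 1).trans (hH m 1).some).toEquiv.subsingleton
    have h₁ : Coh.IsCoh S.X₁ := H10Coh.isCoh_of_iso i₁.symm (H11Ample.isCoh_of_isInvertible (hMi m))
    have h₂ : Coh.IsCoh S.X₂ := H10Coh.isCoh_of_iso i₂.symm (H11Ample.isCoh_of_isInvertible (hMi (m + 1)))
    have h₃ : Coh.IsCoh S.X₃ := e₃ ▸ H11Ample.isCoh_tensor (H28Surf.isCoh_quot k F) (hMi (m + 1))
    have hle := H28Surf.finrank_zero_le k hS h₁ h₂ h₃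
    haveI := H10Coh.finite_HH_proper k X _ h₁ 0
    haveI := H10Coh.finite_HH_proper k X _ h₂ 0
    haveI := H10Coh.finite_HH_proper k X _ h₃ 0
    have hinj := H28Surf.hhlin_injective k hS
    have hsurj := H22Alg.NakaiGen.hhlin_g_surjective (k := k) hS 0 (Function.injective_of_subsingleton _)
    have hadd := (Canon.HHlin k S.g 0).finrank_range_add_finrank_ker
    rw [LinearMap.range_eq_top.2 hsurj, finrank_top] at hadd
    have hmem : ∀ x, Canon.HHlin k S.f 0 x ∈ LinearMap.ker (Canon.HHlin k S.g 0) := fun x => by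
      rw [LinearMap.mem_ker, ← H29RR.hhlin_comp, S.zero, H29RR.hhlin_zero]
    have hker : Module.finrank k (Coh.HH X S.X₁ 0) ≤ Module.finrank k (LinearMap.ker (Canon.HHlin k S.g 0)) :=
      LinearMap.finrank_le_finrank_of_injective (f := (Canon.HHlin k S.f 0).codRestrict _ hmem)
        fun a b hab => hinj (congrArg Subtype.val hab)
    rw [← (H29RR.hhIso (k := k) i₂ 0).finrank_eq, ← (H29RR.hhIso (k := k) i₁ 0).finrank_eq,
      show δ = Module.finrank k (Coh.HH X S.X₃ 0) from ((H29RR.hhIso (k := k) i₃ 0).finrank_eq).symm]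
    omega
  obtain ⟨ez⟩ := hGf.zero
  let e1 : M 1 ≅ L := PicGrp.tensorModIso (Iso.refl _) (eqToIso (congrArg G (by norm_num)) ≪≫ ez) ≪≫
    H10Coh.Tw.rightUnitIso _
  let e0 : M 0 ≅ CohB1.tensorMod L (ClSub.idealMod F) :=
    PicGrp.tensorModIso (Iso.refl _) (eqToIso (congrArg G (by norm_num)) ≪≫ eF.symm)
  have h0 : Module.finrank k (Coh.HH (CohB1.ProjSpace 1 k) (N 1) 0) =
      Module.finrank k (Coh.HH (CohB1.ProjSpace 1 k) (N 0) 0) + δ := by
    rw [← (hH 1 0).some.finrank_eq, ← (hH 0 0).some.finrank_eq, (H29RR.hhIso (k := k) e1 0).finrank_eq,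
      (H29RR.hhIso (k := k) e0 0).finrank_eq]
    exact hres
  have hvan := H28RR.LineFib.h1_eq_zero k hE δ N hN h0 hbig
  refine ⟨?_, ?_, ?_⟩
  · haveI := hvan 1
    exact ((H29RR.hhIso (k := k) e1 1).symm.trans (hH 1 1).some).toEquiv.subsingleton
  · haveI := hvan 0
    exact ((H29RR.hhIso (k := k) e0 1).symm.trans (hH 0 1).some).toEquiv.subsingleton
  · haveI := hvan 0
    exact (H29RR.hhIso (k := k) ((hN 0).some ≪≫ PicGrp.tensorModIso (Iso.refl _)
      (eqToIso (congrArg O (by norm_num)))) 1).symm.toEquiv.subsingleton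

end Groth.Agent.S16565
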