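import Groth.Statements.S1657
import Groth.Agent.H23Gor.TriCanon
import Groth.Agent.H4RSH.DualMod

set_option autoImplicit false
universe u
open CategoryTheory CategoryTheory.Limits AlgebraicGeometry
attribute [local instance] HasDerivedCategory.standard
open Curves

namespace Groth.Agent.S1657

/-- Let X be proper of dimension one over k with global functions k and genus g ≥ 2, with at-worst-nodal
singularities, and let ω_X be its dualizing module (degree -1 cohomology sheaf of f^! O for f : X →
Spec k, assuming Rf_* on D_QCoh and its right adjoint exist). If ω_X is ample, then ω_X^{⊗3} is very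
ample — some closed immersion i : X → P^n_k over k has i^* O(1) ≅ ω_X^{⊗3} — and H^1(X, ω_X^{⊗3}) =
0. -/
theorem result (k : Type u) [Field k] (X : Scheme.{u}) [X.Over (Spec (CommRingCat.of k))] [IsProper (X ↘ (Spec (CommRingCat.of k)))] (hdim : topologicalKrullDim X = 1)
    (h0 : Module.finrank k (Coh.HH X (Coh.structureModule X) 0) = 1) (hg : 2 ≤ Curv2.genus k X) (hX : Curv2.AtWorstNodal k X)
    [DCoh.HasRpush (X ↘ (Spec (CommRingCat.of k)))] (h : DCoh.RpushPreservesQCoh (X ↘ (Spec (CommRingCat.of k)))) [DCoh.HasShriek (X ↘ (Spec (CommRingCat.of k))) h]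
    (OY : DCoh.DQCoh (Spec (CommRingCat.of k))) (hOY : Nonempty (OY.obj ≅ DCoh.inD (Spec (CommRingCat.of k)) (Coh.structureModule (Spec (CommRingCat.of k)))))
    (hample : CohB1.IsAmple (DCoh.dualizingMod (X ↘ (Spec (CommRingCat.of k))) h OY 1)) :
    (∃ (n : ℕ) (i : X ⟶ CohB1.ProjSpace n k), IsClosedImmersion i ∧ i ≫ CohB1.ProjSpace.toSpec n k = X ↘ (Spec (CommRingCat.of k)) ∧
      Nonempty ((Scheme.Modules.pullback i).obj (Twist.twistProjSpace n k 1) ≅ CohB1.tensorPow (DCoh.dualizingMod (X ↘ (Spec (CommRingCat.of k))) h OY 1) 3)) ∧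
      Subsingleton (Coh.HH X (CohB1.tensorPow (DCoh.dualizingMod (X ↘ (Spec (CommRingCat.of k))) h OY 1) 3) 1) := by
  obtain ⟨hr, hc, hequi, hω⟩ := H23Gor.nodal_setup k X hdim h0 hX h OY hOY
  haveI := hr
  haveI := hc
  haveI := H29RR.isNoetherian_of_proper (k := k) (X := X)
  haveI := (Groth.Agent.S1589.result k X hequi hX).2
  have hχ : Curv2.euler k X (Coh.structureModule X) < 0 := by
    rw [H29RR.euler_eq_sub (k := k) hdim.le, h0]
    have : 2 ≤ Module.finrank k (Coh.HH X (Coh.structureModule X) 1) := hg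
    omega
  refine ⟨H23Gor.exists_closedImmersion_tricanonical hdim h0 hg hω.1
    (H4RSH.DualMod.isDualizingSheaf_dualizingMod k X h OY hOY 1 hdim.le) hample, ?_⟩
  exact H23Gor.subsingleton_h1_sub hdim.le (H29CurveDual.Subcurve.isPure_top hdim) hω
    (H11Ample.isInvertible_tensorPow hω.1 3) (H11Ample.isCoh_of_isInvertible (H11Ample.isInvertible_tensorPow hω.1 3))
    (𝟙 _) (fun η _ => (H23Gor.subsingleton_stalk_cokernel_id _ η))
    fun W hW hne => by
      have := H23Gor.tricanonical_bound hdim hω hample hχ W hW hne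
      omega

end Groth.Agent.S1657
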