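import Groth.Statements.S16572
import Mathlib.FieldTheory.IsAlgClosed.AlgebraicClosure
import Mathlib.FieldTheory.Isaacs
import Mathlib.RingTheory.Flat.TorsionFree
import Mathlib.RingTheory.Henselian
import Mathlib.RingTheory.RegularLocalRing.Defs
import Mathlib.RingTheory.SimpleRing.Principal
import Mathlib.Tactic.Ring
import Mathlib.Tactic.FieldSimp

set_option autoImplicit false
universe u
open CAlg

namespace Groth.Agent.S16572

/-- Let A be a commutative ring and T the quotient of the polynomial ring over A in indeterminates X_P,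
one for each monic polynomial P over A of positive degree, by the ideal generated by the elements
P(X_P). Then the map on prime spectra Spec T → Spec A is surjective, and for every prime ideal Q of
T, with p its contraction to A, the residue field of Q is algebraically closed and integral over the
residue field of p under the induced map of residue fields (so it is an algebraic closure of it). -/
theorem result (A : Type u) [CommRing A] :
    Function.Surjective (PrimeSpectrum.comap (algebraMap A (MvPolynomial {P : Polynomial A // P.Monic ∧ 0 < P.natDegree} A ⧸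
      Ideal.span (Set.range fun P : {P : Polynomial A // P.Monic ∧ 0 < P.natDegree} =>
        Polynomial.aeval (MvPolynomial.X (R := A) P) P.1)))) ∧
    ∀ (Q : Ideal (MvPolynomial {P : Polynomial A // P.Monic ∧ 0 < P.natDegree} A ⧸
      Ideal.span (Set.range fun P : {P : Polynomial A // P.Monic ∧ 0 < P.natDegree} =>
        Polynomial.aeval (MvPolynomial.X (R := A) P) P.1))) [Q.IsPrime],
      IsAlgClosed Q.ResidueField ∧
      (Ideal.ResidueField.map (Q.comap (algebraMap A (MvPolynomial {P : Polynomial A // P.Monic ∧ 0 < P.natDegree} A ⧸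
      Ideal.span (Set.range fun P : {P : Polynomial A // P.Monic ∧ 0 < P.natDegree} =>
        Polynomial.aeval (MvPolynomial.X (R := A) P) P.1)))) Q (algebraMap A (MvPolynomial {P : Polynomial A // P.Monic ∧ 0 < P.natDegree} A ⧸
      Ideal.span (Set.range fun P : {P : Polynomial A // P.Monic ∧ 0 < P.natDegree} =>
        Polynomial.aeval (MvPolynomial.X (R := A) P) P.1))) rfl).IsIntegral := by
  classical
  have key : ∀ (B : Type u) [CommRing B] [Algebra A B] [Algebra.IsIntegral A B]
      (_ : ∀ P : Polynomial A, P.Monic → 0 < P.natDegree → ∃ y : B, Polynomial.aeval y P = 0)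
      (Q : Ideal B) [Q.IsPrime],
      IsAlgClosed Q.ResidueField ∧
        (Ideal.ResidueField.map (Q.comap (algebraMap A B)) Q (algebraMap A B) rfl).IsIntegral := by
    intro B _ _ _ hroot Q _
    set p := Q.comap (algebraMap A B)
    letI : Algebra p.ResidueField Q.ResidueField :=
      (Ideal.ResidueField.map p Q (algebraMap A B) rfl).toAlgebra
    haveI : IsScalarTower A p.ResidueField Q.ResidueField := IsScalarTower.of_algebraMap_eq fun a => by
      rw [RingHom.algebraMap_toAlgebra, Ideal.ResidueField.map_algebraMap]
      exact (IsScalarTower.algebraMap_apply A B Q.ResidueField a)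
    have hint : ∀ b : B, IsIntegral p.ResidueField (algebraMap B Q.ResidueField b) := fun b =>
      ((Algebra.IsIntegral.isIntegral (R := A) b).map (IsScalarTower.toAlgHom A B Q.ResidueField)).tower_top
    haveI halg : Algebra.IsIntegral p.ResidueField Q.ResidueField := by
      refine ⟨fun x => ?_⟩
      obtain ⟨a, b, -, rfl⟩ := IsFractionRing.div_surjective (B ⧸ Q) x
      obtain ⟨a, rfl⟩ := Ideal.Quotient.mk_surjective a
      obtain ⟨b, rfl⟩ := Ideal.Quotient.mk_surjective b
      rw [div_eq_mul_inv]
      exact (hint a).mul ((hint b).isAlgebraic.inv).isIntegral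
    refine ⟨?_, halg.isIntegral⟩
    haveI : IsAlgClosure p.ResidueField Q.ResidueField := by
      refine IsAlgClosure.of_exists_root (F := p.ResidueField) (E := Q.ResidueField) fun f hf hirr => ?_
      obtain ⟨t, ht⟩ := IsLocalization.exist_integer_multiples (nonZeroDivisors (A ⧸ p))
        (Finset.range f.natDegree) f.coeff
      obtain ⟨t', ht'⟩ := Ideal.Quotient.mk_surjective (t : A ⧸ p)
      let s := algebraMap A p.ResidueField t'
      have hsval : s = algebraMap (A ⧸ p) p.ResidueField t := by rw [← ht']; rfl
      have hs : s ≠ 0 := by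
        rw [hsval]
        exact IsFractionRing.to_map_ne_zero_of_mem_nonZeroDivisors t.2
      have hlift : f.scaleRoots s ∈ Polynomial.lifts (algebraMap A p.ResidueField) := by
        rw [Polynomial.lifts_iff_coeff_lifts]
        intro i
        rw [Polynomial.coeff_scaleRoots]
        rcases lt_trichotomy i f.natDegree with h | rfl | h
        · obtain ⟨c, hc⟩ := ht i (Finset.mem_range.mpr h)
          obtain ⟨c, rfl⟩ := Ideal.Quotient.mk_surjective c
          refine ⟨c * t' ^ (f.natDegree - i - 1), ?_⟩
          have hc' : algebraMap A p.ResidueField c = s * f.coeff i := by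
            rw [hsval, ← Algebra.smul_def]
            exact hc
          rw [map_mul, map_pow, hc']
          conv_rhs => rw [show f.natDegree - i = (f.natDegree - i - 1) + 1 by omega, pow_succ]
          ring
        · exact ⟨1, by rw [map_one, Nat.sub_self, pow_zero, mul_one, Polynomial.coeff_natDegree, hf.leadingCoeff]⟩
        · exact ⟨0, by rw [map_zero, Polynomial.coeff_eq_zero_of_natDegree_lt h, zero_mul]⟩
      obtain ⟨P, hP, hPdeg, hPm⟩ := Polynomial.lifts_and_natDegree_eq_and_monic hlift
        ((Polynomial.monic_scaleRoots_iff s).mpr hf)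
      rw [Polynomial.natDegree_scaleRoots] at hPdeg
      obtain ⟨y, hy⟩ := hroot P hPm (hPdeg ▸ hirr.natDegree_pos)
      let f' := algebraMap p.ResidueField Q.ResidueField
      let z := algebraMap B Q.ResidueField y
      refine ⟨z / f' s, ?_⟩
      have h0 : Polynomial.eval₂ f' z (f.scaleRoots s) = 0 := by
        rw [← hP, Polynomial.eval₂_map, ← IsScalarTower.algebraMap_eq, ← Polynomial.aeval_def,
          Polynomial.aeval_algebraMap_apply, hy, map_zero]
      have hfs : f' s ≠ 0 := (map_ne_zero f').mpr hs
      rw [show z = f' s * (z / f' s) by field_simp, Polynomial.scaleRoots_eval₂_mul] at h0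
      exact (mul_eq_zero.mp h0).resolve_left (pow_ne_zero _ hfs)
    exact IsAlgClosure.isAlgClosed p.ResidueField
  refine ⟨?_, ?_⟩
  · intro p
    let Ω := AlgebraicClosure p.asIdeal.ResidueField
    have hr : ∀ P : {P : Polynomial A // P.Monic ∧ 0 < P.natDegree}, ∃ z : Ω, Polynomial.aeval z P.1 = 0 := by
      intro P
      obtain ⟨z, hz⟩ := IsAlgClosed.exists_root (P.1.map (algebraMap A Ω)) (by
        rw [P.2.1.degree_map]
        exact (Polynomial.natDegree_pos_iff_degree_pos.mp P.2.2).ne')
      exact ⟨z, by rw [Polynomial.aeval_def, ← Polynomial.eval_map]; exact hz⟩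
    choose z hz using hr
    let B := MvPolynomial {P : Polynomial A // P.Monic ∧ 0 < P.natDegree} A ⧸
      Ideal.span (Set.range fun P : {P : Polynomial A // P.Monic ∧ 0 < P.natDegree} =>
        Polynomial.aeval (MvPolynomial.X (R := A) P) P.1)
    let g : B →ₐ[A] Ω := Ideal.Quotient.liftₐ _ (MvPolynomial.aeval z) fun q hq => by
      refine RingHom.mem_ker.mp ((Ideal.span_le.mpr ?_) hq)
      rintro _ ⟨P, rfl⟩
      rw [SetLike.mem_coe, RingHom.mem_ker, ← Polynomial.aeval_algHom_apply, MvPolynomial.aeval_X, hz]
    haveI : (RingHom.ker g.toRingHom).IsPrime := RingHom.ker_isPrime _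
    refine ⟨⟨RingHom.ker g.toRingHom, inferInstance⟩, PrimeSpectrum.ext ?_⟩
    show (RingHom.ker g.toRingHom).comap _ = p.asIdeal
    rw [RingHom.comap_ker, AlgHom.toRingHom_eq_coe, AlgHom.comp_algebraMap,
      IsScalarTower.algebraMap_eq A p.asIdeal.ResidueField Ω,
      RingHom.ker_comp_of_injective _ (algebraMap p.asIdeal.ResidueField Ω).injective,
      Ideal.ker_algebraMap_residueField]
  · intro Q _
    haveI : Algebra.IsIntegral A (MvPolynomial {P : Polynomial A // P.Monic ∧ 0 < P.natDegree} A ⧸
        Ideal.span (Set.range fun P : {P : Polynomial A // P.Monic ∧ 0 < P.natDegree} =>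
          Polynomial.aeval (MvPolynomial.X (R := A) P) P.1)) := by
      refine ⟨fun q => ?_⟩
      obtain ⟨q, rfl⟩ := Ideal.Quotient.mk_surjective q
      induction q using MvPolynomial.induction_on with
      | C a => exact isIntegral_algebraMap
      | add a b ha hb => rw [map_add]; exact ha.add hb
      | mul_X a P ha =>
        rw [map_mul]
        refine ha.mul ⟨P.1, P.2.1, ?_⟩
        rw [← Polynomial.aeval_def, ← Ideal.Quotient.mkₐ_eq_mk A, Polynomial.aeval_algHom_apply,
          Ideal.Quotient.mkₐ_eq_mk]
        exact Ideal.Quotient.eq_zero_iff_mem.mpr (Ideal.subset_span ⟨P, rfl⟩)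
    refine key _ (fun P hP hd => ⟨Ideal.Quotient.mk _ (MvPolynomial.X ⟨P, hP, hd⟩), ?_⟩) Q
    rw [← Ideal.Quotient.mkₐ_eq_mk A, Polynomial.aeval_algHom_apply, Ideal.Quotient.mkₐ_eq_mk]
    exact Ideal.Quotient.eq_zero_iff_mem.mpr (Ideal.subset_span ⟨⟨P, hP, hd⟩, rfl⟩)

end Groth.Agent.S16572
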