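import Groth.Statements.S16573
import Groth.Agent.H9Et.AlgClosedCover
import Mathlib
-- import your own Groth.Agent.* helpers here

set_option autoImplicit false
universe u
open CategoryTheory AlgebraicGeometry
open EtCore

namespace Groth.Agent.S16573

/-- For a quasi-compact quasi-separated scheme X there are an affine scheme X' and a quasi-compact
surjective morphism f : X' → X such that for every point x' of X' the residue field of x' is
algebraically closed and integral over the residue field of f(x') under the induced map of residue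
fields, that is, an algebraic closure of it. -/
theorem result
    (X : Scheme.{u}) [CompactSpace X] [QuasiSeparatedSpace X] :
    ∃ (X' : Scheme.{u}) (f : X' ⟶ X), IsAffine X' ∧ QuasiCompact f ∧ Surjective f ∧
      ∀ x' : X', IsAlgClosed (X'.residueField x') ∧ (f.residueFieldMap x').hom.IsIntegral := by
  classical
  let Y : Scheme.{u} := ∐ fun i : X.affineCover.finiteSubcover.I₀ => X.affineCover.finiteSubcover.X i
  haveI : ∀ i, IsAffine (X.affineCover.finiteSubcover.X i) := fun i => inferInstanceAs (IsAffine (X.affineCover.X _))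
  haveI : IsAffine Y := inferInstance
  let f₀ : Y ⟶ X := Limits.Sigma.desc fun i => X.affineCover.finiteSubcover.f i
  haveI : Surjective f₀ := ⟨fun x => by
    obtain ⟨i, y, hy⟩ := X.affineCover.finiteSubcover.exists_eq x
    exact ⟨Limits.Sigma.ι (fun i => X.affineCover.finiteSubcover.X i) i y, by
      rw [← Scheme.Hom.comp_apply, Limits.Sigma.ι_desc]; exact hy⟩⟩
  haveI : Etale f₀ := IsZariskiLocalAtSource.sigmaDesc fun i => inferInstance
  let g₁ : Spec (CommRingCat.of (Groth.Agent.H9Et.ACCover.Cover Γ(Y, ⊤))) ⟶ Spec Γ(Y, ⊤) :=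
    Spec.map (CommRingCat.ofHom (Groth.Agent.H9Et.ACCover.str Γ(Y, ⊤)))
  haveI : Surjective g₁ := ⟨Groth.Agent.H9Et.ACCover.surjective_comap⟩
  refine ⟨_, g₁ ≫ Y.isoSpec.inv ≫ f₀, inferInstance, quasiCompact_of_compactSpace _, inferInstance, fun q => ?_⟩
  obtain ⟨hac, hint⟩ := Groth.Agent.H9Et.ACCover.residueField_props q.asIdeal
  let e := (Scheme.Spec.residueFieldIso (CommRingCat.of (Groth.Agent.H9Et.ACCover.Cover Γ(Y, ⊤))) q).commRingCatIsoToRingEquiv
  refine ⟨IsAlgClosed.of_ringEquiv _ _ e.symm, ?_⟩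
  have h1 : (g₁.residueFieldMap q).hom.IsIntegral := fun x => by
    let F : Subfield q.asIdeal.ResidueField := (e.toRingHom.comp (g₁.residueFieldMap q).hom).fieldRange
    have hF : ∀ a, algebraMap _ q.asIdeal.ResidueField (Groth.Agent.H9Et.ACCover.str Γ(Y, ⊤) a) ∈ F := fun a => by
      refine ⟨(Spec Γ(Y, ⊤)).Γevaluation (g₁ q) ((Scheme.ΓSpecIso Γ(Y, ⊤)).inv a), ?_⟩
      show e (g₁.residueFieldMap q _) = _
      rw [Scheme.Γevaluation_naturality_apply]
      apply e.symm.injective
      rw [RingEquiv.symm_apply_apply]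
      refine Eq.trans ?_ (ConcreteCategory.congr_hom (Scheme.Spec.algebraMap_residueFieldIso_inv _ q) _).symm
      refine congrArg (fun z => (Spec _).Γevaluation q z) ?_
      exact (ConcreteCategory.congr_hom (Scheme.ΓSpecIso_inv_naturality
        (CommRingCat.ofHom (Groth.Agent.H9Et.ACCover.str Γ(Y, ⊤)))) a).symm
    obtain ⟨p, hp, hpx⟩ := hint F hF (e x)
    obtain ⟨p', hp', -, hpm'⟩ := Polynomial.lifts_and_degree_eq_and_monic
      ((Polynomial.lifts_iff_coeff_lifts (f := (e.toRingHom.comp (g₁.residueFieldMap q).hom).rangeRestrictField) _).2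
        fun n => RingHom.rangeRestrictField_bijective _ |>.surjective _) hp
    refine ⟨p', hpm', e.injective ?_⟩
    rw [map_zero, ← hpx, ← hp', Polynomial.eval₂_map]
    exact Polynomial.hom_eval₂ p' _ e.toRingHom x
  have h2 : ((Y.isoSpec.inv ≫ f₀).residueFieldMap (g₁ q)).hom.IsIntegral := by
    letI := ((Y.isoSpec.inv ≫ f₀).residueFieldMap (g₁ q)).hom.toAlgebra
    have : Algebra.IsSeparable (X.residueField ((Y.isoSpec.inv ≫ f₀) (g₁ q))) ((Spec Γ(Y, ⊤)).residueField (g₁ q)) :=
      inferInstance
    exact fun x => Algebra.IsSeparable.isIntegral _ x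
  rw [Scheme.residueFieldMap_comp]
  exact RingHom.IsIntegral.trans _ _ h2 h1

end Groth.Agent.S16573
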