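import Groth.Statements.S16574
import Groth.Agent.H7Lim.QuasiFiniteFactor
-- import your own Groth.Agent.* helpers here

set_option autoImplicit false
universe u
open CategoryTheory AlgebraicGeometry
open AffSch

namespace Groth.Agent.S16574

/-- Let A be a commutative ring, U a quasi-compact open subscheme of Spec A and U' → U a finite
morphism. Then there exist a finite A-algebra B and a morphism U' → Spec B such that the square
formed by U' → U, U' → Spec B, Spec B → Spec A and the inclusion of U is cartesian; in particular U'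
→ Spec B is the open immersion of the preimage of U. (If U contains the complement of the closed set
of an ideal I then this preimage contains the complement of the closed set of IB; that clause is
automatic and omitted.) -/
theorem result
    (A : Type u) [CommRing A] (U : (Spec (CommRingCat.of A)).Opens) (hU : IsCompact (U : Set (Spec (CommRingCat.of A))))
    (U' : Scheme.{u}) (g : U' ⟶ (U : Scheme.{u})) [IsFinite g] :
    ∃ (B : Type u) (_ : CommRing B) (_ : Algebra A B) (i : U' ⟶ Spec (CommRingCat.of B)),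
      Module.Finite A B ∧ IsPullback i g (Spec.map (CommRingCat.ofHom (algebraMap A B))) U.ι := by
  haveI : CompactSpace (U : Scheme.{u}) := isCompact_iff_compactSpace.mp hU
  haveI : QuasiCompact U.ι := quasiCompact_of_compactSpace U.ι
  obtain ⟨T, j, π, hj, hjq, hπ, hfac⟩ :=
    Groth.Agent.H7Lim.exists_openImmersion_finite (g ≫ U.ι)
  have hsq : IsPullback j.toImage (𝟙 U') j.imageι j :=
    IsPullback.of_vert_isIso_mono ⟨by simp⟩
  haveI : IsOpenImmersion j.toImage :=
    MorphismProperty.of_isPullback (P := @IsOpenImmersion) hsq.flip hj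
  let i := j.toImage
  let p : j.image ⟶ Spec (CommRingCat.of A) := j.imageι ≫ π
  have hip : i ≫ p = g ≫ U.ι := by rw [← hfac, ← Category.assoc, j.toImage_imageι]
  have hP := isPullback_morphismRestrict p U
  let k : U' ⟶ (p ⁻¹ᵁ U : Scheme.{u}) := hP.lift g i hip.symm
  have hk1 : k ≫ (p ∣_ U) = g := hP.lift_fst _ _ _
  have hk2 : k ≫ (p ⁻¹ᵁ U).ι = i := hP.lift_snd _ _ _
  haveI : IsOpenImmersion (k ≫ (p ⁻¹ᵁ U).ι) := by rw [hk2]; infer_instance
  haveI : IsOpenImmersion k := IsOpenImmersion.of_comp k (p ⁻¹ᵁ U).ι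
  haveI : IsFinite (k ≫ (p ∣_ U)) := by rw [hk1]; infer_instance
  haveI : IsFinite k := IsFinite.of_comp k (p ∣_ U)
  haveI : Epi k.base := by
    rw [TopCat.epi_iff_surjective]
    intro y
    have hd : DenseRange i.base := j.toImage.denseRange
    by_contra hy
    have hO : IsOpen ((p ⁻¹ᵁ U).ι.base '' (Set.range k.base)ᶜ) :=
      (p ⁻¹ᵁ U).ι.isOpenEmbedding.isOpenMap _ (k.isClosedMap.isClosed_range).isOpen_compl
    obtain ⟨x, ⟨z, hz, hzx⟩⟩ := hd.exists_mem_open hO ⟨_, y, hy, rfl⟩
    refine hz ⟨x, (p ⁻¹ᵁ U).ι.isOpenEmbedding.injective ?_⟩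
    rw [hzx]
    exact congr(($hk2).base x)
  haveI : IsIso k := IsOpenImmersion.isIso k
  have hP' : IsPullback i g p U.ι :=
    hP.flip.of_iso (asIso k).symm (Iso.refl _) (Iso.refl _) (Iso.refl _)
      (by simp [← hk2]) (by simp [← hk1]) (by simp) (by simp)
  haveI : IsAffine j.image := isAffine_of_isAffineHom p
  let φ : CommRingCat.of A ⟶ Γ(j.image, ⊤) :=
    (Scheme.ΓSpecIso (CommRingCat.of A)).inv ≫ p.appTop
  have hφ : j.image.isoSpec.hom ≫ Spec.map φ = p := by
    rw [Spec.map_comp, ← Category.assoc, Scheme.isoSpec_hom_naturality, Category.assoc,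
      Scheme.isoSpec_Spec_hom, ← Spec.map_comp, Iso.inv_hom_id, Spec.map_id, Category.comp_id]
  haveI : IsFinite (Spec.map φ) := by
    have : Spec.map φ = j.image.isoSpec.inv ≫ p := by rw [← hφ, Iso.inv_hom_id_assoc]
    rw [this]
    infer_instance
  refine ⟨Γ(j.image, ⊤), inferInstance, φ.hom.toAlgebra, i ≫ j.image.isoSpec.hom,
    (IsFinite.SpecMap_iff φ).mp inferInstance, ?_⟩
  exact hP'.of_iso (Iso.refl _) j.image.isoSpec (Iso.refl _) (Iso.refl _)
    (by simp) (by simp) (by rw [hφ.symm]; simp; rfl) (by simp)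

end Groth.Agent.S16574
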