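import Groth.Statements.S16575
import Groth.Agent.H3CAlg.BranchDim
import Groth.Agent.H9Hens.BranchFlat
import Groth.Agent.H9Hens.Noetherian
import Groth.Agent.H9Hens.StrictHens
import Groth.Agent.H9Hens.BranchCompletion
import Groth.Agent.H13CI.EFT
import Groth.Agent.S9240
import Groth.Agent.S9242
import Groth.Agent.S0507
import Groth.Agent.S0511

set_option autoImplicit false
universe u
open CAlg

namespace Groth.Agent.S16575

open IsLocalRing H9Hens H3CAlg

theorem forall_branch_iff {A : Type u} [CommRing A] [IsNoetherianRing A] [IsLocalRing A] {k : Type u} [CommRing k]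
    [Algebra A k] {H : Type u} [CommRing H] [Algebra A H] [HenselianLocalRing H] [IsLocalHom (algebraMap A H)]
    [Module.FaithfullyFlat A H] {π : H →ₐ[A] k} (hH : IsPtColim π) :
    (∀ m' : MaximalSpectrum (CAlg2.normRed A), (2 : WithBot ℕ∞) ≤ ringKrullDim (Localization.AtPrime m'.asIdeal)) ↔
      ∀ p ∈ minimalPrimes H, (2 : WithBot ℕ∞) ≤ ringKrullDim (H ⧸ p) := by
  obtain ⟨hpm, hmp⟩ := branch_dim hH
  obtain ⟨e⟩ := nonempty_integralClosure_algEquiv_normRed A
  constructor
  · intro h p hp
    obtain ⟨m, hm⟩ := hpm p hp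
    haveI := m.isMaximal
    haveI : (m.asIdeal.map e.toRingEquiv).IsMaximal := Ideal.map_isMaximal_of_equiv e.toRingEquiv
    have := h ⟨m.asIdeal.map e.toRingEquiv, inferInstance⟩
    change _ ≤ ringKrullDim (Localization.AtPrime (m.asIdeal.map e.toRingEquiv)) at this
    rw [IsLocalization.AtPrime.ringKrullDim_eq_height (m.asIdeal.map e.toRingEquiv)
      (Localization.AtPrime (m.asIdeal.map e.toRingEquiv)), RingEquiv.height_map] at this
    rwa [hm]
  · intro h m'
    haveI := m'.isMaximal
    haveI : (m'.asIdeal.map e.symm.toRingEquiv).IsMaximal := Ideal.map_isMaximal_of_equiv e.symm.toRingEquiv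
    obtain ⟨p, hp, hd⟩ := hmp ⟨m'.asIdeal.map e.symm.toRingEquiv, inferInstance⟩
    have := h p hp
    rw [hd, RingEquiv.height_map] at this
    rwa [IsLocalization.AtPrime.ringKrullDim_eq_height m'.asIdeal (Localization.AtPrime m'.asIdeal)]

theorem henselization_iff_completion (A S : Type u) [CommRing A] [IsNoetherianRing A] [IsLocalRing A]
    [CommRing S] [IsLocalRing S] [Algebra A S] [IsLocalHom (algebraMap A S)] [Hensel.IsHenselization A S] :
    (∀ p ∈ minimalPrimes S, (2 : WithBot ℕ∞) ≤ ringKrullDim (S ⧸ p)) ↔
      ∀ q ∈ minimalPrimes (AdicCompletion (maximalIdeal A) A),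
        (2 : WithBot ℕ∞) ≤ ringKrullDim (AdicCompletion (maximalIdeal A) A ⧸ q) := by
  let B := AdicCompletion (maximalIdeal A) A
  haveI : IsNoetherianRing S := (Groth.Agent.S0511.result A S).1 inferInstance
  haveI : IsNoetherianRing B := H05EGA4.isNoetherianRing_cpl A
  haveI : HenselianLocalRing B := henselianLocalRing_cpl A
  haveI hB : IsLocalHom (algebraMap A B) := isLocalHom_cpl A
  obtain ⟨ψ, hψ, -⟩ := Hensel.IsHenselization.universal (R := A) (S := S) B (algebraMap A B) hB
  obtain ⟨π, hπ⟩ := exists_isPtColim_of_isHenselization (R := A) S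
  letI : Algebra S B := ψ.toAlgebra
  haveI : IsScalarTower A S B := IsScalarTower.of_algebraMap_eq fun a => (RingHom.congr_fun hψ a).symm
  haveI := hπ.flat_of_restrictScalars B
  have hmm : (maximalIdeal S).map ψ = maximalIdeal B := by
    rw [← Groth.Agent.S0507.result A S, Ideal.map_map, hψ, AdicCompletion.maximalIdeal_eq_map]
  haveI : IsLocalHom (algebraMap S B) :=
    ((local_hom_TFAE (algebraMap S B)).out (a := IsLocalHom (algebraMap S B)) 0 2).mpr hmm.le
  haveI : Module.FaithfullyFlat S B := Module.FaithfullyFlat.of_flat_of_isLocalHom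
  obtain ⟨hto, hsurj⟩ := Groth.Agent.S9240.result A S ψ hψ
  have hdim : ∀ p : Ideal S, p.IsPrime → ringKrullDim (B ⧸ p.map ψ) = ringKrullDim (S ⧸ p) := by
    intro p hp
    have hle : p.map ψ ≤ maximalIdeal B :=
      (Ideal.map_mono (le_maximalIdeal hp.ne_top)).trans hmm.le
    haveI : Nontrivial (B ⧸ p.map ψ) := Ideal.Quotient.nontrivial_iff.2
      (ne_top_of_le_ne_top (maximalIdeal.isMaximal B).ne_top hle)
    haveI : IsLocalRing (B ⧸ p.map ψ) := IsLocalRing.of_surjective' _ Ideal.Quotient.mk_surjective
    haveI : IsLocalRing (S ⧸ p) := IsLocalRing.of_surjective' _ Ideal.Quotient.mk_surjective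
    letI : Algebra (S ⧸ p) (B ⧸ p.map ψ) := (Ideal.quotientMap (p.map ψ) ψ Ideal.le_comap_map).toAlgebra
    haveI : Module.Flat (S ⧸ p) (B ⧸ p.map ψ) :=
      RingHom.flat_algebraMap_iff.mp (H13CI.flat_quotient_map (B' := B) p)
    refine ringKrullDim_quotient_map ?_
    rw [← IsLocalRing.map_maximalIdeal_of_surjective _ (Ideal.Quotient.mk_surjective (I := p)),
      ← IsLocalRing.map_maximalIdeal_of_surjective _ (Ideal.Quotient.mk_surjective (I := p.map ψ)),
      Ideal.map_map, ← hmm, Ideal.map_map]
    rfl
  constructor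
  · intro h q hq
    by_contra hc
    haveI := hq.1.1
    have h0 : (0 : WithBot ℕ∞) ≤ ringKrullDim (B ⧸ q) := ringKrullDim_nonneg_of_nontrivial
    obtain ⟨n, hn⟩ : ∃ n : ℕ, ringKrullDim (B ⧸ q) = n ∧ n < 2 := by
      revert h0 hc
      generalize ringKrullDim (B ⧸ q) = d
      intro hc h0
      induction d with
      | bot => simp at h0
      | coe d =>
        induction d with
        | top => exact absurd le_top hc
        | coe n => exact ⟨n, rfl, by simpa using hc⟩
    obtain ⟨hn, hlt⟩ := hn
    interval_cases n
    · -- `q` is maximal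
      haveI : Ring.KrullDimLE 0 (B ⧸ q) := Ring.krullDimLE_iff.2 (by rw [hn])
      haveI hqm : q.IsMaximal := Ideal.Quotient.maximal_of_isField q Ring.KrullDimLE.isField_of_isDomain
      have hqe : q = maximalIdeal B := eq_maximalIdeal hqm
      have hpe : q.comap ψ = maximalIdeal S := by
        rw [hqe]
        exact ((local_hom_TFAE (algebraMap S B)).out (a := IsLocalHom (algebraMap S B)) 0 4).mp ‹_›
      have := h _ (hto hq)
      rw [hpe, ringKrullDim_eq_zero_of_isField
        ((Ideal.Quotient.maximal_ideal_iff_isField_quotient _).1 (maximalIdeal.isMaximal S))] at this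
      exact absurd this (by decide)
    · obtain ⟨p, hp, hpq⟩ := Groth.Agent.S9242.result A S ψ hψ q hq (by simpa using hn)
      have := h p hp
      rw [← hdim p hp.1.1, ringKrullDim_quotient, ← PrimeSpectrum.zeroLocus_radical, hpq,
        ← ringKrullDim_quotient, hn] at this
      exact absurd this (by decide)
  · intro h p hp
    obtain ⟨q, hq, hqp⟩ := hsurj hp
    rw [← hdim p hp.1.1]
    refine (h q hq).trans (ringKrullDim_le_of_surjective
      (Ideal.Quotient.factor (Ideal.map_le_iff_le_comap.2 hqp.ge)) (Ideal.Quotient.factor_surjective _))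

end Groth.Agent.S16575

namespace Groth.Agent.S16575

/-- Let A be a Noetherian local ring, S a henselization of A, S' a strict henselization of A, A' the
integral closure of the reduction of A in its total ring of fractions, and Â the completion of A at
its maximal ideal. The following are equivalent: (i) for every maximal ideal m' of A' the local ring
of A' at m' has Krull dimension at least 2; (ii) every irreducible component of Spec S has dimension
at least 2; (ii bis) every irreducible component of Spec S' has dimension at least 2; (iii) every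
irreducible component of Spec Â has dimension at least 2. (A closed subscheme Z of a Noetherian
scheme X is called c_2 when these hold at the local ring of every point of Z; condition (i) at all
points of Z says that the preimage of Z in the normalization has codimension at least 2.) -/
theorem result
    (A : Type u) [CommRing A] [IsNoetherianRing A] [IsLocalRing A]
    (S : Type u) [CommRing S] [IsLocalRing S] [Algebra A S] [IsLocalHom (algebraMap A S)]
    [Hensel.IsHenselization A S]
    (S' : Type u) [CommRing S'] [IsLocalRing S'] [Algebra A S'] [IsLocalHom (algebraMap A S')]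
    [Hensel.IsStrictHenselization A S'] :
    List.TFAE [
      ∀ m' : MaximalSpectrum (CAlg2.normRed A), (2 : WithBot ℕ∞) ≤ ringKrullDim (Localization.AtPrime m'.asIdeal),
      ∀ p ∈ minimalPrimes S, (2 : WithBot ℕ∞) ≤ ringKrullDim (S ⧸ p),
      ∀ p ∈ minimalPrimes S', (2 : WithBot ℕ∞) ≤ ringKrullDim (S' ⧸ p),
      ∀ q ∈ minimalPrimes (AdicCompletion (IsLocalRing.maximalIdeal A) A), (2 : WithBot ℕ∞) ≤ ringKrullDim (AdicCompletion (IsLocalRing.maximalIdeal A) A ⧸ q)] := by
  obtain ⟨π, hπ⟩ := Groth.Agent.H9Hens.exists_isPtColim_of_isHenselization (R := A) S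
  haveI := hπ.faithfullyFlat (Groth.Agent.H9Hens.ker_algebraMap_residueField (R := A))
  haveI := Hensel.IsHenselization.henselian (R := A) (S := S)
  obtain ⟨k, _, _, _, _, _, π', hπ'⟩ := Groth.Agent.H9Hens.exists_isPtColim_of_isStrictHenselization (R := A) S'
  haveI := hπ'.faithfullyFlat (Groth.Agent.H9Hens.ker_algebraMap_of_tower (R := A) (k := k))
  haveI := Hensel.IsStrictHenselization.henselian (R := A) (S := S')
  tfae_have 1 ↔ 2 := forall_branch_iff hπ
  tfae_have 1 ↔ 3 := forall_branch_iff hπ'
  tfae_have 2 ↔ 4 := henselization_iff_completion A S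
  tfae_finish

end Groth.Agent.S16575
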