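import Groth.Statements.S16577
import Groth.Agent.H9Hens.StrictHens
import Groth.Agent.H9Hens.PtBase
-- import your own Groth.Agent.* helpers here

set_option autoImplicit false
universe u
open Hensel

namespace Groth.Agent.S16577

/-- Let A be a Noetherian local ring with a strict henselization S', and p a prime ideal of A. Call p an
immediate étale generization of the closed point when the strict henselization S'/pS' of A/p has an
irreducible component of dimension 1, that is, some minimal prime P over pS' has dim S'/P = 1. Then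
p is an immediate étale generization of the closed point if and only if p is the contraction of some
prime ideal P of S' with dim S'/P = 1. -/
theorem result
    (A : Type u) [CommRing A] [IsNoetherianRing A] [IsLocalRing A]
    (S' : Type u) [CommRing S'] [IsLocalRing S'] [Algebra A S'] [IsLocalHom (algebraMap A S')]
    [Hensel.IsStrictHenselization A S']
    (p : Ideal A) [p.IsPrime] :
    (∃ P ∈ (p.map (algebraMap A S')).minimalPrimes, ringKrullDim (S' ⧸ P) = 1) ↔
    (∃ P : Ideal S', P.IsPrime ∧ P.comap (algebraMap A S') = p ∧ ringKrullDim (S' ⧸ P) = 1) := by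
  obtain ⟨k, _, _, _, _, _, π, hπ⟩ := H9Hens.exists_isPtColim_of_isStrictHenselization (R := A) S'
  have : Module.Flat A S' := hπ.flat
  constructor
  · rintro ⟨P, hP, hd⟩
    have := hP.1.1
    refine ⟨P, inferInstance, ?_, hd⟩
    have hle : p ≤ P.comap (algebraMap A S') := Ideal.le_comap_of_map_le hP.1.2
    have : P.LiesOver (P.comap (algebraMap A S')) := ⟨rfl⟩
    obtain ⟨P', hP'le, hP'p, hP'⟩ := Ideal.exists_ideal_le_liesOver_of_le P hle
    have h1 : p.map (algebraMap A S') ≤ P' := Ideal.map_le_iff_le_comap.mpr hP'.over.le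
    rw [← le_antisymm hP'le (hP.2 ⟨hP'p, h1⟩ hP'le)]
    exact hP'.over.symm
  · rintro ⟨P, hP, hc, hd⟩
    refine ⟨P, ⟨⟨hP, Ideal.map_le_iff_le_comap.mpr hc.ge⟩, fun Q hQ hle => ?_⟩, hd⟩
    have := hQ.1
    refine (hπ.eq_of_le_of_comap_eq hle (le_antisymm (Ideal.comap_mono hle) ?_)).ge
    rw [hc]
    exact Ideal.le_comap_of_map_le hQ.2

end Groth.Agent.S16577
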