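import Groth.Statements.S16578
import Groth.Agent.H3CAlg.BranchCompletion
import Groth.Agent.H9Hens.BranchSum
import Groth.Agent.H05EGA4.Equidim
import Groth.Agent.S0506
import Groth.Agent.H9Hens.TensorHensFinite

set_option autoImplicit false
universe u
open Hensel

namespace Groth.Agent.S16578

open IsLocalRing H9Hens H3CAlg

theorem strictHenselization_quotient_iff (A S' : Type u) [CommRing A] [IsNoetherianRing A] [IsLocalRing A]
    [CommRing S'] [IsLocalRing S'] [Algebra A S'] [IsLocalHom (algebraMap A S')]
    [Hensel.IsStrictHenselization A S'] (p : Ideal A) (hp : p ≠ ⊤) [IsLocalRing (A ⧸ p)] :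
    (∃ P ∈ (p.map (algebraMap A S')).minimalPrimes, ringKrullDim (S' ⧸ P) = 1) ↔
      HasDimOneComponent (AdicCompletion (maximalIdeal (A ⧸ p)) (A ⧸ p)) := by
  rw [← hasDimOneComponent_quotient_iff]
  haveI : IsLocalRing (S' ⧸ p.map (algebraMap A S')) :=
    isLocalRing_quotient (ne_top_of_le_ne_top (maximalIdeal.isMaximal S').ne_top (map_le_maximalIdeal p hp))
  haveI := isLocalHom_quotient (A := A) (S := S') p
  haveI := isStrictHenselization_quotient (A := A) (S := S') p
  obtain ⟨S, _, _, _, _, _⟩ := Groth.Agent.S0506.result (A ⧸ p)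
  rw [hasDimOneComponent_completion_iff (A ⧸ p) S,
    hasDimOneComponent_strict_iff (A ⧸ p) S (S' ⧸ p.map (algebraMap A S'))]

theorem completed_quotient_iff (B T' : Type u) [CommRing B] [IsNoetherianRing B] [HenselianLocalRing B]
    [CommRing T'] [IsLocalRing T'] [Algebra B T'] [IsLocalHom (algebraMap B T')]
    [Hensel.IsStrictHenselization B T'] (q : Ideal B) [q.IsPrime] :
    (∃ Q ∈ (q.map (algebraMap B T')).minimalPrimes, ringKrullDim (T' ⧸ Q) = 1) ↔ ringKrullDim (B ⧸ q) = 1 := by
  rw [← hasDimOneComponent_quotient_iff]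
  haveI : IsLocalRing (B ⧸ q) := isLocalRing_quotient (‹q.IsPrime›.ne_top)
  haveI : IsLocalRing (T' ⧸ q.map (algebraMap B T')) :=
    isLocalRing_quotient (ne_top_of_le_ne_top (maximalIdeal.isMaximal T').ne_top
      (map_le_maximalIdeal q ‹q.IsPrime›.ne_top))
  haveI := isLocalHom_quotient (A := B) (S := T') q
  haveI := isStrictHenselization_quotient (A := B) (S := T') q
  haveI : HenselianLocalRing (B ⧸ q) := henselianLocalRing_quotient q
  haveI := isHenselization_self (B ⧸ q)
  rw [hasDimOneComponent_strict_iff (B ⧸ q) (B ⧸ q) (T' ⧸ q.map (algebraMap B T')),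
    hasDimOneComponent_of_isDomain_iff]

end Groth.Agent.S16578

namespace Groth.Agent.S16578

/-- Let A be a Noetherian local ring with completion Â at its maximal ideal, S' a strict henselization
of A, T' a strict henselization of Â, and p a prime ideal of A. Say that a prime p of a Noetherian
local ring with strict henselization S is an immediate étale generization of the closed point when
some minimal prime P over pS has dim S/P = 1. Then p is an immediate étale generization of the
closed point of A if and only if some minimal prime q over pÂ (a maximal point of the fibre over p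
of Spec Â → Spec A) is an immediate étale generization of the closed point of Â. -/
theorem result
    (A : Type u) [CommRing A] [IsNoetherianRing A] [IsLocalRing A]
    (S' : Type u) [CommRing S'] [IsLocalRing S'] [Algebra A S'] [IsLocalHom (algebraMap A S')]
    [Hensel.IsStrictHenselization A S']
    (T' : Type u) [CommRing T'] [IsLocalRing T'] [Algebra (AdicCompletion (IsLocalRing.maximalIdeal A) A) T'] [IsLocalHom (algebraMap (AdicCompletion (IsLocalRing.maximalIdeal A) A) T')]
    [Hensel.IsStrictHenselization (AdicCompletion (IsLocalRing.maximalIdeal A) A) T']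
    (p : Ideal A) [p.IsPrime] :
    (∃ P ∈ (p.map (algebraMap A S')).minimalPrimes, ringKrullDim (S' ⧸ P) = 1) ↔
    (∃ q ∈ (p.map (algebraMap A (AdicCompletion (IsLocalRing.maximalIdeal A) A))).minimalPrimes,
      ∃ Q ∈ (q.map (algebraMap (AdicCompletion (IsLocalRing.maximalIdeal A) A) T')).minimalPrimes, ringKrullDim (T' ⧸ Q) = 1) := by
  haveI : IsLocalRing (A ⧸ p) := Groth.Agent.H9Hens.isLocalRing_quotient (‹p.IsPrime›.ne_top)
  haveI : IsNoetherianRing (AdicCompletion (IsLocalRing.maximalIdeal A) A) :=
    Groth.Agent.H05EGA4.isNoetherianRing_cpl A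
  haveI : HenselianLocalRing (AdicCompletion (IsLocalRing.maximalIdeal A) A) :=
    Groth.Agent.H9Hens.henselianLocalRing_cpl A
  rw [strictHenselization_quotient_iff A S' p ‹p.IsPrime›.ne_top]
  obtain ⟨e⟩ := Groth.Agent.H05EGA4.exists_completion_quotient_equiv (IsLocalRing.maximalIdeal A) (A ⧸ p)
    (Ideal.Quotient.mk p) Ideal.Quotient.mk_surjective (IsLocalRing.maximalIdeal (A ⧸ p))
    (IsLocalRing.map_maximalIdeal_of_surjective _ Ideal.Quotient.mk_surjective)
  rw [← Groth.Agent.H3CAlg.hasDimOneComponent_congr e, Groth.Agent.H3CAlg.hasDimOneComponent_quotient_iff,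
    Ideal.mk_ker]
  refine exists_congr fun q => and_congr_right fun hq => ?_
  haveI := hq.1.1
  exact (completed_quotient_iff _ T' q).symm

end Groth.Agent.S16578
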