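import Groth.Statements.S16579
import Groth.Agent.H11Rig.Main

set_option autoImplicit false
universe u
open CategoryTheory AlgebraicGeometry
open Hensel

namespace Groth.Agent.S16579

/-- The case of the constant sheaf on a two-element set. Let (A, I) be a henselian pair with I finitely
generated (A not necessarily Noetherian), Â the I-adic completion of A, π : Spec Â → Spec A the
completion morphism, U a quasi-compact open subscheme of Spec A containing the complement of V(I),
and Û = π⁻¹(U). Then V ↦ (π|Û)⁻¹(V) is a bijection from the clopen subsets of U onto the clopen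
subsets of Û; equivalently, for every finite set F the locally constant F-valued functions on U and
on Û correspond under composition with π. -/
theorem result
    (A : Type u) [CommRing A] (I : Ideal A) (hI : I.FG) [HenselianRing A I]
    (U : (Spec (CommRingCat.of A)).Opens) (hU : IsCompact (U : Set (Spec (CommRingCat.of A))))
    (hUI : ∀ x : Spec (CommRingCat.of A), x ∉ U → I ≤ x.asIdeal) :
    Function.Bijective (fun V : {V : Set ↥U // IsClopen V} =>
      (⟨((Spec.map (CommRingCat.ofHom (algebraMap A (AdicCompletion I A)))) ∣_ U).base.hom ⁻¹' V.1, V.2.preimage ((Spec.map (CommRingCat.ofHom (algebraMap A (AdicCompletion I A)))) ∣_ U).base.hom.continuous⟩ :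
        {V' : Set ↥((Spec.map (CommRingCat.ofHom (algebraMap A (AdicCompletion I A)))) ⁻¹ᵁ U) // IsClopen V'})) := by
  refine Groth.Agent.H11Rig.clopen_bijective (φ := algebraMap A (AdicCompletion I A))
    (Groth.Agent.H11Rig.trunc_adicCompletion I hI) hI U.isOpen (U := (U : Set (Spec (CommRingCat.of A))))
    (fun x hx => by_contra fun hc => hx (hUI x hc)) _ fun V => ?_
  exact congrArg (fun g => g ⁻¹' V.1) (morphismRestrict_base (f := Spec.map (CommRingCat.ofHom (algebraMap A (AdicCompletion I A)))) (U := U))

end Groth.Agent.S16579
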