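import Groth.Statements.S16582
import Groth.Agent.H11Rig.PsiMap
import Groth.Agent.H18Et.PushClosed

set_option autoImplicit false
universe u
open CategoryTheory CategoryTheory.Limits AlgebraicGeometry Opposite
open EtBC

namespace Groth.Agent.S16582

/-- The case of a sheaf of sets, regarded as a stack in groupoids with trivial automorphism sheaves. Let
(A, I) be a henselian pair with I finitely generated (A not necessarily Noetherian), Â the I-adic
completion of A, π : Spec Â → Spec A the completion morphism, U a quasi-compact open subscheme of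
Spec A containing the complement of V(I), and Û = π⁻¹(U). Write j : U → Spec A and ĵ : Û → Spec Â
for the open immersions. Then for every sheaf of sets F on the small étale site of U, the base
change map π^*j_*F → ĵ_*(π|Û)^*F of étale sheaves of sets on Spec Â is an isomorphism. (The
published remark asserts this for every ind-finite stack in groupoids on the small étale site of U,
with 'equivalence' in place of 'isomorphism'; only the case of sheaves of sets is stated here.) -/
theorem result
    (A : Type u) [CommRing A] (I : Ideal A) (hI : I.FG) [HenselianRing A I]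
    (U : (Spec (CommRingCat.of A)).Opens) (hU : IsCompact (U : Set (Spec (CommRingCat.of A))))
    (hUI : ∀ x : Spec (CommRingCat.of A), x ∉ U → I ≤ x.asIdeal)
    (F : EtDesc.Sh (U : Scheme.{u})) :
    IsIso (EtBC.baseChange0Sh U.ι (Spec.map (CommRingCat.ofHom (algebraMap A (AdicCompletion I A)))) ((Spec.map (CommRingCat.ofHom (algebraMap A (AdicCompletion I A)))) ⁻¹ᵁ U).ι ((Spec.map (CommRingCat.ofHom (algebraMap A (AdicCompletion I A)))) ∣_ U)
      (morphismRestrict_ι (Spec.map (CommRingCat.ofHom (algebraMap A (AdicCompletion I A)))) U) F) := by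
  let π : Spec (CommRingCat.of (AdicCompletion I A)) ⟶ Spec (CommRingCat.of A) :=
    Spec.map (CommRingCat.ofHom (algebraMap A (AdicCompletion I A)))
  haveI : QuasiCompact U.ι := (quasiCompact_iff_compactSpace U.ι).2 (isCompact_iff_compactSpace.1 hU)
  haveI : QuasiCompact π := inferInstance
  haveI : QuasiCompact (π ⁻¹ᵁ U).ι :=
    (quasiCompact_iff_compactSpace (π ⁻¹ᵁ U).ι).2 (isCompact_iff_compactSpace.1 (π.isCompact_preimage hU))
  refine H18Et.isIso_of_stalkSh _ fun y => ?_
  let η : Spec (CommRingCat.of (AlgebraicClosure ((Spec (CommRingCat.of (AdicCompletion I A))).residueField y))) ⟶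
      Spec (CommRingCat.of (AdicCompletion I A)) :=
    (Scheme.SpecToEquivOfField (AlgebraicClosure ((Spec (CommRingCat.of (AdicCompletion I A))).residueField y))
      (Spec (CommRingCat.of (AdicCompletion I A)))).symm
      ⟨y, CommRingCat.ofHom (algebraMap ((Spec (CommRingCat.of (AdicCompletion I A))).residueField y) _)⟩
  exact ⟨_, _, inferInstance, η, by simp [η], H11Rig.StalkPush.bijective_stalk_baseChange0Sh' U.ι π (π ⁻¹ᵁ U).ι
    (π ∣_ U) (morphismRestrict_ι π U) η
    (H11Rig.StalkPush.cpi_mapXA η (H11Rig.trunc_adicCompletion I hI) hI U hU hUI) F⟩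

end Groth.Agent.S16582
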