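import Groth.Statements.S16585
import Groth.Agent.H10Coh.LimStab.ML2
-- import your own Groth.Agent.* helpers here

set_option autoImplicit false
universe u
open Coh

namespace Groth.Agent.S16585

open CategoryTheory CategoryTheory.Limits AlgebraicGeometry Opposite in
/-- Fix a ground field k and a scheme X of finite type over k, and consider a tower (F_n) of O_X-modules
that are countably quasi-coherent (meaning quasi-coherent, with the sections over each affine open
countably generated). Write lim¹ F for the cokernel of the endomorphism of ∏ F_n sending (x_n) to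
(x_n − φ_n(x_{n+1})); when the tower consists of quasi-coherent modules, this agrees with the first
derived functor of lim. Then three conditions are equivalent: (i) the Mittag-Leffler condition holds
for the tower (F_n); (ii) lim¹ F vanishes; (iii) lim¹ F is countably quasi-coherent. No restriction
on the ground field is needed. -/
theorem result (k : Type u) [Field k] (X : Scheme.{u})
    [X.Over (Spec (CommRingCat.of k))] [LocallyOfFiniteType (X ↘ Spec (CommRingCat.of k))] [CompactSpace X]
    (F : ℕᵒᵖ ⥤ X.Modules) (hF : ∀ n : ℕ, Coh.IsQCoh (F.obj (op n)))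
    (hFc : ∀ n : ℕ, (∀ U : X.affineOpens, ∃ s : Set ((F.obj (op n)).val.obj (op (U : X.Opens))),
          s.Countable ∧ Submodule.span (X.ringCatSheaf.obj.obj (op (U : X.Opens))) s = ⊤)) :
    List.TFAE
      [ ∀ n : ℕ, ∃ (m : ℕ) (hm : n ≤ m), ∀ (m' : ℕ) (hm' : m ≤ m'),
          imageSubobject (F.map (homOfLE (hm.trans hm')).op) = imageSubobject (F.map (homOfLE hm).op),
        IsZero (LimSh.limOneSh F),
        Coh.IsQCoh (LimSh.limOneSh F) ∧
          ∀ U : X.affineOpens, ∃ s : Set ((LimSh.limOneSh F).val.obj (op (U : X.Opens))),
            s.Countable ∧ Submodule.span (X.ringCatSheaf.obj.obj (op (U : X.Opens))) s = ⊤ ] := by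
  tfae_have 1 → 2 := fun h => H10Coh.LimStab.isZero_limOne F hF h
  tfae_have 2 → 3 := fun h => by
    haveI : ∀ U : X.Opens, Subsingleton Γ(LimSh.limOneSh F, U) := fun U => ⟨fun a b => by
      have e := congr(($(h.eq_of_src (𝟙 _) 0)).app U (a - b))
      exact sub_eq_zero.1 e⟩
    refine ⟨?_, fun U => ⟨∅, Set.countable_empty, ?_⟩⟩
    · haveI : (Coh.structureModule X).IsQuasicoherent := H10Coh.isQuasicoherent_unit
      haveI := H10Coh.isQuasicoherent_kernel (𝟙 (Coh.structureModule X))
      exact H10Coh.isQuasicoherent_of_iso ((isZero_kernel_of_mono (𝟙 (Coh.structureModule X))).iso h)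
    · exact Submodule.eq_top_iff'.2 fun a => by
        rw [show a = 0 from (this U.1).elim a 0]; exact zero_mem _
  tfae_have 3 → 1 := fun h n =>
    H10Coh.LimStab.ml_of_limOne F k hF (fun n U => hFc n U) h.1 (fun U => h.2 U) n
  tfae_finish


end Groth.Agent.S16585
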