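import Groth.Statements.S1659
import Groth.Agent.H11Div.PrimeFactor
import Groth.Agent.H29Ref.DivisorPart

set_option autoImplicit false
universe u
open CategoryTheory CategoryTheory.Limits AlgebraicGeometry
open Divisors

namespace Groth.Agent.S1659

/-- Let X be Noetherian, D an effective Cartier divisor and D_1, …, D_r effective Cartier divisors which
are integral as closed subschemes, with D contained set-theoretically in their union. Then D = Σ a_i
D_i for some a_i ≥ 0, i.e. the ideal sheaf of D is the product of the a_i-th powers of the ideal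
sheaves of the D_i. -/
theorem result (X : Scheme.{u}) [IsNoetherian X] (D : X.IdealSheafData) (hD : BlowUp.IsEffCartierIdeal D)
    (r : ℕ) (Ds : Fin r → X.IdealSheafData) (hDs : ∀ i, BlowUp.IsEffCartierIdeal (Ds i)) (hint : ∀ i, IsIntegral (Ds i).subscheme)
    (hsub : (D.support : Set X) ⊆ ⋃ i, ((Ds i).support : Set X)) :
    ∃ a : Fin r → ℕ, D = ∏ i, Ds i ^ a i := by
  classical
  let T := ↥(Set.range Ds)
  haveI : Fintype T := Fintype.ofFinite _
  have hTc : ∀ t : T, BlowUp.IsEffCartierIdeal t.1 := by rintro ⟨_, i, rfl⟩; exact hDs i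
  have hTi : ∀ t : T, IsIntegral t.1.subscheme := by rintro ⟨_, i, rfl⟩; exact hint i
  let ξ : T → X := fun t => haveI := hTi t; t.1.subschemeι (genericPoint t.1.subscheme)
  have hgen : ∀ t : T, ∀ x ∈ (t.1.support : Set X), ξ t ⤳ x := fun t => (H29Ref.gen_spec (hTi t)).2
  have hξmem : ∀ t : T, ξ t ∈ (t.1.support : Set X) := fun t => (H29Ref.gen_spec (hTi t)).1
  have hξm : ∀ t : T, IntMult.stalkIdeal t.1 (ξ t) = IsLocalRing.maximalIdeal _ := fun t =>
    H29Ref.stalkIdeal_gen (hTi t)
  have hstr : ∀ t : T, ∃ f : X.presheaf.stalk (ξ t),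
      IsLocalRing.maximalIdeal (X.presheaf.stalk (ξ t)) = Ideal.span {f} ∧
      f ∈ nonZeroDivisors (X.presheaf.stalk (ξ t)) ∧ IsDomain (X.presheaf.stalk (ξ t)) ∧
      ∃ η : X, η ⤳ ξ t ∧ η ≠ ξ t ∧ (∀ y, y ⤳ ξ t → y = η ∨ y = ξ t) ∧
        ringKrullDim (X.presheaf.stalk (ξ t)) ≤ 1 := fun t => H29Ref.gen_structure (hTi t) (hTc t)
  -- distinct divisors have distinct generic points, none on another divisor
  have hsep : ∀ s t : T, ξ s ∈ (t.1.support : Set X) → s = t := by
    intro s t hst
    have hle := hgen t _ hst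
    have heq : ξ t = ξ s := by
      by_contra hne
      obtain ⟨f, hf, hfn, hdom, η, hη, hηne, -, -⟩ := hstr t
      obtain ⟨-, -, -, -, -, -, -, -, hdim⟩ := hstr s
      exact absurd ((H29Ref.two_le_ringKrullDim_of_chain hη hle hηne hne).trans hdim) (by decide)
    have key : ∀ u v : T, ξ u = ξ v → ∀ x : X, IntMult.stalkIdeal u.1 x ≤ IntMult.stalkIdeal v.1 x := by
      intro u v huv x c hc
      by_cases hx : x ∈ v.1.support
      · have hu : ξ u ⤳ x := huv ▸ hgen v x hx
        refine H29Ref.mem_stalkIdeal_of_gen (hTi v) (hgen v x hx) hx c ?_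
        have h1 := Ideal.mem_map_of_mem (X.presheaf.stalkSpecializes hu).hom hc
        rw [← H29Ref.stalkIdeal_specializes, hξm u] at h1
        have h2 : ∀ (y : X) (hy : y ⤳ x), y = ξ u →
            X.presheaf.stalkSpecializes hy c ∈ IsLocalRing.maximalIdeal (X.presheaf.stalk y) := by
          rintro y hy rfl; exact h1
        exact h2 _ (hgen v x hx) huv.symm
      · rw [(H29Ref.stalkIdeal_eq_top_iff _ _).2 hx]; trivial
    exact Subtype.ext (Scheme.IdealSheafData.ext (funext fun V => le_antisymm
      (H29Ref.le_of_stalkIdeal_le V fun x _ => key s t heq.symm x)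
      (H29Ref.le_of_stalkIdeal_le V fun x _ => key t s heq x)))
  -- the multiplicities
  have hn : ∀ t : T, ∃ n : ℕ, IntMult.stalkIdeal D (ξ t) = IsLocalRing.maximalIdeal _ ^ n := by
    intro t
    obtain ⟨f, hf, hfn, -, -⟩ := hstr t
    obtain ⟨g, hg, hgD⟩ := H29Ref.exists_stalk_gen hD (ξ t)
    obtain ⟨n, hn⟩ := H29Ref.exists_eq_span_pow f hf (IntMult.stalkIdeal D (ξ t)) (by
      rw [hgD, Ne, Ideal.span_singleton_eq_bot]
      exact fun h => zero_notMem_nonZeroDivisors (h ▸ hg))
    exact ⟨n, by rw [hn, hf, Ideal.span_singleton_pow]⟩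
  choose n hn using hn
  let idx : T → Fin r := fun t => t.2.choose
  have hidx : ∀ t : T, Ds (idx t) = t.1 := fun t => t.2.choose_spec
  let a : Fin r → ℕ := fun i => if idx ⟨Ds i, i, rfl⟩ = i then n ⟨Ds i, i, rfl⟩ else 0
  refine ⟨a, ?_⟩
  have hprod : ∏ i, Ds i ^ a i = ∏ t : T, t.1 ^ n t := by
    rw [← Finset.prod_fiberwise Finset.univ (fun i => (⟨Ds i, i, rfl⟩ : T))]
    refine Finset.prod_congr rfl fun t _ => ?_
    have e : (⟨Ds (idx t), idx t, rfl⟩ : T) = t := Subtype.ext (hidx t)
    rw [Finset.prod_eq_single (idx t) ?_ (fun h => (h (by simp [e])).elim),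
      hidx t]
    · simp only [a, e]
      simp
    · intro i hi hne
      rw [(Finset.mem_filter.1 hi).2.symm.trans rfl] at hne
      simp only [a]
      rw [if_neg (fun h => hne h.symm), pow_zero]
  rw [hprod]
  -- compare stalks
  have hst : ∀ x : X, IntMult.stalkIdeal D x = IntMult.stalkIdeal (∏ t : T, t.1 ^ n t) x := by
    intro x
    rw [H29Ref.stalkIdeal_prod]
    obtain ⟨g, hg, hgD⟩ := H29Ref.exists_stalk_gen hD x
    choose f hfn hf using fun t : T => H29Ref.exists_stalk_gen (hTc t) x
    obtain ⟨m, hm⟩ := H11Div.exists_span_eq_prod (Finset.univ : Finset T) f (fun t _ => ⟨hfn t, by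
        by_cases hx : x ∈ t.1.support
        · left
          rw [← hf t]
          obtain ⟨d, rfl⟩ : x ∈ Set.range t.1.subschemeι := by
            rw [Scheme.IdealSheafData.range_subschemeι]; exact hx
          haveI := hTi t
          rw [H29Ref.stalkIdeal_eq_ker]
          exact RingHom.ker_isPrime _
        · right
          rw [← hf t, H29Ref.stalkIdeal_eq_top_iff]
          exact hx⟩) g hg (fun P hP hgP => by
        obtain ⟨V, hV, hxV, -⟩ := exists_isAffineOpen_mem_and_subset (X := X) (x := x) (U := ⊤) trivial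
        have hle : ∏ i, Ds i ≤ D.radical := by
          rw [← Scheme.IdealSheafData.vanishingIdeal_support, ← Scheme.IdealSheafData.le_support_iff_le_vanishingIdeal]
          intro y hy
          obtain ⟨i, hi⟩ := Set.mem_iUnion.1 (hsub hy)
          have hd : ∏ j, Ds j = Ds i * ∏ j ∈ Finset.univ.erase i, Ds j :=
            (Finset.mul_prod_erase _ _ (Finset.mem_univ i)).symm
          rw [hd, Scheme.IdealSheafData.support_mul]
          exact Or.inl hi
        let φ : X.IdealSheafData →* Ideal (X.presheaf.stalk x) :=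
          { toFun := fun I => IntMult.stalkIdeal I x
            map_one' := by rw [H29Ref.stalkIdeal_one, Ideal.one_eq_top]
            map_mul' := fun I J => H29Ref.stalkIdeal_mul I J x }
        have hle' : ∏ i, φ (Ds i) ≤ P := by
          rw [← map_prod φ]
          show IntMult.stalkIdeal (∏ i, Ds i) x ≤ P
          have h2 := Ideal.map_mono (f := (X.presheaf.germ V x hxV).hom)
            (Scheme.IdealSheafData.le_def.1 hle ⟨V, hV⟩)
          rw [Scheme.IdealSheafData.radical_ideal] at h2
          replace h2 := h2.trans (Ideal.map_radical_le _)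
          rw [← H29Ref.stalkIdeal_eq _ x ⟨V, hV⟩ hxV, ← H29Ref.stalkIdeal_eq _ x ⟨V, hV⟩ hxV, hgD] at h2
          exact h2.trans (hP.radical_le_iff.2 ((Ideal.span_singleton_le_iff_mem P).2 hgP))
        obtain ⟨i, -, hi⟩ := (Ideal.IsPrime.prod_le hP).1 hle'
        refine ⟨⟨Ds i, i, rfl⟩, Finset.mem_univ _, hi ?_⟩
        show f ⟨Ds i, i, rfl⟩ ∈ IntMult.stalkIdeal (Ds i) x
        rw [show IntMult.stalkIdeal (Ds i) x = _ from hf ⟨Ds i, i, rfl⟩]
        exact Ideal.mem_span_singleton_self _)
    rw [hgD, hm]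
    refine Finset.prod_congr rfl fun t _ => ?_
    rw [H29Ref.stalkIdeal_pow, hf t]
    by_cases hx : x ∈ t.1.support
    · congr 1
      -- evaluate at the generic point of `t`
      have h := congrArg (Ideal.mapHom (X.presheaf.stalkSpecializes (hgen t x hx)).hom) (hgD.trans hm)
      rw [map_prod] at h
      have h2 : ∀ u : T, Ideal.mapHom (X.presheaf.stalkSpecializes (hgen t x hx)).hom
          (Ideal.span {f u} ^ m u) = IntMult.stalkIdeal u.1 (ξ t) ^ m u := fun u => by
        rw [map_pow, ← hf u]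
        exact congrArg (· ^ m u) (H29Ref.stalkIdeal_specializes _ _).symm
      simp only [h2] at h
      rw [Finset.prod_eq_single t (fun u _ hu => by
          rw [(H29Ref.stalkIdeal_eq_top_iff _ _).2 (fun hm' => hu (hsep t u hm').symm), Ideal.top_pow,
            Ideal.one_eq_top]) (fun h' => absurd (Finset.mem_univ t) h'), hξm] at h
      have h3 : IsLocalRing.maximalIdeal (X.presheaf.stalk (ξ t)) ^ n t =
          IsLocalRing.maximalIdeal (X.presheaf.stalk (ξ t)) ^ m t :=
        (hn t).symm.trans ((H29Ref.stalkIdeal_specializes _ _).trans h)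
      obtain ⟨ft, hft, hftn, hdom, -⟩ := hstr t
      haveI := hdom
      rw [hft, Ideal.span_singleton_pow, Ideal.span_singleton_pow] at h3
      have hne : ft ≠ 0 := nonZeroDivisors.ne_zero hftn
      have hnu : ¬ IsUnit ft := fun hu => (IsLocalRing.maximalIdeal.isMaximal _).ne_top
        (hft.trans (Ideal.span_singleton_eq_top.2 hu))
      have hass := Ideal.span_singleton_eq_span_singleton.1 h3
      exact (le_antisymm ((pow_dvd_pow_iff hne hnu).1 hass.dvd)
        ((pow_dvd_pow_iff hne hnu).1 hass.symm.dvd)).symm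
    · rw [← hf t, (H29Ref.stalkIdeal_eq_top_iff _ _).2 hx, Ideal.top_pow, Ideal.top_pow]
  refine Scheme.IdealSheafData.ext (funext fun V => le_antisymm
    (H29Ref.le_of_stalkIdeal_le V fun x _ => (hst x).le) (H29Ref.le_of_stalkIdeal_le V fun x _ => (hst x).ge))

end Groth.Agent.S1659
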