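import Groth.Statements.S16599
import Groth.Agent.H21LG.Basic

set_option autoImplicit false
open AlgebraicGeometry
universe u
open LGRing

namespace Groth.Agent.S16599


/-- Let R be an LG-ring, n ≥ 0, and U an open quasi-compact subscheme of affine n-space Spec R[X₁, …,
Xₙ]. If U has an (R ⧸ m)-valued point over R for every maximal ideal m of R, then U has an R-valued
point: some n-tuple x over R defines a section Spec R ⟶ Spec R[X₁, …, Xₙ] with image inside U. -/
theorem result {R : Type u} [CommRing R] (hR : LGRing.IsLGRing R)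
    (n : ℕ) (U : (Spec (CommRingCat.of (MvPolynomial (Fin n) R))).Opens)
    (hU : IsCompact (U : Set ↥(Spec (CommRingCat.of (MvPolynomial (Fin n) R)))))
    (h : ∀ (m : Ideal R) [m.IsMaximal], ∃ x : Fin n → R ⧸ m,
      Set.range (Spec.map (CommRingCat.ofHom (MvPolynomial.eval₂Hom (Ideal.Quotient.mk m) x))).base ⊆
        (U : Set ↥(Spec (CommRingCat.of (MvPolynomial (Fin n) R))))) :
    ∃ x : Fin n → R, Set.range (Spec.map (CommRingCat.ofHom (MvPolynomial.eval x))).base ⊆
      (U : Set ↥(Spec (CommRingCat.of (MvPolynomial (Fin n) R)))) := by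
  obtain ⟨t, ht⟩ := PrimeSpectrum.isCompact_isOpen_iff.mp ⟨hU, U.2⟩
  obtain ⟨x, hx⟩ := Groth.Agent.H21LG.exists_span_eval_eq_top hR t fun m hm => by
    obtain ⟨x, hx⟩ := h m
    rw [← ht] at hx
    have h1 := (Groth.Agent.H21LG.range_comap_subset_iff _ _).mp hx
    let x' : Fin n → R := fun i => Function.surjInv Ideal.Quotient.mk_surjective (x i)
    refine ⟨x', ?_⟩
    by_contra hcon
    simp only [not_exists, not_and, not_not] at hcon
    refine (Ideal.Quotient.zero_ne_one_iff.mpr hm.ne_top) ((Ideal.eq_top_iff_one _).mp (top_unique (h1 ▸ Ideal.span_le.mpr ?_)) : (1 : R ⧸ m) ∈ (⊥ : Ideal (R ⧸ m))).symm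
    rintro _ ⟨f, hf, rfl⟩
    have e : x = fun i => Ideal.Quotient.mk m (x' i) :=
      funext fun i => (Function.surjInv_eq Ideal.Quotient.mk_surjective _).symm
    change MvPolynomial.eval₂ (Ideal.Quotient.mk m) x f = 0
    rw [e, ← Function.comp_def, ← MvPolynomial.eval₂_comp, Ideal.Quotient.eq_zero_iff_mem]
    exact hcon f hf
  refine ⟨x, ?_⟩
  rw [← ht]
  exact (Groth.Agent.H21LG.range_comap_subset_iff _ _).mpr hx

end Groth.Agent.S16599
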