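import Groth.Statements.S1660
import Groth.Agent.H11Div.UFDExtend

set_option autoImplicit false
universe u
open CategoryTheory CategoryTheory.Limits AlgebraicGeometry
open Divisors

namespace Groth.Agent.S1660

/-- Let X be locally Noetherian, U open, and D an effective Cartier divisor on U. If the local ring of X
at every point outside U is a unique factorisation domain, then there is an effective Cartier
divisor D' on X whose restriction (inverse image ideal) to U is D. -/
theorem result (X : Scheme.{u}) [IsLocallyNoetherian X] (U : X.Opens)
    (D : (U : Scheme.{u}).IdealSheafData) (hD : BlowUp.IsEffCartierIdeal D)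
    (hufd : ∀ x : X, x ∉ U → IsDomain (X.presheaf.stalk x) ∧ UniqueFactorizationMonoid (X.presheaf.stalk x)) :
    ∃ D' : X.IdealSheafData, BlowUp.IsEffCartierIdeal D' ∧ D'.comap U.ι = D := by
  exact ⟨_, H11Div.isEffCartierIdeal_closureIdeal U D hD hufd, H11Div.closureIdeal_comap U D⟩

end Groth.Agent.S1660
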