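import Groth.Statements.S16600
import Groth.Agent.H21LG.Points

set_option autoImplicit false
open AlgebraicGeometry
universe u
open LGRing

namespace Groth.Agent.S16600


/-- Let R be an LG-ring, M a finite locally free R-module, W(M) = Spec Sym(M^∨) the vector bundle of M
(its points with values in an R-algebra R' are the R-algebra maps Sym(M^∨) → R', i.e. the R-linear
maps M^∨ → R'), and U ⊆ W(M) an open quasi-compact subscheme. Then U(R) is non-empty if and only if
U(R ⧸ m) is non-empty for every maximal ideal m of R. -/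
theorem result {R : Type u} [CommRing R]
    (hR : LGRing.IsLGRing R) (M : Type u) [AddCommGroup M] [Module R M] [Module.Finite R M] [Module.Projective R M]
    (U : (Spec (CommRingCat.of (SymmetricAlgebra R (Module.Dual R M)))).Opens)
    (hU : IsCompact (U : Set ↥(Spec (CommRingCat.of (SymmetricAlgebra R (Module.Dual R M)))))) :
    (∃ φ : Module.Dual R M →ₗ[R] R,
      Set.range (Spec.map (CommRingCat.ofHom (SymmetricAlgebra.lift φ).toRingHom)).base ⊆
        (U : Set ↥(Spec (CommRingCat.of (SymmetricAlgebra R (Module.Dual R M)))))) ↔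
    ∀ (m : Ideal R) [m.IsMaximal], ∃ φ : Module.Dual R M →ₗ[R] (R ⧸ m),
      Set.range (Spec.map (CommRingCat.ofHom (SymmetricAlgebra.lift φ).toRingHom)).base ⊆
        (U : Set ↥(Spec (CommRingCat.of (SymmetricAlgebra R (Module.Dual R M))))) := by
  obtain ⟨t, ht⟩ := PrimeSpectrum.isCompact_isOpen_iff.mp ⟨hU, U.2⟩
  constructor
  · rintro ⟨φ, hφ⟩ m hm
    refine ⟨(Ideal.Quotient.mkₐ R m).toLinearMap ∘ₗ φ, ?_⟩
    rw [← ht] at hφ ⊢
    refine (Groth.Agent.H21LG.range_comap_subset_iff _ _).mpr ?_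
    have h1 := congrArg (Ideal.map (Ideal.Quotient.mk m)) ((Groth.Agent.H21LG.range_comap_subset_iff _ _).mp hφ)
    rw [Ideal.map_span, Ideal.map_top, Set.image_image] at h1
    rw [← h1]
    refine congrArg _ (Set.image_congr fun a _ => ?_)
    have e : SymmetricAlgebra.lift ((Ideal.Quotient.mkₐ R m).toLinearMap ∘ₗ φ) =
        (Ideal.Quotient.mkₐ R m).comp (SymmetricAlgebra.lift φ) :=
      SymmetricAlgebra.algHom_ext (LinearMap.ext fun ψ => by simp [SymmetricAlgebra.lift_ι_apply])
    exact AlgHom.congr_fun e a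
  · intro h
    obtain ⟨φ, hφ⟩ := Groth.Agent.H21LG.exists_point hR t fun m hm => by
      obtain ⟨φ, hφ⟩ := h m
      rw [← ht] at hφ
      have h1 := (Groth.Agent.H21LG.range_comap_subset_iff _ _).mp hφ
      obtain ⟨φ', hφ'⟩ := Groth.Agent.H21LG.exists_lift_functional m φ
      refine ⟨φ', ?_⟩
      by_contra hcon
      simp only [not_exists, not_and, not_not] at hcon
      refine (Ideal.Quotient.zero_ne_one_iff.mpr hm.ne_top) ((Ideal.eq_top_iff_one _).mp (top_unique (h1 ▸ Ideal.span_le.mpr ?_)) : (1 : R ⧸ m) ∈ (⊥ : Ideal (R ⧸ m))).symm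
      rintro _ ⟨f, hf, rfl⟩
      change SymmetricAlgebra.lift φ f = 0
      rw [hφ', Ideal.Quotient.eq_zero_iff_mem]
      exact hcon f hf
    refine ⟨φ, ?_⟩
    rw [← ht]
    exact (Groth.Agent.H21LG.range_comap_subset_iff _ _).mpr hφ

end Groth.Agent.S16600
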