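import Groth.Statements.S16601
import Groth.Agent.H21LG.Points

set_option autoImplicit false
open AlgebraicGeometry
universe u
open LGRing

namespace Groth.Agent.S16601


/-- Let R be an LG-ring whose residue fields at maximal ideals are all infinite (R satisfies the
primitive criterion), M a finite locally free R-module with vector bundle W(M) = Spec Sym(M^∨), and
U ⊆ W(M) an open quasi-compact subscheme which is fibrewise dense over the closed points of Spec R
(for every maximal ideal m, the trace of U on the closed fibre Spec (Sym(M^∨) ⧸ m Sym(M^∨)) is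
dense). Then U has an R-valued point. (The source asks U to be R-dense in W(M); only density of the
closed fibres is used, which is what is assumed here.) -/
theorem result {R : Type u} [CommRing R]
    (hR : LGRing.IsLGRing R) (hinf : ∀ (m : Ideal R) [m.IsMaximal], Infinite (R ⧸ m))
    (M : Type u) [AddCommGroup M] [Module R M] [Module.Finite R M] [Module.Projective R M]
    (U : (Spec (CommRingCat.of (SymmetricAlgebra R (Module.Dual R M)))).Opens)
    (hU : IsCompact (U : Set ↥(Spec (CommRingCat.of (SymmetricAlgebra R (Module.Dual R M))))))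
    (hdense : ∀ (m : Ideal R) [m.IsMaximal],
      Dense ((Spec.map (CommRingCat.ofHom (Ideal.Quotient.mk
        (Ideal.map (algebraMap R (SymmetricAlgebra R (Module.Dual R M))) m)))).base ⁻¹'
          (U : Set ↥(Spec (CommRingCat.of (SymmetricAlgebra R (Module.Dual R M))))))) :
    ∃ φ : Module.Dual R M →ₗ[R] R,
      Set.range (Spec.map (CommRingCat.ofHom (SymmetricAlgebra.lift φ).toRingHom)).base ⊆
        (U : Set ↥(Spec (CommRingCat.of (SymmetricAlgebra R (Module.Dual R M))))) := by
  obtain ⟨t, ht⟩ := PrimeSpectrum.isCompact_isOpen_iff.mp ⟨hU, U.2⟩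
  obtain ⟨φ, hφ⟩ := Groth.Agent.H21LG.exists_point hR t fun m hm => by
    have := hinf m
    let A := SymmetricAlgebra R (Module.Dual R M)
    let I : Ideal A := Ideal.map (algebraMap R A) m
    have hI : I ≠ ⊤ := fun hI => hm.ne_top <| top_unique fun r _ => by
      have h1 := Ideal.mem_map_of_mem (SymmetricAlgebra.algebraMapInv (R := R) (M := Module.Dual R M)).toRingHom
        (show algebraMap R A r ∈ I from hI ▸ Submodule.mem_top)
      rw [Ideal.map_map, show (SymmetricAlgebra.algebraMapInv (R := R) (M := Module.Dual R M)).toRingHom.comp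
        (algebraMap R A) = RingHom.id R from RingHom.ext fun r => by simp [A], Ideal.map_id] at h1
      simpa [A] using h1
    have : Nontrivial (A ⧸ I) := Ideal.Quotient.nontrivial_iff.mpr hI
    obtain ⟨q, hq⟩ := (hdense m).nonempty
    rw [Set.mem_preimage, ← ht] at hq
    obtain ⟨f, hf, hfq⟩ : ∃ f ∈ t, f ∉ ((PrimeSpectrum.comap (Ideal.Quotient.mk I) q).asIdeal) :=
      Set.not_subset.mp hq
    obtain ⟨φ, hφ⟩ := Groth.Agent.H21LG.exists_functional_of_notMem m (f := f) fun hmem => hfq (by
      show Ideal.Quotient.mk I f ∈ q.asIdeal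
      rw [Ideal.Quotient.eq_zero_iff_mem.mpr hmem]; exact zero_mem _)
    exact ⟨φ, f, hf, hφ⟩
  refine ⟨φ, ?_⟩
  rw [← ht]
  exact (Groth.Agent.H21LG.range_comap_subset_iff _ _).mpr hφ

end Groth.Agent.S16601
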