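import Groth.Statements.S16602
import Groth.Agent.H23LGAz.ModuleSurj

set_option autoImplicit false
universe u v w
open Brauer

namespace Groth.Agent.S16602

/-- Let R be an LG-ring with Spec R connected and A an Azumaya R-algebra. Then any two indecomposable
finitely generated projective left A-modules are isomorphic (a module is indecomposable when it is
non-zero and the only idempotents of its endomorphism ring are 0 and 1). (This extends the semilocal
case.) -/
theorem result {R : Type u} [CommRing R]
    (hR : LGRing.IsLGRing R) [ConnectedSpace (PrimeSpectrum R)] {A : Type v} [Ring A] [Algebra R A] [IsAzumaya R A]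
    (P Q : Type w) [AddCommGroup P] [Module A P] [Module.Finite A P] [Module.Projective A P] [Nontrivial P]
    [AddCommGroup Q] [Module A Q] [Module.Finite A Q] [Module.Projective A Q] [Nontrivial Q]
    (hP : ∀ e : Module.End A P, IsIdempotentElem e → e = 0 ∨ e = 1)
    (hQ : ∀ e : Module.End A Q, IsIdempotentElem e → e = 0 ∨ e = 1) : Nonempty (P ≃ₗ[A] Q) := by
  classical
  letI : Module R P := Module.compHom P (algebraMap R A)
  letI : Module R Q := Module.compHom Q (algebraMap R A)
  haveI : IsScalarTower R A P := ⟨fun r a x => by rw [Algebra.smul_def, mul_smul]; rfl⟩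
  haveI : IsScalarTower R A Q := ⟨fun r a x => by rw [Algebra.smul_def, mul_smul]; rfl⟩
  haveI := Groth.Agent.H23LGAz.projective_restrict (R := R) (A := A) P
  haveI := Groth.Agent.H23LGAz.projective_restrict (R := R) (A := A) Q
  haveI : Module.Finite R P := Module.Finite.trans A P
  haveI : Module.Finite R Q := Module.Finite.trans A Q
  haveI : Module.FinitePresentation R P := Module.finitePresentation_of_projective R P
  haveI : Module.FinitePresentation R Q := Module.finitePresentation_of_projective R Q
  have hcP : ∀ p q : PrimeSpectrum R, Module.rankAtStalk (R := R) P p = Module.rankAtStalk (R := R) P q :=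
    fun p q => Module.isLocallyConstant_rankAtStalk.apply_eq_of_preconnectedSpace p q
  have hcQ : ∀ p q : PrimeSpectrum R, Module.rankAtStalk (R := R) Q p = Module.rankAtStalk (R := R) Q q :=
    fun p q => Module.isLocallyConstant_rankAtStalk.apply_eq_of_preconnectedSpace p q
  obtain ⟨p₀⟩ := (inferInstance : Nonempty (PrimeSpectrum R))
  have aux : ∀ (X Y : Type w) [AddCommGroup X] [Module A X] [Module.Finite A X] [Module.Projective A X]
      [AddCommGroup Y] [Module A Y] [Module.Finite A Y] [Module.Projective A Y] [Nontrivial Y]
      (f : X →ₗ[A] Y), Function.Surjective f →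
      (∀ e : Module.End A X, IsIdempotentElem e → e = 0 ∨ e = 1) → Nonempty (X ≃ₗ[A] Y) := by
    intro X Y _ _ _ _ _ _ _ _ _ f hf hX
    obtain ⟨s, hs⟩ := Module.projective_lifting_property f LinearMap.id hf
    have hfs : ∀ y, f (s y) = y := fun y => LinearMap.congr_fun hs y
    rcases hX (s ∘ₗ f) (LinearMap.ext fun x => by simp [hfs]) with h0 | h1
    · obtain ⟨y, hy⟩ := exists_ne (0 : Y)
      obtain ⟨x, rfl⟩ := hf y
      refine absurd ?_ hy
      have := congrArg (fun g : Module.End A X => f (g x)) h0
      simpa [hfs] using this
    · exact ⟨LinearEquiv.ofBijective f ⟨Function.LeftInverse.injective (g := s)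
        (fun x => by simpa using LinearMap.congr_fun h1 x), hf⟩⟩
  rcases le_total (Module.rankAtStalk (R := R) Q p₀) (Module.rankAtStalk (R := R) P p₀) with h | h
  · obtain ⟨f, hf⟩ := Groth.Agent.H23LGAz.exists_surjective (A := A) hR P Q fun p => by
      rw [hcP p p₀, hcQ p p₀]; exact h
    exact aux P Q f hf hP
  · obtain ⟨f, hf⟩ := Groth.Agent.H23LGAz.exists_surjective (A := A) hR Q P fun p => by
      rw [hcP p p₀, hcQ p p₀]; exact h
    exact ⟨(aux Q P f hf hQ).some.symm⟩

end Groth.Agent.S16602
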