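import Groth.Statements.S16607
import Groth.Agent.H23LGAz.Cancel

set_option autoImplicit false
universe u v
open Brauer

namespace Groth.Agent.S16607

/-- Let R be an LG-ring, A and B Azumaya R-algebras and n ≥ 1. If Mₙ(A) ≅ Mₙ(B) as R-algebras then A ≅ B
as R-algebras (cancellation of Azumaya algebras). -/
theorem result {R : Type u} [CommRing R]
    (hR : LGRing.IsLGRing R) (A B : Type v) [Ring A] [Algebra R A] [IsAzumaya R A] [Ring B] [Algebra R B]
    [IsAzumaya R B] (n : ℕ) (hn : 0 < n)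
    (e : Matrix (Fin n) (Fin n) A ≃ₐ[R] Matrix (Fin n) (Fin n) B) : Nonempty (A ≃ₐ[R] B) := by
  classical
  open scoped TensorProduct in
  haveI : NeZero n := ⟨hn.ne'⟩
  haveI : FaithfulSMul R (Fin n → R) := ⟨fun {r s} h => by
    simpa using congrFun (h (fun _ => (1 : R))) ⟨0, hn⟩⟩
  let eA : A ⊗[R] Module.End R (Fin n → R) ≃ₐ[R] Matrix (Fin n) (Fin n) A :=
    (Algebra.TensorProduct.congr AlgEquiv.refl (LinearMap.toMatrixAlgEquiv (Pi.basisFun R (Fin n)))).trans
      (matrixEquivTensor (Fin n) R A).symm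
  let eB : B ⊗[R] Module.End R (Fin n → R) ≃ₐ[R] Matrix (Fin n) (Fin n) B :=
    (Algebra.TensorProduct.congr AlgEquiv.refl (LinearMap.toMatrixAlgEquiv (Pi.basisFun R (Fin n)))).trans
      (matrixEquivTensor (Fin n) R B).symm
  let e' := eA.trans (e.trans eB.symm)
  refine Groth.Agent.H23LGAz.cancel hR A B (fun p => ?_) (Fin n → R) (Fin n → R) e'
  haveI : Nontrivial R := p.nontrivial
  have h := congrFun (Module.rankAtStalk_eq_of_equiv e'.toLinearEquiv) p
  simp only [Module.rankAtStalk_tensorProduct, Pi.mul_apply, Groth.Agent.H23Az.rankAtStalk_end] at h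
  rw [Module.rankAtStalk_eq_finrank_of_free (M := Fin n → R), Pi.natCast_apply, Module.finrank_fin_fun] at h
  exact Nat.eq_of_mul_eq_mul_right (Nat.mul_pos (by simpa using hn) (by simpa using hn)) h

end Groth.Agent.S16607
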