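import Groth.Statements.S16612
-- import your own Groth.Agent.* helpers here

import Groth.Agent.H21Diag.SplitSubtori

set_option autoImplicit false
open CategoryTheory MonoidalCategory CartesianMonoidalCategory MonObj GrpObj AlgebraicGeometry
universe u
open SGA3x

namespace Groth.Agent.S16612

/-- Let S be a connected scheme and G an S-group of finite multiplicative type. Then G admits a unique
maximal split subtorus; equivalently, since split subtori form a directed family, a greatest one: a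
monomorphism T ⟶ G from a split torus T ≅ D_S(ℤ^r) through which every split subtorus T' ⟶ G of G
factors. -/
theorem result {S : Scheme.{u}} [ConnectedSpace ↥S]
    {G : Over S} [GrpObj G] (hG : SGA3x.IsMultTypeFT G) :
    ∃ (T : Over S) (_ : GrpObj T) (j : T ⟶ G) (r : ℕ), IsMonHom j ∧ Mono j ∧ Red.IsSplitTorusWith (Fin r → ℤ) T ∧
      ∀ (T' : Over S) [GrpObj T'] (j' : T' ⟶ G) [IsMonHom j'] [Mono j'] (r' : ℕ),
        Red.IsSplitTorusWith (Fin r' → ℤ) T' → ∃ g : T' ⟶ T, g ≫ j = j' := by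
  have : IsSeparated G.hom := Groth.Agent.H21Diag.isSeparated_of_multTypeFT hG
  have : LocallyOfFiniteType G.hom := Groth.Agent.H21Diag.lft_of_multTypeFT hG
  obtain ⟨r, j, hj, hjm, hmax⟩ := Groth.Agent.H21Diag.exists_max_rank hG
  refine ⟨Red.DS S (Fin r → ℤ), inferInstance, j, r, hj, hjm, Groth.Agent.H21Diag.split_DS S r, ?_⟩
  intro T' _ j' _ _ r' hT'
  obtain ⟨f, s₁, s₂, hf, hs₁, hs₂, h1, h2⟩ :=
    Groth.Agent.H21Diag.exists_pair hG (Groth.Agent.H21Diag.split_DS S r) hT' j j'
  obtain ⟨n, q, k, hq, hk, hkm, hqk⟩ := Groth.Agent.H21Diag.exists_image_connected (r + r') f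
  let g : Red.DS S (Fin r → ℤ) ⟶ Red.DS S (Fin n → ℤ) := s₁ ≫ q
  have hg : g ≫ k = j := by rw [Category.assoc, hqk, h1]
  have : IsMonHom g := inferInstanceAs (IsMonHom (s₁ ≫ q))
  have : Mono (g ≫ k) := hg ▸ hjm
  have : Mono g := mono_of_mono g k
  have := Groth.Agent.H21Diag.isIso_of_split_le g (Groth.Agent.H21Diag.split_DS S r)
    (Groth.Agent.H21Diag.split_DS S n) (hmax _ k n (Groth.Agent.H21Diag.split_DS S n))
  exact ⟨s₂ ≫ q ≫ inv g, by rw [← hg, Category.assoc, Category.assoc, IsIso.inv_hom_id_assoc, hqk, h2]⟩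

end Groth.Agent.S16612
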