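import Groth.Statements.S16613
-- import your own Groth.Agent.* helpers here

import Groth.Agent.H21Diag.LocSplit

set_option autoImplicit false
open CategoryTheory MonoidalCategory CartesianMonoidalCategory MonObj GrpObj AlgebraicGeometry
universe u
open SGA3x

namespace Groth.Agent.S16613

/-- Let S be a connected scheme and G an S-group of finite multiplicative type. Then G admits a unique
maximal locally split subtorus (a monomorphism T ⟶ G with T Zariski-locally on S isomorphic to split
tori D(ℤ^r)); since locally split subtori form a directed family it is the greatest one: every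
locally split subtorus of G factors through it. -/
theorem result {S : Scheme.{u}}
    [ConnectedSpace ↥S] {G : Over S} [GrpObj G] (hG : SGA3x.IsMultTypeFT G) :
    ∃ (T : Over S) (_ : GrpObj T) (j : T ⟶ G), IsMonHom j ∧ Mono j ∧
      (∀ s : ↥S, ∃ U : S.Opens, s ∈ U ∧ ∃ r : ℕ, Red.IsSplitTorusWith (Fin r → ℤ) (Red.bc U.ι T)) ∧
      ∀ (T' : Over S) [GrpObj T'] (j' : T' ⟶ G) [IsMonHom j'] [Mono j'],
        (∀ s : ↥S, ∃ U : S.Opens, s ∈ U ∧ ∃ r : ℕ, Red.IsSplitTorusWith (Fin r → ℤ) (Red.bc U.ι T')) → ∃ g : T' ⟶ T, g ≫ j = j' := by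
  exact Groth.Agent.H21Diag.exists_greatest_lSplit hG

end Groth.Agent.S16613
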