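import Groth.Statements.S16614
-- import your own Groth.Agent.* helpers here

import Groth.Agent.H21Diag.SplitSubtori

set_option autoImplicit false
open CategoryTheory MonoidalCategory CartesianMonoidalCategory MonObj GrpObj AlgebraicGeometry
universe u
open SGA3x

namespace Groth.Agent.S16614

/-- Over an arbitrary scheme S, an S-group G of finite multiplicative type admits a maximal split
subtorus: a monomorphism T ⟶ G from a split torus T ≅ D_S(ℤ^r) which is maximal among split subtori
(if T factors through a split subtorus T' ⟶ G then the factoring morphism is an isomorphism). -/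
theorem result {S : Scheme.{u}} {G : Over S} [GrpObj G]
    (hG : SGA3x.IsMultTypeFT G) :
    ∃ (T : Over S) (_ : GrpObj T) (j : T ⟶ G) (r : ℕ), IsMonHom j ∧ Mono j ∧ Red.IsSplitTorusWith (Fin r → ℤ) T ∧
      ∀ (T' : Over S) [GrpObj T'] (j' : T' ⟶ G) [IsMonHom j'] [Mono j'] (r' : ℕ) (g : T ⟶ T'),
        Red.IsSplitTorusWith (Fin r' → ℤ) T' → g ≫ j' = j → IsIso g := by
  rcases isEmpty_or_nonempty ↥S with hS | hS
  · obtain ⟨j, hj, hjm⟩ := Groth.Agent.H21Diag.exists_mono_of_subsingleton (A := Red.DS S (Fin 0 → ℤ)) (B := G)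
      fun a b => Groth.Agent.H21Diag.subsingleton_zero a b
    refine ⟨Red.DS S (Fin 0 → ℤ), inferInstance, j, 0, hj, hjm, Groth.Agent.H21Diag.split_DS S 0, ?_⟩
    intro T' _ j' _ _ r' g _ _
    have : IsEmpty T'.left := Function.isEmpty T'.hom.base
    have : IsIso g.left := isIso_of_isEmpty g.left
    have : IsIso ((Over.forget S).map g) := inferInstanceAs (IsIso g.left)
    exact isIso_of_reflects_iso g (Over.forget S)
  · obtain ⟨r, j, hj, hjm, hmax⟩ := Groth.Agent.H21Diag.exists_max_rank hG
    refine ⟨Red.DS S (Fin r → ℤ), inferInstance, j, r, hj, hjm, Groth.Agent.H21Diag.split_DS S r, ?_⟩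
    intro T' _ j' _ _ r' g hT' hg
    subst hg
    have := Groth.Agent.H21Diag.isMonHom_of_comp_mono g j'
    have : Mono g := mono_of_mono g j'
    exact Groth.Agent.H21Diag.isIso_of_split_le g (Groth.Agent.H21Diag.split_DS S r) hT' (hmax _ j' r' hT')

end Groth.Agent.S16614
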