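import Groth.Statements.S16620
-- import your own Groth.Agent.* helpers here

import Groth.Agent.H21Diag.SplitSubtori

set_option autoImplicit false
open CategoryTheory MonoidalCategory CartesianMonoidalCategory MonObj GrpObj AlgebraicGeometry
universe u
open SGA3x

namespace Groth.Agent.S16620

/-- Let S be a connected, normal, locally Noetherian scheme, T an S-torus and T₀ ⟶ T its unique maximal
split subtorus, i.e. a split subtorus through which every split subtorus of T factors. Then every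
cocharacter λ : 𝔾_m ⟶ T over S factors through T₀; this is the equality X_*(T₀)(S) = X_*(T)(S) of
groups of cocharacters defined over S. -/
theorem result {S : Scheme.{u}} [ConnectedSpace ↥S]
    [IsLocallyNoetherian S] (hnorm : ∀ x : ↥S, IsDomain (S.presheaf.stalk x) ∧ IsIntegrallyClosed (S.presheaf.stalk x))
    {T T₀ : Over S} [GrpObj T] [GrpObj T₀] (hT : Red.IsTorus T) (j₀ : T₀ ⟶ T) [IsMonHom j₀] [Mono j₀] (r₀ : ℕ)
    (hT₀ : Red.IsSplitTorusWith (Fin r₀ → ℤ) T₀)
    (hmax : ∀ (T' : Over S) [GrpObj T'] (j' : T' ⟶ T) [IsMonHom j'] [Mono j'] (r' : ℕ),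
      Red.IsSplitTorusWith (Fin r' → ℤ) T' → ∃ g : T' ⟶ T₀, g ≫ j₀ = j')
    (lam : Red.Gm S ⟶ T) [IsMonHom lam] : ∃ mu : Red.Gm S ⟶ T₀, mu ≫ j₀ = lam := by
  have hTm := Groth.Agent.S16611.multTypeFT_of_torus hT
  have : IsSeparated T.hom := Groth.Agent.H21Diag.isSeparated_of_multTypeFT hTm
  have : LocallyOfFiniteType T.hom := Groth.Agent.H21Diag.lft_of_multTypeFT hTm
  obtain ⟨e⟩ := Groth.Agent.H21Diag.nonempty_DS_iso S (A := ℤ) (B := Fin 1 → ℤ)
    (AddEquiv.funUnique (Fin 1) ℤ).symm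
  have : IsMonHom e.inv.hom.hom := e.inv.hom.isMonHom_hom
  obtain ⟨n, q, j, hq, hj, hjm, hqj⟩ := Groth.Agent.H21Diag.exists_image_connected 1 (e.inv.hom.hom ≫ lam)
  obtain ⟨g, hg⟩ := hmax _ j n (Groth.Agent.H21Diag.split_DS S n)
  refine ⟨e.hom.hom.hom ≫ q ≫ g, ?_⟩
  rw [Category.assoc, Category.assoc, hg, hqj, ← Category.assoc,
    show e.hom.hom.hom ≫ e.inv.hom.hom = 𝟙 _ from congrArg (fun k => k.hom.hom) e.hom_inv_id, Category.id_comp]

end Groth.Agent.S16620
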