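import Groth.Statements.S16621
import Groth.Agent.H21Hom.SplitLocal
-- import your own Groth.Agent.* helpers here

set_option autoImplicit false
open CategoryTheory MonoidalCategory CartesianMonoidalCategory MonObj GrpObj AlgebraicGeometry
universe u
open SGA3x

namespace Groth.Agent.S16621

set_option backward.isDefEq.respectTransparency false

/-- Let S be a connected, normal, locally Noetherian scheme, T an S-torus and T₀ ⟶ T its unique maximal
split subtorus (a split subtorus through which every split subtorus of T factors). Then T₀ is also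
the unique maximal locally split subtorus of T: every subtorus T₁ ⟶ T which is split Zariski-locally
on S factors through T₀. (Without normality this fails.) -/
theorem result {S : Scheme.{u}} [ConnectedSpace ↥S]
    [IsLocallyNoetherian S] (hnorm : ∀ x : ↥S, IsDomain (S.presheaf.stalk x) ∧ IsIntegrallyClosed (S.presheaf.stalk x))
    {T T₀ T₁ : Over S} [GrpObj T] [GrpObj T₀] [GrpObj T₁] (hT : Red.IsTorus T) (j₀ : T₀ ⟶ T) [IsMonHom j₀] [Mono j₀]
    (r₀ : ℕ) (hT₀ : Red.IsSplitTorusWith (Fin r₀ → ℤ) T₀)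
    (hmax : ∀ (T' : Over S) [GrpObj T'] (j' : T' ⟶ T) [IsMonHom j'] [Mono j'] (r' : ℕ),
      Red.IsSplitTorusWith (Fin r' → ℤ) T' → ∃ g : T' ⟶ T₀, g ≫ j₀ = j')
    (j₁ : T₁ ⟶ T) [IsMonHom j₁] [Mono j₁]
    (hT₁ : ∀ s : ↥S, ∃ U : S.Opens, s ∈ U ∧ ∃ r : ℕ, Red.IsSplitTorusWith (Fin r → ℤ) (Red.bc U.ι T₁)) :
    ∃ g : T₁ ⟶ T₀, g ≫ j₀ = j₁ := by
  choose U hsU r hr using hT₁
  have key : ∀ s, ∃ h : ((T₁.hom ⁻¹ᵁ U s : T₁.left.Opens) : Scheme.{u}) ⟶ T₀.left,
      h ≫ j₀.left = (T₁.hom ⁻¹ᵁ U s).ι ≫ j₁.left := fun s => by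
    obtain ⟨g, hg⟩ := H21Hom.exists_factor_open hnorm hT j₀ hmax (U s) (Red.bc (U s).ι T₁)
      ((Over.pullback (U s).ι).map j₁) (r s) (hr s)
    refine ⟨Limits.pullback.lift (T₁.hom ⁻¹ᵁ U s).ι (T₁.hom ∣_ U s) (morphismRestrict_ι _ _).symm ≫ g.left ≫
      Limits.pullback.fst _ _, ?_⟩
    have h1 : (g ≫ (Over.pullback (U s).ι).map j₀).left ≫ Limits.pullback.fst T.hom (U s).ι =
        (g.left ≫ Limits.pullback.fst T₀.hom (U s).ι) ≫ j₀.left :=
      (Category.assoc _ _ _).trans ((congrArg (g.left ≫ ·) (Limits.pullback.lift_fst _ _ _)).trans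
        (Category.assoc _ _ _).symm)
    have h2 : ((Over.pullback (U s).ι).map j₁).left ≫ Limits.pullback.fst T.hom (U s).ι =
        Limits.pullback.fst T₁.hom (U s).ι ≫ j₁.left := Limits.pullback.lift_fst _ _ _
    rw [hg, h2] at h1
    rw [Category.assoc, ← h1]
    exact Limits.pullback.lift_fst_assoc _ _ _ _
  choose h hh using key
  let 𝒰 := T₁.left.openCoverOfIsOpenCover (fun s => T₁.hom ⁻¹ᵁ U s)
    (eq_top_iff.mpr fun x _ => TopologicalSpace.Opens.mem_iSup.mpr ⟨T₁.hom x, hsU _⟩)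
  let g := 𝒰.glueMorphisms h fun i j => by
    rw [← cancel_mono j₀.left]
    simp only [Category.assoc, hh]
    exact Limits.pullback.condition_assoc (j₁.left)
  have hgj : g ≫ j₀.left = j₁.left := 𝒰.hom_ext _ _ fun s =>
    (Category.assoc _ _ _).symm.trans ((congrArg (· ≫ j₀.left) (𝒰.ι_glueMorphisms h _ s)).trans (hh s))
  refine ⟨Over.homMk g ?_, Over.OverMorphism.ext hgj⟩
  rw [← Over.w j₀, reassoc_of% hgj]
  exact Over.w j₁

end Groth.Agent.S16621
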