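import Groth.Statements.S16624
import Groth.Agent.H17.QuotSch.Glue
-- import your own Groth.Agent.* helpers here

set_option autoImplicit false
universe u
open FGA

namespace Groth.Agent.S16624

open AlgebraicGeometry CategoryTheory in
/-- Let S be a Noetherian scheme, n and r natural numbers, l an integer, and E the module O^r ⊗ O(-l) on
projective n-space P^n_S over S. The Quot functor of E over S — sending a locally Noetherian
S-scheme T to the set of submodules K of E_T (the pullback of E to P^n_S ×_S T) whose quotient E_T/K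
is coherent and flat over T, with pullback of submodules as transition maps — is represented by an
S-scheme Q with a universal submodule, and Q is a disjoint union of S-schemes each admitting a
closed immersion over S into some projective space P^m_S. (The source states this for each fixed
Hilbert polynomial; the indexing of the pieces by Hilbert polynomials is not recorded here.) -/
theorem result (S : Scheme.{u}) [IsNoetherian S]
    (n r : ℕ) (l : ℤ) :
    ∃ (Q : Over S) (K : FGA.QuotSet (CohB1.ProjSpaceOver.toBase n S)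
        (CohB1.tensorMod (FlatMod.freeMod (CohB1.ProjSpaceOver n S) r) (Twist.twistOver n S (-l))) Q),
      FGA.QuotRepresentedBy (CohB1.ProjSpaceOver.toBase n S)
        (CohB1.tensorMod (FlatMod.freeMod (CohB1.ProjSpaceOver n S) r) (Twist.twistOver n S (-l))) Q K ∧
      ∃ (ι : Type u) (P : ι → Scheme.{u}) (e : (∐ P) ≅ Q.left) (m : ι → ℕ)
        (c : ∀ a, P a ⟶ CohB1.ProjSpaceOver (m a) S),
        ∀ a, IsClosedImmersion (c a) ∧
          c a ≫ CohB1.ProjSpaceOver.toBase (m a) S = Limits.Sigma.ι P a ≫ e.hom ≫ Q.hom := by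
  exact by
    have hh : ∀ (E : (CohB1.ProjSpaceOver n S).Modules) (_ : Coh.IsCoh E) (ν : ℤ)
        (q : (Limits.sigmaObj fun _ : Fin r => (Scheme.Modules.pullback (𝟙 _)).obj (Twist.twistOver n S ν)) ⟶ E)
        (_ : Epi q), ∃ (Q : Over S) (K : FGA.QuotSet (𝟙 _ ≫ CohB1.ProjSpaceOver.toBase n S) E Q),
          FGA.QuotRepresentedBy (𝟙 _ ≫ CohB1.ProjSpaceOver.toBase n S) E Q K ∧
          ∃ (ι : Type u) (P : ι → Scheme.{u}) (e : (∐ P) ≅ Q.left) (m : ι → ℕ)
            (c : ∀ a, P a ⟶ CohB1.ProjSpaceOver (m a) S),
            ∀ a, IsClosedImmersion (c a) ∧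
              c a ≫ CohB1.ProjSpaceOver.toBase (m a) S = Limits.Sigma.ι P a ≫ e.hom ≫ Q.hom :=
      fun E hE ν q hq => Groth.Agent.H17.QuotSch.exists_quot (𝟙 _) hE r ν q
    obtain ⟨q, hq⟩ := Groth.Agent.H17.QuotSch.exists_epi_sigma_twist (n := n) S r (-l)
    have h := hh _ (Groth.Agent.H17.QuotSch.isCoh_cFree (n := n) (T := S) r (-l)) (-l) q hq
    rwa [Category.id_comp] at h


end Groth.Agent.S16624
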