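import Groth.Statements.S16625
import Groth.Agent.LeadBC.GenBC.Apply
import Groth.Agent.H16Derived.BaseChange.RegFlat
import Groth.Agent.H17.KRRBC
import Groth.Agent.H7Flat.CohDim.H1Apps
import Groth.Agent.H7Flat.CohDim.Top
-- import your own Groth.Agent.* helpers here

set_option autoImplicit false
universe u
open FGA

namespace Groth.Agent.S16625

open AlgebraicGeometry CategoryTheory CategoryTheory.Limits in
attribute [local instance 10000] Groth.Agent.H10Coh.hasSheafifyAb Groth.Agent.H10Coh.hasWeakSheafifyAb Groth.Agent.H10Coh.hasExtAb Groth.Agent.H10Coh.enoughInjAb in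
attribute [local instance] Groth.Agent.H10Coh.enoughInjMod in
theorem aux (S : Scheme.{u}) [IsNoetherian S] (n : ℕ)
    (Q : (CohB1.ProjSpaceOver n S).Modules) (hQ : Coh.IsCoh Q)
    (hflat : FlatMod.IsFlatOver (CohB1.ProjSpaceOver.toBase n S) Q) (m : ℤ)
    (hreg : ∀ (s : S) (i : ℕ), 1 ≤ i →
      Subsingleton (Coh.HH (pullback (CohB1.ProjSpaceOver.toBase n S) (S.fromSpecResidueField s))
        ((Scheme.Modules.pullback
            (pullback.fst (CohB1.ProjSpaceOver.toBase n S) (S.fromSpecResidueField s))).obj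
          (CohB1.tensorMod Q (Twist.twistOver n S (m - i)))) i))
    (d : ℤ) (hd : m ≤ d) :
    FlatMod.IsFinLocFree ((Coh.push (CohB1.ProjSpaceOver.toBase n S)).obj
        (CohB1.tensorMod Q (Twist.twistOver n S d))) ∧
      (∀ i : ℕ, 1 ≤ i → IsZero ((Coh.RpushAb (CohB1.ProjSpaceOver.toBase n S) i).obj
        (Coh.toAb (CohB1.tensorMod Q (Twist.twistOver n S d))))) ∧
      Epi ((Scheme.Modules.pullbackPushforwardAdjunction (CohB1.ProjSpaceOver.toBase n S)).counit.app
        (CohB1.tensorMod Q (Twist.twistOver n S d))) := by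
  haveI := Groth.Agent.H22Alg.CMKer.isProper_pr n S
  haveI : LocallyOfFinitePresentation (KRR.pr n S) := inferInstance
  haveI : IsLocallyNoetherian (KRR.PY n S) := LocallyOfFiniteType.isLocallyNoetherian (KRR.pr n S)
  have hcohQ : ∀ c : ℤ, Coh.IsCoh (CohB1.tensorMod Q (Twist.twistOver n S c)) := fun c =>
    Groth.Agent.H10Coh.TT.isCoh_tensorMod hQ
      (Groth.Agent.H11Ample.isCoh_of_isInvertible (Groth.Agent.H22Alg.RegSheaf.isInvertible_twistOver c))
  have hflQ : ∀ c : ℤ, FlatMod.IsFlatOver (KRR.pr n S) (CohB1.tensorMod Q (Twist.twistOver n S c)) := fun c =>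
    Groth.Agent.H10Inj.FlatTwist.isFlatOver_tensor (KRR.pr n S) hflat
      (Groth.Agent.H22Alg.RegSheaf.isInvertible_twistOver (n := n) (T := S) c)
  have hvan : ∀ i : ℕ, 1 ≤ i →
      Groth.Agent.H22Alg.CMReg.Van i (CohB1.tensorMod Q (Twist.twistOver n S (m - i))) := by
    intro i hi
    let F := CohB1.tensorMod Q (Twist.twistOver n S (m - i))
    haveI : F.IsQuasicoherent := (hcohQ _).1
    have hfp : CohB1.IsFP F := Groth.Agent.H10Coh.isFP_of_isCoh _ (hcohQ _)
    have hz : IsZero ((Coh.Rpush (KRR.pr n S) i).obj F) := by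
      have h := fun s : S =>
        Groth.Agent.LeadBC.GenBC.exists_vanishing_nhd (KRR.pr n S) F hfp (hflQ _) i (s := s) (hreg s i hi)
      choose W hW hsW _ _ hz _ using h
      refine Groth.Agent.H7Flat.CohDim.isZero_of_cover (Groth.Agent.H10Coh.isQuasicoherent_rpush _ F i) W hW
        (fun x _ => TopologicalSpace.Opens.mem_iSup.2 ⟨x, hsW x⟩) fun s => ?_
      have h1 : ∀ t : Γ(((Coh.Rpush (KRR.pr n S) i).obj F).restrict (W s).ι, ⊤), t = 0 := fun t =>
        congr($(congrArg (fun φ => Scheme.Modules.Hom.app φ ⊤) ((hz s).eq_of_src (𝟙 _) 0)) t)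
      have h2 : ∀ t : Γ((Coh.Rpush (KRR.pr n S) i).obj F, (W s).ι ''ᵁ ⊤), t = 0 := h1
      rw [Scheme.Opens.ι_image_top] at h2
      exact subsingleton_of_forall_eq 0 h2
    obtain ⟨e⟩ := Groth.Agent.H10Coh.nonempty_toAb_rpush (M := F) (f := KRR.pr n S) i
    exact ((Groth.Agent.H10Coh.shF S).map_isZero hz).of_iso e.symm
  have hR : KRR.IsRegSheaf n S (CohB1.tensorMod Q (Twist.twistOver n S m)) := fun i hi => by
    obtain ⟨e⟩ := Groth.Agent.H22Alg.RegSheaf.nonempty_twF_twF (n := n) (T := S) (-(i : ℤ)) m (m - i) (by ring) Q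
    exact Groth.Agent.H22Alg.CMReg.van_iso (Groth.Agent.H10Coh.Tw.commIso _ _ ≪≫ e.symm ≪≫
      ((DCoh.tensorBi (X := KRR.PY n S)).obj (Twist.twistOver n S (-(i : ℤ)))).mapIso
        (Groth.Agent.H10Coh.Tw.commIso _ _)) (hvan i hi)
  obtain ⟨k, rfl⟩ : ∃ k : ℕ, d = (k : ℤ) + m := ⟨(d - m).toNat, by omega⟩
  obtain ⟨e⟩ := Groth.Agent.H22Alg.RegSheaf.nonempty_twF_twF (n := n) (T := S) (k : ℤ) m ((k : ℤ) + m) rfl Q
  let j : KRR.twF n S (k : ℤ) (CohB1.tensorMod Q (Twist.twistOver n S m)) ≅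
      CohB1.tensorMod Q (Twist.twistOver n S ((k : ℤ) + m)) :=
    ((DCoh.tensorBi (X := KRR.PY n S)).obj (Twist.twistOver n S (k : ℤ))).mapIso
      (Groth.Agent.H10Coh.Tw.commIso _ _) ≪≫ e ≪≫ Groth.Agent.H10Coh.Tw.commIso _ _
  have hRd : KRR.IsRegSheaf n S (CohB1.tensorMod Q (Twist.twistOver n S ((k : ℤ) + m))) := fun i hi =>
    Groth.Agent.H22Alg.CMReg.van_iso
      (((DCoh.tensorBi (X := KRR.PY n S)).obj (Twist.twistOver n S (-(i : ℤ)))).mapIso j)
      (Groth.Agent.H22Alg.CMReg.reg_twist hR k i hi)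
  exact ⟨Groth.Agent.H16Derived.BaseChange.RegFlat.finLocFree_push (hcohQ _) (hflQ _) hRd,
    fun i hi => Groth.Agent.H22Alg.CMReg.van_self hRd hi,
    Groth.Agent.H22Alg.CMGen.epi_counit (hcohQ _).1 hRd⟩

open AlgebraicGeometry CategoryTheory CategoryTheory.Limits in
/-- Let S be a Noetherian scheme with projective n-space π : P^n_S → S, Q a coherent module on P^n_S
which is flat over S, and m > 0 an integer such that for every point s of S the restriction Q_s of Q
to the fibre P^n_S ×_S Spec κ(s) is m-regular: H^i of the restriction of Q(m - i) = Q ⊗ O(m - i) to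
that fibre vanishes for every i ≥ 1. Then for every integer d ≥ m: (1) π_*(Q(d)) is a finite locally
free O_S-module; (2) R^i π_*(Q(d)) = 0 for every i ≥ 1 (higher direct images of the underlying
abelian sheaf); (3) the counit π^*π_*(Q(d)) → Q(d) is an epimorphism. (The source's (1) also says
that the formation of π_*(Q(d)) commutes with arbitrary base change T → S; that clause is not
recorded here.) -/
theorem result (S : Scheme.{u}) [IsNoetherian S] (n : ℕ)
    (Q : (CohB1.ProjSpaceOver n S).Modules) (hQ : Coh.IsCoh Q)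
    (hflat : FlatMod.IsFlatOver (CohB1.ProjSpaceOver.toBase n S) Q) (m : ℤ) (hm : 0 < m)
    (hreg : ∀ (s : S) (i : ℕ), 1 ≤ i →
      Subsingleton (Coh.HH (pullback (CohB1.ProjSpaceOver.toBase n S) (S.fromSpecResidueField s))
        ((Scheme.Modules.pullback
            (pullback.fst (CohB1.ProjSpaceOver.toBase n S) (S.fromSpecResidueField s))).obj
          (CohB1.tensorMod Q (Twist.twistOver n S (m - i)))) i))
    (d : ℤ) (hd : m ≤ d) :
    FlatMod.IsFinLocFree ((Coh.push (CohB1.ProjSpaceOver.toBase n S)).obj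
        (CohB1.tensorMod Q (Twist.twistOver n S d))) ∧
      (∀ i : ℕ, 1 ≤ i → IsZero ((Coh.RpushAb (CohB1.ProjSpaceOver.toBase n S) i).obj
        (Coh.toAb (CohB1.tensorMod Q (Twist.twistOver n S d))))) ∧
      Epi ((Scheme.Modules.pullbackPushforwardAdjunction (CohB1.ProjSpaceOver.toBase n S)).counit.app
        (CohB1.tensorMod Q (Twist.twistOver n S d))) := by
  exact aux S n Q hQ hflat m hreg d hd

end Groth.Agent.S16625
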