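import Groth.Statements.S16627
import Mathlib
import Groth.Agent.H28Int.Vanishing
import Groth.Agent.H28Int.Core
import Groth.Agent.H10Coh.Stab.TwistInt
import Groth.Agent.H10Coh.TwistExact
import Groth.Agent.H10Coh.SerreVanishing
import Groth.Agent.S0022

set_option autoImplicit false
universe u
open Variety

namespace Groth.Agent.S16627

open AlgebraicGeometry CategoryTheory CategoryTheory.Limits in
/-- Let k be a field, F a coherent module on projective n-space P^n_k which is m-regular, and ι : F ⊗
O(-1) → F a monomorphism of O-modules (such as multiplication by a linear form that is a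
nonzerodivisor on F, i.e. a hyperplane avoiding the associated points of F). Then the cokernel of ι
— the restriction of F to the hyperplane, as a module on P^n_k — is again m-regular. (Stated for an
arbitrary monomorphism F(-1) → F and an arbitrary ground field.) -/
theorem result (k : Type u) [Field k] (n : ℕ)
    (F : (CohB1.ProjSpace n k).Modules) (hF : Coh.IsCoh F) (m : ℤ) (hreg : Curv2.IsMRegular k n F m)
    (ι : CohB1.tensorMod F (Twist.twistProjSpace n k (-1)) ⟶ F) [Mono ι] :
    Curv2.IsMRegular k n (cokernel ι) m := by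
  haveI : IsProper (CohB1.ProjSpace n k ↘ Spec (CommRingCat.of k)) :=
    inferInstanceAs (IsProper (CohB1.ProjSpace.toSpec n k))
  haveI := H28Int.isNoetherian k (X := CohB1.ProjSpace n k)
  intro i hi hin
  let O := Twist.twistProjSpace n k
  have hO := H10Coh.Stab.isTwistFamily_projSpace n k
  have hS : (ShortComplex.mk ι (cokernel.π ι) (cokernel.condition ι)).ShortExact :=
    ShortComplex.ShortExact.mk' (ShortComplex.exact_cokernel ι) inferInstance inferInstance
  have hS' := H10Coh.Tw.shortExact_seq hS (hO.inv (m - i))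
  have toH : ∀ (M : (CohB1.ProjSpace n k).Modules) (p : ℕ), Subsingleton (Coh.HH (CohB1.ProjSpace n k) M p) →
      Subsingleton (H10Coh.HnM M p ⊤) := fun M p h => @Equiv.subsingleton _ _ (H10Coh.HHEquiv M p).toEquiv.symm h
  refine @Equiv.subsingleton _ _ (H10Coh.HHEquiv _ i).toEquiv
    (H10Coh.Tw.subsingleton_X₃ (H10Coh.shortExact_sh hS') (toH _ i (hreg i hi hin)) ?_)
  by_cases h1 : i + 1 ≤ n
  · obtain ⟨e⟩ := hO.add (-1) (m - i)
    refine H10Coh.Tw.subsingleton_of_iso (Iso.symm ?_) (toH _ (i + 1) (hreg (i + 1) (by omega) h1))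
    rw [show m - ((i + 1 : ℕ) : ℤ) = -1 + (m - i) by push_cast; ring]
    exact H10Coh.Tw.assoc _ _ _ ≪≫ PicGrp.tensorModIso (Iso.refl F) e
  · have hq : Coh.IsQCoh (CohB1.tensorMod (CohB1.tensorMod F (O (-1))) (O (m - i))) :=
      (H11Ample.isCoh_tensor (H11Ample.isCoh_tensor hF (hO.inv _)) (hO.inv _)).1
    haveI := hq
    exact toH _ (i + 1) (S0022.result n k (CohB1.tensorMod (CohB1.tensorMod F (O (-1))) (O (m - i))) (i + 1) (by omega))

end Groth.Agent.S16627
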