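import Groth.Statements.S1663
import Groth.Agent.H10Coh.AffineLeray
-- import your own Groth.Agent.* helpers here

set_option autoImplicit false
universe u
open CategoryTheory CategoryTheory.Limits AlgebraicGeometry
open Variety

namespace Groth.Agent.S1663


theorem exists_notMem_forall_prime {R : Type u} [CommRing R] (p : Ideal R) [p.IsPrime] (S : Type u) [CommRing S]
    [Algebra R S] [IsLocalization.AtPrime S p] [IsNoetherianRing S] (hd : ringKrullDim S ≤ 1)
    (G : Set R) (hG : G.Finite) :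
    ∃ g s : R, s ∉ p ∧ ∀ q : Ideal R, q.IsPrime → s ∉ q → ((∃ a ∈ G, a ∉ q) ↔ g ∉ q) := by
  classical
  by_cases h : ∃ a ∈ G, a ∉ p
  · obtain ⟨a, ha, hap⟩ := h
    exact ⟨1, a, hap, fun q hq haq => ⟨fun _ h1 => hq.ne_top ((Ideal.eq_top_iff_one q).2 h1),
      fun _ => ⟨a, ha, haq⟩⟩⟩
  · push_neg at h
    haveI : IsLocalRing S := IsLocalization.AtPrime.isLocalRing S p
    haveI : Ring.KrullDimLE 1 S := Ring.krullDimLE_iff.2 hd
    have hmin : (minimalPrimes S).Finite := minimalPrimes.finite_of_isNoetherianRing S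
    let F : Set (Ideal R) := {q ∈ (fun P => P.comap (algebraMap R S)) '' minimalPrimes S | ¬ Ideal.span G ≤ q}
    have hF : F.Finite := (hmin.image _).subset fun q hq => hq.1
    have hFp : ∀ q ∈ F, q.IsPrime := by
      rintro _ ⟨⟨P, hP, rfl⟩, -⟩
      haveI := hP.1.1
      exact Ideal.comap_isPrime _ _
    obtain ⟨g, hgG, hg⟩ : ∃ g ∈ Ideal.span G, ∀ q ∈ F, g ∉ q := by
      by_contra hne
      push_neg at hne
      have hsub : (Ideal.span G : Set R) ⊆ ⋃ i ∈ (↑hF.toFinset : Set (Ideal R)), (id i : Ideal R) := by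
        intro g hg
        obtain ⟨q, hq, hgq⟩ := hne g hg
        exact Set.mem_biUnion (by simpa using hq) hgq
      obtain ⟨q, hq, hle⟩ := (Ideal.subset_union_prime ⊥ ⊥
        (fun i hi _ _ => hFp i (hF.mem_toFinset.1 hi))).1 hsub
      exact (hF.mem_toFinset.1 hq).2 hle
    have hkey : ∀ a ∈ G, ∃ s : R, s ∉ p ∧ ∀ q : Ideal R, q.IsPrime → s ∉ q → g ∈ q → a ∈ q := by
      intro a ha
      have har : algebraMap R S a ∈ (Ideal.span {algebraMap R S g}).radical := by
        rw [Ideal.radical_eq_sInf, Ideal.mem_sInf]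
        rintro P ⟨hgP, hP⟩
        have hgP' : g ∈ P.comap (algebraMap R S) := hgP (Ideal.mem_span_singleton_self _)
        rcases Ring.krullDimLE_one_iff.1 (inferInstance : Ring.KrullDimLE 1 S) P hP with hm | hm
        · by_contra hna
          exact hg (P.comap (algebraMap R S)) ⟨⟨P, hm, rfl⟩, fun hle => hna (hle (Ideal.subset_span ha))⟩ hgP'
        · rw [IsLocalRing.eq_maximalIdeal hm]
          exact (IsLocalization.AtPrime.to_map_mem_maximal_iff S p a).2 (h a ha)
      obtain ⟨n, hn⟩ := har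
      obtain ⟨b, hb⟩ := Ideal.mem_span_singleton'.1 hn
      obtain ⟨⟨r, t⟩, hrt⟩ := IsLocalization.surj p.primeCompl b
      simp only at hrt
      obtain ⟨c, hc⟩ := IsLocalization.exists_of_eq (M := p.primeCompl) (S := S)
        (x := r * g) (y := t * a ^ n) (by rw [map_mul, map_mul, map_pow, ← hb, ← hrt]; ring)
      refine ⟨c * t, p.primeCompl.mul_mem c.2 t.2, fun q hq hctq hgq => ?_⟩
      have hm : (c : R) * t * a ^ n ∈ q := by
        rw [mul_assoc, ← hc]
        exact q.mul_mem_left _ (q.mul_mem_left _ hgq)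
      exact hq.mem_of_pow_mem n ((hq.mem_or_mem hm).resolve_left hctq)
    choose! s hsp hs using hkey
    refine ⟨g, ∏ a ∈ hG.toFinset, s a, fun hmem => ?_, fun q hq hsq => ⟨fun ⟨a, ha, haq⟩ hgq => ?_, fun hgq => ?_⟩⟩
    · obtain ⟨a, ha, hap⟩ := (‹p.IsPrime›.prod_mem_iff).1 hmem
      exact hsp a (hG.mem_toFinset.1 ha) hap
    · exact haq (hs a ha q hq (fun hsa => hsq (hq.prod_mem_iff.2 ⟨a, hG.mem_toFinset.2 ha, hsa⟩)) hgq)
    · by_contra hall
      push_neg at hall
      exact hgq (Ideal.span_le.2 hall hgG)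

theorem isAffineHom_ι (X : Scheme.{u})
    (hX : ∀ x : X, IsNoetherianRing (X.presheaf.stalk x) ∧ ringKrullDim (X.presheaf.stalk x) ≤ 1)
    (U : X.Opens) [QuasiCompact U.ι] : IsAffineHom U.ι := by
  classical
  refine isAffineHom_of_forall_exists_isAffineOpen _ fun x => ?_
  obtain ⟨V, hV, hxV, -⟩ := exists_isAffineOpen_mem_and_subset (x := x) (U := ⊤) trivial
  have hcp : IsCompact ((U ⊓ V : X.Opens) : Set X) := by
    have h := (U.ι.isCompact_preimage hV.isCompact).image U.ι.continuous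
    have he : U.ι '' (U.ι ⁻¹' (V : Set X)) = ((U ⊓ V : X.Opens) : Set X) := by
      rw [Set.image_preimage_eq_range_inter]
      simp
    exact he ▸ h
  have hC : IsCompact (hV.fromSpec ⁻¹' (U : Set X)) ∧ IsOpen (hV.fromSpec ⁻¹' (U : Set X)) := by
    refine ⟨?_, U.2.preimage hV.fromSpec.continuous⟩
    rw [hV.fromSpec.isOpenEmbedding.isInducing.isCompact_iff, Set.image_preimage_eq_range_inter,
      hV.range_fromSpec, Set.inter_comm]
    exact hcp
  obtain ⟨G, hG⟩ := PrimeSpectrum.isCompact_isOpen_iff.1 hC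
  set p := hV.primeIdealOf ⟨x, hxV⟩
  letI : Algebra Γ(X, V) (X.presheaf.stalk x) := TopCat.Presheaf.algebra_section_stalk X.presheaf ⟨x, hxV⟩
  haveI : IsLocalization.AtPrime (X.presheaf.stalk x) p.asIdeal := hV.isLocalization_stalk ⟨x, hxV⟩
  haveI := (hX x).1
  obtain ⟨g, s, hsp, hgs⟩ := exists_notMem_forall_prime p.asIdeal (X.presheaf.stalk x) (hX x).2
    (G : Set Γ(X, V)) G.finite_toSet
  refine ⟨X.basicOpen s, ?_, hV.basicOpen s, ?_⟩
  · have : p ∈ hV.fromSpec ⁻¹ᵁ X.basicOpen s := by rw [hV.fromSpec_preimage_basicOpen]; exact hsp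
    have h2 : hV.fromSpec p ∈ X.basicOpen s := this
    rwa [hV.fromSpec_primeIdealOf] at h2
  · rw [← U.ι.isAffineOpen_iff_of_isOpenImmersion, Scheme.Hom.image_preimage_eq_opensRange_inf,
      Scheme.Opens.opensRange_ι]
    suffices U ⊓ X.basicOpen s = X.basicOpen (g * s) by rw [this]; exact hV.basicOpen _
    ext y
    by_cases hy : y ∈ V
    · set q := hV.primeIdealOf ⟨y, hy⟩
      have hq : hV.fromSpec q = y := hV.fromSpec_primeIdealOf ⟨y, hy⟩
      have hb : ∀ a : Γ(X, V), (y ∈ X.basicOpen a ↔ a ∉ q.asIdeal) := fun a => by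
        rw [← hq]
        exact iff_of_eq (congrArg (fun W : (Spec Γ(X, V)).Opens => q ∈ W) (hV.fromSpec_preimage_basicOpen a))
      have hU : y ∈ U ↔ ∃ a ∈ (G : Set Γ(X, V)), a ∉ q.asIdeal := by
        have h1 : y ∈ U ↔ q ∈ hV.fromSpec ⁻¹' (U : Set X) := by
          show y ∈ U ↔ hV.fromSpec q ∈ (U : Set X)
          rw [hq]; rfl
        rw [h1, ← hG]
        exact Set.not_subset
      simp only [SetLike.mem_coe, TopologicalSpace.Opens.mem_inf, hb, hU,
        Ideal.IsPrime.mul_mem_iff_mem_or_mem, not_or]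
      exact ⟨fun ⟨h1, h2⟩ => ⟨(hgs _ q.2 h2).1 h1, h2⟩, fun ⟨h1, h2⟩ => ⟨(hgs _ q.2 h2).2 h1, h2⟩⟩
    · exact ⟨fun h => absurd (X.basicOpen_le s h.2) hy, fun h => absurd (X.basicOpen_le _ h) hy⟩

/-- Let X be a scheme whose local rings are Noetherian of Krull dimension at most one, j : U → X the
inclusion of a retrocompact open (j quasi-compact) and F a quasi-coherent O_U-module. Then R^p j_* F
vanishes for all p > 0. -/
theorem result (X : Scheme.{u})
    (hX : ∀ x : X, IsNoetherianRing (X.presheaf.stalk x) ∧ ringKrullDim (X.presheaf.stalk x) ≤ 1)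
    (U : X.Opens) [QuasiCompact U.ι] [HasInjectiveResolutions (U : Scheme.{u}).Modules]
    (F : (U : Scheme.{u}).Modules) (hF : Coh.IsQCoh F) (p : ℕ) (hp : 0 < p) :
    IsZero ((Coh.Rpush U.ι p).obj F) := by
  haveI : IsAffineHom U.ι := isAffineHom_ι X hX U
  haveI : F.IsQuasicoherent := hF
  obtain ⟨m, rfl⟩ : ∃ m, p = m + 1 := ⟨p - 1, by omega⟩
  have hz := (H10Coh.isZero_rpushAb_of_isAffineHom U.ι F m).of_iso
    (H10Coh.nonempty_toAb_rpush U.ι F (m + 1)).some
  haveI : (SheafOfModules.toSheaf X.ringCatSheaf).Faithful := inferInstance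
  exact (IsZero.iff_id_eq_zero _).2 ((SheafOfModules.toSheaf X.ringCatSheaf).map_injective
    (hz.eq_of_src _ _))

end Groth.Agent.S1663
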