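import Groth.Statements.S16638
import Groth.Agent.H21Split.Bru.UPsi
-- import your own Groth.Agent.* helpers here

set_option autoImplicit false
open CategoryTheory MonoidalCategory CartesianMonoidalCategory MonObj GrpObj AlgebraicGeometry
universe u
open RedSub

namespace Groth.Agent.S16638

/-- Let G be a reductive group scheme over a scheme S with a splitting D, and let Ψ be a closed set of
roots (a, b ∈ Ψ with a + b a root forces a + b ∈ Ψ) containing no pair of opposite roots. Then the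
root groups U_a, a ∈ Ψ, directly span, in any order, one and the same closed subgroup scheme U_Ψ of
G: U_Ψ is smooth over S with connected geometric fibres containing no non-trivial subtorus, it is
normalised by the torus of the splitting, and for every enumeration of Ψ the ordered product of the
root homomorphisms is an isomorphism from a power of the additive group onto U_Ψ. -/
theorem result {S : Scheme.{u}} {G : Over S} [GrpObj G]
    (D : Red.SplitRed G) (Ψ : Set D.idx)
    (hcl : ∀ a b c : D.idx, a ∈ Ψ → b ∈ Ψ → D.P.root a + D.P.root b = D.P.root c → c ∈ Ψ)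
    (hneg : ∀ a b : D.idx, a ∈ Ψ → D.P.root b = -D.P.root a → b ∉ Ψ) :
    ∃ (U : Over S) (_ : GrpObj U) (v : U ⟶ G), IsMonHom v ∧ IsClosedImmersion v.left ∧ Smooth U.hom ∧
      (∀ s : S, ConnectedSpace (Red.geomFibre s U).left ∧
        Red.HasNoSubtorus (AlgebraicClosure (S.residueField s)) (Red.geomFibre s U)) ∧
      (∀ (X : Over S) (t : X ⟶ D.T) (x : X ⟶ U), ∃ x' : X ⟶ U, (t ≫ D.i) * (x ≫ v) * (t ≫ D.i)⁻¹ = x' ≫ v) ∧
      ∀ {m : ℕ} (e : Fin m → D.idx), RedSub.Enumerates Ψ e →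
        ∃ ψ : RedSub.pow (Red.Ga S) m ≅ U, ψ.hom ≫ v = RedSub.prodMap (Red.Ga S) m (fun k => D.u (e k)) := by
  obtain ⟨m₀, e₀, he₀, hr₀⟩ := H21Split.exists_enum D Ψ
  have he : RedSub.Enumerates Ψ e₀ := ⟨he₀, hr₀⟩
  have hΨ : H21Split.IsPosSet D.P Ψ := ⟨hcl, hneg⟩
  obtain ⟨hgrp, hmon⟩ := H21Split.exists_uPsiGrp D hΨ he
  letI := hgrp
  haveI := hmon
  refine ⟨RedSub.pow (Red.Ga S) m₀, hgrp, RedSub.prodMap (Red.Ga S) m₀ (fun k => D.u (e₀ k)), hmon,
    H21Split.isClosedImmersion_prodMap D hΨ he, H21Split.smooth_pow H21Rank1.smooth_Ga m₀,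
    fun s => ⟨H21Split.connected_fib_pow D (Red.geomPt s) m₀, H21Split.hasNoSubtorus_uPsi D hΨ he (Red.geomPt s)⟩,
    fun X t x => ?_, fun e' he' => H21Split.exists_iso_reorder D hΨ he he'⟩
  obtain ⟨x', hx'⟩ := H21Split.exists_lift_prodMap D hΨ he
    ((t ≫ D.i) * (x ≫ RedSub.prodMap (Red.Ga S) m₀ (fun k => D.u (e₀ k))) * (t ≫ D.i)⁻¹) fun R _ g j => by
      rw [MonObj.comp_mul, MonObj.comp_mul, GrpObj.comp_inv, ← Category.assoc j t]
      exact H21Split.Tg_conj_mem D g (H21Split.pt_mem_Tg D g _) (H21Split.comp_prodMap_mem D hΨ he g j x)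
  exact ⟨x', hx'.symm⟩

end Groth.Agent.S16638
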