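import Groth.Statements.S1664
import Mathlib
import Groth.Agent.H22Alg.AmpleFromGG

set_option autoImplicit false
universe u
open CategoryTheory CategoryTheory.Limits AlgebraicGeometry
open Variety

namespace Groth.Agent.S1664

/-- Let X be quasi-compact. Suppose every point of X lies in the locus where some global section s of
some globally generated invertible module L generates L, with that locus affine. Then X has an ample
invertible module. -/
theorem result (X : Scheme.{u}) [CompactSpace X]
    (h : ∀ x : X, ∃ (L : X.Modules) (s : Coh.structureModule X ⟶ L), PicF.IsInvertible L ∧ Curv2.IsGloballyGenerated L ∧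
      x ∈ CohB1.genLocus L s ∧ IsAffineOpen (CohB1.genLocus L s)) :
    ∃ M : X.Modules, CohB1.IsAmple M := by
  refine Groth.Agent.H22Alg.AmpleFromGG.exists_ample fun x => ?_
  obtain ⟨L, s, hL, hg, hx, ha⟩ := h x
  rw [Groth.Agent.H11Ample.genLocus_eq_gen] at hx ha
  exact ⟨L, _, hL, hg, hx, ha⟩

end Groth.Agent.S1664
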