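import Groth.Statements.S16644
import Mathlib.LinearAlgebra.Matrix.Determinant.Basic
import Mathlib.Algebra.CharP.Two
import Mathlib.RingTheory.Ideal.Quotient.Basic
import Mathlib.Tactic

set_option autoImplicit false
open QuadZ

namespace Groth.Agent.S16644

theorem det_eq_zero_of_odd {m : Type*} [Fintype m] [DecidableEq m] {A : Type*} [CommRing A] (h2 : (2 : A) = 0)
    (hm : Odd (Fintype.card m)) (M : Matrix m m A) (hs : ∀ i j, M i j = M j i) (hd : ∀ i, M i i = 0) : M.det = 0 := by
  classical
  rw [Matrix.det_apply']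
  have hneg : ∀ a : A, -a = a := fun a => by linear_combination -a * h2
  have hsign : ∀ σ : Equiv.Perm m, ((Equiv.Perm.sign σ : ℤ) : A) = 1 := by
    intro σ
    rcases Int.units_eq_one_or (Equiv.Perm.sign σ) with h | h <;> simp [h, hneg]
  simp only [hsign, one_mul]
  refine Finset.sum_involution (fun σ _ => σ⁻¹) ?_ ?_ (fun _ _ => Finset.mem_univ _) (fun _ _ => inv_inv _)
  · intro σ _
    have : ∏ i, M (σ⁻¹ i) i = ∏ i, M (σ i) i :=
      Fintype.prod_equiv σ⁻¹ _ _ fun i => by rw [hs]; simp
    rw [this]; linear_combination (∏ i, M (σ i) i) * h2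
  · intro σ _ hne heq
    apply hne
    by_contra hprod
    have hfix : ∀ i, σ i ≠ i := fun i hi => hprod (Finset.prod_eq_zero (Finset.mem_univ i) (by rw [hi, hd]))
    have hsq : σ ^ 2 ^ 1 = 1 := by rw [pow_one, pow_two]; nth_rw 1 [← heq]; exact inv_mul_cancel σ
    obtain ⟨i, hi⟩ := Equiv.Perm.exists_fixed_point_of_prime (p := 2) (n := 1) (by simpa [Nat.odd_iff, Nat.two_dvd_ne_zero] using hm) hsq
    exact hfix i hi

/-- For odd n, the discriminant of the universal quadratic form Σ_{i ≤ j} A_{ij} x_i x_j in n variables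
(variables A_{ij} indexed by unordered pairs), i.e. the determinant of the symmetric matrix with
diagonal entries 2 A_{ii} and off-diagonal entries A_{ij}, is divisible by 2 in the integral
polynomial ring ℤ[A_{ij}] (so the half-discriminant is an integral polynomial). -/
theorem result (n : ℕ) (hn : Odd n) :
    (2 : MvPolynomial (Sym2 (Fin n)) ℤ) ∣
      (Matrix.of fun i j : Fin n =>
        if i = j then 2 * MvPolynomial.X (R := ℤ) (σ := Sym2 (Fin n)) (Sym2.mk i j)
        else MvPolynomial.X (R := ℤ) (σ := Sym2 (Fin n)) (Sym2.mk i j)).det := by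
  rw [← Ideal.mem_span_singleton, ← Ideal.Quotient.eq_zero_iff_mem]
  rw [RingHom.map_det]
  refine det_eq_zero_of_odd ?_ (by simpa using hn) _ ?_ ?_
  · rw [← map_ofNat (Ideal.Quotient.mk _)]
    exact Ideal.Quotient.eq_zero_iff_mem.mpr (Ideal.mem_span_singleton_self _)
  · intro i j
    simp only [RingHom.mapMatrix_apply, Matrix.map_apply, Matrix.of_apply]
    by_cases h : i = j
    · subst h; rfl
    · rw [if_neg h, if_neg (Ne.symm h), Sym2.eq_swap]
  · intro i
    simp only [RingHom.mapMatrix_apply, Matrix.map_apply, Matrix.of_apply, if_pos, map_mul]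
    rw [Ideal.Quotient.eq_zero_iff_mem.mpr (Ideal.mem_span_singleton_self (2 : MvPolynomial (Sym2 (Fin n)) ℤ)), zero_mul]

end Groth.Agent.S16644
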