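import Groth.Statements.S16647
import Groth.Agent.H19Grp.KernelSquare
import Groth.Agent.H18Descent.Basic

set_option autoImplicit false
set_option maxHeartbeats 1000000
set_option synthInstance.maxHeartbeats 100000
set_option linter.style.haveILetI false
set_option backward.isDefEq.respectTransparency false
open CategoryTheory MonoidalCategory CartesianMonoidalCategory MonObj GrpObj AlgebraicGeometry
universe u
open GrpSch

namespace Groth.Agent.S16647

open Limits MonoidalCategory CartesianMonoidalCategory MonObj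


/-- In a commutative diagram of short exact sequences of S-group schemes that are flat, separated and of
finite presentation over a scheme S (in each row the first homomorphism is the kernel of the second
and the second is a flat surjection), if the two outer vertical homomorphisms are closed immersions
then so is the middle one. -/
theorem result {S : Scheme.{u}}
    {H₁' H₁ H₁'' H₂' H₂ H₂'' : Over S} [GrpObj H₁'] [GrpObj H₁] [GrpObj H₁''] [GrpObj H₂'] [GrpObj H₂] [GrpObj H₂'']
    [Flat H₁'.hom] [Flat H₁.hom] [Flat H₁''.hom] [Flat H₂'.hom] [Flat H₂.hom] [Flat H₂''.hom]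
    [IsSeparated H₁'.hom] [IsSeparated H₁.hom] [IsSeparated H₁''.hom]
    [IsSeparated H₂'.hom] [IsSeparated H₂.hom] [IsSeparated H₂''.hom]
    [QuasiCompact H₁'.hom] [QuasiCompact H₁.hom] [QuasiCompact H₁''.hom]
    [QuasiCompact H₂'.hom] [QuasiCompact H₂.hom] [QuasiCompact H₂''.hom]
    [LocallyOfFinitePresentation H₁'.hom] [LocallyOfFinitePresentation H₁.hom] [LocallyOfFinitePresentation H₁''.hom]
    [LocallyOfFinitePresentation H₂'.hom] [LocallyOfFinitePresentation H₂.hom] [LocallyOfFinitePresentation H₂''.hom]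
    (a₁ : H₁' ⟶ H₁) (b₁ : H₁ ⟶ H₁'') (a₂ : H₂' ⟶ H₂) (b₂ : H₂ ⟶ H₂'')
    [IsMonHom a₁] [IsMonHom b₁] [IsMonHom a₂] [IsMonHom b₂]
    (h₁ : AlgGrp.IsKernel a₁ b₁) (hb₁ : Flat b₁.left ∧ Surjective b₁.left)
    (h₂ : AlgGrp.IsKernel a₂ b₂) (hb₂ : Flat b₂.left ∧ Surjective b₂.left)
    (j' : H₁' ⟶ H₂') (j : H₁ ⟶ H₂) (j'' : H₁'' ⟶ H₂'') [IsMonHom j'] [IsMonHom j] [IsMonHom j'']
    (sq₁ : a₁ ≫ j = j' ≫ a₂) (sq₂ : b₁ ≫ j'' = j ≫ b₂)
    (hj' : IsClosedImmersion j'.left) (hj'' : IsClosedImmersion j''.left) :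
    IsClosedImmersion j.left := by
  haveI := hb₁.1; haveI := hb₁.2; haveI := hb₂.1
  haveI : QuasiCompact b₁.left := by
    haveI : QuasiCompact (b₁.left ≫ H₁''.hom) := by rw [Over.w]; infer_instance
    exact QuasiCompact.of_comp b₁.left H₁''.hom
  let m₁ : H₁ ⊗ H₁' ⟶ H₁ := fst H₁ H₁' * (snd H₁ H₁' ≫ a₁)
  let m₂ : H₂ ⊗ H₂' ⟶ H₂ := fst H₂ H₂' * (snd H₂ H₂' ≫ a₂)
  let n₂ : H₁ ⊗ H₂' ⟶ H₂ := (j ▷ H₂') ≫ m₂
  let v : H₁ ⊗ H₁' ⟶ H₁ ⊗ H₂' := H₁ ◁ j'
  have hm : m₁ ≫ j = v ≫ n₂ := by
    simp only [m₁, n₂, m₂, v, MonObj.mul_comp, MonObj.comp_mul, Category.assoc, sq₁]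
    simp
  have hE : IsPullback (fst H₁ H₁') m₁ b₁ b₁ := Groth.Agent.H19Grp.isPullback_kernel b₁ a₁ h₁
  have hF : IsPullback (fst H₁ H₂') n₂ (j ≫ b₂) b₂ := by
    have hA : IsPullback (fst H₁ H₂') (j ▷ H₂') j (fst H₂ H₂') := by
      refine ⟨⟨(whiskerRight_fst _ _).symm⟩, ⟨PullbackCone.isLimitAux' _ fun s =>
        ⟨lift s.fst (s.snd ≫ snd H₂ H₂'), lift_fst _ _, ?_, fun {m} h₁ h₂ => ?_⟩⟩⟩
      · show lift s.fst (s.snd ≫ snd H₂ H₂') ≫ (j ▷ H₂') = s.snd
        rw [lift_whiskerRight]
        apply CartesianMonoidalCategory.hom_ext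
        · rw [lift_fst]; exact s.condition
        · rw [lift_snd]
      · apply CartesianMonoidalCategory.hom_ext
        · rw [lift_fst]; exact h₁
        · rw [lift_snd, ← show m ≫ (j ▷ H₂') = s.snd from h₂, Category.assoc, whiskerRight_snd]
    exact hA.paste_vert (Groth.Agent.H19Grp.isPullback_kernel b₂ a₂ h₂)
  have hvE : IsClosedImmersion v.left := by
    haveI := hj'
    show IsClosedImmersion (H₁ ◁ j').left
    have : IsPullback (snd H₁ H₁') (H₁ ◁ j') j' (snd H₁ H₂') := by
      refine ⟨⟨(whiskerLeft_snd _ _).symm⟩, ⟨PullbackCone.isLimitAux' _ fun s =>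
        ⟨lift (s.snd ≫ fst H₁ H₂') s.fst, lift_snd _ _, ?_, fun {m} h₁ h₂ => ?_⟩⟩⟩
      · show lift (s.snd ≫ fst H₁ H₂') s.fst ≫ (H₁ ◁ j') = s.snd
        rw [lift_whiskerLeft]
        apply CartesianMonoidalCategory.hom_ext
        · rw [lift_fst]
        · rw [lift_snd]; exact s.condition
      · apply CartesianMonoidalCategory.hom_ext
        · rw [lift_fst, ← show m ≫ (H₁ ◁ j') = s.snd from h₂, Category.assoc, whiskerLeft_fst]
        · rw [lift_snd]; exact h₁
    exact MorphismProperty.of_isPullback (P := @IsClosedImmersion) (this.map (Over.forget S)) hj'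
  have hE' := hE.map (Over.forget S)
  have hF' := hF.map (Over.forget S)
  simp only [Over.forget_map] at hE' hF'
  let pP : pullback b₂.left j''.left ⟶ H₁''.left := pullback.snd _ _
  let k : H₁.left ⟶ pullback b₂.left j''.left := pullback.lift j.left b₁.left (by
    rw [← Over.comp_left, ← Over.comp_left, sq₂])
  let l : (H₁ ⊗ H₂').left ⟶ pullback b₂.left j''.left := pullback.lift n₂.left ((fst H₁ H₂').left ≫ b₁.left) (by
    rw [← Over.comp_left, ← Over.comp_left, ← Over.comp_left, Category.assoc (fst H₁ H₂'), sq₂]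
    exact congrArg Over.Hom.left hF.w.symm)
  have hl : IsPullback l (fst H₁ H₂').left pP b₁.left := by
    refine IsPullback.of_right (h₁₂ := pullback.fst b₂.left j''.left) ?_ (pullback.lift_snd _ _ _)
      (IsPullback.of_hasPullback b₂.left j''.left)
    rw [show l ≫ pullback.fst b₂.left j''.left = n₂.left from pullback.lift_fst _ _ _,
      ← Over.comp_left, sq₂]
    exact hF'.flip
  have hsq : IsPullback m₁.left v.left k l := by
    refine IsPullback.of_bot (v₂₁ := (fst H₁ H₂').left) (v₂₂ := pP) ?_ ?_ hl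
    · rw [show k ≫ pP = b₁.left from pullback.lift_snd _ _ _, show v.left ≫ (fst H₁ H₂').left = (fst H₁ H₁').left by
        rw [← Over.comp_left]; congr 1; exact whiskerLeft_fst _ _]
      exact hE'.flip
    · apply pullback.hom_ext
      · rw [Category.assoc, Category.assoc, pullback.lift_fst, pullback.lift_fst, ← Over.comp_left, ← Over.comp_left, hm]
      · rw [Category.assoc, Category.assoc, pullback.lift_snd, pullback.lift_snd, ← Over.comp_left, ← Over.comp_left,
          ← Over.comp_left]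
        congr 1
        rw [← Category.assoc, whiskerLeft_fst]
        exact hE.w.symm
  have hlQ : Groth.Agent.H18Descent.fpqc l := MorphismProperty.of_isPullback hl.flip ⟨⟨inferInstance, inferInstance⟩, inferInstance⟩
  haveI : IsClosedImmersion k := MorphismProperty.of_isPullback_of_descendsAlong
    (Q := Groth.Agent.H18Descent.fpqc) hsq.flip hlQ hvE
  haveI := hj''
  haveI : IsClosedImmersion (pullback.fst b₂.left j''.left) :=
    MorphismProperty.pullback_fst (P := @IsClosedImmersion) _ _ hj''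
  have hj : j.left = k ≫ pullback.fst b₂.left j''.left := (pullback.lift_fst _ _ _).symm
  rw [hj]
  infer_instance

end Groth.Agent.S16647
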