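import Groth.Statements.S16651
import Groth.Agent.H02CA.Cliff.EvenMatrix

set_option autoImplicit false
universe u v
open scoped TensorProduct
open QuadZ

namespace Groth.Agent.S16651

/-- For a free module over an affine base, let Q be a non-degenerate quadratic form (polar form a
perfect pairing) on a free module V of even rank 2m ≥ 2 over a commutative ring A. Then fppf-locally
on A the Clifford algebra C(V,Q) is a matrix algebra of size 2^m and its even part a product of two
matrix algebras of size 2^(m-1) (there is a faithfully flat finitely presented A-algebra A'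
realising both), the centre of C(V,Q) is A, the map V → C(V,Q) is injective onto a direct summand,
and the even part is the centralizer in C(V,Q) of its own centre. -/
theorem result (A : Type u) [CommRing A] (V : Type u)
    [AddCommGroup V] [Module A V] [Module.Free A V] [Module.Finite A V] (m : ℕ) (hm : 1 ≤ m)
    (hV : Module.finrank A V = 2 * m) (Q : QuadraticForm A V) (hQ : Function.Bijective (QuadraticMap.polarBilin Q)) :
    (∃ (A' : Type u) (_ : CommRing A') (_ : Algebra A A'), Module.FaithfullyFlat A A' ∧ Algebra.FinitePresentation A A' ∧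
        Nonempty ((A' ⊗[A] CliffordAlgebra Q) ≃ₐ[A'] Matrix (Fin (2 ^ m)) (Fin (2 ^ m)) A') ∧
        Nonempty ((A' ⊗[A] ↥(CliffordAlgebra.even Q)) ≃ₐ[A']
          (Matrix (Fin (2 ^ (m - 1))) (Fin (2 ^ (m - 1))) A' × Matrix (Fin (2 ^ (m - 1))) (Fin (2 ^ (m - 1))) A'))) ∧
    Subalgebra.center A (CliffordAlgebra Q) = ⊥ ∧
    (Function.Injective (CliffordAlgebra.ι Q) ∧
      ∃ W : Submodule A (CliffordAlgebra Q), IsCompl (LinearMap.range (CliffordAlgebra.ι Q)) W) ∧
    Subalgebra.centralizer A
        ((CliffordAlgebra.even Q).val '' (Subalgebra.center A ↥(CliffordAlgebra.even Q) : Set ↥(CliffordAlgebra.even Q))) =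
      CliffordAlgebra.even Q := by
  haveI : Nontrivial A := by
    rcases subsingleton_or_nontrivial A with h | h
    · have := Module.finrank_subsingleton (R := A) (M := V)
      omega
    · exact h
  let b := Module.finBasisOfFinrankEq A V hV
  obtain ⟨B, i1, i2, hff, hfp, e, f, h⟩ := Groth.Agent.H02CA.Cliff.exists_hyp_fppf b Q hQ
  refine ⟨⟨B, i1, i2, hff, hfp, Groth.Agent.H02CA.Cliff.matrix_equiv b h, Groth.Agent.H02CA.Cliff.even_equiv b h hm⟩,
    Groth.Agent.H02CA.Cliff.center_eq_bot b h hm hQ, ⟨Groth.Agent.H21Clif.ι_injective b, ?_⟩,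
    Groth.Agent.H02CA.Cliff.centralizer_center_even b hm hQ⟩
  classical
  let c := Groth.Agent.H21Clif.cBasis b Q
  refine ⟨Submodule.span A (c '' {S | S.card ≠ 1}), ?_⟩
  have hrange : LinearMap.range (CliffordAlgebra.ι Q) = Submodule.span A (c '' {S | S.card = 1}) := by
    refine le_antisymm ?_ (Submodule.span_le.mpr ?_)
    · rintro _ ⟨v, rfl⟩
      rw [← b.sum_repr v, map_sum]
      refine Submodule.sum_mem _ fun i _ => ?_
      rw [map_smul, ← Groth.Agent.H21Clif.cBasis_singleton]
      exact Submodule.smul_mem _ _ (Submodule.subset_span ⟨{i}, Finset.card_singleton i, rfl⟩)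
    · rintro _ ⟨S, hS, rfl⟩
      obtain ⟨i, rfl⟩ := Finset.card_eq_one.mp hS
      exact ⟨b i, (Groth.Agent.H21Clif.cBasis_singleton b Q i).symm⟩
  rw [hrange]
  refine ⟨c.linearIndependent.disjoint_span_image (Set.disjoint_left.mpr fun S h1 h2 => h2 h1), ?_⟩
  rw [codisjoint_iff, ← Submodule.span_union, ← Set.image_union,
    show {S : Finset (Fin (2 * m)) | S.card = 1} ∪ {S | S.card ≠ 1} = Set.univ from
      Set.eq_univ_of_forall fun S => em _, Set.image_univ, c.span_eq]

end Groth.Agent.S16651
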