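import Groth.Statements.S16652
import Groth.Agent.H21Split.Bru.FiltIso
-- import your own Groth.Agent.* helpers here

set_option autoImplicit false
open CategoryTheory MonoidalCategory CartesianMonoidalCategory MonObj GrpObj AlgebraicGeometry
universe u
open RedSub

namespace Groth.Agent.S16652

/-- With G a reductive group scheme over a scheme S with splitting D, Ψ a closed set of roots without
opposite pairs, λ ∈ M^∨ non-vanishing on the roots and positive on Ψ, and n ≥ 1, let U₁ ⊃ U₂ be the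
closed subgroups directly spanned by the root groups U_a (a ∈ Ψ) with λ(a) ≥ n, resp. λ(a) ≥ n + 1.
Then U₂ is normal in U₁, root groups U_a, U_b with λ(a) = λ(b) = n commute modulo U₂, and
multiplication (∏_{λ(a) = n} U_a) × U₂ → U₁ (product in any order) is an isomorphism of schemes;
thus U₁/U₂ is the vector group ∏_{λ(a)=n} U_a. -/
theorem result {S : Scheme.{u}} {G : Over S} [GrpObj G]
    (D : Red.SplitRed G) (Ψ : Set D.idx)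
    (hcl : ∀ a b c : D.idx, a ∈ Ψ → b ∈ Ψ → D.P.root a + D.P.root b = D.P.root c → c ∈ Ψ)
    (hneg : ∀ a b : D.idx, a ∈ Ψ → D.P.root b = -D.P.root a → b ∉ Ψ)
    (lam : Module.Dual ℤ D.M) (hlam : ∀ a : D.idx, lam (D.P.root a) ≠ 0) (hpos : ∀ a ∈ Ψ, 0 < lam (D.P.root a))
    (n : ℕ) (hn : 1 ≤ n)
    {U₁ U₂ : Over S} [GrpObj U₁] [GrpObj U₂] (v₁ : U₁ ⟶ G) (v₂ : U₂ ⟶ G) [IsMonHom v₁] [IsMonHom v₂]
    (hv₁ : IsClosedImmersion v₁.left) (hv₂ : IsClosedImmersion v₂.left)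
    (hU₁ : ∀ {m : ℕ} (e : Fin m → D.idx), RedSub.Enumerates {a | a ∈ Ψ ∧ (n : ℤ) ≤ lam (D.P.root a)} e →
      ∃ ψ : RedSub.pow (Red.Ga S) m ≅ U₁, ψ.hom ≫ v₁ = RedSub.prodMap (Red.Ga S) m (fun k => D.u (e k)))
    (hU₂ : ∀ {m : ℕ} (e : Fin m → D.idx), RedSub.Enumerates {a | a ∈ Ψ ∧ (n : ℤ) + 1 ≤ lam (D.P.root a)} e →
      ∃ ψ : RedSub.pow (Red.Ga S) m ≅ U₂, ψ.hom ≫ v₂ = RedSub.prodMap (Red.Ga S) m (fun k => D.u (e k))) :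
    (∃ f : U₂ ⟶ U₁, f ≫ v₁ = v₂ ∧ IsMonHom f ∧ AlgGrp.IsNormalHom f) ∧
    (∀ (a b : D.idx), a ∈ Ψ → b ∈ Ψ → lam (D.P.root a) = n → lam (D.P.root b) = n →
      ∀ (X : Over S) (x y : X ⟶ Red.Ga S), ∃ w : X ⟶ U₂,
        (x ≫ D.u a) * (y ≫ D.u b) * (x ≫ D.u a)⁻¹ * (y ≫ D.u b)⁻¹ = w ≫ v₂) ∧
    ∀ {m : ℕ} (e : Fin m → D.idx), RedSub.Enumerates {a | a ∈ Ψ ∧ lam (D.P.root a) = n} e →
      ∃ ψ : RedSub.pow (Red.Ga S) m ⊗ U₂ ≅ U₁,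
        ψ.hom ≫ v₁ = (fst _ _ ≫ RedSub.prodMap (Red.Ga S) m (fun k => D.u (e k))) * (snd _ _ ≫ v₂) := by
  have hΨ : H21Split.IsPosSet D.P Ψ := ⟨hcl, hneg⟩
  let h : D.M →+ ℤ := lam.toAddMonoidHom
  have hh : ∀ a ∈ Ψ, 0 < h (D.P.root a) := hpos
  have hP : ∀ k : ℤ, 0 ≤ k → H21Split.IsPosSet D.P {a | a ∈ Ψ ∧ k ≤ lam (D.P.root a)} := fun k hk =>
    (H21Split.isPosSet_level D h hΨ k).mpr fun a b c ha hb hka hkb hc => by
      rw [← hc, map_add]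
      omega
  obtain ⟨m₁, e₁, he₁, hr₁⟩ := H21Split.exists_enum D {a | a ∈ Ψ ∧ (n : ℤ) ≤ lam (D.P.root a)}
  obtain ⟨m₂, e₂, he₂, hr₂⟩ := H21Split.exists_enum D {a | a ∈ Ψ ∧ (n : ℤ) + 1 ≤ lam (D.P.root a)}
  obtain ⟨ψ₁, hψ₁⟩ := hU₁ e₁ ⟨he₁, hr₁⟩
  obtain ⟨ψ₂, hψ₂⟩ := hU₂ e₂ ⟨he₂, hr₂⟩
  have hP1 := hP n (by omega)
  have hP2 := hP ((n : ℤ) + 1) (by omega)
  haveI := hv₁
  haveI := hv₂
  haveI : Mono v₁ := Over.mono_of_mono_left _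
  have mem₁ : ∀ (R : Type u) [CommRing R] (g : Spec (CommRingCat.of R) ⟶ S) (j : H21Split.pt g R ⟶ U₁),
      j ≫ v₁ ∈ H21Split.Ug D g {a | a ∈ Ψ ∧ (n : ℤ) ≤ lam (D.P.root a)} := fun R _ g j =>
    (H21Split.mem_Ug_prodMap D hP1 ⟨he₁, hr₁⟩ g _).mpr ⟨j ≫ ψ₁.inv, by
      rw [← hψ₁, Category.assoc, Iso.inv_hom_id_assoc]⟩
  have mem₂ : ∀ (R : Type u) [CommRing R] (g : Spec (CommRingCat.of R) ⟶ S) (j : H21Split.pt g R ⟶ U₂),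
      j ≫ v₂ ∈ H21Split.Ug D g {a | a ∈ Ψ ∧ (n : ℤ) + 1 ≤ lam (D.P.root a)} := fun R _ g j =>
    (H21Split.mem_Ug_prodMap D hP2 ⟨he₂, hr₂⟩ g _).mpr ⟨j ≫ ψ₂.inv, by
      rw [← hψ₂, Category.assoc, Iso.inv_hom_id_assoc]⟩
  have lift₂ : ∀ (X : Over S) (f : X ⟶ G), (∀ (R : Type u) [CommRing R] (g : Spec (CommRingCat.of R) ⟶ S)
      (j : H21Split.pt g R ⟶ X), j ≫ f ∈ H21Split.Ug D g {a | a ∈ Ψ ∧ (n : ℤ) + 1 ≤ lam (D.P.root a)}) →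
      ∃ w, w ≫ v₂ = f := fun X f hf => by
    obtain ⟨z, hz⟩ := H21Split.exists_lift_prodMap D hP2 ⟨he₂, hr₂⟩ f hf
    exact ⟨z ≫ ψ₂.hom, by rw [Category.assoc, hψ₂, hz]⟩
  have hmem : ∀ (R : Type u) [CommRing R] (g : Spec (CommRingCat.of R) ⟶ S),
      H21Split.Ug D g {a | a ∈ Ψ ∧ (n : ℤ) + 1 ≤ lam (D.P.root a)} ≤
        H21Split.Ug D g {a | a ∈ Ψ ∧ (n : ℤ) ≤ lam (D.P.root a)} := fun R _ g =>
    H21Split.Ug_mono D g fun a ha => ⟨ha.1, le_trans (by omega) ha.2⟩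
  obtain ⟨z, hz⟩ := H21Split.exists_lift_prodMap D hP1 ⟨he₁, hr₁⟩ v₂ fun R _ g j => hmem R g (mem₂ R g j)
  have hf : (z ≫ ψ₁.hom) ≫ v₁ = v₂ := by rw [Category.assoc, hψ₁, hz]
  refine ⟨⟨z ≫ ψ₁.hom, hf, ⟨?_, ?_⟩, fun X x w => ?_⟩, fun a b ha hb hla hlb X x y => ?_, fun e he => ?_⟩
  · rw [← cancel_mono v₁, Category.assoc, hf, IsMonHom.one_hom, IsMonHom.one_hom]
  · rw [← cancel_mono v₁, Category.assoc, hf, IsMonHom.mul_hom, Category.assoc, IsMonHom.mul_hom, ← Category.assoc,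
      tensorHom_comp_tensorHom, hf]
  · obtain ⟨w', hw'⟩ := lift₂ X ((x ≫ v₁) * (w ≫ v₂) * (x ≫ v₁)⁻¹) fun R _ g j => by
      rw [MonObj.comp_mul, MonObj.comp_mul, GrpObj.comp_inv, ← Category.assoc, ← Category.assoc]
      exact H21Split.conj_mem_level D h g hΨ hh (H21Split.Ug_mono D g (fun c hc => hc.1) (mem₁ R g _)) (mem₂ R g _)
    refine ⟨w', ?_⟩
    rw [← cancel_mono v₁, MonObj.mul_comp, MonObj.mul_comp, GrpObj.inv_comp, Category.assoc w, Category.assoc w', hf, hw']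
  · obtain ⟨w, hw⟩ := lift₂ X ((x ≫ D.u a) * (y ≫ D.u b) * (x ≫ D.u a)⁻¹ * (y ≫ D.u b)⁻¹) fun R _ g j => by
      have hx : ∀ (x : X ⟶ Red.Ga S) (c : D.idx),
          j ≫ x ≫ D.u c = H21Split.uPt g D c (H21Split.gv g (j ≫ x)) := fun x c => by
        rw [H21Split.uPt, H21Split.ga_gv, Category.assoc]
      rw [MonObj.comp_mul, MonObj.comp_mul, MonObj.comp_mul, GrpObj.comp_inv, GrpObj.comp_inv, hx, hx]
      refine H21Split.comm_mem_level D h g hΨ hh ha hb ?_ _ _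
      change _ ≤ lam (D.P.root a) + lam (D.P.root b)
      omega
    exact ⟨w, hw.symm⟩
  · have hinj := H21Split.append_injective D he.1 he₂ fun i j hij => by
      have h1 := (he.2.subset ⟨i, rfl⟩).2
      have h2 := (hr₂.subset ⟨j, rfl⟩).2
      rw [hij] at h1
      omega
    have hrange : Set.range (Fin.append e e₂) = {a | a ∈ Ψ ∧ (n : ℤ) ≤ lam (D.P.root a)} := by
      rw [H21Split.range_append, he.2, hr₂]
      ext c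
      simp only [Set.mem_union, Set.mem_ofPred_eq]
      constructor
      · rintro (⟨h1, h2⟩ | ⟨h1, h2⟩) <;> exact ⟨h1, by omega⟩
      · rintro ⟨h1, h2⟩
        rcases eq_or_lt_of_le h2 with h3 | h3
        · exact Or.inl ⟨h1, h3.symm⟩
        · exact Or.inr ⟨h1, by omega⟩
    obtain ⟨ψ, hψ⟩ := hU₁ _ ⟨hinj, hrange⟩
    refine ⟨whiskerLeftIso _ ψ₂.symm ≪≫ H21Split.powAddIso _ _ _ ≪≫ ψ, ?_⟩
    simp only [Iso.trans_hom, Category.assoc, hψ, H21Split.powAddIso_comp, MonObj.comp_mul, whiskerLeftIso_hom,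
      whiskerLeft_fst_assoc, whiskerLeft_snd_assoc, Iso.symm_hom]
    rw [← hψ₂, Iso.inv_hom_id_assoc]

end Groth.Agent.S16652
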