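import Groth.Statements.S16662
import Groth.Agent.H27Conn.Along

set_option autoImplicit false
universe v u
open TensorProduct
open Conn

namespace Groth.Agent.S16662

/-- Let B be an A-algebra with a receptacle of differentials (Ω, δ), Ω a finite free B-module, and let
E, F, G be B-modules with connections ∇_E, ∇_F, ∇_G, with E and F finitely presented. Equip
Hom_B(E,F), Hom_B(F,G) and Hom_B(E,G) with the induced connections (the connection ∇'' on Hom_B(X,Y)
being the one with (ev_x ⊗ 1)(∇'' φ) = ∇_Y(φ x) − (φ ⊗ 1)(∇_X x)), and Hom_B(F,G) ⊗ Hom_B(E,F) with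
the tensor product of these connections. Then the composition map Hom_B(F,G) ⊗ Hom_B(E,F) →
Hom_B(E,G), ψ ⊗ φ ↦ ψ ∘ φ, is horizontal. -/
theorem result {A : Type v} {B Ω E F G : Type u}
    [CommRing A] [CommRing B] [Algebra A B]
    [AddCommGroup Ω] [Module B Ω] [Module A Ω] [IsScalarTower A B Ω] [Module.Finite B Ω] [Module.Free B Ω]
    [AddCommGroup E] [Module B E] [Module A E] [IsScalarTower A B E] [Module.FinitePresentation B E]
    [AddCommGroup F] [Module B F] [Module A F] [IsScalarTower A B F] [Module.FinitePresentation B F]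
    [AddCommGroup G] [Module B G] [Module A G] [IsScalarTower A B G]
    (δ : Derivation A B Ω)
    (nE : E →ₗ[A] E ⊗[B] Ω) (hcE : Conn.IsConn δ nE)
    (nF : F →ₗ[A] F ⊗[B] Ω) (hcF : Conn.IsConn δ nF)
    (nG : G →ₗ[A] G ⊗[B] Ω) (hcG : Conn.IsConn δ nG)
    (nEF : (E →ₗ[B] F) →ₗ[A] (E →ₗ[B] F) ⊗[B] Ω) (hEF : Conn.IsHomConn nE nF nEF)
    (nFG : (F →ₗ[B] G) →ₗ[A] (F →ₗ[B] G) ⊗[B] Ω) (hFG : Conn.IsHomConn nF nG nFG)
    (nEG : (E →ₗ[B] G) →ₗ[A] (E →ₗ[B] G) ⊗[B] Ω) (hEG : Conn.IsHomConn nE nG nEG)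
    (nT : (F →ₗ[B] G) ⊗[B] (E →ₗ[B] F) →ₗ[A] ((F →ₗ[B] G) ⊗[B] (E →ₗ[B] F)) ⊗[B] Ω)
    (hT : Conn.IsTensorConn nFG nEF nT) :
    Conn.IsHorizontal nT nEG (TensorProduct.lift (LinearMap.llcomp B E F G)) := by
  refine Groth.Agent.H27Conn.isHorizontal_of_along fun θ z => ?_
  induction z using TensorProduct.induction_on with
  | zero => simp
  | tmul ψ φ =>
    rw [Groth.Agent.H27Conn.along_tensorConn hT, map_add]
    simp only [TensorProduct.lift.tmul, LinearMap.llcomp_apply']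
    rw [Groth.Agent.H27Conn.along_comp hEF hFG hEG]
  | add x y hx hy => simp only [map_add, hx, hy]

end Groth.Agent.S16662
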