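import Groth.Statements.S16663
import Groth.Agent.H27Conn.Along

set_option autoImplicit false
universe v u
open TensorProduct
open Conn

namespace Groth.Agent.S16663

/-- Let B be an A-algebra with a receptacle of differentials (Ω, δ), Ω a finite free B-module (the local
form of a weakly smooth scheme), and let M be a finitely ℤ-graded B-module presented as a finite
family of finite free B-modules M_i with integer degrees deg i (the local form of a graded vector
bundle), with total module Π_i M_i. Let ∇ be a connection on Π_i M_i preserving the grading, in the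
sense that (pr_j ⊗ 1)(∇(ι_i m)) = 0 for m ∈ M_i whenever deg i ≠ deg j, and let ∇_E be the induced
connection on the B-linear endomorphisms, the one with (ev_m ⊗ 1)(∇_E φ) = ∇(φ m) − (φ ⊗ 1)(∇ m).
Give B the connection b ↦ 1 ⊗ δ b. Then the supertrace, φ ↦ tr(ε ∘ φ) with ε = Σ_i (−1)^{deg i} ι_i
∘ pr_i the grading involution, is a horizontal map End_B(Π_i M_i) → B. -/
theorem result {A : Type v} {B Ω ι : Type u}
    [CommRing A] [CommRing B] [Algebra A B]
    [AddCommGroup Ω] [Module B Ω] [Module A Ω] [IsScalarTower A B Ω] [Module.Finite B Ω] [Module.Free B Ω]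
    [Fintype ι] [DecidableEq ι] (deg : ι → ℤ) (M : ι → Type u)
    [∀ i, AddCommGroup (M i)] [∀ i, Module B (M i)] [∀ i, Module A (M i)] [∀ i, IsScalarTower A B (M i)]
    [∀ i, Module.Free B (M i)] [∀ i, Module.Finite B (M i)]
    (δ : Derivation A B Ω) (nabla : (Π k, M k) →ₗ[A] (Π k, M k) ⊗[B] Ω) (hc : Conn.IsConn δ nabla)
    (hgr : ∀ i j : ι, deg i ≠ deg j → ∀ m : M i,
      TensorProduct.map (LinearMap.proj j : (Π k, M k) →ₗ[B] M j) LinearMap.id (nabla (LinearMap.single B M i m)) = 0)
    (nablaE : ((Π k, M k) →ₗ[B] (Π k, M k)) →ₗ[A] ((Π k, M k) →ₗ[B] (Π k, M k)) ⊗[B] Ω)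
    (hE : Conn.IsHomConn nabla nabla nablaE) :
    Conn.IsHorizontal nablaE (Conn.triv δ)
      (LinearMap.trace B (Π k, M k) ∘ₗ LinearMap.llcomp B (Π k, M k) (Π k, M k) (Π k, M k)
        (∑ i : ι, (LinearMap.single B M i) ∘ₗ (((-1 : B) ^ (deg i).natAbs) • (LinearMap.proj i : (Π k, M k) →ₗ[B] M i)))) := by
  classical
  refine Groth.Agent.H27Conn.isHorizontal_of_along fun θ φ => ?_
  set ε : (Π k, M k) →ₗ[B] (Π k, M k) :=
    ∑ i : ι, (LinearMap.single B M i) ∘ₗ (((-1 : B) ^ (deg i).natAbs) • (LinearMap.proj i : (Π k, M k) →ₗ[B] M i))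
  have hεj : ∀ (x : Π k, M k) (j : ι), ε x j = ((-1 : B) ^ (deg j).natAbs) • x j := by
    intro x j
    simp [ε, LinearMap.sum_apply, Finset.sum_apply, Pi.single_apply]
  have hcj : ∀ (i j : ι) (y : M i), deg i ≠ deg j →
      (Conn.along nabla θ (LinearMap.single B M i y)) j = 0 := by
    intro i j y hij
    have h := congrArg (Groth.Agent.H27Conn.contr (M j) θ) (hgr i j hij y)
    rwa [Groth.Agent.H27Conn.contr_map, map_zero] at h
  have hsgn : ∀ (i : ι), θ (δ ((-1 : B) ^ (deg i).natAbs)) = 0 := by
    intro i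
    rcases Nat.even_or_odd (deg i).natAbs with h | h <;> simp [h.neg_one_pow]
  have hcomm : ∀ x, Conn.along nabla θ (ε x) = ε (Conn.along nabla θ x) := by
    intro x
    rw [← Finset.univ_sum_single x, map_sum, map_sum, map_sum, map_sum]
    refine Finset.sum_congr rfl fun i _ => ?_
    have hs : ε (LinearMap.single B M i (x i)) = ((-1 : B) ^ (deg i).natAbs) • LinearMap.single B M i (x i) := by
      funext j
      rw [hεj, Pi.smul_apply]
      by_cases h : j = i
      · subst h; rfl
      · simp [h]
    show Conn.along nabla θ (ε (LinearMap.single B M i (x i))) = ε (Conn.along nabla θ (LinearMap.single B M i (x i)))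
    rw [hs, Groth.Agent.H27Conn.along_smul hc, hsgn, zero_smul, add_zero]
    funext j
    rw [hεj, Pi.smul_apply]
    by_cases h : deg i = deg j
    · rw [h]
    · rw [hcj i j (x i) h, smul_zero, smul_zero]
  simp only [LinearMap.comp_apply, LinearMap.llcomp_apply']
  rw [Groth.Agent.H27Conn.along_triv, ← Groth.Agent.H27Conn.trace_along hc hE,
    Groth.Agent.H27Conn.along_comp hE hE hE]
  have hε0 : Conn.along nablaE θ ε = 0 := LinearMap.ext fun x => by
    rw [Groth.Agent.H27Conn.along_homConn hE, hcomm, sub_self]; rfl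
  rw [hε0, LinearMap.zero_comp, zero_add]

end Groth.Agent.S16663
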