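import Groth.Statements.S16666
import Groth.Agent.H27Conn.Along

set_option autoImplicit false
universe v u
open TensorProduct
open Conn

namespace Groth.Agent.S16666

/-- Let B be an A-algebra with a receptacle of differentials (Ω, δ), Ω a finite free B-module, and let
E, F, G be B-modules with connections ∇_E, ∇_F, ∇_G, E finitely presented. Equip Hom_B(E,F) and
Hom_B(E, F ⊗ G) with the induced connections (the connection ∇'' on Hom_B(E,Y) being the one with
(ev_e ⊗ 1)(∇'' φ) = ∇_Y(φ e) − (φ ⊗ 1)(∇_E e)), and F ⊗ G and Hom_B(E,F) ⊗ G with the tensor-product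
connections. Then the canonical map Hom_B(E,F) ⊗ G → Hom_B(E, F ⊗ G), φ ⊗ g ↦ (e ↦ φ(e) ⊗ g), is
horizontal. (The published statement is for bounded complexes with termwise connections, the Hom
complex and the tensor-product complex; this row is the case of single modules, that is, complexes
concentrated in one degree.) -/
theorem result {A : Type v} {B Ω E F G : Type u}
    [CommRing A] [CommRing B] [Algebra A B]
    [AddCommGroup Ω] [Module B Ω] [Module A Ω] [IsScalarTower A B Ω] [Module.Finite B Ω] [Module.Free B Ω]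
    [AddCommGroup E] [Module B E] [Module A E] [IsScalarTower A B E] [Module.FinitePresentation B E]
    [AddCommGroup F] [Module B F] [Module A F] [IsScalarTower A B F]
    [AddCommGroup G] [Module B G] [Module A G] [IsScalarTower A B G]
    (δ : Derivation A B Ω)
    (nE : E →ₗ[A] E ⊗[B] Ω) (hcE : Conn.IsConn δ nE)
    (nF : F →ₗ[A] F ⊗[B] Ω) (hcF : Conn.IsConn δ nF)
    (nG : G →ₗ[A] G ⊗[B] Ω) (hcG : Conn.IsConn δ nG)
    (nEF : (E →ₗ[B] F) →ₗ[A] (E →ₗ[B] F) ⊗[B] Ω) (hEF : Conn.IsHomConn nE nF nEF)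
    (nFG : F ⊗[B] G →ₗ[A] (F ⊗[B] G) ⊗[B] Ω) (hFG : Conn.IsTensorConn nF nG nFG)
    (nH : (E →ₗ[B] F ⊗[B] G) →ₗ[A] (E →ₗ[B] F ⊗[B] G) ⊗[B] Ω) (hH : Conn.IsHomConn nE nFG nH)
    (nS : (E →ₗ[B] F) ⊗[B] G →ₗ[A] ((E →ₗ[B] F) ⊗[B] G) ⊗[B] Ω) (hS : Conn.IsTensorConn nEF nG nS) :
    Conn.IsHorizontal nS nH (TensorProduct.rTensorHomToHomRTensor (RingHom.id B) E F G) := by
  refine Groth.Agent.H27Conn.isHorizontal_of_along fun θ z => ?_
  induction z using TensorProduct.induction_on with
  | zero => simp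
  | tmul φ g =>
    rw [Groth.Agent.H27Conn.along_tensorConn hS, map_add]
    refine LinearMap.ext fun e => ?_
    simp only [Groth.Agent.H27Conn.along_homConn hH, LinearMap.add_apply, TensorProduct.rTensorHomToHomRTensor_apply,
      Groth.Agent.H27Conn.along_tensorConn hFG, Groth.Agent.H27Conn.along_homConn hEF, TensorProduct.sub_tmul]
    abel
  | add x y hx hy => simp only [map_add, hx, hy]

end Groth.Agent.S16666
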