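import Groth.Statements.S16667
import Groth.Agent.H3CAlg.C2
import Groth.Agent.H3CAlg.GorMCM
import Groth.Agent.H3CAlg.GorOne
import Groth.Agent.S0561
import Mathlib.Tactic.FieldSimp

set_option autoImplicit false
universe u
open CAlg

namespace Groth.Agent.S16667

/-- Let A be a Noetherian integral domain satisfying Serre's condition (S_2), with fraction field K. An
element of K which lies in the localization A_p for every prime p of A with depth(A_p) = 1 lies in
A. -/
theorem result {A : Type u} [CommRing A] [IsDomain A]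
    [IsNoetherianRing A] (hS2 : LocCoh.HasSk 2 A A) (x : FractionRing A)
    (hx : ∀ (p : Ideal A) [p.IsPrime],
      LocCoh.depth (Localization.AtPrime p) (Localization.AtPrime p) = 1 →
        x ∈ Set.range (algebraMap (Localization.AtPrime p) (FractionRing A))) :
    x ∈ Set.range (algebraMap A (FractionRing A)) := by
  classical
  obtain ⟨c, b, hb, rfl⟩ := IsFractionRing.div_surjective (A := A) x
  have hb0 : b ≠ 0 := nonZeroDivisors.ne_zero hb
  have hbK : algebraMap A (FractionRing A) b ≠ 0 := IsFractionRing.to_map_ne_zero_of_mem_nonZeroDivisors hb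
  by_contra hne
  let N : Submodule A A := Ideal.ofList [b] • (⊤ : Submodule A A)
  have hN : ∀ a : A, a ∈ N ↔ a ∈ Ideal.span {b} := fun a => by
    simp only [N, Ideal.ofList_singleton, smul_eq_mul, Ideal.mul_top]
  have hc : (Submodule.Quotient.mk c : A ⧸ N) ≠ 0 := by
    rw [Ne, Submodule.Quotient.mk_eq_zero, hN, Ideal.mem_span_singleton']
    rintro ⟨a, rfl⟩
    exact hne ⟨a, by rw [map_mul, mul_div_assoc, div_self hbK, mul_one]⟩
  obtain ⟨P, hP, hle⟩ := exists_le_isAssociatedPrime_of_isNoetherianRing A (Submodule.Quotient.mk c : A ⧸ N) hc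
  haveI := hP.isPrime
  have hbreg : IsSMulRegular A b := fun u v h => mul_left_cancel₀ hb0 h
  have hbP : b ∈ P := hle (by
    rw [Submodule.mem_colon_singleton, Submodule.mem_bot, ← Submodule.Quotient.mk_smul,
      Submodule.Quotient.mk_eq_zero, hN, smul_eq_mul]
    exact Ideal.mul_mem_right _ _ (Ideal.mem_span_singleton_self b))
  have hd := Groth.Agent.H4Depth.depth_localization_eq_length (M := A) (p := P) [b]
    ((RingTheory.Sequence.isWeaklyRegular_singleton_iff _ _).mpr hbreg) (by simpa using hbP) hP
  obtain ⟨e⟩ := Groth.Agent.H4Depth.exists_localizedModule_self_equiv (R := A) P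
  rw [Groth.Agent.H4Depth.depth_congr e] at hd
  obtain ⟨y, hy⟩ := hx P (by simpa using hd)
  obtain ⟨⟨a, s⟩, hs⟩ := IsLocalization.surj P.primeCompl y
  refine s.2 (hle ?_)
  rw [Submodule.mem_colon_singleton, Submodule.mem_bot, ← Submodule.Quotient.mk_smul,
    Submodule.Quotient.mk_eq_zero, hN, smul_eq_mul, Ideal.mem_span_singleton']
  refine ⟨a, IsFractionRing.injective A (FractionRing A) ?_⟩
  have := congrArg (algebraMap (Localization.AtPrime P) (FractionRing A)) hs
  rw [map_mul, hy, ← IsScalarTower.algebraMap_apply, ← IsScalarTower.algebraMap_apply] at this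
  rw [map_mul, map_mul, ← this]
  field_simp

end Groth.Agent.S16667
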