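import Groth.Statements.S16668
import Groth.Agent.H06LefSec.Main
import Mathlib.RingTheory.DiscreteValuationRing.TFAE
import Mathlib.RingTheory.Regular.Flat

set_option autoImplicit false
universe u
open CategoryTheory AlgebraicGeometry
open Lef

namespace Groth.Agent.S16668

open RingTheory.Sequence Pointwise in
theorem isWeaklyRegular_pair {S : Type u} [CommRing S] (a b : S) (ha : ∀ w, a * w = 0 → w = 0)
    (hb : ∀ w, a ∣ b * w → a ∣ w) : IsWeaklyRegular S [a, b] := by
  rw [isWeaklyRegular_cons_iff, isWeaklyRegular_cons_iff]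
  refine ⟨fun u v huv => ?_, ?_, IsWeaklyRegular.nil _ _⟩
  · simp only [smul_eq_mul] at huv
    exact sub_eq_zero.mp (ha _ (by rw [mul_sub, huv, sub_self]))
  · refine (isSMulRegular_quotient_iff_mem_of_smul_mem _ b).mpr fun w hw => ?_
    rw [Submodule.mem_smul_pointwise_iff_exists] at hw ⊢
    obtain ⟨v, -, hv⟩ := hw
    obtain ⟨v', hv'⟩ := hb w ⟨v, hv.symm⟩
    exact ⟨v', trivial, hv'.symm⟩

theorem isRegularLocalRing_of_height_le_one {A : Type u} [CommRing A] [IsDomain A] [IsNoetherianRing A]
    [IsIntegrallyClosed A] (q : Ideal A) [q.IsPrime] (hq : q.height ≤ 1) :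
    IsRegularLocalRing (Localization.AtPrime q) := by
  haveI : IsIntegrallyClosed (Localization.AtPrime q) :=
    isIntegrallyClosed_of_isLocalization _ q.primeCompl q.primeCompl_le_nonZeroDivisors
  haveI : Ring.KrullDimLE 1 (Localization.AtPrime q) := Ring.krullDimLE_iff.mpr (by
    rw [IsLocalization.AtPrime.ringKrullDim_eq_height q]
    exact_mod_cast WithBot.coe_le_coe.mpr hq)
  by_cases hf : IsField (Localization.AtPrime q)
  · letI := hf.toField
    infer_instance
  · have : IsDiscreteValuationRing (Localization.AtPrime q) := by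
      refine ((IsDiscreteValuationRing.TFAE _ hf).out 0 3 rfl rfl).2
        ⟨inferInstance, IsLocalRing.maximalIdeal _, ⟨?_, inferInstance⟩, fun P hP => ?_⟩
      · exact fun h => hf (IsLocalRing.isField_iff_maximalIdeal_eq.2 h)
      · haveI := hP.2
        exact IsLocalRing.eq_maximalIdeal (((Ring.krullDimLE_one_iff_of_isPrime_bot).1 ‹_›) P hP.1 hP.2)
    haveI : IsRegularRing (Localization.AtPrime q) := inferInstance
    exact IsRegularLocalRing.of_isRegularRing_of_isLocalRing _

open RingTheory.Sequence in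
/-- The local quotient by a regular sequence has the complementary dimension. -/
theorem dim_local {A : Type u} [CommRing A] [IsNoetherianRing A] (rs : List A) (hrs : IsRegular A rs)
    (q : Ideal A) [q.IsPrime] (hq : Ideal.ofList rs ≤ q) :
    IsWeaklyRegular (Localization.AtPrime q) (rs.map (algebraMap A (Localization.AtPrime q))) ∧
      ringKrullDim (Localization.AtPrime q ⧸ (Ideal.ofList rs).map (algebraMap A (Localization.AtPrime q))) +
        rs.length = (q.height : WithBot ℕ∞) := by
  let R := Localization.AtPrime q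
  haveI : Module.Flat A R := IsLocalization.flat R q.primeCompl
  have hw : IsWeaklyRegular R (rs.map (algebraMap A R)) :=
    hrs.toIsWeaklyRegular.of_flat
  refine ⟨hw, ?_⟩
  have hreg : IsRegular R (rs.map (algebraMap A R)) := by
    refine ⟨hw, ?_⟩
    intro h
    rw [smul_eq_mul, Ideal.mul_top] at h
    refine (IsLocalRing.maximalIdeal R).ne_top_iff_one.mp (Ideal.IsPrime.ne_top inferInstance) ?_
    have hle : Ideal.ofList (rs.map (algebraMap A R)) ≤ IsLocalRing.maximalIdeal R := by
      rw [← Ideal.map_ofList, ← IsLocalization.AtPrime.map_eq_maximalIdeal q R]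
      exact Ideal.map_mono hq
    exact hle (h ▸ trivial)
  have h := ringKrullDim_add_length_eq_ringKrullDim_of_isRegular _ hreg
  rw [IsLocalization.AtPrime.ringKrullDim_eq_height q R, List.length_map] at h
  rw [← h, Ideal.map_ofList]

theorem exists_local_map {A : Type u} [CommRing A] (I q : Ideal A) [q.IsPrime]
    (Q : Ideal (A ⧸ I)) [Q.IsPrime] (hQ : q = Q.comap (Ideal.Quotient.mk I))
    (L : Type u) [CommRing L] [Algebra (A ⧸ I) L] [IsLocalization.AtPrime L Q] :
    ∃ φ : Localization.AtPrime q →+* L, Function.Surjective φ ∧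
      RingHom.ker φ = I.map (algebraMap A (Localization.AtPrime q)) := by
  let g : A →+* L := (algebraMap (A ⧸ I) L).comp (Ideal.Quotient.mk I)
  have hu : ∀ s : q.primeCompl, IsUnit (g s) := fun s =>
    IsLocalization.map_units L (⟨Ideal.Quotient.mk I (s : A), fun h => s.2 (hQ.ge h)⟩ : Q.primeCompl)
  refine ⟨IsLocalization.lift hu, fun l => ?_, le_antisymm (fun r hr => ?_) ?_⟩
  · obtain ⟨a, s, rfl⟩ := IsLocalization.exists_mk'_eq Q.primeCompl l
    obtain ⟨a, rfl⟩ := Ideal.Quotient.mk_surjective a
    obtain ⟨s', hs'⟩ := Ideal.Quotient.mk_surjective (s : A ⧸ I)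
    refine ⟨IsLocalization.mk' _ a (⟨s', fun h => s.2 (by have h' : Ideal.Quotient.mk I s' ∈ Q := hQ.le h; rwa [hs'] at h')⟩ : q.primeCompl), ?_⟩
    rw [IsLocalization.lift_mk'_spec]
    show algebraMap _ L (Ideal.Quotient.mk I a) = algebraMap _ L (Ideal.Quotient.mk I s') * _
    rw [hs', mul_comm, IsLocalization.mk'_spec]
  · obtain ⟨a, s, rfl⟩ := IsLocalization.exists_mk'_eq q.primeCompl r
    rw [RingHom.mem_ker, IsLocalization.lift_mk', Units.mul_left_eq_zero] at hr
    obtain ⟨⟨t, ht⟩, hta⟩ := (IsLocalization.map_eq_zero_iff Q.primeCompl L _).mp hr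
    obtain ⟨t, rfl⟩ := Ideal.Quotient.mk_surjective t
    have h1 : t * a ∈ I := by
      rw [← Ideal.Quotient.eq_zero_iff_mem, map_mul]
      exact hta
    exact IsLocalization.mk'_mem_map_algebraMap_iff q.primeCompl _ _ _ _ |>.mpr
      ⟨t, fun h => ht (hQ.le h), h1⟩
  · rw [Ideal.map_le_iff_le_comap]
    intro a ha
    rw [Ideal.mem_comap, RingHom.mem_ker, IsLocalization.lift_eq]
    show algebraMap _ L (Ideal.Quotient.mk I a) = 0
    rw [Ideal.Quotient.eq_zero_iff_mem.mpr ha, map_zero]

theorem isLocalization_quotient {A : Type u} [CommRing A] (p q : Ideal A) [q.IsPrime]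
    (P : Ideal (Localization.AtPrime q)) (hP : p.map (algebraMap A (Localization.AtPrime q)) = P) :
    letI : Algebra (A ⧸ p) (Localization.AtPrime q ⧸ P) :=
      (Ideal.quotientMap P (algebraMap A (Localization.AtPrime q)) (Ideal.map_le_iff_le_comap.mp hP.le)).toAlgebra
    IsLocalization (Algebra.algebraMapSubmonoid (A ⧸ p) q.primeCompl) (Localization.AtPrime q ⧸ P) := by
  subst hP
  letI : Algebra (A ⧸ p) (Localization.AtPrime q ⧸ p.map (algebraMap A (Localization.AtPrime q))) :=
    (Ideal.quotientMap _ (algebraMap A (Localization.AtPrime q)) (Ideal.map_le_iff_le_comap.mp le_rfl)).toAlgebra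
  exact IsLocalization.of_surjective q.primeCompl (Localization.AtPrime q) (Ideal.Quotient.mk p) Ideal.Quotient.mk_surjective
    (Ideal.Quotient.mk _) Ideal.Quotient.mk_surjective rfl (by rw [Ideal.mk_ker, Ideal.mk_ker])

/-- Let A be an excellent normal domain, J the radical ideal of A whose zero set is the set of
non-regular points of Spec A, and p a prime ideal of A generated by an A-regular sequence, such that
A/p is normal and ht(p) + ht(J) ≤ ht(p + J). Let U be an open subset of Spec A which contains every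
regular point of V(p) and whose complement consists of points of height at least 2. Then for every m
≥ 1 the restriction map from Γ(Spec(A/p^m), O) to the sections of O over the inverse image of U in
Spec(A/p^m) is bijective. (The published lemma asserts the corresponding bijection after p-adic
completion, for every finitely generated reflexive A-module in place of A; stated here, for A
itself, is the bijection at each finite level m which its proof establishes.) -/
theorem result
    (A : Type u) [CommRing A] [IsDomain A] [IsIntegrallyClosed A] (hA : EGA4.IsExcellent A)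
    (J : Ideal A) (hJrad : J.IsRadical)
    (hJ : ∀ x : PrimeSpectrum A, J ≤ x.asIdeal ↔ x ∉ EGA4.regLocus A)
    (p : Ideal A) [p.IsPrime] (rs : List A) (hrs : RingTheory.Sequence.IsRegular A rs)
    (hp : Ideal.ofList rs = p) (hnorm : IsIntegrallyClosed (A ⧸ p))
    (hht : p.height + J.height ≤ (p ⊔ J).height)
    (U : (Spec (CommRingCat.of A)).Opens)
    (hUreg : ∀ x : PrimeSpectrum A, p ≤ x.asIdeal → x ∈ EGA4.regLocus A → x ∈ U.1)
    (hUcodim : ∀ x : PrimeSpectrum A, x ∉ U.1 → (2 : ℕ∞) ≤ x.asIdeal.height)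
    (m : ℕ) (hm : 1 ≤ m) :
    Function.Bijective ((Spec (CommRingCat.of (A ⧸ p ^ m))).presheaf.map
      (homOfLE (le_top : Spec.map (CommRingCat.ofHom (Ideal.Quotient.mk (p ^ m))) ⁻¹ᵁ U ≤ ⊤)).op).hom := by
  haveI : IsNoetherianRing A := hA.1
  have hq2 : ∀ q : PrimeSpectrum A, p ≤ q.asIdeal → q ∉ U.1 →
      (p.height + 2 ≤ q.asIdeal.height) := by
    intro q hpq hqU
    have hJq : J ≤ q.asIdeal := (hJ q).mpr fun h => hqU (hUreg q hpq h)
    have hJ2 : (2 : ℕ∞) ≤ J.height := by
      rw [Ideal.height_eq_inf_minimalPrimes]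
      refine le_iInf₂ fun P hP => ?_
      haveI := hP.1.1
      by_contra hlt
      have h1 : P.height ≤ 1 := Order.le_of_lt_succ (by rw [ENat.succ_def]; exact not_le.mp hlt)
      exact (hJ ⟨P, hP.1.1⟩).mp hP.1.2 (isRegularLocalRing_of_height_le_one P h1)
    exact ((add_le_add le_rfl hJ2).trans hht).trans (Ideal.height_mono (sup_le hpq hJq))
  let S := A ⧸ p ^ m
  haveI : IsNoetherianRing S := inferInstance
  haveI : IsNoetherianRing (CommRingCat.of S : CommRingCat.{u}) := inferInstanceAs (IsNoetherianRing S)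
  haveI : TopologicalSpace.NoetherianSpace ↥(Spec (CommRingCat.of S)) :=
    inferInstanceAs (TopologicalSpace.NoetherianSpace (PrimeSpectrum S))
  refine H8Props.HartogsTwo.bijective_restrict (isAffineOpen_top _) le_top
    (TopologicalSpace.NoetherianSpace.isCompact _) fun z _ hz => ?_
  let q : Ideal A := z.asIdeal.comap (Ideal.Quotient.mk (p ^ m))
  haveI : q.IsPrime := Ideal.IsPrime.comap _
  have hpq : p ≤ q := (Ideal.IsPrime.pow_le_iff (n := m) (Nat.one_le_iff_ne_zero.mp hm)).mp fun a ha => by
    show Ideal.Quotient.mk (p ^ m) a ∈ z.asIdeal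
    rw [Ideal.Quotient.eq_zero_iff_mem.mpr ha]
    exact zero_mem _
  have hqU : (⟨q, inferInstance⟩ : PrimeSpectrum A) ∉ U.1 := hz
  have hh := hq2 ⟨q, inferInstance⟩ hpq hqU
  let R := Localization.AtPrime q
  obtain ⟨hw, hd⟩ := dim_local rs hrs q (hp.trans_le hpq)
  obtain ⟨-, hdp⟩ := dim_local rs hrs p hp.le
  have hP : (Ideal.ofList rs).map (algebraMap A R) = Ideal.ofList (rs.map (algebraMap A R)) := Ideal.map_ofList _ _
  rw [hp] at hd hdp hP
  have hpr : p.height = rs.length := by
    have hf : IsField (Localization.AtPrime p ⧸ p.map (algebraMap A (Localization.AtPrime p))) := by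
      rw [IsLocalization.AtPrime.map_eq_maximalIdeal p (Localization.AtPrime p)]
      exact (Ideal.Quotient.maximal_ideal_iff_isField_quotient _).mp inferInstance
    rw [ringKrullDim_eq_zero_of_isField hf, zero_add] at hdp
    exact_mod_cast hdp.symm
  rw [hpr] at hh
  rw [hP] at hd
  have hdim : (2 : WithBot ℕ∞) ≤ ringKrullDim (R ⧸ Ideal.ofList (rs.map (algebraMap A R))) := by
    revert hd
    generalize ringKrullDim (R ⧸ Ideal.ofList (rs.map (algebraMap A R))) = D
    intro hd
    match D, hd with
    | ⊥, hd => rw [WithBot.bot_add] at hd; exact absurd hd.symm (WithBot.coe_ne_bot)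
    | (e : ℕ∞), hd =>
      have hd' : e + (rs.length : ℕ∞) = q.height := WithBot.coe_injective hd
      have h2 : (rs.length : ℕ∞) + 2 ≤ (rs.length : ℕ∞) + e := by rw [add_comm _ e, hd']; exact hh
      exact WithBot.coe_le_coe.mpr ((ENat.add_le_add_iff_left (ENat.coe_ne_top _)).mp h2)
  let T := R ⧸ Ideal.ofList (rs.map (algebraMap A R))
  letI : Algebra (A ⧸ p) T :=
    (Ideal.quotientMap _ (algebraMap A R) (Ideal.map_le_iff_le_comap.mp hP.le)).toAlgebra
  haveI hloc : IsLocalization (Algebra.algebraMapSubmonoid (A ⧸ p) q.primeCompl) T := by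
    have := isLocalization_quotient p q (Ideal.ofList (rs.map (algebraMap A R))) hP
    exact this
  have hle : Algebra.algebraMapSubmonoid (A ⧸ p) q.primeCompl ≤ nonZeroDivisors (A ⧸ p) := by
    rintro _ ⟨a, ha, rfl⟩
    exact mem_nonZeroDivisors_of_ne_zero fun h => ha (hpq (Ideal.Quotient.eq_zero_iff_mem.mp h))
  haveI hploc := hloc
  haveI : IsDomain T := IsLocalization.isDomain_of_le_nonZeroDivisors T hle
  haveI : IsIntegrallyClosed T := by
    haveI := hnorm
    exact isIntegrallyClosed_of_isLocalization T _ hle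
  have hmem : ∀ a ∈ rs.map (algebraMap A R), a ∈ IsLocalRing.maximalIdeal R := by
    intro a ha
    obtain ⟨b, hb, rfl⟩ := List.mem_map.mp ha
    exact (IsLocalization.AtPrime.to_map_mem_maximal_iff R q b).mpr
      (hpq (hp.le (Ideal.subset_span hb)))
  obtain ⟨x, hx, y, hy, hxr, hxy⟩ := H06LefSec.exists_pair (rs.map (algebraMap A R)) hw hmem hdim m
  letI : Algebra S ((Spec (CommRingCat.of S)).presheaf.stalk z) := StructureSheaf.stalkAlgebra S z
  haveI : IsLocalization.AtPrime ((Spec (CommRingCat.of S)).presheaf.stalk z) z.asIdeal :=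
    StructureSheaf.IsLocalization.to_stalk S z
  obtain ⟨φ, hφs, hφk⟩ := exists_local_map (p ^ m) q z.asIdeal rfl
    ((Spec (CommRingCat.of S)).presheaf.stalk z)
  have hker : RingHom.ker φ = Ideal.ofList (rs.map (algebraMap A R)) ^ m := by
    rw [hφk, Ideal.map_pow, hP]
  haveI : IsLocalHom φ := .of_surjective _ hφs
  refine ⟨φ x, φ y, map_nonunit φ x hx, map_nonunit φ y hy, isWeaklyRegular_pair _ _ ?_ ?_⟩
  · intro w hw'
    obtain ⟨w, rfl⟩ := hφs w
    rw [← RingHom.mem_ker, hker]
    refine hxr w ?_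
    rw [← hker, RingHom.mem_ker, map_mul]
    exact hw'
  · rintro w ⟨v, hv⟩
    obtain ⟨w, rfl⟩ := hφs w
    obtain ⟨v, rfl⟩ := hφs v
    obtain ⟨v', hv'⟩ := hxy w v (by rw [← hker, RingHom.mem_ker, map_sub, map_mul, map_mul, hv, sub_self])
    refine ⟨φ v', ?_⟩
    rw [← hker, RingHom.mem_ker, map_sub, map_mul, sub_eq_zero] at hv'
    exact hv'

end Groth.Agent.S16668
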