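import Groth.Statements.S16671
import Groth.Agent.H10Coh.DualEmbed
import Groth.Agent.H7Lim.ModLocFree

set_option linter.style.haveILetI false
set_option backward.isDefEq.respectTransparency.types false

set_option autoImplicit false
universe u
open CategoryTheory CategoryTheory.Limits AlgebraicGeometry
open Coh

namespace Groth.Agent.S16671

open Groth.Agent

/-- Let k be a field, X an integral scheme locally of finite type over k carrying an ample invertible
module L, and E a coherent O_X-module all of whose stalks are reflexive. Then there are natural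
numbers q, q', integers r, r' ≥ 1 and a coherent O_X-module E' with a short exact sequence 0 → E →
(L^q)^r → E' → 0 (tensor powers of L, direct sums of copies) and a monomorphism E' → (L^q')^r'; and
E' is finite locally free whenever E is. (In the published statement X is an integral locally closed
subscheme of P^N_k, the sums are restrictions of O(m)^r with m any integer, and E is reflexive
coherent.) -/
theorem result (k : Type u) [Field k] (X : Scheme.{u})
    (f : X ⟶ Spec (CommRingCat.of k)) [LocallyOfFiniteType f] [IsIntegral X]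
    (L : X.Modules) (hL : CohB1.IsAmple L) (E : X.Modules) (hE : Coh.IsCoh E)
    (hEr : ∀ x : X, Module.IsReflexive (X.presheaf.stalk x) (E.presheaf.stalk x)) :
    ∃ (q r q' r' : ℕ) (E' : X.Modules) (ι : E ⟶ ∐ fun _ : Fin r => CohB1.tensorPow L q)
      (π : (∐ fun _ : Fin r => CohB1.tensorPow L q) ⟶ E') (w : ι ≫ π = 0)
      (ι' : E' ⟶ ∐ fun _ : Fin r' => CohB1.tensorPow L q'),
      1 ≤ r ∧ 1 ≤ r' ∧ (ShortComplex.mk ι π w).ShortExact ∧ Mono ι' ∧ Coh.IsCoh E' ∧
        (FlatMod.IsFinLocFree E → FlatMod.IsFinLocFree E') := by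
  haveI := LocallyOfFiniteType.isLocallyNoetherian f
  haveI : CompactSpace X := hL.2.1
  have hD := H29Ref.isCoh_dual E hE
  obtain ⟨q, r, p, hr, hp⟩ := H10Coh.DualEmbed.exists_epi_dual_pow hL hD
  obtain ⟨e⟩ := H10Coh.DualEmbed.nonempty_dual_sum hL.1 q r
  let G := ∐ fun _ : Fin r => RefHull.dual (CohB1.tensorPow L q)
  have hG : FlatMod.IsFinLocFree G := H10Coh.DualEmbed.isFinLocFree_sum hL.1 q r
  have hGc : Coh.IsCoh G := H10Coh.Tw.isCoh_of_vb hG
  have hK : Coh.IsCoh (kernel p) := H10Coh.isCoh_kernel p hGc hD.1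
  haveI : IsIso (RefHull.bidualMap E) := (H29Ref.isReflexive_iff E hE).mpr hEr
  have hS := H10Coh.DualEmbed.shortExact_ker p
  haveI := H10Coh.DualEmbed.mono_dualMap (H10Coh.isFP_of_isCoh _ hGc) (H10Coh.isFP_of_isCoh _ hD) p
    (H10Coh.DualEmbed.surjective_stalk_of_epi p)
  obtain ⟨w₀, hex₀⟩ := H10Coh.DualEmbed.exact_dual (kernel.ι p) p (kernel.condition p) hS
    (H10Coh.isFP_of_isCoh _ hK) (H10Coh.isFP_of_isCoh _ hGc) (H10Coh.isFP_of_isCoh _ hD)
  let ι : E ⟶ ∐ fun _ : Fin r => CohB1.tensorPow L q := RefHull.bidualMap E ≫ RefFun.dualMap p ≫ e.hom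
  let δ : (∐ fun _ : Fin r => CohB1.tensorPow L q) ⟶ RefHull.dual (kernel p) :=
    e.inv ≫ RefFun.dualMap (kernel.ι p)
  have wδ : ι ≫ δ = 0 := by simp [ι, δ, w₀]
  have hexι : (ShortComplex.mk ι δ wδ).Exact :=
    ShortComplex.exact_of_iso (S₁ := ShortComplex.mk (RefFun.dualMap p) (RefFun.dualMap (kernel.ι p)) w₀)
      (ShortComplex.isoMk (asIso (RefHull.bidualMap E)).symm e (Iso.refl _) (by simp [ι]) (by simp [δ])) hex₀
  haveI : Mono ι := inferInstanceAs (Mono (RefHull.bidualMap E ≫ RefFun.dualMap p ≫ e.hom))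
  obtain ⟨q', r', μ, hr', hμ⟩ := H10Coh.DualEmbed.exists_mono_dual hL hK
  haveI hd : Mono (cokernel.desc ι δ wδ) := hexι.mono_cokernelDesc
  refine ⟨q, r, q', r', cokernel ι, ι, cokernel.π ι, cokernel.condition ι, cokernel.desc ι δ wδ ≫ μ, hr, hr',
    { exact := ShortComplex.exact_cokernel ι }, inferInstance,
    H10Coh.isCoh_cokernel ι hE.1 (H10Coh.isCoh_sigma _ fun _ => H10Coh.Tw.isCoh_of_vb
      (H23Para.isFinLocFree_of_isInvertible (H11Ample.isInvertible_tensorPow hL.1 q))), fun hEf => ?_⟩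
  have hDf := H10Inj.SheafExt.isFinLocFree_dual hEf
  have hKf := H10Coh.Tw.isFinLocFree_kernel p hG hDf
  obtain ⟨w₁, hdual⟩ := H3Cyc.Filt.dual_shortExact (kernel.ι p) p (kernel.condition p) hS hKf hG hDf
  haveI : Epi (RefFun.dualMap (kernel.ι p)) := hdual.epi_g
  haveI : Epi δ := inferInstanceAs (Epi (e.inv ≫ RefFun.dualMap (kernel.ι p)))
  haveI : Epi (cokernel.desc ι δ wδ) := epi_of_epi_fac (cokernel.π_desc ι δ wδ)
  haveI := isIso_of_mono_of_epi (cokernel.desc ι δ wδ)
  exact H7Lim.ModLocFree.isFinLocFree_of_iso (asIso (cokernel.desc ι δ wδ)).symm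
    (H10Inj.SheafExt.isFinLocFree_dual hKf)

end Groth.Agent.S16671
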