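import Groth.Statements.S16673
import Groth.Agent.H25Chow.IsogPts

set_option autoImplicit false
set_option linter.style.haveILetI false
set_option backward.isDefEq.respectTransparency false
set_option synthInstance.maxHeartbeats 200000
universe u
open CategoryTheory CategoryTheory.Limits MonoidalCategory CartesianMonoidalCategory MonObj GrpObj AlgebraicGeometry
open AbVar

namespace Groth.Agent.S16673

/-- Let k be a field of characteristic p > 0 with an algebraic closure k̄, let X and Y be abelian
varieties over k (proper, geometrically integral, commutative k-group schemes) and let h : X → Y be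
a homomorphism which is finite and surjective (an isogeny). If i and j are natural numbers such that
for every m ≥ 0 the group X[p^m](k̄) of k̄-valued points of X killed by p^m (k̄-valued points being
the k-morphisms Spec k̄ → X, a group under the group law of X) is isomorphic to (ℤ/p^m)^i and the
group Y[p^m](k̄) is isomorphic to (ℤ/p^m)^j (groups of points written multiplicatively), then i = j:
the p-rank is an isogeny invariant. -/
theorem result (k : Type u) [Field k] (p : ℕ) [Fact p.Prime] [CharP k p]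
    (X Y : Over (Spec (CommRingCat.of k)))
    [GrpObj X] [IsCommMonObj X] [IsProper X.hom] [GeometricallyIntegral X.hom]
    [GrpObj Y] [IsCommMonObj Y] [IsProper Y.hom] [GeometricallyIntegral Y.hom]
    (h : X ⟶ Y) [IsMonHom h] [IsFinite h.left] [Surjective h.left]
    (i j : ℕ)
    (hi : ∀ m : ℕ, Nonempty (AbDual.torsPts X (p ^ m)
      (Over.mk (Spec.map (CommRingCat.ofHom (algebraMap k (AlgebraicClosure k))))) ≃*
      Multiplicative (Fin i → ZMod (p ^ m))))
    (hj : ∀ m : ℕ, Nonempty (AbDual.torsPts Y (p ^ m)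
      (Over.mk (Spec.map (CommRingCat.ofHom (algebraMap k (AlgebraicClosure k))))) ≃*
      Multiplicative (Fin j → ZMod (p ^ m)))) :
    i = j := by
  obtain ⟨N, hN, τ, hτ, hhτ, hτh⟩ := H25AbCube.exists_isogeny_inverse h
  haveI := hτ
  let Ω := AlgebraicClosure k
  have key : ∀ (A B : Over (Spec (CommRingCat.of k))) [GrpObj A] [IsCommMonObj A] [IsProper A.hom]
      [GeometricallyIntegral A.hom] [GrpObj B] [IsCommMonObj B] (f : A ⟶ B) [IsMonHom f] (g : B ⟶ A) [IsMonHom g]
      (a b : ℕ), f ≫ g = (𝟙 A) ^ N →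
      (∀ m : ℕ, Nonempty (AbDual.torsPts A (p ^ m) (SGA7.pt Ω) ≃* Multiplicative (Fin a → ZMod (p ^ m)))) →
      (∀ m : ℕ, Nonempty (AbDual.torsPts B (p ^ m) (SGA7.pt Ω) ≃* Multiplicative (Fin b → ZMod (p ^ m)))) →
      a ≤ b := by
    intro A B _ _ _ _ _ _ f _ g _ a b hfg ha hb
    have hA : ∀ m, Nat.card (AbDual.torsPts A (p ^ m) (SGA7.pt Ω)) = (p ^ m) ^ a := fun m => by
      rw [Nat.card_congr (ha m).some.toEquiv, Nat.card_congr Multiplicative.toAdd, Nat.card_fun, Nat.card_zmod,
        Nat.card_fin]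
    have hB : ∀ m, Nat.card (AbDual.torsPts B (p ^ m) (SGA7.pt Ω)) = (p ^ m) ^ b := fun m => by
      rw [Nat.card_congr (hb m).some.toEquiv, Nat.card_congr Multiplicative.toAdd, Nat.card_fun, Nat.card_zmod,
        Nat.card_fin]
    haveI := H25Chow.finite_pow_ker Ω (X := A) hN
    let C := Nat.card {x : SGA7.pt Ω ⟶ A // x ^ N = 1}
    have hle : ∀ m, (p ^ m) ^ a ≤ C * (p ^ m) ^ b := fun m => by
      haveI : Finite (AbDual.torsPts B (p ^ m) (SGA7.pt Ω)) := Nat.finite_of_card_ne_zero (by
        rw [hB m]; exact pow_ne_zero _ (pow_ne_zero _ (Fact.out : p.Prime).ne_zero))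
      haveI : Finite (AbDual.torsPts A (p ^ m) (SGA7.pt Ω)) := Nat.finite_of_card_ne_zero (by
        rw [hA m]; exact pow_ne_zero _ (pow_ne_zero _ (Fact.out : p.Prime).ne_zero))
      let F : AbDual.torsPts A (p ^ m) (SGA7.pt Ω) →* AbDual.torsPts B (p ^ m) (SGA7.pt Ω) :=
        MonoidHom.mk' (fun x => ⟨x.1 ≫ f, (AbDual.mem_torsPts B _).2 (by
          rw [← MonObj.pow_comp, (AbDual.mem_torsPts A x.1).1 x.2, MonObj.one_comp])⟩)
          fun x y => Subtype.ext (MonObj.mul_comp x.1 y.1 f)
      have hinj : Nat.card F.ker ≤ C := by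
        refine Nat.card_le_card_of_injective (fun x => ⟨x.1.1, ?_⟩) fun x y hxy => ?_
        · have h1 : x.1.1 ≫ f = 1 := congrArg Subtype.val (MonoidHom.mem_ker.1 x.2)
          rw [← Category.comp_id x.1.1, ← MonObj.comp_pow, ← hfg, ← Category.assoc, h1, MonObj.one_comp]
        · exact Subtype.ext (Subtype.ext (congrArg (fun z => z.1) hxy))
      rw [← hA m, ← hB m, Subgroup.card_eq_card_quotient_mul_card_subgroup F.ker,
        Nat.card_congr (QuotientGroup.quotientKerEquivRange F).toEquiv, _root_.mul_comm]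
      exact Nat.mul_le_mul hinj (Nat.card_le_card_of_injective _ Subtype.val_injective)
    by_contra hab
    have h1 := (Nat.mul_le_mul_right_iff (pow_pos (pow_pos (Fact.out : p.Prime).pos C) b)).1
      ((le_of_eq (by rw [← pow_succ']; : p ^ C * (p ^ C) ^ b = (p ^ C) ^ (b + 1))).trans
        ((Nat.pow_le_pow_right (pow_pos (Fact.out : p.Prime).pos C) (by omega : b + 1 ≤ a)).trans (hle C)))
    exact absurd h1 (not_le.2 (C.lt_pow_self (Fact.out : p.Prime).one_lt))
  exact le_antisymm (key X Y h τ i j hhτ hi hj) (key Y X τ h j i hτh hj hi)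

end Groth.Agent.S16673
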