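import Groth.Statements.S16674
import Groth.Agent.H19Grp.OrderKills
import Groth.Agent.H20OT.Field
import Mathlib.RingTheory.Etale.Field
import Mathlib.RingTheory.Unramified.Field
import Mathlib.FieldTheory.IsAlgClosed.AlgebraicClosure

set_option autoImplicit false
set_option synthInstance.maxHeartbeats 400000
set_option maxHeartbeats 800000
universe u
open CartDual

namespace Groth.Agent.S16674
open TensorProduct WithConv

/-- Let k be a field of characteristic p > 0 and A a finite-dimensional commutative and cocommutative
Hopf algebra over k, the coordinate ring of a finite commutative k-group scheme G, with Cartier dual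
the convolution Hopf algebra Hom_k(A, k). Then G is étale-étale, i.e. both A and its dual are étale
k-algebras, if and only if p does not divide the rank dim_k A of G. -/
theorem result (k : Type u) [Field k] (p : ℕ) [Fact p.Prime] [CharP k p]
    (A : Type u) [CommRing A] [HopfAlgebra k A] [Coalgebra.IsCocomm k A] [FiniteDimensional k A] :
    (Algebra.Etale k A ∧ Algebra.Etale k (CartDual.D k A)) ↔ ¬ p ∣ Module.finrank k A := by
  classical
  have hrk : Module.finrank k (CartDual.D k A) = Module.finrank k A := by
    rw [(WithConv.linearEquiv k (A →ₗ[k] k)).finrank_eq, Subspace.dual_finrank_eq]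
  constructor
  swap
  · intro h
    have hne : (Module.finrank k A : k) ≠ 0 := fun h0 => h ((CharP.cast_eq_zero_iff k p _).mp h0)
    haveI := Groth.Agent.H19Grp.OrderKills.formallyUnramified_of_finrank_ne_zero (k := k) (A := A) hne
    haveI := Groth.Agent.H19Grp.OrderKills.formallyUnramified_of_finrank_ne_zero (k := k) (A := CartDual.D k A)
      (by rw [hrk]; exact hne)
    haveI : Algebra.FormallyEtale k A := Algebra.FormallyEtale.iff_formallyUnramified_of_field.mpr inferInstance
    haveI : Algebra.FormallyEtale k (CartDual.D k A) :=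
      Algebra.FormallyEtale.iff_formallyUnramified_of_field.mpr inferInstance
    haveI : Algebra.FinitePresentation k A := Algebra.FinitePresentation.of_finiteType.mp inferInstance
    haveI : Algebra.FinitePresentation k (CartDual.D k A) := Algebra.FinitePresentation.of_finiteType.mp inferInstance
    exact ⟨{ }, { }⟩
  rintro ⟨hA, hD⟩ hdvd
  let K := AlgebraicClosure k
  haveI : IsReduced (K ⊗[k] A) := Algebra.FormallyUnramified.isReduced_of_field K (K ⊗[k] A)
  haveI : IsReduced (K ⊗[k] CartDual.D k A) := Algebra.FormallyUnramified.isReduced_of_field K (K ⊗[k] CartDual.D k A)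
  haveI : CharP K p := charP_of_injective_algebraMap (algebraMap k K).injective p
  let A' := K ⊗[k] A
  letI : Group (WithConv (A' →ₐ[K] K)) := Groth.Agent.H20OT.pointsGroup
  haveI : IsArtinianRing A' := IsArtinianRing.of_finite K A'
  -- points separate
  have hsep : ∀ a : A', (∀ g : A' →ₐ[K] K, g a = 0) → a = 0 := by
    intro a ha
    have hn : a ∈ nilradical A' := by
      rw [nilradical_eq_sInf, Ideal.mem_sInf]
      intro J hJ
      haveI : J.IsPrime := hJ
      haveI : J.IsMaximal := IsArtinianRing.isMaximal_of_isPrime J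
      obtain ⟨g, hg⟩ := Groth.Agent.H20OT.exists_point_ker (k := K) J
      exact (hg a).mp (ha g)
    rw [nilradical_eq_zero A'] at hn
    simpa using hn
  have hli : LinearIndependent K (fun g : A' →ₐ[K] K => g.toLinearMap) := linearIndependent_toLinearMap K A' K
  haveI : Finite (A' →ₐ[K] K) := hli.finite
  haveI : Fintype (A' →ₐ[K] K) := Fintype.ofFinite _
  haveI : Fintype (WithConv (A' →ₐ[K] K)) := Fintype.ofEquiv _ (WithConv.equiv (A' →ₐ[K] K)).symm
  have hspan : Submodule.span K (Set.range fun g : A' →ₐ[K] K => g.toLinearMap) = ⊤ := by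
    by_contra hne
    obtain ⟨Φ, hΦ, hle⟩ := Submodule.exists_le_ker_of_lt_top _ (lt_top_iff_ne_top.mpr hne)
    obtain ⟨a, rfl⟩ := (Module.evalEquiv K A').surjective Φ
    exact hΦ (by rw [hsep a (fun g => LinearMap.mem_ker.mp (hle (Submodule.subset_span ⟨g, rfl⟩))), map_zero])
  have hcard : Fintype.card (WithConv (A' →ₐ[K] K)) = Module.finrank k A := by
    rw [Fintype.card_congr (WithConv.equiv (A' →ₐ[K] K)), ← finrank_span_eq_card hli, hspan, finrank_top,
      Subspace.dual_finrank_eq, Module.finrank_baseChange]
  obtain ⟨g, hg⟩ := exists_prime_orderOf_dvd_card (G := WithConv (A' →ₐ[K] K)) p (hcard.symm ▸ hdvd)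
  -- the dual algebra with values in `K` is reduced
  let ι : CartDual.D k A →ₐ[k] (WithConv (A →ₗ[k] K)) := AlgHom.ofLinearMap
    { toFun := fun f => toConv ((Algebra.ofId k K).toLinearMap ∘ₗ f.ofConv)
      map_add' := fun f f' => WithConv.ofConv_injective (LinearMap.ext fun a => by simp)
      map_smul' := fun c f => WithConv.ofConv_injective (LinearMap.ext fun a => by
        simp only [WithConv.ofConv_smul, LinearMap.smul_apply, LinearMap.comp_apply, ofConv_toConv, RingHom.id_apply, map_smul]) }
    (WithConv.ofConv_injective (LinearMap.ext fun a => by simp [LinearMap.convOne_apply]))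
    (fun f f' => WithConv.ofConv_injective
      (LinearMap.algHom_comp_convMul_distrib (Algebra.ofId k K) f f'))
  haveI : IsScalarTower k K (WithConv (A →ₗ[k] K)) :=
    ⟨fun r c F => WithConv.ofConv_injective (LinearMap.ext fun a => smul_assoc r c (F.ofConv a))⟩
  haveI : LeftDistribClass (K ⊗[k] CartDual.D k A) := ⟨(inferInstance : Semiring (K ⊗[k] CartDual.D k A)).left_distrib⟩
  haveI : RightDistribClass (K ⊗[k] CartDual.D k A) := ⟨(inferInstance : Semiring (K ⊗[k] CartDual.D k A)).right_distrib⟩
  have hB : ∀ F : (WithConv (A →ₗ[k] K)), IsNilpotent F → F = 0 := by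
    let b := Module.finBasis k A
    let Φ : K ⊗[k] CartDual.D k A →ₗ[k] (WithConv (A →ₗ[k] K)) := TensorProduct.lift
      { toFun := fun c =>
          { toFun := fun f => c • ι f
            map_add' := fun f f' => by rw [map_add, smul_add]
            map_smul' := fun r f => by rw [map_smul, RingHom.id_apply, smul_comm] }
        map_add' := fun c c' => LinearMap.ext fun f => add_smul c c' _
        map_smul' := fun r c => LinearMap.ext fun f => smul_assoc r c _ }
    have hΦ1 : Φ 1 = 1 := by simp [Φ, Algebra.TensorProduct.one_def]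
    have hΦmul : ∀ x y, Φ (x * y) = Φ x * Φ y := by
      intro x y
      induction x using TensorProduct.induction_on with
      | zero => rw [show (0 : K ⊗[k] CartDual.D k A) * y = 0 from zero_mul y, map_zero]; exact (zero_mul _).symm
      | tmul c f =>
        induction y using TensorProduct.induction_on with
        | zero =>
          rw [show (c ⊗ₜ[k] f : K ⊗[k] CartDual.D k A) * 0 = 0 from mul_zero (M₀ := K ⊗[k] CartDual.D k A) _, map_zero]
          exact (mul_zero _).symm
        | tmul d f' =>
          simp [Φ, smul_mul_smul_comm]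
          rw [mul_comm c d, mul_smul]
        | add y y' hy hy' =>
          rw [show (c ⊗ₜ[k] f : K ⊗[k] CartDual.D k A) * (y + y') = c ⊗ₜ[k] f * y + c ⊗ₜ[k] f * y' from
            left_distrib (R := K ⊗[k] CartDual.D k A) _ _ _, map_add, map_add, hy, hy']
          exact (left_distrib _ _ _).symm
      | add x x' hx hx' =>
        rw [show (x + x') * y = x * y + x' * y from right_distrib (R := K ⊗[k] CartDual.D k A) _ _ _, map_add, map_add,
          hx, hx']
        exact (right_distrib _ _ _).symm
    let Φ' : K ⊗[k] CartDual.D k A →ₐ[k] (WithConv (A →ₗ[k] K)) := AlgHom.ofLinearMap Φ hΦ1 hΦmul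
    let Ψ : (WithConv (A →ₗ[k] K)) → K ⊗[k] CartDual.D k A := fun F => ∑ i, F.ofConv (b i) ⊗ₜ[k] (toConv (b.coord i) : CartDual.D k A)
    have hleft : ∀ F, Φ' (Ψ F) = F := fun F => WithConv.ofConv_injective (b.ext fun j => by
      show (Φ (∑ i, F.ofConv (b i) ⊗ₜ[k] (toConv (b.coord i) : CartDual.D k A))).ofConv (b j) = _
      simp [Φ, ι, Finsupp.single_apply, apply_ite (algebraMap k K)])
    have hfd : Module.finrank k (K ⊗[k] CartDual.D k A) = Module.finrank k (K ⊗[k] CartDual.D k A) := rfl
    intro F hF
    obtain ⟨m, hm⟩ := hF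
    have hinj : Function.Injective Φ' := by
      have hΨΦ : ∀ x, Ψ (Φ' x) = x := by
        intro x
        induction x using TensorProduct.induction_on with
        | zero => simp [Ψ]
        | tmul c f =>
          show ∑ i, (Φ (c ⊗ₜ[k] f)).ofConv (b i) ⊗ₜ[k] (toConv (b.coord i) : CartDual.D k A) = c ⊗ₜ[k] f
          have hf : f = ∑ i, f.ofConv (b i) • (toConv (b.coord i) : CartDual.D k A) :=
            WithConv.ofConv_injective (b.ext fun j => by simp [Finsupp.single_apply])
          conv_rhs => rw [hf, TensorProduct.tmul_sum]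
          refine Finset.sum_congr rfl fun i _ => ?_
          rw [← TensorProduct.smul_tmul]
          congr 1
          simp only [Φ, ι, TensorProduct.lift.tmul, LinearMap.coe_mk, AddHom.coe_mk, AlgHom.ofLinearMap_apply,
            WithConv.ofConv_smul, LinearMap.smul_apply, ofConv_toConv, LinearMap.comp_apply, AlgHom.toLinearMap_apply]
          simp [Algebra.smul_def, mul_comm]
        | add x y hx hy =>
          have e : Ψ (Φ' (x + y)) = Ψ (Φ' x) + Ψ (Φ' y) := by
            simp [Ψ, map_add, TensorProduct.add_tmul, Finset.sum_add_distrib]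
          rw [e, hx, hy]
      exact Function.LeftInverse.injective hΨΦ
    have h0 : Ψ F ^ m = 0 := hinj (by rw [show Φ' (Ψ F ^ m) = Φ' (Ψ F) ^ m from Φ'.toRingHom.map_pow _ _, hleft, hm, show Φ' 0 = 0 from Φ.map_zero])
    rw [← hleft F, show Ψ F = 0 from IsReduced.eq_zero _ ⟨m, h0⟩, map_zero]
  -- the point of order `p` gives a nilpotent element
  let h := Groth.Agent.H19Grp.OrderKills.restrictPt (A := A) K g
  have hp1 : h ^ p = 1 := by rw [← map_pow, ← hg, pow_orderOf_eq_one, map_one]
  let H : (WithConv (A →ₗ[k] K)) := toConv h.ofConv.toLinearMap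
  have hH : H ^ p = 1 := by
    have h2 := congrArg (fun f : WithConv (A →ₐ[k] K) => toConv f.ofConv.toLinearMap) hp1
    simp only [AlgHom.toLinearMap_convPow, AlgHom.toLinearMap_convOne] at h2
    exact h2
  haveI : Nontrivial (WithConv (A →ₗ[k] K)) := ⟨⟨1, 0, fun h10 => one_ne_zero (α := K) (by
    have := congrArg (fun f : (WithConv (A →ₗ[k] K)) => f.ofConv 1) h10
    simpa [LinearMap.convOne_apply] using this)⟩⟩
  haveI : CharP (WithConv (A →ₗ[k] K)) p := charP_of_injective_algebraMap (algebraMap k (WithConv (A →ₗ[k] K))).injective p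
  have hnil : IsNilpotent (H - 1) := ⟨p, by rw [sub_pow_char_of_commute p (Commute.one_right H), hH, one_pow, sub_self]⟩
  have hH1 : H = 1 := sub_eq_zero.mp (hB _ hnil)
  have hg1 : g = 1 := by
    refine WithConv.ofConv_injective (AlgHom.ext fun z => ?_)
    induction z using TensorProduct.induction_on with
    | zero => simp
    | tmul c a =>
      have e := LinearMap.congr_fun (congrArg WithConv.ofConv hH1) a
      change g.ofConv ((1 : K) ⊗ₜ[k] a) = _ at e
      rw [show (c ⊗ₜ[k] a : A') = c • ((1 : K) ⊗ₜ[k] a) by rw [TensorProduct.smul_tmul', smul_eq_mul, mul_one],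
        map_smul, map_smul, e]
      simp [LinearMap.convOne_apply, AlgHom.convOne_apply, Algebra.smul_def, TensorProduct.counit_tmul, mul_comm]
      left
      show _ = Coalgebra.counit (R := K) ((1 : K) ⊗ₜ[k] a : K ⊗[k] A)
      rw [TensorProduct.counit_tmul, CommSemiring.counit_apply, Algebra.smul_def, mul_one]
    | add x y hx hy => simp only [map_add, hx, hy]
  rw [hg1, orderOf_one] at hg
  exact (Fact.out : p.Prime).one_lt.ne hg

end Groth.Agent.S16674
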