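import Groth.Statements.S16676
import Groth.Agent.H19Grp.HomUnramified
import Mathlib

set_option autoImplicit false
universe u
open CategoryTheory CategoryTheory.Limits MonoidalCategory CartesianMonoidalCategory MonObj GrpObj AlgebraicGeometry
open AbVar

namespace Groth.Agent.S16676

/-- The equivalence of its second and third conditions. Let X and Y be abelian varieties over a field k
(proper, geometrically integral k-group schemes), f : X → Y a homomorphism which is finite, flat and
surjective (an isogeny), and i : N → X the kernel of f (the square formed by i, f, the unit section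
of Y and the structure map of N is cartesian). Then f is universally injective (a purely inseparable
morphism) if and only if the scheme N is connected. (The published item also includes the equivalent
condition that the function field of X is purely inseparable over that of Y; that clause is not part
of this statement.) -/
theorem result (k : Type u) [Field k]
    (X Y : Over (Spec (CommRingCat.of k)))
    [GrpObj X] [IsProper X.hom] [GeometricallyIntegral X.hom]
    [GrpObj Y] [IsProper Y.hom] [GeometricallyIntegral Y.hom]
    (f : X ⟶ Y) [IsMonHom f] [IsFinite f.left] [Flat f.left] [Surjective f.left]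
    (N : Over (Spec (CommRingCat.of k))) (i : N ⟶ X) (hN : AlgGrp.IsKernel i f) :
    UniversallyInjective f.left ↔ ConnectedSpace ↥N.left := by
  have hNs : IsPullback i.left N.hom f.left (η[Y]).left := hN.map (Over.forget _)
  haveI : IsFinite N.hom := MorphismProperty.of_isPullback (P := @IsFinite) hNs ‹_›
  haveI : Subsingleton ↥(Spec (CommRingCat.of k)) := inferInstanceAs (Subsingleton (PrimeSpectrum k))
  let u := Groth.Agent.H19Grp.kerUnit f ≫ hNs.isoPullback.inv
  have hu : u ≫ N.hom = 𝟙 _ := by
    rw [Category.assoc, hNs.isoPullback_inv_snd, Groth.Agent.H19Grp.kerUnit_snd]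
  haveI : Nonempty N.left := ⟨u (IsLocalRing.closedPoint k)⟩
  constructor
  · intro _
    haveI : UniversallyInjective N.hom := MorphismProperty.of_isPullback (P := @UniversallyInjective) hNs ‹_›
    haveI : Subsingleton N.left := N.hom.injective.subsingleton
    exact { toPreconnectedSpace := ⟨Set.subsingleton_univ.isPreconnected⟩, toNonempty := inferInstance }
  · intro hc
    haveI : DiscreteTopology ↥N.left := by
      have h := N.hom.isDiscrete_preimage_singleton (IsLocalRing.closedPoint k)
      have h2 : _root_.IsDiscrete (Set.univ : Set ↥N.left) := by
        convert h
        exact (Set.eq_univ_of_forall fun _ => Subsingleton.elim (α := PrimeSpectrum k) _ _).symm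
      exact isDiscrete_univ_iff.mp h2
    haveI : Subsingleton ↥N.left := ⟨fun a b =>
      ((isPreconnected_univ (α := ↥N.left)).subsingleton) (Set.mem_univ a) (Set.mem_univ b)⟩
    haveI : Subsingleton ↥(pullback f.left (η[Y]).left) :=
      hNs.isoPullback.inv.homeomorph.injective.subsingleton
    haveI : Surjective (Groth.Agent.H19Grp.kerUnit f) :=
      ⟨fun x => ⟨IsLocalRing.closedPoint k, Subsingleton.elim _ _⟩⟩
    obtain ⟨h, hp⟩ := Groth.Agent.H19Grp.isPullback_diagonal_hom f
    rw [UniversallyInjective.iff_diagonal]
    exact MorphismProperty.of_isPullback (P := @Surjective) hp.flip ‹_›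

end Groth.Agent.S16676
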