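import Groth.Statements.S16677
import Groth.Agent.H25Chow.DenseTors

set_option autoImplicit false
set_option linter.style.haveILetI false
set_option backward.isDefEq.respectTransparency false
set_option synthInstance.maxHeartbeats 200000
universe u
open CategoryTheory CategoryTheory.Limits MonoidalCategory CartesianMonoidalCategory MonObj GrpObj AlgebraicGeometry
open AbVar

namespace Groth.Agent.S16677

/-- Let X be an abelian variety over a field k (a proper, geometrically integral k-group scheme) and p a
prime number, not necessarily different from the characteristic of k. For m ≥ 1 let X[p^m] → X be
the kernel of multiplication by p^m (the p^m-th power of the identity in the group of endomorphisms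
of X), realised as the fibre product of the unit section with that endomorphism. Then the family of
closed subgroup schemes X[p^m], m ≥ 1, is scheme-theoretically dense in X: if c : Z → X is a closed
immersion through which every inclusion X[p^m] → X factors, then c is an isomorphism. -/
theorem result (k : Type u) [Field k]
    (X : Over (Spec (CommRingCat.of k))) [GrpObj X] [IsProper X.hom] [GeometricallyIntegral X.hom]
    (p : ℕ) (hp : p.Prime) (Z : Scheme.{u}) (c : Z ⟶ X.left) [IsClosedImmersion c]
    (hc : ∀ m : ℕ, 0 < m →
      ∃ t : pullback η[X].left ((𝟙 X ^ (p ^ m)).left) ⟶ Z,
        t ≫ c = pullback.snd η[X].left ((𝟙 X ^ (p ^ m)).left)) :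
    IsIso c := by
  exact H25Chow.isIso_of_torsion_le p hp Z c hc

end Groth.Agent.S16677
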