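import Groth.Statements.S16682
import Groth.Agent.H25AbCube.SeesawPoints


set_option autoImplicit false
set_option linter.style.haveILetI false
set_option backward.isDefEq.respectTransparency false
set_option synthInstance.maxHeartbeats 200000
universe u
open CategoryTheory CategoryTheory.Limits MonoidalCategory CartesianMonoidalCategory AlgebraicGeometry
open AbVar

namespace Groth.Agent.S16682

/-- Let k be a field, X a proper geometrically integral k-scheme (a complete variety), Y a variety over
k (separated, of finite type, geometrically integral), and L, M two invertible modules on X ×_k Y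
(the product in the category of k-schemes). If for every closed point y of Y the restrictions of L
and M to the fibre X ×_k Spec k(y) are isomorphic, then there is an invertible O_Y-module N with L
isomorphic to M ⊗ p^*N, where p : X ×_k Y → Y is the second projection (existence of an isomorphism;
N is determined only up to isomorphism). -/
theorem result (k : Type u) [Field k]
    (X Y : Over (Spec (CommRingCat.of k)))
    [IsProper X.hom] [GeometricallyIntegral X.hom]
    [IsSeparated Y.hom] [QuasiCompact Y.hom] [LocallyOfFiniteType Y.hom] [GeometricallyIntegral Y.hom]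
    (L M : (X ⊗ Y).left.Modules) (hL : PicF.IsInvertible L) (hM : PicF.IsInvertible M)
    (h : ∀ y : ↥Y.left, IsClosed ({y} : Set ↥Y.left) →
      Nonempty ((Scheme.Modules.pullback (pullback.fst (snd X Y).left (Y.left.fromSpecResidueField y))).obj L ≅
        (Scheme.Modules.pullback (pullback.fst (snd X Y).left (Y.left.fromSpecResidueField y))).obj M)) :
    ∃ N : Y.left.Modules, PicF.IsInvertible N ∧
      Nonempty (L ≅ CohB1.tensorMod M ((Scheme.Modules.pullback (snd X Y).left).obj N)) := by
  open CategoryTheory.Limits H25AbCube in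
  let f := pullback.snd X.hom Y.hom
  haveI : IsProper f := MorphismProperty.pullback_snd (P := @IsProper) _ _ inferInstance
  haveI : IsReduced Y.left := by
    haveI := GeometricallyIntegral.isIntegral_of_subsingleton Y.hom
    infer_instance
  haveI : Flat f := MorphismProperty.pullback_snd (P := @Flat) _ _ inferInstance
  haveI : LocallyOfFinitePresentation X.hom := by
    haveI : IsNoetherianRing (CommRingCat.of k) := inferInstanceAs (IsNoetherianRing k)
    exact LocallyOfFinitePresentation.iff_locallyOfFiniteType.2 inferInstance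
  haveI : LocallyOfFinitePresentation f :=
    MorphismProperty.pullback_snd (P := @LocallyOfFinitePresentation) _ _ inferInstance
  haveI : GeometricallyIntegral f := MorphismProperty.pullback_snd (P := @GeometricallyIntegral) _ _ inferInstance
  obtain ⟨K, hK, hKu⟩ := H25AbCube.exists_rep (H25AbCube.pc L hL - H25AbCube.pc M hM)
  obtain ⟨Z, ιZ, hι, hZ⟩ := H12Pic.exists_seesaw_subscheme f (fun s => inferInstance)
    (fun s => H12Pic.isIso_appTop_fiber_of_geomIntegral f s) hK
  haveI := hι
  haveI : JacobsonSpace Y.left := LocallyOfFiniteType.jacobsonSpace Y.hom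
  haveI : Surjective ιZ := by
    have hcl : ∀ x : Y.left, IsClosed ({x} : Set Y.left) → x ∈ Set.range ιZ := by
      intro x hx
      let t := Y.left.fromSpecResidueField x
      have h' := (H25AbCube.pc_eq_iff (H11Ample.isInvertible_pullback _ hL) (H11Ample.isInvertible_pullback _ hM)).2 (h x hx)
      rw [H25AbCube.pullP_pc _ L hL, H25AbCube.pullP_pc _ M hM] at h'
      obtain ⟨u', hu'⟩ := (hZ _ t).2 ⟨Coh.structureModule _, H11Ample.isInvertible_structureModule, by
        refine (H25AbCube.pc_eq_iff (H11Ample.isInvertible_pullback _ hK)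
          (H11Ample.isInvertible_pullback _ H11Ample.isInvertible_structureModule)).1 ?_
        rw [H25AbCube.pullP_pc _ K hK, H25AbCube.pullP_pc _ _ H11Ample.isInvertible_structureModule, H25AbCube.pc_one,
          map_zero, hKu, map_sub]
        exact sub_eq_zero.2 h'⟩
      have hmem : x ∈ Set.range (u' ≫ ιZ) := by
        rw [hu', Scheme.range_fromSpecResidueField]
        exact Set.mem_singleton x
      obtain ⟨w, hw⟩ := hmem
      exact ⟨u' w, hw⟩
    refine ⟨fun x => ?_⟩
    by_contra hx
    obtain ⟨y, hy, hyc⟩ := nonempty_inter_closedPoints (Z := (Set.range ιZ)ᶜ) ⟨x, hx⟩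
      ιZ.isClosedEmbedding.isClosed_range.isOpen_compl.isLocallyClosed
    exact hy (hcl y hyc)
  haveI : IsIso ιZ := isIso_of_isClosedImmersion_of_surjective ιZ
  obtain ⟨N, hN, ⟨φ⟩⟩ := (hZ Y.left (𝟙 _)).1 ⟨inv ιZ, IsIso.inv_hom_id ιZ⟩
  refine ⟨N, hN, ?_⟩
  have := (H25AbCube.pc_eq_iff (H11Ample.isInvertible_pullback _ hK) (H11Ample.isInvertible_pullback _ hN)).2 ⟨φ⟩
  rw [H25AbCube.pullP_pc _ K hK, H25AbCube.pullP_pc _ N hN, hKu] at this
  let j : (X ⊗ Y).left ⟶ Limits.pullback f (𝟙 Y.left) := Limits.pullback.lift (𝟙 _) f (by simp)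
  have h2 := congrArg (H25AbCube.pullP j) this
  rw [H25AbCube.pullP_pullP, H25AbCube.pullP_pullP, Limits.pullback.lift_fst, Limits.pullback.lift_snd,
    H25AbCube.pullP_id] at h2
  have hp := H11Ample.isInvertible_pullback (snd X Y).left hN
  refine (H25AbCube.pc_eq_iff hL (H11Ample.isInvertible_tensor hM hp)).1 ?_
  rw [H25AbCube.pc_tensor hM hp _, H25AbCube.pullP_pc (snd X Y).left N hN]
  exact sub_eq_iff_eq_add'.1 h2

end Groth.Agent.S16682
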