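import Groth.Statements.S16683
import Groth.Agent.H25PicSm.Tangent
import Groth.Agent.H25Hat.Numbers
import Groth.Agent.H12Pic.PicCurve.PicGroup
import Groth.Agent.H25Dual.Mumford
import Groth.Agent.H25Dual.Bilinear
import Groth.Agent.S7822
import Groth.Agent.S12413

set_option autoImplicit false
set_option linter.style.haveILetI false
set_option backward.isDefEq.respectTransparency false
set_option synthInstance.maxHeartbeats 200000
universe u
open CategoryTheory CategoryTheory.Limits MonoidalCategory CartesianMonoidalCategory MonObj GrpObj AlgebraicGeometry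
open AbVar

namespace Groth.Agent.S16683

/-- Fix a field k and a g-dimensional abelian variety X over k (a proper, geometrically integral k-group
scheme with underlying space of Krull dimension g), and let P be a k-scheme locally of finite type
which represents, through φ, the relative Picard functor Pic_{X/k} (the fppf sheaf associated to T ↦
Pic(X ×_k T)). Then P is smooth over k — in particular its identity component Pic⁰_{X/k}, the dual
of X, is reduced and hence an abelian variety — and the underlying space of P has Krull dimension g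
= dim X. (The published statement also identifies g with dim_k H^1(X, O_X) and the kernel of φ_L
with K(L) for L ample; those clauses are not part of this statement. The Picard scheme is taken as
given.) -/
theorem result (k : Type u) [Field k]
    (X : Over (Spec (CommRingCat.of k))) [GrpObj X] [IsProper X.hom] [GeometricallyIntegral X.hom]
    (g : ℕ) (hg : topologicalKrullDim ↥X.left = g)
    (P : Over (Spec (CommRingCat.of k)))
    (φ : ∀ T : Over (Spec (CommRingCat.of k)), PicF.Cl (PicF.XT X.hom T) → (T ⟶ P))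
    (hP : AbDual.IsRelPicK Scheme.fppfPrecoverage X.hom P φ) [LocallyOfFiniteType P.hom] :
    Smooth P.hom ∧ topologicalKrullDim ↥P.left = g := by
  haveI : IsIntegral X.left := GeometricallyIntegral.isIntegral_of_subsingleton X.hom
  haveI : Smooth X.hom := by
    letI : GrpObj (Over.mk X.hom) := (‹GrpObj X› : GrpObj (Over.mk X.hom))
    exact AlgebraicGeometry.smooth_of_grpObj X.hom
  letI : X.left.Over (Spec (CommRingCat.of k)) := ⟨X.hom⟩
  haveI : IsProper (X.left ↘ Spec (CommRingCat.of k)) := ‹IsProper X.hom›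
  haveI : Smooth (X.left ↘ Spec (CommRingCat.of k)) := ‹Smooth X.hom›
  letI : GrpObj (Over.mk (X.left ↘ Spec (CommRingCat.of k))) := (‹GrpObj X› : GrpObj (Over.mk X.hom))
  have h1g : Module.finrank k (Coh.HH X.left (Coh.structureModule X.left) 1) = g := by
    rw [Groth.Agent.H25Hat.finrank_structure k X.left g hg 1, Nat.choose_one_right]
  let σ : Spec (CommRingCat.of k) ⟶ X.left := (η[X] : 𝟙_ _ ⟶ X).left
  have hσ : σ ≫ X.hom = 𝟙 _ := Over.w η[X]
  have ha := fun (T : Over (Spec (CommRingCat.of k))) (U : T.left.Opens) =>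
    Groth.Agent.H25Dual.isIso_XTproj_app (A := X) T U
  have hcot := Groth.Agent.H25PicSm.finrank_cotangent_le X.left hσ ha P hP
  rw [h1g] at hcot
  letI := Groth.Agent.H12Pic.PicCurve.PicGroup.grpObj X.hom hσ P hP ha
  have hone : (η[P] : 𝟙_ _ ⟶ P) = Groth.Agent.H25PicSm.trivialPt X.left P (φ := φ) := by
    have h := Groth.Agent.H12Pic.PicCurve.PicGroup.pointEquiv_mul X.hom hσ P hP ha (𝟙_ _) 1 1
    rw [_root_.one_mul] at h
    have h' := mul_left_cancel (a := Groth.Agent.H12Pic.PicCurve.PicGroup.pointEquiv X.hom hσ P hP ha (𝟙_ _) 1)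
      (h.symm.trans (_root_.mul_one _).symm)
    refine Eq.trans ?_ h'.symm
    rw [Hom.one_def, toUnit_unit, Category.id_comp]
  obtain ⟨h7a, h7b, -⟩ := Groth.Agent.S7822.result k P
  have hpt : (η[P] : 𝟙_ _ ⟶ P).left (IsLocalRing.closedPoint k) =
      (Groth.Agent.H25PicSm.trivialPt X.left P (φ := φ)).left (IsLocalRing.closedPoint k) := by rw [hone]; rfl
  have hcot' : Module.finrank (IsLocalRing.ResidueField (P.left.presheaf.stalk (η[P].left (IsLocalRing.closedPoint k))))
      (IsLocalRing.CotangentSpace (P.left.presheaf.stalk (η[P].left (IsLocalRing.closedPoint k)))) ≤ g := by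
    rw [hpt]
    exact hcot
  obtain ⟨L, hL, B, gB, hB1, hB2, q, -, -, -, -, -, hdim, Pm, hPm, -, hl, hr, hU⟩ :=
    Groth.Agent.H25Hat.exists_universal X
  haveI := hB1
  have hbr := fun {T} => (Groth.Agent.H25Dual.bilinear (Groth.Agent.H25AbCube.pc (X := (X ⊗ B).left) Pm hPm) hl hr (T := T)).2
  let cP : PicF.Cl (PicF.XT X.hom B) := PicF.cl Pm
  have hcP : PicF.IsInvertibleCl cP := ⟨Pm, rfl, hPm⟩
  let emb : B ⟶ P := φ B cP
  have hrig : ∀ {T : Over (Spec (CommRingCat.of k))} (x : T ⟶ B),
      PicF.IsTrivialCl (PicF.pullCl (PicF.secT X.hom σ hσ T) (PicF.pullCl (PicF.XTmap X.hom x) cP)) := by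
    intro T x
    rw [← Groth.Agent.H17.PullCl.pullCl_comp, Groth.Agent.H25Dual.secT_eq, Groth.Agent.H25Dual.XTmap_eq,
      ← Over.comp_left]
    have he : lift (1 : T ⟶ X) (𝟙 T) ≫ X ◁ x = lift 1 x := by
      apply CartesianMonoidalCategory.hom_ext <;> simp
    rw [he]
    have h := (Groth.Agent.H25AbCube.pullP_pc (lift (1 : T ⟶ X) x).left Pm hPm
      (Groth.Agent.H11Ample.isInvertible_pullback _ hPm)).trans (hl x)
    rw [← Groth.Agent.H25AbCube.pc_one] at h
    exact Quot.sound ((Groth.Agent.H25AbCube.pc_eq_iff _ _).1 h)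
  have hinj : ∀ {T : Over (Spec (CommRingCat.of k))} (x y : T ⟶ B), x ≫ emb = y ≫ emb → x = y := by
    intro T x y hxy
    have h1 : φ T (PicF.pullCl (PicF.XTmap X.hom x) cP) = φ T (PicF.pullCl (PicF.XTmap X.hom y) cP) :=
      (hP.natural B T x cP hcP).trans (hxy.trans (hP.natural B T y cP hcP).symm)
    have h2 : PicF.pullCl (PicF.XTmap X.hom x) cP = PicF.pullCl (PicF.XTmap X.hom y) cP :=
      congrArg Subtype.val (Groth.Agent.H12Pic.RigPoints.point_injective X.hom hσ P hP ha T
        ⟨_, Groth.Agent.H17.PullCl.isInvertibleCl_pullCl _ hcP, hrig x⟩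
        ⟨_, Groth.Agent.H17.PullCl.isInvertibleCl_pullCl _ hcP, hrig y⟩ h1)
    rw [Groth.Agent.H25Dual.XTmap_eq, Groth.Agent.H25Dual.XTmap_eq] at h2
    have h3 : Groth.Agent.H25AbCube.ev (Groth.Agent.H25AbCube.pc (X := (X ⊗ B).left) Pm hPm) (X ◁ x) =
        Groth.Agent.H25AbCube.ev (Groth.Agent.H25AbCube.pc (X := (X ⊗ B).left) Pm hPm) (X ◁ y) := by
      have e := fun (w : T ⟶ B) => Groth.Agent.H25AbCube.pullP_pc (X ◁ w).left Pm hPm
        (Groth.Agent.H11Ample.isInvertible_pullback _ hPm)
      refine (e x).symm.trans (Eq.trans ?_ (e y))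
      exact (Groth.Agent.H25AbCube.pc_eq_iff _ _).2 ⟨(Groth.Agent.H12Pic.Sep.iso_of_cl_eq h2).some⟩
    have hw : ∀ w : T ⟶ B, X ◁ w = lift (fst X T) (snd X T ≫ w) := fun w => by
      apply CartesianMonoidalCategory.hom_ext <;> simp
    refine mul_inv_eq_one.1 (hU.triv (x * y⁻¹) ?_)
    rw [hw, MonObj.comp_mul, hbr, GrpObj.comp_inv]
    rw [hw, hw] at h3
    rw [h3, ← hbr, mul_inv_cancel]
    exact hr _
  haveI : Mono emb := ⟨fun {T} x y h => hinj x y h⟩
  haveI : Mono emb.left := inferInstance
  haveI : IsSeparated P.hom := Groth.Agent.S12413.result X.hom P φ hP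
  haveI : IsProper emb.left := by
    haveI : IsProper (emb.left ≫ P.hom) := by rw [Over.w]; exact hB1
    exact IsProper.of_comp emb.left P.hom
  haveI : IsClosedImmersion emb.left := (IsClosedImmersion.iff_isProper_and_mono emb.left).2 ⟨inferInstance, inferInstance⟩
  have hge : (g : WithBot ℕ∞) ≤ topologicalKrullDim ↥P.left := by
    rw [← hg, ← hdim]
    exact emb.left.isClosedEmbedding.isInducing.topologicalKrullDim_le
  have hdimP : topologicalKrullDim ↥P.left = g :=
    le_antisymm (h7a.trans (by exact_mod_cast hcot')) hge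
  refine ⟨h7b.2 ?_, hdimP⟩
  refine le_antisymm h7a (le_trans ?_ hge)
  exact_mod_cast hcot'

end Groth.Agent.S16683
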