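import Groth.Statements.S16685
import Groth.Agent.H20OT.Truncated
import Mathlib.RingTheory.Artinian.Ring

set_option autoImplicit false
universe u
open HopfRep

namespace Groth.Agent.S16685

/-- The description of the kernel of Frobenius established in the course of the proof. Let k be a field
of characteristic p > 0 and A a finite-dimensional commutative Hopf algebra over k which is a local
ring, the coordinate ring of a connected finite k-group scheme G; let I be the augmentation ideal
(the kernel of the counit), d = dim_k I/I² the dimension of the tangent space at the identity, and J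
⊆ A the ideal generated by the p-th powers of the elements of I, so that A/J is the coordinate ring
of the kernel G[F] of the relative Frobenius. Then A/J is isomorphic as a k-algebra to k[X_1, …,
X_d]/(X_1^p, …, X_d^p) (existence of an isomorphism; it depends on the choice of elements of I
lifting a basis of I/I²); in particular G[F] has rank p^d. -/
theorem result (k : Type u) [Field k] (p : ℕ) [Fact p.Prime] [CharP k p]
    (A : Type u) [CommRing A] [HopfAlgebra k A] [FiniteDimensional k A] [IsLocalRing A]
    (d : ℕ) (hd : Module.finrank k (RingHom.ker (Bialgebra.counitAlgHom k A).toRingHom).Cotangent = d) :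
    Nonempty ((A ⧸ Ideal.span ((fun a : A => a ^ p) '' (RingHom.ker (Bialgebra.counitAlgHom k A).toRingHom : Set A))) ≃ₐ[k]
      (MvPolynomial (Fin d) k ⧸ Ideal.span (Set.range fun i : Fin d => (MvPolynomial.X i : MvPolynomial (Fin d) k) ^ p))) := by
  haveI : IsNoetherianRing A := IsNoetherianRing.of_finite k A
  haveI : IsArtinianRing A := IsArtinianRing.of_finite k A
  haveI := Groth.Agent.H20OT.finite_cotangent (k := k) (A := A)
  let b := Module.finBasisOfFinrankEq k (Groth.Agent.H20OT.augIdeal k A).Cotangent hd
  obtain ⟨L⟩ := Groth.Agent.H20OT.exists_cotLift b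
  obtain ⟨m, hm⟩ := IsArtinianRing.isNilpotent_nilradical (R := A)
  have hmax : (Groth.Agent.H20OT.augIdeal k A).IsMaximal :=
    RingHom.ker_isMaximal_of_surjective _ fun c => ⟨algebraMap k A c, (Bialgebra.counitAlgHom k A).commutes c⟩
  have hnil : Groth.Agent.H20OT.augIdeal k A ≤ nilradical A := by
    rw [nilradical_eq_sInf]
    refine le_sInf fun J hJ => ?_
    haveI : J.IsPrime := hJ
    haveI : J.IsMaximal := IsArtinianRing.isMaximal_of_isPrime J
    rw [IsLocalRing.eq_maximalIdeal (inferInstance : J.IsMaximal), ← IsLocalRing.eq_maximalIdeal hmax]
  exact L.nonempty_algEquiv p (n := m) (le_bot_iff.mp ((Ideal.pow_right_mono hnil m).trans (le_of_eq hm)))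

end Groth.Agent.S16685
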