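import Groth.Statements.S16687
import Groth.Agent.H25AbCube.Formula

set_option autoImplicit false
universe u
open CategoryTheory CategoryTheory.Limits MonoidalCategory CartesianMonoidalCategory MonObj GrpObj AlgebraicGeometry
open AbVar

namespace Groth.Agent.S16687

/-- Let X be an abelian variety over a field k (a proper, geometrically integral k-group scheme) with
group law m : X ×_k X → X and projections p₁, p₂, let L be an invertible O_X-module, and let n ≥ 2
be an integer such that n^*L ≅ L^{⊗ n}, where n : X → X is multiplication by n (the n-th power of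
the identity in the group of endomorphisms). Then the class of L lies in Pic⁰_{X/k}, i.e. the
Mumford module of L is trivial: m^*L ≅ p₁^*L ⊗ p₂^*L (existence of an isomorphism of modules on X
×_k X). (The published statement allows any integer n other than 0 and 1, negative n included; this
row takes n a natural number with n ≥ 2. The converse implication also holds; this row is the
direction from one such n.) -/
theorem result (k : Type u) [Field k]
    (X : Over (Spec (CommRingCat.of k))) [GrpObj X] [IsProper X.hom] [GeometricallyIntegral X.hom]
    (L : X.left.Modules) (hL : PicF.IsInvertible L) (n : ℕ) (hn : 2 ≤ n)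
    (h : Nonempty ((Scheme.Modules.pullback (𝟙 X ^ n).left).obj L ≅ CohB1.tensorPow L n)) :
    Nonempty ((Scheme.Modules.pullback μ[X].left).obj L ≅
      CohB1.tensorMod ((Scheme.Modules.pullback (fst X X).left).obj L)
        ((Scheme.Modules.pullback (snd X X).left).obj L)) := by
  have htheta : ∀ (N : X.left.Modules) (hN : PicF.IsInvertible N), H25AbCube.theta (H25AbCube.pc N hN) = 0 ↔
      Nonempty ((Scheme.Modules.pullback μ[X].left).obj N ≅
        CohB1.tensorMod ((Scheme.Modules.pullback (fst X X).left).obj N) ((Scheme.Modules.pullback (snd X X).left).obj N)) :=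
    fun N hN => by
      have h1 := H11Ample.isInvertible_pullback μ[X].left hN
      have h2 := H11Ample.isInvertible_pullback (fst X X).left hN
      have h3 := H11Ample.isInvertible_pullback (snd X X).left hN
      rw [← H25AbCube.pc_eq_iff h1 (H11Ample.isInvertible_tensor h2 h3), H25AbCube.pc_tensor h2 h3,
        H25AbCube.pullP_pc _ N hN, H25AbCube.pullP_pc _ N hN, H25AbCube.pullP_pc _ N hN, H25AbCube.theta,
        sub_sub, sub_eq_zero, Hom.mul_def, lift_fst_snd, Category.id_comp]
      rfl
  have htp : ∀ m : ℕ, ∃ h, H25AbCube.pc (CohB1.tensorPow L m) h = m • H25AbCube.pc L hL := fun m => by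
    induction m with
    | zero => exact ⟨H11Ample.isInvertible_structureModule, by rw [zero_smul]; exact H25AbCube.pc_one⟩
    | succ m ih =>
      obtain ⟨hm, e⟩ := ih
      exact ⟨H11Ample.isInvertible_tensor hm hL, (H25AbCube.pc_tensor hm hL _).trans (by rw [e, succ_nsmul])⟩
  obtain ⟨hp, ep⟩ := htp n
  refine (htheta L hL).1 (H25AbCube.theta_eq_zero_of_ev_pow _ hn ?_)
  have := (H25AbCube.pc_eq_iff (H11Ample.isInvertible_pullback (𝟙 X ^ n).left hL) hp).2 h
  rwa [H25AbCube.pullP_pc _ L hL, ep] at this

end Groth.Agent.S16687
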