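import Groth.Statements.S16691
import Groth.Agent.H20Comod.LeftDual
import Groth.Prelude.Def_ComodDual

set_option autoImplicit false
universe u v w w'
open scoped TensorProduct
open ComodTens

namespace Groth.Agent.S16691
open TensorProduct in
/-- `(b ⊗ a) ⊗ a' ↦ b ⊗ a a'`. -/
def mA {k : Type u} [CommRing k] (B : Type w) [AddCommGroup B] [Module k B] (A : Type v) [CommRing A] [Algebra k A] :
    (B ⊗[k] A) ⊗[k] A →ₗ[k] B ⊗[k] A :=
  (LinearMap.mul' k A).lTensor B ∘ₗ (TensorProduct.assoc k B A A).toLinearMap

open TensorProduct in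
theorem mA_tmul {k : Type u} [CommRing k] {B : Type w} [AddCommGroup B] [Module k B] {A : Type v} [CommRing A]
    [Algebra k A] (b : B) (a a' : A) : mA (k := k) B A ((b ⊗ₜ a) ⊗ₜ a') = b ⊗ₜ (a * a') := by
  simp [mA]

open TensorProduct in
/-- Twisting of a map along the coaction. -/
def twist {k : Type u} [CommRing k] {B : Type w} [AddCommGroup B] [Module k B] {A : Type v} [CommRing A]
    [Bialgebra k A] {M : Type w'} [AddCommGroup M] [Module k M] (cM : HopfRep.Comod k A M) (g : A →ₗ[k] A)
    (K : M →ₗ[k] B ⊗[k] A) : M →ₗ[k] B ⊗[k] A :=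
  mA B A ∘ₗ TensorProduct.map K g ∘ₗ cM.coact

open TensorProduct in
theorem twist_twist {k : Type u} [CommRing k] {B : Type w} [AddCommGroup B] [Module k B] {A : Type v} [CommRing A]
    [Bialgebra k A] {M : Type w'} [AddCommGroup M] [Module k M] (cM : HopfRep.Comod k A M) (f g : A →ₗ[k] A)
    (K : M →ₗ[k] B ⊗[k] A) :
    twist cM g (twist cM f K) =
      twist cM (LinearMap.mul' k A ∘ₗ TensorProduct.map f g ∘ₗ CoalgebraStruct.comul (R := k)) K := by
  apply LinearMap.ext
  intro m
  have hc := LinearMap.congr_fun cM.coassoc m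
  simp only [LinearMap.coe_comp, Function.comp_apply, LinearEquiv.coe_coe] at hc
  let Φ : M ⊗[k] (A ⊗[k] A) →ₗ[k] B ⊗[k] A := mA B A ∘ₗ TensorProduct.map K (LinearMap.mul' k A ∘ₗ TensorProduct.map f g)
  have hl : ∀ z : (M ⊗[k] A) ⊗[k] A, mA B A (TensorProduct.map (mA B A ∘ₗ TensorProduct.map K f) g z) =
      Φ (TensorProduct.assoc k M A A z) := by
    intro z
    induction z using TensorProduct.induction_on with
    | zero => simp
    | tmul x a =>
      induction x using TensorProduct.induction_on with
      | zero => simp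
      | tmul p b =>
        simp only [Φ, TensorProduct.map_tmul, LinearMap.coe_comp, Function.comp_apply, TensorProduct.assoc_tmul,
          LinearMap.mul'_apply]
        generalize K p = y
        induction y using TensorProduct.induction_on with
        | zero => simp
        | tmul q c => simp [mA_tmul, mul_assoc]
        | add u v hu hv => simp only [map_add, TensorProduct.add_tmul, hu, hv]
      | add u v hu hv => simp only [TensorProduct.add_tmul, map_add, hu, hv]
    | add u v hu hv => simp only [map_add, hu, hv]
  calc twist cM g (twist cM f K) m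
      = mA B A (TensorProduct.map (mA B A ∘ₗ TensorProduct.map K f) g (cM.coact.rTensor A (cM.coact m))) := by
        show mA B A (TensorProduct.map (twist cM f K) g (cM.coact m)) = _
        rw [LinearMap.rTensor, TensorProduct.map_map, LinearMap.comp_id]
        rfl
    _ = Φ ((CoalgebraStruct.comul (R := k) (A := A)).lTensor M (cM.coact m)) := by rw [hl, hc]
    _ = _ := by
        show mA B A (TensorProduct.map K _ _) = mA B A (TensorProduct.map K _ (cM.coact m))
        rw [LinearMap.lTensor, TensorProduct.map_map, LinearMap.comp_id, LinearMap.comp_assoc]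

open TensorProduct in
theorem twist_unit {k : Type u} [CommRing k] {B : Type w} [AddCommGroup B] [Module k B] {A : Type v} [CommRing A]
    [Bialgebra k A] {M : Type w'} [AddCommGroup M] [Module k M] (cM : HopfRep.Comod k A M)
    (K : M →ₗ[k] B ⊗[k] A) :
    twist cM (Algebra.linearMap k A ∘ₗ CoalgebraStruct.counit (R := k)) K = K := by
  apply LinearMap.ext
  intro m
  have hc := LinearMap.congr_fun cM.counit_comp m
  simp only [LinearMap.coe_comp, Function.comp_apply, LinearMap.flip_apply, TensorProduct.mk_apply] at hc
  show mA B A (TensorProduct.map K _ (cM.coact m)) = K m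
  rw [show TensorProduct.map K (Algebra.linearMap k A ∘ₗ CoalgebraStruct.counit (R := k)) (cM.coact m) =
    TensorProduct.map K (Algebra.linearMap k A) ((CoalgebraStruct.counit (R := k) (A := A)).lTensor M (cM.coact m)) by
      rw [LinearMap.lTensor, TensorProduct.map_map, LinearMap.comp_id], hc, TensorProduct.map_tmul, Algebra.linearMap_apply, map_one]
  generalize K m = y
  induction y using TensorProduct.induction_on with
  | zero => simp
  | tmul q c => simp [mA_tmul]
  | add u v hu hv => simp only [TensorProduct.add_tmul, map_add, hu, hv]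

open TensorProduct in
theorem twist_id_incl {k : Type u} [CommRing k] {B : Type w} [AddCommGroup B] [Module k B] {A : Type v} [CommRing A]
    [Bialgebra k A] {M : Type w'} [AddCommGroup M] [Module k M] (cM : HopfRep.Comod k A M) (h : M →ₗ[k] B) :
    twist cM LinearMap.id ((TensorProduct.mk k B A).flip 1 ∘ₗ h) = h.rTensor A ∘ₗ cM.coact := by
  apply LinearMap.ext
  intro m
  show mA B A (TensorProduct.map _ LinearMap.id (cM.coact m)) = h.rTensor A (cM.coact m)
  generalize cM.coact m = z
  induction z using TensorProduct.induction_on with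
  | zero => simp
  | tmul q c => simp [mA_tmul]
  | add u v hu hv => simp only [map_add, hu, hv]


/-- Let `k` be a commutative ring, `A` a commutative Hopf algebra over `k`, flat over `k`, `B` a flat
`k`-module with a right `A`-comodule structure, and `M` a finitely presented `k`-module with a right
`A`-comodule structure; let `M^*` carry the contragredient structure `d` (for each form `f`, `d f`
read as a map `M → A` is `m ↦ Σ f(m₀) S(m₁)`) and `B ⊗ M^*` the tensor-product coaction `b ⊗ φ ↦ Σ
(b₀ ⊗ φ₀) ⊗ b₁ φ₁`. Then `b ⊗ φ ↦ (m ↦ φ(m) b)` restricts to a bijection from the invariants `(B ⊗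
M^*)^A` (elements with coaction `x ⊗ 1`) onto the `A`-comodule maps `M → B`. (The published
statement assumes `B` only finitely presented over `k`; for `k = ℤ`, `A = ℤ` the Hopf algebra of the
trivial group and `B = M = ℤ/2` with trivial coactions, `M^* = 0` so the invariants vanish while the
identity of `ℤ/2` is a comodule map, and the published proof uses that `B ⊗ M^* → Hom(M, B)` is
bijective, which holds for `B` flat; so `B` is taken flat here.) -/
theorem result (k : Type u) [CommRing k]
    (A : Type v) [CommRing A] [HopfAlgebra k A] [Module.Flat k A]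
    (B : Type w) [AddCommGroup B] [Module k B] [Module.Flat k B] (cB : HopfRep.Comod k A B)
    (M : Type w') [AddCommGroup M] [Module k M] [Module.FinitePresentation k M]
    (cM : HopfRep.Comod k A M)
    (d : HopfRep.Comod k A (Module.Dual k M)) (hd : ComodTens.Comod.IsDual cM d) :
    Set.BijOn
      (fun x : B ⊗[k] Module.Dual k M => dualTensorHom k M B (TensorProduct.comm k B (Module.Dual k M) x))
      ((@HopfRep.fixedPts k A _ _ _ (B ⊗[k] Module.Dual k M) _ _ (ComodTens.Comod.tensor cB d)) :
        Set (B ⊗[k] Module.Dual k M))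
      {h : M →ₗ[k] B | @Hoch.IsComodHom k _ A _ _ _ M _ _ cM B _ _ cB h} := by
  classical
  let Ψ : B ⊗[k] Module.Dual k M →ₗ[k] (M →ₗ[k] B) := H20Comod.readL B
  have hΨb : Function.Bijective Ψ :=
    H20Comod.dualTensorHom_bijective_of_flat.comp (TensorProduct.comm k B (Module.Dual k M)).bijective
  let Θ : (B ⊗[k] Module.Dual k M) ⊗[k] A →ₗ[k] (M →ₗ[k] B ⊗[k] A) :=
    H20Comod.readL (B ⊗[k] A) ∘ₗ (TensorProduct.rightComm k B (Module.Dual k M) A).toLinearMap
  have hΘ : Function.Injective Θ :=
    H20Comod.readL_injective.comp (TensorProduct.rightComm k B (Module.Dual k M) A).injective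
  have hΘt : ∀ (y : B ⊗[k] Module.Dual k M) (a : A) (m : M), Θ (y ⊗ₜ a) m = Ψ y m ⊗ₜ a := by
    intro y a m
    induction y using TensorProduct.induction_on with
    | zero => simp
    | tmul b f => simp [Θ, Ψ, TensorProduct.smul_tmul']
    | add u v hu hv => simp only [TensorProduct.add_tmul, map_add, LinearMap.add_apply, hu, hv]
  let c := ComodTens.Comod.tensor cB d
  have key : ∀ x : B ⊗[k] Module.Dual k M,
      Θ (c.coact x) = twist cM (HopfAlgebraStruct.antipode (R := k) (A := A)) (cB.coact ∘ₗ Ψ x) := by
    intro x
    induction x using TensorProduct.induction_on with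
    | zero => simp [twist]
    | add u v hu hv =>
      rw [map_add, map_add, hu, hv]
      apply LinearMap.ext
      intro m
      show _ = mA B A (TensorProduct.map (cB.coact ∘ₗ Ψ (u + v)) _ (cM.coact m))
      simp only [map_add, LinearMap.comp_add, TensorProduct.map_add_left, LinearMap.add_apply]
      rfl
    | tmul b f =>
      apply LinearMap.ext
      intro m
      obtain ⟨s, hs⟩ := TensorProduct.exists_finset (cB.coact b)
      obtain ⟨t, ht⟩ := TensorProduct.exists_finset (d.coact f)
      rw [ComodTens.tensor_coact_tmul_of_sum cB d s t b f (fun i => i.1) (fun i => i.2) (fun j => j.1) (fun j => j.2) hs ht,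
        map_sum, LinearMap.sum_apply]
      simp only [map_sum, LinearMap.sum_apply, hΘt]
      have hdf := LinearMap.congr_fun (hd f) m
      rw [ht, ComodTens.dualCoactFun_apply, map_sum, LinearMap.sum_apply] at hdf
      calc ∑ i ∈ s, ∑ j ∈ t, Ψ (i.1 ⊗ₜ[k] j.1) m ⊗ₜ[k] (i.2 * j.2)
          = ∑ i ∈ s, i.1 ⊗ₜ[k] (i.2 * ∑ j ∈ t, dualTensorHom k M A (j.1 ⊗ₜ[k] j.2) m) := by
            refine Finset.sum_congr rfl fun i _ => ?_
            rw [Finset.mul_sum, TensorProduct.tmul_sum]
            refine Finset.sum_congr rfl fun j _ => ?_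
            simp [Ψ, TensorProduct.smul_tmul]
        _ = _ := by
            rw [hdf]
            show _ = mA B A (TensorProduct.map (cB.coact ∘ₗ Ψ (b ⊗ₜ[k] f)) _ (cM.coact m))
            generalize cM.coact m = z
            induction z using TensorProduct.induction_on with
            | zero => simp
            | tmul p a =>
              rw [TensorProduct.map_tmul, TensorProduct.map_tmul, LinearMap.comp_apply,
                show Ψ (b ⊗ₜ[k] f) p = f p • b from H20Comod.readL_tmul b f p, map_smul, hs]
              simp only [Finset.smul_sum, TensorProduct.sum_tmul, map_sum, TensorProduct.lid_tmul]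
              refine Finset.sum_congr rfl fun i _ => ?_
              rw [TensorProduct.smul_tmul', mA_tmul, mul_smul_comm, ← TensorProduct.smul_tmul]
            | add u v hu hv => simp only [map_add, mul_add, TensorProduct.tmul_add, Finset.sum_add_distrib, hu, hv]
  have hS1 : LinearMap.mul' k A ∘ₗ TensorProduct.map (HopfAlgebraStruct.antipode (R := k) (A := A)) LinearMap.id ∘ₗ
      CoalgebraStruct.comul (R := k) = Algebra.linearMap k A ∘ₗ CoalgebraStruct.counit (R := k) :=
    HopfAlgebra.mul_antipode_rTensor_comul
  have hS2 : LinearMap.mul' k A ∘ₗ TensorProduct.map LinearMap.id (HopfAlgebraStruct.antipode (R := k) (A := A)) ∘ₗ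
      CoalgebraStruct.comul (R := k) = Algebra.linearMap k A ∘ₗ CoalgebraStruct.counit (R := k) :=
    HopfAlgebra.mul_antipode_lTensor_comul
  have hincl : ∀ x : B ⊗[k] Module.Dual k M, Θ (x ⊗ₜ[k] (1 : A)) = (TensorProduct.mk k B A).flip 1 ∘ₗ Ψ x :=
    fun x => LinearMap.ext fun m => hΘt x 1 m
  have hiff : ∀ x, (c.coact x = x ⊗ₜ[k] (1 : A)) ↔ cB.coact ∘ₗ Ψ x = (Ψ x).rTensor A ∘ₗ cM.coact := by
    intro x
    rw [← hΘ.eq_iff, key, hincl]
    constructor
    · intro h
      have h' := congrArg (twist cM LinearMap.id) h
      rwa [twist_twist, hS1, twist_unit, twist_id_incl] at h'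
    · intro h
      rw [h, ← twist_id_incl, twist_twist, hS2, twist_unit]
  refine ⟨fun x hx => (hiff x).1 hx, fun x _ y _ hxy => hΨb.1 hxy, fun h hh => ?_⟩
  obtain ⟨x, rfl⟩ := hΨb.2 h
  exact ⟨x, (hiff x).2 hh, rfl⟩

end Groth.Agent.S16691
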