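import Groth.Statements.S16697
import Groth.Agent.H14AlgSt.WellNighSep

set_option autoImplicit false
set_option backward.isDefEq.respectTransparency false
set_option backward.isDefEq.respectTransparency.types false
universe u
open AlgSt AlgSt.IsWellNighAffine

namespace Groth.Agent.S16697

open CategoryTheory AlgebraicGeometry in
/-- A well-nigh affine algebraic stack is quasi-compact, quasi-DM over `S` and separated over `S` (for
`S = Spec ℤ` these are the absolute notions of the published statement). The characterisation by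
presentations `[U/R]` with `U`, `R` affine and `s`, `t` finite locally free is not stated. -/
theorem result (S : Scheme.{u}) (𝒳 : AlgSt.Cat S)
    (h𝒳 : AlgSt.IsAlgStack Scheme.fppfPrecoverage 𝒳) (hw : AlgSt.IsWellNighAffine 𝒳) :
    AlgSt.IsQuasiCompact 𝒳 ∧ AlgSt.IsQuasiDMOver 𝒳 ∧ AlgSt.IsSeparatedOver 𝒳 := by
  obtain ⟨U, x, hU, hx⟩ := hw
  have : IsAffine U.left := hU
  have : IsSeparated U.hom := inferInstance
  have h1 := Groth.Agent.H14AlgSt.repWith_mono (fun _ _ _ h => h.1.1.2) hx
  have h2 := Groth.Agent.H14AlgSt.repWith_mono (fun _ _ _ h => h.2) hx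
  have h3 := Groth.Agent.H14AlgSt.repWith_mono (fun _ _ _ h => h.1.1.1) hx
  have h4 := Groth.Agent.H14AlgSt.repWith_mono (fun _ _ _ h => h.1.2) hx
  refine ⟨Groth.Agent.H14AlgSt.isQuasiCompact_of_surjective (Groth.Agent.H14AlgSt.isAlgStack_overCat U) h𝒳
      (Groth.Agent.H14AlgSt.isQuasiCompact_overCat U) x
      (Groth.Agent.H14AlgSt.surjective_of_repWith h𝒳.isStack.1 h3), ?_,
    Groth.Agent.H14AlgSt.isSeparatedOver_of_finite_chart h𝒳 h1 h2 h3 h4⟩
  have he := Groth.Agent.H14AlgSt.toOverCat_isEquivOver U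
  exact Groth.Agent.H14AlgSt.repWith_diag_of_space_atlas Groth.Agent.H14AlgSt.etLocal_quasiFinite
    (fun _ _ _ f g h => by
      have : LocallyQuasiFinite (f ≫ g) := h.1
      have : LocallyOfFiniteType (f ≫ g) := h.2
      exact ⟨LocallyQuasiFinite.of_comp f g, locallyOfFiniteType_of_comp f g⟩)
    Groth.Agent.H14AlgSt.localFppf_quasiFinite h𝒳
    (W := ⟨(AlgSp.yon S).obj U, AlgSp.IsAlgSpace.yon_obj U⟩)
    ((Groth.Agent.H14AlgSt.repWith_equiv_comp_iff he).1 h1)
    ((Groth.Agent.H14AlgSt.repWith_equiv_comp_iff he).1 h2)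
    ((Groth.Agent.H14AlgSt.repWith_equiv_comp_iff he).1 h3)
    ((Groth.Agent.H14AlgSt.repWith_equiv_comp_iff he).1
      (Groth.Agent.H14AlgSt.repWith_mono
        (fun _ _ _ h => Groth.Agent.H14AlgSt.locP_quasiFinite_of_isFiniteMor h) h4))

end Groth.Agent.S16697
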