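import Groth.Statements.S16698
import Groth.Agent.H14AlgSt.WellNighSpace
import Groth.Agent.H14AlgSt.SetoidSpace

set_option autoImplicit false
set_option backward.isDefEq.respectTransparency false
set_option backward.isDefEq.respectTransparency.types false
universe u
open AlgSt AlgSt.IsWellNighAffine

namespace Groth.Agent.S16698

open CategoryTheory AlgebraicGeometry in
/-- A well-nigh affine algebraic stack which is an algebraic space is an affine scheme. -/
theorem result (S : Scheme.{u}) (𝒳 : AlgSt.Cat S)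
    (h𝒳 : AlgSt.IsAlgStack Scheme.fppfPrecoverage 𝒳) (hw : AlgSt.IsWellNighAffine 𝒳)
    (hsp : AlgSt.RepByAlgSp 𝒳) :
    ∃ (U : Over S) (e : AlgSt.ofSch U ⥤ᵇ 𝒳), IsAffine U.left ∧ FibCat.IsEquivOver e := by
  obtain ⟨F, e, he⟩ := hsp
  obtain ⟨e', ⟨i1⟩, ⟨i2⟩⟩ := he
  have he : FibCat.IsEquivOver e := ⟨e', ⟨i1⟩, ⟨i2⟩⟩
  have he' : FibCat.IsEquivOver e' := ⟨e, ⟨i2⟩, ⟨i1⟩⟩
  obtain ⟨U, x, hU, hx⟩ := hw
  have hx' := (Groth.Agent.H14AlgSt.repWith_comp_equiv_iff he').2 hx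
  have hx'' := (Groth.Agent.H14AlgSt.repWith_equiv_comp_iff
    (Groth.Agent.H14AlgSt.toOverCat_isEquivOver U)).1 hx'
  let q : (AlgSp.yon S).obj U ⟶ F.obj :=
    ObjectProperty.homMk (Groth.Agent.H14AlgSt.mapOfFun
      (BasedFunctor.comp (AlgSt.toOverCat U) (BasedFunctor.comp x e')))
  have hq := Groth.Agent.H14AlgSt.repWith_of_iso
    (Groth.Agent.H14AlgSt.isoOfPshMap (BasedFunctor.comp (AlgSt.toOverCat U) (BasedFunctor.comp x e'))) hx''
  have := Groth.Agent.H14AlgSt.respectsIso_locP (S := S) @Flat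
  have := Groth.Agent.H14AlgSt.respectsIso_locP (S := S) @LocallyOfFinitePresentation
  have := Groth.Agent.H14AlgSt.respectsIso_surjective (S := S)
  have : (AlgSp.IsFiniteMor (S := S)).RespectsIso := by
    have e : (AlgSp.IsFiniteMor (S := S)) = AlgSp.RepWith @IsFinite := by
      ext F G f; exact Groth.Agent.H13AlgSp.isFiniteMor_iff
    rw [e]; infer_instance
  obtain ⟨h1, h2, h3, h4⟩ := Groth.Agent.H14AlgSt.repWith_of_repBySpWith_finite q
    ((Groth.Agent.H14AlgSt.repBySpWith_iff _ _).2 hq)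
  have : IsAffine U.left := hU
  obtain ⟨M, hM, ⟨μ⟩⟩ := Groth.Agent.H14AlgSt.exists_affine_of_finLocFree_cover h1 h2 h3 h4
  have : IsIso μ.hom.hom := (sheafToPresheaf _ _).map_isIso μ.hom
  exact ⟨M, BasedFunctor.comp (AlgSt.ofSpMap μ.hom) e, hM,
    Groth.Agent.H14Fib.isEquivOver_comp (Groth.Agent.H14AlgSt.isEquivOver_ofPshMap _) he⟩

end Groth.Agent.S16698
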