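import Groth.Statements.S16699
import Groth.Agent.H14AlgSt.AlgFp

set_option autoImplicit false
set_option backward.isDefEq.respectTransparency false
set_option backward.isDefEq.respectTransparency.types false
universe u
open AlgSt AlgSt.IsWellNighAffine

namespace Groth.Agent.S16699

open CategoryTheory AlgebraicGeometry in
/-- An algebraic stack affine over a well-nigh affine algebraic stack is well-nigh affine. -/
theorem result (S : Scheme.{u}) (𝒳 𝒳' : AlgSt.Cat S)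
    (h𝒳 : AlgSt.IsAlgStack Scheme.fppfPrecoverage 𝒳) (h𝒳' : AlgSt.IsAlgStack Scheme.fppfPrecoverage 𝒳')
    (hw : AlgSt.IsWellNighAffine 𝒳) (f : 𝒳' ⥤ᵇ 𝒳) (hf : AlgSt.RepByAlgSpWith AlgSp.IsAffineMor f) :
    AlgSt.IsWellNighAffine 𝒳' := by
  obtain ⟨U, x, hU, hx⟩ := hw
  obtain ⟨F, e, he, hF⟩ := hf U x
  obtain ⟨W, i, g, sq, hW⟩ := hF hU (𝟙 ((AlgSp.yon S).obj U))
  have : IsIso g := sq.isIso_fst_of_isIso
  have : IsIso g.hom := (sheafToPresheaf _ _).map_isIso g
  have hE : FibCat.IsEquivOver (BasedFunctor.comp (AlgSt.ofOverCat W) (BasedFunctor.comp (AlgSt.ofSpMap g) e)) :=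
    Groth.Agent.H14Fib.isEquivOver_comp (Groth.Agent.H14AlgSt.ofOverCat_isEquivOver W)
      (Groth.Agent.H14Fib.isEquivOver_comp (Groth.Agent.H14AlgSt.isEquivOver_ofPshMap _) he)
  exact ⟨W, _, hW, (Groth.Agent.H14AlgSt.repWith_equiv_comp_iff hE).1
    (Groth.Agent.H14AlgSt.repWith_fpSnd f hx)⟩

end Groth.Agent.S16699
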