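import Groth.Statements.S1670
import Mathlib
import Groth.Agent.H22Alg.FieldIrred

set_option autoImplicit false
universe u
open CategoryTheory CategoryTheory.Limits AlgebraicGeometry
open Variety

namespace Groth.Agent.S1670

/-- Let X be locally of finite type over k, K a separable closure of k, and T an irreducible component
of X. Then the inverse image of T in X_K is the union of the finitely many irreducible components of
X_K mapping into T, and these form a single orbit under the action of the k-automorphisms of K on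
X_K. -/
theorem result (k : Type u) [Field k] (X : Scheme.{u}) [X.Over (Spec (CommRingCat.of k))] [LocallyOfFiniteType (X ↘ (Spec (CommRingCat.of k)))]
    (T : Set X) (hT : T ∈ irreducibleComponents (X : Type u)) :
    {T' : Set (Curv2.bc k X (SeparableClosure k)) | T' ∈ irreducibleComponents (Curv2.bc k X (SeparableClosure k) : Type u) ∧
        (Curv2.bcFst k X (SeparableClosure k)).base '' T' ⊆ T}.Finite ∧
      (Curv2.bcFst k X (SeparableClosure k)).base ⁻¹' T = ⋃₀ {T' : Set (Curv2.bc k X (SeparableClosure k)) | T' ∈ irreducibleComponents (Curv2.bc k X (SeparableClosure k) : Type u) ∧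
        (Curv2.bcFst k X (SeparableClosure k)).base '' T' ⊆ T} ∧
      ∀ T' T'' : Set (Curv2.bc k X (SeparableClosure k)), T' ∈ irreducibleComponents (Curv2.bc k X (SeparableClosure k) : Type u) →
        T'' ∈ irreducibleComponents (Curv2.bc k X (SeparableClosure k) : Type u) →
        (Curv2.bcFst k X (SeparableClosure k)).base '' T' ⊆ T → (Curv2.bcFst k X (SeparableClosure k)).base '' T'' ⊆ T →
        ∃ σ : (SeparableClosure k) ≃ₐ[k] (SeparableClosure k), (Curv2.galAct k X (SeparableClosure k) σ).base '' T' = T'' := by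
  obtain ⟨η, hη, rfl⟩ := Groth.Agent.H22Alg.FieldIrred.eq_closure_of_mem_irreducibleComponents hT
  set p := Curv2.bcFst k X (SeparableClosure k)
  have hgen : ∀ ξ ∈ genericPoints ↥(Curv2.bc k X (SeparableClosure k)), p '' closure {ξ} ⊆ closure {η} → p ξ = η := fun ξ hξ hsub =>
    Groth.Agent.H8Props.mem_genericPoints_iff.mp (Groth.Agent.H22Alg.FieldIrred.map_genericPoints (X ↘ Spec (CommRingCat.of k)) (SeparableClosure k) hξ) η
      (specializes_iff_mem_closure.mpr (hsub ⟨ξ, subset_closure rfl, rfl⟩)) |>.symm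
  refine ⟨?_, Set.Subset.antisymm (fun z hz => ?_) (Set.sUnion_subset fun Z hZ => Set.image_subset_iff.mp hZ.2), fun T' T'' hT' hT'' h' h'' => ?_⟩
  · obtain ⟨W, hW, hηW, -⟩ := exists_isAffineOpen_mem_and_subset (x := η) (U := ⊤) trivial
    haveI : IsLocallyNoetherian (Curv2.bc k X (SeparableClosure k)) :=
      LocallyOfFiniteType.isLocallyNoetherian (pullback.snd (X ↘ Spec (CommRingCat.of k)) (Spec.map (CommRingCat.ofHom (algebraMap k (SeparableClosure k)))))
    haveI : IsAffineHom p :=
      MorphismProperty.pullback_fst (X ↘ Spec (CommRingCat.of k)) (Spec.map (CommRingCat.ofHom (algebraMap k (SeparableClosure k)))) inferInstance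
    let U : (Curv2.bc k X (SeparableClosure k)).Opens := p ⁻¹ᵁ W
    have hU : IsAffineOpen U := hW.preimage p
    haveI : TopologicalSpace.NoetherianSpace ((U : Set ↥(Curv2.bc k X (SeparableClosure k))) : Type u) :=
      haveI : IsNoetherianRing Γ(Curv2.bc k X (SeparableClosure k), U) := IsLocallyNoetherian.component_noetherian ⟨U, hU⟩
      noetherianSpace_of_isAffineOpen U hU
    have hfin : (genericPoints ((U : Set ↥(Curv2.bc k X (SeparableClosure k))) : Type u)).Finite :=
      genericPoints.finite TopologicalSpace.NoetherianSpace.finite_irreducibleComponents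
    refine (hfin.image fun w => closure {w.1}).subset fun T' ⟨hT', hsub⟩ => ?_
    obtain ⟨ξ, hξ, rfl⟩ := Groth.Agent.H22Alg.FieldIrred.eq_closure_of_mem_irreducibleComponents hT'
    have hξU : ξ ∈ U := show p ξ ∈ W from (hgen ξ hξ hsub).symm ▸ hηW
    refine ⟨⟨ξ, hξU⟩, (Groth.Agent.H8Props.mem_genericPoints_iff (X := U.toScheme)).mpr fun w hw => ?_, rfl⟩
    exact Subtype.ext (Groth.Agent.H8Props.mem_genericPoints_iff.mp hξ _ (hw.map continuous_subtype_val))
  · obtain ⟨ξ, hξ, hξz, hξη⟩ := Groth.Agent.H22Alg.FieldIrred.exists_genericPoint_specializes (X ↘ Spec (CommRingCat.of k)) (SeparableClosure k) z hη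
      (specializes_iff_mem_closure.mpr hz)
    refine ⟨closure {ξ}, ⟨hξ, ?_⟩, hξz.mem_closure⟩
    rw [show p '' closure {ξ} = closure {p ξ} from Groth.Agent.H22Alg.FieldIrred.image_closure (X ↘ Spec (CommRingCat.of k)) (SeparableClosure k) hξ,
      show p ξ = η from hξη]
  · obtain ⟨ξ', hξ', rfl⟩ := Groth.Agent.H22Alg.FieldIrred.eq_closure_of_mem_irreducibleComponents hT'
    obtain ⟨ξ'', hξ'', rfl⟩ := Groth.Agent.H22Alg.FieldIrred.eq_closure_of_mem_irreducibleComponents hT''
    obtain ⟨σ, hσ⟩ := Groth.Agent.H22Alg.GaloisFibres.exists_smul_eq (X ↘ Spec (CommRingCat.of k)) (SeparableClosure k) (z := ξ'') (z' := ξ')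
      ((hgen _ hξ'' h'').trans (hgen _ hξ' h').symm)
    refine ⟨σ⁻¹, ?_⟩
    have hcl : IsClosedMap (Curv2.galAct k X (SeparableClosure k) σ⁻¹) := by
      have hb : IsIso (Curv2.galAct k X (SeparableClosure k) σ⁻¹) := ⟨Groth.Agent.H22Alg.GaloisFibres.act (X ↘ Spec (CommRingCat.of k)) (SeparableClosure k) σ, by
        constructor
        · exact (Groth.Agent.H22Alg.GaloisFibres.act_mul (X ↘ Spec (CommRingCat.of k)) (SeparableClosure k) σ⁻¹ σ).symm.trans (by
            rw [inv_mul_cancel, Groth.Agent.H22Alg.GaloisFibres.act_one])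
        · exact (Groth.Agent.H22Alg.GaloisFibres.act_mul (X ↘ Spec (CommRingCat.of k)) (SeparableClosure k) σ σ⁻¹).symm.trans (by
            rw [mul_inv_cancel, Groth.Agent.H22Alg.GaloisFibres.act_one])⟩
      exact (Curv2.galAct k X (SeparableClosure k) σ⁻¹).homeomorph.isClosedMap
    rw [← hcl.closure_image_eq_of_continuous (Curv2.galAct k X (SeparableClosure k) σ⁻¹).continuous, Set.image_singleton,
      show Curv2.galAct k X (SeparableClosure k) σ⁻¹ ξ' = ξ'' from hσ]

end Groth.Agent.S1670
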