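import Groth.Statements.S16700
import Groth.Agent.H14KM.WNATop
import Groth.Agent.H14KM.WNASep
import Groth.Agent.H14KM.WNABC
import Groth.Agent.H14AlgSt.WellNighSep

set_option autoImplicit false
set_option backward.isDefEq.respectTransparency false
set_option backward.isDefEq.respectTransparency.types false
universe u
open AlgSt AlgSt.IsWellNighAffine

namespace Groth.Agent.S16700

open CategoryTheory AlgebraicGeometry in
/-- A well-nigh affine algebraic stack has a uniform categorical moduli space `π : 𝒳 → M` in algebraic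
spaces whose target `M` is an affine scheme, and `π` is separated, quasi-compact and a universal
homeomorphism. -/
theorem result (S : Scheme.{u}) (𝒳 : AlgSt.Cat S)
    (h𝒳 : AlgSt.IsAlgStack Scheme.fppfPrecoverage 𝒳) (hw : AlgSt.IsWellNighAffine 𝒳) :
    ∃ (M : Over S) (π : 𝒳 ⥤ᵇ AlgSt.ofSch M), IsAffine M.left ∧ AlgSt.IsUnifCatModuli π ∧
      AlgSt.IsSeparatedMor π ∧ AlgSt.IsQuasiCompactMor Scheme.fppfPrecoverage π ∧
      AlgSt.IsUnivHomeo Scheme.fppfPrecoverage π := by
  obtain ⟨U, x, hU, hx⟩ := hw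
  have : IsAffine U.left := hU
  obtain ⟨D, hD⟩ := Groth.Agent.H14KM.exists_wnaData h𝒳 hx
  have h1 := Groth.Agent.H14AlgSt.repWith_mono (fun _ _ _ h => h.1.1.2) hx
  have h2 := Groth.Agent.H14AlgSt.repWith_mono (fun _ _ _ h => h.2) hx
  have h3 := Groth.Agent.H14AlgSt.repWith_mono (fun _ _ _ h => h.1.1.1) hx
  have h4 := Groth.Agent.H14AlgSt.repWith_mono (fun _ _ _ h => h.1.2) hx
  have : IsSeparated U.hom := inferInstance
  exact ⟨D.Y, D.π, hD, D.isUnifCatModuli,
    Groth.Agent.H14KM.isSeparatedMor_to_affine h𝒳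
      (Groth.Agent.H14AlgSt.isSeparatedOver_of_finite_chart h𝒳 h1 h2 h3 h4) D.Y D.π,
    D.isQuasiCompactMor, D.isUnivHomeo⟩

end Groth.Agent.S16700
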