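import Groth.Statements.S16705
import Groth.Agent.H14Quot.CatQuot

set_option autoImplicit false
set_option backward.isDefEq.respectTransparency false
set_option backward.isDefEq.respectTransparency.types false
universe u
open AlgSt

namespace Groth.Agent.S16705

open CategoryTheory AlgebraicGeometry in
/-- Categorical case, schemes as test category: for the quotient stack `[X/G]` of an action of a group
scheme `G` affine, flat and locally of finite presentation over `S`, the morphism `π : [X/G] → Y`
induced by a morphism of schemes `f : X → Y` is a categorical moduli space in schemes if and only if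
`f` is a categorical quotient in schemes. (The uniform variants and other test categories are not
stated.) -/
theorem result (S : Scheme.{u}) (G : Over S) [GrpObj G]
    [IsAffineHom G.hom] [Flat G.hom] [LocallyOfFinitePresentation G.hom]
    (X Y : Over S) (aX : AlgGrp.Action G X) (f : X ⟶ Y)
    (π : AlgSt.QuotSt Scheme.fppfPrecoverage G aX ⥤ᵇ AlgSt.ofSch Y)
    (hπ : Nonempty (BasedFunctor.comp (AlgSt.quotMap Scheme.fppfPrecoverage G aX) π ≅
      AlgSt.ofSpMap ((AlgSp.yon S).map f))) :
    AlgSt.IsCatModuliSch π ↔ GIT.IsCatQuot aX f := by
  exact Groth.Agent.H14Quot.isCatModuliSch_iff le_rfl f π hπ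

end Groth.Agent.S16705
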