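import Groth.Statements.S16708
import Groth.Agent.H20Comod.LinRed

set_option autoImplicit false
universe u
open HopfRep

namespace Groth.Agent.S16708
open Groth.Agent.H20Comod

/-- Let G be a finite group and k a field in which the order of G is a nonzero element. Then the
constant group scheme of G over k is linearly reductive: every finite-dimensional comodule over its
coordinate Hopf algebra (the algebra of functions G → k with the Hopf structure of the constant
group) is semisimple, i.e. every subcomodule admits a complementary subcomodule. -/
theorem result (k : Type u) [Field k] (G : Type u) [Group G]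
    [Fintype G] [DecidableEq G] (hG : ((Fintype.card G : ℕ) : k) ≠ 0) :
    HopfRep.IsLinearlyReductive k (ConstGrp.F k G) := by
  rw [isLinearlyReductive_iff_exists_isIntegral]
  let α : ConstGrp.F k G →ₗ[k] k := (Fintype.card G : k)⁻¹ • ∑ g : G, (ConstGrp.ev k g).toLinearMap
  have hα : ∀ f, α f = (Fintype.card G : k)⁻¹ * ∑ g : G, f g := fun f => by
    simp [α, LinearMap.sum_apply]
  refine ⟨α, fun f => ?_, ?_⟩
  · rw [ConstGrp.comul_eq_sum]
    simp only [map_sum, map_smul, sliceL_tmul, hα, ConstGrp.e_apply, Finset.sum_ite_eq', Finset.mem_univ,
      if_true, mul_one]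
    rw [Finset.sum_comm, ← ConstGrp.sum_e (R := k) (G := G), Finset.smul_sum]
    refine Finset.sum_congr rfl fun b _ => ?_
    simp only [smul_smul, ← Finset.sum_smul]
    congr 1
    rw [← Finset.sum_mul, mul_comm]
    congr 1
    exact Fintype.sum_equiv (Equiv.mulRight b) _ _ fun a => rfl
  · rw [hα]
    simp [Finset.card_univ, inv_mul_cancel₀ hG]

end Groth.Agent.S16708
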