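import Groth.Statements.S1671
import Groth.Agent.H23Gor.NodalSubcurve

set_option autoImplicit false
universe u
open CategoryTheory CategoryTheory.Limits AlgebraicGeometry
attribute [local instance] HasDerivedCategory.standard
open Curves

namespace Groth.Agent.S1671

/-- Let X be proper of dimension one over k with global functions k and at-worst-nodal singularities,
ω_X its dualizing module (degree -1 cohomology sheaf of f^! O for f : X → Spec k, assuming Rf_* on
D_QCoh and its right adjoint exist), and C ⊆ X a rational tail, viewed as a reduced closed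
subscheme. Then the restriction of ω_X to C has negative degree (over k). -/
theorem result (k : Type u) [Field k] (X : Scheme.{u}) [X.Over (Spec (CommRingCat.of k))] [IsProper (X ↘ (Spec (CommRingCat.of k)))] (hdim : topologicalKrullDim X = 1)
    (h0 : Module.finrank k (Coh.HH X (Coh.structureModule X) 0) = 1) (hX : Curv2.AtWorstNodal k X)
    [DCoh.HasRpush (X ↘ (Spec (CommRingCat.of k)))] (h : DCoh.RpushPreservesQCoh (X ↘ (Spec (CommRingCat.of k)))) [DCoh.HasShriek (X ↘ (Spec (CommRingCat.of k))) h]
    (OY : DCoh.DQCoh (Spec (CommRingCat.of k))) (hOY : Nonempty (OY.obj ≅ DCoh.inD (Spec (CommRingCat.of k)) (Coh.structureModule (Spec (CommRingCat.of k)))))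
    (C : Set X) (hC : C ∈ irreducibleComponents (X : Type u)) (hCt : Curv2.IsRationalTail X C hC) :
    @Curv2.deg k _ (Scheme.IdealSheafData.vanishingIdeal ⟨C, isClosed_of_mem_irreducibleComponents C hC⟩).subscheme
        ⟨(Scheme.IdealSheafData.vanishingIdeal ⟨C, isClosed_of_mem_irreducibleComponents C hC⟩).subschemeι ≫ (X ↘ (Spec (CommRingCat.of k)))⟩
        ((Scheme.Modules.pullback (Scheme.IdealSheafData.vanishingIdeal ⟨C, isClosed_of_mem_irreducibleComponents C hC⟩).subschemeι).obj (DCoh.dualizingMod (X ↘ (Spec (CommRingCat.of k))) h OY 1)) 1 < 0 := by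
  obtain ⟨hr, hc, hequi, hω⟩ := H23Gor.nodal_setup k X hdim h0 hX h OY hOY
  haveI := hr
  haveI := hc
  obtain ⟨hne, ⟨z⟩, hsub, hred, hev, h1⟩ := hCt
  refine lt_of_eq_of_lt (H23Gor.degJ_component k hdim hω hequi C hC h1) ?_
  haveI := hsub
  haveI := hred
  have hle := H23Gor.finrank_quotMod_le k _ z (hev z)
  let IC := Scheme.IdealSheafData.vanishingIdeal ⟨C, isClosed_of_mem_irreducibleComponents C hC⟩
  haveI := H28Int.isNoetherian k (X := X)
  haveI := H10Coh.finite_HH_proper k X (ClSub.quotMod IC) (LeadDev.isCoh_push_structure IC.subschemeι) 0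
  have hpos : 0 < Module.finrank k (Coh.HH X (ClSub.quotMod IC) 0) := by
    haveI : Nonempty IC.subscheme := ⟨(Scheme.IdealSheafData.inclusion le_sup_left).base z⟩
    haveI : Nontrivial Γ(IC.subscheme, ⊤) := @Scheme.component_nontrivial _ ⊤ ⟨⟨Classical.arbitrary _, trivial⟩⟩
    haveI : Nontrivial (Coh.HH X (ClSub.quotMod IC) 0) :=
      (show Coh.HH X (ClSub.quotMod IC) 0 ≃+ Γ(IC.subscheme, ⊤) from H29RR.sec (ClSub.quotMod IC)).toEquiv.nontrivial
    exact Module.finrank_pos
  simp only [IC] at hpos
  omega

end Groth.Agent.S1671
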