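import Groth.Statements.S16710
import Mathlib
import Groth.Agent.H22Alg.NakaiSemi

set_option autoImplicit false
universe u
open CategoryTheory CategoryTheory.Limits AlgebraicGeometry TopologicalSpace
open Variety

namespace Groth.Agent.S16710

/-- Let X be a proper scheme over a field k and L an invertible O_X-module. Then L is ample if and only
if (i) L is strictly nef, meaning χ(O_C ⊗ L) - χ(O_C) > 0 for every integral closed subscheme C ⊆ X
of dimension one, and (ii) L is semiample, meaning some positive tensor power of L is generated by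
its global sections (is a quotient of a free O_X-module). -/
theorem result (k : Type u) [Field k] (X : Scheme.{u})
    [X.Over (Spec (CommRingCat.of k))] [IsProper (X ↘ (Spec (CommRingCat.of k)))]
    (L : X.Modules) (hL : PicF.IsInvertible L) :
    CohB1.IsAmple L ↔
      ((∀ C : X.IdealSheafData, IsIntegral C.subscheme →
          topologicalKrullDim (C.support : Set X) = 1 →
            0 < Curv2.euler k X (CohB1.tensorMod (ClSub.quotMod C) L) - Curv2.euler k X (ClSub.quotMod C)) ∧
        ∃ m : ℕ, Curv2.IsGloballyGenerated (CohB1.tensorPow L (m + 1))) := by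
  rw [← Groth.Agent.H22Alg.NakaiSemi.posOne_iff k L]
  constructor
  · intro hA
    refine ⟨Groth.Agent.H22Alg.NakaiSemi.posOne_of_pos k (Groth.Agent.H22Alg.Nakai.pos_of_isAmple k hA), ?_⟩
    obtain ⟨-, hX, h⟩ := Groth.Agent.H11Ample.isAmple_iff.1 hA
    haveI := hX
    obtain ⟨m, hm, hgen⟩ := Groth.Agent.H22Alg.NakaiSemi.exists_gg_of_gens hL fun x => by
      obtain ⟨j, s, hj, hx, -⟩ := h x
      exact ⟨j, s, hj, hx⟩
    obtain ⟨t, rfl⟩ := Nat.exists_eq_add_of_le' (Nat.one_le_iff_ne_zero.2 hm.ne')
    exact ⟨t, hgen⟩
  · rintro ⟨h, m, hgen⟩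
    exact Groth.Agent.H22Alg.NakaiSemi.isAmple_of_semiample k hL h m.succ_pos hgen

end Groth.Agent.S16710
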