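import Groth.Statements.S16711
import Mathlib
import Groth.Agent.H22Alg.NakaiSemi

set_option autoImplicit false
universe u
open CategoryTheory CategoryTheory.Limits AlgebraicGeometry TopologicalSpace
open Variety

namespace Groth.Agent.S16711

/-- The implication from the fourth condition to ampleness. Fix an algebraically closed field k, a
proper k-scheme X and an invertible O_X-module L. Assume that L is strictly nef, meaning χ(O_C ⊗ L)
- χ(O_C) > 0 for every integral closed subscheme C ⊆ X of dimension one, and that for every integral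
closed subscheme Z ⊆ X some positive tensor power of the pullback L|_Z has a nonzero global section
O_Z → L|_Z^{⊗ m}. Then L is ample. -/
theorem result (k : Type u) [Field k] [IsAlgClosed k]
    (X : Scheme.{u}) [X.Over (Spec (CommRingCat.of k))] [IsProper (X ↘ (Spec (CommRingCat.of k)))]
    (L : X.Modules) (hL : PicF.IsInvertible L)
    (hnef : ∀ C : X.IdealSheafData, IsIntegral C.subscheme →
      topologicalKrullDim (C.support : Set X) = 1 →
        0 < Curv2.euler k X (CohB1.tensorMod (ClSub.quotMod C) L) - Curv2.euler k X (ClSub.quotMod C))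
    (heff : ∀ Z : X.IdealSheafData, IsIntegral Z.subscheme →
      ∃ (m : ℕ) (s : Coh.structureModule Z.subscheme ⟶
          CohB1.tensorPow ((Scheme.Modules.pullback Z.subschemeι).obj L) (m + 1)), s ≠ 0) :
    CohB1.IsAmple L := by
  rw [← Groth.Agent.H22Alg.NakaiSemi.posOne_iff k L] at hnef
  refine Groth.Agent.H22Alg.NakaiSemi.isAmple_of_sections k hL hnef fun Z i hi hZ => ?_
  obtain ⟨m, s, hs⟩ := heff i.ker (Groth.Agent.H22Alg.NakaiPos.ker_data i).1
  haveI := (Groth.Agent.H22Alg.NakaiPos.ker_data i).1
  letI : i.ker.subscheme.Over (Spec (CommRingCat.of k)) := ⟨i.ker.subschemeι ≫ (X ↘ (Spec (CommRingCat.of k)))⟩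
  haveI : IsProper (i.ker.subscheme ↘ Spec (CommRingCat.of k)) := inferInstanceAs (IsProper (i.ker.subschemeι ≫ _))
  haveI := Groth.Agent.H28Int.isNoetherian k (X := i.ker.subscheme)
  have hP := Groth.Agent.H11Ample.isInvertible_pullback i.ker.subschemeι hL
  have hT := Groth.Agent.H11Ample.isInvertible_tensorPow hP (m + 1)
  have hg := Groth.Agent.H22Alg.NakaiSemi.genericPoint_mem_gen hT s hs
  let t := i.toImage
  obtain ⟨e⟩ := Groth.Agent.H11Ample.exists_iso_pullback_tensorPow t hP (m + 1)
  let e₀ : (Scheme.Modules.pullback t).obj ((Scheme.Modules.pullback i.ker.subschemeι).obj L) ≅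
      (Scheme.Modules.pullback i).obj L :=
    (Scheme.Modules.pullbackComp t i.ker.subschemeι).app L ≪≫ eqToIso (by rw [show t ≫ i.ker.subschemeι = i from i.toImage_imageι])
  obtain ⟨e₁⟩ := Groth.Agent.H22Alg.NakaiSemi.nonempty_tensorPow_congr e₀ (m + 1)
  let g' := (1 : Γ(Z, ⊤)) • Groth.Agent.H11Ample.pullTop t
    (show Γ(CohB1.tensorPow ((Scheme.Modules.pullback i.ker.subschemeι).obj L) (m + 1), ⊤) from SecTwist.val s ⊤)
  have hg' : genericPoint Z ∈ Groth.Agent.H11Ample.gen _ g' := by
    rw [Groth.Agent.H11Ample.gen_smul_pullSect t hT _ isUnit_one]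
    have hgt : t (genericPoint Z) = genericPoint i.ker.subscheme := genericPoint_eq_of_isOpenImmersion t
    refine Eq.mpr (congrArg (fun y => y ∈ Groth.Agent.H11Ample.gen _ _) hgt) ?_
    exact hg
  exact ⟨m + 1, (e ≪≫ e₁).hom.app ⊤ g', m.succ_pos, by
    rw [Groth.Agent.H11Ample.gen_iso]; exact hg'⟩

end Groth.Agent.S16711
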