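import Groth.Statements.S16713
import Groth.Agent.H24Cot.LciH1

set_option autoImplicit false
set_option linter.style.haveILetI false
universe u
open CotT

open Groth.Agent
namespace Groth.Agent.S16713

/-- The final assertion, in the case where the base is a field. Let k be a field and A a k-algebra which
is a local complete intersection over k (of finite type, presented by a polynomial algebra in
finitely many variables with Koszul-regular kernel) and generically smooth over k, in the sense that
the localization of A at each of its minimal primes is formally smooth over k. Then H^1 of the naive
cotangent complex L_{A/k} vanishes: for the presentation A = P/I by the polynomial k-algebra P on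
the elements of A, the conormal map I/I² → Ω_{P/k} ⊗_P A is injective, so that L_{A/k} is
quasi-isomorphic to Ω_{A/k}. (The published statement is for a generically smooth syntomic morphism
over an arbitrary base, where it fails when the base has embedded points: over B = k[s,t]/(s², st)
with 2 invertible in k, the algebra B[x]/(x² − t) is a relative complete intersection, free of rank
two and smooth where x is invertible, yet the class of s·x·(x² − t) is a non-zero element of the
kernel of its conormal map. This row states the case of an algebra of finite type over a field.) -/
theorem result (k : Type u) [Field k]
    (A : Type u) [CommRing A] [Algebra k A] (hlci : LCI.IsLCI k A)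
    (hgs : ∀ (p : Ideal A) [p.IsPrime], p ∈ minimalPrimes A → Algebra.FormallySmooth k (Localization.AtPrime p)) :
    Subsingleton (Algebra.H1Cotangent k A) := by
  refine H24Cot.LciH1.subsingleton_h1Cotangent hlci fun 𝔓 h => ?_
  refine hgs 𝔓.asIdeal ⟨⟨𝔓.2, bot_le⟩, fun q hq hle => ?_⟩
  haveI := hq.1
  have he := h ⟨q, hq.1⟩ hle (((eq_bot_or_eq_top (q.comap (algebraMap k A))).resolve_right
    (Ideal.IsPrime.ne_top inferInstance)).trans ((eq_bot_or_eq_top (𝔓.asIdeal.comap (algebraMap k A))).resolve_right
    (Ideal.IsPrime.ne_top inferInstance)).symm)
  exact (congrArg PrimeSpectrum.asIdeal he).ge

end Groth.Agent.S16713
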