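import Groth.Statements.S16717
import Groth.Agent.H20Comod.LinRedCrit

set_option autoImplicit false
universe u v
open HopfRep

namespace Groth.Agent.S16717

open TensorProduct in
/-- Equivalence of the exactness of invariants with complete reducibility of finite-dimensional
representations. Let k be a field and A a finitely generated commutative Hopf algebra over k (the
coordinate ring of an affine algebraic group G). Then every finite-dimensional A-comodule is
semisimple if and only if taking fixed vectors is exact, i.e. for every surjective comodule map φ :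
V → W between A-comodules (of any dimension; φ k-linear with (φ ⊗ id) ∘ ρ_V = ρ_W ∘ φ) every fixed
vector of W is the image of a fixed vector of V. -/
theorem result (k : Type u) [Field k] (A : Type v)
    [CommRing A] [HopfAlgebra k A] (hA : Algebra.FiniteType k A) :
    HopfRep.IsLinearlyReductive k A ↔
      ∀ (V W : Type v) [AddCommGroup V] [Module k V] [HopfRep.Comod k A V]
        [AddCommGroup W] [Module k W] [HopfRep.Comod k A W] (φ : V →ₗ[k] W),
        LinearMap.rTensor A φ ∘ₗ HopfRep.Comod.coact (k := k) (A := A) (V := V) =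
            HopfRep.Comod.coact (k := k) (A := A) (V := W) ∘ₗ φ →
          Function.Surjective φ →
            ∀ w ∈ HopfRep.fixedPts k A W, ∃ v ∈ HopfRep.fixedPts k A V, φ v = w := by
  refine ⟨fun hG => ?_, fun h => H20Comod.isLinearlyReductive_of_forall_exists_fixed ?_⟩
  · obtain ⟨α, hα, h1⟩ := H20Comod.isLinearlyReductive_iff_exists_isIntegral.1 hG
    intro V W _ _ _ _ _ _ φ hφ hs w hw
    exact H20Comod.exists_fixed_preimage hα h1 φ hφ.symm hs hw
  · intro V _ _ _ _ π hs hπ
    letI := HopfRep.Comod.trivial k A ↥(Submodule.span k {(1 : A)})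
    let one : ↥(Submodule.span k {(1 : A)}) := ⟨1, Submodule.mem_span_singleton_self 1⟩
    let φ : V →ₗ[k] ↥(Submodule.span k {(1 : A)}) := π.smulRight one
    have hc : LinearMap.rTensor A φ ∘ₗ HopfRep.Comod.coact (k := k) (A := A) (V := V) =
        HopfRep.Comod.coact (k := k) (A := A) (V := ↥(Submodule.span k {(1 : A)})) ∘ₗ φ := by
      apply LinearMap.ext
      intro x
      show φ.rTensor A (HopfRep.Comod.coact (k := k) (A := A) x) = φ x ⊗ₜ[k] (1 : A)
      have hx : π.rTensor A (HopfRep.Comod.coact (k := k) (A := A) x) = π x ⊗ₜ[k] (1 : A) := LinearMap.congr_fun hπ x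
      rw [show φ = LinearMap.toSpanSingleton k _ one ∘ₗ π from LinearMap.ext fun _ => rfl,
        LinearMap.rTensor_comp_apply, hx, LinearMap.rTensor_tmul]
      rfl
    have hφs : Function.Surjective φ := by
      rintro ⟨y, hy⟩
      obtain ⟨c, rfl⟩ := Submodule.mem_span_singleton.1 hy
      obtain ⟨v, hv⟩ := hs c
      exact ⟨v, Subtype.ext (show π v • (1 : A) = c • 1 by rw [hv])⟩
    obtain ⟨v, hv, hv1⟩ := h V ↥(Submodule.span k {(1 : A)}) φ hc hφs one rfl
    refine ⟨v, hv, fun h0 => one_ne_zero (α := k) ?_⟩
    have h2 : π v • (1 : A) = 1 := congrArg Subtype.val hv1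
    rw [h0, zero_smul] at h2
    simpa using (congrArg (Coalgebra.counit (R := k)) h2).symm

end Groth.Agent.S16717
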