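import Groth.Statements.S16719
import Groth.Agent.LeadBC.Products

set_option autoImplicit false
universe u
open CategoryTheory CategoryTheory.Limits AlgebraicGeometry
open CohIII

namespace Groth.Agent.S16719

/-- The first of its three functors. Let A be a Noetherian ring, X a proper scheme over Spec A and F a
coherent O_X-module flat over A. Then for every p the functor M ↦ H^p(X, F ⊗_A M) from A-modules to
abelian groups (F ⊗_A M = F ⊗_{O_X} f^*M~ for the structure morphism f) commutes with arbitrary
products: it preserves limits of shape a discrete category, i.e. the canonical map H^p(X, F ⊗_A ∏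
M_α) → ∏ H^p(X, F ⊗_A M_α) is an isomorphism. (The published statement is for a flat proper X over
an arbitrary ring A and states the same for two Ext functors; this row assumes A Noetherian, does
not assume X flat over A, and states only the cohomology functor.) -/
theorem result (A : Type u) [CommRing A] [IsNoetherianRing A]
    (X : Scheme.{u}) [X.Over (Spec (CommRingCat.of A))] [IsProper (X ↘ (Spec (CommRingCat.of A)))]
    (F : X.Modules) (hF : Coh.IsCoh F) (hflat : FlatMod.IsFlatOver (X ↘ (Spec (CommRingCat.of A))) F)
    (p : ℕ) (J : Type u) :
    PreservesLimitsOfShape (Discrete J) (CohIII.tensorAFunctor A F ⋙ CohIII.HAb X p) := by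
  obtain ⟨N, P, hP, -, e⟩ := Groth.Agent.LeadBC.exists_iso_HAb A F hF hflat
  obtain ⟨e⟩ := e p
  exact Groth.Agent.LeadBC.preservesProducts hP e J

end Groth.Agent.S16719
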