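import Groth.Statements.S1672
import Groth.Agent.H23Gor.Stable

set_option autoImplicit false
universe u
open CategoryTheory CategoryTheory.Limits AlgebraicGeometry
attribute [local instance] HasDerivedCategory.standard
open Curves

namespace Groth.Agent.S1672

/-- Let X be proper of dimension one over k with global functions k, at-worst-nodal singularities and no
rational tail, and ω_X its dualizing module (as in the other rows: via f^! O, assuming Rf_* on
D_QCoh and its right adjoint exist). Then for every reduced connected closed subscheme Y ≠ X of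
dimension one, deg(ω_X|_Y) ≥ dim_k H^1(Y, O_Y) (computed as H^1(X, i_* O_Y) = H^1(X, O_X/J)). -/
theorem result (k : Type u) [Field k] (X : Scheme.{u}) [X.Over (Spec (CommRingCat.of k))] [IsProper (X ↘ (Spec (CommRingCat.of k)))] (hdim : topologicalKrullDim X = 1)
    (h0 : Module.finrank k (Coh.HH X (Coh.structureModule X) 0) = 1) (hX : Curv2.AtWorstNodal k X) (hnt : ∀ (C : Set X) (hC : C ∈ irreducibleComponents (X : Type u)), ¬ Curv2.IsRationalTail X C hC)
    [DCoh.HasRpush (X ↘ (Spec (CommRingCat.of k)))] (h : DCoh.RpushPreservesQCoh (X ↘ (Spec (CommRingCat.of k)))) [DCoh.HasShriek (X ↘ (Spec (CommRingCat.of k))) h]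
    (OY : DCoh.DQCoh (Spec (CommRingCat.of k))) (hOY : Nonempty (OY.obj ≅ DCoh.inD (Spec (CommRingCat.of k)) (Coh.structureModule (Spec (CommRingCat.of k)))))
    (J : X.IdealSheafData) [IsReduced J.subscheme] [ConnectedSpace J.subscheme]
    (hJ1 : topologicalKrullDim J.subscheme = 1) (hJne : J ≠ ⊥) :
    (Module.finrank k (Coh.HH X (ClSub.quotMod J) 1) : ℤ) ≤
      @Curv2.deg k _ J.subscheme ⟨J.subschemeι ≫ (X ↘ (Spec (CommRingCat.of k)))⟩ ((Scheme.Modules.pullback J.subschemeι).obj (DCoh.dualizingMod (X ↘ (Spec (CommRingCat.of k))) h OY 1)) 1 := by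
  obtain ⟨hr, hc, hequi, hω⟩ := H23Gor.nodal_setup k X hdim h0 hX h OY hOY
  haveI := hr
  haveI := hc
  exact H23Gor.h1_le_degJ hdim hω hequi hnt J hJ1 hJne

end Groth.Agent.S1672
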