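import Groth.Statements.S16721
import Groth.Agent.H14FinQuot.ConstQuot

set_option autoImplicit false
set_option backward.isDefEq.respectTransparency false
set_option backward.isDefEq.respectTransparency.types false
universe u
open CategoryTheory MonoidalCategory CartesianMonoidalCategory AlgebraicGeometry
open AlgSt

namespace Groth.Agent.S16721

section
open CategoryTheory.Limits Opposite
open AlgSp (yon)

variable {S : Scheme.{u}} {G : Over S} [GrpObj G] {X Y : Over S} {aX : AlgGrp.Action G X}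

/-- The trivial torsor of a point, in the fibre. -/
noncomputable abbrev trivFib {T : Over S} (x : T ⟶ X) :
    (AlgSt.QuotSt Scheme.fppfPrecoverage G aX).p.Fiber T :=
  Functor.Fiber.mk (a := H14Quot.triv Scheme.fppfPrecoverage G aX x) rfl

lemma fibSec_triv {f : X ⟶ Y} (π : AlgSt.QuotSt Scheme.fppfPrecoverage G aX ⥤ᵇ AlgSt.ofSch Y)
    (hπ : BasedFunctor.comp (AlgSt.quotMap Scheme.fppfPrecoverage G aX) π =
      AlgSt.ofSpMap ((yon S).map f)) {T : Over S} (x : T ⟶ X) :
    AlgSt.fibSec π (trivFib (aX := aX) x) = ⟨x ≫ f⟩ := by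
  let a := (AlgSt.ofOverCat X).obj (Over.mk x)
  have h := congrArg (fun F => AlgSt.fibSec F (T := T) ⟨a, rfl⟩) hπ
  refine h.trans ?_
  change ((yon S).obj Y).obj.map (𝟙 (op T)) _ = _
  rw [CategoryTheory.Functor.map_id]
  rfl

lemma fiberIso {T : Over S} {a b : (AlgSt.QuotSt Scheme.fppfPrecoverage G aX).p.Fiber T} (m : a.1 ⟶ b.1)
    (hm : (AlgSt.QuotSt Scheme.fppfPrecoverage G aX).p.IsHomLift (𝟙 T) m) : Nonempty (a ≅ b) := by
  have := H14Fib.isIso_of_fibGrpd H14Quot.quotSt_fibGrpd (𝟙 T) m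
  exact ⟨⟨⟨m, hm⟩, ⟨CategoryTheory.inv m, inferInstance⟩, Subtype.ext (IsIso.hom_inv_id m),
    Subtype.ext (IsIso.inv_hom_id m)⟩⟩

lemma exists_triv {Ω : Type u} [Field Ω] [IsAlgClosed Ω] {t : Spec (CommRingCat.of Ω) ⟶ S}
    (a : (AlgSt.QuotSt Scheme.fppfPrecoverage G aX).p.Fiber (Over.mk t)) :
    ∃ x : Over.mk t ⟶ X, Nonempty (trivFib (aX := aX) x ≅ a) := by
  let e : Over.mk t ⟶ a.1.base := eqToHom a.2.symm
  obtain ⟨s, hs⟩ := H14FinQuot.exists_section le_rfl a.1 e.left
  let σ : Over.mk t ⟶ a.1.P := Over.homMk s (by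
    rw [← Over.w a.1.π, ← Category.assoc, hs]
    exact Over.w e)
  have hσ : σ ≫ a.1.π = e := Over.OverMorphism.ext hs
  let m := H14Quot.homOfSec (x := σ ≫ a.1.φ) σ rfl
  have hm : (AlgSt.QuotSt Scheme.fppfPrecoverage G aX).p.IsHomLift (𝟙 (Over.mk t)) m :=
    IsHomLift.of_fac' _ _ _ rfl a.2 (by
      change σ ≫ a.1.π = _
      rw [hσ]; simp [e])
  exact ⟨σ ≫ a.1.φ, fiberIso (a := trivFib (σ ≫ a.1.φ)) (b := a) m hm⟩

end

/-- Let `S` be a scheme, `G` a group scheme over `S` whose structure morphism is affine, flat and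
locally of finite presentation, acting on a scheme `X` over `S`, and `f : X ⟶ Y` a `G`-invariant
morphism of schemes over `S`. Assume (i) for every algebraically closed field `Ω` and every `t :
Spec Ω ⟶ S`, every `Ω`-point of `Y` over `t` is the image of an `Ω`-point of `X`, and two `Ω`-points
of `X` over `t` with the same image in `Y` are translates of one another by an `Ω`-point of `G` (the
geometric fibres of `f` are the orbits of geometric points); (ii) `f` is a categorical quotient in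
the category of algebraic spaces over `S`: every `G`-invariant map of fppf sheaves `h_X ⟶ N` to an
algebraic space `N` factors uniquely through `h_Y`. Then the functor `[X/G] ⟶ Y` over `(Sch/S)`
induced by `f` (the one whose composite with `X ⟶ [X/G]` is the functor of `f`) is a coarse moduli
space: `h_Y` is an algebraic space, every functor from `[X/G]` to an algebraic space factors
uniquely through it, and for every algebraically closed `Ω` it is a bijection from isomorphism
classes of objects of `[X/G]` over `Spec Ω` onto `Y(Spec Ω)`. Here `[X/G]` is the fppf quotient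
stack described by `G`-torsors that are schemes with an equivariant map to `X`. Of the source's
hypothesis that `f` is a geometric quotient only the condition (i) on geometric points enters, and
only (i) is assumed. (The published setting has an affine base scheme; this row allows any base
scheme.) -/
theorem result (S : Scheme.{u}) (G : Over S) [GrpObj G]
    [IsAffineHom G.hom] [Flat G.hom] [LocallyOfFinitePresentation G.hom]
    (X Y : Over S) (aX : AlgGrp.Action G X) (f : X ⟶ Y)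
    (hinv : aX.act ≫ f = snd G X ≫ f)
    (horb : ∀ (Ω : Type u) [Field Ω] [IsAlgClosed Ω] (t : Spec (CommRingCat.of Ω) ⟶ S),
      (∀ y : Over.mk t ⟶ Y, ∃ x : Over.mk t ⟶ X, x ≫ f = y) ∧
      (∀ x x' : Over.mk t ⟶ X, x ≫ f = x' ≫ f → ∃ g : Over.mk t ⟶ G, lift g x' ≫ aX.act = x))
    (hcat : ∀ (N : AlgSp.Space S) (ψ : (AlgSp.yon S).obj X ⟶ N.obj),
      (AlgSp.yon S).map aX.act ≫ ψ = (AlgSp.yon S).map (snd G X) ≫ ψ →
        ∃! χ : (AlgSp.yon S).obj Y ⟶ N.obj, (AlgSp.yon S).map f ≫ χ = ψ)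
    (π : AlgSt.QuotSt Scheme.fppfPrecoverage G aX ⥤ᵇ AlgSt.ofSch Y)
    (hπ : Nonempty (BasedFunctor.comp (AlgSt.quotMap Scheme.fppfPrecoverage G aX) π ≅
      AlgSt.ofSpMap ((AlgSp.yon S).map f))) :
    AlgSt.IsCoarseModuli π := by
  replace hπ : BasedFunctor.comp (AlgSt.quotMap Scheme.fppfPrecoverage G aX) π =
      AlgSt.ofSpMap ((AlgSp.yon S).map f) := H14Quot.eq_of_iso_ofSp hπ.some
  have hcomp : ∀ {N : AlgSp.Sp S} (h : (AlgSp.yon S).obj Y ⟶ N),
      BasedFunctor.comp (AlgSt.quotMap Scheme.fppfPrecoverage G aX)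
          (BasedFunctor.comp π (AlgSt.ofSpMap h)) =
        AlgSt.ofSpMap ((AlgSp.yon S).map f ≫ h) := fun h => by
    rw [← BasedFunctor.comp_assoc, hπ, H14Quot.ofSpMap_comp]
  refine ⟨⟨AlgSp.IsAlgSpace.yon_obj _, fun N hN φ => ?_⟩, fun Ω _ _ t => ⟨fun m => ?_, fun a b hab => ?_⟩⟩
  · obtain ⟨k, hk, hu⟩ := hcat ⟨N, hN⟩ (H14Quot.mapOfQuot φ)
      (H14Quot.invariant_of_functor (H14Quot.comp_quotMap_eq φ))
    refine ⟨k, ⟨eqToIso (H14Quot.quot_functor_ext le_rfl ?_)⟩, fun h ⟨ih⟩ => hu _ ?_⟩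
    · rw [hcomp, hk, ← H14Quot.comp_quotMap_eq φ]
    · have e := congrArg (BasedFunctor.comp (AlgSt.quotMap Scheme.fppfPrecoverage G aX))
        (H14Quot.eq_of_iso_ofSp ih)
      rw [hcomp, H14Quot.comp_quotMap_eq φ] at e
      exact H14Quot.ofSpMap_injective e
  · obtain ⟨x, hx⟩ := (horb Ω t).1 m.down
    exact ⟨trivFib x, (fibSec_triv π hπ x).trans (congrArg ULift.up hx)⟩
  · obtain ⟨x, ⟨i⟩⟩ := exists_triv a
    obtain ⟨y, ⟨j⟩⟩ := exists_triv b
    rw [← H14FinQuot.fibSec_eq_of_hom π i.hom, ← H14FinQuot.fibSec_eq_of_hom π j.hom,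
      fibSec_triv π hπ, fibSec_triv π hπ] at hab
    obtain ⟨c, hc⟩ := (horb Ω t).2 x y (congrArg ULift.down hab)
    have hσ : lift c (𝟙 (Over.mk t)) ≫ (H14Quot.triv Scheme.fppfPrecoverage G aX y).φ = x := by
      change lift c (𝟙 _) ≫ (G ◁ y) ≫ aX.act = x
      rw [lift_whiskerLeft_assoc, Category.id_comp, hc]
    let m := H14Quot.homOfSec (A := H14Quot.triv Scheme.fppfPrecoverage G aX y) (x := x)
      (lift c (𝟙 (Over.mk t))) hσ
    have hm : (AlgSt.QuotSt Scheme.fppfPrecoverage G aX).p.IsHomLift (𝟙 (Over.mk t)) m :=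
      IsHomLift.of_fac' _ _ _ rfl rfl (by
        change lift c (𝟙 _) ≫ snd _ _ = _
        simp
        rfl)
    obtain ⟨k⟩ := fiberIso (a := trivFib x) (b := trivFib y) m hm
    exact ⟨i.symm ≪≫ k ≪≫ j⟩

end Groth.Agent.S16721
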