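import Groth.Statements.S16731
import Groth.Agent.H17.GorCurve.StableCrit

set_option autoImplicit false
universe u
open CurvSt

namespace Groth.Agent.S16731

open CategoryTheory CategoryTheory.Limits AlgebraicGeometry in
/-- Let k be an algebraically closed field and X a proper connected scheme over k of dimension one with
at-worst-nodal singularities. For a natural number g the following are equivalent: (i) X, with no
marked points, is a stable curve of genus g in the component form — dim H^1(X, O_X) = g, every
irreducible component which is a smooth rational curve (the image of a closed immersion of the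
projective line) contains at least three points lying on other components, and 2g ≥ 3; (ii) dim
H^1(X, O_X) = g with g ≥ 2, and no irreducible component of X is a rational tail or a rational
bridge. (With no marked points the published statement excludes only genus one; it fails for the
projective line, which has genus zero, no rational tail and no rational bridge, and is not stable,
so genus at least two is required in (ii) here — exactly what the inequality 2g ≥ 3 of (i) forces.) -/
theorem result (k : Type u) [Field k] [IsAlgClosed k] (X : Scheme.{u})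
    [X.Over (Spec (CommRingCat.of k))] [IsProper (X ↘ Spec (CommRingCat.of k))] [ConnectedSpace X]
    (hdim : topologicalKrullDim X = 1) (hX : Curv2.AtWorstNodal k X) (g : ℕ) :
    CurvSt.IsStablePtd k X (X ↘ Spec (CommRingCat.of k)) g (Fin.elim0 : Fin 0 → X) ↔
      (Curv2.genus k X = g ∧ 2 ≤ g ∧
        (∀ (C : Set X) (hC : C ∈ irreducibleComponents (X : Type u)), ¬ Curv2.IsRationalTail X C hC) ∧
        (∀ (C : Set X) (hC : C ∈ irreducibleComponents (X : Type u)), ¬ Curv2.IsRationalBridge k X C hC)) := by
  haveI : IsReduced X := H06NormCurve.isReduced_of_atWorstNodal (k := k) hX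
  obtain ⟨ω, hω⟩ := H23Gor.exists_isDualizing hdim hX
  have hequi := H17.GorCurve.equidim_of_connected (k := k) hdim
  have hcard : ∀ E : Set X, Nat.card {i : Fin 0 // (Fin.elim0 : Fin 0 → X) i ∈ E} = 0 := fun E => Nat.card_of_isEmpty
  constructor
  · rintro ⟨-, -, -, ⟨-, hgen⟩, -, -, hst, h3⟩
    have key : ∀ (C : Set X) (hC : C ∈ irreducibleComponents (X : Type u)),
        @Curv2.genus k _ _ (H17.GorCurve.overJ k (H29CurveDual.Subcurve.idl (⟨C, isClosed_of_mem_irreducibleComponents C hC⟩ : TopologicalSpace.Closeds X))) = 0 →
        3 ≤ (CurvSt.meetPts X C).ncard := fun C hC h => by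
      have h1 := hst C (H17.GorCurve.isSmRatComp_of_genus_zero (k := k) hdim hC h)
      rw [hcard, Nat.cast_zero, add_zero, ← (H17.GorCurve.component_data hdim hX hω hC).1.cast_ncard_eq] at h1
      exact_mod_cast h1
    refine ⟨hgen, by omega, fun C hC ht => ?_, fun C hC hb => ?_⟩
    · obtain ⟨h, hle⟩ := (H17.GorCurve.component_data hdim hX hω hC).2.2.1 ht
      have := key C hC h
      omega
    · obtain ⟨h, hle⟩ := (H17.GorCurve.component_data hdim hX hω hC).2.2.2 hb
      have := key C hC h
      omega
  · rintro ⟨hgen, hg2, hnt, hnb⟩
    refine ⟨inferInstance, inferInstance, hdim, ⟨hX, hgen⟩, fun i => i.elim0, fun i => i.elim0, fun E hE => ?_, by omega⟩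
    rw [hcard, Nat.cast_zero, add_zero]
    obtain ⟨hfin, hdeg, -, -⟩ := H17.GorCurve.component_data hdim hX hω hE.1
    rw [← hfin.cast_ncard_eq]
    have hg0 := H17.GorCurve.genus_zero_of_isSmRatComp (k := k) hdim hE
    have hne : H29CurveDual.Subcurve.idl (⟨E, isClosed_of_mem_irreducibleComponents E hE.1⟩ : TopologicalSpace.Closeds X) ≠ ⊥ := fun hb => by
      rw [hb, H23Gor.genus_bot] at hg0
      omega
    have hpos := (H23Gor.component_bounds hdim hω hequi E hE.1 hne (hnt E hE.1)).2 (hnb E hE.1)
    rw [hdeg, hg0] at hpos
    have : 3 ≤ (CurvSt.meetPts X E).ncard := by omega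
    exact_mod_cast this

end Groth.Agent.S16731
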