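import Groth.Statements.S1674
import Groth.Agent.H23Gor.NodalSubcurve

set_option autoImplicit false
universe u
open CategoryTheory CategoryTheory.Limits AlgebraicGeometry
attribute [local instance] HasDerivedCategory.standard
open Curves

namespace Groth.Agent.S1674

/-- Let X be proper of dimension one over k with global functions k and at-worst-nodal singularities,
ω_X its dualizing module (via f^! O, assuming Rf_* on D_QCoh and its right adjoint exist), and C ⊆ X
a rational bridge, viewed as a reduced closed subscheme. Then the restriction of ω_X to C has degree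
zero (over k). -/
theorem result (k : Type u) [Field k] (X : Scheme.{u}) [X.Over (Spec (CommRingCat.of k))] [IsProper (X ↘ (Spec (CommRingCat.of k)))] (hdim : topologicalKrullDim X = 1)
    (h0 : Module.finrank k (Coh.HH X (Coh.structureModule X) 0) = 1) (hX : Curv2.AtWorstNodal k X)
    [DCoh.HasRpush (X ↘ (Spec (CommRingCat.of k)))] (h : DCoh.RpushPreservesQCoh (X ↘ (Spec (CommRingCat.of k)))) [DCoh.HasShriek (X ↘ (Spec (CommRingCat.of k))) h]
    (OY : DCoh.DQCoh (Spec (CommRingCat.of k))) (hOY : Nonempty (OY.obj ≅ DCoh.inD (Spec (CommRingCat.of k)) (Coh.structureModule (Spec (CommRingCat.of k)))))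
    (C : Set X) (hC : C ∈ irreducibleComponents (X : Type u)) (hCb : Curv2.IsRationalBridge k X C hC) :
    @Curv2.deg k _ (Scheme.IdealSheafData.vanishingIdeal ⟨C, isClosed_of_mem_irreducibleComponents C hC⟩).subscheme
        ⟨(Scheme.IdealSheafData.vanishingIdeal ⟨C, isClosed_of_mem_irreducibleComponents C hC⟩).subschemeι ≫ (X ↘ (Spec (CommRingCat.of k)))⟩
        ((Scheme.Modules.pullback (Scheme.IdealSheafData.vanishingIdeal ⟨C, isClosed_of_mem_irreducibleComponents C hC⟩).subschemeι).obj (DCoh.dualizingMod (X ↘ (Spec (CommRingCat.of k))) h OY 1)) 1 = 0 := by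
  obtain ⟨hr, hc, hequi, hω⟩ := H23Gor.nodal_setup k X hdim h0 hX h OY hOY
  haveI := hr
  haveI := hc
  obtain ⟨hne, hδ, h1⟩ := hCb
  refine (H23Gor.degJ_component k hdim hω hequi C hC h1).trans ?_
  rw [hδ]
  push_cast
  ring

end Groth.Agent.S1674
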