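import Groth.Statements.S16742
import Groth.Agent.H3CAlg.TorFlat
import Mathlib.Algebra.Algebra.ZMod
import Mathlib.Algebra.Order.Star.Basic
import Mathlib.LinearAlgebra.Matrix.ToLinearEquiv
import Mathlib.RingTheory.Henselian
import Mathlib.RingTheory.MvPolynomial.IrreducibleQuadratic
import Mathlib.RingTheory.RegularLocalRing.Defs
import Mathlib.RingTheory.SimpleRing.Principal

set_option autoImplicit false
universe u
open CAlg

namespace Groth.Agent.S16742

/-- The equivalence in affine form, with flatness of the reduction in place of smoothness. Let p be a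
prime, A~ a commutative ring flat over Z/p^2 and B~ an A~-algebra such that B~/pB~ is flat over
A~/pA~. Then B~ is flat over A~ if and only if every element of B~ killed by p is a multiple of p;
equivalently multiplication by p identifies B~/pB~ with pB~. (The published statement assumes the
reduction smooth over A~/pA~ and the schemes noetherian, and phrases (b) as B~ being a lifting, that
is flat over A~; the statement here assumes only that the reduction is flat, where the equivalence
still holds by the local flatness criterion for the square-zero ideal generated by p.) -/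
theorem result (p : ℕ) [Fact p.Prime]
    (Al : Type u) [CommRing Al] [Algebra (ZMod (p ^ 2)) Al] [Module.Flat (ZMod (p ^ 2)) Al]
    (Bl : Type u) [CommRing Bl] [Algebra Al Bl]
    (hB : Module.Flat (Al ⧸ Ideal.span {(p : Al)})
      (Bl ⧸ (Ideal.span {(p : Al)}).map (algebraMap Al Bl))) :
    Module.Flat Al Bl ↔ ∀ b : Bl, (p : Bl) * b = 0 → b ∈ Ideal.span {(p : Bl)} := by
  constructor
  · intro hflat b hb
    have hZ : Function.Exact (LinearMap.lsmul (ZMod (p ^ 2)) (ZMod (p ^ 2)) p)
        (LinearMap.lsmul (ZMod (p ^ 2)) (ZMod (p ^ 2)) p) := by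
      haveI : NeZero (p ^ 2) := ⟨pow_ne_zero _ (Fact.out : p.Prime).ne_zero⟩
      intro y
      constructor
      · intro hy
        obtain ⟨m, rfl⟩ := ZMod.natCast_zmod_surjective y
        have hy' : ((p * m : ℕ) : ZMod (p ^ 2)) = 0 := by
          rw [Nat.cast_mul]; exact hy
        rw [ZMod.natCast_eq_zero_iff, sq] at hy'
        obtain ⟨c, rfl⟩ := (Nat.mul_dvd_mul_iff_left (Fact.out : p.Prime).pos).mp hy'
        exact ⟨c, by simp [Nat.cast_mul]⟩
      · rintro ⟨z, rfl⟩
        show (p : ZMod (p ^ 2)) * ((p : ZMod (p ^ 2)) * z) = 0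
        rw [← mul_assoc, ← sq, ← Nat.cast_pow, ZMod.natCast_self, zero_mul]
    have hAl : Function.Exact (fun a : Al ↦ (p : Al) * a) (fun a : Al ↦ (p : Al) * a) := by
      have h1 := Module.Flat.lTensor_exact Al hZ
      intro y
      have key : ∀ a : Al, (LinearMap.lTensor Al (LinearMap.lsmul (ZMod (p ^ 2)) (ZMod (p ^ 2)) p))
          ((TensorProduct.rid (ZMod (p ^ 2)) Al).symm a) =
          (TensorProduct.rid (ZMod (p ^ 2)) Al).symm ((p : Al) * a) := fun a ↦ by
        rw [TensorProduct.rid_symm_apply, LinearMap.lTensor_tmul, TensorProduct.rid_symm_apply,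
          LinearMap.lsmul_apply, ← TensorProduct.smul_tmul, Algebra.smul_def, map_natCast]
      have h2 := h1 ((TensorProduct.rid (ZMod (p ^ 2)) Al).symm y)
      rw [key, LinearEquiv.map_eq_zero_iff] at h2
      refine h2.trans ⟨?_, ?_⟩
      · rintro ⟨z, hz⟩
        refine ⟨TensorProduct.rid (ZMod (p ^ 2)) Al z, (TensorProduct.rid (ZMod (p ^ 2)) Al).symm.injective ?_⟩
        rw [← key, LinearEquiv.symm_apply_apply, hz]
      · rintro ⟨z, rfl⟩
        exact ⟨_, key z⟩
    have hex : Function.Exact (LinearMap.lsmul Al Al (p : Al)) (LinearMap.lsmul Al Al (p : Al)) := hAl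
    have h3 := Module.Flat.lTensor_exact Bl hex
    have key : ∀ a : Bl, LinearMap.lTensor Bl (LinearMap.lsmul Al Al (p : Al))
        ((TensorProduct.rid Al Bl).symm a) = (TensorProduct.rid Al Bl).symm ((p : Bl) * a) := fun a ↦ by
      rw [TensorProduct.rid_symm_apply, LinearMap.lTensor_tmul, TensorProduct.rid_symm_apply,
        LinearMap.lsmul_apply, ← TensorProduct.smul_tmul, Algebra.smul_def, map_natCast]
    obtain ⟨z, hz⟩ := (h3 ((TensorProduct.rid Al Bl).symm b)).mp (by rw [key, hb, map_zero])
    refine Ideal.mem_span_singleton'.mpr ⟨TensorProduct.rid Al Bl z, (TensorProduct.rid Al Bl).symm.injective ?_⟩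
    rw [mul_comm, ← key, LinearEquiv.symm_apply_apply, hz]
  · intro htor
    have hp2 : (p : Al) ^ 2 = 0 := by
      rw [← map_natCast (algebraMap (ZMod (p ^ 2)) Al), ← map_pow, ← Nat.cast_pow, ZMod.natCast_self, map_zero]
    haveI := hB
    haveI : Module.Flat (Al ⧸ Ideal.span {(p : Al)}) (TensorProduct Al (Al ⧸ Ideal.span {(p : Al)}) Bl) := by
      let e₁ := TensorProduct.quotTensorEquivQuotSMul Bl (Ideal.span {(p : Al)})
      let e₂ := (Submodule.quotEquivOfEq _ _ (Ideal.smul_top_eq_map (S := Bl) (Ideal.span {(p : Al)}))).trans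
        (Submodule.Quotient.restrictScalarsEquiv Al ((Ideal.span {(p : Al)}).map (algebraMap Al Bl)))
      exact Module.Flat.of_linearEquiv
        ((e₁.trans e₂).extendScalarsOfSurjective Ideal.Quotient.mk_surjective)
    refine Groth.Agent.H3CAlg.Tor.flat_of_sq_zero (p : Al) hp2 Bl fun m hm ↦ ?_
    rw [Algebra.smul_def, map_natCast] at hm
    obtain ⟨c, hc⟩ := Ideal.mem_span_singleton'.mp (htor m hm)
    exact ⟨c, by rw [Algebra.smul_def, map_natCast, ← hc, mul_comm]⟩

end Groth.Agent.S16742
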