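import Groth.Statements.S1675
import Groth.Agent.H23Gor.Stable

set_option autoImplicit false
universe u
open CategoryTheory CategoryTheory.Limits AlgebraicGeometry
attribute [local instance] HasDerivedCategory.standard
open Curves

namespace Groth.Agent.S1675

/-- Let X be proper of dimension one over k with global functions k and at-worst-nodal singularities, of
genus g ≥ 2, with no rational tail and no rational bridge, and let ω_X be its dualizing module (via
f^! O, assuming Rf_* on D_QCoh and its right adjoint exist). Then ω_X is ample. -/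
theorem result (k : Type u) [Field k] (X : Scheme.{u}) [X.Over (Spec (CommRingCat.of k))] [IsProper (X ↘ (Spec (CommRingCat.of k)))] (hdim : topologicalKrullDim X = 1)
    (h0 : Module.finrank k (Coh.HH X (Coh.structureModule X) 0) = 1) (hX : Curv2.AtWorstNodal k X) (hnt : ∀ (C : Set X) (hC : C ∈ irreducibleComponents (X : Type u)), ¬ Curv2.IsRationalTail X C hC)
    (hnb : ∀ (C : Set X) (hC : C ∈ irreducibleComponents (X : Type u)), ¬ Curv2.IsRationalBridge k X C hC) (hg : 2 ≤ Curv2.genus k X)
    [DCoh.HasRpush (X ↘ (Spec (CommRingCat.of k)))] (h : DCoh.RpushPreservesQCoh (X ↘ (Spec (CommRingCat.of k)))) [DCoh.HasShriek (X ↘ (Spec (CommRingCat.of k))) h]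
    (OY : DCoh.DQCoh (Spec (CommRingCat.of k))) (hOY : Nonempty (OY.obj ≅ DCoh.inD (Spec (CommRingCat.of k)) (Coh.structureModule (Spec (CommRingCat.of k))))) :
    CohB1.IsAmple (DCoh.dualizingMod (X ↘ (Spec (CommRingCat.of k))) h OY 1) := by
  obtain ⟨hr, hc, hequi, hω⟩ := H23Gor.nodal_setup k X hdim h0 hX h OY hOY
  haveI := hr
  haveI := hc
  exact H23Gor.isAmple_dualizing hdim hω hequi h0 hg hnt hnb

end Groth.Agent.S1675
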