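import Groth.Statements.S16752
import Groth.Agent.LeadBC.FiberConst
import Groth.Agent.S0404

set_option autoImplicit false
universe u
open CurvSt

namespace Groth.Agent.S16752

attribute [local instance 10000] H10Coh.hasSheafifyAb H10Coh.hasWeakSheafifyAb H10Coh.hasExtAb H10Coh.enoughInjAb

open CategoryTheory CategoryTheory.Limits AlgebraicGeometry in
/-- Let f : X → S be a flat, proper morphism of schemes, locally of finite presentation, all of whose
fibres have dimension at most one (a family of curves whose total space is a scheme). Then the set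
of points s of S such that the fibre X_s has dimension one and dim_{κ(s)} H^0(X_s, O_{X_s}) = 1 (the
conditions under which the genus of X_s is defined) is open in S. The source allows the total space
to be an algebraic space and phrases the result as the existence of an open substack of the stack of
curves with this membership condition. -/
theorem result (X S : Scheme.{u}) (f : X ⟶ S)
    [Flat f] [IsProper f] [LocallyOfFinitePresentation f]
    (hdim : ∀ s : S, topologicalKrullDim ↥(f.fiber s) ≤ 1) :
    IsOpen {s : S | topologicalKrullDim ↥(f.fiber s) = 1 ∧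
      Models.hRank ↥(S.residueField s) (f.fiber s) (f.fiberToSpecResidueField s)
        (Coh.structureModule (f.fiber s)) 0 = 1} := by
  have hr : ∀ s : S, Models.hRank ↥(S.residueField s) (f.fiber s) (f.fiberToSpecResidueField s)
      (Coh.structureModule (f.fiber s)) 0 = Module.finrank (S.residueField s) Γ(f.fiber s, ⊤) := fun s => by
    letI : (f.fiber s).Over (Spec (CommRingCat.of (S.residueField s))) := ⟨f.fiberToSpecResidueField s⟩
    exact LinearEquiv.finrank_eq
      ({ H10Coh.HH0Equiv (Coh.structureModule (f.fiber s)) with
          map_smul' := fun c x => (H10Coh.HH0Equiv_smul (Coh.structureModule (f.fiber s))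
            (Coh.toGlobal (f.fiberToSpecResidueField s) c) x).trans rfl } :
        Coh.HH (f.fiber s) (Coh.structureModule (f.fiber s)) 0 ≃ₗ[S.residueField s] Γ(f.fiber s, ⊤))
  have key : {s : S | topologicalKrullDim ↥(f.fiber s) = 1 ∧
      Models.hRank ↥(S.residueField s) (f.fiber s) (f.fiberToSpecResidueField s)
        (Coh.structureModule (f.fiber s)) 0 = 1} =
      {s : S | 0 < topologicalKrullDim ↥(f.fiber s)} ∩
        {s : S | Module.finrank (S.residueField s) Γ(f.fiber s, ⊤) ≤ 1} := by
    ext s
    refine ⟨fun ⟨h1, h2⟩ => ⟨show 0 < topologicalKrullDim ↥(f.fiber s) by rw [h1]; exact zero_lt_one,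
      show Module.finrank (S.residueField s) Γ(f.fiber s, ⊤) ≤ 1 from le_of_eq ((hr s).symm.trans h2)⟩,
      fun ⟨h1, h2⟩ => ?_⟩
    have hne : Nonempty (f.fiber s) := by
      by_contra hn
      rw [not_nonempty_iff] at hn
      have h1' : 0 < topologicalKrullDim ↥(f.fiber s) := h1
      exact absurd h1' (not_lt_of_ge (by
        rw [show topologicalKrullDim ↥(f.fiber s) = ⊥ from by haveI : IsEmpty (TopologicalSpace.IrreducibleCloseds ↥(f.fiber s)) := ⟨fun Z => hn.false Z.isIrreducible'.nonempty.some⟩; exact Order.krullDim_eq_bot]
        exact bot_le))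
    refine ⟨le_antisymm (hdim s) ?_, ?_⟩
    · replace h1 : 0 < topologicalKrullDim ↥(f.fiber s) := h1
      revert h1
      cases topologicalKrullDim ↥(f.fiber s) with
      | bot => exact fun h => absurd h (not_lt_bot)
      | coe d => exact fun h => WithBot.coe_le_coe.2 (Order.one_le_iff_pos.2 (WithBot.coe_lt_coe.1 h))
    · exact (hr s).trans (le_antisymm h2 (Groth.Agent.LeadBC.FiberConst.finrank_pos f hne))
  rw [key]
  exact (Groth.Agent.S0404.result f 0).inter (Groth.Agent.LeadBC.FiberConst.isOpen_finrank_le f 1)

end Groth.Agent.S16752
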