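import Groth.Statements.S16754
import Groth.Agent.H29DoubleCover.Hyperelliptic
import Groth.Agent.H29DoubleCover.Connected

set_option autoImplicit false
universe u
open CurvSt

namespace Groth.Agent.S16754

open CategoryTheory CategoryTheory.Limits AlgebraicGeometry in
/-- Let k be a field and X a scheme which is proper and smooth over k and of dimension one. Then the
following are equivalent: dim_k H^0(X, O_X) = 1 (the ground field is the ring of global functions);
X is geometrically connected over k; X is geometrically integral over k. (The remaining conditions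
of the source concern membership in an open substack of the stack of curves and are not stated.) -/
theorem result (k : Type u) [Field k]
    (X : Scheme.{u}) [X.Over (Spec (CommRingCat.of k))] [IsProper (X ↘ Spec (CommRingCat.of k))]
    [Smooth (X ↘ Spec (CommRingCat.of k))] (hdim : topologicalKrullDim ↥X = 1) :
    (Module.finrank k (Coh.HH X (Coh.structureModule X) 0) = 1 ↔ GeometricallyConnected (X ↘ Spec (CommRingCat.of k))) ∧
      (GeometricallyConnected (X ↘ Spec (CommRingCat.of k)) ↔ GeometricallyIntegral (X ↘ Spec (CommRingCat.of k))) := by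
  haveI : Nonempty X := by
    by_contra hne
    haveI := not_nonempty_iff.1 hne
    haveI : IsEmpty (TopologicalSpace.IrreducibleCloseds X) := ⟨fun s => isEmptyElim s.isIrreducible'.nonempty.some⟩
    rw [show topologicalKrullDim X = ⊥ from Order.krullDim_eq_bot] at hdim
    exact WithBot.bot_ne_one hdim
  refine ⟨⟨fun h00 => ?_, fun h => ?_⟩, ⟨fun h => ?_, fun h => ?_⟩⟩
  · let φ : k →+* Γ(X, ⊤) := H10Coh.globA (A := k) (X := X)
    haveI : Nontrivial Γ(X, ⊤) := by
      haveI : Nonempty (⊤ : X.Opens) := ⟨⟨Classical.arbitrary X, trivial⟩⟩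
      exact X.component_nontrivial ⊤
    have hsurj : ∀ a : Γ(X, ⊤), ∃ c : k, φ c = a := by
      intro a
      let x₀ : Coh.HH X (Coh.structureModule X) 0 := (H29RR.sec _).symm (1 : Γ(X, ⊤))
      have hx₀ : x₀ ≠ 0 := fun h => one_ne_zero (α := Γ(X, ⊤))
        ((H29RR.sec (Coh.structureModule X)).symm.injective (h.trans (map_zero _).symm))
      obtain ⟨c, hc⟩ := exists_smul_eq_of_finrank_eq_one h00 hx₀ ((H29RR.sec _).symm a)
      refine ⟨c, ?_⟩
      have h := congrArg (H29RR.sec (Coh.structureModule X)) hc
      rw [H29RR.sec_smul, AddEquiv.apply_symm_apply, AddEquiv.apply_symm_apply] at h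
      rw [← h]
      exact (mul_one (φ c)).symm
    let e := RingEquiv.ofBijective φ ⟨φ.injective, hsurj⟩
    rw [H8Props.Stein.geometricallyConnected_field_iff k]
    refine ⟨e.isLocalRing, ?_, fun a => ?_⟩
    · rw [← ringKrullDim_eq_of_ringEquiv e]
      exact ringKrullDim_eq_zero_of_field k
    · obtain ⟨c, rfl⟩ := hsurj a
      refine ⟨0, c, ?_⟩
      rw [pow_zero, pow_one]
      exact ⟨1, (pow_one _).trans (sub_self _)⟩
  · haveI := h
    exact H29DoubleCover.finrank_h0_structure (X ↘ Spec (CommRingCat.of k))
  · haveI := h
    exact H29DoubleCover.geometricallyIntegral_of_smooth_connected _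
  · exact ⟨fun K _ y Z fst snd sq => by
      haveI := h.geometrically_isIntegral _ _ _ sq
      infer_instance⟩

end Groth.Agent.S16754
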