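import Groth.Statements.S16758
import Groth.Agent.LeadBC.GenBC.AppIso
import Groth.Agent.H18HTop.SpecLiftDVR

set_option autoImplicit false
universe u
open PicF

namespace Groth.Agent.S16758

open AlgebraicGeometry CategoryTheory CategoryTheory.Limits in
/-- (2) ⇔ (3): let f : X → Y be proper and flat with Y locally Noetherian. Then dim_{κ(y)} H⁰(X_y,
O_{X_y}) = 1 for every point y of Y if and only if for every morphism T → Y the base change f_T : X
×_Y T → T induces isomorphisms O_T(U) → O_{X ×_Y T}(f_T⁻¹ U) on all opens U of T, i.e. O_T = (f_T)_*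
O universally. (The published statement takes X and Y Noetherian; the argument is local on Y, so Y
is only assumed locally Noetherian here.) -/
theorem result {X Y : Scheme.{u}} (f : X ⟶ Y)
    [IsProper f] [Flat f] [IsLocallyNoetherian Y] :
    (∀ y : Y, Module.finrank (Y.residueField y) Γ(f.fiber y, ⊤) = 1) ↔
      ∀ (T : Scheme.{u}) (g : T ⟶ Y) (U : T.Opens), IsIso ((pullback.snd f g).app U) := by
  haveI := Groth.Agent.H18HTop.locallyOfFinitePresentation_of_noetherian f
  have key : ∀ y : Y, Module.finrank (Y.residueField y) Γ(f.fiber y, ⊤) = 1 ↔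
      IsIso (f.fiberToSpecResidueField y).appTop := fun y => by
    have halg : Function.Bijective (algebraMap (Y.residueField y) Γ(f.fiber y, ⊤)) ↔
        Function.Bijective (f.fiberToSpecResidueField y).appTop :=
      Function.Bijective.of_comp_iff _
        (ConcreteCategory.bijective_of_isIso (Scheme.ΓSpecIso (Y.residueField y)).inv)
    rw [ConcreteCategory.isIso_iff_bijective, ← halg]
    refine ⟨fun h1 => ?_, fun hb => ?_⟩
    · haveI : Nontrivial Γ(f.fiber y, ⊤) := Module.nontrivial_of_finrank_eq_succ h1
      refine ⟨(algebraMap (Y.residueField y) Γ(f.fiber y, ⊤)).injective, fun b => ?_⟩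
      obtain ⟨c, hc⟩ := (finrank_eq_one_iff_of_nonzero' (1 : Γ(f.fiber y, ⊤)) one_ne_zero).1 h1 b
      exact ⟨c, (Algebra.algebraMap_eq_smul_one c).trans hc⟩
    · rw [← (LinearEquiv.ofBijective (Algebra.linearMap (Y.residueField y) Γ(f.fiber y, ⊤)) hb).finrank_eq]
      exact Module.finrank_self _
  refine ⟨fun h T g U => ?_, fun h y => (key y).2 ?_⟩
  · exact Groth.Agent.LeadBC.GenBC.isIso_app_of_fibres (pullback.snd f g)
      (Groth.Agent.LeadBC.GenBC.isIso_appTop_fibre_baseChange f (IsPullback.of_hasPullback f g)
        fun y => (key y).1 (h y)) U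
  · exact h _ (Y.fromSpecResidueField y) ⊤

end Groth.Agent.S16758
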