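import Groth.Statements.S16759
import Groth.Agent.LeadBC.Seesaw
import Groth.Agent.H18HTop.SpecLiftDVR
import Groth.Agent.H25Theta.Basic
import Groth.Agent.H11Ample.Converse
import Groth.Agent.H11Ample.RelQuasiAffine

set_option autoImplicit false
universe u
open PicF

namespace Groth.Agent.S16759

open AlgebraicGeometry CategoryTheory CategoryTheory.Limits in
/-- Let f : X → Y be proper and flat with Y locally Noetherian and reduced, assume dim_{κ(y)} H⁰(X_y,
O_{X_y}) = 1 for every y, and let L be an invertible O_X-module. Then L ≅ f^*M for some invertible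
O_Y-module M if and only if L|_{X_y} ≅ O_{X_y} for every point y of Y; moreover, when this holds,
f_*L is invertible and the counit f^*f_*L → L of the pullback–pushforward adjunction is an
isomorphism (so one may take M = f_*L). (The published statement takes X and Y Noetherian; only
local Noetherianity of Y is used.) -/
theorem result {X Y : Scheme.{u}} (f : X ⟶ Y)
    [IsProper f] [Flat f] [IsLocallyNoetherian Y] [IsReduced Y]
    (h0 : ∀ y : Y, Module.finrank (Y.residueField y) Γ(f.fiber y, ⊤) = 1)
    (L : X.Modules) (hL : PicF.IsInvertible L) :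
    ((∃ M : Y.Modules, PicF.IsInvertible M ∧ Nonempty ((Scheme.Modules.pullback f).obj M ≅ L)) ↔
        ∀ y : Y, Nonempty (CohIII.fiberMod f L y ≅ Coh.structureModule (f.fiber y))) ∧
      ((∀ y : Y, Nonempty (CohIII.fiberMod f L y ≅ Coh.structureModule (f.fiber y))) →
        PicF.IsInvertible ((Scheme.Modules.pushforward f).obj L) ∧
          IsIso ((Scheme.Modules.pullbackPushforwardAdjunction f).counit.app L)) := by
  haveI := Groth.Agent.H18HTop.locallyOfFinitePresentation_of_noetherian f
  have hK : ∀ y : Y, IsIso (f.fiberToSpecResidueField y).appTop := fun y => by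
    have halg : Function.Bijective (algebraMap (Y.residueField y) Γ(f.fiber y, ⊤)) ↔
        Function.Bijective (f.fiberToSpecResidueField y).appTop :=
      Function.Bijective.of_comp_iff _
        (ConcreteCategory.bijective_of_isIso (Scheme.ΓSpecIso (Y.residueField y)).inv)
    rw [ConcreteCategory.isIso_iff_bijective, ← halg]
    haveI : Nontrivial Γ(f.fiber y, ⊤) := Module.nontrivial_of_finrank_eq_succ (h0 y)
    refine ⟨(algebraMap (Y.residueField y) Γ(f.fiber y, ⊤)).injective, fun b => ?_⟩
    obtain ⟨c, hc⟩ := (finrank_eq_one_iff_of_nonzero' (1 : Γ(f.fiber y, ⊤)) one_ne_zero).1 (h0 y) b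
    exact ⟨c, (Algebra.algebraMap_eq_smul_one c).trans hc⟩
  refine ⟨⟨?_, fun htriv => ?_⟩, fun htriv => ?_⟩
  · rintro ⟨M, hM, ⟨e⟩⟩ y
    haveI : Subsingleton (Spec (Y.residueField y)) :=
      inferInstanceAs (Subsingleton (PrimeSpectrum (Y.residueField y)))
    haveI : Nonempty (Spec (Y.residueField y)) := inferInstanceAs (Nonempty (PrimeSpectrum (Y.residueField y)))
    obtain ⟨e0⟩ := Groth.Agent.H25Theta.nonempty_iso_of_subsingleton
      (Groth.Agent.H11Ample.isInvertible_pullback (Y.fromSpecResidueField y) hM)
    obtain ⟨e1⟩ := Groth.Agent.H11Ample.nonempty_pullback_structureModule_iso (f.fiberToSpecResidueField y)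
    exact ⟨(Scheme.Modules.pullback (f.fiberι y)).mapIso e.symm ≪≫
      (Scheme.Modules.pullbackComp (f.fiberι y) f).app M ≪≫
      (Scheme.Modules.pullbackCongr (pullback.condition : f.fiberι y ≫ f = _)).app M ≪≫
      ((Scheme.Modules.pullbackComp (f.fiberToSpecResidueField y) (Y.fromSpecResidueField y)).app M).symm ≪≫
      (Scheme.Modules.pullback (f.fiberToSpecResidueField y)).mapIso e0 ≪≫ e1⟩
  · obtain ⟨h1, h2⟩ := Groth.Agent.LeadBC.Seesaw.invertible_and_counit f L hL hK htriv
    exact ⟨_, h1, ⟨asIso ((Scheme.Modules.pullbackPushforwardAdjunction f).counit.app L)⟩⟩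
  · exact Groth.Agent.LeadBC.Seesaw.invertible_and_counit f L hL hK htriv

end Groth.Agent.S16759
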