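import Groth.Statements.S16762
import Groth.Prelude.Def_CAlgX
import Mathlib.RingTheory.Flat.FaithfullyFlat.Basic
import Mathlib.RingTheory.MvPolynomial.IrreducibleQuadratic

set_option autoImplicit false
universe u
open CAlgX

namespace Groth.Agent.S16762

/-- Let A → A' be faithfully flat and u : M → N a map of A-modules. Then u is universally injective (u ⊗
id_Q injective for every A-module Q) if and only if its base change A' ⊗_A M → A' ⊗_A N is
universally injective as a map of A'-modules. -/
theorem result (A A' : Type u) [CommRing A] [CommRing A']
    [Algebra A A'] [Module.FaithfullyFlat A A'] {M N : Type u} [AddCommGroup M] [Module A M]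
    [AddCommGroup N] [Module A N] (u : M →ₗ[A] N) :
    CAlgX.UniversallyInjective A u ↔ CAlgX.UniversallyInjective A' (u.baseChange A') := by
  have key : ∀ (Q : Type u) [AddCommGroup Q] [Module A' Q] [Module A Q] [IsScalarTower A A' Q],
      Function.Injective ((u.baseChange A').rTensor Q) ↔ Function.Injective (u.lTensor Q) := by
    intro Q _ _ _ _
    rw [← LinearMap.lTensor_inj_iff_rTensor_inj]
    let eM := TensorProduct.AlgebraTensorModule.cancelBaseChange A A' A' Q M
    let eN := TensorProduct.AlgebraTensorModule.cancelBaseChange A A' A' Q N
    have hsq : ∀ x, eN ((u.baseChange A').lTensor Q x) = u.lTensor Q (eM x) := by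
      intro x
      induction x with
      | zero => simp
      | add a b ha hb => simp [ha, hb]
      | tmul q y =>
        induction y with
        | zero => simp
        | add a b ha hb => simp only [TensorProduct.tmul_add, map_add, ha, hb]
        | tmul a m => simp [eM, eN]
    have h : ⇑(u.lTensor Q) = ⇑eN ∘ ⇑((u.baseChange A').lTensor Q) ∘ ⇑eM.symm := funext fun x => by
      simp [hsq]
    rw [h, EquivLike.comp_injective]
    exact (EquivLike.injective_comp eM.symm _).symm
  constructor
  · intro h Q _ _
    letI : Module A Q := Module.compHom Q (algebraMap A A')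
    haveI : IsScalarTower A A' Q := IsScalarTower.of_algebraMap_smul fun a q => rfl
    exact (key Q).mpr ((LinearMap.lTensor_inj_iff_rTensor_inj (M := Q) (f := u)).mpr (h Q))
  · intro h Q _ _
    rw [← LinearMap.lTensor_inj_iff_rTensor_inj, ← Module.FaithfullyFlat.lTensor_injective_iff_injective A A']
    have h1 := (key (TensorProduct A A' Q)).mp (h _)
    let eM := TensorProduct.assoc A A' Q M
    let eN := TensorProduct.assoc A A' Q N
    have h2 : ⇑((u.lTensor Q).lTensor A') = ⇑eN ∘ ⇑(u.lTensor (TensorProduct A A' Q)) ∘ ⇑eM.symm := funext fun x => by
      induction x with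
      | zero => simp
      | add a b ha hb => simp only [map_add, ha, hb, Function.comp_apply]
      | tmul a y =>
        induction y with
        | zero => simp
        | add p q hp hq => simp only [TensorProduct.tmul_add, map_add, hp, hq, Function.comp_apply]
        | tmul q m => simp [eM, eN]
    rw [h2]
    exact eN.injective.comp (h1.comp eM.symm.injective)

end Groth.Agent.S16762
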