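import Groth.Statements.S16771
import Groth.Agent.H21Diag.WeilFinite

set_option autoImplicit false
open CategoryTheory MonoidalCategory CartesianMonoidalCategory MonObj GrpObj AlgebraicGeometry
universe u
open SGA3x

namespace Groth.Agent.S16771

/-- Let G be an affine group scheme of finite presentation over a scheme S, Y ⊆ G a closed subscheme
which is finite, flat and of finite presentation over S, and Y' ⊆ G a closed subscheme of finite
presentation over S. Then the transporter of Y into Y' (points g of G such that g y g⁻¹ is a point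
of Y' for every point y of Y after any base change) is representable by a closed subscheme of G of
finite presentation over S. -/
theorem result {S : Scheme.{u}} (G Y Y' : Over S) [GrpObj G]
    (hGa : IsAffineHom G.hom) (hGfp : LocallyOfFinitePresentation G.hom)
    (y : Y ⟶ G) (hy : IsClosedImmersion y.left) (hYf : IsFinite Y.hom) (hYfl : Flat Y.hom)
    (hYfp : LocallyOfFinitePresentation Y.hom)
    (y' : Y' ⟶ G) (hy' : IsClosedImmersion y'.left) (hY'fp : LocallyOfFinitePresentation Y'.hom) :
    ∃ (C : Over S) (c : C ⟶ G), IsClosedImmersion c.left ∧ LocallyOfFinitePresentation C.hom ∧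
      ∀ (X : Over S) (g : X ⟶ G), (∃ z : X ⟶ C, z ≫ c = g) ↔
        ∀ (X' : Over S) (x : X' ⟶ X) (a : X' ⟶ Y), ∃ a' : X' ⟶ Y', (x ≫ g) * (a ≫ y) * (x ≫ g)⁻¹ = a' ≫ y' := by
  let ψ : Y ⊗ G ⟶ G := snd Y G * (fst Y G ≫ y) * (snd Y G)⁻¹
  have := hy'
  obtain ⟨C, c, hc, hcfp, hiff⟩ := H21Diag.exists_preimage_finite ψ y'.left
  have hyfp : LocallyOfFinitePresentation y'.left := by
    have : LocallyOfFinitePresentation (y'.left ≫ G.hom) := by rw [Over.w y']; exact hY'fp
    exact H12AlgSp.lfp_of_comp y'.left G.hom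
  have := hcfp hyfp
  refine ⟨C, c, hc, by rw [← Over.w c]; infer_instance, fun X g => (hiff X g).trans ?_⟩
  refine forall_congr' fun X' => forall_congr' fun x => forall_congr' fun a => ?_
  have e : CartesianMonoidalCategory.lift a (x ≫ g) ≫ ψ = (x ≫ g) * (a ≫ y) * (x ≫ g)⁻¹ := by
    simp [ψ, MonObj.comp_mul, GrpObj.comp_inv]
  rw [e]
  refine ⟨fun ⟨k, hk⟩ => ⟨Over.homMk k (by
      rw [← Over.w y', ← Category.assoc, hk]
      exact Over.w _), Over.OverMorphism.ext hk.symm⟩, fun ⟨a', ha'⟩ => ⟨a'.left, (congrArg (fun m => m.left) ha').symm⟩⟩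

end Groth.Agent.S16771
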