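import Groth.Statements.S16774
import Groth.Agent.H21Diag.Chev.RelSelfCentral
import Groth.Agent.S3006

set_option autoImplicit false
open CategoryTheory MonoidalCategory CartesianMonoidalCategory MonObj GrpObj AlgebraicGeometry
universe u
open Red

set_option linter.style.haveILetI false
set_option backward.isDefEq.respectTransparency false
set_option synthInstance.maxHeartbeats 400000
set_option maxHeartbeats 1000000

namespace Groth.Agent.S16774

/-- Let G be a smooth affine group scheme with connected fibres over a scheme S, T ⊆ G a subtorus with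
centralizer Z = Z_G(T) ⊇ T, and s ∈ S a point at which the geometric fibre of G is reductive and the
geometric fibre of T is a maximal torus. Then over some open neighbourhood U of s the inclusion T →
Z_G(T) is an isomorphism and T is a maximal torus of G. (The published statement allows disconnected
fibres and concerns identity components; here the fibres of G are connected.) -/
theorem result {S : Scheme.{u}} {G T Z : Over S} [GrpObj G] [GrpObj T] [GrpObj Z]
    (hG : Smooth G.hom) (hGa : IsAffineHom G.hom) (hconn : ∀ s : S, _root_.IsConnected (G.hom.base ⁻¹' {s}))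
    (i : T ⟶ G) [IsMonHom i] [Mono i] (hT : Red.IsTorus T) (z : Z ⟶ G) (hz : Red.IsCentralizerOf i z)
    (f : T ⟶ Z) (hf : f ≫ z = i) (s : S)
    (hs : Red.IsReductiveOver (AlgebraicClosure (S.residueField s)) (Red.geomFibre s G))
    (hTs : Red.IsMaximalTorus ((Over.pullback (Red.geomPt s)).map i)) :
    ∃ U : S.Opens, s ∈ U ∧ IsIso ((Over.pullback U.ι).map f) ∧ Red.IsMaximalTorus ((Over.pullback U.ι).map i) := by
  haveI := hG
  haveI := hGa
  have hM := H21Diag.isMultTypeFT_of_isTorus hT
  have hci : IsClosedImmersion i.left :=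
    H21Diag.isClosedImmersion_of_mono (H21Diag.isDiagLoc_of_isMultTypeFT hM) hGa i
  obtain ⟨⟨C, gC, c, ⟨hc1, hc2, hC⟩, hcc, hCs⟩, -⟩ := S3006.result S G T i hci hT
  letI := gC
  haveI := hc1; haveI := hc2; haveI := hCs; haveI := hcc
  obtain ⟨hz1, hz2, hZ⟩ := hz
  haveI := hz1; haveI := hz2
  haveI : IsAffineHom C.hom := by rw [← Over.w c]; infer_instance
  obtain ⟨a, ha⟩ := (hC Z z).mpr ((hZ Z z).mp ⟨𝟙 _, Category.id_comp _⟩)
  obtain ⟨b, hb⟩ := (hZ C c).mpr ((hC C c).mp ⟨𝟙 _, Category.id_comp _⟩)
  have e : Z ≅ C := ⟨a, b, by rw [← cancel_mono z, Category.assoc, hb, ha, Category.id_comp],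
    by rw [← cancel_mono c, Category.assoc, ha, hb, Category.id_comp]⟩
  haveI : Smooth Z.hom := by rw [← Over.w e.hom]; infer_instance
  haveI : IsAffineHom Z.hom := by rw [← Over.w e.hom]; infer_instance
  have hself := H21Chev.isCentralizerOf_self_of_isReductiveOver hs hTs
  haveI : IsIso ((Over.pullback (Red.geomPt s)).map f) :=
    H21Diag.isIso_map_of_selfCentralizing (Red.geomPt s) i z hZ f hf fun X y hy => (hself.2.2 X y).mpr hy
  obtain ⟨U, hsU, hU⟩ := H21Diag.exists_nhd_isIso_centralizer hconn i hT z hZ f hf s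
  haveI := hU
  haveI := H21Diag.isMonHom_map U.ι i
  haveI := (Over.mapPullbackAdj U.ι).isRightAdjoint
  exact ⟨U, hsU, hU, H21Diag.isMaximalTorus_of_centralizer _ (H21Diag.isTorus_bc hT U.ι)
    ((Over.pullback U.ι).map z) (H21Dyn.centralizer_bc U.ι i z hZ) ((Over.pullback U.ι).map f)
    (by rw [← Functor.map_comp, hf])⟩

end Groth.Agent.S16774
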