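import Groth.Statements.S16780
import Groth.Agent.H21Hom.ExtensionMult
import Groth.Agent.H21Hom.ExtensionComm
-- import your own Groth.Agent.* helpers here

set_option autoImplicit false
open CategoryTheory MonoidalCategory CartesianMonoidalCategory MonObj GrpObj AlgebraicGeometry
universe u
open SGA3x

namespace Groth.Agent.S16780

/-- Let 1 → H' → H → H'' → 1 be a short exact sequence of affine, flat, finitely presented group schemes
over a scheme S with H' and H'' of multiplicative type (of finite type). If every fibre H_s is
connected or commutative, then H is of multiplicative type. -/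
theorem result {S : Scheme.{u}} (H' H H'' : Over S) [GrpObj H'] [GrpObj H] [GrpObj H'']
    (hHa : IsAffineHom H.hom) (hHfl : Flat H.hom) (hHfp : LocallyOfFinitePresentation H.hom)
    (p : H ⟶ H'') [IsMonHom p] [Surjective p.left] [Flat p.left] [QuasiCompact p.left]
    (i : H' ⟶ H) [IsMonHom i] (hker : AlgGrp.IsKernel i p)
    (hH' : SGA3x.IsMultTypeFT H') (hH'' : SGA3x.IsMultTypeFT H'')
    (hfib : ∀ s : S, _root_.IsConnected (H.hom.base ⁻¹' {s}) ∨
      ∀ (X : Over (Spec (S.residueField s))) (a b : X ⟶ Red.bc (S.fromSpecResidueField s) H), a * b = b * a) :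
    SGA3x.IsMultTypeFT H := by
  haveI := hHa
  haveI := hHfl
  haveI := hHfp
  refine H21Hom.isMultTypeFT_of_comm_extension p i hker hH' hH'' fun a b => ?_
  refine H21Hom.comm_of_central hker hH' hH'' (fun t h => H21Hom.central_of_fibres hker hH' hfib t h)
    (fun s => ?_) a b
  rcases hfib s with hc | hc
  · refine Or.inl ?_
    have himg : H''.hom.base ⁻¹' {s} = p.left.base '' (H.hom.base ⁻¹' {s}) := by
      ext w
      constructor
      · intro hw
        obtain ⟨v, rfl⟩ := p.left.surjective w
        refine ⟨v, ?_, rfl⟩
        show H.hom.base v = s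
        rw [← Over.w p, Scheme.Hom.comp_apply]
        exact hw
      · rintro ⟨v, hv, rfl⟩
        show H''.hom.base (p.left.base v) = s
        rw [← Scheme.Hom.comp_apply, Over.w p]
        exact hv
    rw [himg]
    exact hc.image _ p.left.continuous.continuousOn
  · exact Or.inr hc

end Groth.Agent.S16780
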