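import Groth.Statements.S16785
import Groth.Agent.H21Taylor.Transporter
import Groth.Agent.H21Taylor.GeomInt

set_option autoImplicit false
open CategoryTheory MonoidalCategory CartesianMonoidalCategory MonObj GrpObj AlgebraicGeometry
universe u
open SGA3x

namespace Groth.Agent.S16785

/-- Let G be an affine group scheme of finite presentation over a scheme S and Y ⊆ G a closed subscheme
of finite presentation, smooth over S with non-empty geometrically connected fibres. Then the
centralizer of Y in G is representable by a closed subscheme of G. (The published statement asks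
only that the fibres of Y be connected; this row asks them to be geometrically connected, the case
the printed argument treats.) -/
theorem result {S : Scheme.{u}} (G Y : Over S) [GrpObj G]
    (hGa : IsAffineHom G.hom) (hGfp : LocallyOfFinitePresentation G.hom)
    (y : Y ⟶ G) (hy : IsClosedImmersion y.left) (hYs : Smooth Y.hom) (hYfp : LocallyOfFinitePresentation Y.hom)
    (hYc : ∀ s : S, ConnectedSpace ↥(Red.geomFibre s Y).left) :
    ∃ (C : Over S) (c : C ⟶ G), IsClosedImmersion c.left ∧
      ∀ (X : Over S) (g : X ⟶ G), (∃ z : X ⟶ C, z ≫ c = g) ↔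
        ∀ (X' : Over S) (x : X' ⟶ X) (a : X' ⟶ Y), (x ≫ g) * (a ≫ y) = (a ≫ y) * (x ≫ g) := by
  haveI := hGa
  haveI := hYs
  haveI := H21Taylor.geometricallyIntegral_of_smooth Y.hom hYc
  haveI : IsSeparated G.hom := inferInstance
  let δ : G ⟶ G ⊗ G := lift (𝟙 G) (𝟙 G)
  haveI : IsClosedImmersion δ.left := by
    have : δ.left = Limits.pullback.diagonal G.hom := by
      apply Limits.pullback.hom_ext <;> simp [δ] <;> first | exact Limits.pullback.lift_fst _ _ _ | exact Limits.pullback.lift_snd _ _ _
    rw [this]; infer_instance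
  obtain ⟨C, c, hc, -, hC⟩ := H21Taylor.exists_closed_forall_factor
    (lift (fst G Y * (snd G Y ≫ y)) ((snd G Y ≫ y) * fst G Y)) δ
  refine ⟨C, c, hc, fun X g => (hC X g).trans
    (forall_congr' fun X' => forall_congr' fun x => forall_congr' fun a => ?_)⟩
  rw [show lift (x ≫ g) a ≫ lift (fst G Y * (snd G Y ≫ y)) ((snd G Y ≫ y) * fst G Y) =
    lift ((x ≫ g) * (a ≫ y)) ((a ≫ y) * (x ≫ g)) by
      rw [comp_lift, MonObj.comp_mul, MonObj.comp_mul]; simp]
  constructor
  · rintro ⟨x', hx'⟩
    rw [comp_lift, Category.comp_id] at hx'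
    have h1 := congrArg (· ≫ fst G G) hx'
    have h2 := congrArg (· ≫ snd G G) hx'
    simp only [lift_fst, lift_snd] at h1 h2
    exact h1.symm.trans h2
  · intro h
    exact ⟨(x ≫ g) * (a ≫ y), by rw [comp_lift, Category.comp_id, ← h]⟩

end Groth.Agent.S16785
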