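import Groth.Statements.S16788
import Groth.Agent.H21Diag.TransporterSub

set_option autoImplicit false
open CategoryTheory MonoidalCategory CartesianMonoidalCategory MonObj GrpObj AlgebraicGeometry
universe u
open SGA3x

namespace Groth.Agent.S16788

/-- For a smooth affine group scheme G over a scheme S and subgroup schemes H₁, H₂ of multiplicative
type (of finite type), the transporter {g : g H₁ g⁻¹ ⊆ H₂} (containment, not equality) is
representable by a closed subscheme of G which is smooth over S. -/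
theorem result {S : Scheme.{u}} (H₁ H₂ G : Over S) [GrpObj H₁] [GrpObj H₂] [GrpObj G]
    (hH₁ : SGA3x.IsMultTypeFT H₁) (hH₂ : SGA3x.IsMultTypeFT H₂) (hG : Smooth G.hom) (hGa : IsAffineHom G.hom)
    (i₁ : H₁ ⟶ G) [IsMonHom i₁] [Mono i₁] (i₂ : H₂ ⟶ G) [IsMonHom i₂] [Mono i₂] :
    ∃ (C : Over S) (c : C ⟶ G), IsClosedImmersion c.left ∧ Smooth C.hom ∧
      ∀ (X : Over S) (g : X ⟶ G), (∃ z : X ⟶ C, z ≫ c = g) ↔
        ∀ (X' : Over S) (x : X' ⟶ X) (h : X' ⟶ H₁), ∃ h' : X' ⟶ H₂, (x ≫ g) * (h ≫ i₁) * (x ≫ g)⁻¹ = h' ≫ i₂ := by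
  exact Groth.Agent.H21Diag.exists_smooth_transLE hH₁ hH₂ hG hGa i₁ i₂

end Groth.Agent.S16788
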