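import Groth.Statements.S16794
import Mathlib
import Groth.Agent.H27Conn.Along
import Groth.Agent.H27Conn.Hochschild

set_option autoImplicit false
universe v u
open PCurv

namespace Groth.Agent.S16794

open TensorProduct in
/-- Let p be a prime number and B a commutative algebra of characteristic p over a commutative ring A
whose module Ω of Kähler differentials over A is free of rank one on a form ω; let θ₀ be the
A-derivation of B dual to ω (its B-linear functional Ω → B takes the value 1 on ω), and let ∇ be a
connection on a finite free B-module M. Then the p-curvature of ∇ vanishes identically — for every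
A-derivation θ of B and every derivation θ' that agrees with the p-fold iterate of θ, the
endomorphism (∇_θ)^p − ∇_{θ'} of M is zero — if and only if it vanishes for the single derivation
θ₀. -/
theorem result {A : Type v} {B M : Type u} [CommRing A] [CommRing B]
    [Algebra A B] (p : ℕ) [Fact p.Prime] [CharP B p]
    [AddCommGroup M] [Module B M] [Module A M] [IsScalarTower A B M] [Module.Finite B M] [Module.Free B M]
    (bΩ : Module.Basis (Fin 1) B (KaehlerDifferential A B)) (θ₀ : Derivation A B B)
    (hθ₀ : θ₀.liftKaehlerDifferential (bΩ 0) = 1)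
    (nabla : M →ₗ[A] M ⊗[B] KaehlerDifferential A B)
    (hc : Conn.IsConn (KaehlerDifferential.D A B) nabla) :
    (∀ θ θp : Derivation A B B, Conn.IsIterPow θ p θp → Conn.pCurv p nabla θ θp = 0) ↔
      (∀ θp : Derivation A B B, Conn.IsIterPow θ₀ p θp → Conn.pCurv p nabla θ₀ θp = 0) := by
  classical
  refine ⟨fun h => h θ₀, fun h θ θp hθp => ?_⟩
  obtain ⟨E₀, hE₀⟩ := Groth.Agent.H27Conn.exists_derivation_iterate' p θ₀
  set ω := bΩ 0 with hω
  have hone : ∀ (f g : KaehlerDifferential A B →ₗ[B] B), f ω = g ω → f = g := fun f g e =>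
    bΩ.ext fun i => by rw [Subsingleton.elim i 0]; exact e
  have hlift : ∀ (D : Derivation A B B) (x : B), D.liftKaehlerDifferential (KaehlerDifferential.D A B x) = D x :=
    fun D x => D.liftKaehlerDifferential_comp_D x
  set b : B := θ.liftKaehlerDifferential ω with hb
  have hLθ : θ.liftKaehlerDifferential = b • θ₀.liftKaehlerDifferential :=
    hone _ _ (by rw [LinearMap.smul_apply, hθ₀, smul_eq_mul, mul_one])
  have hθx : ∀ x, θ x = b * θ₀ x := fun x => by
    rw [← hlift θ, hLθ, LinearMap.smul_apply, hlift, smul_eq_mul]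
  have hδa : ∀ x y, θ₀ (x + y) = θ₀ x + θ₀ y := fun x y => map_add θ₀ x y
  have hδm : ∀ x y, θ₀ (x * y) = x * θ₀ y + y * θ₀ x := fun x y => by
    rw [Derivation.leibniz]; rfl
  set c : B := Groth.Agent.H27Conn.evU p (⇑θ₀) b (Groth.Agent.H27Conn.hc p p 1) with hc1
  have hθpx : ∀ x, θp x = b ^ p * E₀ x + c * θ₀ x := fun x => by
    rw [hθp x, hE₀, show ⇑θ = (fun y => b • θ₀ y) from funext hθx]
    exact Groth.Agent.H27Conn.iterate_smul_prime p (⇑θ₀) hδa hδm (⇑θ₀) hδa
      (fun c m => by rw [smul_eq_mul, Derivation.leibniz]; simp [smul_eq_mul, mul_comm]) b x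
  have hLθp : θp.liftKaehlerDifferential = b ^ p • E₀.liftKaehlerDifferential + c • θ₀.liftKaehlerDifferential := by
    refine LinearMap.ext_on_range (KaehlerDifferential.span_range_derivation A B) fun x => ?_
    rw [hlift, LinearMap.add_apply, LinearMap.smul_apply, LinearMap.smul_apply, hlift, hlift, hθpx]
    rfl
  have hsmul : ∀ (a : B) (f : KaehlerDifferential A B →ₗ[B] B) (m : M),
      Conn.along nabla (a • f) m = a • Conn.along nabla f m := fun a f m => by
    rw [Groth.Agent.H27Conn.along_eq, Groth.Agent.H27Conn.along_eq]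
    generalize nabla m = z
    induction z using TensorProduct.induction_on with
    | zero => simp
    | tmul n w => rw [Groth.Agent.H27Conn.contr_tmul, Groth.Agent.H27Conn.contr_tmul, LinearMap.smul_apply, smul_eq_mul, mul_smul]
    | add x y hx hy => rw [map_add, map_add, hx, hy, smul_add]
  have hadd : ∀ (f g : KaehlerDifferential A B →ₗ[B] B) (m : M),
      Conn.along nabla (f + g) m = Conn.along nabla f m + Conn.along nabla g m := fun f g m => by
    simp only [Groth.Agent.H27Conn.along_eq]
    generalize nabla m = z
    induction z using TensorProduct.induction_on with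
    | zero => simp
    | tmul n w => simp only [Groth.Agent.H27Conn.contr_tmul, LinearMap.add_apply, add_smul]
    | add x y hx hy => simp only [map_add, hx, hy]; abel
  set N0 := Conn.alongDer nabla θ₀ with hN0
  have hN : ⇑(Conn.alongDer nabla θ) = fun m => b • N0 m := funext fun m => by
    rw [Conn.alongDer, hLθ, hsmul]; rfl
  ext m
  have h0 := LinearMap.congr_fun (h E₀ hE₀) m
  rw [Conn.pCurv, LinearMap.sub_apply, LinearMap.zero_apply, sub_eq_zero, Module.End.pow_apply] at h0
  rw [Conn.pCurv, LinearMap.sub_apply, LinearMap.zero_apply, sub_eq_zero, Module.End.pow_apply, hN,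
    Groth.Agent.H27Conn.iterate_smul_prime p (⇑θ₀) hδa hδm (⇑N0) (fun x y => map_add N0 x y)
      (fun a x => by
        rw [hN0, Conn.alongDer, Groth.Agent.H27Conn.along_smul hc, hlift])
      b m, h0]
  rw [Conn.alongDer, Conn.alongDer, hLθp, hadd, hsmul, hsmul]
  rfl

end Groth.Agent.S16794
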