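import Groth.Statements.S16797
import Groth.Agent.H27Conn.LogFlat
import Mathlib

set_option autoImplicit false
universe v u
open LogConn

namespace Groth.Agent.S16797

open TensorProduct in
/-- Let B be a commutative algebra over a commutative ring A, λ ∈ B, and t₁, …, tₙ ∈ B elements whose
differentials dt₁, …, dtₙ form a basis of the Kähler differentials Ω of B over A; let L be a
B-module free on ω₁, …, ωₙ with a B-linear ι : Ω → L sending dtᵢ to tᵢ ωᵢ (ωᵢ playing the role of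
dlog tᵢ), and E a B-module with an A-linear ∇ : E → E ⊗ L obeying the λ-twisted Leibniz rule ∇(b e)
= b ∇e + λ e ⊗ ι(db); write ∇ᵢ for the components of ∇ in the basis ω, ∇_J for their composite over
a finite index set J in increasing order, and E_I = Σ_{J ⊆ I} (∏_{i ∈ I∖J} tᵢ) · ∇_J(E) (an
A-submodule of E) for a finite index set I. Let d be the logarithmic de Rham differential on the
exterior powers of L — the A-linear family pinned on generators by d(b₀ · e₁ ∧ ⋯ ∧ e_p) = ι(db₀) ∧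
e₁ ∧ ⋯ ∧ e_p for factors eⱼ of the form ι(db) or ωᵢ — and let ∇^p : E ⊗ Λ^p L → E ⊗ Λ^{p+1} L be the
λ-twisted extension of ∇, ∇^p(e ⊗ η) = ∇(e) ∧ η + e ⊗ λ dη, with ∇ flat in the sense that ∇¹ ∘ ∇ =
0. Then for every p, ∇^p maps the layer ⊕_{|K| = p} E_K ⊗ ω_K (elements all of whose ω_K-coordinates
lie in E_K) into the layer ⊕_{|K| = p+1} E_K ⊗ ω_K. -/
theorem result {A : Type v} {B L E : Type u} [CommRing A] [CommRing B]
    [Algebra A B] [AddCommGroup L] [Module B L] [Module A L] [IsScalarTower A B L]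
    [AddCommGroup E] [Module B E] [Module A E] [IsScalarTower A B E]
    (lam : B) {n : ℕ} (t : Fin n → B) (bΩ : Module.Basis (Fin n) B (KaehlerDifferential A B))
    (hbΩ : ∀ i, bΩ i = KaehlerDifferential.D A B (t i))
    (ω : Module.Basis (Fin n) B L) (ι : KaehlerDifferential A B →ₗ[B] L)
    (hι : ∀ i, ι (KaehlerDifferential.D A B (t i)) = t i • ω i)
    (nabla : E →ₗ[A] E ⊗[B] L)
    (hc : Conn.IsLamConn (ι.compDer (KaehlerDifferential.D A B)) lam nabla)
    (d : ∀ p : ℕ, ↥(⋀[B]^p L) →ₗ[A] ↥(⋀[B]^(p + 1) L))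
    (hd : LogDiff.IsLogRule (KaehlerDifferential.D A B) ι (⇑ω) d)
    (nablas : ∀ p : ℕ, E ⊗[B] ↥(⋀[B]^p L) →ₗ[A] E ⊗[B] ↥(⋀[B]^(p + 1) L))
    (hint : Conn.IsIntegrable nabla (fun p => lam • d p) nablas)
    (p : ℕ) (x : E ⊗[B] ↥(⋀[B]^p L)) (hx : x ∈ LogConn.layer nabla ω t p) :
    nablas p x ∈ LogConn.layer nabla ω t (p + 1) := by
  refine Groth.Agent.H27Conn.LogFlat.nablas_mem bΩ ω hbΩ hι hc hint (fun q f => ?_) p hx
  have h := hd q 1 (⇑ω ∘ f) fun k => Or.inr ⟨f k, rfl⟩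
  rw [one_smul] at h
  rw [h]
  exact AlternatingMap.map_coord_zero _ 0 (by simp)

end Groth.Agent.S16797
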