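import Groth.Statements.S16798
import Groth.Agent.H27Conn.LogFlat
import Mathlib

set_option autoImplicit false
universe v u
open LogConn

namespace Groth.Agent.S16798

open TensorProduct in
/-- Let B be a commutative algebra over a commutative ring A, λ ∈ B, and t₁, …, tₙ ∈ B elements whose
differentials dt₁, …, dtₙ form a basis of the Kähler differentials Ω of B over A; let L be a
B-module free on ω₁, …, ωₙ with a B-linear ι : Ω → L sending dtᵢ to tᵢ ωᵢ (ωᵢ playing the role of
dlog tᵢ), and E a B-module with an A-linear ∇ : E → E ⊗ L obeying the λ-twisted Leibniz rule ∇(b e)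
= b ∇e + λ e ⊗ ι(db); write ∇ᵢ for the components of ∇ in the basis ω, ∇_J for their composite over
a finite index set J in increasing order, and E_I = Σ_{J ⊆ I} (∏_{i ∈ I∖J} tᵢ) · ∇_J(E) (an
A-submodule of E) for a finite index set I. Assume ∇ flat: for the logarithmic de Rham differential
d on the exterior powers of L (pinned on generators by d(b₀ · e₁ ∧ ⋯ ∧ e_p) = ι(db₀) ∧ e₁ ∧ ⋯ ∧ e_p,
factors eⱼ of the form ι(db) or ωᵢ) and the λ-twisted extension ∇^• of ∇ (∇^p(e ⊗ η) = ∇(e) ∧ η + e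
⊗ λ dη) one has ∇¹ ∘ ∇ = 0. Let u₁, …, uₙ be units of B such that the elements t'ᵢ = uᵢ tᵢ again
have differentials forming a basis of Ω, and such that the elements ω'ᵢ = ωᵢ + uᵢ⁻¹ ι(duᵢ) again
form a basis of L (a second admissible coordinate system with the same branches, ω'ᵢ playing the
role of dlog t'ᵢ). Then for every p the layer ⊕_{|K| = p} E_K ⊗ ω_K formed with the coordinates t,
the basis ω and the components of ∇ in ω coincides with the layer formed with t', ω' and the
components of ∇ in ω'. (The published statement also allows a permutation of the indices.) -/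
theorem result {A : Type v} {B L E : Type u} [CommRing A] [CommRing B]
    [Algebra A B] [AddCommGroup L] [Module B L] [Module A L] [IsScalarTower A B L]
    [AddCommGroup E] [Module B E] [Module A E] [IsScalarTower A B E]
    (lam : B) {n : ℕ} (t : Fin n → B) (bΩ : Module.Basis (Fin n) B (KaehlerDifferential A B))
    (hbΩ : ∀ i, bΩ i = KaehlerDifferential.D A B (t i))
    (ω : Module.Basis (Fin n) B L) (ι : KaehlerDifferential A B →ₗ[B] L)
    (hι : ∀ i, ι (KaehlerDifferential.D A B (t i)) = t i • ω i)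
    (nabla : E →ₗ[A] E ⊗[B] L)
    (hc : Conn.IsLamConn (ι.compDer (KaehlerDifferential.D A B)) lam nabla)
    (d : ∀ p : ℕ, ↥(⋀[B]^p L) →ₗ[A] ↥(⋀[B]^(p + 1) L))
    (hd : LogDiff.IsLogRule (KaehlerDifferential.D A B) ι (⇑ω) d)
    (nablas : ∀ p : ℕ, E ⊗[B] ↥(⋀[B]^p L) →ₗ[A] E ⊗[B] ↥(⋀[B]^(p + 1) L))
    (hint : Conn.IsIntegrable nabla (fun p => lam • d p) nablas)
    (u : Fin n → Bˣ) (bΩ' : Module.Basis (Fin n) B (KaehlerDifferential A B))
    (hbΩ' : ∀ i, bΩ' i = KaehlerDifferential.D A B ((u i : B) * t i))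
    (ω' : Module.Basis (Fin n) B L)
    (hω' : ∀ i, ω' i = ω i + ((u i)⁻¹ : Bˣ).val • ι (KaehlerDifferential.D A B (u i : B)))
    (p : ℕ) :
    LogConn.layer nabla ω t p = LogConn.layer nabla ω' (fun i => (u i : B) * t i) p := by
  have hd1 : ∀ i, d 1 (exteriorPower.ιMulti B 1 fun _ => ω i) = 0 := fun i => by
    have h := hd 1 1 (fun _ => ω i) fun k => Or.inr ⟨i, rfl⟩
    rw [one_smul] at h
    rw [h]
    exact AlternatingMap.map_coord_zero _ 0 (by simp)
  have hdu : ∀ i, KaehlerDifferential.D A B (((u i)⁻¹ : Bˣ).val) =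
      (-((u i)⁻¹ : Bˣ).val ^ 2) • KaehlerDifferential.D A B (u i : B) := fun i =>
    (KaehlerDifferential.D A B).leibniz_of_mul_eq_one (u i).inv_mul
  have hd1' : ∀ i, d 1 (exteriorPower.ιMulti B 1 fun _ => ω' i) = 0 := fun i => by
    have h := hd 1 ((u i)⁻¹ : Bˣ).val (fun _ => ι (KaehlerDifferential.D A B (u i : B)))
      fun k => Or.inl ⟨_, rfl⟩
    have h2 : exteriorPower.ιMulti B 2 (Fin.cons (ι (KaehlerDifferential.D A B (((u i)⁻¹ : Bˣ).val)))
        (fun _ => ι (KaehlerDifferential.D A B (u i : B))) : Fin 2 → L) = 0 := by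
      rw [hdu, map_smul, show (Fin.cons ((-((u i)⁻¹ : Bˣ).val ^ 2) • ι (KaehlerDifferential.D A B (u i : B)))
          (fun _ => ι (KaehlerDifferential.D A B (u i : B))) : Fin 2 → L) =
          fun k => (![-((u i)⁻¹ : Bˣ).val ^ 2, 1] k) • (fun _ => ι (KaehlerDifferential.D A B (u i : B))) k by
        funext k; fin_cases k <;> simp,
        AlternatingMap.map_smul_univ, AlternatingMap.map_eq_zero_of_eq _ _ (i := 0) (j := 1) rfl (by simp),
        smul_zero]
    have key : ∀ x, (exteriorPower.oneEquiv B L).symm x = exteriorPower.ιMulti B 1 fun _ => x :=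
      Groth.Agent.H27Conn.LogFlat.oneEquiv_symm
    rw [← key, hω', map_add, map_smul, key, key, map_add, hd1, h, zero_add]
    exact h2
  have hι' : ∀ i, ι (KaehlerDifferential.D A B ((u i : B) * t i)) = ((u i : B) * t i) • ω' i := fun i => by
    rw [hω', Derivation.leibniz, map_add, map_smul, map_smul, hι, smul_add, smul_smul, smul_smul,
      show (u i : B) * t i * ((u i)⁻¹ : Bˣ).val = t i by rw [mul_right_comm, Units.mul_inv, one_mul]]
  have hdiff : ∀ i, ω i - ω' i ∈ LinearMap.range ι :=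
    fun i => ⟨-(((u i)⁻¹ : Bˣ).val • KaehlerDifferential.D A B (u i : B)), by
      rw [map_neg, map_smul, hω']; abel⟩
  have hdiff' : ∀ i, ω' i - ω i ∈ LinearMap.range ι :=
    fun i => by simpa using neg_mem (hdiff i)
  have hC := Groth.Agent.H27Conn.LogFlat.comm_of_integrable ω hint hd1
  have hC' := Groth.Agent.H27Conn.LogFlat.comm_of_integrable ω' hint hd1'
  rw [Groth.Agent.H27Conn.LogLayer.layer_eq bΩ ω hbΩ hι hc,
    Groth.Agent.H27Conn.LogLayer.layer_eq bΩ' ω' hbΩ' hι' hc]
  congr 1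
  refine le_antisymm ?_ ?_
  · exact Groth.Agent.H27Conn.LogFlat.blayer_le bΩ' ω' bΩ ω hbΩ' hι' hbΩ hι hc hC' hdiff'
      (fun i => ⟨((u i)⁻¹ : Bˣ).val, by rw [mul_right_comm, Units.mul_inv, one_mul]⟩) p
  · exact Groth.Agent.H27Conn.LogFlat.blayer_le bΩ ω bΩ' ω' hbΩ hι hbΩ' hι' hc hC hdiff
      (fun i => ⟨(u i : B), mul_comm _ _⟩) p

end Groth.Agent.S16798
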