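import Groth.Statements.S16805
import Groth.Agent.H14AlgSt.FieldPoint

set_option autoImplicit false
set_option backward.isDefEq.respectTransparency false
set_option backward.isDefEq.respectTransparency.types false
universe u
open CategoryTheory AlgebraicGeometry
open Gerb

namespace Groth.Agent.S16805

open Groth.Agent.H14AlgSt

/-- For an algebraic stack 𝒵 the following are equivalent: 𝒵 is reduced with exactly one point; 𝒵
receives a surjective flat morphism from the spectrum of a field; 𝒵 receives a locally of finite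
type, surjective, flat morphism from the spectrum of a field. -/
theorem result
    (S : Scheme.{u}) (𝒵 : AlgSt.Cat S) (h𝒵 : AlgSt.IsAlgStack Scheme.fppfPrecoverage 𝒵) :
    [AlgSt.SmoothLocally (fun T => IsReduced T) 𝒵 ∧ Nonempty (AlgSt.Points 𝒵) ∧ Subsingleton (AlgSt.Points 𝒵),
      ∃ (k : Type u) (_ : Field k) (a : Spec (CommRingCat.of k) ⟶ S)
        (z : FibCat.overCat (Over.mk a) ⥤ᵇ 𝒵), AlgSt.RepByAlgSpWith AlgSp.IsSurjectiveMor z ∧ AlgSt.RepByAlgSpWith (AlgSp.LocP @Flat) z,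
      ∃ (k : Type u) (_ : Field k) (a : Spec (CommRingCat.of k) ⟶ S)
        (z : FibCat.overCat (Over.mk a) ⥤ᵇ 𝒵), AlgSt.RepByAlgSpWith (AlgSp.LocP @LocallyOfFiniteType) z ∧
          AlgSt.RepByAlgSpWith AlgSp.IsSurjectiveMor z ∧ AlgSt.RepByAlgSpWith (AlgSp.LocP @Flat) z].TFAE := by
  tfae_have 1 → 3 := by
    rintro ⟨hr, hne, hs⟩
    obtain ⟨k₀, _, a₀, z₀, hz₀⟩ := exists_flat_field_point h𝒵 hr hne
    obtain ⟨k, hk, a, z, hz⟩ := exists_lft_field_point h𝒵 hne
    exact ⟨k, hk, a, z, hz, surjective_of_subsingleton_points h𝒵 hs z,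
      flat_of_field_point h𝒵 (surjective_of_subsingleton_points h𝒵 hs z₀) hz₀ z⟩
  tfae_have 3 → 2 := by
    rintro ⟨k, hk, a, z, -, h⟩
    exact ⟨k, hk, a, z, h⟩
  tfae_have 2 → 1 := by
    rintro ⟨k, _, a, z, hzs, hzf⟩
    exact ⟨reduced_of_field_point h𝒵 hzs hzf, subsingleton_points_of_field_point h𝒵.isStack.1 hzs⟩
  tfae_finish

end Groth.Agent.S16805
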