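import Groth.Statements.S16808
import Groth.Agent.H14Gerbe.FieldImage

set_option autoImplicit false
set_option backward.isDefEq.respectTransparency false
set_option backward.isDefEq.respectTransparency.types false
universe u
open CategoryTheory AlgebraicGeometry
open Gerb

namespace Groth.Agent.S16808

/-- Let the algebraic stack 𝒵 receive a surjective flat morphism from the spectrum of a field. Then
there is a unique strictly full subcategory of 𝒵 which is an algebraic stack receiving a locally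
finitely presented, surjective, flat morphism from the spectrum of a field; its inclusion into 𝒵 is
a monomorphism. -/
theorem result
    (S : Scheme.{u}) (𝒵 : AlgSt.Cat S) (h𝒵 : AlgSt.IsAlgStack Scheme.fppfPrecoverage 𝒵)
    (k : Type u) [Field k] (a : Spec (CommRingCat.of k) ⟶ S)
    (z : FibCat.overCat (Over.mk a) ⥤ᵇ 𝒵)
    (hzs : AlgSt.RepByAlgSpWith AlgSp.IsSurjectiveMor z) (hzf : AlgSt.RepByAlgSpWith (AlgSp.LocP @Flat) z) :
    ∃ Q : 𝒵.obj → Prop,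
      (ObjectProperty.IsClosedUnderIsomorphisms Q ∧ AlgSt.IsAlgStack Scheme.fppfPrecoverage (AlgSt.fullSub 𝒵 Q) ∧
        (∃ (k' : Type u) (_ : Field k') (a' : Spec (CommRingCat.of k') ⟶ S)
          (z' : FibCat.overCat (Over.mk a') ⥤ᵇ AlgSt.fullSub 𝒵 Q),
          AlgSt.RepByAlgSpWith (AlgSp.LocP @LocallyOfFinitePresentation) z' ∧
            AlgSt.RepByAlgSpWith AlgSp.IsSurjectiveMor z' ∧ AlgSt.RepByAlgSpWith (AlgSp.LocP @Flat) z') ∧
        AlgSt.IsMono (AlgSt.subIncl 𝒵 Q)) ∧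
      ∀ Q' : 𝒵.obj → Prop, ObjectProperty.IsClosedUnderIsomorphisms Q' → AlgSt.IsAlgStack Scheme.fppfPrecoverage (AlgSt.fullSub 𝒵 Q') →
        (∃ (k' : Type u) (_ : Field k') (a' : Spec (CommRingCat.of k') ⟶ S)
          (z' : FibCat.overCat (Over.mk a') ⥤ᵇ AlgSt.fullSub 𝒵 Q'),
          AlgSt.RepByAlgSpWith (AlgSp.LocP @LocallyOfFinitePresentation) z' ∧
            AlgSt.RepByAlgSpWith AlgSp.IsSurjectiveMor z' ∧ AlgSt.RepByAlgSpWith (AlgSp.LocP @Flat) z') →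
        ∀ ξ : 𝒵.obj, Q' ξ ↔ Q ξ := by
  open Groth.Agent.H14Gerbe Groth.Agent.H14AlgSt in
  obtain ⟨Q, hc, hA, ⟨k₁, _, a₁, z₁, hp₁, hs₁, hf₁⟩, hm⟩ := exists_fppf_field_substack h𝒵 hzs hzf
  obtain ⟨-, hsub⟩ := subsingleton_points_of_field_point h𝒵.isStack.1 hzs
  refine ⟨Q, ⟨hc, hA, ⟨k₁, inferInstance, a₁, z₁, hp₁, hs₁, hf₁⟩, hm⟩, ?_⟩
  rintro Q' hc' hA' ⟨k₂, _, a₂, z₂, hp₂, hs₂, hf₂⟩ ξ
  obtain ⟨⟨p⟩, -⟩ := subsingleton_points_of_field_point hA.isStack.1 hs₁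
  obtain ⟨⟨p'⟩, -⟩ := subsingleton_points_of_field_point hA'.isStack.1 hs₂
  exact ⟨le_of_field_point h𝒵 hc hA hA' hp₂ hs₂ hf₂ p' ⟨p, @Subsingleton.elim _ hsub _ _⟩,
    le_of_field_point h𝒵 hc' hA' hA hp₁ hs₁ hf₁ p ⟨p', @Subsingleton.elim _ hsub _ _⟩⟩

end Groth.Agent.S16808
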