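import Groth.Statements.S16809
import Groth.Agent.H14Gerbe.ResPoint
import Groth.Agent.H14AlgSt.Substack
import Groth.Agent.H14AlgSt.ReducedSub

set_option autoImplicit false
set_option backward.isDefEq.respectTransparency false
set_option backward.isDefEq.respectTransparency.types false
universe u
open CategoryTheory AlgebraicGeometry
open Gerb

namespace Groth.Agent.S16809

/-- (1)⇔(2)⇔(3): for a point x of an algebraic stack 𝒳 the following are equivalent: some algebraic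
stack with exactly one point maps monomorphically to 𝒳 onto x; some reduced algebraic stack with
exactly one point does; some algebraic stack 𝒵 with a monomorphism f : 𝒵 → 𝒳 receives a surjective
flat morphism z from the spectrum of a field with f(z) = x. -/
theorem result
    (S : Scheme.{u}) (𝒳 : AlgSt.Cat S) (h𝒳 : AlgSt.IsAlgStack Scheme.fppfPrecoverage 𝒳) (x : AlgSt.Points 𝒳) :
    [Gerb.ResGerbeExists Scheme.fppfPrecoverage 𝒳 x,
      ∃ (𝒵 : AlgSt.Cat S) (f : 𝒵 ⥤ᵇ 𝒳), AlgSt.IsAlgStack Scheme.fppfPrecoverage 𝒵 ∧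
        AlgSt.SmoothLocally (fun T => IsReduced T) 𝒵 ∧ AlgSt.IsMono f ∧
        Nonempty (AlgSt.Points 𝒵) ∧ Subsingleton (AlgSt.Points 𝒵) ∧ ∀ p, AlgSt.Points.map f p = x,
      ∃ (𝒵 : AlgSt.Cat S) (f : 𝒵 ⥤ᵇ 𝒳) (k : Type u) (_ : Field k) (a : Spec (CommRingCat.of k) ⟶ S)
        (z : FibCat.overCat (Over.mk a) ⥤ᵇ 𝒵), AlgSt.IsAlgStack Scheme.fppfPrecoverage 𝒵 ∧ AlgSt.IsMono f ∧
        AlgSt.RepByAlgSpWith AlgSp.IsSurjectiveMor z ∧ AlgSt.RepByAlgSpWith (AlgSp.LocP @Flat) z ∧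
        ∀ t : ↥(Over.mk a).left, AlgSt.Points.map f (AlgSt.Points.ofChart z t) = x].TFAE := by
  tfae_have 1 → 2 := by
    rintro ⟨𝒵, i, hZ, hi, ⟨p⟩, hs, hx⟩
    obtain ⟨Q, ⟨hc, hQa, hQi⟩, hQr, hQred⟩ :=
      H14AlgSt.exists_reduced_substack hZ Set.univ isClosed_univ
    let j := AlgSt.subIncl 𝒵 Q
    have : i.toFunctor.Full := H14AlgSt.full_of_isMono hZ.isStack.1 h𝒳.isStack.1 hi
    have : i.toFunctor.Faithful := H14AlgSt.faithful_of_repByAlgSp1 hZ.isStack.1 h𝒳.isStack.1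
      (H14AlgSt.repByAlgSp1_of_with hi)
    have : (BasedFunctor.comp j i).toFunctor.Full :=
      inferInstanceAs (j.toFunctor ⋙ i.toFunctor).Full
    have : (BasedFunctor.comp j i).toFunctor.Faithful :=
      inferInstanceAs (j.toFunctor ⋙ i.toFunctor).Faithful
    obtain ⟨q, -⟩ := hQr.ge (Set.mem_univ p)
    refine ⟨_, BasedFunctor.comp j i, hQa, hQred, H14Gerbe.isMono_of_fully_faithful hQa h𝒳 _, ⟨q⟩, ?_, ?_⟩
    · exact ⟨fun a b => H14AlgSt.points_map_injective_of_ff hQa.isStack.1 hZ.isStack.1 j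
        (Subsingleton.elim _ _)⟩
    · intro w
      rw [H14AlgSt.points_map_comp]
      exact hx _
  tfae_have 2 → 3 := by
    rintro ⟨𝒵, i, hZ, hr, hi, hne, hs, hx⟩
    obtain ⟨k, _, a, z, hz⟩ := H14AlgSt.exists_flat_field_point hZ hr hne
    exact ⟨𝒵, i, k, inferInstance, a, z, hZ, hi,
      H14AlgSt.surjective_of_subsingleton_points hZ hs z, hz, fun t => hx _⟩
  tfae_have 3 → 1 := by
    rintro ⟨𝒵, i, k, _, a, z, hZ, hi, hzs, hzf, hx⟩
    obtain ⟨hne, hs⟩ := H14AlgSt.subsingleton_points_of_field_point hZ.isStack.1 hzs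
    refine ⟨𝒵, i, hZ, hi, hne, hs, fun w => ?_⟩
    rw [← hx (IsLocalRing.closedPoint k)]
    exact congrArg _ (@Subsingleton.elim _ hs _ _)
  tfae_finish

end Groth.Agent.S16809
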