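import Groth.Statements.S16810
import Groth.Agent.H14Gerbe.FieldImage
import Groth.Agent.S16812

set_option autoImplicit false
set_option backward.isDefEq.respectTransparency false
set_option backward.isDefEq.respectTransparency.types false
universe u
open CategoryTheory AlgebraicGeometry
open Gerb

namespace Groth.Agent.S16810

/-- If some reduced algebraic stack with exactly one point admits a monomorphism to the algebraic stack
𝒳 with image the point x, then there is a unique strictly full subcategory of 𝒳 which is a reduced,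
locally Noetherian algebraic stack with exactly one point mapping to x. -/
theorem result
    (S : Scheme.{u}) (𝒳 : AlgSt.Cat S) (h𝒳 : AlgSt.IsAlgStack Scheme.fppfPrecoverage 𝒳) (x : AlgSt.Points 𝒳)
    (𝒵 : AlgSt.Cat S) (h𝒵 : AlgSt.IsAlgStack Scheme.fppfPrecoverage 𝒵)
    (hred : AlgSt.SmoothLocally (fun T => IsReduced T) 𝒵)
    (hne : Nonempty (AlgSt.Points 𝒵)) (hsub : Subsingleton (AlgSt.Points 𝒵))
    (f : 𝒵 ⥤ᵇ 𝒳) (hf : AlgSt.IsMono f) (hfx : ∀ p : AlgSt.Points 𝒵, AlgSt.Points.map f p = x) :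
    ∃ Q : 𝒳.obj → Prop, Gerb.IsResGerbe Scheme.fppfPrecoverage 𝒳 x Q ∧
      ∀ Q' : 𝒳.obj → Prop, Gerb.IsResGerbe Scheme.fppfPrecoverage 𝒳 x Q' → ∀ ξ : 𝒳.obj, Q' ξ ↔ Q ξ := by
  open Groth.Agent.H14Gerbe Groth.Agent.H14AlgSt in
  obtain ⟨k₀, _, a₀, z₀, hz₀⟩ := exists_flat_field_point h𝒵 hred hne
  obtain ⟨Q₀, -, hA, ⟨k₁, _, a₁, z₁, hp₁, hs₁, hf₁⟩, -⟩ :=
    exists_fppf_field_substack h𝒵 (surjective_of_subsingleton_points h𝒵 hsub z₀) hz₀
  obtain ⟨hne₁, hsub₁⟩ := subsingleton_points_of_field_point hA.isStack.1 hs₁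
  let j := AlgSt.subIncl 𝒵 Q₀
  have : f.toFunctor.Full := full_of_isMono h𝒵.isStack.1 h𝒳.isStack.1 hf
  have : f.toFunctor.Faithful := faithful_of_repByAlgSp1 h𝒵.isStack.1 h𝒳.isStack.1 (repByAlgSp1_of_with hf)
  have : j.toFunctor.Full := inferInstanceAs (CategoryTheory.ObjectProperty.ι (P := Q₀)).Full
  have : j.toFunctor.Faithful := inferInstanceAs (CategoryTheory.ObjectProperty.ι (P := Q₀)).Faithful
  have : (BasedFunctor.comp j f).toFunctor.Full :=
    inferInstanceAs (j.toFunctor ⋙ f.toFunctor).Full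
  have : (BasedFunctor.comp j f).toFunctor.Faithful :=
    inferInstanceAs (j.toFunctor ⋙ f.toFunctor).Faithful
  obtain ⟨Q, hQ, -⟩ := Groth.Agent.S16812.result S 𝒳 h𝒳 x _ hA
    (reduced_of_field_point hA hs₁ hf₁) (noetherian_of_field_point hA hp₁ hs₁ hf₁) hne₁ hsub₁
    (BasedFunctor.comp j f) (isMono_of_fully_faithful hA h𝒳 _)
    (fun p => (points_map_comp j f p).trans (hfx _))
  exact ⟨Q, hQ, fun Q' hQ' ξ => isResGerbe_unique h𝒳 hQ hQ' ξ⟩

end Groth.Agent.S16810
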