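import Groth.Statements.S16811
import Groth.Agent.H14AlgSt.FieldPoint
import Groth.Agent.H19Grp.RegularSmooth
import Groth.Agent.H05EGA4.Regular
import Groth.Agent.S16806

set_option autoImplicit false
set_option backward.isDefEq.respectTransparency false
set_option backward.isDefEq.respectTransparency.types false
universe u
open CategoryTheory AlgebraicGeometry
open Gerb

namespace Groth.Agent.S16811

/-- A reduced, locally Noetherian algebraic stack with exactly one point is regular (all local rings of
all schemes smooth over it are regular local rings). -/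
theorem result
    (S : Scheme.{u}) (𝒵 : AlgSt.Cat S) (h𝒵 : AlgSt.IsAlgStack Scheme.fppfPrecoverage 𝒵)
    (hred : AlgSt.SmoothLocally (fun T => IsReduced T) 𝒵)
    (hnoeth : AlgSt.SmoothLocally (fun T => IsLocallyNoetherian T) 𝒵)
    (hne : Nonempty (AlgSt.Points 𝒵)) (hsub : Subsingleton (AlgSt.Points 𝒵)) :
    AlgSt.SmoothLocally (fun T => ∀ t : T, IsRegularLocalRing (T.presheaf.stalk t)) 𝒵 := by
  obtain ⟨k, _, a, z, hzp, hzs, hzf⟩ := (S16806.result S 𝒵 h𝒵).1 ⟨hred, hnoeth, hne, hsub⟩
  intro V y hy v
  have : IsLocallyNoetherian V.left := hnoeth V y hy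
  obtain ⟨A, h, c, hf, hs, hc, -⟩ := H14AlgSt.exists_cover_of_field_point h𝒵 hzs hzf hy
  obtain ⟨t, rfl⟩ := hs.surj v
  have : Smooth (show A.left ⟶ Spec (CommRingCat.of k) from c.left) := hc
  have : IsRegularLocalRing (A.left.presheaf.stalk t) :=
    H19Grp.isRegularLocalRing_stalk_of_smooth (show A.left ⟶ Spec (CommRingCat.of k) from c.left) t
  let φ : V.left.presheaf.stalk (h.left t) →+* A.left.presheaf.stalk t := (h.left.stalkMap t).hom
  let := φ.toAlgebra
  have : Module.Flat (V.left.presheaf.stalk (h.left t)) (A.left.presheaf.stalk t) :=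
    Flat.stalkMap h.left t
  have : IsLocalHom (algebraMap (V.left.presheaf.stalk (h.left t)) (A.left.presheaf.stalk t)) :=
    inferInstanceAs (IsLocalHom (h.left.stalkMap t).hom)
  exact H05EGA4.isRegularLocalRing_of_flat (B := A.left.presheaf.stalk t)

end Groth.Agent.S16811
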