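import Groth.Statements.S16814
import Groth.Agent.H14Gerbe.ResPoint
import Groth.Agent.H14AlgSt.Substack
import Groth.Agent.S16806

set_option autoImplicit false
set_option backward.isDefEq.respectTransparency false
set_option backward.isDefEq.respectTransparency.types false
universe u
open CategoryTheory AlgebraicGeometry
open Gerb

namespace Groth.Agent.S16814

/-- Let f : 𝒳 → 𝒴 be a morphism of algebraic stacks and x a point of 𝒳 with image y. If the residual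
gerbes 𝒵_x ⊂ 𝒳 and 𝒵_y ⊂ 𝒴 exist, then f induces a morphism 𝒵_x → 𝒵_y making the square with the
inclusions commute up to 2-isomorphism. -/
theorem result
    (S : Scheme.{u}) (𝒳 𝒴 : AlgSt.Cat S) (h𝒳 : AlgSt.IsAlgStack Scheme.fppfPrecoverage 𝒳) (h𝒴 : AlgSt.IsAlgStack Scheme.fppfPrecoverage 𝒴)
    (f : 𝒳 ⥤ᵇ 𝒴) (x : AlgSt.Points 𝒳)
    (Q : 𝒳.obj → Prop) (hQ : Gerb.IsResGerbe Scheme.fppfPrecoverage 𝒳 x Q)
    (Q' : 𝒴.obj → Prop) (hQ' : Gerb.IsResGerbe Scheme.fppfPrecoverage 𝒴 (AlgSt.Points.map f x) Q') :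
    ∃ g : AlgSt.fullSub 𝒳 Q ⥤ᵇ AlgSt.fullSub 𝒴 Q',
      Nonempty (BasedFunctor.comp g (AlgSt.subIncl 𝒴 Q') ≅ BasedFunctor.comp (AlgSt.subIncl 𝒳 Q) f) := by
  obtain ⟨hc, hZ, hr, hn, hne, hs, hx⟩ := hQ
  obtain ⟨hc', hZ', -, -, hne', -, hx'⟩ := hQ'
  obtain ⟨k, _, a, z, hzp, hzs, hzf⟩ := (S16806.result S _ hZ).1 ⟨hr, hn, hne, hs⟩
  obtain ⟨p⟩ := hne
  obtain ⟨q⟩ := hne'
  exact H14Gerbe.exists_factor_of_mono hZ hZ' h𝒴 (BasedFunctor.comp (AlgSt.subIncl 𝒳 Q) f)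
    (AlgSt.subIncl 𝒴 Q') hzp hzs hzf p
    ⟨q, by rw [hx' q, H14AlgSt.points_map_comp, hx p]⟩

end Groth.Agent.S16814
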