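import Groth.Statements.S16815
import Groth.Agent.H14AlgSt.DiagIso
import Groth.Agent.H14Gerbe.FieldImage

set_option backward.isDefEq.respectTransparency false
set_option backward.isDefEq.respectTransparency.types false

set_option autoImplicit false
universe u
open CategoryTheory AlgebraicGeometry
open Gerb

namespace Groth.Agent.S16815

open Groth.Agent.H14Fib Groth.Agent.H14Stk Groth.Agent.H14AlgSt in
/-- The comparison of fibre products of a lift through a fully faithful functor. -/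
lemma repWith_iso_fpDown {S : Scheme.{u}} {𝒵 𝒳 𝒴 𝒲 : AlgSt.Cat S} (i : 𝒵 ⥤ᵇ 𝒳) [i.toFunctor.Full]
    [i.toFunctor.Faithful] (f : 𝒳 ⥤ᵇ 𝒴) (p : 𝒲 ⥤ᵇ 𝒳) (ζ : 𝒲 ⥤ᵇ 𝒵)
    (j : BasedFunctor.comp ζ i ≅ p) (h : FibCat.IsEquivOver (fpDown p p f)) :
    AlgSt.RepByAlgSpWith (MorphismProperty.isomorphisms (AlgSp.Sp S))
      (fpDown ζ ζ (BasedFunctor.comp i f)) := by
  have : (BasedFunctor.id 𝒲).toFunctor.Full := inferInstanceAs (𝟭 𝒲.obj).Full
  have : (BasedFunctor.id 𝒲).toFunctor.Faithful := inferInstanceAs (𝟭 𝒲.obj).Faithful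
  have : (BasedFunctor.id 𝒴).toFunctor.Full := inferInstanceAs (𝟭 𝒴.obj).Full
  have : (BasedFunctor.id 𝒴).toFunctor.Faithful := inferInstanceAs (𝟭 𝒴.obj).Faithful
  let e₁ : BasedFunctor.comp ζ i ≅ BasedFunctor.comp (BasedFunctor.id 𝒲) p := j
  let e₂ : BasedFunctor.comp (BasedFunctor.comp ζ (BasedFunctor.comp i f)) (BasedFunctor.id 𝒴) ≅
      BasedFunctor.comp (BasedFunctor.id 𝒲) (BasedFunctor.comp p f) := (post 𝒲 f).mapIso j
  let E₁ : FibCat.fp ζ ζ ⥤ᵇ FibCat.fp p p :=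
    fpMap (BasedFunctor.id 𝒲) (BasedFunctor.id 𝒲) i e₁ e₁
  let E₂ : FibCat.fp (BasedFunctor.comp ζ (BasedFunctor.comp i f))
      (BasedFunctor.comp ζ (BasedFunctor.comp i f)) ⥤ᵇ
      FibCat.fp (BasedFunctor.comp p f) (BasedFunctor.comp p f) :=
    fpMap (BasedFunctor.id 𝒲) (BasedFunctor.id 𝒲) (BasedFunctor.id 𝒴) e₂ e₂
  have h₁ : FibCat.IsEquivOver E₁ :=
    fpMap_isEquivOver _ _ _ _ _ (essSurjOver_id _) (essSurjOver_id _)
  have h₂ : FibCat.IsEquivOver E₂ :=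
    fpMap_isEquivOver _ _ _ _ _ (essSurjOver_id _) (essSurjOver_id _)
  refine (repWith_square (f := fpDown p p f) h₁ h₂ ?_).1 (repWith_iso_of_isEquivOver h)
  refine mkIso (fun c => fpIsoMk (Iso.refl _) (Iso.refl _) ?_)
    (fun {c d} m => fp_hom_ext ((Category.comp_id _).trans (Category.id_comp _).symm)
      ((Category.comp_id _).trans (Category.id_comp _).symm))
    (fun c => (fp_isHomLift_iff _ _).2 (IsHomLift.id rfl))
  change f.map (p.map (𝟙 _)) ≫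
      f.map ((isoApp j c.obj.fst).inv ≫ i.map c.obj.iso.hom ≫ (isoApp j c.obj.snd).hom) =
    (f.map (isoApp j c.obj.fst).inv ≫ f.map (i.map c.obj.iso.hom) ≫
      f.map (isoApp j c.obj.snd).hom) ≫ f.map (p.map (𝟙 _))
  simp only [← Functor.map_comp, Functor.map_id, Category.id_comp, Category.comp_id]
  erw [p.toFunctor.map_id, p.toFunctor.map_id, Category.id_comp, Category.comp_id]


/-- Let f : 𝒳 → 𝒴 be a morphism of algebraic stacks, x a point of 𝒳 with image y, with residual gerbes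
𝒵_x and 𝒵_y. Suppose some morphism p from the spectrum of a field k to 𝒳, representing x, makes the
comparison map from Spec k ×_𝒳 Spec k to Spec k ×_𝒴 Spec k an isomorphism. Then the induced 𝒵_x →
𝒵_y is an isomorphism (an equivalence). -/
theorem result
    (S : Scheme.{u}) (𝒳 𝒴 : AlgSt.Cat S) (h𝒳 : AlgSt.IsAlgStack Scheme.fppfPrecoverage 𝒳) (h𝒴 : AlgSt.IsAlgStack Scheme.fppfPrecoverage 𝒴)
    (f : 𝒳 ⥤ᵇ 𝒴) (x : AlgSt.Points 𝒳)
    (Q : 𝒳.obj → Prop) (hQ : Gerb.IsResGerbe Scheme.fppfPrecoverage 𝒳 x Q)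
    (Q' : 𝒴.obj → Prop) (hQ' : Gerb.IsResGerbe Scheme.fppfPrecoverage 𝒴 (AlgSt.Points.map f x) Q')
    (k : Type u) [Field k] (a : Spec (CommRingCat.of k) ⟶ S)
    (p : FibCat.overCat (Over.mk a) ⥤ᵇ 𝒳)
    (hp : ∀ t : ↥(Over.mk a).left, AlgSt.Points.ofChart p t = x)
    (e : BasedFunctor.comp (FibCat.fpFst p p) (BasedFunctor.comp p f) ≅
      BasedFunctor.comp (FibCat.fpSnd p p) (BasedFunctor.comp p f))
    (he : ∀ c, e.hom.toNatTrans.app c = f.map c.obj.iso.hom)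
    (hiso : FibCat.IsEquivOver (FibCat.fpLift (FibCat.fpFst p p) (FibCat.fpSnd p p) e)) :
    ∃ g : AlgSt.fullSub 𝒳 Q ⥤ᵇ AlgSt.fullSub 𝒴 Q',
      Nonempty (BasedFunctor.comp g (AlgSt.subIncl 𝒴 Q') ≅ BasedFunctor.comp (AlgSt.subIncl 𝒳 Q) f) ∧
      FibCat.IsEquivOver g := by
  have hiso' : FibCat.IsEquivOver (H14Fib.fpDown p p f) := by
    refine (congrArg FibCat.IsEquivOver ?_ : _ = _).mpr hiso
    refine congrArg (FibCat.fpLift (F := BasedFunctor.comp p f) (G := BasedFunctor.comp p f)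
      (FibCat.fpFst p p) (FibCat.fpSnd p p)) (Iso.ext (H14Stk.hom_ext fun c => ?_))
    exact (he c).symm
  obtain ⟨-, hZ, -, -, ⟨q⟩, hsub, hx⟩ := id hQ
  obtain ⟨-, hW, -, -, ⟨q'⟩, -, hx'⟩ := id hQ'
  have hmono := H14Gerbe.isMono_subIncl h𝒳 hZ
  have : (AlgSt.subIncl 𝒳 Q).toFunctor.Full := inferInstanceAs (ObjectProperty.ι (P := Q)).Full
  have : (AlgSt.subIncl 𝒳 Q).toFunctor.Faithful :=
    inferInstanceAs (ObjectProperty.ι (P := Q)).Faithful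
  have : (AlgSt.subIncl 𝒴 Q').toFunctor.Full := inferInstanceAs (ObjectProperty.ι (P := Q')).Full
  have : (AlgSt.subIncl 𝒴 Q').toFunctor.Faithful :=
    inferInstanceAs (ObjectProperty.ι (P := Q')).Faithful
  obtain ⟨ζ, ⟨jζ⟩⟩ := H14AlgSt.exists_lift_field_of_mono hZ h𝒳 hmono p q
    fun t => (hp t).trans (hx q).symm
  obtain ⟨k', _, a', z', hzp, hzs, hzf⟩ := H14Gerbe.field_point_of_isResGerbe hQ
  let F : AlgSt.fullSub 𝒳 Q ⥤ᵇ 𝒴 := BasedFunctor.comp (AlgSt.subIncl 𝒳 Q) f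
  obtain ⟨hfull, hfaith⟩ := H14AlgSt.ff_of_diag_iso hZ h𝒴
    (H14AlgSt.repWith_iso_diag_of_field hZ h𝒴 F hsub z' hzp hzs hzf ζ
      (repWith_iso_fpDown (AlgSt.subIncl 𝒳 Q) f p ζ jζ hiso'))
  obtain ⟨g, ⟨eg⟩⟩ := H14Gerbe.exists_factor_of_mono hZ hW h𝒴 F (AlgSt.subIncl 𝒴 Q') hzp hzs hzf q
    ⟨q', by rw [hx' q', H14AlgSt.points_map_comp, hx q]⟩
  refine ⟨g, ⟨eg⟩, ?_⟩
  have ei : g.toFunctor ⋙ (AlgSt.subIncl 𝒴 Q').toFunctor ≅ F.toFunctor :=
    (BasedNatTrans.forgetful _ _).mapIso eg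
  have : g.toFunctor.Faithful := Functor.Faithful.of_comp_iso ei
  have : g.toFunctor.Full := Functor.Full.of_comp_faithful_iso ei
  obtain ⟨k'', _, a'', z'', h1, h2, h3⟩ := H14Gerbe.field_point_of_isResGerbe hQ'
  exact H14AlgSt.isEquivOver_of_mono_of_field_point hZ hW
    (H14Gerbe.isMono_of_fully_faithful hZ hW g) h1 h2 h3 q

end Groth.Agent.S16815
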