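import Groth.Statements.S16822
import Groth.Agent.H14AlgSt.DMDiag

set_option autoImplicit false
set_option backward.isDefEq.respectTransparency false
set_option backward.isDefEq.respectTransparency.types false
universe u
open AlgSt

namespace Groth.Agent.S16822

open CategoryTheory AlgebraicGeometry in
/-- Let 𝒳 be an algebraic stack over (Sch/S) for the etale topology. Then 𝒳 is a Deligne–Mumford stack
(it has an etale surjective presentation by a scheme) if and only if the diagonal 𝒳 → 𝒳 ×_{(Sch/S)}
𝒳 is unramified: representable by algebraic spaces, locally of finite type and formally unramified.
The source states the diagonal condition absolutely (over the integers); over a base S the relative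
diagonal is unramified exactly when the absolute one is, since the two differ by a base change of
the diagonal of S, an immersion. The source's third equivalent condition, on stabilizer groups of
points, is not stated. -/
theorem result {S : Scheme.{u}} (𝒳 : AlgSt.Cat S)
    (h𝒳 : AlgSt.IsAlgStack Scheme.etalePrecoverage 𝒳) :
    AlgSt.IsDM Scheme.etalePrecoverage 𝒳 ↔ AlgSt.IsDMOver 𝒳 := by
  exact ⟨Groth.Agent.H14AlgSt.isDMOver_of_isDM, Groth.Agent.H14AlgSt.isDM_of_isDMOver h𝒳⟩

end Groth.Agent.S16822
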