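import Groth.Statements.S16828
import Groth.Agent.H14AlgSt.DMDiag
import Groth.Agent.H14AlgSt.SourceDescent
import Groth.Agent.H12AlgSp.LQFScheme2
import Groth.Agent.H12AlgSp.DescentLQF
import Groth.Agent.H13AlgSp.FiniteMor
import Groth.Agent.H14AlgSt.QC

set_option autoImplicit false
set_option backward.isDefEq.respectTransparency false
set_option backward.isDefEq.respectTransparency.types false
universe u
open AlgSt

namespace Groth.Agent.S16828

open CategoryTheory Limits AlgebraicGeometry in
lemma isQuasiAffineMor_of_unramified {S : Scheme.{u}} {X Y : AlgSp.Sp S} (hX : AlgSp.IsAlgSpace X)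
    (hY : AlgSp.IsAlgSpace Y) {f : X ⟶ Y} (hs : AlgSp.IsSeparatedMor f)
    (hq : AlgSp.IsQuasiCompactMor f)
    (hu : AlgSp.LocP (@LocallyOfFiniteType ⊓ @FormallyUnramified) f) :
    AlgSp.IsQuasiAffineMor f := by
  open Groth.Agent in
  have hl : AlgSp.LocP (@LocallyQuasiFinite ⊓ @LocallyOfFiniteType) f :=
    H12AlgSp.locP_mono (fun A B g hg => by
      have : LocallyOfFiniteType g := hg.1
      have : FormallyUnramified g := hg.2
      exact ⟨H14AlgSt.locallyQuasiFinite_of_unramified g, hg.1⟩) hu
  have hr := Groth.Agent.H12AlgSp.representable_of_lqf_separated hX hY hs hl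
  intro Z hZ g
  obtain ⟨W, i, fst, sq⟩ := hr g
  have : IsAffine Z.left := hZ
  have : IsSeparated i.left :=
    (Groth.Agent.H13AlgSp.repWith_isSeparated_of_isSeparatedMor hr hs).property _ _ i sq
  have : QuasiCompact i.left :=
    (Groth.Agent.H12AlgSp.repWith_quasiCompact_of_mor hr hq).property _ _ i sq
  have hi := AlgSp.locP_yon_map (Groth.Agent.H12AlgSp.locP_of_isPullback
    Groth.Agent.H14AlgSt.etLocal_quasiFinite sq hX hY (AlgSp.IsAlgSpace.yon_obj Z) hl)
  have : LocallyQuasiFinite i.left := hi.1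
  have : LocallyOfFiniteType i.left := hi.2
  have : CompactSpace W.left := QuasiCompact.compactSpace_of_compactSpace i.left
  exact ⟨W, i, fst, sq, Groth.Agent.H12AlgSp.isQuasiAffine_of_lqf i.left⟩

open CategoryTheory AlgebraicGeometry in
/-- Let 𝒳 be a Deligne–Mumford stack over (Sch/S) for the etale topology whose diagonal 𝒳 → 𝒳
×_{(Sch/S)} 𝒳 is separated and quasi-compact (representable by algebraic spaces with these
properties). Then the diagonal is quasi-affine: representable by algebraic spaces with every base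
change to a scheme a quasi-affine morphism. The source states this for the absolute diagonal; the
diagonal over S is used here. -/
theorem result {S : Scheme.{u}} (𝒳 : AlgSt.Cat S)
    (h𝒳 : AlgSt.IsDM Scheme.etalePrecoverage 𝒳)
    (hsep : AlgSt.RepByAlgSpWith AlgSp.IsSeparatedMor (FibCat.diag (FibCat.toSelf 𝒳)))
    (hqc : AlgSt.RepByAlgSpWith AlgSp.IsQuasiCompactMor (FibCat.diag (FibCat.toSelf 𝒳))) :
    AlgSt.RepByAlgSpWith AlgSp.IsQuasiAffineMor (FibCat.diag (FibCat.toSelf 𝒳)) := by
  open Groth.Agent.H14AlgSt in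
  exact repWith_mono (fun _ hF hG h => isQuasiAffineMor_of_unramified hF hG h.1.2 h.2 h.1.1)
    (repWith_inf sourceIsoInv_qc
      (repWith_inf (BaseStable.sourceIsoInv fun _ _ _ _ _ _ _ _ _ _ _ _ sq h =>
        Groth.Agent.H12AlgSp.isSeparatedMor_of_isPullback sq h) (isDMOver_of_isDM h𝒳) hsep) hqc)

end Groth.Agent.S16828
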