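import Groth.Statements.S16832
import Groth.Agent.H14AlgSt.FieldTrivial

set_option autoImplicit false
set_option backward.isDefEq.respectTransparency false
set_option backward.isDefEq.respectTransparency.types false
universe u
open AlgSt

namespace Groth.Agent.S16832

open CategoryTheory Functor
open Groth.Agent.H14AlgSt Groth.Agent.H14Fib Groth.Agent.H14Stk

open CategoryTheory AlgebraicGeometry in
/-- Let 𝒳 be an algebraic stack over (Sch/S) for the etale topology. Then 𝒳 is an algebraic space
(equivalent over (Sch/S) to the category of sections of an algebraic space) if and only if every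
point of 𝒳 has trivial stabilizer: for every field k, every morphism Spec k → S and every functor x
: (Sch/Spec k) → 𝒳 over (Sch/S), the group of automorphisms over the identity of the object x(T) is
trivial for every scheme T over Spec k (the stabilizer of x, a group algebraic space over k, has
only the identity section over every T). -/
theorem result {S : Scheme.{u}} (𝒳 : AlgSt.Cat S)
    (h𝒳 : AlgSt.IsAlgStack Scheme.etalePrecoverage 𝒳) :
    AlgSt.RepByAlgSp 𝒳 ↔
      ∀ (k : Type u) [Field k] (sk : Spec (CommRingCat.of k) ⟶ S)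
        (x : FibCat.overCat (Over.mk sk) ⥤ᵇ 𝒳) (T : Over (Over.mk sk)),
        Subsingleton (Gerb.AutO (x.obj T)) := by
  constructor
  · intro h k _ sk x T
    have := faithful_of_fibSetoid (isFibSetoid_of_rep h)
    refine ⟨fun α β => CategoryTheory.Iso.ext (Subtype.ext (𝒳.p.map_injective ?_))⟩
    exact (@IsHomLift.fac' _ _ _ _ 𝒳.p _ _ _ _ (𝟙 _) α.hom.1 α.hom.2).trans
      (@IsHomLift.fac' _ _ _ _ 𝒳.p _ _ _ _ (𝟙 _) β.hom.1 β.hom.2).symm
  · intro h
    refine repByAlgSp_of_fibSetoid_etale h𝒳 (isFibSetoid_of_fieldTrivial h𝒳 fun k _ _ sk x T _ σ hσ => ?_)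
    have hl : 𝒳.p.IsHomLift (𝟙 (𝒳.p.obj (x.obj T))) σ :=
      IsHomLift.of_fac' _ _ _ rfl rfl (by simpa using hσ)
    have := isIso_of_fibGrpd h𝒳.isStack.1 (𝟙 (𝒳.p.obj (x.obj T))) σ
    let a : Gerb.AutO (x.obj T) := ⟨⟨σ, hl⟩,
      ⟨(asIso σ).inv, @IsHomLift.lift_id_inv _ _ _ _ 𝒳.p _ _ _ (asIso σ) hl⟩,
      Subtype.ext (IsIso.hom_inv_id σ), Subtype.ext (IsIso.inv_hom_id σ)⟩
    exact congrArg (fun α : Gerb.AutO (x.obj T) => α.hom.1)
      ((h k sk x T).elim a 1)

end Groth.Agent.S16832
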