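import Groth.Statements.S16833
import Groth.Agent.H13AlgSp.FiniteMor

set_option autoImplicit false
universe u
open AlgSp

namespace Groth.Agent.S16833

open CategoryTheory AlgebraicGeometry in
/-- Let p : U → X and f : X → Y be morphisms of algebraic spaces over a scheme S with p etale and
surjective and f separated. If the composite U → Y is finite, then f is finite. -/
theorem result {S : Scheme.{u}}
    {U X Y : AlgSp.Space S} (p : U ⟶ X) (f : X ⟶ Y)
    (hp : AlgSp.IsEtaleMor p.hom) (hps : AlgSp.IsSurjectiveMor p.hom)
    (hf : AlgSp.IsSeparatedMor f.hom) (h : AlgSp.IsFiniteMor (p ≫ f).hom) :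
    AlgSp.IsFiniteMor f.hom := by
  exact Groth.Agent.H13AlgSp.isFiniteMor_of_etale_precomp U.property X.property Y.property
    (Groth.Agent.H12AlgSp.locP_etale_of_isEtaleMor hp) hps hf h

end Groth.Agent.S16833
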