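import Groth.Statements.S16834
import Groth.Agent.H13AlgSp.AffineLocal
import Groth.Agent.H13AlgSp.QAffDescent
import Groth.Agent.S10533
-- import your own Groth.Agent.* helpers here

set_option autoImplicit false
universe u
open CategoryTheory CategoryTheory.Limits AlgebraicGeometry
open AlgSp Groth.Agent.H12AlgSp Groth.Agent.H13AlgSp

namespace Groth.Agent.S16834

/-- Let k be a field with algebraic closure k̄ and X an algebraic space over Spec k which is
quasi-separated over k and whose structure morphism is locally of finite type. If the base change X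
×_k Spec k̄ (product with h_{Spec k̄} in fppf sheaves over Spec k) is isomorphic to h_T for an
affine scheme T over k, then X is isomorphic to h_U for an affine scheme U over k. -/
theorem result (k : Type u) [Field k]
    (X : AlgSp.Space (Spec (CommRingCat.of k))) (hqs : AlgSp.IsQuasiSeparatedSp X.obj)
    (hlft : ∀ q : X.obj ⟶ (AlgSp.yon (Spec (CommRingCat.of k))).obj (Over.mk (𝟙 _)),
      AlgSp.LocP @LocallyOfFiniteType q)
    (kbar : Type u) [Field kbar] [Algebra k kbar] [IsAlgClosure k kbar]
    (T : Over (Spec (CommRingCat.of k))) (hT : IsAffine T.left)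
    (e : X.obj ⨯ (AlgSp.yon (Spec (CommRingCat.of k))).obj
        (Over.mk (Spec.map (CommRingCat.ofHom (algebraMap k kbar)))) ≅
      (AlgSp.yon (Spec (CommRingCat.of k))).obj T) :
    ∃ (U : Over (Spec (CommRingCat.of k))), IsAffine U.left ∧
      Nonempty (X.obj ≅ (AlgSp.yon (Spec (CommRingCat.of k))).obj U) := by
  let B := Spec (CommRingCat.of k)
  let pt : Over B := Over.mk (𝟙 B)
  let Kb : Over B := Over.mk (Spec.map (CommRingCat.ofHom (algebraMap k kbar)))
  let c : Kb ⟶ pt := Over.mkIdTerminal.from Kb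
  have hc : c.left = Spec.map (CommRingCat.ofHom (algebraMap k kbar)) := by simpa [c, Kb] using Over.w c
  haveI : Flat c.left := hc ▸ ((HasRingHomProperty.Spec_iff (P := @Flat)).2
    (RingHom.flat_algebraMap_iff.2 inferInstance))
  haveI : Surjective c.left := ⟨fun x => ⟨(⟨⊥, Ideal.isPrime_bot⟩ : PrimeSpectrum kbar),
    Subsingleton.elim (α := PrimeSpectrum k) _ _⟩⟩
  haveI : IsAffine Kb.left := inferInstanceAs (IsAffine (Spec (CommRingCat.of kbar)))
  haveI : IsAffine pt.left := inferInstanceAs (IsAffine (Spec (CommRingCat.of k)))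
  haveI : IsAffine T.left := hT
  have hterm : IsTerminal ((yon B).obj pt) := IsTerminal.isTerminalObj (yon B) pt Over.mkIdTerminal
  let f : X.obj ⟶ (yon B).obj pt := hterm.from _
  have sq : IsPullback prod.fst prod.snd f ((yon B).map c) :=
    hterm.hom_ext (hterm.from _) ((yon B).map c) ▸
      IsPullback.of_is_product' (prodIsProd X.obj ((yon B).obj Kb)) hterm
  obtain ⟨b, hb⟩ := (yon B).map_surjective (e.inv ≫ prod.snd)
  haveI : IsAffineHom b.left := inferInstance
  have hs : prod.snd = e.hom ≫ (yon B).map b := by rw [hb, Iso.hom_inv_id_assoc]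
  have hXi : IsAlgSpace (X.obj ⨯ (yon B).obj Kb) :=
    isAlgSpace_of_isPullback (IsAlgSpace.yon_obj pt).diag X.property (IsAlgSpace.yon_obj Kb) sq
  have hp : IsAffineMor (prod.snd : X.obj ⨯ (yon B).obj Kb ⟶ _) := by
    rw [Groth.Agent.H13AlgSp.isAffineMor_iff, hs]
    exact Groth.Agent.H12AlgSp.repWith_comp (Groth.Agent.H12AlgSp.repWith_of_isIso _)
      ((repWith_yon_map_iff _ _).2 (inferInstanceAs (IsAffineHom b.left)))
  have hf : IsAffineMor f :=
    (Groth.Agent.S10533.result B (fun _ : PUnit => (yon B).obj Kb) (fun _ => (yon B).map c) (IsAlgSpace.yon_obj pt)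
      (fun _ => IsAlgSpace.yon_obj Kb) (Groth.Agent.H13AlgSp.isFpqcCover_single c) f X.property
      (fun _ => X.obj ⨯ (yon B).obj Kb) (fun _ => prod.snd) (fun _ => prod.fst) (fun _ => hXi) fun _ => sq).2
      fun _ => hp
  obtain ⟨W, i, fst, hW, hWa⟩ := hf (Z := pt) inferInstance (𝟙 _)
  haveI : IsIso fst := hW.isIso_fst_of_isIso
  exact ⟨W, hWa, ⟨(asIso fst).symm⟩⟩

end Groth.Agent.S16834
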