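import Groth.Statements.S16835
import Groth.Agent.H8Props.InertiaEtale.Main

set_option autoImplicit false
universe u
open InvTh

namespace Groth.Agent.S16835

/-- Let R be a Noetherian commutative ring, A and B commutative R-algebras of finite type on which a
finite group G acts by R-algebra automorphisms, and B → A a G-equivariant homomorphism of
R-algebras. Assume that at every maximal ideal x of A, A is etale over B at x and the inertia
subgroup of x in G equals the inertia subgroup of its contraction to B. Give A^G the B^G-algebra
structure induced by B → A (compatible with B^G → B → A through A^G → A). Then A^G is etale over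
B^G. The source also asserts that the square formed by the quotient stacks and the invariant
quotients is cartesian; that clause is not stated. -/
theorem result (R : Type u)
    [CommRing R] [IsNoetherianRing R] (A B : Type u) [CommRing A] [CommRing B] [Algebra R A] [Algebra R B]
    [Algebra.FiniteType R A] [Algebra.FiniteType R B]
    (G : Type u) [Group G] [Finite G] [MulSemiringAction G A] [MulSemiringAction G B]
    [SMulCommClass G R A] [SMulCommClass G R B]
    [Algebra B A] [IsScalarTower R B A]
    (hGeq : ∀ (g : G) (b : B), algebraMap B A (g • b) = g • algebraMap B A b)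
    [Algebra (FixedPoints.subalgebra R B G) (FixedPoints.subalgebra R A G)]
    [IsScalarTower (FixedPoints.subalgebra R B G) (FixedPoints.subalgebra R A G) A]
    (h : ∀ (x : Ideal A) (_ : x.IsMaximal),
      Algebra.IsEtaleAt B x ∧ x.inertia G = (x.comap (algebraMap B A)).inertia G) :
    Algebra.Etale (FixedPoints.subalgebra R B G) (FixedPoints.subalgebra R A G) := by
  haveI := H8Props.InertiaEtale.finiteType_subalgebra R A G
  haveI := H8Props.InertiaEtale.finiteType_subalgebra R B G
  haveI := H8Props.InertiaEtale.isNoetherianRing_subalgebra R B G
  haveI := H8Props.InertiaEtale.isInvariant_subalgebra R A G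
  haveI := H8Props.InertiaEtale.finite_subalgebra R A G
  let AG := FixedPoints.subalgebra R A G
  let BG := FixedPoints.subalgebra R B G
  haveI : IsScalarTower R BG AG := IsScalarTower.of_algebraMap_eq fun r => Subtype.ext (by
    show algebraMap R A r = ((algebraMap BG AG (algebraMap R BG r) : AG) : A)
    refine (IsScalarTower.algebraMap_apply R B A r).trans ?_
    exact IsScalarTower.algebraMap_apply BG AG A (algebraMap R BG r))
  haveI : Algebra.FiniteType BG AG := Algebra.FiniteType.of_restrictScalars_finiteType R BG AG
  haveI : Algebra.FinitePresentation BG AG := Algebra.FinitePresentation.of_finiteType.mp inferInstance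
  haveI : Algebra.FormallyEtale BG AG := by
    rw [← Algebra.etaleLocus_eq_univ_iff, Set.eq_univ_iff_forall]
    intro P
    obtain ⟨m, hm, hle⟩ := Ideal.exists_le_maximal P.asIdeal P.isPrime.ne_top
    haveI := hm
    obtain ⟨x, -, hxm, hxc⟩ := Ideal.exists_ideal_over_prime_of_isIntegral (R := AG) (S := A) m ⊥
      ((Ideal.comap_bot_of_injective (algebraMap AG A) Subtype.val_injective).le.trans bot_le)
    haveI := hxm
    haveI : x.IsMaximal := Ideal.isMaximal_of_isIntegral_of_isMaximal_comap x (hxc.symm ▸ hm)
    obtain ⟨het, hin⟩ := h x inferInstance
    have h1 := H8Props.InertiaEtale.isEtaleAt_invariants R A B G hGeq x het hin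
    have h2 : (⟨m, hm.isPrime⟩ : PrimeSpectrum AG) ∈ Algebra.etaleLocus BG AG := by
      show Algebra.IsEtaleAt BG m
      subst hxc
      exact h1
    exact Algebra.isOpen_etaleLocus.stableUnderGeneralization ((PrimeSpectrum.le_iff_specializes P ⟨m, hm.isPrime⟩).1 hle) h2
  exact ⟨inferInstance, inferInstance⟩

end Groth.Agent.S16835
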