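import Groth.Statements.S16836
import Mathlib

set_option autoImplicit false
universe u v
open scoped Classical
open AbVar

namespace Groth.Agent.S16836

open Polynomial UniqueFactorizationMonoid in
theorem monic_of_mem {F : Type*} [Field F] {g P : F[X]} (hP : P ∈ normalizedFactors g) : P.Monic := by
  classical
  rw [← normalize_normalized_factor P hP]
  exact monic_normalize (irreducible_of_normalized_factor P hP).ne_zero

open Polynomial UniqueFactorizationMonoid in
theorem normalizedFactors_map_eq_bind (K L : Type*) [Field K] [Field L] [Algebra K L] (f : K[X]) (hf : f ≠ 0) :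
    normalizedFactors (f.map (algebraMap K L)) =
      (normalizedFactors f).bind fun P => normalizedFactors (P.map (algebraMap K L)) := by
  classical
  obtain ⟨w, hw⟩ := prod_normalizedFactors hf
  set s := normalizedFactors f
  have h0 : (0 : L[X]) ∉ s.map fun P => P.map (algebraMap K L) := by
    intro h
    obtain ⟨P, hP, hP0⟩ := Multiset.mem_map.mp h
    exact (irreducible_of_normalized_factor P hP).ne_zero
      ((Polynomial.map_eq_zero_iff (algebraMap K L).injective).mp hP0)
  have hprod : s.prod.map (algebraMap K L) = (s.map fun P => P.map (algebraMap K L)).prod :=
    Polynomial.map_multiset_prod _ s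
  have hu : IsUnit ((w : K[X]).map (algebraMap K L)) := w.isUnit.map (Polynomial.mapRingHom _)
  rw [← hw, Polynomial.map_mul, hprod,
    normalizedFactors_mul (Multiset.prod_ne_zero h0) hu.ne_zero, normalizedFactors_of_isUnit hu, add_zero,
    normalizedFactors_multiset_prod _ h0, Multiset.map_map]
  rfl

open Polynomial in
theorem natDegree_sum_normalizedFactors {F : Type*} [Field F] (g : F[X]) (hg : g ≠ 0) :
    ((UniqueFactorizationMonoid.normalizedFactors g).map Polynomial.natDegree).sum = g.natDegree := by
  rw [← natDegree_multiset_prod_of_monic _ (fun P hP => monic_of_mem hP)]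
  exact natDegree_eq_of_degree_eq (degree_eq_degree_of_associated (UniqueFactorizationMonoid.prod_normalizedFactors hg))


open Polynomial UniqueFactorizationMonoid in
/-- Let K ⊆ L be a field extension and f₁, f₂ non-zero polynomials in K[t]. For a field F and
polynomials g₁, g₂ over F put r_F(g₁, g₂) = Σ_P mult_P(g₁) · mult_P(g₂) · deg P, the sum running
over the monic irreducible polynomials P in F[t] (mult_P the multiplicity of P as an irreducible
factor). Assume K is perfect. Then r_K(f₁, f₂) = r_L(f₁, f₂): the number does not depend on the
field over which the factorisations are taken. (Perfectness of K cannot be dropped: for K = F_p(s),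
L = K(s^{1/p}) and f₁ = f₂ = t^p − s the number is p over K and p² over L, since the irreducible t^p
− s becomes a p-th power over L; the published statement has no restriction on K, and its proof
requires the relevant K[t]-modules to remain semisimple after base change, which holds when every
irreducible factor stays squarefree over L, in particular for K perfect.) -/
theorem result (K : Type u) (L : Type v) [Field K] [PerfectField K] [Field L] [Algebra K L]
    (f₁ f₂ : K[X]) (h₁ : f₁ ≠ 0) (h₂ : f₂ ≠ 0) :
    ∑ P ∈ (normalizedFactors (f₁.map (algebraMap K L))).toFinset,
        (normalizedFactors (f₁.map (algebraMap K L))).count P *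
          (normalizedFactors (f₂.map (algebraMap K L))).count P * P.natDegree =
      ∑ P ∈ (normalizedFactors f₁).toFinset,
        (normalizedFactors f₁).count P * (normalizedFactors f₂).count P * P.natDegree := by
  classical
  set φ := algebraMap K L
  set s := normalizedFactors f₁ with hs
  set t := normalizedFactors f₂ with ht
  have e₁ := normalizedFactors_map_eq_bind K L f₁ h₁
  have e₂ := normalizedFactors_map_eq_bind K L f₂ h₂
  have hsum : ∀ {F : Type v} [Field F] (S T : Multiset F[X]),
      ∑ P ∈ S.toFinset, S.count P * T.count P * P.natDegree = (S.map fun P => T.count P * P.natDegree).sum := by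
    intro F _ S T
    rw [Finset.sum_multiset_map_count]
    exact Finset.sum_congr rfl fun P _ => by rw [smul_eq_mul, mul_assoc]
  have hsum' : ∑ P ∈ s.toFinset, s.count P * t.count P * P.natDegree =
      (s.map fun P => t.count P * P.natDegree).sum := by
    rw [Finset.sum_multiset_map_count]
    exact Finset.sum_congr rfl fun P _ => by rw [smul_eq_mul, mul_assoc]
  rw [hsum, hsum', e₁, Multiset.map_bind, Multiset.sum_bind]
  refine congrArg Multiset.sum (Multiset.map_congr rfl fun P hP => ?_)
  have hPirr : Irreducible P := irreducible_of_normalized_factor P hP
  have hPm : P.Monic := monic_of_mem hP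
  have hkey : ∀ Q ∈ normalizedFactors (P.map φ), (normalizedFactors (f₂.map φ)).count Q = t.count P := by
    intro Q hQ
    rw [e₂, Multiset.count_bind, ← ht]
    have hone : ∀ P' ∈ t, (normalizedFactors (P'.map φ)).count Q = if P = P' then 1 else 0 := by
      intro P' hP'
      split_ifs with h
      · subst h
        have hsq : Squarefree (P.map φ) := ((PerfectField.separable_of_irreducible hPirr).map).squarefree
        exact Multiset.count_eq_one_of_mem
          ((squarefree_iff_nodup_normalizedFactors hsq.ne_zero).mp hsq) hQ
      · rw [Multiset.count_eq_zero]
        intro hQ'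
        have hnd : ¬ P ∣ P' := fun hd => h (eq_of_monic_of_associated hPm (monic_of_mem hP')
          (hPirr.associated_of_dvd (irreducible_of_normalized_factor P' hP') hd))
        have hcop : IsCoprime (P.map φ) (P'.map φ) :=
          ((Irreducible.coprime_iff_not_dvd hPirr).mpr hnd).map (Polynomial.mapRingHom φ)
        exact (irreducible_of_normalized_factor Q hQ).not_isUnit
          (hcop.isUnit_of_dvd' (dvd_of_mem_normalizedFactors hQ) (dvd_of_mem_normalizedFactors hQ'))
    rw [Multiset.map_congr rfl hone]
    clear hone e₂ ht
    induction t using Multiset.induction with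
    | empty => simp
    | cons a t ih => rw [Multiset.map_cons, Multiset.sum_cons, ih, Multiset.count_cons, add_comm]
  rw [Multiset.map_congr rfl (fun Q hQ => by rw [hkey Q hQ] : ∀ Q ∈ normalizedFactors (P.map φ), _ = t.count P * Q.natDegree),
    Multiset.sum_map_mul_left, natDegree_sum_normalizedFactors _
      ((Polynomial.map_ne_zero_iff φ.injective).mpr hPirr.ne_zero), hPm.natDegree_map]

end Groth.Agent.S16836
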