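import Groth.Statements.S16837
import Mathlib

set_option autoImplicit false
universe u v w
open scoped Classical
open AbVar

namespace Groth.Agent.S16837

open Polynomial

variable (K : Type*) [Field K]

/-- Multiplication by `X` on a `K[X]`-module, as a `K`-linear map. -/
noncomputable def Xend (M : Type*) [AddCommGroup M] [Module K M] [Module K[X] M] [IsScalarTower K K[X] M] :
    Module.End K M :=
  Algebra.lsmul K K M (X : K[X])

theorem charpoly_Xend_congr {M N : Type*} [AddCommGroup M] [Module K M] [Module K[X] M] [IsScalarTower K K[X] M]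
    [AddCommGroup N] [Module K N] [Module K[X] N] [IsScalarTower K K[X] N]
    [Module.Finite K M] [Module.Finite K N] (e : M ≃ₗ[K[X]] N) :
    (Xend K M).charpoly = (Xend K N).charpoly := by
  rw [← (e.restrictScalars K).charpoly_conj (Xend K M)]
  congr 1
  refine LinearMap.ext fun x => ?_
  simp [Xend, LinearEquiv.conj_apply]

theorem charpoly_Xend_prod (M N : Type*) [AddCommGroup M] [Module K M] [Module K[X] M] [IsScalarTower K K[X] M]
    [AddCommGroup N] [Module K N] [Module K[X] N] [IsScalarTower K K[X] N]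
    [Module.Finite K M] [Module.Finite K N] :
    (Xend K (M × N)).charpoly = (Xend K M).charpoly * (Xend K N).charpoly := by
  rw [← LinearMap.charpoly_prodMap]
  rfl

theorem finite_quot {P : K[X]} (hP : P.Monic) : Module.Finite K (K[X] ⧸ Ideal.span {P}) :=
  hP.finite_adjoinRoot

theorem charpoly_lmul_gen {S : Type*} [CommRing S] [Algebra K S] (pb : PowerBasis K S) :
    haveI := pb.finite
    (Algebra.lmul K S pb.gen).charpoly = minpoly K pb.gen := by
  haveI := pb.finite
  rw [← LinearMap.charpoly_toMatrix _ pb.basis]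
  exact charpoly_leftMulMatrix pb

theorem charpoly_Xend_quot {P : K[X]} (hP : P.Monic) [Module.Finite K (K[X] ⧸ Ideal.span {P})] :
    (Xend K (K[X] ⧸ Ideal.span {P})).charpoly = P := by
  have h : Xend K (K[X] ⧸ Ideal.span {P}) =
      Algebra.lmul K (K[X] ⧸ Ideal.span {P}) (Ideal.Quotient.mk (Ideal.span {P}) X) := by
    refine LinearMap.ext fun x => ?_
    obtain ⟨p, rfl⟩ := Ideal.Quotient.mk_surjective x
    show Ideal.Quotient.mk (Ideal.span {P}) (X * p) = Ideal.Quotient.mk (Ideal.span {P}) X * Ideal.Quotient.mk (Ideal.span {P}) p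
    exact map_mul _ _ _
  rw [h]
  have h2 := charpoly_lmul_gen K (AdjoinRoot.powerBasis hP.ne_zero)
  rw [AdjoinRoot.minpoly_powerBasis_gen_of_monic hP] at h2
  exact h2

theorem charpoly_Xend_pi : ∀ (n : ℕ) (P : Fin n → K[X]) (_ : ∀ i, (P i).Monic)
    [∀ i, Module.Finite K (K[X] ⧸ Ideal.span {P i})],
    (Xend K ((i : Fin n) → K[X] ⧸ Ideal.span {P i})).charpoly = ∏ i, P i
  | 0, P, _, _ => by
    simp only [Finset.univ_eq_empty, Finset.prod_empty]
    exact Polynomial.eq_one_of_monic_natDegree_zero (LinearMap.charpoly_monic _)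
      ((LinearMap.charpoly_natDegree _).trans Module.finrank_zero_of_subsingleton)
  | n + 1, P, hP, inst => by
    rw [Fin.prod_univ_succ, ← charpoly_Xend_pi n (fun i => P i.succ) (fun i => hP _),
      ← charpoly_Xend_quot K (hP 0), ← charpoly_Xend_prod]
    exact (charpoly_Xend_congr K (Fin.consLinearEquiv K[X] (fun i => K[X] ⧸ Ideal.span {P i}))).symm

/-- A finite semisimple torsion `K[X]`-module is a product of simple cyclic modules. -/
theorem exists_decomposition (M : Type*) [AddCommGroup M] [Module K[X] M] [Module.Finite K[X] M]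
    [IsSemisimpleModule K[X] M] :
    ∃ (n : ℕ) (P : Fin n → K[X]), (∀ i, (P i).Monic) ∧ (∀ i, Irreducible (P i)) ∧
      Nonempty (M ≃ₗ[K[X]] ((i : Fin n) → K[X] ⧸ Ideal.span {P i})) := by
  classical
  obtain ⟨n, S, e, hS⟩ := IsSemisimpleModule.exists_linearEquiv_fin_dfinsupp K[X] M
  have hI : ∀ i, ∃ P : K[X], P.Monic ∧ Irreducible P ∧ Nonempty (S i ≃ₗ[K[X]] K[X] ⧸ Ideal.span {P}) := by
    intro i
    obtain ⟨I, hI, ⟨ei⟩⟩ := isSimpleModule_iff_quot_maximal.mp (hS i)
    have hne : I ≠ ⊥ := fun h => Polynomial.not_isField K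
      (Ring.isField_iff_maximal_bot.mpr (h ▸ hI))
    obtain ⟨g, rfl⟩ := (IsPrincipalIdealRing.principal I).principal
    rw [Ideal.submodule_span_eq] at hI hne ei
    have hg : g ≠ 0 := fun h => hne (by simp [h])
    refine ⟨normalize g, monic_normalize hg, (normalize_associated g).symm.irreducible
      ((Ideal.span_singleton_prime hg).mp hI.isPrime).irreducible, ?_⟩
    · rw [Ideal.span_singleton_eq_span_singleton.mpr (normalize_associated g)]
      exact ⟨ei⟩
  choose P hm hirr ei using hI
  exact ⟨n, P, hm, hirr, ⟨e.trans ((DFinsupp.linearEquivFunOnFintype).trans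
    (LinearEquiv.piCongrRight fun i => (ei i).some))⟩⟩

/-- Maps into a product. -/
def piEquiv {R S M : Type*} [CommRing R] [Semiring S] [AddCommGroup M] [Module R M] {ι : Type*} (N : ι → Type*)
    [∀ i, AddCommGroup (N i)] [∀ i, Module R (N i)] [∀ i, Module S (N i)] [∀ i, SMulCommClass R S (N i)] :
    (M →ₗ[R] (i : ι) → N i) ≃ₗ[S] ((i : ι) → M →ₗ[R] N i) where
  toFun f i := (LinearMap.proj i).comp f
  invFun f := LinearMap.pi f
  map_add' _ _ := rfl
  map_smul' _ _ := rfl
  left_inv _ := rfl
  right_inv _ := rfl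

theorem finrank_hom_quot {P Q : K[X]} (hP : P.Monic) (hQ : Q.Monic) (hPi : Irreducible P) (hQi : Irreducible Q) :
    Module.finrank K ((K[X] ⧸ Ideal.span {P}) →ₗ[K[X]] (K[X] ⧸ Ideal.span {Q})) =
      if P = Q then P.natDegree else 0 := by
  split_ifs with h
  · subst h
    let e : ((K[X] ⧸ Ideal.span {P}) →ₗ[K[X]] (K[X] ⧸ Ideal.span {P})) ≃ₗ[K] (K[X] ⧸ Ideal.span {P}) :=
      { toFun := fun f => f 1
        map_add' := fun _ _ => rfl
        map_smul' := fun _ _ => rfl
        invFun := fun a => LinearMap.mul K[X] _ a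
        left_inv := fun f => by
          refine LinearMap.ext fun x => ?_
          obtain ⟨p, rfl⟩ := Ideal.Quotient.mk_surjective x
          have hp : Ideal.Quotient.mk (Ideal.span {P}) p = p • (1 : K[X] ⧸ Ideal.span {P}) := by
            exact (congrArg (Ideal.Quotient.mk (Ideal.span {P})) (mul_one p)).symm
          simp only [LinearMap.mul_apply']
          rw [hp, map_smul, mul_smul_comm, mul_one]
        right_inv := fun a => by simp }
    rw [e.finrank_eq]
    show Module.finrank K (AdjoinRoot P) = _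
    rw [(AdjoinRoot.powerBasis hP.ne_zero).finrank, AdjoinRoot.powerBasis_dim]
  · haveI : Subsingleton ((K[X] ⧸ Ideal.span {P}) →ₗ[K[X]] (K[X] ⧸ Ideal.span {Q})) := by
      refine subsingleton_of_forall_eq 0 fun f => LinearMap.ext fun x => ?_
      obtain ⟨a, b, hab⟩ := (Irreducible.coprime_iff_not_dvd hPi).mpr fun hd =>
        h (eq_of_monic_of_associated hP hQ (hPi.associated_of_dvd hQi hd))
      have hPx : P • x = 0 := by
        obtain ⟨p, rfl⟩ := Ideal.Quotient.mk_surjective x
        exact (Ideal.Quotient.eq_zero_iff_mem).mpr (Ideal.mul_mem_right _ _ (Ideal.subset_span rfl))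
      have hQy : Q • f x = 0 := by
        obtain ⟨p, hp⟩ := Ideal.Quotient.mk_surjective (f x)
        rw [← hp]
        exact (Ideal.Quotient.eq_zero_iff_mem).mpr (Ideal.mul_mem_right _ _ (Ideal.subset_span rfl))
      calc f x = (a * P + b * Q) • f x := by rw [hab, one_smul]
        _ = 0 := by rw [add_smul, mul_smul, mul_smul, hQy, ← map_smul, hPx, map_zero, smul_zero, smul_zero, add_zero]
    exact Module.finrank_zero_of_subsingleton

theorem charpoly_eq_prod {V : Type*} [AddCommGroup V] [Module K V] [FiniteDimensional K V] (π : Module.End K V)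
    {n : ℕ} (P : Fin n → K[X]) (hm : ∀ i, (P i).Monic)
    (e : Module.AEval' π ≃ₗ[K[X]] ((i : Fin n) → K[X] ⧸ Ideal.span {P i})) : π.charpoly = ∏ i, P i := by
  haveI : ∀ i, Module.Finite K (K[X] ⧸ Ideal.span {P i}) := fun i => finite_quot K (hm i)
  haveI : Module.Finite K (Module.AEval' π) := Module.Finite.equiv (Module.AEval'.of π)
  have h : (Module.AEval'.of π).conj π = Xend K (Module.AEval' π) := by
    refine LinearMap.ext fun x => ?_
    obtain ⟨v, rfl⟩ := (Module.AEval'.of π).surjective x
    simp [Xend, LinearEquiv.conj_apply, Module.AEval'.X_smul_of]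
  rw [← (Module.AEval'.of π).charpoly_conj π, h, charpoly_Xend_congr K e, charpoly_Xend_pi K n P hm]

theorem normalizedFactors_prod_fin [DecidableEq K] {n : ℕ} (P : Fin n → K[X]) (hm : ∀ i, (P i).Monic) (hi : ∀ i, Irreducible (P i)) :
    UniqueFactorizationMonoid.normalizedFactors (∏ i, P i) = (Finset.univ : Finset (Fin n)).val.map P := by
  rw [Finset.prod_eq_multiset_prod, UniqueFactorizationMonoid.normalizedFactors_prod_eq]
  · rw [Multiset.map_map]
    exact Multiset.map_congr rfl fun i _ => (hm i).normalize_eq_self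
  · intro a ha
    obtain ⟨i, -, rfl⟩ := Multiset.mem_map.mp ha
    exact hi i


open UniqueFactorizationMonoid in
/-- Let K be any field, V₁ and V₂ finite-dimensional K-vector spaces and π₁, π₂ semisimple endomorphisms
of V₁, V₂ with characteristic polynomials f₁, f₂. Make V_i a K[t]-module by letting t act as π_i.
Then the space Hom_{K[t]}(V₁, V₂) of K-linear maps h with π₂ ∘ h = h ∘ π₁ has K-dimension r(f₁, f₂)
= Σ_P mult_P(f₁) · mult_P(f₂) · deg P, the sum over the monic irreducible polynomials P in K[t]. (No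
restriction on the characteristic of K.) -/
theorem result (K : Type u) [Field K]
    (V₁ : Type v) (V₂ : Type w) [AddCommGroup V₁] [Module K V₁] [FiniteDimensional K V₁]
    [AddCommGroup V₂] [Module K V₂] [FiniteDimensional K V₂]
    (π₁ : Module.End K V₁) (π₂ : Module.End K V₂) (h₁ : π₁.IsSemisimple) (h₂ : π₂.IsSemisimple) :
    Module.finrank K (LinearMap.ker (LinearMap.lcomp K V₂ π₁ - LinearMap.llcomp K V₁ V₂ V₂ π₂ :
        (V₁ →ₗ[K] V₂) →ₗ[K] (V₁ →ₗ[K] V₂))) =
      ∑ P ∈ (normalizedFactors π₁.charpoly).toFinset,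
        (normalizedFactors π₁.charpoly).count P * (normalizedFactors π₂.charpoly).count P * P.natDegree := by
  classical
  haveI : IsSemisimpleModule (Polynomial K) (Module.AEval' π₁) := h₁
  haveI : IsSemisimpleModule (Polynomial K) (Module.AEval' π₂) := h₂
  obtain ⟨n, P, hPm, hPi, ⟨eP⟩⟩ := exists_decomposition K (Module.AEval' π₁)
  obtain ⟨m, Q, hQm, hQi, ⟨eQ⟩⟩ := exists_decomposition K (Module.AEval' π₂)
  haveI : ∀ i, Module.Finite K (Polynomial K ⧸ Ideal.span {P i}) := fun i => finite_quot K (hPm i)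
  haveI : ∀ i, Module.Finite K (Polynomial K ⧸ Ideal.span {Q i}) := fun i => finite_quot K (hQm i)
  let E₀ : (LinearMap.ker (LinearMap.lcomp K V₂ π₁ - LinearMap.llcomp K V₁ V₂ V₂ π₂ :
        (V₁ →ₗ[K] V₂) →ₗ[K] (V₁ →ₗ[K] V₂))) ≃ₗ[K] (Module.AEval' π₁ →ₗ[Polynomial K] Module.AEval' π₂) :=
    { toFun := fun h => LinearMap.ofAEval π₁ ((Module.AEval'.of π₂).toLinearMap ∘ₗ h.1) fun v => by
        have hh := LinearMap.congr_fun (sub_eq_zero.mp h.2) v
        show Module.AEval'.of π₂ (h.1 (π₁ v)) = Polynomial.X • Module.AEval'.of π₂ (h.1 v)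
        rw [Module.AEval'.X_smul_of]
        exact congrArg _ hh
      map_add' := fun h h' => LinearMap.ext fun x => by simp [LinearMap.ofAEval]
      map_smul' := fun c h => LinearMap.ext fun x => by simp [LinearMap.ofAEval]
      invFun := fun φ => ⟨(Module.AEval'.of π₂).symm.toLinearMap ∘ₗ φ.restrictScalars K ∘ₗ (Module.AEval'.of π₁).toLinearMap, by
        rw [LinearMap.mem_ker, LinearMap.sub_apply, sub_eq_zero]
        refine LinearMap.ext fun v => ?_
        show (Module.AEval'.of π₂).symm (φ (Module.AEval'.of π₁ (π₁ v))) = π₂ ((Module.AEval'.of π₂).symm (φ (Module.AEval'.of π₁ v)))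
        rw [← Module.AEval'.X_smul_of, map_smul, Module.AEval'.of_symm_X_smul]⟩
      left_inv := fun h => Subtype.ext (LinearMap.ext fun v => by simp [LinearMap.ofAEval])
      right_inv := fun φ => LinearMap.ext fun x => by simp [LinearMap.ofAEval] }
  let E₁ : (Module.AEval' π₁ →ₗ[Polynomial K] Module.AEval' π₂) ≃ₗ[K]
      (((i : Fin n) → Polynomial K ⧸ Ideal.span {P i}) →ₗ[Polynomial K] ((j : Fin m) → Polynomial K ⧸ Ideal.span {Q j})) :=
    { toFun := fun f => eQ.toLinearMap.comp (f.comp eP.symm.toLinearMap)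
      invFun := fun f => eQ.symm.toLinearMap.comp (f.comp eP.toLinearMap)
      map_add' := fun f f' => by rw [LinearMap.add_comp, LinearMap.comp_add]
      map_smul' := fun c f => LinearMap.ext fun x => by
        show eQ (c • f (eP.symm x)) = c • eQ (f (eP.symm x))
        exact map_smul (eQ.toLinearMap.restrictScalars K) c _
      left_inv := fun f => LinearMap.ext fun x => by simp
      right_inv := fun f => LinearMap.ext fun x => by simp }
  let E₂ := (LinearMap.lsum (Polynomial K) (fun i => Polynomial K ⧸ Ideal.span {P i}) K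
      (M := (j : Fin m) → Polynomial K ⧸ Ideal.span {Q j})).symm
  let E₃ := LinearEquiv.piCongrRight (R := K) fun i : Fin n =>
    piEquiv (R := Polynomial K) (S := K) (M := Polynomial K ⧸ Ideal.span {P i}) (fun j => Polynomial K ⧸ Ideal.span {Q j})
  haveI : ∀ (i : Fin n) (j : Fin m), Module.Finite K
      ((Polynomial K ⧸ Ideal.span {P i}) →ₗ[Polynomial K] (Polynomial K ⧸ Ideal.span {Q j})) := fun i j =>
    Module.Finite.of_injective
      ({ toFun := fun f => f.restrictScalars K, map_add' := fun _ _ => rfl, map_smul' := fun _ _ => rfl } :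
        ((Polynomial K ⧸ Ideal.span {P i}) →ₗ[Polynomial K] (Polynomial K ⧸ Ideal.span {Q j})) →ₗ[K] _)
      (fun f g h => LinearMap.ext (fun x => LinearMap.congr_fun h x))
  rw [(E₀.trans (E₁.trans (E₂.trans E₃))).finrank_eq, Module.finrank_pi_fintype]
  simp only [Module.finrank_pi_fintype, finrank_hom_quot K (hPm _) (hQm _) (hPi _) (hQi _)]
  rw [charpoly_eq_prod K π₁ P hPm eP, charpoly_eq_prod K π₂ Q hQm eQ,
    normalizedFactors_prod_fin K P hPm hPi, normalizedFactors_prod_fin K Q hQm hQi]
  set t := (Finset.univ : Finset (Fin m)).val.map Q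
  have h1 : ∑ R ∈ ((Finset.univ : Finset (Fin n)).val.map P).toFinset,
      ((Finset.univ : Finset (Fin n)).val.map P).count R * t.count R * R.natDegree =
      (((Finset.univ : Finset (Fin n)).val.map P).map fun R => t.count R * R.natDegree).sum := by
    rw [Finset.sum_multiset_map_count]
    exact Finset.sum_congr rfl fun R _ => by rw [smul_eq_mul, mul_assoc]
  rw [h1, Multiset.map_map]
  refine Finset.sum_congr rfl fun i _ => ?_
  simp only [Function.comp_apply, t, Multiset.count_map, Finset.sum_ite_eq, ← Finset.filter_val, ← Finset.card_def]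
  rw [Finset.sum_ite, Finset.sum_const_zero, add_zero, Finset.sum_const, smul_eq_mul]

end Groth.Agent.S16837
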