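import Groth.Statements.S16841
import Groth.Agent.H25AbCube.FrobPoly
import Groth.Agent.H25AbCube.WeilRoots


set_option autoImplicit false
set_option linter.style.haveILetI false
set_option backward.isDefEq.respectTransparency false
set_option synthInstance.maxHeartbeats 200000
universe u
open CategoryTheory MonoidalCategory CartesianMonoidalCategory MonObj GrpObj AlgebraicGeometry
open AbVar

namespace Groth.Agent.S16841

/-- Let k be a finite field with q elements and algebraic closure Ω, ℓ a prime invertible in k, and X an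
abelian variety over k (a proper, geometrically integral commutative group scheme over k) of
dimension g, with geometric Frobenius π_X (the endomorphism that is the identity on points and the
q-th power map on sections); assume, as is the case, that the ℓ-adic Tate module of Ω-points T_ℓ X
is free of finite rank over ℤ_ℓ, and let f_X ∈ ℤ[t] be the polynomial mapping to the characteristic
polynomial of T_ℓ(π_X) (the characteristic polynomial of Frobenius). Only the inequality is stated,
not the equality case. Then the trace of π_X, which is minus the second-highest coefficient of f_X,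
satisfies |trace(π_X)| ≤ g · ⌊2√q⌋. -/
theorem result (k Ω : Type u) [Field k] [Finite k] [Field Ω] [Algebra k Ω] [IsAlgClosure k Ω]
    (l : ℕ) [Fact l.Prime] (hl : (l : k) ≠ 0) (X : Over (Spec (CommRingCat.of k)))
    [GrpObj X] [IsCommMonObj X] [IsProper X.hom] [GeometricallyIntegral X.hom]
    (g : ℕ) (hg : topologicalKrullDim X.left = g)
    (πX : X ⟶ X) [IsMonHom πX] (hπb : πX.left.base = 𝟙 _)
    (hπle : ∀ U : X.left.Opens, U ≤ πX.left ⁻¹ᵁ U)
    (hπapp : ∀ (U : X.left.Opens) (s : Γ(X.left, U)), (πX.left.appLE U U (hπle U)).hom s = s ^ Nat.card k)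
    [Module.Free ℤ_[l] (AbDual.TateMod X l (SGA7.pt Ω))] [Module.Finite ℤ_[l] (AbDual.TateMod X l (SGA7.pt Ω))]
    (P : Polynomial ℤ) (hP : (AbDual.tateMapₗ (l := l) (T := SGA7.pt Ω) πX).charpoly = P.map (Int.castRingHom ℤ_[l])) :
    |(P.nextCoeff : ℝ)| ≤ (g : ℝ) * (⌊2 * Real.sqrt (Nat.card k)⌋ : ℝ) := by

  haveI := IsAlgClosure.isAlgClosed k (K := Ω)
  haveI : Algebra.IsAlgebraic k Ω := IsAlgClosure.isAlgebraic
  obtain ⟨hm, hd, hR, hG, hcount⟩ := Groth.Agent.H25AbCube.FrobPoly.facts πX hπb hπle hπapp Ω hg l hl P hP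
  have hN : ∀ G : Polynomial ℤ, ∃ d : ℕ, (d : ℂ) =
      ((P.map (Int.castRingHom ℂ)).roots.map fun α => Polynomial.aeval α G).prod := fun G => ⟨_, hG G⟩
  have h1 := (Groth.Agent.H25AbCube.WeilRoots.trace_bound hm hd hR hN Nat.card_pos 1 (Or.inl rfl)).1
  have h2 := (Groth.Agent.H25AbCube.WeilRoots.trace_bound hm hd hR hN Nat.card_pos (-1) (Or.inr rfl)).1
  push_cast at h1 h2
  exact abs_le.2 ⟨by linarith, by linarith⟩

end Groth.Agent.S16841
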