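import Groth.Statements.S16844
import Groth.Agent.H25Weilp.EndType

set_option autoImplicit false
set_option linter.style.haveILetI false
set_option backward.isDefEq.respectTransparency false
set_option synthInstance.maxHeartbeats 200000
universe u
open CategoryTheory MonoidalCategory CartesianMonoidalCategory MonObj GrpObj AlgebraicGeometry
open AbVar

namespace Groth.Agent.S16844

/-- (a) ⇔ (b2) ⇔ (c): let k be a finite field with q elements and algebraic closure Ω, ℓ a prime
invertible in k, and X an abelian variety over k (a proper, geometrically integral commutative group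
scheme over k) of dimension g, with geometric Frobenius π_X (the endomorphism that is the identity
on points and the q-th power map on sections); assume, as is the case, that the ℓ-adic Tate module
of Ω-points T_ℓ X is free of finite rank over ℤ_ℓ, and let f_X ∈ ℤ[t] be the polynomial mapping to
the characteristic polynomial of T_ℓ(π_X) (the characteristic polynomial of Frobenius). Then: the
endomorphism ring End_k(X) (endomorphisms defined over k) is commutative if and only if f_X has no
multiple root, i.e. is squarefree in ℚ[t]; and f_X is squarefree if and only if dim_ℚ (ℚ ⊗ End_k(X))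
= 2g. (The further equivalent condition End⁰(X) = ℚ[π_X] is not restated.) -/
theorem result (k Ω : Type u) [Field k] [Finite k] [Field Ω] [Algebra k Ω] [IsAlgClosure k Ω]
    (l : ℕ) [Fact l.Prime] (hl : (l : k) ≠ 0) (X : Over (Spec (CommRingCat.of k)))
    [GrpObj X] [IsCommMonObj X] [IsProper X.hom] [GeometricallyIntegral X.hom]
    (g : ℕ) (hg : topologicalKrullDim X.left = g)
    (πX : X ⟶ X) [IsMonHom πX] (hπb : πX.left.base = 𝟙 _)
    (hπle : ∀ U : X.left.Opens, U ≤ πX.left ⁻¹ᵁ U)
    (hπapp : ∀ (U : X.left.Opens) (s : Γ(X.left, U)), (πX.left.appLE U U (hπle U)).hom s = s ^ Nat.card k)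
    [Module.Free ℤ_[l] (AbDual.TateMod X l (SGA7.pt Ω))] [Module.Finite ℤ_[l] (AbDual.TateMod X l (SGA7.pt Ω))]
    (P : Polynomial ℤ) (hP : (AbDual.tateMapₗ (l := l) (T := SGA7.pt Ω) πX).charpoly = P.map (Int.castRingHom ℤ_[l])) :
    ((∀ a b : EndAV.End X, a * b = b * a) ↔ Squarefree (P.map (Int.castRingHom ℚ))) ∧
      (Squarefree (P.map (Int.castRingHom ℚ)) ↔ Module.finrank ℚ (EndAV.End0 X) = 2 * g) := by
  haveI : IsAlgClosed Ω := IsAlgClosure.isAlgClosed k
  haveI : Algebra.IsAlgebraic k Ω := IsAlgClosure.isAlgebraic
  obtain ⟨bT⟩ := Groth.Agent.H25AbCube.exists_tateBasis_pt (Ω := Ω) l hl hg (A := X)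
  have hN : Module.finrank ℤ_[l] (AbDual.TateMod X l (SGA7.pt Ω)) = 2 * g := by
    rw [Module.finrank_eq_card_basis bT, Fintype.card_fin]
  exact Groth.Agent.H25Weilp.commutative_iff Ω l hl ⟨hπb, hπle, hπapp⟩ P hP hN

end Groth.Agent.S16844
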