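import Groth.Statements.S16847
import Groth.Agent.H25AbCube.CharPolyIrred
import Groth.Agent.H25AbCube.FrobEnd
import Groth.Agent.H25Grp.Isogeny


set_option autoImplicit false
set_option linter.style.haveILetI false
set_option backward.isDefEq.respectTransparency false
set_option synthInstance.maxHeartbeats 200000
universe u
open CategoryTheory MonoidalCategory CartesianMonoidalCategory MonObj GrpObj AlgebraicGeometry
open AbVar

set_option maxHeartbeats 2000000
set_option synthInstance.maxHeartbeats 400000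

namespace Groth.Agent.S16847

/-- Let k be a finite field with q elements and algebraic closure Ω, ℓ a prime invertible in k, and X an
abelian variety over k (a proper, geometrically integral commutative group scheme over k) of
dimension g, with geometric Frobenius π_X (the endomorphism that is the identity on points and the
q-th power map on sections); assume, as is the case, that the ℓ-adic Tate module of Ω-points T_ℓ X
is free of finite rank over ℤ_ℓ, and let f_X ∈ ℤ[t] be the polynomial mapping to the characteristic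
polynomial of T_ℓ(π_X) (the characteristic polynomial of Frobenius). Then ℚ[π_X] ⊆ End⁰(X) = ℚ ⊗
End_k(X) is a field (equivalently, X is elementary, i.e. isogenous to a power of a simple abelian
variety — that reformulation is not restated) if and only if f_X = h^n for some irreducible h ∈ ℚ[t]
and some n ≥ 1. -/
theorem result (k Ω : Type u) [Field k] [Finite k] [Field Ω] [Algebra k Ω] [IsAlgClosure k Ω]
    (l : ℕ) [Fact l.Prime] (hl : (l : k) ≠ 0) (X : Over (Spec (CommRingCat.of k)))
    [GrpObj X] [IsCommMonObj X] [IsProper X.hom] [GeometricallyIntegral X.hom]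
    (πX : X ⟶ X) [IsMonHom πX] (hπb : πX.left.base = 𝟙 _)
    (hπle : ∀ U : X.left.Opens, U ≤ πX.left ⁻¹ᵁ U)
    (hπapp : ∀ (U : X.left.Opens) (s : Γ(X.left, U)), (πX.left.appLE U U (hπle U)).hom s = s ^ Nat.card k)
    [Module.Free ℤ_[l] (AbDual.TateMod X l (SGA7.pt Ω))] [Module.Finite ℤ_[l] (AbDual.TateMod X l (SGA7.pt Ω))]
    (P : Polynomial ℤ) (hP : (AbDual.tateMapₗ (l := l) (T := SGA7.pt Ω) πX).charpoly = P.map (Int.castRingHom ℤ_[l])) :
    IsField (EndAV.QAdj (EndAV.End.of πX)) ↔
      ∃ (h : Polynomial ℚ) (n : ℕ), Irreducible h ∧ 0 < n ∧ P.map (Int.castRingHom ℚ) = h ^ n := by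

  haveI := IsAlgClosure.isAlgClosed k (K := Ω)
  haveI : Algebra.IsAlgebraic k Ω := IsAlgClosure.isAlgebraic
  haveI : IsIntegral X.left := GeometricallyIntegral.isIntegral_of_subsingleton X.hom
  obtain ⟨g, hg⟩ := Groth.Agent.H25Grp.exists_nat_dim X.hom
  haveI : Module.Finite ℤ (EndAV.End X) := Groth.Agent.H25AbCube.moduleFinite_hom
  haveI : Module.Finite ℚ (EndAV.End0 X) := Module.Finite.base_change ℤ ℚ (EndAV.End X)
  set φ := EndAV.End.of πX
  set x := EndAV.toEnd0 φ
  have hint : _root_.IsIntegral ℚ x := Algebra.IsIntegral.isIntegral x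
  let e : Polynomial ℚ →ₐ[ℚ] EndAV.End0 X := Polynomial.aeval x
  constructor
  · intro hF
    haveI : IsDomain ↥(EndAV.QAdj φ) := hF.isDomain
    let y : ↥(EndAV.QAdj φ) := ⟨x, Algebra.subset_adjoin rfl⟩
    haveI : Module.Finite ℚ ↥(EndAV.QAdj φ) := Module.Finite.of_injective (EndAV.QAdj φ).val.toLinearMap Subtype.val_injective
    have hy : minpoly ℚ x = minpoly ℚ y := minpoly.algHom_eq (EndAV.QAdj φ).val Subtype.val_injective y
    have hirr : Irreducible (minpoly ℚ x) := hy ▸ minpoly.irreducible (Algebra.IsIntegral.isIntegral y)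
    obtain ⟨P', n, h1, h2, h3⟩ := Groth.Agent.H25AbCube.exists_charpoly_eq_minpoly_pow (Ω := Ω) hg l hl φ hirr
    obtain rfl : P = P' := Polynomial.map_injective (Int.castRingHom ℤ_[l]) Int.cast_injective (hP.symm.trans h1)
    refine ⟨_, n, hirr, Nat.pos_of_ne_zero fun hn => ?_, h2⟩
    rw [hn, Nat.zero_mul] at h3
    obtain rfl : g = 0 := by omega
    obtain ⟨b⟩ := Groth.Agent.H25AbCube.exists_tateBasis_pt (A := X) (Ω := Ω) l hl hg
    have h0 : (1 : EndAV.End X) = 0 := EndAV.End.ext (by
      refine Groth.Agent.H25AbCube.eq_one_of_tateMap_eq_zero (Ω := Ω) l hl _ ?_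
      show EndAV.End.tateRep l (SGA7.pt Ω) (1 : EndAV.End X) = 0
      exact LinearMap.ext fun v => b.ext_elem fun i => i.elim0)
    have h01 : (1 : ↥(EndAV.QAdj φ)) = 0 := Subtype.ext (by
      show (1 : EndAV.End0 X) = 0
      rw [← map_one (EndAV.toEnd0 (A := X)), h0, map_zero])
    exact one_ne_zero h01
  · rintro ⟨h, n, hh, hn, hPh⟩
    obtain ⟨p, hp, hp0⟩ := Groth.Agent.H25AbCube.frob_semisimple_poly (Nat.card k) πX hπb hπle hπapp
    have hPx : Polynomial.aeval φ P = 0 := EndAV.End.ext (by
      refine Groth.Agent.H25AbCube.eq_one_of_tateMap_eq_zero (Ω := Ω) l hl _ ?_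
      show EndAV.End.tateRep l (SGA7.pt Ω) (Polynomial.aeval φ P) = 0
      have := LinearMap.aeval_self_charpoly (AbDual.tateMapₗ (l := l) (T := SGA7.pt Ω) πX)
      rw [hP] at this
      rw [Polynomial.aeval_def, Polynomial.hom_eval₂, RingHom.ext_int ((EndAV.End.tateRep l (SGA7.pt Ω)).comp
        (algebraMap ℤ (EndAV.End X))) ((algebraMap ℤ_[l] _).comp (Int.castRingHom ℤ_[l])), ← Polynomial.eval₂_map]
      exact this)
    have hxP : Polynomial.aeval x (h ^ n) = 0 := by
      rw [← hPh, ← algebraMap_int_eq, Polynomial.aeval_map_algebraMap]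
      show Polynomial.aeval (EndAV.toEnd0 φ) P = 0
      rw [Polynomial.aeval_algHom_apply, hPx, map_zero]
    have hsq : Squarefree (minpoly ℚ x) := hp.squarefree_of_dvd (minpoly.dvd ℚ x hp0)
    have hdvd : minpoly ℚ x ∣ h :=
      hsq.dvd_pow_iff_dvd hn.ne' |>.1 (minpoly.dvd ℚ x hxP)
    have hnt : Nontrivial (EndAV.End0 X) := by
      by_contra hs
      rw [not_nontrivial_iff_subsingleton] at hs
      have hg0 := Groth.Agent.H25AbCube.eq_zero_of_subsingleton_end0 hg l hl Ω
      obtain ⟨P', hm, hd, -, hl'⟩ := Groth.Agent.H25AbCube.exists_charpoly_pt (Ω := Ω) hg φ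
      obtain rfl : P = P' := Polynomial.map_injective (Int.castRingHom ℤ_[l]) Int.cast_injective (hP.symm.trans (hl' l hl))
      rw [hm.natDegree_eq_zero.1 (by omega), Polynomial.map_one] at hPh
      exact hh.not_isUnit (isUnit_pow_iff hn.ne' |>.1 (hPh ▸ isUnit_one))
    have hirr : Irreducible (minpoly ℚ x) := by
      obtain ⟨c, hc⟩ := hdvd
      rcases hh.isUnit_or_isUnit hc with hu | hu
      · exact absurd hu (minpoly.not_isUnit ℚ x)
      · exact (associated_mul_isUnit_left_iff hu).2 (Associated.refl _) |>.irreducible (hc ▸ hh)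
    haveI := Fact.mk hirr
    have hrange : e.range = EndAV.QAdj φ := (Algebra.adjoin_singleton_eq_range_aeval ℚ x).symm
    have hker : ∀ a ∈ Ideal.span {minpoly ℚ x}, e a = 0 := fun a ha => by
      obtain ⟨b, rfl⟩ := Ideal.mem_span_singleton.1 ha
      show Polynomial.aeval x (minpoly ℚ x * b) = 0
      rw [map_mul, minpoly.aeval, zero_mul]
    let f : AdjoinRoot (minpoly ℚ x) →+* ↥(EndAV.QAdj φ) :=
      Ideal.Quotient.lift _ ((Subalgebra.equivOfEq _ _ hrange).toAlgHom.comp e.rangeRestrict).toRingHom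
        fun a ha => Subtype.ext (hker a ha)
    have hf : Function.Surjective f := by
      rintro ⟨z, hz⟩
      rw [← hrange] at hz
      obtain ⟨a, rfl⟩ := hz
      exact ⟨Ideal.Quotient.mk _ a, Subtype.ext rfl⟩
    exact MulEquiv.isField (Field.toIsField _) (RingEquiv.ofBijective f ⟨f.injective, hf⟩).symm.toMulEquiv

end Groth.Agent.S16847
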