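import Groth.Statements.S16849
import Groth.Agent.H25AbCube.FrobPoly
import Groth.Agent.H25AbCube.SymRoots
import Groth.Agent.H27Zeta.AffineLine
import Groth.Agent.H22Alg.FibreCount


set_option autoImplicit false
set_option linter.style.haveILetI false
set_option backward.isDefEq.respectTransparency false
set_option synthInstance.maxHeartbeats 200000
universe u
open CategoryTheory MonoidalCategory CartesianMonoidalCategory MonObj GrpObj AlgebraicGeometry
open AbVar

namespace Groth.Agent.S16849

/-- Let k be a finite field with q elements and algebraic closure Ω, ℓ a prime invertible in k, and X an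
abelian variety over k (a proper, geometrically integral commutative group scheme over k) of
dimension g, with geometric Frobenius π_X (the endomorphism that is the identity on points and the
q-th power map on sections); assume, as is the case, that the ℓ-adic Tate module of Ω-points T_ℓ X
is free of finite rank over ℤ_ℓ, and let f_X ∈ ℤ[t] be the polynomial mapping to the characteristic
polynomial of T_ℓ(π_X) (the characteristic polynomial of Frobenius). Let α_1, …, α_{2g} be the
complex roots of f_X with multiplicity and, for 0 ≤ j ≤ 2g, P_j(t) = ∏_I (1 − α_I t), the product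
over the j-element sub-multisets I of the roots, α_I = ∏_{i ∈ I} α_i (so P_j is the reciprocal
characteristic polynomial of the j-th exterior power of V_ℓ(π_X)). Then every P_j has integer
coefficients, and the zeta function Z(X; t) = exp(Σ_{m ≥ 1} N_m t^m / m) (N_m the number of points
of X in a degree-m extension of k, counted through closed points) satisfies Z(X; t) · ∏_{j even}
P_j(t) = ∏_{j odd} P_j(t) in ℂ⟦t⟧, i.e. Z(X; t) = P_1 P_3 ⋯ P_{2g−1} / (P_0 P_2 ⋯ P_{2g}). -/
theorem result (k Ω : Type u) [Field k] [Finite k] [Field Ω] [Algebra k Ω] [IsAlgClosure k Ω]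
    (l : ℕ) [Fact l.Prime] (hl : (l : k) ≠ 0) (X : Over (Spec (CommRingCat.of k)))
    [GrpObj X] [IsCommMonObj X] [IsProper X.hom] [GeometricallyIntegral X.hom]
    (πX : X ⟶ X) [IsMonHom πX] (hπb : πX.left.base = 𝟙 _)
    (hπle : ∀ U : X.left.Opens, U ≤ πX.left ⁻¹ᵁ U)
    (hπapp : ∀ (U : X.left.Opens) (s : Γ(X.left, U)), (πX.left.appLE U U (hπle U)).hom s = s ^ Nat.card k)
    [Module.Free ℤ_[l] (AbDual.TateMod X l (SGA7.pt Ω))] [Module.Finite ℤ_[l] (AbDual.TateMod X l (SGA7.pt Ω))]
    (P : Polynomial ℤ) (hP : (AbDual.tateMapₗ (l := l) (T := SGA7.pt Ω) πX).charpoly = P.map (Int.castRingHom ℤ_[l])) :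
    (∀ j : ℕ, ∃ Q : Polynomial ℤ, Q.map (Int.castRingHom ℂ) = (((P.map (Int.castRingHom ℂ)).roots.powersetCard j).map
          (fun I => (1 : Polynomial ℂ) - Polynomial.C I.prod * Polynomial.X)).prod) ∧
      (Zeta.zetaFun X.hom).map (algebraMap ℚ ℂ) *
          ∏ j ∈ (Finset.range (P.natDegree + 1)).filter (fun j => Even j),
            (((((P.map (Int.castRingHom ℂ)).roots.powersetCard j).map
          (fun I => (1 : Polynomial ℂ) - Polynomial.C I.prod * Polynomial.X)).prod : Polynomial ℂ) : PowerSeries ℂ) =
        ∏ j ∈ (Finset.range (P.natDegree + 1)).filter (fun j => Odd j),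
          (((((P.map (Int.castRingHom ℂ)).roots.powersetCard j).map
          (fun I => (1 : Polynomial ℂ) - Polynomial.C I.prod * Polynomial.X)).prod : Polynomial ℂ) : PowerSeries ℂ) := by
  haveI := IsAlgClosure.isAlgClosed k (K := Ω)
  haveI : Algebra.IsAlgebraic k Ω := IsAlgClosure.isAlgebraic
  haveI : Nonempty X.left := ⟨(η[X] : 𝟙_ (Over (Spec (CommRingCat.of k))) ⟶ X).left (IsLocalRing.closedPoint k)⟩
  obtain ⟨g, hg⟩ : ∃ g : ℕ, topologicalKrullDim X.left = g := by
    obtain ⟨x, -, h⟩ := Groth.Agent.H22Alg.FibreCount.exists_dim_eq X.hom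
    obtain ⟨s, hs⟩ := Groth.Agent.H22Alg.FibreCount.cdim_natCast X.hom x
    exact ⟨s, h.trans hs⟩
  obtain ⟨hm, hd, -, -, hcount⟩ := Groth.Agent.H25AbCube.FrobPoly.facts πX hπb hπle hπapp Ω hg l hl P hP
  refine ⟨fun j => Groth.Agent.H25AbCube.SymRoots.exists_int_poly hm j, ?_⟩
  refine Groth.Agent.H25AbCube.SymRoots.zeta_eq X.hom _ (fun m hm0 => ?_) _ ?_
  · obtain ⟨k', _, _, _, hk'⟩ := Groth.Agent.H27Zeta.exists_extension k m hm0
    have e : SgaExt.pointCount X.hom k' =
        Nat.card (Over.mk (Spec.map (CommRingCat.ofHom (algebraMap k k'))) ⟶ X) :=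
      Nat.card_congr
        { toFun := fun x => Over.homMk x.1 x.2
          invFun := fun t => ⟨t.left, Over.w t⟩
          left_inv := fun _ => rfl
          right_inv := fun _ => rfl }
    rw [Groth.Agent.H27Zeta.pointCount_eq_nPts, hk'] at e
    rw [e, hcount k', hk']
  · rw [← Polynomial.Splits.natDegree_eq_card_roots (IsAlgClosed.splits _), hm.natDegree_map]

end Groth.Agent.S16849
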