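import Groth.Statements.S16850
import Groth.Agent.H25AbCube.FrobPoly
import Groth.Agent.H25AbCube.WeilRoots


set_option autoImplicit false
set_option linter.style.haveILetI false
set_option backward.isDefEq.respectTransparency false
set_option synthInstance.maxHeartbeats 200000
universe u
open CategoryTheory MonoidalCategory CartesianMonoidalCategory MonObj GrpObj AlgebraicGeometry
open AbVar

namespace Groth.Agent.S16850

/-- Let k be a finite field with q elements and algebraic closure Ω, ℓ a prime invertible in k, and X an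
abelian variety over k (a proper, geometrically integral commutative group scheme over k) of
dimension g, with geometric Frobenius π_X (the endomorphism that is the identity on points and the
q-th power map on sections); assume, as is the case, that the ℓ-adic Tate module of Ω-points T_ℓ X
is free of finite rank over ℤ_ℓ, and let f_X ∈ ℤ[t] be the polynomial mapping to the characteristic
polynomial of T_ℓ(π_X) (the characteristic polynomial of Frobenius). With P_j(t) = ∏_I (1 − α_I t)
over the j-element sub-multisets I of the complex roots of f_X (α_I their product), the zeta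
function of X is the rational function Z(X; t) = ∏_{j=0}^{2g} P_j(t)^{(−1)^{j+1}}, and for g ≥ 1 it
satisfies the functional equation Z(X; 1/(q^g t)) = Z(X; t). (The dimension-zero case must be
excluded: for X a point, Z(X; t) = 1/(1 − t) and Z(X; 1/t) = t/(t − 1) differ; the published
statement has no such restriction, and its proof uses Σ_j (−1)^{j+1} C(2g, j) = 0, valid only for g
≥ 1.) Stated pointwise: for every non-zero complex number t such that no P_j vanishes at t or at
1/(q^g t), ∏_j P_j(1/(q^g t))^{(−1)^{j+1}} = ∏_j P_j(t)^{(−1)^{j+1}}. -/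
theorem result (k Ω : Type u) [Field k] [Finite k] [Field Ω] [Algebra k Ω] [IsAlgClosure k Ω]
    (l : ℕ) [Fact l.Prime] (hl : (l : k) ≠ 0) (X : Over (Spec (CommRingCat.of k)))
    [GrpObj X] [IsCommMonObj X] [IsProper X.hom] [GeometricallyIntegral X.hom]
    (g : ℕ) (hg : topologicalKrullDim X.left = g) (hg1 : 1 ≤ g)
    (πX : X ⟶ X) [IsMonHom πX] (hπb : πX.left.base = 𝟙 _)
    (hπle : ∀ U : X.left.Opens, U ≤ πX.left ⁻¹ᵁ U)
    (hπapp : ∀ (U : X.left.Opens) (s : Γ(X.left, U)), (πX.left.appLE U U (hπle U)).hom s = s ^ Nat.card k)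
    [Module.Free ℤ_[l] (AbDual.TateMod X l (SGA7.pt Ω))] [Module.Finite ℤ_[l] (AbDual.TateMod X l (SGA7.pt Ω))]
    (P : Polynomial ℤ) (hP : (AbDual.tateMapₗ (l := l) (T := SGA7.pt Ω) πX).charpoly = P.map (Int.castRingHom ℤ_[l]))
    (t : ℂ) (ht : t ≠ 0)
    (hPt : ∀ j ∈ Finset.range (2 * g + 1), Polynomial.eval t ((((P.map (Int.castRingHom ℂ)).roots.powersetCard j).map
          (fun I => (1 : Polynomial ℂ) - Polynomial.C I.prod * Polynomial.X)).prod : Polynomial ℂ) ≠ 0)
    (hPs : ∀ j ∈ Finset.range (2 * g + 1), Polynomial.eval (((Nat.card k : ℂ) ^ g * t)⁻¹) ((((P.map (Int.castRingHom ℂ)).roots.powersetCard j).map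
          (fun I => (1 : Polynomial ℂ) - Polynomial.C I.prod * Polynomial.X)).prod : Polynomial ℂ) ≠ 0) :
    ∏ j ∈ Finset.range (2 * g + 1), (Polynomial.eval (((Nat.card k : ℂ) ^ g * t)⁻¹) ((((P.map (Int.castRingHom ℂ)).roots.powersetCard j).map
          (fun I => (1 : Polynomial ℂ) - Polynomial.C I.prod * Polynomial.X)).prod : Polynomial ℂ)) ^ ((-1 : ℤ) ^ (j + 1)) =
      ∏ j ∈ Finset.range (2 * g + 1), (Polynomial.eval t ((((P.map (Int.castRingHom ℂ)).roots.powersetCard j).map
          (fun I => (1 : Polynomial ℂ) - Polynomial.C I.prod * Polynomial.X)).prod : Polynomial ℂ)) ^ ((-1 : ℤ) ^ (j + 1)) := by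

  haveI := IsAlgClosure.isAlgClosed k (K := Ω)
  haveI : Algebra.IsAlgebraic k Ω := IsAlgClosure.isAlgebraic
  obtain ⟨hm, hd, hR, hG, hcount⟩ := Groth.Agent.H25AbCube.FrobPoly.facts πX hπb hπle hπapp Ω hg l hl P hP
  have hN : ∀ G : Polynomial ℤ, ∃ d : ℕ, (d : ℂ) =
      ((P.map (Int.castRingHom ℂ)).roots.map fun α => Polynomial.aeval α G).prod := fun G => ⟨_, hG G⟩
  classical
  set R := (P.map (Int.castRingHom ℂ)).roots with hRdef
  have hq0 : ((Nat.card k : ℂ) ^ g) ≠ 0 := pow_ne_zero _ (Nat.cast_ne_zero.2 Nat.card_pos.ne')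
  have hprod : R.prod = (Nat.card k : ℂ) ^ g := by
    rw [hRdef, Groth.Agent.H25AbCube.WeilRoots.prod_roots hm hd hR hN]
    push_cast
    rfl
  have hcard : Multiset.card R = 2 * g := Groth.Agent.H25AbCube.WeilRoots.card_roots_eq hm hd
  let f : Fin R.toList.length → ℂ := fun i => R.toList.get i
  have hf : (Finset.univ : Finset (Fin R.toList.length)).val.map f = R := by
    rw [Fin.univ_val_map, List.ofFn_get, Multiset.coe_toList]
  have hlen : Fintype.card (Fin R.toList.length) = 2 * g := by
    rw [Fintype.card_fin, Multiset.length_toList, hcard]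
  have hfQ : ∏ i, f i = (Nat.card k : ℂ) ^ g := by
    rw [Finset.prod, hf, hprod]
  have hP : ∀ (s : ℂ) (j : ℕ), Polynomial.eval s ((R.powersetCard j).map
      (fun I => (1 : Polynomial ℂ) - Polynomial.C I.prod * Polynomial.X)).prod =
        ∏ I ∈ Finset.powersetCard j Finset.univ, (1 - (∏ i ∈ I, f i) * s) := by
    intro s j
    conv_lhs => rw [← hf, Multiset.powersetCard_map, ← Finset.map_val_val_powersetCard]
    rw [Polynomial.eval_multiset_prod, Multiset.map_map, Multiset.map_map, Multiset.map_map, Finset.prod]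
    refine congrArg Multiset.prod (Multiset.map_congr rfl fun I _ => ?_)
    simp only [Function.comp_apply, Polynomial.eval_sub, Polynomial.eval_one, Polynomial.eval_mul, Polynomial.eval_C,
      Polynomial.eval_X]
    rfl
  have hgroup : ∀ s : ℂ, ∏ j ∈ Finset.range (2 * g + 1), (Polynomial.eval s ((R.powersetCard j).map
      (fun I => (1 : Polynomial ℂ) - Polynomial.C I.prod * Polynomial.X)).prod) ^ ((-1 : ℤ) ^ (j + 1)) =
        ∏ I ∈ (Finset.univ : Finset (Fin R.toList.length)).powerset,
          (1 - (∏ i ∈ I, f i) * s) ^ ((-1 : ℤ) ^ (I.card + 1)) := by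
    intro s
    rw [Finset.prod_powerset, Finset.card_univ, hlen]
    refine Finset.prod_congr rfl fun j _ => ?_
    rw [hP, ← Finset.prod_zpow]
    exact Finset.prod_congr rfl fun I hI => by rw [(Finset.mem_powersetCard.1 hI).2]
  rw [hgroup, hgroup]
  exact Groth.Agent.H25AbCube.WeilRoots.functional_equation f _ t hfQ hq0 ht (by rw [hlen]; exact even_two_mul g)
    (by rw [hlen]; omega)

end Groth.Agent.S16850
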