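import Groth.Statements.S16851
import Groth.Agent.H25TateConj.Range

set_option autoImplicit false
set_option linter.style.haveILetI false
set_option backward.isDefEq.respectTransparency false
set_option synthInstance.maxHeartbeats 200000
universe u
open CategoryTheory MonoidalCategory CartesianMonoidalCategory MonObj GrpObj AlgebraicGeometry
open scoped TensorProduct
open AbVar

namespace Groth.Agent.S16851

/-- Let k be a field with algebraic closure Ω, ℓ a prime invertible in k, and X an abelian variety over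
k (a proper, geometrically integral commutative group scheme over k) satisfying the finiteness
condition Fin(X/k, ℓ): up to isomorphism of k-schemes only finitely many abelian varieties Y over k
admit an isogeny X → Y of ℓ-power degree (rendered by homomorphisms u : X → Y, v : Y → X with v ∘ u
= [ℓ^m], u ∘ v = [ℓ^m]). Let T = T_ℓ X be the Tate module of Ω-points, assumed (as is the case) free
of finite rank over ℤ_ℓ, V = ℚ_ℓ ⊗ T, and ρ(τ) the componentwise Galois action of τ ∈ Aut_k(Ω) on T.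
Then for every ℚ_ℓ-subspace W ⊆ V stable under all ρ(τ) there is an element u of ℚ_ℓ ⊗ End_k(X) with
W = u · V: W is the range of some ℚ_ℓ-linear combination of the endomorphisms V_ℓ(f) = ℚ_ℓ ⊗ T_ℓ(f),
f an endomorphism of X over k. -/
theorem result (k Ω : Type u) [Field k] [Field Ω] [Algebra k Ω] [IsAlgClosure k Ω]
    (l : ℕ) [Fact l.Prime] (hl : (l : k) ≠ 0)
    (X : Over (Spec (CommRingCat.of k)))
    [GrpObj X] [IsCommMonObj X] [IsProper X.hom] [GeometricallyIntegral X.hom]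
    (hFin : (∃ (J : Type u) (_ : Finite J) (F : J → Over (Spec (CommRingCat.of k))),
        ∀ (Y : Over (Spec (CommRingCat.of k))) [GrpObj Y] [IsCommMonObj Y] [IsProper Y.hom] [GeometricallyIntegral Y.hom]
          (u : X ⟶ Y) [IsMonHom u] (v : Y ⟶ X) [IsMonHom v] (m : ℕ),
          u ≫ v = (𝟙 X) ^ (l ^ m) → v ≫ u = (𝟙 Y) ^ (l ^ m) → ∃ i, Nonempty (Y ≅ F i)))
    (ρ : (Ω ≃ₐ[k] Ω) → Module.End ℤ_[l] (AbDual.TateMod X l (SGA7.pt Ω)))
    (hρ : ∀ (τ : Ω ≃ₐ[k] Ω) (z : AbDual.TateMod X l (SGA7.pt Ω)) (m : ℕ),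
      (AbDual.TateMod.component X l (SGA7.pt Ω) m (ρ τ z)).toMul =
        SGA7.galAct τ (AbDual.TateMod.component X l (SGA7.pt Ω) m z).toMul)
    [Module.Free ℤ_[l] (AbDual.TateMod X l (SGA7.pt Ω))] [Module.Finite ℤ_[l] (AbDual.TateMod X l (SGA7.pt Ω))]
    (W : Submodule ℚ_[l] (ℚ_[l] ⊗[ℤ_[l]] AbDual.TateMod X l (SGA7.pt Ω)))
    (hW : ∀ τ : Ω ≃ₐ[k] Ω, W.map ((ρ τ).baseChange ℚ_[l]) ≤ W) :
    ∃ u ∈ Submodule.span ℚ_[l] {ψ : Module.End ℚ_[l] (ℚ_[l] ⊗[ℤ_[l]] AbDual.TateMod X l (SGA7.pt Ω)) |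
          ∃ (f : X ⟶ X) (_ : IsMonHom f), ψ = (AbDual.tateMapₗ (l := l) (T := SGA7.pt Ω) f).baseChange ℚ_[l]},
      LinearMap.range u = W := by
  exact H25TateConj.exists_range_eq l hFin ρ hρ W hW

end Groth.Agent.S16851
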