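import Groth.Statements.S16854
import Groth.Agent.H3CAlg.WittComplete
import Groth.Agent.S16853
import Mathlib.RingTheory.Henselian
import Mathlib.RingTheory.RegularLocalRing.Defs
import Mathlib.RingTheory.SimpleRing.Principal
import Mathlib.RingTheory.WittVector.Complete

set_option autoImplicit false
universe u v
open CAlg

namespace Groth.Agent.S16854

/-- Let k be an algebraically closed field of characteristic p > 0, ν ≥ 1, W = W(k) the ring of
p-typical Witt vectors with its Frobenius endomorphism σ, M a finitely generated free W-module and F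
: M → M a bijective additive map that is σ^ν-semilinear, F(a·m) = σ^ν(a)·F(m). Then M admits a
W-basis consisting of F-fixed elements; in particular M is spanned over W by M₀ = {m | F(m) = m}, a
module over the Witt vectors of F_{p^ν}. (The copy allows ν < 0 as well, reducing to F⁻¹; stated
here for ν ≥ 1.) -/
theorem result (k : Type u) [Field k] [IsAlgClosed k]
    (p : ℕ) [Fact p.Prime] [CharP k p] (ν : ℕ) (hν : 1 ≤ ν)
    (M : Type v) [AddCommGroup M] [Module (WittVector p k) M]
    [Module.Finite (WittVector p k) M] [Module.Free (WittVector p k) M]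
    (F : M →+ M)
    (hF : ∀ (a : WittVector p k) (m : M), F (a • m) = ((⇑(WittVector.frobenius : WittVector p k →+* WittVector p k))^[ν] a) • F m)
    (hbij : Function.Bijective F) :
    ∃ (ι : Type v) (b : Module.Basis ι (WittVector p k) M), ∀ i, F (b i) = b i := by
  classical
  let W := WittVector p k
  have hc : IsAdicComplete (Ideal.span {(p : k)}) k := by
    rw [CharP.cast_eq_zero, Ideal.span_singleton_eq_bot.mpr rfl]; infer_instance
  have hW := Groth.Agent.H3CAlg.WittComplete.isAdicComplete_p (p := p) (R := k)
  let b0 := Module.finBasis (WittVector p k) M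
  let n := Module.finrank (WittVector p k) M
  let red : M → Fin n → k := fun m i ↦ (b0.repr m i).coeff 0
  let lift : (Fin n → k) → M := fun v ↦ b0.equivFun.symm fun i ↦ WittVector.teichmuller p (v i)
  have red_add : ∀ m m', red (m + m') = red m + red m' := fun m m' ↦ by
    funext i
    simp only [red, map_add, Finsupp.add_apply, Pi.add_apply, ← WittVector.constantCoeff_apply]
  have red_smul : ∀ (a : WittVector p k) m, red (a • m) = a.coeff 0 • red m := fun a m ↦ by
    funext i
    simp only [red, map_smul, Finsupp.smul_apply, Pi.smul_apply, smul_eq_mul, map_mul,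
      ← WittVector.constantCoeff_apply]
  have red_lift : ∀ v, red (lift v) = v := fun v ↦ by
    funext i
    show (b0.equivFun (lift v) i).coeff 0 = v i
    rw [LinearEquiv.apply_symm_apply, WittVector.teichmuller_coeff_zero]
  have red_p : ∀ m, red ((p : WittVector p k) • m) = 0 := fun m ↦ by
    rw [red_smul, ← WittVector.constantCoeff_apply, map_natCast, CharP.cast_eq_zero, zero_smul]
  have red_zero : ∀ m, red m = 0 → ∃ y, m = (p : WittVector p k) • y := fun m hm ↦ by
    have : ∀ i, b0.equivFun m i ∈ Ideal.span {(p : WittVector p k)} := fun i ↦ by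
      rw [← WittVector.ker_constantCoeff, RingHom.mem_ker]
      exact congrFun hm i
    choose y hy using fun i ↦ Ideal.mem_span_singleton'.mp (this i)
    refine ⟨b0.equivFun.symm y, b0.equivFun.injective ?_⟩
    funext i
    rw [map_smul, LinearEquiv.apply_symm_apply, Pi.smul_apply, smul_eq_mul, mul_comm, hy]
  have hFp : ∀ m, F ((p : WittVector p k) • m) = (p : WittVector p k) • F m := fun m ↦ by
    rw [hF]
    congr 1
    exact Function.iterate_fixed (map_natCast _ p) ν
  have red_F : ∀ m m', red m = red m' → red (F m) = red (F m') := fun m m' h ↦ by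
    obtain ⟨y, hy⟩ := red_zero (m - m') (by
      have := red_add (m - m') m'
      rw [sub_add_cancel] at this
      rw [← sub_eq_zero.mpr h, this, add_sub_cancel_right])
    rw [eq_add_of_sub_eq hy, map_add, hFp, red_add, red_p, zero_add]
  let φ : (Fin n → k) →+ (Fin n → k) := AddMonoidHom.mk' (fun v ↦ red (F (lift v))) fun v w ↦ by
    rw [← red_add, ← map_add]
    exact red_F _ _ (by rw [red_add, red_lift, red_lift, red_lift])
  have hφred : ∀ m, φ (red m) = red (F m) := fun m ↦ red_F _ _ (red_lift _)
  have hφ : ∀ (a : k) (v : Fin n → k), φ (a • v) = a ^ (p ^ ν) • φ v := fun a v ↦ by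
    have : red (WittVector.teichmuller p a • lift v) = a • v := by
      rw [red_smul, red_lift, WittVector.teichmuller_coeff_zero]
    rw [← this, hφred, hF, red_smul]
    show _ = a ^ p ^ ν • red (F (lift v))
    congr 1
    rw [WittVector.iterate_frobenius_coeff, WittVector.teichmuller_coeff_zero]
  have hφbij : Function.Bijective φ := by
    refine ⟨(injective_iff_map_eq_zero φ).mpr fun v hv ↦ ?_, fun w ↦ ?_⟩
    · obtain ⟨y, hy⟩ := red_zero (F (lift v)) hv
      obtain ⟨y', rfl⟩ := hbij.2 y
      rw [← hFp] at hy
      rw [← red_lift v, hbij.1 hy, red_p]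
    · obtain ⟨m, hm⟩ := hbij.2 (lift w)
      exact ⟨red m, by rw [hφred, hm, red_lift]⟩
  obtain ⟨ι, bv, hbv⟩ := Groth.Agent.S16853.result k p ν hν (Fin n → k) φ hφ hφbij
  have : Fintype ι := FiniteDimensional.fintypeBasisIndex bv
  have hcard : Fintype.card ι = n := by
    rw [← Module.finrank_eq_card_basis bv, Module.finrank_fin_fun]
  let v := bv.reindex (Fintype.equivFinOfCardEq hcard)
  have hv : ∀ i, φ (v i) = v i := fun i ↦ by rw [Module.Basis.reindex_apply]; exact hbv _
  -- `F - 1` is surjective
  have hq : 1 < p ^ ν := Nat.one_lt_pow (by omega) (Fact.out : p.Prime).one_lt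
  have hstep : ∀ d : M, ∃ x d', d - (F x - x) = (p : WittVector p k) • d' := by
    intro d
    have : ∀ i, ∃ a : k, a ^ p ^ ν - a = v.equivFun (red d) i := fun i ↦ by
      have hdeg : (Polynomial.X ^ p ^ ν - Polynomial.X - Polynomial.C (v.equivFun (red d) i)).degree ≠ 0 := by
        rw [Polynomial.degree_sub_C] <;>
        rw [Polynomial.degree_sub_eq_left_of_degree_lt] <;>
        simp only [Polynomial.degree_X_pow, Polynomial.degree_X]
        · exact_mod_cast (by omega : p ^ ν ≠ 0)
        · exact_mod_cast hq
        · exact_mod_cast (by omega : 0 < p ^ ν)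
        · exact_mod_cast hq
      obtain ⟨a, ha⟩ := IsAlgClosed.exists_root _ hdeg
      exact ⟨a, by simpa [sub_eq_zero] using ha⟩
    choose a ha using this
    refine ⟨lift (∑ i, a i • v i), ?_⟩
    apply red_zero
    have e := red_add (d - (F (lift (∑ i, a i • v i)) - lift (∑ i, a i • v i)))
      (F (lift (∑ i, a i • v i)) - lift (∑ i, a i • v i))
    rw [sub_add_cancel] at e
    have e' := red_add (F (lift (∑ i, a i • v i)) - lift (∑ i, a i • v i)) (lift (∑ i, a i • v i))
    rw [sub_add_cancel, red_lift] at e'
    have h1 : red (F (lift (∑ i, a i • v i))) - (∑ i, a i • v i) = red d := by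
      show φ (∑ i, a i • v i) - _ = _
      rw [map_sum, ← Finset.sum_sub_distrib]
      conv_rhs => rw [← v.sum_equivFun (red d)]
      refine Finset.sum_congr rfl fun i _ ↦ ?_
      rw [hφ, hv, ← sub_smul, ha]
    rw [eq_sub_of_add_eq e'.symm, h1] at e
    exact add_eq_right.mp e.symm
  choose xs ds hds using hstep
  have hsurj : ∀ d : M, ∃ x, F x - x = d := by
    intro d
    let y : ℕ → M := fun N ↦ xs (ds^[N] d)
    choose X hX using fun i ↦ Groth.Agent.H3CAlg.WittComplete.exists_solution (p := p)
      (R := WittVector p k) (fun N ↦ b0.equivFun (y N) i)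
    let Z : ℕ → M := fun N ↦ b0.equivFun.symm fun i ↦ X i N
    have hZ : ∀ N, Z N = y N + (p : WittVector p k) • Z (N + 1) := fun N ↦ b0.equivFun.injective (by
      funext i
      simp only [Z, map_add, map_smul, LinearEquiv.apply_symm_apply, Pi.add_apply, Pi.smul_apply,
        smul_eq_mul]
      exact hX i N)
    let E : ℕ → M := fun N ↦ F (Z N) - Z N - ds^[N] d
    have hE : ∀ N, E N = (p : WittVector p k) • E (N + 1) := fun N ↦ by
      simp only [E, Function.iterate_succ_apply', smul_sub, ← hds, y]
      conv_lhs => rw [hZ N]
      rw [map_add, hFp]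
      simp only [y]
      abel
    refine ⟨Z 0, sub_eq_zero.mp ?_⟩
    show E 0 = 0
    have hEn : ∀ N, E 0 = (p : WittVector p k) ^ N • E N := by
      intro N
      induction N with
      | zero => simp
      | succ N ih => rw [ih, hE N, smul_smul, ← pow_succ]
    apply b0.equivFun.injective
    funext i
    rw [map_zero, Pi.zero_apply]
    exact Groth.Agent.H3CAlg.WittComplete.eq_zero_of_forall_pow_dvd fun N ↦
      ⟨b0.equivFun (E N) i, by rw [hEn N, map_smul, Pi.smul_apply, smul_eq_mul]⟩
  -- fixed lifts
  have hlift : ∀ i, ∃ e, F e = e ∧ red e = v i := by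
    intro i
    obtain ⟨d, hd⟩ := red_zero (lift (v i) - F (lift (v i))) (by
      have := red_add (lift (v i) - F (lift (v i))) (F (lift (v i)))
      rw [sub_add_cancel, red_lift, show red (F (lift (v i))) = v i from hv i] at this
      exact add_eq_right.mp this.symm)
    obtain ⟨x, hx⟩ := hsurj d
    refine ⟨lift (v i) + (p : WittVector p k) • x, ?_, by rw [red_add, red_lift, red_p, add_zero]⟩
    have h : F (lift (v i)) = lift (v i) - (p : WittVector p k) • d := by rw [← hd]; abel
    rw [map_add, hFp, eq_add_of_sub_eq hx, smul_add, h]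
    abel
  choose e he hev using hlift
  let Φ : (Fin n → WittVector p k) →ₗ[WittVector p k] M := Fintype.linearCombination _ e
  have hΦ : Function.Surjective Φ := by
    rw [← LinearMap.range_eq_top, eq_top_iff]
    refine Submodule.le_of_le_smul_of_le_jacobson_bot Module.Finite.fg_top
      (I := Ideal.span {(p : WittVector p k)}) (IsAdicComplete.le_jacobson_bot _) ?_
    intro m _
    let c : Fin n → WittVector p k := fun i ↦ WittVector.teichmuller p (v.equivFun (red m) i)
    obtain ⟨y, hy⟩ := red_zero (m - Φ c) (by
      have := red_add (m - Φ c) (Φ c)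
      rw [sub_add_cancel] at this
      have h2 : red (Φ c) = red m := by
        have hs : ∀ s : Finset (Fin n), red (∑ i ∈ s, c i • e i) =
            ∑ i ∈ s, (v.equivFun (red m) i) • v i := fun s ↦ by
          induction s using Finset.induction with
          | empty =>
            simp only [Finset.sum_empty]
            funext i
            simp [red]
          | insert j s hj ih =>
            rw [Finset.sum_insert hj, Finset.sum_insert hj, red_add, ih, red_smul, hev]
            simp [c]
        rw [show Φ c = ∑ i, c i • e i from Fintype.linearCombination_apply .., hs, v.sum_equivFun]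
      rw [h2] at this
      exact add_eq_right.mp this.symm)
    rw [← sub_add_cancel m (Φ c), hy, add_comm]
    exact Submodule.add_mem_sup (LinearMap.mem_range_self _ _)
      (Submodule.smul_mem_smul (Ideal.mem_span_singleton_self _) trivial)
  have hbij' : Function.Bijective Φ := by
    refine ⟨?_, hΦ⟩
    have : Function.Injective (Φ.comp b0.equivFun.toLinearMap) :=
      OrzechProperty.injective_of_surjective_endomorphism _ (hΦ.comp b0.equivFun.surjective)
    refine fun a b hab ↦ b0.equivFun.symm.injective (this ?_)
    show Φ (b0.equivFun (b0.equivFun.symm a)) = Φ (b0.equivFun (b0.equivFun.symm b))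
    rw [LinearEquiv.apply_symm_apply, LinearEquiv.apply_symm_apply, hab]
  let bb : Module.Basis (Fin n) (WittVector p k) M :=
    (Pi.basisFun (WittVector p k) (Fin n)).map (LinearEquiv.ofBijective Φ hbij')
  refine ⟨ULift.{v} (Fin n), bb.reindex Equiv.ulift.symm, fun i ↦ ?_⟩
  have hbb : ∀ j, bb j = e j := fun j ↦ by simp [bb, Φ, Fintype.linearCombination_apply_single]
  rw [Module.Basis.reindex_apply, hbb]
  exact he _

end Groth.Agent.S16854
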