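import Groth.Statements.S16856
import Groth.Agent.H25AbCube.FrobPoly
import Groth.Agent.H25AbCube.WeilRoots


set_option autoImplicit false
set_option linter.style.haveILetI false
set_option backward.isDefEq.respectTransparency false
set_option synthInstance.maxHeartbeats 200000
universe u
open CategoryTheory MonoidalCategory CartesianMonoidalCategory MonObj GrpObj AlgebraicGeometry
open AbVar

namespace Groth.Agent.S16856

/-- Equality case of the Hasse–Weil–Serre bound: let k be a finite field with q elements and algebraic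
closure Ω, ℓ a prime invertible in k, and X an abelian variety over k (a proper, geometrically
integral commutative group scheme over k) of dimension g, with geometric Frobenius π_X (the
endomorphism that is the identity on points and the q-th power map on sections); assume, as is the
case, that the ℓ-adic Tate module of Ω-points T_ℓ X is free of finite rank over ℤ_ℓ, and let f_X ∈
ℤ[t] be the polynomial mapping to the characteristic polynomial of T_ℓ(π_X) (the characteristic
polynomial of Frobenius). Put m = ⌊2√q⌋. Then |trace(π_X)| = g·m (equality in the bound |trace(π_X)|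
≤ g·m; the trace is minus the second-highest coefficient of f_X) if and only if either α + q/α = m
for every root α of f_X or α + q/α = −m for every root, i.e. if and only if f_X = (t² − m t + q)^g
or f_X = (t² + m t + q)^g. -/
theorem result (k Ω : Type u) [Field k] [Finite k] [Field Ω] [Algebra k Ω] [IsAlgClosure k Ω]
    (l : ℕ) [Fact l.Prime] (hl : (l : k) ≠ 0) (X : Over (Spec (CommRingCat.of k)))
    [GrpObj X] [IsCommMonObj X] [IsProper X.hom] [GeometricallyIntegral X.hom]
    (g : ℕ) (hg : topologicalKrullDim X.left = g)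
    (πX : X ⟶ X) [IsMonHom πX] (hπb : πX.left.base = 𝟙 _)
    (hπle : ∀ U : X.left.Opens, U ≤ πX.left ⁻¹ᵁ U)
    (hπapp : ∀ (U : X.left.Opens) (s : Γ(X.left, U)), (πX.left.appLE U U (hπle U)).hom s = s ^ Nat.card k)
    [Module.Free ℤ_[l] (AbDual.TateMod X l (SGA7.pt Ω))] [Module.Finite ℤ_[l] (AbDual.TateMod X l (SGA7.pt Ω))]
    (P : Polynomial ℤ) (hP : (AbDual.tateMapₗ (l := l) (T := SGA7.pt Ω) πX).charpoly = P.map (Int.castRingHom ℤ_[l])) :
    |(P.nextCoeff : ℝ)| = (g : ℝ) * (⌊2 * Real.sqrt (Nat.card k)⌋ : ℝ) ↔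
      (P = (Polynomial.X ^ 2 - Polynomial.C ⌊2 * Real.sqrt (Nat.card k)⌋ * Polynomial.X + Polynomial.C (Nat.card k : ℤ)) ^ g ∨
        P = (Polynomial.X ^ 2 + Polynomial.C ⌊2 * Real.sqrt (Nat.card k)⌋ * Polynomial.X + Polynomial.C (Nat.card k : ℤ)) ^ g) := by

  haveI := IsAlgClosure.isAlgClosed k (K := Ω)
  haveI : Algebra.IsAlgebraic k Ω := IsAlgClosure.isAlgebraic
  obtain ⟨hm, hd, hR, hG, hcount⟩ := Groth.Agent.H25AbCube.FrobPoly.facts πX hπb hπle hπapp Ω hg l hl P hP
  have hN : ∀ G : Polynomial ℤ, ∃ d : ℕ, (d : ℂ) =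
      ((P.map (Int.castRingHom ℂ)).roots.map fun α => Polynomial.aeval α G).prod := fun G => ⟨_, hG G⟩
  have b1 := Groth.Agent.H25AbCube.WeilRoots.trace_bound hm hd hR hN Nat.card_pos 1 (Or.inl rfl)
  have b2 := Groth.Agent.H25AbCube.WeilRoots.trace_bound hm hd hR hN Nat.card_pos (-1) (Or.inr rfl)
  set m : ℤ := ⌊2 * Real.sqrt (Nat.card k)⌋
  have hm0 : (0 : ℝ) ≤ (g : ℝ) * (m : ℝ) := mul_nonneg (Nat.cast_nonneg _)
    (Int.cast_nonneg (Int.floor_nonneg.2 (by positivity)))
  constructor
  · intro h
    rcases (abs_eq hm0).1 h with h' | h'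
    · refine Or.inr ?_
      have e := b2.2 (by push_cast; linarith)
      rwa [neg_one_mul, Polynomial.C_neg, neg_mul, sub_neg_eq_add] at e
    · refine Or.inl ?_
      have e := b1.2 (by push_cast; linarith)
      rwa [_root_.one_mul] at e
  · have key : ∀ c : ℤ, P = (Polynomial.X ^ 2 + Polynomial.C c * Polynomial.X + Polynomial.C (Nat.card k : ℤ)) ^ g →
        P.nextCoeff = g * c := by
      intro c hc
      have hq : (Polynomial.X ^ 2 + Polynomial.C c * Polynomial.X + Polynomial.C (Nat.card k : ℤ)).natDegree = 2 := by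
        compute_degree!
      have hqm : (Polynomial.X ^ 2 + Polynomial.C c * Polynomial.X + Polynomial.C (Nat.card k : ℤ)).Monic := by
        monicity!
      rw [hc, hqm.nextCoeff_pow, Polynomial.nextCoeff, if_neg (by rw [hq]; norm_num), hq, nsmul_eq_mul]
      simp
    rintro (h | h)
    · rw [key (-m) (by rw [h, Polynomial.C_neg, neg_mul, sub_eq_add_neg]), show ((g : ℤ) * -m : ℤ) = -(g * m) by ring]
      push_cast
      rw [abs_neg, abs_of_nonneg hm0]
    · rw [key m h]
      push_cast
      rw [abs_of_nonneg hm0]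

end Groth.Agent.S16856
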