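import Groth.Statements.S16857
import Groth.Agent.H25Weilp.EndType

set_option autoImplicit false
set_option linter.style.haveILetI false
set_option backward.isDefEq.respectTransparency false
set_option synthInstance.maxHeartbeats 200000
universe u
open CategoryTheory MonoidalCategory CartesianMonoidalCategory MonObj GrpObj AlgebraicGeometry
open AbVar

namespace Groth.Agent.S16857

/-- (b1) ⇔ (b2): fix a finite field k of size q and an abelian variety X over k (a proper, geometrically
integral commutative group scheme over k) and π_X its geometric Frobenius (the identity on points,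
the q-th power map on sections; a homomorphism). Then End⁰(X) = ℚ ⊗ End_k(X) equals its subalgebra
ℚ[π_X] if and only if End_k(X) is commutative. -/
theorem result (k : Type u) [Field k] [Finite k] (X : Over (Spec (CommRingCat.of k)))
    [GrpObj X] [IsCommMonObj X] [IsProper X.hom] [GeometricallyIntegral X.hom]
    (πX : X ⟶ X) [IsMonHom πX] (hπb : πX.left.base = 𝟙 _)
    (hπle : ∀ U : X.left.Opens, U ≤ πX.left ⁻¹ᵁ U)
    (hπapp : ∀ (U : X.left.Opens) (s : Γ(X.left, U)), (πX.left.appLE U U (hπle U)).hom s = s ^ Nat.card k) :
    EndAV.QAdj (EndAV.End.of πX) = ⊤ ↔ ∀ a b : EndAV.End X, a * b = b * a := by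
  classical
  let Ω := AlgebraicClosure k
  obtain ⟨l, hl, hlk⟩ := Groth.Agent.H25AbCube.exists_prime_ne_zero k
  haveI : Fact l.Prime := ⟨hl⟩
  haveI := (Groth.Agent.H25Weilp.free_finite Ω l hlk X).1
  haveI := (Groth.Agent.H25Weilp.free_finite Ω l hlk X).2
  exact Groth.Agent.H25Weilp.qAdj_eq_top_iff Ω l hlk ⟨hπb, hπle, hπapp⟩

end Groth.Agent.S16857
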