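import Groth.Statements.S3020
import Groth.Agent.H19Grp.AffineCriteria

set_option autoImplicit false
set_option maxHeartbeats 1000000
set_option synthInstance.maxHeartbeats 100000
set_option linter.style.haveILetI false
set_option backward.isDefEq.respectTransparency false
universe u
open CategoryTheory MonoidalCategory CartesianMonoidalCategory MonObj GrpObj AlgebraicGeometry TensorProduct
open SGA3

namespace Groth.Agent.S3020

/-- Let G be a group scheme of finite type over a field k whose underlying scheme is quasi-affine (a
quasi-compact open subscheme of an affine scheme). Then G is affine. -/
theorem result (k : Type u) [Field k] (G : Over (Spec (CommRingCat.of k))) [GrpObj G]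
    [LocallyOfFiniteType G.hom] [QuasiCompact G.hom] [G.left.IsQuasiAffine] : IsAffine G.left := by
  haveI : Mono (Groth.Agent.H19Grp.Affinization.rho G) :=
    (Over.forget _).mono_of_mono_map (show Mono (Groth.Agent.H19Grp.Affinization.rho G).left by
      rw [Groth.Agent.H19Grp.Affinization.rho_left]; infer_instance)
  exact Groth.Agent.H19Grp.AffineCriteria.isAffine_of_mono_rho G

end Groth.Agent.S3020
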