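import Groth.Statements.S16859
import Groth.Agent.H14Gerbe.AutDiag
import Groth.Agent.H14Quot.QuotDiagQAff
import Groth.Agent.S3020

set_option backward.isDefEq.respectTransparency false
set_option backward.isDefEq.respectTransparency.types false

set_option autoImplicit false
universe u
open CategoryTheory CategoryTheory.Limits AlgebraicGeometry
open AlgSt

namespace Groth.Agent.S16859

/-- Let `𝒳` be an algebraic stack over a scheme `S` (fppf topology) whose diagonal over `S` is
representable by algebraic spaces and quasi-affine. Let `k` be a field with a morphism `Spec k → S`,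
let `x : (Sch/Spec k) → 𝒳` be a functor over `(Sch/S)` (a `k`-valued point of `𝒳`), and let `G` be a
group scheme over `Spec k` representing the automorphism presheaf of `x` on schemes over `Spec k`
(the stabilizer group scheme of `x`). Then `G` is affine and locally of finite type over `k`, i.e.
an affine algebraic group. (The published statement is over the base `Spec ℤ`; the same argument
applies to the diagonal over any base scheme.) -/
theorem result (S : Scheme.{u})
    (𝒳 : AlgSt.Cat S) (h𝒳 : AlgSt.IsAlgStack Scheme.fppfPrecoverage 𝒳)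
    (hΔ : AlgSt.RepByAlgSpWith AlgSp.IsQuasiAffineMor (FibCat.diag (FibCat.toSelf 𝒳)))
    (k : Type u) [Field k] (p : Spec (CommRingCat.of k) ⟶ S)
    (x : FibCat.overCat (Over.mk p) ⥤ᵇ 𝒳) (G : Over (Over.mk p).left) [GrpObj G]
    (hG : Gerb.AutRep x (Gerb.ptsGrp (Over.mk p) G)) :
    IsAffine G.left ∧ LocallyOfFiniteType G.hom := by
  open Groth.Agent.H14AlgSt in open Groth.Agent.H14Gerbe in
  have hq : AlgSp.IsQuasiAffineMor ((AlgSp.yon S).map (grpHom (Over.mk p) G)) :=
    prop_grpHom_diag (sourceIsoInv_of_respectsIso _) h𝒳.isStack.1 hΔ hG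
  open Groth.Agent.H14AlgSt in open Groth.Agent.H14Gerbe in
  have hl : LocallyOfFiniteType G.hom :=
    (locP_yon_iff Groth.Agent.H12AlgSp.etLocal_lft (grpHom (Over.mk p) G)).1
      (prop_grpHom_diag (sourceIsoInv_locP _) h𝒳.isStack.1 (repWith_lft_diag_toSelf h𝒳) hG)
  have : IsAffine (Over.mk p).left := inferInstanceAs (IsAffine (Spec (CommRingCat.of k)))
  obtain ⟨W, i, fst, sq, hW⟩ := hq this (𝟙 _)
  have : IsIso fst := sq.isIso_fst_of_isIso
  let j : W ≅ Groth.Agent.H14Gerbe.grpBase (Over.mk p) G := (AlgSp.yon S).preimageIso (asIso fst)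
  let e : W.left ≅ G.left := (Over.forget S).mapIso j
  have : CompactSpace G.left := e.hom.homeomorph.compactSpace
  have : G.left.IsQuasiAffine := Scheme.IsQuasiAffine.of_isImmersion (Y := W.left) e.inv
  have : QuasiCompact G.hom := (quasiCompact_iff_compactSpace (Y := Spec (CommRingCat.of k)) _).2 inferInstance
  have : LocallyOfFiniteType G.hom := hl
  exact ⟨Groth.Agent.S3020.result k G, hl⟩

end Groth.Agent.S16859
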