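import Groth.Statements.S16860
import Groth.Agent.H14Gerbe.Cover

set_option autoImplicit false
set_option backward.isDefEq.respectTransparency false
set_option backward.isDefEq.respectTransparency.types false
universe u
open CategoryTheory AlgebraicGeometry
open Gerb

namespace Groth.Agent.S16860

/-- For a morphism f of algebraic stacks, the source is a gerbe over the target along f if and only if f
and its diagonal are both surjective, flat and locally of finite presentation. -/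
theorem result
    (S : Scheme.{u}) (𝒳 𝒴 : AlgSt.Cat S)
    (h𝒳 : AlgSt.IsAlgStack Scheme.fppfPrecoverage 𝒳) (h𝒴 : AlgSt.IsAlgStack Scheme.fppfPrecoverage 𝒴)
    (f : 𝒳 ⥤ᵇ 𝒴) :
    Gerb.IsGerbeOver (QuotSh.J Scheme.fppfPrecoverage S) f ↔
      (AlgSt.IsSurjective f ∧ AlgSt.LocQ (AlgSp.LocP @Flat) f ∧
        AlgSt.LocQ (AlgSp.LocP @LocallyOfFinitePresentation) f) ∧
      (AlgSt.IsSurjective (FibCat.diag f) ∧ AlgSt.LocQ (AlgSp.LocP @Flat) (FibCat.diag f) ∧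
        AlgSt.LocQ (AlgSp.LocP @LocallyOfFinitePresentation) (FibCat.diag f)) := by
  open Groth.Agent.H14AlgSt Groth.Agent.H14Gerbe in
  have hP : AlgSt.IsAlgStack Scheme.fppfPrecoverage (FibCat.fp f f) :=
    isAlgStack_fp' h𝒳 h𝒳 h𝒴 f f
  refine ⟨fun hf => ?_, fun ⟨⟨h1, h2, h3⟩, h4, h5, h6⟩ => ?_⟩
  · open Groth.Agent.H14AlgSt Groth.Agent.H14Gerbe in
    exact ⟨⟨surjective_gerbe h𝒳 h𝒴 hf, locQ_flat_gerbe h𝒳 h𝒴 hf, locQ_lfp_gerbe h𝒳 h𝒴 hf⟩,
      surjective_of_repWith hP.isStack.1 (surjective_diag_gerbe h𝒳 h𝒴 hf),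
      locQ_of_repWith smLocal_flat h𝒳 hP (flat_diag_gerbe h𝒳 h𝒴 hf),
      locQ_of_repWith smLocal_lfp h𝒳 hP (lfp_diag_gerbe h𝒳 h𝒴 hf)⟩
  · open Groth.Agent.H14Gerbe in
    exact ⟨locSurjObj_of_locQ h𝒳 h𝒴 h1 h2 h3,
      locSurjHom_of_diag h𝒴.isStack.1 (locSurjObj_of_locQ h𝒳 hP h4 h5 h6)⟩

end Groth.Agent.S16860
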