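import Groth.Statements.S16862
import Groth.Agent.H14Gerbe.Diag
import Groth.Agent.H14AlgSt.InertiaDiag
import Groth.Agent.H14AlgSt.PointsMor

set_option autoImplicit false
set_option backward.isDefEq.respectTransparency false
set_option backward.isDefEq.respectTransparency.types false
universe u
open CategoryTheory AlgebraicGeometry
open Gerb

namespace Groth.Agent.S16862

/-- If a morphism f of algebraic stacks makes its source a gerbe over its target, then the relative
inertia of f is flat and locally of finite presentation over the source. -/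
theorem result
    (S : Scheme.{u}) (𝒳 𝒴 : AlgSt.Cat S)
    (h𝒳 : AlgSt.IsAlgStack Scheme.fppfPrecoverage 𝒳) (h𝒴 : AlgSt.IsAlgStack Scheme.fppfPrecoverage 𝒴)
    (f : 𝒳 ⥤ᵇ 𝒴) (hf : Gerb.IsGerbeOver (QuotSh.J Scheme.fppfPrecoverage S) f) :
    AlgSt.LocQ (AlgSp.LocP @Flat) (FibCat.inertiaToBase f) ∧
      AlgSt.LocQ (AlgSp.LocP @LocallyOfFinitePresentation) (FibCat.inertiaToBase f) := by
  open Groth.Agent.H14AlgSt Groth.Agent.H14Gerbe in
  have h1 := (repWith_inertiaToBase_iff h𝒳.isStack.1 f).2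
    (repWith_fpFst (FibCat.diag f) (flat_diag_gerbe h𝒳 h𝒴 hf))
  open Groth.Agent.H14AlgSt Groth.Agent.H14Gerbe in
  have h2 := (repWith_inertiaToBase_iff h𝒳.isStack.1 f).2
    (repWith_fpFst (FibCat.diag f) (lfp_diag_gerbe h𝒳 h𝒴 hf))
  open Groth.Agent.H14AlgSt in
  have hI : AlgSt.IsAlgStack Scheme.fppfPrecoverage (FibCat.inertia f) :=
    isAlgStack_of_rep1 ((Groth.Agent.H14Stk.isStack_iff (QuotSh.J Scheme.fppfPrecoverage S)
      (inertiaPair_isEquivOver h𝒳.isStack.1 f)).2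
      (isAlgStack_fp' h𝒳 h𝒳 (isAlgStack_fp' h𝒳 h𝒳 h𝒴 f f) _ _).isStack).1 h𝒳
      (repByAlgSp1_of_with h1)
  open Groth.Agent.H14AlgSt in
  exact ⟨locQ_of_repWith smLocal_flat hI h𝒳 h1, locQ_of_repWith smLocal_lfp hI h𝒳 h2⟩

end Groth.Agent.S16862
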