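import Groth.Statements.S16863
import Groth.Agent.H14Gerbe.Diag
import Groth.Agent.H14AlgSt.PointsSpace

set_option autoImplicit false
set_option backward.isDefEq.respectTransparency false
set_option backward.isDefEq.respectTransparency.types false
universe u
open CategoryTheory AlgebraicGeometry
open Gerb

namespace Groth.Agent.S16863

/-- If f makes 𝒳 a gerbe over 𝒴, then for morphisms x₁ : T₁ → 𝒳, x₂ : T₂ → 𝒳 from algebraic spaces the
comparison morphism T₁ ×_𝒳 T₂ → T₁ ×_𝒴 T₂ (induced by the two projections and the 2-isomorphism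
obtained by applying f to the canonical one) is surjective, flat and locally of finite presentation. -/
theorem result
    (S : Scheme.{u}) (𝒳 𝒴 : AlgSt.Cat S)
    (h𝒳 : AlgSt.IsAlgStack Scheme.fppfPrecoverage 𝒳) (h𝒴 : AlgSt.IsAlgStack Scheme.fppfPrecoverage 𝒴)
    (f : 𝒳 ⥤ᵇ 𝒴) (hf : Gerb.IsGerbeOver (QuotSh.J Scheme.fppfPrecoverage S) f)
    (T₁ T₂ : AlgSp.Space S) (x₁ : AlgSt.ofSp T₁.obj ⥤ᵇ 𝒳) (x₂ : AlgSt.ofSp T₂.obj ⥤ᵇ 𝒳)
    (e : BasedFunctor.comp (FibCat.fpFst x₁ x₂) (BasedFunctor.comp x₁ f) ≅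
      BasedFunctor.comp (FibCat.fpSnd x₁ x₂) (BasedFunctor.comp x₂ f))
    (he : ∀ a, e.hom.toNatTrans.app a = f.map a.obj.iso.hom) :
    AlgSt.IsSurjective (FibCat.fpLift (FibCat.fpFst x₁ x₂) (FibCat.fpSnd x₁ x₂) e) ∧
      AlgSt.LocQ (AlgSp.LocP @Flat) (FibCat.fpLift (FibCat.fpFst x₁ x₂) (FibCat.fpSnd x₁ x₂) e) ∧
      AlgSt.LocQ (AlgSp.LocP @LocallyOfFinitePresentation)
        (FibCat.fpLift (FibCat.fpFst x₁ x₂) (FibCat.fpSnd x₁ x₂) e) := by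
  open Groth.Agent.H14AlgSt Groth.Agent.H14Gerbe in
  have hs := repWith_fpComparison x₁ x₂ f e he (surjective_diag_gerbe h𝒳 h𝒴 hf)
  open Groth.Agent.H14AlgSt Groth.Agent.H14Gerbe in
  have h1 := repWith_fpComparison x₁ x₂ f e he (flat_diag_gerbe h𝒳 h𝒴 hf)
  open Groth.Agent.H14AlgSt Groth.Agent.H14Gerbe in
  have h2 := repWith_fpComparison x₁ x₂ f e he (lfp_diag_gerbe h𝒳 h𝒴 hf)
  open Groth.Agent.H14AlgSt in
  have hA : AlgSt.IsAlgStack Scheme.fppfPrecoverage (FibCat.fp x₁ x₂) :=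
    isAlgStack_fp' (isAlgStack_ofSp T₁) (isAlgStack_ofSp T₂) h𝒳 x₁ x₂
  open Groth.Agent.H14AlgSt in
  have hB : AlgSt.IsAlgStack Scheme.fppfPrecoverage
      (FibCat.fp (BasedFunctor.comp x₁ f) (BasedFunctor.comp x₂ f)) :=
    isAlgStack_fp' (isAlgStack_ofSp T₁) (isAlgStack_ofSp T₂) h𝒴 _ _
  open Groth.Agent.H14AlgSt in
  exact ⟨surjective_of_repWith hB.isStack.1 hs, locQ_of_repWith smLocal_flat hA hB h1,
    locQ_of_repWith smLocal_lfp hA hB h2⟩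

end Groth.Agent.S16863
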