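import Groth.Statements.S16864
import Groth.Agent.H14Stk.Gerbe

set_option autoImplicit false
set_option backward.isDefEq.respectTransparency false
set_option backward.isDefEq.respectTransparency.types false
universe u
open CategoryTheory AlgebraicGeometry
open Gerb

namespace Groth.Agent.S16864

/-- The base change of a gerbe along any morphism of algebraic stacks is a gerbe: if 𝒳 is a gerbe over 𝒴
along f then 𝒴' ×_𝒴 𝒳 is a gerbe over 𝒴' along the first projection. -/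
theorem result
    (S : Scheme.{u}) (𝒳 𝒴 𝒴' : AlgSt.Cat S)
    (h𝒳 : AlgSt.IsAlgStack Scheme.fppfPrecoverage 𝒳) (h𝒴 : AlgSt.IsAlgStack Scheme.fppfPrecoverage 𝒴)
    (h𝒴' : AlgSt.IsAlgStack Scheme.fppfPrecoverage 𝒴')
    (f : 𝒳 ⥤ᵇ 𝒴) (g : 𝒴' ⥤ᵇ 𝒴) (hf : Gerb.IsGerbeOver (QuotSh.J Scheme.fppfPrecoverage S) f) :
    Gerb.IsGerbeOver (QuotSh.J Scheme.fppfPrecoverage S) (FibCat.fpFst g f) := by
  exact H14Stk.isGerbeOver_fpFst g f h𝒴.isStack.1 h𝒴'.isStack.1 hf

end Groth.Agent.S16864
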