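import Groth.Statements.S16868
import Groth.Agent.H14Gerbe.Singleton

set_option autoImplicit false
set_option backward.isDefEq.respectTransparency false
set_option backward.isDefEq.respectTransparency.types false
universe u
open CategoryTheory AlgebraicGeometry
open Gerb

namespace Groth.Agent.S16868

/-- If an algebraic stack is reduced, locally Noetherian and has a single point, then it is a gerbe,
along some morphism, over an algebraic space that is itself reduced, locally Noetherian and has a
single point. -/
theorem result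
    (S : Scheme.{u}) (𝒵 : AlgSt.Cat S) (h𝒵 : AlgSt.IsAlgStack Scheme.fppfPrecoverage 𝒵)
    (hred : AlgSt.SmoothLocally (fun T => IsReduced T) 𝒵)
    (hnoeth : AlgSt.SmoothLocally (fun T => IsLocallyNoetherian T) 𝒵)
    (hne : Nonempty (AlgSt.Points 𝒵)) (hsub : Subsingleton (AlgSt.Points 𝒵)) :
    ∃ (Z : AlgSp.Space S) (π : 𝒵 ⥤ᵇ AlgSt.ofSp Z.obj),
      Gerb.IsGerbeOver (QuotSh.J Scheme.fppfPrecoverage S) π ∧
        AlgSp.EtaleLocally (fun T => IsReduced T) Z.obj ∧ AlgSp.IsLocNoethSp Z.obj ∧
        Nonempty (AlgSp.Points Z.obj) ∧ Subsingleton (AlgSp.Points Z.obj) := by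
  exact H14Gerbe.exists_gerbe_singleton h𝒵 hred hnoeth hne hsub

end Groth.Agent.S16868
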