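import Groth.Statements.S16879
import Groth.Agent.H14Quot.NeutralBG

set_option autoImplicit false
set_option backward.isDefEq.respectTransparency false
set_option backward.isDefEq.respectTransparency.types false
universe u
open CategoryTheory AlgebraicGeometry
open Gerb

namespace Groth.Agent.S16879

/-- A gerbe over the base scheme S with a section x is a classifying stack: if G is a group scheme
affine over S representing the automorphism functor of x, then 𝒳 is equivalent over (Sch/S) to
[S/G], the stack of fppf G-torsors. (The source allows any algebraic space as the base, lets G be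
the group algebraic space of automorphisms, and its equivalence is a named one; here the base is S
itself, G is an affine group scheme, and existence of an equivalence is asserted.) -/
theorem result
    (S : Scheme.{u}) (𝒳 : AlgSt.Cat S) (h𝒳 : AlgSt.IsAlgStack Scheme.fppfPrecoverage 𝒳)
    (π : 𝒳 ⥤ᵇ FibCat.overCat (Over.mk (𝟙 S)))
    (hπ : Gerb.IsGerbeOver (QuotSh.J Scheme.fppfPrecoverage S) π)
    (x : FibCat.overCat (Over.mk (𝟙 S)) ⥤ᵇ 𝒳)
    (e : BasedFunctor.comp x π ≅ BasedFunctor.id (FibCat.overCat (Over.mk (𝟙 S))))
    (G : Over S) [GrpObj G] [IsAffineHom G.hom]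
    (r : Gerb.AutRep x (Gerb.ptsGrp (Over.mk (𝟙 S)) G)) :
    AlgSt.IsQuotientOf Scheme.fppfPrecoverage G (AlgSt.trivAction G) 𝒳 := by
  exact Groth.Agent.H14Quot.isQuotientOf_neutral x h𝒳.isStack π hπ e r

end Groth.Agent.S16879
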