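import Groth.Statements.S1688
import Groth.Agent.H29Ref.Free
import Groth.Agent.H8Props.FlatDimOneBase
import Groth.Agent.H8Props.FinLocFree.Global

set_option autoImplicit false
universe u
open CategoryTheory CategoryTheory.Limits AlgebraicGeometry TopologicalSpace
open SDiv

namespace Groth.Agent.S1688

/-- Let X be a locally Noetherian integral scheme of dimension at most 1 all of whose local rings are
regular, and F a coherent module on X. Then F is torsion free (every stalk is a torsion-free module
over the local ring) if and only if F is finite locally free. -/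
theorem result (X : Scheme.{u}) [IsIntegral X] [IsLocallyNoetherian X] (hreg : ∀ x : ↥X, IsRegularLocalRing (X.presheaf.stalk x))
    (hdim : topologicalKrullDim ↥X ≤ 1) (F : X.Modules) (hF : Coh.IsCoh F) :
    (∀ x : ↥X, NoZeroSMulDivisors (X.presheaf.stalk x) (F.presheaf.stalk x)) ↔ FlatMod.IsFinLocFree F := by
  refine ⟨fun h => H29Ref.isFinLocFree_of_free_stalk F hF fun x => ?_, fun h x => ?_⟩
  · haveI := hreg x
    haveI := H29Ref.finite_stalk F hF.2 x
    haveI := h x
    haveI := H4Depth.isDomain_of_isRegularLocalRing (X.presheaf.stalk x)
    exact H29Ref.free_of_isTorsionFree _ ((H8Props.FlatDimOneBase.ringKrullDim_stalk_le X x).trans hdim)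
  · haveI := H8Props.FinLocFree.free_stalk F h x
    haveI := hreg x
    haveI := H4Depth.isDomain_of_isRegularLocalRing (X.presheaf.stalk x)
    exact ⟨fun {_ _} h0 => smul_eq_zero.mp h0⟩

end Groth.Agent.S1688
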