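import Groth.Statements.S16887
import Groth.Agent.H14Stk.Gerbe2

set_option autoImplicit false
set_option backward.isDefEq.respectTransparency false
set_option backward.isDefEq.respectTransparency.types false
open CategoryTheory Opposite
universe v u
open Gerb

namespace Groth.Agent.S16887

open CategoryTheory.Functor Opposite
variable {C : Type u} [Category.{v} C] (𝒮 : BasedCategory.{v, max u v} C)

/-- A system of automorphisms on all objects over `U`. -/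
abbrev AutSys (U : C) : Type (max u v) := ∀ z : 𝒮.obj, (𝒮.p.obj z ⟶ U) → Gerb.AutO z

/-- The compatible systems. -/
def natSub (U : C) : Subgroup (AutSys 𝒮 U) where
  carrier := {a | ∀ ⦃z z' : 𝒮.obj⦄ (φ : z ⟶ z') (g' : 𝒮.p.obj z' ⟶ U),
    (a z (𝒮.p.map φ ≫ g')).hom.1 ≫ φ = φ ≫ (a z' g').hom.1}
  one_mem' z z' φ g' := (Category.id_comp φ).trans (Category.comp_id φ).symm
  mul_mem' {a b} ha hb z z' φ g' := by
    change (a z (𝒮.p.map φ ≫ g') * b z (𝒮.p.map φ ≫ g')).hom.1 ≫ φ = φ ≫ (a z' g' * b z' g').hom.1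
    rw [H14Stk.autO_mul_hom, H14Stk.autO_mul_hom, Category.assoc, ha φ g', ← Category.assoc,
      hb φ g', Category.assoc]
  inv_mem' {a} ha z z' φ g' := by
    change ((a z (𝒮.p.map φ ≫ g'))⁻¹).hom.1 ≫ φ = φ ≫ ((a z' g')⁻¹).hom.1
    rw [H14Stk.autO_inv_hom_eq, H14Stk.autO_inv_hom_eq]
    calc (a z (𝒮.p.map φ ≫ g')).inv.1 ≫ φ
        = (a z (𝒮.p.map φ ≫ g')).inv.1 ≫ φ ≫ (a z' g').hom.1 ≫ (a z' g').inv.1 := by
          rw [H14Stk.autO_hom_inv]; exact congrArg (_ ≫ ·) (Category.comp_id φ).symm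
      _ = (a z (𝒮.p.map φ ≫ g')).inv.1 ≫ ((a z (𝒮.p.map φ ≫ g')).hom.1 ≫ φ) ≫ (a z' g').inv.1 := by
          rw [ha φ g', Category.assoc]
      _ = φ ≫ (a z' g').inv.1 := by
          rw [Category.assoc, ← Category.assoc, H14Stk.autO_inv_hom]; exact Category.id_comp _

/-- Restriction of systems. -/
def resHom {U V : C} (h : V ⟶ U) : natSub 𝒮 U →* natSub 𝒮 V where
  toFun a := ⟨fun z g => a.1 z (g ≫ h), fun z z' φ g' => by
    change (a.1 z ((𝒮.p.map φ ≫ g') ≫ h)).hom.1 ≫ φ = φ ≫ (a.1 z' (g' ≫ h)).hom.1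
    rw [Category.assoc]
    exact a.2 φ (g' ≫ h)⟩
  map_one' := rfl
  map_mul' _ _ := rfl

lemma sys_ext {U : C} {a b : natSub 𝒮 U} (h : ∀ z g, a.1 z g = b.1 z g) : a = b :=
  Subtype.ext (funext fun z => funext fun g => h z g)

/-- The presheaf of systems. -/
def sysPsh : Cᵒᵖ ⥤ GrpCat.{max u v} where
  obj U := GrpCat.of (natSub 𝒮 U.unop)
  map h := GrpCat.ofHom (resHom 𝒮 h.unop)
  map_id U := GrpCat.hom_ext (MonoidHom.ext fun a => sys_ext 𝒮 fun z g =>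
    congrArg (a.1 z) (Category.comp_id g))
  map_comp f g := GrpCat.hom_ext (MonoidHom.ext fun a => sys_ext 𝒮 fun z k =>
    congrArg (a.1 z) (Category.assoc k g.unop f.unop).symm)

variable {𝒮}

lemma aut_comp_lift {z t : 𝒮.obj} {V : C} (α : Gerb.AutO t) {f : 𝒮.p.obj t ⟶ V} (φ : t ⟶ z)
    [𝒮.p.IsHomLift f φ] : 𝒮.p.IsHomLift f (α.hom.1 ≫ φ) :=
  have := H14Stk.autIso_lift α
  IsHomLift.comp_lift_id_left' 𝒮.p (𝒮.p.obj t) α.hom.1 f φ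

variable (J : GrothendieckTopology C)

lemma sheaf_key (h : Gerb.IsGerbe J 𝒮) {U : C} (R : Sieve U) (hR : R ∈ J U) :
    Presieve.IsSheafFor (sysPsh 𝒮 ⋙ forget GrpCat.{max u v}) R.arrows := by
  intro x hx
  have hP := H14Stk.isPrestack_of_isStack h.1
  have hx' : ∀ ⦃V W : C⦄ (f : V ⟶ U) (hf : R f) (k : W ⟶ V) (t : 𝒮.obj) (e : 𝒮.p.obj t ⟶ W),
      (x (k ≫ f) (R.downward_closed hf k)).1 t e = (x f hf).1 t (e ≫ k) := fun V W f hf k t e =>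
    congrArg (fun a : natSub 𝒮 W => a.1 t e) (hx.to_sieveCompatible f k hf)
  let T : ∀ z : 𝒮.obj, (𝒮.p.obj z ⟶ U) → ∀ ⦃t : 𝒮.obj⦄, (t ⟶ z) → (t ⟶ z) → Prop :=
    fun z g t ψ χ => ∃ hm : R (𝒮.p.map ψ ≫ g), χ = ((x _ hm).1 t (𝟙 _)).hom.1 ≫ ψ
  have hxeq : ∀ ⦃V : C⦄ (f f' : V ⟶ U) (hf : R f) (hf' : R f') (t : 𝒮.obj) (e : 𝒮.p.obj t ⟶ V),
      f = f' → (x f hf).1 t e = (x f' hf').1 t e := by
    intro V f f' hf hf' t e he
    subst he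
    rfl
  have key : ∀ (z : 𝒮.obj) (g : 𝒮.p.obj z ⟶ U), ∃ α : Gerb.AutO z,
      ∀ ⦃t : 𝒮.obj⦄ (ψ : t ⟶ z) (hm : R (𝒮.p.map ψ ≫ g)),
        ψ ≫ α.hom.1 = ((x _ hm).1 t (𝟙 _)).hom.1 ≫ ψ := by
    intro z g
    have hmem : ∀ ⦃V : C⦄ (f : V ⟶ 𝒮.p.obj z), (R.pullback g) f → ∀ ⦃t : 𝒮.obj⦄ (ψ : t ⟶ z),
        𝒮.p.IsHomLift f ψ → R (𝒮.p.map ψ ≫ g) := fun V f hf t ψ hψ => by
      have e : 𝒮.p.map ψ ≫ g = eqToHom (IsHomLift.domain_eq 𝒮.p f ψ) ≫ f ≫ g := by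
        rw [IsHomLift.fac' 𝒮.p f ψ]; simp
      rw [e]; exact R.downward_closed hf _
    obtain ⟨α, hα, hPα⟩ := H14Stk.exists_vert_of_local hP (J.pullback_stable g hR) (a := z) (b := z)
      rfl rfl (T z g)
      (fun s t k ψ χ ⟨hm, e⟩ => by
        have e1 : 𝒮.p.map (k ≫ ψ) ≫ g = 𝒮.p.map k ≫ 𝒮.p.map ψ ≫ g := by
          rw [Functor.map_comp, Category.assoc]
        refine ⟨e1 ▸ R.downward_closed hm _, ?_⟩
        have e2 : ((x _ (e1 ▸ R.downward_closed hm _)).1 s (𝟙 _)) =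
            (x (𝒮.p.map ψ ≫ g) hm).1 s (𝒮.p.map k) := by
          have := hx' _ hm (𝒮.p.map k) s (𝟙 _)
          rw [Category.id_comp] at this
          exact (hxeq _ _ _ _ _ _ e1).trans this
        have e3 := (x (𝒮.p.map ψ ≫ g) hm).2 k (𝟙 _)
        rw [Category.comp_id] at e3
        rw [e, e2, reassoc_of% e3])
      (fun V f hf t ψ hψ => ⟨((x _ (hmem f hf ψ hψ)).1 t (𝟙 _)).hom.1 ≫ ψ, by
          have := H14Stk.autIso_lift ((x _ (hmem f hf ψ hψ)).1 t (𝟙 _))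
          obtain rfl : 𝒮.p.obj t = V := IsHomLift.domain_eq 𝒮.p f ψ
          exact IsHomLift.comp_lift_id_left' 𝒮.p (𝒮.p.obj t) _ f ψ, hmem f hf ψ hψ, rfl⟩)
      (fun V f hf t ψ χ χ' _ _ _ h1 h2 => by
        obtain ⟨hm, e⟩ := h1; obtain ⟨hm', e'⟩ := h2; exact e.trans e'.symm)
    have := H14Fib.isIso_of_fibGrpd h.1.1 (𝟙 (𝒮.p.obj z)) α
    refine ⟨H14Stk.autMk (asIso α) hα, fun t ψ hm => ?_⟩
    obtain ⟨hm', e⟩ := hPα (𝒮.p.map ψ) hm ψ (IsHomLift.map 𝒮.p ψ)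
    exact e
  choose A hA using key
  have huniq : ∀ (z : 𝒮.obj) (g : 𝒮.p.obj z ⟶ U) (β : Gerb.AutO z),
      (∀ ⦃t : 𝒮.obj⦄ (ψ : t ⟶ z) (hm : R (𝒮.p.map ψ ≫ g)),
        ψ ≫ β.hom.1 = ((x _ hm).1 t (𝟙 _)).hom.1 ≫ ψ) → β = A z g := fun z g β hβ => by
    have := H14Stk.autIso_lift β
    have := H14Stk.autIso_lift (A z g)
    refine H14Stk.autO_ext (H14Stk.vert_ext_of_local hP (J.pullback_stable g hR) _ _
      fun V f hf t ψ hψ => ?_)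
    have hm : R (𝒮.p.map ψ ≫ g) := by
      have e : 𝒮.p.map ψ ≫ g = eqToHom (IsHomLift.domain_eq 𝒮.p f ψ) ≫ f ≫ g := by
        rw [IsHomLift.fac' 𝒮.p f ψ]; simp
      rw [e]; exact R.downward_closed hf _
    exact (hβ ψ hm).trans (hA z g ψ hm).symm
  have hnat : (fun z g => A z g) ∈ natSub 𝒮 U := fun z z' φ g' => by
    have := H14Stk.autIso_lift (A z (𝒮.p.map φ ≫ g'))
    have := H14Stk.autIso_lift (A z' g')
    have hφ : 𝒮.p.IsHomLift (𝒮.p.map φ) φ := IsHomLift.map 𝒮.p φ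
    have : 𝒮.p.IsHomLift (𝒮.p.map φ) (φ ≫ (A z' g').hom.1) :=
      IsHomLift.comp_lift_id_right' 𝒮.p (𝒮.p.map φ) φ (𝒮.p.obj z') _
    have := H14Fib.sc_of_fibGrpd h.1.1 (𝒮.p.map φ) φ
    obtain ⟨i, hi, ei⟩ := H14Stk.exists_vertIso h.1.1 (𝒮.p.map φ) (φ ≫ (A z' g').hom.1) φ
    have : A z (𝒮.p.map φ ≫ g') = H14Stk.autMk i hi := by
      refine (huniq z _ (H14Stk.autMk i hi) fun t ψ hm => ?_).symm
      have hψ : 𝒮.p.IsHomLift (𝒮.p.map ψ) ψ := IsHomLift.map 𝒮.p ψ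
      have h1 := aut_comp_lift ((x _ hm).1 t (𝟙 _)) (f := 𝒮.p.map ψ) ψ
      have h2 : 𝒮.p.IsHomLift (𝒮.p.map ψ) (ψ ≫ i.hom) :=
        IsHomLift.comp_lift_id_right' 𝒮.p (𝒮.p.map ψ) ψ (𝒮.p.obj z) i.hom
      rw [H14Stk.autMk_hom]
      apply IsStronglyCartesian.ext 𝒮.p (𝒮.p.map φ) φ (𝒮.p.map ψ)
      rw [Category.assoc, ei, Category.assoc, ← Category.assoc ψ]
      have e1 : 𝒮.p.map (ψ ≫ φ) ≫ g' = 𝒮.p.map ψ ≫ 𝒮.p.map φ ≫ g' := by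
        rw [Functor.map_comp, Category.assoc]
      refine (hA z' g' (ψ ≫ φ) (e1.symm ▸ hm)).trans ?_
      rw [hxeq _ _ _ hm t (𝟙 _) e1]
    change (A z (𝒮.p.map φ ≫ g')).hom.1 ≫ φ = φ ≫ (A z' g').hom.1
    rw [this, H14Stk.autMk_hom, ei]
  have hamalg : ∀ ⦃V : C⦄ (f : V ⟶ U) (hf : R f) (z : 𝒮.obj) (g : 𝒮.p.obj z ⟶ V),
      A z (g ≫ f) = (x f hf).1 z g := fun V f hf z g => by
    refine (huniq z _ _ fun t ψ hm => ?_).symm
    rw [← (x f hf).2 ψ g]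
    congr 1
    have := hx' f hf (𝒮.p.map ψ ≫ g) t (𝟙 _)
    rw [Category.id_comp] at this
    rw [hxeq _ _ hm (R.downward_closed hf _) t (𝟙 _) (Category.assoc _ _ _).symm, this]
  refine ⟨(⟨fun z g => A z g, hnat⟩ : natSub 𝒮 U), fun V f hf => sys_ext 𝒮 fun z g => hamalg f hf z g, ?_⟩
  intro t ht
  refine sys_ext 𝒮 fun z g => huniq z g _ fun s ψ hm => ?_
  rw [← t.2 ψ g]
  congr 1
  have : t.1 s (𝟙 _ ≫ 𝒮.p.map ψ ≫ g) = (x _ hm).1 s (𝟙 _) :=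
    congrArg (fun a : natSub 𝒮 (𝒮.p.obj s) => a.1 s (𝟙 _)) (ht (𝒮.p.map ψ ≫ g) hm)
  rw [Category.id_comp] at this
  rw [this]

/-- Evaluation at an object. -/
def evalHom (x : 𝒮.obj) : natSub 𝒮 (𝒮.p.obj x) →* Gerb.AutO x where
  toFun a := a.1 x (𝟙 _)
  map_one' := rfl
  map_mul' _ _ := rfl

lemma eval_bijective (h : Gerb.IsGerbe J 𝒮)
    (hcomm : ∀ (x : 𝒮.obj) (α β : Gerb.AutO x), α * β = β * α) (x : 𝒮.obj) :
    Function.Bijective (evalHom x) := by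
  have hP := H14Stk.isPrestack_of_isStack h.1
  have hloc : ∀ (z : 𝒮.obj) (g : 𝒮.p.obj z ⟶ 𝒮.p.obj x), H14Stk.Locally J (𝒮.p.obj z) (fun V f =>
      ∀ ⦃t : 𝒮.obj⦄ (φ : t ⟶ z), 𝒮.p.IsHomLift f φ →
        ∃ σ : t ⟶ x, 𝒮.p.map σ = 𝒮.p.map φ ≫ g) := fun z g => by
    obtain ⟨xg, τ, hτ⟩ := H14Fib.exists_sc_lift h.1.1 (a := x) rfl g
    refine (H14Stk.locIso_of_toSelf h.2 z xg rfl (IsHomLift.domain_eq 𝒮.p g τ)).mono ?_
    rintro V f ⟨x₀, φ₀, ψ₀, hφ₀, hψ₀⟩ t φ hφ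
    obtain ⟨i, hi, ei⟩ := H14Stk.exists_vertIso h.1.1 f φ φ₀
    have h1 : 𝒮.p.IsHomLift (f ≫ g) (ψ₀ ≫ τ) := inferInstance
    have h2 : 𝒮.p.IsHomLift (f ≫ g) (i.hom ≫ ψ₀ ≫ τ) :=
      IsHomLift.comp_lift_id_left' 𝒮.p V i.hom (f ≫ g) _
    refine ⟨i.hom ≫ ψ₀ ≫ τ, ?_⟩
    rw [IsHomLift.fac' 𝒮.p (f ≫ g) (i.hom ≫ ψ₀ ≫ τ), IsHomLift.fac' 𝒮.p f φ]
    simp
  constructor
  · intro a b hab
    refine sys_ext 𝒮 fun z g => ?_
    obtain ⟨R, hR, hσ⟩ := hloc z g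
    have := H14Stk.autIso_lift (a.1 z g)
    have := H14Stk.autIso_lift (b.1 z g)
    refine H14Stk.autO_ext (H14Stk.vert_ext_of_local hP hR _ _ fun V f hf t φ hφ => ?_)
    obtain ⟨σ, hσ'⟩ := hσ f hf φ hφ
    rw [← a.2 φ g, ← b.2 φ g, ← hσ']
    congr 1
    have ea : (a.1 t (𝒮.p.map σ)).hom.1 ≫ σ = σ ≫ (a.1 x (𝟙 _)).hom.1 := by
      have := a.2 σ (𝟙 _); rwa [Category.comp_id] at this
    have eb : (b.1 t (𝒮.p.map σ)).hom.1 ≫ σ = σ ≫ (b.1 x (𝟙 _)).hom.1 := by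
      have := b.2 σ (𝟙 _); rwa [Category.comp_id] at this
    have hab' : a.1 x (𝟙 _) = b.1 x (𝟙 _) := hab
    have := h.1.1.isStronglyCartesian σ
    have := H14Stk.autIso_lift (a.1 t (𝒮.p.map σ))
    have := H14Stk.autIso_lift (b.1 t (𝒮.p.map σ))
    exact IsStronglyCartesian.ext 𝒮.p (𝒮.p.map σ) σ (𝟙 (𝒮.p.obj t)) (by rw [ea, eb, hab'])
  · intro α
    let T : ∀ z : 𝒮.obj, (𝒮.p.obj z ⟶ 𝒮.p.obj x) → ∀ ⦃t : 𝒮.obj⦄, (t ⟶ z) → (t ⟶ z) → Prop :=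
      fun z g t φ χ => ∃ (β : Gerb.AutO t) (σ : t ⟶ x), 𝒮.p.map σ = 𝒮.p.map φ ≫ g ∧
        β.hom.1 ≫ σ = σ ≫ α.hom.1 ∧ χ = β.hom.1 ≫ φ
    have hsub : ∀ {t : 𝒮.obj} (σ : t ⟶ x), ∃ β : Gerb.AutO t, β.hom.1 ≫ σ = σ ≫ α.hom.1 := fun {t} σ => by
      have := IsHomLift.map 𝒮.p σ
      have := H14Stk.autIso_lift α
      have : 𝒮.p.IsHomLift (𝒮.p.map σ) (σ ≫ α.hom.1) :=
        IsHomLift.comp_lift_id_right' 𝒮.p (𝒮.p.map σ) σ (𝒮.p.obj x) α.hom.1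
      obtain ⟨i, hi, ei⟩ := H14Stk.exists_vertIso h.1.1 (𝒮.p.map σ) (σ ≫ α.hom.1) σ
      exact ⟨H14Stk.autMk i hi, ei⟩
    have hindep : ∀ {t : 𝒮.obj} (σ σ' : t ⟶ x) (β β' : Gerb.AutO t), 𝒮.p.map σ = 𝒮.p.map σ' →
        β.hom.1 ≫ σ = σ ≫ α.hom.1 → β'.hom.1 ≫ σ' = σ' ≫ α.hom.1 → β = β' := by
      intro t σ σ' β β' e hβ hβ'
      obtain ⟨δ, hδ⟩ := H14Stk.exists_aut_of_parallel h.1.1 σ σ' e
      have hc : δ.hom.1 ≫ β.hom.1 = β.hom.1 ≫ δ.hom.1 := by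
        rw [← H14Stk.autO_mul_hom, ← H14Stk.autO_mul_hom, hcomm]
      have := IsHomLift.map 𝒮.p σ'
      have := h.1.1.isStronglyCartesian σ'
      have := H14Stk.autIso_lift β
      have := H14Stk.autIso_lift β'
      refine H14Stk.autO_ext (IsStronglyCartesian.ext 𝒮.p (𝒮.p.map σ') σ' (𝟙 (𝒮.p.obj t)) ?_)
      rw [hβ', ← hδ, ← reassoc_of% hc, hβ, Category.assoc]
    have key : ∀ (z : 𝒮.obj) (g : 𝒮.p.obj z ⟶ 𝒮.p.obj x), ∃ B : Gerb.AutO z,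
        ∀ ⦃t : 𝒮.obj⦄ (φ : t ⟶ z) (σ : t ⟶ x) (β : Gerb.AutO t), 𝒮.p.map σ = 𝒮.p.map φ ≫ g →
          β.hom.1 ≫ σ = σ ≫ α.hom.1 → φ ≫ B.hom.1 = β.hom.1 ≫ φ := by
      intro z g
      obtain ⟨R, hR, hσ⟩ := hloc z g
      obtain ⟨B, hB, hPB⟩ := H14Stk.exists_vert_of_local hP hR (a := z) (b := z) rfl rfl (T z g)
        (fun s t k φ χ ⟨β, σ, h1, h2, h3⟩ => by
          obtain ⟨γ, hγ⟩ := hsub (k ≫ σ)
          refine ⟨γ, k ≫ σ, by rw [Functor.map_comp, Functor.map_comp, h1, Category.assoc], hγ, ?_⟩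
          have e : γ.hom.1 ≫ k = k ≫ β.hom.1 := by
            have := h.1.1.isStronglyCartesian σ
            have hk : 𝒮.p.IsHomLift (𝒮.p.map k) k := IsHomLift.map 𝒮.p k
            have := aut_comp_lift γ (f := 𝒮.p.map k) k
            have := H14Stk.autIso_lift β
            have : 𝒮.p.IsHomLift (𝒮.p.map k) (k ≫ β.hom.1) :=
              IsHomLift.comp_lift_id_right' 𝒮.p (𝒮.p.map k) k (𝒮.p.obj t) β.hom.1
            apply IsStronglyCartesian.ext 𝒮.p (𝒮.p.map σ) σ (𝒮.p.map k)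
            rw [Category.assoc, hγ, Category.assoc, Category.assoc, h2]
          rw [h3, reassoc_of% e])
        (fun V f hf t φ hφ => by
          obtain ⟨σ, hσ'⟩ := hσ f hf φ hφ
          obtain ⟨β, hβ⟩ := hsub σ
          have : 𝒮.p.IsHomLift (𝟙 V) β.hom.1 := by
            rw [← IsHomLift.domain_eq 𝒮.p f φ]; exact H14Stk.autIso_lift β
          exact ⟨β.hom.1 ≫ φ, IsHomLift.comp_lift_id_left' 𝒮.p V β.hom.1 f φ, β, σ, hσ', hβ, rfl⟩)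
        (fun V f hf t φ χ χ' _ _ _ h1 h2 => by
          obtain ⟨β, σ, a1, a2, rfl⟩ := h1
          obtain ⟨β', σ', b1, b2, rfl⟩ := h2
          rw [hindep σ σ' β β' (a1.trans b1.symm) a2 b2])
      have := H14Fib.isIso_of_fibGrpd h.1.1 (𝟙 (𝒮.p.obj z)) B
      refine ⟨H14Stk.autMk (asIso B) hB, fun t φ σ β h1 h2 => ?_⟩
      have := H14Stk.autIso_lift β
      have hφ := IsHomLift.map 𝒮.p φ
      have := IsHomLift.comp_lift_id_right' 𝒮.p (𝒮.p.map φ) φ (𝒮.p.obj z) B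
      have := aut_comp_lift β (f := 𝒮.p.map φ) φ
      have hab : 𝒮.p.obj t = 𝒮.p.obj t := rfl
      change φ ≫ B = β.hom.1 ≫ φ
      have := H14Fib.sc_of_fibGrpd h.1.1 (𝒮.p.map φ) φ
      obtain ⟨i, hi, ei⟩ := H14Stk.exists_vertIso h.1.1 (𝒮.p.map φ) (φ ≫ B) φ
      suffices e : i.hom = β.hom.1 by rw [← ei, e]
      refine H14Stk.vert_ext_of_local hP (J.pullback_stable (𝒮.p.map φ) hR) _ _ fun W f hf s ψ hψ => ?_
      have hψφ : 𝒮.p.IsHomLift (f ≫ 𝒮.p.map φ) (ψ ≫ φ) := inferInstance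
      obtain ⟨γ, σ', a1, a2, a3⟩ := hPB (f ≫ 𝒮.p.map φ) hf (ψ ≫ φ) hψφ
      obtain ⟨γ', hγ'⟩ := hsub (ψ ≫ σ)
      have eγ : γ = γ' := hindep σ' (ψ ≫ σ) γ γ' (by
        rw [a1, Functor.map_comp, Functor.map_comp, h1, Category.assoc]) a2 hγ'
      have e : γ'.hom.1 ≫ ψ = ψ ≫ β.hom.1 := by
        have := h.1.1.isStronglyCartesian σ
        have := aut_comp_lift γ' (f := 𝒮.p.map ψ) ψ
        have : 𝒮.p.IsHomLift (𝒮.p.map ψ) (ψ ≫ β.hom.1) :=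
          IsHomLift.comp_lift_id_right' 𝒮.p (𝒮.p.map ψ) ψ (𝒮.p.obj t) β.hom.1
        apply IsStronglyCartesian.ext 𝒮.p (𝒮.p.map σ) σ (𝒮.p.map ψ)
        rw [Category.assoc, hγ', Category.assoc, Category.assoc, h2]
      have : 𝒮.p.IsHomLift f (ψ ≫ i.hom) := IsHomLift.comp_lift_id_right' 𝒮.p f ψ (𝒮.p.obj t) i.hom
      have : 𝒮.p.IsHomLift f (ψ ≫ β.hom.1) := IsHomLift.comp_lift_id_right' 𝒮.p f ψ (𝒮.p.obj t) β.hom.1
      apply IsStronglyCartesian.ext 𝒮.p (𝒮.p.map φ) φ f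
      rw [Category.assoc, ei, ← Category.assoc, a3, eγ, reassoc_of% e, Category.assoc]
    choose B hB using key
    have huniq : ∀ (z : 𝒮.obj) (g : 𝒮.p.obj z ⟶ 𝒮.p.obj x) (β : Gerb.AutO z),
        (∀ ⦃t : 𝒮.obj⦄ (φ : t ⟶ z) (σ : t ⟶ x) (γ : Gerb.AutO t), 𝒮.p.map σ = 𝒮.p.map φ ≫ g →
          γ.hom.1 ≫ σ = σ ≫ α.hom.1 → φ ≫ β.hom.1 = γ.hom.1 ≫ φ) → β = B z g := fun z g β hβ => by
      obtain ⟨R, hR, hσ⟩ := hloc z g
      have := H14Stk.autIso_lift β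
      have := H14Stk.autIso_lift (B z g)
      refine H14Stk.autO_ext (H14Stk.vert_ext_of_local hP hR _ _ fun V f hf t φ hφ => ?_)
      obtain ⟨σ, hσ'⟩ := hσ f hf φ hφ
      obtain ⟨γ, hγ⟩ := hsub σ
      exact (hβ φ σ γ hσ' hγ).trans (hB z g φ σ γ hσ' hγ).symm
    have hnat : (fun z g => B z g) ∈ natSub 𝒮 (𝒮.p.obj x) := fun z z' ψ g' => by
      have := H14Stk.autIso_lift (B z' g')
      have hψ : 𝒮.p.IsHomLift (𝒮.p.map ψ) ψ := IsHomLift.map 𝒮.p ψ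
      have : 𝒮.p.IsHomLift (𝒮.p.map ψ) (ψ ≫ (B z' g').hom.1) :=
        IsHomLift.comp_lift_id_right' 𝒮.p (𝒮.p.map ψ) ψ (𝒮.p.obj z') _
      have := H14Fib.sc_of_fibGrpd h.1.1 (𝒮.p.map ψ) ψ
      obtain ⟨i, hi, ei⟩ := H14Stk.exists_vertIso h.1.1 (𝒮.p.map ψ) (ψ ≫ (B z' g').hom.1) ψ
      have : B z (𝒮.p.map ψ ≫ g') = H14Stk.autMk i hi := by
        refine (huniq z _ (H14Stk.autMk i hi) fun t φ σ γ h1 h2 => ?_).symm
        have hφ : 𝒮.p.IsHomLift (𝒮.p.map φ) φ := IsHomLift.map 𝒮.p φ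
        have := aut_comp_lift γ (f := 𝒮.p.map φ) φ
        have : 𝒮.p.IsHomLift (𝒮.p.map φ) (φ ≫ i.hom) :=
          IsHomLift.comp_lift_id_right' 𝒮.p (𝒮.p.map φ) φ (𝒮.p.obj z) i.hom
        rw [H14Stk.autMk_hom]
        apply IsStronglyCartesian.ext 𝒮.p (𝒮.p.map ψ) ψ (𝒮.p.map φ)
        rw [Category.assoc, ei, ← Category.assoc,
          hB z' g' (φ ≫ ψ) σ γ (by rw [h1, Functor.map_comp, Category.assoc]) h2, Category.assoc]
      change (B z (𝒮.p.map ψ ≫ g')).hom.1 ≫ ψ = ψ ≫ (B z' g').hom.1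
      rw [this, H14Stk.autMk_hom, ei]
    refine ⟨⟨fun z g => B z g, hnat⟩, ?_⟩
    change B x (𝟙 _) = α
    refine (huniq x _ α fun t φ σ γ h1 h2 => ?_).symm
    rw [Category.comp_id] at h1
    obtain ⟨γ', hγ'⟩ := hsub φ
    rw [hindep σ φ γ γ' h1 h2 hγ', hγ']

lemma sys_comm (hcomm : ∀ (x : 𝒮.obj) (α β : Gerb.AutO x), α * β = β * α) (U : C)
    (a b : natSub 𝒮 U) : a * b = b * a := sys_ext 𝒮 fun z g => hcomm z (a.1 z g) (b.1 z g)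

/-- Let `𝒮` be a gerbe over the site `(C, J)` all of whose automorphism groups over identities are
commutative (the sheaves of automorphisms of its objects are abelian). Then there are a sheaf `G` of
abelian groups on `(C, J)` and, for every object `x` of `𝒮` over `U`, a group isomorphism `G(U) ≅
Aut_U(x)`, these isomorphisms being compatible with restriction and with conjugation by morphisms of
the fibre categories. Here they are moreover asked to be natural along all morphisms of `𝒮` (a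
banding of `𝒮` by `G`), which is stronger than the published conclusion. The published statement is
for an arbitrary site; this row assumes that `C` has a terminal object. The sheaf takes values in
groups in the common universe of the objects and morphisms of `C`. -/
theorem result {C : Type u} [Category.{v} C] [Limits.HasTerminal C]
    (J : GrothendieckTopology C) (𝒮 : BasedCategory.{v, max u v} C) (h𝒮 : Gerb.IsGerbe J 𝒮)
    (hcomm : ∀ (x : 𝒮.obj) (α β : Gerb.AutO x), α * β = β * α) :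
    ∃ G : Sheaf J GrpCat.{max u v}, (∀ (U : C) (a b : G.obj.obj (op U)), a * b = b * a) ∧
      Nonempty (Gerb.Banding 𝒮 G.obj) := by
  have hsh : Presheaf.IsSheaf J (sysPsh 𝒮) :=
    (Presheaf.isSheaf_iff_isSheaf_forget J (sysPsh 𝒮) (forget GrpCat.{max u v})).2
      ((isSheaf_iff_isSheaf_of_type _ _).2 fun _ R hR => sheaf_key J h𝒮 R hR)
  refine ⟨⟨sysPsh 𝒮, hsh⟩, fun U a b => sys_comm hcomm U a b,
    ⟨{ iso := fun x => MulEquiv.ofBijective (evalHom x) (eval_bijective J h𝒮 hcomm x)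
       natural := fun {x' x} φ a => ?_ }⟩⟩
  change (a.1 x' (𝟙 _ ≫ 𝒮.p.map φ)).hom.1 ≫ φ = φ ≫ (a.1 x (𝟙 _)).hom.1
  rw [Category.id_comp]
  have := a.2 φ (𝟙 _)
  rwa [Category.comp_id] at this

end Groth.Agent.S16887
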