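import Groth.Statements.S1690
import Groth.Agent.H29Ref.BigOpen

set_option autoImplicit false
universe u
open CategoryTheory CategoryTheory.Limits AlgebraicGeometry TopologicalSpace
open SDiv

namespace Groth.Agent.S1690

/-- (1) if and only if (3): let X be an integral locally Noetherian normal scheme and F a coherent
module. Then F is reflexive (stalkwise) if and only if there is an open subscheme j : U ⟶ X such
that every point outside U has local ring of dimension at least 2, the restriction of F to U is
finite locally free, and the canonical map F ⟶ j_* j^* F is an isomorphism. -/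
theorem result (X : Scheme.{u}) [IsIntegral X] [IsLocallyNoetherian X] (hX : Pi1.IsNormalScheme X)
    (F : X.Modules) (hF : Coh.IsCoh F) :
    (∀ x : ↥X, Module.IsReflexive (X.presheaf.stalk x) (F.presheaf.stalk x)) ↔
      ∃ U : X.Opens, (∀ x : ↥X, x ∉ U → (2 : WithBot ℕ∞) ≤ ringKrullDim (X.presheaf.stalk x)) ∧
        FlatMod.IsFinLocFree (F.restrict U.ι) ∧ IsIso ((Scheme.Modules.restrictAdjunction U.ι).unit.app F) := by
  have hFP := H10Coh.isFP_of_isCoh F hF
  have hfin : ∀ x, Module.Finite (X.presheaf.stalk x) (F.presheaf.stalk x) := H29Ref.finite_stalk F hF.2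
  have hbij : ∀ x, Module.Free (X.presheaf.stalk x) (F.presheaf.stalk x) →
      Function.Bijective (RefHull.stalkMapₗ (RefHull.bidualMap F) x) := fun x hx => by
    haveI := hfin x
    haveI := hx
    exact (H29Ref.isReflexiveAt_iff F hFP (H29Ref.isFP_dual F hF) x).mp
      (show Module.IsReflexive (X.presheaf.stalk x) (F.presheaf.stalk x) from inferInstance)
  constructor
  · intro hr
    have hFr : RefHull.IsReflexive F := (H29Ref.isReflexive_iff F hF).mpr hr
    let U : X.Opens := ⟨{x | ∃ n, FlatFun.IsFreeOfRankNear F n x},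
      isOpen_iff_forall_mem_open.mpr fun x ⟨n, V, hxV, hV⟩ => ⟨V, fun y hy => ⟨n, V, hy, hV⟩, V.2, hxV⟩⟩
    have hU : ∀ x : X, x ∉ U → (2 : WithBot ℕ∞) ≤ ringKrullDim (X.presheaf.stalk x) := by
      intro x hx
      by_contra h2
      haveI := hfin x
      haveI := hr x
      haveI : Module.IsTorsionFree (X.presheaf.stalk x) (F.presheaf.stalk x) :=
        H29Ref.isTorsionFree_of_isReflexive F hF hFr x
      have h1 : ringKrullDim (X.presheaf.stalk x) ≤ 1 := by
        by_contra h3
        push Not at h3
        exact h2 (Order.succ_le_of_lt h3 |>.trans' le_rfl)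
      haveI := H29Ref.free_of_dim_le_one hX x h1 (F.presheaf.stalk x)
      exact hx ⟨_, H8Props.FunDescent.isFreeOfRankNear_of_stalkFree_of_isFP F hFP
        ⟨Module.finBasis (X.presheaf.stalk x) (F.presheaf.stalk x)⟩⟩
    refine ⟨U, hU, H29Ref.isFinLocFree_restrict F U fun x hx => hx, ?_⟩
    rw [H29Ref.isIso_unit_iff]
    exact fun W => H29Ref.bijective_res hX F hF hFr _ fun x hxW hx =>
      hU x fun hxU => hx ⟨⟨x, hxU⟩, hxW, rfl⟩
  · rintro ⟨U, hU, hfree, hiso⟩
    refine (H29Ref.isReflexive_iff F hF).mp (H29Ref.isReflexive_of_isIso_unit hX F hF U hU (fun x hx => ?_) hiso)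
    obtain ⟨n, hn⟩ := H29Ref.exists_isFreeOfRankNear_of_restrict F U hfree x hx
    obtain ⟨b⟩ := H8Props.FunDescent.stalkFree_of_isFreeOfRankNear F hF.1 hn
    exact hbij x (Module.Free.of_basis b)

end Groth.Agent.S1690
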