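import Groth.Statements.S16900
import Groth.Agent.H29Vanish.CyclicCover

set_option autoImplicit false
universe u
open Polynomial
open Vanish

namespace Groth.Agent.S16900

open Groth.Agent.H29Vanish in
/-- Powers of the root stay independent after inverting a nonzero element of the base. -/
theorem linearIndependent_root {B : Type u} [CommRing B] [IsDomain B] (g : B[X]) (hg : g.Monic)
    (f : B) (hf : f ≠ 0) (N : ℕ) (hN : g.natDegree = N) :
    LinearIndependent B fun i : Fin N =>
      algebraMap (AdjoinRoot g) (Localization.Away (algebraMap B (AdjoinRoot g) f))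
        (AdjoinRoot.root g) ^ (i : ℕ) := by
  subst hN
  rw [Fintype.linearIndependent_iff]
  intro b hb i
  have hbb := (AdjoinRoot.powerBasis' hg).basis.linearIndependent
  rw [Fintype.linearIndependent_iff] at hbb
  have h0 : algebraMap (AdjoinRoot g) (Localization.Away (algebraMap B (AdjoinRoot g) f))
      (∑ j : Fin g.natDegree, b j • AdjoinRoot.root g ^ (j : ℕ)) = 0 := by
    rw [map_sum, ← hb]
    refine Finset.sum_congr rfl fun j _ => ?_
    rw [Algebra.smul_def, Algebra.smul_def, map_mul, map_pow, ← IsScalarTower.algebraMap_apply]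
  obtain ⟨⟨_, m, rfl⟩, hm⟩ := (IsLocalization.map_eq_zero_iff
    (Submonoid.powers (algebraMap B (AdjoinRoot g) f)) _ _).mp h0
  have h1 : ∑ j : Fin g.natDegree, (f ^ m * b j) • AdjoinRoot.root g ^ (j : ℕ) = 0 := by
    rw [← hm, Finset.mul_sum]
    refine Finset.sum_congr rfl fun j _ => ?_
    simp [Algebra.smul_def, mul_assoc]
  have h2 := hbb (fun j => f ^ m * b j) (by rw [← h1]; exact Finset.sum_congr rfl fun j _ => by rw [PowerBasis.coe_basis, AdjoinRoot.powerBasis'_gen]) i
  exact (mul_eq_zero.mp h2).resolve_left (pow_ne_zero _ hf)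


/-- The localised cyclic algebra. -/
abbrev KK {B : Type u} [CommRing B] (g : B[X]) (f : B) : Type u :=
  Localization.Away (algebraMap B (AdjoinRoot g) f)

theorem main (k : Type u) [Field k]
    (B : Type u) [CommRing B] [IsDomain B] [Algebra k B] [Algebra.FiniteType k B]
    (hreg : ∀ (P : Ideal B) [P.IsPrime], IsRegularLocalRing (Localization.AtPrime P))
    (N : ℕ) (hN : 0 < N) (hNk : IsUnit ((N : ℕ) : k)) (u : Bˣ) (α : ℕ) (f₁ : B) (hf₁ : f₁ ≠ 0)
    (hD : ∀ (P : Ideal (B ⧸ Ideal.span ({f₁} : Set B))) [P.IsPrime], IsRegularLocalRing (Localization.AtPrime P))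
    (g : B[X]) (hg : g = X ^ N - C ((u : B) * f₁ ^ α))
    (A : Subalgebra B (KK g f₁))
    (hA : A = Algebra.adjoin B (Set.range fun i : Fin N =>
      algebraMap (AdjoinRoot g) (KK g f₁) (AdjoinRoot.root g ^ (i : ℕ)) *
      IsLocalization.Away.invSelf (S := KK g f₁)
        (algebraMap B (AdjoinRoot g) f₁) ^ ((i : ℕ) * α / N))) :
    Module.Finite B A ∧ IsIntegralClosure A (AdjoinRoot g) (KK g f₁) ∧
      ∀ (Q : Ideal A) [Q.IsPrime], IsRegularLocalRing (Localization.AtPrime Q) := by
  classical
  have : IsNoetherianRing B := Algebra.FiniteType.isNoetherianRing k B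
  have hNu : IsUnit ((N : ℕ) : B) := by simpa using hNk.map (algebraMap k B)
  have hgm : g.Monic := hg ▸ monic_X_pow_sub_C _ hN.ne'
  have hgd : g.natDegree = N := hg ▸ natDegree_X_pow_sub_C
  have hFu : IsUnit (algebraMap B (KK g f₁) f₁) := by
    rw [IsScalarTower.algebraMap_apply B (AdjoinRoot g) (KK g f₁)]
    exact IsLocalization.Away.algebraMap_isUnit _
  obtain ⟨F, hF⟩ := hFu
  obtain ⟨t, ht⟩ : ∃ t : (KK g f₁), t = algebraMap (AdjoinRoot g) (KK g f₁) (AdjoinRoot.root g) := ⟨_, rfl⟩
  have hroot : AdjoinRoot.root g ^ N = algebraMap B (AdjoinRoot g) ((u : B) * f₁ ^ α) := by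
    have h : AdjoinRoot.mk g g = 0 := AdjoinRoot.mk_self
    conv_lhs at h => arg 2; rw [hg]
    rw [map_sub] at h
    simpa [sub_eq_zero, AdjoinRoot.algebraMap_eq] using h
  have htN : t ^ N = algebraMap B (KK g f₁) ((u : B) * f₁ ^ α) := by
    rw [ht, ← map_pow, hroot, ← IsScalarTower.algebraMap_apply]
  obtain ⟨T, hT⟩ : IsUnit t := by
    rw [← isUnit_pow_iff hN.ne', htN, map_mul, map_pow, ← hF]
    exact (u.isUnit.map _).mul (F.isUnit.pow α)
  have hinv : IsLocalization.Away.invSelf (S := (KK g f₁)) (algebraMap B (AdjoinRoot g) f₁) =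
      ((F⁻¹ : (KK g f₁)ˣ) : (KK g f₁)) := by
    refine F.mul_right_inj.mp ?_
    rw [Units.mul_inv, hF, IsScalarTower.algebraMap_apply B (AdjoinRoot g) (KK g f₁)]
    exact IsLocalization.Away.mul_invSelf _
  have hA' : A = Algebra.adjoin B (Set.range (H29Vanish.gen T F N α)) := by
    rw [hA]
    congr 1
    refine congrArg Set.range (funext fun i => ?_)
    rw [hinv, H29Vanish.gen, H29Vanish.mono, map_pow, ← ht, ← hT, zpow_natCast, zpow_neg,
      zpow_natCast, ← inv_pow, Units.val_mul, Units.val_pow_eq_pow_val, Units.val_pow_eq_pow_val]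
  have hTN : (T : (KK g f₁)) ^ N = algebraMap B (KK g f₁) ((u : B) * f₁ ^ α) := by rw [hT, htN]
  have hli : LinearIndependent B fun i : Fin N => (T : (KK g f₁)) ^ (i : ℕ) := by
    rw [hT, ht]
    exact linearIndependent_root g hgm f₁ hf₁ N hgd
  have hfin := H29Vanish.finite_subalgebra T F N α u f₁ hN hF hTN A hA'
  have htA : t ∈ A := by
    have := H29Vanish.mono_mem T F N α u f₁ hN hF hTN A hA' 1 0 (by simp)
    simpa [H29Vanish.mono, hT] using this
  have hrange : ∀ a : AdjoinRoot g, algebraMap (AdjoinRoot g) (KK g f₁) a ∈ A := by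
    intro a
    induction a using AdjoinRoot.induction_on with
    | _ p =>
      rw [← AdjoinRoot.aeval_eq, ← Polynomial.aeval_algebraMap_apply]
      exact Algebra.adjoin_le (Set.singleton_subset_iff.mpr (ht ▸ htA))
        (Polynomial.aeval_mem_adjoin_singleton B _)
  have hcl : ∀ x : (KK g f₁), ∃ m : ℕ, x * (F : (KK g f₁)) ^ m ∈ A := by
    intro x
    obtain ⟨m, a, ha⟩ := IsLocalization.Away.surj (algebraMap B (AdjoinRoot g) f₁) x
    refine ⟨m, ?_⟩
    rw [hF, IsScalarTower.algebraMap_apply B (AdjoinRoot g) (KK g f₁), ha]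
    exact hrange a
  refine ⟨hfin, ⟨Subtype.val_injective, ?_⟩, fun Q _ =>
    H29Vanish.isRegularLocalRing_atPrime T F N α u f₁ hN hF hTN A hA' hreg hNu hf₁ hD hli Q⟩
  intro x
  constructor
  · rintro ⟨p, hpm, hpx⟩
    refine ⟨⟨x, H29Vanish.exists_eq_of_isIntegral T F N α u f₁ hN hF hTN A hA' hreg hNu hf₁ hD hli
      hcl x ?_⟩, rfl⟩
    let j : AdjoinRoot g →+* A := (algebraMap (AdjoinRoot g) (KK g f₁)).codRestrict A hrange
    exact ⟨p.map j, hpm.map j, by rw [Polynomial.eval₂_map]; exact hpx⟩
  · rintro ⟨y, rfl⟩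
    have h : IsIntegral B (y : (KK g f₁)) := (Algebra.IsIntegral.isIntegral (R := B) y).map A.val
    exact IsIntegral.tower_top h



/-- Let k be an algebraically closed field and B an integral domain of finite type over k all of whose
localizations at primes are regular (an affine open Spec B of a manifold); let N ≥ 1 be invertible
in k, u a unit of B, α a natural number and f₁ ≠ 0 an element of B such that all local rings of
B/f₁B are regular (the divisor D₁ = V(f₁) is non-singular; f₁ may be a unit). With A' = B[t]/(t^N −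
u·f₁^α) (the algebra of the N-th root of the section u·f₁^α) and K = A'[1/f₁], let A ⊆ K be the
B-subalgebra generated by the N elements t^i · f₁^(−⌊iα/N⌋), 0 ≤ i < N. Then A is finite over B, A
is the integral closure of A' in K (Spec A is the normalization of Spec A', finite and normal over
Spec B), and Spec A is non-singular: every localization of A at a prime ideal is a regular local
ring. -/
theorem result (k : Type u) [Field k] [IsAlgClosed k]
    (B : Type u) [CommRing B] [IsDomain B] [Algebra k B] [Algebra.FiniteType k B]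
    (hreg : ∀ (P : Ideal B) [P.IsPrime], IsRegularLocalRing (Localization.AtPrime P))
    (N : ℕ) (hN : 0 < N) (hNk : IsUnit ((N : ℕ) : k)) (u : Bˣ) (α : ℕ) (f₁ : B) (hf₁ : f₁ ≠ 0)
    (hD : ∀ (P : Ideal (B ⧸ Ideal.span ({f₁} : Set B))) [P.IsPrime], IsRegularLocalRing (Localization.AtPrime P))
    (A : Subalgebra B (Localization.Away
      (algebraMap B (AdjoinRoot (X ^ N - C ((u : B) * f₁ ^ α) : B[X])) f₁)))
    (hA : A = Algebra.adjoin B (Set.range fun i : Fin N =>
      algebraMap (AdjoinRoot (X ^ N - C ((u : B) * f₁ ^ α) : B[X])) (Localization.Away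
        (algebraMap B (AdjoinRoot (X ^ N - C ((u : B) * f₁ ^ α) : B[X])) f₁))
        (AdjoinRoot.root (X ^ N - C ((u : B) * f₁ ^ α) : B[X]) ^ (i : ℕ)) *
      IsLocalization.Away.invSelf (S := Localization.Away
        (algebraMap B (AdjoinRoot (X ^ N - C ((u : B) * f₁ ^ α) : B[X])) f₁))
        (algebraMap B (AdjoinRoot (X ^ N - C ((u : B) * f₁ ^ α) : B[X])) f₁) ^ ((i : ℕ) * α / N))) :
    Module.Finite B A ∧
      IsIntegralClosure A (AdjoinRoot (X ^ N - C ((u : B) * f₁ ^ α) : B[X]))
        (Localization.Away (algebraMap B (AdjoinRoot (X ^ N - C ((u : B) * f₁ ^ α) : B[X])) f₁)) ∧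
      ∀ (Q : Ideal A) [Q.IsPrime], IsRegularLocalRing (Localization.AtPrime Q) := by
  exact main k B hreg N hN hNk u α f₁ hf₁ hD _ rfl A hA

end Groth.Agent.S16900
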