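import Groth.Statements.S16903
import Groth.Agent.H11Big.NumDim
import Groth.Agent.H13AlgSp.EtaleLocally

set_option autoImplicit false
set_option linter.style.haveILetI false
universe u
open CategoryTheory CategoryTheory.Limits AlgebraicGeometry
open Vanish

namespace Groth.Agent.S16903

/-- Let k be an algebraically closed field of characteristic zero and X an irreducible proper smooth
k-scheme of dimension n with an ample invertible O_X-module (a projective manifold); let L be a
numerically effective invertible O_X-module with tensor inverse L⁻¹ and m a natural number such that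
c_1(L)^m is numerically trivial, i.e. the intersection number (L^m · V) = ∫ c_1(L)^m [O_V] vanishes
for every integral closed subscheme V ⊆ X of dimension m. Then κ(L) < m, in the growth form: there
are no ν > 0 and a > 0 with μ^m ≤ a · dim_k H^0(X, L^⊗νμ) for all μ ≥ 1. (This expresses ν(L) ≥
κ(L); only the characteristic-zero case is stated.) -/
theorem result (k : Type u) [Field k] [IsAlgClosed k] [CharZero k]
    (X : Scheme.{u}) [X.Over (Spec (CommRingCat.of k))] [IsProper (X ↘ Spec (CommRingCat.of k))]
    [Smooth (X ↘ Spec (CommRingCat.of k))] [IrreducibleSpace X] (n : ℕ) (hn : topologicalKrullDim X = n)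
    (H : X.Modules) (hH : CohB1.IsAmple H) (L Linv : X.Modules) (hL : PicF.IsInvertible L) (hLinv : ClSub.IsInverseOf Linv L)
    (hnef : (∀ (Y : Scheme.{u}) (i : Y ⟶ X) [IsClosedImmersion i], IsIntegral Y → topologicalKrullDim Y = 1 →
      0 ≤ Pic13.curveDeg k (i ≫ (X ↘ Spec (CommRingCat.of k))) ((Scheme.Modules.pullback i).obj L)))
    (m : ℕ) (hm : (∀ (V : Scheme.{u}) (i : V ⟶ X) [IsClosedImmersion i], IsIntegral V → topologicalKrullDim V = (m : ℕ) →
      FGA.intNum k X n (fun _ : Fin m => Linv) ((Scheme.Modules.pushforward i).obj (Coh.structureModule V)) = 0)) :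
    ¬ (∃ ν a : ℕ, 0 < ν ∧ 0 < a ∧ ∀ μ : ℕ, 1 ≤ μ →
        μ ^ m ≤ a * Module.finrank k (Coh.HH X (CohB1.tensorPow L (ν * μ)) 0)) := by
  haveI : AlgebraicGeometry.IsReduced X :=
    Groth.Agent.H13AlgSp.isReduced_of_smooth_mor (X ↘ Spec (CommRingCat.of k))
  haveI : IsIntegral X := isIntegral_of_irreducibleSpace_of_isReduced X
  haveI := Groth.Agent.H28Int.isNoetherian k (X := X)
  have hLi := Groth.Agent.H11Big.isInvertible_of_isInverseOf hL hLinv
  obtain ⟨e⟩ := hLinv
  have hz : ∀ (Z : Scheme.{u}) (i : Z ⟶ X) [IsClosedImmersion i], IsIntegral Z → topologicalKrullDim Z = (m : ℕ) →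
      Groth.Agent.H28Int.D k (List.replicate m L) ((Scheme.Modules.pushforward i).obj (Coh.structureModule Z)) = 0 := by
    intro Z i _ hZ hd
    haveI := hZ
    have hP : Coh.IsCoh ((Coh.push i).obj (Coh.structureModule Z)) := Groth.Agent.LeadDev.isCoh_push_structure i
    have h0 := hm Z i hZ hd
    rw [Groth.Agent.H28Int.intNum_eq k hn.le _ (fun _ => hLi) (by exact hP), List.ofFn_const] at h0
    rw [Groth.Agent.H22Alg.DegAmple.D_replicate k hL hLi (Groth.Agent.H10Coh.Tw.commIso L Linv ≪≫ e) m _ (by exact hP)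
      (le_trans (Groth.Agent.H28Int.dim_le_of_subset (Groth.Agent.H28Int.support_push_structure_eq i).le)
        (le_of_eq (i.isClosedEmbedding.isEmbedding.toHomeomorph.isHomeomorph.topologicalKrullDim_eq.symm.trans hd))),
      h0, mul_zero]
  have hnegl := Groth.Agent.H11Big.negl_of_vanish k hH hL ((Groth.Agent.H12Pic.NefBC.nef_iff_curveDeg k hL).2 hnef) hz
    (Groth.Agent.H10Coh.isCoh_structureModule' X)
  rintro ⟨ν, a, hν, -, h⟩
  have h0 : Groth.Agent.H22Alg.VolLimsup.vol m
      (fun j => Groth.Agent.H25Index.hd k (CohB1.tensorPow L j) 0) = 0 :=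
    Groth.Agent.H11Big.negl_of_le (fun j _ =>
      (Groth.Agent.H25Index.hd_congr (Groth.Agent.H10Coh.Tw.leftUnitIso _) 0).ge) hnegl
  exact (Groth.Agent.H11Big.vol_pos_of_multiples
    (f := fun j => Groth.Agent.H25Index.hd k (CohB1.tensorPow L j) 0) hν h).ne' h0

end Groth.Agent.S16903
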