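import Groth.Statements.S16904
import Groth.Agent.H11Big.Semiample
import Groth.Agent.H13AlgSp.EtaleLocally

set_option autoImplicit false
set_option linter.style.haveILetI false
universe u
open CategoryTheory CategoryTheory.Limits AlgebraicGeometry
open Vanish

namespace Groth.Agent.S16904

/-- Let k be an algebraically closed field of characteristic zero and X an irreducible proper smooth
k-scheme of dimension n with an ample invertible O_X-module (a projective manifold); let L be a
semi-ample invertible O_X-module (some L^⊗μ with μ > 0 is globally generated; such L is numerically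
effective) with tensor inverse L⁻¹. Then for every natural number m, c_1(L)^m is numerically trivial
— (L^m · V) = 0 for every integral closed subscheme V ⊆ X of dimension m — if and only if κ(L) < m
in the growth form: there are no ν > 0 and a > 0 with μ^m ≤ a · dim_k H^0(X, L^⊗νμ) for all μ ≥ 1.
(This expresses ν(L) = κ(L) for semi-ample L; characteristic zero only.) -/
theorem result (k : Type u) [Field k] [IsAlgClosed k] [CharZero k]
    (X : Scheme.{u}) [X.Over (Spec (CommRingCat.of k))] [IsProper (X ↘ Spec (CommRingCat.of k))]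
    [Smooth (X ↘ Spec (CommRingCat.of k))] [IrreducibleSpace X] (n : ℕ) (hn : topologicalKrullDim X = n)
    (H : X.Modules) (hH : CohB1.IsAmple H) (L Linv : X.Modules) (hL : PicF.IsInvertible L) (hLinv : ClSub.IsInverseOf Linv L)
    (hsa : ∃ μ : ℕ, 0 < μ ∧ Curv2.IsGloballyGenerated (CohB1.tensorPow L μ))
    (m : ℕ) :
    (∀ (V : Scheme.{u}) (i : V ⟶ X) [IsClosedImmersion i], IsIntegral V → topologicalKrullDim V = (m : ℕ) →
      FGA.intNum k X n (fun _ : Fin m => Linv) ((Scheme.Modules.pushforward i).obj (Coh.structureModule V)) = 0) ↔ ¬ (∃ ν a : ℕ, 0 < ν ∧ 0 < a ∧ ∀ μ : ℕ, 1 ≤ μ →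
        μ ^ m ≤ a * Module.finrank k (Coh.HH X (CohB1.tensorPow L (ν * μ)) 0)) := by
  haveI : AlgebraicGeometry.IsReduced X :=
    Groth.Agent.H13AlgSp.isReduced_of_smooth_mor (X ↘ Spec (CommRingCat.of k))
  haveI : IsIntegral X := isIntegral_of_irreducibleSpace_of_isReduced X
  haveI := Groth.Agent.H28Int.isNoetherian k (X := X)
  have hLi := Groth.Agent.H11Big.isInvertible_of_isInverseOf hL hLinv
  obtain ⟨e⟩ := hLinv
  obtain ⟨ν, hν, hgg⟩ := hsa
  have hnef := Groth.Agent.H11Big.nef_of_semiample k hH hL hν hgg
  have hdim : ∀ (Z : Scheme.{u}) (i : Z ⟶ X) [IsClosedImmersion i] [IsIntegral Z], topologicalKrullDim Z = (m : ℕ) →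
      FGA.intNum k X n (fun _ : Fin m => Linv) ((Scheme.Modules.pushforward i).obj (Coh.structureModule Z)) =
        (-1 : ℤ) ^ m * Groth.Agent.H28Int.D k (List.replicate m L) ((Scheme.Modules.pushforward i).obj (Coh.structureModule Z)) := by
    intro Z i _ _ hd
    have hP : Coh.IsCoh ((Coh.push i).obj (Coh.structureModule Z)) := Groth.Agent.LeadDev.isCoh_push_structure i
    rw [Groth.Agent.H28Int.intNum_eq k hn.le _ (fun _ => hLi) (by exact hP), List.ofFn_const,
      Groth.Agent.H22Alg.DegAmple.D_replicate k hL hLi (Groth.Agent.H10Coh.Tw.commIso L Linv ≪≫ e) m _ (by exact hP)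
      (le_trans (Groth.Agent.H28Int.dim_le_of_subset (Groth.Agent.H28Int.support_push_structure_eq i).le)
        (le_of_eq (i.isClosedEmbedding.isEmbedding.toHomeomorph.isHomeomorph.topologicalKrullDim_eq.symm.trans hd))),
      ← mul_assoc, ← pow_add, ← two_mul, pow_mul, neg_one_sq, one_pow, one_mul]
  constructor
  · intro hm
    have hnegl := Groth.Agent.H11Big.negl_of_vanish k hH hL hnef (m := m) (fun Z i _ hZ hd => by
      haveI := hZ
      have h0 := hm Z i hZ hd
      rw [hdim Z i hd] at h0
      exact (mul_eq_zero.1 h0).resolve_left (by simp)) (Groth.Agent.H10Coh.isCoh_structureModule' X)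
    rintro ⟨ν', a, hν', -, h⟩
    have h0 : Groth.Agent.H22Alg.VolLimsup.vol m
        (fun j => Groth.Agent.H25Index.hd k (CohB1.tensorPow L j) 0) = 0 :=
      Groth.Agent.H11Big.negl_of_le (fun j _ =>
        (Groth.Agent.H25Index.hd_congr (Groth.Agent.H10Coh.Tw.leftUnitIso _) 0).ge) hnegl
    exact (Groth.Agent.H11Big.vol_pos_of_multiples
      (f := fun j => Groth.Agent.H25Index.hd k (CohB1.tensorPow L j) 0) hν' h).ne' h0
  · intro hno Z i _ hZ hd
    haveI := hZ
    have h0 : Groth.Agent.H28Int.D k (List.replicate m L)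
        ((Scheme.Modules.pushforward i).obj (Coh.structureModule Z)) = 0 :=
      Groth.Agent.H11Big.D_eq_zero_of_semiample k hL hν hgg hno i hd
    rw [hdim Z i hd, h0, mul_zero]

end Groth.Agent.S16904
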