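import Groth.Statements.S16909
import Groth.Agent.H11Aff.GGNonvanish
import Groth.Agent.H11Aff.CounitQAffConv

set_option autoImplicit false
set_option linter.style.haveILetI false
universe u
open CategoryTheory CategoryTheory.Limits AlgebraicGeometry Opposite TopologicalSpace
open ResProp Groth.Agent.H11Tilde Groth.Agent.H11Ample

namespace Groth.Agent.S16909

/-- Let `X` be a quasi-compact and quasi-separated scheme on which every quasi-coherent module is
globally generated (a quotient of a free module on some index type, i.e. the structure sheaf is a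
generating family). Then `X` is quasi-affine. No separatedness hypothesis is made; it follows. (The
published statement is for an algebraic stack over an algebraic space with affine stabilizer groups
at closed points and concludes that it is representable by a quasi-affine morphism; that general
case rests on results outside this text, and this row is the final step of its proof, the case of a
scheme.) -/
theorem result (X : Scheme.{u}) [CompactSpace X]
    [QuasiSeparatedSpace X] (h : ∀ M : X.Modules, Coh.IsQCoh M → Curv2.IsGloballyGenerated M) :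
    X.IsQuasiAffine := by
  refine Scheme.IsQuasiAffine.of_forall_exists_mem_basicOpen _ fun x => ?_
  obtain ⟨_, ⟨U, hU : IsAffineOpen U, rfl⟩, hxU, -⟩ :=
    X.isBasis_affineOpens.exists_subset_of_mem_open (Set.mem_univ x) isOpen_univ
  let Z : TopologicalSpace.Closeds X := ⟨(U : Set X)ᶜ, U.isOpen.isClosed_compl⟩
  let I : X.IdealSheafData := Scheme.IdealSheafData.vanishingIdeal Z
  have h1 : (1 : Γ(X, U)) ∈ I.ideal ⟨U, hU⟩ := by
    rw [Scheme.IdealSheafData.vanishingIdeal_ideal]
    have : hU.fromSpec ⁻¹' (Z : Set X) = ∅ := by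
      ext p
      refine iff_of_false (fun hp => hp ?_) id
      exact hU.range_fromSpec.le ⟨p, rfl⟩
    exact (PrimeSpectrum.mem_vanishingIdeal _ _).2 fun p hp => absurd (this.le hp) (Set.notMem_empty p)
  obtain ⟨m, hm⟩ := (H29Blow.mem_ideal_iff_exists_idealSect I hU 1).1 h1
  have hm' : (ClSub.idealModι I).app U m = one U := hm
  obtain ⟨g, hxg⟩ := H11Aff.exists_mem_gen_app
    (h (ClSub.idealMod I) (H17.OmegaLocal.isQuasicoherent_idealMod I)) (ClSub.idealModι I) hxU m
    (by rw [hm']; exact isGen_one U)
  let a : Γ(X, ⊤) := OmegaSh.idealSect I ⊤ g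
  have hxa : x ∈ X.basicOpen a := by
    have := gen_inf_eq_basicOpen (isGen_one (⊤ : X.Opens)) ((ClSub.idealModι I).app ⊤ g) a
    have hy := (this (by
      rw [show (homOfLE (le_top : (⊤ : X.Opens) ≤ ⊤)).op = 𝟙 _ from rfl,
        CategoryTheory.Functor.map_id]
      exact (mul_one a).symm)).le ⟨hxg, trivial⟩
    exact hy
  have hle : X.basicOpen a ≤ U := by
    intro y hy
    by_contra hyU
    obtain ⟨_, ⟨V, hV : IsAffineOpen V, rfl⟩, hyV, -⟩ :=
      X.isBasis_affineOpens.exists_subset_of_mem_open (Set.mem_univ y) isOpen_univ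
    have hmem : X.presheaf.map (homOfLE (le_top : V ≤ ⊤)).op a ∈ I.ideal ⟨V, hV⟩ :=
      (H29Blow.mem_ideal_iff_exists_idealSect I hV _).2
        ⟨(ClSub.idealMod I).presheaf.map (homOfLE (le_top : V ≤ ⊤)).op g, H29Blow.idealSect_res I _ g⟩
    rw [Scheme.IdealSheafData.vanishingIdeal_ideal, PrimeSpectrum.mem_vanishingIdeal] at hmem
    obtain ⟨p, hp⟩ := hV.range_fromSpec.ge hyV
    have hyb : hV.fromSpec p ∈ X.basicOpen (X.presheaf.map (homOfLE (le_top : V ≤ ⊤)).op a) := by
      rw [hp, Scheme.basicOpen_res]
      exact ⟨hyV, hy⟩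
    have hpb : p ∈ hV.fromSpec ⁻¹ᵁ
        X.basicOpen (X.presheaf.map (homOfLE (le_top : V ≤ ⊤)).op a) := hyb
    rw [hV.fromSpec_preimage_basicOpen] at hpb
    exact hpb (hmem p (by show hV.fromSpec p ∈ (Z : Set X); rw [hp]; exact hyU))
  refine ⟨a, ?_, hxa⟩
  have e : X.basicOpen (X.presheaf.map (homOfLE (le_top : U ≤ ⊤)).op a) = X.basicOpen a := by
    rw [Scheme.basicOpen_res]; exact inf_eq_right.2 hle
  exact e ▸ hU.basicOpen _

end Groth.Agent.S16909
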