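import Groth.Statements.S16914
import Groth.Agent.H14AlgSt.FieldTrivial

set_option autoImplicit false
set_option backward.isDefEq.respectTransparency false
set_option backward.isDefEq.respectTransparency.types false
universe u
open CategoryTheory CategoryTheory.Limits AlgebraicGeometry
open ResProp

namespace Groth.Agent.S16914

open CategoryTheory Functor
open Groth.Agent.H14AlgSt Groth.Agent.H14Fib Groth.Agent.H14Stk

/-- Let `𝒳` be an algebraic stack over `S` (fppf topology) whose diagonal is representable by algebraic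
spaces, separated and quasi-compact. Then `𝒳` is representable by an algebraic space over `S` if and
only if its stabilizer groups vanish at all geometric points: whenever `x` is an object of `𝒳` whose
scheme is the spectrum of an algebraically closed field, `ξ` an object with a morphism to `x` (a
pullback of `x` to some scheme) and `σ` an endomorphism of `ξ` lying over the identity, `σ` is the
identity. -/
theorem result (S : Scheme.{u}) (𝒳 : AlgSt.Cat S)
    (h𝒳 : AlgSt.IsAlgStack Scheme.fppfPrecoverage 𝒳)
    (hΔ : AlgSt.RepByAlgSpWith (AlgSp.IsSeparatedMor ⊓ AlgSp.IsQuasiCompactMor) (FibCat.diag (FibCat.toSelf 𝒳))) :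
    AlgSt.RepByAlgSp 𝒳 ↔
      ∀ (k : Type u) [Field k] [IsAlgClosed k] (x : 𝒳.obj) (e : (𝒳.p.obj x).left ≅ Spec (CommRingCat.of k))
        (ξ : 𝒳.obj) (φ : ξ ⟶ x) (σ : ξ ⟶ ξ), 𝒳.p.map σ = 𝟙 (𝒳.p.obj ξ) → σ = 𝟙 ξ := by
  constructor
  · intro h k _ _ x e ξ φ σ hσ
    have := faithful_of_fibSetoid (isFibSetoid_of_rep h)
    exact 𝒳.p.map_injective (hσ.trans (𝒳.p.map_id _).symm)
  · intro h
    refine repByAlgSp_of_fibSetoid h𝒳 (isFibSetoid_of_fieldTrivial h𝒳 fun k _ _ sk x T _ σ hσ => ?_)
    let t : Over (Over.mk sk) := Over.mk (𝟙 (Over.mk sk))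
    let φ : T ⟶ t := Over.homMk T.hom (by simp [t])
    exact h k (x.obj t) (eqToIso (congrArg CategoryTheory.Comma.left (x.w_obj t))) (x.obj T)
      (x.map φ) σ hσ

end Groth.Agent.S16914
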