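import Groth.Statements.S16917
import Mathlib
import Groth.Agent.H22Alg.VeryGeneral
import Groth.Agent.H17.Reduced
import Groth.Agent.H22Alg.FibreCount

set_option autoImplicit false
open CategoryTheory AlgebraicGeometry
universe u
open Variety

namespace Groth.Agent.S16917

/-- Let k be an uncountable algebraically closed field, X a k-scheme of finite type and Z₀, Z₁, …
countably many closed subsets of X. Then the countable union of the Zₙ, read through closed points,
has a unique irredundant decomposition: there is exactly one countable family S of irreducible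
closed subsets of X, pairwise not contained in one another, such that a closed point of X lies in
some member of S if and only if it lies in some Zₙ. (The published statement is the existence and
uniqueness of the irredundant decomposition of a countable union of algebraic varieties into
c-components, a variety being read through its closed points; with all points of the scheme the
uniqueness would not need the uncountable field.) -/
theorem result (k : Type u) [Field k] [IsAlgClosed k]
    [Uncountable k] (X : Scheme.{u}) (sX : X ⟶ Spec (CommRingCat.of k)) [LocallyOfFiniteType sX]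
    [QuasiCompact sX] (Z : ℕ → TopologicalSpace.Closeds X) :
    ∃! S : Set (TopologicalSpace.Closeds X), S.Countable ∧ (∀ T ∈ S, IsIrreducible (T : Set X)) ∧
      IsAntichain (· ≤ ·) S ∧
      {x : X | IsClosed ({x} : Set X) ∧ ∃ T ∈ S, x ∈ T} =
        {x : X | IsClosed ({x} : Set X) ∧ ∃ n, x ∈ Z n} := by
  haveI : IsLocallyNoetherian X := LocallyOfFiniteType.isLocallyNoetherian sX
  haveI : CompactSpace X := QuasiCompact.compactSpace_of_compactSpace sX
  haveI : IsNoetherian X := ⟨⟩
  haveI : TopologicalSpace.NoetherianSpace X := inferInstance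
  -- the countable family of all components of all `Z n`
  have hfin : ∀ n, ∃ s : Finset (TopologicalSpace.IrreducibleCloseds X), (Z n : Set X) = ⋃ T ∈ s, (T : Set X) := fun n => by
    obtain ⟨s, hs⟩ := TopologicalSpace.NoetherianSpace.exists_finite_set_isClosed_irreducible (Z n).isClosed
    obtain ⟨hsf, hsc, hsi, hsU⟩ := hs
    haveI := hsf.fintype
    refine ⟨(Finset.univ : Finset s).map ⟨fun T => ⟨T.1, hsi T.1 T.2, hsc T.1 T.2⟩, fun a b h => Subtype.ext (congrArg (fun U : TopologicalSpace.IrreducibleCloseds X => (U : Set X)) h)⟩, ?_⟩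
    rw [hsU]
    ext x
    simp
    exact ⟨fun ⟨t, ht, hx⟩ => ⟨t, ht, hx⟩, fun ⟨t, ht, hx⟩ => ⟨t, ht, hx⟩⟩
  choose s hs using hfin
  let C : Set (TopologicalSpace.IrreducibleCloseds X) := ⋃ n, (s n : Set _)
  have hC : C.Countable := Set.countable_iUnion fun n => (s n).countable_toSet
  -- an irreducible closed set whose closed points are covered lies in a member
  have key : ∀ (T : TopologicalSpace.Closeds X), IsIrreducible (T : Set X) →
      ∀ S : Set (TopologicalSpace.Closeds X), S.Countable →
      (∀ x ∈ T, IsClosed ({x} : Set X) → ∃ U ∈ S, x ∈ U) → ∃ U ∈ S, T ≤ U := by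
    intro T hT S hS hcov
    by_contra hne
    simp only [not_exists, not_and] at hne
    haveI := hS.to_subtype
    let J := Scheme.IdealSheafData.vanishingIdeal T
    have hr : Set.range J.subschemeι = (T : Set X) := H17.range_vanishingIdeal_subschemeι T
    haveI : IrreducibleSpace J.subscheme := by
      obtain ⟨t, ht⟩ : hT.genericPoint ∈ Set.range J.subschemeι := by
        rw [hr]; exact (hT.closure_genericPoint T.isClosed).le (subset_closure rfl)
      refine (irreducibleSpace_def _).2 ?_
      have h1 : closure ({t} : Set J.subscheme) = Set.univ := Set.eq_univ_of_forall fun y => by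
        refine (J.subschemeι.isEmbedding.isInducing.specializes_iff.1 ?_).mem_closure
        rw [ht, specializes_iff_mem_closure, hT.closure_genericPoint T.isClosed]
        exact hr ▸ Set.mem_range_self y
      exact (show IsIrreducible (Set.univ : Set J.subscheme) from h1 ▸ isIrreducible_singleton.closure)
    obtain ⟨e, he⟩ : ∃ e : ℕ → Option S, Function.Surjective e := exists_surjective_nat _
    obtain ⟨y, -, hy, hy'⟩ := H22Alg.VeryGeneral.exists_closed_point k (J.subschemeι ≫ sX) ⊤
      ⟨genericPoint J.subscheme, trivial⟩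
      (fun n => (e n).elim ⊥ fun U => ⟨J.subschemeι ⁻¹' (U.1 : Set X), U.1.isClosed.preimage J.subschemeι.continuous⟩)
      (fun n hn => by
        rcases hen : e n with _ | U <;> simp only [hen, Option.elim] at hn
        · exact absurd (hn.symm ▸ Set.mem_univ (genericPoint J.subscheme)) (Set.notMem_empty _)
        · refine hne U.1 U.2 fun x hx => ?_
          obtain ⟨z, rfl⟩ : x ∈ Set.range J.subschemeι := hr.symm ▸ hx
          exact hn.ge (Set.mem_univ z))
    have hyc : IsClosed ({J.subschemeι y} : Set X) := by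
      have := J.subschemeι.isClosedMap _ hy
      rwa [Set.image_singleton] at this
    obtain ⟨U, hU, hyU⟩ := hcov _ (show J.subschemeι y ∈ (T : Set X) from hr.le (Set.mem_range_self y)) hyc
    obtain ⟨n, hn⟩ := he (some ⟨U, hU⟩)
    refine hy' n ?_
    simp only [hn, Option.elim]
    exact hyU
  have hup : ∀ A ∈ C, ∃ B ∈ C, (A : Set X) ⊆ B ∧ ∀ B' ∈ C, (B : Set X) ⊆ B' → (B' : Set X) ⊆ B := by
    intro A hA
    haveI : Nonempty X := ⟨A.2.genericPoint⟩
    let P : ℕ → Prop := fun m => ∃ B ∈ C, (A : Set X) ⊆ B ∧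
      H8Props.FieldDim.cdim B.2.genericPoint = m
    obtain ⟨η, -, hdim⟩ := H22Alg.FibreCount.exists_dim_eq sX
    obtain ⟨N, hN⟩ := H22Alg.FibreCount.cdim_natCast sX η
    have hle : ∀ x : X, ∀ m : ℕ, H8Props.FieldDim.cdim x = m → m ≤ N := fun x m hm => by
      have h : H8Props.FieldDim.cdim x ≤ topologicalKrullDim X :=
        Topology.IsInducing.subtypeVal.topologicalKrullDim_le
      rw [hdim, hN, hm] at h
      exact_mod_cast h
    obtain ⟨m₀, hm₀⟩ := H22Alg.FibreCount.cdim_natCast sX A.2.genericPoint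
    classical
    obtain ⟨B, hB, hAB, hBm⟩ := Nat.findGreatest_spec (P := P) (n := N) (hle _ _ hm₀)
      ⟨A, hA, subset_rfl, hm₀⟩
    refine ⟨B, hB, hAB, fun B' hB' hBB' => ?_⟩
    obtain ⟨m', hm'⟩ := H22Alg.FibreCount.cdim_natCast sX B'.2.genericPoint
    have hgB := B.2.closure_genericPoint B.3
    have hgB' := B'.2.closure_genericPoint B'.3
    by_contra hnot
    have hsp : B'.2.genericPoint ⤳ B.2.genericPoint := specializes_iff_mem_closure.2 (by
      rw [hgB']; exact hBB' (hgB.le (subset_closure rfl)))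
    have hlt := H8Props.FieldDim.cdim_lt sX hsp fun e => hnot (hgB'.ge.trans ((congrArg (fun z => closure ({z} : Set X)) e).le.trans hgB.le))
    rw [hBm, hm'] at hlt
    have hlt' : Nat.findGreatest P N < m' := by exact_mod_cast hlt
    exact absurd (Nat.le_findGreatest (hle _ _ hm') (show P m' from ⟨B', hB', hAB.trans hBB', hm'⟩)) (not_le.2 hlt')
  let M : Set (TopologicalSpace.Closeds X) :=
    {T | ∃ A ∈ C, (A : Set X) = T ∧ ∀ B ∈ C, (A : Set X) ⊆ B → (B : Set X) ⊆ A}
  have hMirr : ∀ T ∈ M, IsIrreducible (T : Set X) := by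
    rintro T ⟨A, -, h, -⟩
    exact h ▸ A.2
  have hMc : M.Countable := (hC.image fun A => (⟨A, A.3⟩ : TopologicalSpace.Closeds X)).mono
    fun (T : TopologicalSpace.Closeds X) hT => by
      obtain ⟨A, hA, h, -⟩ := hT
      exact ⟨A, hA, TopologicalSpace.Closeds.ext h⟩
  have hanti : IsAntichain (· ≤ ·) M := by
    rintro T ⟨A, -, hA, hAmax⟩ T' ⟨A', hA', hA'', -⟩ hne hle
    refine hne (TopologicalSpace.Closeds.ext (Set.Subset.antisymm hle ?_))
    rw [← hA, ← hA'']
    refine hAmax A' hA' ?_
    rw [hA, hA'']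
    exact hle
  have hMcov : {x : X | IsClosed ({x} : Set X) ∧ ∃ T ∈ M, x ∈ T} =
      {x : X | IsClosed ({x} : Set X) ∧ ∃ n, x ∈ Z n} := by
    ext x
    refine and_congr_right fun hx => ⟨?_, ?_⟩
    · rintro ⟨T, ⟨A, hA, hAT, -⟩, hxT⟩
      obtain ⟨n, hn⟩ := Set.mem_iUnion.1 hA
      exact ⟨n, show x ∈ (Z n : Set X) from (hs n).symm ▸ Set.mem_biUnion hn (hAT.symm ▸ hxT)⟩
    · rintro ⟨n, hn⟩
      have hn' : x ∈ (Z n : Set X) := hn
      rw [hs n] at hn'
      obtain ⟨A, hA, hxA⟩ := Set.mem_iUnion₂.1 hn'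
      obtain ⟨B, hBC, hAB, hmax⟩ := hup A (Set.mem_iUnion.2 ⟨n, hA⟩)
      exact ⟨⟨B, B.3⟩, ⟨B, hBC, rfl, hmax⟩, hAB hxA⟩
  refine ⟨M, ⟨hMc, hMirr, hanti, hMcov⟩, ?_⟩
  rintro S' ⟨hSc, hSi, hSa, hScov⟩
  have h1 : ∀ T ∈ S', ∃ U ∈ M, T ≤ U := fun T hT => key T (hSi T hT) M hMc fun x hx hxc =>
    ((Set.ext_iff.1 (hScov.trans hMcov.symm) x).1 ⟨hxc, T, hT, hx⟩).2
  have h2 : ∀ T ∈ M, ∃ U ∈ S', T ≤ U := fun T hT => key T (hMirr T hT) S' hSc fun x hx hxc =>
    ((Set.ext_iff.1 (hScov.trans hMcov.symm) x).2 ⟨hxc, T, hT, hx⟩).2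
  refine Set.Subset.antisymm (fun T hT => ?_) (fun T hT => ?_)
  · obtain ⟨U, hU, hTU⟩ := h1 T hT
    obtain ⟨T', hT', hUT'⟩ := h2 U hU
    have e : T = T' := hSa.eq hT hT' (hTU.trans hUT')
    rwa [le_antisymm hTU (hUT'.trans e.ge)]
  · obtain ⟨U, hU, hTU⟩ := h2 T hT
    obtain ⟨T', hT', hUT'⟩ := h1 U hU
    have e : T = T' := hanti.eq hT hT' (hTU.trans hUT')
    rwa [le_antisymm hTU (hUT'.trans e.ge)]

end Groth.Agent.S16917
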