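import Groth.Statements.S16919
import Groth.Agent.H3CAlg.EquivAlgClosed
import Mathlib.RingTheory.Flat.Basic
import Mathlib.RingTheory.FiniteStability
-- import your own Groth.Agent.* helpers here

set_option autoImplicit false
universe u
open TensorProduct
open CAlg

namespace Groth.Agent.S16919

/-- Let k₀ → k be an extension of fields with k algebraically closed and of infinite transcendence
degree over k₀, R₀ a finitely generated k₀-algebra whose base change R = k ⊗ R₀ is an integral
domain (so Spec R is an integral affine k-scheme of finite type with the model Spec R₀ over k₀), and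
P a k-point of Spec R, i.e. a k-algebra homomorphism ev : R → k, lying over the generic point of
Spec R₀, i.e. with ev injective on R₀. Then there is a field isomorphism e from an algebraic closure
of the fraction field of R (the function field of Spec R) onto k such that e(1 ⊗ r) = ev(1 ⊗ r) for
every r in R₀: e extends evaluation at P on R₀. (The published setting has k algebraically closed of
characteristic zero and of infinite transcendence degree over its prime field, and k₀ the subfield
generated by the coefficients of equations of Spec R, which is finitely generated over the prime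
field, so that k has infinite transcendence degree over k₀; only this last property and no
characteristic assumption enter here. The isomorphism is not canonical.) -/
theorem result (k₀ k : Type u)
    [Field k₀] [Field k] [Algebra k₀ k] [IsAlgClosed k] (hinf : ∃ x : ℕ → k, AlgebraicIndependent k₀ x)
    (R₀ : Type u) [CommRing R₀] [Algebra k₀ R₀] [Algebra.FiniteType k₀ R₀] [IsDomain (k ⊗[k₀] R₀)]
    (ev : k ⊗[k₀] R₀ →ₐ[k] k) (hP : Function.Injective fun r : R₀ => ev (1 ⊗ₜ[k₀] r)) :
    ∃ e : AlgebraicClosure (FractionRing (k ⊗[k₀] R₀)) ≃+* k,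
      ∀ r : R₀, e (algebraMap (k ⊗[k₀] R₀) (AlgebraicClosure (FractionRing (k ⊗[k₀] R₀)))
        (1 ⊗ₜ[k₀] r)) = ev (1 ⊗ₜ[k₀] r) := by
  let Rk := k ⊗[k₀] R₀
  haveI : Algebra.IsAlgebraic (k ⊗[k₀] R₀) (FractionRing (k ⊗[k₀] R₀)) :=
    IsLocalization.isAlgebraic _ (nonZeroDivisors (k ⊗[k₀] R₀))
  haveI : Algebra.IsAlgebraic (k ⊗[k₀] R₀) (AlgebraicClosure (FractionRing (k ⊗[k₀] R₀))) :=
    Algebra.IsAlgebraic.trans (k ⊗[k₀] R₀) (FractionRing (k ⊗[k₀] R₀)) _
  haveI : FaithfulSMul (k ⊗[k₀] R₀) (AlgebraicClosure (FractionRing (k ⊗[k₀] R₀))) :=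
    (faithfulSMul_iff_algebraMap_injective _ _).2 (by
      rw [IsScalarTower.algebraMap_eq (k ⊗[k₀] R₀) (FractionRing (k ⊗[k₀] R₀))
        (AlgebraicClosure (FractionRing (k ⊗[k₀] R₀)))]
      exact (algebraMap (FractionRing (k ⊗[k₀] R₀)) _).injective.comp
        (IsFractionRing.injective (k ⊗[k₀] R₀) _))
  have hinf' : Cardinal.aleph0 ≤ Algebra.trdeg k₀ k := by
    obtain ⟨x, hx⟩ := hinf
    have := hx.lift_cardinalMk_le_trdeg
    simpa using this
  exact H3CAlg.exists_equiv_point k₀ k R₀ (k ⊗[k₀] R₀) _ Algebra.TensorProduct.includeRight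
    (Algebra.TensorProduct.includeRight_injective (algebraMap k₀ k).injective) ev hP hinf'

end Groth.Agent.S16919
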