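import Groth.Statements.S1692
import Groth.Agent.H29Ref.DivClass

set_option autoImplicit false
universe u
open CategoryTheory CategoryTheory.Limits AlgebraicGeometry TopologicalSpace
open SDiv

namespace Groth.Agent.S1692

/-- Let X be a locally Noetherian integral scheme and f a nonzero rational function. Then the closures
of the codimension-one points at which f has nonzero order of vanishing form a locally finite family
of closed subsets of X. -/
theorem result (X : Scheme.{u}) [IsIntegral X] [IsLocallyNoetherian X] (f : ↑X.functionField) (hf : f ≠ 0) :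
    LocallyFinite (fun ξ : {ξ : ↥X // Order.coheight ξ = 1 ∧ Scheme.ord f ξ ≠ 0} => closure ({ξ.1} : Set ↥X)) := by
  intro y
  have hη : H8Props.FunDescent.StalkFree (Coh.structureModule X) 1 (genericPoint X) :=
    ⟨(Module.Basis.singleton (Fin 1) _).map (H29Ref.unitEquiv _)⟩
  have hv : (f : X.presheaf.stalk (genericPoint X)) • H29Ref.oneStalk (genericPoint X) ≠ 0 := fun h => hf
    ((H29Ref.bijective_smul_oneStalk _).1 (h.trans (zero_smul _ _).symm))
  obtain ⟨W, hW, hyW, -⟩ := exists_isAffineOpen_mem_and_subset (X := X) (x := y) (U := ⊤) trivial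
  refine ⟨W, W.2.mem_nhds hyW, Set.Finite.subset ((H29Ref.finite_secO_ne_zero _
    (H10Coh.isCoh_structureModule' X) hη _ hv hW).preimage Subtype.val_injective.injOn) ?_⟩
  rintro ⟨x, hx1, hne⟩ ⟨z, hzx, hzW⟩
  refine ⟨(specializes_iff_mem_closure.mpr hzx).mem_open W.2 hzW, hx1, fun h0 => hne ?_⟩
  have hg : H29Ref.IsStalkGen (Coh.structureModule X) x (H29Ref.oneStalk x) := by
    refine H29Ref.IsStalkGen.mk' hη (eq_top_iff.mpr fun v _ => ?_) (by
      rw [H29Ref.sp_oneStalk]; exact H29Ref.oneStalk_ne_zero _)
    obtain ⟨r, rfl⟩ := (H29Ref.bijective_smul_oneStalk x).2 v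
    exact Submodule.smul_mem _ _ (Submodule.mem_span_singleton_self _)
  rw [← H29Ref.secO_eq hx1 hg hv (φ := f) (by rw [H29Ref.sp_oneStalk]), h0]

end Groth.Agent.S1692
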