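import Groth.Statements.S1693
import Mathlib.AlgebraicGeometry.Noetherian

set_option autoImplicit false
universe u
open CategoryTheory CategoryTheory.Limits AlgebraicGeometry TopologicalSpace
open SDiv

namespace Groth.Agent.S1693

/-- Let X be a locally Noetherian scheme and Z a closed subset. Then the irreducible components of Z
form a locally finite family of subsets of X. -/
theorem result (X : Scheme.{u}) [IsLocallyNoetherian X] (Z : Set ↥X) (hZ : IsClosed Z) :
    LocallyFinite (fun T : ↥(irreducibleComponents ↥Z) => ((↑) '' (T.1 : Set ↥Z) : Set ↥X)) := by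
  intro x
  obtain ⟨W, hW, hxW, -⟩ := exists_isAffineOpen_mem_and_subset (TopologicalSpace.Opens.mem_top x)
  refine ⟨W, W.isOpen.mem_nhds hxW, ?_⟩
  haveI : IsNoetherianRing Γ(X, W) := IsLocallyNoetherian.component_noetherian ⟨W, hW⟩
  haveI : NoetherianSpace (W : Set X) := noetherianSpace_of_isAffineOpen W hW
  -- open subset of Z, embedded in W
  let V : Set Z := (Subtype.val ⁻¹' (W : Set X))
  haveI : NoetherianSpace V :=
    (Topology.IsInducing.noetherianSpace (i := fun v : V => (⟨v.1.1, v.2⟩ : (W : Set X)))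
      (Topology.IsInducing.of_comp (by fun_prop) continuous_subtype_val
        (show Topology.IsInducing ((Subtype.val : Z → X) ∘ (Subtype.val : V → Z)) from
          Topology.IsInducing.subtypeVal.comp Topology.IsInducing.subtypeVal)))
  have hVo : IsOpen V := W.isOpen.preimage continuous_subtype_val
  have hV := NoetherianSpace.finite_irreducibleComponents (α := V)
  have key : ∀ T ∈ irreducibleComponents Z, (T ∩ V).Nonempty →
      (Subtype.val ⁻¹' T : Set V) ∈ irreducibleComponents V ∧ closure (T ∩ V) = T := by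
    intro T hT hne
    refine ⟨?_, ?_⟩
    · exact preimage_mem_irreducibleComponents hT hVo.isOpenEmbedding_subtypeVal
        (by obtain ⟨y, hy⟩ := hne; exact ⟨y, hy.1, ⟨⟨y, hy.2⟩, rfl⟩⟩)
    · exact le_antisymm (closure_minimal Set.inter_subset_left (isClosed_of_mem_irreducibleComponents T hT))
        (subset_closure_inter_of_isPreirreducible_of_isOpen hT.1.isPreirreducible hVo hne)
  apply Set.Finite.of_finite_image (f := fun T => (Subtype.val ⁻¹' T.1 : Set V))
  · refine hV.subset ?_
    rintro _ ⟨T, ⟨y, ⟨z, hz, rfl⟩, hy⟩, rfl⟩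
    exact (key T.1 T.2 ⟨z, hz, hy⟩).1
  · rintro T ⟨y, ⟨z, hz, rfl⟩, hy⟩ T' ⟨y', ⟨z', hz', rfl⟩, hy'⟩ h
    apply Subtype.ext
    rw [← (key T.1 T.2 ⟨z, hz, hy⟩).2, ← (key T'.1 T'.2 ⟨z', hz', hy'⟩).2]
    congr 1
    ext w
    constructor <;> rintro ⟨hw1, hw2⟩
    · exact ⟨(Set.ext_iff.mp h ⟨w, hw2⟩).mp hw1, hw2⟩
    · exact ⟨(Set.ext_iff.mp h ⟨w, hw2⟩).mpr hw1, hw2⟩

end Groth.Agent.S1693
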