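import Groth.Statements.S16948
import Groth.Agent.LeadBC.GenBC.Horizontal
import Groth.Agent.LeadFF.Geom

set_option autoImplicit false
universe u
open Coherent

namespace Groth.Agent.S16948

open AlgebraicGeometry CategoryTheory Scheme.Modules in
/-- Take two cartesian squares of schemes side by side, f : X → Y over φ : U → V (vertical maps ξ : X →
U and η : Y → V, f ≫ η = ξ ≫ φ) and g : Y → Z over ψ : V → W (vertical map ζ : Z → W, g ≫ ζ = η ≫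
ψ), a quasi-coherent O_Z-module L and a natural number p. Write β for the degree-p base change maps
of higher direct images (R^p the p-th right derived functor of direct image on O-modules; the maps
are the pinned ones of the structure GenBC relative to pinned comparison data for ζ, η and ξ): B₂
for the right square, B₁ for the left square, B for the outer square. Then the composite of the
composition isomorphism φ^* ψ^* R^p ζ_* L ≅ (φ ≫ ψ)^* R^p ζ_* L with β_B(L) equals φ^* β_{B₂}(L)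
followed by β_{B₁}(g^* L) followed by R^p ξ_* of the composition isomorphism f^* g^* L ≅ (f ≫ g)^*
L. The source states this for arbitrary ζ and η; its verification evaluates both sides on sections
of R^p ζ_* L and R^p η_*(g^* L) over affine opens, identified with cohomology classes over their
preimages, and that identification is the one available for ζ and η quasi-compact and
quasi-separated, which are therefore assumed here. -/
theorem result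
    {X Y Z U V W : Scheme.{u}} (f : X ⟶ Y) (g : Y ⟶ Z) (ξ : X ⟶ U) (η : Y ⟶ V) (ζ : Z ⟶ W)
    (φ : U ⟶ V) (ψ : V ⟶ W) (h₁ : IsPullback f ξ η φ) (h₂ : IsPullback g η ζ ψ)
    (hw : (f ≫ g) ≫ ζ = ξ ≫ (φ ≫ ψ))
    [QuasiCompact ζ] [QuasiSeparated ζ] [QuasiCompact η] [QuasiSeparated η]
    [HasInjectiveResolutions X.Modules] [HasInjectiveResolutions Y.Modules] [HasInjectiveResolutions Z.Modules]
    (L : Z.Modules) [Coh.IsQCoh L] (p : ℕ)
    {Δζ : RDer.DerivedLES (pushforward ζ)} {Δη : RDer.DerivedLES (pushforward η)} {Δξ : RDer.DerivedLES (pushforward ξ)}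
    (Eζ : CohCmp.SectCmp ζ Δζ) (Eη : CohCmp.SectCmp η Δη) (Eξ : CohCmp.SectCmp ξ Δξ)
    (B₂ : CohCmp.GenBC ζ ψ η g h₂.w Eζ Eη) (B₁ : CohCmp.GenBC η φ ξ f h₁.w Eη Eξ)
    (B : CohCmp.GenBC ζ (φ ≫ ψ) ξ (f ≫ g) hw Eζ Eξ) :
    (pullbackComp φ ψ).hom.app ((Coh.Rpush ζ p).obj L) ≫ B.bc p L =
      (pullback φ).map (B₂.bc p L) ≫ B₁.bc p ((pullback g).obj L) ≫
        (Coh.Rpush ξ p).map ((pullbackComp f g).hom.app L) := by
  haveI : L.IsQuasicoherent := ‹Coh.IsQCoh L›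
  apply ((pullbackPushforwardAdjunction φ).homEquiv _ _).injective
  apply ((pullbackPushforwardAdjunction ψ).homEquiv _ _).injective
  refine Groth.Agent.LeadFF.hom_ext_affine _ _ fun O hO s => ?_
  obtain ⟨x, rfl⟩ := (Groth.Agent.LeadBC.GenBC.ε_bijective ζ Eζ hO L p).2 s
  set N := (Coh.Rpush ζ p).obj L with hN
  show ((pullbackComp φ ψ).hom.app N ≫ B.bc p L).app (φ ⁻¹ᵁ (ψ ⁻¹ᵁ O))
      (OmegaSh.pullSect φ ((pullback ψ).obj N) (ψ ⁻¹ᵁ O) (OmegaSh.pullSect ψ N O (Eζ.ε O L p x))) =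
    ((pullback φ).map (B₂.bc p L) ≫ B₁.bc p ((pullback g).obj L) ≫
        (Coh.Rpush ξ p).map ((pullbackComp f g).hom.app L)).app (φ ⁻¹ᵁ (ψ ⁻¹ᵁ O))
      (OmegaSh.pullSect φ ((pullback ψ).obj N) (ψ ⁻¹ᵁ O) (OmegaSh.pullSect ψ N O (Eζ.ε O L p x)))
  let y := CohPull.pullOn g (ζ ⁻¹ᵁ O) (η ⁻¹ᵁ (ψ ⁻¹ᵁ O)) (CohCmp.sqLE ζ ψ η g h₂.w O) L p x
  have e1 : ((pullbackComp φ ψ).hom.app N).app (φ ⁻¹ᵁ (ψ ⁻¹ᵁ O))
      (OmegaSh.pullSect φ ((pullback ψ).obj N) (ψ ⁻¹ᵁ O) (OmegaSh.pullSect ψ N O (Eζ.ε O L p x))) =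
      OmegaSh.pullSect (φ ≫ ψ) N O (Eζ.ε O L p x) := by
    rw [← Groth.Agent.H17.PullSect.pullSect_comp φ ψ N O]
    exact congr($(congrArg (fun k => Hom.app k ((φ ≫ ψ) ⁻¹ᵁ O)) ((pullbackComp φ ψ).inv_hom_id_app N)) _)
  have e2 : ((pullback φ).map (B₂.bc p L)).app (φ ⁻¹ᵁ (ψ ⁻¹ᵁ O))
      (OmegaSh.pullSect φ ((pullback ψ).obj N) (ψ ⁻¹ᵁ O) (OmegaSh.pullSect ψ N O (Eζ.ε O L p x))) =
      OmegaSh.pullSect φ _ (ψ ⁻¹ᵁ O) (Eη.ε (ψ ⁻¹ᵁ O) ((pullback g).obj L) p y) :=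
    (Groth.Agent.H17.PullSect.pullSect_natural φ (B₂.bc p L) (ψ ⁻¹ᵁ O) _).symm.trans
      (congrArg (fun z => OmegaSh.pullSect φ _ (ψ ⁻¹ᵁ O) z)
        ((Groth.Agent.LeadBC.GenBC.bc_pullSect B₂ p L O _).trans (B₂.compat O L p x)))
  refine ((congrArg (fun z => (B.bc p L).app ((φ ≫ ψ) ⁻¹ᵁ O) z) e1).trans
    ((Groth.Agent.LeadBC.GenBC.bc_pullSect B p L O _).trans (B.compat O L p x))).trans ?_
  refine Eq.trans ?_ (congrArg (fun z => ((Coh.Rpush ξ p).map ((pullbackComp f g).hom.app L)).app (φ ⁻¹ᵁ (ψ ⁻¹ᵁ O))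
    ((B₁.bc p ((pullback g).obj L)).app (φ ⁻¹ᵁ (ψ ⁻¹ᵁ O)) z)) e2).symm
  refine Eq.trans ?_ (congrArg (fun z => ((Coh.Rpush ξ p).map ((pullbackComp f g).hom.app L)).app (φ ⁻¹ᵁ (ψ ⁻¹ᵁ O)) z)
    ((Groth.Agent.LeadBC.GenBC.bc_pullSect B₁ p _ (ψ ⁻¹ᵁ O) _).trans (B₁.compat (ψ ⁻¹ᵁ O) _ p y))).symm
  refine Eq.trans ?_ (Eξ.natural (φ ⁻¹ᵁ (ψ ⁻¹ᵁ O)) ((pullbackComp f g).hom.app L) p _)
  exact (congrArg (Eξ.ε _ _ p) (Groth.Agent.LeadBC.GenBC.pullOn_comp f g _ _ _ L p x)).symm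

end Groth.Agent.S16948
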