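import Groth.Statements.S1695
import Groth.Agent.H26Blow.Affine

set_option autoImplicit false
universe u
open CategoryTheory CategoryTheory.Limits AlgebraicGeometry TopologicalSpace
open SDiv

namespace Groth.Agent.S1695

open Groth.Agent.H26Blow CategoryTheory Limits

/-- Let A be a ring, I an ideal, and b : X' ⟶ Spec A a blowing-up of Spec A along the ideal sheaf of I.
Then every point of X' has an open neighbourhood which is isomorphic, over Spec A, to the spectrum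
of an affine blow-up algebra A[I/a] for some a ∈ I. -/
theorem result (A : Type u) [CommRing A] (I : Ideal A) {X' : Scheme.{u}}
    (b : X' ⟶ Spec (CommRingCat.of A)) (hb : BlowUp.IsBlowUp b (Scheme.IdealSheafData.ofIdealTop (I.map (Scheme.ΓSpecIso (CommRingCat.of A)).inv.hom))) (x' : ↥X') :
    ∃ (a : A) (_ : a ∈ I) (V : X'.Opens) (e : (V : Scheme.{u}) ≅ Spec (CommRingCat.of ↥(BlowUp.affineAlgebra A I a))),
      x' ∈ V ∧ e.hom ≫ Spec.map (CommRingCat.ofHom (algebraMap A ↥(BlowUp.affineAlgebra A I a))) = V.ι ≫ b := by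
  obtain ⟨h, hh, -⟩ := (isBlowUp_π I).2 X' b hb.1
  obtain ⟨k, hk, -⟩ := hb.2 _ (π I) (isBlowUp_π I).1
  have hk' : h ≫ k = 𝟙 X' := by
    obtain ⟨m, -, hu⟩ := hb.2 _ b hb.1
    rw [hu (h ≫ k) (by show _ = _; rw [Category.assoc, hk, hh]), hu (𝟙 X') (Category.id_comp b)]
  have hh' : k ≫ h = 𝟙 _ := by
    obtain ⟨m, -, hu⟩ := (isBlowUp_π I).2 _ (π I) (isBlowUp_π I).1
    rw [hu (k ≫ h) (by show _ = _; rw [Category.assoc, hh, hk]), hu (𝟙 _) (Category.id_comp _)]
  let Φ : X' ≅ Proj (gr I) := ⟨h, k, hk', hh'⟩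
  obtain ⟨a, ha⟩ := TopologicalSpace.Opens.mem_iSup.1 ((iSup_basicOpen I).ge (Set.mem_univ (h x')))
  let m : Spec (CommRingCat.of (Alg I a)) ⟶ X' := j I a ≫ Φ.inv
  haveI i1 : IsIso Φ.inv := ⟨h, hh', hk'⟩
  haveI i2 : IsOpenImmersion Φ.inv := inferInstance
  haveI : IsOpenImmersion m := IsOpenImmersion.comp _ _
  refine ⟨a, a.2, m.opensRange, m.isoOpensRange.symm, ?_, ?_⟩
  · rw [← opensRange_j] at ha
    obtain ⟨w, hw⟩ := ha
    refine ⟨w, ?_⟩
    show Φ.inv (j I a w) = x'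
    rw [hw]
    show (h ≫ k) x' = x'
    rw [hk']
    rfl
  · have e : m ≫ b = Spec.map (CommRingCat.ofHom (algebraMap A (Alg I a))) := by
      show (j I a ≫ k) ≫ b = _
      rw [Category.assoc, hk, j_π]
    show m.isoOpensRange.inv ≫ Spec.map _ = _
    rw [← e, Scheme.Hom.isoOpensRange_inv_comp_assoc]

end Groth.Agent.S1695
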