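import Groth.Statements.S16951
import Groth.Agent.LeadBC.SeesawBC
import Groth.Agent.LeadBC.TrivFiber
import Groth.Agent.H18HTop.SpecLiftDVR

set_option autoImplicit false
universe u
open PicF

set_option linter.style.haveILetI false

namespace Groth.Agent.S16951

open AlgebraicGeometry CategoryTheory Scheme.Modules in
/-- Let f : X → S be a proper flat morphism of locally Noetherian schemes whose fibres are geometrically
integral, and let L be an invertible O_X-module with an inverse M (an isomorphism L ⊗ M ≅ O_X). Then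
the following are equivalent: (a) L ≅ f^* L₀ for some invertible O_S-module L₀; (b) for N = L and
for N = M, at every point s of S the space H^0(X_s, N|_{X_s}) of sections over the scheme-theoretic
fibre is nonzero and the degree-0 base change map of the fibre square, κ(s)^* f_* N → (X_s → Spec
κ(s))_* (N|_{X_s}), is an epimorphism. When this holds, dim_{κ(s)} H^0(X_s, N|_{X_s}) = 1 for every
s and both N, the counit f^* f_* L → L is an isomorphism, and any invertible L₀ with L ≅ f^* L₀ is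
isomorphic to f_* L. -/
theorem result
    {X S : Scheme.{u}} (f : X ⟶ S) [IsProper f] [Flat f] [IsLocallyNoetherian X] [IsLocallyNoetherian S]
    [GeometricallyIntegral f] (L M : X.Modules) (hL : PicF.IsInvertible L)
    (hM : Nonempty (CohB1.tensorMod L M ≅ Coh.structureModule X)) :
    ((∃ L₀ : S.Modules, PicF.IsInvertible L₀ ∧ Nonempty (L ≅ (pullback f).obj L₀)) ↔
      ((∀ s : S, Nontrivial (CohIII.fiberH f L s 0)) ∧ (∀ s : S, Nontrivial (CohIII.fiberH f M s 0)) ∧
        (∀ s : S, Epi (CohBC.bc0 f (S.fromSpecResidueField s) (f.fiberToSpecResidueField s) (f.fiberι s) (f.fiber_fac s) L)) ∧ (∀ s : S, Epi (CohBC.bc0 f (S.fromSpecResidueField s) (f.fiberToSpecResidueField s) (f.fiberι s) (f.fiber_fac s) M)))) ∧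
    (((∀ s : S, Nontrivial (CohIII.fiberH f L s 0)) ∧ (∀ s : S, Nontrivial (CohIII.fiberH f M s 0)) ∧
        (∀ s : S, Epi (CohBC.bc0 f (S.fromSpecResidueField s) (f.fiberToSpecResidueField s) (f.fiberι s) (f.fiber_fac s) L)) ∧ (∀ s : S, Epi (CohBC.bc0 f (S.fromSpecResidueField s) (f.fiberToSpecResidueField s) (f.fiberι s) (f.fiber_fac s) M))) →
      (∀ s : S, CohIII.fiberRank f L 0 s = 1 ∧ CohIII.fiberRank f M 0 s = 1) ∧
      IsIso ((pullbackPushforwardAdjunction f).counit.app L) ∧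
      ∀ L₀ : S.Modules, PicF.IsInvertible L₀ → Nonempty (L ≅ (pullback f).obj L₀) →
        Nonempty (L₀ ≅ (pushforward f).obj L)) := by
  haveI := Groth.Agent.H18HTop.locallyOfFinitePresentation_of_noetherian f
  obtain ⟨e⟩ := hM
  have hMi := Groth.Agent.LeadBC.TrivFiber.isInvertible_of_tensor hL e
  have hint : ∀ s : S, IsIntegral (f.fiber s) := fun s =>
    GeometricallyIntegral.geometrically_isIntegral (S.fromSpecResidueField s) _ _
      (IsPullback.of_hasPullback f (S.fromSpecResidueField s))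
  have hK : ∀ s : S, IsIso (f.fiberToSpecResidueField s).appTop :=
    Groth.Agent.LeadBC.GeomConn.isIso_appTop_fibre f fun K _ _ g => by
      haveI : IsIntegral (Limits.pullback f g) :=
        GeometricallyIntegral.geometrically_isIntegral g _ _ (IsPullback.of_hasPullback f g)
      exact ⟨inferInstance, inferInstance⟩
  have hqc : ∀ N : X.Modules, PicF.IsInvertible N → CohB1.IsFP N ∧ FlatMod.IsFlatOver f N ∧ N.IsQuasicoherent :=
    fun N hN => by
    have hlf := Groth.Agent.H23Para.isFinLocFree_of_isInvertible hN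
    have hfp := Groth.Agent.H8Props.FinLocFree.isFP_of_isFinLocFree N hlf
    exact ⟨hfp, Groth.Agent.H10Coh.SheafHom.isFlatOver_of_isFinLocFree f N hlf,
      Groth.Agent.H29Fitt.isQCoh_of_isFP N hfp⟩
  -- modules from the base
  have base : ∀ (N : X.Modules) (N₀ : S.Modules), PicF.IsInvertible N → PicF.IsInvertible N₀ →
      (N ≅ (pullback f).obj N₀) → ∀ s : S,
        Nonempty (CohIII.fiberMod f N s ≅ Coh.structureModule (f.fiber s)) ∧
        Epi (CohBC.bc0 f (S.fromSpecResidueField s) (f.fiberToSpecResidueField s) (f.fiberι s) (f.fiber_fac s) N) := by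
    intro N N₀ hN hN₀ i s
    obtain ⟨V, t, hs, ht⟩ := Groth.Agent.H11Ample.exists_gen hN₀ s
    have hg : Groth.Agent.H11Tilde.IsGen N (i.inv.app (f ⁻¹ᵁ V) (OmegaSh.pullSect f N₀ V t)) :=
      Groth.Agent.H11Ample.isGen_map_iso i.symm (ht.pullSect f)
    haveI := (hqc N hN).2.2
    refine ⟨?_, Groth.Agent.LeadBC.Seesaw.epi_bc0_of_gen f N (hK s) hs hg⟩
    have hle : (⊤ : (f.fiber s).Opens) ≤ f.fiberι s ⁻¹ᵁ (f ⁻¹ᵁ V) := fun z _ => by
      show f (f.fiberι s z) ∈ V
      rw [show f (f.fiberι s z) = s from (f.range_fiberι s).le ⟨z, rfl⟩]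
      exact hs
    let g : Γ(CohIII.fiberMod f N s, ⊤) := (CohIII.fiberMod f N s).presheaf.map (homOfLE hle).op
      (OmegaSh.pullSect (f.fiberι s) N (f ⁻¹ᵁ V) (i.inv.app (f ⁻¹ᵁ V) (OmegaSh.pullSect f N₀ V t)))
    have hg' : Groth.Agent.H11Tilde.IsGen (CohIII.fiberMod f N s) g := (hg.pullSect (f.fiberι s)).res hle
    haveI := Groth.Agent.H11Tilde.isIso_homOfGlobal (CohIII.fiberMod f N s) g fun W => hg'.bijective (le_top : W ≤ ⊤)
    exact ⟨(asIso (Groth.Agent.H11Tilde.homOfGlobal (CohIII.fiberMod f N s) g)).symm⟩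
  have hsym : CohB1.tensorMod M L ≅ Coh.structureModule X := Groth.Agent.H10Coh.Tw.commIso M L ≪≫ e
  have rk : ∀ (N : X.Modules) (s : S), Nonempty (CohIII.fiberMod f N s ≅ Coh.structureModule (f.fiber s)) →
      CohIII.fiberRank f N 0 s = 1 := fun N s ⟨i⟩ =>
    Groth.Agent.LeadBC.Seesaw.fiberRank_eq_one f N (hK s) i
  have back : ((∀ s : S, Nontrivial (CohIII.fiberH f L s 0)) ∧ (∀ s : S, Nontrivial (CohIII.fiberH f M s 0)) ∧
      (∀ s : S, Epi (CohBC.bc0 f (S.fromSpecResidueField s) (f.fiberToSpecResidueField s) (f.fiberι s) (f.fiber_fac s) L)) ∧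
      (∀ s : S, Epi (CohBC.bc0 f (S.fromSpecResidueField s) (f.fiberToSpecResidueField s) (f.fiberι s) (f.fiber_fac s) M))) →
      (∀ s : S, Nonempty (CohIII.fiberMod f L s ≅ Coh.structureModule (f.fiber s)) ∧
        Nonempty (CohIII.fiberMod f M s ≅ Coh.structureModule (f.fiber s))) ∧
      PicF.IsInvertible ((pushforward f).obj L) ∧ IsIso ((pullbackPushforwardAdjunction f).counit.app L) := by
    rintro ⟨h1, h2, h3, -⟩
    have htriv : ∀ s : S, Nonempty (CohIII.fiberMod f L s ≅ Coh.structureModule (f.fiber s)) ∧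
        Nonempty (CohIII.fiberMod f M s ≅ Coh.structureModule (f.fiber s)) := fun s =>
      haveI := hint s
      Groth.Agent.LeadBC.TrivFiber.trivial_of_nontrivial f hL e (h1 s) (h2 s)
    obtain ⟨hfp, hfl, hq⟩ := hqc L hL
    refine ⟨htriv, Groth.Agent.LeadBC.Seesaw.invertible_and_counit_of_epiOn f L hL hK (fun s => ?_)
      fun s => (htriv s).1⟩
    have hsq : IsPullback (f.fiberι s) (f.fiberToSpecResidueField s) f (S.fromSpecResidueField s) :=
      IsPullback.of_hasPullback f (S.fromSpecResidueField s)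
    refine Groth.Agent.LeadBC.GenBC.exists_epiOn_of_epi_zero f L hfp hfl hsq s
      (fun z => Scheme.fromSpecResidueField_apply s z) ?_
    have := h3 s
    erw [← Groth.Agent.LeadBC.Seesaw.bc0Adj_eq f hsq L]
    exact this
  refine ⟨⟨?_, fun h => ?_⟩, fun h => ?_⟩
  · rintro ⟨L₀, hL₀, ⟨i⟩⟩
    obtain ⟨M₀, hM₀, ⟨j⟩⟩ := Groth.Agent.H11Sym.exists_inverse hL₀
    obtain ⟨t⟩ := Groth.Agent.H11Ample.exists_iso_pullback_tensor f hM₀ hL₀
    obtain ⟨o⟩ := Groth.Agent.H11Ample.nonempty_pullback_structureModule_iso f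
    obtain ⟨k⟩ := Groth.Agent.H25Theta.cancel_right (A := M) (B := (pullback f).obj M₀) hL
      ⟨hsym ≪≫ o.symm ≪≫ ((pullback f).mapIso j).symm ≪≫ t ≪≫ Groth.Agent.H25Theta.tI (Iso.refl _) i.symm⟩
    exact ⟨fun s => Groth.Agent.LeadBC.TrivFiber.nontrivial_of_pos f (by rw [rk L s (base L L₀ hL hL₀ i s).1]; exact one_ne_zero),
      fun s => Groth.Agent.LeadBC.TrivFiber.nontrivial_of_pos f (by rw [rk M s (base M M₀ hMi hM₀ k s).1]; exact one_ne_zero),
      fun s => (base L L₀ hL hL₀ i s).2, fun s => (base M M₀ hMi hM₀ k s).2⟩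
  · obtain ⟨-, h1, h2⟩ := back h
    haveI := h2
    exact ⟨_, h1, ⟨(asIso ((pullbackPushforwardAdjunction f).counit.app L)).symm⟩⟩
  · obtain ⟨ht, -, hc⟩ := back h
    refine ⟨fun s => ⟨rk L s (ht s).1, rk M s (ht s).2⟩, hc, fun L₀ hL₀ ⟨i⟩ => ?_⟩
    obtain ⟨u⟩ := Groth.Agent.LeadBC.Seesaw.nonempty_iso_push_pull f
      (Groth.Agent.LeadBC.GenBC.isIso_app_of_fibres f hK) hL₀
    exact ⟨u ≪≫ (pushforward f).mapIso i.symm⟩

end Groth.Agent.S16951
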