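import Groth.Statements.S16954
import Groth.Agent.LeadBC.GenBC.Local
-- import your own Groth.Agent.* helpers here

set_option autoImplicit false
universe u
open CohCmp

namespace Groth.Agent.S16954

open AlgebraicGeometry CategoryTheory Scheme.Modules Opposite in
/-- The comparison map is locally surjective. Let f : X → Y be a morphism of schemes, F an O_X-module
and p a natural number; R^p f_* F is the p-th right derived functor of direct image on O-modules and
ε_V : H^p(f⁻¹V, F|_{f⁻¹V}) → Γ(V, R^p f_* F) the pinned comparison maps (the structure SectCmp,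
taken as a hypothesis). Then for every open V of Y, every section t of R^p f_* F over V and every
point y of V there are an open neighbourhood W ⊆ V of y and a class x ∈ H^p(f⁻¹W, F|_{f⁻¹W}) with
ε_W(x) equal to the restriction of t to W. -/
theorem result
    {X Y : Scheme.{u}} (f : X ⟶ Y) [HasInjectiveResolutions X.Modules]
    {Δ : RDer.DerivedLES (pushforward f)} (E : CohCmp.SectCmp f Δ) (F : X.Modules) (p : ℕ)
    (V : Y.Opens) (t : ((Coh.Rpush f p).obj F).presheaf.obj (op V)) (y : Y) (hy : y ∈ V) :
    ∃ (W : Y.Opens) (hWV : W ≤ V), y ∈ W ∧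
      ∃ x : Coh.HHon X F (f ⁻¹ᵁ W) p,
        E.ε W F p x = ((Coh.Rpush f p).obj F).presheaf.map (homOfLE hWV).op t := by
  exact (Groth.Agent.LeadBC.GenBC.loc_all f E F p).1 V t y hy

end Groth.Agent.S16954
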