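import Groth.Statements.S16960
import Groth.Agent.H14FinQuot.ConstQuot

set_option autoImplicit false
universe u
open ConstAct

namespace Groth.Agent.S16960

open CategoryTheory AlgebraicGeometry in
/-- Let R be a Noetherian commutative ring, A a commutative R-algebra of finite type, and G a finite
group acting on A by R-algebra automorphisms, with ring of invariants A^G. Let [Spec A/G] be the
quotient stack of Spec A by the constant group scheme of G over Spec R, the category over (Sch/Spec
R) whose objects are torsors under the constant group scheme, locally trivial for the fppf topology,
with an equivariant morphism to Spec A; and let π : [Spec A/G] → Spec A^G be a functor over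
(Sch/Spec R) whose composite with the canonical functor Spec A → [Spec A/G] is the functor of the
morphism Spec A → Spec A^G induced by the inclusion A^G ⊆ A. Then (a) π is a coarse moduli space:
every functor over (Sch/Spec R) from [Spec A/G] to the category of an algebraic space over Spec R
factors through π by exactly one morphism of algebraic spaces (up to 2-isomorphism), and for every
algebraically closed field Ω over R the functor π induces a bijection from the isomorphism classes
of objects of [Spec A/G] lying over Spec Ω onto the Ω-points of Spec A^G; and (b) Spec A → Spec A^G
is bijective on Ω-points modulo G for every algebraically closed field Ω over R: every R-algebra map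
A^G → Ω extends to A, and two R-algebra maps A → Ω with the same restriction to A^G differ by the
action of an element of G. (Together (a) and (b) say that Spec A → Spec A^G is a geometric quotient:
bijective on geometric points modulo G and universal for G-invariant maps to algebraic spaces.) (The
published statement puts no finiteness condition on A; the published proof uses that A is finite
over A^G, which holds when A is of finite type over a Noetherian ring, the case stated here.) -/
theorem result (R : Type u) [CommRing R] [IsNoetherianRing R]
    (A : Type u) [CommRing A] [Algebra R A] [Algebra.FiniteType R A]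
    (G : Type u) [Group G] [Fintype G] [DecidableEq G] [MulSemiringAction G A] [SMulCommClass G R A]
    (π : ConstAct.quotSt R A G Scheme.fppfPrecoverage ⥤ᵇ AlgSt.ofSch (ConstAct.specInv R A G))
    (hπ : BasedFunctor.comp
        (AlgSt.quotMap Scheme.fppfPrecoverage (ConstAct.GR R G) (ConstAct.gaction R A G)) π =
      AlgSt.ofSpMap ((AlgSp.yon (Spec (CommRingCat.of R))).map (ConstAct.quot R A G))) :
    AlgSt.IsCoarseModuli π ∧
      ∀ (Ω : Type u) [Field Ω] [IsAlgClosed Ω] [Algebra R Ω],
        (∀ y : ↥(ConstAct.inv R A G) →ₐ[R] Ω, ∃ x : A →ₐ[R] Ω, x.comp (ConstAct.inv R A G).val = y) ∧
        (∀ x x' : A →ₐ[R] Ω, x.comp (ConstAct.inv R A G).val = x'.comp (ConstAct.inv R A G).val →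
          ∃ g : G, x' = x.comp (MulSemiringAction.toAlgEquiv R A g : A →ₐ[R] A)) := by
  exact ⟨H14FinQuot.isCoarseModuli_quotSt R A G π hπ,
    fun Ω _ _ _ => H14FinQuot.bijective_points R A G Ω⟩

end Groth.Agent.S16960
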