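import Groth.Statements.S16962

set_option autoImplicit false
set_option backward.isDefEq.respectTransparency false
set_option backward.isDefEq.respectTransparency.types false
universe u
open ConstAct

namespace Groth.Agent.S16962

set_option maxHeartbeats 800000 in
noncomputable section
open TensorProduct

variable (R : Type u) [CommRing R] (B : Type u) [CommRing B] [Algebra R B] (Γ : Type u) [Group Γ]

/-- The component of index `g`. -/
def comp (g : Γ) : B ⊗[R] ConstGrp.F R Γ →ₐ[R] B :=
  Algebra.TensorProduct.lift (AlgHom.id R B) ((Algebra.ofId R B).comp (ConstGrp.ev R g))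
    fun _ _ => Commute.all _ _

lemma comp_tmul (g : Γ) (b : B) (f : ConstGrp.F R Γ) : comp R B Γ g (b ⊗ₜ f) = f g • b := by
  simp [comp, Algebra.smul_def, mul_comm]

variable [Fintype Γ] [DecidableEq Γ]

lemma eq_sum_comp (t : B ⊗[R] ConstGrp.F R Γ) : t = ∑ g, comp R B Γ g t ⊗ₜ ConstGrp.e R g := by
  induction t with
  | zero => simp
  | add x y hx hy => simp only [map_add, TensorProduct.add_tmul, Finset.sum_add_distrib, ← hx, ← hy]
  | tmul b f =>
    simp only [comp_tmul, TensorProduct.smul_tmul, ← TensorProduct.tmul_sum, ← ConstGrp.eq_sum_smul_e]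

variable [HopfRep.Comod R (ConstGrp.F R Γ) B]

/-- The candidate action. -/
def σ (g : Γ) : B →ₗ[R] B :=
  (comp R B Γ g).toLinearMap ∘ₗ HopfRep.Comod.coact (k := R) (A := ConstGrp.F R Γ) (V := B)

lemma coact_eq (b : B) :
    HopfRep.Comod.coact (k := R) (A := ConstGrp.F R Γ) (V := B) b = ∑ g, σ R B Γ g b ⊗ₜ ConstGrp.e R g :=
  eq_sum_comp R B Γ _

lemma σ_one (b : B) : σ R B Γ 1 b = b := by
  have h := LinearMap.congr_fun (HopfRep.Comod.counit_comp (k := R) (A := ConstGrp.F R Γ) (V := B)) b
  simp only [LinearMap.comp_apply, coact_eq, map_sum, LinearMap.lTensor_tmul, ConstGrp.counit_e,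
    TensorProduct.tmul_ite, Finset.sum_ite_eq, Finset.mem_univ, if_true, LinearMap.flip_apply,
    TensorProduct.mk_apply] at h
  simpa using congrArg (TensorProduct.rid R B) h

lemma σ_mul (h k : Γ) (b : B) : σ R B Γ (h * k) b = σ R B Γ h (σ R B Γ k b) := by
  have e := LinearMap.congr_fun (HopfRep.Comod.coassoc (k := R) (A := ConstGrp.F R Γ) (V := B)) b
  let Φ : B ⊗[R] (ConstGrp.F R Γ ⊗[R] ConstGrp.F R Γ) →ₗ[R] B :=
    (TensorProduct.rid R B).toLinearMap ∘ₗ ((LinearMap.mul' R R) ∘ₗ
      TensorProduct.map (ConstGrp.ev R h).toLinearMap (ConstGrp.ev R k).toLinearMap).lTensor B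
  have hΦ : ∀ (x : B) (a c : ConstGrp.F R Γ), Φ (x ⊗ₜ (a ⊗ₜ c)) = (a h * c k) • x := fun x a c => by
    simp [Φ]
  have e' := congrArg Φ e
  simp only [LinearMap.comp_apply, LinearEquiv.coe_coe, coact_eq, map_sum, LinearMap.rTensor_tmul,
    LinearMap.lTensor_tmul, ConstGrp.comul_e, TensorProduct.tmul_sum, TensorProduct.sum_tmul,
    TensorProduct.assoc_tmul, hΦ, ConstGrp.e_apply] at e'
  simp only [ite_mul, mul_ite, one_mul, mul_one, zero_mul, mul_zero, ite_smul, one_smul, zero_smul] at e'
  simp [eq_inv_mul_iff_mul_eq] at e'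
  rw [e', Finset.sum_eq_single (h * k), Finset.sum_eq_single h]
  all_goals intros
  all_goals (first | (simp_all; done) | (refine Finset.sum_eq_zero fun x _ => ?_; split_ifs <;> simp_all))

variable [GLin.IsCoactAlg R (ConstGrp.F R Γ) B]

/-- The action. -/
@[reducible] def action : MulSemiringAction Γ B where
  smul g b := σ R B Γ g b
  one_smul b := σ_one R B Γ b
  mul_smul g h b := σ_mul R B Γ g h b
  smul_zero g := map_zero (σ R B Γ g)
  smul_add g := map_add (σ R B Γ g)
  smul_one g := by
    change comp R B Γ g (HopfRep.Comod.coact (k := R) (A := ConstGrp.F R Γ) (V := B) 1) = 1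
    rw [GLin.IsCoactAlg.coact_one (k := R), map_one]
  smul_mul g x y := by
    change comp R B Γ g (HopfRep.Comod.coact (k := R) (A := ConstGrp.F R Γ) (V := B) (x * y)) = _
    rw [GLin.IsCoactAlg.coact_mul (k := R), map_mul]
    rfl

end

open TensorProduct in
/-- Let R be a commutative ring, Γ a finite group and B a commutative R-algebra equipped with a comodule
structure over the Hopf algebra of R-valued functions on Γ (the coordinate ring of the constant
group scheme of Γ over Spec R, with basis the indicator functions e_γ) whose coaction B → B ⊗ Fun(Γ,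
R) is a homomorphism of algebras, i.e. an action of the constant group scheme on Spec B. Then there
is exactly one action of Γ on B by R-algebra automorphisms whose associated coaction b ↦ Σ_γ (γ · b)
⊗ e_γ is the given coaction; and for that action the ring of invariants of the comodule algebra (the
b whose coaction is b ⊗ 1) equals the ring of elements fixed by Γ. (That the coaction associated
with an action is a comodule algebra structure is the other direction of the published equivalence
and is a construction here.) -/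
theorem result (R : Type u) [CommRing R]
    (B : Type u) [CommRing B] [Algebra R B] (Γ : Type u) [Group Γ] [Fintype Γ] [DecidableEq Γ]
    [HopfRep.Comod R (ConstGrp.F R Γ) B] [GLin.IsCoactAlg R (ConstGrp.F R Γ) B] :
    ∃! a : MulSemiringAction Γ B, ∃ _ : SMulCommClass Γ R B,
      ConstAct.coactLin R B Γ = HopfRep.Comod.coact (k := R) (A := ConstGrp.F R Γ) (V := B) ∧
        GLin.invariants R (ConstGrp.F R Γ) B = ConstAct.inv R B Γ := by
  let := action R B Γ
  have hs : SMulCommClass Γ R B := ⟨fun g r b => map_smul (σ R B Γ g) r b⟩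
  have hc : ConstAct.coactLin R B Γ = HopfRep.Comod.coact (k := R) (A := ConstGrp.F R Γ) (V := B) :=
    LinearMap.ext fun b => (ConstAct.coactLin_apply R B Γ b).trans (coact_eq R B Γ b).symm
  refine ⟨action R B Γ, ⟨hs, hc, ?_⟩, fun a' ⟨hs', hc', _⟩ => ?_⟩
  · ext b
    have hb : b ⊗ₜ[R] (1 : ConstGrp.F R Γ) = ∑ g, b ⊗ₜ ConstGrp.e R g := by
      rw [← TensorProduct.tmul_sum, ConstGrp.sum_e]
    refine ⟨fun h g => ?_, fun h => ?_⟩
    · change comp R B Γ g _ = b
      rw [h, comp_tmul]; simp
    · change HopfRep.Comod.coact (k := R) (A := ConstGrp.F R Γ) (V := B) b = _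
      rw [coact_eq, hb]
      exact Finset.sum_congr rfl fun g _ => congrArg (· ⊗ₜ ConstGrp.e R g) (h g)
  · suffices hsmul : a'.smul = (action R B Γ).smul by
      cases a'; congr; ext g b; exact congrFun (congrFun hsmul g) b
    funext g b
    let := a'
    have h := congrArg (comp R B Γ g) (LinearMap.congr_fun hc' b)
    rw [ConstAct.coactLin_apply, map_sum] at h
    simp [comp_tmul, ConstGrp.e_apply] at h
    exact h

end Groth.Agent.S16962
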