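import Groth.Statements.S16963
import Groth.Agent.S16962

set_option autoImplicit false
set_option backward.isDefEq.respectTransparency false
set_option backward.isDefEq.respectTransparency.types false
universe u
open scoped BigOperators
open ConstAct

namespace Groth.Agent.S16963

open scoped BigOperators

open TensorProduct in
lemma trace_iff (R : Type u) [CommRing R] (B : Type u) [CommRing B] [Algebra R B] (Γ : Type u)
    [Group Γ] [Fintype Γ] [DecidableEq Γ] [MulSemiringAction Γ B] [SMulCommClass Γ R B] :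
    letI := ConstAct.comod R B Γ
    (∃ α : ConstGrp.F R Γ →ₗ[R] B, Hoch.IsComodHom (ConstGrp.F R Γ) α ∧ α 1 = 1) ↔
      ∀ c : B, c ∈ ConstAct.inv R B Γ → ∃ b : B, ∑ γ : Γ, γ • b = c := by
  letI := ConstAct.comod R B Γ
  have hl : ∀ (α : ConstGrp.F R Γ →ₗ[R] B) (g : Γ),
      (HopfRep.Comod.coact (k := R) (A := ConstGrp.F R Γ) ∘ₗ α) (ConstGrp.e R g) =
        ∑ h : Γ, (h • α (ConstGrp.e R g)) ⊗ₜ[R] ConstGrp.e R h := fun α g =>
    ConstAct.coactLin_apply R B Γ _
  have hr : ∀ (α : ConstGrp.F R Γ →ₗ[R] B) (g : Γ),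
      (α.rTensor (ConstGrp.F R Γ) ∘ₗ HopfRep.Comod.coact (k := R) (A := ConstGrp.F R Γ)
        (V := ConstGrp.F R Γ)) (ConstGrp.e R g) =
        ∑ h : Γ, α (ConstGrp.e R (g * h⁻¹)) ⊗ₜ[R] ConstGrp.e R h := fun α g => by
    change α.rTensor _ (Coalgebra.comul (R := R) (ConstGrp.e R g)) = _
    simp only [ConstGrp.comul_e, map_sum, LinearMap.rTensor_tmul]
    exact (Fintype.sum_equiv ((Equiv.inv Γ).trans (Equiv.mulLeft g)) _ _ fun h => by simp).symm
  constructor
  · rintro ⟨α, hα, h1⟩ c hc
    refine ⟨c * α (ConstGrp.e R (1 : Γ)), ?_⟩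
    have key : ∀ k : Γ, k • α (ConstGrp.e R (1 : Γ)) = α (ConstGrp.e R k⁻¹) := fun k => by
      have e := LinearMap.congr_fun hα (ConstGrp.e R (1 : Γ))
      rw [hl, hr] at e
      have e' := congrArg (Groth.Agent.S16962.comp R B Γ k) e
      simp only [map_sum, Groth.Agent.S16962.comp_tmul, ConstGrp.e_apply, ite_smul, one_smul,
        zero_smul, Finset.sum_ite_eq, Finset.mem_univ, if_true, one_mul] at e'
      exact e'
    have hs : ∑ k : Γ, k • α (ConstGrp.e R (1 : Γ)) = 1 := by
      simp only [key]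
      rw [← h1, ← ConstGrp.sum_e (R := R) (G := Γ), map_sum]
      exact Fintype.sum_equiv (Equiv.inv Γ) _ _ fun k => rfl
    calc ∑ k : Γ, k • (c * α (ConstGrp.e R (1 : Γ))) = ∑ k : Γ, c * k • α (ConstGrp.e R (1 : Γ)) :=
        Finset.sum_congr rfl fun k _ => by rw [smul_mul', hc k]
      _ = c := by rw [← Finset.mul_sum, hs, mul_one]
  · intro h
    obtain ⟨b, hb⟩ := h 1 (fun k => smul_one k)
    let α : ConstGrp.F R Γ →ₗ[R] B := (ConstGrp.basis R Γ).constr R fun g => g⁻¹ • b
    have hα : ∀ g : Γ, α (ConstGrp.e R g) = g⁻¹ • b := fun g => by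
      rw [← ConstGrp.basis_apply, Module.Basis.constr_basis]
    refine ⟨α, ConstGrp.linearMap_ext fun g => ?_, ?_⟩
    · rw [hl, hr]
      simp only [hα, smul_smul, mul_inv_rev, inv_inv]
    · rw [← ConstGrp.sum_e (R := R) (G := Γ), map_sum, ← hb]
      exact Fintype.sum_equiv (Equiv.inv Γ) _ _ fun k => hα k

open TensorProduct in
/-- Let R be a commutative ring and Γ a finite group acting on a commutative R-algebra B by R-algebra
automorphisms; regard B as a comodule algebra over the Hopf algebra of R-valued functions on Γ (the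
constant group scheme of Γ acting on Spec B) through the coaction b ↦ Σ_γ (γ · b) ⊗ e_γ. Then the
action is tame — there is a comodule map α from the Hopf algebra, with its regular coaction, to B
with α(1) = 1 (a total integral) — if and only if the trace b ↦ Σ_γ γ · b, which takes values in the
ring of invariants B^Γ, maps B onto B^Γ. -/
theorem result (R : Type u) [CommRing R]
    (B : Type u) [CommRing B] [Algebra R B] (Γ : Type u) [Group Γ] [Fintype Γ] [DecidableEq Γ]
    [MulSemiringAction Γ B] [SMulCommClass Γ R B] :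
    letI := ConstAct.comod R B Γ
    (∃ α : ConstGrp.F R Γ →ₗ[R] B, Hoch.IsComodHom (ConstGrp.F R Γ) α ∧ α 1 = 1) ↔
      ∀ c : B, c ∈ ConstAct.inv R B Γ → ∃ b : B, ∑ γ : Γ, γ • b = c := by
  exact trace_iff R B Γ

end Groth.Agent.S16963
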