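import Groth.Statements.S16966
import Groth.Agent.H29RR.LinStable
import Groth.Agent.H29RR.Slope
import Groth.Agent.H29RR.Pencil
import Groth.Agent.H29RR.FiniteSupport

set_option autoImplicit false
universe u
open CategoryTheory CategoryTheory.Limits AlgebraicGeometry Opposite
open Curves

namespace Groth.Agent.S16966

/-- Let X be a smooth projective curve over an algebraically closed field k of characteristic 0 (an
integral scheme, proper over k, of dimension one, with all local rings regular), of genus g ≥ 1, and
L an invertible O_X-module with deg L > 2g. Then the morphism to projective space given by the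
complete linear system of L is linearly stable, stated through the criterion by invertible
subsheaves: for every invertible module M and every monomorphism ι : M ⟶ L that is not an
isomorphism, with dim_k H^0(X, M) ≥ 2, one has deg L · (h^0(M) - 1) < deg M · (h^0(L) - 1), i.e. the
reduced degree deg M / (h^0(M) - 1) of the projection exceeds the reduced degree deg L / (h^0(L) -
1). Degrees are χ(·) - χ(O_X). -/
theorem result (k : Type u) [Field k] [IsAlgClosed k] [CharZero k] (X : Scheme.{u}) [X.Over (Spec (CommRingCat.of k))]
    [IsIntegral X] [IsProper (X ↘ (Spec (CommRingCat.of k)))] (hdim : topologicalKrullDim X = 1)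
    (hreg : ∀ x : X, IsRegularLocalRing (X.presheaf.stalk x))
    (hg : 1 ≤ Curv2.genus k X) (L : X.Modules) (hL : PicF.IsInvertible L)
    (hdeg : 2 * (Curv2.genus k X : ℤ) < Curv2.deg k X L 1)
    (M : X.Modules) (hM : PicF.IsInvertible M) (ι : M ⟶ L) [Mono ι] (hι : ¬ IsIso ι)
    (h2 : 2 ≤ Module.finrank k (Coh.HH X M 0)) :
    Curv2.deg k X L 1 * ((Module.finrank k (Coh.HH X M 0) : ℤ) - 1) <
      Curv2.deg k X M 1 * ((Module.finrank k (Coh.HH X L 0) : ℤ) - 1) := by
  have hι0 : ι ≠ 0 := fun h => by
    haveI : Subsingleton (Coh.HH X M 0) := ⟨fun a b => H29RR.hhlin_zero_injective (k := k) ι (by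
      rw [h, H29RR.hhlin_zero, H29RR.hhlin_zero])⟩
    rw [Module.finrank_zero_of_subsingleton] at h2
    omega
  have hd := H29RR.deg_le_of_ne_zero (k := k) hdim.le hM hL hι0
  have hlt : Curv2.deg k X M 1 < Curv2.deg k X L 1 := lt_of_le_of_ne hd.1 fun h => hι (hd.2 h)
  have h1 := H29RR.h1_vanish_of_deg (k := k) hdim.le (H29RR.finrank_h0_structure k X) hL (by omega)
  have hrr := H29RR.riemann_roch (k := k) hdim.le L
  rw [H29RR.finrank_h0_structure k X, Module.finrank_zero_of_subsingleton (M := Coh.HH X L 1)] at hrr
  have key := H29RR.slope_lt (k := k) hdim.le hg hM (m := Module.finrank k (Coh.HH X M 0) - 1) (by omega) (by omega) hdeg hlt.le (Or.inl hlt)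
  rw [show (Module.finrank k (Coh.HH X L 0) : ℤ) - 1 = Curv2.deg k X L 1 - Curv2.genus k X by omega]
  convert key using 2
  omega

end Groth.Agent.S16966
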