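import Groth.Statements.S16967
import Groth.Agent.H29Clifford.Equality
import Groth.Agent.H29RR.SmoothRegular

set_option autoImplicit false
universe u
open CategoryTheory CategoryTheory.Limits AlgebraicGeometry Opposite
open Curves

namespace Groth.Agent.S16967

/-- Let X be a smooth projective curve over an algebraically closed field k of characteristic 0
(integral, proper over k, of dimension one, all local rings regular) of genus g ≥ 3 that is not
hyperelliptic: there is no invertible module of degree 2 with two k-linearly independent global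
sections. Then the canonical morphism of X is linearly stable, stated through the criterion by
invertible subsheaves: for every invertible module M and every monomorphism ι : M ⟶ Ω_{X/k} which is
not an isomorphism, with dim_k H^0(X, M) ≥ 2, one has deg Ω_{X/k} · (h^0(M) - 1) < deg M ·
(h^0(Ω_{X/k}) - 1). Degrees are χ(·) - χ(O_X). -/
theorem result (k : Type u) [Field k] [IsAlgClosed k] [CharZero k] (X : Scheme.{u}) [X.Over (Spec (CommRingCat.of k))]
    [IsIntegral X] [IsProper (X ↘ (Spec (CommRingCat.of k)))] (hdim : topologicalKrullDim X = 1)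
    (hreg : ∀ x : X, IsRegularLocalRing (X.presheaf.stalk x))
    (hg : 3 ≤ Curv2.genus k X)
    (hnh : ¬ ∃ (N : X.Modules) (t : Fin 2 → LinSer.Sect X N), LinSer.IsLinSer k X N 2 1 t)
    (M : X.Modules) (hM : PicF.IsInvertible M) (ι : M ⟶ Omega.sheaf (X ↘ (Spec (CommRingCat.of k)))) [Mono ι] (hι : ¬ IsIso ι)
    (h2 : 2 ≤ Module.finrank k (Coh.HH X M 0)) :
    Curv2.deg k X (Omega.sheaf (X ↘ (Spec (CommRingCat.of k)))) 1 * ((Module.finrank k (Coh.HH X M 0) : ℤ) - 1) <
      Curv2.deg k X M 1 * ((Module.finrank k (Coh.HH X (Omega.sheaf (X ↘ (Spec (CommRingCat.of k)))) 0) : ℤ) - 1) := by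
  haveI := H29RR.smooth_of_regular k X hreg
  have hΩ := H29CurveDual.isInvertible_omega_curve (k := k) (X := X) hdim
  have h00 := H29RR.finrank_h0_structure k X
  have hdΩ := H29CurveDual.deg_omega_of_h0 (k := k) (X := X) hdim h00
  have hι0 : ι ≠ 0 := fun h => H29RR.not_isZero_of_rank (k := k) (H29RR.rank_one_of_isInvertible hM) one_pos
    (IsZero.of_mono_eq_zero ι h)
  obtain ⟨hle, hiso⟩ := H29RR.deg_le_of_ne_zero (k := k) hdim.le hM hΩ hι0
  haveI := H29RR.finite_HH (k := k) M hM 0
  haveI : Nontrivial (Coh.HH X M 0) := Module.nontrivial_of_finrank_pos (R := k) (by omega)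
  obtain ⟨hd0, hup, -⟩ := H29RR.bounds_of_section (k := k) hdim.le hM inferInstance
  rw [h00] at hup
  have hb := H29Clifford.two_h0_le (k := k) hdim hM hd0 (by omega)
  have hne : 2 * (Module.finrank k (Coh.HH X M 0) : ℤ) ≠ Curv2.deg k X M 1 + 2 := fun heq => hnh <| by
    obtain ⟨N, hN, hdN, h2'⟩ := H29Clifford.exists_g12 (k := k) hdim (Curv2.deg k X M 1).toNat hM (by omega)
      (by omega) (lt_of_le_of_ne (by omega) fun h => hι (hiso (by omega))) heq
    haveI := H29RR.finite_HH (k := k) N hN 0
    let β := Module.finBasis k (Coh.HH X N 0)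
    exact ⟨N, _, hN, hdN, H29CurveDual.linIndep_sec (k := k) (L := N)
      (v := fun i => β (Fin.castLE h2' i)) (β.linearIndependent.comp (Fin.castLE h2') (Fin.castLE_injective _))⟩
  rw [hdΩ, H29CurveDual.finrank_h1_structure hdim]
  have hgZ : (3 : ℤ) ≤ Curv2.genus k X := by exact_mod_cast hg
  nlinarith [lt_of_le_of_ne hb hne]

end Groth.Agent.S16967
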