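import Groth.Statements.S16968
import Groth.Agent.H29Clifford.Equality
import Groth.Agent.H29RR.SmoothRegular

set_option autoImplicit false
universe u
open CategoryTheory CategoryTheory.Limits AlgebraicGeometry Opposite
open Curves

namespace Groth.Agent.S16968

/-- Let X be a smooth projective curve over an algebraically closed field k of characteristic 0
(integral, proper over k, of dimension one, all local rings regular) of genus g ≥ 3 which is
hyperelliptic, with a g^1_2 given as an invertible module N of degree 2 and two k-linearly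
independent global sections t_0, t_1. Then the canonical morphism of X is linearly semistable but
not linearly stable, stated through the criterion by invertible subsheaves: (i) for every invertible
module M and every monomorphism ι : M ⟶ Ω_{X/k} which is not an isomorphism, with dim_k H^0(X, M) ≥
2, one has deg Ω_{X/k} · (h^0(M) - 1) ≤ deg M · (h^0(Ω_{X/k}) - 1); (ii) N admits a monomorphism
into Ω_{X/k} which is not an isomorphism and for which equality holds. Degrees are χ(·) - χ(O_X).
(The published statement gives no genus bound for the hyperelliptic case; here g ≥ 3 is assumed,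
since for g = 2 the module N is the canonical module itself and clause (ii) fails.) -/
theorem result (k : Type u) [Field k] [IsAlgClosed k] [CharZero k] (X : Scheme.{u}) [X.Over (Spec (CommRingCat.of k))]
    [IsIntegral X] [IsProper (X ↘ (Spec (CommRingCat.of k)))] (hdim : topologicalKrullDim X = 1)
    (hreg : ∀ x : X, IsRegularLocalRing (X.presheaf.stalk x))
    (hg : 3 ≤ Curv2.genus k X)
    (N : X.Modules) (t : Fin 2 → LinSer.Sect X N) (hN : LinSer.IsLinSer k X N 2 1 t) :
    (∀ (M : X.Modules) (ι : M ⟶ Omega.sheaf (X ↘ (Spec (CommRingCat.of k)))), PicF.IsInvertible M → Mono ι → ¬ IsIso ι →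
        2 ≤ Module.finrank k (Coh.HH X M 0) →
        Curv2.deg k X (Omega.sheaf (X ↘ (Spec (CommRingCat.of k)))) 1 * ((Module.finrank k (Coh.HH X M 0) : ℤ) - 1) ≤
          Curv2.deg k X M 1 * ((Module.finrank k (Coh.HH X (Omega.sheaf (X ↘ (Spec (CommRingCat.of k)))) 0) : ℤ) - 1)) ∧
      ∃ ι : N ⟶ Omega.sheaf (X ↘ (Spec (CommRingCat.of k))), Mono ι ∧ ¬ IsIso ι ∧
        Curv2.deg k X (Omega.sheaf (X ↘ (Spec (CommRingCat.of k)))) 1 * ((Module.finrank k (Coh.HH X N 0) : ℤ) - 1) =
          Curv2.deg k X N 1 * ((Module.finrank k (Coh.HH X (Omega.sheaf (X ↘ (Spec (CommRingCat.of k)))) 0) : ℤ) - 1) := by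
  haveI := H29RR.smooth_of_regular k X hreg
  have hΩ := H29CurveDual.isInvertible_omega_curve (k := k) (X := X) hdim
  have h00 := H29RR.finrank_h0_structure k X
  have hdΩ := H29CurveDual.deg_omega_of_h0 (k := k) (X := X) hdim h00
  have h2 := H29CurveDual.two_le_h0_of_linSer hN
  obtain ⟨hNi, hdN, -⟩ := hN
  have hdN' : Curv2.deg k X N 1 = 2 := hdN
  rw [hdΩ, H29CurveDual.finrank_h1_structure hdim]
  have hgZ : (3 : ℤ) ≤ Curv2.genus k X := by exact_mod_cast hg
  refine ⟨fun M ι hM hιm hι hM2 => ?_, ?_⟩
  · haveI := hιm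
    have hι0 : ι ≠ 0 := fun h => H29RR.not_isZero_of_rank (k := k) (H29RR.rank_one_of_isInvertible hM) one_pos
      (IsZero.of_mono_eq_zero ι h)
    obtain ⟨hle, -⟩ := H29RR.deg_le_of_ne_zero (k := k) hdim.le hM hΩ hι0
    haveI : Nontrivial (Coh.HH X M 0) := Module.nontrivial_of_finrank_pos (R := k) (by omega)
    obtain ⟨hd0, -, -⟩ := H29RR.bounds_of_section (k := k) hdim.le hM inferInstance
    nlinarith [H29Clifford.two_h0_le (k := k) hdim hM hd0 (by omega)]
  · have hb := H29Clifford.two_h0_le (k := k) hdim hNi (by omega) (by omega)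
    haveI := H29RR.finite_HH (k := k) N hNi 1
    have hrr := H29RR.riemann_roch (k := k) hdim.le N
    rw [h00, H29CurveDual.finrank_h1_eq hdim (H29CurveDual.isCoh_of_isInvertible hNi)] at hrr
    letI := H29CurveDual.homModule (k := k) N (Omega.sheaf (X ↘ Spec (CommRingCat.of k)))
    haveI : Nontrivial (N ⟶ Omega.sheaf (X ↘ Spec (CommRingCat.of k))) :=
      Module.nontrivial_of_finrank_pos (R := k) (by omega)
    obtain ⟨φ, hφ⟩ := exists_ne (0 : N ⟶ Omega.sheaf (X ↘ Spec (CommRingCat.of k)))
    refine ⟨φ, H29RR.mono_of_invertible (k := k) hdim.le hNi (H29RR.rank_one_of_isInvertible hΩ) hφ, fun h => ?_, ?_⟩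
    · haveI := h
      have := H29RR.deg_congr (k := k) (asIso φ)
      omega
    · rw [hdN', show (Module.finrank k (Coh.HH X N 0) : ℤ) = 2 by omega]
      ring

end Groth.Agent.S16968
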