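import Groth.Statements.S16979
import Mathlib.FieldTheory.IsAlgClosed.Spectrum
import Mathlib.LinearAlgebra.Matrix.Charpoly.Eigs
import Mathlib.RingTheory.Etale.Weakly
import Mathlib.RingTheory.Henselian
import Mathlib.RingTheory.PicardGroup
import Mathlib.RingTheory.RegularLocalRing.Defs
import Mathlib.RingTheory.SimpleRing.Principal
import Mathlib.RingTheory.TotallySplit

set_option autoImplicit false
universe u v
open CAlg

namespace Groth.Agent.S16979

/-- Let R be an integral domain with fraction field K and φ a square matrix over R whose characteristic
polynomial becomes separable in K[T] (equivalently, K[T] modulo the characteristic polynomial is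
geometrically reduced over K). Then a polynomial f over R satisfies f(φ) = 0 exactly when the
characteristic polynomial of φ divides f in R[T]: the kernel of evaluation at φ (the minimal ideal
of φ) is the principal ideal generated by the characteristic polynomial. -/
theorem result
    {R : Type u} [CommRing R] [IsDomain R] {n : Type v} [Fintype n] [DecidableEq n]
    (φ : Matrix n n R)
    (hsep : (φ.charpoly.map (algebraMap R (FractionRing R))).Separable) :
    RingHom.ker (Polynomial.aeval (R := R) φ) = Ideal.span {φ.charpoly} := by
  classical
  apply le_antisymm
  · intro P hP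
    rw [RingHom.mem_ker] at hP
    rw [Ideal.mem_span_singleton]
    let K := AlgebraicClosure (FractionRing R)
    let i : R →+* K := (algebraMap (FractionRing R) K).comp (algebraMap R (FractionRing R))
    have hi : Function.Injective i :=
      ((algebraMap (FractionRing R) K).injective).comp (IsFractionRing.injective R (FractionRing R))
    rw [← Polynomial.map_dvd_map i hi φ.charpoly_monic]
    by_cases hP0 : P.map i = 0
    · rw [hP0]; exact dvd_zero _
    have hs : (φ.charpoly.map i).Separable := by
      rw [← Polynomial.map_map]; exact hsep.map
    rw [Polynomial.Splits.eq_prod_roots_of_monic (IsAlgClosed.splits (φ.charpoly.map i)) (φ.charpoly_monic.map i)]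
    refine (Multiset.prod_X_sub_C_dvd_iff_le_roots hP0 _).mpr ?_
    refine (Multiset.le_iff_subset (Polynomial.nodup_roots hs)).mpr fun μ hμ => ?_
    rw [Polynomial.mem_roots hP0]
    have hroot := Polynomial.isRoot_of_mem_roots hμ
    have hne : Nonempty n := by
      by_contra h
      rw [not_nonempty_iff] at h
      simp [Matrix.charpoly] at hμ
    let ψ : Matrix n n R →+* Matrix n n K := i.mapMatrix
    have h1 : μ ∈ spectrum K (φ.map i) := by
      rw [Matrix.mem_spectrum_iff_isRoot_charpoly, Matrix.charpoly_map]; exact hroot
    have h2 := spectrum.subset_polynomial_aeval (φ.map i) (P.map i) ⟨μ, h1, rfl⟩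
    have h3 : Polynomial.aeval (φ.map i) (P.map i) = 0 := by
      rw [Polynomial.aeval_def, Polynomial.eval₂_map]
      have := Polynomial.hom_eval₂ P (algebraMap R (Matrix n n R)) ψ φ
      rw [← Polynomial.aeval_def, hP, map_zero] at this
      rw [this]
      congr 1
      ext r : 1
      simp [ψ, Matrix.algebraMap_eq_diagonal, Pi.algebraMap_def, Matrix.diagonal_map, Algebra.algebraMap_self_apply, i]
    rw [h3, spectrum.zero_eq] at h2
    exact h2
  · rw [Ideal.span_le, Set.singleton_subset_iff]
    exact Matrix.aeval_self_charpoly φ

end Groth.Agent.S16979
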