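import Groth.Statements.S16980
import Groth.Agent.H3CAlg.NodalKer
import Mathlib.Algebra.TrivSqZeroExt.Ideal

set_option autoImplicit false
universe u
open CAlg

namespace Groth.Agent.S16980

/-- Let A be a commutative ring, J an A-module, A′ = A ⊕ εJ the trivial square-zero extension of A by J,
and τ any element of A′. Let B′ be the A′-algebra A′[x,y]/(xy − τ), presented by two generators x, y
with the evaluation map from the polynomial ring in two variables over A′ surjective and with kernel
generated by XY − τ. Let I ⊆ B′ be the ideal generated by the square-zero ideal J of A′, so that B =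
B′/I is A[x,y]/(xy − t) with t the A-component of τ. Then the first map of the conormal sequence of
B′ → B relative to A, namely I → B ⊗_{B′} Ω_{B′/A}, i ↦ 1 ⊗ di, is injective (so the sequence 0 → I
→ B ⊗_{B′} Ω_{B′/A} → Ω_{B/A} → 0 is exact on the left as well; this is the local computation at a
node for first-order deformations of nodal curves). -/
theorem result
    (A : Type u) [CommRing A] (J : Type u) [AddCommGroup J] [Module A J] [Module Aᵐᵒᵖ J]
    [IsCentralScalar A J] (τ : TrivSqZeroExt A J)
    (B' : Type u) [CommRing B'] [Algebra (TrivSqZeroExt A J) B'] [Algebra A B']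
    [IsScalarTower A (TrivSqZeroExt A J) B'] (x y : B')
    (hsurj : Function.Surjective
      (MvPolynomial.aeval ![x, y] : MvPolynomial (Fin 2) (TrivSqZeroExt A J) →ₐ[TrivSqZeroExt A J] B'))
    (hker : RingHom.ker
      (MvPolynomial.aeval ![x, y] : MvPolynomial (Fin 2) (TrivSqZeroExt A J) →ₐ[TrivSqZeroExt A J] B') =
      Ideal.span {MvPolynomial.X 0 * MvPolynomial.X 1 - MvPolynomial.C τ}) :
    Function.Injective (KaehlerDifferential.kerToTensor A B'
      (B' ⧸ Ideal.map (algebraMap (TrivSqZeroExt A J) B') (TrivSqZeroExt.kerIdeal A J))) := by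
  set K := Ideal.map (algebraMap (TrivSqZeroExt A J) B') (TrivSqZeroExt.kerIdeal A J) with hK
  rw [injective_iff_map_eq_zero]
  intro k hk
  have hkK : (k : B') ∈ K := by
    exact Ideal.Quotient.eq_zero_iff_mem.mp k.2
  rw [KaehlerDifferential.kerToTensor_apply] at hk
  have hD : KaehlerDifferential.D A B' k ∈ K • (⊤ : Submodule B' (Ω[B'⁄A])) := by
    have := congrArg (TensorProduct.quotTensorEquivQuotSMul (Ω[B'⁄A]) K) hk
    rw [map_zero, ← RingHom.map_one (Ideal.Quotient.mk K), TensorProduct.quotTensorEquivQuotSMul_mk_tmul,
      one_smul, Submodule.Quotient.mk_eq_zero] at this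
    exact this
  exact Subtype.ext (Groth.Agent.H3CAlg.NodalKer.injective (TrivSqZeroExt.fstHom A A J)
    (by rw [show RingHom.ker (TrivSqZeroExt.fstHom A A J) = TrivSqZeroExt.kerIdeal A J from rfl]; exact TrivSqZeroExt.kerIdeal_sq A J)
    τ x y hsurj hker k hkK hD)

end Groth.Agent.S16980
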