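import Groth.Statements.S16983
import Mathlib.Tactic
import Mathlib.Algebra.Order.BigOperators.Group.Finset
import Mathlib.RingTheory.Int.Basic
import Mathlib.RingTheory.Coprime.Lemmas

set_option autoImplicit false
universe u
open DeformData

namespace Groth.Agent.S16983

/-- Let p be a prime, s ≥ 1, B a finite index set with a subset B₀ of exactly three elements, m_j ≥ 1
integers coprime to p, and σ_{i,j} (i < s, j ∈ B) rational numbers with m_j σ_{i,j} an integer, such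
that Σ_j (σ_{i,j} − 1) = −2 for every i, the fractional part of σ_{i,j} equals that of p^i σ_{0,j},
no σ_{i,j} equals 1, and the minimum over i of ⌊σ_{i,j}⌋ is 0 for j ∈ B₀ and 1 for j ∉ B₀. Then for
every i the fractional parts ⟨σ_{i,j}⟩ sum over j to 1 (purity), and ⌊σ_{i,j}⌋ is 0 on B₀ and 1 off
B₀ for every i. (The hypotheses are exactly the properties of the signature of a special deformation
datum on the projective line: each entry is an integer divided by a stabilizer order m_j in a group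
of order prime to p, the degree identity coming from Riemann–Hurwitz, the Frobenius-twist relation
between fractional parts, and the speciality conditions; the statement is given here for any such
tuple.) -/
theorem result
    {B : Type u} [Fintype B] [DecidableEq B] (B₀ : Finset B) (hB₀ : B₀.card = 3)
    (p : ℕ) (hp : p.Prime) (s : ℕ) (hs : 0 < s)
    (m : B → ℕ) (hm : ∀ j, 0 < m j) (hmp : ∀ j, Nat.Coprime (m j) p)
    (σ : Fin s → B → ℚ) (hint : ∀ i j, ∃ h : ℤ, σ i j = (h : ℚ) / (m j : ℚ))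
    (hsum : ∀ i, ∑ j, (σ i j - 1) = -2)
    (hfract : ∀ i j, Int.fract (σ i j) = Int.fract ((p : ℚ) ^ (i : ℕ) * σ ⟨0, hs⟩ j))
    (hne : ∀ i j, σ i j ≠ 1)
    (hB₀min : ∀ j ∈ B₀, (∃ i, ⌊σ i j⌋ = 0) ∧ ∀ i, 0 ≤ ⌊σ i j⌋)
    (hBmin : ∀ j ∉ B₀, (∃ i, ⌊σ i j⌋ = 1) ∧ ∀ i, 1 ≤ ⌊σ i j⌋) :
    (∀ i, ∑ j, Int.fract (σ i j) = 1) ∧ (∀ i j, ⌊σ i j⌋ = if j ∈ B₀ then 0 else 1) := by
  have hinv : ∀ j, Int.fract (σ ⟨0, hs⟩ j) = 0 ↔ ∀ i, Int.fract (σ i j) = 0 := by
    intro j
    refine ⟨fun h i => ?_, fun h => h _⟩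
    obtain ⟨z, hz⟩ := Int.fract_eq_zero_iff.1 h
    rw [hfract i j, ← hz, Int.fract_eq_zero_iff]
    exact ⟨(p : ℤ) ^ (i : ℕ) * z, by push_cast; ring⟩
  have hconv : ∀ i j, Int.fract (σ i j) = 0 → Int.fract (σ ⟨0, hs⟩ j) = 0 := by
    intro i j h
    obtain ⟨a, ha⟩ := hint ⟨0, hs⟩ j
    rw [hfract i j] at h
    obtain ⟨z, hz⟩ := Int.fract_eq_zero_iff.1 h
    have hm' : (m j : ℚ) ≠ 0 := Nat.cast_ne_zero.2 (hm j).ne'
    rw [ha] at hz
    field_simp at hz
    have hz' : (p : ℤ) ^ (i : ℕ) * a = z * (m j : ℤ) := by exact_mod_cast hz.symm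
    have hcop : IsCoprime ((m j : ℤ)) ((p : ℤ) ^ (i : ℕ)) :=
      IsCoprime.pow_right (Int.isCoprime_iff_gcd_eq_one.2 (by simpa [Int.gcd_natCast_natCast] using hmp j))
    obtain ⟨t, ht⟩ := hcop.dvd_of_dvd_mul_left (Dvd.intro_left z hz'.symm)
    rw [ha, Int.fract_eq_zero_iff]
    refine ⟨t, ?_⟩
    rw [ht]
    push_cast
    field_simp
  have hlow : ∀ i j, (if j ∈ B₀ then (0 : ℤ) else 1) ≤ ⌊σ i j⌋ := fun i j => by
    split_ifs with h
    · exact (hB₀min j h).2 i
    · exact (hBmin j h).2 i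
  have hcardsum : ∑ j : B, (if j ∈ B₀ then (0 : ℤ) else 1) = (Fintype.card B : ℤ) - 3 := by
    rw [Finset.sum_congr rfl fun j _ => show (if j ∈ B₀ then (0 : ℤ) else 1) = 1 - (if j ∈ B₀ then 1 else 0) by
      split_ifs <;> simp, Finset.sum_sub_distrib]
    simp [hB₀]
  have htot : ∀ i, ((∑ j, ⌊σ i j⌋ : ℤ) : ℚ) + ∑ j, Int.fract (σ i j) = (Fintype.card B : ℚ) - 2 := fun i => by
    push_cast
    rw [← Finset.sum_add_distrib]
    simp only [Int.floor_add_fract]
    have := hsum i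
    rw [Finset.sum_sub_distrib] at this
    simp at this
    linarith
  have hge : ∀ i, (Fintype.card B : ℤ) - 3 ≤ ∑ j, ⌊σ i j⌋ := fun i =>
    hcardsum ▸ Finset.sum_le_sum fun j _ => hlow i j
  have hpos : ∀ i, 0 < ∑ j, Int.fract (σ i j) := by
    intro i
    refine lt_of_le_of_ne (Finset.sum_nonneg fun j _ => Int.fract_nonneg _) fun h => ?_
    have hz : ∀ i' j, Int.fract (σ i' j) = 0 := fun i' j =>
      (hinv j).1 (hconv i j ((Finset.sum_eq_zero_iff_of_nonneg fun j _ => Int.fract_nonneg _).1 h.symm j (Finset.mem_univ j))) i'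
    have hall : ∀ j, j ∈ B₀ := by
      intro j
      by_contra hj
      obtain ⟨i', hi'⟩ := (hBmin j hj).1
      refine hne i' j ?_
      rw [← Int.floor_add_fract (σ i' j), hz, hi']; simp
    have hB : (Fintype.card B : ℚ) = 3 := by
      rw [← Finset.card_univ, show (Finset.univ : Finset B) = B₀ from (Finset.eq_univ_iff_forall.2 hall).symm, hB₀]
      norm_num
    have h1 := htot i
    rw [hB, ← h, add_zero] at h1
    have h1' : (∑ j, ⌊σ i j⌋ : ℤ) = 1 := by exact_mod_cast h1.trans (by norm_num : (3 : ℚ) - 2 = 1)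
    have hnn : ∀ j ∈ (Finset.univ : Finset B), 0 ≤ ⌊σ i j⌋ := fun j _ => (hB₀min j (hall j)).2 i
    have hne1 : ∀ j, ⌊σ i j⌋ ≠ 1 := fun j hj => hne i j (by rw [← Int.floor_add_fract (σ i j), hz, hj]; simp)
    have hle : ∀ j, ⌊σ i j⌋ = 0 := fun j => by
      have := Finset.single_le_sum hnn (Finset.mem_univ j)
      have := hnn j (Finset.mem_univ j)
      have := hne1 j
      omega
    simp [hle] at h1'
  have hfloor : ∀ i, (∑ j, ⌊σ i j⌋) = (Fintype.card B : ℤ) - 3 := by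
    intro i
    refine le_antisymm ?_ (hge i)
    have h1 := htot i
    have h2 := hpos i
    have h4 : ((∑ j, ⌊σ i j⌋ : ℤ) : ℚ) < (((Fintype.card B : ℤ) - 2 : ℤ) : ℚ) := by push_cast at h1 ⊢; linarith
    have := Int.cast_lt.1 h4
    omega
  refine ⟨fun i => ?_, fun i j => ?_⟩
  · have h1 := htot i
    rw [hfloor i] at h1
    push_cast at h1
    linarith
  · exact ((Finset.sum_eq_sum_iff_of_le fun j _ => hlow i j).1 (by rw [hcardsum, hfloor i]) j (Finset.mem_univ j)).symm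

end Groth.Agent.S16983
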