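import Groth.Statements.S16984
import Groth.Agent.H20Comod.Cochain

set_option autoImplicit false
universe u v w
open Hoch

namespace Groth.Agent.S16984

open TensorProduct in
/-- Let k be a commutative ring, A a commutative k-bialgebra that is flat over k (the coordinate ring of
a flat affine group scheme over Spec k; flatness and commutativity are the standing hypotheses of
the appendix and are not needed for the assertion) and P a k-module. Then p ↦ p ⊗ 1 is an injection
of P into the induced comodule P ⊗ A (coaction id ⊗ Δ) whose image is exactly the submodule of
invariants, i.e. the elements with coaction x ↦ x ⊗ 1. (The published statement writes the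
coordinate-ring factor on the left and calls this module coinduced; this row is its degree-zero
part, the identification of P with the invariants of the coinduced module.) -/
theorem result (k : Type u) [CommRing k] (A : Type v) [CommRing A] [Bialgebra k A]
    [Module.Flat k A] (P : Type w) [AddCommGroup P] [Module k P] :
    Function.Injective ((Hoch.Ind.equiv k A P).toLinearMap ∘ₗ (TensorProduct.mk k P A).flip (1 : A)) ∧
    LinearMap.range ((Hoch.Ind.equiv k A P).toLinearMap ∘ₗ (TensorProduct.mk k P A).flip (1 : A)) =
      HopfRep.fixedPts k A (Hoch.Ind k A P) := by
  let e := (Hoch.Ind.equiv k A P).toLinearMap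
  constructor
  · intro x y h
    have := congrArg (Hoch.Ind.counit k A P) h
    simpa using this
  · apply le_antisymm
    · rintro _ ⟨p, rfl⟩
      show Hoch.Ind.coactAux k A P (p ⊗ₜ[k] (1 : A)) = _
      rw [Hoch.Ind.coactAux_tmul, Bialgebra.comul_one, Algebra.TensorProduct.one_def, TensorProduct.assoc_symm_tmul]
      rfl
    · intro w hw
      obtain ⟨z, rfl⟩ := (Hoch.Ind.equiv k A P).surjective w
      refine ⟨Hoch.Ind.counit k A P (e z), ?_⟩
      have h1 := H20Comod.rTensor_counit_coactAux (k := k) (A := A) z
      have h2 : Hoch.Ind.coactAux k A P z = z ⊗ₜ[k] (1 : A) := hw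
      rw [h2, LinearMap.rTensor_tmul] at h1
      exact congrArg e h1

end Groth.Agent.S16984
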