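import Groth.Statements.S1699
import Groth.Agent.H29Blow.AssPoints

set_option autoImplicit false
universe u
open CategoryTheory CategoryTheory.Limits AlgebraicGeometry TopologicalSpace
open SDiv

namespace Groth.Agent.S1699

/-- (1) if and only if (3): let X be a locally Noetherian scheme and U an open subscheme. Then U is
scheme-theoretically dense in X if and only if U contains every associated point of X (every point
whose local ring has its maximal ideal as an associated prime). -/
theorem result (X : Scheme.{u}) [IsLocallyNoetherian X] (U : X.Opens) :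
    CInt.IsSchematicallyDense U ↔ ∀ x : ↥X, IsAssociatedPrime (IsLocalRing.maximalIdeal ↑(X.presheaf.stalk x)) ↑(X.presheaf.stalk x) → x ∈ U := by
  constructor
  · intro h x hx
    by_contra hxU
    obtain ⟨-, m, hm⟩ := hx
    obtain ⟨T, hxT, s, rfl⟩ := X.presheaf.germ_exist m
    obtain ⟨D, hD, hxD, hDT⟩ := exists_isAffineOpen_mem_and_subset (U := T) (x := x) hxT
    have hDT' : D ≤ T := hDT
    haveI : IsNoetherianRing Γ(X, D) := IsLocallyNoetherian.component_noetherian ⟨D, hD⟩
    haveI := hD.isLocalization_stalk ⟨x, hxD⟩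
    letI := TopCat.Presheaf.algebra_section_stalk X.presheaf (⟨x, hxD⟩ : D)
    set s₁ := X.presheaf.map (homOfLE hDT').op s
    set p := (hD.primeIdealOf ⟨x, hxD⟩).asIdeal
    obtain ⟨S, hS⟩ := (IsNoetherian.noetherian p : p.FG)
    have hkill : ∀ a ∈ S, ∃ n : ℕ, X.presheaf.germ D x hxD (a ^ n * s₁) = 0 := by
      intro a ha
      have hap : a ∈ p := hS ▸ Submodule.subset_span ha
      have hmem : X.presheaf.germ D x hxD a ∈ IsLocalRing.maximalIdeal (X.presheaf.stalk x) := by
        have := (IsLocalization.AtPrime.to_map_mem_maximal_iff (X.presheaf.stalk x) p a).mpr hap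
        exact this
      rw [hm] at hmem
      obtain ⟨n, hn⟩ := hmem
      rw [Submodule.mem_colon_singleton, Submodule.mem_bot, smul_eq_mul] at hn
      refine ⟨n, ?_⟩
      rw [map_mul, map_pow, TopCat.Presheaf.germ_res_apply]
      exact hn
    choose! n hn using hkill
    have hloc : ∀ a ∈ S, ∃ t : Γ(X, D), t ∉ p ∧ t * (a ^ n a * s₁) = 0 := fun a ha => by
      obtain ⟨t, ht⟩ := (IsLocalization.map_eq_zero_iff p.primeCompl (X.presheaf.stalk x) _).mp (hn a ha)
      exact ⟨t, t.2, ht⟩
    choose! t htp ht0 using hloc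
    have htprod : (∏ a ∈ S, t a) ∉ p := fun hmem => by
      obtain ⟨a, ha, hap⟩ := ((hD.primeIdealOf ⟨x, hxD⟩).2.prod_mem_iff).mp hmem
      exact htp a ha hap
    set T₀ := X.basicOpen (∏ a ∈ S, t a)
    have hxT₀ : x ∈ T₀ := by
      rw [X.mem_basicOpen _ x hxD]
      exact IsLocalization.map_units (X.presheaf.stalk x) (⟨_, htprod⟩ : p.primeCompl)
    have hT₀D : T₀ ≤ D := X.basicOpen_le _
    set s₀ := X.presheaf.map (homOfLE hT₀D).op s₁
    have hzero : X.presheaf.map (homOfLE (inf_le_left : T₀ ⊓ U ≤ T₀)).op s₀ = 0 := by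
      refine TopCat.Presheaf.section_ext X.sheaf _ _ _ fun y hy => ?_
      change X.presheaf.germ (T₀ ⊓ U) y hy (X.presheaf.map _ s₀) = X.presheaf.germ (T₀ ⊓ U) y hy 0
      rw [TopCat.Presheaf.germ_res_apply, map_zero, TopCat.Presheaf.germ_res_apply]
      have hyD : y ∈ D := hT₀D hy.1
      have hns : ¬ x ⤳ y := fun hxy => hxU (hxy.mem_open U.2 hy.2)
      obtain ⟨a, ha, hay⟩ : ∃ a ∈ S, a ∉ (hD.primeIdealOf ⟨y, hyD⟩).asIdeal := by
        by_contra hc
        push_neg at hc
        apply hns
        have hle : p ≤ (hD.primeIdealOf ⟨y, hyD⟩).asIdeal := by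
          rw [← hS, Submodule.span_le]; exact hc
        have hsp : hD.primeIdealOf ⟨x, hxD⟩ ⤳ hD.primeIdealOf ⟨y, hyD⟩ :=
          (PrimeSpectrum.le_iff_specializes _ _).mp hle
        have := hsp.map hD.fromSpec.continuous
        rwa [hD.fromSpec_primeIdealOf, hD.fromSpec_primeIdealOf] at this
      have h0 := congrArg (X.presheaf.germ D y hyD) (ht0 a ha)
      rw [map_mul, map_mul, map_pow, map_zero] at h0
      haveI := hD.isLocalization_stalk ⟨y, hyD⟩
      letI := TopCat.Presheaf.algebra_section_stalk X.presheaf (⟨y, hyD⟩ : D)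
      have hua : IsUnit (X.presheaf.germ D y hyD a) :=
        IsLocalization.map_units (X.presheaf.stalk y)
          (⟨a, hay⟩ : (hD.primeIdealOf ⟨y, hyD⟩).asIdeal.primeCompl)
      have hut : IsUnit (X.presheaf.germ D y hyD (t a)) := by
        have h1 := (X.mem_basicOpen _ y hyD).mp hy.1
        rw [map_prod] at h1
        exact isUnit_of_dvd_unit (Finset.dvd_prod_of_mem (fun z => X.presheaf.germ D y hyD (t z)) ha) h1
      rw [hut.mul_right_eq_zero, (hua.pow (n a)).mul_right_eq_zero] at h0
      exact h0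
    have hs₀ : s₀ = 0 := h T₀ (hzero.trans (map_zero _).symm)
    refine (IsLocalRing.maximalIdeal.isMaximal (X.presheaf.stalk x)).ne_top (hm.trans ?_)
    rw [Ideal.radical_eq_top, Ideal.eq_top_iff_one, Submodule.mem_colon_singleton, one_smul,
      Submodule.mem_bot]
    have := congrArg (X.presheaf.germ T₀ x hxT₀) hs₀
    rwa [TopCat.Presheaf.germ_res_apply, TopCat.Presheaf.germ_res_apply, map_zero] at this
  · intro h V
    exact H29Blow.injective_res_of_weakAss_subset (Coh.structureModule X)
      (H29Blow.isQCoh_structureModule X) (inf_le_left : V ⊓ U ≤ V)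
      fun x hxV hx => ⟨hxV, h x ((H29Blow.isWeakAssPoint_structureModule_iff x).mp hx)⟩

end Groth.Agent.S1699
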