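import Groth.Statements.S16990
import Groth.Agent.H21Clif.Global

set_option autoImplicit false
universe u v
open QuadGrp

namespace Groth.Agent.S16990


/-- Comparison with SO′: over a commutative ring in which 2 is invertible, for a quadratic form Q on a
finite free module of even rank 2m ≥ 2 whose polar form is a perfect pairing, the isometries
satisfying the Dickson condition are exactly the isometries of determinant one. -/
theorem result {R : Type u} [CommRing R] [Invertible (2 : R)]
    {M : Type v} [AddCommGroup M] [Module R M] [Module.Free R M] [Module.Finite R M]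
    (m : ℕ) (hm : 1 ≤ m) (hM : Module.finrank R M = 2 * m) (Q : QuadraticForm R M) (hQ : QuadGrp.IsRegular Q) :
    QuadGrp.SOeven Q = QuadGrp.SO' Q := by
  refine le_antisymm (fun g hg => ?_) (fun g hg => ?_)
  · rcases subsingleton_or_nontrivial R with hR | hR
    · exact ⟨hg.1, MonoidHom.mem_ker.mpr (Subsingleton.elim _ _)⟩
    let b := Module.finBasisOfFinrankEq R M hM
    refine ⟨hg.1, MonoidHom.mem_ker.mpr (Units.ext ?_)⟩
    rw [LinearEquiv.coe_det]
    exact Groth.Agent.H21Clif.det_eq_one_of_SOeven b (even_two_mul m) (by omega) hQ g hg
  · rcases subsingleton_or_nontrivial R with hR | hR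
    · haveI : Subsingleton (CliffordAlgebra Q) := Module.subsingleton R _
      exact ⟨hg.1, fun z _ => Subsingleton.elim _ _⟩
    let b := Module.finBasisOfFinrankEq R M hM
    refine Groth.Agent.H21Clif.SOeven_of_det_eq_one b (even_two_mul m) (by omega) hQ g hg.1 ?_
    have h := congrArg Units.val (MonoidHom.mem_ker.mp hg.2)
    rwa [LinearEquiv.coe_det, Units.val_one] at h

end Groth.Agent.S16990
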