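import Groth.Statements.S16992
import Groth.Agent.H21Clif.Odd

set_option autoImplicit false
universe u v
open QuadGrp

namespace Groth.Agent.S16992


/-- Let Q be a quadratic form on a free module with a basis indexed by Fin (2m+1) over a commutative
ring, whose half-discriminant in that basis is a unit. If z is a central element of the Clifford
algebra C(Q) which is odd for its ℤ/2-grading, then the principal anti-involution of C(Q) (the one
extending v ↦ −v on the module) sends z to (−1)^(m+1) z. Equivalently: on the centre this
anti-involution is the identity when the rank is 3 mod 4, and is the involution negating the odd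
part when the rank is 1 mod 4. -/
theorem result {R : Type u} [CommRing R] {M : Type v} [AddCommGroup M] [Module R M]
    (m : ℕ) (b : Module.Basis (Fin (2 * m + 1)) R M) (Q : QuadraticForm R M)
    (hQ : QuadGrp.IsSemiregular b (LinearEquiv.refl R R) Q)
    (z : CliffordAlgebra Q) (hz : z ∈ Subalgebra.center R (CliffordAlgebra Q))
    (hz1 : z ∈ CliffordAlgebra.evenOdd Q 1) :
    star z = ((-1 : R) ^ (m + 1)) • z := by
  haveI := Module.Free.of_basis b
  refine sub_eq_zero.mp (Groth.Agent.H21Clif.eq_zero_of_forall_prime (R := R) fun p _ => ?_)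
  obtain ⟨d⟩ := Groth.Agent.H21Clif.exists_oddData m _
    (Groth.Agent.H21Clif.isSemiregular_baseChange b hQ (Localization.AtPrime p))
  obtain ⟨r, hr⟩ := d.odd_central (Groth.Agent.H21Clif.Ψ_mem _ Q hz1)
    (Groth.Agent.H21Clif.central_baseChange (Localization.AtPrime p) fun v => (Subalgebra.mem_center_iff.mp hz _).symm)
  obtain ⟨t, ht, hte⟩ := Groth.Agent.H21Clif.exists_smul_of_Ψp Q p (x := star z) (y := ((-1 : R) ^ (m + 1)) • z) (by
    rw [Groth.Agent.H21Clif.Ψ_star, map_smul, hr, CliffordAlgebra.star_smul, d.ζ_star,
      ← algebraMap_smul (Localization.AtPrime p) ((-1 : R) ^ (m + 1)), map_pow, map_neg, map_one]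
    exact smul_comm _ _ _)
  exact ⟨t, ht, by rw [smul_sub, hte, sub_self]⟩

end Groth.Agent.S16992
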