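import Groth.Statements.S16993
import Groth.Agent.H21Clif.Local

set_option autoImplicit false
universe u v
open QuadGrp

namespace Groth.Agent.S16993


/-- Over a local ring R, let Q be a quadratic form on a finite free module M of even rank 2m ≥ 2 whose
polar form is a perfect pairing. Then every isometry g of Q is induced by conjugation by a unit of
the Clifford algebra normalising M: there is u in the naive Clifford group with u v u⁻¹ = g v for
all v in M. (The published statement is that the twisted conjugation representation of the Clifford
group onto the orthogonal group is a smooth surjection of group schemes with kernel the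
multiplicative group; its proof lifts every isometry Zariski-locally on the base by an inner
automorphism of the Clifford algebra, which over a local ring is the statement given; the twist by
the degree only changes which of g, −g a homogeneous lift induces.) -/
theorem result {R : Type u} [CommRing R] [IsLocalRing R]
    {M : Type v} [AddCommGroup M] [Module R M] [Module.Free R M] [Module.Finite R M]
    (m : ℕ) (hm : 1 ≤ m) (hM : Module.finrank R M = 2 * m) (Q : QuadraticForm R M) (hQ : QuadGrp.IsRegular Q)
    (g : M ≃ₗ[R] M) (hg : g ∈ QuadGrp.O Q) :
    ∃ u ∈ QuadGrp.GPin' Q, ∀ v : M,
      (u : CliffordAlgebra Q) * CliffordAlgebra.ι Q v * ↑u⁻¹ = CliffordAlgebra.ι Q (g v) := by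
  obtain ⟨u, hu, -⟩ := Groth.Agent.H21Clif.exists_lift (Module.finBasisOfFinrankEq R M hM) (even_two_mul m) (by omega) hQ g hg
  exact ⟨u, Groth.Agent.H21Clif.mem_GPin'_of_intertwines hu, hu⟩

end Groth.Agent.S16993
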