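import Groth.Statements.S16997
import Groth.Agent.H21Clif.Odd

set_option autoImplicit false
universe u v
open QuadGrp

namespace Groth.Agent.S16997


/-- Over a commutative ring in which 2 is invertible, let Q be a quadratic form on a finite free module
with a basis indexed by Fin (2m+1), m odd (rank congruent to 3 mod 4), whose half-discriminant in
that basis is a unit. Then every unit of the Clifford algebra normalising the module and of Clifford
norm one is locally homogeneous: the Pin group equals the naive Pin group. (The published statement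
adds the converse: for rank 1 mod 4, or when 2 is not a unit on the base, the two group schemes
differ.) -/
theorem result {R : Type u} [CommRing R] [Invertible (2 : R)]
    {M : Type v} [AddCommGroup M] [Module R M] [Module.Free R M] [Module.Finite R M]
    (m : ℕ) (hm : Odd m) (b : Module.Basis (Fin (2 * m + 1)) R M) (Q : QuadraticForm R M)
    (hQ : QuadGrp.IsSemiregular b (LinearEquiv.refl R R) Q) :
    QuadGrp.Pin Q = QuadGrp.Pin' Q := by
  refine le_antisymm (inf_le_inf_right _ inf_le_left) fun u hu => ⟨⟨hu.1, ?_⟩, hu.2⟩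
  obtain ⟨g, hg, hgu⟩ := Groth.Agent.H21Clif.exists_isometry_of_mem_GPin' b hu.1
  obtain ⟨u₀, h₀, u₁, h₁, hsum⟩ := Groth.Agent.H21Clif.exists_parts (u : CliffordAlgebra Q)
  refine Groth.Agent.H21Clif.isLocHomog_of_forall b h₀ h₁ hsum fun p _ => ?_
  let A := Localization.AtPrime p
  let Q' := QuadGrp.baseChangeForm A Q
  let b' := Algebra.TensorProduct.basis A b
  obtain ⟨d⟩ := Groth.Agent.H21Clif.exists_oddData m _ (Groth.Agent.H21Clif.isSemiregular_baseChange b hQ A)
  let u' : (CliffordAlgebra Q')ˣ := Units.map (Groth.Agent.H21Clif.Ψ A Q).toMonoidHom u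
  have hgA := Groth.Agent.H21Clif.baseChange_mem_O A Q hg
  have hgu' := Groth.Agent.H21Clif.conj_baseChange A hgu
  obtain ⟨v, hv, hv2⟩ := d.exists_gSpin_lift b' hgA (d.det_eq_one_of_conj b' hgA hgu')
  -- `u' = z v` with `z` central
  obtain ⟨z, hz⟩ : ∃ z, z = (u' : CliffordAlgebra Q') * ↑v⁻¹ := ⟨_, rfl⟩
  have hzc : ∀ x, z * CliffordAlgebra.ι Q' x = CliffordAlgebra.ι Q' x * z := fun x => by
    obtain ⟨y, rfl⟩ := (g.baseChange R A M M).surjective x
    conv_lhs => rw [← hv2 y, hz]
    conv_rhs => rw [← hgu' y, hz]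
    simp only [u', mul_assoc, Units.inv_mul_cancel_left]
  obtain ⟨a, c, hac⟩ := d.central hzc
  have hu'v : (u' : CliffordAlgebra Q') = z * v := by rw [hz, Units.inv_mul_cancel_right]
  have hev : (v : CliffordAlgebra Q') ∈ CliffordAlgebra.evenOdd Q' 0 := hv.2
  -- the norm of the spinor is a scalar
  obtain ⟨s, hs⟩ := d.even_central (x := star (v : CliffordAlgebra Q') * v) (Groth.Agent.H21Clif.even_mul (by
      rw [CliffordAlgebra.star_def, CliffordAlgebra.involute_eq_of_mem_even hev]
      exact (CliffordAlgebra.reverse_mem_evenOdd_iff _).mpr hev) hev) fun x => by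
    have h1 : CliffordAlgebra.ι Q' (g.baseChange R A M M x) * v = v * CliffordAlgebra.ι Q' x := by
      rw [← hv2 x, Units.inv_mul_cancel_right]
    have h2 := congrArg star h1
    rw [star_mul, star_mul, CliffordAlgebra.star_ι, CliffordAlgebra.star_ι, mul_neg, neg_mul, neg_inj] at h2
    rw [mul_assoc, ← h1, ← mul_assoc, h2, mul_assoc]
  have hzn : star z * z * algebraMap A _ s = 1 := by
    have h := congrArg (Groth.Agent.H21Clif.Ψ A Q) ((QuadGrp.mem_normOne Q u).mp hu.2)
    rw [map_mul, map_one, Groth.Agent.H21Clif.Ψ_star] at h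
    change star (u' : CliffordAlgebra Q') * u' = 1 at h
    have hzs : star z * z * (v : CliffordAlgebra Q') = v * (star z * z) := by
      have : ∀ y, z * y = y * z := fun y => by
        rw [hac, add_mul, mul_add, Algebra.commutes, smul_mul_assoc, mul_smul_comm, d.ζ_comm]
      have hsz : ∀ y, star z * y = y * star z := fun y => by
        have := congrArg star (this (star y))
        simp only [star_mul, star_star] at this
        exact this.symm
      rw [mul_assoc, this, ← mul_assoc, hsz, mul_assoc]
    rw [← h, hu'v, star_mul, mul_assoc (star (v : CliffordAlgebra Q')), ← mul_assoc (star z), hzs,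
      ← mul_assoc, hs, Algebra.commutes]
  rw [hac, star_add, CliffordAlgebra.star_algebraMap, CliffordAlgebra.star_smul, d.ζ_star, hm.add_one.neg_one_pow, one_smul] at hzn
  -- compare even and odd parts
  have hexp : algebraMap A (CliffordAlgebra Q') ((a * a + c * c * d.c) * s - 1) + (2 * a * c * s) • d.ζ = 0 := by
    rw [← sub_eq_zero] at hzn
    refine Eq.trans ?_ hzn
    simp only [add_mul, mul_add, smul_mul_assoc, mul_smul_comm, d.ζ_sq, Algebra.algebraMap_eq_smul_one,
      one_mul, mul_one, smul_smul, smul_add]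
    rw [show a * a * s + c * c * (d.c : A) * s - 1 = s * (a * a) + s * (c * (c * (d.c : A))) - 1 by ring,
      show 2 * a * c * s = s * (a * c) + s * (c * a) by ring, sub_smul, add_smul, one_smul, add_smul]
    abel
  obtain ⟨h0, h1⟩ := Groth.Agent.H21Clif.parts_eq_zero
    (CliffordAlgebra.one_le_evenOdd_zero Q' (Submodule.algebraMap_mem _))
    (Submodule.smul_mem _ _ d.ζ_mem) hexp
  rw [← map_zero (algebraMap A (CliffordAlgebra Q'))] at h0
  have h0' := Groth.Agent.H21Clif.algebraMap_injective b' Q' h0
  have h1' : 2 * a * c * s = 0 := by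
    refine Groth.Agent.H21Clif.algebraMap_injective b' Q' ?_
    rw [map_zero, Algebra.algebraMap_eq_smul_one, ← d.unit_ζ.mul_left_eq_zero, smul_mul_assoc, one_mul, h1]
  have hsu : IsUnit s := IsUnit.of_mul_eq_one (a * a + c * c * (d.c : A)) (by linear_combination h0')
  have hac0 : a * c = 0 := by
    have h2 : IsUnit (2 : A) := by
      have := (isUnit_of_invertible (2 : R)).map (algebraMap R A)
      rwa [map_ofNat] at this
    refine (h2.mul hsu).mul_right_eq_zero.mp ?_
    linear_combination h1'
  have hu'parts : (u' : CliffordAlgebra Q') = Groth.Agent.H21Clif.Ψp Q p u₀ + Groth.Agent.H21Clif.Ψp Q p u₁ := by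
    rw [← map_add, ← hsum]; rfl
  have hΨ0 := Groth.Agent.H21Clif.Ψ_mem A Q h₀
  have hΨ1 := Groth.Agent.H21Clif.Ψ_mem A Q h₁
  have hodd : d.ζ * v ∈ CliffordAlgebra.evenOdd Q' 1 := by
    have := SetLike.mul_mem_graded d.ζ_mem hev
    rwa [add_zero] at this
  have heven : a • (v : CliffordAlgebra Q') ∈ CliffordAlgebra.evenOdd Q' 0 := Submodule.smul_mem _ _ hev
  rw [hu'v, hac, add_mul, ← Algebra.smul_def, smul_mul_assoc] at hu'parts
  obtain ⟨e0, e1⟩ := Groth.Agent.H21Clif.parts_eq_zero (sub_mem hΨ0 heven)
    (sub_mem hΨ1 (Submodule.smul_mem _ c hodd)) (by rw [← sub_eq_zero] at hu'parts; rw [← neg_eq_zero, ← hu'parts]; abel)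
  rw [sub_eq_zero] at e0 e1
  rcases IsLocalRing.isUnit_or_isUnit_one_sub_self (a * a * s) with hu | hu
  · exact Or.inr (by
      have ha : IsUnit a := isUnit_of_mul_isUnit_left (isUnit_of_mul_isUnit_left hu)
      rw [e1, ha.mul_right_eq_zero.mp hac0, zero_smul])
  · exact Or.inl (by
      have : IsUnit (c * c * (d.c : A) * s) := by
        rwa [show c * c * (d.c : A) * s = 1 - a * a * s by linear_combination h0']
      have hc : IsUnit c := isUnit_of_mul_isUnit_left (isUnit_of_mul_isUnit_left (isUnit_of_mul_isUnit_left this))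
      rw [e0, hc.mul_left_eq_zero.mp hac0, zero_smul])

end Groth.Agent.S16997
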