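import Groth.Statements.S16998
import Groth.Agent.H21Clif.EvenSplit

set_option autoImplicit false
universe u
open scoped TensorProduct
open QuadGrp

namespace Groth.Agent.S16998


/-- Let Q be a quadratic form on a free module M with a basis indexed by Fin (2m+1) over a commutative
ring R, whose half-discriminant in that basis is a unit. Then (a) fppf-locally on R the even
Clifford algebra is a matrix algebra of size 2^m (some faithfully flat finitely presented R-algebra
R′ realises it); (b) the even central elements of the Clifford algebra C(Q) are the scalars; (c) the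
multiplication map from (centre of C(Q)) ⊗ (even part) to C(Q) is bijective; (d) M → C(Q) is
injective onto a direct summand. (The published statement, for a vector bundle over a scheme, also
says that the odd part of the centre is an invertible module squaring to the structure sheaf and
that C(Q) is locally free of rank 2^(2m+1); the first of these is stated separately over a local
base.) -/
theorem result {R : Type u} [CommRing R] {M : Type u} [AddCommGroup M] [Module R M]
    (m : ℕ) (b : Module.Basis (Fin (2 * m + 1)) R M) (Q : QuadraticForm R M)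
    (hQ : QuadGrp.IsSemiregular b (LinearEquiv.refl R R) Q) :
    (∃ (R' : Type u) (_ : CommRing R') (_ : Algebra R R'), Module.FaithfullyFlat R R' ∧ Algebra.FinitePresentation R R' ∧
        Nonempty ((R' ⊗[R] ↥(CliffordAlgebra.even Q)) ≃ₐ[R'] Matrix (Fin (2 ^ m)) (Fin (2 ^ m)) R')) ∧
    (∀ z ∈ Subalgebra.center R (CliffordAlgebra Q), z ∈ CliffordAlgebra.evenOdd Q 0 →
        z ∈ (algebraMap R (CliffordAlgebra Q)).range) ∧
    Function.Bijective (TensorProduct.lift
        (((LinearMap.mul R (CliffordAlgebra Q)).comp (Subalgebra.center R (CliffordAlgebra Q)).val.toLinearMap).compl₂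
          (CliffordAlgebra.even Q).val.toLinearMap)) ∧
    (Function.Injective (CliffordAlgebra.ι Q) ∧
      ∃ W : Submodule R (CliffordAlgebra Q), IsCompl (LinearMap.range (CliffordAlgebra.ι Q)) W) := by
  haveI := Module.Free.of_basis b
  refine ⟨?_, fun z hz hz0 => ?_, H21Clif.center_even_bijective b Q hQ, H21Clif.ι_injective b, ?_⟩
  · obtain ⟨B, i1, i2, hff, hfp, d, hd⟩ := H21Clif.exists_split b Q hQ
    exact ⟨B, i1, i2, hff, hfp, H21Clif.even_matrix Q b B d hd⟩
  · obtain ⟨r, hr⟩ := H21Clif.even_central_scalar b hQ hz0 fun v =>
      ((Subalgebra.mem_center_iff.mp hz) (CliffordAlgebra.ι Q v)).symm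
    exact ⟨r, hr.symm⟩
  · classical
    let c := H21Clif.cBasis b Q
    refine ⟨Submodule.span R (c '' {S | S.card ≠ 1}), ?_⟩
    have hrange : LinearMap.range (CliffordAlgebra.ι Q) = Submodule.span R (c '' {S | S.card = 1}) := by
      refine le_antisymm ?_ (Submodule.span_le.mpr ?_)
      · rintro _ ⟨v, rfl⟩
        rw [← b.sum_repr v, map_sum]
        refine Submodule.sum_mem _ fun i _ => ?_
        rw [map_smul, ← H21Clif.cBasis_singleton]
        exact Submodule.smul_mem _ _ (Submodule.subset_span ⟨{i}, Finset.card_singleton i, rfl⟩)
      · rintro _ ⟨S, hS, rfl⟩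
        obtain ⟨i, rfl⟩ := Finset.card_eq_one.mp hS
        exact ⟨b i, (H21Clif.cBasis_singleton b Q i).symm⟩
    rw [hrange]
    refine ⟨c.linearIndependent.disjoint_span_image (Set.disjoint_left.mpr fun S h1 h2 => h2 h1), ?_⟩
    rw [codisjoint_iff, ← Submodule.span_union, ← Set.image_union,
      show {S : Finset (Fin (2 * m + 1)) | S.card = 1} ∪ {S | S.card ≠ 1} = Set.univ from
        Set.eq_univ_of_forall fun S => em _, Set.image_univ, c.span_eq]

end Groth.Agent.S16998
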