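import Groth.Statements.S16999
import Groth.Agent.H21Clif.Odd

set_option autoImplicit false
universe u v
open QuadGrp

namespace Groth.Agent.S16999


/-- Centre over a local base: over a local ring R, let Q be a quadratic form on a free module M with a
basis indexed by Fin (2m+1) whose half-discriminant in that basis is a unit. Then the centre of the
Clifford algebra C(Q) is generated by the square root of a unit: there is a central unit z, odd for
the ℤ/2-grading, with z² a scalar, such that 1, z are linearly independent and span the centre. (The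
published statement: the centre is a ℤ/2-graded locally free module of rank 2 with degree-0 part the
structure sheaf and degree-1 part an invertible sheaf squaring to it; over a local base this is the
form stated.) -/
theorem result {R : Type u} [CommRing R] [IsLocalRing R]
    {M : Type v} [AddCommGroup M] [Module R M]
    (m : ℕ) (b : Module.Basis (Fin (2 * m + 1)) R M) (Q : QuadraticForm R M)
    (hQ : QuadGrp.IsSemiregular b (LinearEquiv.refl R R) Q) :
    ∃ z : CliffordAlgebra Q, z ∈ Subalgebra.center R (CliffordAlgebra Q) ∧ z ∈ CliffordAlgebra.evenOdd Q 1 ∧ IsUnit z ∧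
      z * z ∈ (algebraMap R (CliffordAlgebra Q)).range ∧ LinearIndependent R ![(1 : CliffordAlgebra Q), z] ∧
      Subalgebra.toSubmodule (Subalgebra.center R (CliffordAlgebra Q)) = Submodule.span R {1, z} := by
  obtain ⟨d⟩ := Groth.Agent.H21Clif.exists_oddData m b hQ
  have hc : d.ζ ∈ Subalgebra.center R (CliffordAlgebra Q) :=
    Subalgebra.mem_center_iff.mpr fun y => (d.ζ_comm y).symm
  refine ⟨d.ζ, hc, d.ζ_mem, d.unit_ζ, ⟨d.c, d.ζ_sq.symm⟩, LinearIndependent.pair_iff.mpr fun s t hst => ?_,
    le_antisymm (fun x hx => ?_) (Submodule.span_le.mpr ?_)⟩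
  · obtain ⟨h0, h1⟩ := Groth.Agent.H21Clif.parts_eq_zero
      (Submodule.smul_mem _ s (CliffordAlgebra.one_le_evenOdd_zero Q (Submodule.one_le.mp le_rfl)))
      (Submodule.smul_mem _ t d.ζ_mem) hst
    refine ⟨Groth.Agent.H21Clif.algebraMap_injective b Q ?_, Groth.Agent.H21Clif.algebraMap_injective b Q ?_⟩
    · rw [Algebra.algebraMap_eq_smul_one, h0, map_zero]
    · rw [map_zero, Algebra.algebraMap_eq_smul_one, ← d.unit_ζ.mul_left_eq_zero, smul_mul_assoc, one_mul, h1]
  · have hx' : x ∈ Subalgebra.center R (CliffordAlgebra Q) := hx
    obtain ⟨a, c, rfl⟩ := d.central fun v => (Subalgebra.mem_center_iff.mp hx' _).symm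
    exact Submodule.add_mem (Submodule.span R {1, d.ζ}) (by rw [Algebra.algebraMap_eq_smul_one]; exact Submodule.smul_mem _ _ (Submodule.subset_span (by simp)))
      (Submodule.smul_mem _ _ (Submodule.subset_span (by simp)))
  · rintro x (rfl | rfl)
    · exact (Subalgebra.center R (CliffordAlgebra Q)).one_mem
    · exact hc

end Groth.Agent.S16999
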