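import Groth.Statements.S8854
import Mathlib.RingTheory.Ideal.AssociatedPrime.Localization
import Mathlib.RingTheory.UniqueFactorizationDomain.Ideal
import Mathlib.RingTheory.Nakayama
import Mathlib.RingTheory.Ideal.Height

set_option autoImplicit false
universe u
open SDiv

namespace Groth.Agent.S8854

/-- Let R be a Noetherian unique factorisation domain and I ⊆ R an ideal such that every associated
prime of R/I is minimal over I (R/I has no embedded primes) and every prime minimal over I has
height 1. Then I is principal: it is generated by one element. -/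
theorem result (R : Type u) [CommRing R] [IsDomain R] [IsNoetherianRing R]
    [UniqueFactorizationMonoid R] (I : Ideal R)
    (h1 : ∀ p : Ideal R, p ∈ associatedPrimes R (R ⧸ I) → p ∈ I.minimalPrimes)
    (h2 : ∀ p : Ideal R, p ∈ I.minimalPrimes → p.height = 1) :
    ∃ f : R, I = Ideal.span {f} := by
  classical
  by_cases hI : I = ⊥
  · exact ⟨0, by rw [hI]; exact (Ideal.span_singleton_eq_bot.mpr rfl).symm⟩
  let 𝒥 : Set (Ideal R) := {J | ∃ d : R, d ≠ 0 ∧ I = Ideal.span {d} * J}
  obtain ⟨J, ⟨d, hd, hdJ⟩, hJmax⟩ := WellFounded.has_min (IsWellFounded.wf (r := fun a b : Ideal R => b < a)) 𝒥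
    ⟨I, 1, one_ne_zero, by rw [Ideal.span_singleton_one, Ideal.top_mul]⟩
  have hJ0 : J ≠ ⊥ := by
    rintro rfl
    exact hI (by rw [hdJ, Ideal.mul_bot])
  have hnoprime : ∀ π : R, Prime π → ¬ J ≤ Ideal.span {π} := by
    intro π hπ hle
    obtain ⟨J', hJ'⟩ : ∃ J' : Ideal R, J = Ideal.span {π} * J' := by
      refine ⟨Submodule.comap (LinearMap.mulLeft R π) J, le_antisymm (fun x hx => ?_) ?_⟩
      · obtain ⟨y, rfl⟩ := Ideal.mem_span_singleton.mp (hle hx)
        exact Ideal.mul_mem_mul (Ideal.mem_span_singleton_self π) hx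
      · rw [Ideal.span_singleton_mul_le_iff]
        exact fun y hy => hy
    have hmem : J' ∈ 𝒥 := ⟨d * π, mul_ne_zero hd hπ.ne_zero, by
      rw [hdJ, hJ', ← mul_assoc, Ideal.span_singleton_mul_span_singleton]⟩
    have hle' : J ≤ J' := by rw [hJ']; exact Ideal.mul_le_right
    have heq : J = J' := by
      by_contra hne
      exact hJmax J' hmem (lt_of_le_of_ne hle' hne)
    rw [← heq] at hJ'
    obtain ⟨r, hr1, hr⟩ := Submodule.exists_sub_one_mem_and_smul_eq_zero_of_fg_of_le_smul
      (Ideal.span {π}) (J : Submodule R R) (IsNoetherian.noetherian _) (by rw [smul_eq_mul, ← hJ'])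
    obtain ⟨x, hx, hx0⟩ := Submodule.exists_mem_ne_zero_of_ne_bot hJ0
    have : r = 0 := (mul_eq_zero.mp (hr x hx)).resolve_right hx0
    subst this
    exact hπ.not_unit (Ideal.span_singleton_eq_top.mp
      ((Ideal.eq_top_iff_one _).mpr (by simpa using hr1)))
  rcases eq_or_ne J ⊤ with hJt | hJt
  · exact ⟨d, by rw [hdJ, hJt, Ideal.mul_top]⟩
  exfalso
  obtain ⟨P, hP⟩ := Ideal.nonempty_minimalPrimes hJt
  have hPprime := hP.isPrime
  have hass : P ∈ associatedPrimes R (R ⧸ J) :=
    Module.associatedPrimes.minimalPrimes_annihilator_subset_associatedPrimes R (R ⧸ J) (by rw [Ideal.annihilator_quotient]; exact hP)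
  let μ : (R ⧸ J) →ₗ[R] (R ⧸ I) := Submodule.mapQ J I (LinearMap.mulLeft R d) (by
    intro x hx
    show d * x ∈ I
    rw [hdJ]
    exact Ideal.mul_mem_mul (Ideal.mem_span_singleton_self d) hx)
  have hμ : Function.Injective μ := by
    rw [injective_iff_map_eq_zero]
    intro x hx
    obtain ⟨x, rfl⟩ := Submodule.Quotient.mk_surjective _ x
    replace hx : Submodule.Quotient.mk (p := I) (d * x) = 0 := hx
    rw [Submodule.Quotient.mk_eq_zero, hdJ, Ideal.mem_span_singleton_mul] at hx
    obtain ⟨y, hy, hyx⟩ := hx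
    rw [Submodule.Quotient.mk_eq_zero, ← mul_left_cancel₀ hd hyx]
    exact hy
  have hmin := h1 P (associatedPrimes.subset_of_injective hμ hass)
  have hht := h2 P hmin
  have hPne : P ≠ ⊥ := fun h => hJ0 (le_bot_iff.mp (h ▸ hP.1.2))
  obtain ⟨π, hπP, hπ⟩ := Ideal.IsPrime.exists_mem_prime_of_ne_bot hPprime hPne
  haveI : (Ideal.span {π} : Ideal R).IsPrime := (Ideal.span_singleton_prime hπ.ne_zero).mpr hπ
  have hle : Ideal.span {π} ≤ P := (Ideal.span_singleton_le_iff_mem _).mpr hπP
  rcases hle.lt_or_eq with hlt | heq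
  · haveI : P.FiniteHeight := P.finiteHeight_iff.mpr (Or.inr (by rw [hht]; exact ENat.one_ne_top))
    have h3 := Ideal.height_strict_mono_of_isPrime_of_isPrime hlt
    rw [hht, ENat.lt_one_iff_eq_zero, Ideal.height_eq_zero_iff,
      IsDomain.minimalPrimes_eq_singleton_bot, Set.mem_singleton_iff,
      Ideal.span_singleton_eq_bot] at h3
    exact hπ.ne_zero h3
  · exact hnoprime π hπ (hP.1.2.trans heq.ge)

end Groth.Agent.S8854
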