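import Groth.Statements.S1700
import Groth.Agent.H29Blow.OfStalk
import Groth.Agent.H29Blow.Stalk
import Groth.Agent.H29Blow.PointsOfAffine
import Groth.Agent.S8854

set_option autoImplicit false
universe u
open CategoryTheory CategoryTheory.Limits AlgebraicGeometry TopologicalSpace
open SDiv

namespace Groth.Agent.S1700

/-- Let X be a Noetherian scheme and 𝓘 a quasi-coherent ideal sheaf with closed subscheme Z such that
(1) Z has no embedded points: every point of Z whose local ring has its maximal ideal associated is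
a maximal point of Z; (2) every maximal point of Z has codimension 1 in X (the local ring of X there
has dimension 1); (3) the local ring of X at every point of Z is a unique factorisation domain. Then
𝓘 is the ideal sheaf of an effective Cartier divisor. -/
theorem result (X : Scheme.{u}) [IsNoetherian X] (𝓘 : X.IdealSheafData)
    (h1 : ∀ z : ↥𝓘.subscheme, IsAssociatedPrime (IsLocalRing.maximalIdeal ↑(𝓘.subscheme.presheaf.stalk z)) ↑(𝓘.subscheme.presheaf.stalk z) → ∀ z' : ↥𝓘.subscheme, z' ⤳ z → z' = z)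
    (h2 : ∀ z : ↥𝓘.subscheme, (∀ z' : ↥𝓘.subscheme, z' ⤳ z → z' = z) →
      ringKrullDim (X.presheaf.stalk (𝓘.subschemeι z)) = 1)
    (h3 : ∀ x : ↥X, x ∈ 𝓘.support → IsDomain (X.presheaf.stalk x) ∧ UniqueFactorizationMonoid (X.presheaf.stalk x)) :
    BlowUp.IsEffCartierIdeal 𝓘 := by
  classical
  refine H29Blow.isEffCartierIdeal_of_stalk 𝓘 fun x V hx => ?_
  by_cases hs : x ∈ 𝓘.support
  swap
  · exact ⟨1, one_mem _, by rw [H29Blow.map_germ_eq_top_of_notMem_support 𝓘 x V hx hs, Ideal.span_singleton_one]⟩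
  obtain ⟨hdom, hU⟩ := h3 x hs
  haveI := hdom
  haveI := hU
  let ι := 𝓘.subschemeι
  obtain ⟨d, hd⟩ : x ∈ Set.range ι := by
    rw [Scheme.IdealSheafData.range_subschemeι]; exact hs
  subst hd
  let W : 𝓘.subscheme.Opens := ι ⁻¹ᵁ V.1
  have hW : IsAffineOpen W := V.2.preimage ι
  haveI : IsNoetherianRing Γ(X, V.1) := IsLocallyNoetherian.component_noetherian V
  haveI : IsNoetherianRing Γ(𝓘.subscheme, W) :=
    isNoetherianRing_of_surjective _ _ (ι.app V.1).hom (𝓘.subschemeι_app_surjective V)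
  let P' := (hW.primeIdealOf ⟨d, hx⟩).asIdeal
  letI := TopCat.Presheaf.algebra_section_stalk 𝓘.subscheme.presheaf (⟨d, hx⟩ : W)
  haveI := hW.isLocalization_stalk ⟨d, hx⟩
  letI := TopCat.Presheaf.algebra_section_stalk X.presheaf (⟨ι d, hx⟩ : V.1)
  haveI := V.2.isLocalization_stalk ⟨ι d, hx⟩
  haveI : IsNoetherianRing (𝓘.subscheme.presheaf.stalk d) := IsLocalization.isNoetherianRing P'.primeCompl (𝓘.subscheme.presheaf.stalk d) inferInstance
  haveI : IsNoetherianRing (X.presheaf.stalk (ι d)) := IsLocalization.isNoetherianRing (V.2.primeIdealOf ⟨ι d, hx⟩).asIdeal.primeCompl (X.presheaf.stalk (ι d)) inferInstance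
  have hπ : Function.Surjective (ι.stalkMap d).hom := ι.stalkMap_surjective d
  have hass : ∀ q ∈ associatedPrimes (𝓘.subscheme.presheaf.stalk d) (𝓘.subscheme.presheaf.stalk d), q.comap (algebraMap Γ(𝓘.subscheme, W) (𝓘.subscheme.presheaf.stalk d)) ∈ minimalPrimes Γ(𝓘.subscheme, W) := by
    intro q hq
    haveI : IsLocalizedModule P'.primeCompl (Algebra.linearMap Γ(𝓘.subscheme, W) (𝓘.subscheme.presheaf.stalk d)) :=
      inferInstance
    have hq0 : q.comap (algebraMap Γ(𝓘.subscheme, W) (𝓘.subscheme.presheaf.stalk d)) ∈ associatedPrimes Γ(𝓘.subscheme, W) Γ(𝓘.subscheme, W) :=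
      (Module.associatedPrimes.preimage_comap_associatedPrimes_eq_associatedPrimes_of_isLocalizedModule
        P'.primeCompl (R' := (𝓘.subscheme.presheaf.stalk d)) (f := Algebra.linearMap Γ(𝓘.subscheme, W) (𝓘.subscheme.presheaf.stalk d))).ge hq
    obtain ⟨z, hz⟩ := H29Blow.exists_primeIdealOf_eq hW ⟨q.comap (algebraMap Γ(𝓘.subscheme, W) (𝓘.subscheme.presheaf.stalk d)), hq0.1⟩
    have hzI : (hW.primeIdealOf z).asIdeal = q.comap (algebraMap Γ(𝓘.subscheme, W) (𝓘.subscheme.presheaf.stalk d)) := congrArg PrimeSpectrum.asIdeal hz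
    letI := TopCat.Presheaf.algebra_section_stalk 𝓘.subscheme.presheaf z
    haveI := hW.isLocalization_stalk z
    haveI : IsLocalizedModule (hW.primeIdealOf z).asIdeal.primeCompl (Algebra.linearMap Γ(𝓘.subscheme, W) (𝓘.subscheme.presheaf.stalk z.1)) :=
      inferInstance
    have hmax : IsLocalRing.maximalIdeal (𝓘.subscheme.presheaf.stalk z.1) ∈
        associatedPrimes (𝓘.subscheme.presheaf.stalk z.1) (𝓘.subscheme.presheaf.stalk z.1) := by
      refine (Module.associatedPrimes.preimage_comap_associatedPrimes_eq_associatedPrimes_of_isLocalizedModule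
        (hW.primeIdealOf z).asIdeal.primeCompl (R' := 𝓘.subscheme.presheaf.stalk z.1)
        (f := Algebra.linearMap Γ(𝓘.subscheme, W) (𝓘.subscheme.presheaf.stalk z.1))).le ?_
      rw [Set.mem_preimage, show (IsLocalRing.maximalIdeal (𝓘.subscheme.presheaf.stalk z.1)).comap (algebraMap Γ(𝓘.subscheme, W) _) = _ from IsLocalization.AtPrime.comap_maximalIdeal (𝓘.subscheme.presheaf.stalk z.1) (hW.primeIdealOf z).asIdeal, hzI]
      exact hq0
    rw [← hzI]
    exact (H29Blow.minimalPrimes_iff_maximal_point hW z).mpr (h1 z.1 hmax)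
  have hker : RingHom.ker (ι.stalkMap d).hom = (𝓘.ideal V).map (X.presheaf.germ V.1 (ι d) hx).hom :=
    H29Blow.ker_stalkMap_subschemeι 𝓘 d V hx
  have hmin1 : ∀ p ∈ associatedPrimes (X.presheaf.stalk (ι d)) ((X.presheaf.stalk (ι d)) ⧸ RingHom.ker (ι.stalkMap d).hom), p ∈ (RingHom.ker (ι.stalkMap d).hom).minimalPrimes := by
    intro p hp
    obtain ⟨q, hq, rfl⟩ := H29Blow.exists_associatedPrime_of_ker (ι.stalkMap d).hom hπ hp
    have hqmin : q ∈ minimalPrimes (𝓘.subscheme.presheaf.stalk d) := by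
      refine ⟨⟨hq.1, bot_le⟩, fun q' hq' hle => ?_⟩
      have := (hass q hq).2 ⟨hq'.1.comap _, bot_le⟩ (Ideal.comap_mono hle)
      rw [← IsLocalization.map_comap P'.primeCompl (𝓘.subscheme.presheaf.stalk d) q, ← IsLocalization.map_comap P'.primeCompl (𝓘.subscheme.presheaf.stalk d) q']
      exact Ideal.map_mono this
    have h5 := Ideal.comap_minimalPrimes_eq_of_surjective hπ (⊥ : Ideal (𝓘.subscheme.presheaf.stalk d))
    rw [← RingHom.ker_eq_comap_bot] at h5
    rw [h5]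
    exact ⟨q, hqmin, rfl⟩
  have hmin2 : ∀ p ∈ (RingHom.ker (ι.stalkMap d).hom).minimalPrimes, p.height = 1 := by
    intro p hp
    have h5 := Ideal.comap_minimalPrimes_eq_of_surjective hπ (⊥ : Ideal (𝓘.subscheme.presheaf.stalk d))
    rw [← RingHom.ker_eq_comap_bot] at h5
    rw [h5] at hp
    obtain ⟨q, hq, rfl⟩ := hp
    have hqp : q.IsPrime := hq.1.1
    have hq0min : q.comap (algebraMap Γ(𝓘.subscheme, W) (𝓘.subscheme.presheaf.stalk d)) ∈ minimalPrimes Γ(𝓘.subscheme, W) := by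
      refine ⟨⟨Ideal.IsPrime.comap _, bot_le⟩, fun r hr hle => ?_⟩
      haveI := hr.1
      have hdis : Disjoint (P'.primeCompl : Set Γ(𝓘.subscheme, W)) (r : Set Γ(𝓘.subscheme, W)) := by
        rw [Set.disjoint_left]
        exact fun b hb hbr => hqp.ne_top (Ideal.eq_top_of_isUnit_mem _ (hle hbr) (IsLocalization.map_units (𝓘.subscheme.presheaf.stalk d) ⟨b, hb⟩))
      have hr' : (r.map (algebraMap Γ(𝓘.subscheme, W) (𝓘.subscheme.presheaf.stalk d))).IsPrime := IsLocalization.isPrime_of_isPrime_disjoint P'.primeCompl (𝓘.subscheme.presheaf.stalk d) r hr.1 hdis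
      have := hq.2 ⟨hr', bot_le⟩ (Ideal.map_le_iff_le_comap.mpr hle)
      rw [← IsLocalization.comap_map_of_isPrime_disjoint P'.primeCompl (𝓘.subscheme.presheaf.stalk d) hr.1 hdis]
      exact Ideal.comap_mono this
    obtain ⟨z, hz⟩ := H29Blow.exists_primeIdealOf_eq hW ⟨q.comap (algebraMap Γ(𝓘.subscheme, W) (𝓘.subscheme.presheaf.stalk d)), Ideal.IsPrime.comap _⟩
    have hzI : (hW.primeIdealOf z).asIdeal = q.comap (algebraMap Γ(𝓘.subscheme, W) (𝓘.subscheme.presheaf.stalk d)) := congrArg PrimeSpectrum.asIdeal hz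
    have hht := h2 z.1 ((H29Blow.minimalPrimes_iff_maximal_point hW z).mp (hzI ▸ hq0min))
    letI := TopCat.Presheaf.algebra_section_stalk X.presheaf (⟨ι z.1, z.2⟩ : V.1)
    haveI := V.2.isLocalization_stalk ⟨ι z.1, z.2⟩
    rw [IsLocalization.AtPrime.ringKrullDim_eq_height (V.2.primeIdealOf ⟨ι z.1, z.2⟩).asIdeal (X.presheaf.stalk (ι z.1))] at hht
    have hht' : (V.2.primeIdealOf ⟨ι z.1, z.2⟩).asIdeal.height = 1 := by exact_mod_cast hht
    have heq : (V.2.primeIdealOf ⟨ι z.1, z.2⟩).asIdeal = (q.comap (ι.stalkMap d).hom).comap (algebraMap Γ(X, V.1) (X.presheaf.stalk (ι d))) := by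
      ext b
      rw [H29Blow.mem_primeIdealOf_iff, ← isUnit_map_iff (ι.stalkMap z.1).hom]
      change ¬ IsUnit (ι.stalkMap z.1 (X.presheaf.germ V.1 (ι z.1) z.2 b)) ↔ _
      rw [Scheme.Hom.germ_stalkMap_apply, ← H29Blow.mem_primeIdealOf_iff hW z, hzI]
      change 𝓘.subscheme.presheaf.germ W d hx (ι.app V.1 b) ∈ q ↔ ι.stalkMap d (X.presheaf.germ V.1 (ι d) hx b) ∈ q
      rw [Scheme.Hom.germ_stalkMap_apply]
    rw [heq] at hht'
    haveI : (q.comap (ι.stalkMap d).hom).IsPrime := Ideal.IsPrime.comap _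
    have hdis : Disjoint ((V.2.primeIdealOf ⟨ι d, hx⟩).asIdeal.primeCompl : Set Γ(X, V.1))
        ((q.comap (ι.stalkMap d).hom).comap (algebraMap Γ(X, V.1) (X.presheaf.stalk (ι d))) : Set Γ(X, V.1)) := by
      rw [Set.disjoint_left]
      exact fun b hb hb' => (Ideal.IsPrime.comap (K := q) (ι.stalkMap d).hom).ne_top
        (Ideal.eq_top_of_isUnit_mem _ hb' (IsLocalization.map_units (X.presheaf.stalk (ι d)) ⟨b, hb⟩))
    have h4 := IsLocalization.height_map_of_disjoint (S := (X.presheaf.stalk (ι d))) (V.2.primeIdealOf ⟨ι d, hx⟩).asIdeal.primeCompl _ hdis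
    rw [IsLocalization.map_comap (V.2.primeIdealOf ⟨ι d, hx⟩).asIdeal.primeCompl] at h4
    rw [h4, hht']
  obtain ⟨g, hg⟩ := Groth.Agent.S8854.result (X.presheaf.stalk (ι d)) (RingHom.ker (ι.stalkMap d).hom) hmin1 hmin2
  refine ⟨g, ?_, by rw [← hker]; exact hg⟩
  refine mem_nonZeroDivisors_of_ne_zero fun hg0 => ?_
  rw [hg0, Ideal.span_singleton_eq_bot.mpr rfl] at hg
  haveI : (RingHom.ker (ι.stalkMap d).hom).IsPrime := hg ▸ Ideal.isPrime_bot
  haveI : IsDomain (𝓘.subscheme.presheaf.stalk d) := RingHom.domain_nontrivial (ι.stalkMap d).hom |> fun _ =>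
    (RingHom.quotientKerEquivOfSurjective hπ).symm.toMulEquiv.isDomain ((X.presheaf.stalk (ι d)) ⧸ RingHom.ker (ι.stalkMap d).hom)
  have hbot : (⊥ : Ideal (𝓘.subscheme.presheaf.stalk d)) ∈ minimalPrimes (𝓘.subscheme.presheaf.stalk d) := ⟨⟨Ideal.isPrime_bot, le_rfl⟩, fun _ _ _ => bot_le⟩
  obtain ⟨z, hz⟩ := H29Blow.exists_primeIdealOf_eq hW ⟨(⊥ : Ideal (𝓘.subscheme.presheaf.stalk d)).comap (algebraMap Γ(𝓘.subscheme, W) (𝓘.subscheme.presheaf.stalk d)), inferInstance⟩
  have hzI : (hW.primeIdealOf z).asIdeal = (⊥ : Ideal (𝓘.subscheme.presheaf.stalk d)).comap (algebraMap Γ(𝓘.subscheme, W) (𝓘.subscheme.presheaf.stalk d)) := congrArg PrimeSpectrum.asIdeal hz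
  have hz0 : (hW.primeIdealOf z).asIdeal ∈ minimalPrimes Γ(𝓘.subscheme, W) := hzI ▸ hass ⊥ (by
    obtain ⟨q, hq⟩ := associatedPrimes.nonempty (𝓘.subscheme.presheaf.stalk d) (𝓘.subscheme.presheaf.stalk d)
    have : q = ⊥ := by
      obtain ⟨hq1, w, hw⟩ := isAssociatedPrime_iff.mp hq
      rw [hw, eq_bot_iff]
      intro a ha
      rw [Submodule.mem_colon_singleton, Submodule.mem_bot, smul_eq_mul] at ha
      rcases mul_eq_zero.mp ha with h | h
      · exact h
      · exact absurd (by rw [hw, h]; ext a; simp [Submodule.mem_colon_singleton]) hq1.ne_top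
    exact this ▸ hq)
  have hmaxz := (H29Blow.minimalPrimes_iff_maximal_point hW z).mp hz0
  have hht := h2 z.1 hmaxz
  letI := TopCat.Presheaf.algebra_section_stalk X.presheaf (⟨ι z.1, z.2⟩ : V.1)
  haveI := V.2.isLocalization_stalk ⟨ι z.1, z.2⟩
  rw [IsLocalization.AtPrime.ringKrullDim_eq_height (V.2.primeIdealOf ⟨ι z.1, z.2⟩).asIdeal (X.presheaf.stalk (ι z.1))] at hht
  have heq : (V.2.primeIdealOf ⟨ι z.1, z.2⟩).asIdeal = (⊥ : Ideal (X.presheaf.stalk (ι d))).comap (algebraMap Γ(X, V.1) (X.presheaf.stalk (ι d))) := by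
    rw [← hg]
    ext b
    rw [H29Blow.mem_primeIdealOf_iff, ← isUnit_map_iff (ι.stalkMap z.1).hom]
    change ¬ IsUnit (ι.stalkMap z.1 (X.presheaf.germ V.1 (ι z.1) z.2 b)) ↔ _
    rw [Scheme.Hom.germ_stalkMap_apply, ← H29Blow.mem_primeIdealOf_iff hW z, hzI]
    change 𝓘.subscheme.presheaf.germ W d hx (ι.app V.1 b) ∈ (⊥ : Ideal (𝓘.subscheme.presheaf.stalk d)) ↔ ι.stalkMap d (X.presheaf.germ V.1 (ι d) hx b) = 0
    rw [Scheme.Hom.germ_stalkMap_apply, Ideal.mem_bot]
  rw [heq] at hht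
  haveI : (⊥ : Ideal (X.presheaf.stalk (ι d))).IsPrime := Ideal.isPrime_bot
  haveI : ((⊥ : Ideal (X.presheaf.stalk (ι d))).comap (algebraMap Γ(X, V.1) (X.presheaf.stalk (ι d)))).IsPrime := Ideal.IsPrime.comap _
  have hdis : Disjoint ((V.2.primeIdealOf ⟨ι d, hx⟩).asIdeal.primeCompl : Set Γ(X, V.1))
      ((⊥ : Ideal (X.presheaf.stalk (ι d))).comap (algebraMap Γ(X, V.1) (X.presheaf.stalk (ι d))) : Set Γ(X, V.1)) := by
    rw [Set.disjoint_left]
    exact fun b hb hb' => not_isUnit_zero ((Ideal.mem_bot.mp hb') ▸ IsLocalization.map_units (X.presheaf.stalk (ι d)) ⟨b, hb⟩)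
  have h4 := IsLocalization.height_map_of_disjoint (S := (X.presheaf.stalk (ι d))) (V.2.primeIdealOf ⟨ι d, hx⟩).asIdeal.primeCompl _ hdis
  rw [IsLocalization.map_comap (V.2.primeIdealOf ⟨ι d, hx⟩).asIdeal.primeCompl, Ideal.height_bot] at h4
  rw [← h4] at hht
  exact absurd hht (by simp)

end Groth.Agent.S1700
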