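import Groth.Statements.S17001
import Groth.Agent.H21Clif.EvenConnected
-- import your own Groth.Agent.* helpers here

set_option autoImplicit false
universe u
open CategoryTheory AlgebraicGeometry
open QuadGrp

namespace Groth.Agent.S17001

/-- Let Q be a quadratic form on R^{2m}, m ≥ 1, over a commutative ring R, whose polar form is a perfect
pairing, and let G be a group scheme over Spec R which is its special orthogonal group in the sense
of the Dickson condition (its A-valued points are the isometries of Q_A acting trivially on the
centre of the even Clifford algebra, naturally in A). Then G is smooth over Spec R of relative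
dimension m(2m−1), with connected fibres. (The published statement is over an arbitrary base scheme;
the affine free case is stated. Its assertions on the centre are stated separately.) -/
theorem result (R : Type u) [CommRing R] (m : ℕ) (hm : 1 ≤ m)
    (Q : QuadraticForm R (Fin (2 * m) → R)) (hQ : QuadGrp.IsRegular Q)
    (G : Over (Spec (CommRingCat.of R))) [GrpObj G] (D : QuadGrp.SOrthRep Q G) :
    AlgebraicGeometry.SmoothOfRelativeDimension (m * (2 * m - 1)) G.hom ∧
      ∀ s : ↥(Spec (CommRingCat.of R)), ConnectedSpace ↥(G.hom.fiber s) := by
  exact ⟨H21Clif.smoothOfRelativeDimension_sorth Q hm hQ G D, H21Clif.EvenConn.connectedSpace_fiber hm Q hQ G D⟩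

end Groth.Agent.S17001
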