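import Groth.Statements.S17002
import Groth.Agent.H21Clif.OddConnected

set_option autoImplicit false
universe u
open CategoryTheory AlgebraicGeometry
open QuadGrp

namespace Groth.Agent.S17002

/-- Let Q be a quadratic form on R^{2m+1} over a commutative ring R whose half-discriminant in the
standard basis is a unit, and let G be a group scheme over Spec R which is its special orthogonal
group (for odd rank: the isometries of determinant one; its A-valued points are those of Q_A,
naturally in A). Then G is smooth over Spec R of relative dimension m(2m+1), with connected fibres.
(The published statement is over an arbitrary base scheme; the affine free case is stated. Its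
assertions on the centre are stated separately.) -/
theorem result (R : Type u) [CommRing R] (m : ℕ)
    (Q : QuadraticForm R (Fin (2 * m + 1) → R))
    (hQ : QuadGrp.IsSemiregular (Pi.basisFun R (Fin (2 * m + 1))) (LinearEquiv.refl R R) Q)
    (G : Over (Spec (CommRingCat.of R))) [GrpObj G] (D : QuadGrp.SOrthRep Q G) :
    AlgebraicGeometry.SmoothOfRelativeDimension (m * (2 * m + 1)) G.hom ∧
      ∀ s : ↥(Spec (CommRingCat.of R)), ConnectedSpace ↥(G.hom.fiber s) := by
  exact ⟨H21Clif.OddSO.smoothOfRelativeDimension_sorth Q hQ G D, H21Clif.OddConn.connectedSpace_fiber Q hQ G D⟩

end Groth.Agent.S17002
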