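import Groth.Statements.S17007
import Groth.Agent.H21Clif.Local

set_option autoImplicit false
universe u v
open QuadGrp

namespace Groth.Agent.S17007


/-- Over a local ring, for a quadratic form Q on a finite free module of even rank 2m ≥ 2 whose polar
form is a perfect pairing, the isometries satisfying the Dickson condition form a subgroup of index
2 in the group of all isometries. (Points-level form, over a local base, of: the Dickson invariant
from the orthogonal group onto the constant group ℤ/2 is surjective with kernel the special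
orthogonal group.) -/
theorem result {R : Type u} [CommRing R] [IsLocalRing R]
    {M : Type v} [AddCommGroup M] [Module R M] [Module.Free R M] [Module.Finite R M]
    (m : ℕ) (hm : 1 ≤ m) (hM : Module.finrank R M = 2 * m) (Q : QuadraticForm R M) (hQ : QuadGrp.IsRegular Q) :
    ((QuadGrp.SOeven Q).subgroupOf (QuadGrp.O Q)).index = 2 := by
  let b := Module.finBasisOfFinrankEq R M hM
  have hn : Even (2 * m) := even_two_mul m
  have h0 : 0 < 2 * m := by omega
  obtain ⟨r, hr, hrS⟩ := Groth.Agent.H21Clif.exists_not_mem_SOeven b hn h0 hQ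
  refine Subgroup.index_eq_two_iff.mpr ⟨⟨r, hr⟩, fun g => ?_⟩
  simp only [Subgroup.mem_subgroupOf, Subgroup.coe_mul]
  by_cases hg : (g : M ≃ₗ[R] M) ∈ QuadGrp.SOeven Q
  · exact Or.inr ⟨hg, fun h => hrS ((Subgroup.mul_mem_cancel_left _ hg).mp h)⟩
  refine Or.inl ⟨?_, hg⟩
  obtain ⟨z, D, hz, hd⟩ := Groth.Agent.H21Clif.exists_dichotomy b hn hQ (g : M ≃ₗ[R] M) g.2
  obtain ⟨ε, hε, hσ⟩ := hz.exists_idem hQ (Groth.Agent.H21Clif.autOf Q r hr).toAlgHom r
    (fun v => CliffordAlgebra.map_apply_ι _ _) b
  have hgz : Groth.Agent.H21Clif.autOf Q g g.2 z = 1 - z :=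
    (hd.resolve_left fun h => hg ((hz.mem_SOeven_iff b hQ h0 g.2).mpr h.1)).1
  have hrz : Groth.Agent.H21Clif.autOf Q r hr z = 1 - z := by
    rcases Groth.Agent.H21Clif.eq_zero_or_one hε with rfl | rfl
    · exact absurd ((hz.mem_SOeven_iff b hQ h0 hr).mpr (by simpa using hσ)) hrS
    · rw [show Groth.Agent.H21Clif.autOf Q r hr z = z + (1 : R) • (1 - 2 * z) from hσ, one_smul]
      noncomm_ring
  refine (hz.mem_SOeven_iff b hQ h0 ((QuadGrp.O Q).mul_mem g.2 hr)).mpr ?_
  have : CliffordAlgebra.map (QuadGrp.isometryOfMem Q ((g : M ≃ₗ[R] M) * r) ((QuadGrp.O Q).mul_mem g.2 hr)) =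
      (CliffordAlgebra.map (QuadGrp.isometryOfMem Q g g.2)).comp (CliffordAlgebra.map (QuadGrp.isometryOfMem Q r hr)) := by
    apply CliffordAlgebra.hom_ext; ext v; simp [QuadGrp.isometryOfMem]
  rw [Groth.Agent.H21Clif.autOf_apply, this, AlgHom.comp_apply, ← Groth.Agent.H21Clif.autOf_apply,
    ← Groth.Agent.H21Clif.autOf_apply, hrz, map_sub, map_one, hgz, sub_sub_cancel]

end Groth.Agent.S17007
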