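import Groth.Statements.S17008
import Groth.Agent.H21Clif.Local

set_option autoImplicit false
universe u v
open QuadGrp

namespace Groth.Agent.S17008


/-- Over a local ring, let Q be a quadratic form on a finite free module M of even rank 2m ≥ 2 whose
polar form is a perfect pairing. Then every isometry of Q satisfying the Dickson condition is
conjugation by a point of the even Clifford group: an even, locally homogeneous unit u of C(Q)
normalising M with u v u⁻¹ = g v for all v in M. (Points-level form over a local base of: the even
Clifford group is a central extension of the special orthogonal group by the multiplicative group.) -/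
theorem result {R : Type u} [CommRing R] [IsLocalRing R]
    {M : Type v} [AddCommGroup M] [Module R M] [Module.Free R M] [Module.Finite R M]
    (m : ℕ) (hm : 1 ≤ m) (hM : Module.finrank R M = 2 * m) (Q : QuadraticForm R M) (hQ : QuadGrp.IsRegular Q)
    (g : M ≃ₗ[R] M) (hg : g ∈ QuadGrp.SOeven Q) :
    ∃ u ∈ QuadGrp.GSpin Q, ∀ v : M,
      (u : CliffordAlgebra Q) * CliffordAlgebra.ι Q v * ↑u⁻¹ = CliffordAlgebra.ι Q (g v) := by
  obtain ⟨u, hu, heven⟩ := Groth.Agent.H21Clif.exists_lift (Module.finBasisOfFinrankEq R M hM) (even_two_mul m) (by omega) hQ g hg.1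
  refine ⟨u, ⟨⟨Groth.Agent.H21Clif.mem_GPin'_of_intertwines hu, 1, IsIdempotentElem.one, ?_, ?_⟩, heven hg⟩, hu⟩
  · rw [one_smul]; exact heven hg
  · rw [sub_self, zero_smul]; exact Submodule.zero_mem _

end Groth.Agent.S17008
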