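import Groth.Statements.S17012
import Groth.Agent.H21Clif.CliffScheme

set_option autoImplicit false
universe u
open CategoryTheory AlgebraicGeometry
open QuadGrp

namespace Groth.Agent.S17012


/-- Let Q be a quadratic form on R^{2m+1}, m ≥ 1 (rank at least 3), over a commutative ring R whose
half-discriminant in the standard basis is a unit, and let G be a group scheme over Spec R which is
the Pin group of Q (its A-valued points are the locally homogeneous units of the Clifford algebra of
Q_A normalising the module and of Clifford norm one, naturally in A). Then G is smooth over Spec R.
(The published parenthetical assertion is made for every odd rank n ≥ 1; for n = 1 the Pin group of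
x² is an extension of the constant group ℤ/2 by μ₂, which is not smooth where 2 is not a unit, so
rank at least 3 is required: there the spin group is smooth and Pin/Spin is the constant group ℤ/2.) -/
theorem result (R : Type u) [CommRing R] (m : ℕ) (hm : 1 ≤ m)
    (Q : QuadraticForm R (Fin (2 * m + 1) → R))
    (hQ : QuadGrp.IsSemiregular (Pi.basisFun R (Fin (2 * m + 1))) (LinearEquiv.refl R R) Q)
    (G : Over (Spec (CommRingCat.of R))) [GrpObj G] (D : QuadGrp.PinRep Q G) :
    AlgebraicGeometry.Smooth G.hom := by
  exact H21Clif.smooth_pin hm Q hQ G D

end Groth.Agent.S17012
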