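import Groth.Statements.S17015
import Groth.Agent.H21Clif.HalfDisc

set_option autoImplicit false
universe u v
open QuadGrp

namespace Groth.Agent.S17015

lemma key {k : Type*} [Field k] {V : Type*} [AddCommGroup V] [Module k V] (m : ℕ)
    (b : Module.Basis (Fin (2 * m + 1)) k V) (Q : QuadraticForm k V) :
    IsUnit (QuadGrp.halfDisc b (LinearEquiv.refl k k) Q) ↔ QuadraticMap.Nondegenerate (Q := Q) := by
  refine ⟨fun h => ?_, fun h => ?_⟩
  · obtain ⟨d, horth, hv, hP⟩ := H21Clif.exists_orth_basis b Q (even_two_mul m) h
    have hker : ∀ x ∈ LinearMap.ker Q.polarBilin, x = d.repr x (Fin.last _) • d (Fin.last _) := by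
      intro x hx
      have h0 : ∀ j : Fin (2 * m), d.repr x j.castSucc = 0 := by
        refine congrFun (Matrix.eq_zero_of_mulVec_eq_zero (v := fun j : Fin (2 * m) => d.repr x j.castSucc) hP.ne_zero (funext fun j => ?_))
        have h1 := LinearMap.congr_fun (LinearMap.mem_ker.mp hx) (d j.castSucc)
        rw [QuadraticMap.polarBilin_apply_apply, QuadraticMap.polar_comm,
          ← QuadraticMap.polarBilin_apply_apply] at h1
        nth_rw 1 [← d.sum_repr x] at h1
        rw [map_sum, Fin.sum_univ_castSucc] at h1
        simp only [map_smul, smul_eq_mul, QuadraticMap.polarBilin_apply_apply, horth j, mul_zero, add_zero,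
          LinearMap.zero_apply] at h1
        rw [Pi.zero_apply, ← h1]
        simp only [Matrix.mulVec, dotProduct]
        refine Finset.sum_congr rfl fun i _ => ?_
        rw [mul_comm]
        rfl
      nth_rw 1 [← d.sum_repr x]
      rw [Fin.sum_univ_castSucc]
      simp [h0]
    refine ⟨(Submodule.eq_bot_iff _).mpr fun x hx => ?_, ?_⟩
    · have hx' := hker x hx.2
      have h1 := hx.1
      rw [hx', QuadraticMap.map_smul, smul_eq_mul, mul_eq_zero, or_iff_left hv.ne_zero, mul_self_eq_zero] at h1
      rw [hx', h1, zero_smul]
    · refine (Submodule.rank_mono (t := Submodule.span k {d (Fin.last _)}) fun x hx => ?_).trans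
        ((rank_span_le _).trans (by simp))
      rw [hker x hx]
      exact Submodule.smul_mem _ _ (Submodule.subset_span rfl)
  · by_contra hu
    have h0 : QuadGrp.halfDisc b (LinearEquiv.refl k k) Q = 0 := by
      rwa [isUnit_iff_ne_zero, not_not] at hu
    have hdet : (H21Clif.polarMat Q b).det = 0 := by
      rw [← H21Clif.two_mul_halfDisc b Q (odd_two_mul_add_one m), h0, mul_zero]
    obtain ⟨w, hw0, hw⟩ := Matrix.exists_mulVec_eq_zero_iff.mpr hdet
    set v := ∑ i, w i • b i with hvdef
    have hrepr : ∀ i, b.repr v i = w i := fun i => by simp [v, Finsupp.single_apply]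
    have hv0 : v ≠ 0 := fun hz => hw0 (funext fun i => by rw [← hrepr, hz]; simp)
    have hvker : v ∈ LinearMap.ker Q.polarBilin := LinearMap.mem_ker.mpr (b.ext fun j => by
      rw [QuadraticMap.polarBilin_apply_apply, QuadraticMap.polar_comm, ← QuadraticMap.polarBilin_apply_apply,
        map_sum, LinearMap.zero_apply]
      refine Eq.trans (Finset.sum_congr rfl fun i _ => ?_) (congrFun hw j)
      rw [map_smul, smul_eq_mul, mul_comm]
      rfl)
    have hQv : Q v ≠ 0 := fun hz => hv0 ((Submodule.eq_bot_iff _).mp h.radical_eq_bot v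
      ⟨hz, LinearMap.mem_ker.mp hvker⟩)
    by_cases h2 : (2 : k) = 0
    · obtain ⟨i, hi⟩ := Function.ne_iff.mp hw0
      obtain ⟨d, hdl, -⟩ := H21Clif.exists_basis_last b v i (by rw [hrepr]; exact isUnit_iff_ne_zero.mpr hi)
      have horth : ∀ j : Fin (2 * m), QuadraticMap.polar Q (d j.castSucc) (d (Fin.last _)) = 0 := fun j => by
        rw [hdl, QuadraticMap.polar_comm]
        exact LinearMap.congr_fun (LinearMap.mem_ker.mp hvker) (d j.castSucc)
      have hd := H21Clif.halfDisc_orth d Q (even_two_mul m) horth
      rw [H21Clif.halfDisc_basis b Q (odd_two_mul_add_one m) d, h0, mul_zero, hdl, eq_comm, mul_eq_zero,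
        or_iff_right hQv] at hd
      obtain ⟨t, ht0, ht⟩ := Matrix.exists_mulVec_eq_zero_iff.mpr hd
      set y := ∑ j, t j • d j.castSucc with hydef
      have hyker : y ∈ LinearMap.ker Q.polarBilin := LinearMap.mem_ker.mpr (d.ext fun j => by
        rw [QuadraticMap.polarBilin_apply_apply, QuadraticMap.polar_comm, ← QuadraticMap.polarBilin_apply_apply,
          map_sum, LinearMap.zero_apply]
        induction j using Fin.lastCases with
        | last =>
          refine Finset.sum_eq_zero fun i _ => ?_
          rw [map_smul, QuadraticMap.polarBilin_apply_apply, QuadraticMap.polar_comm, horth i, smul_zero]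
        | cast j =>
          refine Eq.trans (Finset.sum_congr rfl fun i _ => ?_) (congrFun ht j)
          rw [map_smul, smul_eq_mul, mul_comm]
          rfl)
      obtain ⟨v₀, -, hle⟩ := (rank_submodule_le_one_iff _).mp h.rank_rad_polar_le
      obtain ⟨a, ha⟩ := Submodule.mem_span_singleton.mp (hle hvker)
      obtain ⟨c, hc⟩ := Submodule.mem_span_singleton.mp (hle hyker)
      have hyv : a • y = c • v := by rw [← ha, ← hc, smul_comm]
      have hlast := congrArg (fun z => d.repr z (Fin.last _)) hyv
      have hyl : d.repr y (Fin.last _) = 0 := by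
        simp [y, Finsupp.single_apply, Fin.castSucc_ne_last]
      simp only [map_smul, Finsupp.smul_apply, hyl, smul_zero] at hlast
      rw [← hdl, d.repr_self, Finsupp.single_eq_same, smul_eq_mul, mul_one] at hlast
      have ha0 : a ≠ 0 := fun hz => hv0 (by rw [← ha, hz, zero_smul])
      rw [← hlast, zero_smul, smul_eq_zero, or_iff_right ha0] at hyv
      refine ht0 (funext fun j => ?_)
      have h3 := congrArg (fun z => d.repr z j.castSucc) hyv
      simpa [y, Finsupp.single_apply] using h3
    · refine hQv (mul_left_cancel₀ h2 ?_)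
      rw [mul_zero]
      have h1 := LinearMap.congr_fun (LinearMap.mem_ker.mp hvker) v
      rwa [QuadraticMap.polarBilin_apply_apply, QuadraticMap.polar_self, nsmul_eq_mul, Nat.cast_ofNat,
        LinearMap.zero_apply] at h1


/-- For a quadratic form Q on a free module with a basis b indexed by Fin (2m+1) over a commutative ring
R, the half-discriminant of Q relative to b is a unit if and only if for every prime ideal p of R
the base change of Q to the residue field of p is nondegenerate (zero quadratic radical and polar
kernel of dimension at most one — over a field this is the fibrewise non-degeneracy of the source: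
smooth projective quadric, defect one with non-zero restriction in characteristic two). -/
theorem result {R : Type u} [CommRing R]
    {M : Type v} [AddCommGroup M] [Module R M] [Module.Free R M]
    (m : ℕ) (b : Module.Basis (Fin (2 * m + 1)) R M) (Q : QuadraticForm R M) :
    IsUnit (QuadGrp.halfDisc b (LinearEquiv.refl R R) Q) ↔
      ∀ (p : Ideal R) [p.IsPrime], QuadraticMap.Nondegenerate (Q := QuadGrp.baseChangeForm p.ResidueField Q) := by
  have hk : ∀ (p : Ideal R) [p.IsPrime], QuadraticMap.Nondegenerate (Q := QuadGrp.baseChangeForm p.ResidueField Q) ↔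
      QuadGrp.halfDisc b (LinearEquiv.refl R R) Q ∉ p := fun p _ => by
    rw [← key m (Algebra.TensorProduct.basis p.ResidueField b), Groth.Agent.H21Clif.halfDisc_baseChange,
      isUnit_iff_ne_zero, Ne, Ideal.algebraMap_residueField_eq_zero]
  refine ⟨fun h p _ => (hk p).mpr fun hmem => Ideal.IsPrime.ne_top ‹_› (Ideal.eq_top_of_isUnit_mem p hmem h),
    fun h => ?_⟩
  by_contra hu
  obtain ⟨p, hp, hmem⟩ := exists_max_ideal_of_mem_nonunits hu
  exact (hk p).mp (h p) hmem

end Groth.Agent.S17015
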