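import Groth.Statements.S17016
import Groth.Agent.H21Clif.Local

set_option autoImplicit false
universe u
open QuadGrp

namespace Groth.Agent.S17016

set_option maxHeartbeats 1000000


/-- For the standard split quadratic form Σ x_{2i} x_{2i+1} on R^{2m} over any commutative ring R, with
standard basis vectors e_j in the Clifford algebra, the product w of the elements 1 − 2 e_{2i}
e_{2i+1} (i < m, which pairwise commute) satisfies w² = 1 and anticommutes with every e_j. (Hence w
is central in the even Clifford algebra; over rings in which 2 is invertible (1 − w)/2 is the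
non-trivial central idempotent of the even part.) -/
theorem result (R : Type u) [CommRing R] (m : ℕ) :
    let Q := QuadGrp.splitForm R (m * 2)
    let e : Fin (m * 2) → CliffordAlgebra Q := fun j => CliffordAlgebra.ι Q (Pi.single j 1)
    let w : CliffordAlgebra Q :=
      ((List.finRange m).map fun i => 1 - 2 * (e (finProdFinEquiv (i, 0)) * e (finProdFinEquiv (i, 1)))).prod
    w * w = 1 ∧ ∀ j : Fin (m * 2), e j * w = -(w * e j) := by
  intro Q e w
  have hQ : ∀ x : Fin (m * 2) → R,
      Q x = ∑ i : Fin m, x (finProdFinEquiv (i, 0)) * x (finProdFinEquiv (i, 1)) := fun x => by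
    have hdiv : m * 2 / 2 = m := Nat.mul_div_cancel m two_pos
    simp only [Q, QuadGrp.splitForm, dif_neg (show ¬ m * 2 % 2 = 1 by simp), add_zero, sum_apply,
      QuadraticMap.linMulLin_apply, LinearMap.proj_apply]
    refine Finset.sum_equiv (finCongr hdiv) (by simp) fun i _ => ?_
    congr 2 <;> ext <;> simp [finProdFinEquiv] <;> omega
  have hval : ∀ j, Q (Pi.single j 1) = 0 := fun j => by
    rw [hQ]
    refine Finset.sum_eq_zero fun i _ => ?_
    by_cases h : finProdFinEquiv (i, (0 : Fin 2)) = j
    · rw [Pi.single_eq_of_ne (i' := finProdFinEquiv (i, (1 : Fin 2))) (by simp [← h]), mul_zero]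
    · rw [Pi.single_eq_of_ne h, zero_mul]
  have hpol : ∀ a c : Fin (m * 2), QuadraticMap.polar Q (Pi.single a 1) (Pi.single c 1) =
      ∑ i : Fin m, ((if finProdFinEquiv (i, 0) = a then (1 : R) else 0) * (if finProdFinEquiv (i, 1) = c then 1 else 0) +
        (if finProdFinEquiv (i, 0) = c then 1 else 0) * (if finProdFinEquiv (i, 1) = a then 1 else 0)) := fun a c => by
    simp only [QuadraticMap.polar, hQ, Pi.add_apply, ← Finset.sum_sub_distrib]
    refine Finset.sum_congr rfl fun i _ => ?_
    simp only [Pi.single_apply, eq_comm]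
    ring
  have hsq : ∀ j, e j * e j = 0 := fun j => by
    simp only [e, CliffordAlgebra.ι_sq_scalar, hval, map_zero]
  have hadd : ∀ a c, e a * e c + e c * e a =
      algebraMap R _ (QuadraticMap.polar Q (Pi.single a 1) (Pi.single c 1)) := fun a c =>
    CliffordAlgebra.ι_mul_ι_add_swap _ _
  have hef : ∀ i : Fin m, e (finProdFinEquiv (i, 0)) * e (finProdFinEquiv (i, 1)) +
      e (finProdFinEquiv (i, 1)) * e (finProdFinEquiv (i, 0)) = 1 := fun i => by
    rw [hadd, hpol, Finset.sum_eq_single i (fun k _ hk => by simp [hk]) (by simp)]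
    simp
  have hoff : ∀ (i k : Fin m) (a c : Fin 2), i ≠ k → e (finProdFinEquiv (i, a)) * e (finProdFinEquiv (k, c)) =
      -(e (finProdFinEquiv (k, c)) * e (finProdFinEquiv (i, a))) := fun i k a c hik => by
    refine eq_neg_of_add_eq_zero_left ?_
    rw [hadd, hpol, Finset.sum_eq_zero fun l _ => ?_, map_zero]
    simp only [finProdFinEquiv.apply_eq_iff_eq, Prod.mk.injEq]
    split_ifs <;> simp_all
  let f : Fin m → CliffordAlgebra Q := fun i =>
    1 - 2 * (e (finProdFinEquiv (i, 0)) * e (finProdFinEquiv (i, 1)))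
  have hcomm : ∀ (i k : Fin m) (c : Fin 2), i ≠ k →
      f i * e (finProdFinEquiv (k, c)) = e (finProdFinEquiv (k, c)) * f i := fun i k c hik => by
    simp only [f, sub_mul, mul_sub, one_mul, mul_one, two_mul, add_mul, mul_add]
    congr 1
    rw [mul_assoc (e _) (e _) (e (finProdFinEquiv (k, c))), hoff i k 1 c hik, mul_neg, ← mul_assoc,
      hoff i k 0 c hik, neg_mul, neg_neg, mul_assoc]
  have hanti : ∀ (i : Fin m) (c : Fin 2),
      f i * e (finProdFinEquiv (i, c)) = -(e (finProdFinEquiv (i, c)) * f i) := fun i c => by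
    have h1 := hef i
    have hE := hsq (finProdFinEquiv (i, 0))
    have hF := hsq (finProdFinEquiv (i, 1))
    simp only [f]
    obtain rfl | rfl : c = 0 ∨ c = 1 := by omega
    all_goals
      generalize e (finProdFinEquiv (i, 0)) = E at h1 hE hF ⊢
      generalize e (finProdFinEquiv (i, 1)) = F at h1 hE hF ⊢
      have hEFE : E * F * E = E := by
        calc E * F * E = E * (E * F + F * E) - E * E * F := by noncomm_ring
          _ = E := by rw [h1, hE]; noncomm_ring
      have hFEF : F * (E * F) = F := by
        calc F * (E * F) = (E * F + F * E) * F - E * (F * F) := by noncomm_ring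
          _ = F := by rw [h1, hF]; noncomm_ring
      refine eq_neg_of_add_eq_zero_left ?_
    · change (1 - 2 * (E * F)) * E + E * (1 - 2 * (E * F)) = 0
      calc _ = 2 * E - 2 * (E * F * E) - 2 * (E * E * F) := by noncomm_ring
        _ = 0 := by rw [hEFE, hE]; noncomm_ring
    · change (1 - 2 * (E * F)) * F + F * (1 - 2 * (E * F)) = 0
      calc _ = 2 * F - 2 * (E * (F * F)) - 2 * (F * (E * F)) := by noncomm_ring
        _ = 0 := by rw [hFEF, hF]; noncomm_ring
  have hf2 : ∀ i, f i * f i = 1 := fun i => by
    have h1 := hef i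
    have hE := hsq (finProdFinEquiv (i, 0))
    simp only [f]
    generalize e (finProdFinEquiv (i, 0)) = E at h1 hE ⊢
    generalize e (finProdFinEquiv (i, 1)) = F at h1 hE ⊢
    have hEFEF : E * F * (E * F) = E * F := by
      calc E * F * (E * F) = E * (E * F + F * E) * F - E * E * F * F := by noncomm_ring
        _ = E * F := by rw [h1, hE]; noncomm_ring
    calc _ = 1 - 4 * (E * F) + 4 * (E * F * (E * F)) := by noncomm_ring
      _ = 1 := by rw [hEFEF]; noncomm_ring
  have hff : ∀ i k, i ≠ k → f i * f k = f k * f i := fun i k hik => by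
    have h : Commute (f i) (f k) := (Commute.one_right _).sub_right ((Commute.ofNat_right _ 2).mul_right
      (Commute.mul_right (hcomm i k 0 hik) (hcomm i k 1 hik)))
    exact h
  suffices H : ∀ l : List (Fin m), l.Nodup → (l.map f).prod * (l.map f).prod = 1 ∧
      (∀ i, i ∈ l → ∀ c, e (finProdFinEquiv (i, c)) * (l.map f).prod = -((l.map f).prod * e (finProdFinEquiv (i, c)))) ∧
      (∀ i, i ∉ l → (∀ c, e (finProdFinEquiv (i, c)) * (l.map f).prod = (l.map f).prod * e (finProdFinEquiv (i, c))) ∧
        f i * (l.map f).prod = (l.map f).prod * f i) by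
    obtain ⟨h1, h2, -⟩ := H (List.finRange m) (List.nodup_finRange m)
    refine ⟨h1, fun j => ?_⟩
    obtain ⟨⟨i, c⟩, rfl⟩ := finProdFinEquiv.surjective j
    exact h2 i (List.mem_finRange i) c
  intro l hl
  induction l with
  | nil => simp
  | cons a l ih =>
    obtain ⟨hal, hl'⟩ := List.nodup_cons.mp hl
    obtain ⟨h1, h2, h3⟩ := ih hl'
    simp only [List.map_cons, List.prod_cons]
    set P := (l.map f).prod
    refine ⟨?_, fun i hi c => ?_, fun i hi => ⟨fun c => ?_, ?_⟩⟩
    · rw [mul_assoc, ← mul_assoc P, ← (h3 a hal).2, mul_assoc (f a) P, h1, mul_one, hf2]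
    · rcases List.mem_cons.mp hi with rfl | hi
      · rw [← mul_assoc, show e (finProdFinEquiv (i, c)) * f i = -(f i * e (finProdFinEquiv (i, c))) by rw [hanti, neg_neg], neg_mul, mul_assoc, (h3 i hal).1 c, mul_assoc]
      · rw [← mul_assoc, ← hcomm a i c (fun h => hal (h ▸ hi)), mul_assoc, h2 i hi c, mul_neg, mul_assoc]
    · rw [List.mem_cons, not_or] at hi
      rw [← mul_assoc, ← hcomm a i c (Ne.symm hi.1), mul_assoc, (h3 i hi.2).1 c, mul_assoc]
    · rw [List.mem_cons, not_or] at hi
      rw [← mul_assoc, hff i a hi.1, mul_assoc, (h3 i hi.2).2, mul_assoc]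

end Groth.Agent.S17016
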