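import Groth.Statements.S17017
import Groth.Agent.H21Clif.Local

set_option autoImplicit false
universe u
open QuadGrp

namespace Groth.Agent.S17017

open CliffordAlgebra

variable {R : Type u} [CommRing R] {M : Type u} [AddCommGroup M] [Module R M]

lemma perm_induction (P : Fin 3 → Fin 3 → Fin 3 → Prop) (h0 : ∀ i k, P i i k)
    (h1 : ∀ i j k, P j i k → P i j k) (h2 : ∀ i j k, P i k j → P i j k) (h : P 0 1 2) :
    ∀ i j k, P i j k := fun i j k => by
  fin_cases i <;> fin_cases j <;> fin_cases k <;>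
    first
    | exact h0 _ _
    | exact h2 _ _ _ (h0 _ _)
    | exact h1 _ _ _ (h2 _ _ _ (h0 _ _))
    | exact h
    | exact h1 _ _ _ h
    | exact h2 _ _ _ h
    | exact h1 _ _ _ (h2 _ _ _ h)
    | exact h2 _ _ _ (h1 _ _ _ h)
    | exact h1 _ _ _ (h2 _ _ _ (h1 _ _ _ h))

lemma top_span_sup (b : Module.Basis (Fin 3) R M) (Q : QuadraticForm R M) {x : CliffordAlgebra Q}
    (hx : x ∈ evenOdd Q 1) :
    x ∈ LinearMap.range (ι Q) ⊔ Submodule.span R {H21Clif.topElt b Q} := by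
  set N := LinearMap.range (ι Q) ⊔ Submodule.span R {H21Clif.topElt b Q}
  have hι : ∀ v, ι Q v ∈ N := fun v => Submodule.mem_sup_left ⟨v, rfl⟩
  have hs : ∀ (r : R) v, algebraMap R _ r * ι Q v ∈ N := fun r v => by
    rw [← Algebra.smul_def]; exact N.smul_mem _ (hι v)
  have hswap1 : ∀ u v w, ι Q u * ι Q v * ι Q w + ι Q v * ι Q u * ι Q w ∈ N := fun u v w => by
    rw [← add_mul, ι_mul_ι_add_swap]; exact hs _ _
  have hswap2 : ∀ u v w, ι Q u * ι Q v * ι Q w + ι Q u * ι Q w * ι Q v ∈ N := fun u v w => by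
    rw [mul_assoc, mul_assoc, ← mul_add, ι_mul_ι_add_swap, ← Algebra.commutes]; exact hs _ _
  have htop : ι Q (b 0) * ι Q (b 1) * ι Q (b 2) ∈ N := Submodule.mem_sup_right (Submodule.subset_span (by
    simp [H21Clif.topElt, List.ofFn_succ, mul_assoc]))
  have h1 : ∀ {u v w}, ι Q v * ι Q u * ι Q w ∈ N → ι Q u * ι Q v * ι Q w ∈ N := fun h =>
    (Submodule.add_mem_iff_left _ h).mp (hswap1 _ _ _)
  have h2 : ∀ {u v w}, ι Q u * ι Q w * ι Q v ∈ N → ι Q u * ι Q v * ι Q w ∈ N := fun h =>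
    (Submodule.add_mem_iff_left _ h).mp (hswap2 _ _ _)
  have hrep : ∀ u w, ι Q u * ι Q u * ι Q w ∈ N := fun u w => by rw [ι_sq_scalar]; exact hs _ _
  have hbasis : ∀ i j k : Fin 3, ι Q (b i) * ι Q (b j) * ι Q (b k) ∈ N :=
    perm_induction (fun i j k => ι Q (b i) * ι Q (b j) * ι Q (b k) ∈ N) (fun _ _ => hrep _ _)
      (fun _ _ _ h => h1 h) (fun _ _ _ h => h2 h) htop
  have hmem : ∀ u v w, ι Q u * ι Q v * ι Q w ∈ N := fun u v w => by
    rw [← b.sum_repr u, ← b.sum_repr v, ← b.sum_repr w]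
    simp only [map_sum, map_smul, Finset.sum_mul, Finset.mul_sum, smul_mul_assoc, mul_smul_comm]
    exact Submodule.sum_mem _ fun i _ => N.smul_mem _ (Submodule.sum_mem _ fun j _ => N.smul_mem _
      (Submodule.sum_mem _ fun k _ => N.smul_mem _ (hbasis _ _ _)))
  have hmem' : ∀ u v w, ι Q u * (ι Q v * ι Q w) ∈ N := fun u v w => by rw [← mul_assoc]; exact hmem u v w
  induction x, hx using CliffordAlgebra.odd_induction with
  | ι v => exact hι v
  | add x y _ _ hx hy => exact N.add_mem hx hy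
  | ι_mul_ι_mul m₁ m₂ x _ hx =>
    obtain ⟨_, ⟨v, rfl⟩, y, hy, rfl⟩ := Submodule.mem_sup.mp hx
    obtain ⟨r, rfl⟩ := Submodule.mem_span_singleton.mp hy
    rw [mul_add, mul_smul_comm]
    refine N.add_mem (hmem _ _ _) (N.smul_mem r ?_)
    have e : H21Clif.topElt b Q = ι Q (b 0) * ι Q (b 1) * ι Q (b 2) := by
      simp [H21Clif.topElt, List.ofFn_succ, mul_assoc]
    have e2 : ι Q m₁ * ι Q m₂ * H21Clif.topElt b Q = ι Q m₁ * (ι Q m₂ * ι Q (b 0) * ι Q (b 1)) * ι Q (b 2) := by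
      rw [e]; simp only [mul_assoc]
    rw [e2]
    obtain ⟨_, ⟨v', rfl⟩, y', hy', hv'⟩ := Submodule.mem_sup.mp (hmem m₂ (b 0) (b 1))
    obtain ⟨r', rfl⟩ := Submodule.mem_span_singleton.mp hy'
    rw [← hv', mul_add, add_mul, mul_smul_comm, smul_mul_assoc]
    refine N.add_mem (hmem _ _ _) (N.smul_mem r' ?_)
    rw [e, mul_assoc (ι Q m₁), mul_assoc (ι Q (b 0) * ι Q (b 1)), ι_sq_scalar, ← Algebra.commutes,
      ← Algebra.smul_def, mul_smul_comm]
    exact N.smul_mem _ (hmem' _ _ _)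

lemma conj_mem (b : Module.Basis (Fin 3) R M) (Q : QuadraticForm R M) {u : (CliffordAlgebra Q)ˣ}
    (hu : (u : CliffordAlgebra Q) ∈ evenOdd Q 0) (v : M) :
    ∃ v', (u : CliffordAlgebra Q) * ι Q v * ↑u⁻¹ = ι Q v' := by
  have hu' : (↑u⁻¹ : CliffordAlgebra Q) ∈ evenOdd Q 0 := ((QuadGrp.evenUnits Q).inv_mem hu :)
  have hodd : (u : CliffordAlgebra Q) * ι Q v * ↑u⁻¹ ∈ evenOdd Q 1 := by
    simpa using SetLike.mul_mem_graded (SetLike.mul_mem_graded hu (ι_mem_evenOdd_one Q v)) hu'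
  obtain ⟨_, ⟨v', rfl⟩, y, hy, he⟩ := Submodule.mem_sup.mp (top_span_sup b Q hodd)
  obtain ⟨r, rfl⟩ := Submodule.mem_span_singleton.mp hy
  have hτι : ∀ w, H21Clif.tau b Q (ι Q w) = 0 := fun w =>
    H21Clif.top_eq_zero_of_mem_degLE b (k := 1) (by norm_num) (by
      simpa using H21Clif.toExt_prod_mem b Q [w])
  have h : H21Clif.tau b Q ((u : CliffordAlgebra Q) * (ι Q v * ↑u⁻¹)) = H21Clif.tau b Q (ι Q v) := by
    rw [H21Clif.tau_even_comm b hu, mul_assoc, Units.inv_mul, mul_one]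
  rw [← mul_assoc, ← he, map_add, map_smul, hτι, hτι, H21Clif.tau_topElt, zero_add, smul_eq_mul, mul_one] at h
  exact ⟨v', by rw [← he, h, zero_smul, add_zero]⟩


/-- Over a field k, for the standard split quadratic form x₀² + x₁x₂ on k³, every even unit of the
Clifford algebra normalises the subspace k³, i.e. lies in the naive Clifford group; so the even
Clifford group is the whole unit group of the even Clifford algebra. (The published claim is made
over fields of characteristic different from 2; here it is stated for every field.) -/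
theorem result (k : Type u) [Field k] :
    QuadGrp.evenUnits (QuadGrp.splitForm k 3) ≤ QuadGrp.GPin' (QuadGrp.splitForm k 3) := by
  intro u hu
  let b := Pi.basisFun k (Fin 3)
  rw [QuadGrp.mem_GPin']
  refine le_antisymm ?_ ?_
  · rintro _ ⟨_, ⟨v, rfl⟩, rfl⟩
    obtain ⟨v', hv'⟩ := conj_mem b _ hu v
    exact ⟨v', hv'.symm⟩
  · rintro _ ⟨v, rfl⟩
    obtain ⟨v', hv'⟩ := conj_mem b _ ((QuadGrp.evenUnits _).inv_mem hu) v
    refine ⟨CliffordAlgebra.ι _ v', ⟨v', rfl⟩, ?_⟩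
    change (u : CliffordAlgebra (QuadGrp.splitForm k 3)) * CliffordAlgebra.ι _ v' * (↑u⁻¹ : CliffordAlgebra (QuadGrp.splitForm k 3)) = _
    rw [← hv', inv_inv]
    simp [mul_assoc]

end Groth.Agent.S17017
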