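import Groth.Statements.S17021
import Groth.Agent.H12Pic.ExtendDesc
import Groth.Agent.H18Et.FEtDepth
import Groth.Agent.H11Ample.Converse
import Groth.Agent.H4Depth.EquidimS2
import Groth.Agent.H05EGA4.SerreCond
-- import your own Groth.Agent.* helpers here

set_option autoImplicit false
set_option linter.style.haveILetI false
universe u
open CategoryTheory CategoryTheory.Limits AlgebraicGeometry
open PicF

namespace Groth.Agent.S17021

/-- Let X be a locally Noetherian scheme all of whose local rings satisfy Serre's condition (S₂), p a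
closed point of X whose local ring has Krull dimension 2, U the open complement of p and L an
invertible O_U-module. Suppose L extends to an invertible module over an étale neighbourhood of p:
there are an étale morphism j : V → X, a point q of V with j(q) = p and an invertible O_V-module M
whose pullback to j⁻¹(U) is isomorphic to the pullback of L along j⁻¹(U) → U. Then L extends to X:
some invertible O_X-module has pullback to U isomorphic to L. (Stated for schemes; the published
statement is for a Deligne–Mumford stack of dimension 2 satisfying (S₂) and its proof passes to a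
scheme on an étale chart. Dimension 2 is imposed here on the local ring at p. The published setting
takes everything essentially of finite type over a field of characteristic zero; here X is only
assumed locally Noetherian.) -/
theorem result {X : Scheme.{u}} [IsLocallyNoetherian X]
    (hS2 : ∀ x : X, LocCoh.HasSk 2 (X.presheaf.stalk x) (X.presheaf.stalk x))
    (p : X) (hp : IsClosed ({p} : Set X)) (hdim : ringKrullDim (X.presheaf.stalk p) = 2)
    (U : X.Opens) (hU : (U : Set X) = {p}ᶜ)
    (L : (U : Scheme.{u}).Modules) (hL : PicF.IsInvertible L)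
    {V : Scheme.{u}} (j : V ⟶ X) [Etale j] (q : V) (hq : j.base q = p)
    (M : V.Modules) (hM : PicF.IsInvertible M)
    (e : (Scheme.Modules.pullback (j ⁻¹ᵁ U).ι).obj M ≅ (Scheme.Modules.pullback (j ∣_ U)).obj L) :
    ∃ N : X.Modules, PicF.IsInvertible N ∧ Nonempty ((Scheme.Modules.pullback U.ι).obj N ≅ L) := by
  haveI : IsLocallyNoetherian V := LocallyOfFiniteType.isLocallyNoetherian j
  have hxp : ∀ x : X, x ∉ U → x = p := fun x hx => by
    by_contra h
    exact hx (show x ∈ (U : Set X) by rw [hU]; exact h)
  have hD : ∀ x : X, x ∉ U → (2 : ℕ∞) ≤ LocCoh.depth (X.presheaf.stalk x) (X.presheaf.stalk x) := by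
    intro x hx
    obtain rfl := hxp x hx
    let A := X.presheaf.stalk x
    let m : PrimeSpectrum A := ⟨IsLocalRing.maximalIdeal A, inferInstance⟩
    have hh : (2 : ℕ∞) ≤ m.asIdeal.height := by
      have h1 := IsLocalRing.maximalIdeal_height_eq_ringKrullDim (R := A)
      rw [hdim] at h1
      exact WithBot.coe_le_coe.1 (le_of_eq h1.symm)
    have h2 := H4Depth.two_le_depth_of_hasSk (hS2 x) m hh
    have hu : (IsLocalRing.maximalIdeal A).primeCompl ≤ IsUnit.submonoid A := fun a ha =>
      Classical.not_not.1 ha
    rw [← H05EGA4.depth_eq_of_ringEquiv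
      (IsLocalization.atUnits A (IsLocalRing.maximalIdeal A).primeCompl hu
        (S := Localization.AtPrime (IsLocalRing.maximalIdeal A))).toRingEquiv] at h2
    exact h2
  haveI : Coh.IsQCoh L := H28Mero.isQCoh_of_isInvertible hL
  refine ⟨(Scheme.Modules.pushforward U.ι).obj L,
    H12Pic.ExtendDesc.isInvertible_of_pullback U L hD hL fun x hx => ?_,
    ⟨(Scheme.Modules.restrictFunctorIsoPullback U.ι).symm.app _ ≪≫
      (asIso (Scheme.Modules.restrictAdjunction U.ι).counit).app L⟩⟩
  have hqx : j.base q = x := hq.trans (hxp x hx).symm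
  have sq : IsPullback (j ∣_ U) (j ⁻¹ᵁ U).ι U.ι j := isPullback_morphismRestrict j U
  haveI := S11133.result U.ι j (j ∣_ U) (j ⁻¹ᵁ U).ι sq L
  let θ : (Scheme.Modules.pullback j).obj ((Scheme.Modules.pushforward U.ι).obj L) ≅
      (Scheme.Modules.pushforward (j ⁻¹ᵁ U).ι).obj ((Scheme.Modules.pullback (j ∣_ U)).obj L) :=
    asIso ((Scheme.Modules.pullback j).map ((Scheme.Modules.pushforward U.ι).map
      ((Scheme.Modules.pullbackPushforwardAdjunction (j ∣_ U)).unit.app L)) ≫
    (Scheme.Modules.pullback j).map ((Scheme.Modules.pushforwardComp (j ∣_ U) U.ι ≪≫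
        Scheme.Modules.pushforwardCongr sq.w ≪≫ (Scheme.Modules.pushforwardComp (j ⁻¹ᵁ U).ι j).symm).hom.app
      ((Scheme.Modules.pullback (j ∣_ U)).obj L)) ≫
    (Scheme.Modules.pullbackPushforwardAdjunction j).counit.app
      ((Scheme.Modules.pushforward (j ⁻¹ᵁ U).ι).obj ((Scheme.Modules.pullback (j ∣_ U)).obj L)))
  obtain ⟨W, g, hW, hg⟩ := H12Pic.ExtendDesc.exists_gen_pushforward (j ⁻¹ᵁ U)
    ((Scheme.Modules.pullback (j ∣_ U)).obj L)
    (fun y hy => (hD (j y) hy).trans (H18Et.FEtDepth.depth_le_of_flat j y)) hM e q
  exact ⟨V, j, q, inferInstance, hqx, W, θ.inv.app W g, hW, H11Ample.isGen_map_iso θ.symm hg⟩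

end Groth.Agent.S17021
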