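import Groth.Statements.S6554
import Groth.Agent.H9Hens.StalkUnramified

set_option autoImplicit false
universe u
open CategoryTheory CategoryTheory.Limits AlgebraicGeometry
open Curves

namespace Groth.Agent.S6554

theorem isIso_stalkSpecializes_of_eq {Y : Scheme.{u}} {y y' : Y} (h : y = y') :
    IsIso (Y.presheaf.stalkSpecializes (specializes_of_eq h)) := by
  subst h
  rw [TopCat.Presheaf.stalkSpecializes_refl]
  infer_instance


/-- (3) ⇔ (4) ⇔ (5): let k be a field and f : X → Y a morphism over k of smooth curves over k (integral,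
separated, of finite type and smooth over k, of dimension one) which is nonconstant: f(ξ_X) = ξ_Y
for the generic points ξ_X of X and ξ_Y of Y (hypothesis e), so that the function field k(Y) maps
into k(X). Then: some nonempty open U ⊆ X has f|_U unramified if and only if some nonempty open U ⊆
X has f|_U étale; and the latter holds if and only if k(X)/k(Y) is a finite separable extension.
(The published statement also lists two further equivalent conditions, that df : f^*Ω_{Y/k} →
Ω_{X/k} is nonzero and that Ω_{X/Y} is supported on a proper closed subset; this row omits them. For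
a constant f every condition stated here fails, so assuming f nonconstant loses nothing.) -/
theorem result (k : Type u) [Field k]
    (X Y : Scheme.{u}) [X.Over (Spec (CommRingCat.of k))] [Y.Over (Spec (CommRingCat.of k))]
    [IsIntegral X] [IsSeparated (X ↘ (Spec (CommRingCat.of k)))] [LocallyOfFiniteType (X ↘ (Spec (CommRingCat.of k)))] [QuasiCompact (X ↘ (Spec (CommRingCat.of k)))] (hdX : topologicalKrullDim X = 1) [Smooth (X ↘ (Spec (CommRingCat.of k)))]
    [IsIntegral Y] [IsSeparated (Y ↘ (Spec (CommRingCat.of k)))] [LocallyOfFiniteType (Y ↘ (Spec (CommRingCat.of k)))] [QuasiCompact (Y ↘ (Spec (CommRingCat.of k)))] (hdY : topologicalKrullDim Y = 1) [Smooth (Y ↘ (Spec (CommRingCat.of k)))]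
    (f : X ⟶ Y) (hf : f ≫ (Y ↘ (Spec (CommRingCat.of k))) = X ↘ (Spec (CommRingCat.of k))) (e : f (genericPoint X) = genericPoint Y) :
    letI := ((Y.presheaf.stalkSpecializes (specializes_of_eq e) ≫ f.stalkMap (genericPoint X)).hom).toAlgebra
    ((∃ U : X.Opens, (U : Set X).Nonempty ∧ FormallyUnramified (U.ι ≫ f)) ↔
      (∃ U : X.Opens, (U : Set X).Nonempty ∧ Etale (U.ι ≫ f))) ∧
    ((∃ U : X.Opens, (U : Set X).Nonempty ∧ Etale (U.ι ≫ f)) ↔
      (FiniteDimensional Y.functionField X.functionField ∧ Algebra.IsSeparable Y.functionField X.functionField)) := by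
  have : LocallyOfFiniteType (f ≫ Y ↘ Spec (CommRingCat.of k)) := by rw [hf]; infer_instance
  have : LocallyOfFiniteType f := locallyOfFiniteType_of_comp f (Y ↘ Spec (CommRingCat.of k))
  have : IsLocallyNoetherian Y := LocallyOfFiniteType.isLocallyNoetherian (Y ↘ Spec (CommRingCat.of k))
  have : IsIso (Y.presheaf.stalkSpecializes (specializes_of_eq e)) := isIso_stalkSpecializes_of_eq e
  set ι := Y.presheaf.stalkSpecializes (specializes_of_eq e) with hι
  have hbij : Function.Bijective ι.hom := ConcreteCategory.bijective_of_isIso ι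
  letI alg : Algebra Y.functionField X.functionField := (ι ≫ f.stalkMap (genericPoint X)).hom.toAlgebra
  have hfield : IsField (Y.presheaf.stalk (f (genericPoint X))) := by
    rw [e]; exact Field.toIsField Y.functionField
  have hflat : (f.stalkMap (genericPoint X)).hom.Flat := by
    algebraize [(f.stalkMap (genericPoint X)).hom]
    letI := hfield.toField
    exact RingHom.flat_algebraMap_iff.mpr inferInstance
  have hup : ∀ U : X.Opens, (U : Set X).Nonempty → genericPoint X ∈ U := fun U h =>
    ((genericPoint_spec X).mem_open_set_iff U.isOpen).mpr (by simpa using h)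
  have key : (f.stalkMap (genericPoint X)).hom.FormallyUnramified ↔
      (FiniteDimensional Y.functionField X.functionField ∧ Algebra.IsSeparable Y.functionField X.functionField) := by
    constructor
    · intro h
      have : Algebra.FormallyUnramified Y.functionField X.functionField :=
        RingHom.FormallyUnramified.comp (g := (f.stalkMap (genericPoint X)).hom) (f := ι.hom)
          (RingHom.FormallyUnramified.of_surjective hbij.2) h
      have hE : (ι ≫ f.stalkMap (genericPoint X)).hom.EssFiniteType :=
        RingHom.EssFiniteType.comp ((RingHom.FiniteType.of_surjective _ hbij.2).essFiniteType)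
          (LocallyOfFiniteType.stalkMap f _)
      have : Algebra.EssFiniteType Y.functionField X.functionField := hE
      exact ⟨Algebra.FormallyUnramified.finite_of_free _ _, Algebra.FormallyUnramified.isSeparable _ _⟩
    · rintro ⟨_, _⟩
      have h : Algebra.FormallyUnramified Y.functionField X.functionField :=
        Algebra.FormallyUnramified.of_isSeparable _ _
      exact RingHom.FormallyUnramified.of_comp (f := ι.hom) h
  refine ⟨⟨fun ⟨U, hU, h⟩ => ?_, fun ⟨U, hU, h⟩ => ⟨U, hU, inferInstance⟩⟩, ⟨fun ⟨U, hU, h⟩ => ?_, fun h => ?_⟩⟩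
  · obtain ⟨V, hV, hVet⟩ := (H9Hens.etale_nhd_iff f (genericPoint X)).mpr
      ⟨hflat, (H9Hens.unramified_nhd_iff f _).mp ⟨U, hup U hU, h⟩⟩
    exact ⟨V, ⟨_, hV⟩, hVet⟩
  · exact key.mp ((H9Hens.etale_nhd_iff f (genericPoint X)).mp ⟨U, hup U hU, h⟩).2
  · obtain ⟨V, hV, hVet⟩ := (H9Hens.etale_nhd_iff f (genericPoint X)).mpr ⟨hflat, key.mpr h⟩
    exact ⟨V, ⟨_, hV⟩, hVet⟩

end Groth.Agent.S6554
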