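import Groth.Statements.S17022
import Groth.Agent.H29Disc.Exponent
import Groth.Agent.H29DoubleCover.Ramification
import Groth.Agent.H29DoubleCover.Separable
import Groth.Agent.H25FinCov.Cover
import Groth.Agent.H22Alg.VarGeom
import Groth.Agent.H29DoubleCover.Connected
import Groth.Agent.H28Curve.DegOneIso
import Groth.Agent.H29GenusZero.Basic
import Groth.Agent.S6554

set_option autoImplicit false
universe u
open CategoryTheory CategoryTheory.Limits AlgebraicGeometry
open Curves

namespace Groth.Agent.S17022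

attribute [local instance 10000] H10Coh.hasSheafifyAb H10Coh.hasWeakSheafifyAb H10Coh.hasExtAb H10Coh.enoughInjAb

open IsLocalRing in
theorem ramificationIdx_eq_mult {X Y : Scheme.{u}} (f : X ⟶ Y) (x : X) :
    letI := (f.stalkMap x).hom.toAlgebra
    Ideal.ramificationIdx (maximalIdeal (X.presheaf.stalk x)) (Y.presheaf.stalk (f x)) =
      H22Alg.FiniteDegree.mult f x := by
  letI := (f.stalkMap x).hom.toAlgebra
  haveI : IsLocalHom (algebraMap (Y.presheaf.stalk (f x)) (X.presheaf.stalk x)) :=
    inferInstanceAs <| IsLocalHom (f.stalkMap x).hom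
  haveI : IsLocalization.AtPrime (X.presheaf.stalk x) (maximalIdeal (X.presheaf.stalk x)) :=
    IsLocalization.self fun a ha => IsLocalRing.notMem_maximalIdeal.mp ha
  rw [H29Disc.ramificationIdx_eq_length (R := Y.presheaf.stalk (f x)) (S := X.presheaf.stalk x)
      (L := X.presheaf.stalk x) (maximalIdeal (X.presheaf.stalk x)),
    show (maximalIdeal (X.presheaf.stalk x)).under (Y.presheaf.stalk (f x)) = maximalIdeal (Y.presheaf.stalk (f x)) from
      ((IsLocalRing.local_hom_TFAE (algebraMap (Y.presheaf.stalk (f x)) (X.presheaf.stalk x))).out 0 4 rfl rfl).mp ‹_›]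
  rfl

theorem mult_eq_one_of_unramified {X Y : Scheme.{u}} (f : X ⟶ Y) [LocallyOfFiniteType f] (x : X)
    (h : (f.stalkMap x).hom.FormallyUnramified) : H22Alg.FiniteDegree.mult f x = 1 := by
  obtain ⟨hm, -⟩ := (H9Hens.stalk_unramified_iff f x).1 h
  rw [H22Alg.FiniteDegree.mult, hm]
  have : Module.length (X.presheaf.stalk x) (X.presheaf.stalk x ⧸ IsLocalRing.maximalIdeal (X.presheaf.stalk x)) = 1 := by
    rw [Module.length_eq_one_iff, isSimpleModule_iff_isCoatom, ← Ideal.isMaximal_def]
    infer_instance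
  rw [this]; rfl

theorem charZero_functionField {k : Type u} [Field k] [CharZero k] (Y : Scheme.{u}) [IsIntegral Y]
    [Y.Over (Spec (CommRingCat.of k))] : CharZero Y.functionField :=
  charZero_of_injective_ringHom (Curv2.stalkMap k Y (genericPoint Y)).injective


/-- Let k be an algebraically closed field of characteristic zero, C a connected scheme which is proper
and smooth of relative dimension 1 over k, and f : C → P¹_k a surjective morphism over k which is
étale over the complement of two closed points p, q of P¹_k (p = q is allowed). Then C is isomorphic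
to P¹_k over k, and f has exactly one point over p and exactly one point over q. (Existence of an
isomorphism only; the published statement moreover identifies f, in suitable coordinates, with (a :
b) ↦ (aⁿ : bⁿ) for some n. The published statement leaves implicit that the ground field is
algebraically closed and that C is a connected smooth proper curve; its argument uses both, and over
a non-closed field the projective line over a finite extension is a connected cover with no
ramification.) -/
theorem result (k : Type u) [Field k]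
    [IsAlgClosed k] [CharZero k] {C : Scheme.{u}} (s : C ⟶ Spec (CommRingCat.of k))
    [IsProper s] [SmoothOfRelativeDimension 1 s] [ConnectedSpace C]
    (f : C ⟶ CohB1.ProjSpace 1 k) (hf : f ≫ CohB1.ProjSpace.toSpec 1 k = s) [Surjective f]
    (p q : ↥(CohB1.ProjSpace 1 k)) (hp : IsClosed ({p} : Set ↥(CohB1.ProjSpace 1 k))) (hq : IsClosed ({q} : Set ↥(CohB1.ProjSpace 1 k)))
    (W : (CohB1.ProjSpace 1 k).Opens) (hW : (W : Set ↥(CohB1.ProjSpace 1 k)) = {p, q}ᶜ) [Etale (f ∣_ W)] :
    (∃ e : C ≅ CohB1.ProjSpace 1 k, e.hom ≫ CohB1.ProjSpace.toSpec 1 k = s) ∧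
      (∀ x y : C, f.base x = p → f.base y = p → x = y) ∧
      (∀ x y : C, f.base x = q → f.base y = q → x = y) := by
  letI : C.Over (Spec (CommRingCat.of k)) := ⟨s⟩
  letI := H29RR.PnPic.overSpec 1 k
  letI := Curv2.resAlgebra k C
  haveI : IsProper (C ↘ Spec (CommRingCat.of k)) := ‹IsProper s›
  haveI : IsProper (CohB1.ProjSpace.toSpec 1 k) := H27Weil.isProper_toSpec 1 k
  haveI : IsProper (CohB1.ProjSpace 1 k ↘ Spec (CommRingCat.of k)) := H27Weil.isProper_toSpec 1 k
  haveI : Smooth s := SmoothOfRelativeDimension.smooth 1 s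
  haveI : Smooth (C ↘ Spec (CommRingCat.of k)) := ‹Smooth s›
  haveI : GeometricallyConnected s := H22Alg.VarGeom.geometricallyConnected_of_isSepClosed s
  haveI : IsIntegral C := H29DoubleCover.isIntegral_of_smooth_connected s
  haveI := H29RR.isNoetherian_of_proper (k := k) (X := C)
  haveI := H29RR.isNoetherian_of_proper (k := k) (X := CohB1.ProjSpace 1 k)
  haveI : JacobsonSpace C := LocallyOfFiniteType.jacobsonSpace s
  haveI : JacobsonSpace (CohB1.ProjSpace 1 k) := LocallyOfFiniteType.jacobsonSpace (CohB1.ProjSpace.toSpec 1 k)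
  have hdC : topologicalKrullDim C = 1 := by
    rw [← H8Props.FieldDim.localDim_eq_dim_of_irreducible s (genericPoint C)]
    exact H8Props.FieldDim.localDim_eq_of_smooth s 1 (genericPoint C)
  haveI : Smooth (CohB1.ProjSpace.toSpec 1 k) := H26Smooth.smooth_toSpec 1 k
  haveI : Smooth (CohB1.ProjSpace 1 k ↘ Spec (CommRingCat.of k)) := H26Smooth.smooth_toSpec 1 k
  obtain ⟨-, hPn, hPd⟩ := H28Curve.projLine_facts k
  haveI : IsProper f := by
    haveI : IsProper (f ≫ CohB1.ProjSpace.toSpec 1 k) := by rw [hf]; infer_instance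
    exact IsProper.of_comp f (CohB1.ProjSpace.toSpec 1 k)
  have hnc : ∃ a b : C, f a ≠ f b := by
    by_contra hc
    push Not at hc
    have hsub : Subsingleton (CohB1.ProjSpace 1 k) := ⟨fun u v => by
      obtain ⟨a, rfl⟩ := f.surjective u
      obtain ⟨b, rfl⟩ := f.surjective v
      exact hc a b⟩
    have := topologicalKrullDim_zero_of_discreteTopology (CohB1.ProjSpace 1 k)
    rw [hPd] at this
    exact absurd this (by norm_num)
  have e := H29DoubleCover.apply_genericPoint hPd.le f hnc
  haveI := H29DoubleCover.isFinite_of_dominant hdC.le f hnc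
  haveI : Flat f := H29Curve.flat_of_dominant_normal f e (fun y => (hPn y).2) hPd.le
  have hnX : ∀ x : C, IsIntegrallyClosed (C.presheaf.stalk x) := fun x => by
    haveI := H19Grp.isRegularLocalRing_stalk_of_smooth s x
    exact H05EGA4.isIntegrallyClosed_of_isRegularLocalRing (C.presheaf.stalk x)
  have hncl : ¬ IsClosed ({genericPoint (CohB1.ProjSpace 1 k)} : Set ↥(CohB1.ProjSpace 1 k)) := fun h => by
    have h1 := H28Int.Curves.cdim_closed h
    rw [H22Alg.VarDim.cdim_genericPoint, hPd] at h1
    exact one_ne_zero h1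
  have hηW : genericPoint C ∈ f ⁻¹ᵁ W := by
    show f (genericPoint C) ∈ (W : Set ↥(CohB1.ProjSpace 1 k))
    rw [hW, e]
    rintro (h | h)
    · exact hncl (h ▸ hp)
    · exact hncl ((show genericPoint (CohB1.ProjSpace 1 k) = q from h) ▸ hq)
  have hetW : Etale ((f ⁻¹ᵁ W).ι ≫ f) := by
    rw [← morphismRestrict_ι]; infer_instance
  obtain ⟨-, hsep'⟩ := (S6554.result k C (CohB1.ProjSpace 1 k) hdC hPd f hf e).2.1 ⟨f ⁻¹ᵁ W, ⟨_, hηW⟩, hetW⟩
  have hsep : letI := H29Disc.funAlg f e
      Algebra.IsSeparable (CohB1.ProjSpace 1 k).functionField C.functionField := hsep'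
  obtain ⟨d, hdfin, hrpos, hd0, hd, hmain⟩ :=
    H29Disc.exists_exponents (k := k) f e hdC.le hPd hnX (fun y => (hPn y).2) hf hsep
  letI := H29Disc.funAlg f e
  haveI : LocallyOfFinitePresentation f := inferInstance
  have hrank := (H25FinCov.isCover_of_isFinLocFreeOfRank f _ (H29Disc.rank_pushO f e hsep)).2
  generalize Module.finrank (CohB1.ProjSpace 1 k).functionField C.functionField = n at hmain hrank
  have hres : ∀ x : C, IsClosed ({x} : Set C) → Module.finrank k (C.residueField x) = 1 := fun x hx =>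
    H29RR.finrank_residue_eq_one (k := k) hx
  have hdeg1 : ∀ x : C, IsClosed ({x} : Set C) → f.residueDegree x = 1 := fun x hx => by
    show @Module.finrank ((CohB1.ProjSpace 1 k).residueField (f x)) (C.residueField x) _ _
      (f.residueFieldMap x).hom.toAlgebra.toModule = 1
    letI := (f.residueFieldMap x).hom.toAlgebra
    have hsurj : Function.Surjective (f.residueFieldMap x).hom := by
      intro z
      obtain ⟨c, hc⟩ := exists_smul_eq_of_finrank_eq_one (hres x hx) (one_ne_zero (α := C.residueField x)) z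
      refine ⟨(CohB1.ProjSpace 1 k).residue (f x) (Curv2.stalkMap k (CohB1.ProjSpace 1 k) (f x) c), ?_⟩
      rw [← hc, Algebra.smul_def, mul_one]
      refine (ConcreteCategory.congr_hom (Scheme.residue_residueFieldMap f x)
        (Curv2.stalkMap k (CohB1.ProjSpace 1 k) (f x) c)).trans ?_
      refine congrArg (C.residue x) ?_
      exact H29DoubleCover.stalkMap_const (k := k) f hf x c
    exact ((AlgEquiv.ofBijective (Algebra.ofId ((CohB1.ProjSpace 1 k).residueField (f x)) (C.residueField x))
      ⟨(f.residueFieldMap x).hom.injective, hsurj⟩).toLinearEquiv.finrank_eq.symm.trans (Module.finrank_self _))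
  haveI := charZero_functionField (k := k) (CohB1.ProjSpace 1 k)
  have hpos : ∀ x : C, IsClosed ({x} : Set C) → 1 ≤ H22Alg.FiniteDegree.mult f x := fun x hx => by
    have hy : IsClosed ({f x} : Set ↥(CohB1.ProjSpace 1 k)) := Set.image_singleton ▸ f.isClosedMap _ hx
    haveI := (H29DoubleCover.closedPoint_facts (k := k) hdC hx).1
    haveI := (H29DoubleCover.closedPoint_facts (k := k) (X := CohB1.ProjSpace 1 k) hPd hy).1
    obtain ⟨z, hz⟩ := IsDiscreteValuationRing.exists_irreducible (C.presheaf.stalk x)
    obtain ⟨z', hz'⟩ := IsDiscreteValuationRing.exists_irreducible ((CohB1.ProjSpace 1 k).presheaf.stalk (f x))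
    obtain ⟨m, -, -, hm1, hm⟩ := H29DoubleCover.exists_mult (k := k) f hdC hPd e hx hy hz hz'
    omega
  have hde : ∀ x : C, IsClosed ({x} : Set C) → d x + 1 = H22Alg.FiniteDegree.mult f x := by
    intro x hx
    letI := (f.stalkMap x).hom.toAlgebra
    letI := (f.residueFieldMap x).hom.toAlgebra
    haveI : CharZero ((CohB1.ProjSpace 1 k).residueField (f x)) :=
      charZero_of_injective_ringHom (Curv2.resMap k (CohB1.ProjSpace 1 k) (f x)).injective
    haveI : Module.Finite ((CohB1.ProjSpace 1 k).residueField (f x)) (C.residueField x) :=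
      Module.finite_of_finrank_pos (show 0 < f.residueDegree x by rw [hdeg1 x hx]; norm_num)
    have h1 := hpos x hx
    rw [← ramificationIdx_eq_mult f x] at h1 ⊢
    have := (hd x hx).2.mpr ⟨inferInstance, Nat.cast_ne_zero.mpr (by omega)⟩
    omega
  have hout : ∀ x : C, f x ∈ W → d x = 0 := by
    intro x hxW
    by_cases hx : IsClosed ({x} : Set C)
    · have hu : (f.stalkMap x).hom.FormallyUnramified :=
        (H9Hens.unramified_nhd_iff f x).1 ⟨f ⁻¹ᵁ W, hxW, inferInstance⟩
      have := hde x hx
      rw [mult_eq_one_of_unramified f x hu] at this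
      omega
    · exact hd0 x hx
  classical
  have hfib : ∀ y : ↥(CohB1.ProjSpace 1 k), IsClosed ({y} : Set ↥(CohB1.ProjSpace 1 k)) →
      ∃ T : Finset C, (∀ x, x ∈ T ↔ f x = y) ∧ T.Nonempty ∧ (∀ x ∈ T, IsClosed ({x} : Set C)) ∧
        (∑ x ∈ T, ((d x * Module.finrank k (C.residueField x) : ℕ) : ℤ)) = (n : ℤ) - T.card := by
    intro y hy
    have hT : (f ⁻¹' {y}).Finite := f.finite_preimage_singleton y
    have hmem : ∀ x, x ∈ hT.toFinset ↔ f x = y := fun x => by simp
    have hclT : ∀ x ∈ hT.toFinset, IsClosed ({x} : Set C) := fun x hx =>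
      H29Disc.isClosed_of_map f (by rw [(hmem x).1 hx]; exact hy)
    refine ⟨hT.toFinset, hmem, ?_, hclT, ?_⟩
    · obtain ⟨x, hx⟩ := f.surjective y
      exact ⟨x, (hmem x).2 hx⟩
    · have h := H22Alg.FiniteDegree.finsum_fibre_eq_finrank f y
      rw [hrank y, finsum_mem_eq_finite_toFinset_sum _ hT] at h
      have h' : ∑ x ∈ hT.toFinset, (d x + 1) = n := by
        rw [← h]
        exact Finset.sum_congr rfl fun x hx => by rw [hde x (hclT x hx), hdeg1 x (hclT x hx), mul_one]
      rw [Finset.sum_add_distrib, Finset.sum_const, smul_eq_mul, mul_one] at h'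
      rw [← h', Nat.cast_add, add_sub_cancel_right, Nat.cast_sum]
      exact Finset.sum_congr rfl fun x hx => by rw [hres x (hclT x hx), mul_one]
  obtain ⟨Tp, hTp, hTp0, -, hSp⟩ := hfib p hp
  obtain ⟨Tq, hTq, hTq0, -, hSq⟩ := hfib q hq
  have hsupp : Function.support (fun x => ((d x * Module.finrank k (C.residueField x) : ℕ) : ℤ)) ⊆ ↑(Tp ∪ Tq) := by
    intro x hx
    simp only [Finset.coe_union, Set.mem_union, Finset.mem_coe, hTp, hTq]
    by_contra hc
    refine hx ?_
    have hxW : f x ∈ (W : Set ↥(CohB1.ProjSpace 1 k)) := by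
      rw [hW]
      simpa using hc
    simp [hout x hxW]
  rw [finsum_eq_sum_of_support_subset _ hsupp] at hmain
  rw [H29RR.euler_eq_sub (k := k) hdC.le, H29RR.euler_eq_sub (k := k) hPd.le,
    H29RR.finrank_h0_structure k C, H29RR.finrank_h0_structure k (CohB1.ProjSpace 1 k),
    show Module.finrank k (Coh.HH (CohB1.ProjSpace 1 k) (Coh.structureModule (CohB1.ProjSpace 1 k)) 1) = 0 from
      H29DoubleCover.genus_projLine k] at hmain
  have hg : Curv2.genus k C = 0 ∧ Tp.card = 1 ∧ Tq.card = 1 := by
    have hcp := hTp0.card_pos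
    have hcq := hTq0.card_pos
    change _ at hmain
    unfold Curv2.genus
    by_cases hpq : p = q
    · have hTT : Tp = Tq := by ext x; rw [hTp, hTq, hpq]
      subst hTT
      rw [Finset.union_self, hSp] at hmain
      obtain ⟨x, hx⟩ := hTp0
      have hn : Tp.card ≤ n := by
        have h0 : (0 : ℤ) ≤ ∑ x ∈ Tp, ((d x * Module.finrank k (C.residueField x) : ℕ) : ℤ) :=
          Finset.sum_nonneg fun x _ => Int.natCast_nonneg _
        omega
      push_cast at hmain ⊢
      omega
    · have hdisj : Disjoint Tp Tq := Finset.disjoint_left.2 fun x h1 h2 =>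
        hpq (((hTp x).1 h1).symm.trans ((hTq x).1 h2))
      rw [Finset.sum_union hdisj, hSp, hSq] at hmain
      push_cast at hmain ⊢
      omega
  obtain ⟨x₀, hx₀⟩ := hTp0
  have hx₀cl : IsClosed ({x₀} : Set C) := H29Disc.isClosed_of_map f (by rw [(hTp x₀).1 hx₀]; exact hp)
  haveI := H19Grp.isRegularLocalRing_stalk_of_smooth s x₀
  obtain ⟨L, hL, hLd⟩ := H29GenusZero.exists_deg_residue (k := k) hdC hx₀cl
  obtain ⟨e', he', -⟩ := H28Curve.exists_iso_projLine (k := k) hdC.le hg.1 hL (by rw [hLd, hres x₀ hx₀cl]; rfl)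
  refine ⟨⟨e', he'⟩, fun x y hx hy => ?_, fun x y hx hy => ?_⟩
  · exact Finset.card_le_one.1 hg.2.1.le x ((hTp x).2 hx) y ((hTp y).2 hy)
  · exact Finset.card_le_one.1 hg.2.2.le x ((hTq x).2 hx) y ((hTq y).2 hy)

end Groth.Agent.S17022
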