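import Groth.Statements.S17023
import Groth.Agent.S0549
import Mathlib

set_option autoImplicit false
set_option linter.style.haveILetI false
universe u
open FlatMor

namespace Groth.Agent.S17023

theorem exists_lift {B A' : Type u} [CommRing B] [CommRing A'] [Algebra B A'] (m : Ideal B)
    [Algebra.FormallySmooth B A'] (π : A' →ₐ[B] B ⧸ m) :
    ∃ ψ : A' →ₐ[B] AdicCompletion m B,
      ∀ x, AdicCompletion.evalₐ m 1 (ψ x) = 0 ↔ π x = 0 := by
  classical
  have hsurj : ∀ n : ℕ, Function.Surjective
      (Ideal.Quotient.factorₐ B (Ideal.pow_le_pow_right (I := m) (n + 1).le_succ)) :=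
    fun n => Ideal.Quotient.factor_surjective (Ideal.pow_le_pow_right (n + 1).le_succ)
  have hnil : ∀ n : ℕ, IsNilpotent (RingHom.ker
      (Ideal.Quotient.factorₐ B (Ideal.pow_le_pow_right (I := m) (n + 1).le_succ))) := fun n => by
    refine ⟨2, ?_⟩
    rw [show (RingHom.ker (Ideal.Quotient.factorₐ B (Ideal.pow_le_pow_right (I := m) (n + 1).le_succ)))
      = Ideal.map (Ideal.Quotient.mk (m ^ (n + 2))) (m ^ (n + 1)) from
        Ideal.Quotient.factor_ker (Ideal.pow_le_pow_right (I := m) (n + 1).le_succ),
      ← Ideal.map_pow, Ideal.zero_eq_bot, Ideal.map_eq_bot_iff_le_ker, Ideal.mk_ker, ← pow_mul]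
    exact Ideal.pow_le_pow_right (by omega)
  let f0 : A' →ₐ[B] B ⧸ m ^ (0 + 1) :=
    (Ideal.Quotient.factorₐ B (by rw [zero_add, pow_one])).comp π
  let f : ∀ n, A' →ₐ[B] B ⧸ m ^ (n + 1) := fun n => Nat.rec f0
    (fun n fn => Algebra.FormallySmooth.liftOfSurjective fn _ (hsurj n) (hnil n)) n
  have hf : ∀ n x, Ideal.Quotient.factor (Ideal.pow_le_pow_right (I := m) (n + 1).le_succ)
      (f (n + 1) x) = f n x := fun n x =>
    Algebra.FormallySmooth.liftOfSurjective_apply (f n) _ (hsurj n) (hnil n) x
  let g : ∀ n, A' →ₐ[B] B ⧸ m ^ n := fun n =>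
    (Ideal.Quotient.factorₐ B (Ideal.pow_le_pow_right n.le_succ)).comp (f n)
  have hg : ∀ {k n : ℕ} (hle : k ≤ n),
      (Ideal.Quotient.factorₐ B (Ideal.pow_le_pow_right hle)).comp (g n) = g k := by
    intro k n hle
    ext x
    show Ideal.Quotient.factor (Ideal.pow_le_pow_right hle)
      (Ideal.Quotient.factor (Ideal.pow_le_pow_right n.le_succ) (f n x)) =
        Ideal.Quotient.factor (Ideal.pow_le_pow_right k.le_succ) (f k x)
    induction n, hle using Nat.le_induction with
    | base => simp
    | succ n hkn ih =>
      rw [← ih, ← hf n x]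
      simp
  have h01 : ∀ x, g 1 x = f 0 x := fun x => hf 0 x
  refine ⟨AdicCompletion.liftAlgHom m g hg, fun x => ?_⟩
  rw [AdicCompletion.evalₐ_liftAlgHom, h01]
  show Ideal.Quotient.factor (show m ≤ m ^ (0 + 1) by rw [zero_add, pow_one]) (π x) = 0 ↔ π x = 0
  obtain ⟨b, hb⟩ := Ideal.Quotient.mk_surjective (π x)
  rw [← hb, Ideal.Quotient.factor_mk, Ideal.Quotient.eq_zero_iff_mem, Ideal.Quotient.eq_zero_iff_mem,
    zero_add, pow_one]

open IsLocalRing in
theorem main (B : Type u) [CommRing B] [IsDomain B] [IsDiscreteValuationRing B]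
    (A : Type u) [CommRing A] [Algebra B A]
    (p : Ideal A) [p.IsPrime] (hp : p.comap (algebraMap B A) = maximalIdeal B)
    [Algebra.IsSmoothAt B p]
    (hres : Function.Surjective ((algebraMap A p.ResidueField).comp (algebraMap B A))) :
    ∃ (B' : Type u) (_ : CommRing B') (_ : IsDomain B') (_ : IsDiscreteValuationRing B') (ψ : A →+* B'),
      Ideal.comap ψ (maximalIdeal B') = p ∧
      Function.Injective (ψ.comp (algebraMap B A)) ∧
      Ideal.map (ψ.comp (algebraMap B A)) (maximalIdeal B) = maximalIdeal B' ∧
      Function.Surjective ((residue B').comp (ψ.comp (algebraMap B A))) := by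
  set m := maximalIdeal B with hm
  haveI hmax : m.IsMaximal := maximalIdeal.isMaximal B
  letI := Ideal.Quotient.field m
  let θ : (B ⧸ m) →ₐ[B] p.ResidueField := Ideal.Quotient.liftₐ m (Algebra.ofId B p.ResidueField)
    (fun b hb => by
      rw [Algebra.ofId_apply, IsScalarTower.algebraMap_apply B A p.ResidueField]
      exact Ideal.algebraMap_residueField_eq_zero.2 (Ideal.mem_comap.1 (hp.symm ▸ hb)))
  have hθ : Function.Bijective θ := by
    refine ⟨θ.toRingHom.injective, fun z => ?_⟩
    obtain ⟨b, hb⟩ := hres z
    refine ⟨Ideal.Quotient.mk m b, ?_⟩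
    rw [← hb]
    exact IsScalarTower.algebraMap_apply B A p.ResidueField b
  let π : Localization.AtPrime p →ₐ[B] B ⧸ m :=
    (AlgEquiv.ofBijective θ hθ).symm.toAlgHom.comp
      (IsScalarTower.toAlgHom B (Localization.AtPrime p) p.ResidueField)
  obtain ⟨ψ, hψ⟩ := exists_lift m π
  obtain ⟨hd, hdvr⟩ := (S0549.result B).1 ⟨inferInstance, inferInstance⟩
  let ψ' : A →+* AdicCompletion m B := ψ.toRingHom.comp (algebraMap A (Localization.AtPrime p))
  have hc : ψ'.comp (algebraMap B A) = algebraMap B (AdicCompletion m B) := by
    ext1 b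
    show ψ (algebraMap A (Localization.AtPrime p) (algebraMap B A b)) = _
    rw [← IsScalarTower.algebraMap_apply, AlgHom.commutes]
  refine ⟨AdicCompletion m B, inferInstance, hd, hdvr, ψ', ?_, ?_, ?_, ?_⟩
  · haveI : (m ^ 1).IsMaximal := by rw [pow_one]; exact maximalIdeal.isMaximal B
    letI := Ideal.Quotient.field (m ^ 1)
    have hker : RingHom.ker (AdicCompletion.evalₐ m 1 : AdicCompletion m B →ₐ[B] B ⧸ m ^ 1) =
        maximalIdeal (AdicCompletion m B) :=
      eq_maximalIdeal (RingHom.ker_isMaximal_of_surjective _ (AdicCompletion.surjective_evalₐ m 1))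
    rw [← hker]
    ext a
    show AdicCompletion.evalₐ m 1 (ψ _) = 0 ↔ _
    rw [hψ]
    show (AlgEquiv.ofBijective θ hθ).symm
      (algebraMap (Localization.AtPrime p) p.ResidueField (algebraMap A (Localization.AtPrime p) a)) = 0 ↔ _
    rw [EmbeddingLike.map_eq_zero_iff, ← IsScalarTower.algebraMap_apply]
    exact Ideal.algebraMap_residueField_eq_zero
  · rw [hc]
    exact AdicCompletion.of_injective (I := m) (M := B)
  · rw [hc, AdicCompletion.maximalIdeal_eq_map]
  · rw [hc]
    intro z
    obtain ⟨r, hr⟩ := (AdicCompletion.residueField_map_bijective B).2 z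
    obtain ⟨b, rfl⟩ := residue_surjective r
    exact ⟨b, hr⟩


/-- Let B be a discrete valuation ring, A a B-algebra of finite type and p a prime ideal of A which lies
over the maximal ideal of B (a point of the special fibre), at which A is smooth over B (the
localization A_p is formally smooth over B), and such that B maps onto the residue field κ(p). Then
there are a discrete valuation ring B' and a ring map ψ : A → B' pulling the maximal ideal of B'
back to p, such that the composite B → A → B' is injective, the maximal ideal of B generates the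
maximal ideal of B', and B maps onto the residue field of B'; in other words Spec B' → Spec A → Spec
B is surjective and unramified with trivial residue field extension. (The published statement does
not say that the closed point of Spec B' goes to p; it is required here. The published setting takes
A essentially of finite type over a field of characteristic zero; here A is taken of finite type
over B, with no ground field.) -/
theorem result
    (B : Type u) [CommRing B] [IsDomain B] [IsDiscreteValuationRing B]
    (A : Type u) [CommRing A] [Algebra B A] [Algebra.FiniteType B A]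
    (p : Ideal A) [p.IsPrime] (hp : p.comap (algebraMap B A) = IsLocalRing.maximalIdeal B)
    [Algebra.IsSmoothAt B p]
    (hres : Function.Surjective ((algebraMap A p.ResidueField).comp (algebraMap B A))) :
    ∃ (B' : Type u) (_ : CommRing B') (_ : IsDomain B') (_ : IsDiscreteValuationRing B') (ψ : A →+* B'),
      Ideal.comap ψ (IsLocalRing.maximalIdeal B') = p ∧
      Function.Injective (ψ.comp (algebraMap B A)) ∧
      Ideal.map (ψ.comp (algebraMap B A)) (IsLocalRing.maximalIdeal B) = IsLocalRing.maximalIdeal B' ∧
      Function.Surjective ((IsLocalRing.residue B').comp (ψ.comp (algebraMap B A))) := by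
  exact main B A p hp hres

end Groth.Agent.S17023
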