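import Groth.Statements.S1703
import Mathlib
import Groth.Agent.H29Blow.RelCartier
import Groth.Agent.H29Blow.Relative
import Groth.Agent.H29Blow.PointsOfAffine

set_option autoImplicit false
universe u
open CategoryTheory CategoryTheory.Limits AlgebraicGeometry TopologicalSpace
open SDiv

namespace Groth.Agent.S1703

/-- Let f : X ⟶ S be locally of finite presentation and 𝓘 the ideal sheaf of an effective Cartier
divisor D ⊂ X with D ⟶ S flat. Then there is an open subscheme U of X containing D such that U ⟶ S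
is flat. -/
theorem result {X S : Scheme.{u}} (f : X ⟶ S) [LocallyOfFinitePresentation f] (𝓘 : X.IdealSheafData)
    (hD : (BlowUp.IsEffCartierIdeal 𝓘 ∧ Flat (𝓘.subschemeι ≫ f))) : ∃ U : X.Opens, (𝓘.support : Set ↥X) ⊆ U ∧ Flat (U.ι ≫ f) := by
  obtain ⟨hI, hfl⟩ := hD
  haveI := hfl
  let U : X.Opens := ⟨{x | (f.stalkMap x).hom.Flat}, Groth.Agent.H8Props.FlatLocus.isOpen_setOf_flat_stalkMap f⟩
  refine ⟨U, fun x hx => ?_, ?_⟩
  · obtain ⟨W, hW, hxW, -⟩ := exists_isAffineOpen_mem_and_subset (Opens.mem_top (f x))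
    obtain ⟨V, hxV, e, a, ha, haV⟩ := _root_.H29Blow.exists_gen hI (W := f ⁻¹ᵁ W) (x := x) hxW
    have h1 := _root_.H29Blow.flat_appLE_quot f 𝓘 ⟨W, hW⟩ V e
    rw [haV] at h1
    letI : Algebra Γ(S, W) Γ(X, V.1) := (f.appLE W V.1 e).hom.toAlgebra
    haveI : Algebra.FinitePresentation Γ(S, W) Γ(X, V.1) := f.finitePresentation_appLE hW V.2 e
    haveI : Module.Flat Γ(S, W) (Γ(X, V.1) ⧸ Ideal.span {a}) := h1
    let q := V.2.primeIdealOf ⟨x, hxV⟩
    have haq : a ∈ q.asIdeal := by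
      refine (_root_.H29Blow.mem_primeIdealOf_iff V.2 ⟨x, hxV⟩ a).mpr ?_
      have h := (Scheme.IdealSheafData.mem_support_iff_of_mem (U := V) hxV).mp hx
      rw [Scheme.mem_zeroLocus_iff] at h
      have := h a (haV ▸ Ideal.mem_span_singleton_self a)
      rwa [X.mem_basicOpen _ x hxV] at this
    have hq := Groth.Agent.H29Blow.flat_localization_of_flat_quotient (A := Γ(S, W)) a ha q.asIdeal haq
    let φ := Spec.map (CommRingCat.ofHom (algebraMap Γ(S, W) Γ(X, V.1)))
    have ea : φ ≫ hW.fromSpec = V.2.fromSpec ≫ f := IsAffineOpen.SpecMap_appLE_fromSpec f hW V.2 e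
    haveI := V.2.isOpenImmersion_fromSpec
    haveI := hW.isOpenImmersion_fromSpec
    have h2 := ((Groth.Agent.H17.LocusBC.flat_stalkMap_comp_iff V.2.fromSpec f hW.fromSpec φ ea q).symm.trans
      (Groth.Agent.H8Props.FlatLocus.flat_stalkMap_Spec_iff q)).mpr hq
    rwa [V.2.fromSpec_primeIdealOf] at h2
  · rw [Flat.iff_flat_stalkMap]
    intro y
    exact (Groth.Agent.S4656.result U.ι f y (Flat.stalkMap _ _)).mpr y.2

end Groth.Agent.S1703
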