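import Groth.Statements.S17032
import Groth.Agent.H8FSch.GlobalBound

set_option autoImplicit false
open CategoryTheory CategoryTheory.Limits
universe u
attribute [local instance] HasDerivedCategory.standard
open FSch

namespace Groth.Agent.S17032

/-- Let f : 𝔛 ⟶ 𝔜 be a morphism of formal schemes given as systems of thickenings with quasi-compact
underlying spaces, 𝔛 adic with locally Noetherian levels (a Noetherian formal scheme), and assume
the total right derived functor Rf_* on unbounded derived categories of modules exists. Then Rf_* is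
bounded above on complexes with lim-coherent cohomology: there is an integer e ≥ 0 such that
whenever G ∈ D(O_𝔛) has every cohomology sheaf a small filtered colimit of coherent O_𝔛-modules and
H^i(G) = 0 for all i ≥ i₀, then H^i(Rf_* G) = 0 for all i ≥ i₀ + e. -/
theorem result (𝔛 𝔜 : FSch.Sys.{u}) (h𝔛 : 𝔛.IsLocNoethFormal)
    [CompactSpace (𝔛.X 0)] (h𝔜 : 𝔜.IsFormal) [CompactSpace (𝔜.X 0)] (f : 𝔛 ⟶ 𝔜)
    [SiteCmp.HasRpushD (FSch.homMor f h𝔛.1 h𝔜)] :
    ∃ e : ℕ, ∀ (G : DerivedCategory (FSch.ModF 𝔛 h𝔛.1)),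
      (∀ i : ℤ, (ObjectProperty.ind.{u} fun 𝔊 : FSch.ModF 𝔛 h𝔛.1 => FSch.IsCohF 𝔛 h𝔛.1 𝔊) (SiteCmp.HMod G i)) →
      ∀ i₀ : ℤ, (∀ i : ℤ, i₀ ≤ i → IsZero (SiteCmp.HMod G i)) →
        ∀ i : ℤ, i₀ + e ≤ i → IsZero (SiteCmp.HMod ((SiteCmp.RpushD (FSch.homMor f h𝔛.1 h𝔜)).obj G) i) := by
  exact H8FSch.exists_bound_rpushD h𝔛 h𝔜 f

end Groth.Agent.S17032
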