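import Groth.Statements.S17034
import Groth.Agent.H8FSch.WeakSerre
import Groth.Agent.H8FSch.CohBound
import Groth.Agent.H8FSch.GlobalBound
import Groth.Agent.H8FSch.IndRpush

set_option autoImplicit false
open CategoryTheory CategoryTheory.Limits
universe u
attribute [local instance] HasDerivedCategory.standard
open FSch

namespace Groth.Agent.S17034

/-- Let f : 𝔛 ⟶ 𝔜 be a proper morphism of Noetherian formal schemes (adic systems of thickenings with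
locally Noetherian levels and quasi-compact underlying spaces; f adic with proper morphism of
smallest levels), and assume the total right derived functor Rf_* exists on unbounded derived
categories of modules. If every cohomology sheaf of G ∈ D(O_𝔛) is a small filtered colimit of
coherent O_𝔛-modules, then every cohomology sheaf of Rf_* G is a small filtered colimit of coherent
O_𝔜-modules. -/
theorem result (𝔛 𝔜 : FSch.Sys.{u}) (h𝔛 : 𝔛.IsLocNoethFormal) (h𝔜 : 𝔜.IsLocNoethFormal)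
    [CompactSpace (𝔛.X 0)] [CompactSpace (𝔜.X 0)] (f : 𝔛 ⟶ 𝔜) (hf : FSch.IsProperHom f)
    [SiteCmp.HasRpushD (FSch.homMor f h𝔛.1 h𝔜.1)] (G : DerivedCategory (FSch.ModF 𝔛 h𝔛.1))
    (hG : ∀ i : ℤ, (ObjectProperty.ind.{u} fun 𝔊 : FSch.ModF 𝔛 h𝔛.1 => FSch.IsCohF 𝔛 h𝔛.1 𝔊) (SiteCmp.HMod G i)) (i : ℤ) :
    (ObjectProperty.ind.{u} fun 𝔊 : FSch.ModF 𝔜 h𝔜.1 => FSch.IsCohF 𝔜 h𝔜.1 𝔊) (SiteCmp.HMod ((SiteCmp.RpushD (FSch.homMor f h𝔛.1 h𝔜.1)).obj G) i) := by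
  haveI := H10Coh.isGrothendieckAbelian_sheafOfModules (ModSite.ringSh (𝔛.Osh h𝔛.1))
  haveI := H8FSch.isWeakSerre_ind h𝔜
  haveI := H8FSch.isWeakSerre_ind h𝔛
  haveI : HasInjectiveResolutions (FSch.ModF 𝔛 h𝔛.1) := inferInstance
  obtain ⟨e, he⟩ := H8FSch.exists_bound_rpushD h𝔛 h𝔜.1 f
  exact H8FSch.CohBound.cohIn_push (FSch.homMor f h𝔛.1 h𝔜.1) (ObjectProperty.ind.{u} (H8FSch.Coh 𝔛 h𝔛.1))
    (ObjectProperty.ind.{u} (H8FSch.Coh 𝔜 h𝔜.1))
    (fun Z hZ => (ObjectProperty.ind.{u} (H8FSch.Coh 𝔛 h𝔛.1)).prop_of_isZero hZ)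
    (fun F hF p => H8FSch.ind_rpushF h𝔛 h𝔜 f hf F hF p) e
    (fun Y hY i₀ h₀ => he Y hY i₀ h₀) G hG i

end Groth.Agent.S17034
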