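import Groth.Statements.S3855
import Groth.Agent.H24FSch.Descend

set_option autoImplicit false
set_option linter.style.haveILetI false
universe u
open FCompl

namespace Groth.Agent.S3855
open CategoryTheory AlgebraicGeometry

open AlgebraicGeometry in
/-- Sufficiency (the formal spectrum presented as the system Spec(A/J) -> Spec(A/J^2) -> ...). For a
Noetherian ring A and an ideal J this system is a locally Noetherian adic formal system: the
transition maps are surjective closed immersions, the kernel ideal of Spec(A/J^(n+1)) ->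
Spec(A/J^(n+2)) is the (n+1)-st power of that of Spec(A/J) -> Spec(A/J^(n+2)), and every level is
locally Noetherian. -/
theorem result (A : Type u) [CommRing A] [IsNoetherianRing A] (J : Ideal A) :
    (FSch.spf A J).IsLocNoethFormal := by
  have hle : ∀ n, J ^ (n + 1) ≤ J ^ (0 + 1) := fun n => Ideal.pow_le_pow_right (by omega)
  have htoX : ∀ n, (FSch.spf A J).toX n = Spec.map (CommRingCat.ofHom (Ideal.Quotient.factor (hle n))) := by
    intro n
    induction n with
    | zero =>
      show 𝟙 _ = _
      rw [show Ideal.Quotient.factor (hle 0) = RingHom.id _ from Ideal.Quotient.ringHom_ext rfl, CommRingCat.ofHom_id,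
        Spec.map_id]
      rfl
    | succ n ih =>
      show (FSch.spf A J).toX n ≫ CohB1.specQuotTrans J n = _
      rw [ih, CohB1.specQuotTrans]
      show Spec.map _ ≫ Spec.map _ = Spec.map _
      rw [← Spec.map_comp, ← CommRingCat.ofHom_comp, Ideal.Quotient.factor_comp]
  refine ⟨fun n => ⟨IsClosedImmersion.spec_of_surjective _ (Ideal.Quotient.factor_surjective (Ideal.pow_le_pow_right (Nat.le_succ (n + 1)))), ?_⟩, fun n => ?_,
    fun n => inferInstanceAs (IsLocallyNoetherian (Spec (CommRingCat.of (A ⧸ J ^ (n + 1)))))⟩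
  · refine Surjective.surj (f := (FSch.spf A J).ι n) (self := ?_)
    have hcomp : Surjective (CohB1.specQuotTrans J n ≫ 𝟙 _) := by
      rw [Category.comp_id]
      refine ⟨fun p => ?_⟩
      have hp : J ^ (n + 1) ≤ p.asIdeal.comap (Ideal.Quotient.mk (J ^ (n + 2))) := by
        have hp2 : J ^ (n + 2) ≤ p.asIdeal.comap (Ideal.Quotient.mk (J ^ (n + 2))) := fun x hx => by
          rw [Ideal.mem_comap, Ideal.Quotient.eq_zero_iff_mem.mpr hx]; exact zero_mem _
        exact (Ideal.pow_le_self (by omega)).trans ((Ideal.IsPrime.pow_le_iff (hP := inferInstance) (by omega)).mp hp2)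
      haveI : (p.asIdeal.comap (Ideal.Quotient.mk (J ^ (n + 2)))).IsPrime := Ideal.IsPrime.comap _
      haveI := Ideal.isPrime_map_quotientMk_of_isPrime hp
      refine ⟨⟨(p.asIdeal.comap (Ideal.Quotient.mk (J ^ (n + 2)))).map (Ideal.Quotient.mk (J ^ (n + 1))), inferInstance⟩,
        PrimeSpectrum.ext ?_⟩
      ext x
      obtain ⟨a, rfl⟩ := Ideal.Quotient.mk_surjective x
      show Ideal.Quotient.mk (J ^ (n + 1)) a ∈ (p.asIdeal.comap (Ideal.Quotient.mk (J ^ (n + 2)))).map (Ideal.Quotient.mk (J ^ (n + 1))) ↔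
        Ideal.Quotient.mk (J ^ (n + 2)) a ∈ p.asIdeal
      rw [← Ideal.mem_comap, Ideal.comap_map_of_surjective _ Ideal.Quotient.mk_surjective, ← RingHom.ker_eq_comap_bot,
        Ideal.mk_ker, sup_eq_left.mpr hp]
      rfl
    rwa [Category.comp_id] at hcomp
  · have key : ∀ {R B₁ B₀ : Type u} [CommRing R] [CommRing B₁] [CommRing B₀] (φ : R →+* B₁) (ψ : R →+* B₀)
        (m : ℕ), Function.Surjective φ → Function.Surjective ψ → RingHom.ker φ = RingHom.ker ψ ^ m →
        (Spec.map (CommRingCat.ofHom φ)).ker = (Spec.map (CommRingCat.ofHom ψ)).ker ^ m := by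
      intro R B₁ B₀ _ _ _ φ ψ m hφ hψ hk
      rw [Groth.Agent.H24FSch.ker_specMap_of_surjective φ hφ, Groth.Agent.H24FSch.ker_specMap_of_surjective ψ hψ,
        Groth.Agent.H24FSch.idealSpec_pow, hk]
    refine Eq.trans ?_ (congrArg (fun g : (FSch.spf A J).X 0 ⟶ (FSch.spf A J).X (n + 1) => (Scheme.Hom.ker g) ^ (n + 1))
      (htoX (n + 1))).symm
    exact key (Ideal.Quotient.factor (Ideal.pow_le_pow_right (Nat.le_succ (n + 1))))
      (Ideal.Quotient.factor (hle (n + 1))) (n + 1) (Ideal.Quotient.factor_surjective _)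
      (Ideal.Quotient.factor_surjective _)
      (by rw [Ideal.Quotient.factor_ker, Ideal.Quotient.factor_ker, ← Ideal.map_pow, zero_add, pow_one])

end Groth.Agent.S3855
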