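import Groth.Statements.S17039
import Groth.Agent.H13FSchQCoh.Main
-- import your own Groth.Agent.* helpers here

set_option autoImplicit false
set_option backward.isDefEq.respectTransparency false
open CategoryTheory CategoryTheory.Limits
universe u
open FSch

namespace Groth.Agent.S17039

/-- On a locally Noetherian formal scheme 𝔛 (an adic system of thickenings with locally Noetherian
levels), the kernel, image and cokernel of any morphism between quasi-coherent O_𝔛-modules
(ringed-space sense) are quasi-coherent. -/
theorem result (𝔛 : FSch.Sys.{u}) (h𝔛 : 𝔛.IsLocNoethFormal)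
    {𝔉 𝔊 : FSch.ModF 𝔛 h𝔛.1} [SheafOfModules.IsQuasicoherent.{u} 𝔉] [SheafOfModules.IsQuasicoherent.{u} 𝔊]
    (φ : 𝔉 ⟶ 𝔊) :
    SheafOfModules.IsQuasicoherent.{u} (kernel φ) ∧ SheafOfModules.IsQuasicoherent.{u} (Abelian.image φ) ∧
      SheafOfModules.IsQuasicoherent.{u} (cokernel φ) := by
  exact Groth.Agent.H13FSchQCoh.isQuasicoherent_kernel_image_cokernel h𝔛 φ

end Groth.Agent.S17039
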