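import Groth.Statements.S17046
import Groth.Agent.H8FSch.Algz.QCoh

set_option autoImplicit false
open CategoryTheory CategoryTheory.Limits AlgebraicGeometry
universe u
open FSch

namespace Groth.Agent.S17046

/-- Let A be a Noetherian I-adically complete ring, f : X ⟶ Spec A proper, 𝔛 the completion of X along
the inverse-image ideal of I and κ : 𝔛 ⟶ X the completion morphism of ringed spaces. Then an
O_𝔛-module is a small filtered colimit of coherent O_𝔛-modules if and only if it is isomorphic to
κ^*G for some quasi-coherent O_X-module G. -/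
theorem result (A : Type u) [CommRing A] [IsNoetherianRing A] (I : Ideal A) [IsAdicComplete I A]
    {X : Scheme.{u}} (f : X ⟶ Spec (CommRingCat.of A)) [IsProper f]
    (𝓘 : X.IdealSheafData) (h𝓘 : 𝓘 = (FSch.idealSpec A I).comap f)
    (hX : (FSch.completionAlong X 𝓘).IsFormal)
    (𝔉 : FSch.ModF (FSch.completionAlong X 𝓘) hX) :
    (ObjectProperty.ind.{u} fun 𝔊 : FSch.ModF (FSch.completionAlong X 𝓘) hX => FSch.IsCohF (FSch.completionAlong X 𝓘) hX 𝔊) 𝔉 ↔
      ∃ G : X.Modules, SheafOfModules.IsQuasicoherent.{u} G ∧ Nonempty ((FSch.toSchemeMor (FSch.completionAlong X 𝓘) hX (FSch.completionToX X 𝓘) (FSch.completionToX_comm X 𝓘)).pull.obj G ≅ 𝔉) := by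
  exact H8FSch.Algz.ind_iff_exists_pull f h𝓘 hX 𝔉

end Groth.Agent.S17046
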