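import Groth.Statements.S17048
import Groth.Agent.H8FSch.Algz.Left48

set_option autoImplicit false
open CategoryTheory CategoryTheory.Limits AlgebraicGeometry
universe u
attribute [local instance] HasDerivedCategory.standard
open FSch

namespace Groth.Agent.S17048

/-- Let 𝔛 be properly algebraic (the completion of a proper scheme X over a Noetherian ring B along the
inverse-image ideal of an ideal J of B), 𝔜 a formal scheme given as a system of thickenings with
quasi-compact underlying space, g : 𝔛 ⟶ 𝔜 a morphism, and assume the total right derived functor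
Rg_* exists on unbounded derived categories of modules. Then the restriction of Rg_* to the full
subcategory of D(O_𝔛) of complexes with lim-coherent cohomology sheaves (each a small filtered
colimit of coherent modules) has a right adjoint. -/
theorem result (B : Type u) [CommRing B] [IsNoetherianRing B] (J : Ideal B)
    {X : Scheme.{u}} (f : X ⟶ Spec (CommRingCat.of B)) [IsProper f]
    (𝓘 : X.IdealSheafData) (h𝓘 : 𝓘 = (FSch.idealSpec B J).comap f)
    (hX : (FSch.completionAlong X 𝓘).IsFormal)
    (𝔜 : FSch.Sys.{u}) (h𝔜 : 𝔜.IsFormal) [CompactSpace (𝔜.X 0)] (g : FSch.completionAlong X 𝓘 ⟶ 𝔜)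
    [SiteCmp.HasRpushD (FSch.homMor g hX h𝔜)] :
    (ObjectProperty.ι (fun G : DerivedCategory (FSch.ModF (FSch.completionAlong X 𝓘) hX) =>
        ∀ i : ℤ, (ObjectProperty.ind.{u} fun 𝔊 : FSch.ModF (FSch.completionAlong X 𝓘) hX => FSch.IsCohF (FSch.completionAlong X 𝓘) hX 𝔊) (SiteCmp.HMod G i)) ⋙
      SiteCmp.RpushD (FSch.homMor g hX h𝔜)).IsLeftAdjoint := by
  exact Groth.Agent.H8FSch.Algz.Left48.result B J f 𝓘 h𝓘 hX 𝔜 h𝔜 g

end Groth.Agent.S17048
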