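import Groth.Statements.S17053
import Groth.Agent.H13FTors.Cats
-- import your own Groth.Agent.* helpers here

set_option autoImplicit false
set_option backward.isDefEq.respectTransparency false
open CategoryTheory CategoryTheory.Limits
universe u
open FTors

namespace Groth.Agent.S17053

/-- On a locally Noetherian formal scheme 𝔛 (an adic system of thickenings with locally Noetherian
levels), for every quasi-coherent O_𝔛-module M the torsion submodule Γ'_𝔛 M is a quasi-coherent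
torsion module and a small filtered colimit of coherent O_𝔛-modules (the published statement: the
lim of its coherent submodules); consequently every quasi-coherent torsion module is a small
filtered colimit of coherent modules. -/
theorem result (𝔛 : FSch.Sys.{u}) (h𝔛 : 𝔛.IsLocNoethFormal) :
    (∀ (M : FSch.ModF 𝔛 h𝔛.1) [SheafOfModules.IsQuasicoherent.{u} M],
      FTors.IsQCT 𝔛 h𝔛.1 ((FTors.gammaT 𝔛 h𝔛.1).obj M) ∧ (ObjectProperty.ind.{u} fun 𝔊 : FSch.ModF 𝔛 h𝔛.1 => FSch.IsCohF 𝔛 h𝔛.1 𝔊) ((FTors.gammaT 𝔛 h𝔛.1).obj M)) ∧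
    ∀ M : FSch.ModF 𝔛 h𝔛.1, FTors.IsQCT 𝔛 h𝔛.1 M → (ObjectProperty.ind.{u} fun 𝔊 : FSch.ModF 𝔛 h𝔛.1 => FSch.IsCohF 𝔛 h𝔛.1 𝔊) M := by
  exact ⟨fun M _ => ⟨H13FTors.isQCT_gamma h𝔛, H13FTors.ind_gamma h𝔛⟩, fun M hM => H13FTors.ind_of_isQCT h𝔛 hM⟩

end Groth.Agent.S17053
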