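import Groth.Statements.S17065
import Mathlib.RingTheory.AdicCompletion.Algebra
import Mathlib.RingTheory.PicardGroup
import Mathlib.RingTheory.RegularLocalRing.Defs
import Mathlib.RingTheory.SimpleRing.Principal
import Mathlib.RingTheory.WittVector.Basic

set_option autoImplicit false
universe u
open CAlg

namespace Groth.Agent.S17065

/-- The local algebraic statement its proof establishes: let A be a Noetherian ring, I ≤ J radical
ideals and Â the J-adic completion of A. If J^n Â ⊆ I Â for some n, then the closed set V(J) is open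
inside V(I) ⊆ Spec A. (Globally: if X₂ ⊆ X₁ are the completions of a locally Noetherian scheme along
nested closed subsets Z₂ ⊆ Z₁ and the ideal of Z₁ generates an ideal of definition of X₂, then X₂ is
a union of connected components of X₁.) -/
theorem result (A : Type u) [CommRing A] [IsNoetherianRing A]
    (I J : Ideal A) (hIJ : I ≤ J) (hI : I.IsRadical) (hJ : J.IsRadical) (n : ℕ)
    (h : (J ^ n).map (algebraMap A (AdicCompletion J A)) ≤ I.map (algebraMap A (AdicCompletion J A))) :
    IsOpen ((fun x : PrimeSpectrum.zeroLocus (I : Set A) => (x : PrimeSpectrum A)) ⁻¹'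
      PrimeSpectrum.zeroLocus (J : Set A)) := by
  classical
  have key : ∀ x ∈ J, ∃ r ∈ J, (1 - r) * x ∈ I := by
    intro x hx
    have hmem : (Ideal.Quotient.mk I (x ^ n)) ∈ (⨅ i : ℕ, J ^ i • ⊤ : Submodule A (A ⧸ I)) := by
      refine (Submodule.mem_iInf _).mpr fun m ↦ ?_
      have h1 := Ideal.mem_map_of_mem (AdicCompletion.evalₐ J m).toRingHom
        (h (Ideal.mem_map_of_mem _ (Ideal.pow_mem_pow hx n)))
      rw [Ideal.map_map, AlgHom.toRingHom_eq_coe, AlgHom.comp_algebraMap] at h1
      change (AdicCompletion.evalₐ J m) (algebraMap A _ (x ^ n)) ∈ _ at h1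
      rw [AlgHom.commutes, Ideal.Quotient.algebraMap_eq,
        Ideal.mem_quotient_iff_mem_sup] at h1
      obtain ⟨b, hb, c, hc, hbc⟩ := Submodule.mem_sup.mp h1
      rw [← hbc, map_add, Ideal.Quotient.eq_zero_iff_mem.mpr hb, zero_add,
        ← mul_one c, ← smul_eq_mul c, ← Ideal.Quotient.algebraMap_eq, Algebra.algebraMap_eq_smul_one,
        smul_assoc]
      exact Submodule.smul_mem_smul hc trivial
    obtain ⟨⟨r, hr⟩, hrx⟩ := (Ideal.mem_iInf_smul_pow_eq_bot_iff J _).mp hmem
    refine ⟨r, hr, hI ⟨n + 1, ?_⟩⟩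
    have h2 : (1 - r) * x ^ n ∈ I := by
      rw [← Ideal.Quotient.eq_zero_iff_mem, sub_mul, one_mul, map_sub, map_mul, sub_eq_zero]
      rw [Algebra.smul_def, Ideal.Quotient.algebraMap_eq] at hrx
      exact hrx.symm
    rw [mul_pow, pow_succ (1 - r), pow_succ x, mul_mul_mul_comm]
    rcases Nat.eq_zero_or_pos n with rfl | hn
    · simp only [pow_zero, mul_one, one_mul] at h2 ⊢
      exact Ideal.mul_mem_right _ _ h2
    · refine Ideal.mul_mem_right _ _ ?_
      obtain ⟨n, rfl⟩ := Nat.exists_eq_add_of_le' hn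
      rw [pow_succ' (1 - r), mul_assoc]
      rw [show (1 - r) * ((1 - r) ^ n * x ^ (n + 1)) = (1 - r) ^ n * ((1 - r) * x ^ (n + 1)) by ring]
      exact Ideal.mul_mem_left _ _ h2
  choose r hrJ hrI using key
  obtain ⟨S, hS⟩ := IsNoetherian.noetherian J
  let s : A := ∏ x ∈ S.attach, (1 - r x.1 (hS ▸ Submodule.subset_span x.2))
  have hsJ : 1 - s ∈ J := by
    rw [← Ideal.Quotient.eq_zero_iff_mem, map_sub, map_one, sub_eq_zero, map_prod]
    refine (Finset.prod_eq_one fun x _ ↦ ?_).symm
    rw [map_sub, map_one, Ideal.Quotient.eq_zero_iff_mem.mpr (hrJ _ _), sub_zero]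
  have hsI : ∀ x ∈ J, s * x ∈ I := by
    intro x hx
    rw [← hS] at hx
    refine Submodule.span_induction ?_ ?_ ?_ ?_ hx
    · intro y hy
      have hd := Finset.dvd_prod_of_mem (fun x : S ↦ 1 - r x.1 (hS ▸ Submodule.subset_span x.2))
        (Finset.mem_attach S ⟨y, hy⟩)
      obtain ⟨c, hc⟩ := hd
      show (∏ x ∈ S.attach, _) * y ∈ I
      rw [hc, mul_right_comm]
      exact Ideal.mul_mem_right _ _ (hrI y _)
    · simp
    · intro a b _ _ ha hb; rw [mul_add]; exact add_mem ha hb
    · intro a b _ hb; rw [smul_eq_mul, mul_left_comm]; exact Ideal.mul_mem_left _ _ hb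
  have : ((fun x : PrimeSpectrum.zeroLocus (I : Set A) => (x : PrimeSpectrum A)) ⁻¹'
      PrimeSpectrum.zeroLocus (J : Set A)) =
      (fun x : PrimeSpectrum.zeroLocus (I : Set A) => (x : PrimeSpectrum A)) ⁻¹'
        (PrimeSpectrum.basicOpen s : Set (PrimeSpectrum A)) := by
    ext ⟨P, hP⟩
    simp only [Set.mem_preimage, PrimeSpectrum.mem_zeroLocus, SetLike.mem_coe,
      PrimeSpectrum.mem_basicOpen, SetLike.coe_subset_coe]
    refine ⟨fun hJP hs ↦ P.isPrime.ne_top ((Ideal.eq_top_iff_one _).mpr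
      (by simpa using add_mem (hJP hsJ) hs)), fun hs x hx ↦ ?_⟩
    exact (P.isPrime.mem_or_mem (hP (hsI x hx))).resolve_left hs
  rw [this]
  exact (PrimeSpectrum.basicOpen s).isOpen.preimage continuous_subtype_val

end Groth.Agent.S17065
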