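import Groth.Statements.S17067
import Groth.Agent.H8FSch.AffineDerived

set_option autoImplicit false
open CategoryTheory CategoryTheory.Limits
universe u
attribute [local instance] HasDerivedCategory.standard
open FSch

namespace Groth.Agent.S17067

/-- Let g : 𝔛 ⟶ 𝔜 be a morphism of locally Noetherian formal schemes (adic systems of thickenings with
locally Noetherian levels) whose morphism of smallest levels is an affine morphism of schemes, and
assume the total right derived functor Rg_* exists on unbounded derived categories of modules. If G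
∈ D(O_𝔛) has lim-coherent cohomology sheaves (small filtered colimits of coherent modules) vanishing
in all degrees > e, then the cohomology sheaves of Rg_* G also vanish in all degrees > e. -/
theorem result (𝔛 𝔜 : FSch.Sys.{u}) (h𝔛 : 𝔛.IsLocNoethFormal) (h𝔜 : 𝔜.IsLocNoethFormal)
    (g : 𝔛 ⟶ 𝔜) [AlgebraicGeometry.IsAffineHom ((g : FSch.Hom 𝔛 𝔜).app 0)]
    [SiteCmp.HasRpushD (FSch.homMor g h𝔛.1 h𝔜.1)] (G : DerivedCategory (FSch.ModF 𝔛 h𝔛.1))
    (hG : ∀ i : ℤ, (ObjectProperty.ind.{u} fun 𝔊 : FSch.ModF 𝔛 h𝔛.1 => FSch.IsCohF 𝔛 h𝔛.1 𝔊) (SiteCmp.HMod G i)) (e : ℤ) (he : ∀ i : ℤ, e < i → IsZero (SiteCmp.HMod G i))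
    (i : ℤ) (hi : e < i) :
    IsZero (SiteCmp.HMod ((SiteCmp.RpushD (FSch.homMor g h𝔛.1 h𝔜.1)).obj G) i) := by
  exact H8FSch.isZero_hMod_rpushD h𝔛 h𝔜 g G hG e he i hi

end Groth.Agent.S17067
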