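import Groth.Statements.S17073
import Groth.Agent.H4RepTop

set_option autoImplicit false
open CategoryTheory
universe u
open LocCoh

namespace Groth.Agent.S17073

/-- Let R → S be a homomorphism of Noetherian rings, J an ideal of S containing elements u₁, …, u_d such
that S/(u₁, …, u_d) is a finite R-module and J lies in the radical of (u₁, …, u_d), and let F be a
finite R-module. Then the functor sending an S-module E to the set Hom_R(H^d_J(E), F) (d-th local
cohomology supported in J, scalars restricted to R) is representable by an S-module. (The published
statement gives the representing module as the degree −d cohomology of RHom_R(RΓ_J S, F) and a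
bifunctorial isomorphism; only representability is asserted here.) -/
theorem result
    (R S : Type u) [CommRing R] [CommRing S] [IsNoetherianRing R] [IsNoetherianRing S] [Algebra R S]
    (J : Ideal S) (d : ℕ) (u : Fin d → S) (hu : ∀ i, u i ∈ J)
    (hJ : J ≤ (Ideal.span (Set.range u)).radical) [Module.Finite R (S ⧸ Ideal.span (Set.range u))]
    (F : Type u) [AddCommGroup F] [Module R F] [Module.Finite R F] :
    ((localCohomology J d ⋙ ModuleCat.restrictScalars (algebraMap R S)).op ⋙
      yoneda.obj (ModuleCat.of R F)).IsRepresentable := by
  exact Groth.Agent.H4RepTop.isRepresentable J d
    (Groth.Agent.H4RepTop.cdLE_of_generators u hu hJ) (ModuleCat.of R F)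

end Groth.Agent.S17073
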