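import Groth.Statements.S17075
import Groth.Agent.H17.Imports

set_option autoImplicit false
universe u
open CategoryTheory CategoryTheory.Limits AlgebraicGeometry
open MorSch

namespace Groth.Agent.S17075

open CategoryTheory Limits AlgebraicGeometry TopologicalSpace Opposite

/-- Let g : X → S be a proper morphism, i : V → X a closed immersion and j : U → X an open immersion.
Then there is an open subset S₀ of S such that, for every scheme S' and every morphism f : S' → S,
the image of f lies in S₀ if and only if the base change V ×_S S' → X ×_S S' of i factors through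
the open subscheme U ×_S S', equivalently the composite V ×_S S' → V → X has image contained in the
image of j. -/
theorem result
    {V X U S : Scheme.{u}} (g : X ⟶ S) [IsProper g] (i : V ⟶ X) [IsClosedImmersion i]
    (j : U ⟶ X) [IsOpenImmersion j] :
    ∃ S₀ : S.Opens, ∀ (S' : Scheme.{u}) (f : S' ⟶ S),
      Set.range f ⊆ (S₀ : Set S) ↔
        Set.range (pullback.fst (i ≫ g) f ≫ i) ⊆ Set.range j := by
  have hcl : IsClosed ((i ≫ g) '' (i ⁻¹' Set.range j)ᶜ) :=
    (i ≫ g).isClosedMap _ (j.isOpenEmbedding.isOpen_range.preimage i.continuous).isClosed_compl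
  refine ⟨⟨_, hcl.isOpen_compl⟩, fun S' f => ?_⟩
  rw [show Set.range (pullback.fst (i ≫ g) f ≫ i) = i '' Set.range (pullback.fst (i ≫ g) f) from Set.range_comp i (pullback.fst (i ≫ g) f), Scheme.Pullback.range_fst]
  constructor
  · rintro h _ ⟨v, ⟨t, ht⟩, rfl⟩
    by_contra hv
    exact h ⟨t, rfl⟩ ⟨v, hv, ht.symm⟩
  · rintro h _ ⟨t, rfl⟩ ⟨v, hv, e⟩
    exact hv (h ⟨v, ⟨t, e.symm⟩, rfl⟩)

end Groth.Agent.S17075
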