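import Groth.Statements.S17076
import Groth.Agent.H8Props.FibreIsoLocus
import Mathlib.AlgebraicGeometry.Morphisms.FlatDescent
import Mathlib.AlgebraicGeometry.Noetherian
import Mathlib.CategoryTheory.Comma.Over.Pullback

set_option autoImplicit false
universe u
open CategoryTheory CategoryTheory.Limits AlgebraicGeometry
open MorSch

namespace Groth.Agent.S17076

open CategoryTheory CategoryTheory.Limits AlgebraicGeometry TopologicalSpace

/-- Let S be a locally Noetherian scheme, X and Y schemes proper over S with X flat over S, and f : X →
Y an S-morphism. Then there is an open subset S₀ of S such that, for every locally Noetherian scheme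
S' and every morphism h : S' → S, the image of h lies in S₀ if and only if the base change X ×_S S'
→ Y ×_S S' of f is an isomorphism. (The published statement also supposes that some fibre of f is an
isomorphism; that hypothesis only serves to make S₀ nonempty and is not needed.) -/
theorem result
    {S : Scheme.{u}} [IsLocallyNoetherian S] (X Y : Over S) [IsProper X.hom] [IsProper Y.hom]
    [Flat X.hom] (f : X ⟶ Y) :
    ∃ S₀ : S.Opens, ∀ (S' : Scheme.{u}) [IsLocallyNoetherian S'] (h : S' ⟶ S),
      Set.range h ⊆ (S₀ : Set S) ↔ IsIso ((Over.pullback h).map f).left := by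
  haveI : LocallyOfFinitePresentation Y.hom := inferInstance
  haveI : LocallyOfFinitePresentation (f.left ≫ Y.hom) := by rw [Over.w f]; infer_instance
  haveI : Flat (f.left ≫ Y.hom) := by rw [Over.w f]; infer_instance
  haveI : IsProper (f.left ≫ Y.hom) := by rw [Over.w f]; infer_instance
  obtain ⟨U, hU, hiso⟩ := Groth.Agent.H8Props.FibreCriterion.exists_isIso_morphismRestrict f.left Y.hom
  refine ⟨U, fun S' _ h => ?_⟩
  set F : pullback X.hom h ⟶ pullback Y.hom h := ((Over.pullback h).map f).left with hF
  have hF1 : F ≫ pullback.fst Y.hom h = pullback.fst X.hom h ≫ f.left := pullback.lift_fst _ _ _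
  have hF2 : F ≫ pullback.snd Y.hom h = pullback.snd X.hom h := pullback.lift_snd _ _ _
  have sq : IsPullback (pullback.fst X.hom h) F f.left (pullback.fst Y.hom h) := by
    refine IsPullback.of_bot (v₂₁ := pullback.snd Y.hom h) (v₂₂ := Y.hom) (h₃₁ := h) ?_ hF1.symm
      (IsPullback.of_hasPullback Y.hom h)
    rw [Over.w f, hF2]
    exact IsPullback.of_hasPullback X.hom h
  have hsnd : IsIso F ↔ IsIso (pullback.snd f.left (pullback.fst Y.hom h)) := by
    rw [← sq.isoPullback_hom_snd]
    constructor
    · intro hi; exact IsIso.of_isIso_comp_left sq.isoPullback.hom _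
    · intro hi; infer_instance
  rw [hsnd]
  constructor
  · intro hrange
    refine Groth.Agent.H8Props.FibreCriterion.isIso_restrict_snd f.left (Y.hom ⁻¹ᵁ U) _ ?_
    rw [Scheme.Opens.range_ι]
    rintro _ ⟨p, rfl⟩
    show Y.hom (pullback.fst Y.hom h p) ∈ U
    rw [← Scheme.Hom.comp_apply, pullback.condition, Scheme.Hom.comp_apply]
    exact hrange ⟨_, rfl⟩
  · rintro hi _ ⟨s', rfl⟩
    refine (hU (h s')).2 ?_
    let a := S.fromSpecResidueField (h s')
    let b := S'.fromSpecResidueField s'
    let c := Spec.map (h.residueFieldMap s')
    have hcab : c ≫ a = b ≫ h := h.SpecMap_residueFieldMap_fromSpecResidueField s'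
    haveI : Flat c := Flat.SpecMap_iff.2 (by
      letI := (h.residueFieldMap s').hom.toAlgebra
      exact (RingHom.flat_algebraMap_iff (R := S.residueField (h s')) (S := S'.residueField s')).2 inferInstance)
    haveI : Surjective c := ⟨fun p => ⟨default, Subsingleton.elim _ _⟩⟩
    let d := pullback.fst (pullback.snd Y.hom a) c
    let m : pullback (pullback.snd Y.hom a) c ⟶ pullback Y.hom h :=
      pullback.lift (d ≫ pullback.fst Y.hom a) (pullback.snd _ c ≫ b) (by
        rw [Category.assoc, pullback.condition, reassoc_of% pullback.condition (f := pullback.snd Y.hom a) (g := c),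
          Category.assoc, hcab])
    have hm : IsIso (pullback.snd (pullback.snd f.left (pullback.fst Y.hom h)) m) :=
      MorphismProperty.pullback_snd (P := MorphismProperty.isomorphisms Scheme) _ _ hi
    rw [← pullbackLeftPullbackSndIso_hom_snd] at hm
    replace hm := IsIso.of_isIso_comp_left (pullbackLeftPullbackSndIso f.left (pullback.fst Y.hom h) m).hom
      (pullback.snd f.left (m ≫ pullback.fst Y.hom h))
    have key : ∀ k, k = m ≫ pullback.fst Y.hom h → IsIso (pullback.snd f.left k) := by
      rintro k rfl; exact hm
    have h2 : IsIso (pullback.snd f.left (d ≫ pullback.fst Y.hom a)) := key _ (pullback.lift_fst _ _ _).symm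
    have h3 : IsIso (pullback.snd (pullback.snd f.left (pullback.fst Y.hom a)) d) := by
      rw [← pullbackLeftPullbackSndIso_hom_snd]; infer_instance
    exact MorphismProperty.of_pullback_snd_of_descendsAlong (P := MorphismProperty.isomorphisms Scheme)
      (Q := @Surjective ⊓ @Flat ⊓ @QuasiCompact) ⟨⟨MorphismProperty.pullback_fst (P := @Surjective) (pullback.snd Y.hom a) c inferInstance,
        MorphismProperty.pullback_fst (P := @Flat) (pullback.snd Y.hom a) c inferInstance⟩,
        MorphismProperty.pullback_fst (P := @QuasiCompact) (pullback.snd Y.hom a) c inferInstance⟩ h3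

end Groth.Agent.S17076
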