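import Groth.Statements.S17077
import Mathlib.FieldTheory.IsAlgClosed.Basic
import Mathlib.RingTheory.MvPolynomial.Homogeneous
import Mathlib.RingTheory.Polynomial.UniqueFactorization
import Mathlib.Algebra.MvPolynomial.NoZeroDivisors
import Mathlib.Tactic

set_option autoImplicit false
universe u
open RatCurve

namespace Groth.Agent.S17077

open MvPolynomial

/-- The linear form vanishing at `a`. -/
noncomputable def lineForm {k : Type u} [CommRing k] (a : Fin 2 → k) : MvPolynomial (Fin 2) k :=
  C (a 1) * X 0 - C (a 0) * X 1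

theorem lineForm_hom {k : Type u} [CommRing k] (a : Fin 2 → k) : (lineForm a).IsHomogeneous 1 :=
  (isHomogeneous_C_mul_X _ _).sub (isHomogeneous_C_mul_X _ _)

theorem lineForm_ne_zero {k : Type u} [CommRing k] (a : Fin 2 → k) (ha : a ≠ 0) : lineForm a ≠ 0 := by
  intro h
  apply ha
  have h0 := congrArg (MvPolynomial.eval (![1, 0] : Fin 2 → k)) h
  have h1 := congrArg (MvPolynomial.eval (![0, 1] : Fin 2 → k)) h
  simp [lineForm] at h0 h1
  funext i
  fin_cases i <;> simp [h0, h1]

theorem aeval_mul_hom {k S : Type u} [CommRing k] [CommRing S] [Algebra k S] (F : MvPolynomial (Fin 2) k)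
    (d : ℕ) (hF : F.IsHomogeneous d) (t : S) (a : Fin 2 → k) :
    aeval (fun i => t * algebraMap k S (a i)) F = t ^ d * algebraMap k S (eval a F) := by
  conv_lhs => rw [as_sum F]
  conv_rhs => rw [as_sum F]
  rw [map_sum, map_sum, map_sum, Finset.mul_sum]
  refine Finset.sum_congr rfl fun s hs => ?_
  have hdeg := hF.degree_eq_sum_deg_support hs
  rw [aeval_monomial, eval_monomial, map_mul, Finsupp.prod, Finsupp.prod, map_prod]
  simp only [mul_pow, Finset.prod_mul_distrib, map_pow, Finset.prod_pow_eq_pow_sum, ← hdeg]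
  ring

theorem lineForm_dvd {k : Type u} [Field k] (F : MvPolynomial (Fin 2) k) (d : ℕ) (hF : F.IsHomogeneous d)
    (a : Fin 2 → k) (ha : a ≠ 0) (hz : eval a F = 0) : lineForm a ∣ F := by
  rw [← Ideal.mem_span_singleton, ← Ideal.Quotient.eq_zero_iff_mem]
  set π := Ideal.Quotient.mkₐ k (Ideal.span {lineForm a})
  show π F = 0
  have hL : π (lineForm a) = 0 := Ideal.Quotient.eq_zero_iff_mem.2 (Ideal.mem_span_singleton_self _)
  have e : π (lineForm a) = algebraMap k _ (a 1) * π (X 0) - algebraMap k _ (a 0) * π (X 1) := by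
    show π (C (a 1) * X 0 - C (a 0) * X 1) = _
    simp only [map_sub, map_mul, ← algebraMap_eq, AlgHom.commutes]
  rw [hL, eq_comm, sub_eq_zero] at e
  obtain ⟨t, ht⟩ : ∃ t, ∀ i, π (X i) = t * algebraMap k _ (a i) := by
    by_cases h0 : a 0 = 0
    · have h1 : a 1 ≠ 0 := fun h1 => ha (funext fun i => by fin_cases i <;> simp [h0, h1])
      refine ⟨π (X 1) * algebraMap k _ (a 1)⁻¹, fun i => ?_⟩
      fin_cases i
      · show π (X 0) = _
        calc π (X 0) = algebraMap k _ (a 1)⁻¹ * (algebraMap k _ (a 1) * π (X 0)) := by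
              rw [← mul_assoc, ← map_mul, inv_mul_cancel₀ h1, map_one, one_mul]
          _ = _ := by rw [e]; simp only [h0, map_zero, zero_mul, mul_zero, Fin.isValue, Fin.zero_eta]
      · show π (X 1) = π (X 1) * algebraMap k _ (a 1)⁻¹ * algebraMap k _ (a 1)
        rw [mul_assoc, ← map_mul, inv_mul_cancel₀ h1, map_one, mul_one]
    · refine ⟨π (X 0) * algebraMap k _ (a 0)⁻¹, fun i => ?_⟩
      fin_cases i
      · show π (X 0) = π (X 0) * algebraMap k _ (a 0)⁻¹ * algebraMap k _ (a 0)
        rw [mul_assoc, ← map_mul, inv_mul_cancel₀ h0, map_one, mul_one]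
      · show π (X 1) = _
        calc π (X 1) = algebraMap k _ (a 0)⁻¹ * (algebraMap k _ (a 0) * π (X 1)) := by
              rw [← mul_assoc, ← map_mul, inv_mul_cancel₀ h0, map_one, one_mul]
          _ = _ := by rw [← e]; simp only [Fin.isValue, Fin.mk_one]; ring
  have h1 : π F = aeval (fun i => π (X i)) F := DFunLike.congr_fun (aeval_unique π) F
  rw [h1, funext ht, aeval_mul_hom F d hF, hz, map_zero, mul_zero]

theorem exists_zero {k : Type u} [Field k] [IsAlgClosed k] (F : MvPolynomial (Fin 2) k) (d : ℕ)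
    (hd : 0 < d) (hF : F.IsHomogeneous d) : ∃ a : Fin 2 → k, a ≠ 0 ∧ eval a F = 0 := by
  by_cases h1 : eval (![1, 0] : Fin 2 → k) F = 0
  · exact ⟨_, fun h => by simpa using congrFun h 0, h1⟩
  let f : Polynomial k := aeval (![Polynomial.X, 1] : Fin 2 → Polynomial k) F
  have hc : f.coeff d ≠ 0 := by
    convert h1 using 1
    conv_lhs => rw [show f = aeval (![Polynomial.X, 1] : Fin 2 → Polynomial k) F from rfl, as_sum F]
    conv_rhs => rw [as_sum F]
    rw [map_sum, map_sum, Polynomial.finset_sum_coeff]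
    refine Finset.sum_congr rfl fun s hs => ?_
    have hdeg : s 0 + s 1 = d := by
      rw [hF.degree_eq_sum_deg_support hs, Finset.sum_subset (Finset.subset_univ _)
        (fun i _ hi => by simpa using hi), Fin.sum_univ_two]
    rw [aeval_monomial, eval_monomial, Finsupp.prod_fintype _ _ (by simp), Finsupp.prod_fintype _ _ (by simp),
      Fin.prod_univ_two, Fin.prod_univ_two]
    simp only [Matrix.cons_val_zero, Matrix.cons_val_one, one_pow, mul_one, Polynomial.algebraMap_eq,
      Polynomial.coeff_C_mul, Polynomial.coeff_X_pow, zero_pow_eq]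
    rcases Nat.eq_zero_or_pos (s 1) with h | h
    · simp [h, show d = s 0 by omega]
    · simp [h.ne', show d ≠ s 0 by omega]
  obtain ⟨r, hr⟩ := IsAlgClosed.exists_root f (fun h => by
    have h2 := Polynomial.le_natDegree_of_ne_zero hc
    rw [Polynomial.natDegree_eq_zero_iff_degree_le_zero.2 h.le] at h2
    omega)
  refine ⟨![r, 1], fun h => by simpa using congrFun h 1, ?_⟩
  have h2 : (Polynomial.aeval r).comp (aeval (![Polynomial.X, 1] : Fin 2 → Polynomial k)) = aeval (![r, 1] : Fin 2 → k) := by
    refine algHom_ext fun i => ?_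
    fin_cases i <;> simp
  have h3 := DFunLike.congr_fun h2 F
  simp only [AlgHom.comp_apply, Polynomial.coe_aeval_eq_eval] at h3
  rw [← aeval_eq_eval, ← h3]
  exact hr

theorem prime_factor_zero {k : Type u} [Field k] [IsAlgClosed k] (P : MvPolynomial (Fin 2) k) (hP : Prime P) :
    ∀ (d : ℕ) (F : MvPolynomial (Fin 2) k), F.IsHomogeneous d → F ≠ 0 → P ∣ F →
      ∃ a : Fin 2 → k, a ≠ 0 ∧ eval a P = 0 := by
  intro d
  induction d with
  | zero =>
    intro F hF h0 hdvd
    rw [← totalDegree_zero_iff_isHomogeneous, totalDegree_eq_zero_iff_eq_C] at hF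
    refine absurd (isUnit_of_dvd_unit hdvd ?_) hP.not_unit
    rw [hF]
    exact IsUnit.map C (isUnit_iff_ne_zero.2 fun h => h0 (by rw [hF, h, map_zero]))
  | succ d ih =>
    intro F hF h0 hdvd
    obtain ⟨a, ha, hz⟩ := exists_zero F (d + 1) d.succ_pos hF
    obtain ⟨G, hG⟩ := lineForm_dvd F (d + 1) hF a ha hz
    have hG' : F = lineForm a * homogeneousComponent d G := by
      conv_lhs => rw [← homogeneousComponent_eq_self hF, hG, ← sum_homogeneousComponent G, Finset.mul_sum, map_sum]
      have hcomp : ∀ i, homogeneousComponent (d + 1) (lineForm a * homogeneousComponent i G) =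
          if d + 1 = 1 + i then lineForm a * homogeneousComponent i G else 0 := fun i =>
        homogeneousComponent_of_mem ((lineForm_hom a).mul (homogeneousComponent_isHomogeneous i G))
      simp only [hcomp]
      rw [Finset.sum_eq_single d]
      · rw [if_pos (by omega)]
      · intro i _ hi; rw [if_neg (by omega)]
      · intro hd
        rw [Finset.mem_range, not_lt] at hd
        rw [homogeneousComponent_eq_zero d G (by omega), mul_zero, ite_self]
    have hne : homogeneousComponent d G ≠ 0 := fun h => h0 (by rw [hG', h, mul_zero])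
    rw [hG'] at hdvd
    rcases hP.dvd_or_dvd hdvd with h | h
    · obtain ⟨Q, hQ⟩ := h
      have hL := lineForm_ne_zero a ha
      have hQ0 : Q ≠ 0 := fun h => hL (by rw [hQ, h, mul_zero])
      have hdeg := totalDegree_mul_of_isDomain hP.ne_zero hQ0
      rw [← hQ, (lineForm_hom a).totalDegree hL] at hdeg
      have hPd : P.totalDegree ≠ 0 := fun h => by
        rw [totalDegree_eq_zero_iff_eq_C] at h
        refine hP.not_unit (h ▸ IsUnit.map C (isUnit_iff_ne_zero.2 fun hc => hP.ne_zero ?_))
        rw [h, hc, map_zero]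
      have hQd : Q = C (coeff 0 Q) := (totalDegree_eq_zero_iff_eq_C (p := Q)).1 (by omega)
      refine ⟨a, ha, ?_⟩
      have h1 := congrArg (eval a) hQ
      rw [map_mul, hQd, eval_C] at h1
      have h2 : eval a (lineForm a) = 0 := by simp [lineForm]; ring
      rw [h2, eq_comm, mul_eq_zero] at h1
      exact h1.resolve_right fun hc => hQ0 (by rw [hQd, hc, map_zero])
    · exact ih _ (homogeneousComponent_isHomogeneous d G) hne h

theorem exists_linear {k : Type u} [Field k] (a : Fin 2 → k) (ha : a ≠ 0) :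
    ∃ i : Fin 2, a i ≠ 0 := by
  by_contra h
  push Not at h
  exact ha (funext h)

/-- Let k be an algebraically closed field and F_0, …, F_{n-1} homogeneous polynomials in k[u, v] (of
possibly different degrees). Then the F_i have a common factor which is not a unit if and only if
they have a common zero (a, b) ≠ (0, 0) in k², that is, a common zero in the projective line. -/
theorem result
    {k : Type u} [Field k] [IsAlgClosed k] {n : ℕ} (F : Fin n → MvPolynomial (Fin 2) k)
    (d : Fin n → ℕ) (hF : ∀ i, (F i).IsHomogeneous (d i)) :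
    (∃ H : MvPolynomial (Fin 2) k, ¬ IsUnit H ∧ ∀ i, H ∣ F i) ↔
      ∃ a : Fin 2 → k, a ≠ 0 ∧ ∀ i, MvPolynomial.eval a (F i) = 0 := by
  constructor
  · rintro ⟨H, hH, hdvd⟩
    by_cases hall : ∀ i, F i = 0
    · exact ⟨![1, 0], fun h => by simpa using congrFun h 0, fun i => by simp [hall i]⟩
    push Not at hall
    obtain ⟨i₀, hi₀⟩ := hall
    have hH0 : H ≠ 0 := fun h => hi₀ (zero_dvd_iff.1 (h ▸ hdvd i₀))
    obtain ⟨P, hP, hPH⟩ := WfDvdMonoid.exists_irreducible_factor hH hH0
    obtain ⟨a, ha, hz⟩ := prime_factor_zero P hP.prime (d i₀) (F i₀) (hF i₀) hi₀ (hPH.trans (hdvd i₀))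
    refine ⟨a, ha, fun i => ?_⟩
    obtain ⟨Q, hQ⟩ := hPH.trans (hdvd i)
    rw [hQ, map_mul, hz, zero_mul]
  · rintro ⟨a, ha, hz⟩
    refine ⟨lineForm a, fun h => ?_, fun i => lineForm_dvd (F i) (d i) (hF i) a ha (hz i)⟩
    have h2 : eval a (lineForm a) = 0 := by simp [lineForm]; ring
    exact not_isUnit_zero (h2 ▸ h.map (eval a))

end Groth.Agent.S17077
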