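import Groth.Statements.S17078
import Groth.Agent.S17077
import Mathlib.RingTheory.Nullstellensatz

set_option autoImplicit false
universe u
open RatCurve

namespace Groth.Agent.S17078

open MvPolynomial

/-- Let k be an algebraically closed field and F_0, …, F_{n-1} homogeneous polynomials of degree d in
k[u, v]. Then the F_i have no common factor other than units if and only if there is an integer m ≥
d such that every homogeneous polynomial of degree m can be written Σ_i F_i G_i with each G_i
homogeneous of degree m − d, i.e. the k-linear map (G_i)_i ↦ Σ_i F_i G_i from n copies of k[u,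
v]_{m−d} to k[u, v]_m is surjective. -/
theorem result
    {k : Type u} [Field k] [IsAlgClosed k] {n : ℕ} (F : Fin n → MvPolynomial (Fin 2) k)
    (d : ℕ) (hF : ∀ i, (F i).IsHomogeneous d) :
    (¬ ∃ H : MvPolynomial (Fin 2) k, ¬ IsUnit H ∧ ∀ i, H ∣ F i) ↔
      ∃ m : ℕ, d ≤ m ∧ ∀ P : MvPolynomial (Fin 2) k, P.IsHomogeneous m →
        ∃ G : Fin n → MvPolynomial (Fin 2) k, (∀ i, (G i).IsHomogeneous (m - d)) ∧
          P = ∑ i, F i * G i := by
  classical
  rw [Groth.Agent.S17077.result F (fun _ => d) hF]
  constructor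
  · intro hno
    let I : Ideal (MvPolynomial (Fin 2) k) := Ideal.span (Set.range F)
    have hrad : ∀ i : Fin 2, (X i : MvPolynomial (Fin 2) k) ∈ I.radical := fun i => by
      rw [← MvPolynomial.vanishingIdeal_zeroLocus_eq_radical (K := k) I, MvPolynomial.mem_vanishingIdeal_iff]
      intro a ha
      have ha0 : a = 0 := by
        by_contra h
        refine hno ⟨a, h, fun j => ?_⟩
        have := (MvPolynomial.mem_zeroLocus_iff.1 ha) (F j) (Ideal.subset_span ⟨j, rfl⟩)
        rwa [aeval_eq_eval] at this
      simp [ha0]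
    choose N hN using hrad
    refine ⟨d + N 0 + N 1, by omega, fun P hP => ?_⟩
    have hmem : P ∈ I := by
      rw [as_sum P]
      refine Ideal.sum_mem _ fun s hs => ?_
      have hdeg := hP.degree_eq_sum_deg_support hs
      rw [Finset.sum_subset (Finset.subset_univ _) (fun i _ hi => by simpa using hi), Fin.sum_univ_two] at hdeg
      rw [monomial_eq, Finsupp.prod_fintype _ _ (by simp), Fin.prod_univ_two]
      refine Ideal.mul_mem_left _ _ ?_
      rcases (show N 0 ≤ s 0 ∨ N 1 ≤ s 1 by omega) with h | h
      · exact Ideal.mul_mem_right _ _ (I.pow_mem_of_pow_mem (hN 0) h)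
      · exact Ideal.mul_mem_left _ _ (I.pow_mem_of_pow_mem (hN 1) h)
    obtain ⟨G, hG⟩ := Ideal.mem_span_range_iff_exists_fun.1 hmem
    refine ⟨fun i => homogeneousComponent (d + N 0 + N 1 - d) (G i), fun i => homogeneousComponent_isHomogeneous _ _, ?_⟩
    conv_lhs => rw [← homogeneousComponent_eq_self hP, ← hG, map_sum]
    refine Finset.sum_congr rfl fun i _ => ?_
    conv_lhs => rw [mul_comm, ← sum_homogeneousComponent (G i), Finset.mul_sum, map_sum]
    simp only [fun j => homogeneousComponent_of_mem ((hF i).mul (homogeneousComponent_isHomogeneous j (G i))) (m := d + N 0 + N 1)]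
    rw [Finset.sum_eq_single (d + N 0 + N 1 - d)]
    · rw [if_pos (by omega)]
    · intro j _ hj; rw [if_neg (by omega)]
    · intro hd
      rw [Finset.mem_range, not_lt] at hd
      rw [homogeneousComponent_eq_zero _ (G i) (by omega), mul_zero, ite_self]
  · rintro ⟨m, -, hm⟩ ⟨a, ha, hz⟩
    obtain ⟨i, hi⟩ := Groth.Agent.S17077.exists_linear a ha
    obtain ⟨G, -, hG⟩ := hm (X i ^ m) (isHomogeneous_X_pow i m)
    have h := congrArg (eval a) hG
    rw [map_pow, eval_X, map_sum, Finset.sum_eq_zero fun j _ => by rw [map_mul, hz, zero_mul]] at h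
    exact hi (eq_zero_of_pow_eq_zero h)

end Groth.Agent.S17078
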