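import Groth.Statements.S17080
import Groth.Agent.H17.MorSch.OpenTarget
-- import your own Groth.Agent.* helpers here

set_option autoImplicit false
universe u
open CategoryTheory CategoryTheory.Limits AlgebraicGeometry
open MorSch

namespace Groth.Agent.S17080

/-- Let gX : X → S be proper and flat, gY : Y → S separated and j : U → Y an open immersion, and suppose
the functor Mor_S(X, Y) — S-schemes T ↦ S-morphisms T ×_S X → Y — is represented by an S-scheme M
via e. Then there are an open subset M₀ of M and a representation e₀ of Mor_S(X, U) by the open
subscheme M₀ (viewed over S through M) which is compatible with e: for every S-morphism φ : T → M₀,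
the S-morphism T ×_S X → Y classified by φ followed by the inclusion M₀ → M is the S-morphism T ×_S
X → U classified by φ, followed by j. In particular the morphism Mor_S(X, U) → Mor_S(X, Y) induced
by j is an open immersion. (Published for X projective and flat and Y quasi-projective over a
locally Noetherian S, which is how M is known to exist there; representability is taken as a
hypothesis here.) -/
theorem result
    {X Y U S : Scheme.{u}} (gX : X ⟶ S) [IsProper gX] [Flat gX] (gY : Y ⟶ S) [IsSeparated gY]
    (j : U ⟶ Y) [IsOpenImmersion j] (M : Over S) (e : (Flatn.morS gX gY).RepresentableBy M) :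
    ∃ (M₀ : M.left.Opens)
      (e₀ : (Flatn.morS gX (j ≫ gY)).RepresentableBy (Over.mk (M₀.ι ≫ M.hom))),
      ∀ (T : Over S) (φ : T ⟶ Over.mk (M₀.ι ≫ M.hom)),
        (e.homEquiv (φ ≫ Over.homMk M₀.ι rfl) :
            (Over.map gX).obj ((Over.pullback gX).obj T) ⟶ Over.mk gY) =
          (e₀.homEquiv φ : (Over.map gX).obj ((Over.pullback gX).obj T) ⟶ Over.mk (j ≫ gY)) ≫
            (Over.homMk j rfl : Over.mk (j ≫ gY) ⟶ Over.mk gY) := by
  exact ⟨H17.MorOpen.openLocus j e, H17.MorOpen.representableBy j e, fun T φ => H17.MorOpen.homEquiv₀_fac j e φ⟩

end Groth.Agent.S17080
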