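import Groth.Statements.S17081
import Groth.Agent.H17.HilbBC.Main
-- import your own Groth.Agent.* helpers here

set_option autoImplicit false
universe u
open CategoryTheory CategoryTheory.Limits AlgebraicGeometry
open MorSch

namespace Groth.Agent.S17081

/-- Let S and S' be Noetherian schemes, h : S' → S and f : X → S morphisms, and (H, Z) a pair
representing the Hilbert functor of X over S on locally Noetherian S-schemes (H locally Noetherian
over S; Z ⊆ X ×_S H closed, proper and flat over H; every closed subscheme of X ×_S T proper and
flat over a locally Noetherian S-scheme T is the pullback of Z along a unique S-morphism T → H),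
with H locally of finite type over S. Write X' = X ×_S S' → S' and H' = H ×_S S' → S', and let Z' ⊆
X' ×_{S'} H' be the closed subscheme pulled back from Z along the morphism X' ×_{S'} H' → X ×_S H
induced by the projections X' → X and H' → H. Then (H', Z') represents the Hilbert functor of X'
over S'. (Published for X flat and projective over S, which is how (H, Z) is known to exist there;
representability is taken as a hypothesis here; the hypothesis that H is locally of finite type over
S is added here (it holds for the Hilbert scheme of a flat projective scheme) so that H ×_S S' is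
locally Noetherian.) -/
theorem result
    {X S S' : Scheme.{u}} [IsNoetherian S] [IsNoetherian S'] (f : X ⟶ S) (h : S' ⟶ S)
    (H : Over S) (Z : FGA.HilbSet f H) (hH : FGA.HilbRepresentedBy f H Z)
    [LocallyOfFiniteType H.hom]
    (Z' : FGA.HilbSet (pullback.snd f h) (Over.mk (pullback.snd H.hom h)))
    (hZ' : Z'.1 = Z.1.comap (pullback.map (pullback.snd f h) (pullback.snd H.hom h) f H.hom
      (pullback.fst f h) (pullback.fst H.hom h) h pullback.condition.symm pullback.condition.symm)) :
    FGA.HilbRepresentedBy (pullback.snd f h) (Over.mk (pullback.snd H.hom h)) Z' := by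
  obtain ⟨hLN, hrep⟩ := hH
  haveI := hLN
  refine ⟨LocallyOfFiniteType.isLocallyNoetherian (pullback.snd H.hom h), fun T _ Y => ?_⟩
  let c := Groth.Agent.H17.HilbBC.cmp f h T
  let m := pullback.map (pullback.snd f h) (pullback.snd H.hom h) f H.hom
    (pullback.fst f h) (pullback.fst H.hom h) h pullback.condition.symm pullback.condition.symm
  let T₀ : Over S := Groth.Agent.H17.HilbBC.down h T
  haveI : IsLocallyNoetherian T₀.left := ‹IsLocallyNoetherian T.left›
  let Y₀ : FGA.HilbSet f T₀ := ⟨Y.1.comap c.inv, by
    have := Groth.Agent.H17.HilbBC.hilb_mem_comap c.inv Y.1 _ Y.2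
    rw [Groth.Agent.H17.HilbBC.cmp_snd] at this
    exact this⟩
  let push : (T ⟶ Over.mk (pullback.snd H.hom h)) → (T₀ ⟶ H) := fun g =>
    Over.homMk (g.left ≫ pullback.fst H.hom h) (by
      show (g.left ≫ pullback.fst H.hom h) ≫ H.hom = T.hom ≫ h
      rw [Category.assoc, pullback.condition, ← Category.assoc]
      congr 1
      exact Over.w g)
  have key : ∀ g, FGA.hilbPull (pullback.snd f h) g Z'.1 = Y.1 ↔
      FGA.hilbPull f (push g) Z.1 = Y₀.1 := fun g => by
    have hsq : PicF.XTmap (pullback.snd f h) g ≫ m = c.hom ≫ PicF.XTmap f (push g) := by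
      apply pullback.hom_ext
      · simp only [PicF.XTmap, m, c, pullback.map, Category.assoc, pullback.lift_fst,
          Category.comp_id]
        erw [pullback.lift_fst_assoc]
        exact (Groth.Agent.H17.HilbBC.cmp_fst f h T).symm
      · simp only [PicF.XTmap, m, c, pullback.map, Category.assoc, pullback.lift_snd]
        erw [pullback.lift_snd_assoc]
        refine Eq.trans ?_ ((congrArg (· ≫ g.left ≫ pullback.fst H.hom h)
          (Groth.Agent.H17.HilbBC.cmp_hom_snd f h T)).symm.trans (Category.assoc _ _ _))
        exact Category.assoc _ _ _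
    rw [Groth.Agent.H17.HilbBC.hilbPull_eq_comap, Groth.Agent.H17.HilbBC.hilbPull_eq_comap, hZ',
      ← Scheme.IdealSheafData.comap_comp]
    show Z.1.comap (PicF.XTmap (pullback.snd f h) g ≫ m) = Y.1 ↔ _ = Y.1.comap c.inv
    rw [hsq, Scheme.IdealSheafData.comap_comp]
    constructor
    · intro e
      rw [← e, ← Scheme.IdealSheafData.comap_comp, Iso.inv_hom_id, Scheme.IdealSheafData.comap_id]
    · intro e
      rw [e, ← Scheme.IdealSheafData.comap_comp, Iso.hom_inv_id, Scheme.IdealSheafData.comap_id]
  obtain ⟨g₀, hg₀, huniq⟩ := hrep T₀ Y₀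
  let g : T ⟶ Over.mk (pullback.snd H.hom h) :=
    Over.homMk (pullback.lift g₀.left T.hom (Over.w g₀)) (pullback.lift_snd _ _ _)
  have hg : push g = g₀ := Over.OverMorphism.ext (pullback.lift_fst _ _ _)
  refine ⟨g, (key g).2 (hg ▸ hg₀), fun g' hg' => Over.OverMorphism.ext (pullback.hom_ext ?_ ?_)⟩
  · exact (congrArg CommaMorphism.left ((huniq _ ((key g').1 hg')).trans hg.symm))
  · exact (Over.w g').trans (Over.w g).symm

end Groth.Agent.S17081
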