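import Groth.Statements.S17083
import Groth.Agent.H17.BlowDisjoint.Main
-- import your own Groth.Agent.* helpers here

set_option autoImplicit false
universe u
open CategoryTheory CategoryTheory.Limits AlgebraicGeometry
open MorSch

namespace Groth.Agent.S17083

/-- The closed immersion constructed in its proof, as follows. Let X be a scheme, I₁ and I₂
quasi-coherent ideal sheaves on X with I₁ + I₂ = O_X, so that they cut out disjoint closed
subschemes Z₁ and Z₂, let σ : B → X be a blow-up of X in the ideal I₁ ∩ I₂ of Z₁ ∪ Z₂, and let σ₁ :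
B₁ → X and σ₂ : B₂ → X be blow-ups of X in Z₁ and in Z₂ (blow-up in the sense of the universal
property: the inverse image ideal is effective Cartier, finally so). Then there is a morphism ι : B
→ B₁ ×_X B₂ over X which is a closed immersion; the components B → B_i are necessarily the unique
X-morphisms given by the universal properties. (Published for X a projective space over an
algebraically closed field, Z₂ a closed point and Z₁ a finite set of closed points not containing
it, and iterated there to embed the blow-up at r distinct points as a closed subscheme of the fibre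
product over X of the r blow-ups at single points.) -/
theorem result
    {X B B₁ B₂ : Scheme.{u}} (I₁ I₂ : X.IdealSheafData) (hdisj : I₁ ⊔ I₂ = ⊤)
    (σ : B ⟶ X) (hσ : BlowUp.IsBlowUp σ (I₁ ⊓ I₂))
    (σ₁ : B₁ ⟶ X) (hσ₁ : BlowUp.IsBlowUp σ₁ I₁) (σ₂ : B₂ ⟶ X) (hσ₂ : BlowUp.IsBlowUp σ₂ I₂) :
    ∃ ι : B ⟶ pullback σ₁ σ₂, IsClosedImmersion ι ∧ ι ≫ pullback.fst σ₁ σ₂ ≫ σ₁ = σ := by
  obtain ⟨ι, hι, h⟩ := H17.BlowDisjoint.exists_iso I₁ I₂ hdisj σ hσ σ₁ hσ₁ σ₂ hσ₂
  haveI := hι
  exact ⟨ι, inferInstance, h⟩

end Groth.Agent.S17083
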