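import Groth.Statements.S17084
import Groth.Agent.H17.MorSBaseChange
import Mathlib.AlgebraicGeometry.Limits

set_option autoImplicit false
universe u
open CategoryTheory CategoryTheory.Limits AlgebraicGeometry
open MorSch

namespace Groth.Agent.S17084

open CategoryTheory CategoryTheory.Limits AlgebraicGeometry

/-- Let (X_i)_{i ∈ ι} be a finite family of schemes over S with structure morphisms g_i : X_i → S, let Y
→ S be a scheme over S and T an S-scheme. Then for every family of S-morphisms a_i : T ×_S X_i → Y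
there is a unique S-morphism b : T ×_S (∐_i X_i) → Y whose restriction along each T ×_S X_i → T ×_S
(∐_i X_i) is a_i. In other words the canonical map Mor_S(∐_i X_i, Y) → ∏_i Mor_S(X_i, Y) of functors
on S-schemes is an isomorphism. -/
theorem result
    {S Y : Scheme.{u}} {ι : Type u} [Finite ι] (X : ι → Scheme.{u}) (g : ∀ i, X i ⟶ S)
    (gY : Y ⟶ S) (T : Over S) (a : ∀ i, (Flatn.morS (g i) gY).obj (Opposite.op T)) :
    ∃! b : (Flatn.morS (Sigma.desc g) gY).obj (Opposite.op T),
      ∀ i, pullback.map T.hom (g i) T.hom (Sigma.desc g) (𝟙 T.left) (Sigma.ι X i) (𝟙 S)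
          ((Category.comp_id _).trans (Category.id_comp _).symm)
          ((Category.comp_id _).trans (Sigma.ι_desc g i).symm) ≫ b.left = (a i).left := by
  let P := pullback T.hom (Sigma.desc g)
  let m : ∀ i, pullback T.hom (g i) ⟶ P := fun i => pullback.map T.hom (g i) T.hom (Sigma.desc g) (𝟙 T.left)
    (Sigma.ι X i) (𝟙 S) ((Category.comp_id _).trans (Category.id_comp _).symm)
    ((Category.comp_id _).trans (Sigma.ι_desc g i).symm)
  let 𝒰 : P.OpenCover := (sigmaOpenCover X).pullback₁ (pullback.snd T.hom (Sigma.desc g))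
  let ψ : ∀ i : ι, pullback (pullback.snd T.hom (Sigma.desc g)) (Sigma.ι X i) ⟶ pullback T.hom (g i) := fun i =>
    pullback.lift (pullback.fst _ _ ≫ pullback.fst _ _) (pullback.snd _ _) (by
      rw [Category.assoc, pullback.condition, ← Category.assoc, pullback.condition, Category.assoc, Sigma.ι_desc])
  have hψ : ∀ i, ψ i ≫ m i = pullback.fst _ _ := fun i => by
    apply pullback.hom_ext
    · simp only [ψ, m, pullback.map, Category.assoc]
      rw [pullback.lift_fst, pullback.lift_fst_assoc, Category.assoc, Category.comp_id]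
    · simp only [ψ, m, pullback.map, Category.assoc]
      rw [pullback.lift_snd, pullback.lift_snd_assoc, pullback.condition]
  have hgY : ∀ i, (a i).left ≫ gY = pullback.snd T.hom (g i) ≫ g i := fun i => Over.w (a i)
  have hoverlap : ∀ i j : ι, pullback.fst (pullback.fst (pullback.snd T.hom (Sigma.desc g)) (Sigma.ι X i))
      (pullback.fst (pullback.snd T.hom (Sigma.desc g)) (Sigma.ι X j)) ≫ ψ i ≫ (a i).left =
      pullback.snd _ _ ≫ ψ j ≫ (a j).left := by
    intro i j
    by_cases hij : i = j
    · subst hij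
      congr 1
      rw [← cancel_mono (pullback.fst (pullback.snd T.hom (Sigma.desc g)) (Sigma.ι X i))]
      exact pullback.condition
    · haveI : IsEmpty ↥(pullback (pullback.fst (pullback.snd T.hom (Sigma.desc g)) (Sigma.ι X i))
          (pullback.fst (pullback.snd T.hom (Sigma.desc g)) (Sigma.ι X j))) := by
        refine ⟨fun z => ?_⟩
        let l := pullback.fst (pullback.fst (pullback.snd T.hom (Sigma.desc g)) (Sigma.ι X i))
          (pullback.fst (pullback.snd T.hom (Sigma.desc g)) (Sigma.ι X j)) ≫ pullback.snd _ _ ≫ Sigma.ι X i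
        let r := pullback.snd (pullback.fst (pullback.snd T.hom (Sigma.desc g)) (Sigma.ι X i))
          (pullback.fst (pullback.snd T.hom (Sigma.desc g)) (Sigma.ι X j)) ≫ pullback.snd _ _ ≫ Sigma.ι X j
        have hlr : l = r := by
          simp only [l, r, ← pullback.condition, reassoc_of% (pullback.condition
            (f := pullback.fst (pullback.snd T.hom (Sigma.desc g)) (Sigma.ι X i))
            (g := pullback.fst (pullback.snd T.hom (Sigma.desc g)) (Sigma.ι X j)))]
        have h1 : l z ∈ (Sigma.ι X i).opensRange := ⟨_, rfl⟩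
        have h2 : l z ∈ (Sigma.ι X j).opensRange := hlr ▸ ⟨_, rfl⟩
        exact (disjoint_opensRange_sigmaι X i j hij).le_bot ⟨h1, h2⟩
      exact (isInitialOfIsEmpty).hom_ext _ _
  let bl : P ⟶ Y := 𝒰.glueMorphisms (fun i => ψ i ≫ (a i).left) hoverlap
  have hbl : bl ≫ gY = pullback.snd T.hom (Sigma.desc g) ≫ Sigma.desc g := by
    refine 𝒰.hom_ext _ _ fun i => ?_
    rw [Scheme.Cover.ι_glueMorphisms_assoc, Category.assoc, hgY]
    show ψ i ≫ pullback.snd T.hom (g i) ≫ g i = pullback.fst _ _ ≫ pullback.snd _ _ ≫ Sigma.desc g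
    rw [reassoc_of% pullback.condition (f := pullback.snd T.hom (Sigma.desc g)) (g := Sigma.ι X i), Sigma.ι_desc]
    simp only [ψ]
    rw [pullback.lift_snd_assoc]
  refine ⟨Over.homMk bl hbl, fun i => ?_, fun b' hb' => Over.OverMorphism.ext (𝒰.hom_ext _ _ fun i => ?_)⟩
  · show m i ≫ bl = _
    let σ : pullback T.hom (g i) ⟶ pullback (pullback.snd T.hom (Sigma.desc g)) (Sigma.ι X i) :=
      pullback.lift (m i) (pullback.snd _ _) (pullback.lift_snd _ _ _)
    have hσ : σ ≫ ψ i = 𝟙 _ := by
      apply pullback.hom_ext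
      · simp only [σ, ψ, Category.assoc, Category.id_comp]
        rw [pullback.lift_fst, pullback.lift_fst_assoc]
        simp only [m, pullback.map]
        rw [pullback.lift_fst, Category.comp_id]
      · simp only [σ, ψ, Category.assoc, Category.id_comp]
        rw [pullback.lift_snd, pullback.lift_snd]
    have hσm : σ ≫ 𝒰.f i = m i := pullback.lift_fst _ _ _
    have h1 : σ ≫ 𝒰.f i ≫ bl = σ ≫ ψ i ≫ (a i).left :=
      congrArg (σ ≫ ·) (Scheme.Cover.ι_glueMorphisms 𝒰 (fun i => ψ i ≫ (a i).left) hoverlap i)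
    rw [← hσm, Category.assoc]
    refine h1.trans ?_
    rw [reassoc_of% hσ]
  · show 𝒰.f i ≫ b'.left = 𝒰.f i ≫ bl
    rw [Scheme.Cover.ι_glueMorphisms, ← hb' i]
    exact ((Category.assoc _ _ _).symm.trans (congrArg (· ≫ b'.left) (hψ i))).symm

end Groth.Agent.S17084
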