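import Groth.Statements.S17085
import Groth.Agent.H17.RatCurve.Main
-- import your own Groth.Agent.* helpers here

set_option autoImplicit false
universe u
open CategoryTheory CategoryTheory.Limits AlgebraicGeometry
open RatCurve

namespace Groth.Agent.S17085

/-- Let k be an algebraically closed field and C ⊆ P^n_k a closed subscheme which is an integral scheme
of dimension one (a projective curve). Then C is rational — some nonempty open subscheme of C is
isomorphic over k to an open subscheme of the projective line P^1_k — if and only if C is the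
scheme-theoretic image of some k-morphism f : P^1_k → P^n_k, i.e. the ideal sheaf of C in P^n_k is
the kernel ideal sheaf of f. -/
theorem result
    {k : Type u} [Field k] [IsAlgClosed k] {n : ℕ} (C : Scheme.{u})
    (i : C ⟶ CohB1.ProjSpace n k) [IsClosedImmersion i] [IsIntegral C]
    (hdim : topologicalKrullDim C = 1) :
    (∃ (U : C.Opens) (V : (CohB1.ProjSpace 1 k).Opens) (e : (↑U : Scheme.{u}) ≅ ↑V),
        Nonempty U ∧
          e.hom ≫ V.ι ≫ CohB1.ProjSpace.toSpec 1 k = U.ι ≫ i ≫ CohB1.ProjSpace.toSpec n k) ↔
      ∃ f : CohB1.ProjSpace 1 k ⟶ CohB1.ProjSpace n k,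
        f ≫ CohB1.ProjSpace.toSpec n k = CohB1.ProjSpace.toSpec 1 k ∧ f.ker = i.ker := by
  obtain ⟨hint, -, -⟩ := H28Curve.projLine_facts k
  haveI := hint
  haveI : IsProper (CohB1.ProjSpace.toSpec n k) := inferInstance
  haveI : IsProper (i ≫ CohB1.ProjSpace.toSpec n k) := inferInstance
  constructor
  · rintro ⟨U, V, e, hU, he⟩
    haveI := hU
    obtain ⟨g, hg, hd⟩ := H17.RatCurve.exists_dominant_of_iso (i ≫ CohB1.ProjSpace.toSpec n k) e he
    haveI := hd
    haveI : IsSchemeTheoreticallyDominant g := .of_isDominant g
    refine ⟨g ≫ i, by rw [Category.assoc, hg], ?_⟩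
    rw [Scheme.Hom.ker_comp, g.ker_eq_bot, Scheme.IdealSheafData.map_bot]
  · rintro ⟨f, hf, hker⟩
    let g := IsClosedImmersion.lift i f hker.ge
    have hg : g ≫ i = f := IsClosedImmersion.lift_fac _ _ _
    haveI : CompactSpace ↥(CohB1.ProjSpace 1 k) := QuasiCompact.compactSpace_of_compactSpace (CohB1.ProjSpace.toSpec 1 k)
    haveI : QuasiCompact f := by
      haveI : QuasiCompact (f ≫ CohB1.ProjSpace.toSpec n k) := by rw [hf]; infer_instance
      exact QuasiCompact.of_comp f (CohB1.ProjSpace.toSpec n k)
    haveI : IsDominant g := ⟨by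
      have h1 : closure (Set.range f) = closure (Set.range i) := by
        rw [← Scheme.Hom.support_ker, ← Scheme.Hom.support_ker, hker]
      rw [DenseRange, dense_iff_closure_eq, i.isClosedEmbedding.isEmbedding.closure_eq_preimage_closure_image, ← Set.range_comp]
      have hc : (i ∘ g : _ → _) = (f : CohB1.ProjSpace 1 k → CohB1.ProjSpace n k) := by
        funext z; rw [Function.comp_apply, ← Scheme.Hom.comp_apply, hg]
      rw [hc, h1, i.isClosedEmbedding.isClosed_range.closure_eq, Set.preimage_range]⟩
    exact H17.RatCurve.exists_iso_of_dominant (i ≫ CohB1.ProjSpace.toSpec n k) hdim g (by rw [← Category.assoc, hg, hf])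

end Groth.Agent.S17085
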