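import Groth.Statements.S17086
import Groth.Agent.H28Curve.ProjLine
import Groth.Agent.H8Props.FlatDimOneBase
import Groth.Agent.H29Blow.OfStalk
-- import your own Groth.Agent.* helpers here

set_option autoImplicit false
universe u
open CategoryTheory CategoryTheory.Limits AlgebraicGeometry
open RatCurve

namespace Groth.Agent.S17086

/-- Let k be an algebraically closed field, X a closed subscheme of P^n_k, Z ⊆ X a closed subscheme and
σ : B → X a blow-up of X along Z (the inverse image ideal of Z is effective Cartier and σ is final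
with this property). Then every k-morphism f : P^1_k → X whose image is not contained in Z lifts
uniquely along σ: there is exactly one morphism g : P^1_k → B with g ≫ σ = f. Equivalently, over the
open locus of morphisms meeting X ∖ Z, the morphism Mor(P^1_k, B) → Mor(P^1_k, X) induced by σ is a
bijection on k-points. -/
theorem result
    {k : Type u} [Field k] [IsAlgClosed k] {n : ℕ} (X : Scheme.{u})
    (c : X ⟶ CohB1.ProjSpace n k) [IsClosedImmersion c]
    (Z : Scheme.{u}) (iZ : Z ⟶ X) [IsClosedImmersion iZ]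
    (B : Scheme.{u}) (σ : B ⟶ X) (hσ : BlowUp.IsBlowUp σ iZ.ker)
    (f : CohB1.ProjSpace 1 k ⟶ X)
    (hf : f ≫ c ≫ CohB1.ProjSpace.toSpec n k = CohB1.ProjSpace.toSpec 1 k)
    (hfZ : ¬ Set.range f ⊆ Set.range iZ) :
    ∃! g : CohB1.ProjSpace 1 k ⟶ B, g ≫ σ = f := by
  obtain ⟨hint, -, hdim⟩ := H28Curve.projLine_facts k
  haveI := hint
  haveI : Smooth (CohB1.ProjSpace.toSpec 1 k) := H26Smooth.smooth_toSpec 1 k
  haveI : IsLocallyNoetherian (CohB1.ProjSpace 1 k) := LocallyOfFiniteType.isLocallyNoetherian (CohB1.ProjSpace.toSpec 1 k)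
  refine hσ.2 _ f (H29Blow.isEffCartierIdeal_of_stalk _ fun y V hy => ?_)
  haveI := H28Neron.isRegularLocalRing_stalk_of_smooth (CohB1.ProjSpace.toSpec 1 k) y
  haveI : IsPrincipalIdealRing ((CohB1.ProjSpace 1 k).presheaf.stalk y) :=
    H8Props.FlatDimOneBase.isPrincipalIdealRing_of_dim_le_one _
      ((H8Props.FlatDimOneBase.ringKrullDim_stalk_le _ y).trans hdim.le)
  let J := (iZ.ker.comap f).ideal V
  obtain ⟨g, hg⟩ := IsPrincipalIdealRing.principal (J.map ((CohB1.ProjSpace 1 k).presheaf.germ V.1 y hy).hom)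
  refine ⟨g, mem_nonZeroDivisors_of_ne_zero fun h0 => ?_, hg⟩
  have hη : f (genericPoint ↥(CohB1.ProjSpace 1 k)) ∉ Set.range iZ := fun hmem => hfZ <| by
    rintro _ ⟨z, rfl⟩
    have hcl : IsClosed (Set.range iZ) := iZ.isClosedEmbedding.isClosed_range
    exact (hcl.preimage f.continuous).closure_subset_iff.2 (Set.singleton_subset_iff.2 hmem)
      ((genericPoint_specializes z).mem_closure)
  have hηs : genericPoint ↥(CohB1.ProjSpace 1 k) ∉ (iZ.ker.comap f).support := by
    intro hs
    rw [Scheme.IdealSheafData.support_comap] at hs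
    refine hη ?_
    have hs' : f (genericPoint ↥(CohB1.ProjSpace 1 k)) ∈ (iZ.ker.support : Set X) := hs
    rw [Scheme.Hom.support_ker] at hs'
    exact iZ.isClosedEmbedding.isClosed_range.closure_subset hs'
  have hηV : genericPoint ↥(CohB1.ProjSpace 1 k) ∈ V.1 := (genericPoint_specializes y).mem_open V.1.2 hy
  have htop := H29Blow.map_germ_eq_top_of_notMem_support (iZ.ker.comap f) _ V hηV hηs
  haveI : Nonempty (V.1 : (CohB1.ProjSpace 1 k).Opens) := ⟨⟨y, hy⟩⟩
  have hbot : J = ⊥ := le_bot_iff.1 fun a ha => by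
    have h1 : ((CohB1.ProjSpace 1 k).presheaf.germ V.1 y hy).hom a ∈ Submodule.span _ {g} := hg ▸ Ideal.mem_map_of_mem _ ha
    rw [h0, Submodule.span_zero_singleton, Submodule.mem_bot] at h1
    exact germ_injective_of_isIntegral (CohB1.ProjSpace 1 k) y hy (h1.trans (map_zero _).symm)
  have hbot' : (⊤ : Ideal ((CohB1.ProjSpace 1 k).presheaf.stalk (genericPoint ↥(CohB1.ProjSpace 1 k)))) = ⊥ := by
    rw [← htop, show (iZ.ker.comap f).ideal V = ⊥ from hbot, Ideal.map_bot]
  exact top_ne_bot hbot'

end Groth.Agent.S17086
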