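import Groth.Statements.S17087
import Groth.Agent.H17.QuotSch.GraphLocus
-- import your own Groth.Agent.* helpers here

set_option autoImplicit false
universe u
open CategoryTheory CategoryTheory.Limits AlgebraicGeometry
open MorSch

namespace Groth.Agent.S17087

/-- Let S be a locally Noetherian scheme, gX : X → S proper and flat, gY : Y → S separated, and (H, Z) a
pair representing the Hilbert functor of X ×_S Y over S on locally Noetherian S-schemes (H locally
Noetherian; Z ⊆ (X ×_S Y) ×_S H closed, proper and flat over H; universal). For an S-morphism a : T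
×_S X → Y write Γ_a : T ×_S X → (X ×_S Y) ×_S T for its graph, a closed immersion. Then there is an
open subset H₀ of H such that, for every locally Noetherian S-scheme T: every S-morphism a : T ×_S X
→ Y has exactly one S-morphism g : T → H with image in H₀ along which Z pulls back to the closed
subscheme defined by Γ_a; and every S-morphism g : T → H with image in H₀ pulls Z back to the graph
of exactly one such a. Thus the functor Mor_S(X, Y) on locally Noetherian S-schemes is represented
by the open subscheme H₀ of the Hilbert scheme of X ×_S Y, the universal family being a graph.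
(Published for X and Y projective over S, with X flat; the Hilbert scheme is taken as given here.
The published statement also asserts that each irreducible component of the representing scheme is
of finite type over S; that clause is not part of this row.) -/
theorem result
    {X Y S : Scheme.{u}} [IsLocallyNoetherian S] (gX : X ⟶ S) [IsProper gX] [Flat gX]
    (gY : Y ⟶ S) [IsSeparated gY]
    (H : Over S) (Z : FGA.HilbSet (pullback.fst gX gY ≫ gX) H)
    (hH : FGA.HilbRepresentedBy (pullback.fst gX gY ≫ gX) H Z) :
    ∃ H₀ : H.left.Opens, ∀ (T : Over S) [IsLocallyNoetherian T.left],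
      (∀ a : (Flatn.morS gX gY).obj (Opposite.op T),
        ∃! g : T ⟶ H, Set.range g.left ⊆ (H₀ : Set H.left) ∧
          FGA.hilbPull (pullback.fst gX gY ≫ gX) g Z.1 =
            (pullback.lift
              (pullback.lift (pullback.snd T.hom gX) a.left (Over.w a).symm)
              (pullback.fst T.hom gX)
              ((pullback.lift_fst_assoc _ _ _ _).trans pullback.condition.symm)
              : pullback T.hom gX ⟶ PicF.XT (pullback.fst gX gY ≫ gX) T).ker) ∧
      (∀ g : T ⟶ H, Set.range g.left ⊆ (H₀ : Set H.left) →
        ∃! a : (Flatn.morS gX gY).obj (Opposite.op T),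
          FGA.hilbPull (pullback.fst gX gY ≫ gX) g Z.1 =
            (pullback.lift
              (pullback.lift (pullback.snd T.hom gX) a.left (Over.w a).symm)
              (pullback.fst T.hom gX)
              ((pullback.lift_fst_assoc _ _ _ _).trans pullback.condition.symm)
              : pullback T.hom gX ⟶ PicF.XT (pullback.fst gX gY ≫ gX) T).ker) := by
  exact by
    haveI := hH.1
    obtain ⟨U, hU⟩ := Groth.Agent.H17.QuotSch.GraphLocus.exists_graph_locus gX gY H Z
    refine ⟨U, fun T _ => ⟨fun a => ?_, fun g hg => ?_⟩⟩
    · have ha : a.left ≫ gY = pullback.snd T.hom gX ≫ gX := Over.w a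
      have hi := (Groth.Agent.H17.QuotSch.GraphLocus.exists_graph gX gY T _).2 ⟨a.left, ha, rfl⟩
      obtain ⟨hp, hf⟩ : IsProper ((Groth.Agent.H17.QuotSch.GraphLocus.graph gX gY T a.left ha).ker.subschemeι ≫
          PicF.XTproj (pullback.fst gX gY ≫ gX) T) ∧
          Flat ((Groth.Agent.H17.QuotSch.GraphLocus.graph gX gY T a.left ha).ker.subschemeι ≫
            PicF.XTproj (pullback.fst gX gY ≫ gX) T) := by
        rw [← Groth.Agent.H17.QuotSch.GraphLocus.prX_fst gX gY T, ← Category.assoc]
        haveI := hi
        exact ⟨inferInstance, inferInstance⟩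
      obtain ⟨g, hg, hgu⟩ := hH.2 T ⟨_, hp, hf⟩
      refine ⟨g, ⟨(hU T g).2 ?_, hg⟩, fun g' hg' => hgu g' hg'.2⟩
      rw [hg]
      exact hi
    · obtain ⟨a, ha, e⟩ := (Groth.Agent.H17.QuotSch.GraphLocus.exists_graph gX gY T _).1 ((hU T g).1 hg)
      refine ⟨Over.homMk a ha, e, fun b hb => Over.OverMorphism.ext ?_⟩
      exact Groth.Agent.H17.QuotSch.GraphLocus.graph_ker_injective gX gY T b.left a (Over.w b) ha (hb.symm.trans e)

end Groth.Agent.S17087
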