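import Groth.Statements.S17088
import Groth.Agent.H17.Imports
import Mathlib.AlgebraicGeometry.Morphisms.Proper
import Mathlib.AlgebraicGeometry.Morphisms.ClosedImmersion
import Mathlib.AlgebraicGeometry.ZariskisMainTheorem

set_option autoImplicit false
universe u
open CategoryTheory CategoryTheory.Limits AlgebraicGeometry
open MorSch

namespace Groth.Agent.S17088

open CategoryTheory CategoryTheory.Limits AlgebraicGeometry

/-- Let f : X → S be a separated morphism, ι : W → X an immersion and T an S-scheme. For every closed
subscheme V of W ×_S T which is proper and flat over T — a T-point of the Hilbert functor of W over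
S — the composite V → W ×_S T → X ×_S T is a closed immersion, and the map sending V to the ideal
sheaf of this composite, from T-points of the Hilbert functor of W to ideal sheaves on X ×_S T, is
injective: an immersion induces a monomorphism of Hilbert functors. -/
theorem result
    {W X S : Scheme.{u}} (f : X ⟶ S) [IsSeparated f] (ι : W ⟶ X) [IsImmersion ι]
    (T : Over S) :
    (∀ V : FGA.HilbSet (ι ≫ f) T,
      IsClosedImmersion (V.1.subschemeι ≫ pullback.map (ι ≫ f) T.hom f T.hom ι (𝟙 T.left) (𝟙 S)
          (Category.comp_id _) ((Category.comp_id _).trans (Category.id_comp _).symm))) ∧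
    Function.Injective (fun V : FGA.HilbSet (ι ≫ f) T =>
      (V.1.subschemeι ≫ pullback.map (ι ≫ f) T.hom f T.hom ι (𝟙 T.left) (𝟙 S)
          (Category.comp_id _) ((Category.comp_id _).trans (Category.id_comp _).symm)).ker) := by
  set m := pullback.map (ι ≫ f) T.hom f T.hom ι (𝟙 T.left) (𝟙 S)
    (Category.comp_id _) ((Category.comp_id _).trans (Category.id_comp _).symm) with hm
  have hm1 : m ≫ pullback.fst f T.hom = pullback.fst _ _ ≫ ι := pullback.lift_fst _ _ _
  have hm2 : m ≫ pullback.snd f T.hom = pullback.snd _ _ := (pullback.lift_snd _ _ _).trans (Category.comp_id _)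
  haveI : Mono m := ⟨fun a b h => by
    apply pullback.hom_ext
    · rw [← cancel_mono ι, Category.assoc, Category.assoc, ← hm1, ← Category.assoc, h, Category.assoc]
    · rw [← hm2, ← Category.assoc, h, Category.assoc]⟩
  have hcl : ∀ V : FGA.HilbSet (ι ≫ f) T, IsClosedImmersion (V.1.subschemeι ≫ m) := fun V => by
    haveI h1 : IsProper ((V.1.subschemeι ≫ m) ≫ pullback.snd f T.hom) := by
      rw [Category.assoc, hm2]; exact V.2.1
    haveI : IsProper (V.1.subschemeι ≫ m) := IsProper.of_comp _ (pullback.snd f T.hom)
    exact (IsClosedImmersion.iff_isProper_and_mono _).2 ⟨inferInstance, mono_comp V.1.subschemeι m⟩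
  refine ⟨hcl, fun V V' h => Subtype.ext (le_antisymm ?_ ?_)⟩
  · haveI := hcl V
    let σ := IsClosedImmersion.lift (V.1.subschemeι ≫ m) (V'.1.subschemeι ≫ m) h.le
    have hσ : σ ≫ V.1.subschemeι = V'.1.subschemeι := (cancel_mono m).1 (by
      rw [Category.assoc]; exact IsClosedImmersion.lift_fac _ _ _)
    have := Scheme.Hom.le_ker_comp σ V.1.subschemeι
    rwa [hσ, Scheme.IdealSheafData.ker_subschemeι, Scheme.IdealSheafData.ker_subschemeι] at this
  · haveI := hcl V'
    let σ := IsClosedImmersion.lift (V'.1.subschemeι ≫ m) (V.1.subschemeι ≫ m) h.ge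
    have hσ : σ ≫ V'.1.subschemeι = V.1.subschemeι := (cancel_mono m).1 (by
      rw [Category.assoc]; exact IsClosedImmersion.lift_fac _ _ _)
    have := Scheme.Hom.le_ker_comp σ V'.1.subschemeι
    rwa [hσ, Scheme.IdealSheafData.ker_subschemeι, Scheme.IdealSheafData.ker_subschemeι] at this

end Groth.Agent.S17088
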