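import Groth.Statements.S1709
import Mathlib
import Groth.Agent.H29Blow.QCohExt
import Groth.Agent.H29Blow.AssPoints
import Groth.Agent.H10Coh.BaseChange
import Groth.Agent.S1708

set_option autoImplicit false
universe u
open CategoryTheory CategoryTheory.Limits AlgebraicGeometry TopologicalSpace
open SDiv

namespace Groth.Agent.S1709

/-- Over an affine open with Noetherian sections, a weakly associated point carries a section whose
annihilator is squeezed between the prime and a power of it. -/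
lemma exists_section_ann {X : Scheme.{u}} (F : X.Modules) (hF : Coh.IsQCoh F) {V : X.Opens}
    (hV : IsAffineOpen V) [IsNoetherianRing Γ(X, V)] (x : V) (hx : Curv2.IsWeakAssPoint F x.1) :
    ∃ (t : Γ(F, V)) (n : ℕ), (hV.primeIdealOf x).asIdeal ^ n ≤ H29Blow.secAnn F t ∧
      H29Blow.secAnn F t ≤ (hV.primeIdealOf x).asIdeal := by
  classical
  obtain ⟨m, hm⟩ := hx
  obtain ⟨t, u, ht⟩ := H29Blow.exists_germ_eq_smul F hF hV x m
  set q := (hV.primeIdealOf x).asIdeal
  have hne : F.presheaf.germ V x.1 x.2 t ≠ 0 := by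
    intro h0
    rw [ht, u.isUnit.smul_eq_zero] at h0
    have h1 : (1 : X.presheaf.stalk x.1) ∈ IsLocalRing.maximalIdeal (X.presheaf.stalk x.1) := by
      rw [← hm]
      exact ⟨1, by rw [LinearMap.mem_ker, LinearMap.toSpanSingleton_apply, h0, smul_zero]⟩
    exact (Ideal.ne_top_iff_one _).mp (IsLocalRing.maximalIdeal.isMaximal _).ne_top h1
  let J' : Ideal Γ(X, V) :=
    { carrier := {b | ∃ c, c ∉ q ∧ (c * b) • t = 0}
      zero_mem' := ⟨1, fun h => (hV.primeIdealOf x).isPrime.ne_top ((Ideal.eq_top_iff_one _).mpr h), by simp⟩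
      add_mem' := by
        rintro a b ⟨c, hc, hca⟩ ⟨d, hd, hdb⟩
        refine ⟨c * d, fun h => ((hV.primeIdealOf x).isPrime.mem_or_mem h).elim hc hd, ?_⟩
        rw [mul_add, add_smul, show c * d * a = d * (c * a) by ring, show c * d * b = c * (d * b) by ring,
          mul_smul d, mul_smul c (d * b), hca, hdb, smul_zero, smul_zero, add_zero]
      smul_mem' := by
        rintro r b ⟨c, hc, hcb⟩
        exact ⟨c, hc, by rw [smul_eq_mul, show c * (r * b) = r * (c * b) by ring, mul_smul, hcb, smul_zero]⟩ }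
  have hrad : q ≤ J'.radical := by
    intro a ha
    have hmax : X.presheaf.germ V x.1 x.2 a ∈ IsLocalRing.maximalIdeal (X.presheaf.stalk x.1) :=
      (IsLocalRing.mem_maximalIdeal _).mpr ((H29Blow.mem_primeIdealOf_iff hV x a).mp ha)
    rw [← hm] at hmax
    obtain ⟨n, hn⟩ := hmax
    rw [LinearMap.mem_ker, LinearMap.toSpanSingleton_apply, ← map_pow] at hn
    refine ⟨n, ?_⟩
    have h0 : F.presheaf.germ V x.1 x.2 (a ^ n • t) = 0 := by
      refine (PresheafOfModules.germ_smul (R := X.presheaf)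
        (show PresheafOfModules (X.presheaf ⋙ forget₂ CommRingCat RingCat) from F.val) x.1 V x.2 (a ^ n) t).trans ?_
      refine (congrArg (_ • ·) ht).trans ?_
      change X.presheaf.germ V x.1 x.2 (a ^ n) • ((u : X.presheaf.stalk x.1) • (m : F.presheaf.stalk x.1)) =
        (0 : F.presheaf.stalk x.1)
      rw [smul_comm, hn, smul_zero]
    obtain ⟨c, hc, hcs⟩ := H29Blow.exists_smul_eq_zero_of_germ F hF hV x _ h0
    exact ⟨c, hc, by rwa [mul_smul]⟩
  obtain ⟨n, hn⟩ := Ideal.exists_pow_le_of_le_radical_of_fg hrad (IsNoetherian.noetherian _)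
  obtain ⟨S, hS⟩ := (IsNoetherian.noetherian (q ^ n) : (q ^ n).FG)
  have hex : ∀ b ∈ S, ∃ c, c ∉ q ∧ (c * b) • t = 0 := fun b hb =>
    hn (hS ▸ Submodule.subset_span hb)
  choose c hc hcb using hex
  let C := ∏ b ∈ S.attach, c b.1 b.2
  have hC : C ∉ q := fun h => by
    obtain ⟨b, -, hb⟩ := (hV.primeIdealOf x).isPrime.prod_mem_iff.mp h
    exact hc _ b.2 hb
  refine ⟨C • t, n, ?_, ?_⟩
  · rw [← hS, Submodule.span_le]
    intro b hb
    rw [SetLike.mem_coe, H29Blow.mem_secAnn, smul_smul]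
    obtain ⟨r, hr⟩ := Finset.dvd_prod_of_mem (fun b : S => c b.1 b.2) (Finset.mem_attach S ⟨b, hb⟩)
    rw [show C = c b hb * r from hr, show b * (c b hb * r) = r * (c b hb * b) by ring, mul_smul, hcb,
      smul_zero]
  · intro a ha
    rw [H29Blow.mem_secAnn, smul_smul] at ha
    have h1 := (H29Blow.germ_ne_zero_iff F hF hV x t).mp hne ((H29Blow.mem_secAnn F).mpr ha)
    exact ((hV.primeIdealOf x).isPrime.mem_or_mem h1).resolve_right hC

/-- The inclusion S1708, in the form needed here. -/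
lemma isWeakAssPoint_map {X S : Scheme.{u}} (f : X ⟶ S) [IsAffineHom f] [IsLocallyNoetherian X]
    (F : X.Modules) (hF : Coh.IsQCoh F) (x : X) (hx : Curv2.IsWeakAssPoint F x) :
    Curv2.IsWeakAssPoint ((Scheme.Modules.pushforward f).obj F) (f x) := by
  obtain ⟨V, hV, hxV, -⟩ := exists_isAffineOpen_mem_and_subset (U := (⊤ : S.Opens)) (x := f x) trivial
  have hpf : IsAffineOpen (f ⁻¹ᵁ V) := hV.preimage f
  haveI : IsNoetherianRing Γ(X, f ⁻¹ᵁ V) := IsLocallyNoetherian.component_noetherian ⟨_, hpf⟩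
  obtain ⟨t, n, h1, h2⟩ := exists_section_ann F hF hpf ⟨x, hxV⟩ hx
  let P := (Scheme.Modules.pushforward f).obj F
  haveI : F.IsQuasicoherent := hF
  have hqc : Coh.IsQCoh P := H10Coh.isQuasicoherent_pushforward_of_isAffineHom f F
  let t' : Γ(P, V) := t
  have hann : ∀ a : Γ(S, V), a ∈ H29Blow.secAnn P t' ↔ (f.app V).hom a ∈ H29Blow.secAnn F t := fun a =>
    (H29Blow.mem_secAnn P (s := t') (a := a)).trans (H29Blow.mem_secAnn F (s := t) (a := (f.app V).hom a)).symm
  have hp : ∀ a : Γ(S, V), a ∈ (hV.primeIdealOf ⟨f x, hxV⟩).asIdeal ↔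
      (f.app V).hom a ∈ (hpf.primeIdealOf ⟨x, hxV⟩).asIdeal := fun a => by
    rw [H29Blow.mem_primeIdealOf_iff, H29Blow.mem_primeIdealOf_iff, not_iff_not,
      ← isUnit_map_iff (f.stalkMap x).hom, Scheme.Hom.germ_stalkMap_apply]
  refine H29Blow.isWeakAssPoint_of_minimalPrimes P hqc hV ⟨f x, hxV⟩ t'
    ⟨⟨(hV.primeIdealOf _).isPrime, fun a ha => (hp a).mpr (h2 ((hann a).mp ha))⟩, fun Q hQ _ a ha => ?_⟩
  refine hQ.1.mem_of_pow_mem n (hQ.2 ((hann _).mpr (h1 ?_)))
  rw [map_pow]
  exact Ideal.pow_mem_pow ((hp a).mp ha) n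



/-- Let f : X ⟶ S be an affine morphism with X locally Noetherian and F a quasi-coherent module on X.
Then the following subsets of S coincide: the image of the associated points of F, the associated
points of f_* F, the weakly associated points of f_* F, and the image of the weakly associated
points of F. -/
theorem result {X S : Scheme.{u}} (f : X ⟶ S) [IsAffineHom f] [IsLocallyNoetherian X] (F : X.Modules)
    (hF : Coh.IsQCoh F) :
    (fun x => f x) '' {x : ↥X | Curv2.IsAssPoint F x} = {s : ↥S | Curv2.IsAssPoint ((Scheme.Modules.pushforward f).obj F) s} ∧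
      {s : ↥S | Curv2.IsAssPoint ((Scheme.Modules.pushforward f).obj F) s} =
        {s : ↥S | Curv2.IsWeakAssPoint ((Scheme.Modules.pushforward f).obj F) s} ∧
      {s : ↥S | Curv2.IsWeakAssPoint ((Scheme.Modules.pushforward f).obj F) s} =
        (fun x => f x) '' {x : ↥X | Curv2.IsWeakAssPoint F x} := by
  have e2 : {s : ↥S | Curv2.IsAssPoint ((Scheme.Modules.pushforward f).obj F) s} =
      {s : ↥S | Curv2.IsWeakAssPoint ((Scheme.Modules.pushforward f).obj F) s} :=
    Set.ext fun s => H29Blow.isAssPoint_iff_isWeakAssPoint _ s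
  have e1 : {x : ↥X | Curv2.IsAssPoint F x} = {x : ↥X | Curv2.IsWeakAssPoint F x} :=
    Set.ext fun x => H29Blow.isAssPoint_iff_isWeakAssPoint _ x
  have e3 : {s : ↥S | Curv2.IsWeakAssPoint ((Scheme.Modules.pushforward f).obj F) s} =
      (fun x => f x) '' {x : ↥X | Curv2.IsWeakAssPoint F x} := by
    refine Set.Subset.antisymm (fun s hs => ?_) ?_
    · obtain ⟨x, hxs, hx⟩ := Groth.Agent.S1708.result f F hF s hs
      exact ⟨x, hx, hxs⟩
    · rintro - ⟨x, hx, rfl⟩
      exact isWeakAssPoint_map f F hF x hx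
  exact ⟨by rw [e1, e2, e3], e2, e3⟩

end Groth.Agent.S1709
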