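import Groth.Statements.S17091
import Groth.Agent.H19Unip.Radical

set_option autoImplicit false
universe u
open CategoryTheory MonoidalCategory CartesianMonoidalCategory MonObj GrpObj AlgebraicGeometry
open AGF

namespace Groth.Agent.S17091

set_option linter.style.haveILetI false
set_option backward.isDefEq.respectTransparency false
set_option synthInstance.maxHeartbeats 400000
set_option maxHeartbeats 2000000
open CategoryTheory.Limits Groth.Agent.H27Witt H20Mu H20Conj H20Borel H21Chev H19Unip


/-- Let k be an algebraically closed field, G an affine, smooth, connected k-group scheme, u : U ⟶ G its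
unipotent radical (the largest normal closed subgroup scheme of G, smooth and quasi-compact over k,
whose geometric fibre is connected and contains no non-trivial subtorus), B a Borel subgroup of G
and v : V ⟶ B the unipotent radical of B. Then U is contained in V: u factors through v. -/
theorem result (k : Type u) [Field k] [IsAlgClosed k]
    (G : Over (Spec (CommRingCat.of k))) [GrpObj G] [IsAffine G.left] [Smooth G.hom] [ConnectedSpace ↥G.left]
    (U : Over (Spec (CommRingCat.of k))) [GrpObj U] (u : U ⟶ G) (hU : Par.IsUnipotentRadical u)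
    (B : Over (Spec (CommRingCat.of k))) [GrpObj B] (iB : B ⟶ G) (hB : Red.IsBorelOver k iB)
    (V : Over (Spec (CommRingCat.of k))) [GrpObj V] (v : V ⟶ B) (hV : Par.IsUnipotentRadical v) :
    ∃ f : U ⟶ V, f ≫ v ≫ iB = u := by
  obtain ⟨hUc, hUns⟩ := H21Chev.props_of_geomFibre hU.2.2.2.2.2.1
  haveI := hU.1; haveI := hU.2.1; haveI := hU.2.2.2.1; haveI := hUc
  haveI := hB.1; haveI := hB.2.1; haveI := hB.2.2.1
  haveI : IsAffine U.left := isAffine_of_isAffineHom u.left
  haveI : LocallyOfFiniteType U.hom := inferInstance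
  haveI : AlgebraicGeometry.IsReduced U.left := Groth.Agent.H13AlgSp.isReduced_of_smooth_mor U.hom
  haveI : IsAffine B.left := isAffine_of_isAffineHom iB.left
  have hn : ∀ (g : 𝟙_ (Over (Sk k)) ⟶ G) (w : 𝟙_ (Over (Sk k)) ⟶ U),
      ∃ w' : 𝟙_ (Over (Sk k)) ⟶ U, w' ≫ u = g * (w ≫ u) * g⁻¹ := fun g w => by
    obtain ⟨w', hw'⟩ := hU.2.2.1 _ g w
    exact ⟨w', hw'.symm⟩
  obtain ⟨f, hf⟩ := exists_factor_pts iB u fun w =>
    H19Unip.mem_borel_of_normal hUns u hn (H19Unip.clo_range_le' u) iB hB w
  haveI : Mono iB := Over.mono_of_mono_left _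
  haveI : IsMonHom f := by
    haveI : IsMonHom (f ≫ iB) := by rw [hf]; infer_instance
    exact Groth.Agent.H21Diag.isMonHom_of_comp_mono f iB
  haveI : IsClosedImmersion f.left := by
    haveI : IsClosedImmersion (f.left ≫ iB.left) := by rw [← Over.comp_left, hf]; infer_instance
    exact IsClosedImmersion.of_comp f.left iB.left
  have hfn : AlgGrp.IsNormalHom f := fun T g n => by
    obtain ⟨n', hn'⟩ := hU.2.2.1 T (g ≫ iB) n
    refine ⟨n', (cancel_mono iB).mp ?_⟩
    rw [MonObj.mul_comp, MonObj.mul_comp, GrpObj.inv_comp, Category.assoc, Category.assoc, hf, hn']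
  obtain ⟨f', hf'⟩ := hV.2.2.2.2.2.2 U f inferInstance hfn inferInstance hU.2.2.2.2.1 hU.2.2.2.2.2.1
  exact ⟨f', by rw [← Category.assoc, hf', hf]⟩

end Groth.Agent.S17091
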