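import Groth.Statements.S17092
import Groth.Agent.H21Diag.Chev.Radical

set_option autoImplicit false
universe u
open CategoryTheory MonoidalCategory CartesianMonoidalCategory MonObj GrpObj AlgebraicGeometry
open AGF

set_option linter.style.haveILetI false
set_option backward.isDefEq.respectTransparency false
set_option synthInstance.maxHeartbeats 400000
set_option maxHeartbeats 1000000

namespace Groth.Agent.S17092

/-- Let k be an algebraically closed field, G an affine, smooth, connected k-group scheme, u : U ⟶ G its
unipotent radical (the largest normal closed subgroup scheme, smooth and quasi-compact over k, whose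
geometric fibre is connected and contains no non-trivial subtorus), T a maximal torus of G and j : H
⟶ G a closed subgroup scheme which is smooth and connected. If H lies in the unipotent radical of
every Borel subgroup of G containing T, then H lies in U: j factors through u. (Together with the
inclusion of U in the unipotent radical of every Borel subgroup of G, this says that the identity
component of the reduced intersection of the unipotent radicals of the Borel subgroups containing T
is U; it is trivial when G is reductive.) -/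
theorem result (k : Type u) [Field k] [IsAlgClosed k]
    (G : Over (Spec (CommRingCat.of k))) [GrpObj G] [IsAffine G.left] [Smooth G.hom] [ConnectedSpace ↥G.left]
    (U : Over (Spec (CommRingCat.of k))) [GrpObj U] (u : U ⟶ G) (hU : Par.IsUnipotentRadical u)
    (T : Over (Spec (CommRingCat.of k))) [GrpObj T] (iT : T ⟶ G) (hT : AGF.IsMaxTorus iT)
    (H : Over (Spec (CommRingCat.of k))) [GrpObj H] (j : H ⟶ G) [IsMonHom j] (hj : IsClosedImmersion j.left)
    [Smooth H.hom] [ConnectedSpace ↥H.left]
    (hH : ∀ (B : Over (Spec (CommRingCat.of k))) [GrpObj B] (iB : B ⟶ G) (t : T ⟶ B), Red.IsBorelOver k iB → t ≫ iB = iT →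
      ∀ (V : Over (Spec (CommRingCat.of k))) [GrpObj V] (v : V ⟶ B), Par.IsUnipotentRadical v → ∃ f : H ⟶ V, f ≫ v ≫ iB = j) :
    ∃ g : H ⟶ U, g ≫ u = j := by
  obtain ⟨hci, hjm⟩ := And.intro hj ‹IsMonHom j›
  haveI := hci
  haveI : IsAffine H.left := isAffine_of_isAffineHom j.left
  -- the radical of some Borel subgroup through `T`
  haveI := hT.1; haveI := hT.2.1
  obtain ⟨B, gB, iB, hB, t, -, ht, -⟩ := H20Borel.exists_borel_torus_pt iT hT.2.2.1 1
    (fun X s => by rw [MonObj.comp_one, _root_.one_mul, _root_.mul_one])
  letI := gB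
  have hrad : ∀ (B : Over (Spec (CommRingCat.of k))) [GrpObj B] (iB : B ⟶ G) (t : T ⟶ B), Red.IsBorelOver k iB → t ≫ iB = iT →
      ∃ (V : Over (Spec (CommRingCat.of k))) (_ : GrpObj V) (v : V ⟶ B) (f : H ⟶ V), Par.IsUnipotentRadical v ∧ f ≫ v ≫ iB = j := by
    intro B _ iB t hB ht
    haveI := hB.2.1; haveI := hB.2.2.1; haveI := hB.2.2.2.1
    haveI : IsAffine B.left := isAffine_of_isAffineHom iB.left
    obtain ⟨n, hn⟩ := hB.2.2.2.2.1
    obtain ⟨V, gV, v, hv⟩ := H21Chev.exists_unipotentRadical (G := B) ⟨n, hn _⟩
    obtain ⟨f, hf⟩ := @hH B _ iB t hB ht V gV v hv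
    exact ⟨V, gV, v, f, hv, hf⟩
  obtain ⟨V, gV, v, f, hv, hf⟩ := hrad B iB t hB ht
  letI := gV
  haveI := hv.1; haveI := hv.2.1; haveI := hB.1; haveI := hB.2.1
  have hns : Red.HasNoSubtorus k H := by
    intro S gS i hi hm hS
    haveI : Mono (v ≫ iB) := by
      haveI : Mono v := Over.mono_of_mono_left _
      haveI : Mono iB := Over.mono_of_mono_left _
      infer_instance
    haveI : Mono j := Over.mono_of_mono_left _
    haveI : IsMonHom f := by
      haveI : IsMonHom (f ≫ v ≫ iB) := by rw [hf]; infer_instance
      exact Groth.Agent.H21Diag.isMonHom_of_comp_mono f (v ≫ iB)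
    haveI : Mono f := by
      haveI : Mono (f ≫ v ≫ iB) := by rw [hf]; infer_instance
      exact mono_of_mono f (v ≫ iB)
    exact (Groth.Agent.H20Torus.hasNoSubtorus_of_isUnipotentRadical hv).2 S (i ≫ f) hS
  exact H21Chev.exists_factor_radical u hU iT hT hns j fun B _ iB t hB ht h => by
    obtain ⟨V, _, v, f, -, hf⟩ := hrad B iB t hB ht
    exact ⟨h ≫ f ≫ v, by rw [Category.assoc, Category.assoc, hf]⟩

end Groth.Agent.S17092
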