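import Groth.Statements.S17093
import Groth.Agent.H19Unip.Radical

set_option autoImplicit false
universe u
open CategoryTheory MonoidalCategory CartesianMonoidalCategory MonObj GrpObj AlgebraicGeometry
open AGF

namespace Groth.Agent.S17093

set_option linter.style.haveILetI false
set_option backward.isDefEq.respectTransparency false
set_option synthInstance.maxHeartbeats 400000
set_option maxHeartbeats 4000000
open CategoryTheory.Limits Groth.Agent.H27Witt H20Mu H20Conj H20Borel H21Chev H19Unip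


/-- Let k be an algebraically closed field, G and G' affine, smooth, connected k-group schemes, π : G ⟶
G' a surjective homomorphism, u : U ⟶ G the unipotent radical of G and u' : U' ⟶ G' that of G'
(largest normal closed subgroup schemes, smooth and quasi-compact over k, with connected geometric
fibre containing no non-trivial subtorus). Then π carries U onto U': u ≫ π factors through u' by a
morphism U ⟶ U' which is surjective. -/
theorem result (k : Type u) [Field k] [IsAlgClosed k]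
    (G G' : Over (Spec (CommRingCat.of k))) [GrpObj G] [GrpObj G'] [IsAffine G.left] [Smooth G.hom] [ConnectedSpace ↥G.left]
    [IsAffine G'.left] [Smooth G'.hom] [ConnectedSpace ↥G'.left]
    (π : G ⟶ G') [IsMonHom π] (hπ : Surjective π.left)
    (U : Over (Spec (CommRingCat.of k))) [GrpObj U] (u : U ⟶ G) (hU : Par.IsUnipotentRadical u)
    (U' : Over (Spec (CommRingCat.of k))) [GrpObj U'] (u' : U' ⟶ G') (hU' : Par.IsUnipotentRadical u') :
    ∃ f : U ⟶ U', f ≫ u' = u ≫ π ∧ Surjective f.left := by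
  classical
  haveI := hπ
  obtain ⟨hUc, hUns⟩ := H21Chev.props_of_geomFibre hU.2.2.2.2.2.1
  obtain ⟨hU'c, hU'ns⟩ := H21Chev.props_of_geomFibre hU'.2.2.2.2.2.1
  haveI := hU.1; haveI := hU.2.1; haveI := hU.2.2.2.1; haveI := hUc
  haveI := hU'.1; haveI := hU'.2.1; haveI := hU'.2.2.2.1; haveI := hU'c
  haveI : IsAffine U.left := isAffine_of_isAffineHom u.left
  haveI : IsAffine U'.left := isAffine_of_isAffineHom u'.left
  haveI : LocallyOfFiniteType U.hom := inferInstance
  haveI : LocallyOfFiniteType U'.hom := inferInstance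
  haveI : LocallyOfFiniteType G.hom := inferInstance
  haveI : LocallyOfFiniteType G'.hom := inferInstance
  haveI : QuasiCompact G.hom := inferInstance
  haveI : QuasiCompact U.hom := inferInstance
  haveI : CompactSpace G.left := QuasiCompact.compactSpace_of_compactSpace G.hom
  haveI : AlgebraicGeometry.IsReduced U'.left := Groth.Agent.H13AlgSp.isReduced_of_smooth_mor U'.hom
  haveI : Mono u' := Over.mono_of_mono_left _
  have hπs : ∀ y : 𝟙_ (Over (Sk k)) ⟶ G', ∃ x, x ≫ π = y := fun y => H20Borel.exists_pt_lift π y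
  -- the image of `U`
  obtain ⟨R, gR, p, i, hp, hi, hpi, hfl, hsur, hlfp, hcl⟩ :=
    Groth.Agent.H19Quot.AbelianCat.exists_image (u ≫ π) ⟨inferInstance, inferInstance⟩ ⟨inferInstance, inferInstance⟩
  letI := gR; haveI := hp; haveI := hi; haveI := hfl; haveI := hsur; haveI := hcl; haveI := hlfp
  haveI : Smooth R.hom := Groth.Agent.H13Flat.smooth_of_fppf_covering R.hom fun x =>
    ⟨U.left, p.left, inferInstance, inferInstance, p.left.surjective x, by rw [Over.w]; infer_instance⟩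
  haveI : ConnectedSpace R.left := p.left.surjective.connectedSpace p.left.continuous
  haveI : IsAffine R.left := isAffine_of_isAffineHom i.left
  haveI : LocallyOfFiniteType R.hom := inferInstance
  haveI : CompactSpace U.left := QuasiCompact.compactSpace_of_compactSpace U.hom
  haveI : Mono i := Over.mono_of_mono_left _
  have hps : ∀ y : 𝟙_ (Over (Sk k)) ⟶ R, ∃ x, x ≫ p = y := fun y => H20Borel.exists_pt_lift p y
  have hRns := H19Unip.hasNoSubtorus_of_surjective hUns p
  have hRn : AlgGrp.IsNormalHom i := H19Unip.isNormalHom_of_pts i fun g n => by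
    obtain ⟨x, rfl⟩ := hπs g
    obtain ⟨y, rfl⟩ := hps n
    obtain ⟨y', hy'⟩ := hU.2.2.1 _ x y
    refine ⟨y' ≫ p, ?_⟩
    rw [Category.assoc, hpi, ← Category.assoc, ← hy', MonObj.mul_comp, MonObj.mul_comp, GrpObj.inv_comp,
      Category.assoc y p i, hpi, Category.assoc]
  obtain ⟨f₁, hf₁⟩ := hU'.2.2.2.2.2.2 R i hcl hRn inferInstance inferInstance (H21Chev.geomFibre_props hRns)
  -- the preimage of `U'`
  let R' : Subgroup (𝟙_ (Over (Sk k)) ⟶ G') := (postHom u').range
  let K : Subgroup (𝟙_ (Over (Sk k)) ⟶ G) := R'.comap (postHom π)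
  have hKclo : ∀ x ∈ clo K, x ∈ K := fun x hx => clo_range_le u' (h := x ≫ π) fun a ha => by
    rw [← val_pull]
    refine mem_clo.mp hx _ (mem_vanish.mpr fun g hg => ?_)
    rw [val_pull]
    exact mem_vanish.mp ha _ hg
  obtain ⟨R₀, hR₀K, hR₀p, hR₀f, hR₀max⟩ := H20Borel.exists_component K hKclo
  haveI : IsAffine (𝟙_ (Over (Sk k))).left := inferInstanceAs (IsAffine (Spec (CommRingCat.of k)))
  haveI : LocallyOfFiniteType (𝟙_ (Over (Sk k))).hom := inferInstanceAs (LocallyOfFiniteType (𝟙 (Sk k)))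
  haveI : AlgebraicGeometry.IsReduced (𝟙_ (Over (Sk k))).left :=
    inferInstanceAs (AlgebraicGeometry.IsReduced (Spec (CommRingCat.of k)))
  obtain ⟨N, gN, iN, hNm, hNci, hNa, hNs, hNc, hNpts, hNlift⟩ := H19Unip.exists_subScheme R₀ hR₀p
  letI := gN; haveI := hNm; haveI := hNci; haveI := hNa; haveI := hNs; haveI := hNc
  haveI : LocallyOfFiniteType N.hom := inferInstance
  haveI : Mono iN := Over.mono_of_mono_left _
  haveI : AlgebraicGeometry.IsReduced N.left := Groth.Agent.H13AlgSp.isReduced_of_smooth_mor N.hom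
  have hcloR₀ : ∀ x ∈ clo R₀, x ∈ R₀ := fun x hx =>
    hR₀max (clo R₀) (fun y hy => hKclo y fun a ha => hy a (vanish_anti hR₀K ha))
      ((vanish_clo R₀).symm ▸ hR₀p) hx
  have hNrange : (postHom iN).range = R₀ := le_antisymm
    (by rintro _ ⟨n, rfl⟩; exact hcloR₀ _ (hNpts n)) fun x hx => by
      obtain ⟨n, hn⟩ := hNlift x fun y => by
        rw [toUnit_unique y (𝟙 _), Category.id_comp]
        exact fun a ha => mem_vanish.mp ha x hx
      exact ⟨n, hn⟩
  have hNn : ∀ (g : 𝟙_ (Over (Sk k)) ⟶ G) (n : 𝟙_ (Over (Sk k)) ⟶ N),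
      ∃ n' : 𝟙_ (Over (Sk k)) ⟶ N, n' ≫ iN = g * (n ≫ iN) * g⁻¹ := fun g n => by
    have hle : (postHom (iN ≫ H20Mu.conj g⁻¹)).range ≤ K := by
      rintro _ ⟨m, rfl⟩
      show (m ≫ iN ≫ H20Mu.conj g⁻¹) ≫ π ∈ R'
      obtain ⟨z, hz⟩ := hR₀K (hNrange.le ⟨m, rfl⟩)
      obtain ⟨z', hz'⟩ := hU'.2.2.1 _ (g ≫ π) z
      refine ⟨z', hz'.symm.trans ?_⟩
      rw [show z ≫ u' = (m ≫ iN) ≫ π from hz, ← Category.assoc m iN, pt_comp_conj, _root_.inv_inv,
        MonObj.mul_comp, MonObj.mul_comp, GrpObj.inv_comp]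
    have h := hR₀max _ hle (isPrime_range (iN ≫ H20Mu.conj g⁻¹)) ⟨n, rfl⟩
    rw [← hNrange] at h
    obtain ⟨n', hn'⟩ := h
    refine ⟨n', hn'.trans ?_⟩
    show n ≫ iN ≫ H20Mu.conj g⁻¹ = _
    rw [← Category.assoc, pt_comp_conj, _root_.inv_inv]
  obtain ⟨φ, hφ⟩ := exists_factor_pts u' (iN ≫ π) fun y => by
    obtain ⟨z, hz⟩ := hR₀K (hNrange.le ⟨y, rfl⟩)
    exact ⟨z, hz.trans (Category.assoc y iN π)⟩
  haveI : IsMonHom φ := by
    haveI : IsMonHom (φ ≫ u') := by rw [hφ]; infer_instance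
    exact Groth.Agent.H21Diag.isMonHom_of_comp_mono φ u'
  -- a Cartan subgroup of the preimage
  haveI : LocallyOfFinitePresentation N.hom := inferInstance
  haveI : QuasiCompact N.hom := inferInstance
  haveI : QuasiSeparated N.hom := inferInstance
  obtain ⟨T, gT, iT, hiT, hciT, hT, hmax⟩ := exists_maxTorus (G := N)
  letI := gT; haveI := hiT; haveI := hciT
  have hMT := isMaxTorus_of_hmax iT hT hmax
  haveI : Mono iT := Over.mono_of_mono_left _
  obtain ⟨C, gC, c, hc, hcic, hCs⟩ := (Groth.Agent.S3006.result (Sk k) N T iT hciT hT).1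
  letI := gC; haveI := hc.1; haveI := hcic; haveI := hCs
  haveI : ConnectedSpace C.left := Groth.Agent.S3908.result k N T iT hT C c hc
  haveI : IsAffine C.left := isAffine_of_isAffineHom c.left
  obtain ⟨tC, htC⟩ := exists_torus_to_centralizer hT c hc
  obtain ⟨W, gW, iW, hWm, hWci, hWs, hWc, hWns, hWn, hdec⟩ := H19Unip.exists_rad_part hMT c hc tC htC
  letI := gW; haveI := hWm; haveI := hWci; haveI := hWs; haveI := hWc
  obtain ⟨fW, hfW⟩ := H19Unip.exists_factor_radical_of_normal u hU iN hNn iW hWns hWn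
  have hTφ : iT ≫ φ = 1 := H19Unip.torus_hom_eq_one hT hU'ns (iT ≫ φ)
  let S : Subgroup (𝟙_ (Over (Sk k)) ⟶ G') := (postHom i).range
  have hSn : ∀ g, ∀ x ∈ S, g * x * g⁻¹ ∈ S := fun g x hx => by
    obtain ⟨n, rfl⟩ := hx
    obtain ⟨n', hn'⟩ := hRn _ g n
    exact ⟨n', hn'.symm⟩
  have hC : ∀ x : 𝟙_ (Over (Sk k)) ⟶ C, ((x ≫ c) ≫ iN) ≫ π ∈ S := fun x => by
    obtain ⟨t, w, hx⟩ := hdec x
    rw [hx, MonObj.mul_comp, MonObj.mul_comp, Category.assoc (t ≫ iT), Category.assoc t, ← hφ,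
      ← Category.assoc iT, hTφ, MonObj.one_comp, MonObj.comp_one, _root_.mul_one, Category.assoc w, ← hfW,
      ← Category.assoc w fW, Category.assoc (w ≫ fW), ← hpi, ← Category.assoc]
    exact ⟨_, rfl⟩
  obtain ⟨M, χ, hd⟩ := exists_diag_rep iT hT
  obtain ⟨t₀, ht₀⟩ := exists_regular hT χ
  have hinj := injective_conj iT M hd t₀ ht₀ hc c (𝟙 C) (Category.id_comp _) (t₀ ≫ tC)
    (by rw [Category.assoc, htC])
  have hNS : ∀ n : 𝟙_ (Over (Sk k)) ⟶ N, n ≫ iN ≫ π ∈ S := fun n => clo_range_le i fun a ha => by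
    have h0 : Fn.pull (iN ≫ π) a = 0 := hinj (by
      haveI : Smooth (N ⊗ C).hom := Groth.Agent.H19Grp.PointsDense.smooth_tensor N C
      haveI : IsAffine (N ⊗ C).left := inferInstanceAs (IsAffine (pullback N.hom C.hom))
      haveI : LocallyOfFiniteType (N ⊗ C).hom := inferInstance
      haveI : AlgebraicGeometry.IsReduced (N ⊗ C).left :=
        Groth.Agent.H13AlgSp.isReduced_of_smooth_mor (N ⊗ C).hom
      rw [map_zero]
      refine ext_points_reduced fun y => ?_
      rw [val_pull, val_pull, map_zero]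
      refine mem_vanish.mp ha _ ?_
      rw [MonObj.comp_mul, MonObj.comp_mul, GrpObj.comp_inv, ← Category.assoc y (snd N C), MonObj.mul_comp,
        MonObj.mul_comp, GrpObj.inv_comp, ← Category.assoc ((y ≫ snd N C) ≫ c)]
      exact hSn _ _ (hC _))
    rw [← val_pull, h0, map_zero]
  -- a closed subgroup of finite index of a connected group
  have hR'p : (vanish (R' : Set (𝟙_ (Over (Sk k)) ⟶ G'))).IsPrime := isPrime_range u'
  have hR₀S : ∀ x ∈ R₀, x ≫ π ∈ S := fun x hx => by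
    obtain ⟨n, rfl⟩ := hNrange.ge hx
    show (n ≫ iN) ≫ π ∈ S
    rw [Category.assoc]
    exact hNS n
  haveI := hR₀f
  haveI : Fintype (K ⧸ R₀.subgroupOf K) := Fintype.ofFinite _
  let Q : (K ⧸ R₀.subgroupOf K) → Set (𝟙_ (Over (Sk k)) ⟶ G') :=
    fun q => {y | (((q.out : K) : 𝟙_ (Over (Sk k)) ⟶ G) ≫ π)⁻¹ * y ∈ S}
  have hcov : Finset.univ.inf (fun q => vanish (Q q)) ≤ vanish (R' : Set (𝟙_ (Over (Sk k)) ⟶ G')) :=
    fun a ha => mem_vanish.mpr fun y hy => by
    obtain ⟨x, hx⟩ := hπs y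
    have hxK : x ∈ K := by show x ≫ π ∈ R'; rw [hx]; exact hy
    let q : K ⧸ R₀.subgroupOf K := QuotientGroup.mk ⟨x, hxK⟩
    refine mem_vanish.mp ((Finset.inf_le (f := fun q => vanish (Q q)) (Finset.mem_univ q)) ha) y ?_
    show _ * y ∈ S
    rw [← hx, ← GrpObj.inv_comp, ← MonObj.mul_comp]
    exact hR₀S _ (QuotientGroup.eq.mp (show QuotientGroup.mk q.out = QuotientGroup.mk ⟨x, hxK⟩ from q.out_eq) : _)
  obtain ⟨q, -, hq⟩ := hR'p.inf_le'.mp hcov
  have hall : ∀ y ∈ R', (((q.out : K) : 𝟙_ (Over (Sk k)) ⟶ G) ≫ π)⁻¹ * y ∈ S := fun y hy =>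
    clo_range_le i fun a ha => by
      rw [← comp_lg, ← val_pull]
      refine mem_vanish.mp (hq (mem_vanish.mpr fun z hz => ?_)) y hy
      rw [val_pull, comp_lg]
      exact mem_vanish.mp ha _ hz
  have hR'S : ∀ y ∈ R', y ∈ S := fun y hy => by
    have h1 := hall 1 R'.one_mem
    rw [_root_.mul_one] at h1
    have h2 := S.mul_mem (S.inv_mem h1) (hall y hy)
    rwa [_root_.inv_inv, ← _root_.mul_assoc, mul_inv_cancel, _root_.one_mul] at h2
  obtain ⟨s, hs⟩ := exists_factor_pts i u' fun y => hR'S _ ⟨y, rfl⟩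
  haveI : IsIso f₁ := ⟨s, (cancel_mono i).mp (by rw [Category.assoc, hs, hf₁, Category.id_comp]),
    (cancel_mono u').mp (by rw [Category.assoc, hf₁, hs, Category.id_comp])⟩
  haveI : IsIso f₁.left := inferInstanceAs (IsIso ((Over.forget _).map f₁))
  exact ⟨p ≫ f₁, by rw [Category.assoc, hf₁, hpi], by rw [Over.comp_left]; infer_instance⟩

end Groth.Agent.S17093
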