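import Groth.Statements.S17094
import Groth.Agent.H19Unip.ToriGen
import Groth.Agent.H25AbCube.GeomTate

set_option autoImplicit false
universe u
open CategoryTheory MonoidalCategory CartesianMonoidalCategory MonObj GrpObj AlgebraicGeometry
open AGF

namespace Groth.Agent.S17094

set_option linter.style.haveILetI false
set_option backward.isDefEq.respectTransparency false
set_option synthInstance.maxHeartbeats 400000
set_option maxHeartbeats 4000000
open CategoryTheory.Limits Groth.Agent.H21Diag


/-- Let k be a separably closed field and G a reductive k-group scheme (affine, smooth, connected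
reductive geometric fibre). Then the maximal k-tori of G generate it: if i : H ⟶ G is a closed
subgroup scheme through which the inclusion of every maximal torus of G factors, then i is an
isomorphism. -/
theorem result (k : Type u) [Field k] [IsSepClosed k]
    (G : Over (Spec (CommRingCat.of k))) [GrpObj G] (hG : Red.IsReductive G)
    (H : Over (Spec (CommRingCat.of k))) [GrpObj H] (i : H ⟶ G) [IsMonHom i] (hi : IsClosedImmersion i.left)
    (hH : ∀ (T : Over (Spec (CommRingCat.of k))) [GrpObj T] (iT : T ⟶ G), Red.IsMaximalTorus iT → ∃ t : T ⟶ H, t ≫ i = iT) :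
    IsIso i := by
  classical
  haveI := hi; haveI := hG.1; haveI := hG.2.1
  haveI : IsAffine G.left := isAffine_of_isAffineHom G.hom
  haveI : AlgebraicGeometry.IsReduced G.left := Groth.Agent.H13AlgSp.isReduced_of_smooth_mor G.hom
  obtain ⟨s⟩ : Nonempty ↥(Spec (CommRingCat.of k)) := inferInstance
  let K := AlgebraicClosure ((Spec (CommRingCat.of k)).residueField s)
  letI : Algebra k K := (Spec.preimage (Red.geomPt s)).hom.toAlgebra
  let v := Groth.Agent.H25AbCube.GeomTate.σ k K
  have hv : v = Red.geomPt s := by
    show Spec.map (CommRingCat.ofHom (algebraMap k K)) = _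
    exact Spec.map_preimage _
  haveI := Groth.Agent.H25AbCube.GeomTate.surjective_σ k K
  obtain ⟨hGa, hGs, hGc, hR⟩ : Red.IsReductiveOver K (Red.bc v G) := by rw [hv]; exact hG.2.2 s
  haveI := hGa; haveI := hGs; haveI := hGc
  haveI : ConnectedSpace G.left := by
    haveI : ConnectedSpace ↥(pullback G.hom v) := hGc
    exact (pullback.fst G.hom v).surjective.connectedSpace (pullback.fst G.hom v).continuous
  obtain ⟨T, gT, iT, hT⟩ := Groth.Agent.LeadTorus.exists_maximalTorus_connected k G
  letI := gT
  let F := Over.pullback v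
  have hTK : AGF.IsMaxTorus (F.map iT : Red.bc v T ⟶ Red.bc v G) :=
    H20Conj.isMaxTorus_of_isMaximalTorus (isMaximalTorus_bc hG.2.1 hG.1 iT v hT)
  haveI : IsClosedImmersion (F.map i : Red.bc v H ⟶ Red.bc v G).left := MorphismProperty.baseChange_map v i hi
  let X := Red.bc v G ⊗ Red.bc v T
  let g := (bcEquiv v G X).symm (fst _ _)
  let t := (bcEquiv v T X).symm (snd _ _)
  obtain ⟨h, hh⟩ := H19Unip.exists_conj_lift hT i hH g t
  haveI : IsIso (F.map i : Red.bc v H ⟶ Red.bc v G) := by
    refine H19Unip.isIso_of_conj_closed hR hTK (F.map i : Red.bc v H ⟶ Red.bc v G) (bcEquiv v H X h)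
      ((bcEquiv v G X).symm.injective ?_)
    rw [bcEquiv_symm_comp_map, Equiv.symm_apply_apply, hh, bcEquiv_symm_mul, bcEquiv_symm_mul, bcEquiv_symm_comp_map]
    congr 1
    exact ((bcHom v G X).map_inv (fst _ _)).symm
  haveI : IsIso (F.map i : Red.bc v H ⟶ Red.bc v G).left := inferInstanceAs (IsIso ((Over.forget _).map (F.map i)))
  haveI : Surjective i.left := ⟨fun y => by
    obtain ⟨z, rfl⟩ := (pullback.fst G.hom v).surjective y
    obtain ⟨w, rfl⟩ := (F.map i : Red.bc v H ⟶ Red.bc v G).left.homeomorph.surjective z
    refine ⟨(pullback.fst H.hom v) w, ?_⟩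
    have e : (F.map i : Red.bc v H ⟶ Red.bc v G).left ≫ pullback.fst G.hom v = pullback.fst H.hom v ≫ i.left :=
      pullback.lift_fst _ _ _
    show i.left ((pullback.fst H.hom v) w) = _
    rw [← Scheme.Hom.comp_apply, ← e, Scheme.Hom.comp_apply]
    rfl⟩
  haveI : IsIso i.left := isIso_of_isClosedImmersion_of_surjective i.left
  exact isIso_of_left i

end Groth.Agent.S17094
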