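import Groth.Statements.S17095
import Groth.Agent.H19Unip.ToriGen
import Groth.Agent.H25AbCube.GeomTate
import Groth.Agent.H19Fin.BorelConj

set_option autoImplicit false
universe u
open CategoryTheory MonoidalCategory CartesianMonoidalCategory MonObj GrpObj AlgebraicGeometry
open AGF

namespace Groth.Agent.S17095

set_option linter.style.haveILetI false
set_option backward.isDefEq.respectTransparency false
set_option synthInstance.maxHeartbeats 400000
set_option maxHeartbeats 4000000
open CategoryTheory.Limits Groth.Agent.H21Diag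


/-- Let k be a separably closed field, G a reductive k-group scheme and z : Z ⟶ G its centre. Then Z is
the scheme-theoretic intersection of the maximal k-tori of G: for every k-scheme X and every
X-valued point g of G, g factors through Z if and only if g factors through the inclusion of every
maximal torus of G. -/
theorem result (k : Type u) [Field k] [IsSepClosed k]
    (G : Over (Spec (CommRingCat.of k))) [GrpObj G] (hG : Red.IsReductive G)
    (Z : Over (Spec (CommRingCat.of k))) [GrpObj Z] (z : Z ⟶ G) (hz : Red.IsCentre z)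
    (X : Over (Spec (CommRingCat.of k))) (g : X ⟶ G) :
    (∃ c : X ⟶ Z, c ≫ z = g) ↔
      ∀ (T : Over (Spec (CommRingCat.of k))) [GrpObj T] (iT : T ⟶ G), Red.IsMaximalTorus iT → ∃ t : X ⟶ T, t ≫ iT = g := by
  classical
  haveI := hG.1; haveI := hG.2.1
  haveI : IsAffine G.left := isAffine_of_isAffineHom G.hom
  refine ⟨fun ⟨c, hc⟩ T _ iT hT => ?_, fun hall => (hz.2.2 X g).mpr fun X' x h => ?_⟩
  · refine ((H21Chev.isCentralizerOf_self_of_isMaximalTorus hG hT).2.2 X g).mpr fun X' x t => ?_
    simpa using (hz.2.2 X g).mp ⟨c, hc⟩ X' x (t ≫ iT)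
  obtain ⟨s⟩ : Nonempty ↥(Spec (CommRingCat.of k)) := inferInstance
  let K := AlgebraicClosure ((Spec (CommRingCat.of k)).residueField s)
  letI : Algebra k K := (Spec.preimage (Red.geomPt s)).hom.toAlgebra
  let v := Groth.Agent.H25AbCube.GeomTate.σ k K
  have hv : v = Red.geomPt s := by
    show Spec.map (CommRingCat.ofHom (algebraMap k K)) = _
    exact Spec.map_preimage _
  haveI := Groth.Agent.H25AbCube.GeomTate.flat_σ k K
  haveI := Groth.Agent.H25AbCube.GeomTate.surjective_σ k K
  obtain ⟨hGa, hGs, hGc, hR⟩ : Red.IsReductiveOver K (Red.bc v G) := by rw [hv]; exact hG.2.2 s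
  haveI : ConnectedSpace G.left := by
    haveI : ConnectedSpace ↥(pullback G.hom v) := hGc
    exact (pullback.fst G.hom v).surjective.connectedSpace (pullback.fst G.hom v).continuous
  obtain ⟨T, gT, iT, hT⟩ := Groth.Agent.LeadTorus.exists_maximalTorus_connected k G
  letI := gT
  haveI := hT.1; haveI := hT.2.1
  haveI : IsClosedImmersion iT.left := Groth.Agent.H19Fin.isClosedImmersion_torus_field (K := K) iT hT.2.2.1
  obtain ⟨g', hg'⟩ := hall T iT hT
  obtain ⟨w, hw⟩ := H19Unip.exists_lift_of_slices iT ((fst G X)⁻¹ * (snd G X ≫ g) * fst G X) fun y => by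
    obtain ⟨t', ht'⟩ := hall T (iT ≫ Groth.Agent.H21Split.R2.cj y) (H19Unip.isMaximalTorus_conj hT y)
    refine ⟨t', ?_⟩
    rw [MonObj.comp_mul, MonObj.comp_mul, GrpObj.comp_inv, lift_fst, lift_snd_assoc, Category.id_comp, ← ht',
      ← Category.assoc, Groth.Agent.H21Split.R2.comp_cj]
    group
  let F := Over.pullback v
  have hTK := isMaximalTorus_bc hG.2.1 hG.1 iT v hT
  obtain ⟨D, σ, hσm, hσ⟩ := H19Unip.exists_splitRed_of_isMaximalTorus (G := Red.bc v G)
    (Groth.Agent.H21Red0.isReductive_of_isReductiveOver ⟨hGa, hGs, hGc, hR⟩) hTK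
  let Y := Red.bc v X'
  let p : (Over.map v).obj Y ⟶ X' := (bcEquiv v X' Y).symm (𝟙 _)
  let u : Y ⟶ Red.bc v X := bcEquiv v X Y (p ≫ x)
  let gK : Red.bc v X ⟶ D.T := (F.map g' : Red.bc v X ⟶ Red.bc v T) ≫ σ.inv
  have hgK : gK ≫ D.i = (F.map g : Red.bc v X ⟶ Red.bc v G) := by
    show ((F.map g' : Red.bc v X ⟶ Red.bc v T) ≫ σ.inv) ≫ D.i = _
    rw [← hσ, Category.assoc, σ.inv_hom_id_assoc, ← hg', Functor.map_comp]
  have hroots : ∀ a, gK ≫ D.split.hom.hom.hom ≫ Red.chi _ (D.P.root a) = 1 :=
    H19Unip.roots_trivial_of_conj D gK fun W a h => by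
      let a₀ := (bcEquiv v X W).symm a
      let h₀ := (bcEquiv v G W).symm h
      refine ⟨bcEquiv v T W (lift h₀ a₀ ≫ w) ≫ σ.inv, ?_⟩
      rw [Category.assoc a, hgK, ← hσ, Category.assoc, σ.inv_hom_id_assoc]
      refine (bcEquiv v G W).symm.injective ?_
      rw [bcEquiv_symm_comp_map, Equiv.symm_apply_apply, Category.assoc, hw, MonObj.comp_mul, MonObj.comp_mul,
        GrpObj.comp_inv, lift_fst, lift_snd_assoc, bcEquiv_symm_mul, bcEquiv_symm_mul, bcEquiv_symm_comp_map]
      congr 2
      exact ((bcHom v G W).map_inv h).symm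
  have hK := congrArg (bcEquiv v G Y).symm
    (Groth.Agent.H21Split.commute_of_roots_trivial D (u ≫ gK) (fun a => by rw [Category.assoc, hroots, MonObj.comp_one])
      (bcEquiv v G Y (p ≫ h)))
  rw [Category.assoc, hgK, bcEquiv_symm_mul, bcEquiv_symm_mul, bcEquiv_symm_comp_map, Equiv.symm_apply_apply,
    Equiv.symm_apply_apply, Category.assoc] at hK
  simp only [Category.comp_id]
  have hp : Epi p.left := by
    have e : p.left = pullback.fst X'.hom v := by
      have h1 := bcEquiv_left_fst v X' Y p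
      rw [Equiv.apply_symm_apply] at h1
      simpa using h1.symm
    rw [e]
    exact Flat.epi_of_flat_of_surjective _
  refine Over.OverMorphism.ext ((cancel_epi p.left).mp ?_)
  have h2 : p ≫ ((x ≫ g) * h) = p ≫ (h * (x ≫ g)) := by rw [MonObj.comp_mul, MonObj.comp_mul, hK]
  exact congrArg CommaMorphism.left h2

end Groth.Agent.S17095
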