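import Groth.Statements.S17099
import Groth.Agent.H19Unip.Normal
import Groth.Agent.H21Hom.SpecGrp
import Groth.Agent.H20OT.OrderP
import Mathlib.Algebra.DualNumber
import Mathlib.RingTheory.TensorProduct.Free

set_option autoImplicit false
universe u
open CategoryTheory MonoidalCategory CartesianMonoidalCategory MonObj GrpObj AlgebraicGeometry
open AGF

namespace Groth.Agent.S17099

set_option linter.style.haveILetI false
set_option backward.isDefEq.respectTransparency false
set_option synthInstance.maxHeartbeats 400000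
set_option maxHeartbeats 4000000
open CategoryTheory.Limits Groth.Agent.H27Witt H20Mu H20Conj H20Borel H21Chev TensorProduct WithConv

section Hopf

variable {K : Type u} [Field K] {B : Type u} [CommRing B] [HopfAlgebra K B]

/-- The unit of a character is multiplicative on points. -/
theorem exists_unit_of_char (χ : Groth.Agent.H21Hom.specGrp K B ⟶ Red.Gm (Sk K)) [IsMonHom χ] :
    ∃ u : B, (∀ (D : Type u) [CommRing D] [Algebra K D] (a b : B →ₐ[K] D),
      (toConv a * toConv b).ofConv u = a u * b u) ∧
      (∀ (D : Type u) [CommRing D] [Algebra K D], (1 : WithConv (B →ₐ[K] D)).ofConv u = 1) ∧ (u = 1 → χ = 1) := by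
  let u : B := (Fn.specAlg (k := K) B).symm (chFn χ)
  have hu : Fn.specAlg (k := K) B u = chFn χ := (Fn.specAlg (k := K) B).apply_symm_apply _
  have key : ∀ (D : Type u) [CommRing D] [Algebra K D] (a : B →ₐ[K] D),
      chFn (CoactBr.pt a ≫ χ) = Fn.specAlg (k := K) D (a u) := fun D _ _ a => by
    rw [chFn_comp, ← hu]
    exact pull_pt a u
  refine ⟨u, fun D _ _ a b => (Fn.specAlg (k := K) D).injective ?_, fun D _ _ => (Fn.specAlg (k := K) D).injective ?_,
    fun h => (eq_one_iff_unit χ).mpr (hu.symm.trans (by rw [h, map_one]))⟩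
  · rw [← key, map_mul, ← key, ← key]
    have e : CoactBr.pt (toConv a * toConv b).ofConv = CoactBr.pt a * CoactBr.pt b :=
      map_mul Spec.mapMulEquiv (toConv a) (toConv b)
    rw [e, MonObj.mul_comp]
    exact congrArg Units.val (GmPts.unitOfPt_mul _ _)
  · rw [← key, map_one]
    have e : CoactBr.pt (1 : WithConv (B →ₐ[K] D)).ofConv = 1 := map_one Spec.mapMulEquiv
    rw [e, MonObj.one_comp]
    exact chFn_one

variable [IsAlgClosed K]

/-- A group without characters maps trivially to tori. -/
theorem eq_one_of_no_char (hB : ∀ χ : Groth.Agent.H21Hom.specGrp K B ⟶ Red.Gm (Sk K), IsMonHom χ → χ = 1)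
    {T : Over (Sk K)} [GrpObj T] (hT : Red.IsTorus T) (f : Groth.Agent.H21Hom.specGrp K B ⟶ T) [IsMonHom f] :
    f = 1 := by
  obtain ⟨r, e, co, he, hco, hprod, -⟩ := exists_cochars T hT
  let φ : (T ⟶ T) →* (Groth.Agent.H21Hom.specGrp K B ⟶ T) :=
    { toFun := fun m => f ≫ m, map_one' := MonObj.comp_one f, map_mul' := MonObj.comp_mul f }
  have h : φ (𝟙 T) = 1 := by
    rw [← hprod, map_list_prod, List.map_ofFn]
    refine List.prod_eq_one fun x hx => ?_
    obtain ⟨l, rfl⟩ := List.mem_ofFn.mp hx
    haveI := he l; haveI := hco l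
    show f ≫ co l ≫ e l = 1
    rw [← Category.assoc, hB (f ≫ co l) inferInstance, MonObj.one_comp]
  simpa [φ] using h

end Hopf

section Bases

variable (p : ℕ) [hp : Fact p.Prime] {k : Type u} [Field k] [CharP k p] (K : Type u) [Field K] [IsAlgClosed K]
  [Algebra k K]

/-- The group α_p has no non-trivial character over an algebraically closed field. -/
theorem alphaP_no_char
    (χ : Groth.Agent.H21Hom.specGrp K (K ⊗[k] AlphaP.A p k) ⟶ Red.Gm (Sk K)) [IsMonHom χ] : χ = 1 := by
  classical
  haveI := Groth.Agent.H20OT.nontrivial_of_charP p k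
  haveI : CharP K p := charP_of_injective_algebraMap (algebraMap k K).injective p
  obtain ⟨g, hg, hg1, hfin⟩ := exists_unit_of_char χ
  refine hfin ?_
  let B := K ⊗[k] AlphaP.A p k
  let y : B := (1 : K) ⊗ₜ[k] AlphaP.x p k
  -- every element is a polynomial in `y` of degree less than `p`
  obtain ⟨P, hPd, hP⟩ : ∃ P : Polynomial K, P.degree < p ∧ Polynomial.aeval y P = g := by
    let Pr := ((AlphaP.basis p k).baseChange K).repr g
    refine ⟨∑ i : Fin p, Polynomial.monomial (i : ℕ) (Pr i), ?_, ?_⟩
    · refine lt_of_le_of_lt (Polynomial.degree_sum_le _ _) ?_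
      refine (Finset.sup_lt_iff (WithBot.bot_lt_coe p)).2 fun i _ => ?_
      exact lt_of_le_of_lt (Polynomial.degree_monomial_le _ _) (WithBot.coe_lt_coe.2 i.2)
    · conv_rhs => rw [← ((AlphaP.basis p k).baseChange K).sum_repr g]
      rw [map_sum]
      refine Finset.sum_congr rfl fun i _ => ?_
      rw [Polynomial.aeval_monomial, Module.Basis.baseChange_apply, AlphaP.basis_apply, ← Algebra.smul_def]
      simp [y, Pr, B, Algebra.TensorProduct.tmul_pow]
  -- the two points with values in dual numbers
  let D := DualNumber B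
  have hε : (DualNumber.eps : D) ^ p = 0 :=
    pow_eq_zero_of_le hp.out.two_le (by rw [pow_two, DualNumber.eps_mul_eps])
  let a : B →ₐ[K] D := (TrivSqZeroExt.inlAlgHom K B B)
  let b : B →ₐ[K] D := Algebra.TensorProduct.lift (Algebra.ofId K D)
    (AlphaP.lift p k (DualNumber.eps : D) hε) fun _ _ => Commute.all _ _
  have hay : a y = TrivSqZeroExt.inl y := rfl
  have hby : b y = DualNumber.eps := by
    show (Algebra.ofId K D) (1 : K) * AlphaP.lift p k (DualNumber.eps : D) hε (AlphaP.x p k) = _
    rw [map_one, AlphaP.lift_x, _root_.one_mul]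
  have hmul := hg D a b
  rw [AlgHom.convMul_apply] at hmul
  let Φ : B ⊗[K] B →ₐ[K] D := Algebra.TensorProduct.lift a b fun _ _ => Commute.all _ _
  have hcy : Coalgebra.comul (R := K) y = y ⊗ₜ[K] 1 + 1 ⊗ₜ[K] y := by
    show Coalgebra.comul (R := K) ((1 : K) ⊗ₜ[k] AlphaP.x p k) = _
    erw [TensorProduct.comul_tmul, AlphaP.comul_x]
    simp [y, B, tmul_add, Algebra.TensorProduct.one_def]
  have hΦy : Φ (Coalgebra.comul (R := K) y) = TrivSqZeroExt.inl y + DualNumber.eps := by
    rw [hcy, map_add]
    simp [Φ, hay, hby]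
  have e1 : ((toConv a * toConv b).ofConv : B →ₐ[K] D) y = TrivSqZeroExt.inl y + DualNumber.eps := by
    rw [AlgHom.convMul_apply, hcy]
    simp [hay, hby]
  have h := hg D a b
  rw [← hP, ← Polynomial.aeval_algHom_apply, ← Polynomial.aeval_algHom_apply, ← Polynomial.aeval_algHom_apply,
    e1, hay, hby] at h
  -- first order expansion
  have hexp : ∀ c : B, Polynomial.aeval (TrivSqZeroExt.inl c + DualNumber.eps : D) P =
      TrivSqZeroExt.inl (Polynomial.aeval c P) + TrivSqZeroExt.inr (Polynomial.aeval c (Polynomial.derivative P)) := fun c => by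
    rw [Polynomial.aeval_add_of_sq_eq_zero P _ _ (by rw [pow_two, DualNumber.eps_mul_eps])]
    have h1 : ∀ Q : Polynomial K, Polynomial.aeval (TrivSqZeroExt.inl c : D) Q =
        TrivSqZeroExt.inl (Polynomial.aeval c Q) := fun Q =>
      Polynomial.aeval_algHom_apply (TrivSqZeroExt.inlAlgHom K B B) c Q
    rw [h1, h1]
    refine TrivSqZeroExt.ext ?_ ?_
    · simp [D]
    · simp [D]
  have hexp0 : Polynomial.aeval (DualNumber.eps : D) P =
      TrivSqZeroExt.inl (Polynomial.aeval (0 : B) P) +
        TrivSqZeroExt.inr (Polynomial.aeval (0 : B) (Polynomial.derivative P)) := by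
    have := hexp 0
    rwa [TrivSqZeroExt.inl_zero, zero_add] at this
  rw [hexp, hexp0, show Polynomial.aeval (TrivSqZeroExt.inl y : D) P = TrivSqZeroExt.inl (Polynomial.aeval y P) from
    Polynomial.aeval_algHom_apply (TrivSqZeroExt.inlAlgHom K B B) y P] at h
  have hsnd := congrArg TrivSqZeroExt.snd h
  have ha0 : ∀ Q : Polynomial K, Polynomial.aeval (0 : B) Q = algebraMap K B (Q.coeff 0) := fun Q => by
    rw [Polynomial.aeval_def, Polynomial.eval₂_at_zero]
  rw [ha0, ha0, Polynomial.coeff_derivative] at hsnd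
  simp only [D, TrivSqZeroExt.snd_add, TrivSqZeroExt.snd_inl, TrivSqZeroExt.snd_inr, TrivSqZeroExt.snd_mul,
    TrivSqZeroExt.fst_add, TrivSqZeroExt.fst_inl, TrivSqZeroExt.fst_inr, zero_add, add_zero, smul_zero, smul_eq_mul,
    MulOpposite.smul_eq_mul_unop, MulOpposite.unop_op, mul_zero, zero_mul, Nat.cast_zero, _root_.mul_one] at hsnd
  -- constant term
  have hone : Polynomial.eval 0 P = 1 := by
    have h1 := hg1 K
    rw [← hP, ← Polynomial.aeval_algHom_apply, AlgHom.convOne_def] at h1
    have e0 : ((Algebra.ofId K K).comp (Bialgebra.counitAlgHom K B)) y = 0 := by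
      show Algebra.ofId K K (Coalgebra.counit (R := K) ((1 : K) ⊗ₜ[k] AlphaP.x p k)) = 0
      erw [TensorProduct.counit_tmul, AlphaP.counit_x]
      simp
    rw [e0] at h1
    simpa [Polynomial.coe_aeval_eq_eval] using h1
  -- compare with polynomials
  let c1 := P.coeff 1
  have hdeg : ∀ Q : Polynomial K, Q.degree < p → Polynomial.aeval y Q = 0 → Q = 0 := fun Q hQ h0 => by
    ext i
    by_cases hi : i < p
    · have hsum : Polynomial.aeval y Q = ∑ j : Fin p, Q.coeff j • ((AlphaP.basis p k).baseChange K) j := by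
        rw [Polynomial.aeval_eq_sum_range' (n := p) (by
          by_cases hQ0 : Q = 0
          · simpa [hQ0] using hp.out.pos
          · exact (Polynomial.natDegree_lt_iff_degree_lt hQ0).2 hQ),
          ← Fin.sum_univ_eq_sum_range (fun j => Q.coeff j • y ^ j)]
        refine Finset.sum_congr rfl fun j _ => ?_
        rw [Module.Basis.baseChange_apply, AlphaP.basis_apply]
        show Q.coeff j • ((1 : K) ⊗ₜ[k] AlphaP.x p k) ^ (j : ℕ) = _
        rw [Algebra.TensorProduct.tmul_pow, one_pow]
      rw [hsum] at h0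
      simpa using Fintype.linearIndependent_iff.1 ((AlphaP.basis p k).baseChange K).linearIndependent _ h0 ⟨i, hi⟩
    · rw [Polynomial.coeff_zero]
      exact Polynomial.coeff_eq_zero_of_degree_lt (lt_of_lt_of_le hQ (by exact_mod_cast not_lt.1 hi))
  have hQ : Polynomial.derivative P - Polynomial.C c1 * P = 0 := by
    refine hdeg _ ?_ ?_
    · refine lt_of_le_of_lt (Polynomial.degree_sub_le _ _) (max_lt ?_ ?_)
      · exact lt_of_le_of_lt Polynomial.degree_derivative_le hPd
      · exact lt_of_le_of_lt ((Polynomial.degree_mul_le _ _).trans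
          (by simpa using add_le_add Polynomial.degree_C_le (le_refl P.degree))) hPd
    · rw [map_sub, map_mul, Polynomial.aeval_C, hsnd, sub_eq_zero]
      simp [c1, hone, Algebra.smul_def, mul_comm]
  have hP0 : P.coeff 0 = 1 := by rw [Polynomial.coeff_zero_eq_eval_zero]; exact hone
  have hc : ∀ n, n < p → P.coeff n = if n = 0 then 1 else 0 := by
    have hrec : ∀ n : ℕ, P.coeff (n + 1) * ((n : K) + 1) = c1 * P.coeff n := fun n => by
      have := congrArg (fun Q => Q.coeff n) hQ
      simpa [Polynomial.coeff_derivative, sub_eq_zero] using this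
    have hc1 : c1 = 0 := by
      by_contra hne
      have hind : ∀ n, n < p → P.coeff n ≠ 0 := by
        intro n hn
        induction n with
        | zero => rw [hP0]; exact one_ne_zero
        | succ m ih => exact fun h0 => mul_ne_zero hne (ih (by omega)) (by rw [← hrec m, h0, zero_mul])
      obtain ⟨m, hm⟩ := Nat.exists_eq_add_of_le hp.out.one_le
      have hlast := hrec m
      rw [Polynomial.coeff_eq_zero_of_degree_lt (lt_of_lt_of_le hPd (by exact_mod_cast (by omega : p ≤ m + 1))),
        zero_mul] at hlast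
      exact mul_ne_zero hne (hind m (by omega)) hlast.symm
    intro n hn
    cases n with
    | zero => rw [if_pos rfl, hP0]
    | succ m =>
      rw [if_neg m.succ_ne_zero]
      have := hrec m
      rw [hc1, zero_mul] at this
      refine (mul_eq_zero.1 this).resolve_right ?_
      intro h0
      rw [show (m : K) + 1 = ((m + 1 : ℕ) : K) by push_cast; ring, CharP.cast_eq_zero_iff K p] at h0
      exact absurd (Nat.le_of_dvd m.succ_pos h0) (not_le.2 hn)
  have hP1 : P = 1 := by
    ext n
    rw [Polynomial.coeff_one]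
    by_cases hn : n < p
    · rw [hc n hn]
    · rw [Polynomial.coeff_eq_zero_of_degree_lt (lt_of_lt_of_le hPd (by exact_mod_cast not_lt.1 hn)),
        if_neg (by have := hp.out.pos; omega)]
  rw [← hP, hP1, map_one]

omit [CharP k p] in
/-- The constant group of order p has no non-trivial character in characteristic p. -/
theorem const_no_char [CharP K p]
    (χ : Groth.Agent.H21Hom.specGrp K (K ⊗[k] ConstGrp.F k (Multiplicative (ZMod p))) ⟶ Red.Gm (Sk K)) [IsMonHom χ] :
    χ = 1 := by
  classical
  obtain ⟨u, hu, hu1, hfin⟩ := exists_unit_of_char χ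
  refine hfin ?_
  let G := Multiplicative (ZMod p)
  let B := K ⊗[k] ConstGrp.F k G
  let P : G → (B →ₐ[K] K) := fun g => Algebra.TensorProduct.lift (Algebra.ofId K K)
    ((Algebra.ofId k K).comp (ConstGrp.ev k g)) fun _ _ => Commute.all _ _
  have hPe : ∀ g h : G, P g ((1 : K) ⊗ₜ[k] ConstGrp.e k h) = if g = h then 1 else 0 := fun g h => by
    show Algebra.ofId K K (1 : K) * algebraMap k K (ConstGrp.e k h g) = _
    rw [map_one, _root_.one_mul, ConstGrp.e_apply]
    split_ifs <;> simp
  have hb : ∀ z : B, ∃ c : G → K, z = ∑ g, c g ⊗ₜ[k] ConstGrp.e k g := fun z => by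
    induction z using TensorProduct.induction_on with
    | zero => exact ⟨0, by simp⟩
    | tmul c f =>
      refine ⟨fun g => f g • c, ?_⟩
      conv_lhs => rw [show f = ∑ g, f g • ConstGrp.e k g from ConstGrp.ext fun h => by
        rw [ConstGrp.sum_apply, Finset.sum_eq_single h (fun b _ hb => by simp [ConstGrp.e_apply, Ne.symm hb]) (by simp)]; simp]
      rw [tmul_sum]
      simp [TensorProduct.smul_tmul]
    | add x y hx hy =>
      obtain ⟨c, rfl⟩ := hx
      obtain ⟨d, rfl⟩ := hy
      exact ⟨c + d, by simp [add_tmul, Finset.sum_add_distrib]⟩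
  have hPt : ∀ (g : G) (c : K) (f : ConstGrp.F k G), P g (c ⊗ₜ[k] f) = c * algebraMap k K (f g) := fun g c f => by
    show Algebra.ofId K K c * algebraMap k K (f g) = _
    simp
  have hPc : ∀ (c : G → K) (g : G), P g (∑ h, c h ⊗ₜ[k] ConstGrp.e k h) = c g := fun c g => by
    rw [map_sum, Finset.sum_eq_single g]
    · simp [hPt, ConstGrp.e_apply]
    · intro h _ hne
      simp [hPt, ConstGrp.e_apply, Ne.symm hne]
    · simp
  have hPext : ∀ F F' : B →ₐ[K] K, (∀ x : G, F ((1 : K) ⊗ₜ[k] ConstGrp.e k x) = F' ((1 : K) ⊗ₜ[k] ConstGrp.e k x)) → F = F' :=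
    fun F F' h => Algebra.TensorProduct.ext (Subsingleton.elim _ _) (ConstGrp.algHom_ext h)
  have hmul : ∀ g h : G, P (g * h) u = P g u * P h u := fun g h => by
    rw [← hu K (P g) (P h)]
    refine congrArg (fun F : B →ₐ[K] K => F u) (hPext _ _ fun x => ?_)
    rw [hPe, AlgHom.convMul_apply]
    erw [TensorProduct.comul_tmul, ConstGrp.comul_e]
    simp [TensorProduct.tmul_sum, map_sum, hPt, ConstGrp.e_apply, eq_inv_mul_iff_mul_eq]
    rw [Finset.sum_eq_single g (fun b _ hb => by simp [Ne.symm hb]) (by simp)]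
    simp
  have h1 : P 1 u = 1 := by
    rw [← hu1 K]
    refine congrArg (fun F : B →ₐ[K] K => F u) (hPext _ _ fun x => ?_)
    rw [hPe, AlgHom.convOne_def]
    show _ = Algebra.ofId K K (Coalgebra.counit (R := K) ((1 : K) ⊗ₜ[k] ConstGrp.e k x))
    erw [TensorProduct.counit_tmul]
    simp [ConstGrp.counit_apply, ConstGrp.e_apply]
  have hone : ∀ g : G, P g u = 1 := fun g => by
    have hpow : ∀ n : ℕ, P (g ^ n) u = P g u ^ n := by
      intro n
      induction n with
      | zero => rw [pow_zero, pow_zero, h1]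
      | succ m ih => rw [pow_succ, pow_succ, hmul, ih]
    have hgp : g ^ p = 1 := by
      have := pow_card_eq_one (G := G) (x := g)
      rwa [Fintype.card_multiplicative, ZMod.card] at this
    have h2 := hpow p
    rw [hgp, h1] at h2
    exact frobenius_inj K p (show frobenius K p (P g u) = frobenius K p 1 by simp [frobenius_def, ← h2])
  obtain ⟨c, hc⟩ := hb u
  have hc1 : c = fun _ => 1 := funext fun g => by rw [← hPc c g, ← hc, hone]
  rw [hc, hc1]
  obtain ⟨d, hd⟩ := hb 1
  have hd1 : d = fun _ => 1 := funext fun g => by rw [← hPc d g, ← hd, map_one]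
  rw [hd, hd1]

end Bases


/-- Let p be a prime, k a field of characteristic p, G a reductive k-group scheme (affine, smooth,
connected reductive geometric fibre) and z : Z ⟶ G its scheme-theoretic centre. Then Z contains
neither α_p nor Z/pZ as a subgroup scheme: no homomorphism of k-group schemes from α_p (the spectrum
of k[X]/(X^p) with X primitive) to Z is a monomorphism, and no homomorphism from the constant
k-group scheme of the cyclic group of order p to Z is a monomorphism. (Stated over every field of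
characteristic p; applied over an algebraic closure of k to the base change of G, whose centre is
the base change of Z, this is the published assertion about the geometric centre.) -/
theorem result (p : ℕ) [Fact p.Prime]
    (k : Type u) [Field k] [CharP k p]
    (G : Over (Spec (CommRingCat.of k))) [GrpObj G] (hG : Red.IsReductive G)
    (Z : Over (Spec (CommRingCat.of k))) [GrpObj Z] (z : Z ⟶ G) (hz : Red.IsCentre z) :
    (∀ (φ : (Spec (CommRingCat.of (AlphaP.A p k))).asOver (Spec (CommRingCat.of k)) ⟶ Z), IsMonHom φ → ¬ Mono φ.left) ∧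
      (∀ (ψ : (Spec (CommRingCat.of (ConstGrp.F k (Multiplicative (ZMod p))))).asOver (Spec (CommRingCat.of k)) ⟶ Z),
        IsMonHom ψ → ¬ Mono ψ.left) := by
  classical
  haveI := hz.1; haveI := hz.2.1; haveI := hG.1; haveI := hG.2.1
  obtain ⟨s⟩ : Nonempty ↥(Spec (CommRingCat.of k)) := inferInstance
  let K := AlgebraicClosure ((Spec (CommRingCat.of k)).residueField s)
  letI : Algebra k K := (Spec.preimage (Red.geomPt s)).hom.toAlgebra
  haveI : CharP K p := charP_of_injective_algebraMap (algebraMap k K).injective p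
  let v := Spec.map (CommRingCat.ofHom (algebraMap k K))
  have hv : v = Red.geomPt s := Spec.map_preimage _
  obtain ⟨hGa, hGs, hGc, hR⟩ : Red.IsReductiveOver K (Red.bc v G) := by rw [hv]; exact hG.2.2 s
  haveI := hGa; haveI := hGs; haveI := hGc
  haveI : LocallyOfFiniteType (Red.bc v G).hom := inferInstance
  haveI : LocallyOfFinitePresentation (Red.bc v G).hom := inferInstance
  obtain ⟨T, gT, iT, hiT, hciT, hT, hmax⟩ := H20Borel.exists_maxTorus (G := Red.bc v G)
  letI := gT; haveI := hiT; haveI := hciT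
  haveI : Mono iT := Over.mono_of_mono_left _
  have hself := H21Chev.isCentralizerOf_self (G := Red.bc v G)
    (fun W _ i _ hci hs hc hn hns => hR W i hci hs hc hn hns) (isMaxTorus_of_hmax iT hT hmax)
  let F := Over.pullback v
  haveI : IsMonHom (F.map z : Red.bc v Z ⟶ Red.bc v G) := Groth.Agent.H21Diag.isMonHom_bcMap _ z
  haveI : PreservesLimitsOfShape WalkingCospan F := inferInstance
  haveI : Mono (F.map z : Red.bc v Z ⟶ Red.bc v G) := inferInstanceAs (Mono (F.map z))
  have hmain : ∀ (A : Type u) [CommRing A] [HopfAlgebra k A]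
      (φ : Groth.Agent.H21Hom.specGrp k A ⟶ Z), IsMonHom φ → Mono φ.left →
      (∀ χ : Groth.Agent.H21Hom.specGrp K (K ⊗[k] A) ⟶ Red.Gm (Sk K), IsMonHom χ → χ = 1) →
      ∀ a : K ⊗[k] A, a = algebraMap K (K ⊗[k] A) (Coalgebra.counit (R := K) a) := by
    intro A _ _ φ hφ hφm hchar a
    haveI := hφ; haveI := hφm
    haveI : Mono φ := Over.mono_of_mono_left _
    haveI : IsMonHom (F.map φ : Red.bc v (Groth.Agent.H21Hom.specGrp k A) ⟶ Red.bc v Z) :=
      Groth.Agent.H21Diag.isMonHom_bcMap _ φ
    haveI : Mono (F.map φ : Red.bc v (Groth.Agent.H21Hom.specGrp k A) ⟶ Red.bc v Z) :=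
      inferInstanceAs (Mono (F.map φ))
    obtain ⟨e⟩ := Groth.Agent.H21Hom.nonempty_bc_specGrp (R := k) A K
    haveI : IsMonHom e.inv.hom.hom := e.inv.hom.isMonHom_hom
    haveI : IsIso e.inv.hom.hom := ((Grp.forget _).mapIso e).isIso_inv
    let ψ : Groth.Agent.H21Hom.specGrp K (K ⊗[k] A) ⟶ Red.bc v G := e.inv.hom.hom ≫ F.map φ ≫ F.map z
    haveI : IsMonHom ψ := inferInstanceAs (IsMonHom (e.inv.hom.hom ≫ F.map φ ≫ F.map z))
    haveI : Mono ψ := inferInstanceAs (Mono (e.inv.hom.hom ≫ F.map φ ≫ F.map z))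
    obtain ⟨w, hw⟩ := (hself.2.2 _ ψ).mpr fun X' x q => by
      have h := (Groth.Agent.H21Dyn.centralizer_bc v (𝟙 G) z hz.2.2 _ ψ).mp
        ⟨e.inv.hom.hom ≫ F.map φ, Category.assoc _ _ _⟩ X' x (q ≫ iT)
      simpa [F] using h
    haveI : IsMonHom w := by
      haveI : IsMonHom (w ≫ iT) := by rw [hw]; infer_instance
      exact Groth.Agent.H21Diag.isMonHom_of_comp_mono w iT
    have hψ : ψ = 1 := by rw [← hw, eq_one_of_no_char hchar hT w, MonObj.one_comp]
    have hid : 𝟙 (Groth.Agent.H21Hom.specGrp K (K ⊗[k] A)) = 1 :=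
      (cancel_mono ψ).mp (by rw [Category.id_comp, MonObj.one_comp, hψ])
    have h1 : toConv (AlgHom.id K (K ⊗[k] A)) = 1 :=
      Spec.mapMulEquiv.injective ((Over.OverMorphism.ext (Spec.map_id _)).trans (hid.trans (MulEquiv.map_one Spec.mapMulEquiv).symm))
    have h2 := congrArg (fun f : WithConv ((K ⊗[k] A) →ₐ[K] (K ⊗[k] A)) => f.ofConv a) h1
    simpa [AlgHom.convOne_def] using h2
  refine ⟨fun φ hφ hm => ?_, fun ψ hψ hm => ?_⟩
  · have h := hmain (AlphaP.A p k) φ hφ hm (fun χ hχ => alphaP_no_char p K χ) ((1 : K) ⊗ₜ AlphaP.x p k)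
    simp [TensorProduct.counit_tmul, AlphaP.counit_x] at h
    haveI := Groth.Agent.H20OT.nontrivial_of_charP p k
    have hne := ((AlphaP.basis p k).baseChange K).ne_zero ⟨1, (Fact.out : p.Prime).one_lt⟩
    rw [Module.Basis.baseChange_apply, AlphaP.basis_apply] at hne
    exact hne (by simpa using h)
  · let g : Multiplicative (ZMod p) := Multiplicative.ofAdd 1
    have hg : g ≠ 1 := by
      haveI : Fact (1 < p) := ⟨(Fact.out : p.Prime).one_lt⟩
      simp [g]
    have h := hmain (ConstGrp.F k (Multiplicative (ZMod p))) ψ hψ hm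
      (fun χ hχ => const_no_char p K χ) ((1 : K) ⊗ₜ ConstGrp.e k g)
    let P : (K ⊗[k] ConstGrp.F k (Multiplicative (ZMod p))) →ₐ[K] K := Algebra.TensorProduct.lift (Algebra.ofId K K)
      ((Algebra.ofId k K).comp (ConstGrp.ev k g)) fun _ _ => Commute.all _ _
    have h' := congrArg P h
    rw [AlgHom.commutes] at h'
    simp [P, TensorProduct.counit_tmul, ConstGrp.e_apply, hg, Ne.symm hg] at h'

end Groth.Agent.S17099
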