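import Groth.Statements.S17100
import Groth.Agent.H21Fix.ConjAction
import Groth.Agent.S16611

set_option autoImplicit false
universe u
open CategoryTheory MonoidalCategory CartesianMonoidalCategory MonObj GrpObj AlgebraicGeometry
open AGF

namespace Groth.Agent.S17100

/-- General assertion made in its proof: let k be an algebraically closed field, G an affine, smooth,
connected k-group scheme, S a subtorus of G with centralizer c : C ⟶ G, and j : H ⟶ G a closed
subgroup scheme which is smooth and connected and is normalised by S (conjugates of points of H by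
points of S are points of H). Then the scheme-theoretic intersection C ∩ H (the fibre product of C
and H over G) is smooth over k and connected. -/
theorem result (k : Type u) [Field k] [IsAlgClosed k]
    (G : Over (Spec (CommRingCat.of k))) [GrpObj G] [IsAffine G.left] [Smooth G.hom] [ConnectedSpace ↥G.left]
    (S : Over (Spec (CommRingCat.of k))) [GrpObj S] (iS : S ⟶ G) [IsMonHom iS] [Mono iS] (hS : Red.IsTorus S)
    (C : Over (Spec (CommRingCat.of k))) [GrpObj C] (c : C ⟶ G) (hc : Red.IsCentralizerOf iS c)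
    (H : Over (Spec (CommRingCat.of k))) [GrpObj H] (j : H ⟶ G) [IsMonHom j] (hj : IsClosedImmersion j.left)
    [Smooth H.hom] [ConnectedSpace ↥H.left]
    (hnorm : ∀ (X : Over (Spec (CommRingCat.of k))) (s : X ⟶ S) (h : X ⟶ H), ∃ h' : X ⟶ H,
      (s ≫ iS) * (h ≫ j) * (s ≫ iS)⁻¹ = h' ≫ j)
    (I : Over (Spec (CommRingCat.of k))) (p : I ⟶ C) (q : I ⟶ H) (hI : IsPullback p q c j) :
    Smooth I.hom ∧ ConnectedSpace ↥I.left := by
  haveI := hj
  haveI : Mono j := (Over.forget _).mono_of_mono_map (show Mono j.left from inferInstance)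
  haveI : Mono c := hc.2.1
  obtain ⟨a, hact, hmul⟩ := H21Fix.exists_conj_action iS j hnorm
  haveI : Mono q := by
    refine ⟨fun {X} u v h => hI.hom_ext ((cancel_mono c).mp ?_) h⟩
    rw [Category.assoc, Category.assoc, hI.w, ← Category.assoc, h, Category.assoc]
  have hq : H21Fix.IsFixedLocusOver a q := fun X h => by
    have key : ∀ (X' : Over (Spec (CommRingCat.of k))) (x : X' ⟶ X) (s : X' ⟶ S),
        lift s (x ≫ h) ≫ a.act = x ≫ h ↔
          (x ≫ h ≫ j) * (s ≫ iS) = (s ≫ iS) * (x ≫ h ≫ j) := fun X' x s => by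
      rw [← cancel_mono j, hact, Category.assoc, mul_inv_eq_iff_eq_mul, eq_comm]
    constructor
    · rintro ⟨w, rfl⟩ X' x s
      rw [key]
      exact (hc.2.2 X _).mp ⟨w ≫ p, by rw [Category.assoc, hI.w, ← Category.assoc]⟩ X' x s
    · intro hh
      obtain ⟨w, hw⟩ := (hc.2.2 X (h ≫ j)).mpr fun X' x s => (key X' x s).mp (hh X' x s)
      exact ⟨hI.lift w h hw, hI.lift_snd _ _ _⟩
  haveI : IsAffine H.left := isAffine_of_isAffineHom j.left
  haveI : IsSeparated H.hom := by
    haveI : IsAffineHom H.hom := isAffineHom_of_isAffine H.hom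
    infer_instance
  have hS' := S16611.multTypeFT_of_torus hS
  obtain ⟨F, f, hf, -, hF⟩ := H21Diag.exists_inv_locus (H21Diag.isDiagLoc_of_isMultTypeFT hS') a
  haveI := hf
  haveI : Mono f := (Over.forget _).mono_of_mono_map (show Mono f.left from inferInstance)
  obtain ⟨e, he⟩ := H21Fix.exists_iso_fixedLocus q f hq hF
  haveI : IsClosedImmersion q.left := by
    haveI : IsIso e.hom.left := ((Over.forget _).mapIso e).isIso_hom
    rw [← he]; exact inferInstanceAs (IsClosedImmersion (e.hom.left ≫ f.left))
  obtain ⟨n, eQ, hQ⟩ := H21Dyn.exists_split_algClosed S hS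
  haveI := hQ
  exact ⟨H21Fix.smooth_fixedLocus_multTypeFT hS' a q hq,
    H21Fix.connectedSpace_fixed_split eQ a hmul I q hq⟩

end Groth.Agent.S17100
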