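import Groth.Statements.S17110
import Groth.Agent.H27LogVan.Global
import Groth.Agent.H27LogVan.Affine
import Groth.Agent.H27CurveDiv.RelDim
import Groth.Agent.S17101

set_option backward.isDefEq.respectTransparency false
set_option backward.isDefEq.respectTransparency.types false
set_option linter.style.haveILetI false

set_option autoImplicit false
universe u
open CategoryTheory CategoryTheory.Limits AlgebraicGeometry Opposite TopologicalSpace
open LogNCD

namespace Groth.Agent.S17110

/-- Let k be an algebraically closed field and X an irreducible proper smooth k-scheme of dimension n (a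
projective manifold: the ample module below makes X projective); let (Ω', d) be a universal
receptacle for the differentials of X over k, D_1, …, D_r quasi-coherent ideal sheaves forming a
strict normal crossing divisor D with pinned log module Ω¹(log D), and B = Σ μ_j D_j an effective
ample divisor with B_red = D: all μ_j ≥ 1 and an ample invertible O_X-module A is a tensor inverse
of ∏ 𝓘_{D_j}^{μ_j}. Let E be a finite locally free O_X-module with an integrable logarithmic
connection ∇ along D, K its logarithmic de Rham complex, and for each j let the residue ρ_j : E → E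
⊗ O_{D_j} of ∇ factor through the O_X-linear endomorphism R_j of E ⊗ O_{D_j}. Assume condition (*):
R_j − μ·id is an isomorphism for every j and every integer μ ≥ 1. Then the hypercohomology ℍ^l(X, K)
of the logarithmic de Rham complex vanishes for every l > n. -/
theorem result (k : Type u) [Field k] [IsAlgClosed k]
    (X : Scheme.{u}) [X.Over (Spec (CommRingCat.of k))] [IsProper (X ↘ Spec (CommRingCat.of k))]
    [Smooth (X ↘ Spec (CommRingCat.of k))] [IrreducibleSpace X] (n : ℕ) (hn : topologicalKrullDim X = n)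
    {Ω' : X.Modules} (d : OmegaSh.Der (X ↘ Spec (CommRingCat.of k)) Ω') (hd : OmegaSh.IsUniversal d)
    {r : ℕ} (D : Fin r → X.IdealSheafData) (hD : LogNCD.IsNCD D (X ↘ Spec (CommRingCat.of k))) (Λ : LogNCD.LogMod d D)
    (E : X.Modules) (hE : FlatMod.IsFinLocFree E)
    (nabla : Coh.toAb E ⟶ Coh.toAb (CohB1.tensorMod E Λ.L)) (hc : ConnSh.IsConn (LogNCD.der Λ) E nabla)
    (K : ConnSh.Cx (LogNCD.der Λ) E nabla) [HasDerivedCategory.{u} (Sheaf (Opens.grothendieckTopology X) AddCommGrpCat.{u})]
    (ρ : ∀ j : Fin r, E ⟶ CohB1.tensorMod E (ClSub.quotMod (D j))) (hρ : ∀ j, LogNCD.IsResidue Λ E nabla j (ρ j))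
    (R : ∀ j : Fin r, CohB1.tensorMod E (ClSub.quotMod (D j)) ⟶ CohB1.tensorMod E (ClSub.quotMod (D j)))
    (hR : ∀ j, (SecTwist.unitorR E).inv ≫ KoszTw.tensorMap (𝟙 E) (ClSub.toSubscheme (D j)) ≫ R j = ρ j)
    (hstar : ∀ (j : Fin r) (m : ℕ), 1 ≤ m → IsIso (R j - m • 𝟙 (CohB1.tensorMod E (ClSub.quotMod (D j)))))
    (μ : Fin r → ℕ) (hμ : ∀ j, 1 ≤ μ j) (A : X.Modules) (hA : CohB1.IsAmple A)
    (hAB : ClSub.IsInverseOf A (ClSub.idealMod (∏ j, D j ^ μ j)))
    (l : ℤ) (hl : (n : ℤ) < l) :
    Subsingleton (ConnSh.HdR K l) := by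
  classical
  haveI := H27CurveDiv.smoothOfRelativeDimension_of_dim (X ↘ Spec (CommRingCat.of k)) n hn
  have hL := S17101.result (X ↘ Spec (CommRingCat.of k)) n d hd D hD Λ
  haveI : CompactSpace X := QuasiCompact.compactSpace_of_compactSpace (X ↘ Spec (CommRingCat.of k))
  haveI : X.IsSeparated := ⟨by rw [← terminal.comp_from (X ↘ Spec (CommRingCat.of k))]; infer_instance⟩
  have hEq : E.IsQuasicoherent := H8Props.FinLocFree.isQCoh_of_isFinLocFree _ hE
  have hst : ∀ i (j : ℕ), 1 ≤ j → ∀ (U : X.Opens), IsAffineOpen U → ∀ m : Γ(E, U), ∃ m' : Γ(E, U),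
      (ρ i).app U m' - (j : Γ(X, U)) • H27LogTwist.pimap (D := D) E i U m' = H27LogTwist.pimap (D := D) E i U m :=
    fun i j hj U hU m => H27LogVan.exists_preimage_residue hEq i (ρ i) (R i) (hR i) j (hstar i j hj) hU m
  obtain ⟨V, hV⟩ : ∃ V : X.Opens, (V : Set X) = (⋃ i, ((D i).support : Set X))ᶜ :=
    ⟨⟨_, (isClosed_iUnion_of_finite fun i => (D i).support.isClosed).isOpen_compl⟩, rfl⟩
  have hVa : IsAffineOpen V := H27LogVan.isAffineOpen_compl (X ↘ Spec (CommRingCat.of k)) D (fun x => by
      obtain ⟨U, g, dl, hx, -, hc⟩ := H27LogTwist.exists_chart_near hd hD Λ hE ⊤ x trivial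
      exact ⟨⟨U, hc.frame.affine⟩, g, hx, hc.frame.ideal⟩) μ hμ A hA hAB V hV
  haveI := H27LogVan.subsingleton_HdRU_affine K hd hD hE hL hVa hl
  have key : ∀ (W : X.Opens) (h : W ≤ ⊤), W = ⊤ ⊓ V →
      Function.Bijective (CohCx.HDUres (DerivedCategory.Q.obj K.KZ) l (homOfLE h)) := by
    rintro W h rfl
    exact H27LogVan.resBij_top K hd ρ hρ hst hD hE V hV l
  exact (key V le_top (top_inf_eq V).symm).1.subsingleton

end Groth.Agent.S17110
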