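import Groth.Statements.S17111
import Groth.Agent.H27LogVan.Low
import Groth.Agent.H27LogVan.Global
import Groth.Agent.H26Hyper.Basic
import Groth.Agent.H27CurveDiv.RelDim
import Groth.Agent.S17101

set_option backward.isDefEq.respectTransparency false
set_option backward.isDefEq.respectTransparency.types false
set_option linter.style.haveILetI false

set_option autoImplicit false
universe u
open CategoryTheory CategoryTheory.Limits AlgebraicGeometry Opposite TopologicalSpace
open LogNCD

namespace Groth.Agent.S17111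

/-- Let k be an algebraically closed field and X an irreducible proper smooth k-scheme of dimension n (a
projective manifold: the ample module below makes X projective); let (Ω', d) be a universal
receptacle for the differentials of X over k, D_1, …, D_r quasi-coherent ideal sheaves forming a
strict normal crossing divisor D with pinned log module Ω¹(log D), and B = Σ μ_j D_j an effective
ample divisor with B_red = D: all μ_j ≥ 1 and an ample invertible O_X-module A is a tensor inverse
of ∏ 𝓘_{D_j}^{μ_j}. Let E be a finite locally free O_X-module with an integrable logarithmic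
connection ∇ along D, K its logarithmic de Rham complex, and for each j let the residue ρ_j : E → E
⊗ O_{D_j} of ∇ factor through the O_X-linear endomorphism R_j of E ⊗ O_{D_j}. Assume condition (!):
R_j + μ·id is an isomorphism for every j and every natural number μ. Then the hypercohomology ℍ^l(X,
K) of the logarithmic de Rham complex vanishes for every integer l < n. -/
theorem result (k : Type u) [Field k] [IsAlgClosed k]
    (X : Scheme.{u}) [X.Over (Spec (CommRingCat.of k))] [IsProper (X ↘ Spec (CommRingCat.of k))]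
    [Smooth (X ↘ Spec (CommRingCat.of k))] [IrreducibleSpace X] (n : ℕ) (hn : topologicalKrullDim X = n)
    {Ω' : X.Modules} (d : OmegaSh.Der (X ↘ Spec (CommRingCat.of k)) Ω') (hd : OmegaSh.IsUniversal d)
    {r : ℕ} (D : Fin r → X.IdealSheafData) (hD : LogNCD.IsNCD D (X ↘ Spec (CommRingCat.of k))) (Λ : LogNCD.LogMod d D)
    (E : X.Modules) (hE : FlatMod.IsFinLocFree E)
    (nabla : Coh.toAb E ⟶ Coh.toAb (CohB1.tensorMod E Λ.L)) (hc : ConnSh.IsConn (LogNCD.der Λ) E nabla)
    (K : ConnSh.Cx (LogNCD.der Λ) E nabla) [HasDerivedCategory.{u} (Sheaf (Opens.grothendieckTopology X) AddCommGrpCat.{u})]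
    (ρ : ∀ j : Fin r, E ⟶ CohB1.tensorMod E (ClSub.quotMod (D j))) (hρ : ∀ j, LogNCD.IsResidue Λ E nabla j (ρ j))
    (R : ∀ j : Fin r, CohB1.tensorMod E (ClSub.quotMod (D j)) ⟶ CohB1.tensorMod E (ClSub.quotMod (D j)))
    (hR : ∀ j, (SecTwist.unitorR E).inv ≫ KoszTw.tensorMap (𝟙 E) (ClSub.toSubscheme (D j)) ≫ R j = ρ j)
    (hbang : ∀ (j : Fin r) (m : ℕ), IsIso (R j + m • 𝟙 (CohB1.tensorMod E (ClSub.quotMod (D j)))))
    (μ : Fin r → ℕ) (hμ : ∀ j, 1 ≤ μ j) (A : X.Modules) (hA : CohB1.IsAmple A)
    (hAB : ClSub.IsInverseOf A (ClSub.idealMod (∏ j, D j ^ μ j)))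
    (l : ℤ) (hl : l < (n : ℤ)) :
    Subsingleton (ConnSh.HdR K l) := by
  classical
  let f := X ↘ Spec (CommRingCat.of k)
  haveI := H27CurveDiv.smoothOfRelativeDimension_of_dim f n hn
  have hL := S17101.result f n d hd D hD Λ
  have hEq : E.IsQuasicoherent := H8Props.FinLocFree.isQCoh_of_isFinLocFree _ hE
  obtain ⟨eA⟩ := hAB
  have hs : H27LogVan.Setting Λ E μ :=
    ⟨hd, inferInstance, hD, hE, H17.InvertibleTensor.isInvertible_of_tensor_iso _ A (H10Coh.Tw.commIso _ _ ≪≫ eA)⟩
  have hterm : ∀ p, FlatMod.IsFinLocFree (K.term p) := H27LogVan.isFinLocFree_term K hd hD hE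
  have hbd : ∀ p : ℕ, ∃ m₀ : ℕ, ∀ m : ℕ, m₀ ≤ m → ∀ i < n, Subsingleton (Coh.HH X
      (CohB1.tensorMod (K.term p) (CohB1.tensorPow (ClSub.idealMod (∏ j, D j ^ μ j)) m)) i) := by
    intro p
    rcases Nat.eq_zero_or_pos n with rfl | hn0
    · exact ⟨0, fun m _ i hi => absurd hi (Nat.not_lt_zero i)⟩
    · obtain ⟨m₀, hm₀⟩ := H22Alg.ESZ.exists_bound_ample k hA (M := ClSub.idealMod (∏ j, D j ^ μ j)) ⟨eA⟩
        (H10Coh.Tw.isCoh_of_vb (hterm p)) (n - 1)
        fun x hx => lt_of_lt_of_le (by exact_mod_cast Nat.sub_one_lt (by omega))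
          (H27LogVan.depth_stalk_ge f n hn (hterm p) x hx)
      exact ⟨m₀, fun m hm i hi => hm₀ m hm i (by omega)⟩
  choose b hb using hbd
  let m := (Finset.range (n + 1)).sup b
  haveI : QuasiIso (H27LogVan.subι K m hs) := H27LogVan.quasiIso_subι K m hs ρ hρ
    fun i j U hU e => H27LogVan.exists_preimage_residue_add hEq i (ρ i) (R i) (hR i) j (hbang i j) hU e
  let K' := (H27LogVan.subK K m hs).extend ComplexShape.embeddingUpNat
  let φ : K' ⟶ K.KZ := HomologicalComplex.extendMap (H27LogVan.subι K m hs) _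
  haveI : QuasiIso φ := (HomologicalComplex.quasiIso_extendMap_iff _ ComplexShape.embeddingUpNat).2 inferInstance
  haveI : IsIso (DerivedCategory.Q.map φ) := inferInstance
  have hzero : ∀ p : ℕ, n < p → IsZero ((H27LogVan.subK K m hs).X p) := fun p hp => by
    haveI := H27LogVan.mono_fX K m hs p
    exact IsZero.of_mono (H27LogVan.fX μ K m p) ((H27LogVan.isZero_term K hE hL hp).of_iso (K.iso p))
  haveI h0 : Subsingleton (E1Deg.HT (CohCx.freeSheaf (Opens.grothendieckTopology X) ⊤) K' l) := by
    refine H26Hyper.subsingleton_HT K' 0 n l (fun i hi => ?_) (fun i hi => ?_) fun p q hp hpn hpq => ?_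
    · refine (H27LogVan.subK K m hs).isZero_extend_X _ i fun p hp => ?_
      rw [ComplexShape.embeddingUpNat_f] at hp
      omega
    · obtain ⟨p, rfl⟩ := Int.eq_ofNat_of_zero_le (by omega : 0 ≤ i)
      exact (hzero p (by omega)).of_iso ((H27LogVan.subK K m hs).extendXIso _ (ComplexShape.embeddingUpNat_f p))
    · obtain ⟨p, rfl⟩ := Int.eq_ofNat_of_zero_le hp
      exact ((E1Deg.extCongrRight _ ((H27LogVan.subK K m hs).extendXIso _ (ComplexShape.embeddingUpNat_f p)) q).trans
        (E1Deg.extCongrLeft (E1Deg.freeSheafIsoConstant (Opens.grothendieckTopology X)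
          (isTerminalTop : IsTerminal (⊤ : X.Opens))) _ q)).toEquiv.subsingleton_congr.2
        (hb p m (Finset.le_sup (Finset.mem_range.2 (by omega))) q (by omega))
  exact (((shiftFunctor (DerivedCategory (Sheaf (Opens.grothendieckTopology X) AddCommGrpCat.{u})) l).mapIso
    (asIso (DerivedCategory.Q.map φ))).homToEquiv).symm.subsingleton

end Groth.Agent.S17111
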