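import Groth.Statements.S17119
import Groth.Agent.H27LogNCD.Residue

set_option autoImplicit false
universe u
open CategoryTheory CategoryTheory.Limits AlgebraicGeometry
open LogNCD

namespace Groth.Agent.S17119

/-- Let f : X → S be smooth, (Ω', d) a universal receptacle for the differentials of X over S, D = (D_1,
…, D_r) a relative strict normal crossing divisor with pinned log module Ω¹(log D) and residues
res_j : Ω¹(log D) → O_{D_j}, E a finite locally free O_X-module and ∇ : E → E ⊗ Ω¹(log D) a
logarithmic connection along D (a map of abelian sheaves with the Leibniz rule). Then for every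
component D_i the residue of ∇ along D_i, the composite (1 ⊗ res_i) ∘ ∇ : E → E ⊗ O_{D_i}, is
O_X-linear, i.e. it is induced by an O_X-module morphism ρ, and ρ factors through the restriction
map E ≅ E ⊗ O_X → E ⊗ O_{D_i}: there is an O_X-linear endomorphism R of E ⊗ O_{D_i} whose composite
with the restriction is ρ (the residue as an endomorphism of E restricted to D_i). (Stated relative
to an arbitrary base; the published statement is over an algebraically closed field, with the module
as the right tensor factor.) -/
theorem result {X S : Scheme.{u}} (f : X ⟶ S) [Smooth f]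
    {Ω' : X.Modules} (d : OmegaSh.Der f Ω') (hd : OmegaSh.IsUniversal d)
    {r : ℕ} (D : Fin r → X.IdealSheafData) (hD : LogNCD.IsNCD D f) (Λ : LogNCD.LogMod d D)
    (E : X.Modules) (hE : FlatMod.IsFinLocFree E)
    (nabla : Coh.toAb E ⟶ Coh.toAb (CohB1.tensorMod E Λ.L)) (hc : ConnSh.IsConn (LogNCD.der Λ) E nabla)
    (i : Fin r) :
    ∃ ρ : E ⟶ CohB1.tensorMod E (ClSub.quotMod (D i)), LogNCD.IsResidue Λ E nabla i ρ ∧
      ∃ R : CohB1.tensorMod E (ClSub.quotMod (D i)) ⟶ CohB1.tensorMod E (ClSub.quotMod (D i)),
        (SecTwist.unitorR E).inv ≫ KoszTw.tensorMap (𝟙 E) (ClSub.toSubscheme (D i)) ≫ R = ρ := by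
  obtain ⟨ρ, hρ⟩ := Groth.Agent.H27LogNCD.exists_residue Λ E nabla hc i
  exact ⟨ρ, hρ, Groth.Agent.H27LogNCD.exists_factor E i ρ⟩

end Groth.Agent.S17119
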