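import Groth.Statements.S1712
import Groth.Agent.H4DR.Dualizing.Loci

set_option autoImplicit false
universe u
open CategoryTheory
attribute [local instance] HasDerivedCategory.standard
open Dual

namespace Groth.Agent.S1712

/-- Let A be a Noetherian local ring with a normalized dualizing complex ω, M a finite A-module and E^j
the A-module of maps M → ω[-j] in D(A). A prime p is in the support of one of E^0, …, E^i if and
only if the depth of M_p over A_p plus the dimension of A/p is at most i. -/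
theorem result (A : Type u) [CommRing A] [IsLocalRing A] [IsNoetherianRing A] (ω : Dual.D A) (hω : Dual.IsDualizing A ω) (hn : Dual.IsNormalized A ω) (M : Type u) [AddCommGroup M] [Module A M] [Module.Finite A M] (i : ℕ) (p : PrimeSpectrum A) : (∃ j : ℕ, j ≤ i ∧ p ∈ Module.support A (Dual.inD A M ⟶ ω⟦(-(j : ℤ))⟧)) ↔ ((LocCoh.depth (Localization.AtPrime p.asIdeal) (LocalizedModule p.asIdeal.primeCompl M) : ℕ∞) : WithBot ℕ∞) + ringKrullDim (A ⧸ p.asIdeal) ≤ (i : WithBot ℕ∞) := by
  by_cases hp : p ∈ Module.support A M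
  · obtain ⟨δ, D, hδ, hD, hle, h1, h2, hi⟩ := H4DR.Dualizing.exists_interval hω M p hp
    haveI : Nontrivial (A ⧸ p.asIdeal) := Ideal.Quotient.nontrivial_iff.2 p.2.ne_top
    obtain ⟨d, hd⟩ := H4Depth.exists_nat_supportDim_eq (R := A) (M := A ⧸ p.asIdeal)
    rw [Module.supportDim_quotient_eq_ringKrullDim] at hd
    have hdeg := H4DR.Dualizing.deg_normalized hω hn p hd
    rw [hδ, hd, show ((δ : ℕ∞) : WithBot ℕ∞) + (d : WithBot ℕ∞) = ((δ + d : ℕ) : WithBot ℕ∞) by push_cast; rfl,
      Nat.cast_le]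
    constructor
    · rintro ⟨j, hj, hpj⟩
      have := hi _ hpj
      omega
    · intro h
      refine ⟨δ + d, h, ?_⟩
      rw [hdeg] at h1
      rw [show (-((δ + d : ℕ) : ℤ)) = -(d : ℤ) - δ by omega]
      exact h1
  · haveI : Subsingleton (LocalizedModule p.asIdeal.primeCompl M) := Module.notMem_support_iff.1 hp
    refine iff_of_false (fun ⟨j, _, hj⟩ => hp (H4DR.Dualizing.support_ex_subset hω M _ hj)) ?_
    rw [show LocCoh.depth (Localization.AtPrime p.asIdeal) (LocalizedModule p.asIdeal.primeCompl M) = ⊤ from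
      H4Depth.idealDepth_eq_top (Subsingleton.elim _ _)]
    haveI : Nontrivial (A ⧸ p.asIdeal) := Ideal.Quotient.nontrivial_iff.2 p.2.ne_top
    obtain ⟨d, hd⟩ := H4Depth.exists_nat_supportDim_eq (R := A) (M := A ⧸ p.asIdeal)
    rw [Module.supportDim_quotient_eq_ringKrullDim] at hd
    rw [hd, show ((⊤ : ℕ∞) : WithBot ℕ∞) + (d : WithBot ℕ∞) = ((⊤ + (d : ℕ∞) : ℕ∞) : WithBot ℕ∞) from rfl, top_add]
    exact fun h => ENat.natCast_ne_top i (top_le_iff.1 (WithBot.coe_le_coe.1 h))

end Groth.Agent.S1712
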