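import Groth.Statements.S17142
import Groth.Agent.H26Isoc.Slope

set_option autoImplicit false
universe u v
open Isoc

namespace Groth.Agent.S17142

open Groth.Agent.H26Isoc

/-- Let k be a perfect field of characteristic p, a ∈ ℤ, W = W(k) with fraction field L, and (N, F) a
σ^a-F-isocrystal over k (N finite-dimensional over L, F a bijective σ^a-semilinear endomorphism).
Let M₁, M₂ be W-lattices in N and let o₁(n) = ord_{M₁}(F^n), o₂(n) = ord_{M₂}(F^n) for n ≥ 1
(largest r with F^n(M_i) ⊆ p^r M_i). If o₁(n)/n → lam₁ and o₂(n)/n → lam₂ then lam₁ = lam₂; so the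
limit defining the first Newton slope is independent of the chosen lattice. -/
theorem result (p : ℕ) [Fact p.Prime] (k : Type u) [Field k] [CharP k p] [PerfectRing k p] (a : ℤ)
    (N : Type v) [AddCommGroup N] [Module (WittVector p k) N] [Module (FractionRing (WittVector p k)) N]
    [IsScalarTower (WittVector p k) (FractionRing (WittVector p k)) N]
    (F : N →ₛₗ[Isoc.frob p k a] N) (hF : Isoc.IsIsoc F)
    (M₁ M₂ : Submodule (WittVector p k) N) (hM₁ : M₁.IsLattice (FractionRing (WittVector p k))) (hM₂ : M₂.IsLattice (FractionRing (WittVector p k)))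
    (o₁ o₂ : ℕ → ℤ) (ho₁ : ∀ n : ℕ, 1 ≤ n → Isoc.IsOrd M₁ F n (o₁ n))
    (ho₂ : ∀ n : ℕ, 1 ≤ n → Isoc.IsOrd M₂ F n (o₂ n)) (lam₁ lam₂ : ℝ)
    (h₁ : Filter.Tendsto (fun n : ℕ => (o₁ n : ℝ) / n) Filter.atTop (nhds lam₁))
    (h₂ : Filter.Tendsto (fun n : ℕ => (o₂ n : ℝ) / n) Filter.atTop (nhds lam₂)) :
    lam₁ = lam₂ := by
  exact le_antisymm (slope_le_of_lattices (pres_frob a) hM₁ hM₂ ho₁ ho₂ h₁ h₂)
    (slope_le_of_lattices (pres_frob a) hM₂ hM₁ ho₂ ho₁ h₂ h₁)

end Groth.Agent.S17142
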