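import Groth.Statements.S1715
import Groth.Agent.H4DR.Dualizing.Loci

set_option autoImplicit false
universe u
open CategoryTheory
attribute [local instance] HasDerivedCategory.standard
open LocCoh

namespace Groth.Agent.S1715

/-- For an affine scheme: let A be a Noetherian ring with a dualizing complex and M a finite A-module
satisfying Serre's condition (S_k). Then there are only finitely many primes p such that M_p has
depth exactly k while its support has dimension greater than k. (The source states this for coherent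
modules on a Noetherian scheme with a dualizing complex.) -/
theorem result (A : Type u) [CommRing A] [IsNoetherianRing A] (hA : ∃ ω : Dual.D A, Dual.IsDualizing A ω) (M : Type u) [AddCommGroup M] [Module A M] [Module.Finite A M] (k : ℕ) (hM : LocCoh.HasSk k A M) : Set.Finite {p : PrimeSpectrum A | LocCoh.depth (Localization.AtPrime p.asIdeal) (LocalizedModule p.asIdeal.primeCompl M) = k ∧ (k : WithBot ℕ∞) < Module.supportDim (Localization.AtPrime p.asIdeal) (LocalizedModule p.asIdeal.primeCompl M)} := by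
  classical
  obtain ⟨ω, hω⟩ := hA
  obtain ⟨a, b, hab⟩ := H4DR.Dualizing.exists_supEx_bounds hω M
  let I : ℤ → ℤ → Ideal A := fun i j =>
    Module.annihilator A (Dual.inD A M ⟶ ω⟦i⟧) ⊔ Module.annihilator A (Dual.inD A M ⟶ ω⟦j⟧)
  have hI : ∀ i j (q : PrimeSpectrum A), I i j ≤ q.asIdeal ↔
      q ∈ H4DR.Dualizing.supEx ω M i ∧ q ∈ H4DR.Dualizing.supEx ω M j := fun i j q => by
    haveI := H4DR.Dualizing.finite_ex_dualizing hω M i
    haveI := H4DR.Dualizing.finite_ex_dualizing hω M j
    rw [sup_le_iff, ← Module.mem_support_iff_of_finite, ← Module.mem_support_iff_of_finite]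
  have hfin : ((⋃ c ∈ (Finset.Icc a b ×ˢ Finset.Icc a b : Finset (ℤ × ℤ)), (I c.1 c.2).minimalPrimes) : Set (Ideal A)).Finite :=
    (Finset.finite_toSet _).biUnion fun c _ => (I c.1 c.2).finite_minimalPrimes_of_isNoetherianRing A
  refine Set.Finite.subset (hfin.preimage fun x _ y _ h => PrimeSpectrum.ext h) ?_
  rintro p ⟨hdp, hsd⟩
  have hp : p ∈ Module.support A M := by
    by_contra hp
    haveI := Module.notMem_support_iff.1 hp
    rw [Module.supportDim_eq_bot_of_subsingleton] at hsd
    exact not_lt_bot hsd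
  obtain ⟨δ, D, hδ, hD, hle, h1, h2, -⟩ := H4DR.Dualizing.exists_interval hω M p hp
  have hδk : δ = k := by exact_mod_cast hδ.symm.trans hdp
  subst hδk
  have hlt : δ < D := by
    have h3 : ((δ : ℕ) : WithBot ℕ∞) < (D : WithBot ℕ∞) := hD ▸ hsd
    exact_mod_cast h3
  have hi := hab _ ⟨p, h1⟩
  have hj := hab _ ⟨p, h2⟩
  refine Set.mem_iUnion₂.2 ⟨(H4DR.Dualizing.deg hω p - δ, H4DR.Dualizing.deg hω p - D),
    Finset.mem_product.2 ⟨Finset.mem_Icc.2 hi, Finset.mem_Icc.2 hj⟩, ⟨⟨p.2, (hI _ _ p).2 ⟨h1, h2⟩⟩, fun Q hQ hQp => ?_⟩⟩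
  obtain ⟨hQ1, hQ2⟩ := hQ
  let q : PrimeSpectrum A := ⟨Q, hQ1⟩
  by_contra hpq
  have hlt' : q < p := lt_of_le_of_ne hQp fun h => hpq (le_of_eq (congrArg PrimeSpectrum.asIdeal h).symm)
  obtain ⟨hq1, hq2⟩ := (hI _ _ q).1 hQ2
  obtain ⟨δq, Dq, hδq, hDq, hle', -, -, hiq⟩ :=
    H4DR.Dualizing.exists_interval hω M q (H4DR.Dualizing.support_ex_subset hω M _ hq1)
  have hdeg := H4DR.Dualizing.deg_lt hω hlt'
  have h4 := hiq _ hq1
  have h5 := hiq _ hq2
  have h6 := hM q.asIdeal
  rw [show Module.supportDim (Localization.AtPrime q.asIdeal) (LocalizedModule q.asIdeal.primeCompl M) = Dq from hDq,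
    show LocCoh.depth (Localization.AtPrime q.asIdeal) (LocalizedModule q.asIdeal.primeCompl M) = δq from hδq,
    min_le_iff] at h6
  rcases h6 with h6 | h6
  · have : δ ≤ δq := by exact_mod_cast h6
    omega
  · have : Dq ≤ δq := by exact_mod_cast h6
    omega

end Groth.Agent.S1715
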