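import Groth.Statements.S17153
import Groth.Agent.H26Isoc.Std

set_option autoImplicit false
universe u
open Isoc

namespace Groth.Agent.S17153

open Groth.Agent.H26Isoc

/-- Let k be a perfect field of characteristic p, W = W(k), L its fraction field, a ∈ ℤ, and λ = d/h
with h > 0 and gcd(d, h) = 1. The standard σ^a-F-isocrystal N_λ of slope λ — the space L^h with the
σ^a-semilinear F determined by F e_i = e_{i+1} (i + 1 < h) and F e_{h−1} = p^d · e_0 — is a simple
isocrystal: an L-subspace of L^h carried into itself by F is either 0 or everything. (The source
introduces N_λ for a ≠ 0 only; the simplicity argument, via sub-isocrystals of an isoclinic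
isocrystal having the same slope, does not use that restriction, and the statement is made for all
a.) -/
theorem result (p : ℕ) [Fact p.Prime] (k : Type u) [Field k] [CharP k p] [PerfectRing k p]
    (a : ℤ) (d : ℤ) (h : ℕ) (hh : 0 < h) (hdh : Int.gcd d h = 1)
    (P : Submodule (FractionRing (WittVector p k)) (Fin h → (FractionRing (WittVector p k))))
    (hP : ∀ x ∈ P, Isoc.stdIsoc (Isoc.frob p k a) d h x ∈ P) : P = ⊥ ∨ P = ⊤ := by
  exact stdIsoc_simple (pres_frob a) hh hdh P hP

end Groth.Agent.S17153
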