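import Groth.Statements.S17155
import Groth.Agent.H26Isoc.DM

set_option autoImplicit false
universe u v
open Isoc

namespace Groth.Agent.S17155

open Groth.Agent.H26Isoc

/-- Let k be an algebraically closed field of characteristic p, a ∈ ℤ with a ≠ 0, and (N, F) a
σ^a-F-isocrystal over k. Then (N, F) is isomorphic to a finite direct sum of standard isocrystals
N_λ (λ = d/h in lowest terms, h > 0; N_λ is L^h with F e_j = e_{j+1} for j + 1 < h and F e_{h−1} =
p^d · e_0): there are t ∈ ℕ, integers d_i and natural numbers h_i > 0 with gcd(d_i, h_i) = 1 (i <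
t), and an L-linear isomorphism e from N to the product of the spaces L^{h_i} such that e ∘ F is the
product of the standard Frobenii composed with e. Moreover, for every μ ∈ ℚ, the sum of the h_i over
those i with d_i/h_i = μ equals the multiplicity m_μ of μ as a Newton slope of (N, F), i.e. the
L-dimension of the slope-μ part of N; so N_λ occurs m_λ/h(λ) times. (Both a ≠ 0 and k algebraically
closed are needed.) -/
theorem result (p : ℕ) [Fact p.Prime] (k : Type u) [Field k] [CharP k p] [PerfectRing k p] [IsAlgClosed k]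
    (a : ℤ) (ha : a ≠ 0)
    (N : Type v) [AddCommGroup N] [Module (WittVector p k) N] [Module (FractionRing (WittVector p k)) N]
    [IsScalarTower (WittVector p k) (FractionRing (WittVector p k)) N]
    (F : N →ₛₗ[Isoc.frob p k a] N) (hF : Isoc.IsIsoc F) :
    ∃ (t : ℕ) (d : Fin t → ℤ) (h : Fin t → ℕ)
      (e : N ≃ₗ[(FractionRing (WittVector p k))] ((i : Fin t) → (Fin (h i) → (FractionRing (WittVector p k))))),
      (∀ i, 0 < h i ∧ Int.gcd (d i) (h i) = 1) ∧
      (∀ (x : N) (i : Fin t), e (F x) i = Isoc.stdIsoc (Isoc.frob p k a) (d i) (h i) (e x i)) ∧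
      ∀ μ : ℚ, Isoc.newtonMult F μ = ∑ i : Fin t, (if ((d i : ℚ) / (h i : ℚ)) = μ then h i else 0) := by
  classical
  have hτ := pres_frob (p := p) (k := k) a
  obtain ⟨t, d, h, φ, hinj, hrange, hgood, hφ⟩ := good_top a ha hF
  let e := (LinearEquiv.ofBijective φ ⟨hinj, LinearMap.range_eq_top.1 hrange⟩).symm
  have heφ : ∀ x, φ (e x) = x := fun x => e.symm_apply_apply x
  have hcomm : ∀ (x : N) (i : Fin t), e (F x) i = Isoc.stdIsoc (Isoc.frob p k a) (d i) (h i) (e x i) := by
    intro x i
    have h1 : φ (e (F x)) = φ (fun j => Isoc.stdIsoc (Isoc.frob p k a) (d j) (h j) (e x j)) := by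
      rw [heφ, hφ, heφ]
    exact congrFun (hinj h1) i
  refine ⟨t, d, h, e, hgood, hcomm, fun μ => ?_⟩
  have hproj : ∀ (i : Fin t), ((d i : ℚ) / (h i : ℚ)) ≠ μ → ∀ x ∈ Isoc.slopePart F μ, e x i = 0 := by
    intro i hi x hx
    have h0 := hom_vanish hτ (isIsoc_stdIsoc (d := d i) (h := h i) hτ).bijective.1
      (isoclOn_slopePart hτ hF μ) ((isIsoclinic_iff hτ).1 (isIsoclinic_stdIsoc (d := d i) hτ (hgood i).1))
      (LinearMap.proj (R := FractionRing (WittVector p k))
        (φ := fun j : Fin t => Fin (h j) → FractionRing (WittVector p k)) i ∘ₗ e.toLinearMap)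
      (fun y => hcomm y i) le_top (Ne.symm hi)
    exact (Submodule.eq_bot_iff _).1 h0 _ ⟨x, hx, rfl⟩
  have hincl : ∀ (i : Fin t) (y : Fin (h i) → FractionRing (WittVector p k)),
      φ (Pi.single i y) ∈ Isoc.slopePart F ((d i : ℚ) / (h i : ℚ)) := by
    intro i y
    let ι := φ ∘ₗ LinearMap.single (FractionRing (WittVector p k))
      (fun j : Fin t => Fin (h j) → FractionRing (WittVector p k)) i
    have hι : ∀ z, ι (Isoc.stdIsoc (Isoc.frob p k a) (d i) (h i) z) = F (ι z) := by
      intro z
      show φ (Pi.single i _) = F (φ (Pi.single i z))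
      rw [← hφ]
      congr 1
      funext j
      rcases eq_or_ne j i with rfl | hne
      · rw [Pi.single_eq_same, Pi.single_eq_same]
      · rw [Pi.single_eq_of_ne hne, Pi.single_eq_of_ne hne, map_zero]
    have hst : ∀ x ∈ (⊤ : Submodule (FractionRing (WittVector p k)) _).map ι, F x ∈ (⊤ : Submodule (FractionRing (WittVector p k)) _).map ι := by
      rintro _ ⟨z, -, rfl⟩
      exact ⟨_, Submodule.mem_top, hι z⟩
    exact le_slopePart hτ hst
      (((isIsoclinic_iff hτ).1 (isIsoclinic_stdIsoc hτ (hgood i).1)).map hτ ι hι) ⟨y, Submodule.mem_top, rfl⟩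
  let S := {i : Fin t // ((d i : ℚ) / (h i : ℚ)) = μ}
  let χ : Isoc.slopePart F μ →ₗ[FractionRing (WittVector p k)] ((i : S) → (Fin (h i) → FractionRing (WittVector p k))) :=
    LinearMap.pi fun i => LinearMap.proj (R := FractionRing (WittVector p k))
      (φ := fun j : Fin t => Fin (h j) → FractionRing (WittVector p k)) i.1 ∘ₗ e.toLinearMap ∘ₗ
      (Isoc.slopePart F μ).subtype
  have hχ : Function.Bijective χ := by
    refine ⟨(injective_iff_map_eq_zero χ).2 fun x hx => Subtype.ext (e.injective ?_), fun y => ?_⟩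
    · rw [Submodule.coe_zero, map_zero]
      funext i
      by_cases hi : ((d i : ℚ) / (h i : ℚ)) = μ
      · exact congrFun hx ⟨i, hi⟩
      · exact hproj i hi x x.2
    · let z : (i : Fin t) → (Fin (h i) → FractionRing (WittVector p k)) := fun i =>
        if hi : ((d i : ℚ) / (h i : ℚ)) = μ then y ⟨i, hi⟩ else 0
      have hz : φ z ∈ Isoc.slopePart F μ := by
        rw [← Finset.univ_sum_single z, map_sum]
        refine Submodule.sum_mem _ fun i _ => ?_
        by_cases hi : ((d i : ℚ) / (h i : ℚ)) = μ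
        · exact hi ▸ hincl i (z i)
        · simp only [z, dif_neg hi, Pi.single_zero, map_zero]
          exact zero_mem _
      refine ⟨⟨φ z, hz⟩, funext fun i => ?_⟩
      show e (φ z) i.1 = y i
      have he : e (φ z) = z := hinj (heφ _)
      rw [he]
      simp only [z]
      rw [dif_pos i.2]
  rw [Isoc.newtonMult, (LinearEquiv.ofBijective χ hχ).finrank_eq, Module.finrank_pi_fintype]
  simp only [Module.finrank_fin_fun]
  rw [← Finset.sum_filter]
  exact (Finset.sum_subtype (Finset.univ.filter fun i : Fin t => ((d i : ℚ) / (h i : ℚ)) = μ)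
    (fun i => by simp) h).symm

end Groth.Agent.S17155
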