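import Groth.Statements.S17156
import Groth.Agent.H26Isoc.Charpoly

set_option autoImplicit false
universe u v w
open scoped Classical
open Isoc

namespace Groth.Agent.S17156

open Groth.Agent.H26Isoc

/-- Let k be a finite field with q = p^m elements, W = W(k) with fraction field L, a ∈ ℤ, and (N, F) a
σ^a-F-isocrystal over k. Then π := F^m is L-linear; let π be given as an L-linear endomorphism of N
agreeing with F^m pointwise, with characteristic polynomial f (monic of degree the height). Let Ω be
an algebraically closed field containing L, with the W-algebra structure through L. Each Newton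
slope of (N, F), counted with multiplicity, equals ord(α)/ord(q) for the corresponding root α of f
in Ω; here this is stated as: for every μ ∈ ℚ, written num/den in lowest terms, the multiplicity m_μ
of μ as a Newton slope (the L-dimension of the slope-μ part of N) equals the number of roots α of f
in Ω, counted with multiplicity, such that α^den · p^(−num·m) is a unit of the integral closure of W
in Ω (it and its inverse are integral over W) — which says ord(α) = μ · m for the valuation on Ω ⊇ L
normalised by ord(p) = 1, the ring W being a complete discrete valuation ring. -/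
theorem result
    (p : ℕ) [Fact p.Prime] (k : Type u) [Field k] [CharP k p] [PerfectRing k p] [Fintype k]
    (m : ℕ) (hk : Fintype.card k = p ^ m) (a : ℤ)
    (N : Type v) [AddCommGroup N] [Module (WittVector p k) N] [Module (FractionRing (WittVector p k)) N]
    [IsScalarTower (WittVector p k) (FractionRing (WittVector p k)) N]
    [Module.Finite (FractionRing (WittVector p k)) N]
    (F : N →ₛₗ[Isoc.frob p k a] N) (hF : Isoc.IsIsoc F)
    (π : N →ₗ[(FractionRing (WittVector p k))] N) (hπ : ∀ x : N, π x = (⇑F)^[m] x)
    (Ω : Type w) [Field Ω] [IsAlgClosed Ω] [Algebra (WittVector p k) Ω] [Algebra (FractionRing (WittVector p k)) Ω]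
    [IsScalarTower (WittVector p k) (FractionRing (WittVector p k)) Ω] (μ : ℚ) :
    Isoc.newtonMult F μ =
      Multiset.countP
        (fun α : Ω => IsIntegral (WittVector p k) (α ^ μ.den * (algebraMap (FractionRing (WittVector p k)) Ω (p : (FractionRing (WittVector p k)))) ^ (-(μ.num * (m : ℤ))))
          ∧ IsIntegral (WittVector p k) (α ^ μ.den * (algebraMap (FractionRing (WittVector p k)) Ω (p : (FractionRing (WittVector p k)))) ^ (-(μ.num * (m : ℤ))))⁻¹)
        ((π.charpoly.map (algebraMap (FractionRing (WittVector p k)) Ω)).roots) := by
  classical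
  have hτ := pres_frob (p := p) (k := k) a
  have hm : 0 < m := by
    by_contra h0
    have h1 : 1 < Fintype.card k := Fintype.one_lt_card
    rw [hk, show m = 0 by omega, pow_zero] at h1
    omega
  let L := FractionRing (WittVector p k)
  let roots : ∀ X : Submodule L N, (∀ x ∈ X, π x ∈ X) → Multiset Ω := fun X hX =>
    (((π.restrict hX)).charpoly.map (algebraMap L Ω)).roots
  have hπst : ∀ X : Submodule L N, (∀ x ∈ X, F x ∈ X) → ∀ x ∈ X, π x ∈ X := fun X hX x hx => by
    rw [hπ]
    exact Set.MapsTo.iterate (s := (X : Set N)) (fun z hz => hX z hz) m hx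
  let P : Ω → Prop := fun α => HasVal (p := p) (k := k) Ω m μ α
  have hone : ∀ ν : ℚ, (roots (Isoc.slopePart F ν) (hπst _ (slopePart_stable F ν))).countP P =
      if ν = μ then Isoc.newtonMult F ν else 0 := by
    intro ν
    have hs := slopePart_stable F ν
    haveI := hF.finite
    have hmem : ∀ α ∈ roots (Isoc.slopePart F ν) (hπst _ hs), α ≠ 0 ∧ HasVal (p := p) (k := k) Ω m ν α := by
      intro α hα
      refine root_hasVal (F := F.restrict hs) hτ (isIsoc_restrict hτ hF hs) (π := π.restrict (hπst _ hs)) (fun x => ?_)
        ((isoclinic_restrict_iff hτ hs).2 (isoclOn_slopePart hτ hF ν)) hα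
      have hsc : Function.Semiconj (Subtype.val : Isoc.slopePart F ν → N) (F.restrict hs) F := fun _ => rfl
      exact Subtype.ext ((hπ x).trans ((hsc.iterate_right m).eq x).symm)
    split_ifs with hν
    · subst hν
      rw [Multiset.countP_eq_card.2 fun α hα => (hmem α hα).2, IsAlgClosed.card_roots_eq_natDegree,
        Polynomial.natDegree_map, LinearMap.charpoly_natDegree]
      rfl
    · rw [Multiset.countP_eq_zero]
      exact fun α hα hP => hν (hasVal_unique hm (hmem α hα).1 (hmem α hα).2 hP)
  have hsum : ∀ s : Finset ℚ, (roots (s.sup fun ν => Isoc.slopePart F ν) (hπst _ (biSup_stable F s))).countP P =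
      ∑ ν ∈ s, if ν = μ then Isoc.newtonMult F ν else 0 := by
    intro s
    induction s using Finset.induction_on with
    | empty =>
      rw [Finset.sum_empty, Multiset.countP_eq_zero]
      intro α hα
      exfalso
      haveI := hF.finite
      have h1 := Multiset.card_pos_iff_exists_mem.2 ⟨α, hα⟩
      rw [IsAlgClosed.card_roots_eq_natDegree, Polynomial.natDegree_map, LinearMap.charpoly_natDegree,
        Finset.sup_empty, finrank_bot] at h1
      omega
    | insert ν s hν ih =>
      haveI := hF.finite
      rw [Finset.sum_insert hν, ← ih, ← hone ν, ← Multiset.countP_add]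
      have hd := disjoint_finset hτ hF ν s hν
      have hsup : ∀ x ∈ Isoc.slopePart F ν ⊔ s.sup (fun ν => Isoc.slopePart F ν),
          π x ∈ Isoc.slopePart F ν ⊔ s.sup (fun ν => Isoc.slopePart F ν) := by
        have h := hπst _ (biSup_stable F (insert ν s))
        rwa [Finset.sup_insert] at h
      have h1 : roots ((insert ν s).sup fun ν => Isoc.slopePart F ν) (hπst _ (biSup_stable F (insert ν s))) =
          roots _ hsup := by
        simp only [roots]
        have : ∀ (X Y : Submodule L N) (hX : ∀ x ∈ X, π x ∈ X) (hY : ∀ x ∈ Y, π x ∈ Y), X = Y →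
            (π.restrict hX).charpoly = (π.restrict hY).charpoly := by
          rintro X Y hX hY rfl; rfl
        rw [this _ _ _ hsup Finset.sup_insert]
      rw [h1]
      congr 1
      simp only [roots]
      have h2 : π.restrict hsup = (supEquiv hd).conj
          ((π.restrict (hπst _ (slopePart_stable F ν))).prodMap (π.restrict (hπst _ (biSup_stable F s)))) := by
        refine LinearMap.ext fun y => ?_
        obtain ⟨x, rfl⟩ := (supEquiv hd).surjective y
        rw [LinearEquiv.conj_apply_apply, LinearEquiv.symm_apply_apply]
        refine Subtype.ext ?_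
        rw [LinearMap.coe_restrict_apply, supEquiv_apply, supEquiv_apply, map_add]
        rfl
      rw [h2, LinearEquiv.charpoly_conj, LinearMap.charpoly_prodMap, Polynomial.map_mul,
        Polynomial.roots_mul (mul_ne_zero (((LinearMap.charpoly_monic _).map _).ne_zero)
          (((LinearMap.charpoly_monic _).map _).ne_zero))]
  obtain ⟨s, hs0, hs⟩ := exists_support hτ hF
  have htop : roots (s.sup fun ν => Isoc.slopePart F ν) (hπst _ (biSup_stable F s)) =
      (π.charpoly.map (algebraMap L Ω)).roots := by
    have : ∀ (X : Submodule L N) (hX : ∀ x ∈ X, π x ∈ X), X = ⊤ → (π.restrict hX).charpoly = π.charpoly := by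
      rintro X hX rfl
      rw [← Submodule.topEquiv.charpoly_conj (π.restrict hX)]
      rfl
    simp only [roots]
    rw [this _ _ hs]
  have h := hsum s
  rw [htop, Finset.sum_ite_eq'] at h
  have hkey : Isoc.newtonMult F μ = if μ ∈ s then Isoc.newtonMult F μ else 0 := by
    split_ifs with hμ
    · rfl
    · rw [Isoc.newtonMult, hs0 μ hμ, finrank_bot]
  rw [hkey, ← h]
  exact Multiset.countP_congr rfl fun α _ => rfl

end Groth.Agent.S17156
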