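import Groth.Statements.S17157
import Groth.Agent.H26Isoc.FrobCard

set_option autoImplicit false
universe u
open Isoc

namespace Groth.Agent.S17157

open Groth.Agent.H26Isoc

/-- Let k be a finite field of characteristic p, W = W(k), L its fraction field with Frobenius σ, and
let U be the σ-semilinear endomorphism of L² = (Fin 2 → L) determined by U(e₀) = e₀ and U(e₁) = e₀ +
e₁ on the standard basis. Then (L², U) is an F-isocrystal in which the sub-isocrystal L · e₀ admits
no U-stable complementary L-subspace; in particular the category of F-isocrystals over a finite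
field is not semisimple. (Over an algebraically closed field a complement exists.) -/
theorem result
    (p : ℕ) [Fact p.Prime] (k : Type u) [Field k] [CharP k p] [PerfectRing k p] [Finite k]
    (U : (Fin 2 → (FractionRing (WittVector p k))) →ₛₗ[Isoc.frob p k 1] (Fin 2 → (FractionRing (WittVector p k))))
    (hU0 : U (Pi.single 0 1) = Pi.single 0 1)
    (hU1 : U (Pi.single 1 1) = Pi.single 0 1 + Pi.single 1 1)
    (Q : Submodule (FractionRing (WittVector p k)) (Fin 2 → (FractionRing (WittVector p k)))) (hQ : ∀ x ∈ Q, U x ∈ Q) :
    ¬ IsCompl (Submodule.span (FractionRing (WittVector p k)) {(Pi.single 0 1 : Fin 2 → (FractionRing (WittVector p k)))}) Q := by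
  haveI := Fintype.ofFinite k
  intro hc
  obtain ⟨v, hv, q, hq, hvq⟩ := Submodule.mem_sup.1
    (hc.sup_eq_top.ge (Submodule.mem_top (x := (Pi.single 1 1 : Fin 2 → FractionRing (WittVector p k)))))
  obtain ⟨c, rfl⟩ := Submodule.mem_span_singleton.1 hv
  have hq' : q = Pi.single 1 1 - c • Pi.single 0 1 := eq_sub_of_add_eq' hvq
  have hUq : U q = Pi.single 0 1 + Pi.single 1 1 - Isoc.frob p k 1 c • Pi.single 0 1 := by
    rw [hq', map_sub, map_smulₛₗ, hU0, hU1]
  have hd : U q - q ∈ Submodule.span (FractionRing (WittVector p k))
      {(Pi.single 0 1 : Fin 2 → FractionRing (WittVector p k))} := by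
    refine Submodule.mem_span_singleton.2 ⟨1 - Isoc.frob p k 1 c + c, ?_⟩
    rw [hUq, hq']
    funext i
    fin_cases i <;> simp
  have h0 : U q - q = 0 := (Submodule.disjoint_def.1 hc.disjoint) _ hd (Q.sub_mem (hQ q hq) hq)
  have hτ : Isoc.frob p k 1 c = c + 1 := by
    have := congrFun h0 0
    rw [hUq, hq'] at this
    simp at this
    linear_combination -this
  have hiter : ∀ j : ℕ, (Isoc.frob p k 1 ^ j) c = c + j := by
    intro j
    induction j with
    | zero => simp
    | succ j ih =>
      rw [pow_succ', RingHom.coe_mul, Function.comp_apply, ih, map_add, hτ, map_natCast]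
      push_cast; ring
  obtain ⟨m, -, hm⟩ := FiniteField.card k p
  have h1 := hiter m
  rw [frob_pow, frob_card_period p k (m := m) (by rw [Nat.card_eq_fintype_card, hm]) 1] at h1
  have h2 : ((m : ℕ) : FractionRing (WittVector p k)) = 0 := by
    have : c = c + ((m : ℕ) : FractionRing (WittVector p k)) := h1
    linear_combination -this
  haveI := charZero_witt p k
  haveI : CharZero (FractionRing (WittVector p k)) :=
    charZero_of_injective_algebraMap (IsFractionRing.injective (WittVector p k) _)
  exact m.ne_zero (Nat.cast_eq_zero.1 h2)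

end Groth.Agent.S17157
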