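import Groth.Statements.S17158
import Groth.Agent.H26Isoc.DetAdd

set_option autoImplicit false
universe u v
open Isoc

namespace Groth.Agent.S17158

open Groth.Agent.H26Isoc

/-- Let k be a perfect field of characteristic p, a ∈ ℤ, W = W(k) with fraction field L, and (N, F) a
σ^a-F-isocrystal over k of height h, with b an L-basis of N indexed by Fin h and d the p-adic order
of the determinant coefficient of F in b. Then the Newton polygon of (N, F) ends at the point (h,
d), the end point of the Hodge polygon of any lattice: the sum over all μ ∈ ℚ of μ · m_μ, where m_μ
is the multiplicity of μ as a Newton slope (the L-dimension of the slope-μ part of N, zero for all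
but finitely many μ), equals orddet(F) = d. (The comparison 'Newton polygon on or above the Hodge
polygon' of the same result is not stated here.) -/
theorem result (p : ℕ) [Fact p.Prime] (k : Type u) [Field k] [CharP k p] [PerfectRing k p] (a : ℤ)
    (N : Type v) [AddCommGroup N] [Module (WittVector p k) N] [Module (FractionRing (WittVector p k)) N]
    [IsScalarTower (WittVector p k) (FractionRing (WittVector p k)) N]
    (F : N →ₛₗ[Isoc.frob p k a] N) (hF : Isoc.IsIsoc F)
    (h : ℕ) (b : Module.Basis (Fin h) (FractionRing (WittVector p k)) N)
    (d : ℤ) (hd : Isoc.IsOrdP (Isoc.detCoeff b F) d) :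
    ∑ᶠ μ : ℚ, μ * (Isoc.newtonMult F μ : ℚ) = d := by
  exact finsum_slopes (pres_frob a) hF b hd

end Groth.Agent.S17158
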