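import Groth.Statements.S1716
import Groth.Agent.H4DR.Dualizing.Loci

set_option autoImplicit false
universe u
open CategoryTheory
attribute [local instance] HasDerivedCategory.standard
open Dual

namespace Groth.Agent.S1716

/-- Let A be a Noetherian ring with a dualizing complex and M a finite A-module. The set U of primes p
at which M_p is zero or a Cohen–Macaulay module is open in Spec A, and the primes of the support of
M at which M_p is Cohen–Macaulay are dense in the support of M. (The zero module is counted as
Cohen–Macaulay here.) -/
theorem result (A : Type u) [CommRing A] [IsNoetherianRing A] (hA : ∃ ω : Dual.D A, Dual.IsDualizing A ω) (M : Type u) [AddCommGroup M] [Module A M] [Module.Finite A M] : IsOpen {p : PrimeSpectrum A | Subsingleton (LocalizedModule p.asIdeal.primeCompl M) ∨ LocCoh.IsCohenMacaulayModule (Localization.AtPrime p.asIdeal) (LocalizedModule p.asIdeal.primeCompl M)} ∧ Module.support A M ⊆ closure ({p : PrimeSpectrum A | LocCoh.IsCohenMacaulayModule (Localization.AtPrime p.asIdeal) (LocalizedModule p.asIdeal.primeCompl M)} ∩ Module.support A M) := by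
  obtain ⟨ω, hω⟩ := hA
  exact ⟨H4DR.Dualizing.isOpen_cm_or_zero hω M, H4DR.Dualizing.support_subset_closure_cm hω M⟩

end Groth.Agent.S1716
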