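import Groth.Statements.S17171
import Mathlib

set_option autoImplicit false
open QSymFn

namespace Groth.Agent.S17171

theorem mapDomain_sum {α β : Type*} {ℓ : ℕ} (g : α → β) (i : Fin ℓ → α) (a : Fin ℓ → ℕ) :
    Finsupp.mapDomain g (∑ t : Fin ℓ, Finsupp.single (i t) (a t)) =
      ∑ t : Fin ℓ, Finsupp.single (g (i t)) (a t) := by
  rw [Finsupp.mapDomain_finsetSum]
  simp only [Finsupp.mapDomain_single]

theorem degree_mapDomain {α β : Type*} (g : α → β) (e : α →₀ ℕ) :
    (Finsupp.mapDomain g e).degree = e.degree := by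
  induction e using Finsupp.induction_linear with
  | zero => simp
  | add x y hx hy => simp [Finsupp.mapDomain_add, hx, hy]
  | single a b => simp

theorem exists_mono_expr {n : ℕ} (e : Fin n →₀ ℕ) :
    ∃ (ℓ : ℕ) (i : Fin ℓ → Fin n) (a : Fin ℓ → ℕ), StrictMono i ∧ (∀ t, 0 < a t) ∧
      e = ∑ t : Fin ℓ, Finsupp.single (i t) (a t) := by
  refine ⟨_, e.support.orderEmbOfFin rfl, fun t => e (e.support.orderEmbOfFin rfl t),
    (e.support.orderEmbOfFin rfl).strictMono, fun t => ?_, ?_⟩
  · exact Nat.pos_of_ne_zero (Finsupp.mem_support_iff.1 (Finset.orderEmbOfFin_mem _ _ t))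
  · conv_lhs => rw [← e.sum_single]
    rw [Finsupp.sum]
    refine (Finset.sum_bij (fun t _ => e.support.orderEmbOfFin rfl t) ?_ ?_ ?_ fun t _ => rfl).symm
    · exact fun t _ => Finset.orderEmbOfFin_mem _ _ t
    · exact fun t _ u _ h => (e.support.orderEmbOfFin rfl).injective h
    · intro b hb
      have : b ∈ Set.range (e.support.orderEmbOfFin rfl) := by
        rw [Finset.range_orderEmbOfFin]; exact hb
      obtain ⟨t, ht⟩ := this
      exact ⟨t, Finset.mem_univ t, ht⟩


/-- The ring QSym of quasisymmetric functions over ℤ, with its restriction maps to the polynomial rings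
in finitely many ordered variables, is the limit of the diagram S ↦ ℤ[α_s : s ∈ S] over finite
ordered sets S and order-preserving injections (an injection φ : S → T acting by α_t ↦ α_s when t =
φ s and α_t ↦ 0 otherwise), the limit being taken in graded rings. Stated here on degree-d
components, with the variables indexed by ℕ in place of the positive integers and the finite ordered
sets taken to be the Fin n: (a) if F is a formal power series over ℤ in variables indexed by ℕ which
is quasisymmetric (for strictly increasing i, j : Fin ℓ → ℕ and positive exponents a, the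
coefficients of ∏ x_{i t}^{a t} and ∏ x_{j t}^{a t} agree) and all of whose monomials have degree d,
then its restrictions to the initial segments Fin n ⊂ ℕ are compatible with every order embedding
Fin n ↪o Fin m; (b) every family of degree-d homogeneous polynomials f n ∈ ℤ[x_s : s ∈ Fin n],
compatible with all order embeddings Fin n ↪o Fin m in this sense, is the family of restrictions of
exactly one such quasisymmetric F of degree d. -/
theorem result (d : ℕ) :
    (∀ F : MvPowerSeries ℕ ℤ,
      (∀ (ℓ : ℕ) (i j : Fin ℓ → ℕ) (a : Fin ℓ → ℕ), StrictMono i → StrictMono j → (∀ t, 0 < a t) →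
        MvPowerSeries.coeff (∑ t : Fin ℓ, Finsupp.single (i t) (a t)) F =
          MvPowerSeries.coeff (∑ t : Fin ℓ, Finsupp.single (j t) (a t)) F) →
      (∀ e : ℕ →₀ ℕ, MvPowerSeries.coeff e F ≠ 0 → e.degree = d) →
      ∀ (n m : ℕ) (φ : Fin n ↪o Fin m) (e : Fin n →₀ ℕ),
        MvPowerSeries.coeff (Finsupp.mapDomain Fin.val e) F =
          MvPowerSeries.coeff (Finsupp.mapDomain Fin.val (Finsupp.mapDomain φ e)) F) ∧
    (∀ f : (n : ℕ) → MvPolynomial (Fin n) ℤ,
      (∀ n, (f n).IsHomogeneous d) →
      (∀ (n m : ℕ) (φ : Fin n ↪o Fin m) (e : Fin n →₀ ℕ),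
        MvPolynomial.coeff e (f n) = MvPolynomial.coeff (Finsupp.mapDomain φ e) (f m)) →
      ∃! F : MvPowerSeries ℕ ℤ,
        (∀ (ℓ : ℕ) (i j : Fin ℓ → ℕ) (a : Fin ℓ → ℕ), StrictMono i → StrictMono j → (∀ t, 0 < a t) →
          MvPowerSeries.coeff (∑ t : Fin ℓ, Finsupp.single (i t) (a t)) F =
            MvPowerSeries.coeff (∑ t : Fin ℓ, Finsupp.single (j t) (a t)) F) ∧
        (∀ e : ℕ →₀ ℕ, MvPowerSeries.coeff e F ≠ 0 → e.degree = d) ∧
        (∀ (n : ℕ) (e : Fin n →₀ ℕ),
          MvPowerSeries.coeff (Finsupp.mapDomain Fin.val e) F = MvPolynomial.coeff e (f n))) := by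
  constructor
  · intro F hq _ n m φ e
    obtain ⟨ℓ, i, a, hi, ha, he⟩ := exists_mono_expr e
    rw [he, mapDomain_sum, mapDomain_sum, mapDomain_sum]
    exact hq ℓ (fun t => (i t : ℕ)) (fun t => (φ (i t) : ℕ)) a (fun x y h => hi h)
      (fun x y h => φ.strictMono (hi h)) ha
  · intro f hhom hcomp
    let pre : ∀ (n : ℕ), (ℕ →₀ ℕ) → (Fin n →₀ ℕ) := fun n e => e.comapDomain Fin.val Fin.val_injective.injOn
    have hpre : ∀ (n : ℕ) (e : ℕ →₀ ℕ), (∀ x ∈ e.support, x < n) →
        Finsupp.mapDomain Fin.val (pre n e) = e := fun n e h =>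
      Finsupp.mapDomain_comapDomain _ Fin.val_injective _ fun x hx => ⟨⟨x, h x hx⟩, rfl⟩
    let B : (ℕ →₀ ℕ) → ℕ := fun e => e.support.sup id + 1
    have hB : ∀ e : ℕ →₀ ℕ, ∀ x ∈ e.support, x < B e := fun e x hx =>
      Nat.lt_succ_of_le (Finset.le_sup (f := id) hx)
    let F : MvPowerSeries ℕ ℤ := fun e => (f (B e)).coeff (pre (B e) e)
    have hF : ∀ e, MvPowerSeries.coeff e F = (f (B e)).coeff (pre (B e) e) := fun e => rfl
    have inj : ∀ n : ℕ, Function.Injective (Finsupp.mapDomain (M := ℕ) (Fin.val : Fin n → ℕ)) :=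
      fun n => Finsupp.mapDomain_injective Fin.val_injective
    have hres : ∀ (n : ℕ) (e : Fin n →₀ ℕ),
        MvPowerSeries.coeff (Finsupp.mapDomain Fin.val e) F = (f n).coeff e := by
      intro n e
      set E := Finsupp.mapDomain Fin.val e with hE
      rw [hF, hcomp (B E) (max (B E) n) (Fin.castLEOrderEmb (le_max_left _ _)),
        hcomp n (max (B E) n) (Fin.castLEOrderEmb (le_max_right _ _))]
      congr 1
      apply inj
      rw [← Finsupp.mapDomain_comp, ← Finsupp.mapDomain_comp]
      exact hpre _ E (hB E)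
    refine ⟨F, ⟨?_, ?_, hres⟩, ?_⟩
    · intro ℓ i j a hi hj _
      obtain ⟨N, hN⟩ : ∃ N, ∀ t, i t < N ∧ j t < N :=
        ⟨(Finset.univ.sup fun t => max (i t) (j t)) + 1, fun t => by
          have := Finset.le_sup (f := fun t => max (i t) (j t)) (Finset.mem_univ t)
          omega⟩
      have key : ∀ g : Fin ℓ → ℕ, StrictMono g → (∀ t, g t < N) →
          MvPowerSeries.coeff (∑ t : Fin ℓ, Finsupp.single (g t) (a t)) F =
            (f ℓ).coeff (∑ t : Fin ℓ, Finsupp.single t (a t)) := by
        intro g hg hlt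
        let φ : Fin ℓ ↪o Fin N := OrderEmbedding.ofStrictMono (fun t => ⟨g t, hlt t⟩) fun x y h => hg h
        rw [hcomp ℓ N φ, ← hres N, mapDomain_sum, mapDomain_sum]
        rfl
      rw [key i hi fun t => (hN t).1, key j hj fun t => (hN t).2]
    · intro e he
      rw [hF] at he
      have := hhom (B e) he
      rw [← hpre (B e) e (hB e), degree_mapDomain, Finsupp.degree_eq_weight_one]
      exact this
    · rintro G ⟨-, -, hG⟩
      refine MvPowerSeries.ext fun e => ?_
      rw [← hpre (B e) e (hB e), hG, hres]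

end Groth.Agent.S17171
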