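import Groth.Statements.S17175
import Mathlib.RepresentationTheory.Invariants
import Mathlib.RingTheory.Henselian
import Mathlib.RingTheory.LocalProperties.Reduced
import Mathlib.RingTheory.LocalRing.Pullback
import Mathlib.RingTheory.PowerSeries.NoZeroDivisors
import Mathlib.RingTheory.RegularLocalRing.Defs
import Mathlib.RingTheory.SimpleRing.Principal

set_option autoImplicit false
universe u
open CAlg

namespace Groth.Agent.S17175

open PowerSeries in
/-- Let k be a field, O₀ = k[[x, y]]/(xy) the complete local ring of a node and Õ₀ = k[[x]] × k[[y]] its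
normalization, O₀ being embedded in Õ₀ by h ↦ (h(x, 0), h(0, y)) as the subring of pairs with equal
constant coefficients. Regard Õ₀ as an O₀-module: it is the rank-one torsion-free O₀-module that is
not free. Then every O₀-linear endomorphism of this module is Õ₀-linear, i.e. it is multiplication
by a unique element of Õ₀; consequently its O₀-endomorphism ring is Õ₀ and its O₀-automorphism group
is the unit group of Õ₀. Here an O₀-linear endomorphism is an additive map of k[[X]] × k[[X]]
commuting with multiplication by every pair whose two constant coefficients agree. (The source works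
over an algebraically closed field; only the field structure is used.) -/
theorem result (k : Type u) [Field k]
    (φ : (k⟦X⟧ × k⟦X⟧) →+ (k⟦X⟧ × k⟦X⟧))
    (hφ : ∀ a s : k⟦X⟧ × k⟦X⟧, constantCoeff a.1 = constantCoeff a.2 → φ (a * s) = a * φ s) :
    ∃! b : k⟦X⟧ × k⟦X⟧, ∀ s : k⟦X⟧ × k⟦X⟧, φ s = b * s := by
  refine ⟨φ 1, fun s => ?_, fun b hb => by rw [hb 1, mul_one]⟩
  have h : ∀ e : k⟦X⟧ × k⟦X⟧, constantCoeff e.1 = 0 → constantCoeff e.2 = 0 → e * φ s = e * s * φ 1 := by
    intro e h1 h2
    rw [← hφ e s (by rw [h1, h2])]
    have := hφ (e * s) 1 (by simp [h1, h2])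
    rwa [mul_one] at this
  have e1 := congrArg Prod.fst (h (X, 0) (by simp) (by simp))
  have e2 := congrArg Prod.snd (h (0, X) (by simp) (by simp))
  simp only [Prod.fst_mul, Prod.snd_mul, mul_assoc] at e1 e2
  ext1
  · rw [Prod.fst_mul, mul_comm, mul_left_cancel₀ X_ne_zero e1]
  · rw [Prod.snd_mul, mul_comm, mul_left_cancel₀ X_ne_zero e2]

end Groth.Agent.S17175
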