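import Groth.Statements.S17176
import Mathlib.Tactic.LinearCombination
import Mathlib.Tactic.Linarith
import Mathlib.RingTheory.Coprime.Lemmas
import Mathlib.Algebra.Order.Ring.Int

set_option autoImplicit false
open Curves

namespace Groth.Agent.S17176

/-- Fix integers g ≥ 3 and d. For a complete subcurve Y of arithmetic genus g_Y of a nodal curve of
genus g, meeting the rest of the curve in k points, the lower extreme of the Basic Inequality for
line bundles of degree d is m = d(2g_Y - 2 + k)/(2g - 2) - k/2, which is an integer exactly when 2(g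
- 1) divides d(2g_Y - 2 + k) - k(g - 1). Then gcd(d - g + 1, 2g - 2) = 1 if and only if m is not an
integer for all integers g_Y, k with 0 < g_Y < g - 1, k ≥ 1 and k + 2g_Y - 2 < 2g - 2. (The row
makes explicit the bound 2g_Y - 2 + k < 2g - 2, which is automatic for subcurves of stable curves
and is satisfied by every subcurve to which the source applies the lemma; the source leaves the
ambient curve's class implicit.) -/
theorem result (g d : ℤ) (hg : 3 ≤ g) :
    Int.gcd (d - g + 1) (2 * g - 2) = 1 ↔
      ∀ gY k : ℤ, 0 < gY → gY < g - 1 → 1 ≤ k → k + 2 * gY - 2 < 2 * g - 2 →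
        ¬ (2 * (g - 1) ∣ d * (2 * gY - 2 + k) - k * (g - 1)) := by
  constructor
  · intro hgcd gY k hgY hgY' hk hlt hdvd
    have hco : IsCoprime (2 * (g - 1)) (d - g + 1) := by
      rw [Int.isCoprime_iff_gcd_eq_one, Int.gcd_comm, ← hgcd]; ring_nf
    have h2 : 2 * (g - 1) ∣ (d - g + 1) * (2 * gY - 2 + k) := by
      have : (d - g + 1) * (2 * gY - 2 + k) =
          (d * (2 * gY - 2 + k) - k * (g - 1)) - (2 * (g - 1)) * (gY - 1) := by ring
      rw [this]; exact dvd_sub hdvd (dvd_mul_right _ _)
    have h3 : 2 * (g - 1) ∣ (2 * gY - 2 + k) := hco.dvd_of_dvd_mul_left h2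
    have := Int.le_of_dvd (by omega) h3
    omega
  · intro h
    by_contra hne
    set G : ℤ := (Int.gcd (d - g + 1) (2 * g - 2) : ℤ) with hG
    obtain ⟨u, hu⟩ : G ∣ (d - g + 1) := Int.gcd_dvd_left _ _
    obtain ⟨v, hv⟩ : G ∣ (2 * g - 2) := Int.gcd_dvd_right _ _
    have hG0 : G ≠ 0 := by
      intro h0; rw [h0, zero_mul] at hv; omega
    have hGpos : 0 ≤ G := Int.natCast_nonneg _
    have hG2 : 2 ≤ G := by omega
    have hv0 : 0 < v := by nlinarith
    have hvlt : 2 * v ≤ 2 * g - 2 := by nlinarith
    have key : ∀ gY k : ℤ, 2 * gY - 2 + k = v →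
        2 * (g - 1) ∣ d * (2 * gY - 2 + k) - k * (g - 1) := by
      intro gY k e
      refine ⟨u + (gY - 1), ?_⟩
      rw [e]
      have : d = G * u + g - 1 := by linarith
      rw [this]
      linear_combination (u : ℤ) * (-hv) - (g - 1) * e
    exact h 1 v (by omega) (by omega) (by omega) (by omega) (key 1 v (by ring))

end Groth.Agent.S17176
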