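import Groth.Statements.S17177
import Groth.Agent.H29Normal.SplitStalk
import Groth.Agent.H02CA.Euler.Main
import Groth.Agent.H26Def.LiftExist
import Groth.Agent.H29Curve.GenusPush
import Groth.Agent.H23KS.DualSum
import Groth.Agent.H10Coh.SheafHom.Adj
import Groth.Agent.H17.FLI.ProjTop
import Groth.Agent.H17.PnExt.Main
import Groth.Agent.S11747
import Groth.Agent.H29RR.FiniteSupport
import Groth.Agent.H17.ConsModModels
import Groth.Agent.H11Ample.Converse
import Groth.Agent.H17.OmegaLocal

set_option autoImplicit false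
universe u
open CategoryTheory CategoryTheory.Limits AlgebraicGeometry
attribute [local instance] HasDerivedCategory.standard
open Curves

namespace Groth.Agent.S17177

theorem exists_retraction_pullback {X Y : Scheme.{u}} (i : X ⟶ Y) {S : ShortComplex Y.Modules} (hS : S.ShortExact)
    (h₃ : FlatMod.IsFinLocFree S.X₃) (x : X) :
    ∃ r : ((Scheme.Modules.pullback i).obj S.X₂).presheaf.stalk x →ₗ[X.presheaf.stalk x]
        ((Scheme.Modules.pullback i).obj S.X₁).presheaf.stalk x,
      ∀ v, r (H06Mod.stalkLin ((Scheme.Modules.pullback i).map S.f) x v) = v := by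
  haveI := H8Props.FinLocFree.free_stalk _ h₃ (i.base x)
  obtain ⟨s, hs⟩ := Module.projective_lifting_property (H06Mod.stalkLin S.g (i.base x)) LinearMap.id
    (H06Mod.stalk_surjective S hS (i.base x))
  have h01 : (Function.Injective (H06Mod.stalkLin S.f (i.base x)) ∧ ∃ l, H06Mod.stalkLin S.g (i.base x) ∘ₗ l = LinearMap.id) ↔
      (Function.Surjective (H06Mod.stalkLin S.g (i.base x)) ∧ ∃ l, l ∘ₗ H06Mod.stalkLin S.f (i.base x) = LinearMap.id) :=
    (Function.Exact.split_tfae' (H06Mod.stalk_exact S hS (i.base x))).out 0 1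
  obtain ⟨-, r, hr⟩ := h01.1 ⟨H06Mod.stalk_injective S hS (i.base x), s, hs⟩
  letI := H06Mod.stalkAlgebra i x
  refine ⟨(H06Mod.pullStalkEquiv i S.X₁ x).toLinearMap ∘ₗ r.baseChange (X.presheaf.stalk x) ∘ₗ
    (H06Mod.pullStalkEquiv i S.X₂ x).symm.toLinearMap, fun v => ?_⟩
  obtain ⟨t, rfl⟩ := (H06Mod.pullStalkEquiv i S.X₁ x).surjective v
  rw [H29Omega.stalkLin_pullback_map, LinearMap.comp_apply, LinearMap.comp_apply]
  simp only [LinearEquiv.coe_coe, LinearEquiv.symm_apply_apply]
  rw [← LinearMap.comp_apply, ← LinearMap.baseChange_comp, hr, LinearMap.baseChange_id, LinearMap.id_apply]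

theorem isCoh_conormal {Z P : Scheme.{u}} [IsLocallyNoetherian Z] [IsLocallyNoetherian P] (i : Z ⟶ P)
    [QuasiCompact i] : Coh.IsCoh (Omega.conormal i) := by
  haveI : Mono (ClSub.idealModι (Scheme.Hom.ker i)) := by unfold ClSub.idealModι; exact equalizer.ι_mono
  exact H17.ConsProp.isCoh_pullback _ (H10Coh.isCoh_of_mono (ClSub.idealModι _)
      (H17.OmegaLocal.isQuasicoherent_idealMod _) (H10Coh.isCoh_structureModule' _))



/-- Let k be an algebraically closed field, r ≥ 1, and X ⊆ P^r_k a closed subscheme, cut out by a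
quasi-coherent ideal sheaf I, which is a connected nodal curve: reduced, connected, of dimension
one, with at-worst-nodal singularities over k. Suppose H^1(X, O_X(1)) = 0, O_X(1) being the
pull-back of O(1). Let N = Hom_{O_X}(I/I², O_X) be the normal sheaf (the sheaf Hom, assumed to exist
as the right adjoint of tensoring with the conormal sheaf I/I²). Then H^1(X, N) = 0. (In the paper X
is a curve of degree d ≥ 20(g - 1) and genus g ≥ 3 whose Hilbert point is semistable, for which
H^1(X, O_X(1)) = 0 holds, and the vanishing is used to conclude that the Hilbert scheme is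
nonsingular of dimension r(r + 2) + 4g - 3 at the point of X; that deduction, through the
identification of the tangent space with H^0(X, N) and Riemann–Roch, is not part of this row.) -/
theorem result
    (k : Type u) [Field k] [IsAlgClosed k] (r : ℕ) (hr : 1 ≤ r)
    (I₀ : (CohB1.ProjSpace r k).IdealSheafData) [I₀.subscheme.Over (Spec (CommRingCat.of k))]
    (hX : I₀.subscheme ↘ Spec (CommRingCat.of k) = I₀.subschemeι ≫ (CohB1.ProjSpace r k ↘ Spec (CommRingCat.of k)))
    [IsReduced I₀.subscheme] [ConnectedSpace I₀.subscheme] (hdim : topologicalKrullDim I₀.subscheme = 1)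
    (hnod : Curv2.AtWorstNodal k I₀.subscheme)
    (h1 : Subsingleton (Coh.HH I₀.subscheme
      ((Scheme.Modules.pullback I₀.subschemeι).obj (Twist.twistProjSpace r k 1)) 1))
    [DCoh.HasSheafHom (Omega.conormal I₀.subschemeι)] :
    Subsingleton (Coh.HH I₀.subscheme
      ((DCoh.sheafHom (Omega.conormal I₀.subschemeι)).obj (Coh.structureModule I₀.subscheme)) 1) := by
  let P := CohB1.ProjSpace r k
  let i : I₀.subscheme ⟶ P := I₀.subschemeι
  let f : P ⟶ Spec (CommRingCat.of k) := CohB1.ProjSpace.toSpec r k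
  have hq : I₀.subscheme ↘ Spec (CommRingCat.of k) = i ≫ f := hX
  haveI : IsProper (I₀.subscheme ↘ Spec (CommRingCat.of k)) := by rw [hq]; infer_instance
  haveI : IsLocallyNoetherian P := LocallyOfFiniteType.isLocallyNoetherian f
  haveI := H29RR.isNoetherian_of_proper (k := k) (X := I₀.subscheme)
  obtain ⟨φ, hφ⟩ := H26Def.exists_isConormalDiff i (OmegaSh.dOmega f)
  let S := H02CA.Euler.eulerSeq r k
  have hS : S.ShortExact := H02CA.Euler.eulerSeq_shortExact r k
  let E := (Scheme.Modules.pullback i).obj S.X₂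
  let ψ : Omega.conormal i ⟶ E := φ ≫ (Scheme.Modules.pullback i).map S.f
  have hcoh : Coh.IsCoh (Omega.conormal i) := isCoh_conormal i
  let L : Fin (r + 1) → P.Modules := fun _ => Twist.twistProjSpace r k (-1)
  have hL : PicF.IsInvertible (Twist.twistProjSpace r k (-1)) := H22Alg.RegSheaf.isInvertible_twistProjSpace r k _
  have hcop : FlatMod.IsFinLocFree (∐ L) :=
    H17.FLI.isFinLocFree_of_rank (H17.FLI.isFinLocFreeOfRank_copies hL (r + 1))
  have hE : Coh.IsCoh E := H17.ConsProp.isCoh_pullback _ (H16Derived.KFlat.Stalk.isCoh_of_isFinLocFree hcop)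
  have hS₃ : FlatMod.IsFinLocFree S.X₃ :=
    H28Pinch.isFinLocFree_of_isInvertible (H22Alg.RegSheaf.isInvertible_twistProjSpace r k _)
  let η := RefFun.dualMap ψ
  have hdC : Coh.IsCoh (RefHull.dual (Omega.conormal i)) := H29Ref.isCoh_dual _ hcoh
  have hdE : Coh.IsCoh (RefHull.dual E) := H29Ref.isCoh_dual _ hE
  let U := (I₀.subscheme ↘ Spec (CommRingCat.of k)).smoothLocus
  have hsurjU : ∀ x ∈ U, Function.Surjective (H06Mod.stalkLin η x) := by
    intro x hx
    have hx' : ((i ≫ f).stalkMap x).hom.FormallySmooth := by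
      have hx2 : ((I₀.subscheme ↘ Spec (CommRingCat.of k)).stalkMap x).hom.FormallySmooth := hx
      revert hx2; generalize I₀.subscheme ↘ Spec (CommRingCat.of k) = q at hq; subst hq; exact id
    obtain ⟨r₁, hr₁⟩ := H29Normal.exists_retraction_conormalDiff i f
      (H17.PrinOmega.isUniversal_dOmega (f := f)) hφ x hx'
    obtain ⟨r₂, hr₂⟩ := exists_retraction_pullback i hS hS₃ x
    refine H29Normal.surjective_stalk_dualMap (H10Coh.isFP_of_isCoh _ hcoh) (H10Coh.isFP_of_isCoh _ hE) ψ x
      ⟨r₁ ∘ₗ r₂, fun v => ?_⟩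
    rw [H29Omega.stalkLin_comp]
    exact (congrArg r₁ (hr₂ _)).trans (hr₁ v)
  have hdim' : topologicalKrullDim (CohB1.support (cokernel η)) ≤ 0 := by
    refine le_trans (H29Curve.GenusPush.dim_mono ?_) (H29Curve.GenusPush.dim_compl_le_zero hdim.le U
      (I₀.subscheme ↘ Spec (CommRingCat.of k)).dense_smoothLocus_of_perfectField)
    intro x hx hxU
    exact hx (H10Coh.subsingleton_stalk_cokernel _ x (hsurjU x hxU))
  have hsurj := H29Curve.GenusPush.surjective_hhlin_one (k := k) hdim.le η
    (H10Coh.isCoh_cokernel _ hdE.1 hdC) hdim'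
  let M := (Scheme.Modules.pullback i).obj (Twist.twistProjSpace r k 1)
  have hinv : Nonempty (CohB1.tensorMod ((Scheme.Modules.pullback i).obj (Twist.twistProjSpace r k (-1))) M ≅
      Coh.structureModule I₀.subscheme) := by
    obtain ⟨e⟩ := H11Tilde.nonempty_twist_tensor_iso (CohB1.polyGrading r k) (H17.PnExt.degOne r k)
      (-1) 1 0 (by norm_num)
    obtain ⟨e0⟩ := H11Tilde.nonempty_twist_zero_iso (CohB1.polyGrading r k)
    exact ⟨(S11747.pullTensor i _ _).symm ≪≫ (Scheme.Modules.pullback i).mapIso (e ≪≫ e0) ≪≫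
      H16Derived.KFlat.Stalk.structurePullbackIso i⟩
  obtain ⟨e⟩ := hinv
  obtain ⟨d⟩ := H23KS.nonempty_dual_iso (H11Ample.isInvertible_pullback i hL) e
  haveI : Subsingleton (Coh.HH I₀.subscheme (∐ fun j : Fin (r + 1) =>
      RefHull.dual ((Scheme.Modules.pullback i).obj (L j))) 1) :=
    H17.PnExt.subsingleton_HH_sigma (k := k) _ 1 fun j => (H29RR.hhIso (k := k) d 1).toEquiv.subsingleton
  let eE : E ≅ ∐ fun j : Fin (r + 1) => (Scheme.Modules.pullback i).obj (L j) :=
    PreservesCoproduct.iso (Scheme.Modules.pullback i) L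
  haveI : Subsingleton (Coh.HH I₀.subscheme (RefHull.dual E) 1) :=
    (H29RR.hhIso (k := k) (RefFun.dualIso eE ≪≫ H23KS.dualSigma _) 1).toEquiv.subsingleton
  haveI : Subsingleton (Coh.HH I₀.subscheme (RefHull.dual (Omega.conormal i)) 1) := hsurj.subsingleton
  exact (H29RR.hhIso (k := k) (H10Coh.SheafHom.homShIso (Omega.conormal i) (Coh.structureModule I₀.subscheme)) 1).toEquiv.subsingleton

end Groth.Agent.S17177
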