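import Groth.Statements.S17178
import Groth.Agent.H17.AssPts
import Groth.Agent.H17.CohSub
import Groth.Agent.H10Coh.IntPush
import Groth.Agent.H25Par.FiniteSupport
import Groth.Agent.H06Mod.StalkFinite
import Groth.Agent.H17.GenericStalk

set_option autoImplicit false
universe u
open CategoryTheory CategoryTheory.Limits AlgebraicGeometry TopologicalSpace Opposite
open Curves

set_option linter.style.haveILetI false
set_option backward.isDefEq.respectTransparency.types false
set_option maxHeartbeats 800000

namespace Groth.Agent.S17178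

/-- On a space of dimension `≤ 1` a point with a proper generalization is closed. -/
theorem eq_of_specializes {X : Scheme.{u}}
    (hequi : ∀ Z ∈ irreducibleComponents (X : Type u), topologicalKrullDim Z = 1)
    {a b c : X} (hab : a ⤳ b) (hne : a ≠ b) (hbc : b ⤳ c) : b = c := by
  by_contra hne'
  obtain ⟨Z, hZ, hsub⟩ := exists_mem_irreducibleComponents_subset_of_isIrreducible (closure {a})
    isIrreducible_singleton.closure
  have ha : a ∈ Z := hsub (subset_closure rfl)
  have hb : b ∈ Z := hsub (specializes_iff_mem_closure.1 hab)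
  have hc : c ∈ Z := hsub (specializes_iff_mem_closure.1 (hab.trans hbc))
  have h1 := H10Coh.IntPush.pointClosed_lt (S := Z) (z := ⟨b, hb⟩) (z' := ⟨c, hc⟩) hbc
    fun h => hne' (congrArg Subtype.val h)
  have h2 := H10Coh.IntPush.pointClosed_lt (S := Z) (z := ⟨a, ha⟩) (z' := ⟨b, hb⟩) hab
    fun h => hne (congrArg Subtype.val h)
  have h3 := Order.LTSeries.length_le_krullDim
    (((RelSeries.singleton {(x, y) : IrreducibleCloseds Z × IrreducibleCloseds Z | x < y}
      (H10Coh.IntPush.pointClosed ⟨c, hc⟩)).snoc (H10Coh.IntPush.pointClosed ⟨b, hb⟩) h1).snoc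
      (H10Coh.IntPush.pointClosed ⟨a, ha⟩) (by rw [RelSeries.last_snoc]; exact h2))
  exact absurd (h3.trans (hZ |> hequi Z).le) (by simp)

/-- A non-zero module which is pure of dimension one has no section supported at a closed point. -/
theorem germ_eq_zero_of_pure {X : Scheme.{u}} [IsLocallyNoetherian X] {J : X.Modules} (hJ : Coh.IsCoh J)
    (hp : ShStab.IsPure X J 1) {z : X} (hz : IsClosed ({z} : Set X)) {V : X.Opens} (hzV : z ∈ V) (s : Γ(J, V))
    (hs : ∀ w (hw : w ∈ V), w ≠ z → J.presheaf.germ V w hw s = 0) : J.presheaf.germ V z hzV s = 0 := by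
  let Jsh : TopCat.Sheaf Ab.{u} X := ⟨J.presheaf, J.isSheaf⟩
  let W : X.Opens := ⟨({z} : Set X)ᶜ, hz.isOpen_compl⟩
  let B : ULift.{u} Bool → X.Opens := fun b => if b.down then V else W
  let t : ∀ b, J.presheaf.obj (op (B b)) := fun b =>
    if hb : b.down = true then J.presheaf.map (homOfLE (show B b ≤ V by simp [B, hb])).op s else 0
  have hcmp : TopCat.Presheaf.IsCompatible J.presheaf B t := by
    intro a b
    refine TopCat.Presheaf.section_ext Jsh _ _ _ fun w hw => ?_
    change J.presheaf.germ _ w hw _ = J.presheaf.germ _ w hw _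
    rw [TopCat.Presheaf.germ_res_apply, TopCat.Presheaf.germ_res_apply]
    obtain ⟨ha, hb⟩ := hw
    have hzero : ∀ (c : ULift.{u} Bool) (hc : w ∈ B c), w ≠ z → J.presheaf.germ (B c) w hc (t c) = 0 := by
      intro c hc hwz
      simp only [t]
      split
      · rename_i hd
        rw [TopCat.Presheaf.germ_res_apply]
        exact hs w _ hwz
      · exact map_zero _
    by_cases hwz : w = z
    · have key : ∀ c : ULift.{u} Bool, w ∈ B c → c.down = true := fun c hc => by
        by_contra h
        simp only [B, h] at hc
        exact hc hwz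
      obtain rfl : a = b := ULift.ext _ _ ((key a ha).trans (key b hb).symm)
      rfl
    · rw [hzero a ha hwz, hzero b hb hwz]
  obtain ⟨g, hg, -⟩ := TopCat.Sheaf.existsUnique_gluing' Jsh B ⊤ (fun b => homOfLE le_top)
    (fun w _ => by
      by_cases hwz : w = z
      · exact Opens.mem_iSup.2 ⟨⟨true⟩, by simp only [B]; exact hwz ▸ hzV⟩
      · exact Opens.mem_iSup.2 ⟨⟨false⟩, by simp only [B]; exact hwz⟩) t hcmp
  have hgz : J.presheaf.germ ⊤ z trivial g = J.presheaf.germ V z hzV s := by
    have h1 := congrArg (J.presheaf.germ (B ⟨true⟩) z hzV) (hg ⟨true⟩)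
    erw [TopCat.Presheaf.germ_res_apply] at h1
    refine h1.trans ?_
    simp only [t, dite_true]
    exact TopCat.Presheaf.germ_res_apply _ _ _ _ _
  have hgw : ∀ w, w ≠ z → J.presheaf.germ ⊤ w trivial g = 0 := fun w hw => by
    have h1 := congrArg (J.presheaf.germ (B ⟨false⟩) w hw) (hg ⟨false⟩)
    erw [TopCat.Presheaf.germ_res_apply] at h1
    refine h1.trans ?_
    simp only [t, Bool.false_eq_true, dite_false]
    exact map_zero _
  let φ : Coh.structureModule X ⟶ J := J.unitHomEquiv.symm (PresheafOfModules.sectionsMk
    (fun U => J.presheaf.map (homOfLE (le_top : U.unop ≤ ⊤)).op g) (fun U U' i => by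
      change J.presheaf.map i (J.presheaf.map _ g) = J.presheaf.map _ g
      rw [← ConcreteCategory.comp_apply, ← Functor.map_comp]
      rfl))
  have hφ : φ.app ⊤ (1 : Γ(X, ⊤)) = g := by
    have h := congr_arg (fun x : J.val.sections => x.1 (op (⊤ : X.Opens)))
      (J.unitHomEquiv.apply_symm_apply (PresheafOfModules.sectionsMk
        (fun U => J.presheaf.map (homOfLE (le_top : U.unop ≤ ⊤)).op g) (fun U U' i => by
          change J.presheaf.map i (J.presheaf.map _ g) = J.presheaf.map _ g
          rw [← ConcreteCategory.comp_apply, ← Functor.map_comp]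
          rfl)))
    refine h.trans ?_
    change J.presheaf.map (homOfLE le_rfl).op g = g
    rw [show (homOfLE le_rfl : (⊤ : X.Opens) ⟶ ⊤) = 𝟙 _ from rfl, op_id, CategoryTheory.Functor.map_id]
    rfl
  let I := Abelian.image φ
  have hI : Coh.IsCoh I :=
    H10Coh.isCoh_kernel (cokernel.π φ) hJ (H10Coh.isCoh_cokernel φ (H10Coh.isCoh_structureModule' X).1 hJ).1
  have hstalk : ∀ w, w ≠ z → Subsingleton (I.presheaf.stalk w) := fun w hw => by
    refine subsingleton_of_forall_eq 0 fun x => ?_
    obtain ⟨y, rfl⟩ := H06Mod.surjective_stalk_of_epi (Abelian.factorThruImage φ) w x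
    have hinj : Function.Injective (H06Mod.stalkLin (Abelian.image.ι φ) w) :=
      TopCat.Presheaf.stalkFunctor_map_injective_of_app_injective (f := (Abelian.image.ι φ).mapPresheaf)
        (fun U => H10Coh.injective_app_of_mono' (Abelian.image.ι φ) U) w
    apply hinj
    refine Eq.trans ?_ (map_zero _).symm
    obtain ⟨U, hwU, a, rfl⟩ := TopCat.Presheaf.exists_germ_eq (Coh.structureModule X).presheaf y
    change H06Mod.stalkLin (Abelian.image.ι φ) w (H06Mod.stalkLin (Abelian.factorThruImage φ) w _) = 0
    rw [H06Mod.stalkLin_germ, H06Mod.stalkLin_germ]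
    erw [show (Abelian.image.ι φ).app U ((Abelian.factorThruImage φ).app U a) = φ.app U a from
      congr(Scheme.Modules.Hom.app $(Abelian.image.fac φ) U a)]
    have ha : φ.app U a = (show Γ(X, U) from a) • J.presheaf.map (homOfLE (le_top : U ≤ ⊤)).op g := by
      conv_lhs => rw [show a = (show Γ(X, U) from a) • (show Γ(Coh.structureModule X, U) from (1 : Γ(X, U))) from
        (mul_one (show Γ(X, U) from a)).symm]
      rw [Scheme.Modules.Hom.app_smul]
      congr 1
      rw [← hφ]
      refine Eq.trans ?_ (H11Tilde.app_map_apply φ (le_top : U ≤ ⊤) (1 : Γ(X, ⊤)))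
      congr 1
      exact (map_one (X.presheaf.map (homOfLE (le_top : U ≤ ⊤)).op).hom).symm
    rw [ha, H17.AssPts.germ_smul', TopCat.Presheaf.germ_res_apply, hgw w hw, smul_zero]
  have hI0 : IsZero I := by
    by_contra h
    have hd := hp I (Abelian.image.ι φ) inferInstance hI h
    have hle : topologicalKrullDim (CohB1.support I) ≤ ((0 : ℕ) : WithBot ℕ∞) := by
      have hsub : CohB1.support I ⊆ {z} := fun w hw => by
        by_contra hwz
        exact hw (hstalk w hwz)
      haveI : QuasiSober (CohB1.support I) :=
        (H10Coh.isClosed_support I hI.2).isClosedEmbedding_subtypeVal.quasiSober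
      exact H10Coh.IntPush.dim_le_zero fun a b _ =>
        Subtype.ext ((Set.mem_singleton_iff.1 (hsub a.2)).trans (Set.mem_singleton_iff.1 (hsub b.2)).symm)
    rw [hd] at hle
    exact absurd hle (by simp)
  have hφ0 : φ = 0 := by
    rw [← Abelian.image.fac φ, hI0.eq_of_tgt (Abelian.factorThruImage φ) 0, zero_comp]
  rw [← hgz, ← hφ, hφ0]
  exact map_zero _

/-- Let k be an algebraically closed field and X a nodal curve over k: proper over k, reduced,
connected, every irreducible component of dimension one, with at-worst-nodal singularities. Let J be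
a coherent O_X-module which is pure of dimension one (every nonzero coherent submodule has
one-dimensional support), for instance a pure quotient with one-dimensional support of a rank-one
torsion-free sheaf. Let U be an open subset and f a function on U vanishing at every point of U
lying in the support Y of J. Then f acts as zero on J over U: for every x ∈ U the germ of f at x
annihilates the stalk J_x. In other words the ideal sheaf of the reduced subcurve Y annihilates J,
so J is an O_Y-module; this is the first assertion in the proof that every such quotient q : I → J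
of a rank-one torsion-free I factors through the torsion-free restriction of I to Y, the remaining
assertion (that the induced map is an isomorphism) not being part of this row. -/
theorem result
    (k : Type u) [Field k] [IsAlgClosed k] (X : Scheme.{u}) [X.Over (Spec (CommRingCat.of k))]
    [IsProper (X ↘ Spec (CommRingCat.of k))] [IsReduced X] [ConnectedSpace X]
    (hequi : ∀ Z ∈ irreducibleComponents (X : Type u), topologicalKrullDim Z = 1)
    (hX : Curv2.AtWorstNodal k X)
    (J : X.Modules) (hJc : Coh.IsCoh J) (hJp : ShStab.IsPure X J 1)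
    (U : X.Opens) (f : X.presheaf.obj (Opposite.op U))
    (hf : ∀ x : X, x ∈ U → x ∈ CohB1.support J → x ∉ X.basicOpen f)
    (x : X) (hx : x ∈ U) (t : J.presheaf.stalk x) :
    (X.presheaf.germ U x hx f) • t = 0 := by
  haveI : IsLocallyNoetherian X := LocallyOfFiniteType.isLocallyNoetherian (X ↘ Spec (CommRingCat.of k))
  obtain ⟨W, hxW, m, rfl⟩ := TopCat.Presheaf.exists_germ_eq J.presheaf t
  obtain ⟨V, hV, hxV, hVUW⟩ := exists_isAffineOpen_mem_and_subset (U := U ⊓ W) (x := x) ⟨hx, hxW⟩
  have hVU : V ≤ U := fun w hw => (hVUW hw).1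
  have hVW : V ≤ W := fun w hw => (hVUW hw).2
  let s : Γ(J, V) := X.presheaf.map (homOfLE hVU).op f • J.presheaf.map (homOfLE hVW).op m
  have hsg : ∀ w (hw : w ∈ V), J.presheaf.germ V w hw s =
      X.presheaf.germ U w (hVU hw) f • J.presheaf.germ W w (hVW hw) m := fun w hw => by
    rw [H17.AssPts.germ_smul', TopCat.Presheaf.germ_res_apply, TopCat.Presheaf.germ_res_apply]
  rw [← hsg x hxV]
  by_contra hne
  obtain ⟨z, hzV, hzA, -, hzne⟩ := H17.AssPts.exists_ass_specializes_of_germ J hJc.1 hV hxV hne
  have hsupp : z ∈ CohB1.support J := by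
    by_contra h
    haveI : Subsingleton (J.presheaf.stalk z) := not_not.1 h
    exact hzne (Subsingleton.elim _ _)
  -- the point is not generic
  obtain ⟨η, hηz, hηne⟩ : ∃ η, η ⤳ z ∧ η ≠ z := by
    by_contra hc
    push Not at hc
    have hgen : z ∈ genericPoints X :=
      H17.mem_genericPoints_iff.2 fun w hw => hc w hw
    have hf0 : X.presheaf.germ U z (hVU hzV) f = 0 := by
      by_contra h0
      letI := (H17.isField_stalk_generic X hgen inferInstance).toField
      exact hf z (hVU hzV) hsupp ((H17.AssPts.isUnit_germ_iff (hVU hzV) f).1 (IsUnit.mk0 _ h0))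
    exact hzne (by rw [hsg z hzV, hf0, zero_smul])
  have hzc : IsClosed ({z} : Set X) := by
    rw [← closure_subset_iff_isClosed]
    exact fun c hc => (eq_of_specializes hequi hηz hηne (specializes_iff_mem_closure.2 hc)).symm
  obtain ⟨V', hV', hzV', s', -, hne', hkill⟩ := H17.AssPts.exists_section_of_ass J hzA (O := ⊤) trivial
  refine hne' (germ_eq_zero_of_pure hJc hJp hzc hzV' s' fun w hw hwz => ?_)
  obtain ⟨a, hwa, -, n, hn⟩ := hkill w hw fun h => hwz (hzc.closure_eq.subset (specializes_iff_mem_closure.1 h))
  have h1 := congrArg (J.presheaf.germ V' w hw) hn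
  rw [H17.AssPts.germ_smul', map_zero, map_pow] at h1
  exact (((H17.AssPts.isUnit_germ_iff hw a).2 hwa).pow n).smul_eq_zero.1 h1

end Groth.Agent.S17178
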