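import Groth.Statements.S17180
import Groth.Agent.H28RR.HodgeIndex
import Groth.Agent.H28RR.Fibre
import Groth.Agent.H28Reg.Ample
import Groth.Agent.H28Vert.Symm
import Groth.Agent.H28Int.Curves
import Groth.Agent.H29Curve.Morphism
import Groth.Agent.H28RR.BlowPic

set_option autoImplicit false
universe u
open CategoryTheory CategoryTheory.Limits AlgebraicGeometry
open Groth.Agent
open Surf

namespace Groth.Agent.S17180

/-- Let k be a field, X an integral proper k-scheme of dimension 2 with regular local rings which is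
geometrically irreducible over k, C an integral proper smooth k-scheme of dimension 1, and f : X → C
a surjective k-morphism. Let L be an invertible O_X-module whose intersection number with every
vertical integral curve (a closed integral one-dimensional E ⊆ X sent by f to a single point) is 0,
and whose intersection number with some horizontal integral curve P (closed, integral,
one-dimensional, with f(P) not a single point) is 0. Then (L·L) ≤ 0, and if (L·L) = 0 then L is
numerically trivial: its intersection number with every closed integral curve of X is 0. Here (L·L)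
= χ(O_X) − 2χ(L) + χ(L ⊗ L) and the number with a curve Y is χ(O_Y) − χ(L ⊗ O_Y), both packaged as
FGA.intNum. (The published assertion is the positive-definiteness of the pairing −(D·D′) on classes
of divisors of degree 0 on the generic fibre modulo classes of fibre components, after tensoring
with the rationals; this row gives that content for divisor classes up to numerical equivalence,
which is what the printed argument establishes, and leaves aside the identification of the pairing
with a canonical height. The published setting also takes X to be the relatively minimal regular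
model, projective over k, of a smooth projective geometrically irreducible curve of positive genus
over the function field of C, with C projective and geometrically irreducible; this row keeps only
the hypotheses the printed argument uses.) -/
theorem result (k : Type u) [Field k]
    (X : Scheme.{u}) [X.Over (Spec (CommRingCat.of k))] [IsProper (X ↘ Spec (CommRingCat.of k))]
    [IsIntegral X] [GeometricallyIrreducible (X ↘ Spec (CommRingCat.of k))]
    (hreg : ∀ x : X, IsRegularLocalRing (X.presheaf.stalk x)) (hdim : topologicalKrullDim X = 2)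
    (C : Scheme.{u}) [C.Over (Spec (CommRingCat.of k))] [IsProper (C ↘ Spec (CommRingCat.of k))]
    [Smooth (C ↘ Spec (CommRingCat.of k))] [IsIntegral C] (hdimC : topologicalKrullDim C = 1)
    (f : X ⟶ C) [f.IsOver (Spec (CommRingCat.of k))] [Surjective f]
    (L : X.Modules) (hL : PicF.IsInvertible L)
    (hvert : ∀ (E : Scheme.{u}) (ι : E ⟶ X) [IsClosedImmersion ι] [IsIntegral E],
      topologicalKrullDim E = 1 → (Set.range (fun e : E => f (ι e))).Subsingleton →
      FGA.intNum k X 2 ![L] ((Coh.push ι).obj (Coh.structureModule E)) = 0)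
    (P : Scheme.{u}) (ιP : P ⟶ X) [IsClosedImmersion ιP] [IsIntegral P] (hP : topologicalKrullDim P = 1)
    (hPh : (Set.range (fun q : P => f (ιP q))).Nontrivial)
    (hLP : FGA.intNum k X 2 ![L] ((Coh.push ιP).obj (Coh.structureModule P)) = 0) :
    FGA.intNum k X 2 ![L, L] (Coh.structureModule X) ≤ 0 ∧
      (FGA.intNum k X 2 ![L, L] (Coh.structureModule X) = 0 →
        ∀ (Y : Scheme.{u}) (ι : Y ⟶ X) [IsClosedImmersion ι] [IsIntegral Y], topologicalKrullDim Y = 1 →
          FGA.intNum k X 2 ![L] ((Coh.push ι).obj (Coh.structureModule Y)) = 0) := by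
  classical
  let sk := Spec (CommRingCat.of k)
  haveI := H28Int.isNoetherian k (X := X)
  haveI := H28Int.isNoetherian k (X := C)
  haveI : X.IsSeparated := ⟨by
    rw [show terminal.from X = (X ↘ sk) ≫ terminal.from _ from terminal.hom_ext _ _]
    infer_instance⟩
  obtain ⟨H, hH⟩ := H28Reg.exists_isAmple k hreg hdim
  -- closed integral one-dimensional subschemes as curves
  have hcurve : ∀ (Y : Scheme.{u}) (ι : Y ⟶ X) [IsClosedImmersion ι] [IsIntegral Y], topologicalKrullDim Y = 1 →
      H28Surf.IsCurve ι.ker ∧ ∀ M : X.Modules, PicF.IsInvertible M →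
        FGA.intNum k X 2 ![M] ((Coh.push ι).obj (Coh.structureModule Y)) =
          H28Surf.pr k (ClSub.idealMod ι.ker) M := by
    intro Y ι _ _ hY
    haveI : Nonempty ι.ker.subscheme := ⟨ι.toImage (genericPoint Y)⟩
    haveI : IsIntegral ι.ker.subscheme :=
      isIntegral_of_isOpenImmersion (inv ι.toImage)
    have hd : topologicalKrullDim (ι.ker.support : Set X) = 1 := by
      rw [← H28Surf.dim_subscheme, ← hY]
      exact (IsHomeomorph.topologicalKrullDim_eq _ (asIso ι.toImage).hom.homeomorph.isHomeomorph).symm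
    have hc : H28Surf.IsCurve ι.ker := ⟨inferInstance, hd⟩
    refine ⟨hc, fun M hM => ?_⟩
    have hI := H28Reg.isInvertible_curve k hreg hdim hc
    rw [H28Int.intNum_eq k (d := 2) hdim.le ![M] (fun t => by fin_cases t; exact hM) (LeadDev.isCoh_push_structure ι),
      ← H28Surf.intNum_eq_pr k hdim hI hM, H28Surf.intNum_idealMod k hdim.le _ hI hM]
    exact (H28Int.isAddFn_D k [M] (List.forall_mem_singleton.2 hM)).congr (H28Vert.quotModKerIso ι).symm
  -- the fibre over a closed point
  obtain ⟨p, -, hp⟩ := IsClosed.exists_closed_singleton (X := C) isClosed_univ Set.univ_nonempty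
  have hpt := H28RR.isEffCartier_point k hdimC hp
  have hF := H28RR.isEffCartier_fibre k hdimC f (hp := hp)
  obtain ⟨Ms, hMs, hMp⟩ := H28Reg.exists_multiset k hreg hdim _ hF
  have hsupp : ((f.fiberι p).ker.support : Set X) = f ⁻¹' {p} := by
    rw [H28RR.ker_fiberι f hp, Scheme.IdealSheafData.support_comap]
    show f ⁻¹' ((Scheme.IdealSheafData.vanishingIdeal ⟨{p}, hp⟩).support : Set C) = _
    rw [Scheme.IdealSheafData.coe_support_vanishingIdeal]
    rfl
  have hmemsupp : ∀ (N : Multiset X.IdealSheafData) (x : X),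
      x ∈ (N.prod.support : Set X) ↔ ∃ D ∈ N, x ∈ (D.support : Set X) := by
    intro N x
    induction N using Multiset.induction with
    | empty => simp [Scheme.IdealSheafData.support_top]
    | cons D N ih => simp [Scheme.IdealSheafData.support_mul, ih]
  have hconst : ∀ D ∈ Ms, ∀ y : D.subscheme, f (D.subschemeι y) = p := by
    intro D hD y
    have h1 : D.subschemeι y ∈ (Ms.prod.support : Set X) :=
      (hmemsupp _ _).2 ⟨D, hD, by rw [← Scheme.IdealSheafData.range_subschemeι]; exact ⟨y, rfl⟩⟩
    rw [hMp, hsupp] at h1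
    exact h1
  have hFi : PicF.IsInvertible (ClSub.idealMod Ms.prod) := H29Blow.isInvertible_of_isEffCartierIdeal _ (hMp ▸ hF)
  have hFM : ∀ M : X.Modules, PicF.IsInvertible M →
      H28Surf.pr k (ClSub.idealMod Ms.prod) M = (Ms.map fun D => H28Surf.pr k (ClSub.idealMod D) M).sum :=
    fun M hM => H28Reg.pr_prod_left k hreg hdim Ms hMs hM
  -- components of the fibre are orthogonal to `L` and to the fibre
  have hFL : H28Surf.pr k (ClSub.idealMod Ms.prod) L = 0 := by
    rw [hFM L hL]
    refine Multiset.sum_eq_zero fun a ha => ?_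
    obtain ⟨D, hD, rfl⟩ := Multiset.mem_map.1 ha
    haveI := (hMs D hD).int
    have hDd : topologicalKrullDim D.subscheme = 1 := (H28Surf.dim_subscheme D).trans (hMs D hD).dim
    have h := (hcurve D.subscheme D.subschemeι hDd).2 L hL
    rw [Scheme.IdealSheafData.ker_subschemeι] at h
    rw [← h]
    exact hvert D.subscheme D.subschemeι hDd (by
      rintro _ ⟨a, rfl⟩ _ ⟨b, rfl⟩
      exact (hconst D hD a).trans (hconst D hD b).symm)
  have hpi := H29Blow.isInvertible_of_isEffCartierIdeal _ hpt
  have hP0 := H11Ample.isInvertible_pullback f hpi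
  have hF' : BlowUp.IsEffCartierIdeal ((Scheme.IdealSheafData.vanishingIdeal ⟨{p}, hp⟩).comap f) := by
    rw [← H28RR.ker_fiberι f hp]; exact hF
  obtain ⟨ψ⟩ := H12Pic.CurveFam.nonempty_pullback_idealMod_comap f hpt hF'
  rw [← H28RR.ker_fiberι f hp, ← hMp] at ψ
  have hFF : H28Surf.pr k (ClSub.idealMod Ms.prod) (ClSub.idealMod Ms.prod) = 0 := by
    rw [← H28Surf.pr_congr_left k hFi ψ, H28Surf.pr_symm k, hFM _ hP0]
    refine Multiset.sum_eq_zero fun a ha => ?_
    obtain ⟨D, hD, rfl⟩ := Multiset.mem_map.1 ha
    haveI := (hMs D hD).int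
    letI : D.subscheme.Over sk := ⟨D.subschemeι ≫ (X ↘ sk)⟩
    haveI : IsProper (D.subscheme ↘ sk) := inferInstanceAs (IsProper (D.subschemeι ≫ (X ↘ sk)))
    have hI := H28Reg.isInvertible_curve k hreg hdim (hMs D hD)
    rw [← H28Surf.intNum_eq_pr k hdim hI hP0, H28Surf.intNum_idealMod k hdim.le _ hI hP0]
    show H28Int.D k [_] ((Coh.push D.subschemeι).obj (Coh.structureModule D.subscheme)) = 0
    rw [H28Int.Curves.D_push_affine k D.subschemeι rfl hP0]
    rw [← H28Int.Curves.D_pullback_const k (D.subschemeι ≫ f) (x := p) (fun y => hconst D hD y) hpi]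
    show Curv2.euler k D.subscheme _ - Curv2.euler k D.subscheme _ =
      Curv2.euler k D.subscheme _ - Curv2.euler k D.subscheme _
    rw [H25Euler.euler_congr (k := k) (PicGrp.tensorModIso ((Scheme.Modules.pullbackComp D.subschemeι f).app
      (ClSub.idealMod (Scheme.IdealSheafData.vanishingIdeal ⟨{p}, hp⟩))).symm (Iso.refl _))]
    rfl
  -- the horizontal curve meets the fibre
  obtain ⟨hPc, hPnum⟩ := hcurve P ιP hP
  have hPi := H28Reg.isInvertible_curve k hreg hdim hPc
  have hPL : H28Surf.pr k (ClSub.idealMod ιP.ker) L = 0 := by rw [← hPnum L hL, hLP]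
  let φ := ιP ≫ f
  haveI : IsProper φ := by
    haveI : IsProper (φ ≫ (C ↘ sk)) := by
      rw [Category.assoc, comp_over f sk]; infer_instance
    exact IsProper.of_comp φ (C ↘ sk)
  have hφgen : φ (genericPoint P) = genericPoint C := H29Curve.apply_genericPoint_of_nontrivial (k := k) (φ ≫ (C ↘ sk)) (C ↘ sk) φ rfl hdimC.le hPh
  obtain ⟨q, hq⟩ : p ∈ Set.range φ := by
    have hcl : IsClosed (Set.range φ) := φ.isClosedMap.isClosed_range
    exact hcl.closure_subset_iff.2 (Set.singleton_subset_iff.2 ⟨_, hφgen⟩) (genericPoint_specializes p).mem_closure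
  have hne : ∀ D ∈ Ms, D ≠ ιP.ker := by
    intro D hD hDP
    subst hDP
    refine hPh.not_subsingleton ?_
    rintro _ ⟨a, rfl⟩ _ ⟨b, rfl⟩
    have key : ∀ a : P, f (ιP a) = p := fun a => by
      have h := hconst _ hD (ιP.toImage a)
      change f ((ιP.toImage ≫ ιP.ker.subschemeι) a) = p at h
      rw [show ιP.toImage ≫ ιP.ker.subschemeι = ιP from ιP.toImage_imageι] at h
      exact h
    exact (key a).trans (key b).symm
  have hu : 0 < H28Surf.pr k (ClSub.idealMod Ms.prod) (ClSub.idealMod ιP.ker) := by
    rw [hFM _ hPi]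
    obtain ⟨D₀, hD₀, hmem⟩ : ∃ D ∈ Ms, ιP q ∈ (D.support : Set X) := (hmemsupp _ _).1 (by
      rw [hMp, hsupp]; exact hq)
    obtain ⟨rest, rfl⟩ := Multiset.exists_cons_of_mem hD₀
    have hnn : ∀ D ∈ D₀ ::ₘ rest, _ := fun D hD => H28Reg.pr_curves_nonneg k hdim (hMs D hD) hPc
      (H28Reg.isInvertible_curve k hreg hdim (hMs D hD)) hPi (hne D hD)
    rw [Multiset.map_cons, Multiset.sum_cons]
    refine add_pos_of_pos_of_nonneg ((hnn D₀ (Multiset.mem_cons_self _ _)).2 ⟨ιP q, hmem, ?_⟩)
      (Multiset.sum_nonneg fun a ha => ?_)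
    · rw [ιP.support_ker]
      exact subset_closure ⟨q, rfl⟩
    · obtain ⟨D, hD, rfl⟩ := Multiset.mem_map.1 ha
      exact (hnn D (Multiset.mem_cons_of_mem hD)).1
  -- a class of positive square orthogonal to `L`
  set P2 := H28Surf.pr k (ClSub.idealMod ιP.ker) (ClSub.idealMod ιP.ker)
  obtain ⟨G, hG, hGc⟩ := H28RR.HodgeIndex.exists_comb k hdim 1 (|P2| + 1) hPi hFi
  have hGL : H28Surf.pr k G L = 0 := by rw [hGc L hL, hPL, hFL]; ring
  have hGG : 0 < H28Surf.pr k G G := by
    rw [hGc G hG, H28Surf.pr_symm k (ClSub.idealMod ιP.ker) G, H28Surf.pr_symm k (ClSub.idealMod Ms.prod) G,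
      hGc _ hPi, hGc _ hFi, hFF, H28Surf.pr_symm k (ClSub.idealMod ιP.ker) (ClSub.idealMod Ms.prod)]
    nlinarith [abs_nonneg P2, neg_abs_le P2, mul_nonneg (abs_nonneg P2) (show (0 : ℤ) ≤ H28Surf.pr k
      (ClSub.idealMod Ms.prod) (ClSub.idealMod ιP.ker) - 1 by omega)]
  rw [H28Surf.intNum_eq_pr k hdim hL hL]
  refine ⟨H28RR.HodgeIndex.pr_self_nonpos_of_orth k hdim hH hG hL hGG hGL, fun h0 Y ι _ _ hY => ?_⟩
  obtain ⟨hYc, hYn⟩ := hcurve Y ι hY
  rw [hYn L hL, H28Surf.pr_symm k]
  exact H28RR.HodgeIndex.pr_eq_zero_of_orth k hdim hH hG hL hGG hGL h0 (H28Reg.isInvertible_curve k hreg hdim hYc)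

end Groth.Agent.S17180
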