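import Groth.Statements.S17181
import Groth.Agent.H8Props.Generic

set_option autoImplicit false
universe u
open CategoryTheory CategoryTheory.Limits AlgebraicGeometry
open FBase

namespace Groth.Agent.S17181

set_option linter.style.haveILetI false
set_option backward.isDefEq.respectTransparency false

/-- Let k be a field, C an irreducible k-scheme which is geometrically irreducible over k, and f : X → C
a flat k-morphism locally of finite type with X irreducible. If the generic fibre of f is
geometrically irreducible over the residue field of the generic point of C, then X is geometrically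
irreducible over k. (The published setting is a regular proper surface mapping onto a smooth
projective geometrically irreducible curve with smooth projective geometrically irreducible generic
fibre; the printed argument uses only the hypotheses kept here.) -/
theorem result (k : Type u) [Field k]
    (X C : Scheme.{u}) [X.Over (Spec (CommRingCat.of k))] [C.Over (Spec (CommRingCat.of k))]
    (f : X ⟶ C) [f.IsOver (Spec (CommRingCat.of k))] [IrreducibleSpace X] [IrreducibleSpace C]
    [GeometricallyIrreducible (C ↘ Spec (CommRingCat.of k))] [Flat f] [LocallyOfFiniteType f]
    [GeometricallyIrreducible (f.fiberToSpecResidueField (genericPoint C))] :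
    GeometricallyIrreducible (X ↘ Spec (CommRingCat.of k)) := by
  let g := C ↘ Spec (CommRingCat.of k)
  have hg : X ↘ Spec (CommRingCat.of k) = f ≫ g := (comp_over f (Spec (CommRingCat.of k))).symm
  refine ⟨(geometrically_iff_of_isClosedUnderIsomorphisms).2 fun L _ y => ?_⟩
  rw [hg]
  obtain ⟨ψ, rfl⟩ := Spec.map_surjective y
  let s := Spec.map ψ
  let π := Limits.pullback.fst g s
  haveI : Flat s := by
    letI := ψ.hom.toAlgebra
    rw [HasRingHomProperty.Spec_iff (P := @Flat), RingHom.Flat]
    show Module.Flat k L
    infer_instance
  haveI : IrreducibleSpace ↥(Limits.pullback g s) :=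
    pullback_of_geometrically (GeometricallyIrreducible.geometrically_irreducibleSpace (f := g)) L s
  let η := genericPoint ↥(Limits.pullback g s)
  have hη : π η = genericPoint C := by
    refine ((H8Props.mem_genericPoints_iff.1 (H8Props.flat_map_genericPoints π ?_)) _
      (genericPoint_specializes _)).symm
    exact H8Props.mem_genericPoints_iff.2 fun z hz => (hz.antisymm (genericPoint_specializes z)).eq
  suffices IrreducibleSpace ↥(Limits.pullback f π) from
    (Limits.pullbackRightPullbackFstIso g s f).hom.homeomorph.irreducibleSpace_iff.mp this
  let fL := Limits.pullback.snd f π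
  let j := (Limits.pullback g s).fromSpecResidueField η
  have hfib : IrreducibleSpace ↥(Limits.pullback fL j) := by
    let a := Spec.map (π.residueFieldMap η)
    have ha : j ≫ π = a ≫ C.fromSpecResidueField (π η) :=
      (Scheme.Hom.SpecMap_residueFieldMap_fromSpecResidueField π η).symm
    have hG : GeometricallyIrreducible (f.fiberToSpecResidueField (π η)) := by rw [hη]; infer_instance
    have := pullback_of_geometrically
      (GeometricallyIrreducible.geometrically_irreducibleSpace (f := f.fiberToSpecResidueField (π η))) _ a
    exact (Limits.pullbackLeftPullbackSndIso f π j ≪≫ Limits.pullback.congrHom rfl ha ≪≫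
      (Limits.pullbackLeftPullbackSndIso f (C.fromSpecResidueField (π η)) a).symm).hom.homeomorph.irreducibleSpace_iff.mpr this
  have hirr : IsIrreducible (Set.range (Limits.pullback.fst fL j)) :=
    Set.image_univ ▸ (IrreducibleSpace.isIrreducible_univ _).image _
      (Limits.pullback.fst fL j).continuous.continuousOn
  rw [irreducibleSpace_def, Set.top_eq_univ]
  convert hirr.closure
  refine (Set.eq_univ_of_forall fun z => ?_).symm
  obtain ⟨w, hw, hwη⟩ := Flat.generalizingMap fL (genericPoint_specializes (fL z))
  refine hw.mem_closed isClosed_closure (subset_closure ?_)
  obtain ⟨v, hv, -⟩ := Scheme.Pullback.exists_preimage_pullback (f := fL) (g := j) w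
    (IsLocalRing.closedPoint _) (hwη.trans (Scheme.fromSpecResidueField_apply η _).symm)
  exact ⟨v, hv⟩

end Groth.Agent.S17181
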