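import Groth.Statements.S17208
import Groth.Agent.H11SetBC.GenericSub
import Groth.Agent.H11SetBC.Main

set_option autoImplicit false
universe u
open CategoryTheory CategoryTheory.Limits AlgebraicGeometry Opposite
open EtBC

namespace Groth.Agent.S17208

/-- Sheaves of sets: let S be a Noetherian scheme and a : X → S a morphism of finite type. There is a
dense open U of S with the following property: for every morphism c : Z → S whose image lies in U,
every quasi-compact quasi-separated morphism g : Y → Z, every cartesian square exhibiting Z' as Z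
×_S X (projections p : Z' → Z, q : Z' → X) and every cartesian square exhibiting Y' as Y ×_Z Z'
(projections p' : Y' → Y, g' : Y' → Z'), and every sheaf of sets F on the small etale site of Y, the
base change morphism p^* g_* F → g'_* p'^* F is an isomorphism. (This is the case of a sheaf of
sets, viewed as a stack in discrete categories, of a statement about ind-finite stacks in groupoids
on the etale site.) -/
theorem result {X S : Scheme.{u}} (a : X ⟶ S) [IsNoetherian S]
    [LocallyOfFiniteType a] [QuasiCompact a] :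
    ∃ U : S.Opens, Dense (U : Set S) ∧
      ∀ ⦃Y Z Y' Z' : Scheme.{u}⦄ (c : Z ⟶ S) (g : Y ⟶ Z) [QuasiCompact g] [QuasiSeparated g],
        Set.range c.base ⊆ (U : Set S) →
        ∀ (p : Z' ⟶ Z) (q : Z' ⟶ X), IsPullback p q c a →
        ∀ (p' : Y' ⟶ Y) (g' : Y' ⟶ Z') (h : IsPullback p' g' g p) (F : EtDesc.Sh Y),
          IsIso (EtBC.baseChange0Sh g p g' p' h.w F) := by
  classical
  refine ⟨sSup {V : S.Opens | H11SetBC.SubConnOver a V}, ?_, ?_⟩
  · refine dense_iff_inter_open.2 fun W hW hne => ?_
    obtain ⟨W₀, hle, hirr⟩ := H11SetBC.exists_irreducible_open ⟨W, hW⟩ hne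
    obtain ⟨V, ⟨y, hy⟩, hVle, hV⟩ := H11SetBC.exists_subConnOver a W₀
    exact ⟨y, hle (hVle hy), TopologicalSpace.Opens.mem_sSup.2 ⟨V, hV, hy⟩⟩
  intro Y Z Y' Z' c g _ _ hc p q hsq p' g' h F
  refine H11SetBC.isIso_baseChange0Sh_of_submersive p (fun z RS _ _ _ _ _ RX _ _ _ _ _ ψ _ hψ => ?_) g g' p' h F
  obtain ⟨V, hV, hzV⟩ := TopologicalSpace.Opens.mem_sSup.1 (hc ⟨p z, rfl⟩)
  exact hV p q c hsq.flip z hzV RS RX ψ hψ

end Groth.Agent.S17208
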