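import Groth.Statements.S1723
import Groth.Agent.H4DR.Dualizing.GorensteinFibre
import Groth.Agent.H4DR.FlatBC.Unramified
import Groth.Agent.H05EGA4.FormalFibres
import Groth.Agent.H02CA.RegularLocal

set_option autoImplicit false
universe u
open CategoryTheory
attribute [local instance] HasDerivedCategory.standard
open Dual

namespace Groth.Agent.S1723

/-- If a Noetherian local ring A has a dualizing complex, then each of its formal fibres is a Gorenstein
ring: for every prime p the ring A^ ⊗_A κ(p) (completion at the maximal ideal, tensored with the
residue field of p) is a Gorenstein ring. -/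
theorem result (A : Type u) [CommRing A] [IsLocalRing A] [IsNoetherianRing A] (ω : Dual.D A) (hω : Dual.IsDualizing A ω) (p : PrimeSpectrum A) : LocCoh.IsGorensteinRing (EGA4.formalFibre A p.asIdeal) := by
  classical
  haveI : IsNoetherianRing (EGA4.Cpl A) := H05EGA4.isNoetherianRing_cpl A
  haveI : Module.Flat A (EGA4.Cpl A) := AdicCompletion.flat_of_isNoetherian _
  haveI : IsNoetherianRing (p.asIdeal.Fiber (EGA4.Cpl A)) :=
    H02CA.isNoetherianRing_tensor_of_essFiniteType _ _ _
  exact H4DR.Dualizing.isGorensteinRing_fibre_of_dualizing hω
    (H4DR.Dualizing.isDualizing_maxUnramified hω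
      (H4DR.Dualizing.maxUnramified_of_local AdicCompletion.maximalIdeal_eq_map.symm)) p

end Groth.Agent.S1723
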