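import Groth.Statements.S1725
import Groth.Agent.H8Props.CutoffCpl
import Groth.Agent.H05EGA4.FormalFibres
import Groth.Agent.H05EGA4.CompleteCatenary
import Groth.Agent.H05EGA4.Ratliff
import Groth.Agent.H05EGA4.Completion

set_option autoImplicit false
universe u
open LocCoh

namespace Groth.Agent.S1725

/-- Let A be a universally catenary Noetherian local ring, I an ideal, M a finite A-module, and A', M'
the completions of A and M at the maximal ideal. Then s_{A', IA'}(M') ≤ s_{A,I}(M); and when A's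
formal fibres satisfy (S_n), the completed invariant s_{A', IA'}(M') is at least min(n + 1,
s_{A,I}(M)). -/
theorem result (A : Type u) [CommRing A] [IsLocalRing A] [IsNoetherianRing A] (hA : CAlg.IsUniversallyCatenary A) (I : Ideal A) (M : Type u) [AddCommGroup M] [Module A M] [Module.Finite A M] (n : ℕ) : Dual2.cutoff (AdicCompletion (IsLocalRing.maximalIdeal A) A) (I.map (algebraMap A (AdicCompletion (IsLocalRing.maximalIdeal A) A))) (AdicCompletion (IsLocalRing.maximalIdeal A) M) ≤ Dual2.cutoff A I M ∧ (EGA4.HasSnFormalFibres n A → min ((n : ℕ∞) + 1) (Dual2.cutoff A I M) ≤ Dual2.cutoff (AdicCompletion (IsLocalRing.maximalIdeal A) A) (I.map (algebraMap A (AdicCompletion (IsLocalRing.maximalIdeal A) A))) (AdicCompletion (IsLocalRing.maximalIdeal A) M)) := by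
  haveI := H05EGA4.isNoetherianRing_cpl A
  haveI := H05EGA4.flat_cpl A
  haveI := H05EGA4.faithfullyFlat_cpl A
  haveI : IsAdicComplete (IsLocalRing.maximalIdeal (EGA4.Cpl A)) (EGA4.Cpl A) := by
    rw [AdicCompletion.maximalIdeal_eq_map]
    exact AdicCompletion.isAdicComplete_self _ (IsNoetherian.noetherian _)
  haveI : IsLocalHom (algebraMap A (EGA4.Cpl A)) := ((IsLocalRing.local_hom_TFAE _).out 0 2).mpr (by
    rw [AdicCompletion.maximalIdeal_eq_map])
  have hcB : CAlg.IsCatenary (EGA4.Cpl A) := H05EGA4.isCatenary_of_isAdicComplete _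
  have hcA : CAlg.IsCatenary A := hA.2 A inferInstance
  have hdim : ∀ (p : Ideal A) [p.IsPrime], ∀ P ∈ (p.map (algebraMap A (EGA4.Cpl A))).minimalPrimes,
      ringKrullDim (EGA4.Cpl A ⧸ P) = ringKrullDim (A ⧸ p) := by
    intro p _ P hP
    haveI := hP.1.1
    haveI : IsLocalRing (A ⧸ p) := .of_surjective' _ Ideal.Quotient.mk_surjective
    have h := (H05EGA4.isFormallyEquidim_iff_of_surjective (A ⧸ p) (Ideal.Quotient.mk p)
      Ideal.Quotient.mk_surjective).mp (H05EGA4.isFormallyCatenary_of_isUniversallyCatenary A hA p)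
    rw [Ideal.mk_ker] at h
    have hmin : P.map (Ideal.Quotient.mk (p.map (algebraMap A (EGA4.Cpl A)))) ∈
        minimalPrimes (EGA4.Cpl A ⧸ p.map (algebraMap A (EGA4.Cpl A))) := by
      refine ⟨⟨Ideal.isPrime_map_quotientMk_of_isPrime hP.1.2, bot_le⟩, fun J hJ hJP => ?_⟩
      haveI := hJ.1
      rw [Ideal.map_le_iff_le_comap]
      refine hP.2 ⟨inferInstance, ?_⟩ ?_
      · exact (Ideal.mk_ker).ge.trans (Ideal.comap_mono bot_le)
      · refine (Ideal.comap_mono hJP).trans ?_
        rw [Ideal.comap_map_of_surjective' _ Ideal.Quotient.mk_surjective, Ideal.mk_ker]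
        exact sup_le le_rfl hP.1.2
    have h' := h _ hmin
    rw [H05EGA4.dimQuotQuot hP.1.2, H05EGA4.ringKrullDim_completion_quotient A p] at h'
    exact h'
  have hdim' : ∀ (p : Ideal A) [p.IsPrime],
      ringKrullDim (EGA4.Cpl A ⧸ p.map (algebraMap A (EGA4.Cpl A))) = ringKrullDim (A ⧸ p) :=
    fun p _ => H05EGA4.ringKrullDim_completion_quotient A p
  exact ⟨H8Props.CutoffCpl.cutoff_le hdim M _
      (AdicCompletion.ofTensorProductEquivOfFiniteNoetherian (IsLocalRing.maximalIdeal A) M) hcA hcB I,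
    fun hn => H8Props.CutoffCpl.le_cutoff hdim hdim' M _
      (AdicCompletion.ofTensorProductEquivOfFiniteNoetherian (IsLocalRing.maximalIdeal A) M) hcA hcB n
      (fun p _ => hn p) I⟩

end Groth.Agent.S1725
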