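import Groth.Statements.S1724
import Groth.Agent.H4LC.FaltingsApps
import Groth.Agent.H4LC.AdjDepth
import Groth.Agent.H4LC.CompletionTransfer
import Groth.Agent.H4DR.HT.Local
import Groth.Agent.H05EGA4.CohenStructure
import Groth.Agent.H05EGA4.Completion
import Groth.Agent.H4Depth.SkFree
import Groth.Agent.S9126
import Groth.Agent.S0329
import Groth.Agent.S1725

set_option autoImplicit false
universe u
open LocCoh

namespace Groth.Agent.S1724

open IsLocalRing TensorProduct

theorem cutoff_eq_minAdjDepth {A : Type u} [CommRing A] (I : Ideal A) (M : Type u) [AddCommGroup M] [Module A M] :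
    Dual2.cutoff A I M = LocCoh.minAdjDepth I I M := by
  unfold Dual2.cutoff LocCoh.minAdjDepth
  refine le_antisymm (le_iInf₂ fun p hp => ?_) ?_
  swap
  · refine le_iInf fun p => le_iInf fun q => le_iInf fun hpq => le_iInf fun hp => le_iInf fun hq => ?_
    refine (iInf₂_le (f := fun p (_ : ¬ I ≤ p.asIdeal) => LocCoh.adjDepth I M p) p hp).trans ?_
    have h := (H4LC.le_height_sup_map_mk_iff I p _).1 le_rfl q hpq hq
    exact add_le_add le_rfl h
  by_cases hd : LocCoh.depth (Localization.AtPrime p.asIdeal) (LocalizedModule p.asIdeal.primeCompl M) = ⊤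
  · unfold LocCoh.adjDepth
    rw [hd, top_add]
    exact le_top
  obtain ⟨d, hd'⟩ := ENat.ne_top_iff_exists.1 hd
  unfold LocCoh.adjDepth
  rw [← hd']
  refine tsub_le_iff_left.1 ((H4LC.le_height_sup_map_mk_iff I p _).2 fun q hpq hq => tsub_le_iff_left.2 ?_)
  rw [hd']
  exact (iInf_le_of_le p (iInf_le_of_le q (iInf_le_of_le hpq (iInf_le_of_le hp (iInf_le_of_le hq le_rfl)))))

theorem cutoff_congr {A : Type u} [CommRing A] (I : Ideal A) {M N : Type u} [AddCommGroup M] [Module A M]
    [AddCommGroup N] [Module A N] (e : M ≃ₗ[A] N) : Dual2.cutoff A I M = Dual2.cutoff A I N := by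
  refine iInf_congr fun p => iInf_congr fun q => iInf_congr fun h => iInf_congr fun hp => iInf_congr fun hq => ?_
  rw [H4Depth.depth_congr (IsLocalizedModule.mapEquiv p.asIdeal.primeCompl
    (LocalizedModule.mkLinearMap p.asIdeal.primeCompl M) (LocalizedModule.mkLinearMap p.asIdeal.primeCompl N)
    (Localization.AtPrime p.asIdeal) e)]

/-- Below the cutoff, local cohomology over a quotient of a regular ring is finite. -/
theorem finite_of_quotient {S : Type u} [CommRing S] [IsRegularRing S] {R : Type u} [CommRing R] [Algebra S R]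
    [IsNoetherianRing R] (hπ : Function.Surjective (algebraMap S R)) (M : Type u) [AddCommGroup M] [Module R M]
    [Module S M] [IsScalarTower S R M] [Module.Finite R M] (I : Ideal R) (n : ℕ)
    (hn : (n : ℕ∞) < Dual2.cutoff R I M) : ∀ i : ℕ, i ≤ n → Module.Finite R (LocCoh.H I i M) := by
  rw [cutoff_eq_minAdjDepth] at hn
  have h := hn.trans_le (H4LC.minAdjDepth_le_finDimRel hπ M I I)
  refine (Groth.Agent.S0329.result R I M n).2
    ⟨⨅ i : Fin (n + 1), Module.annihilator R (LocCoh.H I i M), fun x hx => ?_, fun i hi a ha z => ?_⟩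
  · have hall : ∀ i : Fin (n + 1), x ∈ (Module.annihilator R (LocCoh.H I i M)).radical := fun i => by
      by_contra hc
      have hle : LocCoh.finDimRel I I M ≤ ((i : ℕ) : ℕ∞) := iInf₂_le (f := fun (j : ℕ)
        (_ : ¬ I ≤ (Module.annihilator R (LocCoh.H I j M)).radical) => (j : ℕ∞)) (i : ℕ) fun hh => hc (hh hx)
      have := h.trans_le hle
      exact absurd (Nat.cast_lt.1 this) (by omega)
    choose k hk using hall
    refine ⟨∑ i, k i, ?_⟩
    rw [Submodule.mem_iInf]
    exact fun i => Ideal.pow_mem_of_pow_mem _ (hk i) (Finset.single_le_sum (f := k) (fun _ _ => Nat.zero_le _) (Finset.mem_univ i))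
  · rw [Submodule.mem_iInf] at ha
    exact Module.mem_annihilator.1 (ha ⟨i, by omega⟩) z

/-- Below the cutoff, local cohomology over a complete local ring is finite. -/
theorem finite_of_complete (R : Type u) [CommRing R] [IsLocalRing R] [IsNoetherianRing R]
    [IsAdicComplete (maximalIdeal R) R] (M : Type u) [AddCommGroup M] [Module R M] [Module.Finite R M] (I : Ideal R)
    (n : ℕ) (hn : (n : ℕ∞) < Dual2.cutoff R I M) : ∀ i : ℕ, i ≤ n → Module.Finite R (LocCoh.H I i M) := by
  obtain ⟨S, _, f, hS, hf⟩ := H05EGA4.exists_surjective_of_isRegularLocalRing R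
  letI := f.toAlgebra
  letI : Module S M := Module.compHom M f
  haveI : IsScalarTower S R M := IsScalarTower.of_algebraMap_smul fun _ _ => rfl
  haveI := H05EGA4.isRegularRing_of_isRegularLocalRing S
  exact finite_of_quotient (S := S) hf M I n hn

theorem hasSnFormalFibres_of_cm (n : ℕ) (A : Type u) [CommRing A] [IsLocalRing A]
    (h : EGA4.HasCMFormalFibres A) : EGA4.HasSnFormalFibres n A := fun p _ q _ => by
  haveI := h p
  obtain ⟨e⟩ := H4Depth.exists_localizedModule_self_equiv q
  have hcm := (LocCoh.IsCohenMacaulayRing.isCohenMacaulayLocalRing_localization (R := EGA4.formalFibre A p) q).supportDim_eq_depth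
  rw [Module.supportDim_eq_of_equiv e, H4Depth.depth_congr e, hcm]
  exact min_le_right _ _

/-- Below the cutoff, local cohomology over a local ring with CM formal fibres is finite. -/
theorem finite_of_local (A : Type u) [CommRing A] [IsLocalRing A] [IsNoetherianRing A]
    (hA : CAlg.IsUniversallyCatenary A) (hF : EGA4.HasCMFormalFibres A) (M : Type u) [AddCommGroup M] [Module A M]
    [Module.Finite A M] (I : Ideal A) (n : ℕ) (hn : (n : ℕ∞) < Dual2.cutoff A I M) :
    ∀ i : ℕ, i ≤ n → Module.Finite A (LocCoh.H I i M) := by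
  intro i hi
  let B := AdicCompletion (maximalIdeal A) A
  haveI : IsNoetherianRing B := H05EGA4.isNoetherianRing_adicCompletion A (maximalIdeal A)
  haveI : Module.Flat A B := AdicCompletion.flat_of_isNoetherian _
  have hc := H4LC.isComplLike_adicCompletion (A := A)
  haveI : IsLocalHom (algebraMap A B) := hc.isLocalHom
  haveI : Module.FaithfullyFlat A B := Module.FaithfullyFlat.of_flat_of_isLocalHom
  haveI : IsAdicComplete (maximalIdeal B) B := inferInstance
  have h1 : (n : ℕ∞) < Dual2.cutoff B (I.map (algebraMap A B)) (B ⊗[A] M) := by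
    rw [cutoff_congr _ (AdicCompletion.ofTensorProductEquivOfFiniteNoetherian (maximalIdeal A) M)]
    refine lt_of_lt_of_le ?_ ((Groth.Agent.S1725.result A hA I M n).2 (hasSnFormalFibres_of_cm n A hF))
    exact lt_min (ENat.lt_add_one_iff (ENat.natCast_ne_top n) |>.2 le_rfl) hn
  haveI := finite_of_complete B (B ⊗[A] M) (I.map (algebraMap A B)) n h1 i hi
  obtain ⟨e⟩ := H4LC.nonempty_baseChange_H_of_eq (S := B) I (I.map (algebraMap A B)) rfl M i
  haveI : Module.Finite B (B ⊗[A] LocCoh.H I i M) := Module.Finite.equiv e.symm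
  exact Module.Finite.of_finite_tensorProduct_of_faithfullyFlat B

end Groth.Agent.S1724

namespace Groth.Agent.S1724

/-- Let A be a universally catenary Noetherian ring such that the formal fibres of all local rings A_q
are Cohen–Macaulay, I an ideal, M a finite A-module and s = s_{A,I}(M) (the infimum of depth(M_p) +
dim((A/p)_q) over primes p ⊆ q with q ⊇ I and p ⊉ I). Then H^i_I(M) is a finite A-module for every i
< s, and if s is finite then H^s_I(M) is not a finite A-module. -/
theorem result (A : Type u) [CommRing A] [IsNoetherianRing A] (hA : CAlg.IsUniversallyCatenary A) (hF : ∀ q : PrimeSpectrum A, EGA4.HasCMFormalFibres (Localization.AtPrime q.asIdeal)) (I : Ideal A) (M : Type u) [AddCommGroup M] [Module A M] [Module.Finite A M] : (∀ i : ℕ, (i : ℕ∞) < Dual2.cutoff A I M → Module.Finite A (LocCoh.H I i M)) ∧ ∀ s : ℕ, Dual2.cutoff A I M = s → ¬ Module.Finite A (LocCoh.H I s M) := by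
  have key : ∀ n : ℕ, (n : ℕ∞) < Dual2.cutoff A I M → ∀ i : ℕ, i ≤ n → Module.Finite A (LocCoh.H I i M) := by
    intro n hn
    refine Groth.Agent.H4DR.HT.finite_H_of_locally I M n fun p _ i hi => ?_
    let L := Localization.AtPrime p
    haveI : IsNoetherianRing L := IsLocalization.isNoetherianRing p.primeCompl L ‹_›
    haveI : Module.Flat A L := IsLocalization.flat L p.primeCompl
    haveI : Algebra.EssFiniteType A L := Algebra.EssFiniteType.of_isLocalization L p.primeCompl
    have hM : (n : ℕ∞) < Dual2.cutoff L (I.map (algebraMap A L)) (TensorProduct A L M) := by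
      rw [← cutoff_congr _ (LocalizedModule.equivTensorProduct p.primeCompl M), cutoff_eq_minAdjDepth]
      exact hn.trans_le ((cutoff_eq_minAdjDepth I M).le.trans
        (Groth.Agent.H4LC.minAdjDepth_le_localization I I M p.primeCompl))
    haveI := finite_of_local L (Groth.Agent.S9126.result A L hA) (hF ⟨p, inferInstance⟩) (TensorProduct A L M)
      (I.map (algebraMap A L)) n hM i hi
    obtain ⟨e⟩ := Groth.Agent.H4LC.nonempty_baseChange_H L I M i
    exact Module.Finite.equiv (e.symm.trans (LocalizedModule.equivTensorProduct p.primeCompl (LocCoh.H I i M)).symm)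
  refine ⟨fun i hi => key i hi i le_rfl, fun s hs hfin => ?_⟩
  have hall : ∀ i ≤ s, Module.Finite A (LocCoh.H I i M) := fun i hi => by
    rcases hi.eq_or_lt with rfl | hlt
    · exact hfin
    · exact key i (hs ▸ Nat.cast_lt.2 hlt) i le_rfl
  have h1 : ((s + 1 : ℕ) : ℕ∞) ≤ LocCoh.minAdjDepth I I M :=
    le_iInf₂ fun p hp => Groth.Agent.H4LC.le_depth_add_height_of_finite I M s hall p hp
  rw [← cutoff_eq_minAdjDepth, hs, Nat.cast_le] at h1
  omega

end Groth.Agent.S1724
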