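import Groth.Statements.S17244
import Groth.Agent.H02CA.PolarSystemHyper

set_option autoImplicit false
open W4c4effdivwronsk2

namespace Groth.Agent.S17244

open Polynomial in
/-- Let `k` be a field of characteristic zero and take, on the projective line over `k`, the point `∞`
and `m` further distinct points `r_1, …, r_m` of the affine line, with positive integers `b` (at
`∞`) and `a_1, …, a_m`; put `N = b + ∑ a_j`. The sum of the spaces of differentials with a single
pole, of order at most `b + 1` at `∞`, resp. at most `a_j + 1` at `r_j`, `V = H⁰(ω((b+1)∞)) + ∑_j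
H⁰(ω((a_j+1)r_j)) ⊆ H⁰(ω((b+1)∞ + ∑_j (a_j+1)r_j)) ≅ H⁰(O(d))`, `d = b - 1 + ∑ (a_j+1)`, becomes,
after multiplying by `dX⁻¹ ∏_j (X - r_j)^(a_j+1)`, the subspace of `k[X]_{≤ d}` spanned by
`D·k[X]_{<b}` and the `D_i·k[X]_{<a_i}`, where `D = ∏_j (X - r_j)^(a_j+1)` and `D_i` omits the
`i`-th factor; a member `h` vanishes to order `n` at a point `q` of the affine line when `(X - q)^n
∣ h`, and to order `d - deg h` at `∞`. Let `V₁ ⊆ V` be a hyperplane (`dim V₁ = N - 1`) containing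
`D·k[X]_{<b-2}` and every `D_i·k[X]_{<a_i}` (that is, containing `H⁰(ω((b-1)∞)) + ∑_j
H⁰(ω((a_j+1)r_j))`). The weight of `V₁` at a point is `∑_{n=1}^{d} dim V₁(-n·point) - (N-1 choose
2)` (the sum of the vanishing orders minus `0 + 1 + ⋯ + (N-2)`). Then the weight of `V₁` at `r_i` is
`∑_{j≠i} a_j + b - 1 + ε_i` and its weight at `∞` is `∑_j a_j + N - 2 + ε`, with `ε_i, ε ∈ {0, 1}`.
(The published statement is over the complex numbers with the distinguished marked point arbitrary;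
it is placed at `∞` here.) -/
theorem result
    (k : Type*) [Field k] [CharZero k] (m : ℕ) (r : Fin m → k) (hr : Function.Injective r)
    (a : Fin m → ℕ) (ha : ∀ j, 1 ≤ a j) (b : ℕ) (hb : 1 ≤ b) (N d : ℕ)
    (hN : N = (∑ j, a j) + b) (hd : d + 1 = (∑ j, (a j + 1)) + b)
    (V : Submodule k (Polynomial k))
    (hV : V = (Polynomial.degreeLT k b).map (LinearMap.mulLeft k (∏ j, (X - C (r j)) ^ (a j + 1))) ⊔
      ⨆ i, (Polynomial.degreeLT k (a i)).map
        (LinearMap.mulLeft k (∏ j ∈ Finset.univ.erase i, (X - C (r j)) ^ (a j + 1))))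
    (V₁ : Submodule k (Polynomial k)) (hV₁ : V₁ ≤ V) (hfin : Module.finrank k ↥V₁ + 1 = N)
    (hU : (Polynomial.degreeLT k (b - 2)).map (LinearMap.mulLeft k (∏ j, (X - C (r j)) ^ (a j + 1))) ⊔
      (⨆ i, (Polynomial.degreeLT k (a i)).map
        (LinearMap.mulLeft k (∏ j ∈ Finset.univ.erase i, (X - C (r j)) ^ (a j + 1)))) ≤ V₁) :
    (∀ i : Fin m, ∃ ε : ℕ, ε ≤ 1 ∧
      (∑ n ∈ Finset.range d, Module.finrank k ↥(V₁ ⊓ (Ideal.span {(X - C (r i)) ^ (n + 1)}).restrictScalars k)) + 1 =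
        (N - 1).choose 2 + (N - a i) + ε) ∧
    (∃ ε : ℕ, ε ≤ 1 ∧
      (∑ n ∈ Finset.range d, Module.finrank k ↥(V₁ ⊓ Polynomial.degreeLT k (d - n))) =
        (N - 1).choose 2 + (N - b) + (N - 2) + ε) := by
  subst hV
  have h1 : 1 ≤ N := by omega
  have hd' : d + 1 = N + m := by
    rw [Finset.sum_add_distrib] at hd; simp at hd; omega
  obtain ⟨ℓ, hℓP, hℓ, rfl, hvan⟩ :=
    Groth.Agent.H02CA.PolarSystem.exists_functional hr hb hN V₁ hV₁ hfin hU
  have hor := Groth.Agent.H02CA.PolarSystem.functional_or h1 hℓ hvan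
  have hval := Groth.Agent.H02CA.PolarSystem.functional_X_sub_C_pow (ℓ := ℓ) h1 hvan
  refine ⟨fun i => Groth.Agent.H02CA.PolarSystem.weight_marked ℓ hr hN hℓP d hd' hb i (fun _ => ?_) (ha i),
    Groth.Agent.H02CA.PolarSystem.weight_infinity_of_deep ℓ hN hℓP hℓ d hd' hb hvan⟩
  by_contra hcon
  push Not at hcon
  rw [(hval (r i)).1, (hval (r i)).2] at hcon
  rcases hor with h | h
  · rw [hcon.2, mul_zero, sub_zero] at hcon
    exact h hcon.1
  · exact h hcon.2

end Groth.Agent.S17244
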