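import Groth.Statements.S17247
import Mathlib
import Groth.Agent.H23Proj.Basic
import Groth.Agent.H23Curve.Basic

set_option autoImplicit false
open FunFld

namespace Groth.Agent.S17247

/-- Let `K/k` be a function field of one variable of genus one over an algebraically closed field `k` of
characteristic zero (an elliptic curve `E`), `A` a place, and `g ≥ 3` an odd integer. Inside
`H⁰(O_E((2g-2)A)) = L((2g-2)A)` consider `V = L(gA)` (dimension `g`) and any hyperplane `V₁` of it
containing `L((g-2)A)`: `L((g-2)A) ⊆ V₁ ⊆ L(gA)`, `dim V₁ = g - 1`. Vanishing orders are those of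
sections of `O_E((2g-2)A)`: a member `f` vanishes to order at least `n` at a place `Q` when `f ∈
L((2g-2)A - nQ)`, and the weight of `V₁` at `Q` is `∑_{n=1}^{2g-2} dim (V₁ ∩ L((2g-2)A - nQ)) - (g-1
choose 2)` (the sum of the `g - 1` vanishing orders minus `0 + 1 + ⋯ + (g-2)`). Then the weight of
`V₁` at every place `Q ≠ A` is at most `2`. (The published statement is for a smooth elliptic curve
over the complex numbers and allows every odd positive `g`; for `g = 1` the inclusion `O(gA) ⊆
O((2g-2)A)` it uses fails, so `g ≥ 3` here.) -/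
theorem result
    (k K : Type*) [Field k] [IsAlgClosed k] [CharZero k] [Field K] [Algebra k K]
    (hK : FunFld.IsFunctionField k K) (hg1 : FunFld.genus k K = 1)
    (g : ℕ) (hodd : Odd g) (h3 : 3 ≤ g) (A : FunFld.Place k K)
    (V₁ : Submodule k K) (hlo : FunFld.L (Finsupp.single A ((g : ℤ) - 2)) ≤ V₁)
    (hhi : V₁ ≤ FunFld.L (Finsupp.single A (g : ℤ))) (hdim : Module.finrank k ↥V₁ + 1 = g)
    (Q : FunFld.Place k K) (hQ : Q ≠ A) :
    (∑ n ∈ Finset.range (2 * g - 2), Module.finrank k
        ↥(V₁ ⊓ FunFld.L (Finsupp.single A (2 * (g : ℤ) - 2) - Finsupp.single Q ((n : ℤ) + 1)))) ≤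
      (g - 1).choose 2 + 2 := by
  classical
  open Groth.Agent.H23FunFld in
  obtain ⟨h, rfl⟩ := hodd
  set g := 2 * h + 1 with hgdef
  have hd1 := fun R : FunFld.Place k K => Groth.Agent.H23Proj.deg_eq_one_of_isAlgClosed hK R
  have hdeg : ∀ i j : ℤ, FunFld.Divisor.deg (Finsupp.single A i - Finsupp.single Q j : FunFld.Divisor k K) = i - j := by
    intro i j
    rw [deg_sub, deg_single, deg_single, hd1, hd1]; push_cast; ring
  have hlarge : ∀ i j : ℤ, j < i → (FunFld.ell (Finsupp.single A i - Finsupp.single Q j : FunFld.Divisor k K) : ℤ) = i - j := by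
    intro i j hij
    rw [ell_of_deg_large hK (by rw [hdeg, hg1]; push_cast; omega), hdeg, hg1]; push_cast; ring
  have hneg : ∀ i j : ℤ, i < j → FunFld.L (Finsupp.single A i - Finsupp.single Q j : FunFld.Divisor k K) = ⊥ :=
    fun i j hij => L_eq_bot_of_deg_neg hK (by rw [hdeg]; omega)
  -- principal divisors of the shape `i (Q - A)`
  have hprin : ∀ i : ℤ, 0 < FunFld.ell (Finsupp.single A i - Finsupp.single Q i : FunFld.Divisor k K) →
      FunFld.ell (Finsupp.single A i - Finsupp.single Q i : FunFld.Divisor k K) = 1 ∧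
      ∃ z : K, z ≠ 0 ∧ ∀ R : FunFld.Place k K, R.ord z = (Finsupp.single Q i - Finsupp.single A i : FunFld.Divisor k K) R := by
    intro i hi
    obtain ⟨z, hz, hz'⟩ := exists_effective hK hi
    have h0 := deg_nonneg_lt hK hz' (by rw [deg_add, deg_div hK, hdeg]; omega)
    refine ⟨?_, z, hz, fun R => ?_⟩
    · rw [← ell_eq_of_eq_add_div hK (D := Finsupp.single A i - Finsupp.single Q i) hz, h0, ell_zero hK]
    · have h1 := congrArg (fun E : FunFld.Divisor k K => E R) h0
      simp only [Finsupp.add_apply, Finsupp.sub_apply, Finsupp.zero_apply, div_apply hK] at h1 ⊢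
      omega
  haveI hfin := finiteDimensional_L hK (Finsupp.single A (g : ℤ) : FunFld.Divisor k K)
  have hellg : FunFld.ell (Finsupp.single A (g : ℤ) : FunFld.Divisor k K) = g := by
    have := hlarge g 0 (by omega)
    rw [Finsupp.single_zero, sub_zero] at this
    omega
  have hell2 : FunFld.ell (Finsupp.single A ((g : ℤ) - 2) : FunFld.Divisor k K) + 2 = g := by
    have := hlarge ((g : ℤ) - 2) 0 (by omega)
    rw [Finsupp.single_zero, sub_zero] at this
    omega
  let d : ℕ → ℕ := fun m => Module.finrank k ↥(V₁ ⊓ FunFld.L (Finsupp.single A (g : ℤ) - Finsupp.single Q (m : ℤ)))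
  have hterm : ∀ n : ℕ, Module.finrank k
      ↥(V₁ ⊓ FunFld.L (Finsupp.single A (2 * (g : ℤ) - 2) - Finsupp.single Q ((n : ℤ) + 1))) = d (n + 1) := by
    intro n
    have e : V₁ ⊓ FunFld.L (Finsupp.single A (2 * (g : ℤ) - 2) - Finsupp.single Q ((n : ℤ) + 1)) =
        V₁ ⊓ FunFld.L (Finsupp.single A (g : ℤ) - Finsupp.single Q (((n + 1 : ℕ) : ℤ))) := by
      refine le_antisymm (fun u hu => ⟨hu.1, fun R => ?ha⟩) (inf_le_inf_left V₁ (L_mono ?hb))
      case ha =>
        rcases eq_or_ne R Q with rfl | hR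
        · have := hu.2 R
          simpa [Finsupp.single_eq_of_ne hQ] using this
        · have := hhi hu.1 R
          simpa [Finsupp.single_eq_of_ne hR] using this
      case hb =>
        push_cast
        exact sub_le_sub_right (Finsupp.single_mono (by omega)) _
    exact congrArg (fun W : Submodule k K => Module.finrank k W) e
  rw [Finset.sum_congr rfl fun n _ => hterm n]
  -- upper bounds
  have hle : ∀ m : ℕ, d m ≤ FunFld.ell (Finsupp.single A (g : ℤ) - Finsupp.single Q (m : ℤ) : FunFld.Divisor k K) := by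
    intro m
    haveI := finiteDimensional_L hK (Finsupp.single A (g : ℤ) - Finsupp.single Q (m : ℤ) : FunFld.Divisor k K)
    exact Submodule.finrank_mono inf_le_right
  have hhyper : ∀ m : ℕ, m < g →
      (FunFld.ell (Finsupp.single A ((g : ℤ) - 2) - Finsupp.single Q (m : ℤ) : FunFld.Divisor k K) : ℤ) + 2 ≤ g - m →
      (d m : ℤ) + 1 ≤ g - m := by
    intro m hm hsmall
    haveI := finiteDimensional_L hK (Finsupp.single A (g : ℤ) - Finsupp.single Q (m : ℤ) : FunFld.Divisor k K)
    haveI := finiteDimensional_L hK (Finsupp.single A ((g : ℤ) - 2) : FunFld.Divisor k K)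
    have hW := hlarge g m (by omega)
    by_contra hno
    have h1 := Submodule.finrank_mono (inf_le_right : V₁ ⊓ FunFld.L (Finsupp.single A (g : ℤ) - Finsupp.single Q (m : ℤ)) ≤ _)
    have heq : V₁ ⊓ FunFld.L (Finsupp.single A (g : ℤ) - Finsupp.single Q (m : ℤ)) =
        FunFld.L (Finsupp.single A (g : ℤ) - Finsupp.single Q (m : ℤ)) := by
      refine Submodule.eq_of_le_of_finrank_le inf_le_right ?_
      change FunFld.ell _ ≤ d m
      omega
    haveI : FiniteDimensional k V₁ := Submodule.finiteDimensional_of_le hhi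
    have h2 := Submodule.finrank_sup_add_finrank_inf_eq (FunFld.L (Finsupp.single A (g : ℤ) - Finsupp.single Q (m : ℤ)))
      (FunFld.L (Finsupp.single A ((g : ℤ) - 2)))
    have h3 := Submodule.finrank_mono (sup_le (inf_eq_right.1 heq) hlo)
    have h4 : FunFld.L (Finsupp.single A (g : ℤ) - Finsupp.single Q (m : ℤ)) ⊓ FunFld.L (Finsupp.single A ((g : ℤ) - 2)) ≤
        FunFld.L (Finsupp.single A ((g : ℤ) - 2) - Finsupp.single Q (m : ℤ)) := fun u hu R => by
      rcases eq_or_ne R Q with rfl | hR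
      · have := hu.1 R
        simpa [Finsupp.single_eq_of_ne hQ] using this
      · have := hu.2 R
        simpa [Finsupp.single_eq_of_ne hR] using this
    haveI := finiteDimensional_L hK (Finsupp.single A ((g : ℤ) - 2) - Finsupp.single Q (m : ℤ) : FunFld.Divisor k K)
    have h5 := Submodule.finrank_mono h4
    change _ ≤ FunFld.ell _ at h5
    change _ + _ = FunFld.ell _ + FunFld.ell _ at h2
    omega
  have hsmallm : ∀ i ∈ Finset.range (g - 3), (d (i + 1) : ℤ) ≤ (g : ℤ) - 2 - i := by
    intro i hi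
    rw [Finset.mem_range] at hi
    have := hlarge ((g : ℤ) - 2) ((i + 1 : ℕ) : ℤ) (by omega)
    have h1 := hhyper (i + 1) (by omega) (by omega)
    omega
  have hzero : ∀ m, g < m → d m = 0 := by
    intro m hm
    have := hle m
    rw [FunFld.ell, hneg g m (by omega), finrank_bot] at this
    omega
  have hg1' : (d (g - 1) : ℤ) ≤ 1 := by
    have := hle (g - 1)
    have := hlarge g ((g - 1 : ℕ) : ℤ) (by omega)
    omega
  have htop : d (g - 2) + d g ≤ 2 := by
    have hA2 := hle (g - 2)
    have h2 := hlarge g ((g - 2 : ℕ) : ℤ) (by omega)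
    have hB := hle g
    rcases Nat.eq_zero_or_pos (FunFld.ell (Finsupp.single A (g : ℤ) - Finsupp.single Q (g : ℤ) : FunFld.Divisor k K)) with h0 | h0
    · omega
    obtain ⟨hone, z₂, hz₂, hzd₂⟩ := hprin g h0
    rcases Nat.eq_zero_or_pos (FunFld.ell (Finsupp.single A ((g : ℤ) - 2) - Finsupp.single Q ((g : ℤ) - 2) : FunFld.Divisor k K)) with h0' | h0'
    · have e : ((g - 2 : ℕ) : ℤ) = (g : ℤ) - 2 := by omega
      have h3 := hhyper (g - 2) (by omega) (by rw [e, h0']; omega)
      omega
    exfalso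
    obtain ⟨-, z₁, hz₁, hzd₁⟩ := hprin _ h0'
    obtain ⟨u, rfl⟩ : ∃ u, h = u + 1 := ⟨h - 1, by omega⟩
    let z := z₁ ^ (u + 1) / z₂ ^ u
    have hz : ∀ R : FunFld.Place k K, R.ord z = (Finsupp.single Q 1 - Finsupp.single A 1 : FunFld.Divisor k K) R := by
      intro R
      have hv : R.1 z = WithZero.exp (-((u + 1 : ℕ) * R.ord z₁ - (u : ℤ) * R.ord z₂)) := by
        simp only [z, map_div₀, map_pow, val_eq_exp R hz₁, val_eq_exp R hz₂, ← WithZero.exp_nsmul, ← WithZero.exp_sub,
          nsmul_eq_mul]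
        congr 1; push_cast; ring
      rw [FunFld.Place.ord, hv, WithZero.log_exp, neg_neg, hzd₁, hzd₂]
      simp only [Finsupp.sub_apply, Finsupp.single_apply, hgdef]
      split_ifs <;> push_cast <;> ring
    have hsimple : A.ord z = -1 := by simp [hz, Finsupp.single_eq_of_ne (Ne.symm hQ)]
    have hother : ∀ R : FunFld.Place k K, R ≠ A → 0 ≤ R.ord z := fun R hR => by
      rw [hz, Finsupp.sub_apply, Finsupp.single_eq_of_ne hR, Finsupp.single_apply]
      split <;> omega
    have := genus_zero_of_adjoin_top hK (adjoin_eq_top_of_simple_pole hK (hd1 A) hsimple hother)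
    omega
  -- the sum
  have hsplit : ∑ n ∈ Finset.range (2 * g - 2), d (n + 1) =
      (∑ i ∈ Finset.range (g - 3), d (i + 1)) + d (g - 2) + d (g - 1) + d g := by
    rw [← Finset.sum_range_add_sum_Ico (fun n => d (n + 1)) (show g - 3 ≤ 2 * g - 2 by omega),
      ← Finset.sum_Ico_consecutive (fun n => d (n + 1)) (show g - 3 ≤ g by omega) (show g ≤ 2 * g - 2 by omega),
      Finset.sum_eq_zero (s := Finset.Ico g (2 * g - 2)) (fun n hn => hzero _ (by rw [Finset.mem_Ico] at hn; omega)),
      Finset.sum_Ico_eq_sum_range, show g - (g - 3) = 3 by omega, Finset.sum_range_succ, Finset.sum_range_succ,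
      Finset.sum_range_one]
    simp only [add_zero]
    rw [show g - 3 + 2 + 1 = g by omega, show g - 3 + 1 + 1 = g - 1 by omega, show g - 3 + 1 = g - 2 by omega]
    ring
  rw [hsplit]
  have hbound : 2 * ∑ i ∈ Finset.range (g - 3), (d (i + 1) : ℤ) ≤ ((g : ℤ) - 1) * ((g : ℤ) - 2) - 2 := by
    refine (mul_le_mul_of_nonneg_left (Finset.sum_le_sum hsmallm) zero_le_two).trans ?_
    have : ∀ N : ℕ, 2 * ∑ i ∈ Finset.range N, ((g : ℤ) - 2 - i) = 2 * N * ((g : ℤ) - 2) - N * ((N : ℤ) - 1) := by
      intro N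
      induction N with
      | zero => simp
      | succ m ih => rw [Finset.sum_range_succ, mul_add, ih]; push_cast; ring
    rw [this, Nat.cast_sub h3]
    push_cast
    nlinarith
  have hch : (2 * (g - 1).choose 2 : ℤ) = ((g : ℤ) - 1) * ((g : ℤ) - 2) := by
    rw [Nat.choose_two_right]
    obtain ⟨c, hc⟩ := (Nat.even_mul_pred_self (g - 1)).two_dvd
    have e : ((g : ℤ) - 1) * ((g : ℤ) - 2) = (((g - 1) * (g - 1 - 1) : ℕ) : ℤ) := by
      push_cast [Nat.cast_sub (show 1 ≤ g - 1 by omega), Nat.cast_sub (show 1 ≤ g by omega)]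
      ring
    rw [e, hc, Nat.mul_div_cancel_left _ two_pos]
    push_cast; ring
  zify at htop ⊢
  linarith

end Groth.Agent.S17247
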