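import Groth.Statements.S17248
import Mathlib
import Groth.Agent.H23Proj.Basic
import Groth.Agent.H23Curve.Basic

set_option autoImplicit false
open FunFld

namespace Groth.Agent.S17248

/-- Let `K/k` be a function field of one variable of genus one over an algebraically closed field `k` of
characteristic zero (an elliptic curve `E`), `A` a place, and `g ≥ 3` an integer. Inside
`H⁰(O_E((2g-2)A)) = L((2g-2)A)` consider `V = L(gA)` (dimension `g`) and any hyperplane `V₁` of it
containing `L((g-2)A)`: `L((g-2)A) ⊆ V₁ ⊆ L(gA)`, `dim V₁ = g - 1`. Vanishing orders are those of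
sections of `O_E((2g-2)A)`: a member `f` vanishes to order at least `n` at a place `Q` when `f ∈
L((2g-2)A - nQ)`, and the weight of `V₁` at `Q` is `∑_{n=1}^{2g-2} dim (V₁ ∩ L((2g-2)A - nQ)) - (g-1
choose 2)` (the sum of the `g - 1` vanishing orders minus `0 + 1 + ⋯ + (g-2)`). Then the weight of
`V₁` at `A` is `(g-1)² + ε` with `ε ∈ {0, 1}`. (The published statement is for a smooth elliptic
curve over the complex numbers and `g` odd positive; `g ≥ 3` here since the ambient inclusion needs
it; this row does not assume `g` odd.) -/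
theorem result
    (k K : Type*) [Field k] [IsAlgClosed k] [CharZero k] [Field K] [Algebra k K]
    (hK : FunFld.IsFunctionField k K) (hg1 : FunFld.genus k K = 1)
    (g : ℕ) (h3 : 3 ≤ g) (A : FunFld.Place k K)
    (V₁ : Submodule k K) (hlo : FunFld.L (Finsupp.single A ((g : ℤ) - 2)) ≤ V₁)
    (hhi : V₁ ≤ FunFld.L (Finsupp.single A (g : ℤ))) (hdim : Module.finrank k ↥V₁ + 1 = g) :
    ∃ ε : ℕ, ε ≤ 1 ∧
      (∑ n ∈ Finset.range (2 * g - 2), Module.finrank k
        ↥(V₁ ⊓ FunFld.L (Finsupp.single A (2 * (g : ℤ) - 2) - Finsupp.single A ((n : ℤ) + 1)))) =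
      (g - 1).choose 2 + (g - 1) ^ 2 + ε := by
  classical
  open Groth.Agent.H23FunFld in
  have hd1 := Groth.Agent.H23Proj.deg_eq_one_of_isAlgClosed hK A
  have hlarge : ∀ i : ℤ, 1 ≤ i → (FunFld.ell (Finsupp.single A i : FunFld.Divisor k K) : ℤ) = i := by
    intro i hi
    have h := ell_of_deg_large hK (D := Finsupp.single A i) (by rw [deg_single, hd1, hg1]; push_cast; omega)
    rw [h, deg_single, hd1, hg1]; push_cast; ring
  haveI hfin := finiteDimensional_L hK (Finsupp.single A (g : ℤ) : FunFld.Divisor k K)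
  haveI : FiniteDimensional k V₁ := Submodule.finiteDimensional_of_le hhi
  let d : ℕ → ℕ := fun i => Module.finrank k ↥(V₁ ⊓ FunFld.L (Finsupp.single A (i : ℤ)))
  have hhigh : ∀ i : ℕ, g ≤ i → d i = g - 1 := by
    intro i hi
    have e : V₁ ⊓ FunFld.L (Finsupp.single A (i : ℤ)) = V₁ :=
      inf_eq_left.2 (hhi.trans (L_mono (Finsupp.single_mono (by omega))))
    rw [show d i = Module.finrank k V₁ from congrArg (fun W : Submodule k K => Module.finrank k W) e]
    omega
  have hlow : ∀ i : ℕ, i + 2 ≤ g → d i = FunFld.ell (Finsupp.single A (i : ℤ) : FunFld.Divisor k K) := by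
    intro i hi
    have e : V₁ ⊓ FunFld.L (Finsupp.single A (i : ℤ)) = FunFld.L (Finsupp.single A (i : ℤ)) :=
      inf_eq_right.2 ((L_mono (Finsupp.single_mono (by omega))).trans hlo)
    exact congrArg (fun W : Submodule k K => Module.finrank k W) e
  have hzero : d 0 = 1 := by
    rw [hlow 0 (by omega), Nat.cast_zero, Finsupp.single_zero, ell_zero hK]
  have hmid : g - 2 ≤ d (g - 1) ∧ d (g - 1) ≤ g - 1 := by
    constructor
    · have h1 := hlow (g - 2) (by omega)
      have h2 := hlarge ((g - 2 : ℕ) : ℤ) (by omega)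
      haveI := finiteDimensional_L hK (Finsupp.single A ((g - 1 : ℕ) : ℤ) : FunFld.Divisor k K)
      have h3 : d (g - 2) ≤ d (g - 1) :=
        Submodule.finrank_mono (inf_le_inf_left V₁ (L_mono (Finsupp.single_mono (by omega))))
      omega
    · have := Submodule.finrank_mono (inf_le_left : V₁ ⊓ FunFld.L (Finsupp.single A ((g - 1 : ℕ) : ℤ)) ≤ V₁)
      simp only [d]
      omega
  refine ⟨d (g - 1) - (g - 2), by omega, ?_⟩
  have hterm : ∀ n ∈ Finset.range (2 * g - 2), Module.finrank k
      ↥(V₁ ⊓ FunFld.L (Finsupp.single A (2 * (g : ℤ) - 2) - Finsupp.single A ((n : ℤ) + 1))) = d (2 * g - 2 - 1 - n) := by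
    intro n hn
    rw [Finset.mem_range] at hn
    rw [← Finsupp.single_sub, show (2 * (g : ℤ) - 2 - ((n : ℤ) + 1)) = ((2 * g - 2 - 1 - n : ℕ) : ℤ) by omega]
  rw [Finset.sum_congr rfl hterm, Finset.sum_range_reflect d (2 * g - 2),
    ← Finset.sum_range_add_sum_Ico d (show g - 1 ≤ 2 * g - 2 by omega),
    Finset.sum_eq_sum_Ico_succ_bot (show g - 1 < 2 * g - 2 by omega),
    Finset.sum_congr rfl (fun i (hi : i ∈ Finset.Ico (g - 1 + 1) (2 * g - 2)) => hhigh i (by rw [Finset.mem_Ico] at hi; omega)),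
    Finset.sum_const, Nat.card_Ico, smul_eq_mul]
  obtain ⟨u, rfl⟩ : ∃ u, g = u + 2 := ⟨g - 2, by omega⟩
  simp only [show u + 2 - 1 = u + 1 by omega, show u + 2 - 2 = u by omega] at hmid ⊢
  rw [Finset.sum_range_succ' d u, hzero, show 2 * (u + 2) - 2 - (u + 1 + 1) = u by omega]
  have hs : ∀ N ≤ u, 2 * ∑ i ∈ Finset.range N, d (i + 1) = N * (N + 1) := by
    intro N hN
    induction N with
    | zero => simp
    | succ m ih =>
      have h1 := hlow (m + 1) (by omega)
      have h2 := hlarge ((m + 1 : ℕ) : ℤ) (by omega)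
      have h4 : d (m + 1) = m + 1 := by omega
      rw [Finset.sum_range_succ, mul_add, ih (by omega), h4]
      ring
  have h5 := hs u le_rfl
  have h6 : 2 * (u + 1).choose 2 = u * (u + 1) := by
    rw [Nat.choose_two_right, Nat.add_sub_cancel, mul_comm u (u + 1)]
    exact Nat.mul_div_cancel' (by rw [mul_comm]; exact (Nat.even_mul_succ_self u).two_dvd)
  obtain ⟨e, he⟩ : ∃ e, d (u + 1) = u + e := ⟨d (u + 1) - u, by omega⟩
  rw [he, show u + e - u = e by omega]
  nlinarith

end Groth.Agent.S17248
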