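import Groth.Statements.S17249
import Mathlib
import Groth.Agent.H23Proj.Basic
import Groth.Agent.H23Curve.Basic

set_option autoImplicit false
open FunFld

namespace Groth.Agent.S17249

/-- Let `K/k` be a function field of one variable of genus two over an algebraically closed field `k` of
characteristic zero (a smooth curve `X` of genus `2`), `C` a canonical divisor, `A` a place with
`ℓ(2A) = 1` (not a Weierstrass point), and `P`, `Q` places with `Q ≠ A`. Then `ℓ(C + 2A - P - 3Q) =
1` and `ℓ(C + 2A - P - Q) = 2` do not both hold: the two-dimensional complete system `H⁰(ω_X(2A -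
P))` (of degree `3`) has no point `Q ≠ A` of weight three. (The published statement concerns a
general pointed curve `(X, A)` of genus two over the complex numbers and a point `P` of `X`; this
row assumes only `ℓ(2A) = 1`.) -/
theorem result
    (k K : Type*) [Field k] [IsAlgClosed k] [CharZero k] [Field K] [Algebra k K]
    (hK : FunFld.IsFunctionField k K) (hg : FunFld.genus k K = 2)
    (C : FunFld.Divisor k K) (hC : FunFld.IsCanonical k K C)
    (A P Q : FunFld.Place k K) (hA : Module.finrank k ↥(FunFld.L (Finsupp.single A (2 : ℤ))) = 1) (hQ : Q ≠ A) :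
    ¬ (Module.finrank k ↥(FunFld.L (C + Finsupp.single A (2 : ℤ) - Finsupp.single P (1 : ℤ) - Finsupp.single Q (3 : ℤ))) = 1 ∧
       Module.finrank k ↥(FunFld.L (C + Finsupp.single A (2 : ℤ) - Finsupp.single P (1 : ℤ) - Finsupp.single Q (1 : ℤ))) = 2) := by
  classical
  open Groth.Agent.H23FunFld in
  rintro ⟨-, h2⟩
  have hd1 := fun R : FunFld.Place k K => Groth.Agent.H23Proj.deg_eq_one_of_isAlgClosed hK R
  change FunFld.ell _ = 2 at h2
  change FunFld.ell _ = 1 at hA
  set E : FunFld.Divisor k K := C + Finsupp.single A 2 - Finsupp.single P 1 - Finsupp.single Q 1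
  have hrr := riemann_roch hK hC E
  have hdC := (canonical_ell_deg hK hC).2
  have hdE : E.deg = 2 := by
    simp only [E, deg_sub, deg_add, deg_single, hd1, hdC, hg]
    norm_num
  rw [h2, hdE, hg] at hrr
  push_cast at hrr
  obtain ⟨z, hz, hz'⟩ := exists_effective hK (D := C - E) (by omega)
  have hCE : ∀ R, (C - E) R = (Finsupp.single P 1 + Finsupp.single Q 1 - Finsupp.single A (2 : ℤ) : FunFld.Divisor k K) R := fun R => by
    simp [E]; ring
  have h0 := deg_nonneg_lt hK hz' (by rw [deg_add, deg_div hK, deg_sub, hdC, hdE, hg]; norm_num)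
  have hzd : ∀ R, R.ord z + (C - E) R = 0 := fun R => by
    have := congrArg (fun F : FunFld.Divisor k K => F R) h0
    simp only [Finsupp.add_apply, Finsupp.zero_apply, div_apply hK] at this
    omega
  have hle : FunFld.L (0 : FunFld.Divisor k K) ≤ FunFld.L (Finsupp.single A (2 : ℤ)) :=
    L_mono (Finsupp.single_nonneg.2 (by norm_num))
  haveI := finiteDimensional_L hK (Finsupp.single A (2 : ℤ) : FunFld.Divisor k K)
  have hconst := Submodule.eq_of_le_of_finrank_eq hle ((ell_zero hK).trans hA.symm)
  have hmem : z⁻¹ ∈ FunFld.L (Finsupp.single A (2 : ℤ)) := fun R => by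
    rw [val_le_exp_iff R (inv_ne_zero hz), ord_inv, neg_neg]
    have h1 := hzd R
    rw [hCE] at h1
    simp only [Finsupp.sub_apply, Finsupp.add_apply, Finsupp.single_apply] at h1 ⊢
    split_ifs at h1 ⊢ <;> omega
  rw [← hconst, L_zero hK] at hmem
  obtain ⟨c, hc⟩ := Submodule.mem_one.1 hmem
  have h1 := hzd Q
  rw [hCE] at h1
  have h3 : Q.ord z⁻¹ = 0 := by rw [← hc]; exact ord_const Q c
  rw [ord_inv] at h3
  simp only [Finsupp.sub_apply, Finsupp.add_apply, Finsupp.single_eq_same, Finsupp.single_eq_of_ne hQ,
    Finsupp.single_apply] at h1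
  split_ifs at h1 <;> omega

end Groth.Agent.S17249
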