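import Groth.Statements.S17250
import Mathlib
import Groth.Agent.H23Proj.Basic
import Groth.Agent.H23Curve.Basic

set_option autoImplicit false
open FunFld

namespace Groth.Agent.S17250

/-- Let `K/k` be a function field of one variable of genus two over an algebraically closed field `k` of
characteristic zero (a smooth curve `X` of genus `2`), `C` a canonical divisor, `A` a place with
`ℓ(2A) = 1`, and `P`, `Q` places different from `A`. Then `ℓ(C + 3A - P - 4Q) = 1` and `ℓ(C + 3A - P
- 2Q) = 2` do not both hold (the three-dimensional complete system `H⁰(ω_X(3A - P))`, of degree `4`,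
has no point `Q ≠ A` with two independent sections vanishing to order at least `2` there and one
vanishing to order at least `4`). (The published statement concerns a general pointed curve `(X, A)`
of genus two over the complex numbers and a point `P ≠ A`; this row assumes `ℓ(2A) = 1` in place of
generality.) -/
theorem result
    (k K : Type*) [Field k] [IsAlgClosed k] [CharZero k] [Field K] [Algebra k K]
    (hK : FunFld.IsFunctionField k K) (hg : FunFld.genus k K = 2)
    (C : FunFld.Divisor k K) (hC : FunFld.IsCanonical k K C)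
    (A P Q : FunFld.Place k K) (hA : Module.finrank k ↥(FunFld.L (Finsupp.single A (2 : ℤ))) = 1) (hP : P ≠ A) (hQ : Q ≠ A) :
    ¬ (Module.finrank k ↥(FunFld.L (C + Finsupp.single A (3 : ℤ) - Finsupp.single P (1 : ℤ) - Finsupp.single Q (4 : ℤ))) = 1 ∧
       Module.finrank k ↥(FunFld.L (C + Finsupp.single A (3 : ℤ) - Finsupp.single P (1 : ℤ) - Finsupp.single Q (2 : ℤ))) = 2) := by
  classical
  open Groth.Agent.H23FunFld in
  rintro ⟨h1, h2⟩
  have hd1 := fun R : FunFld.Place k K => Groth.Agent.H23Proj.deg_eq_one_of_isAlgClosed hK R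
  change FunFld.ell _ = 1 at h1
  change FunFld.ell _ = 2 at h2
  obtain ⟨hlC, hdC⟩ := canonical_ell_deg hK hC
  rw [hg] at hlC hdC
  push_cast at hdC
  have hlarge : ∀ D : FunFld.Divisor k K, D.deg = 3 → FunFld.ell D = 2 := fun D hD => by
    have h := ell_of_deg_large hK (D := D) (by rw [hg, hD]; norm_num)
    rw [hD, hg] at h
    push_cast at h
    omega
  set E : FunFld.Divisor k K := C + Finsupp.single A 3 - Finsupp.single P 1 - Finsupp.single Q 2
  have hdE : E.deg = 2 := by simp only [E, deg_sub, deg_add, deg_single, hd1, hdC]; norm_num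
  have hrr := riemann_roch hK hC E
  rw [h2, hdE, hg] at hrr
  push_cast at hrr
  -- `3A ∼ P + 2Q` and `C + 3A ∼ P + 4Q`
  obtain ⟨z, hz, hz'⟩ := exists_effective hK (D := C - E) (by omega)
  have hzd := deg_nonneg_lt hK hz' (by rw [deg_add, deg_div hK, deg_sub, hdC, hdE]; norm_num)
  set E' : FunFld.Divisor k K := C + Finsupp.single A 3 - Finsupp.single P 1 - Finsupp.single Q 4
  obtain ⟨w, hw, hw'⟩ := exists_effective hK (D := E') (by omega)
  have hwd := deg_nonneg_lt hK hw' (by
    rw [deg_add, deg_div hK]; simp only [E', deg_sub, deg_add, deg_single, hd1, hdC]; norm_num)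
  have hu : w * (z * z) ≠ 0 := mul_ne_zero hw (mul_ne_zero hz hz)
  -- so `3A - P ∼ C`
  have h3P : FunFld.ell (Finsupp.single A (3 : ℤ) - Finsupp.single P (1 : ℤ) : FunFld.Divisor k K) = 2 := by
    have e : Finsupp.single A (3 : ℤ) - Finsupp.single P (1 : ℤ) = C + FunFld.div k (w * (z * z)) := by
      rw [div_mul hK hw (mul_ne_zero hz hz), div_mul hK hz hz]
      ext R
      have a := congrArg (fun F : FunFld.Divisor k K => F R) hzd
      have b := congrArg (fun F : FunFld.Divisor k K => F R) hwd
      simp only [E, E', Finsupp.add_apply, Finsupp.sub_apply, Finsupp.zero_apply, div_apply hK,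
        Finsupp.single_apply] at a b ⊢
      split_ifs at a b ⊢ <;> omega
    rw [e, ell_eq_of_eq_add_div hK hu, hlC]
  haveI := finiteDimensional_L hK (Finsupp.single A (3 : ℤ) : FunFld.Divisor k K)
  have e := Submodule.eq_of_le_of_finrank_eq
    (L_mono (sub_le_self (Finsupp.single A (3 : ℤ) : FunFld.Divisor k K) (show (0 : FunFld.Divisor k K) ≤ Finsupp.single P 1 from Finsupp.single_nonneg.2 zero_le_one)))
    (h3P.trans (hlarge _ (by rw [deg_single, hd1]; norm_num)).symm)
  have h1A : (1 : K) ∈ FunFld.L (Finsupp.single A (3 : ℤ)) := fun R => by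
    rw [map_one, ← WithZero.exp_zero, WithZero.exp_le_exp, Finsupp.single_apply]
    split <;> omega
  rw [← e] at h1A
  have := h1A P
  rw [map_one, ← WithZero.exp_zero, WithZero.exp_le_exp, Finsupp.sub_apply, Finsupp.single_eq_same,
    Finsupp.single_eq_of_ne hP] at this
  omega

end Groth.Agent.S17250
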