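import Groth.Statements.S17251
import Mathlib
import Groth.Agent.H23Proj.Basic
import Groth.Agent.H23Curve.Basic

set_option autoImplicit false
open FunFld

namespace Groth.Agent.S17251

/-- Let `K/k` be a function field of one variable of genus two over an algebraically closed field `k` of
characteristic zero (a smooth curve `Y` of genus `2`), `C` a canonical divisor, `B` a place with
`ℓ(2B) = 1` (not a Weierstrass point) and `Q ≠ B` a place. Then `ℓ(C + B - 2Q) = 1` and `ℓ(C + 3B -
4Q) = 1` do not both hold: the complete systems `H⁰(ω_Y(B))` (dimension `2`, degree `3`) and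
`H⁰(ω_Y(3B))` (dimension `4`, degree `5`) have no ramification point in common on `Y` minus `B`.
(The published statement concerns a general pointed curve `(Y, B)` of genus two over the complex
numbers; this row assumes only `ℓ(2B) = 1`.) -/
theorem result
    (k K : Type*) [Field k] [IsAlgClosed k] [CharZero k] [Field K] [Algebra k K]
    (hK : FunFld.IsFunctionField k K) (hg : FunFld.genus k K = 2)
    (C : FunFld.Divisor k K) (hC : FunFld.IsCanonical k K C)
    (B Q : FunFld.Place k K) (hB : Module.finrank k ↥(FunFld.L (Finsupp.single B (2 : ℤ))) = 1) (hQ : Q ≠ B) :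
    ¬ (Module.finrank k ↥(FunFld.L (C + Finsupp.single B (1 : ℤ) - Finsupp.single Q (2 : ℤ))) = 1 ∧
       Module.finrank k ↥(FunFld.L (C + Finsupp.single B (3 : ℤ) - Finsupp.single Q (4 : ℤ))) = 1) := by
  classical
  open Groth.Agent.H23FunFld in
  rintro ⟨h1, h2⟩
  have hd1 := fun R : FunFld.Place k K => Groth.Agent.H23Proj.deg_eq_one_of_isAlgClosed hK R
  change FunFld.ell _ = 1 at h1
  change FunFld.ell _ = 1 at h2
  change FunFld.ell _ = 1 at hB
  obtain ⟨hlC, hdC⟩ := canonical_ell_deg hK hC
  rw [hg] at hlC hdC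
  push_cast at hdC
  have hlarge : ∀ D : FunFld.Divisor k K, D.deg = 3 → FunFld.ell D = 2 := fun D hD => by
    have h := ell_of_deg_large hK (D := D) (by rw [hg, hD]; norm_num)
    rw [hD, hg] at h
    push_cast at h
    omega
  have hnonzero : ∀ D : FunFld.Divisor k K, FunFld.ell D = 1 → ∃ z ∈ FunFld.L D, z ≠ 0 := fun D hD => by
    have : FunFld.L D ≠ ⊥ := fun h => by rw [FunFld.ell, h, finrank_bot] at hD; omega
    exact Submodule.exists_mem_ne_zero_of_ne_bot this
  obtain ⟨z, hzL, hz⟩ := hnonzero _ h1
  obtain ⟨w, hwL, hw⟩ := hnonzero _ h2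
  -- `C` has a member vanishing twice at `Q`
  haveI := finiteDimensional_L hK (C + Finsupp.single B (1 : ℤ))
  have hCB : FunFld.L C = FunFld.L (C + Finsupp.single B (1 : ℤ)) :=
    Submodule.eq_of_le_of_finrank_eq (L_mono (le_add_of_nonneg_right (Finsupp.single_nonneg.2 zero_le_one)))
      (hlC.trans (hlarge _ (by rw [deg_add, deg_single, hd1, hdC]; norm_num)).symm)
  have hzC : z ∈ FunFld.L C := hCB ▸ L_mono (sub_le_self _ (Finsupp.single_nonneg.2 (by norm_num))) hzL
  have hz' : z ∈ FunFld.L (C - Finsupp.single Q (2 : ℤ)) := fun R => by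
    rcases eq_or_ne R Q with rfl | hR
    · have := hzL R
      simpa [Finsupp.single_eq_of_ne hQ] using this
    · have := hzC R
      simpa [Finsupp.single_eq_of_ne hR] using this
  have hzd : FunFld.div k z + (C - Finsupp.single Q (2 : ℤ)) = 0 := deg_nonneg_lt hK (fun R => by
      have := (val_le_exp_iff R hz).1 (hz' R)
      simp only [Finsupp.coe_zero, Pi.zero_apply, Finsupp.add_apply, div_apply hK]
      omega) (by rw [deg_add, deg_div hK, deg_sub, deg_single, hd1, hdC]; norm_num)
  have hzR : ∀ R, R.ord z + C R - (Finsupp.single Q (2 : ℤ) : FunFld.Divisor k K) R = 0 := fun R => by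
    have := congrArg (fun F : FunFld.Divisor k K => F R) hzd
    simp only [Finsupp.add_apply, Finsupp.sub_apply, Finsupp.zero_apply, div_apply hK] at this
    omega
  -- `3B - C` is effective up to equivalence
  set u := w / (z * z)
  have hu : u ≠ 0 := div_ne_zero hw (mul_ne_zero hz hz)
  have hE : 0 ≤ FunFld.div k u + (Finsupp.single B (3 : ℤ) - C) := fun R => by
    have h5 := hzR R
    have h6 := (val_le_exp_iff R hw).1 (hwL R)
    have e : R.ord u = R.ord w - 2 * R.ord z := by
      rw [show u = w * (z⁻¹ * z⁻¹) by simp only [u]; field_simp, ord_mul R hw (mul_ne_zero (inv_ne_zero hz) (inv_ne_zero hz)),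
        ord_mul R (inv_ne_zero hz) (inv_ne_zero hz), ord_inv]
      ring
    simp only [Finsupp.coe_zero, Pi.zero_apply, Finsupp.add_apply, Finsupp.sub_apply, div_apply hK, e,
      Finsupp.single_apply] at h5 h6 ⊢
    split_ifs at h5 h6 ⊢ <;> omega
  obtain ⟨S, -, hS⟩ := Groth.Agent.H23Curve.eq_single_of_deg_one hK hE
    (by rw [deg_add, deg_div hK, deg_sub, deg_single, hd1, hdC]; norm_num)
  have h3S : FunFld.ell (Finsupp.single B (3 : ℤ) - Finsupp.single S (1 : ℤ) : FunFld.Divisor k K) = 2 := by
    rw [← ell_eq_of_eq_add_div hK (D := Finsupp.single B (3 : ℤ) - Finsupp.single S (1 : ℤ)) hu,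
      show Finsupp.single B (3 : ℤ) - Finsupp.single S (1 : ℤ) + FunFld.div k u = C by rw [← hS]; abel, hlC]
  rcases eq_or_ne S B with rfl | hSB
  · rw [← Finsupp.single_sub] at h3S
    norm_num [hB] at h3S
  · haveI := finiteDimensional_L hK (Finsupp.single B (3 : ℤ) : FunFld.Divisor k K)
    have e := Submodule.eq_of_le_of_finrank_eq
      (L_mono (sub_le_self (Finsupp.single B (3 : ℤ) : FunFld.Divisor k K) (show (0 : FunFld.Divisor k K) ≤ Finsupp.single S 1 from Finsupp.single_nonneg.2 zero_le_one)))
      (h3S.trans (hlarge _ (by rw [deg_single, hd1]; norm_num)).symm)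
    have h1B : (1 : K) ∈ FunFld.L (Finsupp.single B (3 : ℤ)) := fun R => by
      rw [map_one, ← WithZero.exp_zero, WithZero.exp_le_exp, Finsupp.single_apply]
      split <;> omega
    rw [← e] at h1B
    have := h1B S
    rw [map_one, ← WithZero.exp_zero, WithZero.exp_le_exp, Finsupp.sub_apply, Finsupp.single_eq_same,
      Finsupp.single_eq_of_ne hSB] at this
    omega

end Groth.Agent.S17251
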