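import Groth.Statements.S17252
import Groth.Agent.S7789
import Groth.Agent.H19Grp.AbSchemeRigid

set_option autoImplicit false
set_option maxHeartbeats 1000000
set_option synthInstance.maxHeartbeats 100000
set_option linter.style.haveILetI false
set_option backward.isDefEq.respectTransparency false
universe u
open CategoryTheory CategoryTheory.Limits MonoidalCategory CartesianMonoidalCategory MonObj GrpObj AlgebraicGeometry
open AbSch

namespace Groth.Agent.S17252

open CategoryTheory CategoryTheory.Limits AlgebraicGeometry in
theorem surjective_endo {S : Scheme.{u}} (A : Over S) [GrpObj A] [GeometricallyConnected A.hom] (f : A ⟶ A)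
    [IsFinite f.left] [Etale f.left] : Surjective f.left := by
  refine ⟨fun y => ?_⟩
  let s := A.hom y
  haveI : ConnectedSpace (A.hom.fiber s) :=
    GeometricallyConnected.geometrically_connectedSpace (f := A.hom) _ _ _
      (IsPullback.of_hasPullback A.hom (S.fromSpecResidueField s))
  have hfib : _root_.IsPreconnected (A.hom ⁻¹' {s}) := by
    rw [← Scheme.Hom.range_fiberι]
    exact isPreconnected_range (A.hom.fiberι s).continuous
  have hR : IsClopen (Set.range f.left) :=
    ⟨f.left.isClosedMap.isClosed_range, f.left.isOpenMap.isOpen_range⟩
  have hw : ∀ x, A.hom (f.left x) = A.hom x := fun x => by rw [← Scheme.Hom.comp_apply, Over.w]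
  exact hfib.subset_isClopen hR ⟨f.left y, hw y, y, rfl⟩ rfl


/-- Let S be a scheme, A an abelian scheme over S (an S-group scheme whose structure morphism is smooth
and proper with geometrically connected fibres) and m an integer whose image in Γ(S, O_S) is a unit.
Then multiplication by m, the m-th power [m] of the identity in the group of S-endomorphisms of A,
is surjective locally for the étale topology: for every S-scheme T and every α ∈ A(T) there are an
étale surjective S-morphism φ : T′ → T and β ∈ A(T′) with [m] ∘ β = α ∘ φ. With A[m] the kernel of
[m], this is the exactness on the right of the Kummer sequence 0 → A[m] → A → A → 0 of étale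
sheaves; in particular it holds for every étale S-scheme T, the case expressing exactness on the
small étale site of S, and it is stated here for all S-schemes T. -/
theorem result {S : Scheme.{u}} (A : Over S) [GrpObj A]
    [Smooth A.hom] [IsProper A.hom] [GeometricallyConnected A.hom]
    (m : ℤ) (hm : IsUnit (m : Γ(S, ⊤))) (T : Over S) (α : T ⟶ A) :
    ∃ (T' : Over S) (φ : T' ⟶ T) (β : T' ⟶ A),
      Etale φ.left ∧ Surjective φ.left ∧ β ≫ (𝟙 A ^ m) = φ ≫ α := by
  haveI := H19Grp.geometricallyReduced_of_smooth_hom A.hom
  obtain ⟨hfin, het⟩ := S7789.result A m hm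
  haveI := hfin
  haveI := het
  haveI := surjective_endo A (𝟙 A ^ m)
  refine ⟨Over.mk (Limits.pullback.fst α.left (𝟙 A ^ m).left ≫ T.hom), Over.homMk (Limits.pullback.fst α.left (𝟙 A ^ m).left) rfl,
    Over.homMk (Limits.pullback.snd α.left (𝟙 A ^ m).left) ?_, ?_, ?_, ?_⟩
  · show _ ≫ A.hom = _ ≫ T.hom
    rw [← Over.w α, ← Category.assoc, Limits.pullback.condition, Category.assoc, Over.w]
  · exact MorphismProperty.pullback_fst (P := @Etale) _ _ het
  · exact MorphismProperty.pullback_fst (P := @Surjective) _ _ ‹_›
  · exact Over.OverMorphism.ext Limits.pullback.condition.symm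

end Groth.Agent.S17252
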