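import Groth.Statements.S17253
import Groth.Agent.H25AbCube.MulN
import Groth.Agent.H25AbCube.HomFG
import Groth.Agent.H25AbCube.TorsionStr
import Groth.Agent.H05EGA4.Topo

set_option autoImplicit false
set_option linter.style.haveILetI false
set_option backward.isDefEq.respectTransparency false
set_option synthInstance.maxHeartbeats 200000
universe u
open CategoryTheory CategoryTheory.Limits MonoidalCategory CartesianMonoidalCategory MonObj GrpObj AlgebraicGeometry
open AbVar

namespace Groth.Agent.S17253

/-- Let k be a field and A, B abelian varieties over k (smooth proper k-group schemes with geometrically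
connected fibres), f : A → B a homomorphism, g : B → A an isogeny (a homomorphism which is finite,
flat and surjective) and d a nonzero integer with g ∘ f = [d]_A, the d-th power of the identity in
the group of endomorphisms of A. Then f is an isogeny as well — finite, flat and surjective — and f
∘ g = [d]_B. -/
theorem result (k : Type u) [Field k]
    (A B : Over (Spec (CommRingCat.of k)))
    [GrpObj A] [Smooth A.hom] [IsProper A.hom] [GeometricallyConnected A.hom]
    [GrpObj B] [Smooth B.hom] [IsProper B.hom] [GeometricallyConnected B.hom]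
    (f : A ⟶ B) [IsMonHom f] (g : B ⟶ A) [IsMonHom g] [IsFinite g.left] [Flat g.left] [Surjective g.left]
    (d : ℤ) (hd : d ≠ 0) (h : f ≫ g = 𝟙 A ^ d) :
    IsFinite f.left ∧ Flat f.left ∧ Surjective f.left ∧ g ≫ f = 𝟙 B ^ d := by
  haveI : GeometricallyIntegral A.hom := H25AbCube.geometricallyIntegral_of_smooth A
  haveI : GeometricallyIntegral B.hom := H25AbCube.geometricallyIntegral_of_smooth B
  haveI : IsIntegral A.left := GeometricallyIntegral.isIntegral_of_subsingleton A.hom
  haveI : IsIntegral B.left := GeometricallyIntegral.isIntegral_of_subsingleton B.hom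
  let m : A ⟶ A := 𝟙 A ^ d
  obtain ⟨n, hn, hdd⟩ : ∃ n : ℕ, 0 < n ∧ d * d = (n : ℤ) :=
    ⟨(d * d).natAbs, Int.natAbs_pos.2 (mul_ne_zero hd hd), (Int.natAbs_of_nonneg (mul_self_nonneg d)).symm⟩
  have hmm : m ≫ m = 𝟙 A ^ n := by
    show (𝟙 A ^ d) ≫ (𝟙 A ^ d) = _
    rw [GrpObj.comp_zpow, Category.comp_id, ← zpow_mul, hdd, zpow_natCast]
  haveI hmfin : IsFinite (m ≫ m).left := by
    rw [hmm]; exact H25AbCube.isFinite_pow hn
  haveI hmsurj : Surjective (m ≫ m).left := by
    rw [hmm]; exact H25AbCube.surjective_pow hn
  haveI : IsSeparated m.left := by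
    haveI : IsSeparated (m.left ≫ A.hom) := by rw [Over.w]; infer_instance
    exact IsSeparated.of_comp m.left A.hom
  haveI : IsFinite (m.left ≫ m.left) := hmfin
  haveI : Surjective (m.left ≫ m.left) := hmsurj
  haveI : IsFinite m.left := IsFinite.of_comp m.left m.left
  haveI : Surjective m.left := Surjective.of_comp m.left m.left
  have hfg : f.left ≫ g.left = m.left := congrArg (fun w : A ⟶ A => w.left) h
  haveI : IsFinite (f.left ≫ g.left) := hfg ▸ inferInstance
  haveI : IsFinite f.left := IsFinite.of_comp f.left g.left
  haveI : Surjective f.left := by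
    have hgen : ∀ {Z : Scheme.{u}} [IsIntegral Z] (w : Z ⟶ A.left) [Surjective w], w (genericPoint Z) = genericPoint A.left :=
      fun {Z} _ w _ => ((genericPoint_spec Z).image w.continuous).eq (by
        rw [Set.image_univ, w.surjective.range_eq, closure_univ]
        exact genericPoint_spec A.left)
    have e : g.left (f.left (genericPoint A.left)) = g.left (genericPoint B.left) := by
      rw [← Scheme.Hom.comp_apply, hfg, hgen m.left, hgen g.left]
    have e' : genericPoint B.left = f.left (genericPoint A.left) :=
      H05EGA4.eq_of_specializes_of_fibre g.left (genericPoint_specializes _) e.symm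
    exact ⟨fun z => f.left.isClosedMap.isClosed_range.closure_subset_iff.mpr
      (Set.singleton_subset_iff.mpr ⟨_, e'.symm⟩) (genericPoint_specializes z).mem_closure⟩
  haveI : Flat f.left := H19Grp.flat_of_surjective f
  refine ⟨inferInstance, inferInstance, inferInstance, ?_⟩
  haveI : Epi f.left := Flat.epi_of_flat_of_surjective f.left
  haveI : Epi f := Over.epi_of_epi_left f
  rw [← cancel_epi f, ← Category.assoc, h, GrpObj.zpow_comp, GrpObj.comp_zpow, Category.id_comp, Category.comp_id]

end Groth.Agent.S17253
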