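import Groth.Statements.S17255
import Groth.Agent.H25Grp.Isogeny

set_option autoImplicit false
universe u
open CategoryTheory CategoryTheory.Limits MonoidalCategory CartesianMonoidalCategory MonObj GrpObj AlgebraicGeometry
open AbVar

namespace Groth.Agent.S17255

/-- Let k be a field, A and B abelian varieties over k (smooth proper k-group schemes with geometrically
connected fibres) with dim A = dim B (Krull dimensions of the underlying spaces), and f : A → B a
homomorphism. Then flatness of f is equivalent to finiteness of f. -/
theorem result (k : Type u) [Field k]
    (A B : Over (Spec (CommRingCat.of k)))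
    [GrpObj A] [Smooth A.hom] [IsProper A.hom] [GeometricallyConnected A.hom]
    [GrpObj B] [Smooth B.hom] [IsProper B.hom] [GeometricallyConnected B.hom]
    (f : A ⟶ B) [IsMonHom f] (hdim : topologicalKrullDim A.left = topologicalKrullDim B.left) :
    Flat f.left ↔ IsFinite f.left := by
  haveI : IrreducibleSpace A.left := Groth.Agent.H25Grp.irreducibleSpace_group
  haveI : IrreducibleSpace B.left := Groth.Agent.H25Grp.irreducibleSpace_group
  haveI : IsProper (f.left ≫ B.hom) := by rw [Over.w f]; infer_instance
  haveI : IsProper f.left := IsProper.of_comp f.left B.hom
  haveI : IsLocallyNoetherian B.left := LocallyOfFiniteType.isLocallyNoetherian B.hom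
  constructor
  · intro _
    exact Groth.Agent.H25Grp.isFinite_of_flat A.hom B.hom f.left (Over.w f) hdim
  · intro _
    haveI := Groth.Agent.H25Grp.surjective_of_finite A.hom B.hom f.left hdim
    exact Groth.Agent.H19Grp.flat_of_surjective f

end Groth.Agent.S17255
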