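import Groth.Statements.S17258
import Groth.Agent.H17.GorCurve.Tree

set_option autoImplicit false
universe u
open Curves

namespace Groth.Agent.S17258

open CategoryTheory AlgebraicGeometry in
/-- Let Ω be an algebraically closed field of characteristic zero and let C be a scheme proper over Ω
which is connected, of dimension one and has at-worst-nodal singularities. Then the first cohomology
of the structure sheaf of C vanishes if and only if C is a rational tree: every irreducible
component of C is the image of a closed immersion of the projective line over Ω, and the number of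
nodes of C plus one equals the number of irreducible components. (The source phrases the second
condition as the absence of closed chains of components; for a connected nodal curve whose
components are projective lines the two conditions agree, a connected graph being a tree exactly
when it has one more vertex than edges. The source takes Ω an algebraically closed extension of the
complex numbers.) -/
theorem result (Ω : Type u) [Field Ω] [IsAlgClosed Ω] [CharZero Ω]
    (C : Scheme.{u}) [C.Over (Spec (CommRingCat.of Ω))] [IsProper (C ↘ Spec (CommRingCat.of Ω))]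
    [ConnectedSpace ↥C] (hdim : topologicalKrullDim ↥C = 1) (hnod : Curv2.AtWorstNodal Ω C) :
    Curv2.genus Ω C = 0 ↔
      ((∀ E ∈ irreducibleComponents (↥C : Type u), CurvSt.IsSmRatComp Ω C (C ↘ Spec (CommRingCat.of Ω)) E) ∧
        {x : ↥C | Curv2.IsNode Ω C x}.encard + 1 = (irreducibleComponents (↥C : Type u)).encard) := by
  haveI : IsReduced C := H06NormCurve.isReduced_of_atWorstNodal (k := Ω) hnod
  constructor
  · intro hg
    have hsm : ∀ (E : Set ↥C) (hE : E ∈ irreducibleComponents (↥C : Type u)),
        Smooth ((H29CurveDual.Subcurve.idl (⟨E, isClosed_of_mem_irreducibleComponents E hE⟩ : TopologicalSpace.Closeds ↥C)).subschemeι ≫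
          (C ↘ Spec (CommRingCat.of Ω))) ∧
        CurvSt.IsSmRatComp Ω C (C ↘ Spec (CommRingCat.of Ω)) E := by
      intro E hE
      obtain ⟨hr, hc, hd⟩ := H17.GorCurve.component_subcurve (k := Ω) hdim hE
      have hJr : Set.range (H29CurveDual.Subcurve.idl (⟨E, isClosed_of_mem_irreducibleComponents E hE⟩ : TopologicalSpace.Closeds ↥C)).subschemeι = E := by
        rw [Scheme.IdealSheafData.range_subschemeι]
        exact Scheme.IdealSheafData.coe_support_vanishingIdeal _
      have hg0 := H17.GorCurve.genus_subcurve_eq_zero (k := Ω) hdim hg (H29CurveDual.Subcurve.idl (⟨E, isClosed_of_mem_irreducibleComponents E hE⟩ : TopologicalSpace.Closeds ↥C))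
      generalize H29CurveDual.Subcurve.idl (⟨E, isClosed_of_mem_irreducibleComponents E hE⟩ : TopologicalSpace.Closeds ↥C) = J at hr hc hd hJr hg0 ⊢
      haveI : IrreducibleSpace J.subscheme := by
        let h := J.subschemeι.isEmbedding.toHomeomorph
        haveI : IrreducibleSpace (Set.range J.subschemeι) := isIrreducible_iff_irreducibleSpace.1 (hJr.symm ▸ hE.1)
        refine (irreducibleSpace_def _).2 ?_
        have h1 := (IrreducibleSpace.isIrreducible_univ (Set.range J.subschemeι)).image h.symm h.symm.continuous.continuousOn
        rwa [Set.image_univ, h.symm.surjective.range_eq] at h1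
      haveI : IsIntegral J.subscheme := isIntegral_of_irreducibleSpace_of_isReduced _
      letI := H17.GorCurve.overJ Ω J
      haveI : IsProper (J.subscheme ↘ Spec (CommRingCat.of Ω)) :=
        inferInstanceAs (IsProper (J.subschemeι ≫ (C ↘ Spec (CommRingCat.of Ω))))
      have hs : Smooth (J.subscheme ↘ Spec (CommRingCat.of Ω)) := Groth.Agent.S14512.result Ω J.subscheme hd hg0
      haveI : Smooth (J.subschemeι ≫ (C ↘ Spec (CommRingCat.of Ω))) := hs
      obtain ⟨e, he⟩ := H29DoubleCover.exists_iso_projLine (J.subschemeι ≫ (C ↘ Spec (CommRingCat.of Ω)))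
        (hP := hd) hg0
      refine ⟨hs, hE, e.inv ≫ J.subschemeι, inferInstance, ?_, ?_⟩
      · rw [Category.assoc, ← he, Iso.inv_hom_id_assoc]
      · rw [Scheme.Hom.comp_base, TopCat.coe_comp, Set.range_comp, show Set.range e.inv = Set.univ from Set.range_eq_univ.2 e.inv.homeomorph.surjective,
          Set.image_univ, hJr]
    refine ⟨fun E hE => (hsm E hE).2, ?_⟩
    have h := H17.GorCurve.card_nodes_add_one (k := Ω) hdim hnod fun E hE =>
      ⟨(hsm E hE).1, H17.GorCurve.genus_subcurve_eq_zero (k := Ω) hdim hg _⟩
    rw [h, hg, Nat.cast_zero, add_zero]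
  · rintro ⟨hall, hcard⟩
    have h := H17.GorCurve.card_nodes_add_one (k := Ω) hdim hnod fun E hE => by
      obtain ⟨-, e, hcl, he, hrange⟩ := hall E hE
      haveI := hcl
      haveI : IsIntegral (CohB1.ProjSpace 1 Ω) := (H28Curve.projLine_facts Ω).1
      obtain ⟨hr, -, -⟩ := H17.GorCurve.component_subcurve (k := Ω) hdim hE
      haveI := hr
      obtain ⟨φ, hφ⟩ := H17.GenusZeroSt.exists_iso_of_range_eq
        (H29CurveDual.Subcurve.idl (⟨E, isClosed_of_mem_irreducibleComponents E hE⟩ : TopologicalSpace.Closeds ↥C)).subschemeι e
        (by rw [Scheme.IdealSheafData.range_subschemeι, hrange]; exact Scheme.IdealSheafData.coe_support_vanishingIdeal _)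
      refine ⟨?_, ?_⟩
      · haveI : Smooth (CohB1.ProjSpace.toSpec 1 Ω) := H26Smooth.smooth_toSpec 1 Ω
        rw [← hφ, Category.assoc, he]
        infer_instance
      · haveI := H17.GenusZeroSt.subsingleton_h1_of_iso_projLine φ
        letI := H17.GorCurve.overJ Ω (H29CurveDual.Subcurve.idl (⟨E, isClosed_of_mem_irreducibleComponents E hE⟩ : TopologicalSpace.Closeds ↥C))
        exact Module.finrank_zero_of_subsingleton
    rw [hcard] at h
    have hfin : (irreducibleComponents (↥C : Type u)).Finite := by
      haveI := H28Int.isNoetherian Ω (X := C)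
      exact TopologicalSpace.NoetherianSpace.finite_irreducibleComponents
    rw [← hfin.cast_ncard_eq] at h
    have h' : (irreducibleComponents (↥C : Type u)).ncard = (irreducibleComponents (↥C : Type u)).ncard + Curv2.genus Ω C := by
      exact_mod_cast h
    omega

end Groth.Agent.S17258
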