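import Groth.Statements.S17259
import Mathlib.RepresentationTheory.Invariants
import Mathlib.RingTheory.Henselian
import Mathlib.RingTheory.LocalProperties.Reduced
import Mathlib.RingTheory.LocalRing.Pullback
import Mathlib.RingTheory.PowerSeries.NoZeroDivisors
import Mathlib.RingTheory.RegularLocalRing.Defs
import Mathlib.RingTheory.SimpleRing.Principal

set_option autoImplicit false
open CAlg

namespace Groth.Agent.S17259

/-- Let A, B, C be rings, f : B → A and g : B → C ring homomorphisms, and φ : A → B a homomorphism of
additive groups such that the sequence A → B → C → 0 (maps φ, g) is exact and f ∘ φ is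
multiplication by a central element a of A which is not a zero divisor. Then the projection p : A →
A/(a) composed with f factors through g as a ring homomorphism q : C → A/(a), the homomorphism (f,
g) : B → A × C is injective, and its image is the fibre product of A and C over A/(a) along p and q;
thus (f, g) is a ring isomorphism from B onto that fibre product. (The two-sidedness of the ideal
generated by a, automatic for a central element, is carried as an instance hypothesis.) -/
theorem result {A B C : Type*} [Ring A] [Ring B] [Ring C]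
    (f : B →+* A) (g : B →+* C) (φ : A →+ B) (a : A)
    (hc : ∀ x : A, Commute a x) (ha : a ∈ nonZeroDivisors A)
    (hex : Function.Exact φ g) (hg : Function.Surjective g)
    (hφ : ∀ x : A, f (φ x) = a * x)
    [(Ideal.span ({a} : Set A)).IsTwoSided] :
    ∃ q : C →+* A ⧸ Ideal.span ({a} : Set A),
      q.comp g = (Ideal.Quotient.mk (Ideal.span ({a} : Set A))).comp f ∧
      Function.Injective (f.prod g) ∧
      (f.prod g).range = (Ideal.Quotient.mk (Ideal.span ({a} : Set A))).pullback q := by
  set I := Ideal.span ({a} : Set A)
  have hI : ∀ x, x ∈ I ↔ ∃ r, x = a * r := by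
    intro x
    simp only [I, Ideal.mem_span_singleton']
    exact exists_congr fun r => by rw [(hc r).eq, eq_comm]
  have hker : RingHom.ker g ≤ RingHom.ker ((Ideal.Quotient.mk I).comp f) := by
    intro b hb
    obtain ⟨x, rfl⟩ := (hex b).mp hb
    rw [RingHom.mem_ker, RingHom.comp_apply, hφ, Ideal.Quotient.eq_zero_iff_mem]
    exact (hI _).mpr ⟨x, rfl⟩
  let q : C →+* A ⧸ I := (g.liftOfRightInverse (Function.surjInv hg) (Function.rightInverse_surjInv hg)) ⟨_, hker⟩
  have hq : q.comp g = (Ideal.Quotient.mk I).comp f := g.liftOfRightInverse_comp _ _ ⟨_, hker⟩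
  refine ⟨q, hq, ?_, ?_⟩
  · rw [injective_iff_map_eq_zero]
    intro b hb
    simp only [RingHom.prod_apply, Prod.mk_eq_zero] at hb
    obtain ⟨x, rfl⟩ := (hex b).mp hb.2
    rw [hφ] at hb
    rw [(mem_nonZeroDivisors_iff.mp ha).1 x hb.1, map_zero]
  · ext z
    obtain ⟨x, c⟩ := z
    constructor
    · rintro ⟨b, hb⟩
      simp only [RingHom.prod_apply, Prod.mk.injEq] at hb
      show Ideal.Quotient.mk I x = q c
      rw [← hb.1, ← hb.2]
      exact (RingHom.congr_fun hq b).symm
    · intro (hz : Ideal.Quotient.mk I x = q c)
      obtain ⟨b, rfl⟩ := hg c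
      have h1 : Ideal.Quotient.mk I x = Ideal.Quotient.mk I (f b) := hz.trans (RingHom.congr_fun hq b)
      obtain ⟨r, hr⟩ := (hI _).mp (Ideal.Quotient.eq.mp h1)
      refine ⟨b + φ r, ?_⟩
      simp only [RingHom.prod_apply, map_add, hφ, ← hr, (hex (φ r)).mpr ⟨r, rfl⟩, add_zero, add_sub_cancel, Prod.mk_add_mk]

end Groth.Agent.S17259
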