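import Groth.Statements.S17262
import Groth.Agent.H23Gor.PointedCrit

set_option autoImplicit false
universe u
open CategoryTheory CategoryTheory.Limits AlgebraicGeometry
attribute [local instance] HasDerivedCategory.standard
open Curves

namespace Groth.Agent.S17262

/-- Let Ω be an algebraically closed field of characteristic zero and C a scheme proper over Ω which is
connected, of dimension one, at-worst-nodal, with vanishing first cohomology of the structure sheaf,
and with at most three nodes. Let ω be the dualizing module of C over Ω (via the upper-shriek
functor, whose existence is assumed) and ω' an O_C-module with ω' ⊗ ω ≅ O_C. Then ω ⊗ ω has no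
nonzero global sections, the first cohomology of ω' vanishes, and the global sections of ω' form a
three-dimensional Ω-vector space. (The source states that for a family of such curves with at most
three nodes in each fibre the direct image of the inverse of the relative dualizing sheaf is locally
free of rank three and commutes with base change; this row is the statement on each geometric fibre
from which that follows. The published statement is over the complex numbers; it is stated here over
any algebraically closed field of characteristic zero.) -/
theorem result (Ω : Type u) [Field Ω] [IsAlgClosed Ω] [CharZero Ω]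
    (C : Scheme.{u}) [C.Over (Spec (CommRingCat.of Ω))] [IsProper (C ↘ Spec (CommRingCat.of Ω))] [ConnectedSpace ↥C]
    (hdim : topologicalKrullDim ↥C = 1) (hnod : Curv2.AtWorstNodal Ω C) (hg : Curv2.genus Ω C = 0)
    (h3 : {x : ↥C | Curv2.IsNode Ω C x}.encard ≤ 3)
    [DCoh.HasRpush (C ↘ Spec (CommRingCat.of Ω))] (h : DCoh.RpushPreservesQCoh (C ↘ Spec (CommRingCat.of Ω))) [DCoh.HasShriek (C ↘ Spec (CommRingCat.of Ω)) h]
    (OY : DCoh.DQCoh (Spec (CommRingCat.of Ω))) (hOY : Nonempty (OY.obj ≅ DCoh.inD (Spec (CommRingCat.of Ω)) (Coh.structureModule (Spec (CommRingCat.of Ω)))))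
    (ωd : C.Modules) (hωd : ClSub.IsInverseOf ωd (DCoh.dualizingMod (C ↘ Spec (CommRingCat.of Ω)) h OY 1)) :
    Subsingleton (Coh.HH C (CohB1.tensorPow (DCoh.dualizingMod (C ↘ Spec (CommRingCat.of Ω)) h OY 1) 2) 0) ∧
      Subsingleton (Coh.HH C ωd 1) ∧ Module.finrank Ω (Coh.HH C ωd 0) = 3 := by
  obtain ⟨hr, -, hω⟩ := H23Gor.pointed_setup hdim hnod h OY hOY
  haveI := hr
  exact H23Gor.inverse_dualizing_tree hdim hnod hg hω h3 hωd

end Groth.Agent.S17262
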