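import Groth.Statements.S17264
import Groth.Agent.H14Fib.Rep

set_option autoImplicit false
set_option backward.isDefEq.respectTransparency false
set_option backward.isDefEq.respectTransparency.types false
open CategoryTheory
universe v u
open FibCat

namespace Groth.Agent.S17264

/-- Let C be a category with fibre products and let f : 𝒳 → 𝒴 and g : 𝒴 → 𝒵 be functors over C between
categories fibred in groupoids over C. If the composite g ∘ f is a representable 1-morphism (its
2-fibre product with every slice category C/U is equivalent over C to a slice category) and the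
diagonal 𝒴 → 𝒴 ×_𝒵 𝒴 of g is a representable 1-morphism, then f is a representable 1-morphism. This
is the case of the source's lemma in which the class of test objects is the class of representable
categories over C. -/
theorem result {C : Type u} [Category.{v} C]
    [Limits.HasPullbacks C] {𝒳 𝒴 𝒵 : BasedCategory.{v, max u v} C}
    (h𝒳 : FibCat.IsFibGrpd 𝒳.p) (h𝒴 : FibCat.IsFibGrpd 𝒴.p) (h𝒵 : FibCat.IsFibGrpd 𝒵.p)
    (f : 𝒳 ⥤ᵇ 𝒴) (g : 𝒴 ⥤ᵇ 𝒵)
    (hgf : FibCat.IsRepresentable1 (BasedFunctor.comp f g))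
    (hΔ : FibCat.IsRepresentable1 (FibCat.diag g)) :
    FibCat.IsRepresentable1 f := by
  intro U G
  obtain ⟨V, J, hJ⟩ := hgf U (BasedFunctor.comp G g)
  obtain ⟨k, hk⟩ := H14Fib.IsEquivOver.symm' hJ
  -- the pairing to `𝒴 ×_𝒵 𝒴`
  let A := FibCat.fp (BasedFunctor.comp G g) (BasedFunctor.comp f g)
  let P : A ⥤ᵇ FibCat.fp g g :=
    FibCat.fpLift (BasedFunctor.comp (FibCat.fpFst (BasedFunctor.comp G g) (BasedFunctor.comp f g)) G)
      (BasedFunctor.comp (FibCat.fpSnd (BasedFunctor.comp G g) (BasedFunctor.comp f g)) f)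
      (FibCat.fpIso (BasedFunctor.comp G g) (BasedFunctor.comp f g))
  obtain ⟨E₁, hE₁⟩ := H14Fib.fp_equiv_left (F := P) (G := FibCat.diag g) hk
  have hB : FibCat.IsRepresentable (FibCat.fp P (FibCat.diag g)) :=
    H14Fib.rep_of_equiv_target hE₁ (hΔ V _)
  let w : ∀ b : (FibCat.fp P (FibCat.diag g)).obj,
      G.obj b.obj.fst.obj.fst ≅ f.obj b.obj.fst.obj.snd := fun b =>
    (FibCat.fpFst g g).toFunctor.mapIso b.obj.iso ≪≫ ((FibCat.fpSnd g g).toFunctor.mapIso b.obj.iso).symm
  have hwl : ∀ b, 𝒴.p.IsHomLift (𝟙 ((FibCat.overCat U).p.obj b.obj.fst.obj.fst)) (w b).hom := fun b => by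
    have h1 := @H14Fib.fp_isHomLift_fst C _ _ _ _ g g _ _ _ _ (𝟙 ((FibCat.overCat U).p.obj b.obj.fst.obj.fst)) b.obj.iso.hom b.property
    have h2 := @H14Fib.fp_isHomLift_snd' C _ _ _ _ g g _ _ _ _ (𝟙 ((FibCat.overCat U).p.obj b.obj.fst.obj.fst)) b.obj.iso.inv
      (@IsHomLift.lift_id_inv _ _ _ _ (FibCat.fp g g).p _ _ _ b.obj.iso b.property)
    exact H14Fib.homLift_id_comp h1 h2
  let Φ : FibCat.fp P (FibCat.diag g) ⥤ᵇ FibCat.fp G f :=
    { toFunctor :=
        { obj := fun b => H14Fib.fpObj b.obj.fst.obj.fst b.obj.fst.obj.snd (w b) rfl (hwl b)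
          map := fun {b b'} m => H14Fib.fpHom m.hom.fst.hom.fst m.hom.fst.hom.snd (by
            have hw := m.hom.w
            have h1 : G.map m.hom.fst.hom.fst ≫ b'.obj.iso.hom.hom.fst = b.obj.iso.hom.hom.fst ≫ m.hom.snd :=
              congrArg (fun t => t.hom.fst) hw
            have h2 : f.map m.hom.fst.hom.snd ≫ b'.obj.iso.hom.hom.snd = b.obj.iso.hom.hom.snd ≫ m.hom.snd :=
              congrArg (fun t => t.hom.snd) hw
            change G.map m.hom.fst.hom.fst ≫ b'.obj.iso.hom.hom.fst ≫ b'.obj.iso.inv.hom.snd =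
              (b.obj.iso.hom.hom.fst ≫ b.obj.iso.inv.hom.snd) ≫ f.map m.hom.fst.hom.snd
            have e1 : b.obj.iso.inv.hom.snd ≫ b.obj.iso.hom.hom.snd = 𝟙 _ :=
              congrArg (fun t => t.hom.snd) b.obj.iso.inv_hom_id
            have e2 : b'.obj.iso.hom.hom.snd ≫ b'.obj.iso.inv.hom.snd = 𝟙 _ :=
              congrArg (fun t => t.hom.snd) b'.obj.iso.hom_inv_id
            rw [reassoc_of% h1, Category.assoc]
            congr 1
            calc m.hom.snd ≫ b'.obj.iso.inv.hom.snd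
                = b.obj.iso.inv.hom.snd ≫ (b.obj.iso.hom.hom.snd ≫ m.hom.snd) ≫ b'.obj.iso.inv.hom.snd := by
                  simp only [← Category.assoc]
                  rw [e1]
                  exact (congrArg (· ≫ _) (Category.id_comp _)).symm
              _ = b.obj.iso.inv.hom.snd ≫ f.map m.hom.fst.hom.snd := by
                  rw [← h2, Category.assoc, e2]
                  exact congrArg (_ ≫ ·) (Category.comp_id _))
          map_id := fun b => H14Fib.fp_hom_ext rfl rfl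
          map_comp := fun m n => H14Fib.fp_hom_ext rfl rfl }
      w := rfl }
  refine H14Fib.rep_of_equiv_target (E := Φ) ((H14Fib.isEquivOver_iff _).2 ⟨⟨⟨fun {b b'} m => ?_⟩, ⟨fun {b b'} m n h => ?_⟩⟩, fun z => ?_⟩) hB
  · -- fullness
    let u := m.hom.fst
    let x := m.hom.snd
    have hm : G.map u ≫ b'.obj.iso.hom.hom.fst ≫ b'.obj.iso.inv.hom.snd =
        (b.obj.iso.hom.hom.fst ≫ b.obj.iso.inv.hom.snd) ≫ f.map x := m.hom.w
    have hb' : g.map (b'.obj.iso.hom.hom.fst ≫ b'.obj.iso.inv.hom.snd) = b'.obj.fst.obj.iso.hom := by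
      have e : g.map b'.obj.iso.hom.hom.fst ≫ 𝟙 _ = b'.obj.fst.obj.iso.hom ≫ g.map b'.obj.iso.hom.hom.snd :=
        b'.obj.iso.hom.hom.w
      have e2 : b'.obj.iso.hom.hom.snd ≫ b'.obj.iso.inv.hom.snd = 𝟙 _ :=
        congrArg (fun t => t.hom.snd) b'.obj.iso.hom_inv_id
      rw [Functor.map_comp, (Category.comp_id _).symm.trans e, Category.assoc, ← Functor.map_comp, e2]
      exact (congrArg (b'.obj.fst.obj.iso.hom ≫ ·) (g.toFunctor.map_id _)).trans (Category.comp_id _)
    have hb : g.map (b.obj.iso.hom.hom.fst ≫ b.obj.iso.inv.hom.snd) = b.obj.fst.obj.iso.hom := by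
      have e : g.map b.obj.iso.hom.hom.fst ≫ 𝟙 _ = b.obj.fst.obj.iso.hom ≫ g.map b.obj.iso.hom.hom.snd :=
        b.obj.iso.hom.hom.w
      have e2 : b.obj.iso.hom.hom.snd ≫ b.obj.iso.inv.hom.snd = 𝟙 _ :=
        congrArg (fun t => t.hom.snd) b.obj.iso.hom_inv_id
      rw [Functor.map_comp, (Category.comp_id _).symm.trans e, Category.assoc, ← Functor.map_comp, e2]
      exact (congrArg (b.obj.fst.obj.iso.hom ≫ ·) (g.toFunctor.map_id _)).trans (Category.comp_id _)
    have hA : g.map (G.map u) ≫ b'.obj.fst.obj.iso.hom = b.obj.fst.obj.iso.hom ≫ g.map (f.map x) := by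
      have := congrArg (fun t => g.map t) hm
      simp only [Functor.map_comp, Category.assoc] at this hb hb' ⊢
      rw [← hb', ← hb, Category.assoc]
      exact this
    let a₁ : b.obj.fst ⟶ b'.obj.fst := H14Fib.fpHom u x hA
    let y : b.obj.snd ⟶ b'.obj.snd :=
      b.obj.iso.inv.hom.snd ≫ f.map x ≫ b'.obj.iso.hom.hom.snd
    refine ⟨H14Fib.fpHom a₁ y (H14Fib.fp_hom_ext ?_ ?_), H14Fib.fp_hom_ext rfl rfl⟩
    · change G.map u ≫ b'.obj.iso.hom.hom.fst = b.obj.iso.hom.hom.fst ≫ y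
      have e2 : b'.obj.iso.inv.hom.snd ≫ b'.obj.iso.hom.hom.snd = 𝟙 _ :=
        congrArg (fun t => t.hom.snd) b'.obj.iso.inv_hom_id
      have := congrArg (· ≫ b'.obj.iso.hom.hom.snd) hm
      simp only [Category.assoc] at this
      rw [e2] at this
      exact ((congrArg (G.map u ≫ ·) (Category.comp_id _)).symm.trans this)
    · change f.map x ≫ b'.obj.iso.hom.hom.snd = b.obj.iso.hom.hom.snd ≫ y
      have e2 : b.obj.iso.hom.hom.snd ≫ b.obj.iso.inv.hom.snd = 𝟙 _ :=
        congrArg (fun t => t.hom.snd) b.obj.iso.hom_inv_id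
      simp only [y, ← Category.assoc]
      rw [e2]
      exact congrArg (· ≫ _) (Category.id_comp _).symm
  · -- faithfulness
    have h1 : m.hom.fst = n.hom.fst :=
      H14Fib.fp_hom_ext (congrArg (fun t => t.hom.fst) h) (congrArg (fun t => t.hom.snd) h)
    refine H14Fib.fp_hom_ext h1 ?_
    have hm : G.map m.hom.fst.hom.fst ≫ b'.obj.iso.hom.hom.fst = b.obj.iso.hom.hom.fst ≫ m.hom.snd :=
      congrArg (fun t => t.hom.fst) m.hom.w
    have hn : G.map n.hom.fst.hom.fst ≫ b'.obj.iso.hom.hom.fst = b.obj.iso.hom.hom.fst ≫ n.hom.snd :=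
      congrArg (fun t => t.hom.fst) n.hom.w
    have e : b.obj.iso.inv.hom.fst ≫ b.obj.iso.hom.hom.fst = 𝟙 _ :=
      congrArg (fun t => t.hom.fst) b.obj.iso.inv_hom_id
    rw [← h1, hm] at hn
    have := congrArg (b.obj.iso.inv.hom.fst ≫ ·) hn
    simp only [← Category.assoc] at this
    rw [e] at this
    exact ((Category.id_comp _).symm.trans this).trans (Category.id_comp _)
  · -- essential surjectivity
    have hu : (FibCat.fp G f).p.obj z = (FibCat.overCat U).p.obj z.obj.fst := rfl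
    let a : A.obj := H14Fib.fpObj z.obj.fst z.obj.snd (g.toFunctor.mapIso z.obj.iso) rfl
      (@BasedFunctor.preserves_isHomLift _ _ _ _ g _ _ _ _ _ _ z.property)
    let i : P.obj a ≅ (FibCat.diag g).obj (f.obj z.obj.snd) :=
      H14Fib.fpIsoMk z.obj.iso (Iso.refl _) (by
        change g.map z.obj.iso.hom ≫ 𝟙 _ = g.map z.obj.iso.hom ≫ g.map (𝟙 _)
        exact congrArg (g.map z.obj.iso.hom ≫ ·) (CategoryTheory.Functor.map_id _ _).symm)
    let b : (FibCat.fp P (FibCat.diag g)).obj := H14Fib.fpObj a (f.obj z.obj.snd) i rfl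
      ((H14Fib.fp_isHomLift_iff _ _).2 z.property)
    refine ⟨b, H14Fib.fpIsoMk (Iso.refl _) (Iso.refl _) ?_, (H14Fib.fp_isHomLift_iff _ _).2 (IsHomLift.id rfl)⟩
    change G.map (𝟙 _) ≫ z.obj.iso.hom = (z.obj.iso.hom ≫ 𝟙 _) ≫ f.map (𝟙 _)
    simp

end Groth.Agent.S17264
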