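import Groth.Statements.S17266
import Groth.Agent.H14Stk.Basic

set_option autoImplicit false
set_option backward.isDefEq.respectTransparency false
set_option backward.isDefEq.respectTransparency.types false
open CategoryTheory
universe v u
open Stk

namespace Groth.Agent.S17266

/-- Let C be a category with a Grothendieck topology J and let F : 𝒳 → 𝒴, G : 𝒴 → 𝒵 be functors over C
between categories fibred in groupoids over C. Say that a functor H : 𝒜 → ℬ over C is covering when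
for every object U of C and every functor b : C/U → ℬ over C there is a J-covering sieve of U such
that for each of its arrows h : V → U the composite of C/V → C/U with b is 2-isomorphic over C to H
∘ a for some functor a : C/V → 𝒜 over C (locally on the base every object of ℬ lifts to 𝒜 up to
isomorphism). If F and G are covering, then the composite G ∘ F is covering. -/
theorem result {C : Type u} [Category.{v} C] (J : GrothendieckTopology C)
    {𝒳 𝒴 𝒵 : BasedCategory.{v, max u v} C}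
    (h𝒳 : FibCat.IsFibGrpd 𝒳.p) (h𝒴 : FibCat.IsFibGrpd 𝒴.p) (h𝒵 : FibCat.IsFibGrpd 𝒵.p)
    (F : 𝒳 ⥤ᵇ 𝒴) (G : 𝒴 ⥤ᵇ 𝒵)
    (hF : (∀ (U : C) (y : FibCat.overCat U ⥤ᵇ 𝒴), ∃ R ∈ J U, ∀ ⦃V : C⦄ (h : V ⟶ U), R.arrows h →
        ∃ x : FibCat.overCat V ⥤ᵇ 𝒳,
          Nonempty (BasedFunctor.comp x F ≅ BasedFunctor.comp (⟨Over.map h, Over.mapForget_eq h⟩ : FibCat.overCat V ⥤ᵇ FibCat.overCat U) y)))
    (hG : (∀ (U : C) (y : FibCat.overCat U ⥤ᵇ 𝒵), ∃ R ∈ J U, ∀ ⦃V : C⦄ (h : V ⟶ U), R.arrows h →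
        ∃ x : FibCat.overCat V ⥤ᵇ 𝒴,
          Nonempty (BasedFunctor.comp x G ≅ BasedFunctor.comp (⟨Over.map h, Over.mapForget_eq h⟩ : FibCat.overCat V ⥤ᵇ FibCat.overCat U) y))) :
    (∀ (U : C) (y : FibCat.overCat U ⥤ᵇ 𝒵), ∃ R ∈ J U, ∀ ⦃V : C⦄ (h : V ⟶ U), R.arrows h →
        ∃ x : FibCat.overCat V ⥤ᵇ 𝒳,
          Nonempty (BasedFunctor.comp x (BasedFunctor.comp F G) ≅ BasedFunctor.comp (⟨Over.map h, Over.mapForget_eq h⟩ : FibCat.overCat V ⥤ᵇ FibCat.overCat U) y)) := by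
  intro U y
  obtain ⟨R, hR, hx⟩ := hG U y
  choose x hx using hx
  choose R' hR' hz using fun (V : C) (h : V ⟶ U) (hh : R.arrows h) => hF V (x h hh)
  refine ⟨Sieve.bind R.arrows (fun V h hh => R' V h hh), J.bind_covering hR (fun V h hh => hR' V h hh), ?_⟩
  rintro W g ⟨V, k, h, hh, hk, rfl⟩
  obtain ⟨z, ⟨e⟩⟩ := hz V h hh k hk
  obtain ⟨e'⟩ := hx h hh
  let mp : ∀ {A B : C} (_ : A ⟶ B), FibCat.overCat A ⥤ᵇ FibCat.overCat B := fun m => ⟨Over.map m, Over.mapForget_eq m⟩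
  let c : BasedFunctor.comp (mp k) (mp h) ≅ mp (k ≫ h) :=
    H14Stk.mkIso (fun s => (Over.mapComp k h).symm.app s) (fun f => (Over.mapComp k h).inv.naturality f)
      (fun s => IsHomLift.of_fac' (FibCat.overCat U).p _ _ rfl rfl (by simp [Over.mapComp]; rfl))
  exact ⟨z, ⟨(H14Stk.post _ G).mapIso e ≪≫ (Stk.restr (mp k) 𝒵).mapIso e' ≪≫ (H14Stk.post _ y).mapIso c⟩⟩

end Groth.Agent.S17266
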