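import Groth.Statements.S17270
import Groth.Agent.H14AlgSt.DiagProps

set_option autoImplicit false
set_option backward.isDefEq.respectTransparency false
set_option backward.isDefEq.respectTransparency.types false
open CategoryTheory CategoryTheory.Limits AlgebraicGeometry
universe u
open AlgSt

namespace Groth.Agent.S17270

/-- Let S be a scheme, P a property of morphisms of algebraic spaces over S (fppf sheaves on (Sch/S)
with representable diagonal and an etale surjective map from a scheme) which is stable under base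
change (along every pullback square of sheaves whose corners are algebraic spaces) and under
composition, and let 𝒳, 𝒴, 𝒵 be algebraic stacks over (Sch/S) for the etale topology (stacks in
groupoids with diagonal representable by algebraic spaces and a smooth surjective presentation by a
scheme), with functors f : 𝒳 → 𝒴 and g : 𝒴 → 𝒵 over (Sch/S). Assume moreover that P is local on the
base for etale coverings of algebraic spaces. If the diagonals 𝒳 → 𝒳 ×_𝒴 𝒳 of f and 𝒴 → 𝒴 ×_𝒵 𝒴 of g
are representable by algebraic spaces and have property P, then the diagonal 𝒳 → 𝒳 ×_𝒵 𝒳 of the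
composite g ∘ f is representable by algebraic spaces and has property P. The source assumes only
stability under composition and base change, testing P on fibre products with algebraic spaces; the
prelude tests representable morphisms on schemes, and the locality hypothesis is what lets the two
tests agree when composing. -/
theorem result (S : Scheme.{u}) (𝒳 𝒴 𝒵 : AlgSt.Cat S)
    (h𝒳 : AlgSt.IsAlgStack Scheme.etalePrecoverage 𝒳) (h𝒴 : AlgSt.IsAlgStack Scheme.etalePrecoverage 𝒴) (h𝒵 : AlgSt.IsAlgStack Scheme.etalePrecoverage 𝒵)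
    (P : MorphismProperty (AlgSp.Sp S))
    (hPb : ∀ ⦃X₁ Y₁ X₂ Y₂ : AlgSp.Sp S⦄, AlgSp.IsAlgSpace X₁ → AlgSp.IsAlgSpace Y₁ → AlgSp.IsAlgSpace X₂ →
      AlgSp.IsAlgSpace Y₂ → ∀ (a : X₁ ⟶ Y₁) (b : Y₂ ⟶ Y₁) (a' : X₂ ⟶ Y₂) (b' : X₂ ⟶ X₁),
      IsPullback b' a' a b → P a → P a')
    (hPc : ∀ ⦃X Y Z : AlgSp.Sp S⦄, AlgSp.IsAlgSpace X → AlgSp.IsAlgSpace Y → AlgSp.IsAlgSpace Z →
      ∀ (a : X ⟶ Y) (b : Y ⟶ Z), P a → P b → P (a ≫ b))
    (hP : AlgSp.IsLocalOnBase AlgSp.IsEtCover P)
    (f : 𝒳 ⥤ᵇ 𝒴) (g : 𝒴 ⥤ᵇ 𝒵) :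
    AlgSt.RepByAlgSpWith P (FibCat.diag f) → AlgSt.RepByAlgSpWith P (FibCat.diag g) →
      AlgSt.RepByAlgSpWith P (FibCat.diag (BasedFunctor.comp f g)) := by
  exact Groth.Agent.H14AlgSt.repWith_diag_comp (Groth.Agent.H14AlgSt.BaseStable.sourceIsoInv hPb)
    (Groth.Agent.H14AlgSt.testOnSchemes_of_localEt hP) hPc h𝒳.isStack.1 h𝒴.isStack.1

end Groth.Agent.S17270
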