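import Groth.Statements.S17276
import Mathlib
import Groth.Agent.H22Alg.DevLength
import Groth.Agent.H22Alg.RedIntegral

set_option autoImplicit false
universe u
open CategoryTheory CategoryTheory.Limits AlgebraicGeometry TopologicalSpace
open Variety

namespace Groth.Agent.S17276

/-- Let X be a proper scheme over a field k of dimension one (possibly reducible or non-reduced) and L
an invertible O_X-module that is nef, meaning χ(O_C ⊗ L) - χ(O_C) ≥ 0 for every integral closed
subscheme C ⊆ X of dimension one. Then the degree of L on X, namely χ(L) - χ(O_X), is nonnegative. -/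
theorem result (k : Type u) [Field k] (X : Scheme.{u})
    [X.Over (Spec (CommRingCat.of k))] [IsProper (X ↘ (Spec (CommRingCat.of k)))]
    (hdim : topologicalKrullDim X = 1) (L : X.Modules) (hL : PicF.IsInvertible L)
    (hnef : ∀ C : X.IdealSheafData, IsIntegral C.subscheme →
      topologicalKrullDim (C.support : Set X) = 1 →
        0 ≤ Curv2.euler k X (CohB1.tensorMod (ClSub.quotMod C) L) - Curv2.euler k X (ClSub.quotMod C)) :
    0 ≤ Curv2.deg k X L 1 := by
  classical
  haveI := H28Int.isNoetherian k (X := X)
  have hl : ∀ A ∈ [L], PicF.IsInvertible A := by simpa using hL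
  have hO : Coh.IsCoh (Coh.structureModule X) :=
    H11Ample.isCoh_of_isInvertible (fun y => ⟨⊤, trivial, ⟨Scheme.Modules.restrictUnitIso _⟩⟩)
  have h := H22Alg.DevLength.eq_finsum (H28Int.isAddFn_D k [L] hl) (d := 1)
    (fun G hG hd => H28Int.D_eq_zero k _ hl G hG (by simpa using hd)) hO
    ((Topology.IsInducing.subtypeVal.topologicalKrullDim_le).trans hdim.le)
  have hle : H28Int.D k [L] (Coh.structureModule X) ≤ 0 := by
    rw [h]
    refine finsum_induction (fun z => z ≤ 0) le_rfl (fun a b ha hb => by omega) fun ξ => ?_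
    split_ifs with hξ
    · refine mul_nonpos_of_nonneg_of_nonpos (Nat.cast_nonneg _) ?_
      have hn := hnef (Scheme.IdealSheafData.vanishingIdeal (H22Alg.DevLength.cl ξ))
        (H22Alg.isIntegral_vanishingIdeal_closure ξ)
        (by rw [Scheme.IdealSheafData.coe_support_vanishingIdeal]; exact_mod_cast hξ)
      rw [H25Euler.euler_congr (k := k) (H10Coh.Tw.commIso (ClSub.quotMod _) L)] at hn
      change Curv2.euler k X (H25K.redMod _) - Curv2.euler k X (CohB1.tensorMod L (H25K.redMod _)) ≤ 0
      change 0 ≤ Curv2.euler k X (CohB1.tensorMod L (H25K.redMod _)) - Curv2.euler k X (H25K.redMod _) at hn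
      omega
    · exact le_rfl
  change 0 ≤ Curv2.euler k X L - ((1 : ℕ) : ℤ) * Curv2.euler k X (Coh.structureModule X)
  change Curv2.euler k X (Coh.structureModule X) - Curv2.euler k X (CohB1.tensorMod L (Coh.structureModule X)) ≤ 0 at hle
  rw [H25Euler.euler_congr (k := k) (H10Coh.Tw.rightUnitIso L)] at hle
  omega

end Groth.Agent.S17276
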