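import Groth.Statements.S17277
import Groth.Agent.H11Big.Kodaira
import Groth.Agent.H10Coh.Serre
import Groth.Agent.H25Par.GPDeg
import Groth.Agent.H17.GabRos.Complement

set_option autoImplicit false
set_option linter.style.haveILetI false
set_option linter.unusedVariables false
universe u
open CategoryTheory CategoryTheory.Limits AlgebraicGeometry TopologicalSpace
open Variety

namespace Groth.Agent.S17277

/-- Let X be a proper scheme over a field k of dimension d and L an invertible O_X-module that is big: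
there is a real constant c > 0 with dim_k H^0(X, L^{⊗n}) > c·n^d for all sufficiently large n. Then
for every closed subscheme Z ⊆ X of dimension < d, with quasi-coherent ideal sheaf I_Z, there is an
integer m > 0 with H^0(X, I_Z ⊗ L^{⊗m}) ≠ 0. -/
theorem result (k : Type u) [Field k] (X : Scheme.{u})
    [X.Over (Spec (CommRingCat.of k))] [IsProper (X ↘ (Spec (CommRingCat.of k)))]
    (d : ℕ) (hdim : topologicalKrullDim X = d) (L : X.Modules) (hL : PicF.IsInvertible L)
    (hbig : ∃ c : ℝ, 0 < c ∧ ∀ᶠ n : ℕ in Filter.atTop,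
      c * (n : ℝ) ^ d < (Module.finrank k (Coh.HH X (CohB1.tensorPow L n) 0) : ℝ))
    (Z : X.IdealSheafData) (hZ : topologicalKrullDim (Z.support : Set X) < d) :
    ∃ m : ℕ, 0 < m ∧
      Nontrivial (Coh.HH X (CohB1.tensorMod (ClSub.idealMod Z) (CohB1.tensorPow L m)) 0) := by
  haveI := Groth.Agent.H28Int.isNoetherian k (X := X)
  obtain ⟨c, hc, h⟩ := hbig
  haveI := Groth.Agent.H10Coh.epi_toSubscheme Z
  let S := ShortComplex.mk (ClSub.idealModι Z) (ClSub.toSubscheme Z) (kernel.condition (ClSub.toSubscheme Z))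
  have hS : S.ShortExact :=
    { exact := ShortComplex.exact_of_f_is_kernel _ (kernelIsKernel (ClSub.toSubscheme Z))
      mono_f := inferInstanceAs (Mono (kernel.ι (ClSub.toSubscheme Z))) }
  have h₂ : Coh.IsCoh S.X₂ := Groth.Agent.H10Coh.isCoh_structureModule' X
  have h₃ : Coh.IsCoh S.X₃ := Groth.Agent.H25Par.isCoh_quotMod Z
  have h₁ : Coh.IsCoh S.X₁ := Groth.Agent.H10Coh.isCoh_kernel (ClSub.toSubscheme Z) h₂ h₃.1
  obtain ⟨m, hm, hpos⟩ := Groth.Agent.H11Big.exists_sections_of_quot k hL hS h₁ h₂ h₃ (Iso.refl _)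
    (d := d) (by
      show topologicalKrullDim (CohB1.support (ClSub.quotMod Z)) < _
      rw [Groth.Agent.H17.GabRos.support_quotMod]
      exact hZ) (Groth.Agent.H11Big.vol_pos_of_real hc (h.mono fun n hn => hn.le))
  exact ⟨m, hm, Groth.Agent.H11Big.nontrivial_of_pos k hpos⟩

end Groth.Agent.S17277
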