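import Groth.Statements.S17278
import Groth.Agent.H11Big.Kodaira

set_option autoImplicit false
set_option linter.style.haveILetI false
set_option linter.unusedVariables false
universe u
open CategoryTheory CategoryTheory.Limits AlgebraicGeometry TopologicalSpace
open Variety

namespace Groth.Agent.S17278

/-- Let X be a projective variety over a field k (an integral scheme, proper over k, carrying an ample
invertible module A₀) of dimension d, and L an invertible O_X-module. Then L is big, meaning that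
for some real c > 0 one has dim_k H^0(X, L^{⊗n}) > c·n^d for all sufficiently large n, if and only
if for every ample invertible O_X-module A, with a tensor inverse A' (A' ⊗ A ≅ O_X), there is an
integer m > 0 with H^0(X, A' ⊗ L^{⊗m}) ≠ 0. -/
theorem result (k : Type u) [Field k]
    (X : Scheme.{u}) [X.Over (Spec (CommRingCat.of k))] [IsProper (X ↘ (Spec (CommRingCat.of k)))] [IsIntegral X]
    (A₀ : X.Modules) (hA₀ : CohB1.IsAmple A₀)
    (d : ℕ) (hdim : topologicalKrullDim X = d) (L : X.Modules) (hL : PicF.IsInvertible L) :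
    (∃ c : ℝ, 0 < c ∧ ∀ᶠ n : ℕ in Filter.atTop,
        c * (n : ℝ) ^ d < (Module.finrank k (Coh.HH X (CohB1.tensorPow L n) 0) : ℝ)) ↔
      ∀ (A A' : X.Modules), CohB1.IsAmple A → ClSub.IsInverseOf A' A →
        ∃ m : ℕ, 0 < m ∧ Nontrivial (Coh.HH X (CohB1.tensorMod A' (CohB1.tensorPow L m)) 0) := by
  haveI := Groth.Agent.H28Int.isNoetherian k (X := X)
  constructor
  · rintro ⟨c, hc, h⟩ A A' hA hA'
    have hA'i := Groth.Agent.H11Big.isInvertible_of_isInverseOf hA.1 hA'
    obtain ⟨e'⟩ := hA'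
    obtain ⟨m, E, hm, hE, hEpos, ⟨e⟩⟩ := Groth.Agent.H11Big.exists_eff_of_vol k hA₀ hdim hL hA
      (Groth.Agent.H11Big.vol_pos_of_real hc (h.mono fun n hn => hn.le))
    refine ⟨m, hm, Groth.Agent.H11Big.nontrivial_of_pos k (hEpos.trans_le
      (Groth.Agent.H25Index.hd_congr ?_ 0).le)⟩
    exact (Groth.Agent.H10Coh.Tw.leftUnitIso E).symm ≪≫ PicGrp.tensorModIso e'.symm (Iso.refl E) ≪≫
      Groth.Agent.H10Coh.Tw.assoc A' A E ≪≫ PicGrp.tensorModIso (Iso.refl A') e
  · intro h
    obtain ⟨A', hA', ⟨e⟩⟩ := Groth.Agent.H29RR.exists_inverse_comm hA₀.1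
    obtain ⟨m, hm, hne⟩ := h A₀ A' hA₀ ⟨Groth.Agent.H10Coh.Tw.commIso A' A₀ ≪≫ e⟩
    have hE := Groth.Agent.H11Ample.isInvertible_tensor hA' (Groth.Agent.H11Ample.isInvertible_tensorPow hL m)
    have hEpos := Groth.Agent.H11Big.pos_of_nontrivial k (Groth.Agent.H11Ample.isCoh_of_isInvertible hE) hne
    obtain ⟨K, hK⟩ := Groth.Agent.H22Alg.VolBig.eventually_lower k hA₀ hdim hL
      (Groth.Agent.H11Big.vol_pos_of_eff k hA₀ hdim hA₀ hE hEpos hm
        ((Groth.Agent.H10Coh.Tw.assoc A₀ A' _).symm ≪≫ PicGrp.tensorModIso e (Iso.refl _) ≪≫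
          Groth.Agent.H10Coh.Tw.leftUnitIso _))
    exact Groth.Agent.H11Big.exists_real_of_nat hK

end Groth.Agent.S17278
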