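import Groth.Statements.S17279
import Groth.Agent.H22Alg.NefCriterion

set_option autoImplicit false
universe u
open CategoryTheory CategoryTheory.Limits AlgebraicGeometry TopologicalSpace
open Variety

namespace Groth.Agent.S17279

/-- (i) ⇔ (iii), Barton–Kleiman criterion; scheme case: let X be a proper scheme over a field k and E a
finite locally free O_X-module. Then E is nef, meaning that the fundamental invertible module O(1)
of the projective bundle P(E) = Proj(Sym E) is nef (χ(O_C ⊗ O(1)) - χ(O_C) ≥ 0 for every integral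
closed subscheme C ⊆ P(E) of dimension one; here P(E) → X is given by any relative-Proj data of the
graded symmetric algebra of E together with its O(1)), if and only if for every regular projective
curve C over k (integral, proper over k, of dimension one, all local rings regular), every
k-morphism f : C → X and every invertible quotient f^*E → M, one has deg M = χ(M) - χ(O_C) ≥ 0. (The
source states this for proper algebraic spaces over k; this is the case of schemes.) -/
theorem result (k : Type u) [Field k] (X : Scheme.{u})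
    [X.Over (Spec (CommRingCat.of k))] [IsProper (X ↘ (Spec (CommRingCat.of k)))] (E : X.Modules) (hE : FlatMod.IsFinLocFree E) :
    (∀ (𝒮 : RelProj.QCGrAlg X) (j : E ⟶ 𝒮.toModule) (P : Scheme.{u}) (p : P ⟶ X)
        (chart : ∀ (U : X.Opens) (hU : IsAffineOpen U),
          (((p ⁻¹ᵁ U : P.Opens) : Scheme.{u}) ≅ Proj (𝒮.deg U hU)))
        (O1 : P.Modules)
        (lam : ∀ (U : X.Opens) (hU : IsAffineOpen U),
          O1 ⟶ (Scheme.Modules.pushforward (RelProj.emb p chart U hU)).obj (GrTwist.twist (𝒮.deg U hU) 1)),
        RelProj.IsGrSymAlg E 𝒮 j → RelProj.IsRelProj 𝒮 p chart → RelProj.IsRelTwist 𝒮 p chart 1 O1 lam →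
        ∀ C : P.IdealSheafData, IsIntegral C.subscheme → topologicalKrullDim (C.support : Set P) = 1 →
          0 ≤ @Curv2.euler k _ P ⟨p ≫ (X ↘ (Spec (CommRingCat.of k)))⟩ (CohB1.tensorMod (ClSub.quotMod C) O1) -
              @Curv2.euler k _ P ⟨p ≫ (X ↘ (Spec (CommRingCat.of k)))⟩ (ClSub.quotMod C)) ↔
    (∀ (C : Scheme.{u}) [C.Over (Spec (CommRingCat.of k))] [IsProper (C ↘ (Spec (CommRingCat.of k)))] [IsIntegral C],
      topologicalKrullDim C = 1 → (∀ x : C, IsRegularLocalRing (C.presheaf.stalk x)) →
      ∀ (f : C ⟶ X), f ≫ (X ↘ (Spec (CommRingCat.of k))) = C ↘ (Spec (CommRingCat.of k)) →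
      ∀ (M : C.Modules), PicF.IsInvertible M →
      ∀ (q : (Scheme.Modules.pullback f).obj E ⟶ M), Epi q → 0 ≤ Curv2.deg k C M 1) := by
  refine ⟨fun h => Groth.Agent.H22Alg.NefCriterion.cnef_of_nef k hE h, ?_⟩
  intro hn 𝒮 j P p chart O1 lam hT hP hL C hC hd
  exact Groth.Agent.H22Alg.NefCriterion.nef_of_cnef k hE hn hT hP hL C hC hd

end Groth.Agent.S17279
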