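import Groth.Statements.S17280
-- import your own Groth.Agent.* helpers here
import Groth.Agent.H29RR.MonoHom
import Groth.Agent.H29Ref.Free
import Groth.Agent.H7Lim.ModExact
import Groth.Agent.H25Par.CurveLocFree
import Mathlib

set_option autoImplicit false
universe u
open CategoryTheory CategoryTheory.Limits AlgebraicGeometry TopologicalSpace
open Variety

namespace Groth.Agent.S17280

open Limits TopologicalSpace

/-- A nonzero coherent submodule of an invertible module on a regular curve is invertible. -/
theorem isInvertible_of_mono {C : Scheme.{u}} [IsIntegral C] [IsLocallyNoetherian C]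
    (hdim : topologicalKrullDim C ≤ 1) (hreg : ∀ x : C, IsRegularLocalRing (C.presheaf.stalk x))
    {I M : C.Modules} (hI : Coh.IsCoh I) (hM : PicF.IsInvertible M) (ι : I ⟶ M) [Mono ι] (hne : ι ≠ 0) :
    PicF.IsInvertible I := by
  have hinj : ∀ x : C, Function.Injective ((DerSch.stalkFunctor C x).map ι).hom := fun x =>
    (ModuleCat.mono_iff_injective _).1 inferInstance
  have hMt := H25Par.isTorsionFree_of_locFree (H28Pinch.isFinLocFree_of_isInvertible hM)
  have hIt : TorSh.IsTorsionFree I := fun x => by
    haveI : Module.IsTorsionFree (C.presheaf.stalk x) ((DerSch.stalkFunctor C x).obj M) := hMt x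
    exact Function.Injective.moduleIsTorsionFree _ (hinj x) fun r v => map_smul _ r v
  have hfree : ∀ x : C, Module.Free (C.presheaf.stalk x) (I.presheaf.stalk x) := fun x => by
    haveI := hreg x
    haveI : IsPrincipalIdealRing (C.presheaf.stalk x) :=
      H8Props.FlatDimOneBase.isPrincipalIdealRing_of_dim_le_one _
        ((H8Props.FlatDimOneBase.ringKrullDim_stalk_le C x).trans hdim)
    haveI := H29Ref.finite_stalk I hI.2 x
    haveI := hIt x
    exact Module.free_of_finite_type_torsion_free'
  have hfp := H10Coh.isFP_of_isCoh I hI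
  intro x
  haveI := hfree x
  haveI := H29Ref.finite_stalk I hI.2 x
  obtain ⟨hf', hfin', hr'⟩ := H25Par.finrank_stalk (H29RR.rank_one_of_isInvertible hM) x
  haveI : Module.Finite (C.presheaf.stalk x) ((DerSch.stalkFunctor C x).obj M) := hfin'
  haveI : Module.Free (C.presheaf.stalk x) ((DerSch.stalkFunctor C x).obj M) := hf'
  have hle : Module.finrank (C.presheaf.stalk x) (I.presheaf.stalk x) ≤ 1 :=
    (LinearMap.finrank_le_finrank_of_injective (hinj x)).trans hr'.le
  have hnear := H8Props.FunDescent.isFreeOfRankNear_of_stalkFree_of_isFP I hfp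
    (p := Module.finrank (C.presheaf.stalk x) (I.presheaf.stalk x)) (x := x) ⟨Module.finBasis _ _⟩
  have hpos : Module.finrank (C.presheaf.stalk x) (I.presheaf.stalk x) ≠ 0 := fun h0 => by
    rw [h0] at hnear
    obtain ⟨V, hxV, hV⟩ := hnear
    obtain ⟨b⟩ := H8Props.FunDescent.stalkFree_of_isFreeOfRankNear I hI.1 (x := genericPoint C)
      ⟨V, H29Ref.genericPoint_mem hxV, hV⟩
    haveI : Subsingleton (I.presheaf.stalk (genericPoint C)) := b.repr.toEquiv.subsingleton
    refine hne (Scheme.Modules.hom_ext _ _ fun W => ConcreteCategory.hom_ext _ _ fun t => ?_)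
    have hz : t = 0 := H29Ref.sec_ext I fun y hy =>
      congrArg _ (H29Ref.germ_generic_injective I hI.1 hIt (H29Ref.genericPoint_mem hy) (Subsingleton.elim _ _) : t = 0)
    rw [hz, map_zero, map_zero]
  exact H29Ref.exists_iso_of_isFreeOfRankNear_one I x
    ((show Module.finrank (C.presheaf.stalk x) (I.presheaf.stalk x) = 1 by omega) ▸ hnear)

end Groth.Agent.S17280

namespace Groth.Agent.S17280

/-- Scheme case, curve-test form of nefness: let X be a proper scheme over a field k and 0 → E' → E →
E'' → 0 a short exact sequence whose three terms are finite locally free O_X-modules. Assume that E'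
and E'' are nef in the curve-test sense: for every regular projective curve C over k (integral,
proper over k, of dimension one, all local rings regular), every k-morphism f : C → X and every
invertible quotient M of the pulled-back module, deg M = χ(M) - χ(O_C) ≥ 0. Then E is nef in the
same sense. (The source states this for proper algebraic spaces and nefness of O(1) on P(E); on
proper schemes the two senses agree by the Barton–Kleiman criterion.) -/
theorem result (k : Type u) [Field k] (X : Scheme.{u})
    [X.Over (Spec (CommRingCat.of k))] [IsProper (X ↘ (Spec (CommRingCat.of k)))] (S : ShortComplex X.Modules) (hS : S.ShortExact)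
    (h₁ : FlatMod.IsFinLocFree S.X₁) (h₂ : FlatMod.IsFinLocFree S.X₂) (h₃ : FlatMod.IsFinLocFree S.X₃)
    (hnef₁ : ∀ (C : Scheme.{u}) [C.Over (Spec (CommRingCat.of k))] [IsProper (C ↘ (Spec (CommRingCat.of k)))] [IsIntegral C],
      topologicalKrullDim C = 1 → (∀ x : C, IsRegularLocalRing (C.presheaf.stalk x)) →
      ∀ (f : C ⟶ X), f ≫ (X ↘ (Spec (CommRingCat.of k))) = C ↘ (Spec (CommRingCat.of k)) →
      ∀ (M : C.Modules), PicF.IsInvertible M →
      ∀ (q : (Scheme.Modules.pullback f).obj S.X₁ ⟶ M), Epi q → 0 ≤ Curv2.deg k C M 1)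
    (hnef₃ : ∀ (C : Scheme.{u}) [C.Over (Spec (CommRingCat.of k))] [IsProper (C ↘ (Spec (CommRingCat.of k)))] [IsIntegral C],
      topologicalKrullDim C = 1 → (∀ x : C, IsRegularLocalRing (C.presheaf.stalk x)) →
      ∀ (f : C ⟶ X), f ≫ (X ↘ (Spec (CommRingCat.of k))) = C ↘ (Spec (CommRingCat.of k)) →
      ∀ (M : C.Modules), PicF.IsInvertible M →
      ∀ (q : (Scheme.Modules.pullback f).obj S.X₃ ⟶ M), Epi q → 0 ≤ Curv2.deg k C M 1) :
    ∀ (C : Scheme.{u}) [C.Over (Spec (CommRingCat.of k))] [IsProper (C ↘ (Spec (CommRingCat.of k)))] [IsIntegral C],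
    topologicalKrullDim C = 1 → (∀ x : C, IsRegularLocalRing (C.presheaf.stalk x)) →
    ∀ (f : C ⟶ X), f ≫ (X ↘ (Spec (CommRingCat.of k))) = C ↘ (Spec (CommRingCat.of k)) →
    ∀ (M : C.Modules), PicF.IsInvertible M →
    ∀ (q : (Scheme.Modules.pullback f).obj S.X₂ ⟶ M), Epi q → 0 ≤ Curv2.deg k C M 1 := by
  classical
  intro C _ _ _ hC hreg f hf M hM q hq
  haveI := hq
  haveI : IsNoetherian C := H29RR.isNoetherian_of_proper (k := k) (X := C)
  haveI := (Scheme.Modules.pullbackPushforwardAdjunction f).isLeftAdjoint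
  let F := Scheme.Modules.pullback f
  let φ := F.map S.f ≫ q
  by_cases hφ : φ = 0
  · haveI := hS.epi_g
    have hex : (S.map F).Exact := hS.exact.map_of_epi_of_preservesCokernel F inferInstance inferInstance
    haveI : Epi (S.map F).g := inferInstanceAs (Epi (F.map S.g))
    have hfac := hex.g_desc q hφ
    haveI : Epi ((S.map F).g ≫ hex.desc q hφ) := by rw [hfac]; exact hq
    exact hnef₃ C hC hreg f hf M hM (hex.desc q hφ) (epi_of_epi (S.map F).g _)
  · have hMc : Coh.IsCoh M := H16Derived.KFlat.Stalk.isCoh_of_isFinLocFree (H28Pinch.isFinLocFree_of_isInvertible hM)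
    have hF1 : Coh.IsCoh (F.obj S.X₁) :=
      H16Derived.KFlat.Stalk.isCoh_of_isFinLocFree (H16Derived.KFlat.Stalk.isFinLocFree_pullback f h₁)
    let I := Abelian.coimage φ
    let p : F.obj S.X₁ ⟶ I := Abelian.coimage.π φ
    let ι : I ⟶ M := Abelian.factorThruCoimage φ
    have hI : Coh.IsCoh I := H10Coh.isCoh_cokernel (kernel.ι φ) (H7Lim.ModExact.isQCoh_kernel φ hF1.1 hMc.1) hF1
    have hne : ι ≠ 0 := fun e => hφ (by
      rw [← Abelian.coimage.fac φ, show Abelian.factorThruCoimage φ = 0 from e, comp_zero])
    have hIi := isInvertible_of_mono hC.le hreg hI hM ι hne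
    have h1 := hnef₁ C hC hreg f hf I hIi p inferInstance
    exact h1.trans (H29RR.deg_le_of_ne_zero (k := k) hC.le hIi hM hne).1

end Groth.Agent.S17280
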