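import Groth.Statements.S17281
import Groth.Agent.H23Nef.Generated

set_option autoImplicit false
universe u
open CategoryTheory CategoryTheory.Limits AlgebraicGeometry TopologicalSpace
open Curves

namespace Groth.Agent.S17281

/-- Fix an algebraically closed field k and a regular projective curve C over it (integral, proper over
k, of dimension one, all local rings regular) of genus g = dim_k H^1(C, O_C), E a finite locally
free O_C-module that is nef in the curve-test sense (for every regular projective curve C' over k,
every k-morphism f : C' → C and every invertible quotient M of f^*E, deg M = χ(M) - χ(O_{C'}) ≥ 0),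
and H an invertible O_C-module with deg H = χ(H) - χ(O_C) ≥ 2g. Then E ⊗ H is generated by its
global sections. -/
theorem result (k : Type u) [Field k] [IsAlgClosed k]
    (X : Scheme.{u}) [X.Over (Spec (CommRingCat.of k))] [IsProper (X ↘ (Spec (CommRingCat.of k)))] [IsIntegral X]
    (hdim : topologicalKrullDim X = 1) (hreg : ∀ x : X, IsRegularLocalRing (X.presheaf.stalk x))
    (E : X.Modules) (hE : FlatMod.IsFinLocFree E)
    (hnef : ∀ (C : Scheme.{u}) [C.Over (Spec (CommRingCat.of k))] [IsProper (C ↘ (Spec (CommRingCat.of k)))] [IsIntegral C],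
      topologicalKrullDim C = 1 → (∀ x : C, IsRegularLocalRing (C.presheaf.stalk x)) →
      ∀ (f : C ⟶ X), f ≫ (X ↘ (Spec (CommRingCat.of k))) = C ↘ (Spec (CommRingCat.of k)) →
      ∀ (M : C.Modules), PicF.IsInvertible M →
      ∀ (q : (Scheme.Modules.pullback f).obj E ⟶ M), Epi q → 0 ≤ Curv2.deg k C M 1)
    (H : X.Modules) (hH : PicF.IsInvertible H)
    (hdeg : 2 * (Curv2.genus k X : ℤ) ≤ Curv2.deg k X H 1) :
    Curv2.IsGloballyGenerated (CohB1.tensorMod E H) := by
  haveI := H29RR.smooth_of_regular k X hreg
  haveI := H29RR.isNoetherian_of_proper (k := k) (X := X)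
  obtain ⟨r, hr⟩ := H25Par.exists_rank k (X := X) hdim.le
    (H16Derived.KFlat.Stalk.isCoh_of_isFinLocFree hE) (H25Par.isTorsionFree_of_locFree hE)
  refine H23Nef.isGloballyGenerated (k := k) hdim hr (fun M hM q hq => ?_) hH
    (by have := H23Nef.deg_omega_le (k := k) (X := X) hdim; omega)
  haveI := hq
  exact hnef X hdim hreg (𝟙 X) (Category.id_comp _) M hM
    (((Scheme.Modules.pullbackId X).app E).hom ≫ q) (epi_comp _ _)

end Groth.Agent.S17281
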