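import Groth.Statements.S17283
import Mathlib
import Groth.Agent.H22Alg.NefBundle
import Groth.Agent.S7640

set_option autoImplicit false
universe u
open CategoryTheory CategoryTheory.Limits AlgebraicGeometry TopologicalSpace
open Variety

namespace Groth.Agent.S17283

/-- Scheme case, curve-test form of nefness: let f : Y → X be a surjective k-morphism of proper schemes
over a field k and E a finite locally free O_X-module. If the pullback f^*E is nef on Y in the
curve-test sense (for every regular projective curve C over k — integral, proper over k, of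
dimension one, all local rings regular — every k-morphism g : C → Y and every invertible quotient M
of g^*(f^*E), deg M = χ(M) - χ(O_C) ≥ 0), then E is nef on X in the same sense. (The source states
this for proper algebraic spaces with nefness of O(1) on P(E); on proper schemes the senses agree by
the Barton–Kleiman criterion.) -/
theorem result (k : Type u) [Field k] (X Y : Scheme.{u})
    [X.Over (Spec (CommRingCat.of k))] [IsProper (X ↘ (Spec (CommRingCat.of k)))] [Y.Over (Spec (CommRingCat.of k))] [IsProper (Y ↘ (Spec (CommRingCat.of k)))]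
    (f : Y ⟶ X) (hf : f ≫ (X ↘ (Spec (CommRingCat.of k))) = Y ↘ (Spec (CommRingCat.of k))) [Surjective f]
    (E : X.Modules) (hE : FlatMod.IsFinLocFree E)
    (hnef : ∀ (C : Scheme.{u}) [C.Over (Spec (CommRingCat.of k))] [IsProper (C ↘ (Spec (CommRingCat.of k)))] [IsIntegral C],
      topologicalKrullDim C = 1 → (∀ x : C, IsRegularLocalRing (C.presheaf.stalk x)) →
      ∀ (g : C ⟶ Y), g ≫ (Y ↘ (Spec (CommRingCat.of k))) = C ↘ (Spec (CommRingCat.of k)) →
      ∀ (M : C.Modules), PicF.IsInvertible M →
      ∀ (q : (Scheme.Modules.pullback g).obj ((Scheme.Modules.pullback f).obj E) ⟶ M), Epi q → 0 ≤ Curv2.deg k C M 1) :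
    ∀ (C : Scheme.{u}) [C.Over (Spec (CommRingCat.of k))] [IsProper (C ↘ (Spec (CommRingCat.of k)))] [IsIntegral C],
    topologicalKrullDim C = 1 → (∀ x : C, IsRegularLocalRing (C.presheaf.stalk x)) →
    ∀ (g : C ⟶ X), g ≫ (X ↘ (Spec (CommRingCat.of k))) = C ↘ (Spec (CommRingCat.of k)) →
    ∀ (M : C.Modules), PicF.IsInvertible M →
    ∀ (q : (Scheme.Modules.pullback g).obj E ⟶ M), Epi q → 0 ≤ Curv2.deg k C M 1 := by
  intro C _ _ _ hC hreg g hg M hM q hq
  haveI : IsProper f := by
    haveI : IsProper (f ≫ (X ↘ (Spec (CommRingCat.of k)))) := by rw [hf]; infer_instance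
    exact IsProper.of_comp f (X ↘ (Spec (CommRingCat.of k)))
  let P := Limits.pullback f g
  letI : P.Over (Spec (CommRingCat.of k)) := ⟨pullback.snd f g ≫ (C ↘ (Spec (CommRingCat.of k)))⟩
  haveI : IsProper (P ↘ (Spec (CommRingCat.of k))) :=
    inferInstanceAs (IsProper (pullback.snd f g ≫ _))
  obtain ⟨N, hNi, ν, hNp, hN, hNreg, hη, hdeg⟩ :=
    H22Alg.NefBundle.exists_regular_curve_over k hC (pullback.snd f g) rfl
  haveI := hNi
  letI : N.Over (Spec (CommRingCat.of k)) := ⟨ν ≫ (P ↘ (Spec (CommRingCat.of k)))⟩
  haveI : IsProper (N ↘ (Spec (CommRingCat.of k))) := hNp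
  let h : N ⟶ Y := ν ≫ pullback.fst f g
  let π : N ⟶ C := ν ≫ pullback.snd f g
  have hcomm : h ≫ f = π ≫ g := by simp only [h, π, Category.assoc, pullback.condition]
  have hh : h ≫ (Y ↘ (Spec (CommRingCat.of k))) = N ↘ (Spec (CommRingCat.of k)) := by
    rw [← hf, ← Category.assoc, hcomm, Category.assoc, hg, Category.assoc]
    rfl
  have hM' : PicF.IsInvertible ((Scheme.Modules.pullback π).obj M) := H11Ample.isInvertible_pullback π hM
  let q' : (Scheme.Modules.pullback h).obj ((Scheme.Modules.pullback f).obj E) ⟶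
      (Scheme.Modules.pullback π).obj M :=
    ((Scheme.Modules.pullbackComp h f).app E ≪≫ (Scheme.Modules.pullbackCongr hcomm).app E ≪≫
      ((Scheme.Modules.pullbackComp π g).app E).symm).hom ≫ (Scheme.Modules.pullback π).map q
  haveI := hq
  haveI : Epi ((Scheme.Modules.pullback π).map q) :=
    haveI := (Scheme.Modules.pullbackPushforwardAdjunction π).isLeftAdjoint
    inferInstance
  have h0 := hnef N hN hNreg h hh _ hM' q' inferInstance
  rw [S7640.result k N C hN hC π (by rw [Category.assoc]; rfl) hη 1 M (H22Alg.PB.rank_one_of_isInvertible hM)] at h0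
  exact nonneg_of_mul_nonneg_right h0 (by exact_mod_cast hdeg)

end Groth.Agent.S17283
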