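import Groth.Statements.S17284
import Groth.Agent.S17276
import Groth.Agent.H22Alg.NefBundle
import Groth.Agent.H28Int.Num

set_option autoImplicit false
universe u
open CategoryTheory CategoryTheory.Limits AlgebraicGeometry TopologicalSpace
open Variety

namespace Groth.Agent.S17284

/-- (iii) ⇒ (ii): let X be a proper scheme over a field k and E a finite locally free O_X-module.
Suppose that for every regular projective curve C over k (integral, proper over k, of dimension one,
all local rings regular), every k-morphism f : C → X and every invertible quotient f^*E → M, deg M =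
χ(M) - χ(O_C) ≥ 0. Then for every proper k-scheme C of dimension one (equivalently projective;
possibly reducible or non-reduced), every k-morphism f : C → X and every invertible quotient f^*E →
M, deg M = χ(M) - χ(O_C) ≥ 0. (The source states this for proper algebraic spaces X; this is the
case of schemes.) -/
theorem result (k : Type u) [Field k]
    (X : Scheme.{u}) [X.Over (Spec (CommRingCat.of k))] [IsProper (X ↘ (Spec (CommRingCat.of k)))] (E : X.Modules) (hE : FlatMod.IsFinLocFree E)
    (hnef : ∀ (C : Scheme.{u}) [C.Over (Spec (CommRingCat.of k))] [IsProper (C ↘ (Spec (CommRingCat.of k)))] [IsIntegral C],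
      topologicalKrullDim C = 1 → (∀ x : C, IsRegularLocalRing (C.presheaf.stalk x)) →
      ∀ (f : C ⟶ X), f ≫ (X ↘ (Spec (CommRingCat.of k))) = C ↘ (Spec (CommRingCat.of k)) →
      ∀ (M : C.Modules), PicF.IsInvertible M →
      ∀ (q : (Scheme.Modules.pullback f).obj E ⟶ M), Epi q → 0 ≤ Curv2.deg k C M 1) :
    ∀ (C : Scheme.{u}) [C.Over (Spec (CommRingCat.of k))] [IsProper (C ↘ (Spec (CommRingCat.of k)))], topologicalKrullDim C = 1 →
    ∀ (f : C ⟶ X), f ≫ (X ↘ (Spec (CommRingCat.of k))) = C ↘ (Spec (CommRingCat.of k)) →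
    ∀ (M : C.Modules), PicF.IsInvertible M →
    ∀ (q : (Scheme.Modules.pullback f).obj E ⟶ M), Epi q → 0 ≤ Curv2.deg k C M 1 := by
  intro C _ _ hC f hf M hM q hq
  refine S17276.result k C hC M hM fun D hDi hDd => ?_
  let Z := D.subscheme
  haveI : IsIntegral Z := hDi
  letI : Z.Over (Spec (CommRingCat.of k)) := ⟨D.subschemeι ≫ (C ↘ Spec (CommRingCat.of k))⟩
  haveI : IsProper (Z ↘ Spec (CommRingCat.of k)) := inferInstanceAs (IsProper (D.subschemeι ≫ _))
  haveI : Surjective (𝟙 Z) := inferInstance
  have hZd : topologicalKrullDim Z = 1 := (H22Alg.NakaiPos.dim_subscheme D).trans hDd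
  obtain ⟨N, hNi, ν, hNp, hN, hNreg, hη, hdeg⟩ :=
    H22Alg.NefBundle.exists_regular_curve_over k hZd (𝟙 Z) (Category.id_comp _)
  haveI := hNi
  letI : N.Over (Spec (CommRingCat.of k)) := ⟨ν ≫ (Z ↘ Spec (CommRingCat.of k))⟩
  haveI : IsProper (N ↘ Spec (CommRingCat.of k)) := hNp
  rw [Category.comp_id] at hη hdeg
  let π : N ⟶ C := ν ≫ D.subschemeι
  have hπ : (π ≫ f) ≫ (X ↘ Spec (CommRingCat.of k)) = N ↘ Spec (CommRingCat.of k) := by
    rw [Category.assoc, hf, Category.assoc]; rfl
  haveI := hq
  haveI : Epi ((Scheme.Modules.pullback π).map q) :=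
    haveI := (Scheme.Modules.pullbackPushforwardAdjunction π).isLeftAdjoint
    inferInstance
  have h0 := hnef N hN hNreg (π ≫ f) hπ _ (H11Ample.isInvertible_pullback π hM)
    ((Scheme.Modules.pullbackComp π f).inv.app E ≫ (Scheme.Modules.pullback π).map q) inferInstance
  let M' := (Scheme.Modules.pullback D.subschemeι).obj M
  have hM' : PicF.IsInvertible M' := H11Ample.isInvertible_pullback _ hM
  have h1 : Curv2.deg k N ((Scheme.Modules.pullback π).obj M) 1 =
      Curv2.deg k N ((Scheme.Modules.pullback ν).obj M') 1 := by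
    unfold Curv2.deg
    rw [H25Euler.euler_congr ((Scheme.Modules.pullbackComp ν D.subschemeι).symm.app M)]
    rfl
  rw [h1, S7640.result k N Z hN hZd ν rfl hη 1 M' (H22Alg.PB.rank_one_of_isInvertible hM')] at h0
  have h2 : (0 : ℤ) ≤ Curv2.euler k Z M' - Curv2.euler k Z (Coh.structureModule Z) := by
    have := nonneg_of_mul_nonneg_right h0 (by exact_mod_cast hdeg)
    simpa [Curv2.deg] using this
  have h3 := H28Int.Num.D_push_structure k D.subschemeι rfl hM
  change Curv2.euler k C _ - Curv2.euler k C (CohB1.tensorMod M _) = _ at h3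
  rw [H25Euler.euler_congr (k := k) (H10Coh.Tw.commIso (ClSub.quotMod D) M)]
  change 0 ≤ Curv2.euler k C (CohB1.tensorMod M ((Coh.push D.subschemeι).obj (Coh.structureModule Z))) -
    Curv2.euler k C ((Coh.push D.subschemeι).obj (Coh.structureModule Z))
  change Curv2.euler k C _ - _ = Curv2.euler k Z _ - Curv2.euler k Z M' at h3
  dsimp only [Z] at h2 h3 ⊢
  omega

end Groth.Agent.S17284
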