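import Groth.Statements.S17285
import Groth.Agent.H11Big.Kodaira

set_option autoImplicit false
set_option linter.style.haveILetI false
set_option linter.unusedVariables false
universe u
open CategoryTheory CategoryTheory.Limits AlgebraicGeometry TopologicalSpace
open Variety

namespace Groth.Agent.S17285

/-- Let X and Y be proper varieties over a field k (integral schemes, proper over k) of the same
dimension d, f : Y → X a birational k-morphism (generic point to generic point, with a single point
in that fibre and the same residue field there), and L an invertible O_X-module. Then L is big,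
meaning that some real c > 0 has dim_k H^0(X, L^{⊗n}) > c·n^d for all sufficiently large n, if and
only if f^*L is big on Y in the same sense. (The source states this for birational morphisms of
proper schemes over k; it is stated here for integral X and Y, the case in which the printed
argument's injectivity of O_X → f_*O_Y holds.) -/
theorem result (k : Type u) [Field k] (X Y : Scheme.{u})
    [X.Over (Spec (CommRingCat.of k))] [IsProper (X ↘ (Spec (CommRingCat.of k)))] [IsIntegral X]
    [Y.Over (Spec (CommRingCat.of k))] [IsProper (Y ↘ (Spec (CommRingCat.of k)))] [IsIntegral Y]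
    (f : Y ⟶ X) (hf : f ≫ (X ↘ (Spec (CommRingCat.of k))) = Y ↘ (Spec (CommRingCat.of k))) (hbir : RadPt.IsBirational f)
    (d : ℕ) (hdimX : topologicalKrullDim X = d) (hdimY : topologicalKrullDim Y = d)
    (L : X.Modules) (hL : PicF.IsInvertible L) :
    (∃ c : ℝ, 0 < c ∧ ∀ᶠ n : ℕ in Filter.atTop,
        c * (n : ℝ) ^ d < (Module.finrank k (Coh.HH X (CohB1.tensorPow L n) 0) : ℝ)) ↔
      (∃ c : ℝ, 0 < c ∧ ∀ᶠ n : ℕ in Filter.atTop,
        c * (n : ℝ) ^ d < (Module.finrank k (Coh.HH Y (CohB1.tensorPow ((Scheme.Modules.pullback f).obj L) n) 0) : ℝ)) := by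
  haveI := Groth.Agent.H28Int.isNoetherian k (X := X)
  obtain ⟨C, hC⟩ := Groth.Agent.H11Big.pullback_diff_birational k f hf hbir (d := d) hdimX.le hL
  constructor
  · rintro ⟨c, hc, h⟩
    exact ⟨c, hc, h.mono fun n hn => hn.trans_le (Nat.cast_le.2 (hC n).1)⟩
  · rintro ⟨c, hc, h⟩
    refine ⟨c / 2, by linarith, ?_⟩
    obtain ⟨N, hN⟩ := exists_nat_ge ((C : ℝ) * (d * 2 ^ d) * (2 / c))
    filter_upwards [h, Filter.eventually_ge_atTop (max N 1)] with m hm hm'
    have hm1 : 1 ≤ m := (le_max_right _ _).trans hm'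
    have hmN : (N : ℝ) ≤ m := by exact_mod_cast (le_max_left _ _).trans hm'
    have h2 : (Module.finrank k (Coh.HH Y (CohB1.tensorPow ((Scheme.Modules.pullback f).obj L) m) 0) : ℝ) ≤
        (Module.finrank k (Coh.HH X (CohB1.tensorPow L m) 0) : ℝ) + ((C * ((m + 1) ^ d - m ^ d) : ℕ) : ℝ) := by
      exact_mod_cast (hC m).2
    have h3 : (m : ℝ) * ((C * ((m + 1) ^ d - m ^ d) : ℕ) : ℝ) ≤ (C : ℝ) * (d * 2 ^ d) * (m : ℝ) ^ d := by
      have := Nat.mul_le_mul_left C (Groth.Agent.H22Alg.VolLimsup.sub_pow_le d m hm1)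
      have h' : m * (C * ((m + 1) ^ d - m ^ d)) ≤ C * (d * 2 ^ d) * m ^ d := by
        rw [Nat.mul_left_comm, Nat.mul_assoc C]; exact this
      exact_mod_cast h'
    have h4 : (C : ℝ) * (d * 2 ^ d) ≤ c / 2 * m := by
      have := hN.trans hmN
      rw [mul_div_assoc', div_le_iff₀ hc] at this
      nlinarith
    have hpos : (0 : ℝ) < m := by exact_mod_cast hm1
    have h5 : ((C * ((m + 1) ^ d - m ^ d) : ℕ) : ℝ) ≤ c / 2 * (m : ℝ) ^ d := by
      refine le_of_mul_le_mul_left (h3.trans ?_) hpos
      calc (C : ℝ) * (d * 2 ^ d) * (m : ℝ) ^ d ≤ c / 2 * m * (m : ℝ) ^ d :=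
            mul_le_mul_of_nonneg_right h4 (by positivity)
        _ = (m : ℝ) * (c / 2 * (m : ℝ) ^ d) := by ring
    linarith

end Groth.Agent.S17285
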