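import Groth.Statements.S17287
import Mathlib
import Groth.Agent.H22Alg.FibreCount
import Groth.Agent.H22Alg.RedIntegral
import Groth.Agent.LeadDev.Generic

set_option autoImplicit false
universe u
open CategoryTheory CategoryTheory.Limits AlgebraicGeometry TopologicalSpace
open Variety

namespace Groth.Agent.S17287

/-- Let f : Y → X be a surjective k-morphism of proper schemes over a field k and C ⊆ X an integral
closed subscheme of dimension one. Then there is an integral closed subscheme C' ⊆ Y of dimension
one with f(C') = C as closed subsets. (The source states this for proper algebraic spaces over k;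
this is the case of schemes.) -/
theorem result (k : Type u) [Field k] (X Y : Scheme.{u})
    [X.Over (Spec (CommRingCat.of k))] [IsProper (X ↘ (Spec (CommRingCat.of k)))] [Y.Over (Spec (CommRingCat.of k))] [IsProper (Y ↘ (Spec (CommRingCat.of k)))]
    (f : Y ⟶ X) (hf : f ≫ (X ↘ (Spec (CommRingCat.of k))) = Y ↘ (Spec (CommRingCat.of k))) [Surjective f]
    (C : X.IdealSheafData) [IsIntegral C.subscheme] (hC : topologicalKrullDim (C.support : Set X) = 1) :
    ∃ C' : Y.IdealSheafData, IsIntegral C'.subscheme ∧ topologicalKrullDim (C'.support : Set Y) = 1 ∧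
      f.base '' (C'.support : Set Y) = (C.support : Set X) := by
  let q := X ↘ (Spec (CommRingCat.of k))
  let qY := Y ↘ (Spec (CommRingCat.of k))
  haveI : IsProper (f ≫ q) := hf.symm ▸ inferInstance
  haveI : IsProper f := IsProper.of_comp f q
  let ξ := C.subschemeι (genericPoint C.subscheme)
  have hcl : closure ({ξ} : Set X) = (C.support : Set X) := by
    rw [← C.range_subschemeι]
    exact (LeadDev.range_eq_closure C.subschemeι (ξ := ξ) rfl).symm
  obtain ⟨y₀, hy₀⟩ := f.surjective ξ
  haveI : Nonempty (f.fiber ξ) := ⟨(f.fiberHomeo ξ).symm ⟨y₀, hy₀⟩⟩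
  let g : f.fiber ξ ⟶ Spec (CommRingCat.of (X.residueField ξ)) := f.fiberToSpecResidueField ξ
  haveI : LocallyOfFiniteType g := H8Props.FieldDim.locallyOfFiniteType_fiberToSpec f ξ
  obtain ⟨v, -, hv⟩ := H22Alg.FibreCount.exists_closed_point g isOpen_univ
    Set.univ_nonempty
  let y := f.fiberι ξ v
  have hcd := H22Alg.FibreCount.cdim_fiber qY q f hf v
  rw [(H22Alg.FibreCount.isClosed_iff_cdim_eq_zero g v).1 hv, zero_add] at hcd
  refine ⟨Scheme.IdealSheafData.vanishingIdeal (⟨closure {y}, isClosed_closure⟩ : TopologicalSpace.Closeds Y),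
    H22Alg.isIntegral_vanishingIdeal_closure y, ?_, ?_⟩
  · rw [Scheme.IdealSheafData.coe_support_vanishingIdeal]
    refine hcd.trans ?_
    rw [← hC, ← hcl]
    rfl
  · rw [Scheme.IdealSheafData.coe_support_vanishingIdeal, ← hcl]
    have hfy : f y = ξ := by
      have h := ((f.fiberHomeo ξ) v).2
      exact h
    show f.base '' closure ({y} : Set Y) = _
    rw [← f.isClosedMap.closure_image_eq_of_continuous f.continuous, Set.image_singleton, hfy]

end Groth.Agent.S17287
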