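import Groth.Statements.S17288
import Mathlib
import Groth.Agent.H22Alg.Nakai
import Groth.Agent.H17.Image
import Groth.Agent.H17.InvertibleTensor

set_option autoImplicit false
universe u
open CategoryTheory CategoryTheory.Limits AlgebraicGeometry TopologicalSpace
open Variety

namespace Groth.Agent.S17288

/-- Let X be a proper scheme over a field k, D ⊆ X an effective Cartier divisor, i.e. a closed subscheme
whose quasi-coherent ideal I_D is an invertible O_X-module, and O_X(D) an invertible module with
O_X(D) ⊗ I_D ≅ O_X. If the restriction of O_X(D) to D is ample on D, then O_X(mD) = O_X(D)^{⊗m} is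
generated by its global sections for all sufficiently large m. (The source states this for proper
algebraic spaces over k; this is the case of schemes.) -/
theorem result (k : Type u) [Field k] (X : Scheme.{u})
    [X.Over (Spec (CommRingCat.of k))] [IsProper (X ↘ (Spec (CommRingCat.of k)))] (D : X.IdealSheafData)
    (hD : PicF.IsInvertible (ClSub.idealMod D)) (LD : X.Modules) (hLD : ClSub.IsInverseOf LD (ClSub.idealMod D))
    (hample : CohB1.IsAmple ((Scheme.Modules.pullback D.subschemeι).obj LD)) :
    ∀ᶠ m : ℕ in Filter.atTop, Curv2.IsGloballyGenerated (CohB1.tensorPow LD m) := by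
  obtain ⟨e⟩ := hLD
  haveI := H28Int.isNoetherian k (X := X)
  have hL : PicF.IsInvertible LD := H17.InvertibleTensor.isInvertible_of_tensor_iso LD _ e
  haveI := H10Coh.epi_toSubscheme D
  have hS : (ShortComplex.mk (ClSub.idealModι D) (ClSub.toSubscheme D) (kernel.condition _)).ShortExact :=
    { exact := ShortComplex.exact_kernel _
      mono_f := inferInstanceAs (Mono (kernel.ι (ClSub.toSubscheme D)))
      epi_g := H10Coh.epi_toSubscheme D }
  have hT := H10Coh.Tw.shortExact_seq hS hL
  let m := (H10Coh.Tw.seq (ShortComplex.mk (ClSub.idealModι D) (ClSub.toSubscheme D) (kernel.condition _)) hL).f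
  haveI : Mono m := hT.mono_f
  let a : Coh.structureModule X ≅ CohB1.tensorMod (ClSub.idealMod D) LD :=
    e.symm ≪≫ H10Coh.Tw.commIso LD (ClSub.idealMod D)
  let l := H10Coh.Tw.leftUnitIso LD
  let s : Coh.structureModule X ⟶ LD := a.hom ≫ m ≫ l.hom
  have hml : Mono (m ≫ l.hom) := mono_comp _ _
  haveI : Mono s := mono_comp' inferInstance hml
  have hs : H11Tilde.homOfGlobal LD (SecTwist.val s ⊤) = s := by
    refine Scheme.Modules.hom_ext _ _ fun W => ?_
    ext r
    exact (H06Mod.app_unit s W r).symm
  haveI : Mono (H11Tilde.homOfGlobal LD (SecTwist.val s ⊤)) := by rw [hs]; infer_instance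
  have hQ : Coh.IsCoh (ClSub.quotMod D) :=
    H24FSch.isCoh_pushforward_of_isClosedImmersion D.subschemeι (H10Coh.isCoh_structureModule' _)
  obtain ⟨N, hN⟩ := H22Alg.NakaiGen.eventually_globallyGenerated k hL (SecTwist.val s ⊤) (fun Z i hi hZ hr => by
    rw [hs] at hr
    let c : cokernel s ≅ CohB1.tensorMod (ClSub.quotMod D) LD :=
      cokernelEpiComp a.hom (m ≫ l.hom) ≪≫ cokernelCompIsIso m l.hom ≪≫
        (cokernelIsCokernel m).coconePointUniqueUpToIso hT.gIsCokernel
    have hsub : Set.range i ⊆ Set.range D.subschemeι := by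
      refine hr.trans ((LeadDev.support_subset_of_iso c).trans ?_)
      rw [H25Euler.support_tensor_invertible hQ hL]
      intro x hx
      by_contra hn
      exact LeadDev.notMem_support_push D.subschemeι (Coh.structureModule D.subscheme) hn hx
    haveI := hi; haveI := hZ
    obtain ⟨g, hg⟩ := H17.exists_lift_of_range_subset i D.subschemeι hsub
    haveI : IsClosedImmersion (g ≫ D.subschemeι) := hg ▸ hi
    haveI : IsClosedImmersion g := IsClosedImmersion.of_comp g D.subschemeι
    exact H11Ample.isAmple_of_iso ((Scheme.Modules.pullbackComp g D.subschemeι).app LD ≪≫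
      (Scheme.Modules.pullbackCongr hg).app LD) (H11Ample.isAmple_pullback_of_isAffineHom g hample))
  exact Filter.eventually_atTop.2 ⟨N, hN⟩

end Groth.Agent.S17288
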