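import Groth.Statements.S17289
import Groth.Agent.H22Alg.AmpleQuot
import Groth.Agent.H22Alg.PB.Exists

set_option autoImplicit false
universe u
open CategoryTheory CategoryTheory.Limits AlgebraicGeometry TopologicalSpace
open Variety

namespace Groth.Agent.S17289

/-- Suppose X is a proper scheme over a field k, and E, F are finite locally free O_X-modules with E → F
surjective. Assume E is ample, meaning that the fundamental module O(1) of the projective bundle
P(E) = Proj(Sym E) → X is ample (for any relative-Proj data of the graded symmetric algebra of E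
with its O(1)); then F is ample in the same sense. (The source states this for proper algebraic
spaces over k, together with the analogous assertion for nef modules; this is the ample assertion in
the case of schemes.) -/
theorem result (k : Type u) [Field k] (X : Scheme.{u})
    [X.Over (Spec (CommRingCat.of k))] [IsProper (X ↘ (Spec (CommRingCat.of k)))] (E F : X.Modules)
    (hE : FlatMod.IsFinLocFree E) (hF : FlatMod.IsFinLocFree F) (φ : E ⟶ F) [Epi φ]
    (hample : ∀ (𝒮 : RelProj.QCGrAlg X) (j : E ⟶ 𝒮.toModule) (P : Scheme.{u}) (p : P ⟶ X)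
        (chart : ∀ (U : X.Opens) (hU : IsAffineOpen U),
          (((p ⁻¹ᵁ U : P.Opens) : Scheme.{u}) ≅ Proj (𝒮.deg U hU)))
        (O1 : P.Modules)
        (lam : ∀ (U : X.Opens) (hU : IsAffineOpen U),
          O1 ⟶ (Scheme.Modules.pushforward (RelProj.emb p chart U hU)).obj (GrTwist.twist (𝒮.deg U hU) 1)),
        RelProj.IsGrSymAlg E 𝒮 j → RelProj.IsRelProj 𝒮 p chart → RelProj.IsRelTwist 𝒮 p chart 1 O1 lam →
        CohB1.IsAmple O1) :
    ∀ (𝒮 : RelProj.QCGrAlg X) (j : F ⟶ 𝒮.toModule) (P : Scheme.{u}) (p : P ⟶ X)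
      (chart : ∀ (U : X.Opens) (hU : IsAffineOpen U),
        (((p ⁻¹ᵁ U : P.Opens) : Scheme.{u}) ≅ Proj (𝒮.deg U hU)))
      (O1 : P.Modules)
      (lam : ∀ (U : X.Opens) (hU : IsAffineOpen U),
        O1 ⟶ (Scheme.Modules.pushforward (RelProj.emb p chart U hU)).obj (GrTwist.twist (𝒮.deg U hU) 1)),
      RelProj.IsGrSymAlg F 𝒮 j → RelProj.IsRelProj 𝒮 p chart → RelProj.IsRelTwist 𝒮 p chart 1 O1 lam →
      CohB1.IsAmple O1 := by
  intro 𝒮 j P p chart O1 lam hT hP hL
  have hqE := Groth.Agent.H8Props.FinLocFree.isQCoh_of_isFinLocFree _ hE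
  have hqF := Groth.Agent.H8Props.FinLocFree.isQCoh_of_isFinLocFree _ hF
  obtain ⟨𝒯, jE, hTE⟩ := Groth.Agent.H11Sym.exists_isGrSymAlg E hqE
  obtain ⟨PT, pT, chartT, hPT⟩ := Groth.Agent.H11Proj.exists_isRelProj 𝒯
  obtain ⟨LT, lamT, hLT⟩ := Groth.Agent.H11Tilde.exists_isRelTwist hPT 1
  exact Groth.Agent.H22Alg.AmpleQuot.ample_of_epi hqE hqF φ hTE hPT hLT
    (hample 𝒯 jE PT pT chartT LT lamT hTE hPT hLT) hT hP hL

end Groth.Agent.S17289
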