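import Groth.Statements.S1729
import Mathlib.RingTheory.Nakayama
import Mathlib.RingTheory.LocalRing.ResidueField.Basic

set_option autoImplicit false
universe u
open Dual2

namespace Groth.Agent.S1729

open scoped TensorProduct

/-- Over a local ring, every finite module M admits a projective cover: a surjection from a projective
module P onto M such that no proper submodule of P maps onto M. -/
theorem result (R : Type u) [CommRing R] [IsLocalRing R] (M : Type u) [AddCommGroup M] [Module R M] [Module.Finite R M] : ∃ (P : Type u) (_ : AddCommGroup P) (_ : Module R P) (f : P →ₗ[R] M), Dual2.IsProjectiveCover f := by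
  let κ := IsLocalRing.ResidueField R
  let b := Module.finBasis κ (κ ⊗[R] M)
  have hsurj : Function.Surjective (TensorProduct.mk R κ M 1) :=
    TensorProduct.mk_surjective R M κ Ideal.Quotient.mk_surjective
  choose g hg using fun i => hsurj (b i)
  refine ⟨(Fin (Module.finrank κ (κ ⊗[R] M)) → R), inferInstance, inferInstance,
    Fintype.linearCombination R g, ⟨inferInstance, ?_, ?_⟩⟩
  · rw [← LinearMap.range_eq_top, Fintype.range_linearCombination]
    refine IsLocalRing.span_eq_top_of_tmul_eq_basis g b hg
  · intro N hN
    have hker : ∀ v, Fintype.linearCombination R g v = 0 → ∀ i, v i ∈ IsLocalRing.maximalIdeal R := by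
      intro v hv i
      have h1 := congrArg (TensorProduct.mk R κ M 1) hv
      rw [Fintype.linearCombination_apply, map_sum, map_zero] at h1
      simp only [map_smul, hg, ← algebraMap_smul κ (v _)] at h1
      exact (IsLocalRing.residue_eq_zero_iff _).1 (Fintype.linearIndependent_iff.1 b.linearIndependent _ h1 i)
    refine top_le_iff.1 (Submodule.le_of_le_smul_of_le_jacobson_bot Module.Finite.fg_top
      (IsLocalRing.maximalIdeal_le_jacobson ⊥) fun x _ => ?_)
    obtain ⟨y, hy, hyx⟩ := (hN.ge (Submodule.mem_top (x := Fintype.linearCombination R g x)))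
    refine Submodule.mem_sup.2 ⟨y, hy, x - y, ?_, add_sub_cancel y x⟩
    have h2 := hker (x - y) (by rw [map_sub, hyx, sub_self])
    rw [← (Pi.basisFun R _).sum_repr (x - y)]
    refine Submodule.sum_mem _ fun i _ => Submodule.smul_mem_smul ?_ Submodule.mem_top
    simpa using h2 i

end Groth.Agent.S1729
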