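import Groth.Statements.S17295
import Groth.Agent.H29CurvSt.Connected.Line

set_option autoImplicit false
universe u
open CurvSt

namespace Groth.Agent.S17295

open CategoryTheory AlgebraicGeometry in
/-- Assume the stack of curves over the base scheme S (families with algebraic-space total space, flat,
proper, of finite presentation and of relative dimension at most 1, no marked points) is an
algebraic stack for the fppf topology. Then, inside it, the families whose geometric fibres
(realised as schemes over an algebraically closed field) are reduced, connected and of Krull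
dimension exactly 1 form an open substack for the fppf topology; moreover this substack has an
object over every algebraically closed field point of S. (The source works over the integers; the
statement over S is its form over a base.) -/
theorem result (S : Scheme.{u})
    (hC : AlgSt.IsAlgStack Scheme.fppfPrecoverage (CurvSt.Curves S 0)) :
    AlgSt.IsOpenSubstack (CurvSt.Curves S 0) (fun A => CurvSt.GeomFib (fun _ _ _ X' _ _ =>
            IsReduced X' ∧ ConnectedSpace ↥X' ∧ topologicalKrullDim ↥X' = 1) A.obj) Scheme.fppfPrecoverage ∧
      ∀ (Ω : Type u) [Field Ω] [IsAlgClosed Ω] (t : Spec (CommRingCat.of Ω) ⟶ S),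
        Nonempty ((AlgSt.fullSub (CurvSt.Curves S 0) (fun A => CurvSt.GeomFib (fun _ _ _ X' _ _ =>
            IsReduced X' ∧ ConnectedSpace ↥X' ∧ topologicalKrullDim ↥X' = 1) A.obj)).p.Fiber (Over.mk t)) := by
  refine ⟨Groth.Agent.H29CurvSt.isOpenSubstack_of_locus _ Groth.Agent.H29CurvSt.Connected.exists_isLocus_redConnDimOne hC,
    fun Ω _ _ t => Groth.Agent.H29CurvSt.nonempty_fiber t ?_⟩
  refine Groth.Agent.H29CurvSt.geomFib_line
    (Q := fun _ _ _ X' _ => IsReduced X' ∧ ConnectedSpace ↥X' ∧ topologicalKrullDim ↥X' = 1) t
    fun K _ _ s X' i q hP => ?_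
  haveI : Smooth q := MorphismProperty.of_isPullback hP (Groth.Agent.H29CurvSt.smooth_line Ω)
  exact ⟨Groth.Agent.H13AlgSp.isReduced_of_smooth_mor q,
    Groth.Agent.H29CurvSt.Connected.connectedSpace_of_isPullback_line hP,
    Groth.Agent.H29CurvSt.Connected.dim_eq_one_of_isPullback_line hP⟩

end Groth.Agent.S17295
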