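import Groth.Statements.S17296
import Groth.Agent.H29CurvSt.StalkLocus
import Groth.Agent.H29CurvSt.Exist

set_option autoImplicit false
universe u
open CurvSt

namespace Groth.Agent.S17296

open CategoryTheory AlgebraicGeometry in
/-- Assume the stack of curves over the base scheme S (families with algebraic-space total space, flat,
proper, of finite presentation and of relative dimension at most 1, no marked points) is an
algebraic stack for the fppf topology. Then, inside it, the families whose structure morphism is a
Gorenstein morphism (read etale locally: in every etale chart diagram the morphism of schemes is, at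
every point, flat with Gorenstein fibre local ring) form an open substack for the fppf topology;
moreover this substack has an object over every algebraically closed field point of S. (The source
works over the integers; the statement over S is its form over a base.) -/
theorem result (S : Scheme.{u})
    (hC : AlgSt.IsAlgStack Scheme.fppfPrecoverage (CurvSt.Curves S 0)) :
    AlgSt.IsOpenSubstack (CurvSt.Curves S 0) (fun A => AlgSp.LocP (fun _ _ g => ∀ x, (g.stalkMap x).hom.Flat ∧
            LocCoh.IsGorensteinLocalRing ((g.fiber (g x)).presheaf.stalk (g.asFiber x))) A.obj.f) Scheme.fppfPrecoverage ∧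
      ∀ (Ω : Type u) [Field Ω] [IsAlgClosed Ω] (t : Spec (CommRingCat.of Ω) ⟶ S),
        Nonempty ((AlgSt.fullSub (CurvSt.Curves S 0) (fun A => AlgSp.LocP (fun _ _ g => ∀ x, (g.stalkMap x).hom.Flat ∧
            LocCoh.IsGorensteinLocalRing ((g.fiber (g x)).presheaf.stalk (g.asFiber x))) A.obj.f)).p.Fiber (Over.mk t)) := by
  refine ⟨Groth.Agent.H29CurvSt.openFibrewise_gor.isOpenSubstack hC, fun Ω _ _ t => Groth.Agent.H29CurvSt.nonempty_fiber t ?_⟩
  exact @Groth.Agent.H29CurvSt.locP_yon_of_allPts _ _ Groth.Agent.H29CurvSt.openFibrewise_gor _ _ _
    (inferInstance : Flat (CohB1.ProjSpace.toSpec 1 Ω))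
    (inferInstance : LocallyOfFinitePresentation (CohB1.ProjSpace.toSpec 1 Ω))
    fun x => Groth.Agent.H29CurvSt.fibAt_regular_of_smooth (Q := Groth.Agent.H29CurvSt.GorRing)
      (fun R _ _ => Groth.Agent.H4Goren.isGorensteinLocalRing_of_isRegularLocalRing R)
      (CohB1.ProjSpace.toSpec 1 Ω) x Groth.Agent.H29CurvSt.gor_iso

end Groth.Agent.S17296
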