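import Groth.Statements.S17297
import Groth.Agent.H29CurvSt.IsolatedNonsmooth
import Groth.Agent.H29CurvSt.Exist

set_option autoImplicit false
universe u
open CurvSt

namespace Groth.Agent.S17297

open CategoryTheory AlgebraicGeometry in
/-- Assume the stack of curves over the base scheme S (families with algebraic-space total space, flat,
proper, of finite presentation and of relative dimension at most 1, no marked points) is an
algebraic stack for the fppf topology. Then, inside it, the families each of whose geometric fibres
(realised as a scheme over an algebraically closed field) is smooth over that field outside a finite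
set of points form an open substack for the fppf topology; moreover this substack has an object over
every algebraically closed field point of S. (The source also characterises these families as those
whose singular locus, with any closed subspace structure, is finite over the base; the substack here
is cut out by the fibrewise condition, which the source shows defines it. The source works over the
integers; the statement over S is its form over a base.) -/
theorem result (S : Scheme.{u})
    (hC : AlgSt.IsAlgStack Scheme.fppfPrecoverage (CurvSt.Curves S 0)) :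
    AlgSt.IsOpenSubstack (CurvSt.Curves S 0) (fun A => CurvSt.GeomFib (fun _ _ _ X' q _ =>
            Set.Finite {x : ↥X' | ¬ ∃ U : X'.Opens, x ∈ U ∧ Smooth (U.ι ≫ q)}) A.obj) Scheme.fppfPrecoverage ∧
      ∀ (Ω : Type u) [Field Ω] [IsAlgClosed Ω] (t : Spec (CommRingCat.of Ω) ⟶ S),
        Nonempty ((AlgSt.fullSub (CurvSt.Curves S 0) (fun A => CurvSt.GeomFib (fun _ _ _ X' q _ =>
            Set.Finite {x : ↥X' | ¬ ∃ U : X'.Opens, x ∈ U ∧ Smooth (U.ι ≫ q)}) A.obj)).p.Fiber (Over.mk t)) := by
  refine ⟨?_, fun Ω _ _ t => Groth.Agent.H29CurvSt.nonempty_fiber t ?_⟩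
  · rw [show (fun A : (CurvSt.Curves S 0).obj => CurvSt.GeomFib (fun _ _ _ X' q _ =>
        Set.Finite {x : ↥X' | ¬ ∃ U : X'.Opens, x ∈ U ∧ Smooth (U.ι ≫ q)}) A.obj) =
      fun A => CurvSt.GeomFib (fun _ _ _ _ q _ =>
        Groth.Agent.H29CurvSt.allPts Groth.Agent.H29CurvSt.NonsmoothIsolatedAt q) A.obj from
      funext fun A => propext (Groth.Agent.H29CurvSt.geomFib_finiteNonsmooth_iff A.property)]
    exact Groth.Agent.H29CurvSt.openFibrewise_nonsmoothIsolatedAt.isOpenSubstack_geomFib hC
  · refine Groth.Agent.H29CurvSt.geomFib_line
      (Q := fun _ _ _ X' q => Set.Finite {x : ↥X' | ¬ ∃ U : X'.Opens, x ∈ U ∧ Smooth (U.ι ≫ q)}) t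
      fun K _ _ s X' i q hP => ?_
    haveI : Smooth q := MorphismProperty.of_isPullback hP (Groth.Agent.H29CurvSt.smooth_line Ω)
    exact Set.finite_empty.subset fun x hx => hx ⟨⊤, trivial, inferInstance⟩

end Groth.Agent.S17297
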