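import Groth.Statements.S17303
import Groth.Agent.H29CurvSt.GeomFibScheme
import Groth.Agent.H29CurvSt.StalkLocus
import Groth.Agent.H29Node.NodalMax
import Groth.Agent.H05EGA4.DimFibre

set_option autoImplicit false
universe u
open CurvSt

namespace Groth.Agent.S17303

open CategoryTheory AlgebraicGeometry in
/-- For a family of curves (algebraic-space total space, flat, proper, of finite presentation, relative
dimension at most 1, no marked points) over a scheme over S, if all geometric fibres (realised as
schemes over an algebraically closed field) are reduced then the structure morphism is a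
Cohen–Macaulay morphism (etale locally on every chart diagram the morphism of schemes is flat with
Cohen–Macaulay fibre local rings at every point). In the source this is the inclusion of the open
substack of curves with geometrically reduced fibres in the open substack of Cohen–Macaulay curves. -/
theorem result (S : Scheme.{u}) (A : (CurvSt.Curves S 0).obj)
    (h : CurvSt.GeomFib (fun _ _ _ X' _ _ => IsReduced X') A.obj) :
    AlgSp.LocP (fun _ _ g => ∀ x, MoreMor.IsCMAt g x) A.obj.f := by
  have hA := A.property
  have hQ := Groth.Agent.H29CurvSt.openFibrewise_cm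
  have hf := Groth.Agent.H29CurvSt.locP_FL_of_isCurveFam hA
  have hY := AlgSp.IsAlgSpace.yon_obj A.obj.base
  refine (hQ.locP_iff hA.1 hY hf).2 fun x => ?_
  obtain ⟨t₀, ht₀⟩ := (AlgSp.Points.schemeHomeo A.obj.base).surjective (AlgSp.Points.map A.obj.f x)
  let Ω := AlgebraicClosure (A.obj.base.left.residueField t₀)
  let t : Spec (CommRingCat.of Ω) ⟶ A.obj.base.left :=
    Spec.map (CommRingCat.ofHom (algebraMap (A.obj.base.left.residueField t₀) Ω)) ≫
      A.obj.base.left.fromSpecResidueField t₀
  have ht : (A.obj.ptHom t).left (IsLocalRing.closedPoint Ω) = t₀ := by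
    show t (IsLocalRing.closedPoint Ω) = t₀
    simp only [t, Scheme.Hom.comp_apply]
    exact Scheme.fromSpecResidueField_apply _ _
  obtain ⟨X', q, i, hP⟩ := Groth.Agent.H29CurvSt.exists_geomFibre hA Ω t
  obtain ⟨hlft, -, -, hdim⟩ := Groth.Agent.H29CurvSt.geomFibre_facts hA hP
  obtain ⟨x', hx', -⟩ := Groth.Agent.H12AlgSp.exists_point_of_isPullback hP x
    (AlgSp.Points.schemeHomeo (A.obj.ptOver t) (IsLocalRing.closedPoint Ω))
    (by rw [AlgSp.Points.map_yon_map_apply, ht]; exact ht₀.symm)
  rw [← hx', ← hQ.baseChange_iff hP hA.1 hY (AlgSp.IsAlgSpace.yon_obj _) hf x']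
  haveI : LocallyOfFiniteType (A.obj.fibHom t q).left := hlft
  haveI : IsLocallyNoetherian (A.obj.ptOver t).left :=
    inferInstanceAs (IsLocallyNoetherian (Spec (CommRingCat.of Ω)))
  haveI hF : Flat (A.obj.fibHom t q).left := by
    show Flat q
    infer_instance
  haveI hL : LocallyOfFinitePresentation (A.obj.fibHom t q).left := inferInstance
  refine (hQ.locP_iff (AlgSp.IsAlgSpace.yon_obj _) (AlgSp.IsAlgSpace.yon_obj _)
    (Groth.Agent.H12AlgSp.locP_of_repWith Groth.Agent.H29CurvSt.etLocal_FL
      ((AlgSp.repWith_yon_map_iff _ _).2 ⟨hF, hL⟩))).1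
    (Groth.Agent.H29CurvSt.locP_yon_of_allPts hQ (A.obj.fibHom t q) fun y => ?_) x'
  refine (Groth.Agent.H29Curve.fibre_stalk_iff Groth.Agent.H29CurvSt.cm_iso (𝟙 _) q y).2 ?_
  haveI : LocallyOfFiniteType q := hlft
  haveI : IsReduced X' := h Ω t X' q i hP
  haveI : IsLocallyNoetherian X' := LocallyOfFiniteType.isLocallyNoetherian q
  exact Groth.Agent.H29Node.isCM_of_isReduced_of_dim_le_one _
    ((Groth.Agent.H05EGA4.DimFibre.stalkDim_le_top y).trans hdim)

end Groth.Agent.S17303
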