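import Groth.Statements.S1731
import Groth.Agent.H4DR.FlatBC.TorsionExt

set_option autoImplicit false
universe u
open CategoryTheory
open scoped TensorProduct
attribute [local instance] HasDerivedCategory.standard
open LocCoh

namespace Groth.Agent.S1731

/-- Statement for modules: let A → B be a flat ring map and I a finitely generated ideal of A such that
A → B/IB is surjective with kernel I (so A/I ≅ B/IB). If M is an I-power torsion A-module, then for
every A-module N and every integer i the group of maps M → N[i] in D(A) is isomorphic to the group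
of maps B ⊗_A M → (B ⊗_A N)[i] in D(B). (Only the existence of an isomorphism is asserted; the
published statement shows that the base-change map is one.) -/
theorem result (A B : Type u) [CommRing A] [CommRing B] [Algebra A B] [Module.Flat A B] (I : Ideal A) (hI : I.FG) (hs : Function.Surjective ((Ideal.Quotient.mk (I.map (algebraMap A B))).comp (algebraMap A B))) (hk : RingHom.ker ((Ideal.Quotient.mk (I.map (algebraMap A B))).comp (algebraMap A B)) = I) (M N : Type u) [AddCommGroup M] [Module A M] [AddCommGroup N] [Module A N] (hM : LocCoh.IsPowerTorsion I M) (i : ℤ) : Nonempty ((Dual.inD A M ⟶ (Dual.inD A N)⟦i⟧) ≃+ (Dual.inD B (B ⊗[A] M) ⟶ (Dual.inD B (B ⊗[A] N))⟦i⟧)) := by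
  obtain ⟨s, hsI⟩ := hI
  have hq := H4DR.FlatBC.bijective_quotientMap_pow I hs hk
  have hbl := H4DR.FlatBC.blind_of_isPowerTorsion (B := B) (s := s)
    (fun P _ _ hP => H4DR.FlatBC.bijective_one_tmul I hq P
      (by rwa [show Ideal.span (s : Set A) = I from hsI] at hP)) (M := M)
    (by rw [show Ideal.span (s : Set A) = I from hsI]; exact hM) ((Dual.inD A N)⟦i⟧)
  let sM : (H4DR.FlatBC.FD A B).obj (Dual.inD A M) ≅ Dual.inD B (B ⊗[A] M) :=
    ((H4DR.FlatBC.F A B).mapDerivedCategorySingleFunctor 0).app (ModuleCat.of A M) ≪≫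
      (DerivedCategory.singleFunctor (ModuleCat.{u} B) 0).mapIso
        ((H4DR.FlatBC.toFₗ B (ModuleCat.of A M)).symm.toModuleIso)
  let sN : (H4DR.FlatBC.FD A B).obj (Dual.inD A N) ≅ Dual.inD B (B ⊗[A] N) :=
    ((H4DR.FlatBC.F A B).mapDerivedCategorySingleFunctor 0).app (ModuleCat.of A N) ≪≫
      (DerivedCategory.singleFunctor (ModuleCat.{u} B) 0).mapIso
        ((H4DR.FlatBC.toFₗ B (ModuleCat.of A N)).symm.toModuleIso)
  let e₁ : (Dual.inD A M ⟶ (Dual.inD A N)⟦i⟧) ≃+ (Dual.inD A M ⟶ (DRing.restrictD (algebraMap A B)).obj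
      ((H4DR.FlatBC.FD A B).obj ((Dual.inD A N)⟦i⟧))) :=
    AddEquiv.ofBijective (AddMonoidHom.mk' (fun x => x ≫ H4DR.FlatBC.η (B := B) _)
      fun x y => Preadditive.add_comp _ _ _ x y _) hbl
  let e₂ := ((H4DR.FlatBC.adjFD A B).homAddEquiv (Dual.inD A M)
    ((H4DR.FlatBC.FD A B).obj ((Dual.inD A N)⟦i⟧))).symm
  let e₃ := (Linear.homCongr B sM (((H4DR.FlatBC.FD A B).commShiftIso i).app (Dual.inD A N) ≪≫
    (shiftFunctor (Dual.D B) i).mapIso sN)).toAddEquiv
  exact ⟨e₁.trans (e₂.trans e₃)⟩

end Groth.Agent.S1731
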