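import Groth.Statements.S17313
import Groth.Agent.H14QCoh.QAffGen

set_option autoImplicit false
universe u
open CategoryTheory CategoryTheory.Limits AlgebraicGeometry
open ResProp

set_option backward.isDefEq.respectTransparency false
set_option backward.isDefEq.respectTransparency.types false

namespace Groth.Agent.S17313

/-- Let `f : 𝒳 → 𝒴` be a quasi-compact and quasi-separated morphism of algebraic stacks over a scheme
`S` (fppf topology; diagonals representable, separated and quasi-compact, the text's standing
convention) that is representable by algebraic spaces and quasi-affine. Then the structure sheaf of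
`𝒳` is a generating family relative to `f`: for every object of `𝒴` whose scheme is affine, a
morphism of quasi-coherent modules on the category of `𝒳` over that object which kills every
morphism from the structure sheaf is zero. (Quasi-compactness and quasi-separatedness of `f`, the
text's standing hypothesis for relative generating families, already follow from `f` being
quasi-affine; they are carried here as explicit hypotheses.) -/
theorem result (S : Scheme.{u}) (𝒳 𝒴 : AlgSt.Cat S)
    (h𝒳 : AlgSt.IsAlgStack Scheme.fppfPrecoverage 𝒳) (h𝒴 : AlgSt.IsAlgStack Scheme.fppfPrecoverage 𝒴)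
    (hΔ𝒳 : AlgSt.RepByAlgSpWith (AlgSp.IsSeparatedMor ⊓ AlgSp.IsQuasiCompactMor) (FibCat.diag (FibCat.toSelf 𝒳)))
    (hΔ𝒴 : AlgSt.RepByAlgSpWith (AlgSp.IsSeparatedMor ⊓ AlgSp.IsQuasiCompactMor) (FibCat.diag (FibCat.toSelf 𝒴)))
    (f : 𝒳 ⥤ᵇ 𝒴) (hfqc : AlgSt.IsQuasiCompactMor Scheme.fppfPrecoverage f) (hfqs : AlgSt.IsQuasiSeparatedMor f)
    (hf : AlgSt.RepByAlgSpWith AlgSp.IsQuasiAffineMor f) :
    StMod.IsRelGenFam f (fun _ : PUnit.{u + 1} => StMod.OQ 𝒳) := by
  exact Groth.Agent.H14QCoh.isRelGenFam_OQ_of_qaff f h𝒳.isStack.1 h𝒴.isStack.1 hf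

end Groth.Agent.S17313
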