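import Groth.Statements.S17315
import Groth.Agent.H14QCoh.FlatCharts

set_option autoImplicit false
universe u
open CategoryTheory CategoryTheory.Limits AlgebraicGeometry
open ResProp

namespace Groth.Agent.S17315

/-- Let `f : 𝒳 → 𝒴` be a quasi-compact and quasi-separated morphism of algebraic stacks over a scheme
`S` (fppf topology; diagonals representable, separated and quasi-compact, the text's standing
convention), `E` a family of quasi-coherent modules of finite presentation on `𝒳`, and `y a : (Sch/T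
a) → 𝒴` a family of morphisms from affine schemes `T a`, each representable by algebraic spaces and
flat, and jointly surjective on points of `𝒴`. If for every `a` the family `E` pulled back to the
fibre product `𝒳 ×_𝒴 T a` is a generating family (a morphism of quasi-coherent modules on it killed
by every morphism from a member is zero), then `E` is generating relative to `f`: the same holds
over every object of `𝒴` with affine scheme. -/
theorem result (S : Scheme.{u}) (𝒳 𝒴 : AlgSt.Cat S)
    (h𝒳 : AlgSt.IsAlgStack Scheme.fppfPrecoverage 𝒳) (h𝒴 : AlgSt.IsAlgStack Scheme.fppfPrecoverage 𝒴)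
    (hΔ𝒳 : AlgSt.RepByAlgSpWith (AlgSp.IsSeparatedMor ⊓ AlgSp.IsQuasiCompactMor) (FibCat.diag (FibCat.toSelf 𝒳)))
    (hΔ𝒴 : AlgSt.RepByAlgSpWith (AlgSp.IsSeparatedMor ⊓ AlgSp.IsQuasiCompactMor) (FibCat.diag (FibCat.toSelf 𝒴)))
    (f : 𝒳 ⥤ᵇ 𝒴) (hfqc : AlgSt.IsQuasiCompactMor Scheme.fppfPrecoverage f) (hfqs : AlgSt.IsQuasiSeparatedMor f)
    {ι : Type u} (E : ι → StMod.QCoh 𝒳) (hE : ∀ i, (E i).obj.IsFinPres)
    {A : Type u} (T : A → Over S) (hT : ∀ a, IsAffine (T a).left)
    (y : ∀ a, FibCat.overCat (T a) ⥤ᵇ 𝒴) (hfl : ∀ a, AlgSt.RepByAlgSpWith (AlgSp.LocP @Flat) (y a))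
    (hsurj : ∀ p : AlgSt.Points 𝒴, ∃ (a : A) (t : (T a).left), AlgSt.Points.ofChart (y a) t = p)
    (hgen : ∀ a, StMod.IsGenFam (fun i => (StMod.comapQ (FibCat.fpFst f (y a))).obj (E i))) :
    StMod.IsRelGenFam f E := by
  intro η hη
  obtain ⟨κ, η', β, a, haff, hflat, hs, hm⟩ :=
    Groth.Agent.H14QCoh.exists_affine_charts h𝒴.isStack.1 y hfl hsurj η
  refine Groth.Agent.H14QCoh.isGenFam_of_flat_cover h𝒳 h𝒴 f hfqc hfqs E hE η hη η' β haff hflat hs fun k => ?_
  haveI := hT (a k)
  exact Groth.Agent.H14QCoh.isGenFam_of_chart f (y (a k)) h𝒳.isStack.1 h𝒴.isStack.1 E (hgen (a k)) (haff k) (hm k).some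

end Groth.Agent.S17315
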