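import Groth.Agent.H14QCoh.DiagBC
import Groth.Statements.S17318
-- import your own Groth.Agent.* helpers here

set_option autoImplicit false
universe u
open CategoryTheory CategoryTheory.Limits AlgebraicGeometry
open ResProp

namespace Groth.Agent.S17318

/-- Let `f : 𝒳 → 𝒴` and `g : 𝒴 → 𝒵` be quasi-compact and quasi-separated morphisms of algebraic stacks
over a scheme `S` (fppf topology; diagonals representable, separated and quasi-compact, the text's
standing convention), and `E` a family of quasi-coherent modules of finite presentation on `𝒳`. If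
`E` is generating relative to the composite `g ∘ f` and the structure sheaf of `𝒴` is generating
relative to the diagonal `𝒴 → 𝒴 ×_𝒵 𝒴` of `g`, then `E` is generating relative to `f`. (The
published statement takes a second family `F` on `𝒴`, locally free of finite type and generating
relative to the diagonal of `g`, assumes the family `E i ⊗ f^* F j` generating relative to a
composite given up to 2-isomorphism, and derives that `f` is quasi-compact and quasi-separated; this
is the case where `F` is the structure sheaf alone, with the strict composite and with `f` assumed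
quasi-compact and quasi-separated.) -/
theorem result (S : Scheme.{u}) (𝒳 𝒴 𝒵 : AlgSt.Cat S)
    (h𝒳 : AlgSt.IsAlgStack Scheme.fppfPrecoverage 𝒳) (h𝒴 : AlgSt.IsAlgStack Scheme.fppfPrecoverage 𝒴) (h𝒵 : AlgSt.IsAlgStack Scheme.fppfPrecoverage 𝒵)
    (hΔ𝒳 : AlgSt.RepByAlgSpWith (AlgSp.IsSeparatedMor ⊓ AlgSp.IsQuasiCompactMor) (FibCat.diag (FibCat.toSelf 𝒳)))
    (hΔ𝒴 : AlgSt.RepByAlgSpWith (AlgSp.IsSeparatedMor ⊓ AlgSp.IsQuasiCompactMor) (FibCat.diag (FibCat.toSelf 𝒴)))
    (hΔ𝒵 : AlgSt.RepByAlgSpWith (AlgSp.IsSeparatedMor ⊓ AlgSp.IsQuasiCompactMor) (FibCat.diag (FibCat.toSelf 𝒵)))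
    (f : 𝒳 ⥤ᵇ 𝒴) (hfqc : AlgSt.IsQuasiCompactMor Scheme.fppfPrecoverage f) (hfqs : AlgSt.IsQuasiSeparatedMor f)
    (g : 𝒴 ⥤ᵇ 𝒵) (hgqc : AlgSt.IsQuasiCompactMor Scheme.fppfPrecoverage g) (hgqs : AlgSt.IsQuasiSeparatedMor g)
    {ι : Type u} (E : ι → StMod.QCoh 𝒳) (hE : ∀ i, (E i).obj.IsFinPres)
    (hh : StMod.IsRelGenFam (BasedFunctor.comp f g) E)
    (hO : StMod.IsRelGenFam (FibCat.diag g) (fun _ : PUnit.{u + 1} => StMod.OQ 𝒴)) :
    StMod.IsRelGenFam f E := by
  exact Groth.Agent.H14QCoh.isGenFam_of_comp_diag f g h𝒳 h𝒴 h𝒵 hfqc hfqs hgqc hgqs E hh hO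

end Groth.Agent.S17318
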