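import Groth.Agent.H14QCoh.DiagBC
import Groth.Agent.H14QCoh.IsoCongr
import Groth.Agent.S17316
import Groth.Statements.S17319
-- import your own Groth.Agent.* helpers here

set_option autoImplicit false
universe u
open CategoryTheory CategoryTheory.Limits AlgebraicGeometry
open ResProp

namespace Groth.Agent.S17319

/-- Let `u : 𝒰 → 𝒳`, `f : 𝒳 → 𝒴`, `g : 𝒰 → 𝒱` and `v : 𝒱 → 𝒴` be quasi-compact and quasi-separated
morphisms of algebraic stacks over a scheme `S` (fppf topology; diagonals representable, separated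
and quasi-compact, the text's standing convention) forming a square that commutes up to a
2-isomorphism `f ∘ u ≅ v ∘ g`, and `E` a family of quasi-coherent modules of finite presentation on
`𝒳`. If `E` is generating relative to `f`, the structure sheaf of `𝒰` is generating relative to `u`
and the structure sheaf of `𝒱` is generating relative to the diagonal `𝒱 → 𝒱 ×_𝒴 𝒱` of `v`, then the
family of inverse images `u^* E i` is generating relative to `g`. (Here `g` is assumed quasi-compact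
and quasi-separated as well, and `v` quasi-compact; the hypotheses on `u` and `v` hold whenever both
are quasi-affine. Only the assertion about generating families in the strong sense is stated; the
one about weakly generating families is not.) -/
theorem result (S : Scheme.{u}) (𝒰 𝒳 𝒱 𝒴 : AlgSt.Cat S)
    (h𝒰 : AlgSt.IsAlgStack Scheme.fppfPrecoverage 𝒰) (h𝒳 : AlgSt.IsAlgStack Scheme.fppfPrecoverage 𝒳) (h𝒱 : AlgSt.IsAlgStack Scheme.fppfPrecoverage 𝒱) (h𝒴 : AlgSt.IsAlgStack Scheme.fppfPrecoverage 𝒴)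
    (hΔ𝒰 : AlgSt.RepByAlgSpWith (AlgSp.IsSeparatedMor ⊓ AlgSp.IsQuasiCompactMor) (FibCat.diag (FibCat.toSelf 𝒰)))
    (hΔ𝒳 : AlgSt.RepByAlgSpWith (AlgSp.IsSeparatedMor ⊓ AlgSp.IsQuasiCompactMor) (FibCat.diag (FibCat.toSelf 𝒳)))
    (hΔ𝒱 : AlgSt.RepByAlgSpWith (AlgSp.IsSeparatedMor ⊓ AlgSp.IsQuasiCompactMor) (FibCat.diag (FibCat.toSelf 𝒱)))
    (hΔ𝒴 : AlgSt.RepByAlgSpWith (AlgSp.IsSeparatedMor ⊓ AlgSp.IsQuasiCompactMor) (FibCat.diag (FibCat.toSelf 𝒴)))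
    (u : 𝒰 ⥤ᵇ 𝒳) (huqc : AlgSt.IsQuasiCompactMor Scheme.fppfPrecoverage u) (huqs : AlgSt.IsQuasiSeparatedMor u)
    (f : 𝒳 ⥤ᵇ 𝒴) (hfqc : AlgSt.IsQuasiCompactMor Scheme.fppfPrecoverage f) (hfqs : AlgSt.IsQuasiSeparatedMor f)
    (g : 𝒰 ⥤ᵇ 𝒱) (hgqc : AlgSt.IsQuasiCompactMor Scheme.fppfPrecoverage g) (hgqs : AlgSt.IsQuasiSeparatedMor g)
    (v : 𝒱 ⥤ᵇ 𝒴) (hvqc : AlgSt.IsQuasiCompactMor Scheme.fppfPrecoverage v) (hvqs : AlgSt.IsQuasiSeparatedMor v)
    (e : BasedFunctor.comp u f ≅ BasedFunctor.comp g v)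
    {ι : Type u} (E : ι → StMod.QCoh 𝒳) (hE : ∀ i, (E i).obj.IsFinPres)
    (hEf : StMod.IsRelGenFam f E)
    (hOu : StMod.IsRelGenFam u (fun _ : PUnit.{u + 1} => StMod.OQ 𝒰))
    (hOv : StMod.IsRelGenFam (FibCat.diag v) (fun _ : PUnit.{u + 1} => StMod.OQ 𝒱)) :
    StMod.IsRelGenFam g (fun i => (StMod.comapQ u).obj (E i)) := by
  have h1 := Groth.Agent.S17316.result S 𝒰 𝒳 𝒴 h𝒰 h𝒳 h𝒴 hΔ𝒰 hΔ𝒳 hΔ𝒴 u huqc huqs f hfqc hfqs E hE hOu hEf
  exact Groth.Agent.H14QCoh.isGenFam_of_comp_diag g v h𝒰 h𝒱 h𝒴 hgqc hgqs hvqc hvqs _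
    (Groth.Agent.H14QCoh.isRelGenFam_of_iso e h𝒰.isStack.1 h1) hOv

end Groth.Agent.S17319
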