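import Groth.Statements.S17320
import Groth.Agent.H14QCoh.Fppf

set_option autoImplicit false
universe u
open CategoryTheory CategoryTheory.Limits AlgebraicGeometry
open ResProp

namespace Groth.Agent.S17320

/-- Let `f : 𝒳 → 𝒴` be a quasi-compact and quasi-separated morphism of algebraic stacks over a scheme
`S` (fppf topology; diagonals representable, separated and quasi-compact, the text's standing
convention), `E` a family of quasi-coherent modules on `𝒳`, and `u a : 𝒴' a → 𝒴` a family of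
morphisms of algebraic stacks, each flat and locally of finite presentation, jointly surjective on
points. If for every `a` the family `E` pulled back to the fibre product `𝒳 ×_𝒴 𝒴' a` consists of
locally free modules of finite type and is generating relative to the projection to `𝒴' a`, then
every `E i` is locally free of finite type and `E` is generating relative to `f`. (The published
statement allows an fpqc covering family pulled back from an auxiliary base stack; here the family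
is fppf and maps to the target itself, and `f` is assumed quasi-compact and quasi-separated, which
the published first alternative obtains from the covering. Its other alternative, where `f` is
quasi-compact and quasi-separated and `E` is already locally free of finite type on `𝒳`, is the
locality of generating families on the base and is not restated.) -/
theorem result (S : Scheme.{u}) (𝒳 𝒴 : AlgSt.Cat S)
    (h𝒳 : AlgSt.IsAlgStack Scheme.fppfPrecoverage 𝒳) (h𝒴 : AlgSt.IsAlgStack Scheme.fppfPrecoverage 𝒴)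
    (hΔ𝒳 : AlgSt.RepByAlgSpWith (AlgSp.IsSeparatedMor ⊓ AlgSp.IsQuasiCompactMor) (FibCat.diag (FibCat.toSelf 𝒳)))
    (hΔ𝒴 : AlgSt.RepByAlgSpWith (AlgSp.IsSeparatedMor ⊓ AlgSp.IsQuasiCompactMor) (FibCat.diag (FibCat.toSelf 𝒴)))
    (f : 𝒳 ⥤ᵇ 𝒴) (hfqc : AlgSt.IsQuasiCompactMor Scheme.fppfPrecoverage f) (hfqs : AlgSt.IsQuasiSeparatedMor f)
    {ι : Type u} (E : ι → StMod.QCoh 𝒳)
    {A : Type u} (𝒴' : A → AlgSt.Cat S) (h𝒴' : ∀ a, AlgSt.IsAlgStack Scheme.fppfPrecoverage (𝒴' a))
    (hΔ' : ∀ a, AlgSt.RepByAlgSpWith (AlgSp.IsSeparatedMor ⊓ AlgSp.IsQuasiCompactMor)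
      (FibCat.diag (FibCat.toSelf (𝒴' a))))
    (u : ∀ a, 𝒴' a ⥤ᵇ 𝒴)
    (hfl : ∀ a, AlgSt.LocQ (AlgSp.LocP (@Flat ⊓ @LocallyOfFinitePresentation)) (u a))
    (hsurj : ∀ p : AlgSt.Points 𝒴, ∃ (a : A) (q : AlgSt.Points (𝒴' a)), AlgSt.Points.map (u a) q = p)
    (hlf : ∀ a i, ((StMod.comapQ (FibCat.fpFst f (u a))).obj (E i)).obj.IsLocFree ∧
      ((StMod.comapQ (FibCat.fpFst f (u a))).obj (E i)).obj.IsFinType)
    (hgen : ∀ a, StMod.IsRelGenFam (FibCat.fpSnd f (u a))
      (fun i => (StMod.comapQ (FibCat.fpFst f (u a))).obj (E i))) :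
    (∀ i, (E i).obj.IsLocFree ∧ (E i).obj.IsFinType) ∧ StMod.IsRelGenFam f E := by
  have hfree : ∀ i ξ, FlatMod.IsFinLocFree ((E i).obj.obj ξ) := fun i ξ =>
    Groth.Agent.H14QCoh.isFinLocFree_of_fppf_family h𝒳 h𝒴 f (fun a => (h𝒴' a).isStack.1) u hfl hsurj (E i)
      (fun a => hlf a i) ξ
  refine ⟨fun i => ⟨fun ξ => (Groth.Agent.H14QCoh.isLocallyFree_of_isFinLocFree _ (hfree i ξ)).1,
    fun ξ => (Groth.Agent.H14QCoh.isLocallyFree_of_isFinLocFree _ (hfree i ξ)).2⟩, fun η hη => ?_⟩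
  have hE : ∀ i, (E i).obj.IsFinPres := fun i ξ =>
    Groth.Agent.H8Props.FinLocFree.isFP_of_isFinLocFree _ (hfree i ξ)
  have hfl' : ∀ a, AlgSt.LocQ (AlgSp.LocP @Flat) (u a) := fun a => by
    obtain ⟨U, V, x, y, h, i, hx, hxs, hy, hh⟩ := hfl a
    exact ⟨U, V, x, y, h, i, hx, hxs, hy, Groth.Agent.H12AlgSp.locP_mono inf_le_left hh⟩
  obtain ⟨κ, η', β, haff, hflat, hs, hm⟩ :=
    Groth.Agent.H14QCoh.exists_affine_objects h𝒴 (fun a => (h𝒴' a).isStack.1) u hfl' hsurj η
  refine Groth.Agent.H14QCoh.isGenFam_of_flat_cover h𝒳 h𝒴 f hfqc hfqs E hE η hη η' β haff hflat hs fun k => ?_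
  obtain ⟨a, θ, hθ, ⟨m⟩⟩ := hm k
  exact Groth.Agent.H14QCoh.isGenFam_of_stack f (u a) θ h𝒳.isStack.1 h𝒴.isStack.1 (h𝒴' a).isStack.1 E (hgen a) hθ
    (haff k) m

end Groth.Agent.S17320
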