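import Groth.Statements.S17321
import Groth.Agent.H3CAlg.FiniteAlg
import Mathlib.Algebra.Module.StablyFree.Basic
import Mathlib.Algebra.Order.Star.Basic
import Mathlib.LinearAlgebra.FreeModule.PID
import Mathlib.RingTheory.Flat.TorsionFree
import Mathlib.RingTheory.PicardGroup
import Mathlib.RingTheory.RegularLocalRing.Defs
import Mathlib.RingTheory.SimpleRing.Principal
import Mathlib.RingTheory.TotallySplit

set_option autoImplicit false
universe u v
open CAlg

namespace Groth.Agent.S17321

/-- Let k be an algebraically closed field and A a commutative k-algebra which is finite-dimensional as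
a k-vector space (the coordinate ring of a finite k-scheme). Then the space Der(A) of k-derivations
A → A is zero if and only if A is reduced. -/
theorem result (k : Type u) [Field k] [IsAlgClosed k]
    (A : Type v) [CommRing A] [Algebra k A] [Module.Finite k A] :
    Subsingleton (Derivation k A A) ↔ IsReduced A := by
  classical
  have : IsArtinianRing A := .of_finite k A
  constructor
  · intro hsub
    by_contra hred
    obtain ⟨y, hynil, hy⟩ : ∃ y : A, IsNilpotent y ∧ y ≠ 0 := by
      by_contra! h
      exact hred ⟨fun y hy => h y hy⟩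
    have hann : (⊥ : Submodule A A).colon {y} ≠ ⊤ := by
      intro h
      have : (1 : A) ∈ (⊥ : Submodule A A).colon {y} := h ▸ trivial
      simp [Submodule.mem_colon_singleton] at this
      exact hy this
    obtain ⟨m, hm, hle⟩ := Ideal.exists_le_maximal _ hann
    have hminm : m ∈ ((⊥ : Submodule A A).colon {y}).minimalPrimes :=
      ⟨⟨hm.isPrime, hle⟩, fun q hq hqm => by
        have : q.IsPrime := hq.1
        exact (Ideal.IsMaximal.eq_of_le (Ideal.isMaximal_of_isPrime q) hm.ne_top hqm).ge⟩
    obtain ⟨x, hx⟩ := Submodule.exists_eq_colon_of_mem_minimalPrimes hminm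
    have hx0 : x ≠ 0 := by
      rintro rfl
      apply hm.ne_top
      rw [hx, Ideal.eq_top_iff_one]; simp [Submodule.mem_colon_singleton]
    have hmm : ¬ m ≤ m * m := by
      intro h
      obtain ⟨e, he, hme⟩ := (Ideal.isIdempotentElem_iff_of_fg m (IsNoetherian.noetherian m)).mp
        (le_antisymm Ideal.mul_le_right h)
      have hem : e ∈ m := hme ▸ Ideal.mem_span_singleton_self e
      have hym : y ∈ m := by
        obtain ⟨N, hN⟩ := hynil
        exact hm.isPrime.mem_of_pow_mem N (hN ▸ zero_mem m)
      obtain ⟨c, hc⟩ := Ideal.mem_span_singleton'.mp (show y ∈ Ideal.span {e} by rw [hme] at hym; exact hym)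
      have h1 : 1 - e ∈ m := hle (by
        rw [Submodule.mem_colon_singleton, Submodule.mem_bot, smul_eq_mul, ← hc]
        linear_combination (-c) * he.eq)
      exact hm.ne_top ((Ideal.eq_top_iff_one m).mpr (by simpa using add_mem h1 hem))
    obtain ⟨v, hv, hv2⟩ := SetLike.not_le_iff_exists.mp hmm
    obtain ⟨φ, hφv, hφ⟩ := Submodule.exists_dual_map_eq_bot_of_notMem (p := (m * m).restrictScalars k) hv2 inferInstance
    obtain ⟨f, hf⟩ := Groth.Agent.H3CAlg.exists_algHom_ker_eq k A m
    have hφ' : ∀ z ∈ m * m, φ z = 0 := fun z hz => by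
      have : φ z ∈ ((m * m).restrictScalars k).map φ := Submodule.mem_map_of_mem hz
      rwa [hφ, Submodule.mem_bot] at this
    have hfm : ∀ a, a - algebraMap k A (f a) ∈ m := fun a => by rw [← hf]; simp
    have hax : ∀ a, a * x = f a • x := fun a => by
      have := hfm a
      rw [hx, Submodule.mem_colon_singleton, Submodule.mem_bot, smul_eq_mul, sub_mul, sub_eq_zero] at this
      rw [this, Algebra.smul_def]
    let ψ : A →ₗ[k] k := φ.comp (LinearMap.id - (Algebra.linearMap k A).comp f.toLinearMap)
    have hψ : ∀ a, ψ a = φ (a - algebraMap k A (f a)) := fun a => rfl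
    let D : Derivation k A A := Derivation.mk' ((LinearMap.toSpanSingleton k A x).comp ψ) (fun a b => by
      simp only [LinearMap.comp_apply, LinearMap.toSpanSingleton_apply, smul_eq_mul, hψ, mul_smul_comm, hax, smul_smul, ← add_smul]
      congr 1
      have : (a * b - algebraMap k A (f (a * b))) = (a - algebraMap k A (f a)) * (b - algebraMap k A (f b))
          + (f a • (b - algebraMap k A (f b)) + f b • (a - algebraMap k A (f a))) := by
        simp only [map_mul, Algebra.smul_def]; ring
      rw [this, map_add, hφ' _ (Ideal.mul_mem_mul (hfm a) (hfm b)), map_add, map_smul, map_smul]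
      simp only [smul_eq_mul, zero_add]; ring)
    have h0 : D v = 0 := by rw [Subsingleton.elim D 0]; rfl
    have : f v = 0 := by rw [← hf] at hv; exact hv
    simp [D, hψ, this, hφv, hx0] at h0
  · intro _
    have := Groth.Agent.H3CAlg.formallyEtale_of_finite_isReduced k A
    have hΩ : Subsingleton (Ω[A⁄k]) := inferInstance
    exact ⟨fun D E => Derivation.ext fun a => by
      rw [← D.liftKaehlerDifferential_comp_D a, ← E.liftKaehlerDifferential_comp_D a, Subsingleton.elim (KaehlerDifferential.D k A a) 0, map_zero, map_zero]⟩

end Groth.Agent.S17321
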