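import Groth.Statements.S17323
import Groth.Agent.H3CAlg.FiniteAlg
import Mathlib.Algebra.Module.StablyFree.Basic
import Mathlib.Algebra.Order.Star.Basic
import Mathlib.LinearAlgebra.FreeModule.PID
import Mathlib.RingTheory.Flat.TorsionFree
import Mathlib.RingTheory.PicardGroup
import Mathlib.RingTheory.RegularLocalRing.Defs
import Mathlib.RingTheory.SimpleRing.Principal
import Mathlib.RingTheory.TotallySplit
import Groth.Agent.S17336

set_option autoImplicit false
universe u v
open CAlg

namespace Groth.Agent.S17323

/-- Let k be an algebraically closed field and A a commutative k-algebra which is finite-dimensional as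
a k-vector space. Then A has a largest reduced subalgebra: a k-subalgebra B which is reduced and
contains every reduced k-subalgebra of A; moreover the composite of the inclusion B → A with the
projection A → A/nilradical(A) is bijective. -/
theorem result (k : Type u) [Field k] [IsAlgClosed k]
    (A : Type v) [CommRing A] [Algebra k A] [Module.Finite k A] :
    ∃ B : Subalgebra k A, IsReduced ↥B ∧ (∀ C : Subalgebra k A, IsReduced ↥C → C ≤ B) ∧
      Function.Bijective ((Ideal.Quotient.mkₐ k (nilradical A)).comp B.val) := by
  obtain ⟨s, hs, -⟩ := Groth.Agent.S17336.result k A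
  have hs' : ∀ q, Ideal.Quotient.mk (nilradical A) (s q) = q := fun q => AlgHom.congr_fun hs q
  have hinj : Function.Injective s := fun a b h => by
    rw [← hs' a, ← hs' b, h]
  have : IsReduced (A ⧸ nilradical A) := by
    rw [← Ideal.isRadical_iff_quotient_reduced]; exact Ideal.radical_isRadical _
  refine ⟨s.range, ?_, ?_, ?_, ?_⟩
  · exact isReduced_of_injective (AlgEquiv.ofInjective s hinj).symm (AlgEquiv.injective _)
  · intro C hC x hx
    have : Module.Finite k C := Module.Finite.of_injective C.val.toLinearMap Subtype.val_injective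
    have := Groth.Agent.H3CAlg.formallyEtale_of_finite_isReduced k C
    have h : C.val = s.comp ((Ideal.Quotient.mkₐ k (nilradical A)).comp C.val) := by
      refine Algebra.FormallyUnramified.lift_unique _ (Groth.Agent.H3CAlg.isNilpotent_nilradical_of_finite k A) _ _ ?_
      rw [← AlgHom.comp_assoc, hs, AlgHom.id_comp]
    exact ⟨_, (AlgHom.congr_fun h ⟨x, hx⟩).symm⟩
  · rintro ⟨_, a, rfl⟩ ⟨_, b, rfl⟩ h
    simp only [AlgHom.comp_apply, Subalgebra.coe_val, Ideal.Quotient.mkₐ_eq_mk, RingHom.coe_coe, AlgHom.toRingHom_eq_coe, hs'] at h
    subst h; rfl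
  · exact fun q => ⟨⟨s q, q, rfl⟩, hs' q⟩

end Groth.Agent.S17323
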