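import Groth.Statements.S17324
import Mathlib.FieldTheory.IsAlgClosed.Spectrum
import Mathlib.LinearAlgebra.Matrix.Charpoly.Eigs
import Mathlib.RingTheory.Etale.Weakly
import Mathlib.RingTheory.Henselian
import Mathlib.RingTheory.PicardGroup
import Mathlib.RingTheory.RegularLocalRing.Defs
import Mathlib.RingTheory.SimpleRing.Principal
import Mathlib.RingTheory.TotallySplit

set_option autoImplicit false
universe u v
open CAlg

namespace Groth.Agent.S17324

/-- (i) ⟺ (ii): let k be an algebraically closed field, A a commutative k-algebra which is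
finite-dimensional as a k-vector space and is a local ring with maximal ideal m, and a_1, …, a_m ∈
m. Then A is generated as a k-algebra by a_1, …, a_m if and only if m is generated as an ideal by
a_1, …, a_m. (The printed lemma has a third equivalent condition, that the images of the a_i span
m/m²; its equivalence with (ii) is Nakayama's lemma.) -/
theorem result (k : Type u) [Field k] [IsAlgClosed k]
    (A : Type v) [CommRing A] [Algebra k A] [Module.Finite k A] [IsLocalRing A]
    (m : ℕ) (a : Fin m → A) (ha : ∀ i, a i ∈ IsLocalRing.maximalIdeal A) :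
    Algebra.adjoin k (Set.range a) = ⊤ ↔ Ideal.span (Set.range a) = IsLocalRing.maximalIdeal A := by
  set 𝔪 := IsLocalRing.maximalIdeal A
  have hres : ∀ x : A, ∃ c : k, x - algebraMap k A c ∈ 𝔪 := by
    intro x
    obtain ⟨c, hc⟩ := (IsAlgClosed.algebraMap_bijective_of_isIntegral (k := k) (K := IsLocalRing.ResidueField A)).2
      (IsLocalRing.residue A x)
    refine ⟨c, ?_⟩
    rw [← IsLocalRing.residue_eq_zero_iff, map_sub, ← hc, sub_eq_zero]
    rfl
  have hle : Ideal.span (Set.range a) ≤ 𝔪 := Ideal.span_le.mpr (Set.range_subset_iff.mpr ha)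
  constructor
  · intro htop
    refine le_antisymm hle fun x hx => ?_
    have : ∀ y ∈ Algebra.adjoin k (Set.range a), ∃ c : k, y - algebraMap k A c ∈ Ideal.span (Set.range a) := by
      intro y hy
      induction hy using Algebra.adjoin_induction with
      | mem z hz => exact ⟨0, by simpa using Ideal.subset_span hz⟩
      | algebraMap c => exact ⟨c, by simp⟩
      | add y z _ _ hy hz =>
        obtain ⟨c, hc⟩ := hy; obtain ⟨d, hd⟩ := hz
        exact ⟨c + d, by rw [map_add, add_sub_add_comm]; exact add_mem hc hd⟩
      | mul y z _ _ hy hz =>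
        obtain ⟨c, hc⟩ := hy; obtain ⟨d, hd⟩ := hz
        refine ⟨c * d, ?_⟩
        rw [map_mul, show y * z - algebraMap k A c * algebraMap k A d = (y - algebraMap k A c) * z + algebraMap k A c * (z - algebraMap k A d) by ring]
        exact add_mem (Ideal.mul_mem_right _ _ hc) (Ideal.mul_mem_left _ _ hd)
    obtain ⟨c, hc⟩ := this x (htop ▸ Algebra.mem_top)
    by_cases hc0 : c = 0
    · simpa [hc0] using hc
    exfalso
    have h1 : algebraMap k A c ∈ 𝔪 := by simpa using sub_mem hx (hle hc)
    exact h1 ((isUnit_iff_ne_zero.mpr hc0).map _)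
  · intro hspan
    set B := Algebra.adjoin k (Set.range a)
    have haB : ∀ i, a i ∈ B := fun i => Algebra.subset_adjoin ⟨i, rfl⟩
    have hk : ∀ j, ∀ x : A, ∃ b ∈ B, x - b ∈ 𝔪 ^ (j + 1) := by
      intro j
      induction j with
      | zero => intro x; obtain ⟨c, hc⟩ := hres x; exact ⟨_, B.algebraMap_mem c, by simpa using hc⟩
      | succ j ih =>
        intro x
        obtain ⟨c, hc⟩ := hres x
        rw [← hspan] at hc
        obtain ⟨d, hd⟩ := (Ideal.mem_span_range_iff_exists_fun).mp hc
        choose b hb hb' using ih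
        refine ⟨algebraMap k A c + ∑ i, b (d i) * a i, add_mem (B.algebraMap_mem c) (Subalgebra.sum_mem _ fun i _ => B.mul_mem (hb _) (haB i)), ?_⟩
        rw [← sub_sub, ← hd, ← Finset.sum_sub_distrib]
        refine Ideal.sum_mem _ fun i _ => ?_
        rw [← sub_mul, pow_succ _ (j + 1)]
        exact Ideal.mul_mem_mul (hb' _) (ha i)
    have : IsArtinianRing A := IsArtinianRing.of_finite k A
    obtain ⟨N, hN⟩ := IsArtinianRing.isNilpotent_jacobson_bot (R := A)
    rw [IsLocalRing.jacobson_eq_maximalIdeal ⊥ bot_ne_top] at hN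
    rw [eq_top_iff]
    intro x _
    obtain ⟨b, hb, hxb⟩ := hk N x
    rw [pow_succ, hN, zero_mul, Ideal.zero_eq_bot, Ideal.mem_bot, sub_eq_zero] at hxb
    exact hxb ▸ hb

end Groth.Agent.S17324
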