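import Groth.Statements.S17325
import Groth.Agent.H20OT.PthLine

set_option autoImplicit false
universe u v
open LieAlg

namespace Groth.Agent.S17325

/-- Let k be an algebraically closed field of characteristic p > 0, V a finite-dimensional k-vector
space and g a nonzero k-linear subspace of End_k(V) closed under the p-th power map u ↦ u^p. Then g
contains a nonzero u with u^p = c u for some c ∈ k, i.e. a line k u closed under p-th powers. (The
published lemma concerns an abstract nonzero finite-dimensional restricted Lie algebra; this row
concerns subspaces of End_k(V) closed under p-th powers, a class that contains every restricted Lie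
subalgebra of gl(V).) -/
theorem result (k : Type u) [Field k] [IsAlgClosed k]
    (p : ℕ) [Fact p.Prime] [CharP k p] (V : Type v) [AddCommGroup V] [Module k V] [FiniteDimensional k V]
    (g : Submodule k (Module.End k V)) (hg : ∀ u ∈ g, u ^ p ∈ g) (hne : g ≠ ⊥) :
    ∃ u ∈ g, u ≠ 0 ∧ ∃ c : k, u ^ p = c • u := by
  exact Groth.Agent.H20OT.exists_pow_char_eq_smul p g hg hne

end Groth.Agent.S17325
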