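import Groth.Statements.S17335
import Groth.Agent.H3CAlg.FiniteAlg
import Mathlib.Algebra.Module.StablyFree.Basic
import Mathlib.Algebra.Order.Star.Basic
import Mathlib.LinearAlgebra.FreeModule.PID
import Mathlib.RingTheory.Flat.TorsionFree
import Mathlib.RingTheory.PicardGroup
import Mathlib.RingTheory.RegularLocalRing.Defs
import Mathlib.RingTheory.SimpleRing.Principal
import Mathlib.RingTheory.TotallySplit

set_option autoImplicit false
universe u v
open CAlg

namespace Groth.Agent.S17335

/-- Let k be an algebraically closed field and A a commutative k-algebra which is finite-dimensional as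
a k-vector space, and let E be the set of k-algebra homomorphisms A → k. Then E is finite, and the
evaluation homomorphism A → O(E) = (E → k), a ↦ (f ↦ f(a)), is surjective with kernel the nilradical
of A; it therefore induces an isomorphism of A_red = A/nilradical(A) onto O(E). -/
theorem result (k : Type u) [Field k]
    [IsAlgClosed k] (A : Type v) [CommRing A] [Algebra k A] [Module.Finite k A] :
    Finite (A →ₐ[k] k) ∧
      Function.Surjective (AlgHom.pi (R := k) (fun f : A →ₐ[k] k => f)) ∧
      RingHom.ker (AlgHom.pi (R := k) (fun f : A →ₐ[k] k => f)) = nilradical A := by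
  have : IsArtinianRing A := .of_finite k A
  have hfin : Finite (A →ₐ[k] k) := by infer_instance
  refine ⟨hfin, ?_, ?_⟩
  · classical
    intro c
    have hcop : Pairwise fun i j : A →ₐ[k] k => IsCoprime (RingHom.ker i.toRingHom) (RingHom.ker j.toRingHom) := by
      intro i j hij
      rw [Ideal.isCoprime_iff_sup_eq]
      have hi : (RingHom.ker i.toRingHom).IsMaximal := RingHom.ker_isMaximal_of_surjective _ fun x => ⟨algebraMap k A x, i.commutes x⟩
      have hj : (RingHom.ker j.toRingHom).IsMaximal := RingHom.ker_isMaximal_of_surjective _ fun x => ⟨algebraMap k A x, j.commutes x⟩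
      refine Ideal.IsMaximal.coprime_of_ne hi hj fun h => hij ?_
      ext x
      have hx : x - algebraMap k A (i x) ∈ RingHom.ker i.toRingHom := by simp
      rw [h] at hx
      have h2 : j x - j (algebraMap k A (i x)) = 0 := by simpa using hx
      rw [AlgHom.commutes, sub_eq_zero] at h2
      exact h2.symm
    obtain ⟨a, ha⟩ := Ideal.exists_forall_sub_mem_ideal hcop (fun i => algebraMap k A (c i))
    refine ⟨a, funext fun i => ?_⟩
    have h3 : i a - i (algebraMap k A (c i)) = 0 := by simpa using ha i
    rw [AlgHom.commutes, sub_eq_zero] at h3
    exact h3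
  · ext x
    rw [RingHom.mem_ker, nilradical_eq_sInf, Ideal.mem_sInf]
    constructor
    · intro hx p hp
      have : p.IsPrime := hp
      have : p.IsMaximal := Ideal.isMaximal_of_isPrime p
      obtain ⟨f, hf⟩ := Groth.Agent.H3CAlg.exists_algHom_ker_eq k A p
      rw [← hf]
      exact congrFun hx f
    · intro hx
      funext f
      exact hx (I := RingHom.ker f.toRingHom) (RingHom.ker_isPrime _)

end Groth.Agent.S17335
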