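import Groth.Statements.S17326
import Groth.Agent.H3CAlg.FiniteAlg
import Mathlib.Algebra.Module.StablyFree.Basic
import Mathlib.Algebra.Order.Star.Basic
import Mathlib.LinearAlgebra.FreeModule.PID
import Mathlib.RingTheory.Flat.TorsionFree
import Mathlib.RingTheory.PicardGroup
import Mathlib.RingTheory.RegularLocalRing.Defs
import Mathlib.RingTheory.SimpleRing.Principal
import Mathlib.RingTheory.TotallySplit
import Groth.Agent.S17335

set_option autoImplicit false
universe u v
open CAlg

namespace Groth.Agent.S17326

/-- Let k be an algebraically closed field of characteristic p > 0, A a commutative k-algebra which is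
finite-dimensional as a k-vector space (a finite k-scheme X), and n ≥ 1. The n-th iterated relative
Frobenius morphism X → X^(p^n) is an isomorphism if and only if X is reduced; on rings: the map a ↦
a^(p^n) of A to itself (which is the ring homomorphism underlying the relative Frobenius, the twist
A^(p^n) having the same underlying ring as A) is bijective if and only if A is reduced. -/
theorem result (k : Type u) [Field k] [IsAlgClosed k]
    (p : ℕ) [Fact p.Prime] [CharP k p] (A : Type v) [CommRing A] [Algebra k A] [Module.Finite k A]
    (n : ℕ) (hn : 1 ≤ n) :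
    Function.Bijective (fun a : A => a ^ p ^ n) ↔ IsReduced A := by
  have hp : 1 < p ^ n := Nat.one_lt_pow (by omega) (Fact.out : p.Prime).one_lt
  constructor
  · intro h
    refine ⟨fun x hx => ?_⟩
    obtain ⟨N, hN⟩ := hx
    have hiter : ∀ (j : ℕ), Function.Injective fun a : A => a ^ (p ^ n) ^ j := by
      intro j
      induction j with
      | zero => simp [Function.Injective]
      | succ j ih =>
        intro a b hab
        simp only [pow_succ, pow_mul] at hab
        exact ih (h.1 hab)
    apply hiter N
    have hle : N ≤ (p ^ n) ^ N := (Nat.lt_pow_self hp).le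
    simp only [zero_pow (pow_ne_zero N (by omega : p ^ n ≠ 0))]
    obtain ⟨d, hd⟩ := Nat.exists_eq_add_of_le hle
    rw [hd, pow_add, hN, zero_mul]
  · intro _
    rcases subsingleton_or_nontrivial A with _ | _
    · exact ⟨fun a b _ => Subsingleton.elim a b, fun a => ⟨a, Subsingleton.elim _ _⟩⟩
    obtain ⟨hfin, hsurj, hker⟩ := Groth.Agent.S17335.result k A
    rw [nilradical_eq_zero, Ideal.zero_eq_bot, RingHom.ker_eq_bot_iff_eq_zero] at hker
    have hinj : Function.Injective (AlgHom.pi (R := k) (fun f : A →ₐ[k] k => f)) :=
      (injective_iff_map_eq_zero _).mpr hker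
    have hk : Function.Bijective (fun a : k => a ^ p ^ n) := by
      have : ExpChar k p := ExpChar.prime Fact.out
      refine ⟨fun a b hab => iterateFrobenius_inj k p n (by simpa [iterateFrobenius_def] using hab), fun a => ?_⟩
      obtain ⟨z, hz⟩ := IsAlgClosed.exists_pow_nat_eq a (show 0 < p ^ n by omega)
      exact ⟨z, hz⟩
    constructor
    · intro a b hab
      apply hinj
      funext f
      exact hk.1 (by simpa using congrArg f hab)
    · intro a
      choose g hg using fun f : A →ₐ[k] k => hk.2 (f a)
      obtain ⟨b, hb⟩ := hsurj g
      refine ⟨b, hinj ?_⟩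
      funext f
      have := congrFun hb f
      simp at this ⊢
      rw [this]; exact hg f

end Groth.Agent.S17326
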