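import Groth.Statements.S17327
import Groth.Agent.H20OT.Cotan
import Mathlib.RingTheory.Unramified.Field
import Mathlib.RingTheory.Artinian.Ring

set_option autoImplicit false
universe u v
open Hopf

namespace Groth.Agent.S17327

/-- Let k be an algebraically closed field of characteristic p > 0, A a commutative Hopf algebra over k
which is finite-dimensional as a k-vector space (a finite group scheme G = Spec A), I the
augmentation ideal (kernel of the counit) and n ≥ 1. The n-th Frobenius kernel G_n is the closed
subgroup scheme cut out by the ideal generated by the p^n-th powers f^(p^n), f ∈ I; it is trivial,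
i.e. that ideal equals I, if and only if G is reduced. -/
theorem result (k : Type u) [Field k] [IsAlgClosed k]
    (p : ℕ) [Fact p.Prime] [CharP k p] (A : Type v) [CommRing A] [HopfAlgebra k A] [Module.Finite k A]
    (n : ℕ) (hn : 1 ≤ n) :
    Ideal.span ((fun f : A => f ^ p ^ n) '' (RingHom.ker (Bialgebra.counitAlgHom k A) : Set A)) =
      RingHom.ker (Bialgebra.counitAlgHom k A) ↔ IsReduced A := by
  have hp : p.Prime := Fact.out
  set I := RingHom.ker (Bialgebra.counitAlgHom k A) with hI
  have h2 : 2 ≤ p ^ n := le_trans hp.two_le (Nat.le_self_pow (by omega) p)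
  have hle : ∀ f ∈ I, f ^ p ^ n ∈ I ^ 2 := fun f hf => Ideal.pow_le_pow_right h2 (Ideal.pow_mem_pow hf _)
  constructor
  · intro h
    have h1 : I ^ 2 = I := le_antisymm (Ideal.pow_le_self two_ne_zero) (by
      conv_lhs => rw [← h]
      exact Ideal.span_le.mpr (by rintro _ ⟨f, hf, rfl⟩; exact hle f hf))
    haveI : Algebra.Etale k A := Groth.Agent.H20OT.etale_iff_sq_augIdeal.mpr h1
    exact Algebra.FormallyUnramified.isReduced_of_field k A
  · intro hr
    refine le_antisymm (Ideal.span_le.mpr ?_) fun a ha => ?_
    · rintro _ ⟨f, hf, rfl⟩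
      exact Ideal.pow_mem_of_mem _ hf _ (by omega)
    · haveI : IsArtinianRing A := IsArtinianRing.of_finite k A
      obtain ⟨m, b, hb⟩ := IsArtinian.exists_pow_succ_smul_dvd a (1 : A)
      simp only [smul_eq_mul, mul_one] at hb
      have h1 : a * (1 - a * b) = 0 := by
        refine IsReduced.eq_zero _ ⟨m + 1, ?_⟩
        rw [mul_pow, pow_succ (1 - a * b), ← mul_assoc]
        have : a ^ (m + 1) * (1 - a * b) = 0 := by
          rw [pow_succ a] at hb ⊢
          linear_combination (-a) * hb
        calc a ^ (m + 1) * (1 - a * b) ^ m * (1 - a * b) = a ^ (m + 1) * (1 - a * b) * (1 - a * b) ^ m := by ring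
          _ = 0 := by rw [this, zero_mul]
      have h2' : ∀ j : ℕ, a = a ^ (j + 1) * b ^ j := by
        intro j
        induction j with
        | zero => simp
        | succ j ih =>
          have : a = a * a * b := by linear_combination h1
          calc a = a ^ (j + 1) * b ^ j := ih
            _ = a ^ j * (a * a * b) * b ^ j := by rw [← this, pow_succ]
            _ = _ := by ring
      obtain ⟨q, hq⟩ : ∃ q, p ^ n = q + 1 := ⟨p ^ n - 1, by omega⟩
      rw [h2' q, ← hq]
      exact Ideal.mul_mem_right _ _ (Ideal.subset_span ⟨a, ha, rfl⟩)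

end Groth.Agent.S17327
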