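import Groth.Statements.S17328
import Groth.Agent.H20OT.Truncated
import Mathlib.RingTheory.Artinian.Ring

set_option autoImplicit false
universe u v
open Hopf

namespace Groth.Agent.S17328

/-- Let k be an algebraically closed field of characteristic p > 0 and A a commutative Hopf algebra over
k, finite-dimensional as a k-vector space, with augmentation ideal I (kernel of the counit), such
that f^p = 0 for every f ∈ I (the finite group scheme G = Spec A is infinitesimal of height at most
one: A is then a local ring with maximal ideal I). Then the order of G is dim_k A = p^n where n =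
dim_k I/I² is the dimension of the Lie algebra of G. -/
theorem result (k : Type u) [Field k] [IsAlgClosed k]
    (p : ℕ) [Fact p.Prime] [CharP k p] (A : Type v) [CommRing A] [HopfAlgebra k A] [Module.Finite k A]
    (h1 : ∀ f : A, Bialgebra.counitAlgHom k A f = 0 → f ^ p = 0) :
    Module.finrank k A = p ^ Module.finrank k (RingHom.ker (Bialgebra.counitAlgHom k A)).Cotangent := by
  haveI : IsNoetherianRing A := IsNoetherianRing.of_finite k A
  haveI := Groth.Agent.H20OT.finite_cotangent (k := k) (A := A)
  let b := Module.finBasis k (RingHom.ker (Bialgebra.counitAlgHom k A)).Cotangent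
  obtain ⟨L⟩ := Groth.Agent.H20OT.exists_cotLift b
  have hnil : RingHom.ker (Bialgebra.counitAlgHom k A) ≤ nilradical A := fun f hf => ⟨p, h1 f hf⟩
  obtain ⟨m, hm⟩ := Ideal.exists_radical_pow_le_of_fg (⊥ : Ideal A) (IsNoetherian.noetherian _)
  have hn : Groth.Agent.H20OT.augIdeal k A ^ m = ⊥ :=
    le_bot_iff.mp ((Ideal.pow_right_mono hnil m).trans hm)
  have h := L.finrank_quotient p hn
  rw [Fintype.card_fin, show Ideal.span ((fun a : A => a ^ p) '' (Groth.Agent.H20OT.augIdeal k A : Set A)) = ⊥ from
    Ideal.span_eq_bot.mpr (by rintro _ ⟨f, hf, rfl⟩; exact h1 f hf)] at h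
  rw [← h]
  exact ((AlgEquiv.quotientBot k A).toLinearEquiv.finrank_eq).symm

end Groth.Agent.S17328
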