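import Groth.Statements.S17331
import Groth.Agent.H20OT.OrderP

set_option autoImplicit false
universe u v
open Hopf

namespace Groth.Agent.S17331

/-- Let k be an algebraically closed field of characteristic p > 0, ℓ a prime, and A a commutative Hopf
algebra over k of dimension ℓ as a k-vector space (a finite group scheme G of prime order ℓ). If ℓ ≠
p then G ≅ ℤ/ℓ: A is isomorphic as a bialgebra to the algebra of k-valued functions on the cyclic
group of order ℓ. If ℓ = p then G is isomorphic to ℤ/p, μ_p or α_p: A is isomorphic as a bialgebra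
to the algebra of functions on the cyclic group of order p, to its group algebra (group elements
group-like), or to k[X]/(X^p) with X primitive. -/
theorem result (k : Type u) [Field k] [IsAlgClosed k]
    (p : ℕ) [Fact p.Prime] [CharP k p] (A : Type v) [CommRing A] [HopfAlgebra k A]
    (ℓ : ℕ) [Fact ℓ.Prime] (hA : Module.finrank k A = ℓ) :
    (ℓ ≠ p → Nonempty (A ≃ₐc[k] ConstGrp.F k (Multiplicative (ZMod ℓ)))) ∧
      (ℓ = p → Nonempty (A ≃ₐc[k] ConstGrp.F k (Multiplicative (ZMod p))) ∨
        Nonempty (A ≃ₐc[k] MonoidAlgebra k (Multiplicative (ZMod p))) ∨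
        Nonempty (A ≃ₐc[k] AlphaP.A p k)) := by
  haveI : Module.Finite k A := Module.finite_of_finrank_pos (by rw [hA]; exact (Fact.out : ℓ.Prime).pos)
  constructor
  · intro hne
    rcases Groth.Agent.H20OT.dichotomy hA with ⟨g₀, hg, hli⟩ | ⟨hc, -⟩
    · exact Groth.Agent.H20OT.nonempty_bialgEquiv_constGrp hA hg hli
    · exact absurd (CharP.eq k hc ‹CharP k p›) hne
  · rintro rfl
    haveI := Groth.Agent.H20OT.isCocomm_of_finrank_prime (k := k) hA
    rcases Groth.Agent.H20OT.dichotomy hA with ⟨g₀, hg, hli⟩ | ⟨-, δ, hδ, x, hx, hxδ⟩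
    · exact Or.inl (Groth.Agent.H20OT.nonempty_bialgEquiv_constGrp hA hg hli)
    refine Or.inr ?_
    have hr : ¬ IsReduced A := by
      intro hr
      have h0 : x = 0 := IsReduced.eq_zero x ⟨ℓ, Groth.Agent.H20OT.pow_char_eq_zero hA hδ hx hxδ⟩
      rw [h0, map_zero] at hxδ
      exact zero_ne_one hxδ
    have hD : Module.finrank k (CartDual.D k A) = ℓ := by
      rw [(CartDual.toDual k A).finrank_eq, Subspace.dual_finrank_eq, hA]
    rcases Groth.Agent.H20OT.dichotomy hD with ⟨g₀, hg, hli⟩ | ⟨-, d, hd, y, -, hyd⟩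
    · exact Or.inl (Groth.Agent.H20OT.nonempty_bialgEquiv_monoidAlgebra hA hg hli)
    · have hd0 : d ≠ 0 := fun h => by rw [h] at hyd; exact zero_ne_one hyd
      obtain ⟨z, hz0, hz⟩ := Groth.Agent.H20OT.exists_primitive_of_pointDer hd hd0
      exact Or.inr (Groth.Agent.H20OT.nonempty_bialgEquiv_alphaP hA hr hz0 hz)

end Groth.Agent.S17331
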