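import Groth.Statements.S17332
import Mathlib.RingTheory.Derivation.Basic
import Mathlib.RingTheory.Flat.Equalizer
import Mathlib.RingTheory.Henselian
import Mathlib.RingTheory.Regular.RegularSequence
import Mathlib.RingTheory.RegularLocalRing.Defs
import Mathlib.RingTheory.SimpleRing.Principal

set_option autoImplicit false
universe u v w
open CAlg

namespace Groth.Agent.S17332

/-- Let k be a field, E and F finite sets, and O(E), O(F) the k-algebras of k-valued functions with
pointwise operations. Then every k-algebra homomorphism u : O(F) → O(E) is pull-back along a unique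
map φ : E → F, i.e. u(g) = g ∘ φ for all g. (In the source k is algebraically closed; the printed
argument only uses that k is a field.) -/
theorem result (k : Type u) [Field k] (E : Type v) [Finite E]
    (F : Type w) [Finite F] (u : (F → k) →ₐ[k] (E → k)) :
    ∃! φ : E → F, ∀ g : F → k, u g = g ∘ φ := by
  classical
  cases nonempty_fintype F
  have key : ∀ e : E, ∃ f : F, ∀ g : F → k, u g e = g f := by
    intro e
    let χ : (F → k) →ₐ[k] k := (Pi.evalAlgHom k (fun _ : E => k) e).comp u
    have hsum : ∑ f : F, χ (Pi.single f 1) = 1 := by
      rw [← map_sum, Finset.univ_sum_single]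
      exact map_one χ
    obtain ⟨f, -, hf⟩ := Finset.exists_ne_zero_of_sum_ne_zero (by rw [hsum]; exact one_ne_zero)
    refine ⟨f, fun g => ?_⟩
    have h1 : g * Pi.single f 1 = g f • Pi.single (M := fun _ : F => k) f 1 := by
      ext x; by_cases h : x = f <;> simp [h]
    have := congrArg χ h1
    rw [map_mul, map_smul, smul_eq_mul] at this
    exact mul_right_cancel₀ hf this
  choose φ hφ using key
  refine ⟨φ, fun g => funext fun e => hφ e g, fun φ' hφ' => funext fun e => ?_⟩
  by_contra hne
  have h1 := congrFun (hφ' (Pi.single (φ e) (1:k))) e
  rw [hφ e] at h1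
  simp [Pi.single_eq_of_ne hne] at h1

end Groth.Agent.S17332
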