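import Groth.Statements.S17333
import Mathlib.RingTheory.Derivation.Basic
import Mathlib.RingTheory.Flat.Equalizer
import Mathlib.RingTheory.Henselian
import Mathlib.RingTheory.Regular.RegularSequence
import Mathlib.RingTheory.RegularLocalRing.Defs
import Mathlib.RingTheory.SimpleRing.Principal

set_option autoImplicit false
universe u v w
open CAlg

namespace Groth.Agent.S17333

/-- Let k be a field and A = B × C a decomposable commutative k-algebra. Then the natural map Der(B) ×
Der(C) → Der(A) is bijective: every k-derivation D : A → A is (b, c) ↦ (D₁ b, D₂ c) for a unique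
pair of k-derivations D₁ : B → B, D₂ : C → C. Compatibility with brackets is not stated. (The
published statement takes k algebraically closed; this row takes any field.) -/
theorem result (k : Type u) [Field k] (B : Type v) [CommRing B] [Algebra k B]
    (C : Type w) [CommRing C] [Algebra k C] (D : Derivation k (B × C) (B × C)) :
    ∃! P : Derivation k B B × Derivation k C C, ∀ (b : B) (c : C), D (b, c) = (P.1 b, P.2 c) := by
  have he : D ((1 : B), (0 : C)) = 0 := by
    set e : B × C := (1, 0) with hedef
    have hee : e * e = e := by simp [e]
    have h := D.leibniz e e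
    rw [hee] at h
    simp only [e, smul_eq_mul] at h
    have h1 := congrArg Prod.fst h
    have h2 := congrArg Prod.snd h
    simp at h1 h2
    exact Prod.ext h1 h2
  have hb : ∀ b : B, (D (b, 0)).2 = 0 := fun b => by
    have h := D.leibniz ((1 : B), (0 : C)) (b, 0)
    rw [he, smul_zero, add_zero, smul_eq_mul] at h
    have := congrArg Prod.snd h
    simpa using this
  have hc : ∀ c : C, (D (0, c)).1 = 0 := fun c => by
    have h := D.leibniz ((1 : B), (0 : C)) (0, c)
    rw [he, smul_zero, add_zero, smul_eq_mul] at h
    have := congrArg Prod.fst h
    simp at this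
    rw [← this, show ((0 : B), (0 : C)) = 0 from rfl, map_zero]; rfl
  let P1 : Derivation k B B := Derivation.mk'
    ((LinearMap.fst k B C).comp (D.toLinearMap.comp (LinearMap.inl k B C))) fun a b => by
      have h := congrArg Prod.fst (D.leibniz ((a, 0) : B × C) (b, 0))
      simpa using h
  let P2 : Derivation k C C := Derivation.mk'
    ((LinearMap.snd k B C).comp (D.toLinearMap.comp (LinearMap.inr k B C))) fun a b => by
      have h := congrArg Prod.snd (D.leibniz ((0, a) : B × C) (0, b))
      simpa using h
  have hsplit : ∀ b c, D (b, c) = D (b, 0) + D (0, c) := fun b c => by rw [← map_add]; simp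
  refine ⟨(P1, P2), fun b c => ?_, ?_⟩
  · rw [hsplit]
    ext
    · simp [P1, hc]
    · simp [P2, hb]
  · rintro ⟨Q1, Q2⟩ hQ
    refine Prod.ext ?_ ?_
    · ext b
      have := congrArg Prod.fst (hQ b 0)
      simpa [P1] using this.symm
    · ext c
      have := congrArg Prod.snd (hQ 0 c)
      simpa [P2] using this.symm

end Groth.Agent.S17333
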