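import Groth.Statements.S17334
import Groth.Agent.H3CAlg.FiniteAlg
import Mathlib.Algebra.Module.StablyFree.Basic
import Mathlib.Algebra.Order.Star.Basic
import Mathlib.LinearAlgebra.FreeModule.PID
import Mathlib.RingTheory.Flat.TorsionFree
import Mathlib.RingTheory.PicardGroup
import Mathlib.RingTheory.RegularLocalRing.Defs
import Mathlib.RingTheory.SimpleRing.Principal
import Mathlib.RingTheory.TotallySplit

set_option autoImplicit false
universe u v
open CAlg

namespace Groth.Agent.S17334

/-- Let k be a field and A a nonzero commutative k-algebra which is finite-dimensional as a k-vector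
space. Then A is indecomposable (no decomposition as a product of two nonzero rings, i.e. no
idempotent other than 0 and 1) if and only if A is a local ring. (In the source k is algebraically
closed and the lemma adds that the maximal ideal is then the nilradical, is nilpotent, and has
residue field k; the equivalence itself uses only that k is a field, and the zero algebra is
excluded here explicitly.) -/
theorem result (k : Type u) [Field k]
    (A : Type v) [CommRing A] [Algebra k A] [Module.Finite k A] [Nontrivial A] :
    (∀ e : A, IsIdempotentElem e → e = 0 ∨ e = 1) ↔ IsLocalRing A := by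
  classical
  constructor
  · intro h
    have : IsArtinianRing A := .of_finite k A
    obtain ⟨m, hm⟩ := Ideal.exists_maximal A
    refine IsLocalRing.of_unique_max_ideal ⟨m, hm, fun m' hm' => ?_⟩
    by_contra hne
    let e : (A ⧸ nilradical A) ≃ₐ[A] _ := IsArtinianRing.quotNilradicalEquivPi A
    obtain ⟨x, hx⟩ := Ideal.Quotient.mk_surjective (e.symm (Pi.single (⟨m, hm⟩ : MaximalSpectrum A) 1))
    obtain ⟨z, hz, hzx⟩ := exists_isIdempotentElem_eq_of_ker_isNilpotent (Ideal.Quotient.mk (nilradical A))
      (fun y hy => by rw [Ideal.mk_ker] at hy; exact hy) (Ideal.Quotient.mk (nilradical A) x)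
      ⟨x, rfl⟩ (by
        rw [hx]
        refine IsIdempotentElem.map ?_ e.symm
        show _ * _ = _
        funext i; rcases eq_or_ne i ⟨m, hm⟩ with rfl | hi <;> simp [*, Pi.mul_apply])
    rw [hx] at hzx
    rcases h z hz with rfl | rfl
    · have := congrArg e hzx
      simp at this
      have h2 := congrFun this ⟨m, hm⟩
      simp at h2
    · have := congrArg e hzx
      simp at this
      have h2 := congrFun this ⟨m', hm'⟩
      rw [Pi.single_eq_of_ne (fun h' => hne (congrArg MaximalSpectrum.asIdeal h'))] at h2
      simp at h2
  · intro _ e he
    exact (IsLocalRing.isUnit_or_isUnit_one_sub_self e).elim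
      (fun h => Or.inr (h.mul_left_cancel (he.eq.trans (mul_one e).symm)))
      (fun h => Or.inl (by simpa using h.mul_left_cancel (he.one_sub.eq.trans (mul_one (1 - e)).symm)))

end Groth.Agent.S17334
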