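import Groth.Statements.S17344
import Groth.Agent.H27Jets.Count
import Groth.Agent.H28Surf.Pair
import Groth.Agent.H27Fogarty.Regular
import Groth.Agent.H19Grp.RegularSmooth
import Groth.Agent.H13AlgSp.EtaleLocally

set_option backward.isDefEq.respectTransparency.types false

set_option autoImplicit false
universe u
open CategoryTheory CategoryTheory.Limits AlgebraicGeometry
open AdjLin

attribute [local instance 10000] Groth.Agent.H10Coh.hasSheafifyAb Groth.Agent.H10Coh.hasWeakSheafifyAb Groth.Agent.H10Coh.hasExtAb Groth.Agent.H10Coh.enoughInjAb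

namespace Groth.Agent.S17344

theorem two_mul_sum_succ (e : ℕ) : 2 * ∑ j ∈ Finset.range e, (j + 1) = e * (e + 1) := by
  induction e with
  | zero => simp
  | succ e ih => rw [Finset.sum_range_succ, mul_add, ih]; ring

theorem pos_of_bound (m b a Q c E : ℤ) (hc : 0 ≤ c) (hQ : 4 * c + 1 ≤ Q)
    (hm : 2 * |a| + Q + 6 * c + 2 * |b| + 2 * c + 1 ≤ m)
    (hE : 2 * E = 2 * b + 2 * m * a + m * (m - 1) * Q) : c * ((2 * m + 1) * (m + 1)) < E := by
  have h0 : 0 ≤ m := by linarith [abs_nonneg a, abs_nonneg b]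
  have h2 := mul_le_mul_of_nonneg_left (neg_abs_le a) h0
  have h3 := mul_le_mul_of_nonneg_left hQ (mul_nonneg h0 h0)
  have h4 := mul_le_mul_of_nonneg_left hm h0
  have h5 := neg_abs_le b
  have h6 : (2 * |b| + 2 * c + 1) * 1 ≤ (2 * |b| + 2 * c + 1) * m :=
    mul_le_mul_of_nonneg_left (by linarith [abs_nonneg a, abs_nonneg b]) (by linarith [abs_nonneg b])
  nlinarith

/-- Let k be an algebraically closed field of characteristic zero, X a smooth projective surface over k
(irreducible, proper, smooth of dimension 2, with an ample invertible module), L an ample invertible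
O_X-module with tensor inverse L⁻¹, and Z a finite set of closed points of X such that the
self-intersection number (L²), the alternating sum of Euler characteristics attached to two copies
of L⁻¹, exceeds 4 · #Z. Then for every sufficiently large m there is a non-zero global section of
(⋂_{z ∈ Z} m_z^(2m+1)) ⊗ L^{⊗m}: a divisor in the linear series of L^{⊗m} with multiplicity greater
than 2m at every point of Z. (In the source L is the ample determinant of a globally generated
rank-2 bundle E and Z the reduced zero set of a section of E, so that (L²) = c_1(E)² and #Z =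
c_2(E); the assertion is the dimension count under c_1(E)² > 4 c_2(E).) -/
theorem result (k : Type u) [Field k] [IsAlgClosed k] [CharZero k]
    (X : Scheme.{u}) [X.Over (Spec (CommRingCat.of k))] [IsProper (X ↘ (Spec (CommRingCat.of k)))]
    [Smooth (X ↘ (Spec (CommRingCat.of k)))] [IrreducibleSpace X] (hdim : topologicalKrullDim X = 2)
    (H : X.Modules) (hH : CohB1.IsAmple H)
    (L Linv : X.Modules) (hL : CohB1.IsAmple L) (hLinv : ClSub.IsInverseOf Linv L)
    (Z : Finset X) (hZ : ∀ z ∈ Z, IsClosed ({z} : Set X))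
    (hsq : 4 * (Z.card : ℤ) < FGA.intNum k X 2 (fun _ : Fin 2 => Linv) (Coh.structureModule X)) :
    ∃ m₀ : ℕ, ∀ m : ℕ, m₀ ≤ m →
      Nontrivial (Coh.HH X (CohB1.tensorMod
        (ClSub.idealMod (⨅ z : ↥Z, (W4c2seshadripos.pointIdeal (z : X) (hZ z z.2)) ^ (2 * m + 1)))
        (CohB1.tensorPow L m)) 0) := by
  haveI : IsReduced (Spec (CommRingCat.of k)) := inferInstance
  haveI : IsReduced X := H13AlgSp.isReduced_of_smooth_mor (X ↘ Spec (CommRingCat.of k))
  haveI : IsIntegral X := isIntegral_of_irreducibleSpace_of_isReduced X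
  haveI := H28Int.isNoetherian k (X := X)
  haveI : X.IsSeparated := ⟨by
    rw [show terminal.from X = (X ↘ Spec (CommRingCat.of k)) ≫ terminal.from _ from terminal.hom_ext _ _]
    infer_instance⟩
  have hLi := (H11Ample.isAmple_iff.1 hL).1
  obtain ⟨e⟩ := hLinv
  have hLvi : PicF.IsInvertible Linv := by
    obtain ⟨N, hN, ⟨e'⟩⟩ := H29RR.exists_inverse_comm hLi
    exact H11Tilde.isInvertible_of_iso ((H10Coh.Tw.leftUnitIso N).symm ≪≫
      PicGrp.tensorModIso e.symm (Iso.refl N) ≪≫ H10Coh.Tw.assoc Linv L N ≪≫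
      PicGrp.tensorModIso (Iso.refl Linv) e' ≪≫ H10Coh.Tw.commIso Linv _ ≪≫ H10Coh.Tw.leftUnitIso Linv) hN
  let e₁ : CohB1.tensorMod L Linv ≅ Coh.structureModule X := H10Coh.Tw.commIso L Linv ≪≫ e
  have hQ : FGA.intNum k X 2 (fun _ : Fin 2 => Linv) (Coh.structureModule X) = H28Surf.pr k L L := by
    rw [show (fun _ : Fin 2 => Linv) = ![Linv, Linv] from funext fun i => by fin_cases i <;> rfl,
      H28Surf.intNum_eq_pr k hdim hLvi hLvi, H28Surf.pr_inv_left k hdim hLi hLvi hLvi e₁,
      H28Surf.pr_symm k L Linv, H28Surf.pr_inv_left k hdim hLi hLvi hLi e₁, neg_neg]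
  rw [hQ] at hsq
  obtain ⟨c₀, hc₀⟩ := H28Surf.exists_h2_vanish_ample k hdim hL
  let a := Curv2.euler k X L - Curv2.euler k X (Coh.structureModule X)
  let b := Curv2.euler k X (Coh.structureModule X)
  let Q := H28Surf.pr k L L
  refine ⟨(2 * |a| + Q + 6 * (Z.card : ℤ) + 2 * |b| + 2 * (Z.card : ℤ) + 1).toNat + c₀.toNat + 1, fun m hm => ?_⟩
  let M := CohB1.tensorPow L m
  have hM : PicF.IsInvertible M := H11Ample.isInvertible_tensorPow hLi m
  have hm1 : (2 * |a| + Q + 6 * (Z.card : ℤ) + 2 * |b| + 2 * (Z.card : ℤ) + 1) ≤ m ∧ c₀ < m := by omega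
  have hQ1 : 4 * (Z.card : ℤ) + 1 ≤ Q := by change _ ≤ H28Surf.pr k L L; omega
  haveI h2 : Subsingleton (Coh.HH X M 2) := hc₀ M hM (by
    rw [H28Surf.pr_pow_left k hdim hLi hLi]
    nlinarith [hm1.2, Int.natCast_nonneg Z.card])
  have htop : ∀ p, 3 ≤ p → Subsingleton (Coh.HH X M p) := fun p hp => by
    haveI := H28Int.subsingleton_HnM_of_support (⊤ : TopologicalSpace.Closeds X) 2
      (Topology.IsInducing.subtypeVal.topologicalKrullDim_le.trans hdim.le) M (H11Ample.isCoh_of_isInvertible hM).1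
      (fun _ _ => trivial) p (by omega)
    exact (H10Coh.HHEquiv M p).toEquiv.subsingleton
  have hchi := H28Surf.euler_pow k hdim hLi m
  have heq : Curv2.euler k X M = (Module.finrank k (Coh.HH X M 0) : ℤ) - Module.finrank k (Coh.HH X M 1) := by
    rw [H25Euler.euler_eq_sum M 3 fun p hp => htop p hp, Finset.sum_range_succ, Finset.sum_range_succ,
      Finset.sum_range_one, Module.finrank_zero_of_subsingleton (R := k) (M := Coh.HH X M 2)]
    simp
    ring
  have hbig := pos_of_bound m b a Q Z.card (Curv2.euler k X M) (Int.natCast_nonneg _) hQ1 hm1.1 hchi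
  have hle := H27Jets.h0_prod (k := k) Z hZ (fun z hz => H27Fogarty.twoGen_of_regular
    (fun y => H19Grp.isRegularLocalRing_stalk_of_smooth (X ↘ Spec (CommRingCat.of k)) y) hdim.le z (hZ z hz)) hM
    (2 * m + 1)
  have hsum : ∑ j ∈ Finset.range (2 * m + 1), (j + 1) = (2 * m + 1) * (m + 1) := by
    have := two_mul_sum_succ (2 * m + 1)
    nlinarith
  rw [hsum] at hle
  refine Module.nontrivial_of_finrank_pos (R := k) ?_
  have hle' : (Module.finrank k (Coh.HH X M 0) : ℤ) ≤ (Module.finrank k (Coh.HH X (CohB1.tensorMod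
      (ClSub.idealMod (⨅ z : ↥Z, W4c2seshadripos.pointIdeal (z : X) (hZ z z.2) ^ (2 * m + 1))) M) 0) : ℤ) +
      (Z.card : ℤ) * ((2 * (m : ℤ) + 1) * ((m : ℤ) + 1)) := by exact_mod_cast hle
  by_contra hz
  rw [Nat.eq_zero_of_not_pos hz] at hle'
  push_cast at hle'
  omega

end Groth.Agent.S17344
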