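import Groth.Statements.S17346
import Groth.Agent.H27BlowPow.Push
import Groth.Agent.H11PicBlow.PointEuler
import Groth.Agent.H28RR.BlowCanon
import Groth.Agent.H28RR.BlowSurf
import Groth.Agent.H25Index.HHIneq

set_option linter.style.haveILetI false

set_option backward.isDefEq.respectTransparency.types false

set_option autoImplicit false
universe u
open CategoryTheory CategoryTheory.Limits AlgebraicGeometry
open AdjLin

namespace Groth.Agent.S17346

/-- Let k be an algebraically closed field of characteristic zero, X a smooth projective surface over k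
(irreducible, proper, smooth of dimension 2, with an ample invertible module), ω_X a second exterior
power of Ω_{X/k}, L an invertible O_X-module, x a closed point with ideal sheaf m_x, r > 0 an
integer, f : Y → X a blow-up of X at x over k with exceptional ideal I_E = m_x · O_Y, and ω_Y a
second exterior power of Ω_{Y/k}. Then for every i the k-vector spaces H^i(X, m_x^r ⊗ (L ⊗ ω_X)) and
H^i(Y, I_E^(r+1) ⊗ (f^*L ⊗ ω_Y)) have the same dimension; in divisor notation H^i(X, O_X(K_X + L) ⊗
m_x^r) ≅ H^i(Y, O_Y(K_Y + f^*L − (r+1)E)). (The published statement gives isomorphisms of these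
cohomology groups; this row states only that their dimensions agree.) -/
theorem result (k : Type u) [Field k] [IsAlgClosed k] [CharZero k]
    (X : Scheme.{u}) [X.Over (Spec (CommRingCat.of k))] [IsProper (X ↘ (Spec (CommRingCat.of k)))]
    [Smooth (X ↘ (Spec (CommRingCat.of k)))] [IrreducibleSpace X] (hdim : topologicalKrullDim X = 2)
    (H : X.Modules) (hH : CohB1.IsAmple H)
    (ωX : X.Modules) (hωX : ExtPow.IsExtPow 2 (Omega.sheaf (X ↘ (Spec (CommRingCat.of k)))) ωX)
    (L : X.Modules) (hL : PicF.IsInvertible L)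
    (x : X) (hx : IsClosed ({x} : Set X)) (r : ℕ) (hr : 0 < r)
    (Y : Scheme.{u}) [Y.Over (Spec (CommRingCat.of k))] (f : Y ⟶ X) (hf : f ≫ (X ↘ (Spec (CommRingCat.of k))) = Y ↘ (Spec (CommRingCat.of k)))
    (hbl : BlowUp.IsBlowUp f (W4c2seshadripos.pointIdeal x hx))
    (ωY : Y.Modules) (hωY : ExtPow.IsExtPow 2 (Omega.sheaf (Y ↘ (Spec (CommRingCat.of k)))) ωY) (i : ℕ) :
    Module.finrank k (Coh.HH X (CohB1.tensorMod (ClSub.idealMod ((W4c2seshadripos.pointIdeal x hx) ^ r))
        (CohB1.tensorMod L ωX)) i) =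
      Module.finrank k (Coh.HH Y (CohB1.tensorMod
        (ClSub.idealMod ((BlowUp.exceptional f (W4c2seshadripos.pointIdeal x hx)) ^ (r + 1)))
        (CohB1.tensorMod ((Scheme.Modules.pullback f).obj L) ωY)) i) := by
  open Groth.Agent in
  haveI : IsIntegral X := by
    haveI : ∀ y : X, _root_.IsReduced (X.presheaf.stalk y) := fun y => by
      haveI := H19Grp.isRegularLocalRing_stalk_of_smooth (X ↘ Spec (CommRingCat.of k)) y
      haveI := H4Depth.isDomain_of_isRegularLocalRing (X.presheaf.stalk y)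
      infer_instance
    haveI : IsReduced X := isReduced_of_isReduced_stalk X
    exact isIntegral_of_irreducibleSpace_of_isReduced X
  haveI := H28Int.isNoetherian k (X := X)
  have hreg := H19Grp.isRegularLocalRing_stalk_of_smooth (X ↘ Spec (CommRingCat.of k))
  change BlowUp.IsBlowUp f (Scheme.IdealSheafData.vanishingIdeal ⟨{x}, hx⟩) at hbl
  obtain ⟨hYi, hdimY, hYp, hYs⟩ := H28RR.isSurface_blowUp k hdim hbl
  rw [hf] at hYp hYs
  haveI := hYi
  haveI := hYp
  haveI := hYs
  have hd : ((2 : ℕ) : WithBot ℕ∞) = ringKrullDim (X.presheaf.stalk x) := (H28RR.dim_stalk_closed k hdim hx).symm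
  haveI : IsProper f := (H28Contr.isExcCurve_and_isContractionOf hx (hreg x) (H28RR.dim_stalk_closed k hdim hx) hbl).2.2.1
  have hi := H11PicBlow.isRegularImmersionOfCodim_point (hx := hx) hreg hd
  have hker : (Scheme.IdealSheafData.vanishingIdeal (X := X) ⟨{x}, hx⟩).subschemeι.ker =
      Scheme.IdealSheafData.vanishingIdeal ⟨{x}, hx⟩ := Scheme.IdealSheafData.ker_subschemeι _
  let N := CohB1.tensorMod L ωX
  have hN : PicF.IsInvertible N := H11Ample.isInvertible_tensor hL (H28RR.isInvertible_canonical k hdim hωX)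
  have hb' : BlowUp.IsBlowUp f (Scheme.IdealSheafData.vanishingIdeal (X := X) ⟨{x}, hx⟩).subschemeι.ker := by
    rw [hker]; exact hbl
  obtain ⟨e₁⟩ := H27BlowPow.nonempty_push_pow hreg _ 1 hi hb' r hN
  have h2 := H11PicBlow.finrank_HH_push_of_basis k f hf _ _ (H27BlowPow.isBasis_good _ 1 hi hN)
    (fun U hU p hp => H27BlowPow.subsingleton_pow_twist _ hb' hN r hU hp) i
  have h1 := H25Index.hd_congr (k := k) e₁ i
  show Module.finrank k (Coh.HH X (CohB1.tensorMod (ClSub.idealMod
    ((Scheme.IdealSheafData.vanishingIdeal ⟨{x}, hx⟩) ^ r)) N) i) = _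
  rw [hker] at h1 h2
  refine (h1.trans h2).trans ?_
  have hEc : BlowUp.IsEffCartierIdeal (BlowUp.exceptional f (Scheme.IdealSheafData.vanishingIdeal ⟨{x}, hx⟩)) := hbl.1
  let E := BlowUp.exceptional f (Scheme.IdealSheafData.vanishingIdeal ⟨{x}, hx⟩)
  obtain ⟨hEr, -⟩ := H11Blow.idealMod_pow hEc r
  let eM : ClSub.idealMod (E ^ (r + 1)) ≅ CohB1.tensorMod (ClSub.idealMod (E ^ r)) (ClSub.idealMod E) :=
    eqToIso (by rw [pow_succ]) ≪≫ (H28Vert.nonempty_idealMod_mul hEr hEc).some.symm
  obtain ⟨eW⟩ := H28RR.canonical_blowup k hdim hdimY hf hbl hωX hωY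
  obtain ⟨eP⟩ := H11Ample.exists_iso_pullback_tensor f hL (H28RR.isInvertible_canonical k hdim hωX)
  refine H25Index.hd_congr (k := k) ?_ i
  exact PicGrp.tensorModIso (Iso.refl _) (eP ≪≫ PicGrp.tensorModIso (Iso.refl _)
      (eW.symm ≪≫ H10Coh.Tw.commIso _ _) ≪≫ (H10Coh.Tw.assoc _ _ _).symm ≪≫
      PicGrp.tensorModIso (H10Coh.Tw.commIso _ _) (Iso.refl _) ≪≫ H10Coh.Tw.assoc _ _ _) ≪≫
    (H10Coh.Tw.assoc _ _ _).symm ≪≫ PicGrp.tensorModIso eM.symm (Iso.refl _)

end Groth.Agent.S17346
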