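import Groth.Statements.S17351
import Groth.Agent.H7AdjExt.Main
-- import your own Groth.Agent.* helpers here

set_option autoImplicit false
universe u
open CategoryTheory CategoryTheory.Limits AlgebraicGeometry
open AdjLin

namespace Groth.Agent.S17351

/-- Let k be an algebraically closed field of characteristic zero and X a smooth projective surface over
k (irreducible, proper, smooth of dimension 2, with an ample invertible module); let M be an
invertible O_X-module, Z ⊆ X a closed subscheme whose underlying set is finite, with quasi-coherent
ideal I_Z regarded as an O_X-module, and let 0 → M → F → I_Z → 0 be a short exact sequence of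
O_X-modules (an extension of L ⊗ I_Z by O_X in the source, here tensored with M = L⁻¹). Then F is
not finite locally free if and only if there exist an ideal sheaf I' strictly containing I_Z (a
proper closed subscheme Z' of Z, the empty one allowed), a short exact sequence 0 → M → F' → I' → 0
and a morphism g : F → F' which is compatible with the two maps from M and, on the quotients, with
the inclusion I_Z → I' (the unique map commuting with the inclusions into O_X); in other words the
extension class of F is the pull-back of an extension of I' by M. -/
theorem result (k : Type u) [Field k] [IsAlgClosed k] [CharZero k]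
    (X : Scheme.{u}) [X.Over (Spec (CommRingCat.of k))] [IsProper (X ↘ (Spec (CommRingCat.of k)))]
    [Smooth (X ↘ (Spec (CommRingCat.of k)))] [IrreducibleSpace X] (hdim : topologicalKrullDim X = 2)
    (H : X.Modules) (hH : CohB1.IsAmple H)
    (M : X.Modules) (hM : PicF.IsInvertible M)
    (IZ : X.IdealSheafData) (hZ : (IZ.support : Set X).Finite)
    (F : X.Modules) (a : M ⟶ F) (b : F ⟶ ClSub.idealMod IZ) (w : a ≫ b = 0)
    (hex : (ShortComplex.mk a b w).ShortExact) :
    ¬ FlatMod.IsFinLocFree F ↔
      ∃ (I' : X.IdealSheafData) (F' : X.Modules) (a' : M ⟶ F') (b' : F' ⟶ ClSub.idealMod I') (w' : a' ≫ b' = 0)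
        (φ : ClSub.idealMod IZ ⟶ ClSub.idealMod I') (g : F ⟶ F'),
        IZ < I' ∧ (ShortComplex.mk a' b' w').ShortExact ∧ φ ≫ ClSub.idealModι I' = ClSub.idealModι IZ ∧
          a ≫ g = a' ∧ g ≫ b' = b ≫ φ := by
  haveI : Nonempty X := IrreducibleSpace.toNonempty
  haveI : IsIntegral X := H8Props.DvrCurve.isIntegral_of_smooth_connected (X ↘ Spec (CommRingCat.of k))
  exact H7AdjExt.main (k := k) (by exact_mod_cast hdim)
    (fun x => H19Grp.isRegularLocalRing_stalk_of_smooth (k := k) (X ↘ Spec (CommRingCat.of k)) x) M hM IZ hZ F a b w hex

end Groth.Agent.S17351
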