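import Groth.Statements.S17352
import Groth.Agent.H23AzInv.Types

set_option autoImplicit false
universe u v w w'
open scoped TensorProduct
open AzInv

namespace Groth.Agent.S17352

/-- (b) ⇒ (a): let `R` be a commutative ring with an involution `lam` whose fixed ring is exactly `S`;
assume that units have square roots locally for the etale topology of `S` (every unit of an etale
`S`-algebra becomes a square in some etale faithfully flat extension), and that `2` is a unit in
`S`, or `R` is a quadratic etale `S`-algebra, or `n` is odd. Let `A` and `A'` be Azumaya
`R`-algebras of the same degree `n ≥ 1` with `lam`-involutions `t` and `t'`. If `t` and `t'` have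
the same type, i.e. for some positive sizes the matrix algebras over `A` and `A'` with the
involutions induced by `t` and `t'` (apply the involution entrywise, then transpose) become
isomorphic as `R`-algebras with involution after an etale faithfully flat base change of `S`, then
`(A, t)` and `(A', t')` themselves become isomorphic as `R`-algebras with involution after an etale
faithfully flat base change of `S`. (The source states this for an exact quotient of a locally
ringed topos with involution; the row is the affine case `Spec R → Spec S`, with etale coverings of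
`Spec S` replaced by a single etale faithfully flat `S`-algebra.) -/
theorem result (S : Type u) (R : Type v) [CommRing S] [CommRing R] [Algebra S R]
    (lam : R ≃ₐ[S] R) (hlam : ∀ r, lam (lam r) = r) (hfix : RInv.IsFixedRing S R lam.toRingEquiv)
    (hsq : ∀ (S₁ : Type u) [CommRing S₁] [Algebra S S₁] [Algebra.Etale S S₁] (x : S₁ˣ),
      ∃ (S₂ : Type u) (_ : CommRing S₂) (_ : Algebra S₁ S₂) (_ : Algebra.Etale S₁ S₂)
        (_ : Module.FaithfullyFlat S₁ S₂) (y : S₂), y * y = algebraMap S₁ S₂ ↑x)
    (n : ℕ) (hn : 0 < n) (hcond : IsUnit (2 : S) ∨ RInv.IsQuadEtale S R ∨ Odd n)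
    (A : Type w) [Ring A] [Algebra S A] [Algebra R A] [IsScalarTower S R A]
    (A' : Type w') [Ring A'] [Algebra S A'] [Algebra R A'] [IsScalarTower S R A']
    (hA : AzInv.IsAzumayaDeg R A n) (hA' : AzInv.IsAzumayaDeg R A' n)
    (t : AzInv.LamInv R A lam) (t' : AzInv.LamInv R A' lam) (h : AzInv.SameType S lam t t') :
    AzInv.LocIsoEt S lam t t' := by
  refine Groth.Agent.H23AzInv.main hlam hfix hsq hn hA hA' t t' fun q hq => ?_
  rcases hcond with h2 | hq' | hodd
  · exact Or.inr ⟨h2, Groth.Agent.H23AzInv.orth_of_sameType hlam hfix h2 hn hn hA hA' h q hq⟩
  · exact (Groth.Agent.H23AzInv.no_ramified hlam hfix hq' q hq).elim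
  · exact Or.inl hodd

end Groth.Agent.S17352
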