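import Groth.Statements.S17355
import Groth.Agent.H23AzInv.Unitary

set_option autoImplicit false
universe u v w
open scoped TensorProduct
open AzInv

namespace Groth.Agent.S17355

/-- Let `R` be a commutative ring with an involution `lam` whose fixed ring is exactly `S`, assume that
units have square roots locally for the etale topology of `S` (every unit of an etale `S`-algebra
becomes a square in some etale faithfully flat extension), and let `A` be an Azumaya `R`-algebra of
degree `n ≥ 1` with a `lam`-involution `t`. Then every `R`-algebra automorphism `ψ` of `A` that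
commutes with `t` is, locally for the etale topology of `S`, conjugation by a unitary element: there
are an etale faithfully flat `S`-algebra `S'` and a unit `u` of `S' ⊗_S A` with `(id ⊗ t)(u) * u =
1` such that `id ⊗ ψ` is `x ↦ u x u⁻¹` (the map from the unitary group to the automorphism sheaf of
`(A, t)` is an epimorphism). This row states the surjectivity part only; the published statement
also identifies the kernel of the map from the unitary group as the group of norm-one elements of
`R` (the units `r` of `R` with `lam r * r = 1`), so that the projective unitary group of `(A, t)` is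
its automorphism sheaf. (The source states this for an exact quotient of a locally ringed topos with
involution; the row is the affine case `Spec R → Spec S`, with etale coverings of `Spec S` replaced
by a single etale faithfully flat `S`-algebra.) -/
theorem result (S : Type u) (R : Type v) [CommRing S] [CommRing R] [Algebra S R]
    (lam : R ≃ₐ[S] R) (hlam : ∀ r, lam (lam r) = r) (hfix : RInv.IsFixedRing S R lam.toRingEquiv)
    (hsq : ∀ (S₁ : Type u) [CommRing S₁] [Algebra S S₁] [Algebra.Etale S S₁] (x : S₁ˣ),
      ∃ (S₂ : Type u) (_ : CommRing S₂) (_ : Algebra S₁ S₂) (_ : Algebra.Etale S₁ S₂)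
        (_ : Module.FaithfullyFlat S₁ S₂) (y : S₂), y * y = algebraMap S₁ S₂ ↑x)
    (A : Type w) [Ring A] [Algebra S A] [Algebra R A] [IsScalarTower S R A]
    (n : ℕ) (hn : 0 < n) (hA : AzInv.IsAzumayaDeg R A n) (t : AzInv.LamInv R A lam)
    (ψ : A ≃ₐ[R] A) (hψ : AzInv.IsInvHom t t ψ) :
    ∃ (S' : Type u) (_ : CommRing S') (_ : Algebra S S') (_ : Algebra.Etale S S')
      (_ : Module.FaithfullyFlat S S') (u : (S' ⊗[S] A)ˣ),
      t.bc S lam S' (↑u : S' ⊗[S] A) * ↑u = 1 ∧
        ∀ x : S' ⊗[S] A,
          Algebra.TensorProduct.congr (AlgEquiv.refl : S' ≃ₐ[S'] S') (ψ.restrictScalars S) x =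
            ↑u * x * ↑u⁻¹ := by
  exact Groth.Agent.H23AzInv.exists_unitary hlam hfix hsq hn hA t ψ hψ

end Groth.Agent.S17355
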