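import Groth.Statements.S17356
import Groth.Agent.H23EtCover.Base
import Groth.Agent.H23RInv.Basic

set_option autoImplicit false
universe u v w
open scoped TensorProduct
open AzInv

namespace Groth.Agent.S17356

/-- Let `R` be a commutative ring with an involution `lam` whose fixed ring is exactly `S`, and let `A`
be an Azumaya `R`-algebra of degree `n ≥ 1`. Then `A` becomes a matrix algebra after base change
along an etale covering of `S` (and not merely of `R`): there are an etale faithfully flat
`S`-algebra `S'` and an `S'`-algebra isomorphism from `S' ⊗_S A` to the `n × n` matrices over `S'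
⊗_S R` that carries multiplication by `1 ⊗ r`, for `r` in `R`, to multiplication by the scalar
matrix `1 ⊗ r`. (The source states this for a good quotient of schemes by an involution; the row is
the affine case `Spec R → Spec S`.) -/
theorem result (S : Type u) (R : Type v) [CommRing S] [CommRing R] [Algebra S R]
    (lam : R ≃ₐ[S] R) (hlam : ∀ r, lam (lam r) = r) (hfix : RInv.IsFixedRing S R lam.toRingEquiv)
    (A : Type w) [Ring A] [Algebra S A] [Algebra R A] [IsScalarTower S R A]
    (n : ℕ) (hn : 0 < n) (hA : AzInv.IsAzumayaDeg R A n) :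
    ∃ (S' : Type u) (_ : CommRing S') (_ : Algebra S S') (_ : Algebra.Etale S S')
      (_ : Module.FaithfullyFlat S S') (f : S' ⊗[S] A ≃ₐ[S'] Matrix (Fin n) (Fin n) (S' ⊗[S] R)),
      ∀ (r : R) (x : S' ⊗[S] A),
        f (((1 : S') ⊗ₜ[S] algebraMap R A r) * x) = Matrix.scalar (Fin n) ((1 : S') ⊗ₜ[S] r) * f x := by
  haveI := hA.1
  haveI : Algebra.IsIntegral S R := Groth.Agent.H23RInv.isIntegral (lam := lam.toRingEquiv) hlam hfix
  obtain ⟨S', h1, h2, h3, h4, f, hf⟩ :=
    Groth.Agent.H23EtCover.exists_split_base (S := S) (R := R) (A := A) n hA.2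
  exact ⟨S', h1, h2, h3, h4, f, fun r x => hf ((1 : S') ⊗ₜ[S] r) x⟩

end Groth.Agent.S17356
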