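import Groth.Statements.S17358
import Groth.Agent.H23AzInv.Types
import Mathlib.RingTheory.Idempotents

set_option autoImplicit false
universe u v w
open scoped TensorProduct
open AzInv

namespace Groth.Agent.S17358

/-- Let `R` be a commutative ring with an involution `lam` whose fixed ring is exactly `S`; assume that
units have square roots locally for the etale topology of `S` (every unit of an etale `S`-algebra
becomes a square in some etale faithfully flat extension), and that either `2` is a unit in `S` and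
the quotient `Spec R → Spec S` is everywhere ramified (for no prime `p` of `S` is `S_p ⊗_S R` a
quadratic etale `S_p`-algebra; the case `R = S` is included), or `R` is a quadratic etale
`S`-algebra (the unramified case). Then every `lam`-involution `t` of an Azumaya `R`-algebra `A` of
degree `n ≥ 1` is ordinary: there are a global invertible `n × n` matrix `w` over `R` and an element
`e` of `R` with `lam`-transpose of `w` equal to `e • w` and `lam e * e = 1`, such that `(A, t)`
becomes isomorphic, after an etale faithfully flat base change of `S`, to the matrix algebra over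
`R` with the involution `x ↦ w * (lam-transpose of x) * w⁻¹` (equivalently `x ↦ (a x a⁻¹)` followed
by the `lam`-transpose, for the global matrix `a` whose `lam`-transpose is `w⁻¹`). (The source
states this for an exact quotient of a locally ringed topos with involution; the row is the affine
case `Spec R → Spec S`, with etale coverings of `Spec S` replaced by a single etale faithfully flat
`S`-algebra.) -/
theorem result (S : Type u) (R : Type v) [CommRing S] [CommRing R] [Algebra S R]
    (lam : R ≃ₐ[S] R) (hlam : ∀ r, lam (lam r) = r) (hfix : RInv.IsFixedRing S R lam.toRingEquiv)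
    (hsq : ∀ (S₁ : Type u) [CommRing S₁] [Algebra S S₁] [Algebra.Etale S S₁] (x : S₁ˣ),
      ∃ (S₂ : Type u) (_ : CommRing S₂) (_ : Algebra S₁ S₂) (_ : Algebra.Etale S₁ S₂)
        (_ : Module.FaithfullyFlat S₁ S₂) (y : S₂), y * y = algebraMap S₁ S₂ ↑x)
    (hram : (IsUnit (2 : S) ∧ ∀ p : PrimeSpectrum S,
        ¬ RInv.IsQuadEtale (Localization.AtPrime p.asIdeal) (Localization.AtPrime p.asIdeal ⊗[S] R)) ∨
      RInv.IsQuadEtale S R)
    (A : Type w) [Ring A] [Algebra S A] [Algebra R A] [IsScalarTower S R A]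
    (n : ℕ) (hn : 0 < n) (hA : AzInv.IsAzumayaDeg R A n) (t : AzInv.LamInv R A lam) :
    ∃ (w : (Matrix (Fin n) (Fin n) R)ˣ) (e : R)
      (hw : AzInv.LamInv.transpose lam (Fin n) hlam (↑w : Matrix (Fin n) (Fin n) R) = e • (↑w : Matrix (Fin n) (Fin n) R))
      (he : lam e * e = 1),
      AzInv.LocIsoEt S lam t ((AzInv.LamInv.transpose lam (Fin n) hlam).conj w e hw he) := by
  classical
  have hdeg := Groth.Agent.H23AzInv.isAzumayaDeg_matrix_self (R := R) hn
  have h1w : AzInv.LamInv.transpose lam (Fin n) hlam ((1 : (Matrix (Fin n) (Fin n) R)ˣ) : Matrix (Fin n) (Fin n) R) =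
      (1 : R) • ((1 : (Matrix (Fin n) (Fin n) R)ˣ) : Matrix (Fin n) (Fin n) R) := by
    rw [Units.val_one, AzInv.LamInv.map_one, one_smul]
  have h1e : lam 1 * 1 = 1 := by simp
  rcases hram with ⟨h2, hram⟩ | hq
  swap
  · exact ⟨1, 1, h1w, h1e, Groth.Agent.H23AzInv.main hlam hfix hsq hn hA hdeg _ _
      fun q hq' => (Groth.Agent.H23AzInv.no_ramified hlam hfix hq q hq').elim⟩
  rcases Nat.even_or_odd n with hev | hodd
  swap
  · exact ⟨1, 1, h1w, h1e, Groth.Agent.H23AzInv.main hlam hfix hsq hn hA hdeg _ _ fun q _ => Or.inl hodd⟩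
  have hall : ∀ q : PrimeSpectrum R, ∀ r : R, lam r - r ∈ q.asIdeal := fun q r => by
    obtain ⟨q₀, -, hu, hq₀⟩ := (Groth.Agent.H23RInv.not_isQuadEtale_atPrime_iff (lam := lam.toRingEquiv) hlam hfix
      (q.comap (algebraMap S R))).mp (hram _)
    rw [hu q rfl]
    exact hq₀ r
  obtain ⟨e₀, he₀, hU⟩ := PrimeSpectrum.exists_idempotent_basicOpen_eq_of_isClopen
    (Groth.Agent.H23AzInv.isClopen_orth hlam hfix h2 hn hA t hall)
  have he₁ : e₀ * (1 - e₀) = 0 := he₀.mul_one_sub_self
  have hlame : lam e₀ = e₀ := by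
    refine eq_of_isNilpotent_sub_of_isIdempotentElem_of_commute (he₀.map lam) he₀ ?_ (Commute.all _ _)
    rw [← mem_nilradical, nilradical_eq_sInf, Submodule.mem_sInf]
    exact fun P hP => hall ⟨P, hP⟩ e₀
  let J := Groth.Agent.H23AzInv.stdJ R n
  have hJJ : J * J = -1 := Groth.Agent.H23AzInv.stdJ_sq R hev
  have hww : (e₀ • (1 : Matrix (Fin n) (Fin n) R) + (1 - e₀) • J) * (e₀ • 1 + (-(1 - e₀)) • J) = 1 := by
    rw [add_mul, mul_add, mul_add, Matrix.smul_mul, Matrix.smul_mul, Matrix.smul_mul, Matrix.smul_mul,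
      Matrix.mul_smul, Matrix.mul_smul, Matrix.mul_smul, Matrix.mul_smul, one_mul, one_mul, mul_one, hJJ]
    simp only [smul_smul, he₀.eq, mul_neg, neg_mul, he₁, mul_comm (1 - e₀) e₀, neg_zero, zero_smul, add_zero,
      zero_add, he₀.one_sub.eq, neg_smul, smul_neg, neg_neg]
    rw [← add_smul, add_sub_cancel, one_smul]
  have hww' : (e₀ • (1 : Matrix (Fin n) (Fin n) R) + (-(1 - e₀)) • J) * (e₀ • 1 + (1 - e₀) • J) = 1 :=
    mul_eq_one_comm.mp hww
  have hw : AzInv.LamInv.transpose lam (Fin n) hlam (e₀ • (1 : Matrix (Fin n) (Fin n) R) + (1 - e₀) • J) =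
      (e₀ - (1 - e₀)) • (e₀ • (1 : Matrix (Fin n) (Fin n) R) + (1 - e₀) • J) := by
    rw [AzInv.LamInv.map_add, AzInv.LamInv.map_smul, AzInv.LamInv.map_smul, AzInv.LamInv.map_one, map_sub, map_one,
      hlame]
    have hJt : AzInv.LamInv.transpose lam (Fin n) hlam J = -J := by
      show (J.map lam).transpose = -J
      rw [show J.map lam = J from Groth.Agent.H23AzInv.stdJ_map (lam : R →+* R) n]
      exact Groth.Agent.H23AzInv.stdJ_transpose R n
    rw [hJt, smul_add, smul_smul, smul_smul, show (e₀ - (1 - e₀)) * e₀ = e₀ by linear_combination 2 * he₀.eq,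
      show (e₀ - (1 - e₀)) * (1 - e₀) = -(1 - e₀) by linear_combination (-2 : R) * he₀.eq, neg_smul, smul_neg]
  have he : lam (e₀ - (1 - e₀)) * (e₀ - (1 - e₀)) = 1 := by
    rw [map_sub, map_sub, map_one, hlame]
    linear_combination (4 : R) * he₀.eq
  refine ⟨⟨_, _, hww, hww'⟩, e₀ - (1 - e₀), hw, he, Groth.Agent.H23AzInv.main hlam hfix hsq hn hA hdeg _ _
    fun q hq => Or.inr ⟨h2, ?_⟩⟩
  refine Iff.trans ?_ (Groth.Agent.H23AzInv.orth_conj_iff hlam h2 hn _ _ hw he q hq).symm
  rw [show (e₀ - (1 - e₀)) - 1 = 2 * -(1 - e₀) by ring]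
  refine Iff.trans (Set.ext_iff.mp hU q) ⟨fun h => ?_, fun h hmem => ?_⟩
  · refine Ideal.mul_mem_left _ _ (q.asIdeal.neg_mem ?_)
    exact (q.isPrime.mem_or_mem (he₁ ▸ q.asIdeal.zero_mem : e₀ * (1 - e₀) ∈ q.asIdeal)).resolve_left h
  · have h2R : IsUnit (2 : R) := by simpa [map_ofNat] using h2.map (algebraMap S R)
    have h1 := q.asIdeal.neg_mem ((q.isPrime.mem_or_mem h).resolve_left fun h' =>
      q.isPrime.ne_top (Ideal.eq_top_of_isUnit_mem _ h' h2R))
    rw [neg_neg] at h1
    exact q.isPrime.ne_top ((Ideal.eq_top_iff_one _).mpr (by simpa using q.asIdeal.add_mem h1 hmem))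

end Groth.Agent.S17358
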