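import Groth.Statements.S17359
import Groth.Agent.H23AzInv.Types

set_option autoImplicit false
universe u w
open scoped TensorProduct
open AzInv

namespace Groth.Agent.S17359

/-- Let `R` be a nontrivial commutative ring with connected spectrum in which `2` is a unit, with the
trivial involution (so that the involutions considered are of the first kind and the quotient is the
trivial one). Then there are exactly two types, the orthogonal and the symplectic one; this row
states the first half: every involution of the first kind `t` of an Azumaya `R`-algebra `A` of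
degree `n ≥ 1` has the same type either as the identity of `R` or as the standard symplectic
involution `x ↦ J xᵀ J⁻¹` of the `2 × 2` matrix algebra, `J` the matrix with rows `(0, -1)` and `(1,
0)` (same type: suitable matrix algebras over the two, with the induced involutions, become
isomorphic as `R`-algebras with involution after an etale faithfully flat base change of `R`). (The
source states that the monoid of types is isomorphic to the group of global square roots of `1`, for
a locally ringed topos with trivial involution and `2` invertible; the row is the affine case with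
connected spectrum, where that group is `{1, -1}`.) -/
theorem result (R : Type u) [CommRing R] (hlam : ∀ r : R, (AlgEquiv.refl : R ≃ₐ[R] R) ((AlgEquiv.refl : R ≃ₐ[R] R) r) = r)
    [Nontrivial R] [ConnectedSpace (PrimeSpectrum R)] (h2 : IsUnit (2 : R))
    (J : (Matrix (Fin 2) (Fin 2) R)ˣ) (hJ : (↑J : Matrix (Fin 2) (Fin 2) R) = Matrix.of ![![0, -1], ![1, 0]])
    (hJt : AzInv.LamInv.transpose (AlgEquiv.refl : R ≃ₐ[R] R) (Fin 2) hlam (↑J : Matrix (Fin 2) (Fin 2) R) = (-1 : R) • (↑J : Matrix (Fin 2) (Fin 2) R))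
    (hneg : (AlgEquiv.refl : R ≃ₐ[R] R) (-1) * (-1) = 1)
    (A : Type w) [Ring A] [Algebra R A]
    (n : ℕ) (hn : 0 < n) (hA : AzInv.IsAzumayaDeg R A n) (t : AzInv.LamInv R A (AlgEquiv.refl : R ≃ₐ[R] R)) :
    AzInv.SameType R (AlgEquiv.refl : R ≃ₐ[R] R) t (AzInv.LamInv.self (AlgEquiv.refl : R ≃ₐ[R] R) hlam) ∨
      AzInv.SameType R (AlgEquiv.refl : R ≃ₐ[R] R) t ((AzInv.LamInv.transpose (AlgEquiv.refl : R ≃ₐ[R] R) (Fin 2) hlam).conj J (-1) hJt hneg) := by
  classical
  have hfix : RInv.IsFixedRing R R (AlgEquiv.refl : R ≃ₐ[R] R).toRingEquiv :=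
    ⟨fun a b h => h, fun r => ⟨fun _ => ⟨r, rfl⟩, fun _ => rfl⟩⟩
  have hall : ∀ q : PrimeSpectrum R, ∀ r : R, (AlgEquiv.refl : R ≃ₐ[R] R) r - r ∈ q.asIdeal := fun q r => by simp
  have hsq := Groth.Agent.H23AzInv.sqrtCover_of_isUnit_two h2
  rcases isClopen_iff.mp (Groth.Agent.H23AzInv.isClopen_orth hlam hfix h2 hn hA t hall) with h | h
  · refine Or.inr ⟨2, n, two_pos, hn, Groth.Agent.H23AzInv.main hlam hfix hsq (Nat.mul_pos two_pos hn)
      (Groth.Agent.H23AzInv.isAzumayaDeg_matrix two_pos hA)
      (Nat.mul_comm n 2 ▸ Groth.Agent.H23AzInv.isAzumayaDeg_matrix hn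
        (Groth.Agent.H23AzInv.isAzumayaDeg_matrix_self two_pos)) _ _ fun q hq => Or.inr ⟨h2, ?_⟩⟩
    rw [Groth.Agent.H23AzInv.orth_matrix hlam hfix h2 hn two_pos hA q hq, Nat.mul_comm 2 n,
      Groth.Agent.H23AzInv.orth_matrix hlam hfix h2 two_pos hn (Groth.Agent.H23AzInv.isAzumayaDeg_matrix_self two_pos) q hq,
      Groth.Agent.H23AzInv.orth_conj_iff hlam h2 two_pos J (-1) hJt hneg q hq]
    refine iff_of_false (fun h' => ?_) (fun h' => ?_)
    · exact (Set.ext_iff.mp h q).mp h'
    · exact q.isPrime.ne_top (Ideal.eq_top_of_isUnit_mem _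
        (by have := q.asIdeal.neg_mem h'; rwa [show -((-1 : R) - 1) = 2 by ring] at this) h2)
  · refine Or.inl ⟨1, n, one_pos, hn, Groth.Agent.H23AzInv.main hlam hfix hsq (Nat.mul_pos one_pos hn)
      (Groth.Agent.H23AzInv.isAzumayaDeg_matrix one_pos hA)
      (Nat.mul_comm n 1 ▸ Groth.Agent.H23AzInv.isAzumayaDeg_matrix hn Groth.Agent.H23AzInv.isAzumayaDeg_self)
      _ _ fun q hq => Or.inr ⟨h2, ?_⟩⟩
    rw [Groth.Agent.H23AzInv.orth_matrix hlam hfix h2 hn one_pos hA q hq, Nat.mul_comm 1 n,
      Groth.Agent.H23AzInv.orth_matrix hlam hfix h2 one_pos hn Groth.Agent.H23AzInv.isAzumayaDeg_self q hq]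
    exact iff_of_true ((Set.ext_iff.mp h q).mpr trivial) (Groth.Agent.H23AzInv.orth_self hlam q hq)

end Groth.Agent.S17359
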