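import Groth.Statements.S17360
import Mathlib.Data.Matrix.Composition
import Mathlib.RingTheory.Ideal.Quotient.Basic
import Mathlib.RingTheory.TensorProduct.Maps

set_option autoImplicit false
universe u
open scoped TensorProduct
open AzInv

namespace Groth.Agent.S17360

/-- Let `R` be a nontrivial commutative ring in which `2` is a unit, with the trivial involution. This
row states the second half of the count of types: the identity of `R` (the orthogonal type) and the
standard symplectic involution `x ↦ J xᵀ J⁻¹` of the `2 × 2` matrix algebra, `J` the matrix with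
rows `(0, -1)` and `(1, 0)`, do not have the same type, i.e. for no positive sizes do the matrix
algebras over `R` with the transpose and over `M_2(R)` with the involution induced by the symplectic
one become isomorphic as `R`-algebras with involution after an etale faithfully flat base change of
`R`. (The source states that the monoid of types is isomorphic to the group of global square roots
of `1`, for a locally ringed topos with trivial involution and `2` invertible; the row is the affine
case.) -/
theorem result (R : Type u) [CommRing R] (hlam : ∀ r : R, (AlgEquiv.refl : R ≃ₐ[R] R) ((AlgEquiv.refl : R ≃ₐ[R] R) r) = r)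
    [Nontrivial R] (h2 : IsUnit (2 : R))
    (J : (Matrix (Fin 2) (Fin 2) R)ˣ) (hJ : (↑J : Matrix (Fin 2) (Fin 2) R) = Matrix.of ![![0, -1], ![1, 0]])
    (hJt : AzInv.LamInv.transpose (AlgEquiv.refl : R ≃ₐ[R] R) (Fin 2) hlam (↑J : Matrix (Fin 2) (Fin 2) R) = (-1 : R) • (↑J : Matrix (Fin 2) (Fin 2) R))
    (hneg : (AlgEquiv.refl : R ≃ₐ[R] R) (-1) * (-1) = 1) :
    ¬ AzInv.SameType R (AlgEquiv.refl : R ≃ₐ[R] R) (AzInv.LamInv.self (AlgEquiv.refl : R ≃ₐ[R] R) hlam) ((AzInv.LamInv.transpose (AlgEquiv.refl : R ≃ₐ[R] R) (Fin 2) hlam).conj J (-1) hJt hneg) := by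
  intro ⟨m, m', hm, hm', S', hS'1, hS'2, hS'3, hS'4, f, hf1, hf2⟩
  haveI : Nontrivial S' := by
    by_contra hn
    rw [not_nontrivial_iff_subsingleton] at hn
    haveI : Subsingleton (S' ⊗[R] R) := Module.subsingleton S' _
    haveI : Subsingleton R := Module.FaithfullyFlat.lTensor_reflects_triviality R S' R
    exact false_of_nontrivial_of_subsingleton R
  obtain ⟨M, hM⟩ := Ideal.exists_maximal S'
  letI : Field (S' ⧸ M) := Ideal.Quotient.field M
  let k := S' ⧸ M
  let φ : S' →ₐ[R] k := Ideal.Quotient.mkₐ R M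
  have hφ : Function.Surjective φ := Ideal.Quotient.mkₐ_surjective R M
  let P := Fin m' × Fin 2
  let ι : Matrix (Fin m') (Fin m') (Matrix (Fin 2) (Fin 2) R) →ₐ[R] Matrix P P k :=
    (Algebra.ofId R k).mapMatrix.comp (Matrix.compAlgEquiv (Fin m') (Fin 2) R R).toAlgHom
  let σ : S' →ₐ[R] Matrix P P k := ((Algebra.ofId k (Matrix P P k)).restrictScalars R).comp φ
  have hσ : ∀ s X, σ s * X = φ s • X := fun s X => (Algebra.smul_def (φ s) X).symm
  let ψ : S' ⊗[R] Matrix (Fin m') (Fin m') (Matrix (Fin 2) (Fin 2) R) →ₐ[R] Matrix P P k :=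
    Algebra.TensorProduct.lift σ ι fun s M => Algebra.commutes (φ s) (ι M)
  have hψt : ∀ (s : S') N, ψ (s ⊗ₜ[R] N) = φ s • ι N := fun s N => by
    simp only [ψ, Algebra.TensorProduct.lift_tmul]; exact hσ s (ι N)
  have hψs : ∀ (s : S') x, ψ (s • x) = φ s • ψ x := fun s x => by
    induction x using TensorProduct.induction_on with
    | zero => simp
    | add x y hx hy => simp [smul_add, map_add, hx, hy]
    | tmul s' N => rw [TensorProduct.smul_tmul', smul_eq_mul, hψt, hψt, map_mul, mul_smul]
  have hψ : Function.Surjective ψ := fun X => by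
    choose g hg using fun q : P × P => hφ (X q.1 q.2)
    refine ⟨∑ q : P × P, g q ⊗ₜ[R] Matrix.single q.1.1 q.2.1 (Matrix.single q.1.2 q.2.2 (1 : R)), ?_⟩
    have hs : ∀ a b : P, ι (Matrix.single a.1 b.1 (Matrix.single a.2 b.2 (1 : R))) = Matrix.single a b 1 := by
      intro a b; ext c d
      simp only [ι, AlgHom.comp_apply, AlgHom.mapMatrix_apply, Matrix.map_apply]
      show algebraMap R k (Matrix.single a.1 b.1 (Matrix.single a.2 b.2 (1 : R)) c.1 d.1 c.2 d.2) = _
      rw [Matrix.single_apply a.1, Matrix.single_apply a]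
      by_cases h : a.1 = c.1 ∧ b.1 = d.1
      · rw [if_pos h, Matrix.single_apply]
        obtain ⟨h1, h2⟩ := h
        split_ifs with hA hB hB <;> first | simp
        · exact absurd ⟨Prod.ext h1 hA.1, Prod.ext h2 hA.2⟩ hB
        · exact absurd ⟨congrArg Prod.snd hB.1, congrArg Prod.snd hB.2⟩ hA
      · rw [if_neg h, Matrix.zero_apply, map_zero, if_neg]
        exact fun h' => h ⟨congrArg Prod.fst h'.1, congrArg Prod.fst h'.2⟩
    rw [map_sum, Fintype.sum_prod_type]
    conv_rhs => rw [Matrix.matrix_eq_sum_single X]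
    refine Finset.sum_congr rfl fun a _ => Finset.sum_congr rfl fun b _ => ?_
    rw [hψt, hs, hg, Matrix.smul_single, smul_eq_mul, mul_one]
  let D : Matrix (Fin m') (Fin m') (Matrix (Fin 2) (Fin 2) R) :=
    Matrix.diagonal fun _ => (↑J : Matrix (Fin 2) (Fin 2) R)
  let D' : Matrix (Fin m') (Fin m') (Matrix (Fin 2) (Fin 2) R) :=
    Matrix.diagonal fun _ => (↑J⁻¹ : Matrix (Fin 2) (Fin 2) R)
  have hDD : ι D' * ι D = 1 := by
    rw [← map_mul, show D' * D = 1 by simp [D, D', Matrix.diagonal_mul_diagonal], map_one]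
  let t1 := (AzInv.LamInv.self (AlgEquiv.refl : R ≃ₐ[R] R) hlam).matrix (Fin m)
  let t2 := ((AzInv.LamInv.transpose (AlgEquiv.refl : R ≃ₐ[R] R) (Fin 2) hlam).conj J (-1) hJt hneg).matrix (Fin m')
  have ht2 : ∀ N, ι (t2 N) = ι D * (ι N).transpose * ι D' := fun N => by
    let T : Matrix (Fin m') (Fin m') (Matrix (Fin 2) (Fin 2) R) := fun i j => (N j i).transpose
    have h1 : t2 N = D * T * D' := by
      ext i j : 1
      simp only [D, D', Matrix.mul_diagonal, Matrix.diagonal_mul]
      rfl
    rw [h1, map_mul, map_mul]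
    rfl
  have hψ2 : ∀ x, ψ (t2.bc R AlgEquiv.refl S' x) = ι D * (ψ x).transpose * ι D' := fun x => by
    induction x using TensorProduct.induction_on with
    | zero => simp
    | add x y hx hy => simp [map_add, hx, hy, mul_add, add_mul]
    | tmul s N => rw [AzInv.LamInv.bc_tmul, hψt, hψt, ht2, Matrix.transpose_smul, mul_smul_comm, smul_mul_assoc]
  have hskew : (ι D).transpose = -(ι D) := by
    ext ⟨a, b⟩ ⟨c, d⟩
    simp only [ι, D, AlgHom.comp_apply, AlgHom.mapMatrix_apply, Matrix.transpose_apply, Matrix.map_apply,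
      Matrix.neg_apply]
    show algebraMap R k (D c a d b) = -algebraMap R k (D a c b d)
    simp only [D]
    rcases eq_or_ne a c with rfl | hac
    · simp only [Matrix.diagonal_apply_eq, hJ]
      fin_cases b <;> fin_cases d <;> simp [neg_neg] <;> exact (neg_neg _).symm
    · simp [Matrix.diagonal_apply_ne _ hac, Matrix.diagonal_apply_ne _ hac.symm]
  have h2k : (2 : k) ≠ 0 := by
    have := (h2.map (algebraMap R k)).ne_zero
    simpa [map_ofNat] using this
  let i₀ : Fin m := ⟨0, hm⟩
  let E : Fin m → Fin m → S' ⊗[R] Matrix (Fin m) (Fin m) R := fun i j => 1 ⊗ₜ[R] Matrix.single i j 1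
  set e : Matrix P P k := ψ (f (E i₀ i₀)) with he
  have hee : e * e = e := by
    rw [he, ← map_mul, ← map_mul]; simp [E]
  have hcorner : ∀ y, ∃ c : S', E i₀ i₀ * y * E i₀ i₀ = c • E i₀ i₀ := fun y => by
    induction y using TensorProduct.induction_on with
    | zero => exact ⟨0, by simp⟩
    | add x y hx hy =>
      obtain ⟨c, hc⟩ := hx; obtain ⟨d, hd⟩ := hy
      exact ⟨c + d, by rw [mul_add, add_mul, hc, hd, add_smul]⟩
    | tmul s N =>
      refine ⟨N i₀ i₀ • s, ?_⟩
      simp only [E, Algebra.TensorProduct.tmul_mul_tmul, one_mul, mul_one, TensorProduct.smul_tmul', smul_eq_mul]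
      rw [TensorProduct.smul_tmul]
      congr 1
      rw [Matrix.single_mul_mul_single, Matrix.smul_single]; simp
  have hck : ∀ X, ∃ c : k, e * X * e = c • e := fun X => by
    obtain ⟨y, rfl⟩ := hψ X
    obtain ⟨z, rfl⟩ := f.surjective y
    obtain ⟨c, hc⟩ := hcorner z
    exact ⟨φ c, by rw [he, ← map_mul, ← map_mul, ← map_mul, ← map_mul, hc, map_smul, hψs]⟩
  have hfix : e = ι D * e.transpose * ι D' := by
    have h1 : t1.bc R AlgEquiv.refl S' (E i₀ i₀) = E i₀ i₀ := by
      simp only [E, AzInv.LamInv.bc_tmul]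
      congr 1
      ext a b
      show Matrix.single i₀ i₀ (1 : R) b a = _
      simp [Matrix.single_apply, and_comm]
    rw [he, ← hψ2, ← hf2, h1]
  have heJ : e * ι D = ι D * e.transpose := by
    conv_lhs => rw [hfix, mul_assoc, hDD, mul_one]
  have hskew' : (e * ι D).transpose = -(e * ι D) := by
    rw [Matrix.transpose_mul, hskew, neg_mul, heJ]
  have hdiag : ∀ a, (e * ι D) a a = 0 := fun a => by
    have h := congrFun (congrFun hskew' a) a
    rw [Matrix.transpose_apply, Matrix.neg_apply, eq_neg_iff_add_eq_zero, ← two_mul] at h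
    exact (mul_eq_zero.mp h).resolve_left h2k
  have he0 : e = 0 := by
    ext a b
    obtain ⟨c, hc⟩ := hck (Matrix.single b b 1 * ι D')
    have h : e * Matrix.single b b 1 * e.transpose = c • (e * ι D) := by
      calc e * Matrix.single b b 1 * e.transpose
          = e * Matrix.single b b 1 * (ι D' * ι D) * e.transpose := by rw [hDD, mul_one]
        _ = e * (Matrix.single b b 1 * ι D') * (ι D * e.transpose) := by simp only [mul_assoc]
        _ = c • (e * ι D) := by rw [← heJ, ← mul_assoc, hc, smul_mul_assoc]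
    have h' := congrFun (congrFun h a) a
    rw [Matrix.smul_apply, hdiag, smul_zero, Matrix.mul_apply, Finset.sum_eq_single b] at h'
    · simpa [Matrix.mul_single_apply_same] using h'
    · intro j _ hj; rw [Matrix.mul_single_apply_of_ne _ _ _ _ _ hj]; simp
    · simp
  have h1 : ψ (f 1) = 0 := by
    have : (1 : S' ⊗[R] Matrix (Fin m) (Fin m) R) = ∑ i, E i i₀ * E i₀ i₀ * E i₀ i := by
      simp only [E, Algebra.TensorProduct.tmul_mul_tmul, one_mul, Matrix.single_mul_single_same]
      rw [← TensorProduct.tmul_sum, Matrix.sum_single_one, Algebra.TensorProduct.one_def]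
    rw [this, map_sum, map_sum]
    refine Finset.sum_eq_zero fun i _ => ?_
    rw [map_mul, map_mul, map_mul, map_mul, ← he, he0, mul_zero, zero_mul]
  rw [map_one, map_one] at h1
  haveI : Nonempty P := ⟨(⟨0, hm'⟩, 0)⟩
  exact one_ne_zero h1

end Groth.Agent.S17360
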