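import Groth.Statements.S17361
import Groth.Agent.H23AzInv.Types

set_option autoImplicit false
universe u v w w'
open scoped TensorProduct
open AzInv

namespace Groth.Agent.S17361

/-- Let `R` be a commutative ring with an involution `lam` whose fixed ring is exactly `S`, with `2` a
unit in `S`, and let `(A, t)` and `(A', t')` be Azumaya `R`-algebras of degrees `n, n' ≥ 1` with
`lam`-involutions. For a prime `q` of `R` in the ramification locus, i.e. such that `lam` is the
identity modulo `q`, the involution induced by `t` on the central simple algebra `k(q) ⊗_R A` is of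
the first kind, and it is orthogonal precisely when the images of the `t`-symmetric elements of `A`
span a subspace of dimension `n (n + 1) / 2` over `k(q)` (and symplectic otherwise). Then `t` and
`t'` have the same type (for some positive sizes, the matrix algebras over `A` and `A'` with the
induced involutions become isomorphic as `R`-algebras with involution after an etale faithfully flat
base change of `S`) if and only if at every prime of the ramification locus the involutions induced
by `t` and by `t'` are both orthogonal or both symplectic. (The source states this for a good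
quotient of schemes by an involution, with `2` invertible, through a locally constant sign function
on the ramification locus; the row is the affine case `Spec R → Spec S` with the signs spelled out
by dimensions of symmetric elements.) -/
theorem result (S : Type u) (R : Type v) [CommRing S] [CommRing R] [Algebra S R]
    (lam : R ≃ₐ[S] R) (hlam : ∀ r, lam (lam r) = r) (hfix : RInv.IsFixedRing S R lam.toRingEquiv)
    (h2 : IsUnit (2 : S))
    (A : Type w) [Ring A] [Algebra S A] [Algebra R A] [IsScalarTower S R A]
    (A' : Type w') [Ring A'] [Algebra S A'] [Algebra R A'] [IsScalarTower S R A']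
    (n n' : ℕ) (hn : 0 < n) (hn' : 0 < n') (hA : AzInv.IsAzumayaDeg R A n) (hA' : AzInv.IsAzumayaDeg R A' n')
    (t : AzInv.LamInv R A lam) (t' : AzInv.LamInv R A' lam) :
    AzInv.SameType S lam t t' ↔
      ∀ q : PrimeSpectrum R, (∀ r : R, lam r - r ∈ q.asIdeal) →
        (Module.finrank q.asIdeal.ResidueField
            (Submodule.span q.asIdeal.ResidueField
              (Set.range fun a : {a : A // t a = a} => (1 : q.asIdeal.ResidueField) ⊗ₜ[R] (a : A))) = Nat.choose (n + 1) 2 ↔
          Module.finrank q.asIdeal.ResidueField
            (Submodule.span q.asIdeal.ResidueField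
              (Set.range fun a : {a : A' // t' a = a} => (1 : q.asIdeal.ResidueField) ⊗ₜ[R] (a : A'))) = Nat.choose (n' + 1) 2) := by
  refine ⟨fun h q hq => Groth.Agent.H23AzInv.orth_of_sameType hlam hfix h2 hn hn' hA hA' h q hq,
    fun h => ⟨n', n, hn', hn, ?_⟩⟩
  refine Groth.Agent.H23AzInv.main hlam hfix (Groth.Agent.H23AzInv.sqrtCover_of_isUnit_two h2) (Nat.mul_pos hn' hn)
    (Groth.Agent.H23AzInv.isAzumayaDeg_matrix hn' hA)
    (Nat.mul_comm n n' ▸ Groth.Agent.H23AzInv.isAzumayaDeg_matrix hn hA') _ _ fun q hq => Or.inr ⟨h2, ?_⟩
  rw [Groth.Agent.H23AzInv.orth_matrix hlam hfix h2 hn hn' hA q hq, Nat.mul_comm n' n,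
    Groth.Agent.H23AzInv.orth_matrix hlam hfix h2 hn' hn hA' q hq]
  exact h q hq

end Groth.Agent.S17361
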