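import Groth.Statements.S17363
import Mathlib.LinearAlgebra.Matrix.Determinant.Basic
import Mathlib.LinearAlgebra.Matrix.NonsingularInverse
import Mathlib.RingTheory.TensorProduct.Maps
import Mathlib.RingTheory.Localization.Away.Basic

set_option autoImplicit false
set_option maxHeartbeats 1600000
universe u v
open scoped TensorProduct
open RInv
open scoped TensorProduct

namespace Groth.Agent.S17363

theorem exists_congr_std {R : Type*} [CommRing R] (L : R →+* R) (a b d e q r ib iσ i2 : R)
    (hLL : L (L b) = b) (La : L a = -a) (Ld : L d = -d) (Lq : L q = q)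
    (hd' : d = e * (L b * b)) (hq2 : q * q = 1 + e * a) (hr : r * (1 + q) = 1)
    (hib : ib * b = 1) (hiσ : iσ * q = 1) (hi2 : i2 * 2 = 1) :
    ∃ v : Matrix (Fin 2) (Fin 2) R, IsUnit v ∧
      (v.map L).transpose * Matrix.of ![![a, b], ![-L b, d]] * v = Matrix.of ![![0, 1], ![-1, 0]] := by
  have Lr : L r = r := by
    have h1 := congrArg L hr
    rw [map_mul, map_add, map_one, Lq] at h1
    linear_combination r * h1 - (L r) * hr
  have hLib : L ib * L b = 1 := by rw [← map_mul, hib, map_one]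
  have Liq : L iσ = iσ := by
    have h1 := congrArg L hiσ
    rw [map_mul, Lq, map_one] at h1
    linear_combination iσ * h1 - (L iσ) * hiσ
  have Li2 : L i2 = i2 := by
    have h1 := congrArg L hi2
    rw [map_mul, map_ofNat, map_one] at h1
    linear_combination i2 * h1 - (L i2) * hi2
  have hLLib : L (L ib) = ib := by
    have h1 := congrArg L hLib
    rw [map_mul, hLL, map_one] at h1
    linear_combination ib * h1 - L (L ib) * hib
  obtain ⟨z, hz⟩ : ∃ z, z = -a * r * ib := ⟨_, rfl⟩
  have Lz : L z = a * r * L ib := by rw [hz, map_mul, map_mul, map_neg, La, Lr, neg_neg]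
  have hq0 : a + b * z + L z * (-L b + d * z) = 0 := by
    rw [Lz, hd', hz]
    linear_combination (-a - a * r * (q - 1)) * hr + (a * r ^ 2) * hq2 +
      (-(a * r) - a ^ 2 * r ^ 2 * e * (L ib * L b)) * hib + (-(a * r) - a ^ 2 * r ^ 2 * e) * hLib
  obtain ⟨κ, hκ⟩ : ∃ κ, κ = ib * iσ := ⟨_, rfl⟩
  have hβ : b + L z * d = b * q := by
    rw [Lz, hd']
    linear_combination (a * r * e * b) * hLib + (-(r * b)) * hq2 + (b * (q - 1)) * hr
  have hβκ : (b + L z * d) * κ = 1 := by
    rw [hβ, hκ]
    linear_combination (q * iσ) * hib + hiσ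
  have Lκ : L κ = L ib * iσ := by rw [hκ, map_mul, Liq]
  have hγ : L κ * (-L b + d * z) = -1 := by
    have h1 := congrArg L hβκ
    rw [map_mul, map_add, map_mul, Ld, Lz, map_mul, map_mul, La, Lr, hLLib, map_one] at h1
    rw [hz]
    linear_combination -h1
  obtain ⟨μ, hμ⟩ : ∃ μ, i2 * (L κ * d * κ) = μ := ⟨_, rfl⟩
  have Lμ : L μ = -μ := by
    rw [← hμ, Lκ, hκ, map_mul, map_mul, map_mul, map_mul, map_mul, Li2, hLLib, Liq, Ld]
    ring
  refine ⟨Matrix.of ![![1, μ], ![z, κ + μ * z]], ?_, ?_⟩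
  · rw [Matrix.isUnit_iff_isUnit_det, Matrix.det_fin_two]
    simpa using IsUnit.of_mul_eq_one_right _ hβκ
  ext k l
  fin_cases k <;> fin_cases l <;>
    simp [Matrix.mul_apply, Fin.sum_univ_two, map_add, map_mul, Lμ]
  · linear_combination hq0
  · linear_combination hβκ + μ * hq0
  · linear_combination hγ + (-μ) * hq0
  · linear_combination μ * hγ + (-μ) * hβκ + (-μ * μ) * hq0 - (L κ * d * κ) * hi2 + 2 * hμ


/-- Let `A` be a commutative ring with an involution `lam` whose fixed ring `B` is local; assume that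
`lam` is the identity modulo the Jacobson radical of `A`, that `2` is a unit of `A`, and that `h` is
an invertible `2 × 2` matrix over `A` with `h = -(lam h)ᵀ` whose entries are congruent modulo the
Jacobson radical to those of the matrix with rows `(0, 1)`, `(-1, 0)`. Then there are units `s, t`
of `B`, finitely many elements `f_i` of `B' = B[X, Y]/(X² - s, Y² - t)` (`B` with square roots of
`s` and `t` adjoined) that generate the unit ideal, and for every `i` an invertible `2 × 2` matrix
`v` over `B'_{f_i} ⊗_B A` (that is, `A` with the two square roots adjoined, localised at `f_i`;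
`lam` extends so as to fix the square roots) such that `(lam v)ᵀ h v` is the matrix with rows `(0,
1)`, `(-1, 0)`. (The published statement writes the congruence with the plain transpose `vᵀ h v`,
which fails in general: for a field `k` of characteristic not `2`, the ring `A` of formal power
series in `y` over `k`, with `B` its subring of series in `y²`, `lam y = -y` and `h` with rows `(y,
1)`, `(-1, y)`, satisfies every hypothesis, while `vᵀ h v` equal to the matrix with rows `(0, 1)`,
`(-1, 0)` would, added to its transpose, give `2y · vᵀ v = 0` and hence `det v = 0` over a nonzero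
ring in which `y` is not a zero divisor. The proof computes the Gram matrix of the hermitian form
`(a, b) ↦ (lam a)ᵀ h b` in a new basis, which is `(lam v)ᵀ h v`, and that is what is stated here.) -/
theorem result (B : Type u) (A : Type v) [CommRing B] [CommRing A]
    [Algebra B A] (lam : A ≃ₐ[B] A) (hlam : ∀ a, lam (lam a) = a) (hB : RInv.IsFixedRing B A lam.toRingEquiv)
    [IsLocalRing B] (hid : ∀ a : A, lam a - a ∈ Ring.jacobson A) (h2 : IsUnit (2 : A))
    (h : Matrix (Fin 2) (Fin 2) A) (hh : IsUnit h) (herm : -(h.map lam).transpose = h)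
    (hJ : ∀ i j : Fin 2, h i j - Matrix.of ![![(0 : A), 1], ![-1, 0]] i j ∈ Ring.jacobson A) :
    ∃ (s t : Bˣ) (r : ℕ) (f : Fin r → (MvPolynomial (Fin 2) B ⧸ Ideal.span ({MvPolynomial.X 0 ^ 2 - MvPolynomial.C (s : B), MvPolynomial.X 1 ^ 2 - MvPolynomial.C (t : B)} : Set (MvPolynomial (Fin 2) B)))),
      Ideal.span (Set.range f) = ⊤ ∧
      ∀ i : Fin r, ∃ v : Matrix (Fin 2) (Fin 2) (Localization.Away (f i) ⊗[B] A), IsUnit v ∧
        (v.map (Algebra.TensorProduct.congr (AlgEquiv.refl : Localization.Away (f i) ≃ₐ[Localization.Away (f i)] Localization.Away (f i)) lam)).transpose * h.map (Algebra.TensorProduct.includeRight : A →ₐ[B] Localization.Away (f i) ⊗[B] A) * v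
          = (Matrix.of ![![(0 : A), 1], ![-1, 0]]).map (Algebra.TensorProduct.includeRight : A →ₐ[B] Localization.Away (f i) ⊗[B] A) := by
  classical
  obtain ⟨hinj, hfix⟩ := hB
  have hunit : ∀ x : B, IsUnit (algebraMap B A x) → IsUnit x := fun x hx => by
    obtain ⟨y, hy⟩ := hx.exists_right_inv
    have hyf : lam y = y := hx.mul_left_cancel (by
      rw [hy, ← AlgEquiv.commutes lam x, ← map_mul, hy, map_one])
    obtain ⟨y', rfl⟩ := (hfix y).1 hyf
    exact IsUnit.of_mul_eq_one y' (hinj (by rw [map_mul, hy, map_one]))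
  have hone : ∀ x : A, x - 1 ∈ Ring.jacobson A → IsUnit x := fun x hx =>
    Ideal.isUnit_of_sub_one_mem_jacobson_bot x (by rwa [Ideal.jacobson_bot] )
  have hLa : lam (h 0 0) = -h 0 0 := by
    have := congrFun (congrFun herm 0) 0
    simp at this
    exact neg_eq_iff_eq_neg.1 this
  have hLd : lam (h 1 1) = -h 1 1 := by
    have := congrFun (congrFun herm 1) 1
    simp at this
    exact neg_eq_iff_eq_neg.1 this
  have hc : h 1 0 = -lam (h 0 1) := by
    have := congrFun (congrFun herm 1) 0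
    simp at this
    exact this.symm
  have hb : IsUnit (h 0 1) := hone _ (by simpa using hJ 0 1)
  have hN : IsUnit (lam (h 0 1) * h 0 1) := (hb.map lam).mul hb
  obtain ⟨iN, hiN⟩ := hN.exists_left_inv
  have hLiN : lam iN = iN := by
    refine hN.mul_right_cancel ?_
    rw [hiN]
    have := congrArg lam hiN
    rwa [map_mul, map_mul, hlam, mul_comm (h 0 1), map_one] at this
  obtain ⟨s₀, hs₀⟩ := (hfix (1 + iN * h 1 1 * h 0 0)).1 (by
    simp [hLa, hLd, hLiN])
  have hs : IsUnit s₀ := hunit _ (hone _ (by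
    rw [hs₀, add_sub_cancel_left]
    exact (Ring.jacobson A).mul_mem_left _ (by simpa using hJ 0 0)))
  have h2B : IsUnit (2 : B) := hunit _ (by rwa [map_ofNat])
  let Q := MvPolynomial (Fin 2) B ⧸ Ideal.span ({MvPolynomial.X 0 ^ 2 - MvPolynomial.C (hs.unit : B),
    MvPolynomial.X 1 ^ 2 - MvPolynomial.C ((1 : Bˣ) : B)} : Set (MvPolynomial (Fin 2) B))
  let ρ : Q := Ideal.Quotient.mk _ (MvPolynomial.X 0)
  have hρ : ρ * ρ = algebraMap B Q s₀ := by
    rw [← sq, ← sub_eq_zero]
    change Ideal.Quotient.mk _ (MvPolynomial.X 0 ^ 2 - MvPolynomial.C s₀) = 0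
    exact Ideal.Quotient.eq_zero_iff_mem.2 (Ideal.subset_span (Set.mem_insert _ _))
  refine ⟨hs.unit, 1, 2, ![1 + ρ, 1 - ρ], ?_, fun i => ?_⟩
  · refine Ideal.eq_top_of_isUnit_mem _ (x := (2 : Q)) ?_ (map_ofNat (algebraMap B Q) 2 ▸ h2B.map (algebraMap B Q))
    rw [show (2 : Q) = (1 + ρ) + (1 - ρ) by ring]
    exact add_mem (Ideal.subset_span ⟨0, rfl⟩) (Ideal.subset_span ⟨1, rfl⟩)
  obtain ⟨σ, hσ, hσ'⟩ : ∃ σ : Q, σ * σ = algebraMap B Q s₀ ∧ ![1 + ρ, 1 - ρ] i = 1 + σ := by
    fin_cases i
    · exact ⟨ρ, hρ, rfl⟩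
    · exact ⟨-ρ, by linear_combination hρ, by simp [sub_eq_add_neg]⟩
  let S := Localization.Away (![1 + ρ, 1 - ρ] i)
  let L : S ⊗[B] A →+* S ⊗[B] A :=
    (Algebra.TensorProduct.congr (AlgEquiv.refl : S ≃ₐ[S] S) lam).toAlgHom.toRingHom
  let jA : A →+* S ⊗[B] A := (Algebra.TensorProduct.includeRight : A →ₐ[B] S ⊗[B] A).toRingHom
  let jQ : Q →+* S ⊗[B] A := (Algebra.TensorProduct.includeLeftRingHom : S →+* S ⊗[B] A).comp (algebraMap Q S)
  have hLA : ∀ x, L (jA x) = jA (lam x) := fun x => by simp [L, jA]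
  have hLQ : ∀ x, L (jQ x) = jQ x := fun x => by simp [L, jQ]
  have hBQ : ∀ x : B, jQ (algebraMap B Q x) = jA (algebraMap B A x) := fun x => by
    change algebraMap Q S (algebraMap B Q x) ⊗ₜ[B] (1 : A) = (1 : S) ⊗ₜ[B] algebraMap B A x
    rw [← IsScalarTower.algebraMap_apply, Algebra.algebraMap_eq_smul_one, Algebra.algebraMap_eq_smul_one,
      TensorProduct.smul_tmul]
  obtain ⟨r, hr⟩ : ∃ r, r * (1 + jQ σ) = 1 := by
    refine (?_ : IsUnit (1 + jQ σ)).exists_left_inv
    rw [← map_one jQ, ← map_add, ← hσ']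
    exact (IsLocalization.Away.algebraMap_isUnit (S := S) (![1 + ρ, 1 - ρ] i)).map
      Algebra.TensorProduct.includeLeftRingHom
  obtain ⟨ib, hib⟩ := (hb.map jA).exists_left_inv
  obtain ⟨iσ, hiσ⟩ : ∃ iσ, iσ * jQ σ = 1 := by
    refine (isUnit_of_mul_isUnit_left (y := jQ σ) ?_).exists_left_inv
    rw [← map_mul, hσ, hBQ]
    exact (hs.map (algebraMap B A)).map jA
  obtain ⟨i2, hi2⟩ := (h2.map jA).exists_left_inv
  rw [map_ofNat] at hi2
  obtain ⟨v, hv, hv'⟩ := exists_congr_std L (jA (h 0 0)) (jA (h 0 1)) (jA (h 1 1))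
    (jA (iN * h 1 1)) (jQ σ) r ib iσ i2
    (by rw [hLA, hLA, hlam]) (by rw [hLA, hLa, map_neg]) (by rw [hLA, hLd, map_neg]) (hLQ σ)
    (by rw [hLA, ← map_mul, ← map_mul]; congr 1; linear_combination (-(h 1 1)) * hiN)
    (by rw [← map_mul, hσ, hBQ, hs₀, map_add, map_one, map_mul]) hr hib hiσ hi2
  refine ⟨v, hv, ?_⟩
  change (Matrix.map v L).transpose * h.map jA * v = (Matrix.of _).map jA
  rw [hLA] at hv'
  convert hv' using 1
  · congr 2
    ext k l
    fin_cases k <;> fin_cases l <;> simp [hc, map_neg]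
  · ext k l
    fin_cases k <;> fin_cases l <;> simp

end Groth.Agent.S17363
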