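import Groth.Statements.S17364
import Groth.Agent.H23RInvSpread.Descend
import Mathlib.RingTheory.Localization.AtPrime.Basic
import Mathlib.RingTheory.Localization.Away.Basic
import Mathlib.RingTheory.Localization.Ideal
import Mathlib.RingTheory.MvPolynomial.Basic

set_option autoImplicit false
universe u v
open scoped TensorProduct
open RInv

namespace Groth.Agent.S17364

theorem exists_away_congr {B : Type u} {A : Type v} [CommRing B] [CommRing A] [Algebra B A]
    (lam : A ≃ₐ[B] A) {n : ℕ} (h h' : Matrix (Fin n) (Fin n) A)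
    {Q : Type u} [CommRing Q] [Algebra B Q] {R : Type u} [CommRing R] [Algebra B R]
    (θ : Q →ₐ[B] R) (x : Q) (hx : IsUnit (θ x))
    (hv : ∀ (C : Type u) [CommRing C] [Algebra B C] [Algebra Q C] [IsScalarTower B Q C]
      [IsLocalization.Away x C], Groth.Agent.H23RInvSpread.Congr lam h h' C) :
    ∃ (C : Type u) (_ : CommRing C) (_ : Algebra B C) (_ : C →ₐ[B] R),
      Groth.Agent.H23RInvSpread.Congr lam h h' C :=
  ⟨Localization.Away x, inferInstance, inferInstance,
    { IsLocalization.Away.lift (g := θ.toRingHom) x hx with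
      commutes' := fun c => by
        change IsLocalization.Away.lift (g := θ.toRingHom) x hx (algebraMap B _ c) = _
        rw [IsScalarTower.algebraMap_apply B Q (Localization.Away x), IsLocalization.Away.lift_eq]
        exact θ.commutes c }, hv _⟩

theorem isUnit_left {R : Type*} [CommRing R] {x y : R} (h : IsUnit (x * y)) : IsUnit x :=
  isUnit_of_mul_isUnit_left h

/-- Let `A` be a commutative ring with an involution `lam` whose fixed ring is `B`, let `ε = ±1`, and
let `h, h'` be invertible `n × n` matrices over `A` with `h = ε (lam h)ᵀ` and `h' = ε (lam h')ᵀ`.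
Let `p` be a prime of `B` and suppose there are units `s_1, …, s_l` of the local ring `B_p`,
elements `f_1, …, f_r` of `B_p[X_1, …, X_l]/(X_k² - s_k)` (square roots of the `s_k` adjoined)
generating the unit ideal, and for each `i` an invertible matrix `v` over `C ⊗_B A` for the
localisation `C` of that ring at `f_i` (any `B`-algebra with the universal property of that
localisation) (`lam` extended so as to fix the square roots and `B_p`) with `(lam v)ᵀ h v = h'`.
Then there is `b ∉ p` in `B` such that the same kind of data exists with `B_p` replaced by `B_b`: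
units of `B_b`, a finite family generating the unit ideal of `B_b[X_1, …, X_l]/(X_k² - s_k)`, and
invertible matrices over the corresponding localisations tensored with `A` congruating `h` to `h'`. -/
theorem result (B : Type u) (A : Type v) [CommRing B] [CommRing A]
    [Algebra B A] (lam : A ≃ₐ[B] A) (hlam : ∀ a, lam (lam a) = a) (hB : RInv.IsFixedRing B A lam.toRingEquiv)
    (n : ℕ) (ε : A) (hε : ε = 1 ∨ ε = -1) (h h' : Matrix (Fin n) (Fin n) A) (hh : IsUnit h) (hh' : IsUnit h')
    (herm : ε • (h.map lam).transpose = h) (herm' : ε • (h'.map lam).transpose = h')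
    (p : Ideal B) [p.IsPrime]
    (hdata : (∃ (l : ℕ) (s : Fin l → (Localization.AtPrime p)ˣ) (r : ℕ) (f : Fin r → (MvPolynomial (Fin l) (Localization.AtPrime p) ⧸ Ideal.span (Set.range fun k : Fin l => MvPolynomial.X k ^ 2 - MvPolynomial.C (s k : Localization.AtPrime p)))),
        Ideal.span (Set.range f) = ⊤ ∧
        ∀ (i : Fin r) (C : Type u) [CommRing C] [Algebra B C]
          [Algebra (MvPolynomial (Fin l) (Localization.AtPrime p) ⧸ Ideal.span (Set.range fun k : Fin l => MvPolynomial.X k ^ 2 - MvPolynomial.C (s k : Localization.AtPrime p))) C]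
          [IsScalarTower B (MvPolynomial (Fin l) (Localization.AtPrime p) ⧸ Ideal.span (Set.range fun k : Fin l => MvPolynomial.X k ^ 2 - MvPolynomial.C (s k : Localization.AtPrime p))) C]
          [IsLocalization.Away (f i) C],
          ∃ v : Matrix (Fin n) (Fin n) (C ⊗[B] A), IsUnit v ∧
            (v.map (Algebra.TensorProduct.congr (AlgEquiv.refl : C ≃ₐ[C] C) lam)).transpose * h.map (Algebra.TensorProduct.includeRight : A →ₐ[B] C ⊗[B] A) * v = h'.map (Algebra.TensorProduct.includeRight : A →ₐ[B] C ⊗[B] A))) :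
    ∃ b : B, b ∉ p ∧
      (∃ (l : ℕ) (s : Fin l → (Localization.Away b)ˣ) (r : ℕ) (f : Fin r → (MvPolynomial (Fin l) (Localization.Away b) ⧸ Ideal.span (Set.range fun k : Fin l => MvPolynomial.X k ^ 2 - MvPolynomial.C (s k : Localization.Away b)))),
        Ideal.span (Set.range f) = ⊤ ∧
        ∀ (i : Fin r) (C : Type u) [CommRing C] [Algebra B C]
          [Algebra (MvPolynomial (Fin l) (Localization.Away b) ⧸ Ideal.span (Set.range fun k : Fin l => MvPolynomial.X k ^ 2 - MvPolynomial.C (s k : Localization.Away b))) C]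
          [IsScalarTower B (MvPolynomial (Fin l) (Localization.Away b) ⧸ Ideal.span (Set.range fun k : Fin l => MvPolynomial.X k ^ 2 - MvPolynomial.C (s k : Localization.Away b))) C]
          [IsLocalization.Away (f i) C],
          ∃ v : Matrix (Fin n) (Fin n) (C ⊗[B] A), IsUnit v ∧
            (v.map (Algebra.TensorProduct.congr (AlgEquiv.refl : C ≃ₐ[C] C) lam)).transpose * h.map (Algebra.TensorProduct.includeRight : A →ₐ[B] C ⊗[B] A) * v = h'.map (Algebra.TensorProduct.includeRight : A →ₐ[B] C ⊗[B] A)) := by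
  classical
  obtain ⟨l, s, r, f, hf, hv⟩ := hdata
  let M := p.primeCompl
  choose am hs using fun k => IsLocalization.surj M (s k : (Localization.AtPrime p))
  have ha : ∀ k, (am k).1 ∈ M := fun k => by
    rw [← IsLocalization.AtPrime.isUnit_to_map_iff (Localization.AtPrime p) p, ← hs k]
    exact (s k).isUnit.mul (IsLocalization.map_units (Localization.AtPrime p) (am k).2)
  let J : Ideal (MvPolynomial (Fin l) B) := Ideal.span (Set.range fun k : Fin l =>
    MvPolynomial.X k ^ 2 * MvPolynomial.C ((am k).2 : B) - MvPolynomial.C (am k).1)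
  let π : (MvPolynomial (Fin l) B) →+* (MvPolynomial (Fin l) B) ⧸ J := Ideal.Quotient.mk J
  let πp : MvPolynomial (Fin l) (Localization.AtPrime p) →+* _ := Ideal.Quotient.mk (Ideal.span (Set.range fun k : Fin l =>
    MvPolynomial.X k ^ 2 - MvPolynomial.C (s k : (Localization.AtPrime p))))
  let mp : (MvPolynomial (Fin l) B) →+* MvPolynomial (Fin l) (Localization.AtPrime p) := MvPolynomial.map (algebraMap B (Localization.AtPrime p))
  -- clear denominators of the `f i`
  have hnum : ∀ x : MvPolynomial (Fin l) (Localization.AtPrime p), ∃ u ∈ M, ∃ F : (MvPolynomial (Fin l) B),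
      mp F = x * MvPolynomial.C (algebraMap B (Localization.AtPrime p) u) := by
    intro x
    induction x using MvPolynomial.induction_on with
    | C c =>
      obtain ⟨⟨a, u⟩, hau⟩ := IsLocalization.surj M c
      exact ⟨u, u.2, MvPolynomial.C a, by simp [mp, ← hau]⟩
    | add x y hx hy =>
      obtain ⟨u, hu, F, hF⟩ := hx
      obtain ⟨u', hu', F', hF'⟩ := hy
      refine ⟨u * u', mul_mem hu hu', F * MvPolynomial.C u' + F' * MvPolynomial.C u, ?_⟩
      simp only [map_add, map_mul, hF, hF', mp, MvPolynomial.map_C]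
      ring
    | mul_X x k hx =>
      obtain ⟨u, hu, F, hF⟩ := hx
      refine ⟨u, hu, F * MvPolynomial.X k, ?_⟩
      simp only [map_mul, hF, mp, MvPolynomial.map_X]
      ring
  choose pl hpl using fun i => Ideal.Quotient.mk_surjective (f i)
  choose u hu F hF using fun i => hnum (pl i)
  have hBT : ∀ x : B, algebraMap B ((MvPolynomial (Fin l) B) ⧸ J) x = π (MvPolynomial.C x) := fun x => rfl
  -- maps out of the ring over `B_p`
  have hθ : ∀ (R : Type u) [CommRing R] [Algebra B R] (t : ((MvPolynomial (Fin l) B) ⧸ J) →ₐ[B] R),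
      (∀ m ∈ M, IsUnit (algebraMap B R m)) → ∃ θ :
      (MvPolynomial (Fin l) (Localization.AtPrime p) ⧸ Ideal.span (Set.range fun k : Fin l =>
        MvPolynomial.X k ^ 2 - MvPolynomial.C (s k : (Localization.AtPrime p)))) →ₐ[B] R,
        ∀ G : (MvPolynomial (Fin l) B), θ (πp (mp G)) = t (π G) := by
    intro R _ _ t ht
    let θ₀ : (Localization.AtPrime p) →+* R := IsLocalization.lift (M := M) fun m => ht m m.2
    let E : MvPolynomial (Fin l) (Localization.AtPrime p) →+* R :=
      MvPolynomial.eval₂Hom θ₀ fun k => t (π (MvPolynomial.X k))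
    have hE : ∀ G, E (mp G) = t (π G) := fun G => by
      refine RingHom.congr_fun (f := E.comp mp) (g := t.toRingHom.comp π) ?_ G
      refine MvPolynomial.ringHom_ext (fun c => ?_) fun k => by simp [E, mp]
      have h1 : t (π (MvPolynomial.C c)) = algebraMap B R c := by rw [← hBT]; exact t.commutes c
      simp [E, mp, θ₀, h1]
    have hker : ∀ x ∈ Ideal.span (Set.range fun k : Fin l =>
        MvPolynomial.X k ^ 2 - MvPolynomial.C (s k : (Localization.AtPrime p))), E x = 0 := by
      intro x hx
      refine (Ideal.span_le (I := RingHom.ker E)).2 ?_ hx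
      rintro _ ⟨k, rfl⟩
      refine (ht _ (am k).2.2).mul_right_cancel ?_
      have h1 : t (π (MvPolynomial.X k ^ 2 * MvPolynomial.C ((am k).2 : B) -
          MvPolynomial.C (am k).1)) = 0 := by
        rw [show π _ = 0 from Ideal.Quotient.eq_zero_iff_mem.2 (Ideal.subset_span ⟨k, rfl⟩),
          map_zero]
      have hc : ∀ c, t (π (MvPolynomial.C c)) = algebraMap B R c := fun c => by
        rw [← hBT]; exact t.commutes c
      have h2 : θ₀ (s k : (Localization.AtPrime p)) * algebraMap B R ((am k).2 : B) = algebraMap B R (am k).1 := by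
        have := congrArg θ₀ (hs k)
        rwa [map_mul, IsLocalization.lift_eq, IsLocalization.lift_eq] at this
      rw [map_sub, map_sub, map_mul, map_pow, map_mul, map_pow, hc, hc] at h1
      simp only [E, map_sub, map_pow, MvPolynomial.eval₂Hom_X', MvPolynomial.eval₂Hom_C]
      linear_combination h1 - h2
    refine ⟨AlgHom.mk' (R := B) (Ideal.Quotient.lift _ E hker) fun c x => ?_, fun G => ?_⟩
    · rw [Algebra.smul_def, map_mul, Algebra.smul_def]
      congr 1
      change E (algebraMap B (MvPolynomial (Fin l) (Localization.AtPrime p)) c) = _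
      rw [IsScalarTower.algebraMap_apply B (Localization.AtPrime p) (MvPolynomial (Fin l) (Localization.AtPrime p))]
      simp [E, θ₀, MvPolynomial.algebraMap_eq]
    · exact hE G
  have hfθ : ∀ i (R : Type u) [CommRing R] [Algebra B R] (t : ((MvPolynomial (Fin l) B) ⧸ J) →ₐ[B] R)
      (θ : (MvPolynomial (Fin l) (Localization.AtPrime p) ⧸ Ideal.span (Set.range fun k : Fin l =>
        MvPolynomial.X k ^ 2 - MvPolynomial.C (s k : (Localization.AtPrime p)))) →ₐ[B] R),
      (∀ G : (MvPolynomial (Fin l) B), θ (πp (mp G)) = t (π G)) → θ (f i) * algebraMap B R (u i) = t (π (F i)) := by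
    intro i R _ _ t θ hθ'
    rw [← hθ', hF, ← hpl i, ← θ.commutes, ← map_mul]
    rfl
  -- the unit ideal is already generated over some `B_b`
  let SM : Submonoid ((MvPolynomial (Fin l) B) ⧸ J) := M.map (algebraMap B ((MvPolynomial (Fin l) B) ⧸ J))
  obtain ⟨m₀, hm₀, hm₀'⟩ : ∃ m ∈ M, algebraMap B ((MvPolynomial (Fin l) B) ⧸ J) m ∈ Ideal.span (Set.range fun i => π (F i)) := by
    have hMR : ∀ m ∈ M, IsUnit (algebraMap B (Localization SM) m) := fun m hm => by
      rw [IsScalarTower.algebraMap_apply B ((MvPolynomial (Fin l) B) ⧸ J) (Localization SM)]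
      exact IsLocalization.map_units (Localization SM) (⟨_, Submonoid.mem_map_of_mem _ hm⟩ : SM)
    obtain ⟨θ, hθ'⟩ := hθ (Localization SM) (IsScalarTower.toAlgHom B ((MvPolynomial (Fin l) B) ⧸ J) (Localization SM)) hMR
    have h1 : (1 : (Localization SM)) ∈ Ideal.map (algebraMap ((MvPolynomial (Fin l) B) ⧸ J) (Localization SM)) (Ideal.span (Set.range fun i => π (F i))) := by
      have h2 : (1 : (Localization SM)) ∈ Ideal.map θ.toRingHom (Ideal.span (Set.range f)) := by
        rw [hf, Ideal.map_top]; trivial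
      refine (?_ : Ideal.map θ.toRingHom (Ideal.span (Set.range f)) ≤ _) h2
      rw [Ideal.map_span, Ideal.span_le]
      rintro _ ⟨_, ⟨i, rfl⟩, rfl⟩
      refine (Ideal.mul_unit_mem_iff_mem (α := Localization SM) _ (y := algebraMap B (Localization SM) (u i)) ?_).1 ?_
      · exact hMR _ (hu i)
      change θ (f i) * _ ∈ _
      rw [hfθ i (Localization SM) _ θ hθ']
      exact Ideal.mem_map_of_mem _ (Ideal.subset_span ⟨i, rfl⟩)
    obtain ⟨⟨x, σ⟩, hxσ⟩ := (IsLocalization.mem_map_algebraMap_iff SM (Localization SM)).1 h1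
    rw [one_mul] at hxσ
    obtain ⟨c, hc⟩ := IsLocalization.exists_of_eq (M := SM) (S := Localization SM) hxσ
    obtain ⟨m, hm, e⟩ := (c * σ).2
    exact ⟨m, hm, by rw [e, Submonoid.coe_mul, hc]; exact Ideal.mul_mem_left _ _ x.2⟩
  -- each congruence descends
  have hdesc : ∀ i, ∃ m ∈ M, ∃ N : ℕ, ∀ (C : Type u) [CommRing C] [Algebra B C] (χ : ((MvPolynomial (Fin l) B) ⧸ J) →ₐ[B] C),
      IsUnit (algebraMap B C m) → IsUnit (χ (π (F i))) →
      Groth.Agent.H23RInvSpread.Congr lam h h' C := by
    intro i
    let S := SM ⊔ Submonoid.powers (π (F i))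
    have hMR : ∀ m ∈ M, IsUnit (algebraMap B (Localization S) m) := fun m hm => by
      rw [IsScalarTower.algebraMap_apply B ((MvPolynomial (Fin l) B) ⧸ J) (Localization S)]
      exact IsLocalization.map_units (Localization S)
        (⟨_, Submonoid.mem_sup_left (Submonoid.mem_map_of_mem _ hm)⟩ : S)
    obtain ⟨θ, hθ'⟩ := hθ (Localization S) (IsScalarTower.toAlgHom B ((MvPolynomial (Fin l) B) ⧸ J) (Localization S)) hMR
    have hfu : IsUnit (θ.toRingHom (f i)) := by
      suffices hu' : IsUnit (θ (f i) * algebraMap B (Localization S) (u i)) by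
        exact isUnit_left (R := Localization S) hu'
      rw [hfθ i (Localization S) _ θ hθ']
      exact IsLocalization.map_units (Localization S)
        (⟨_, Submonoid.mem_sup_right (Submonoid.mem_powers _)⟩ : S)
    obtain ⟨Cp, _, _, g, hCp⟩ := exists_away_congr (R := Localization S) (Q := MvPolynomial (Fin l) (Localization.AtPrime p) ⧸ Ideal.span (Set.range fun k : Fin l => MvPolynomial.X k ^ 2 - MvPolynomial.C (s k : Localization.AtPrime p))) lam h h' θ (f i) hfu (hv i)
    obtain ⟨σ, hσ, hC⟩ :=
      Groth.Agent.H23RInvSpread.exists_congr_of_localization lam h h' S g hCp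
    obtain ⟨_, ⟨m, hm, rfl⟩, _, ⟨N, rfl⟩, rfl⟩ := Submonoid.mem_sup.1 hσ
    refine ⟨m, hm, N, fun C _ _ χ hCm hCF => hC C χ ?_⟩
    rw [map_mul, map_pow, AlgHom.commutes]
    exact hCm.mul (hCF.pow N)
  choose m hm N hC using hdesc
  let b : B := (∏ k, (am k).1 * (am k).2) * m₀ * ∏ i, m i
  have hb : b ∈ M := mul_mem (mul_mem (prod_mem fun k _ => mul_mem (ha k) (am k).2.2) hm₀)
    (prod_mem fun i _ => hm i)
  have hdu : ∀ c, c ∣ b → IsUnit (algebraMap B (Localization.Away b) c) := fun c hc =>
    isUnit_of_dvd_unit (map_dvd _ hc) (IsLocalization.Away.algebraMap_isUnit b)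
  have hk : ∀ k, (am k).1 * (am k).2 ∣ b := fun k =>
    dvd_mul_of_dvd_left (dvd_mul_of_dvd_left (Finset.dvd_prod_of_mem _ (Finset.mem_univ k)) _) _
  let sb : Fin l → (Localization.Away b)ˣ := fun k =>
    (hdu _ (dvd_trans (dvd_mul_right _ _) (hk k))).unit *
      (hdu _ (dvd_trans (dvd_mul_left _ _) (hk k))).unit⁻¹
  have hsb : ∀ k, (sb k : (Localization.Away b)) * algebraMap B (Localization.Away b) ((am k).2 : B) = algebraMap B (Localization.Away b) (am k).1 :=
    fun k => by
      simp only [sb, Units.val_mul, mul_assoc, IsUnit.val_inv_mul, mul_one, IsUnit.unit_spec]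
  let Jb : Ideal (MvPolynomial (Fin l) (Localization.Away b)) := Ideal.span (Set.range fun k : Fin l =>
    MvPolynomial.X k ^ 2 - MvPolynomial.C (sb k : (Localization.Away b)))
  let πb : MvPolynomial (Fin l) (Localization.Away b) →+* MvPolynomial (Fin l) (Localization.Away b) ⧸ Jb := Ideal.Quotient.mk Jb
  let τ₀ : (MvPolynomial (Fin l) B) →+* MvPolynomial (Fin l) (Localization.Away b) ⧸ Jb := πb.comp (MvPolynomial.map (algebraMap B (Localization.Away b)))
  have hτ₀ : ∀ x ∈ J, τ₀ x = 0 := by
    intro x hx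
    refine (Ideal.span_le (I := RingHom.ker τ₀)).2 ?_ hx
    rintro _ ⟨k, rfl⟩
    refine Ideal.Quotient.eq_zero_iff_mem.2 ?_
    simp only [map_sub, map_mul, map_pow, MvPolynomial.map_X, MvPolynomial.map_C, ← hsb k]
    rw [← sub_mul]
    exact Ideal.mul_mem_right _ _ (Ideal.subset_span ⟨k, rfl⟩)
  let τ : ((MvPolynomial (Fin l) B) ⧸ J) →ₐ[B] MvPolynomial (Fin l) (Localization.Away b) ⧸ Jb :=
    { Ideal.Quotient.lift J τ₀ hτ₀ with
      commutes' := fun c => by
        change πb (MvPolynomial.map (algebraMap B (Localization.Away b)) (MvPolynomial.C c)) = _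
        rw [MvPolynomial.map_C]
        rfl }
  refine ⟨b, hb, l, sb, r, fun i => τ (π (F i)), ?_, fun i C _ _ _ _ _ => ?_⟩
  · refine Ideal.eq_top_of_isUnit_mem _ (x := τ (algebraMap B ((MvPolynomial (Fin l) B) ⧸ J) m₀)) ?_ ?_
    · have h1 := Ideal.mem_map_of_mem τ.toRingHom hm₀'
      rw [Ideal.map_span, ← Set.range_comp] at h1
      exact h1
    · rw [AlgHom.commutes, IsScalarTower.algebraMap_apply B (Localization.Away b)]
      exact (hdu _ (dvd_mul_of_dvd_left (dvd_mul_left _ _) _)).map _
  · refine hC i C ((IsScalarTower.toAlgHom B (MvPolynomial (Fin l) (Localization.Away b) ⧸ Jb) C).comp τ) ?_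
      (IsLocalization.Away.algebraMap_isUnit ((fun i => τ (π (F i))) i))
    rw [IsScalarTower.algebraMap_apply B (MvPolynomial (Fin l) (Localization.Away b) ⧸ Jb) C,
      IsScalarTower.algebraMap_apply B (Localization.Away b) (MvPolynomial (Fin l) (Localization.Away b) ⧸ Jb)]
    exact ((hdu _ (dvd_mul_of_dvd_right (Finset.dvd_prod_of_mem _ (Finset.mem_univ i)) _)).map _).map _

end Groth.Agent.S17364
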