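import Groth.Statements.S17366
import Groth.Agent.H13CI.HartogsFree
import Groth.Agent.H13CI.FreeLocus
import Groth.Agent.H26Base.FibreReg

set_option autoImplicit false
universe u
open CategoryTheory CategoryTheory.Limits AlgebraicGeometry TopologicalSpace
open CInt

namespace Groth.Agent.S17366

/-- Let k be an algebraically closed field, X a smooth proper k-scheme admitting an ample invertible
sheaf, and S a locally Noetherian k-scheme. Let E be a coherent module on S ×_k X, flat over S,
whose restriction to every fibre {s} × X is torsion-free, let F be a finite locally free module on S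
×_k X, and let U be the largest open subset of S ×_k X over which E is finite locally free. Then
every homomorphism E|_U ⟶ F|_U is the restriction of a unique homomorphism E ⟶ F. (The published
statement also asserts the compatibility of this extension with base change along morphisms S' ⟶ S;
that clause is not restated here.) -/
theorem result
    (k : Type u) [Field k] [IsAlgClosed k] (S X : Scheme.{u})
    (b : S ⟶ Spec (CommRingCat.of k)) (a : X ⟶ Spec (CommRingCat.of k))
    [IsLocallyNoetherian S] [Smooth a] [IsProper a]
    (hproj : ∃ H : X.Modules, CohB1.IsAmple H)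
    (E F : (pullback b a).Modules) (hEcoh : Coh.IsCoh E)
    (hEfl : FlatMod.IsFlatOver (pullback.fst b a) E)
    (hEtf : ∀ s : ↥S, TorSh.IsTorsionFree
      ((Scheme.Modules.pullback ((pullback.fst b a).fiberι s)).obj E))
    (hF : FlatMod.IsFinLocFree F)
    (U : (pullback b a).Opens)
    (hU : ∀ x : ↥(pullback b a), x ∈ U ↔
      ∃ (V : (pullback b a).Opens) (n : ℕ), x ∈ V ∧ Nonempty (E.restrict V.ι ≅ FlatMod.freeMod (↑V) n))
    (ψ : E.restrict U.ι ⟶ F.restrict U.ι) :
    ∃! φ : E ⟶ F, (Scheme.Modules.restrictFunctor U.ι).map φ = ψ := by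
  haveI : IsLocallyNoetherian (pullback b a) := LocallyOfFiniteType.isLocallyNoetherian (pullback.fst b a)
  have hZ : Groth.Agent.H26Base.HartogsBig.HasPairsNhd U := fun z hz => by
    refine Groth.Agent.H26Base.FibreReg.exists_nhd_pair_of_smooth (pullback.fst b a) z ?_
    by_contra h
    refine hz ((hU z).2 (Groth.Agent.H13HartogsFree.exists_free_nhd (pullback.fst b a) E
      (Groth.Agent.H10Coh.isFP_of_isCoh E hEcoh) hEfl hEtf z ?_))
    push Not at h
    exact Order.le_of_lt_succ h
  haveI := Groth.Agent.H13HartogsFree.isIso_unit hF hZ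
  let adj := Scheme.Modules.restrictAdjunction U.ι
  have key : ∀ φ : E ⟶ F, φ ≫ adj.unit.app F = adj.homEquiv _ _ ((Scheme.Modules.restrictFunctor U.ι).map φ) := fun φ => by
    rw [Adjunction.homEquiv_unit, ← Adjunction.unit_naturality]
  refine ⟨adj.homEquiv _ _ ψ ≫ inv (adj.unit.app F), ?_, fun φ hφ => ?_⟩
  · apply (adj.homEquiv _ _).injective
    rw [← key, Category.assoc, IsIso.inv_hom_id, Category.comp_id]
  · rw [← hφ, ← key, Category.assoc, IsIso.hom_inv_id, Category.comp_id]

end Groth.Agent.S17366
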