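import Groth.Statements.S17367
import Groth.Agent.H24Def.Translate

set_option autoImplicit false
universe u
open scoped TensorProduct
open Deform

namespace Groth.Agent.S17367

/-- The affine computation, for a square-zero extension of Noetherian rings. Let A' be a Noetherian
ring, J an ideal with J·J = 0 and A = A'/J; let B' be a flat A'-algebra, B = B'/JB', I an ideal of B
with B/I flat over A, and I', I'' two ideals of B' with A'-flat quotients whose images in B are both
I (two deformations over A' of the closed subscheme V(I) of Spec B inside Spec B'). Then there is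
exactly one B'-linear map φ from I to (B/I) ⊗_{A'} J (that is, Hom_B(I, (B/I) ⊗_A J)) such that for
every x in I, all lifts x' in I' and x'' in I'' of x, and every z in B' ⊗_{A'} J whose image under
multiplication is x'' - x', the image of z in (B/I) ⊗_{A'} J equals φ(x). (The published statement
is global (X' a separated scheme over A') and does not assume X' flat over A'; this row is the
affine case X' = Spec B' and assumes B' flat over A'.) -/
theorem result (A' : Type u) [CommRing A'] [IsNoetherianRing A']
    (J : Ideal A') (hJ : J * J = ⊥) (B' : Type u) [CommRing B'] [Algebra A' B'] [Module.Flat A' B']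
    (I : Ideal (B' ⧸ J.map (algebraMap A' B')))
    [Module.Flat (A' ⧸ J) ((B' ⧸ J.map (algebraMap A' B')) ⧸ I)]
    (I' I'' : Ideal B') [Module.Flat A' (B' ⧸ I')] [Module.Flat A' (B' ⧸ I'')]
    (hI' : I'.map (Ideal.Quotient.mk (J.map (algebraMap A' B'))) = I)
    (hI'' : I''.map (Ideal.Quotient.mk (J.map (algebraMap A' B'))) = I) :
    ∃! φ : ↥I →ₗ[B'] (((B' ⧸ J.map (algebraMap A' B')) ⧸ I) ⊗[A'] ↥J),
      (∀ (x : (B' ⧸ J.map (algebraMap A' B'))) (hx : x ∈ I) (x' x'' : B'), x' ∈ I' → x'' ∈ I'' →
          Ideal.Quotient.mk (J.map (algebraMap A' B')) x' = x → Ideal.Quotient.mk (J.map (algebraMap A' B')) x'' = x →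
          ∀ z : B' ⊗[A'] ↥J, TensorProduct.rid A' B' (LinearMap.lTensor B' (Submodule.subtype J) z) = x'' - x' →
            LinearMap.rTensor ↥J (IsScalarTower.toAlgHom A' B' ((B' ⧸ J.map (algebraMap A' B')) ⧸ I)).toLinearMap z = φ ⟨x, hx⟩) := by
    exact Groth.Agent.H24Def.Translate.existsUnique_diff J I hJ hI' hI''

end Groth.Agent.S17367
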