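import Groth.Statements.S1737
import Groth.Agent.H4Depth.LocDepth
import Mathlib.RingTheory.Ideal.AssociatedPrime.Localization

set_option autoImplicit false
universe u
open LocCoh

namespace Groth.Agent.S1737

/-- Let A be a Noetherian ring, T ⊆ Spec A stable under specialization and M a finite A-module. There
are a finite A-module M' and a surjection M → M' which is bijective after localizing at every prime
outside T and such that M'_p has depth ≥ 1 over A_p for every p in T. (The source states this for
coherent modules on a Noetherian scheme, with uniqueness.) -/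
theorem result (A : Type u) [CommRing A] [IsNoetherianRing A] (T : Set (PrimeSpectrum A)) (hT : StableUnderSpecialization T) (M : Type u) [AddCommGroup M] [Module A M] [Module.Finite A M] : ∃ (M' : Type u) (_ : AddCommGroup M') (_ : Module A M') (_ : Module.Finite A M') (f : M →ₗ[A] M'), Function.Surjective f ∧ (∀ p : PrimeSpectrum A, p ∉ T → Function.Bijective (LocalizedModule.map p.asIdeal.primeCompl f)) ∧ ∀ p : PrimeSpectrum A, p ∈ T → 1 ≤ LocCoh.depth (Localization.AtPrime p.asIdeal) (LocalizedModule p.asIdeal.primeCompl M') := by
  let annE : M → Ideal A := fun m => LinearMap.ker (LinearMap.toSpanSingleton A M m)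
  have hann : ∀ (m : M) (a : A), a ∈ annE m ↔ a • m = 0 := fun m a => by simp [annE]
  let N : Submodule A M :=
    { carrier := {m | ∀ q : PrimeSpectrum A, annE m ≤ q.asIdeal → q ∈ T}
      zero_mem' := fun q hq => absurd (hq ((hann 0 1).mpr (one_smul A (0 : M))))
        ((Ideal.ne_top_iff_one _).mp q.2.ne_top)
      add_mem' := by
        intro a b ha hb q hq
        have h : annE a ⊓ annE b ≤ q.asIdeal := fun r hr => hq ((hann _ r).mpr (by
          rw [smul_add, (hann a r).mp hr.1, (hann b r).mp hr.2, add_zero]))
        rcases q.2.inf_le.mp h with h | h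
        · exact ha q h
        · exact hb q h
      smul_mem' := by
        intro c m hm q hq
        exact hm q fun r hr => hq ((hann _ r).mpr (by
          rw [smul_comm, (hann m r).mp hr, smul_zero])) }
  refine ⟨M ⧸ N, inferInstance, inferInstance, inferInstance, N.mkQ, N.mkQ_surjective, fun p hp => ⟨?_,
    LocalizedModule.map_surjective p.asIdeal.primeCompl _ N.mkQ_surjective⟩, fun p hp => ?_⟩
  · rw [injective_iff_map_eq_zero]
    intro z hz
    induction z using LocalizedModule.induction_on with
    | h m s =>
      rw [LocalizedModule.map_mk, ← LocalizedModule.zero_mk s, LocalizedModule.mk_eq] at hz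
      obtain ⟨c, hc⟩ := hz
      have hmem : (c * s : p.asIdeal.primeCompl).1 • m ∈ N := by
        rw [← Submodule.Quotient.mk_eq_zero, Submodule.Quotient.mk_smul]
        simpa [Submonoid.smul_def, mul_smul] using hc
      have hnot : ¬ annE ((c * s : p.asIdeal.primeCompl).1 • m) ≤ p.asIdeal :=
        fun h => hp (hmem p h)
      obtain ⟨d, hd, hdp⟩ := Set.not_subset.mp hnot
      rw [← LocalizedModule.zero_mk 1, LocalizedModule.mk_eq]
      refine ⟨⟨d, hdp⟩ * c * s, ?_⟩
      have := (hann _ d).mp hd
      simp only [Submonoid.smul_def, OneMemClass.coe_one, one_smul, smul_zero, Submonoid.coe_mul]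
      rw [mul_assoc, mul_smul]
      simpa using this
  · let L := Localization.AtPrime p.asIdeal
    let X := LocalizedModule p.asIdeal.primeCompl (M ⧸ N)
    by_contra hd
    by_cases hnt : IsLocalRing.maximalIdeal L • (⊤ : Submodule L X) = ⊤
    · exact hd (le_of_le_of_eq le_top (Groth.Agent.H4Depth.idealDepth_eq_top hnt).symm)
    obtain ⟨P, hP, hle⟩ := Groth.Agent.H4Depth.exists_associatedPrime_ge_of_no_regular
      (R := L) (M := X) (I := IsLocalRing.maximalIdeal L) (fun x hx hreg => hd
        ((Groth.Agent.H4Depth.one_le_idealDepth_iff hnt).mpr ⟨x, hx, hreg⟩))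
    have hPm : IsLocalRing.maximalIdeal L = P :=
      le_antisymm hle (IsLocalRing.le_maximalIdeal hP.isPrime.ne_top)
    have hass := Module.associatedPrimes.comap_mem_associatedPrimes_of_mem_associatedPrimes_of_isLocalizedModule_of_fg
      p.asIdeal.primeCompl (LocalizedModule.mkLinearMap p.asIdeal.primeCompl (M ⧸ N)) P hP
      (IsNoetherian.noetherian _)
    rw [← hPm, show (IsLocalRing.maximalIdeal L).comap (algebraMap A L) = p.asIdeal from Localization.AtPrime.under_maximalIdeal] at hass
    obtain ⟨-, x, hx⟩ := (Submodule.isAssociatedPrime_iff).mp hass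
    obtain ⟨m, rfl⟩ := N.mkQ_surjective x
    have key : ∀ a, a ∈ p.asIdeal ↔ a • m ∈ N := fun a => by
      rw [hx, Submodule.mem_colon_singleton, Submodule.mem_bot, ← map_smul]
      exact Submodule.Quotient.mk_eq_zero N
    have hmN : m ∈ N := by
      intro q hq
      by_contra hqT
      obtain ⟨a, hap, haq⟩ := Set.not_subset.mp
        (fun h => hqT (hT ((PrimeSpectrum.le_iff_specializes p q).mp h) hp))
      obtain ⟨s, hs, hsq⟩ := Set.not_subset.mp (fun h => hqT ((key a).mp hap q h))
      exact (q.2.mul_notMem hsq haq) (hq ((hann m _).mpr (by rw [mul_smul]; exact (hann _ s).mp hs)))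
    exact p.2.ne_top ((Ideal.eq_top_iff_one _).mpr ((key 1).mpr (by simpa using hmN)))

end Groth.Agent.S1737
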