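import Groth.Statements.S17372
import Groth.Agent.H24Algz.Algebraize

set_option autoImplicit false
set_option linter.style.haveILetI false
universe u
open CategoryTheory CategoryTheory.Limits
open Algz

attribute [-instance] CategoryTheory.catToReflQuiver

namespace Groth.Agent.S17372

/-- Functor form. Let k be an algebraically closed field and F a set-valued functor on commutative
k-algebras which preserves filtered colimits (limit preserving). Let R be a complete local
Noetherian k-algebra with residue field k and ξ an element of F(R) which is versal: for every
surjection π : B → B₀ of local Artinian k-algebras with residue field k, every k-algebra map g₀ : R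
→ B₀ and every y in F(B) whose image in F(B₀) is the image of ξ under g₀, there is a k-algebra map g
: R → B lifting g₀ along π with image of ξ equal to y. Then there exist a finitely generated
k-algebra A, a maximal ideal m of A with residue field k, an element η of F(A) and a ring
isomorphism α from R to the m-adic completion of A commuting with the scalars from k, such that for
every n, pushing ξ forward along the k-algebra map R → A/m^(n+1) obtained from α and the evaluation
of the completion gives the image of η under A → A/m^(n+1). (The published statement is for
limit-preserving prestacks over k-schemes; this row is stated for set-valued functors on k-algebras,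
with the residue field k that a formal deformation carries by definition made an explicit
hypothesis.) -/
theorem result (k : Type u) [Field k] [IsAlgClosed k]
    (F : CommAlgCat.{u} k ⥤ Type u)
    (hF : ∀ (J : Type u) [SmallCategory J] [IsFiltered J], PreservesColimitsOfShape J F)
    (R : Type u) [CommRing R] [Algebra k R] [IsLocalRing R] [IsNoetherianRing R]
    [IsAdicComplete (IsLocalRing.maximalIdeal R) R]
    (hres : Function.Surjective (fun c : k => IsLocalRing.residue R (algebraMap k R c)))
    (ξ : F.obj (CommAlgCat.of k R))
    (hvers : ∀ (B B₀ : Type u) [CommRing B] [Algebra k B] [IsLocalRing B] [IsArtinianRing B]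
        [CommRing B₀] [Algebra k B₀] [IsLocalRing B₀] [IsArtinianRing B₀],
        Function.Surjective (fun c : k => IsLocalRing.residue B (algebraMap k B c)) →
        ∀ (π : B →ₐ[k] B₀), Function.Surjective π →
          ∀ (g₀ : R →ₐ[k] B₀) (y : F.obj (CommAlgCat.of k B)),
            F.map (CommAlgCat.ofHom π) y = F.map (CommAlgCat.ofHom g₀) ξ →
              ∃ g : R →ₐ[k] B, π.comp g = g₀ ∧ F.map (CommAlgCat.ofHom g) ξ = y) :
    ∃ (A : Type u) (_ : CommRing A) (_ : Algebra k A) (_ : Algebra.FiniteType k A)
      (m : Ideal A) (_ : m.IsMaximal)
      (_ : Function.Surjective (fun c : k => Ideal.Quotient.mk m (algebraMap k A c)))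
      (η : F.obj (CommAlgCat.of k A))
      (α : R ≃+* AdicCompletion m A),
      (∀ c : k, α (algebraMap k R c) = algebraMap A (AdicCompletion m A) (algebraMap k A c)) ∧
      ∀ (n : ℕ) (ψ : R →ₐ[k] A ⧸ m ^ (n + 1)),
        ψ.toRingHom = (AdicCompletion.evalₐ m (n + 1) :
            AdicCompletion m A →ₐ[A] A ⧸ m ^ (n + 1)).toRingHom.comp α.toRingHom →
          F.map (CommAlgCat.ofHom ψ) ξ = F.map (CommAlgCat.ofHom (Ideal.Quotient.mkₐ k (m ^ (n + 1)))) η := by
  exact Groth.Agent.H24Algz.exists_algebraization F hF R hres ξ hvers

end Groth.Agent.S17372
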