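import Groth.Statements.S17374
import Groth.Agent.H22Alg.VolNum

set_option autoImplicit false
universe u
open CategoryTheory CategoryTheory.Limits AlgebraicGeometry
open scoped ENNReal
open Variety

namespace Groth.Agent.S17374

/-- Let X be a geometrically integral scheme of dimension d, proper over a field k and admitting an
ample invertible module, and let L, N be invertible modules on X with N numerically trivial (degree
zero on every integral closed one-dimensional subscheme). Then the upper limits of dim_k H^0(X, (L ⊗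
N)^m) / m^d and of dim_k H^0(X, L^m) / m^d as m → ∞, taken in the extended non-negative reals,
agree; that is, the volume of an invertible module depends only on its numerical equivalence class. -/
theorem result (k : Type u) [Field k] (X : Scheme.{u})
    [X.Over (Spec (CommRingCat.of k))] [IsIntegral X] [GeometricallyIntegral (X ↘ Spec (CommRingCat.of k))]
    [IsProper (X ↘ Spec (CommRingCat.of k))]
    (hproj : ∃ A : X.Modules, CohB1.IsAmple A) (d : ℕ) (hd : topologicalKrullDim X = d)
    (L N : X.Modules) (hL : PicF.IsInvertible L) (hN : PicF.IsInvertible N) (hNum : Pic13.IsNumEquivZero k X N) :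
    Filter.limsup (fun m : ℕ => (Module.finrank k (Coh.HH X (CohB1.tensorPow (CohB1.tensorMod L N) m) 0) : ℝ≥0∞) /
        (m : ℝ≥0∞) ^ d) Filter.atTop =
      Filter.limsup (fun m : ℕ => (Module.finrank k (Coh.HH X (CohB1.tensorPow L m) 0) : ℝ≥0∞) /
        (m : ℝ≥0∞) ^ d) Filter.atTop := by
  obtain ⟨A, hA⟩ := hproj
  have hNT : Groth.Agent.H12Pic.NumTriv.NT k N := ⟨hN, hNum⟩
  refine le_antisymm (Groth.Agent.H22Alg.VolNum.vol_le k hA hd hL hNT) ?_
  obtain ⟨N', hN', ⟨e⟩⟩ := Groth.Agent.H29RR.exists_inverse_comm hN
  refine le_of_eq_of_le ?_ (Groth.Agent.H22Alg.VolNum.vol_le k hA hd (Groth.Agent.H11Ample.isInvertible_tensor hL hN)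
    (hNT.inverse k e))
  refine congrArg (Groth.Agent.H22Alg.VolLimsup.vol d) (funext fun m => ?_)
  exact Groth.Agent.H25Index.hd_congr (Groth.Agent.H22Alg.NakaiSemi.nonempty_tensorPow_congr
    (Groth.Agent.H10Coh.Tw.assoc L N N' ≪≫ PicGrp.tensorModIso (Iso.refl L) e ≪≫
      Groth.Agent.H10Coh.Tw.rightUnitIso L).symm m).some 0

end Groth.Agent.S17374
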