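import Groth.Statements.S17375
import Groth.Agent.H22Alg.VolPush
import Groth.Agent.H22Alg.VolLimsup

set_option autoImplicit false
universe u
open CategoryTheory CategoryTheory.Limits AlgebraicGeometry Asymptotics
open Variety

namespace Groth.Agent.S17375

/-- Let X and Y be geometrically integral schemes proper over a field k, each admitting an ample
invertible module, with X of dimension d, and let f : Y → X be a k-morphism which is dominant and
generically finite of degree n ≥ 1: f maps the generic point of Y to the generic point of X and the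
induced extension of function fields has finite degree n. Then for every invertible module L on X
the difference dim_k H^0(Y, (f^*L)^m) − n · dim_k H^0(X, L^m) is O(m^(d−1)) as m → ∞ (so the volume
of f^*L is n times that of L). -/
theorem result (k : Type u) [Field k] (X Y : Scheme.{u})
    [X.Over (Spec (CommRingCat.of k))] [Y.Over (Spec (CommRingCat.of k))] [IsIntegral X] [IsIntegral Y]
    [GeometricallyIntegral (X ↘ Spec (CommRingCat.of k))] [GeometricallyIntegral (Y ↘ Spec (CommRingCat.of k))]
    [IsProper (X ↘ Spec (CommRingCat.of k))] [IsProper (Y ↘ Spec (CommRingCat.of k))]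
    (hXproj : ∃ A : X.Modules, CohB1.IsAmple A) (hYproj : ∃ B : Y.Modules, CohB1.IsAmple B)
    (d : ℕ) (hd : topologicalKrullDim X = d)
    (f : Y ⟶ X) (hf : f ≫ (X ↘ Spec (CommRingCat.of k)) = Y ↘ Spec (CommRingCat.of k))
    (hdom : f.base (genericPoint Y) = genericPoint X) (n : ℕ) (hn : f.residueDegree (genericPoint Y) = n) (hn0 : 0 < n)
    (L : X.Modules) (hL : PicF.IsInvertible L) :
    (fun m : ℕ => (Module.finrank k (Coh.HH Y (CohB1.tensorPow ((Scheme.Modules.pullback f).obj L) m) 0) : ℝ) -
        n * Module.finrank k (Coh.HH X (CohB1.tensorPow L m) 0)) =O[Filter.atTop]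
      (fun m : ℕ => (m : ℝ) ^ (d - 1)) := by
  obtain ⟨A, hA⟩ := hXproj
  obtain ⟨C, hC⟩ := Groth.Agent.H22Alg.VolPush.pullback_diff k hA hd.le f hf hdom (hn.symm ▸ hn0) hL
  rw [hn] at hC
  refine Asymptotics.IsBigO.of_bound ((C : ℝ) * (d * 2 ^ d)) ?_
  filter_upwards [Filter.eventually_ge_atTop 1] with m hm
  rw [Real.norm_eq_abs, Real.norm_of_nonneg (by positivity : (0 : ℝ) ≤ (m : ℝ) ^ (d - 1))]
  have hs : C * ((m + 1) ^ d - m ^ d) ≤ C * (d * 2 ^ d) * m ^ (d - 1) := by
    rw [mul_assoc C]
    refine Nat.mul_le_mul_left C ?_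
    rcases Nat.eq_zero_or_pos d with rfl | hd0
    · simp
    refine Nat.le_of_mul_le_mul_left ((Groth.Agent.H22Alg.VolLimsup.sub_pow_le d m hm).trans (le_of_eq ?_)) hm
    conv_lhs => rw [← Nat.sub_add_cancel hd0, pow_succ (m) (d - 1)]
    rw [Nat.sub_add_cancel hd0]
    ring
  obtain ⟨h1, h2⟩ := hC m
  have h1' := h1.trans (Nat.add_le_add_left hs _)
  have h2' := h2.trans (Nat.add_le_add_left hs _)
  have r1 : (Groth.Agent.H25Index.hd k (CohB1.tensorPow ((Scheme.Modules.pullback f).obj L) m) 0 : ℝ) ≤ _ :=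
    Nat.cast_le.2 h1'
  have r2 : ((n * Groth.Agent.H25Index.hd k (CohB1.tensorPow L m) 0 : ℕ) : ℝ) ≤ _ := Nat.cast_le.2 h2'
  push_cast at r1 r2
  simp only [Groth.Agent.H25Index.hd] at r1 r2
  rw [abs_le]
  constructor <;> linarith

end Groth.Agent.S17375
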