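import Groth.Statements.S17376
import Groth.Agent.H3CAlg.NormTensor

set_option autoImplicit false
universe u
open scoped TensorProduct
open CAlg

namespace Groth.Agent.S17376

/-- Let k be a field, A an integrally closed domain over k with fraction field K, L a finite extension
of K, B the integral closure of A in L, and R an arbitrary commutative k-algebra; view L ⊗_k R as an
algebra over K ⊗_k R through K → L. Then L ⊗_k R is finite free over K ⊗_k R, so the norm
(determinant of multiplication) L ⊗_k R → K ⊗_k R is defined; the norm of any element β of B ⊗_k R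
(mapped into L ⊗_k R) lies in the image of A ⊗_k R; and β is a nonzerodivisor in B ⊗_k R if and only
if its norm is a nonzerodivisor in K ⊗_k R. (Nonzerodivisors of A ⊗_k R are exactly its elements
that are nonzerodivisors in K ⊗_k R, the latter being a localisation of the former at
nonzerodivisors, so this is the source's formulation with the norm regarded in A ⊗_k R.) -/
theorem result (k A K L R : Type u) [Field k]
    [CommRing A] [IsDomain A] [IsIntegrallyClosed A] [Algebra k A]
    [Field K] [Algebra A K] [IsFractionRing A K] [Algebra k K] [IsScalarTower k A K]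
    [Field L] [Algebra K L] [FiniteDimensional K L] [Algebra A L] [IsScalarTower A K L]
    [Algebra k L] [IsScalarTower k K L] [IsScalarTower k A L]
    [CommRing R] [Algebra k R] :
    letI : Algebra (K ⊗[k] R) (L ⊗[k] R) :=
      (Algebra.TensorProduct.map (IsScalarTower.toAlgHom k K L) (AlgHom.id k R)).toRingHom.toAlgebra
    Module.Free (K ⊗[k] R) (L ⊗[k] R) ∧ Module.Finite (K ⊗[k] R) (L ⊗[k] R) ∧
      ∀ b : (integralClosure A L) ⊗[k] R,
        Algebra.norm (K ⊗[k] R)
            (Algebra.TensorProduct.map ((integralClosure A L).val.restrictScalars k) (AlgHom.id k R) b) ∈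
          Set.range (Algebra.TensorProduct.map (IsScalarTower.toAlgHom k A K) (AlgHom.id k R)) ∧
        (IsRegular b ↔ IsRegular (Algebra.norm (K ⊗[k] R)
            (Algebra.TensorProduct.map ((integralClosure A L).val.restrictScalars k) (AlgHom.id k R) b))) := by
  letI : Algebra (K ⊗[k] R) (L ⊗[k] R) :=
    (Algebra.TensorProduct.map (IsScalarTower.toAlgHom k K L) (AlgHom.id k R)).toRingHom.toAlgebra
  exact Groth.Agent.H3CAlg.NormTensor.main_norm (fun _ => rfl)

end Groth.Agent.S17376
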