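import Groth.Statements.S1738
import Groth.Agent.S1737
import Groth.Agent.H4LC.FiniteH1
import Groth.Agent.H4LC.Transform
import Groth.Agent.H4LC.Transform2
import Groth.Agent.H4Depth.LocDepth
import Groth.Agent.H4Depth.IdealDepth

set_option autoImplicit false
universe u
open CategoryTheory
attribute [local instance] HasDerivedCategory.standard
open LocCoh

namespace Groth.Agent.S1738Aux

open Groth.Agent Groth.Agent.H4LC Groth.Agent.H4DR

/-- A map with `J`-power torsion kernel and cokernel is bijective off `V(J)`. -/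
theorem bijective_map_of_torsion {R : Type u} [CommRing R] (J : Ideal R) {M N : Type u}
    [AddCommGroup M] [Module R M] [AddCommGroup N] [Module R N] (g : M →ₗ[R] N)
    (hker : LinearMap.ker g ≤ DRing.torsionSub J M)
    (hcoker : LocCoh.IsPowerTorsion J (N ⧸ LinearMap.range g))
    (p : Ideal R) [p.IsPrime] (hp : ¬ J ≤ p) :
    Function.Bijective (LocalizedModule.map p.primeCompl g) := by
  obtain ⟨a, haJ, hap⟩ := SetLike.not_le_iff_exists.1 hp
  have hpow : ∀ n : ℕ, a ^ n ∈ p.primeCompl := fun n h => hap (‹p.IsPrime›.mem_of_pow_mem n h)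
  constructor
  · rw [injective_iff_map_eq_zero]
    intro z hz
    induction z using LocalizedModule.induction_on with
    | h m s =>
      rw [LocalizedModule.map_mk, ← LocalizedModule.zero_mk s, LocalizedModule.mk_eq] at hz
      obtain ⟨c, hc⟩ := hz
      have hm : ((c * s : p.primeCompl) : R) • m ∈ LinearMap.ker g := by
        rw [LinearMap.mem_ker, map_smul]
        simpa [Submonoid.smul_def, mul_smul] using hc
      obtain ⟨n, hn⟩ := hker hm
      have h0 := hn (a ^ n) (Ideal.pow_mem_pow haJ n)
      rw [← LocalizedModule.zero_mk 1, LocalizedModule.mk_eq]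
      refine ⟨⟨a ^ n, hpow n⟩ * c * s, ?_⟩
      simp only [Submonoid.smul_def, OneMemClass.coe_one, one_smul, smul_zero, Submonoid.coe_mul]
      rw [mul_assoc, mul_smul]
      simpa using h0
  · intro z
    induction z using LocalizedModule.induction_on with
    | h y s =>
      obtain ⟨n, hn⟩ := hcoker ((LinearMap.range g).mkQ y)
      have h0 := hn (a ^ n) (Ideal.pow_mem_pow haJ n)
      rw [← map_smul, Submodule.mkQ_apply, Submodule.Quotient.mk_eq_zero] at h0
      obtain ⟨x, hx⟩ := h0
      refine ⟨LocalizedModule.mk x (⟨a ^ n, hpow n⟩ * s), ?_⟩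
      rw [LocalizedModule.map_mk, hx, LocalizedModule.mk_eq]
      refine ⟨1, ?_⟩
      simp only [Submonoid.smul_def, OneMemClass.coe_one, one_smul, Submonoid.coe_mul]
      rw [mul_comm (a ^ n), mul_smul]

theorem depth_eq_of_bijective {R : Type u} [CommRing R] {M N : Type u}
    [AddCommGroup M] [Module R M] [AddCommGroup N] [Module R N] (g : M →ₗ[R] N)
    (p : Ideal R) [p.IsPrime] (hb : Function.Bijective (LocalizedModule.map p.primeCompl g)) :
    LocCoh.depth (Localization.AtPrime p) (LocalizedModule p.primeCompl M) =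
      LocCoh.depth (Localization.AtPrime p) (LocalizedModule p.primeCompl N) :=
  H4Depth.depth_congr (LinearEquiv.ofBijective _ hb)

theorem main (A : Type u) [CommRing A] [IsNoetherianRing A]
    (hA : ∃ ω : Dual.D A, Dual.IsDualizing A ω) (T' : Set (PrimeSpectrum A))
    (hT : StableUnderSpecialization T') (M : Type u) [AddCommGroup M] [Module A M] [Module.Finite A M]
    (hM : ∀ p q : PrimeSpectrum A, p ⋖ q → q ∈ T' → p ∉ T' →
      1 ≤ LocCoh.depth (Localization.AtPrime p.asIdeal) (LocalizedModule p.asIdeal.primeCompl M)) :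
    ∃ (M'' : Type u) (_ : AddCommGroup M'') (_ : Module A M'') (_ : Module.Finite A M'')
      (f : M →ₗ[A] M''), (∀ p : PrimeSpectrum A, p ∉ T' →
        Function.Bijective (LocalizedModule.map p.asIdeal.primeCompl f)) ∧
      ∀ p : PrimeSpectrum A, p ∈ T' →
        2 ≤ LocCoh.depth (Localization.AtPrime p.asIdeal) (LocalizedModule p.asIdeal.primeCompl M'') := by
  obtain ⟨M₁, _, _, _, g, -, hg, hd⟩ := Groth.Agent.S1737.result A T' hT M
  obtain ⟨ω, hω⟩ := id hA
  -- the associated primes of `M₁` avoid `T'` and its immediate generalisations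
  have hass : ∀ p q : PrimeSpectrum A, p.asIdeal ∈ associatedPrimes A M₁ → q ∈ T' → p ≤ q →
      p ∉ T' ∧ p ≠ q ∧ ¬ p ⋖ q := by
    intro p q hp hq hpq
    have h0 := depth_eq_zero_of_associated M₁ hp
    have hpT : p ∉ T' := fun h => by simpa [h0] using hd p h
    refine ⟨hpT, fun e => hpT (e ▸ hq), fun hcov => ?_⟩
    have h1 := hM p q hcov hq hpT
    rw [depth_eq_of_bijective g p.asIdeal (hg p hpT), h0] at h1
    simp at h1
  have htwo : ∀ (p q : PrimeSpectrum A) (hpq : p ≤ q), p.asIdeal ∈ associatedPrimes A M₁ → q ∈ T' →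
      2 ≤ Order.height (⟨q, hpq⟩ : Set.Ici p) := by
    intro p q hpq hp hq
    obtain ⟨-, hne, hncov⟩ := hass p q hp hq hpq
    have hlt : p < q := lt_of_le_of_ne hpq hne
    obtain ⟨c, hpc, hcq⟩ := (not_covBy_iff hlt).1 hncov
    have h1 : (⟨p, le_refl p⟩ : Set.Ici p) < ⟨c, hpc.le⟩ := hpc
    have h2 : (⟨c, hpc.le⟩ : Set.Ici p) < ⟨q, hpq⟩ := hcq
    calc (2 : ℕ∞) = 0 + 1 + 1 := by norm_num
      _ ≤ Order.height (⟨p, le_refl p⟩ : Set.Ici p) + 1 + 1 := by gcongr; exact zero_le
      _ ≤ Order.height (⟨c, hpc.le⟩ : Set.Ici p) + 1 := by gcongr; exact Order.height_add_one_le h1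
      _ ≤ Order.height (⟨q, hpq⟩ : Set.Ici p) := Order.height_add_one_le h2
  obtain ⟨J, hJ, hk⟩ := (HT.exists_kill_module_iff M₁ hω hT hT 1).2 fun p q hp hq hpq => by
    rw [one_lt_add_iff hω hpq]
    by_cases h : p.asIdeal ∈ associatedPrimes A M₁
    · exact lt_of_lt_of_le (by norm_num) ((htwo p q hpq h hq).trans le_add_self)
    · have hne : (⟨p, le_refl p⟩ : Set.Ici p) < ⟨q, hpq⟩ := lt_of_le_of_ne hpq fun e => hp (by
          rw [show p = q from congrArg Subtype.val e]; exact hq)
      have h2 : 1 ≤ Order.height (⟨q, hpq⟩ : Set.Ici p) :=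
        le_trans le_add_self (Order.height_add_one_le hne)
      exact lt_of_lt_of_le (by norm_num) (add_le_add (one_le_depth_of_not_associated M₁ h) h2)
  have hgood := (HT.exists_kill_module_iff M₁ hω hT (zeroLocus_stable J) 1).1 ⟨J, subset_rfl, hk⟩
  haveI : Module.Finite A (LocCoh.H J 1 M₁) :=
    finite_H_one_of_height hA J M₁ fun p q hpq hp _ hq => htwo p q hpq hp (hJ hq)
  let η := LocCoh.toDT J M₁
  haveI : Module.Finite A (LocCoh.DT J M₁ ⧸ LinearMap.range η) :=
    Module.Finite.equiv (cokerToDTEquiv J M₁).symm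
  haveI : Module.Finite A (LocCoh.DT J M₁) := Module.Finite.of_submodule_quotient (LinearMap.range η)
  have hη : ∀ p : PrimeSpectrum A, ¬ J ≤ p.asIdeal →
      Function.Bijective (LocalizedModule.map p.asIdeal.primeCompl η) := fun p hp =>
    bijective_map_of_torsion J η (ker_toDT J M₁).le (isPowerTorsion_coker_toDT J M₁) p.asIdeal hp
  refine ⟨LocCoh.DT J M₁, inferInstance, inferInstance, inferInstance, η ∘ₗ g, fun p hp => ?_,
    fun q hq => ?_⟩
  · have := (hη p fun h => hp (hJ h)).comp (hg p hp)
    convert this using 1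
    ext z
    induction z using LocalizedModule.induction_on with
    | h m s => simp [LocalizedModule.map_mk]
  · by_cases hqJ : J ≤ q.asIdeal
    · refine le_trans ?_ (H4Depth.idealDepth_le_depth_localization q.asIdeal hqJ)
      refine (le_idealDepth_iff_H J (LocCoh.DT J M₁) (n := 2)).2 fun i hi => ?_
      rcases (show i = 0 ∨ i = 1 by omega) with rfl | rfl
      · have : Subsingleton (DRing.torsionSub J (LocCoh.DT J M₁)) := by
          rw [torsionSub_DT_eq_bot]; infer_instance
        exact (zeroEquiv J (LocCoh.DT J M₁)).symm.toEquiv.subsingleton_congr.1 this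
      · exact subsingleton_H_one_DT J M₁
    · rw [← depth_eq_of_bijective η q.asIdeal (hη q hqJ)]
      have h := hgood q q hqJ hq le_rfl
      rw [one_lt_add_iff hω le_rfl,
        show Order.height (⟨q, le_refl q⟩ : Set.Ici q) = 0 from
          Order.height_eq_zero.2 (fun b _ => b.2), add_zero] at h
      exact Order.add_one_le_of_lt h

end Groth.Agent.S1738Aux

namespace Groth.Agent.S1738

/-- Let A be a Noetherian ring with a dualizing complex, T' ⊆ Spec A stable under specialization, and M
a finite A-module such that depth(M_p) ≥ 1 whenever q covers p in Spec A with q in T' and p outside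
T'. Then there are a finite A-module M'' and a map M → M'' which is bijective after localizing at
every prime outside T' and such that M''_p has depth ≥ 2 for every p in T'. (The source: coherent
modules on a Noetherian scheme locally having a dualizing complex, with uniqueness and a pullback
clause.) -/
theorem result (A : Type u) [CommRing A] [IsNoetherianRing A] (hA : ∃ ω : Dual.D A, Dual.IsDualizing A ω) (T' : Set (PrimeSpectrum A)) (hT : StableUnderSpecialization T') (M : Type u) [AddCommGroup M] [Module A M] [Module.Finite A M] (hM : ∀ p q : PrimeSpectrum A, p ⋖ q → q ∈ T' → p ∉ T' → 1 ≤ LocCoh.depth (Localization.AtPrime p.asIdeal) (LocalizedModule p.asIdeal.primeCompl M)) : ∃ (M'' : Type u) (_ : AddCommGroup M'') (_ : Module A M'') (_ : Module.Finite A M'') (f : M →ₗ[A] M''), (∀ p : PrimeSpectrum A, p ∉ T' → Function.Bijective (LocalizedModule.map p.asIdeal.primeCompl f)) ∧ ∀ p : PrimeSpectrum A, p ∈ T' → 2 ≤ LocCoh.depth (Localization.AtPrime p.asIdeal) (LocalizedModule p.asIdeal.primeCompl M'') := by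
  exact Groth.Agent.S1738Aux.main A hA T' hT M hM

end Groth.Agent.S1738
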