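import Groth.Statements.S17380
import Groth.Agent.H22Alg.VolNum

set_option autoImplicit false
universe u
open CategoryTheory CategoryTheory.Limits AlgebraicGeometry
open scoped ENNReal
open Variety

namespace Groth.Agent.S17380

/-- Let X be a geometrically integral scheme of dimension d, proper over a field k and admitting an
ample invertible module, and L an invertible module on X which is big, i.e. the lower limit of dim_k
H^0(X, L^m)/m^d as m → ∞ is positive. Then some power L^a, a > 0, is such that H^0(X, L^(aj) ⊗ N) ≠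
0 for every j > 0 and every numerically trivial invertible module N (degree zero on every integral
closed one-dimensional subscheme); in other words every invertible module numerically equivalent to
L^(aj) comes from an effective divisor. (The published statement asserts this for all sufficiently
large powers of L; its printed reduction to an ample module yields one power a and its multiples,
which is what is stated.) -/
theorem result (k : Type u) [Field k] (X : Scheme.{u})
    [X.Over (Spec (CommRingCat.of k))] [IsIntegral X] [GeometricallyIntegral (X ↘ Spec (CommRingCat.of k))]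
    [IsProper (X ↘ Spec (CommRingCat.of k))] (hproj : ∃ A : X.Modules, CohB1.IsAmple A)
    (d : ℕ) (hd : topologicalKrullDim X = d) (L : X.Modules) (hL : PicF.IsInvertible L)
    (hbig : 0 < Filter.liminf (fun m : ℕ => (Module.finrank k (Coh.HH X (CohB1.tensorPow L m) 0) : ℝ≥0∞) /
        (m : ℝ≥0∞) ^ d) Filter.atTop) :
    ∃ a : ℕ, 0 < a ∧ ∀ j : ℕ, 0 < j → ∀ N : X.Modules, PicF.IsInvertible N → Pic13.IsNumEquivZero k X N →
      0 < Module.finrank k (Coh.HH X (CohB1.tensorMod (CohB1.tensorPow L (a * j)) N) 0) := by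
  obtain ⟨A, hA⟩ := hproj
  obtain ⟨a, B, E, ha, hB, hE, hEpos, ⟨eL⟩⟩ := Groth.Agent.H22Alg.VolBig.kodaira k hA hd hL
    (hbig.trans_le Filter.liminf_le_limsup)
  obtain ⟨m₀, h₀⟩ := Groth.Agent.H22Alg.VolNum.eventually_pos_twist k hB
  refine ⟨a * (m₀ + 1), Nat.mul_pos ha (Nat.succ_pos m₀), fun j hj N hN hnum => ?_⟩
  have hq : m₀ ≤ (m₀ + 1) * j := (Nat.le_succ m₀).trans (Nat.le_mul_of_pos_right _ hj)
  obtain ⟨e₁⟩ := Groth.Agent.H11Ample.exists_iso_tensorPow_tensor hB.1 hE ((m₀ + 1) * j)
  obtain ⟨e₂⟩ := Groth.Agent.H22Alg.NakaiSemi.nonempty_tensorPow_congr eL ((m₀ + 1) * j)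
  obtain ⟨e₃⟩ := Groth.Agent.H22Alg.NakaiGen.nonempty_tensorPow_mul L a ((m₀ + 1) * j)
  have h := (h₀ _ hq N hN hnum).trans_le (Groth.Agent.H22Alg.VolBig.hd0_le_of_pos k
    (Groth.Agent.H11Ample.isInvertible_tensor (Groth.Agent.H11Ample.isInvertible_tensorPow hB.1 _) hN)
    (Groth.Agent.H11Ample.isInvertible_tensorPow hE _) (Groth.Agent.H22Alg.VolBig.pow_pos_of_pos k hE hEpos ((m₀ + 1) * j)))
  exact h.trans_le (Groth.Agent.H25Index.hd_congr (Groth.Agent.H12Pic.NumTriv.swapIso _ _ _ ≪≫
    PicGrp.tensorModIso (e₁ ≪≫ e₂ ≪≫ e₃ ≪≫ eqToIso (by rw [mul_assoc])) (Iso.refl N)) 0).le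

end Groth.Agent.S17380
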