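import Groth.Statements.S17383
import Groth.Agent.H8Props.AdmBlow.RefinedChow
-- import your own Groth.Agent.* helpers here

set_option autoImplicit false
universe u
open FlatMor

namespace Groth.Agent.S17383

open AlgebraicGeometry CategoryTheory Limits in
/-- Let S be a quasi-compact quasi-separated scheme, f : X → S a separated morphism of finite type, and
U ⊆ X a quasi-compact dense open subscheme which is quasi-projective over S (of finite type with a
relatively ample invertible module). Then there are a blowing up q : X' → X in a quasi-coherent
ideal of finite type with support disjoint from U, a projective morphism g : P → S (P the relative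
homogeneous spectrum of a quasi-coherent graded algebra generated in degree one with degree-one part
of finite type) and an open immersion j : X' → P with dense image such that j ≫ g = q ≫ f. The
centre of the blow-up misses the prescribed open U. -/
theorem result
    {X S : Scheme.{u}} [CompactSpace S] [QuasiSeparatedSpace S]
    (f : X ⟶ S) [IsSeparated f] [QuasiCompact f] [LocallyOfFiniteType f]
    (U : X.Opens) (hU : IsCompact (U : Set X)) (hUd : Dense (U : Set X))
    (hq : RelProj.IsQuasiProjective (U.ι ≫ f)) :
    ∃ (𝓘 : X.IdealSheafData) (X' P : Scheme.{u}) (q : X' ⟶ X) (j : X' ⟶ P) (g : P ⟶ S),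
      BlowUp.IsBlowUp q 𝓘 ∧ BlowUp.IsAdmissibleFor U 𝓘 ∧ RelProj.IsProjective g ∧
      IsOpenImmersion j ∧ IsDominant j ∧ j ≫ g = q ≫ f := by
  exact Groth.Agent.H8Props.AdmBlow.exists_projective_blowUp f U hU hq

end Groth.Agent.S17383
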