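import Groth.Statements.S17387
import Groth.Agent.H8Blow.CommonMany

set_option autoImplicit false
universe u
open FlatMor

namespace Groth.Agent.S17387

open AlgebraicGeometry CategoryTheory Limits in
/-- Let S be a quasi-compact quasi-separated scheme, U and X_1, …, X_n separated S-schemes of finite
type, and j_i : U → X_i open immersions over S with dense image. Then there are blowing ups b_i :
X_i' → X_i in quasi-coherent ideals of finite type with support disjoint from the image of U, a
separated S-scheme X of finite type, and open immersions o_i : X_i' → X over S whose images cover X,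
together with the lifts u_i : U → X_i' of the j_i (u_i ≫ b_i = j_i), such that all the composites
u_i ≫ o_i : U → X coincide. -/
theorem result
    {S U : Scheme.{u}} [CompactSpace S] [QuasiSeparatedSpace S] {n : ℕ}
    (gU : U ⟶ S) [IsSeparated gU] [QuasiCompact gU] [LocallyOfFiniteType gU]
    (X : Fin n → Scheme.{u}) (g : ∀ i, X i ⟶ S)
    [∀ i, IsSeparated (g i)] [∀ i, QuasiCompact (g i)] [∀ i, LocallyOfFiniteType (g i)]
    (j : ∀ i, U ⟶ X i) [∀ i, IsOpenImmersion (j i)] [∀ i, IsDominant (j i)] (hj : ∀ i, j i ≫ g i = gU) :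
    ∃ (Xc : Scheme.{u}) (q : Xc ⟶ S) (_ : IsSeparated q) (_ : QuasiCompact q) (_ : LocallyOfFiniteType q)
      (𝓘 : ∀ i, (X i).IdealSheafData) (X' : Fin n → Scheme.{u}) (b : ∀ i, X' i ⟶ X i)
      (o : ∀ i, X' i ⟶ Xc) (u : ∀ i, U ⟶ X' i),
      (∀ i, BlowUp.IsBlowUp (b i) (𝓘 i) ∧ BlowUp.IsAdmissibleFor (j i).opensRange (𝓘 i) ∧
        IsOpenImmersion (o i) ∧ o i ≫ q = b i ≫ g i ∧ u i ≫ b i = j i) ∧
      (⋃ i, Set.range (fun x => o i x)) = Set.univ ∧ (∀ i i', u i ≫ o i = u i' ≫ o i') := by
  exact Groth.Agent.H8Blow.exists_common_target_cover gU X g j hj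

end Groth.Agent.S17387
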