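import Groth.Statements.S17390
import Groth.Agent.H8Blow.QuasiDomBlowUp

set_option autoImplicit false
universe u
open FlatMor

namespace Groth.Agent.S17390

open AlgebraicGeometry CategoryTheory Limits in
/-- Let S be a quasi-compact quasi-separated scheme, X and Y separated S-schemes of finite type, U a
quasi-compact scheme with an open immersion jX : U → X with dense image (so U is separated of finite
type over S), V ⊆ Y a quasi-compact open subscheme with an open immersion jV : U → V which is
schematically dense and such that U has dense image in Y, and φ : V → X an S-morphism with jV ≫ φ =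
jX which is a quasi-domination of Y over X (its graph morphism V → Y ×_S X has closed image). Let I
be a quasi-coherent ideal of finite type on X with support disjoint from the image of U and b : X̃ →
X a blowing up of X in I; let W ⊆ X̃ be an open subscheme, u : U → W the lift of jX (u ≫ W.ι ≫ b =
jX), assumed schematically dense as a morphism to X̃, and ψ : W → V an S-morphism with u ≫ ψ = jV
which is a quasi-domination of X̃ over V (its graph morphism W → X̃ ×_S V has closed image). Then ψ
is a blowing up of V in the inverse image ideal I·O_V, hence proper, and the graph morphism W → X̃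
×_S Y of ψ followed by V ⊆ Y has closed image. -/
theorem result
    {S U X Y Xt : Scheme.{u}} [CompactSpace S] [QuasiSeparatedSpace S]
    (gX : X ⟶ S) (gY : Y ⟶ S)
    [IsSeparated gX] [QuasiCompact gX] [LocallyOfFiniteType gX]
    [IsSeparated gY] [QuasiCompact gY] [LocallyOfFiniteType gY]
    (jX : U ⟶ X) [IsOpenImmersion jX] [IsDominant jX] [CompactSpace U]
    (V : Y.Opens) (hVc : IsCompact (V : Set Y))
    (jV : U ⟶ (V : Scheme.{u})) [IsOpenImmersion jV] [IsSchemeTheoreticallyDominant jV]
    [IsDominant (jV ≫ V.ι)]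
    (φ : (V : Scheme.{u}) ⟶ X) (hφU : jV ≫ φ = jX) (hφ : V.ι ≫ gY = φ ≫ gX)
    (hφcl : IsClosed (Set.range (fun x => pullback.lift V.ι φ hφ x)))
    (𝓘 : X.IdealSheafData) (h𝓘 : BlowUp.IsAdmissibleFor jX.opensRange 𝓘)
    (b : Xt ⟶ X) (hb : BlowUp.IsBlowUp b 𝓘)
    (W : Xt.Opens) (u : U ⟶ (W : Scheme.{u})) (hu : u ≫ W.ι ≫ b = jX)
    [IsSchemeTheoreticallyDominant (u ≫ W.ι)]
    (ψ : (W : Scheme.{u}) ⟶ (V : Scheme.{u})) (hψU : u ≫ ψ = jV)
    (hψ : W.ι ≫ b ≫ gX = ψ ≫ V.ι ≫ gY)
    (hψcl : IsClosed (Set.range (fun x => pullback.lift W.ι ψ hψ x))) :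
    BlowUp.IsBlowUp ψ (𝓘.comap φ) ∧
      IsClosed (Set.range (fun x => pullback.lift (f := b ≫ gX) (g := gY) W.ι (ψ ≫ V.ι)
        (hψ.trans (Category.assoc ψ V.ι gY).symm) x)) := by
  exact Groth.Agent.H8Blow.isBlowUp_quasiDomination gX gY jX V jV φ hφU hφ hφcl 𝓘 h𝓘 b hb W u hu ψ hψU hψ hψcl

end Groth.Agent.S17390
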