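import Groth.Statements.S17392
import Groth.Agent.H11Strict.SeparateExists

set_option autoImplicit false
universe u
open BlowUp

namespace Groth.Agent.S17392

open AlgebraicGeometry CategoryTheory Limits in
/-- Let X₁ and X₂ be quasi-compact quasi-separated schemes, q : X₂ → X₁ a quasi-compact separated
morphism, V₁ ⊆ X₁ a quasi-compact open subscheme and U ⊆ q⁻¹(V₁) an open subscheme of X₂ on which q
restricts to an open immersion (so U is identified with an open of V₁). Let Z₁ ⊆ X₁ be a closed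
subset whose open complement is quasi-compact, put Y₁ = Z₁ ∩ V₁, and let Z₂ ⊆ X₂ be a closed subset
whose open complement is also quasi-compact, with q⁻¹(Y₁) ⊆ Z₂. Then there is a quasi-coherent ideal
E of finite type on X₁ with support contained in Z₁ ∖ V₁ (so that blowing up E is V₁-admissible)
such that, for every blowing up c : X₁' → X₁ of X₁ in E with base change q' : X₂' = X₂ ×_{X₁} X₁' →
X₁' and c₂ : X₂' → X₂, one has q'⁻¹(closure of c⁻¹(Y₁)) ∩ closure(c₂⁻¹(U)) ⊆ c₂⁻¹(Z₂) as subsets of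
X₂'. -/
theorem result
    {X₁ X₂ : Scheme.{u}} [CompactSpace X₁] [QuasiSeparatedSpace X₁] [CompactSpace X₂] [QuasiSeparatedSpace X₂]
    (q : X₂ ⟶ X₁) [QuasiCompact q] [IsSeparated q]
    (V₁ : X₁.Opens) (hV₁ : IsCompact (V₁ : Set X₁))
    (U : X₂.Opens) (hU : U ≤ q ⁻¹ᵁ V₁) [IsOpenImmersion (U.ι ≫ q)]
    (Z₁ : Set X₁) (hZ₁ : IsClosed Z₁) (hZ₁c : IsCompact Z₁ᶜ)
    (Z₂ : Set X₂) (hZ₂ : IsClosed Z₂) (hZ₂c : IsCompact Z₂ᶜ)
    (hYZ : (fun x => q x) ⁻¹' (Z₁ ∩ (V₁ : Set X₁)) ⊆ Z₂) :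
    ∃ 𝓔 : X₁.IdealSheafData, BlowUp.IsFiniteTypeIdeal 𝓔 ∧ (𝓔.support : Set X₁) ⊆ Z₁ \ (V₁ : Set X₁) ∧
      ∀ (X₁' : Scheme.{u}) (c : X₁' ⟶ X₁), BlowUp.IsBlowUp c 𝓔 →
        (fun z => (pullback.snd q c) z) ⁻¹' closure ((fun x => c x) ⁻¹' (Z₁ ∩ (V₁ : Set X₁))) ∩
            closure ((fun z => (pullback.fst q c) z) ⁻¹' (U : Set X₂)) ⊆
          (fun z => (pullback.fst q c) z) ⁻¹' Z₂ := by
  obtain ⟨𝓔, hft, hsupp, hmain⟩ := Groth.Agent.H11Strict.exists_centre q V₁ hV₁ Z₁ hZ₁ hZ₁c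
    ⟨Z₂ᶜ, hZ₂.isOpen_compl⟩ hZ₂c (fun x hx hxV hxZ => hx (hYZ ⟨hxZ, hxV⟩))
  refine ⟨𝓔, hft, hsupp, fun X₁' c hc z ⟨hzs, hzU⟩ => ?_⟩
  by_contra hz
  refine hmain X₁' c hc.1 _ (pullback.fst q c) (pullback.snd q c) pullback.condition z hz hzs ?_
  refine closure_mono ?_ ((((pullback.fst q c) ⁻¹ᵁ ⟨Z₂ᶜ, hZ₂.isOpen_compl⟩).2).inter_closure ⟨hz, hzU⟩)
  exact fun w hw => ⟨hw.1, hU hw.2⟩

end Groth.Agent.S17392
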