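import Groth.Statements.S17393
import Groth.Agent.H11Strict.ClosedImm

set_option autoImplicit false
universe u
open BlowUp

namespace Groth.Agent.S17393

open AlgebraicGeometry CategoryTheory Limits in
/-- Let X be any scheme, I and I' quasi-coherent ideals on X (of closed subschemes Y and Y'), b : X' → X
a blowing up of X in I + I' (the ideal of Y ∩ Y'), b' : Ỹ → Y a blowing up of Y = V(I) in the
inverse image of I + I' and k : Ỹ → X' the morphism with k ≫ b = b' ≫ (Y → X), whose image is the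
strict transform of Y. For an affine open V of X, a section s of I over V, and an affine open V' ⊆
b⁻¹(V) of X' which meets the image of k, the ideal of the inverse image ideal sheaf (I + I')·O_X' on
V' is not the principal ideal generated by the pullback of s. Equivalently the strict transform of Y
does not meet the open locus U(s) where s generates the (invertible) inverse image ideal; since the
U(s) for s ranging over local sections of I and of I' cover X', the strict transform of Y lies in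
the union of the U(s) with s a local section of I'. -/
theorem result
    {X X' Yt : Scheme.{u}} (𝓘 𝓘' : X.IdealSheafData) (b : X' ⟶ X) (hb : BlowUp.IsBlowUp b (𝓘 ⊔ 𝓘'))
    (b' : Yt ⟶ 𝓘.subscheme) (hb' : BlowUp.IsBlowUp b' ((𝓘 ⊔ 𝓘').comap 𝓘.subschemeι))
    (k : Yt ⟶ X') (hk : k ≫ b = b' ≫ 𝓘.subschemeι)
    (V : X.affineOpens) (s : Γ(X, V.1)) (hs : s ∈ 𝓘.ideal V)
    (V' : X'.affineOpens) (hV' : V'.1 ≤ b ⁻¹ᵁ V.1)
    (hmeet : (Set.range (fun y => k y) ∩ (V'.1 : Set X')).Nonempty) :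
    ((𝓘 ⊔ 𝓘').comap b).ideal V' ≠ Ideal.span {(b.appLE V.1 V'.1 hV').hom s} := by
  intro he
  obtain ⟨hk1, -⟩ := Groth.Agent.H11Strict.isClosedImmersion_of_isBlowUp (𝓘 ⊔ 𝓘') 𝓘.subschemeι b hb b' hb' k hk
  haveI := hk1
  obtain ⟨x, ⟨y, rfl⟩, hy⟩ := hmeet
  have hEk : BlowUp.IsEffCartierIdeal (((𝓘 ⊔ 𝓘').comap b).comap k) := by
    rw [← Scheme.IdealSheafData.comap_comp, hk, Scheme.IdealSheafData.comap_comp]
    exact hb'.1
  obtain ⟨W, hyW, hWV, g, hg, hgW⟩ := H29Blow.exists_gen hEk (W := k ⁻¹ᵁ V'.1) hy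
  have hP : 𝓘.comap b ≤ k.ker := by
    rw [← Scheme.IdealSheafData.le_map_iff_comap_le, Scheme.IdealSheafData.map_ker, hk]
    calc 𝓘 = 𝓘.subschemeι.ker := (Scheme.IdealSheafData.ker_subschemeι 𝓘).symm
      _ ≤ (b' ≫ 𝓘.subschemeι).ker := Scheme.Hom.le_ker_comp _ _
  have ht : (b.appLE V.1 V'.1 hV').hom s ∈ k.ker.ideal V' := by
    refine hP V' ?_
    rw [H29Blow.ideal_comap 𝓘 b V V' hV']
    exact Ideal.mem_map_of_mem _ hs
  rw [Scheme.Hom.ker_apply, RingHom.mem_ker] at ht
  have h0 : (k.appLE V'.1 W.1 hWV).hom ((b.appLE V.1 V'.1 hV').hom s) = 0 := by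
    show (k.app V'.1 ≫ Yt.presheaf.map (homOfLE hWV).op).hom _ = 0
    rw [CommRingCat.hom_comp, RingHom.comp_apply, ht, map_zero]
  have hbot : (((𝓘 ⊔ 𝓘').comap b).comap k).ideal W = ⊥ := by
    rw [H29Blow.ideal_comap _ k V' W hWV, he, Ideal.map_span, Set.image_singleton, h0, Ideal.span_singleton_eq_bot]
  have hg0 : g = 0 := by
    rw [← Ideal.mem_bot, ← hbot, hgW]
    exact Ideal.mem_span_singleton_self g
  have h10 : (1 : Γ(Yt, W.1)) = 0 := by
    refine (mem_nonZeroDivisors_iff.mp hg).2 1 ?_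
    rw [hg0, mul_zero]
  have h1 : IsUnit (Yt.presheaf.germ W.1 y hyW (1 : Γ(Yt, W.1))) := by rw [map_one]; exact isUnit_one
  rw [h10, map_zero] at h1
  exact not_isUnit_zero h1

end Groth.Agent.S17393
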