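import Groth.Statements.S17394
import Groth.Agent.H8Blow.SeparateMany

set_option autoImplicit false
universe u
open FlatMor

namespace Groth.Agent.S17394

open AlgebraicGeometry CategoryTheory Limits in
/-- Let S be a quasi-compact quasi-separated scheme, X → S separated of finite type, and for i = 1, …, m
let X̄_i → S be proper, o_i : X_i → X̄_i a quasi-compact open immersion and q_i : X_i → X a proper
S-morphism; let U be a scheme with quasi-compact open immersions jU : U → X and v_i : U → X_i such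
that v_i ≫ q_i = jU, with U dense in X, in each X_i and in each X̄_i (via v_i ≫ o_i). Let Y_i ⊆ X_i
be closed subschemes of finite presentation. Let Ū ⊆ X̄_1 ×_S ⋯ ×_S X̄_m be the closure of the image
of U (the scheme-theoretic closure, the morphism being quasi-compact) with projections π_i : Ū →
X̄_i, and assume ⋂_i π_i⁻¹(Y_i) = ∅. Then there are blowing ups c_i : X̄_i' → X̄_i in quasi-coherent
ideals of finite type with support disjoint from X_i (X_i-admissible), with the lifts v_i' : U →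
X̄_i' of v_i ≫ o_i, such that, writing Ū' for the closure of the image of U in X̄_1' ×_S ⋯ ×_S X̄_m'
with projections π_i' and Ȳ_i' for the closure in X̄_i' of c_i⁻¹(Y_i), one has ⋂_i (π_i')⁻¹(Ȳ_i') =
∅. -/
theorem result
    {S X U : Scheme.{u}} [CompactSpace S] [QuasiSeparatedSpace S] {m : ℕ}
    (gX : X ⟶ S) [IsSeparated gX] [QuasiCompact gX] [LocallyOfFiniteType gX]
    (Xi Xb : Fin m → Scheme.{u}) (gb : ∀ i, Xb i ⟶ S) [∀ i, IsProper (gb i)]
    (o : ∀ i, Xi i ⟶ Xb i) [∀ i, IsOpenImmersion (o i)] [∀ i, QuasiCompact (o i)]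
    (q : ∀ i, Xi i ⟶ X) [∀ i, IsProper (q i)] (hq : ∀ i, q i ≫ gX = o i ≫ gb i)
    (jU : U ⟶ X) [IsOpenImmersion jU] [QuasiCompact jU] [IsDominant jU]
    (v : ∀ i, U ⟶ Xi i) [∀ i, IsOpenImmersion (v i)] [∀ i, QuasiCompact (v i)] [∀ i, IsDominant (v i)]
    [∀ i, IsDominant (v i ≫ o i)]
    (hv : ∀ i, v i ≫ q i = jU) (w : ∀ i, (v i ≫ o i) ≫ gb i = jU ≫ gX)
    (Y : ∀ i, (Xi i).IdealSheafData) (hY : ∀ i, BlowUp.IsFiniteTypeIdeal (Y i))
    (hempty : ∀ z ∈ closure (Set.range (fun x => (WidePullback.lift (jU ≫ gX) (fun i => v i ≫ o i) w) x)),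
      ∃ i, (WidePullback.π gb i) z ∉ (fun x => o i x) '' ((Y i).support : Set (Xi i))) :
    ∃ (𝓔 : ∀ i, (Xb i).IdealSheafData) (Xb' : Fin m → Scheme.{u}) (c : ∀ i, Xb' i ⟶ Xb i)
      (v' : ∀ i, U ⟶ Xb' i) (w' : ∀ i, v' i ≫ c i ≫ gb i = jU ≫ gX),
      (∀ i, BlowUp.IsBlowUp (c i) (𝓔 i) ∧ BlowUp.IsAdmissibleFor (o i).opensRange (𝓔 i) ∧
        v' i ≫ c i = v i ≫ o i) ∧
      ∀ z ∈ closure (Set.range (fun x => (WidePullback.lift (jU ≫ gX) (fun i => v' i) w') x)),
        ∃ i, (WidePullback.π (fun i => c i ≫ gb i) i) z ∉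
          closure ((fun y => c i y) ⁻¹' ((fun x => o i x) '' ((Y i).support : Set (Xi i)))) := by
  exact Groth.Agent.H8Blow.exists_separating_blowUps gX Xi Xb gb o q hq jU v hv w Y hY hempty

end Groth.Agent.S17394
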