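import Groth.Statements.S17399
import Groth.Agent.H26Cyc.Apply

set_option autoImplicit false
set_option maxHeartbeats 1000000
set_option backward.isDefEq.respectTransparency false
universe u
open AlgebraicGeometry CategoryTheory CategoryTheory.Limits
open CycCov

namespace Groth.Agent.S17399

open CategoryTheory AlgebraicGeometry in
/-- For X integral and smooth over an algebraically closed field k, L an invertible module, N ≥ 1
invertible in k, D_1, …, D_r a strict normal crossing divisor on X with multiplicities α_j, s a
global section of the N-th tensor power of L whose divisor of zeros is D = Σ α_j D_j, and π : Y → X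
with its root datum the normalised cyclic N-th-root cover of X defined by s, write Δ_j for the
reduced preimage of D_j. Then π^*D = Σ_j (N·α_j / gcd(N, α_j)) Δ_j. This is an equality of divisors
on the normal scheme Y; it is stated here as an equality of ideals over the affine opens V of Y
lying over an open W of X through each point of which at most one component D_j passes (there Y is
regular and Δ_j is Cartier): the pull-back of ∏ 𝓘_{D_j}^{α_j} agrees on V with ∏_j
rad(π^*𝓘_{D_j})^{N α_j / gcd(N, α_j)}. (Where two components meet the ideal-theoretic equality fails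
although the divisors agree.) (The published claim allows any effective divisor on a manifold; it is
stated here for components forming a strict normal crossing divisor.) -/
theorem result {k : Type u} [Field k] [IsAlgClosed k] {X Y : Scheme.{u}}
    (f : X ⟶ Spec (CommRingCat.of k)) [Smooth f] [IsIntegral X]
    (L : X.Modules) (hL : PicF.IsInvertible L) (N : ℕ) (hN : 0 < N) (hNk : (N : k) ≠ 0)
    {r : ℕ} (D : Fin r → X.IdealSheafData) (α : Fin r → ℕ) (hD : LogNCD.IsNCD D f)
    (s : Coh.structureModule X ⟶ CohB1.tensorPow L N) (hs : CycCov.IsZeroDiv (CohB1.tensorPow L N) s (CycCov.divIdeal D α))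
    (π : Y ⟶ X) (R : CycCov.Root L N s π) (hR : CycCov.IsCover R)
    (W : X.Opens) (hW : ∀ x ∈ W, ∀ j j' : Fin r, x ∈ (D j).support → x ∈ (D j').support → j = j')
    (V : Y.affineOpens) (hV : V.1 ≤ π ⁻¹ᵁ W) :
    ((CycCov.divIdeal D α).comap π).ideal V = (∏ j : Fin r, ((D j).comap π).radical ^ (N * α j / Nat.gcd N (α j))).ideal V := by
  have hprod : ∀ (g : Fin r → Y.IdealSheafData) (V' : Y.affineOpens), (∏ j, g j).ideal V' = ∏ j, (g j).ideal V' := by
    intro g V'
    induction (Finset.univ : Finset (Fin r)) using Finset.induction_on with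
    | empty => rw [Finset.prod_empty, Finset.prod_empty, Scheme.IdealSheafData.one_eq_top,
        Scheme.IdealSheafData.ideal_top, Ideal.one_eq_top]; rfl
    | insert a t ha ih => rw [Finset.prod_insert ha, Finset.prod_insert ha, Scheme.IdealSheafData.ideal_mul,
        Pi.mul_apply, ih]
  have hpow : ∀ (I : X.IdealSheafData) (m : ℕ), (I ^ m).comap π = I.comap π ^ m := by
    intro I m
    induction m with
    | zero => rw [pow_zero, pow_zero, Scheme.IdealSheafData.one_eq_top, Scheme.IdealSheafData.comap_top,
        Scheme.IdealSheafData.one_eq_top]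
    | succ m ih => rw [pow_succ, pow_succ, H29Blow.comap_mul, ih]
  have hcomap : (CycCov.divIdeal D α).comap π = ∏ j, (D j).comap π ^ α j := by
    rw [CycCov.divIdeal]
    induction (Finset.univ : Finset (Fin r)) using Finset.induction_on with
    | empty => rw [Finset.prod_empty, Finset.prod_empty, Scheme.IdealSheafData.one_eq_top,
        Scheme.IdealSheafData.comap_top, Scheme.IdealSheafData.one_eq_top]
    | insert a t ha ih => rw [Finset.prod_insert ha, Finset.prod_insert ha, H29Blow.comap_mul, ih, hpow]
  refine H26Cyc.ideal_eq_of_local _ _ V fun y hy => ?_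
  by_cases hne : Nonempty (LogNCD.Through D (π y))
  · obtain ⟨i₀⟩ := hne
    obtain ⟨V', hyV', -, n, u, σ, hu, hσ, hideal, hrad, hoff⟩ := H26Cyc.exists_model f hL hN hNk hD hs R hR W y (hV hy)
      i₀ fun i hi hne => absurd (hW _ (hV hy) i i₀.1 hi i₀.2) hne
    refine ⟨V', hyV', ?_⟩
    rw [hcomap, hprod, hprod]
    refine Finset.prod_congr rfl fun j _ => ?_
    rw [Scheme.IdealSheafData.ideal_pow, Pi.pow_apply, Scheme.IdealSheafData.ideal_pow, Pi.pow_apply]
    by_cases hj : π y ∈ (D j).support
    · rw [hideal ⟨j, hj⟩, hrad ⟨j, hj⟩, ← pow_mul, Nat.div_mul_right_comm (Nat.gcd_dvd_left N (α j))]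
    · rw [Scheme.IdealSheafData.radical_ideal, hoff j hj, Ideal.radical_top, Ideal.top_pow, Ideal.top_pow]
  · obtain ⟨O, hO, hyO, hOle⟩ := exists_isAffineOpen_mem_and_subset (U := π ⁻¹ᵁ H26Cyc.offDiv D)
      (x := y) (H26Cyc.mem_offDiv hne)
    refine ⟨⟨O, hO⟩, hyO, ?_⟩
    rw [hcomap, hprod, hprod]
    refine Finset.prod_congr rfl fun j _ => ?_
    have h : ((D j).comap π).ideal ⟨O, hO⟩ = ⊤ := H26Cyc.ideal_eq_top _ _ fun z hz hz' => hOle hz
      (Set.mem_iUnion.2 ⟨j, by rw [Scheme.IdealSheafData.support_comap] at hz'; exact hz'⟩)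
    rw [Scheme.IdealSheafData.ideal_pow, Pi.pow_apply, Scheme.IdealSheafData.ideal_pow, Pi.pow_apply,
      Scheme.IdealSheafData.radical_ideal, h, Ideal.radical_top, Ideal.top_pow, Ideal.top_pow]

end Groth.Agent.S17399
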