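import Groth.Statements.S1740
import Groth.Agent.H4TorFactor.Main

set_option autoImplicit false
universe u
open CategoryTheory
attribute [local instance] HasDerivedCategory.standard
open LocCoh

namespace Groth.Agent.S1740

/-- Let α : M → M' be a map of R-modules with M finitely presented such that the induced map Tor_1(M, N)
→ Tor_1(M', N) is zero for every R-module N. Then α is the composite of a map from M into a free
R-module and a map from that free module to M'. -/
theorem result (R : Type u) [CommRing R] (M M' : Type u) [AddCommGroup M] [Module R M] [Module.FinitePresentation R M] [AddCommGroup M'] [Module R M'] (α : M →ₗ[R] M') (h : ∀ (N : Type u) [AddCommGroup N] [Module R N], ((CategoryTheory.Tor (ModuleCat.{u} R) 1).map (ModuleCat.ofHom α)).app (ModuleCat.of R N) = 0) : ∃ (ι : Type u) (g : M →ₗ[R] (ι →₀ R)) (h : (ι →₀ R) →ₗ[R] M'), α = h ∘ₗ g := by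
  obtain ⟨g, hg⟩ := H4TorFactor.exists_factor α h
  exact ⟨M', g, Finsupp.linearCombination R id, hg.symm⟩

end Groth.Agent.S1740
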