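import Groth.Statements.S17407
import Groth.Agent.H26Cyc.Apply

set_option autoImplicit false
set_option maxHeartbeats 1000000
set_option backward.isDefEq.respectTransparency false
universe u
open AlgebraicGeometry CategoryTheory CategoryTheory.Limits
open CycCov

namespace Groth.Agent.S17407

open CategoryTheory AlgebraicGeometry in
/-- For X integral and smooth over an algebraically closed field k, L an invertible module, N ≥ 1
invertible in k, D_1, …, D_r a strict normal crossing divisor on X with multiplicities α_j, s a
global section of the N-th tensor power of L whose divisor of zeros is D = Σ α_j D_j, and π : Y → X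
with its root datum the normalised cyclic N-th-root cover of X defined by s, assume that the
components D_j with α_j > 0 are pairwise disjoint (the reduced divisor of D is non-singular; the D_j
with α_j = 0 form an auxiliary reduced divisor Γ, D + Γ a normal crossing divisor). Then the reduced
preimages (π^*D_j)_red, j = 1, …, r, form a strict normal crossing divisor on Y over k. (The
published claim is the local statement over an affine open where D has one component; normal
crossings being a local property, it is stated here on all of Y.) -/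
theorem result {k : Type u} [Field k] [IsAlgClosed k] {X Y : Scheme.{u}}
    (f : X ⟶ Spec (CommRingCat.of k)) [Smooth f] [IsIntegral X]
    (L : X.Modules) (hL : PicF.IsInvertible L) (N : ℕ) (hN : 0 < N) (hNk : (N : k) ≠ 0)
    {r : ℕ} (D : Fin r → X.IdealSheafData) (α : Fin r → ℕ) (hD : LogNCD.IsNCD D f)
    (s : Coh.structureModule X ⟶ CohB1.tensorPow L N) (hs : CycCov.IsZeroDiv (CohB1.tensorPow L N) s (CycCov.divIdeal D α))
    (π : Y ⟶ X) (R : CycCov.Root L N s π) (hR : CycCov.IsCover R)
    (hdisj : ∀ (x : X) (j j' : Fin r), 0 < α j → 0 < α j' → x ∈ (D j).support → x ∈ (D j').support → j = j') :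
    LogNCD.IsNCD (fun j : Fin r => ((D j).comap π).radical) (π ≫ f) := by
  intro y hne
  have hsupp : ∀ i : Fin r, (y ∈ (((D i).comap π).radical).support ↔ π y ∈ (D i).support) := fun i => by
    rw [Scheme.IdealSheafData.support_radical, Scheme.IdealSheafData.support_comap]
    rfl
  have hne' : Nonempty (LogNCD.Through D (π y)) := hne.map fun i => ⟨i.1, (hsupp i.1).1 i.2⟩
  obtain ⟨i₀, hi₀⟩ := H26Cyc.exists_main (fun j j' => hdisj (π y) j j') hne'
  obtain ⟨V, hyV, -, n, u, σ, hu, hσ, -, hrad, hoff⟩ :=
    H26Cyc.exists_model f hL hN hNk hD hs R hR ⊤ y (Set.mem_univ _) i₀ hi₀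
  refine ⟨V.1, hyV, n, fun j => V.1.topIso.inv (u j.down), fun i => σ ⟨i.1, (hsupp i.1).1 i.2⟩,
    fun a b h => Subtype.ext (congrArg (fun t : LogNCD.Through D (π y) => t.1) (hσ h) :),
    H26Cyc.etale_homOfVector (π ≫ f) V u hu, fun i U hU => ?_, fun i hi U hU => ?_⟩
  · rw [← Scheme.IdealSheafData.map_ideal _ hU, hrad ⟨i.1, (hsupp i.1).1 i.2⟩, Ideal.map_span, Set.image_singleton,
      LogNCD.sectOn_apply, Iso.inv_hom_id_apply]
    rfl
  · rw [← Scheme.IdealSheafData.map_ideal _ hU, Scheme.IdealSheafData.radical_ideal,
      hoff i fun h => hi ((hsupp i).2 h), Ideal.radical_top, Ideal.map_top]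

end Groth.Agent.S17407
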