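import Groth.Statements.S17409
import Mathlib.Algebra.MvPolynomial.PDeriv
import Mathlib.Algebra.MvPolynomial.Nilpotent
import Mathlib.Tactic

set_option autoImplicit false
universe u
open Prym5

namespace Groth.Agent.S17409

/-- Over a perfect field K of characteristic different from 2 and 3, let G₂, G₃, G₄ be polynomials in
two variables x, y and consider G₂ z² + 2 G₃ z + G₄ as a polynomial in the three variables x, y, z.
If it lies in the square of the ideal (x, y, z) — the surface it defines has a double point at the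
origin — then the discriminant G₃² − G₂ G₄ lies in the square of the ideal (x, y) of K[x, y], so the
plane curve G₃² − G₂ G₄ = 0 is singular at the origin. (This is the affine-local form used in the
published proof: the surface is a quartic with a node at the centre of projection placed at infinity
on the z-axis, and the curve is the branch sextic of that projection.) -/
theorem result (K : Type u) [Field K] [PerfectField K]
    (h2 : (2 : K) ≠ 0) (h3 : (3 : K) ≠ 0) (G₂ G₃ G₄ : MvPolynomial (Fin 2) K)
    (h : MvPolynomial.rename (Fin.castSucc : Fin 2 → Fin 3) G₂ * MvPolynomial.X (2 : Fin 3) ^ 2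
        + 2 * MvPolynomial.rename (Fin.castSucc : Fin 2 → Fin 3) G₃ * MvPolynomial.X (2 : Fin 3)
        + MvPolynomial.rename (Fin.castSucc : Fin 2 → Fin 3) G₄
        ∈ (Ideal.span (Set.range (MvPolynomial.X : Fin 3 → MvPolynomial (Fin 3) K))) ^ 2) :
    G₃ ^ 2 - G₂ * G₄ ∈ (Ideal.span (Set.range (MvPolynomial.X : Fin 2 → MvPolynomial (Fin 2) K))) ^ 2 := by
  let m2 := Ideal.span (Set.range (MvPolynomial.X : Fin 2 → MvPolynomial (Fin 2) K))
  let m3 := Ideal.span (Set.range (MvPolynomial.X : Fin 3 → MvPolynomial (Fin 3) K))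
  let φ : MvPolynomial (Fin 3) K →ₐ[K] MvPolynomial (Fin 2) K := MvPolynomial.aeval ![MvPolynomial.X 0, MvPolynomial.X 1, 0]
  have hφG : ∀ G, φ (MvPolynomial.rename (Fin.castSucc : Fin 2 → Fin 3) G) = G := by
    intro G
    rw [MvPolynomial.aeval_rename]
    convert MvPolynomial.aeval_X_left_apply G using 3
    funext i; fin_cases i <;> rfl
  have hX2 : φ (MvPolynomial.X 2) = 0 := by simp [φ]
  have hm : ∀ f ∈ m3, φ f ∈ m2 := by
    intro f hf
    induction hf using Submodule.span_induction with
    | mem x hx =>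
      obtain ⟨i, rfl⟩ := hx
      fin_cases i
      · exact Ideal.subset_span ⟨0, by simp [φ]⟩
      · exact Ideal.subset_span ⟨1, by simp [φ]⟩
      · simp [φ]
    | zero => simp
    | add x y _ _ hx hy => rw [map_add]; exact m2.add_mem hx hy
    | smul a x _ hx => rw [smul_eq_mul, map_mul]; exact m2.mul_mem_left _ hx
  have hm2 : ∀ f ∈ m3 ^ 2, φ f ∈ m2 ^ 2 ∧ φ (MvPolynomial.pderiv 2 f) ∈ m2 := by
    intro f hf
    rw [pow_two] at hf
    refine Submodule.mul_induction_on hf ?_ ?_
    · intro a ha b hb
      refine ⟨by rw [map_mul, pow_two]; exact Ideal.mul_mem_mul (hm a ha) (hm b hb), ?_⟩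
      rw [MvPolynomial.pderiv_mul, map_add, map_mul, map_mul]
      exact m2.add_mem (m2.mul_mem_left _ (hm b hb)) (m2.mul_mem_right _ (hm a ha))
    · intro x y hx hy
      rw [map_add, map_add, map_add]
      exact ⟨(m2 ^ 2).add_mem hx.1 hy.1, m2.add_mem hx.2 hy.2⟩
  obtain ⟨hG4, hG3⟩ := hm2 _ h
  have hp : ∀ G : MvPolynomial (Fin 2) K, MvPolynomial.pderiv (2 : Fin 3) (MvPolynomial.rename (Fin.castSucc : Fin 2 → Fin 3) G) = 0 := by
    intro G
    induction G using MvPolynomial.induction_on with
    | C a => simp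
    | add p q hp hq => simp [hp, hq]
    | mul_X p i hp => fin_cases i <;> simp [MvPolynomial.pderiv_mul, hp]
  simp only [map_add, map_mul, map_pow, map_ofNat, hφG, hX2, MvPolynomial.pderiv_mul, hp, MvPolynomial.pderiv_X_self, Derivation.leibniz_pow, zero_mul, zero_add, add_zero, mul_zero, mul_one, map_zero] at hG4 hG3
  simp only [zero_pow (two_ne_zero), mul_zero, zero_add] at hG4
  simp [hφG, hX2] at hG3
  have h3' : G₃ ∈ m2 := by
    have hu : IsUnit (2 : MvPolynomial (Fin 2) K) := by
      rw [← map_ofNat (MvPolynomial.C), MvPolynomial.isUnit_iff]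
      exact ⟨by simpa using h2.isUnit, fun i hi => by simp [MvPolynomial.coeff_C, Ne.symm hi]⟩
    exact (Ideal.mul_unit_mem_iff_mem m2 hu).mp (by rwa [mul_comm] at hG3)
  refine Ideal.sub_mem _ ?_ (Ideal.mul_mem_left _ _ hG4)
  exact Ideal.pow_mem_pow h3' 2

end Groth.Agent.S17409
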