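import Groth.Statements.S1741
import Groth.Agent.H4TorFactor.ExtTor

set_option autoImplicit false
universe u
open CategoryTheory
attribute [local instance] HasDerivedCategory.standard
open LocCoh

namespace Groth.Agent.S1741

/-- Equivalence of (4) and (7) in the Noetherian case. Let R be a Noetherian ring, α : M → M' a map of
R-modules with M finite, and e ≥ 0. Then precomposition with α kills all classes in Ext^{e+1}(M', N)
(maps M' → N[e+1] in D(R)) for every module N if and only if the map Tor_{e+1}(M, N) → Tor_{e+1}(M',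
N) induced by α is zero for every module N. -/
theorem result (R : Type u) [CommRing R] [IsNoetherianRing R] (M M' : Type u) [AddCommGroup M] [Module R M] [Module.Finite R M] [AddCommGroup M'] [Module R M'] (α : M →ₗ[R] M') (e : ℕ) : (∀ (N : Type u) [AddCommGroup N] [Module R N] (φ : Dual.inD R M' ⟶ (Dual.inD R N)⟦((e : ℤ) + 1)⟧), (DerivedCategory.singleFunctor (ModuleCat.{u} R) 0).map (ModuleCat.ofHom α) ≫ φ = 0) ↔ (∀ (N : Type u) [AddCommGroup N] [Module R N], ((CategoryTheory.Tor (ModuleCat.{u} R) (e + 1)).map (ModuleCat.ofHom α)).app (ModuleCat.of R N) = 0) := by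
  have key : (∀ (N : Type u) [AddCommGroup N] [Module R N] (φ : Dual.inD R M' ⟶ (Dual.inD R N)⟦((e : ℤ) + 1)⟧), (DerivedCategory.singleFunctor (ModuleCat.{u} R) 0).map (ModuleCat.ofHom α) ≫ φ = 0) ↔
      H4TorFactor.ExtZero (ModuleCat.ofHom α) e := by
    refine ⟨fun h N z => Abelian.Ext.homEquiv.injective ?_, fun h N _ _ φ => ?_⟩
    · show ((Abelian.Ext.mk₀ (ModuleCat.ofHom α)).comp z (zero_add _)).hom = (0 : Abelian.Ext (ModuleCat.of R M) N (e + 1)).hom
      rw [Abelian.Ext.comp_hom, Abelian.Ext.mk₀_hom, ShiftedHom.mk₀_comp, Abelian.Ext.zero_hom]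
      exact h N z.hom
    · obtain ⟨z, rfl⟩ := (Abelian.Ext.homEquiv (X := ModuleCat.of R M') (Y := ModuleCat.of R N) (n := e + 1)).surjective φ
      have hz := congrArg Abelian.Ext.hom (h (ModuleCat.of R N) z)
      rw [Abelian.Ext.comp_hom, Abelian.Ext.mk₀_hom, ShiftedHom.mk₀_comp, Abelian.Ext.zero_hom] at hz
      exact hz
  have hgood : H4TorFactor.Good (ModuleCat.of R M) :=
    ⟨ModuleCat.of R M, 𝟙 _, inferInstance, fun N i z hz => by rwa [Abelian.Ext.mk₀_id_comp] at hz⟩
  rw [key, H4TorFactor.extZero_itOm]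
  refine ⟨fun h N _ _ => (H4TorFactor.torZero_itOm e (ModuleCat.ofHom α) (ModuleCat.of R N)).2
    (H4TorFactor.torZero_of_extZero _ h _), fun h => ?_⟩
  exact H4TorFactor.extZero_of_torZero _ (H4TorFactor.good_itOm e _ hgood)
    fun N => (H4TorFactor.torZero_itOm e (ModuleCat.ofHom α) N).1 (h N)

end Groth.Agent.S1741
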