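import Groth.Statements.S17410
import Mathlib

set_option autoImplicit false
universe u
open Prym5

namespace Groth.Agent.S17410

open Polynomial TensorProduct in
theorem finrank_tensor_adjoinRoot (R F : Type*) [CommRing R] [Field F] [Algebra R F] (h : R[X])
    (hne : h.map (algebraMap R F) ≠ 0) :
    Module.finrank F (F ⊗[R] AdjoinRoot h) = (h.map (algebraMap R F)).natDegree := by
  set h' := h.map (algebraMap R F) with hh'
  let j : AdjoinRoot h →ₐ[R] AdjoinRoot h' := AdjoinRoot.liftAlgHom h (Algebra.ofId R _) (AdjoinRoot.root h')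
    (by rw [Algebra.toRingHom_ofId, IsScalarTower.algebraMap_eq R F (AdjoinRoot h'), ← Polynomial.eval₂_map,
          ← Polynomial.aeval_def, AdjoinRoot.aeval_eq, AdjoinRoot.mk_self])
  let toA : F ⊗[R] AdjoinRoot h →ₐ[F] AdjoinRoot h' :=
    Algebra.TensorProduct.lift (Algebra.ofId F _) j (fun x y => Commute.all _ _)
  let back : AdjoinRoot h' →ₐ[F] F ⊗[R] AdjoinRoot h :=
    AdjoinRoot.liftAlgHom h' (Algebra.ofId F _) (1 ⊗ₜ AdjoinRoot.root h) (by
      rw [Algebra.toRingHom_ofId, ← Polynomial.aeval_def, hh', Polynomial.aeval_map_algebraMap,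
        show (1 : F) ⊗ₜ[R] AdjoinRoot.root h = Algebra.TensorProduct.includeRight (AdjoinRoot.root h) from rfl,
        Polynomial.aeval_algHom_apply, AdjoinRoot.aeval_eq, AdjoinRoot.mk_self, map_zero])
  let e : F ⊗[R] AdjoinRoot h ≃ₐ[F] AdjoinRoot h' := AlgEquiv.ofAlgHom toA back
    (AdjoinRoot.algHom_ext (by simp [toA, back, j]))
    (Algebra.TensorProduct.ext (Algebra.ext_id _ _ _)
      (AdjoinRoot.algHom_ext (by simp [toA, back, j])))
  rw [e.toLinearEquiv.finrank_eq, PowerBasis.finrank (AdjoinRoot.powerBasis hne), AdjoinRoot.powerBasis_dim]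


/-- Over a perfect field K of characteristic different from 2 and 3, let h be an irreducible polynomial
of degree 2 in the variable z with coefficients in K[x, y] and A = K[x, y][z]/(h). For every
multiplicative subset S of K[x, y], the localisation S⁻¹A is integral over S⁻¹K[x, y] if and only if
the leading coefficient of h is invertible in S⁻¹K[x, y]; and K(x, y) ⊗ A is a K(x, y)-vector space
of dimension 2. (Geometrically: for a quartic surface with an ordinary double point, written u₂ x₃²
+ 2 u₃ x₃ + u₄ = 0 with the node at (0:0:0:1), the projection from the node restricted to a standard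
affine chart of the plane is given by such an algebra A with leading coefficient the dehomogenised
u₂, so the projection is finite of degree two exactly over the locus u₂ ≠ 0. Stated for any
irreducible h of degree 2, which is all the argument uses.) -/
theorem result (K : Type u) [Field K]
    [PerfectField K] (h2 : (2 : K) ≠ 0) (h3 : (3 : K) ≠ 0)
    (h : Polynomial (MvPolynomial (Fin 2) K)) (hirr : Irreducible h) (hdeg : h.natDegree = 2)
    (S : Submonoid (MvPolynomial (Fin 2) K)) :
    (Algebra.IsIntegral (Localization S) (Localization (Algebra.algebraMapSubmonoid (AdjoinRoot h) S))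
        ↔ IsUnit (algebraMap (MvPolynomial (Fin 2) K) (Localization S) h.leadingCoeff))
      ∧ Module.finrank (FractionRing (MvPolynomial (Fin 2) K))
          (TensorProduct (MvPolynomial (Fin 2) K) (FractionRing (MvPolynomial (Fin 2) K)) (AdjoinRoot h)) = 2 := by
  classical
  have hne : h ≠ 0 := hirr.ne_zero
  refine ⟨⟨fun hint => ?_, fun hu => ?_⟩, ?_⟩
  · by_cases h0 : (0 : MvPolynomial (Fin 2) K) ∈ S
    · haveI := IsLocalization.subsingleton (M := S) (S := Localization S) h0
      exact isUnit_of_subsingleton _
    have hS : S ≤ nonZeroDivisors (MvPolynomial (Fin 2) K) := fun x hx =>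
      mem_nonZeroDivisors_of_ne_zero (fun e => h0 (e ▸ hx))
    have hinj := IsLocalization.injective (Localization S) hS
    haveI : IsDomain (Localization S) := IsLocalization.isDomain_of_le_nonZeroDivisors _ hS
    obtain ⟨g, hg, hga⟩ := hint.isIntegral (algebraMap (AdjoinRoot h)
      (Localization (Algebra.algebraMapSubmonoid (AdjoinRoot h) S)) (AdjoinRoot.root h))
    set G := IsLocalization.integerNormalization S g with hG
    obtain ⟨b, hb, hGb⟩ := IsLocalization.integerNormalization_spec S g
    have hGa := IsLocalization.integerNormalization_aeval_eq_zero S g (show Polynomial.aeval _ g = 0 from hga)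
    rw [Polynomial.aeval_algebraMap_apply, AdjoinRoot.aeval_eq,
      IsLocalization.map_eq_zero_iff (Algebra.algebraMapSubmonoid (AdjoinRoot h) S)] at hGa
    obtain ⟨⟨_, t, ht, rfl⟩, htG⟩ := hGa
    have hdvd : h ∣ Polynomial.C t * G := by
      rw [← AdjoinRoot.mk_eq_zero, map_mul, AdjoinRoot.mk_C]
      exact htG
    have hG' : h ∣ G := by
      rcases (UniqueFactorizationMonoid.irreducible_iff_prime.mp hirr).dvd_or_dvd hdvd with h1 | h1
      · have ht0 : t ≠ 0 := fun e => h0 (e ▸ ht)
        have h2 := Polynomial.natDegree_le_of_dvd h1 (by simpa using ht0)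
        simp [hdeg] at h2
      · exact h1
    have hlc : G.leadingCoeff = b := by
      apply hinj
      rw [← Polynomial.leadingCoeff_map_of_injective hinj, hGb,
        ← IsScalarTower.algebraMap_smul (Localization S) b g, Polynomial.smul_eq_C_mul,
        Polynomial.leadingCoeff_mul, Polynomial.leadingCoeff_C, hg.leadingCoeff, mul_one]
    obtain ⟨q, hq⟩ := hG'
    exact isUnit_of_dvd_unit ⟨algebraMap _ _ q.leadingCoeff, by
      rw [← map_mul, ← Polynomial.leadingCoeff_mul, ← hq, hlc]⟩ (IsLocalization.map_units (Localization S) ⟨b, hb⟩)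
  · obtain ⟨u, hu⟩ := hu
    set Am := Localization (Algebra.algebraMapSubmonoid (AdjoinRoot h) S)
    set α : Am := algebraMap (AdjoinRoot h) Am (AdjoinRoot.root h) with hα
    have hαint : IsIntegral (Localization S) α := by
      refine ⟨Polynomial.C (↑u⁻¹ : Localization S) * h.map (algebraMap _ (Localization S)), ?_, ?_⟩
      · by_cases hs : Subsingleton (Localization S)
        · exact Polynomial.monic_of_subsingleton _
        haveI := not_subsingleton_iff_nontrivial.mp hs
        refine Polynomial.monic_C_mul_of_mul_leadingCoeff_eq_one ?_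
        rw [Polynomial.leadingCoeff_map_of_leadingCoeff_ne_zero, ← hu, Units.inv_mul]
        rw [← hu]; exact u.ne_zero
      · show Polynomial.aeval α _ = 0
        rw [map_mul, Polynomial.aeval_C, Polynomial.aeval_map_algebraMap, hα, Polynomial.aeval_algebraMap_apply, AdjoinRoot.aeval_eq,
          AdjoinRoot.mk_self, map_zero, mul_zero]
    have himg : ∀ a : AdjoinRoot h, IsIntegral (Localization S) (algebraMap (AdjoinRoot h) Am a) := by
      intro a
      obtain ⟨p, rfl⟩ := AdjoinRoot.mk_surjective a
      rw [← AdjoinRoot.aeval_eq, ← Polynomial.aeval_algebraMap_apply (R := MvPolynomial (Fin 2) K) Am, ← hα,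
        ← Polynomial.aeval_map_algebraMap (Localization S)]
      exact adjoin_le_integralClosure hαint (Polynomial.aeval_mem_adjoin_singleton _ _)
    refine ⟨fun x => ?_⟩
    obtain ⟨⟨a, ⟨_, s, hs, rfl⟩⟩, hx⟩ := IsLocalization.surj (Algebra.algebraMapSubmonoid (AdjoinRoot h) S) x
    obtain ⟨w, hw⟩ := IsLocalization.map_units (Localization S) ⟨s, hs⟩
    have hx' : x = algebraMap (Localization S) Am (↑w⁻¹ : Localization S) * algebraMap (AdjoinRoot h) Am a := by
      rw [← hx]
      simp only
      change (↑w : Localization S) = algebraMap (MvPolynomial (Fin 2) K) (Localization S) s at hw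
      rw [← IsScalarTower.algebraMap_apply (MvPolynomial (Fin 2) K) (AdjoinRoot h) Am,
        IsScalarTower.algebraMap_apply (MvPolynomial (Fin 2) K) (Localization S) Am, ← hw,
        mul_left_comm, ← map_mul, Units.inv_mul, map_one, mul_one]
    rw [hx']
    exact (isIntegral_algebraMap).mul (himg a)
  · have hmap : h.map (algebraMap _ (FractionRing (MvPolynomial (Fin 2) K))) ≠ 0 :=
      (Polynomial.map_ne_zero_iff (IsFractionRing.injective _ _)).mpr hne
    rw [finrank_tensor_adjoinRoot _ _ h hmap, Polynomial.natDegree_map_eq_of_injective (IsFractionRing.injective _ _), hdeg]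

end Groth.Agent.S17410
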