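import Groth.Statements.S17411
import Groth.Agent.H8Props.FieldDimScheme
import Groth.Agent.H05EGA4.Topo

set_option autoImplicit false
universe u
open CategoryTheory AlgebraicGeometry
open Prym5

namespace Groth.Agent.S17411


open CategoryTheory AlgebraicGeometry
open Groth.Agent.H8Props.FieldDim

theorem cdim_map_le {k : Type u} [Field k] {Y Z : Scheme.{u}} (g : Y ⟶ Spec (CommRingCat.of k)) (h : Z ⟶ Spec (CommRingCat.of k))
    [LocallyOfFiniteType g] [LocallyOfFiniteType h] (f : Y ⟶ Z) (w : f ≫ h = g) (y : Y) :
    cdim (f y) ≤ cdim y := by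
  let φ := Spec.preimage (Z.fromSpecResidueField (f y) ≫ h)
  let ψ := Spec.preimage (Y.fromSpecResidueField y ≫ g)
  letI := φ.hom.toAlgebra
  letI := ψ.hom.toAlgebra
  obtain ⟨s, hs, hs'⟩ := exists_trdeg h (L := Z.residueField (f y)) (Z.fromSpecResidueField (f y))
    (Spec.map_preimage _).symm (IsLocalRing.closedPoint _)
  obtain ⟨t, ht, ht'⟩ := exists_trdeg g (L := Y.residueField y) (Y.fromSpecResidueField y)
    (Spec.map_preimage _).symm (IsLocalRing.closedPoint _)
  erw [Scheme.fromSpecResidueField_apply] at hs ht
  have hcomp : φ ≫ f.residueFieldMap y = ψ := Spec.map_injective (by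
    rw [Spec.map_comp, Spec.map_preimage, Spec.map_preimage, ← Category.assoc,
      Scheme.Hom.SpecMap_residueFieldMap_fromSpecResidueField, Category.assoc, w])
  let m : Z.residueField (f y) →ₐ[k] Y.residueField y :=
    { (f.residueFieldMap y).hom with
      commutes' := fun c => congrArg (fun q : CommRingCat.of k ⟶ Y.residueField y => q.hom c) hcomp }
  have hle := trdeg_le_of_injective m (f.residueFieldMap y).hom.injective
  rw [hs', ht'] at hle
  rw [hs, ht]
  exact_mod_cast hle

theorem cdim_generic {Y : Scheme.{u}} [IrreducibleSpace Y] : cdim (genericPoint Y) = topologicalKrullDim Y := by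
  have h : closure ({genericPoint Y} : Set Y) = Set.univ := genericPoint_spec Y
  rw [cdim, h]
  exact (Homeomorph.Set.univ Y).isHomeomorph.topologicalKrullDim_eq


/-- Let k be an algebraically closed field of characteristic zero and X, Y, Z schemes of finite type
over k, with Y and Z irreducible of the same dimension, η : Y → Z a dominant k-morphism and ρ : X →
Y a k-morphism. Then the composite ρ ≫ η is dominant exactly when ρ is dominant. (The published
statement concerns the forgetful map from the moduli space of étale double covers of genus-five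
curves to the moduli space of genus-five curves, both irreducible of dimension 12, and a morphism
into the former; its argument uses only the hypotheses kept here.) -/
theorem result (k : Type u) [Field k] [IsAlgClosed k]
    [CharZero k] (X Y Z : Scheme.{u}) [X.Over (Spec (CommRingCat.of k))] [Y.Over (Spec (CommRingCat.of k))]
    [Z.Over (Spec (CommRingCat.of k))]
    [LocallyOfFiniteType (X ↘ Spec (CommRingCat.of k))] [QuasiCompact (X ↘ Spec (CommRingCat.of k))]
    [LocallyOfFiniteType (Y ↘ Spec (CommRingCat.of k))] [QuasiCompact (Y ↘ Spec (CommRingCat.of k))]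
    [LocallyOfFiniteType (Z ↘ Spec (CommRingCat.of k))] [QuasiCompact (Z ↘ Spec (CommRingCat.of k))]
    [IrreducibleSpace Y] [IrreducibleSpace Z] (hdim : topologicalKrullDim Y = topologicalKrullDim Z)
    (ρ : X ⟶ Y) [ρ.IsOver (Spec (CommRingCat.of k))] (η : Y ⟶ Z) [η.IsOver (Spec (CommRingCat.of k))]
    [IsDominant η] :
    IsDominant (ρ ≫ η) ↔ IsDominant ρ := by
  refine ⟨fun hd => ?_, fun _ => inferInstance⟩
  haveI := hd
  haveI : CompactSpace X := QuasiCompact.compactSpace_of_compactSpace (X ↘ Spec (CommRingCat.of k))
  haveI : IsLocallyNoetherian X := LocallyOfFiniteType.isLocallyNoetherian (X ↘ Spec (CommRingCat.of k))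
  haveI : IsNoetherian X := {}
  haveI : QuasiCompact (ρ ≫ η) := quasiCompact_of_noetherianSpace_source _
  obtain ⟨x, hx⟩ := Groth.Agent.H05EGA4.exists_specializes_of_mem_closure_range (ρ ≫ η)
    (y := genericPoint Z) ((Scheme.Hom.denseRange (ρ ≫ η)) _)
  have he : η (ρ x) = genericPoint Z := (hx.antisymm (genericPoint_specializes _)).eq
  have hy : ρ x = genericPoint Y := by
    by_contra hne
    have h1 := Groth.Agent.H8Props.FieldDim.cdim_lt (Y ↘ Spec (CommRingCat.of k))
      (genericPoint_specializes (ρ x)) (Ne.symm hne)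
    have h2 := cdim_map_le (Y ↘ Spec (CommRingCat.of k)) (Z ↘ Spec (CommRingCat.of k)) η
      (comp_over η (Spec (CommRingCat.of k))) (ρ x)
    rw [he, cdim_generic, ← hdim, ← cdim_generic] at h2
    exact not_lt.2 h2 h1
  refine ⟨fun y => ?_⟩
  have h : closure ({genericPoint Y} : Set Y) = Set.univ := genericPoint_spec Y
  exact closure_mono (Set.singleton_subset_iff.2 (show genericPoint Y ∈ Set.range ρ from ⟨x, hy⟩))
    (h ▸ Set.mem_univ y)

end Groth.Agent.S17411
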