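import Groth.Statements.S17413
import Groth.Agent.H23Dom.Main

set_option autoImplicit false
universe u
open CategoryTheory AlgebraicGeometry
open Prym5

namespace Groth.Agent.S17413

/-- Let k be an algebraically closed field of characteristic zero, X a reduced scheme of finite type
over k, Y an integral scheme of finite type over k and u : X → Y a k-morphism. Then u is dominant if
and only if there is a closed point P of X such that X is regular at P and the differential of u at
P is surjective onto the tangent space of Y at u(P); surjectivity of the differential is written
dually as injectivity of the map of cotangent spaces m_{u(P)}/m_{u(P)}² → m_P/m_P² induced by the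
local homomorphism of u at P. (The published statement asks only that Y be irreducible, puts no
condition on P and concludes that the scheme-theoretic image is all of Y. Without regularity at P
the backward implication fails: the inclusion of the union of the two coordinate axes into the
affine plane induces a bijection of tangent spaces at the origin and is not dominant. Without
reducedness of Y the forward implication fails: the reduced line inside the doubled line y² = 0 is
dominant but its differential is nowhere surjective. For Y integral and u quasi-compact, dominance
is the same as the scheme-theoretic image being Y.) -/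
theorem result (k : Type u) [Field k]
    [IsAlgClosed k] [CharZero k] (X Y : Scheme.{u})
    [X.Over (Spec (CommRingCat.of k))] [Y.Over (Spec (CommRingCat.of k))]
    [LocallyOfFiniteType (X ↘ Spec (CommRingCat.of k))] [QuasiCompact (X ↘ Spec (CommRingCat.of k))]
    [LocallyOfFiniteType (Y ↘ Spec (CommRingCat.of k))] [QuasiCompact (Y ↘ Spec (CommRingCat.of k))]
    [AlgebraicGeometry.IsReduced X] [AlgebraicGeometry.IsIntegral Y] (u : X ⟶ Y) [u.IsOver (Spec (CommRingCat.of k))] :
    IsDominant u ↔
      ∃ P : X, IsClosed ({P} : Set X) ∧ IsRegularLocalRing (X.presheaf.stalk P) ∧
        ∀ a ∈ IsLocalRing.maximalIdeal (Y.presheaf.stalk (u P)),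
          (u.stalkMap P).hom a ∈ IsLocalRing.maximalIdeal (X.presheaf.stalk P) ^ 2 →
            a ∈ IsLocalRing.maximalIdeal (Y.presheaf.stalk (u P)) ^ 2 := by
  have e : u ≫ (Y ↘ Spec (CommRingCat.of k)) = X ↘ Spec (CommRingCat.of k) := comp_over u _
  haveI : LocallyOfFiniteType (u ≫ (Y ↘ Spec (CommRingCat.of k))) := by rw [e]; infer_instance
  haveI : QuasiCompact (u ≫ (Y ↘ Spec (CommRingCat.of k))) := by rw [e]; infer_instance
  constructor
  · intro _
    exact H23Dom.exists_point_of_dominant (Y ↘ Spec (CommRingCat.of k)) u
  · rintro ⟨P, hP, hreg, h⟩
    exact H23Dom.dominant_of_point (Y ↘ Spec (CommRingCat.of k)) u hP hreg h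

end Groth.Agent.S17413
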