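import Groth.Statements.S17414
import Mathlib

set_option autoImplicit false
universe u
open Prym5

namespace Groth.Agent.S17414

open MvPolynomial in
theorem mem_m_iff {σ K : Type*} [CommRing K] (p : MvPolynomial σ K) :
    p ∈ Ideal.span (Set.range (X : σ → MvPolynomial σ K)) ↔ constantCoeff p = 0 := by
  have h := mem_pow_idealOfVars_iff' (σ := σ) (R := K) 1 p
  rw [pow_one] at h
  rw [h]
  constructor
  · intro h'; simpa [constantCoeff_eq] using h' 0 (by simp)
  · intro h' x hx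
    have : x = 0 := by
      ext i
      have hx' : Finsupp.degree x = 0 := by omega
      simpa using (Finsupp.degree_eq_zero_iff x).mp hx' ▸ rfl
    subst this; simpa [constantCoeff_eq] using h'


/-- Over a perfect field K of characteristic different from 2 and 3, let G₂, G₃, G₄ be polynomials in x,
y, let h = G₂ z² + 2 G₃ z + G₄ in K[x, y, z] and D = G₃² − G₂ G₄ in K[x, y]. Suppose h ∈ (x, y, z) —
the origin Q lies on the surface h = 0 — and D ∈ (x, y) — the image of Q under (x, y, z) ↦ (x, y)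
lies on the discriminant curve D = 0. Then D ∈ (x, y)², i.e. the image point is singular on the
discriminant curve, if and only if either h ∈ (x, y, z)², i.e. Q is a singular point of the surface,
or G₂, G₃, G₄ ∈ (x, y), i.e. Q lies on all three cones G₂ = G₃ = G₄ = 0. (Affine-local form, in a
chart where the node projected from sits at infinity on the z-axis and Q at the origin, of the
published claim: for a point Q ≠ P of the nodal quartic whose projection lies on the branch sextic,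
the projection is singular on the sextic exactly when Q is singular on the quartic or lies on the
cones u₂ = u₃ = u₄ = 0.) -/
theorem result (K : Type u) [Field K] [PerfectField K]
    (h2 : (2 : K) ≠ 0) (h3 : (3 : K) ≠ 0) (G₂ G₃ G₄ : MvPolynomial (Fin 2) K)
    (hQ : MvPolynomial.rename (Fin.castSucc : Fin 2 → Fin 3) G₂ * MvPolynomial.X (2 : Fin 3) ^ 2
        + 2 * MvPolynomial.rename (Fin.castSucc : Fin 2 → Fin 3) G₃ * MvPolynomial.X (2 : Fin 3)
        + MvPolynomial.rename (Fin.castSucc : Fin 2 → Fin 3) G₄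
        ∈ Ideal.span (Set.range (MvPolynomial.X : Fin 3 → MvPolynomial (Fin 3) K)))
    (hD : G₃ ^ 2 - G₂ * G₄ ∈ Ideal.span (Set.range (MvPolynomial.X : Fin 2 → MvPolynomial (Fin 2) K))) :
    G₃ ^ 2 - G₂ * G₄ ∈ (Ideal.span (Set.range (MvPolynomial.X : Fin 2 → MvPolynomial (Fin 2) K))) ^ 2 ↔
      (MvPolynomial.rename (Fin.castSucc : Fin 2 → Fin 3) G₂ * MvPolynomial.X (2 : Fin 3) ^ 2
          + 2 * MvPolynomial.rename (Fin.castSucc : Fin 2 → Fin 3) G₃ * MvPolynomial.X (2 : Fin 3)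
          + MvPolynomial.rename (Fin.castSucc : Fin 2 → Fin 3) G₄
          ∈ (Ideal.span (Set.range (MvPolynomial.X : Fin 3 → MvPolynomial (Fin 3) K))) ^ 2 ∨
        (G₂ ∈ Ideal.span (Set.range (MvPolynomial.X : Fin 2 → MvPolynomial (Fin 2) K)) ∧
          G₃ ∈ Ideal.span (Set.range (MvPolynomial.X : Fin 2 → MvPolynomial (Fin 2) K)) ∧
          G₄ ∈ Ideal.span (Set.range (MvPolynomial.X : Fin 2 → MvPolynomial (Fin 2) K)))) := by
  classical
  set m₂ : Ideal (MvPolynomial (Fin 2) K) := Ideal.span (Set.range MvPolynomial.X) with hm₂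
  set m₃ : Ideal (MvPolynomial (Fin 3) K) := Ideal.span (Set.range MvPolynomial.X) with hm₃
  let φ : MvPolynomial (Fin 2) K →ₐ[K] MvPolynomial (Fin 3) K := MvPolynomial.rename Fin.castSucc
  let ψ : MvPolynomial (Fin 3) K →ₐ[K] MvPolynomial (Fin 2) K :=
    MvPolynomial.aeval (![MvPolynomial.X 0, MvPolynomial.X 1, 0] : Fin 3 → MvPolynomial (Fin 2) K)
  have hψφ : ∀ p, ψ (φ p) = p := by
    intro p
    have : ψ.comp φ = AlgHom.id K _ := MvPolynomial.algHom_ext fun i => by fin_cases i <;> simp [ψ, φ]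
    exact AlgHom.congr_fun this p
  have hmapψ : m₃.map ψ ≤ m₂ := by
    rw [hm₃, Ideal.map_span, Ideal.span_le]
    rintro _ ⟨_, ⟨i, rfl⟩, rfl⟩
    fin_cases i
    · simpa [ψ, hm₂] using Ideal.subset_span (s := Set.range (MvPolynomial.X : Fin 2 → MvPolynomial (Fin 2) K)) (Set.mem_range_self (0 : Fin 2))
    · simpa [ψ, hm₂] using Ideal.subset_span (s := Set.range (MvPolynomial.X : Fin 2 → MvPolynomial (Fin 2) K)) (Set.mem_range_self (1 : Fin 2))
    · simp [ψ]
  have hmapφ : m₂.map φ ≤ m₃ := by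
    rw [hm₂, Ideal.map_span, Ideal.span_le]
    rintro _ ⟨_, ⟨i, rfl⟩, rfl⟩
    simpa [φ, hm₃] using Ideal.subset_span (s := Set.range (MvPolynomial.X : Fin 3 → MvPolynomial (Fin 3) K)) (Set.mem_range_self i.castSucc)
  have hX : (MvPolynomial.X (2 : Fin 3) : MvPolynomial (Fin 3) K) ∈ m₃ := Ideal.subset_span ⟨2, rfl⟩
  have h4 : G₄ ∈ m₂ := by
    have := hmapψ (Ideal.mem_map_of_mem ψ hQ)
    have hX2 : ψ (MvPolynomial.X (2 : Fin 3)) = 0 := by simp [ψ]
    change ψ (φ G₂ * MvPolynomial.X (2 : Fin 3) ^ 2 + 2 * φ G₃ * MvPolynomial.X (2 : Fin 3) + φ G₄) ∈ m₂ at this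
    rw [map_add, map_add, map_mul, map_mul, map_pow, hX2, hψφ, hψφ G₄] at this
    simpa using this
  have h3' : G₃ ∈ m₂ := by
    rw [mem_m_iff] at hD h4 ⊢
    simpa [h4] using hD
  have hz2 : φ G₂ * MvPolynomial.X (2 : Fin 3) ^ 2 ∈ m₃ ^ 2 :=
    Ideal.mul_mem_left _ _ (Ideal.pow_mem_pow hX 2)
  have hz1 : 2 * φ G₃ * MvPolynomial.X (2 : Fin 3) ∈ m₃ ^ 2 := by
    rw [pow_two]
    exact Ideal.mul_mem_mul (Ideal.mul_mem_left _ _ (hmapφ (Ideal.mem_map_of_mem φ h3'))) hX
  have hh : φ G₂ * MvPolynomial.X (2 : Fin 3) ^ 2 + 2 * φ G₃ * MvPolynomial.X (2 : Fin 3) + φ G₄ ∈ m₃ ^ 2 ↔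
      G₄ ∈ m₂ ^ 2 := by
    rw [add_mem_cancel_left (add_mem hz2 hz1)]
    constructor
    · intro h
      have h' := Ideal.mem_map_of_mem ψ h
      rw [Ideal.map_pow, hψφ] at h'
      exact Ideal.pow_right_mono hmapψ 2 h'
    · intro h
      have h' := Ideal.mem_map_of_mem φ h
      rw [Ideal.map_pow] at h'
      exact Ideal.pow_right_mono hmapφ 2 h'
  have hG3 : G₃ ^ 2 ∈ m₂ ^ 2 := Ideal.pow_mem_pow h3' 2
  have hD' : G₃ ^ 2 - G₂ * G₄ ∈ m₂ ^ 2 ↔ G₂ * G₄ ∈ m₂ ^ 2 := ⟨fun h => by simpa using sub_mem hG3 h, fun h => sub_mem hG3 h⟩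
  refine hD'.trans (Iff.trans ?_ (or_congr hh.symm Iff.rfl))
  constructor
  · intro h
    by_cases h2' : G₂ ∈ m₂
    · exact Or.inr ⟨h2', h3', h4⟩
    · left
      rw [mem_m_iff] at h2'
      set c := MvPolynomial.constantCoeff G₂
      have hd : G₂ - MvPolynomial.C c ∈ m₂ := by rw [mem_m_iff]; simp [c]
      have : MvPolynomial.C c * G₄ ∈ m₂ ^ 2 := by
        have h5 : (G₂ - MvPolynomial.C c) * G₄ ∈ m₂ ^ 2 := by rw [pow_two]; exact Ideal.mul_mem_mul hd h4
        convert sub_mem h h5 using 1; ring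
      have h6 := Ideal.mul_mem_left _ (MvPolynomial.C c⁻¹) this
      rwa [← mul_assoc, ← map_mul, inv_mul_cancel₀ h2', map_one, one_mul] at h6
  · rintro (h | ⟨h2', -, -⟩)
    · exact Ideal.mul_mem_left _ _ h
    · rw [pow_two]; exact Ideal.mul_mem_mul h2' h4

end Groth.Agent.S17414
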