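import Groth.Statements.S17417
import Groth.Agent.H14ModSt.Fibred

set_option autoImplicit false
set_option backward.isDefEq.respectTransparency false
set_option backward.isDefEq.respectTransparency.types false
open CategoryTheory CategoryTheory.Limits AlgebraicGeometry
universe u
open ModSt

namespace Groth.Agent.S17417

/-- Let `f : X ⟶ S` be a morphism of schemes. The category over `(Sch/S)` of finitely presented modules
flat over the base (objects over `T`: a cartesian square `X_T` over `T` and a finitely presented
`T`-flat module on `X_T`; morphisms: cartesian comparison maps over morphisms of bases) is fibred in
groupoids. (The source states this for a morphism of finite presentation of algebraic spaces `X → B`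
over a base scheme and for modules whose support is moreover proper over the base; this row is the
case of schemes with base `S = B`, for the category without the support condition, and for any
morphism `f`.) -/
theorem result {X S : Scheme.{u}} (f : X ⟶ S) :
    FibCat.IsFibGrpd (ModSt.Coh f).p := by
  exact Groth.Agent.H14ModSt.coh_fibGrpd f

end Groth.Agent.S17417
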