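import Groth.Statements.S1742
import Groth.Agent.H4Depth.Spread
import Groth.Agent.H4Depth.LocDepth

set_option autoImplicit false
universe u
open LocCoh

namespace Groth.Agent.S1742

/-- Let A be a Noetherian ring, I an ideal, M a finite A-module and p a prime containing I such that the
IA_p-depth of M_p is a finite number e. Then there is an open subset U of Spec A meeting V(p) such
that the IA_q-depth of M_q is at least e for every q in U ∩ V(p). -/
theorem result (A : Type u) [CommRing A] [IsNoetherianRing A] (I : Ideal A) (M : Type u) [AddCommGroup M] [Module A M] [Module.Finite A M] (p : PrimeSpectrum A) (hp : I ≤ p.asIdeal) (e : ℕ) (he : LocCoh.idealDepth (I.map (algebraMap A (Localization.AtPrime p.asIdeal))) (LocalizedModule p.asIdeal.primeCompl M) = e) : ∃ U : Set (PrimeSpectrum A), IsOpen U ∧ (U ∩ PrimeSpectrum.zeroLocus (p.asIdeal : Set A)).Nonempty ∧ ∀ q : PrimeSpectrum A, q ∈ U → p ≤ q → (e : ℕ∞) ≤ LocCoh.idealDepth (I.map (algebraMap A (Localization.AtPrime q.asIdeal))) (LocalizedModule q.asIdeal.primeCompl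 M) := by
  open Groth.Agent.H4Depth in
  have hne : (I.map (algebraMap A (Localization.AtPrime p.asIdeal))) •
      (⊤ : Submodule (Localization.AtPrime p.asIdeal) (LocalizedModule p.asIdeal.primeCompl M)) ≠ ⊤ := fun h => by
    rw [Groth.Agent.H4Depth.idealDepth_eq_top h] at he
    exact ENat.top_ne_natCast e he
  obtain ⟨xs, hlen, hmem, hreg⟩ := Groth.Agent.H4Depth.exists_isWeaklyRegular_of_le_idealDepth hne he.ge
  obtain ⟨ys, hlen', hys, hregy⟩ := Groth.Agent.H4Depth.exists_lift_regular p.asIdeal I xs hmem hreg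
  obtain ⟨f, hf, hnhd⟩ := Groth.Agent.H4Depth.exists_isWeaklyRegular_nhd p.asIdeal ys hregy
  refine ⟨(PrimeSpectrum.basicOpen f : Set (PrimeSpectrum A)), PrimeSpectrum.isOpen_basicOpen, ⟨p, hf, fun x hx => hx⟩, fun q hq _ => ?_⟩
  refine le_of_eq_of_le (by simp [hlen', hlen]) (Groth.Agent.H4Depth.length_le_idealDepth
    ((RingTheory.Sequence.isWeaklyRegular_map_algebraMap_iff (Localization.AtPrime q.asIdeal) _ ys).2 (hnhd q hq)) fun r hr => ?_)
  obtain ⟨y, hy, rfl⟩ := List.mem_map.1 hr
  exact Ideal.mem_map_of_mem _ (hys y hy)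

end Groth.Agent.S1742
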