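import Groth.Statements.S17421
import Groth.Agent.H14ModSt.Fibred
import Groth.Agent.H14AlgSt.SubstackGen
import Groth.Agent.H8Props.FreeLocus.Fibrewise

set_option autoImplicit false
open CategoryTheory CategoryTheory.Limits AlgebraicGeometry
universe u
open ModSt

namespace Groth.Agent.S17421

open H8Props.FunDescent H8Props.FreeLocus FibCat Groth.Agent.H14AlgSt

variable {X S : Scheme.{u}} {f : X ⟶ S}

lemma sandwich {C : Type*} [Category C] {a b c d : C} (h1 : a = b) (h2 : c = d) (m : b ⟶ c) :
    eqToHom h1.symm ≫ (eqToHom h1 ≫ m ≫ eqToHom h2) ≫ eqToHom h2.symm = m := by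
  subst h1 h2; simp

/-- The points of the total space near which the module is a line bundle. -/
def lineLocus (A : (ModSt.Coh f).obj) : Set A.obj.XT :=
  {y | FlatFun.IsFreeOfRankNear A.obj.E 1 y}

lemma isOpen_lineLocus (A : (ModSt.Coh f).obj) : IsOpen (lineLocus A) :=
  isOpen_iff_forall_mem_open.2 fun _ ⟨U, hy, e⟩ => ⟨U, fun _ hz => ⟨U, hz, e⟩, U.isOpen, hy⟩

/-- The points of the base over which the module is a line bundle. -/
def lineBase [IsProper f] (A : (ModSt.Coh f).obj) : A.obj.base.left.Opens :=
  haveI : IsProper A.obj.q := MorphismProperty.of_isPullback A.obj.isPullback ‹_›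
  ⟨(A.obj.q '' (lineLocus A)ᶜ)ᶜ,
    (A.obj.q.isClosedMap _ (isOpen_lineLocus A).isClosed_compl).isOpen_compl⟩

/-- Being a line bundle after base change is landing in `lineBase`. -/
lemma isLine_iff [IsProper f] {A' A : (ModSt.Coh f).obj} (φ : A' ⟶ A) :
    FlatMod.IsFinLocFreeOfRank 1 A'.obj.E ↔ Set.range φ.hom.base.left ⊆ (lineBase A : Set _) := by
  have hc := φ.hom.isPullback_top
  let e := H14ModSt.pullbackIsoOfHom φ.hom
  constructor
  · rintro h _ ⟨t, rfl⟩ ⟨y, hy, hyt⟩
    obtain ⟨z, hz, -⟩ := Scheme.Pullback.exists_preimage_pullback (f := A.obj.q)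
      (g := φ.hom.base.left) y t hyt
    refine hy ?_
    have hz' : φ.hom.top (hc.isoPullback.inv z) = y := by
      rw [← Scheme.Hom.comp_apply, IsPullback.isoPullback_inv_fst, hz]
    rw [← hz']
    exact isFreeOfRankNear_of_stalkFree_of_isFP _ A.property.2
      (stalkFree_of_baseChange A.obj.q A.obj.E A.property.2 hc (A.property.1 _)
        (stalkFree_iso e.symm (stalkFree_of_isFreeOfRankNear _
          (H29Fitt.isQCoh_of_isFP _ A'.property.2) (h _))))
  · intro h x
    refine isFreeOfRankNear_of_stalkFree_of_isFP _ A'.property.2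
      (stalkFree_iso e (stalkFree_pullback _ _ ?_))
    refine stalkFree_of_isFreeOfRankNear _ (H29Fitt.isQCoh_of_isFP _ A.property.2) ?_
    by_contra hy
    refine h ⟨A'.obj.q x, rfl⟩ ⟨_, hy, ?_⟩
    rw [← Scheme.Hom.comp_apply, φ.hom.w_q, Scheme.Hom.comp_apply]

/-- Let `f : X ⟶ S` be a flat proper morphism of schemes, locally of finite presentation. The inclusion,
into the stack of finitely presented flat modules on the base changes of `X`, of its full
subcategory on the objects whose module is finite locally free of rank `1` is representable by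
algebraic spaces and an open immersion. (The source states this for algebraic spaces `X → B` over a
base scheme, with the Picard stack of invertible modules as the source of the functor and modules
with proper support in the target; this row is the case of schemes with `S = B`: as `f` is flat and
proper, an invertible module on a base change `X_T`, i.e. one finite locally free of rank `1`, is
finitely presented, flat over `T` and of proper support, so the Picard stack is rendered as this
full subcategory.) -/
theorem result {X S : Scheme.{u}} (f : X ⟶ S)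
    [Flat f] [IsProper f] [LocallyOfFinitePresentation f] :
    AlgSt.IsOpenImm (AlgSt.subIncl (ModSt.Coh f) fun A => FlatMod.IsFinLocFreeOfRank 1 A.obj.E) := by
  refine repWith_subIncl_of_subspaces (P := @IsOpenImmersion) ⟨fun {A B} e h => ?_⟩ fun U x => ?_
  · exact (isLine_iff e.inv).2 fun t _ => (isLine_iff (𝟙 A)).1 h ⟨t, rfl⟩
  let A := x.obj (Over.mk (𝟙 U))
  have hA : A.obj.base = U := Functor.congr_obj x.w (Over.mk (𝟙 U))
  let ι : Over.mk ((lineBase A).ι ≫ A.obj.base.hom) ⟶ A.obj.base := Over.homMk (lineBase A).ι rfl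
  haveI : IsOpenImmersion ι.left := inferInstanceAs (IsOpenImmersion (lineBase A).ι)
  haveI : Mono ι := Functor.mono_of_mono_map (Over.forget S) (inferInstanceAs (Mono ι.left))
  refine ⟨_, ι ≫ eqToHom hA, ?_, inferInstance, fun s => ?_⟩
  · haveI : IsIso (eqToHom hA).left := inferInstanceAs (IsIso ((Over.forget S).map (eqToHom hA)))
    exact inferInstanceAs (IsOpenImmersion ((lineBase A).ι ≫ (eqToHom hA).left))
  let φ : x.obj s ⟶ A := x.map (Over.homMk s.hom)
  have hφ : φ.hom.base = eqToHom (Functor.congr_obj x.w s) ≫ s.hom ≫ eqToHom hA.symm :=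
    Functor.congr_hom x.w (Over.homMk (U := s) (V := Over.mk (𝟙 U)) s.hom)
  rw [isLine_iff φ]
  constructor
  · intro h
    let l : (x.obj s).obj.base.left ⟶ (lineBase A) :=
      IsOpenImmersion.lift (lineBase A).ι φ.hom.base.left (by simpa using h)
    have hl : l ≫ (lineBase A).ι = φ.hom.base.left := IsOpenImmersion.lift_fac _ _ _
    let g : (x.obj s).obj.base ⟶ Over.mk ((lineBase A).ι ≫ A.obj.base.hom) :=
      Over.homMk l (by simp [← Category.assoc, hl])
    refine ⟨eqToHom (Functor.congr_obj x.w s).symm ≫ g, ?_⟩
    have hg : g ≫ ι = φ.hom.base := Over.OverMorphism.ext hl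
    refine (Category.assoc _ _ _).trans ((congrArg _ ((Category.assoc _ _ _).symm.trans
      (congrArg (· ≫ eqToHom hA) (hg.trans hφ)))).trans ?_)
    exact sandwich _ _ _
  · rintro ⟨g, hg⟩
    have h2 : φ.hom.base = (eqToHom (Functor.congr_obj x.w s) ≫ g) ≫ ι := by
      refine hφ.trans ?_
      refine (congrArg (fun m => eqToHom _ ≫ m ≫ eqToHom hA.symm) hg.symm).trans ?_
      simp only [Category.assoc, eqToHom_trans, eqToHom_refl, Category.comp_id]
      exact (Category.assoc _ _ _).symm
    rw [h2]
    rintro _ ⟨t, rfl⟩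
    exact ((eqToHom (Functor.congr_obj x.w s) ≫ g).left t).2

end Groth.Agent.S17421
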