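import Groth.Statements.S17428
import Groth.Agent.H27Frob.Completion
import Mathlib

set_option autoImplicit false
universe u
open FrobAlg

namespace Groth.Agent.S17428

/-- Let p be a prime, A a regular local ring of characteristic p whose absolute Frobenius a ↦ a^p is a
finite ring homomorphism, I an ideal of A and Â the I-adic completion of A. Then Spec Â → Spec A is
relatively perfect: the relative Frobenius Â ⊗_{A,Frob} A → Â, b ⊗ a ↦ b^p a, is bijective. (Â is
also flat over A since A is Noetherian, so the morphism is flat and relatively perfect. The instance
hypothesis that Â has characteristic p holds as soon as I ≠ A.) -/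
theorem result (p : ℕ) [Fact p.Prime]
    (A : Type u) [CommRing A] [IsRegularLocalRing A] [CharP A p] (hF : (frobenius A p).Finite)
    (I : Ideal A) [CharP (AdicCompletion I A) p] :
    Function.Bijective (FrobAlg.relFrob p A (AdicCompletion I A)) := by
  exact Groth.Agent.H27FrobCompl.relFrob_bijective p A I hF

end Groth.Agent.S17428
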