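import Groth.Statements.S17429
import Groth.Agent.H8Props.IndSmoothKaehler.Flat
import Groth.Agent.H8Props.IndSmoothKaehler.ExtPowFlat
import Groth.Agent.H9Popescu.FieldCase
import Groth.Agent.H05EGA4.FieldSmooth
import Groth.Agent.H05EGA4.FSBaseChange
import Groth.Agent.H4LC.Cd
import Groth.Agent.H4LC.Depth
import Groth.Agent.H4LC.Colimit

set_option autoImplicit false
universe u
open LocCoh

namespace Groth.Agent.S17429

/-- Let p be a prime, A a regular local ring of characteristic p, t_1, …, t_r an A-regular sequence such
that A/(t_1, …, t_r) is again a regular local ring (a regular closed immersion Z ↪ X = Spec A of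
codimension r with Z regular and non-empty), and I = (t_1, …, t_r). Then for every i and every j ≠ r
the local cohomology module H^j_I(Ω^i_A) vanishes, where Ω^i_A is the i-th exterior power over A of
the module of Kähler differentials of A over ℤ (the same module as over the prime field). (Module
form, for X local, of the vanishing of the local cohomology sheaves H^j_Z(X, Ω^i_X), j ≠ r; the same
vanishing holds more generally for the de Rham–Witt sheaves W_mΩ^i_X and their quotients by
dV^{m-1}Ω^{i-1}_X on the étale site of a regular F_p-scheme, a form not stated here.) -/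
theorem result (p : ℕ) [Fact p.Prime]
    (A : Type u) [CommRing A] [IsRegularLocalRing A] [CharP A p]
    (ts : List A) (hreg : RingTheory.Sequence.IsRegular A ts)
    (hZ : IsRegularLocalRing (A ⧸ Ideal.ofList ts))
    (i j : ℕ) (hj : j ≠ ts.length) :
    Subsingleton (LocCoh.H (Ideal.ofList ts) j
      ↥(ExteriorAlgebra.exteriorPower A i (KaehlerDifferential ℤ A))) := by
  classical
  let I := Ideal.ofList ts
  -- flatness of the differentials
  let k : Type u := ULift.{u} (ZMod p)
  letI : Algebra k A := ((ZMod.castHom (dvd_refl p) A).comp (ULift.ringEquiv : k ≃+* ZMod p).toRingHom).toAlgebra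
  haveI : Finite k := Finite.of_equiv _ Equiv.ulift.symm
  haveI : PerfectField k := PerfectField.ofFinite
  haveI hflat : Module.Flat A (Ω[A⁄ℤ]) := by
    haveI : Module.Flat A (Ω[A⁄k]) := H8Props.IndSmoothKaehler.flat_kaehler
      (H9Popescu.indSmooth_of_geometricallyRegular (H05EGA4.isGeometricallyRegular_of_isAdicFormallySmooth
        (H05EGA4.isAdicFormallySmooth_of_perfectField k A)))
    haveI : IsScalarTower ℤ k A := IsScalarTower.of_algebraMap_eq fun n => by simp
    have hsk : Function.Surjective (algebraMap ℤ k) := fun x => by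
      obtain ⟨n, hn⟩ := ZMod.intCast_surjective x.down
      exact ⟨n, ULift.ext _ _ (by rw [eq_intCast]; exact hn)⟩
    haveI := KaehlerDifferential.subsingleton_of_surjective ℤ k hsk
    refine Module.Flat.of_linearEquiv (LinearEquiv.ofBijective (KaehlerDifferential.map ℤ k A A)
      ⟨?_, KaehlerDifferential.map_surjective ℤ k A⟩)
    rw [← LinearMap.ker_eq_bot, (KaehlerDifferential.exact_mapBaseChange_map ℤ k A).linearMap_ker_eq]
    exact LinearMap.range_eq_bot.2 (Subsingleton.elim _ _)
  let M : Type u := ↥(⋀[A]^i (Ω[A⁄ℤ]))
  haveI : Module.Flat A M := H8Props.IndSmoothKaehler.flat_exteriorPower A (Ω[A⁄ℤ]) i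
  rcases Nat.lt_or_gt_of_ne hj with hlt | hgt
  · -- below the length: reduce to finite free modules
    refine subsingleton_of_forall_eq 0 fun z => ?_
    obtain ⟨S, hS, w, rfl⟩ := H4LC.exists_fg_H I j M z
    haveI : Module.Finite A S := Module.Finite.of_fg hS
    haveI : Module.FinitePresentation A S := Module.finitePresentation_of_finite A S
    obtain ⟨m, g, y, hy⟩ := Module.Flat.exists_factorization_of_finitePresentation (R := A) (M := M) (P := ↥S) S.subtype
    have hw : RingTheory.Sequence.IsWeaklyRegular (Fin m →₀ A) ts :=
      ((TensorProduct.rid A (Fin m →₀ A)).isWeaklyRegular_congr ts).mp hreg.toIsWeaklyRegular.isWeaklyRegular_lTensor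
    haveI := H4LC.subsingleton_H_of_lt_idealDepth I (Fin m →₀ A) (i := j)
      (lt_of_lt_of_le (by exact_mod_cast hlt) (H4Depth.length_le_idealDepth hw fun x hx => Ideal.subset_span hx))
    rw [hy, H4LC.Hmap_comp, LinearMap.comp_apply, Subsingleton.elim (H4LC.Hmap I g j w) 0, map_zero]
  · have h := H4LC.cdLE_span_finset ts.toFinset
    rw [show Ideal.span ((ts.toFinset : Finset A) : Set A) = I from by simp [I, Ideal.ofList]] at h
    exact h M j (lt_of_le_of_lt ts.toFinset_card_le hgt)

end Groth.Agent.S17429
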