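import Groth.Statements.S17430
import Groth.Agent.H25Adj.Root

set_option autoImplicit false
universe u v w
open LieAlgebra LieModule
open AdjVar

namespace Groth.Agent.S17430

open LieAlgebra LieModule Module Groth.Agent.H25Adj

/-- Let L be a finite-dimensional simple Lie algebra over an algebraically closed field K of
characteristic zero, H a Cartan subalgebra and b a basis of (L, H) in Mathlib's sense (Chevalley
generators h_i, e_i, f_i indexed by a finite type, with simple roots α_i = b.baseSupp i and upper
Borel subalgebra 𝔟 = H + the Lie subalgebra generated by the e_i). Let ρ be the highest root: a root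
of H on L whose root space is nonzero and such that no ρ + α_i is a root (the root space of ρ + α_i
is zero for every i). Assume that exactly one simple root α_j is not orthogonal to ρ (ρ(h_i) ≠ 0 if
and only if i = j) and that ρ(h_j) = 1; for simple L these two conditions say precisely that L is
not of type A_r or C_r (r ≥ 1), the case excluded in the source. Then a two-dimensional linear
subspace W of L is stable under 𝔟 (bracketing with any element of 𝔟 maps W into W) if and only if W
is the sum of the root spaces of ρ and of ρ − α_j. Equivalently, the projective line spanned by the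
root vectors of ρ and ρ − α_j is the only line of P(L) stable under the Borel subgroup (over the
complex numbers, stability under the connected group B is the same as stability under its Lie
algebra 𝔟, which is the form stated here). -/
theorem result {ι : Type u} {K : Type v} {L : Type w} [Fintype ι] [Field K] [CharZero K]
    [IsAlgClosed K] [LieRing L] [LieAlgebra K L] [FiniteDimensional K L] [LieAlgebra.IsSimple K L]
    (H : LieSubalgebra K L) [H.IsCartanSubalgebra] (b : LieAlgebra.Basis ι H)
    (ρ : Module.Dual K H) (hρ : rootSpace H ρ ≠ ⊥) (htop : ∀ i, rootSpace H (ρ + b.baseSupp i) = ⊥)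
    (j : ι) (hN : ∀ i, ρ (b.h' i) ≠ 0 ↔ i = j) (hj : ρ (b.h' j) = 1)
    (W : Submodule K L) :
    (Module.finrank K W = 2 ∧
        ∀ x ∈ H.toSubmodule ⊔ (b.borelUpper : Submodule K L), ∀ w ∈ W, ⁅x, w⁆ ∈ W) ↔
      W = (rootSpace H ρ : Submodule K L) ⊔ (rootSpace H (ρ - b.baseSupp j) : Submodule K L) := by
  classical
  obtain ⟨D, rfl⟩ := exists_highVec b ρ hρ htop
  have e1 : (rootSpace H D.ρ : Submodule K L) = K ∙ D.v := (rootSpace_eq_wsp H D.ρ).trans (wsp_ρ_eq D)
  have e2 : (rootSpace H ((D.ρ : H → K) - b.baseSupp j) : Submodule K L) = K ∙ ⁅b.f j, D.v⁆ :=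
    (rootSpace_eq_wsp H (D.ρ - b.baseSupp j)).trans (wsp_sub_eq D hN)
  rw [e1, e2, stable_iff]
  have hlt : K ∙ D.v < K ∙ D.v ⊔ K ∙ ⁅b.f j, D.v⁆ := by
    refine lt_of_le_of_ne le_sup_left fun h => ?_
    have hm : ⁅b.f j, D.v⁆ ∈ K ∙ D.v := by
      rw [h]; exact Submodule.mem_sup_right (Submodule.mem_span_singleton_self _)
    obtain ⟨a, ha⟩ := Submodule.mem_span_singleton.mp hm
    have := congrArg (fun z => ⁅b.e j, z⁆) ha
    simp [lie_smul, D.killed, D.e_f_self hj, D.ne_zero.symm] at this
  have h2 : finrank K ↥(K ∙ D.v ⊔ K ∙ ⁅b.f j, D.v⁆) = 2 := by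
    have h1 := Submodule.finrank_lt_finrank_of_lt hlt
    have h3 := Submodule.finrank_add_le_finrank_add_finrank (K ∙ D.v) (K ∙ ⁅b.f j, D.v⁆)
    rw [finrank_span_singleton D.ne_zero] at h1 h3
    rw [finrank_span_singleton (D.f_lie_ne_zero hj)] at h3
    omega
  constructor
  · rintro ⟨hd, hW, hWe⟩
    obtain ⟨hv, hf⟩ := D.v_f_mem hN hW hWe hd.ge
    refine (Submodule.eq_of_le_of_finrank_eq ?_ (h2.trans hd.symm)).symm
    simp only [sup_le_iff, Submodule.span_singleton_le_iff_mem]
    exact ⟨hv, hf⟩
  · rintro rfl
    refine ⟨h2, fun h w hw => ?_, fun i w hw => ?_⟩ <;>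
      obtain ⟨y, hy, z, hz, rfl⟩ := Submodule.mem_sup.mp hw <;>
      obtain ⟨a, rfl⟩ := Submodule.mem_span_singleton.mp hy <;>
      obtain ⟨c, rfl⟩ := Submodule.mem_span_singleton.mp hz <;>
      rw [lie_add, lie_smul, lie_smul]
    · rw [D.mem h, D.f_mem h]
      exact add_mem (Submodule.mem_sup_left (Submodule.smul_mem _ _ (Submodule.smul_mem _ _ (Submodule.mem_span_singleton_self _))))
        (Submodule.mem_sup_right (Submodule.smul_mem _ _ (Submodule.smul_mem _ _ (Submodule.mem_span_singleton_self _))))
    · rw [D.killed, smul_zero, zero_add]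
      refine Submodule.smul_mem _ _ ?_
      rcases eq_or_ne i j with rfl | hij
      · rw [D.e_f_self hj]; exact Submodule.mem_sup_left (Submodule.mem_span_singleton_self _)
      · rw [D.e_f_ne hij]; exact zero_mem _

end Groth.Agent.S17430
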