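import Groth.Statements.S17432
import Groth.Agent.H25Adj.Root

set_option autoImplicit false
universe u v w
open LieAlgebra LieModule
open AdjVar

namespace Groth.Agent.S17432

open LieAlgebra LieModule Module Groth.Agent.H25Adj

/-- Only the last coefficient survives. -/
theorem finish {K V : Type*} [Field K] [CharZero K] [AddCommGroup V] [Module K V] (q : QuadraticForm K V)
    (B : Module.Basis (Fin 3) K V) (z00 : QuadraticMap.polar q (B 0) (B 0) = 0)
    (z01 : QuadraticMap.polar q (B 0) (B 1) = 0) (z02 : QuadraticMap.polar q (B 0) (B 2) = 0)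
    (z11 : QuadraticMap.polar q (B 1) (B 1) = 0) (z12 : QuadraticMap.polar q (B 1) (B 2) = 0) :
    ∀ w, q w = q (B 2) * B.coord 2 w ^ 2 := by
  intro w
  rw [QuadraticMap.polar_self, smul_eq_zero] at z00 z11
  have e0 : q (B 0) = 0 := z00.resolve_left two_ne_zero
  have e1 : q (B 1) = 0 := z11.resolve_left two_ne_zero
  conv_lhs => rw [← B.sum_repr w, Fin.sum_univ_three]
  simp only [QuadraticMap.map_add, QuadraticMap.map_smul, QuadraticMap.polar_smul_left,
    QuadraticMap.polar_smul_right, QuadraticMap.polar_add_left, e0, e1, z01, z02, z12, smul_zero,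
    zero_add, add_zero, smul_eq_mul, Module.Basis.coord_apply, mul_zero]
  ring

/-- A quadratic form semi-invariant under two nilpotent maps along a flag is a multiple of a square. -/
theorem quad_square {K V : Type*} [Field K] [CharZero K] [AddCommGroup V] [Module K V] (q : QuadraticForm K V)
    (B : Module.Basis (Fin 3) K V) (N M : V →ₗ[K] V) (t : K) (ht : t ≠ 0)
    (hN0 : N (B 0) = 0) (hN1 : N (B 1) = B 0) (hN2 : N (B 2) = 0)
    (hM0 : M (B 0) = 0) (hM1 : M (B 1) = 0) (hM2 : M (B 2) = t • B 1)
    (hN : ∃ c : K, ∀ w, QuadraticMap.polar q (N w) w = c * q w)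
    (hM : ∃ c : K, ∀ w, QuadraticMap.polar q (M w) w = c * q w) :
    ∀ w, q w = q (B 2) * B.coord 2 w ^ 2 := by
  set P := QuadraticMap.polarBilin q with hP
  have key : ∀ (T : V →ₗ[K] V) (c : K), (∀ w, QuadraticMap.polar q (T w) w = c * q w) →
      ∀ u v, P (T u) v + P (T v) u = c * P u v := by
    intro T c h u v
    have h3 := h (u + v)
    simp only [map_add, QuadraticMap.polar_add_left, QuadraticMap.polar_add_right, h u, h v] at h3
    show QuadraticMap.polar q (T u) v + QuadraticMap.polar q (T v) u = c * QuadraticMap.polar q u v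
    simp only [QuadraticMap.polar] at h3 ⊢
    linear_combination h3
  obtain ⟨c, hc⟩ := hN
  obtain ⟨d, hd⟩ := hM
  have N00 := key N c hc (B 0) (B 0)
  have N01 := key N c hc (B 0) (B 1)
  have N02 := key N c hc (B 0) (B 2)
  have N11 := key N c hc (B 1) (B 1)
  have N12 := key N c hc (B 1) (B 2)
  have N22 := key N c hc (B 2) (B 2)
  have M02 := key M d hd (B 0) (B 2)
  have M12 := key M d hd (B 1) (B 2)
  have M22 := key M d hd (B 2) (B 2)
  simp only [hN0, hN1, hN2, map_zero, LinearMap.zero_apply, zero_add, add_zero] at N00 N01 N02 N11 N12 N22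
  simp only [hM0, hM1, hM2, map_smul, map_zero, LinearMap.zero_apply, LinearMap.smul_apply, smul_eq_mul,
    zero_add, add_zero] at M02 M12 M22
  have sym : ∀ x y, P x y = P y x := fun x y => QuadraticMap.polar_comm q x y
  rw [sym (B 1) (B 0)] at M02
  rcases eq_or_ne c 0 with rfl | hc0
  · -- c = 0
    simp only [zero_mul, add_self_eq_zero] at N01 N02 N11 N12
    have z00 : P (B 0) (B 0) = 0 := N01
    have z01 : P (B 0) (B 1) = 0 := N11
    have z02 : P (B 0) (B 2) = 0 := N12
    rcases eq_or_ne d 0 with rfl | hd0
    · simp only [zero_mul, mul_eq_zero, ht, false_or, add_self_eq_zero] at M12 M22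
      exact finish q B z00 z01 z02 M12 M22
    · rw [z01, mul_zero] at M02
      have z22 := key M d hd (B 2) (B 2)
      have z11 : P (B 1) (B 1) = 0 := by
        have := key M d hd (B 1) (B 1)
        simpa [hM1, hd0] using this
      rw [z11, mul_zero, eq_comm] at M12
      exact finish q B z00 z01 z02 z11 ((mul_eq_zero.mp M12).resolve_left hd0)
  · have z00 : P (B 0) (B 0) = 0 := by simpa [hc0] using N00
    have z01 : P (B 0) (B 1) = 0 := by simpa [hc0, z00] using N01
    have z02 : P (B 0) (B 2) = 0 := by simpa [hc0] using N02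
    have z11 : P (B 1) (B 1) = 0 := by simpa [hc0, z01] using N11
    have z12 : P (B 1) (B 2) = 0 := by simpa [hc0, z02] using N12
    exact finish q B z00 z01 z02 z11 z12

/-- Let L be a finite-dimensional simple Lie algebra over an algebraically closed field K of
characteristic zero, H a Cartan subalgebra and b a basis of (L, H) in Mathlib's sense (Chevalley
generators h_i, e_i, f_i indexed by a finite type, with simple roots α_i = b.baseSupp i and upper
Borel subalgebra 𝔟 = H + the Lie subalgebra generated by the e_i). Let ρ be the highest root: a root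
of H on L whose root space is nonzero and such that no ρ + α_i is a root (the root space of ρ + α_i
is zero for every i). Assume that exactly one simple root α_j is not orthogonal to ρ (ρ(h_i) ≠ 0 if
and only if i = j) and that ρ(h_j) = 1; for simple L these two conditions say precisely that L is
not of type A_r or C_r (r ≥ 1), the case excluded in the source. Let W be a three-dimensional linear
subspace of L stable under 𝔟 and q a quadratic form on W which is semi-invariant under 𝔟: for every
x in 𝔟 there is a scalar c with polar_q([x, w], w) = c q(w) for all w in W (this is the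
infinitesimal condition for the line spanned by q, equivalently the conic q = 0 of the plane P(W),
to be stable under the Borel subgroup). Then q is a scalar multiple of the square of a linear form
on W. In the source's words: P(L) contains no Borel-stable conic which is smooth or reducible (a
pair of distinct lines); only double lines occur. (Over the complex numbers a conic of rank at least
two is Borel-stable exactly when its plane is 𝔟-stable and its equation is 𝔟-semi-invariant, which
is the form stated here.) -/
theorem result {ι : Type u} {K : Type v} {L : Type w} [Fintype ι] [Field K] [CharZero K]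
    [IsAlgClosed K] [LieRing L] [LieAlgebra K L] [FiniteDimensional K L] [LieAlgebra.IsSimple K L]
    (H : LieSubalgebra K L) [H.IsCartanSubalgebra] (b : LieAlgebra.Basis ι H)
    (ρ : Module.Dual K H) (hρ : rootSpace H ρ ≠ ⊥) (htop : ∀ i, rootSpace H (ρ + b.baseSupp i) = ⊥)
    (j : ι) (hN : ∀ i, ρ (b.h' i) ≠ 0 ↔ i = j) (hj : ρ (b.h' j) = 1)
    (W : Submodule K L) (hW : Module.finrank K W = 3)
    (hst : ∀ x ∈ H.toSubmodule ⊔ (b.borelUpper : Submodule K L), ∀ w ∈ W, ⁅x, w⁆ ∈ W)
    (q : QuadraticForm K W)
    (hq : ∀ (x : L) (hx : x ∈ H.toSubmodule ⊔ (b.borelUpper : Submodule K L)), ∃ c : K, ∀ w : W,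
      QuadraticMap.polar q ⟨⁅x, (w : L)⁆, hst x hx w w.property⟩ w = c * q w) :
    ∃ (ℓ : Module.Dual K W) (c : K), ∀ w : W, q w = c * ℓ w ^ 2 := by
  classical
  obtain ⟨D, rfl⟩ := exists_highVec b ρ hρ htop
  obtain ⟨h1, h2⟩ := (stable_iff b W).mp hst
  obtain ⟨k, hkj, hA, hne, hWeq⟩ := D.three hN hj h1 h2 hW
  let g : Fin 3 → L := ![D.v, ⁅b.f j, D.v⁆, ⁅b.f k, ⁅b.f j, D.v⁆⁆]
  have hspan : Submodule.span K (Set.range g) = W := by
    rw [hWeq]
    simp only [g, Matrix.range_cons, Matrix.range_empty, Set.union_empty, Submodule.span_union, sup_assoc]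
  have hli : LinearIndependent K g :=
    linearIndependent_iff_card_eq_finrank_span.mpr (by
      rw [Set.finrank, hspan, hW, Fintype.card_fin])
  let B : Module.Basis (Fin 3) K W := (Module.Basis.span hli).map (LinearEquiv.ofEq _ _ hspan)
  have hB : ∀ i, (B i : L) = g i := fun i => by simp [B]
  let ad : ι → (W →ₗ[K] W) := fun i =>
    ((LieModule.toEnd K L L (b.e i)).restrict fun w hw => h2 i w hw)
  have had : ∀ i (w : W), ((ad i w : W) : L) = ⁅b.e i, (w : L)⁆ := fun _ _ => rfl
  have hq' : ∀ i, ∃ c : K, ∀ w : W, QuadraticMap.polar q (ad i w) w = c * q w := fun i =>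
    hq (b.e i) (Submodule.mem_sup_right (LieSubalgebra.subset_lieSpan (Set.mem_range_self i)))
  have hfk : ⁅b.f k, D.v⁆ = 0 := D.f_lie_eq_zero hN hkj
  have hA' : b.A j k ≠ 0 := fun h => hA (A_eq_zero_comm b hkj.symm h)
  refine ⟨B.coord 2, q (B 2), quad_square q B (ad j) (ad k) (-(b.A j k : K)) (by simpa using hA')
    ?_ ?_ ?_ ?_ ?_ ?_ (hq' j) (hq' k)⟩
  all_goals apply Subtype.ext
  all_goals simp only [had, hB, g, Submodule.coe_zero, Submodule.coe_smul, Matrix.cons_val_zero,
    Matrix.cons_val_one, Matrix.cons_val_two, Matrix.head_cons, Matrix.tail_cons, Fin.isValue,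
    Matrix.cons_val]
  · exact D.killed j
  · exact D.e_f_self hj
  · rw [leibniz_lie, b.lie_e_f_ne j k hkj.symm, zero_lie, zero_add, D.e_f_self hj, hfk]
  · exact D.killed k
  · exact D.e_f_ne hkj
  · rw [leibniz_lie, (b.sl2 k).lie_e_f, D.e_f_ne hkj, lie_zero, add_zero]
    have h := D.f_mem (j := j) (b.h' k)
    rw [LinearMap.sub_apply, b.baseSupp_apply_h', not_not.mp (mt (hN k).mp hkj), zero_sub] at h
    exact h

end Groth.Agent.S17432
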