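import Groth.Statements.S17435
import Groth.Agent.H16Derived.Defo.FirstOrder

set_option autoImplicit false
universe u
open CategoryTheory AlgebraicGeometry
open DefoSh

namespace Groth.Agent.S17435

set_option linter.style.haveILetI false
open CategoryTheory.Abelian
open CategoryTheory.Limits
open Groth.Agent.H16Derived.Defo

noncomputable section

variable {k : Type u} [Field k] {X : Scheme.{u}} [X.Over (Spec (CommRingCat.of k))] {E : X.Modules}
  [HasExt.{u} X.Modules]

/-- The class of a deformation. -/
def cls (D : DefoSh.Defo E (ArtFun.Art.dual k k)) : Ext E E 1 :=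
  (shortExact (exists_ι D).choose_spec (ι_π (exists_ι D).choose_spec)).extClass

theorem cls_eq (D : DefoSh.Defo E (ArtFun.Art.dual k k)) {i : E ⟶ D.sheaf} (hi : D.π ≫ i = T D) (h0 : i ≫ D.π = 0)
    (hS : (ShortComplex.mk i D.π h0).ShortExact) : cls D = hS.extClass := by
  have := ι_unique (exists_ι D).choose_spec hi
  subst this
  rfl

theorem cls_iso {D D' : DefoSh.Defo E (ArtFun.Art.dual k k)} (e : DefoSh.Defo.Iso D D') : cls D = cls D' := by
  have h1 := (exists_ι D).choose_spec
  have h2 := (exists_ι D').choose_spec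
  let φ : ShortComplex.mk _ D.π (ι_π h1) ⟶ ShortComplex.mk _ D'.π (ι_π h2) :=
    ShortComplex.homMk (𝟙 E) e.iso.hom (𝟙 E)
      ((Category.id_comp _).trans (ι_map e h1 h2).symm) (e.hom_π.trans (Category.comp_id _).symm)
  have h := ShortComplex.ShortExact.extClass_naturality (shortExact h1 (ι_π h1)) (shortExact h2 (ι_π h2)) φ
  simpa [φ, cls] using h

theorem cls_injective {D D' : DefoSh.Defo E (ArtFun.Art.dual k k)} (h : cls D = cls D') :
    Nonempty (DefoSh.Defo.Iso D D') := by
  have h1 := (exists_ι D).choose_spec
  have h2 := (exists_ι D').choose_spec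
  obtain ⟨p, hp1, hp2⟩ := Groth.Agent.H28Alg.exists_map_of_extClass_comp (shortExact h1 (ι_π h1)) (shortExact h2 (ι_π h2))
    (𝟙 E) (𝟙 E) (by simpa [cls] using h)
  obtain ⟨e, -⟩ := exists_iso h1 h2 p (hp1.trans (Category.id_comp _)) (hp2.trans (Category.comp_id _))
  exact ⟨e⟩

theorem cls_surjective (ξ : Ext E E 1) : ∃ D : DefoSh.Defo E (ArtFun.Art.dual k k), cls D = ξ := by
  obtain ⟨M, i, q, w, hS, rfl⟩ := Groth.Agent.H28Alg.exists_shortExact_extClass_eq ξ
  obtain ⟨D, h, hπ, hi⟩ := exists_defo (k := k) i q w hS
  subst h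
  simp only [eqToHom_refl, Category.id_comp, Category.comp_id] at hπ hi
  subst hπ
  exact ⟨D, cls_eq D hi w hS⟩

theorem split_zero {S : ShortComplex X.Modules} (hS : S.ShortExact) (s : S.X₃ ⟶ S.X₂) (hs : s ≫ S.g = 𝟙 _) :
    hS.extClass = 0 := by
  rw [← Ext.mk₀_id_comp hS.extClass, ← hs, ← Ext.mk₀_comp_mk₀_assoc, hS.comp_extClass, Ext.comp_zero]

theorem cls_triv : cls (DefoSh.Defo.trivDual k E) = 0 :=
  split_zero (shortExact (exists_ι (DefoSh.Defo.trivDual k E)).choose_spec (ι_π (exists_ι _).choose_spec))
    (biprod.inl : E ⟶ E ⊞ E) biprod.inl_fst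

end

/-- Let k be a field, X a locally Noetherian scheme over k and E a coherent O_X-module. There is a
bijection e between the isomorphism classes of deformations of E over the dual numbers k[ε]
(O_X-modules with a k[ε]-action, flat stalkwise, with reduction identified with E) and Ext¹(E, E)
such that, for every such deformation D with reduction π : D.sheaf → E and for the map i : E →
D.sheaf with π ≫ i = ε (multiplication by ε), e sends the class of D to the extension class of the
short exact sequence 0 → E → D.sheaf → E → 0 formed by i and π; and e sends the class of the trivial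
deformation E ⊕ εE to 0. The published statement takes X to be any scheme over k; this row assumes X
locally Noetherian, so that coherent means quasi-coherent of finite type. -/
theorem result (k : Type u) [Field k] (X : Scheme.{u})
    [X.Over (Spec (CommRingCat.of k))] [IsLocallyNoetherian X] (E : X.Modules) (hE : Coh.IsCoh E)
    [HasExt.{u} X.Modules] :
    ∃ e : DefoSh.FirstOrder k E ≃ Abelian.Ext E E 1,
      e (DefoSh.Defo.trivDual k E).cl = 0 ∧
      ∀ (D : DefoSh.Defo E (ArtFun.Art.dual k k)) (i : E ⟶ D.sheaf)
        (hi : D.π ≫ i = D.act (DualNumber.eps : DualNumber k))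
        (h0 : i ≫ D.π = 0) (hS : (ShortComplex.mk i D.π h0).ShortExact),
        e D.cl = hS.extClass := by
  let f : DefoSh.FirstOrder k E → Abelian.Ext E E 1 := Quotient.lift cls fun D D' h => cls_iso h.some
  have hf : Function.Bijective f := by
    refine ⟨fun a b => ?_, fun ξ => ?_⟩
    · refine Quotient.inductionOn₂ a b fun D D' h => Quotient.sound ?_
      exact cls_injective h
    · obtain ⟨D, hD⟩ := cls_surjective (k := k) ξ
      exact ⟨Quotient.mk _ D, hD⟩
  exact ⟨Equiv.ofBijective f hf, cls_triv, fun D i hi h0 hS => cls_eq D hi h0 hS⟩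

end Groth.Agent.S17435
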