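import Groth.Statements.S17436
import Groth.Agent.H16Derived.Defo.ConnClassify
import Groth.Agent.H16Derived.KFlat.FinLocFree

set_option autoImplicit false
universe u
open CategoryTheory AlgebraicGeometry
open DefoSh

namespace Groth.Agent.S17436

/-- Let k be a field, X a scheme over k with a receptacle of differentials (Ω′, δ) over k, Ω′
quasi-coherent, and E a finite locally free O_X-module with a connection ∇ : E → E ⊗ Ω′. Let D be a
first-order deformation of E (over k[ε]) with reduction π : D.sheaf → E, let ι : E → D.sheaf be
multiplication by ε (π ≫ ι = ε), and let c₀ be a deformation of ∇ over D (a connection on D.sheaf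
commuting with k[ε] and reducing to ∇ along π). Then the deformations c of ∇ over D correspond
bijectively to the O_X-linear maps φ : E → E ⊗ Ω′ (the global sections of End(E) ⊗ Ω′ for a vector
bundle), the bijection Φ being pinned by c − c₀ = π ≫ Φ(c) ≫ (ι ⊗ 1). The printed statement is the
case of the trivial deformation E ⊕ εE; its clause on connections with fixed determinant is not
stated. The published statement is for a curve with its sheaf of differentials; this row takes any
scheme over k with any quasi-coherent receptacle of differentials, which the printed computation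
does not use. -/
theorem result (k : Type u) [Field k] (X : Scheme.{u})
    [X.Over (Spec (CommRingCat.of k))] (Ω' : X.Modules) (δ : OmegaSh.Der (X ↘ Spec (CommRingCat.of k)) Ω')
    (hΩ' : Coh.IsQCoh Ω') (E : X.Modules) (hE : FlatMod.IsFinLocFree E)
    (nabla : Coh.toAb E ⟶ Coh.toAb (CohB1.tensorMod E Ω')) (hn : ConnSh.IsConn δ E nabla)
    (D : DefoSh.Defo E (ArtFun.Art.dual k k)) (ι : E ⟶ D.sheaf)
    (hι : D.π ≫ ι = D.act (DualNumber.eps : DualNumber k)) (c₀ : DefoSh.DefoConn δ nabla D) :
    ∃ Φ : DefoSh.DefoConn δ nabla D ≃ (E ⟶ CohB1.tensorMod E Ω'),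
      ∀ c : DefoSh.DefoConn δ nabla D,
        c.conn - c₀.conn = (SheafOfModules.toSheaf X.ringCatSheaf).map (D.π ≫ Φ c ≫ KoszTw.tensorMap ι (𝟙 Ω')) := by
  exact H16Derived.Defo.exists_equiv hι (H16Derived.KFlat.Stalk.isFlat_of_isFinLocFree hE) c₀

end Groth.Agent.S17436
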