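import Groth.Statements.S17437
import Groth.Agent.H16Derived.Defo.ConnClassify

set_option autoImplicit false
universe u
open CategoryTheory AlgebraicGeometry
open DefoSh

namespace Groth.Agent.S17437

/-- Let k be a field, X a scheme over k with a receptacle of differentials (Ω′, δ) over k, Ω′
quasi-coherent, and E a finite locally free O_X-module with a connection ∇ : E → E ⊗ Ω′. Let D be a
first-order deformation of E with reduction π : D.sheaf → E and let ι : E → D.sheaf be
multiplication by ε (π ≫ ι = ε). Two deformations c and c′ of ∇ over D are transport equivalent —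
some automorphism of D inducing the identity of E carries c to c′ — if and only if there is a global
endomorphism S of E with c′ − c = π ≫ (∇ ≫ (S ⊗ 1) − S ≫ ∇) ≫ (ι ⊗ 1); the middle map is minus the
covariant derivative of S for the connection induced on End(E), so together with the bijection
between deformations of ∇ over D and Hom(E, E ⊗ Ω′) this identifies transport classes with H⁰(End(E)
⊗ Ω′) modulo the derivatives of global endomorphisms. The printed statement is the case of the
trivial deformation. The published statement is for a curve with its sheaf of differentials; this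
row takes any scheme over k with any quasi-coherent receptacle of differentials, which the printed
computation does not use. -/
theorem result (k : Type u) [Field k] (X : Scheme.{u})
    [X.Over (Spec (CommRingCat.of k))] (Ω' : X.Modules) (δ : OmegaSh.Der (X ↘ Spec (CommRingCat.of k)) Ω')
    (hΩ' : Coh.IsQCoh Ω') (E : X.Modules) (hE : FlatMod.IsFinLocFree E)
    (nabla : Coh.toAb E ⟶ Coh.toAb (CohB1.tensorMod E Ω')) (hn : ConnSh.IsConn δ E nabla)
    (D : DefoSh.Defo E (ArtFun.Art.dual k k)) (ι : E ⟶ D.sheaf)
    (hι : D.π ≫ ι = D.act (DualNumber.eps : DualNumber k)) (c c' : DefoSh.DefoConn δ nabla D) :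
    DefoSh.DefoConn.Transport c c' ↔ ∃ S : E ⟶ E,
      c'.conn - c.conn = (SheafOfModules.toSheaf X.ringCatSheaf).map D.π ≫
        (nabla ≫ (SheafOfModules.toSheaf X.ringCatSheaf).map (KoszTw.tensorMap S (𝟙 Ω')) - (SheafOfModules.toSheaf X.ringCatSheaf).map S ≫ nabla) ≫
          (SheafOfModules.toSheaf X.ringCatSheaf).map (KoszTw.tensorMap ι (𝟙 Ω')) := by
  exact H16Derived.Defo.transport_iff hι c c'

end Groth.Agent.S17437
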