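import Groth.Statements.S17438
import Groth.Agent.S17435
import Groth.Agent.H17.PnExt.LocFreeExt
import Groth.Agent.H16Derived.CechOne
import Groth.Agent.H10Coh.Affine
import Groth.Agent.H10Coh.SheafHom.Flat

set_option autoImplicit false
universe u
open CategoryTheory AlgebraicGeometry
open DefoSh

namespace Groth.Agent.S17438

set_option linter.style.haveILetI false
attribute [local instance 10000] Groth.Agent.H10Coh.hasSheafifyAb Groth.Agent.H10Coh.hasWeakSheafifyAb Groth.Agent.H10Coh.hasExtAb Groth.Agent.H10Coh.enoughInjAb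
open Groth.Agent CategoryTheory.Abelian

theorem nonempty_ext_iso {C : Type*} [Category C] [Abelian C] [HasExt.{u} C] (Z : C) {A B : C} (e : A ≅ B) (n : ℕ) :
    Nonempty (Ext.{u} Z A n ≃+ Ext.{u} Z B n) :=
  ⟨{ toFun := fun x => x.comp (Ext.mk₀ e.hom) (add_zero n)
     invFun := fun x => x.comp (Ext.mk₀ e.inv) (add_zero n)
     left_inv := fun x => by simp [Ext.comp_assoc_of_second_deg_zero]
     right_inv := fun x => by simp [Ext.comp_assoc_of_second_deg_zero]
     map_add' := fun x y => Ext.add_comp _ _ _ _ }⟩

/-- Let k be a field, X a scheme over k, U₀ and U₁ two affine opens covering X, and E an O_X-module free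
of the same finite rank n on U₀ and on U₁ (a vector bundle given by one transition matrix). Then the
isomorphism classes of deformations of E over the dual numbers k[ε] (O_X-modules with a k[ε]-action,
flat stalkwise, with reduction identified with E) are in bijection with the first Čech cohomology
group of the cover (U₀, U₁) with coefficients in the sheaf End(E), by a bijection taking the class
of the trivial deformation E ⊕ εE to 0 (existence of such a bijection only: the cocycle attached to
a deformation depends on chosen trivializations over U₀ and U₁). The assertion on deformations with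
fixed determinant is not stated. The published statement is for a curve and uses the sheaf
cohomology H¹(C, End(E)); this row takes any scheme over k covered by two affine opens on which E is
free, as the printed proof uses, and the Čech cohomology of that cover. -/
theorem result (k : Type u) [Field k] (X : Scheme.{u})
    [X.Over (Spec (CommRingCat.of k))] (U : ULift.{u} (Fin 2) → X.Opens)
    (hU : ∀ i, IsAffineOpen (U i)) (hcov : ⨆ i, U i = ⊤) (E : X.Modules) (n : ℕ)
    (hfree : ∀ i, Nonempty (E.restrict (U i).ι ≅ FlatMod.freeMod ↑(U i) n)) :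
    ∃ e : DefoSh.FirstOrder k E ≃ ↑(CohB1.cechH U (RefHull.homSh E E) 1),
      e (DefoSh.Defo.trivDual k E).cl = 0 := by
  have hE : FlatMod.IsFinLocFree E := fun x => by
    obtain ⟨i, hi⟩ := TopologicalSpace.Opens.mem_iSup.1 (show x ∈ ⨆ i, U i from hcov ▸ trivial)
    exact ⟨U i, n, hi, hfree i⟩
  haveI : DCoh.HasSheafHom E := H10Coh.SheafHom.hasSheafHom E
  haveI : IsGrothendieckAbelian.{u} X.Modules := H10Coh.isGrothendieckAbelian_sheafOfModules _
  haveI : HasExt.{u} X.Modules := inferInstance
  obtain ⟨e₁⟩ := H17.PnExt.nonempty_ext_linearEquiv k hE E 1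
  let H := RefHull.homSh E E
  haveI : H.IsQuasicoherent := H29Ref.isQCoh_homSh E E (H8Props.FinLocFree.isFP_of_isFinLocFree E hE)
        (H8Props.FinLocFree.isQCoh_of_isFinLocFree _ hE)
  have h1 : ∀ a : Fin 1 → ULift.{u} (Fin 2), Subsingleton (H10Coh.HnM H 1 (H15Site.CechTop.cap U a)) := fun a => by
    have ha : H15Site.CechTop.cap U a = U (a 0) :=
      le_antisymm (iInf_le _ 0) (le_iInf fun j => by obtain rfl : j = 0 := Fin.ext (by omega); exact le_rfl)
    rw [ha]
    exact H10Coh.subsingleton_HnM_of_isAffineOpen H (hU _) 0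
  obtain ⟨e₂⟩ := H16Derived.CechOne.nonempty_cechH_one (X := X.toTopCat) U (fun _ => le_top) hcov.ge (H10Coh.sh H) h1
  let e₃ := H10Coh.HHEquiv H 1
  obtain ⟨e₄⟩ : Nonempty (Coh.HH X ((DCoh.sheafHom E).obj E) 1 ≃+ Coh.HH X H 1) :=
    nonempty_ext_iso _ ((H10Coh.shF X).mapIso (H10Coh.SheafHom.homShIso E E)) 1
  have hb : Function.Bijective (Quotient.lift (s := DefoSh.Defo.setoid E (ArtFun.Art.dual k k)) (S17435.cls (k := k) (E := E))
      fun D D' h => S17435.cls_iso h.some) := by
    refine ⟨fun a b => ?_, fun ξ => ?_⟩
    · refine Quotient.inductionOn₂ a b fun D D' h => Quotient.sound ?_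
      exact S17435.cls_injective h
    · obtain ⟨D, hD⟩ := S17435.cls_surjective (k := k) ξ
      exact ⟨Quotient.mk _ D, hD⟩
  let f : Abelian.Ext E E 1 ≃+ ↑(CohB1.cechH U (RefHull.homSh E E) 1) :=
    ((e₁.toAddEquiv.trans e₄).trans e₃).trans e₂.symm
  refine ⟨(Equiv.ofBijective _ hb).trans f.toEquiv, ?_⟩
  show f (S17435.cls (DefoSh.Defo.trivDual k E)) = 0
  rw [S17435.cls_triv, map_zero]

end Groth.Agent.S17438
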