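import Groth.Statements.S17439
import Groth.Agent.H16Derived.Defo.Conn

set_option autoImplicit false
universe u
open CategoryTheory AlgebraicGeometry
open DefoSh

namespace Groth.Agent.S17439

set_option linter.style.haveILetI false
set_option backward.isDefEq.respectTransparency false
open CategoryTheory.Limits Opposite
open Groth.Agent.H16Derived.Defo

/-- Let k be a field, X a scheme over k with a receptacle of differentials (Ω′, δ) over k, Ω′
quasi-coherent, and E a finite locally free O_X-module with a connection ∇ : E → E ⊗ Ω′. Then ∇ has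
at least one deformation over the trivial first-order deformation E ⊕ εE of E (a connection on E ⊕
εE commuting with k[ε] and reducing to ∇), so the set of deformations of ∇ over the trivial
deformation (the set that corresponds to H⁰(End(E) ⊗ Ω′)) is not empty. The published statement is
for a curve with its sheaf of differentials; this row takes any scheme over k with any
quasi-coherent receptacle of differentials, which the printed computation does not use. -/
theorem result (k : Type u) [Field k] (X : Scheme.{u})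
    [X.Over (Spec (CommRingCat.of k))] (Ω' : X.Modules) (δ : OmegaSh.Der (X ↘ Spec (CommRingCat.of k)) Ω')
    (hΩ' : Coh.IsQCoh Ω') (E : X.Modules) (hE : FlatMod.IsFinLocFree E)
    (nabla : Coh.toAb E ⟶ Coh.toAb (CohB1.tensorMod E Ω')) (hn : ConnSh.IsConn δ E nabla) :
    Nonempty (DefoSh.DefoConn δ nabla (DefoSh.Defo.trivDual k E)) := by
  let c : Coh.toAb (E ⊞ E) ⟶ Coh.toAb (CohB1.tensorMod (E ⊞ E) Ω') :=
    G (biprod.fst : E ⊞ E ⟶ E) ≫ nabla ≫ G (tm Ω' (biprod.inl : E ⟶ E ⊞ E)) +
      G (biprod.snd : E ⊞ E ⟶ E) ≫ nabla ≫ G (tm Ω' (biprod.inr : E ⟶ E ⊞ E))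
  have hc : ConnSh.IsConn δ (E ⊞ E) c := fun U t e => by
    have hcval : ∀ y : Γ(E ⊞ E, U), ConnSh.secApp c U y =
        (tm Ω' (biprod.inl : E ⟶ E ⊞ E)).app U (ConnSh.secApp nabla U ((biprod.fst : E ⊞ E ⟶ E).app U y)) +
        (tm Ω' (biprod.inr : E ⟶ E ⊞ E)).app U (ConnSh.secApp nabla U ((biprod.snd : E ⊞ E ⟶ E).app U y)) :=
      fun y => rfl
    have hlin : ∀ (f : E ⊞ E ⟶ E) (g : E ⟶ E ⊞ E),
        (tm Ω' g).app U (ConnSh.secApp nabla U (f.app U (t • e))) =
          t • (tm Ω' g).app U (ConnSh.secApp nabla U (f.app U e)) +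
            (show Γ(CohB1.tensorMod (E ⊞ E) Ω', U) from
              SecTwist.tmul (E ⊞ E) Ω' U (g.app U (f.app U e)) (δ.app U t)) := fun f g => by
      have h1 : f.app U (t • e) = t • f.app U e := Scheme.Modules.Hom.app_smul f t e
      rw [h1]
      refine (congrArg _ (hn U t (f.app U e))).trans ?_
      refine (map_add ((tm Ω' g).app U).hom _ _).trans ?_
      exact congrArg₂ (· + ·) (Scheme.Modules.Hom.app_smul (tm Ω' g) t _) (tm_tmul g U _ _)
    have htot : SecTwist.tmul (E ⊞ E) Ω' U ((biprod.inl : E ⟶ E ⊞ E).app U ((biprod.fst : E ⊞ E ⟶ E).app U e)) (δ.app U t) +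
        SecTwist.tmul (E ⊞ E) Ω' U ((biprod.inr : E ⟶ E ⊞ E).app U ((biprod.snd : E ⊞ E ⟶ E).app U e)) (δ.app U t) =
          SecTwist.tmul (E ⊞ E) Ω' U e (δ.app U t) := by
      refine (Groth.Agent.H16Derived.KFlat.Stalk.tensorSect_add_left _ _ _).symm.trans ?_
      exact congrArg (fun z => SecTwist.tmul (E ⊞ E) Ω' U z (δ.app U t))
        (congr($(congrArg (fun φ : E ⊞ E ⟶ E ⊞ E => φ.app U) (biprod.total (X := E) (Y := E))) e))
    refine (hcval (t • e)).trans ((congrArg₂ (· + ·) (hlin biprod.fst biprod.inl) (hlin biprod.snd biprod.inr)).trans ?_)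
    refine (add_add_add_comm _ _ _ _).trans ?_
    exact congrArg₂ (· + ·) ((smul_add t _ _).symm.trans (congrArg (t • ·) (hcval e).symm)) htot
  have hinl : (biprod.inl : E ⟶ E ⊞ E) ≫ biprod.fst = 𝟙 E := biprod.inl_fst
  have hT : G (T (DefoSh.Defo.trivDual k E)) ≫ c = c ≫ G (tm Ω' (T (DefoSh.Defo.trivDual k E))) := by
    rw [show T (DefoSh.Defo.trivDual k E) = (biprod.fst : E ⊞ E ⟶ E) ≫ biprod.inr from DefoSh.dualAct_eps E]
    simp only [c, G, tm_comp, Preadditive.add_comp, Preadditive.comp_add, Category.assoc]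
    simp only [← Functor.map_comp_assoc, ← Functor.map_comp, Category.assoc,
      biprod.inr_fst, biprod.inr_snd, biprod.inl_fst, biprod.inl_fst_assoc, biprod.inr_fst_assoc, comp_zero,
      zero_comp, Functor.map_zero, Category.comp_id, tm_zero, zero_add, add_zero]
    rw [← tm_comp (biprod.fst : E ⊞ E ⟶ E) biprod.inr, ← tm_comp, ← tm_comp, biprod.inl_fst_assoc, biprod.inr_fst_assoc,
      zero_comp, tm_zero, Functor.map_zero, comp_zero, comp_zero, add_zero]
  refine ⟨{ conn := c, isConn := hc, act_horizontal := act_hor _ hc hT, π_horizontal := hor_iff.2 ?_ }⟩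
  show G (biprod.fst : E ⊞ E ⟶ E) ≫ nabla = c ≫ G (tm Ω' (biprod.fst : E ⊞ E ⟶ E))
  simp only [c, G, Preadditive.add_comp, Category.assoc, ← Functor.map_comp]
  rw [← tm_comp, ← tm_comp, biprod.inl_fst, biprod.inr_fst, tm_zero, tm_id, Functor.map_zero,
    CategoryTheory.Functor.map_id, comp_zero, comp_zero, add_zero]
  exact (congrArg _ (Category.comp_id nabla)).symm

end Groth.Agent.S17439
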