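import Groth.Statements.S17440
import Groth.Agent.H16Derived.Defo.FirstOrder

set_option autoImplicit false
universe u
open CategoryTheory AlgebraicGeometry
open DefoSh

namespace Groth.Agent.S17440

set_option linter.style.haveILetI false
set_option backward.isDefEq.respectTransparency false
open CategoryTheory.Limits
open Groth.Agent.H16Derived.Defo Groth.Agent.H16Derived.KFlat.Stalk

theorem smul_natural {k : Type u} [Field k] {X : Scheme.{u}} [X.Over (Spec (CommRingCat.of k))] (W : X.Opens)
    {A B : X.Modules} (q : A.restrict W.ι ⟶ B.restrict W.ι) (c : k) :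
    (Scheme.Modules.restrictFunctor W.ι).map (c • 𝟙 A) ≫ q =
      q ≫ (Scheme.Modules.restrictFunctor W.ι).map (c • 𝟙 B) := by
  rw [KLin.smul_id, KLin.smul_id]
  refine Scheme.Modules.hom_ext _ _ fun V => ConcreteCategory.hom_ext _ _ fun m => ?_
  let r : Γ(X, W.ι ''ᵁ V) := Coh.resTop X (Opposite.op (W.ι ''ᵁ V)) (Coh.toGlobal (X ↘ Spec (CommRingCat.of k)) c)
  let r' : Γ((W : Scheme.{u}), V) := (W.ι.appIso V).hom r
  have hr : (W.ι.appIso V).inv r' = r := (W.ι.appIso V).hom_inv_id_apply r
  have key : ∀ (M : X.Modules) (n : Γ(M.restrict W.ι, V)),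
      ((Scheme.Modules.restrictFunctor W.ι).map (Formal.smulMod k M c)).app V n = r' • n := fun M n => by
    show r • (show Γ(M, W.ι ''ᵁ V) from n) = (W.ι.appIso V).inv r' • (show Γ(M, W.ι ''ᵁ V) from n)
    rw [hr]
  show q.app V (((Scheme.Modules.restrictFunctor W.ι).map (Formal.smulMod k A c)).app V m) =
    ((Scheme.Modules.restrictFunctor W.ι).map (Formal.smulMod k B c)).app V (q.app V m)
  rw [key, key]
  exact Scheme.Modules.Hom.app_smul q r' m

/-- Let k be a field, X a scheme over k, E a finite locally free O_X-module and D a first-order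
deformation of E, with reduction π : D.sheaf → E. Then D is locally trivial: every point of X has an
open neighbourhood U together with an isomorphism of O_U-modules between the restrictions to U of
D.sheaf and of E ⊕ εE which commutes with the actions of k[ε] and with the reductions to E. In
particular the deformed module is again a vector bundle over the dual numbers. -/
theorem result (k : Type u) [Field k] (X : Scheme.{u})
    [X.Over (Spec (CommRingCat.of k))] (E : X.Modules) (hE : FlatMod.IsFinLocFree E)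
    (D : DefoSh.Defo E (ArtFun.Art.dual k k)) (x : X) :
    ∃ (U : X.Opens) (e : D.sheaf.restrict U.ι ≅ (DefoSh.Defo.trivDual k E).sheaf.restrict U.ι), x ∈ U ∧
      e.hom ≫ (Scheme.Modules.restrictFunctor U.ι).map (DefoSh.Defo.trivDual k E).π =
        (Scheme.Modules.restrictFunctor U.ι).map D.π ∧
      ∀ a : ArtFun.Art.dual k k, (Scheme.Modules.restrictFunctor U.ι).map (D.act a) ≫ e.hom =
        e.hom ≫ (Scheme.Modules.restrictFunctor U.ι).map ((DefoSh.Defo.trivDual k E).act a) := by
  obtain ⟨ι, hι⟩ := exists_ι D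
  haveI := epi_π D
  obtain ⟨U, n, hxU, ⟨eU⟩⟩ := hE x
  have hexact : (ShortComplex.mk D.π (0 : E ⟶ E) comp_zero).Exact := (ShortComplex.exact_iff_epi _ rfl).2 (epi_π D)
  obtain ⟨W, hWU, τ, hxW, hτ⟩ := exists_lift_restrict hexact hxU
    (M := E) ⟨n, ⟨((Scheme.Modules.restrictFunctorIsoPullback U.ι).app E).symm ≪≫ eU⟩⟩
    (𝟙 (E.restrict U.ι)) (by simp)
  let R := Scheme.Modules.restrictFunctor W.ι
  have hτ' : τ ≫ R.map D.π = 𝟙 (R.obj E) := by
    refine hτ.trans ?_
    have := res'_map hWU (𝟙 E)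
    simp only [CategoryTheory.Functor.map_id] at this
    exact this
  let ψ : R.obj (E ⊞ E) ⟶ R.obj D.sheaf := R.map biprod.fst ≫ τ + R.map (biprod.snd ≫ ι)
  have hψπ : ψ ≫ R.map D.π = R.map biprod.fst := by
    simp only [ψ, Preadditive.add_comp, Category.assoc, hτ', Category.comp_id, ← Functor.map_comp]
    rw [ι_π hι]
    simp
  have hψι : R.map biprod.inr ≫ ψ = R.map ι := by
    simp only [ψ, Preadditive.comp_add, ← Functor.map_comp_assoc, biprod.inr_fst, ← Functor.map_comp,
      biprod.inr_snd_assoc, Functor.map_zero, zero_comp, zero_add]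
  have h0 : (DefoSh.Defo.trivDual k E).π ≫ biprod.inr = T (DefoSh.Defo.trivDual k E) := (DefoSh.dualAct_eps E).symm
  have hS₁ := (shortExact h0 (ι_π h0)).map_of_exact R
  have hS₂ := (shortExact hι (ι_π hι)).map_of_exact R
  let φ : (ShortComplex.mk _ _ (ι_π h0)).map R ⟶ (ShortComplex.mk _ _ (ι_π hι)).map R :=
    ShortComplex.homMk (𝟙 _) ψ (𝟙 _) ((Category.id_comp _).trans hψι.symm) (hψπ.trans (Category.comp_id _).symm)
  haveI : IsIso φ.τ₁ := inferInstanceAs (IsIso (𝟙 _))
  haveI : IsIso φ.τ₃ := inferInstanceAs (IsIso (𝟙 _))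
  haveI : IsIso ψ := ShortComplex.isIso₂_of_shortExact_of_isIso₁₃ φ hS₁ hS₂
  have hψT : R.map (T (DefoSh.Defo.trivDual k E)) ≫ ψ = ψ ≫ R.map (T D) := by
    rw [← h0, ← hι, Functor.map_comp, Functor.map_comp, Category.assoc, hψι, ← Category.assoc ψ, hψπ]
    rfl
  refine ⟨W, (asIso ψ).symm, hxW, ?_, fun a => ?_⟩
  · rw [Iso.symm_hom, Iso.inv_comp_eq]
    exact hψπ.symm
  · rw [Iso.symm_hom, Iso.comp_inv_eq, Category.assoc, Iso.eq_inv_comp]
    rw [act_eq D a, act_eq (DefoSh.Defo.trivDual k E) a]
    have hs : ∀ (c : k) {M : X.Modules} (f : M ⟶ M), c • f = f ≫ (c • 𝟙 M) := fun c M f => by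
      rw [Linear.comp_smul, Category.comp_id]
    rw [hs _ (T D), hs _ (T (DefoSh.Defo.trivDual k E))]
    simp only [asIso_hom, Functor.map_add, Functor.map_comp, Preadditive.add_comp, Preadditive.comp_add,
      Category.assoc]
    refine congrArg₂ (· + ·) (smul_natural W ψ _).symm ?_
    refine Eq.trans ?_ (congrArg (R.map (T (DefoSh.Defo.trivDual k E)) ≫ ·) (smul_natural W ψ _)).symm
    rw [← Category.assoc ψ, ← hψT, Category.assoc]

end Groth.Agent.S17440
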