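import Groth.Statements.S17441
import Groth.Agent.H29Omega.StalkCompat

set_option autoImplicit false
universe u
open CategoryTheory AlgebraicGeometry
open DefoSh

namespace Groth.Agent.S17441

set_option linter.style.haveILetI false
open Groth.Agent

theorem bijective_of_flat_nilpotent {A M M' : Type*} [CommRing A] [AddCommGroup M] [Module A M] [AddCommGroup M']
    [Module A M'] [Module.Flat A M'] (J : Ideal A) (hJ : IsNilpotent J) (f : M →ₗ[A] M')
    (hs : ∀ y, ∃ x, y - f x ∈ J • (⊤ : Submodule A M')) (hk : ∀ x, f x = 0 → x ∈ J • (⊤ : Submodule A M)) :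
    Function.Bijective f := by
  classical
  obtain ⟨N, hN⟩ := hJ
  have hsurj : ∀ y, ∃ x, f x = y := by
    intro y
    have key : ∀ t : ℕ, (⊤ : Submodule A M') ≤ LinearMap.range f ⊔ J ^ t • ⊤ := by
      intro t
      induction t with
      | zero => simp
      | succ t ih =>
        refine ih.trans (sup_le le_sup_left ?_)
        calc J ^ t • (⊤ : Submodule A M') ≤ J ^ t • (LinearMap.range f ⊔ J • ⊤) := by
              refine Submodule.smul_mono le_rfl fun w _ => ?_
              obtain ⟨z, hz⟩ := hs w
              exact Submodule.mem_sup.2 ⟨f z, ⟨z, rfl⟩, _, hz, add_sub_cancel _ _⟩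
          _ ≤ LinearMap.range f ⊔ J ^ (t + 1) • ⊤ := by
              rw [Submodule.smul_sup, ← Submodule.smul_assoc, smul_eq_mul, ← pow_succ]
              exact sup_le_sup_right Submodule.smul_le_right _
    have := key N (Submodule.mem_top : y ∈ (⊤ : Submodule A M'))
    rw [hN, Ideal.zero_eq_bot, Submodule.bot_smul, sup_bot_eq] at this
    exact this
  refine ⟨fun a b hab => ?_, fun y => ?_⟩
  · let K := LinearMap.ker f
    have hK : K ≤ J • K := fun x hx => by
      have h1 : x ∈ J • Submodule.span A (Set.range (id : M → M)) := by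
        rw [Set.range_id, Submodule.span_univ]; exact hk x hx
      obtain ⟨a, ha, rfl⟩ := (Submodule.mem_ideal_smul_span_iff_exists_sum J _ _).1 h1
      let ι := {i // i ∈ a.support}
      have h0 : ∑ i : ι, a i.1 • f i.1 = 0 := by
        rw [Finset.univ_eq_attach, Finset.sum_attach a.support fun i => a i • f i]
        simpa [Finsupp.sum, map_sum] using LinearMap.mem_ker.1 hx
      obtain ⟨n, c, y, hy, hc⟩ := Module.Flat.isTrivialRelation_of_sum_smul_eq_zero h0
      choose z hz using fun j => hsurj (y j)
      have hkm : ∀ i : ι, i.1 - ∑ j, c i j • z j ∈ K := fun i => by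
        simp [K, hz, hy i]
      have hsum : (a.sum fun i r => r • id i) = ∑ i : ι, a i.1 • (i.1 - ∑ j, c i j • z j) := by
        simp only [smul_sub, Finset.sum_sub_distrib, Finset.smul_sum, smul_smul]
        rw [Finset.sum_comm (γ := ι)]
        simp only [← Finset.sum_smul, hc, zero_smul, Finset.sum_const_zero, sub_zero]
        rw [Finset.univ_eq_attach, Finset.sum_attach a.support fun i => a i • i]
        rfl
      rw [hsum]
      exact Submodule.sum_mem _ fun i _ => Submodule.smul_mem_smul (ha _) (hkm i)
    have key : ∀ t : ℕ, K ≤ J ^ t • K := by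
      intro t
      induction t with
      | zero => simp
      | succ t ih =>
        refine ih.trans ?_
        rw [pow_succ, ← smul_eq_mul, Submodule.smul_assoc]
        exact Submodule.smul_mono le_rfl hK
    have := key N (show a - b ∈ K by simp [K, hab])
    rw [hN, Ideal.zero_eq_bot, Submodule.bot_smul, Submodule.mem_bot] at this
    exact sub_eq_zero.1 this
  · exact hsurj y

/-- Let k be a field, X a scheme over k, E an O_X-module and A a local Artinian k-algebra with residue
field k. If D and D′ are deformations of E over A (O_X-modules with an action of A, flat over A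
stalkwise, with reductions π, π′ to E whose stalkwise kernels are m_A times the stalk), then every
O_X-linear map φ : D.sheaf → D′.sheaf that commutes with the actions of A and satisfies φ ≫ π′ = π
is an isomorphism. The printed remark is the first-order case A = k[ε]; this row states it for every
local Artinian k-algebra A with residue field k. -/
theorem result (k : Type u) [Field k] (X : Scheme.{u})
    [X.Over (Spec (CommRingCat.of k))] (E : X.Modules) (A : ArtFun.Art k k)
    (D D' : DefoSh.Defo E A) (φ : D.sheaf ⟶ D'.sheaf)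
    (hact : ∀ a : A, D.act a ≫ φ = φ ≫ D'.act a) (hπ : φ ≫ D'.π = D.π) :
    IsIso φ := by
  have hm : IsLocalRing.maximalIdeal A = RingHom.ker A.res.toRingHom :=
    (IsLocalRing.eq_maximalIdeal (RingHom.ker_isMaximal_of_surjective A.res.toRingHom A.res_surjective)).symm
  have hnil : IsNilpotent (IsLocalRing.maximalIdeal A) := by
    rw [← IsLocalRing.jacobson_eq_maximalIdeal (⊥ : Ideal A) bot_ne_top]
    exact IsArtinianRing.isNilpotent_jacobson_bot
  refine H29Omega.isIso_of_bijective_stalkLin φ fun p => ?_
  letI := D.stalkMod p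
  letI := D'.stalkMod p
  haveI : Module.Flat A ↑(D'.sheaf.presheaf.stalk p) := D'.flat p
  have hlin : ∀ (a : A) v, RefHull.stalkMapₗ φ p (RefHull.stalkMapₗ (D.act a) p v) =
      RefHull.stalkMapₗ (D'.act a) p (RefHull.stalkMapₗ φ p v) := fun a v => by
    rw [← DefoSh.stalkMapₗ_comp_apply, ← DefoSh.stalkMapₗ_comp_apply, hact]
  let f : ↑(D.sheaf.presheaf.stalk p) →ₗ[A] ↑(D'.sheaf.presheaf.stalk p) :=
    { toFun := fun v => RefHull.stalkMapₗ φ p v
      map_add' := map_add (RefHull.stalkMapₗ φ p)
      map_smul' := hlin }
  have hπp : ∀ v, RefHull.stalkMapₗ D'.π p (f v) = RefHull.stalkMapₗ D.π p v := fun v => by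
    show RefHull.stalkMapₗ D'.π p (RefHull.stalkMapₗ φ p v) = _
    rw [← DefoSh.stalkMapₗ_comp_apply, hπ]
  suffices hb : Function.Bijective f from hb
  refine bijective_of_flat_nilpotent _ hnil f (fun y => ?_) fun x hx => ?_
  · obtain ⟨v, hv⟩ := D.surj p (RefHull.stalkMapₗ D'.π p y)
    exact ⟨v, D'.ker_le p _ (by rw [map_sub, hπp, hv, sub_self])⟩
  · exact D.ker_le p x (by rw [← hπp, hx, map_zero])

end Groth.Agent.S17441
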