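import Groth.Statements.S17442
import Groth.Agent.H25Dual.Bilinear
import Groth.Agent.H25AbCube.TorsionStr


set_option autoImplicit false
set_option linter.style.haveILetI false
set_option backward.isDefEq.respectTransparency false
set_option synthInstance.maxHeartbeats 200000
universe u
open CategoryTheory CategoryTheory.Limits MonoidalCategory CartesianMonoidalCategory MonObj GrpObj AlgebraicGeometry
open AbVar

namespace Groth.Agent.S17442

/-- Let k be a field, A an abelian variety over k (a proper smooth k-group scheme with geometrically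
connected fibres), (A^t, φ) a given dual abelian variety of A for the fppf topology with A^t itself
an abelian variety, and P an invertible module on A ×_k A^t whose class is a Poincaré class (it lies
in Pic⁰ fibrewise over A^t, corresponds to the identity of A^t under φ, and is rigidified along the
unit section of A). For a natural number n write [n] for the n-th power of the identity in the group
of endomorphisms of A, resp. of A^t. Then the pull back of P along id_A × [n] and the pull back of P
along [n] × id_{A^t} both have the same isomorphism class as the n-th tensor power of P. (The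
published statement covers every integer n; only n ≥ 0 is stated here.) -/
theorem result (k : Type u) [Field k]
    (A At : Over (Spec (CommRingCat.of k))) [GrpObj A] [IsProper A.hom] [Smooth A.hom] [GeometricallyConnected A.hom]
    [GrpObj At] [IsProper At.hom] [Smooth At.hom] [GeometricallyConnected At.hom]
    (φ : ∀ T : Over (Spec (CommRingCat.of k)), PicF.Cl (PicF.XT A.hom T) → (T ⟶ At))
    (hφ : AbDual.IsDualAV Scheme.fppfPrecoverage A At φ)
    (P : (PicF.XT A.hom At).Modules) (hP : PicF.IsInvertible P)
    (hξ : AbDual.IsPoincareCl A At φ (PicF.cl P)) (n : ℕ) :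
    PicF.cl ((Scheme.Modules.pullback (PicF.XTmap A.hom (𝟙 At ^ n))).obj P) = PicF.cl (CohB1.tensorPow P n) ∧
      PicF.cl ((Scheme.Modules.pullback (AbDual.bcMap (𝟙 A ^ n) At)).obj P) = PicF.cl (CohB1.tensorPow P n) := by
  haveI : GeometricallyIntegral A.hom := Groth.Agent.H25AbCube.geometricallyIntegral_of_smooth A
  haveI : GeometricallyIntegral At.hom := Groth.Agent.H25AbCube.geometricallyIntegral_of_smooth At
  obtain ⟨hPn, en⟩ := Groth.Agent.H25AbCube.exists_pc_tensorPow (X := (A ⊗ At).left) hP n
  let u : Groth.Agent.H25AbCube.PC (A ⊗ At).left := Groth.Agent.H25AbCube.pc P hP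
  obtain ⟨hl, hr, b1, b2⟩ := Groth.Agent.H25Dual.poincare_facts hφ P hP hξ (T := A ⊗ At)
  have hid : Groth.Agent.H25AbCube.ev u (lift (fst A At) (snd A At)) = u := by
    rw [lift_fst_snd]; exact Groth.Agent.H25Dual.ev_self u
  have p1 : ∀ m : ℕ, Groth.Agent.H25AbCube.ev u (lift (fst A At) (snd A At ^ m)) = m • u := fun m => by
    induction m with
    | zero => rw [pow_zero, zero_nsmul]; exact hr _
    | succ m ih => rw [pow_succ, succ_nsmul, b2, ih, hid]
  have p2 : ∀ m : ℕ, Groth.Agent.H25AbCube.ev u (lift (fst A At ^ m) (snd A At)) = m • u := fun m => by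
    induction m with
    | zero => rw [pow_zero, zero_nsmul]; exact hl _
    | succ m ih => rw [pow_succ, succ_nsmul, b1, ih, hid]
  constructor
  · have h1 : (PicF.XTmap A.hom (𝟙 At ^ n)) = (lift (fst A At) (snd A At ^ n)).left := by
      rw [Groth.Agent.H25Dual.XTmap_eq]
      congr 1
      apply CartesianMonoidalCategory.hom_ext <;> simp [MonObj.comp_pow]
    rw [h1]
    refine Quot.sound ((Groth.Agent.H25AbCube.pc_eq_iff (Groth.Agent.H11Ample.isInvertible_pullback _ hP) hPn).1 ?_)
    rw [en]
    exact (Groth.Agent.H25AbCube.pullP_pc _ P hP _).trans (p1 n)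
  · have h1 : (AbDual.bcMap (𝟙 A ^ n) At) = (lift (fst A At ^ n) (snd A At)).left := by
      rw [Groth.Agent.H25Dual.bcMap_eq]
      congr 1
      apply CartesianMonoidalCategory.hom_ext <;> simp [MonObj.comp_pow]
    rw [h1]
    refine Quot.sound ((Groth.Agent.H25AbCube.pc_eq_iff (Groth.Agent.H11Ample.isInvertible_pullback _ hP) hPn).1 ?_)
    rw [en]
    exact (Groth.Agent.H25AbCube.pullP_pc _ P hP _).trans (p2 n)

end Groth.Agent.S17442
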