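import Groth.Statements.S17443
import Groth.Agent.H25Dual.Bilinear
import Groth.Agent.H25AbCube.TorsionStr


set_option autoImplicit false
set_option linter.style.haveILetI false
set_option backward.isDefEq.respectTransparency false
set_option synthInstance.maxHeartbeats 200000
universe u
open CategoryTheory CategoryTheory.Limits MonoidalCategory CartesianMonoidalCategory MonObj GrpObj AlgebraicGeometry
open AbVar

namespace Groth.Agent.S17443

/-- Let k be a field, A an abelian variety over k (a proper smooth k-group scheme with geometrically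
connected fibres), (A^t, φ) a given dual abelian variety of A for the fppf topology with A^t itself
an abelian variety, and P an invertible module on A ×_k A^t whose class is a Poincaré class (it lies
in Pic⁰ fibrewise over A^t, corresponds to the identity of A^t under φ, and is rigidified along the
unit section of A). Write [-1] for the inverse of the identity in the group of endomorphisms of A,
resp. of A^t (the inversion). Then the pull back of P along id_A × [-1] and the pull back of P along
[-1] × id_{A^t} are both inverse to P: their tensor products with P have the class of the structure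
sheaf. (This is the case n = -1 of the published statement, which asserts (id_A × [n])^*P ≅ P^{⊗n} ≅
([n] × id_{A^t})^*P for every integer n; together with the case n ≥ 0 it yields every integer n.) -/
theorem result (k : Type u) [Field k]
    (A At : Over (Spec (CommRingCat.of k))) [GrpObj A] [IsProper A.hom] [Smooth A.hom] [GeometricallyConnected A.hom]
    [GrpObj At] [IsProper At.hom] [Smooth At.hom] [GeometricallyConnected At.hom]
    (φ : ∀ T : Over (Spec (CommRingCat.of k)), PicF.Cl (PicF.XT A.hom T) → (T ⟶ At))
    (hφ : AbDual.IsDualAV Scheme.fppfPrecoverage A At φ)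
    (P : (PicF.XT A.hom At).Modules) (hP : PicF.IsInvertible P)
    (hξ : AbDual.IsPoincareCl A At φ (PicF.cl P)) :
    PicF.IsTrivialCl (PicF.cl (CohB1.tensorMod ((Scheme.Modules.pullback (PicF.XTmap A.hom (𝟙 At)⁻¹)).obj P) P)) ∧
      PicF.IsTrivialCl (PicF.cl (CohB1.tensorMod ((Scheme.Modules.pullback (AbDual.bcMap (𝟙 A)⁻¹ At)).obj P) P)) := by
  haveI : GeometricallyIntegral A.hom := Groth.Agent.H25AbCube.geometricallyIntegral_of_smooth A
  haveI : GeometricallyIntegral At.hom := Groth.Agent.H25AbCube.geometricallyIntegral_of_smooth At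
  let u : Groth.Agent.H25AbCube.PC (A ⊗ At).left := Groth.Agent.H25AbCube.pc P hP
  obtain ⟨hl, hr, b1, b2⟩ := Groth.Agent.H25Dual.poincare_facts hφ P hP hξ (T := A ⊗ At)
  have hid : Groth.Agent.H25AbCube.ev u (lift (fst A At) (snd A At)) = u := by
    rw [lift_fst_snd]; exact Groth.Agent.H25Dual.ev_self u
  have hO := Groth.Agent.H11Ample.isInvertible_structureModule (X := (A ⊗ At).left)
  constructor
  · have h1 : (PicF.XTmap A.hom (𝟙 At)⁻¹) = (lift (fst A At) (snd A At)⁻¹).left := by
      rw [Groth.Agent.H25Dual.XTmap_eq]
      congr 1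
    rw [h1]
    have hi := Groth.Agent.H11Ample.isInvertible_pullback (lift (fst A At) (snd A At)⁻¹).left hP
    refine Quot.sound ((Groth.Agent.H25AbCube.pc_eq_iff (Groth.Agent.H11Ample.isInvertible_tensor hi hP) hO).1 ?_)
    refine (Groth.Agent.H25AbCube.pc_tensor hi hP _).trans ?_
    have h := b2 (fst A At) (snd A At)⁻¹ (snd A At)
    rw [inv_mul_cancel, hr, hid] at h
    refine (congrArg (· + u) (Groth.Agent.H25AbCube.pullP_pc _ P hP hi)).trans (h.symm.trans ?_)
    exact Groth.Agent.H25AbCube.pc_one.symm
  · have h1 : (AbDual.bcMap (𝟙 A)⁻¹ At) = (lift (fst A At)⁻¹ (snd A At)).left := by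
      rw [Groth.Agent.H25Dual.bcMap_eq]
      congr 1
    rw [h1]
    have hi := Groth.Agent.H11Ample.isInvertible_pullback (lift (fst A At)⁻¹ (snd A At)).left hP
    refine Quot.sound ((Groth.Agent.H25AbCube.pc_eq_iff (Groth.Agent.H11Ample.isInvertible_tensor hi hP) hO).1 ?_)
    refine (Groth.Agent.H25AbCube.pc_tensor hi hP _).trans ?_
    have h := b1 (fst A At)⁻¹ (fst A At) (snd A At)
    rw [inv_mul_cancel, hl, hid] at h
    refine (congrArg (· + u) (Groth.Agent.H25AbCube.pullP_pc _ P hP hi)).trans (h.symm.trans ?_)
    exact Groth.Agent.H25AbCube.pc_one.symm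

end Groth.Agent.S17443
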