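import Groth.Statements.S17444
import Mathlib

set_option autoImplicit false
universe u v
open SSRed

namespace Groth.Agent.S17444

/-- Let K be a field of characteristic zero, V a K-vector space and g a K-linear endomorphism of V such
that g - 1 is nilpotent (a unipotent automorphism). Then for every integer n > 0 the endomorphisms
gⁿ - 1 and g - 1 have the same kernel: a vector fixed by gⁿ is fixed by g. (The published statement
assumes V finite-dimensional; this row allows any V.) -/
theorem result (K : Type u) (V : Type v) [Field K] [CharZero K]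
    [AddCommGroup V] [Module K V] (g : Module.End K V) (hg : IsNilpotent (g - 1)) (n : ℕ) (hn : 0 < n) :
    LinearMap.ker (g ^ n - 1) = LinearMap.ker (g - 1) := by
  refine le_antisymm (fun v hv => ?_) (fun v hv => ?_)
  · obtain ⟨M, hM⟩ : ∃ M : Module.End K V, g ^ n - 1 = M * (g - 1) ∧ IsUnit M := by
      refine ⟨∑ i ∈ Finset.range n, g ^ i, (geom_sum_mul g n).symm, ?_⟩
      have hsum : ∑ i ∈ Finset.range n, g ^ i = (n : Module.End K V) + ∑ i ∈ Finset.range n, (g ^ i - 1) := by
        rw [Finset.sum_sub_distrib]; simp
      rw [hsum]
      have hn' : IsUnit (n : Module.End K V) := by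
        rw [← map_natCast (algebraMap K (Module.End K V)) n]
        exact (IsUnit.mk0 _ (Nat.cast_ne_zero.mpr hn.ne')).map _
      refine IsNilpotent.isUnit_add_left_of_commute ?_ hn' (Nat.commute_cast _ n)
      refine Commute.isNilpotent_sum (fun i _ => ?_) (fun i j _ _ => ?_)
      · rw [← geom_sum_mul g i]
        exact Commute.isNilpotent_mul_left ((Commute.sum_left _ _ _ fun j _ =>
          ((Commute.refl g).sub_right (Commute.one_right g)).pow_left j)) hg
      · exact (((Commute.pow_pow_self g i j).sub_right (Commute.one_right _)).sub_left (Commute.one_left _))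
    rw [LinearMap.mem_ker, hM.1] at hv
    obtain ⟨u, rfl⟩ := hM.2
    have := congrArg ((↑u⁻¹ : Module.End K V) ·) hv
    rw [LinearMap.mem_ker]
    simpa [Module.End.mul_apply, ← Module.End.mul_apply (↑u⁻¹ : Module.End K V)] using this
  · rw [LinearMap.mem_ker] at hv ⊢
    rw [← geom_sum_mul g n, Module.End.mul_apply, hv, map_zero]

end Groth.Agent.S17444
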