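import Groth.Statements.S17445
import Mathlib.NumberTheory.Multiplicity
import Mathlib.NumberTheory.LSeries.PrimesInAP
import Mathlib.RingTheory.ZMod.UnitsCyclic
import Mathlib.FieldTheory.Finite.Basic
import Mathlib.NumberTheory.Basic

set_option autoImplicit false
open Finset
open SSRed

namespace Groth.Agent.S17445

/-- the sum `M + ∑_{i ≤ M} v_p(i)` appearing in `N(g)` -/
def S (g p : ℕ) : ℕ :=
  (2 * g) / (p - 1) + ∑ i ∈ Icc 1 ((2 * g) / (p - 1)), padicValNat p i

theorem S_eq_zero {g p : ℕ} (h : 2 * g + 1 < p) : S g p = 0 := by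
  have : (2 * g) / (p - 1) = 0 := Nat.div_eq_of_lt (by omega)
  simp [S, this]

theorem pow_sub_one_ne_zero {l a : ℕ} (hl : l.Prime) (ha : 1 ≤ a) : l ^ (2 * a) - 1 ≠ 0 := by
  have := Nat.one_lt_pow (n := 2 * a) (by omega) hl.one_lt
  omega

theorem val_prod {g l p : ℕ} (hl : l.Prime) (hp : p.Prime) :
    (∏ a ∈ Icc 1 g, (l ^ (2 * a) - 1)).factorization p =
      ∑ a ∈ Icc 1 g, padicValNat p (l ^ (2 * a) - 1) := by
  rw [Nat.factorization_prod_apply fun a ha => pow_sub_one_ne_zero hl (mem_Icc.1 ha).1]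
  exact Finset.sum_congr rfl fun a _ => Nat.factorization_def _ hp

theorem sum_filter_dvd {g h : ℕ} (hh : 0 < h) (f : ℕ → ℕ) :
    ∑ a ∈ (Icc 1 g).filter (h ∣ ·), f (a / h) = ∑ i ∈ Icc 1 (g / h), f i := by
  refine Finset.sum_nbij' (fun a => a / h) (fun i => i * h) ?_ ?_ ?_ ?_ ?_
  · intro a ha
    simp only [mem_coe, mem_filter, mem_Icc] at ha
    simp only [mem_coe, mem_Icc]
    exact ⟨Nat.one_le_iff_ne_zero.2 (Nat.pos_iff_ne_zero.1
      (Nat.div_pos (Nat.le_of_dvd (by omega) ha.2) hh)), Nat.div_le_div_right ha.1.2⟩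
  · intro i hi
    simp only [mem_coe, mem_Icc] at hi
    simp only [mem_coe, mem_filter, mem_Icc]
    exact ⟨⟨Nat.one_le_iff_ne_zero.2 (Nat.mul_ne_zero (by omega) hh.ne'),
      (Nat.le_div_iff_mul_le hh).1 hi.2⟩, dvd_mul_left h i⟩
  · intro a ha
    simp only [mem_coe, mem_filter, mem_Icc] at ha
    exact Nat.div_mul_cancel ha.2
  · intro i _
    exact Nat.mul_div_cancel i hh
  · intro a _
    rfl

theorem half_facts {p : ℕ} (hp : p.Prime) (hp2 : p ≠ 2) :
    0 < (p - 1) / 2 ∧ p - 1 = 2 * ((p - 1) / 2) := by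
  obtain ⟨k, hk⟩ := hp.odd_of_ne_two hp2
  have := hp.two_le
  omega

theorem S_eq_sum {g p : ℕ} (hp : p.Prime) (hp2 : p ≠ 2) :
    S g p = ∑ a ∈ (Icc 1 g).filter ((p - 1) / 2 ∣ ·), (1 + padicValNat p (a / ((p - 1) / 2))) := by
  obtain ⟨hh, hp1⟩ := half_facts hp hp2
  have hM : 2 * g / (p - 1) = g / ((p - 1) / 2) := by
    conv_lhs => rw [hp1]
    exact Nat.mul_div_mul_left _ _ (by norm_num)
  rw [sum_filter_dvd hh (fun i => 1 + padicValNat p i), Finset.sum_add_distrib]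
  simp [S, hM]

theorem val_pow_of_dvd {p l a : ℕ} (hp : p.Prime) (hp2 : p ≠ 2) (hl : l.Prime) (hpl : p ≠ l)
    (ha : 1 ≤ a) (hd : (p - 1) / 2 ∣ a) :
    1 ≤ padicValNat p (l ^ (p - 1) - 1) ∧
    padicValNat p (l ^ (2 * a) - 1) =
      padicValNat p (l ^ (p - 1) - 1) + padicValNat p (a / ((p - 1) / 2)) := by
  haveI := Fact.mk hp
  obtain ⟨hh, hp1⟩ := half_facts hp hp2
  obtain ⟨i, rfl⟩ := hd
  have hi : i ≠ 0 := by rintro rfl; simp at ha
  have hcop : Nat.Coprime l p := (Nat.coprime_primes hl hp).2 fun h => hpl h.symm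
  have h1 : 1 < l ^ (p - 1) := Nat.one_lt_pow (by omega) hl.one_lt
  have hdiv : p ∣ l ^ (p - 1) - 1 := by
    have := Nat.ModEq.pow_totient hcop
    rw [Nat.totient_prime hp] at this
    exact (Nat.modEq_iff_dvd' h1.le).1 this.symm
  have hnd : ¬ p ∣ l ^ (p - 1) := fun h =>
    hpl ((Nat.prime_dvd_prime_iff_eq hp hl).1 (hp.dvd_of_dvd_pow h))
  refine ⟨one_le_padicValNat_of_dvd (by omega) hdiv, ?_⟩
  have he : l ^ (2 * ((p - 1) / 2 * i)) = (l ^ (p - 1)) ^ i := by
    rw [← mul_assoc, ← hp1, pow_mul]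
  rw [he, Nat.mul_div_cancel_left i hh]
  have key := padicValNat.pow_sub_pow (p := p) (y := 1) (hp.odd_of_ne_two hp2) h1 hdiv hnd hi
  simpa using key

theorem odd_le {g l p : ℕ} (hp : p.Prime) (hp2 : p ≠ 2) (hl : l.Prime) (hgl : 2 * g + 1 < l) :
    S g p ≤ ∑ a ∈ Icc 1 g, padicValNat p (l ^ (2 * a) - 1) := by
  rcases lt_or_ge (2 * g + 1) p with hpg | hpg
  · simp [S_eq_zero hpg]
  · rw [S_eq_sum hp hp2]
    refine le_trans (Finset.sum_le_sum fun a ha => ?_)
      (Finset.sum_le_sum_of_subset (Finset.filter_subset _ _))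
    simp only [mem_filter, mem_Icc] at ha
    obtain ⟨h1, h2⟩ := val_pow_of_dvd hp hp2 hl (by omega) ha.1.1 ha.2
    omega

theorem odd_exact {g p : ℕ} (B : ℕ) (hp : p.Prime) (hp2 : p ≠ 2) :
    ∃ l : ℕ, l.Prime ∧ B < l ∧ ∑ a ∈ Icc 1 g, padicValNat p (l ^ (2 * a) - 1) ≤ S g p := by
  haveI := Fact.mk hp
  haveI : NeZero (p ^ 2) := ⟨pow_ne_zero _ hp.ne_zero⟩
  haveI := ZMod.isCyclic_units_of_prime_pow p hp hp2 2
  obtain ⟨u, hu⟩ := IsCyclic.exists_generator (α := (ZMod (p ^ 2))ˣ)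
  have hord : orderOf u = p * (p - 1) := by
    rw [orderOf_eq_card_of_forall_mem_zpowers hu, Nat.card_eq_fintype_card,
      ZMod.card_units_eq_totient, Nat.totient_prime_pow hp (by norm_num)]
    simp
  obtain ⟨l, hlB, hl, hlu⟩ :=
    Nat.forall_exists_prime_gt_and_eq_mod (q := p ^ 2) (a := (u : ZMod (p ^ 2))) u.isUnit (max B p)
  refine ⟨l, hl, by omega, ?_⟩
  have hpl : p ≠ l := by omega
  have hdvd : ∀ n, p ^ 2 ∣ l ^ n - 1 → p * (p - 1) ∣ n := by
    intro n hn
    rw [← hord]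
    refine orderOf_dvd_of_pow_eq_one (Units.ext ?_)
    rw [Units.val_pow_eq_pow_val, ← hlu, Units.val_one]
    have h1 : 1 ≤ l ^ n := Nat.one_le_pow _ _ hl.pos
    have := (ZMod.natCast_eq_zero_iff (l ^ n - 1) (p ^ 2)).2 hn
    rw [Nat.cast_sub h1, sub_eq_zero] at this
    simpa using this
  obtain ⟨hh, hp1⟩ := half_facts hp hp2
  have hv1 : padicValNat p (l ^ (p - 1) - 1) ≤ 1 := by
    by_contra h
    have h2 : p ^ 2 ∣ l ^ (p - 1) - 1 :=
      (pow_dvd_pow p (by omega)).trans pow_padicValNat_dvd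
    have := Nat.le_of_dvd (by have := hp.two_le; omega) (hdvd _ h2)
    have := Nat.mul_le_mul_right (p - 1) hp.two_le
    omega
  rw [S_eq_sum hp hp2, ← Finset.sum_filter_add_sum_filter_not (Icc 1 g) ((p - 1) / 2 ∣ ·)]
  have hz : ∑ a ∈ (Icc 1 g).filter (fun a => ¬ (p - 1) / 2 ∣ a),
      padicValNat p (l ^ (2 * a) - 1) = 0 := by
    refine Finset.sum_eq_zero fun a ha => padicValNat.eq_zero_of_not_dvd fun hpd => ?_
    simp only [mem_filter, mem_Icc] at ha
    apply ha.2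
    have h1 : 1 ≤ l ^ (2 * a) := Nat.one_le_pow _ _ hl.pos
    have h2 : p ^ 2 ∣ l ^ (2 * a * p) - 1 := by
      have hI : ((p : ℤ)) ∣ ((l : ℤ) ^ (2 * a)) - 1 := by
        have := Int.natCast_dvd_natCast.2 hpd
        rw [Nat.cast_sub h1] at this
        simpa using this
      have := dvd_sub_pow_of_dvd_sub hI 1
      rw [pow_one, one_pow, ← pow_mul] at this
      have h3 : 1 ≤ l ^ (2 * a * p) := Nat.one_le_pow _ _ hl.pos
      rw [← Int.natCast_dvd_natCast, Nat.cast_sub h3]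
      simpa using this
    have h4 : p * ((p - 1) / 2 * 2) ∣ p * (a * 2) := by
      have := hdvd _ h2
      rw [hp1] at this
      convert this using 1 <;> ring
    exact (Nat.mul_dvd_mul_iff_right (by norm_num)).1
      ((Nat.mul_dvd_mul_iff_left hp.pos).1 h4)
  rw [hz, add_zero]
  refine Finset.sum_le_sum fun a ha => ?_
  simp only [mem_filter, mem_Icc] at ha
  obtain ⟨_, h2⟩ := val_pow_of_dvd hp hp2 hl hpl ha.1.1 ha.2
  omega

theorem two_fact (g : ℕ) :
    3 * g + padicValNat 2 g.factorial = ∑ a ∈ Icc 1 g, (3 + padicValNat 2 a) := by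
  rw [Finset.sum_add_distrib]
  have : padicValNat 2 g.factorial = ∑ a ∈ Icc 1 g, padicValNat 2 a := by
    induction g with
    | zero => simp
    | succ n ih =>
      rw [Finset.sum_Icc_succ_top (by omega), Nat.factorial_succ,
        padicValNat.mul (by omega) n.factorial_ne_zero, ih]
      omega
  simp [this, mul_comm]

theorem two_val {l a : ℕ} (hl : l.Prime) (h2 : 2 < l) (ha : 1 ≤ a) :
    padicValNat 2 (l ^ (2 * a) - 1) =
      padicValNat 2 (l + 1) + padicValNat 2 (l - 1) + padicValNat 2 a := by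
  have hodd : ¬ 2 ∣ l := fun h => by
    have := (Nat.prime_dvd_prime_iff_eq Nat.prime_two hl).1 h
    omega
  have := padicValNat.pow_two_sub_one hl.one_lt hodd (n := 2 * a) (by omega) (even_two_mul a)
  rw [padicValNat.mul (by norm_num) (by omega), padicValNat.self (by norm_num)] at this
  omega

theorem two_le_sum {g l : ℕ} (hl : l.Prime) (hgl : 2 * g + 1 < l) :
    3 * g + padicValNat 2 g.factorial ≤ ∑ a ∈ Icc 1 g, padicValNat 2 (l ^ (2 * a) - 1) := by
  rw [two_fact]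
  refine Finset.sum_le_sum fun a ha => ?_
  simp only [mem_Icc] at ha
  rw [two_val hl (by omega) ha.1, ← padicValNat.mul (by omega) (by omega)]
  have hodd : ¬ 2 ∣ l := fun h => by
    have := (Nat.prime_dvd_prime_iff_eq Nat.prime_two hl).1 h
    omega
  obtain ⟨k, hk⟩ : ∃ k, l = 2 * k + 1 := ⟨l / 2, by omega⟩
  have h8 : 2 ^ 3 ∣ (l + 1) * (l - 1) := by
    obtain ⟨m, hm⟩ : 2 ∣ k * (k + 1) := (Nat.even_mul_succ_self k).two_dvd
    refine ⟨m, ?_⟩
    subst hk
    simp only [Nat.add_sub_cancel]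
    nlinarith
  have := (padicValNat_dvd_iff_le (p := 2) (Nat.mul_ne_zero (by omega) (by omega))).1 h8
  omega

theorem two_exact (g B : ℕ) :
    ∃ l : ℕ, l.Prime ∧ B < l ∧
      ∑ a ∈ Icc 1 g, padicValNat 2 (l ^ (2 * a) - 1) ≤ 3 * g + padicValNat 2 g.factorial := by
  obtain ⟨l, hlB, hl, hlu⟩ :=
    Nat.forall_exists_prime_gt_and_eq_mod (q := 8) (a := (3 : ZMod 8))
      (IsUnit.of_mul_eq_one (3 : ZMod 8) (by decide)) (max B 3)
  refine ⟨l, hl, by omega, ?_⟩
  rw [two_fact]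
  refine Finset.sum_le_sum fun a ha => ?_
  simp only [mem_Icc] at ha
  rw [two_val hl (by omega) ha.1]
  have h8 : l % 8 = 3 := by
    have := congrArg ZMod.val hlu
    rw [ZMod.val_natCast] at this
    exact this
  have hv : ∀ n j : ℕ, n % 2 ^ (j + 1) ≠ 0 → padicValNat 2 n ≤ j := by
    intro n j h
    by_contra hc
    exact h (Nat.mod_eq_zero_of_dvd ((pow_dvd_pow 2 (by omega)).trans pow_padicValNat_dvd))
  have h1 := hv (l + 1) 2 (by norm_num; omega)
  have h2 := hv (l - 1) 1 (by norm_num; omega)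
  omega

theorem aux (g B d : ℕ) (hB : 2 * g + 1 ≤ B) :
    (∀ ℓ : ℕ, ℓ.Prime → B < ℓ → d ∣ ∏ a ∈ Icc 1 g, (ℓ ^ (2 * a) - 1)) ↔
      d ∣ 2 ^ (3 * g + padicValNat 2 g.factorial) *
        ∏ p ∈ (Icc 3 (2 * g + 1)).filter Nat.Prime, p ^ S g p := by
  set N := 2 ^ (3 * g + padicValNat 2 g.factorial) *
        ∏ p ∈ (Icc 3 (2 * g + 1)).filter Nat.Prime, p ^ S g p with hN
  have hne : ∀ q ∈ (Icc 3 (2 * g + 1)).filter Nat.Prime, q ^ S g q ≠ 0 := fun q hq =>
    pow_ne_zero _ (mem_filter.1 hq).2.ne_zero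
  have hN0 : N ≠ 0 :=
    Nat.mul_ne_zero (pow_ne_zero _ two_ne_zero) (Finset.prod_ne_zero_iff.2 hne)
  have hfac : ∀ p : ℕ, p.Prime → N.factorization p =
      if p = 2 then 3 * g + padicValNat 2 g.factorial else S g p := by
    intro p hp
    rw [hN, Nat.factorization_mul (pow_ne_zero _ two_ne_zero) (Finset.prod_ne_zero_iff.2 hne),
      Finsupp.add_apply, Nat.factorization_prod_apply hne, Nat.prime_two.factorization_pow]
    rw [Finset.sum_congr rfl (g := fun q => if q = p then S g q else 0) fun q hq => by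
      rw [(mem_filter.1 hq).2.factorization_pow, Finsupp.single_apply]]
    rw [Finset.sum_ite_eq', Finsupp.single_apply]
    rcases eq_or_ne p 2 with rfl | h2
    · simp
    · rw [if_neg h2.symm, if_neg h2, zero_add]
      split_ifs with hm
      · rfl
      · refine (S_eq_zero ?_).symm
        simp only [mem_filter, mem_Icc, hp, and_true, not_and, not_le] at hm
        exact hm (by have := hp.two_le; omega)
  have hP0 : ∀ l : ℕ, l.Prime → ∏ a ∈ Icc 1 g, (l ^ (2 * a) - 1) ≠ 0 := fun l hl =>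
    Finset.prod_ne_zero_iff.2 fun a ha => pow_sub_one_ne_zero hl (mem_Icc.1 ha).1
  constructor
  · intro h
    obtain ⟨l₀, hl₀, hl₀'⟩ := Nat.exists_infinite_primes (B + 1)
    have hd : d ≠ 0 := fun h0 =>
      hP0 l₀ hl₀' (Nat.eq_zero_of_zero_dvd (h0 ▸ h l₀ hl₀' (by omega)))
    refine (Nat.factorization_prime_le_iff_dvd hd hN0).1 fun p hp => ?_
    rw [hfac p hp]
    rcases eq_or_ne p 2 with rfl | h2
    · obtain ⟨l, hl, hlB, hle⟩ := two_exact g B
      rw [if_pos rfl]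
      refine le_trans ?_ ((val_prod hl hp).le.trans hle)
      exact (Nat.factorization_prime_le_iff_dvd hd (hP0 l hl)).2 (h l hl hlB) 2 hp
    · obtain ⟨l, hl, hlB, hle⟩ := odd_exact (g := g) B hp h2
      rw [if_neg h2]
      refine le_trans ?_ ((val_prod hl hp).le.trans hle)
      exact (Nat.factorization_prime_le_iff_dvd hd (hP0 l hl)).2 (h l hl hlB) p hp
  · intro h l hl hlB
    refine h.trans ((Nat.factorization_prime_le_iff_dvd hN0 (hP0 l hl)).1 fun p hp => ?_)
    rw [hfac p hp, val_prod hl hp]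
    rcases eq_or_ne p 2 with rfl | h2
    · rw [if_pos rfl]
      exact two_le_sum hl (by omega)
    · rw [if_neg h2]
      exact odd_le hp h2 hl (by omega)


/-- For natural numbers g and B with B ≥ 2g + 1, a natural number d divides ∏_{a=1}^{g} (ℓ^{2a} - 1) for
every prime ℓ > B if and only if d divides N(g) = 2^{3g + v₂(g!)} · ∏_{3 ≤ p ≤ 2g+1, p prime}
p^{[2g/(p-1)] + Σ_{1 ≤ i ≤ [2g/(p-1)]} v_p(i)}. In words: N(g) is the greatest common divisor of
these products as ℓ runs through the primes beyond any bound that is at least 2g + 1; its prime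
factors are the primes p ≤ 2g + 1. (This is the number N(g) of the published result, which bounds
the degree of the field of semistable reduction of a g-dimensional abelian variety over a strictly
henselian discretely valued field; the printed phrase is the greatest common divisor over all large
primes, made precise here by the bound 2g + 1, below which a prime ℓ ≤ 2g + 1 divides N(g) but not
its own product.) -/
theorem result (g B d : ℕ) (hB : 2 * g + 1 ≤ B) :
    (∀ ℓ : ℕ, ℓ.Prime → B < ℓ → d ∣ ∏ a ∈ Icc 1 g, (ℓ ^ (2 * a) - 1)) ↔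
      d ∣ 2 ^ (3 * g + padicValNat 2 g.factorial) *
        ∏ p ∈ (Icc 3 (2 * g + 1)).filter Nat.Prime,
          p ^ ((2 * g) / (p - 1) + ∑ i ∈ Icc 1 ((2 * g) / (p - 1)), padicValNat p i) := by
  exact aux g B d hB

end Groth.Agent.S17445
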