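import Groth.Statements.S17446
import Mathlib

set_option autoImplicit false
universe u v
open SSRed

namespace Groth.Agent.S17446

/-- Let K be a field, V a finite-dimensional K-vector space and H₁, H₂ subgroups of the group of
K-linear automorphisms of V such that H₂ normalizes H₁. Call the action of a subgroup H unipotent
when, for some n, every product (h₁ - 1)(h₂ - 1)⋯(hₙ - 1) with all hᵢ in H is the zero endomorphism
(equivalently, V has an H-stable flag on whose successive quotients H acts trivially). If H₁ and H₂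
act unipotently, then the subgroup generated by H₁ and H₂ acts unipotently. (In the published result
H₁ and H₂ are the absolute Galois groups of two finite Galois extensions of a strictly henselian
discretely valued field over which an abelian variety becomes semistable, acting on its rational
ℓ-adic Tate module, and the conclusion is semistability over the intersection of the two fields; the
printed argument uses only that H₂ normalizes H₁.) -/
theorem result (K : Type u) (V : Type v) [Field K]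
    [AddCommGroup V] [Module K V] [FiniteDimensional K V]
    (H₁ H₂ : Subgroup (V ≃ₗ[K] V)) (hnorm : ∀ g ∈ H₂, ∀ h ∈ H₁, g * h * g⁻¹ ∈ H₁)
    (h₁ : ∃ n : ℕ, ∀ f : Fin n → ↥H₁,
      (List.ofFn fun i => (((f i : ↥H₁) : V ≃ₗ[K] V) : Module.End K V) - 1).prod = 0)
    (h₂ : ∃ n : ℕ, ∀ f : Fin n → ↥H₂,
      (List.ofFn fun i => (((f i : ↥H₂) : V ≃ₗ[K] V) : Module.End K V) - 1).prod = 0) :
    ∃ n : ℕ, ∀ f : Fin n → ↥(H₁ ⊔ H₂),
      (List.ofFn fun i => (((f i : ↥(H₁ ⊔ H₂)) : V ≃ₗ[K] V) : Module.End K V) - 1).prod = 0 := by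
  classical
  obtain ⟨n₁, h₁⟩ := h₁
  obtain ⟨n₂, h₂⟩ := h₂
  let F : ℕ → Submodule K V := fun j => Nat.rec (motive := fun _ => Submodule K V) ⊤
    (fun _ W => Submodule.span K {x | ∃ h ∈ H₁, ∃ v ∈ W, x = (h : V ≃ₗ[K] V) v - v}) j
  have hFs : ∀ j, F (j + 1) = Submodule.span K {x | ∃ h ∈ H₁, ∃ v ∈ F j, x = (h : V ≃ₗ[K] V) v - v} :=
    fun j => rfl
  have hmemF : ∀ (j : ℕ) (h : V ≃ₗ[K] V), h ∈ H₁ → ∀ v ∈ F j, h v - v ∈ F (j + 1) := fun j h hh v hv =>
    Submodule.subset_span ⟨h, hh, v, hv, rfl⟩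
  have hle : ∀ j, F (j + 1) ≤ F j := by
    intro j
    induction j with
    | zero => exact le_top
    | succ j ih =>
      rw [hFs (j + 1), hFs j]
      exact Submodule.span_mono fun x ⟨h, hh, v, hv, e⟩ => ⟨h, hh, v, ih hv, e⟩
  have hg : ∀ g ∈ H₂, ∀ j, ∀ v ∈ F j, g v ∈ F j := by
    intro g hg j
    induction j with
    | zero => intro v _; trivial
    | succ j ih =>
      intro v hv
      rw [hFs] at hv
      induction hv using Submodule.span_induction with
      | mem x hx =>
        obtain ⟨h, hh, w, hw, rfl⟩ := hx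
        have := hmemF j (g * h * g⁻¹) (hnorm g hg h hh) (g w) (ih w hw)
        simpa [map_sub] using this
      | zero => rw [map_zero]; exact Submodule.zero_mem _
      | add a b _ _ ha hb => rw [map_add]; exact Submodule.add_mem _ ha hb
      | smul c a _ ha => rw [map_smul]; exact Submodule.smul_mem _ c ha
  -- the flag ends at zero
  have hbot : F n₁ = ⊥ := by
    have : ∀ j ≤ n₁, ∀ v ∈ F j, ∀ f : Fin (n₁ - j) → ↥H₁,
        (List.ofFn fun i => (((f i : ↥H₁) : V ≃ₗ[K] V) : Module.End K V) - 1).prod v = 0 := by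
      intro j
      induction j with
      | zero => intro _ v _ f; rw [show (List.ofFn fun i => (((f i : ↥H₁) : V ≃ₗ[K] V) : Module.End K V) - 1).prod = 0 from h₁ f]; rfl
      | succ j ih =>
        intro hj v hv f
        rw [hFs] at hv
        induction hv using Submodule.span_induction with
        | mem x hx =>
          obtain ⟨h, hh, w, hw, rfl⟩ := hx
          have e : n₁ - j = (n₁ - (j + 1)) + 1 := by omega
          have := ih (by omega) w hw ((Fin.snoc f (⟨h, hh⟩ : ↥H₁) : Fin (n₁ - (j + 1) + 1) → ↥H₁) ∘ Fin.cast e)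
          rw [List.ofFn_congr e] at this
          simp only [Function.comp_apply, Fin.cast_cast, Fin.cast_eq_self] at this
          rw [List.ofFn_succ', List.concat_eq_append, List.prod_append, List.prod_singleton,
            Module.End.mul_apply] at this
          simpa [Fin.snoc_castSucc, Fin.snoc_last] using this
        | zero => rw [map_zero]
        | add a b _ _ ha hb => rw [map_add, ha, hb, add_zero]
        | smul c a _ ha => rw [map_smul, ha, smul_zero]
    refine (Submodule.eq_bot_iff _).mpr fun v hv => ?_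
    have h0 := this n₁ le_rfl v hv (fun i => absurd i.isLt (by simp))
    rw [List.ofFn_congr (Nat.sub_self n₁)] at h0
    simpa using h0
  have key : ∀ x ∈ H₁ ⊔ H₂, ∃ g ∈ H₂, ∀ j, ∀ v ∈ F j, (x : V ≃ₗ[K] V) v - g v ∈ F (j + 1) := by
    intro x hx
    rw [Subgroup.sup_eq_closure] at hx
    have hstab : ∀ (y g : V ≃ₗ[K] V), g ∈ H₂ → (∀ j, ∀ v ∈ F j, y v - g v ∈ F (j + 1)) →
        ∀ j, ∀ v ∈ F j, y v ∈ F j := fun y g hg' hy j v hv => by
      have := Submodule.add_mem _ (hle j (hy j v hv)) (hg g hg' j v hv)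
      rwa [sub_add_cancel] at this
    have hgen : ∀ y : V ≃ₗ[K] V, (y ∈ H₁ ∨ y ∈ H₂) → ∃ g ∈ H₂, ∀ j, ∀ v ∈ F j, y v - g v ∈ F (j + 1) := by
      rintro y (hy | hy)
      · exact ⟨1, one_mem _, fun j v hv => hmemF j y hy v hv⟩
      · exact ⟨y, hy, fun j v _ => by rw [sub_self]; exact Submodule.zero_mem _⟩
    have hmul : ∀ y z : V ≃ₗ[K] V, (∃ g ∈ H₂, ∀ j, ∀ v ∈ F j, y v - g v ∈ F (j + 1)) →
        (∃ g ∈ H₂, ∀ j, ∀ v ∈ F j, z v - g v ∈ F (j + 1)) →
        ∃ g ∈ H₂, ∀ j, ∀ v ∈ F j, (y * z) v - g v ∈ F (j + 1) := by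
      rintro y z ⟨g, hg', hy⟩ ⟨g', hg'', hz⟩
      refine ⟨g * g', mul_mem hg' hg'', fun j v hv => ?_⟩
      have e : (y * z) v - (g * g') v = y (z v - g' v) + (y (g' v) - g (g' v)) := by
        simp [map_sub]
      rw [e]
      exact Submodule.add_mem _ (hstab y g hg' hy (j + 1) _ (hz j v hv)) (hy j _ (hg g' hg'' j v hv))
    induction hx using Subgroup.closure_induction_left with
    | one => exact ⟨1, one_mem _, fun j v _ => by rw [sub_self]; exact Submodule.zero_mem _⟩
    | mul_left a ha b _ ih => exact hmul a b (hgen a ha) ih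
    | inv_mul_cancel a ha b _ ih => exact hmul _ b (hgen _ (ha.imp inv_mem inv_mem)) ih
  refine ⟨n₁ * n₂, fun f => ?_⟩
  have hblock : ∀ (m : ℕ) (f : Fin m → ↥(H₁ ⊔ H₂)), ∃ gs : Fin m → ↥H₂, ∀ j, ∀ v ∈ F j,
      (List.ofFn fun i => (((f i : ↥(H₁ ⊔ H₂)) : V ≃ₗ[K] V) : Module.End K V) - 1).prod v -
        (List.ofFn fun i => (((gs i : ↥H₂) : V ≃ₗ[K] V) : Module.End K V) - 1).prod v ∈ F (j + 1) ∧
      (List.ofFn fun i => (((gs i : ↥H₂) : V ≃ₗ[K] V) : Module.End K V) - 1).prod v ∈ F j := by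
    intro m
    induction m with
    | zero =>
      exact fun f => ⟨fun i => i.elim0, fun j v hv => ⟨by simp, by simpa using hv⟩⟩
    | succ m ih =>
      intro f
      obtain ⟨gs, hgs⟩ := ih fun i => f i.succ
      obtain ⟨g, hg', hx⟩ := key _ (f 0).2
      refine ⟨Fin.cons ⟨g, hg'⟩ gs, fun j v hv => ?_⟩
      obtain ⟨h1, h2⟩ := hgs j v hv
      simp only [List.ofFn_succ, List.prod_cons, Module.End.mul_apply, Fin.cons_zero, Fin.cons_succ,
        LinearMap.sub_apply, Module.End.one_apply, LinearEquiv.coe_coe]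
      set P := (List.ofFn fun i : Fin m => (((f i.succ : ↥(H₁ ⊔ H₂)) : V ≃ₗ[K] V) : Module.End K V) - 1).prod v
      set Q := (List.ofFn fun i : Fin m => (((gs i : ↥H₂) : V ≃ₗ[K] V) : Module.End K V) - 1).prod v
      refine ⟨?_, Submodule.sub_mem _ (hg g hg' j Q h2) h2⟩
      have e : ((f 0 : V ≃ₗ[K] V) P - P) - (g Q - Q) =
          ((f 0 : V ≃ₗ[K] V) (P - Q) - (P - Q)) + ((f 0 : V ≃ₗ[K] V) Q - g Q) := by
        rw [map_sub]; abel
      rw [e]
      refine Submodule.add_mem _ (Submodule.sub_mem _ ?_ h1) (hx j Q h2)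
      have := Submodule.add_mem _ (hle (j + 1) (hx (j + 1) _ h1)) (hg g hg' (j + 1) _ h1)
      rwa [sub_add_cancel] at this
  have hfin : ∀ (k j : ℕ), j + k = n₁ → ∀ (f : Fin (k * n₂) → ↥(H₁ ⊔ H₂)), ∀ v ∈ F j,
      (List.ofFn fun i => (((f i : ↥(H₁ ⊔ H₂)) : V ≃ₗ[K] V) : Module.End K V) - 1).prod v = 0 := by
    intro k
    induction k with
    | zero =>
      intro j hj f v hv
      rw [Nat.add_zero] at hj
      subst hj
      rw [hbot, Submodule.mem_bot] at hv
      rw [hv, map_zero]
    | succ k ih =>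
      intro j hj f v hv
      have e : (k + 1) * n₂ = k * n₂ + n₂ := Nat.succ_mul k n₂
      rw [List.ofFn_congr e, List.ofFn_add, List.prod_append, Module.End.mul_apply]
      refine ih (j + 1) (by omega) _ _ ?_
      obtain ⟨gs, hgs⟩ := hblock n₂ fun i => f (Fin.cast e.symm (Fin.natAdd (k * n₂) i))
      have := (hgs j v hv).1
      rw [h₂ gs, LinearMap.zero_apply, sub_zero] at this
      exact this
  exact LinearMap.ext fun v => hfin n₁ 0 (Nat.zero_add _) f v trivial

end Groth.Agent.S17446
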