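import Groth.Statements.S17449
import Groth.Agent.H06Conn.ProperCount
import Groth.Agent.H7Flat.GeomInt.Counts
import Mathlib.AlgebraicGeometry.Morphisms.UniversallyOpen


set_option autoImplicit false
universe u
open CategoryTheory CategoryTheory.Limits AlgebraicGeometry
open Stein

namespace Groth.Agent.S17449

/-- Let S be a Noetherian scheme and f : X → S a proper, flat and surjective morphism. Suppose that for
every generic point η of an irreducible component of S the fibre of f at η is geometrically
connected and smooth over the residue field κ(η). Then every fibre of f is geometrically connected. -/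
theorem result {X S : Scheme.{u}}
    (f : X ⟶ S) [IsProper f] [Flat f] [Surjective f] [IsNoetherian S]
    (h : ∀ (Z : Set ↑S) (η : ↑S), Z ∈ irreducibleComponents ↑S → IsGenericPoint η Z →
      GeometricallyConnected (f.fiberToSpecResidueField η) ∧ Smooth (f.fiberToSpecResidueField η)) :
    GeometricallyConnected f := by
  rw [GeometricallyConnected.iff_geometricallyConnected_fiber]
  intro y
  rw [H7Flat.GeomInt.geometricallyConnected_fiber_iff]
  obtain ⟨Z, hZ, hyZ⟩ : ∃ Z ∈ irreducibleComponents ↥S, y ∈ Z :=
    ⟨irreducibleComponent y, irreducibleComponent_mem_irreducibleComponents y, mem_irreducibleComponent⟩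
  obtain ⟨η, hη⟩ := QuasiSober.sober hZ.1 (isClosed_of_mem_irreducibleComponents Z hZ)
  have h1 := (H7Flat.GeomInt.geometricallyConnected_fiber_iff f η).1 (h Z η hZ hη).1
  haveI : LocallyOfFinitePresentation f := inferInstance
  haveI : UniversallyOpen f := inferInstance
  have hle := H06Conn.nGeomConnComp_le_of_specializes f (hη.specializes hyZ)
    (fun x _ Y' g x' _ U hU => (pullback.snd f g).isOpenMap.image_mem_nhds hU)
  rw [h1] at hle
  refine le_antisymm hle (ENat.one_le_iff_ne_zero.2 fun h0 => ?_)
  let k := SeparableClosure (S.residueField y)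
  let a : Spec (CommRingCat.of k) ⟶ S :=
    Spec.map (CommRingCat.ofHom (algebraMap (S.residueField y) k)) ≫ S.fromSpecResidueField y
  have ha : a (IsLocalRing.closedPoint k) = y := by
    rw [Scheme.Hom.comp_apply]; exact Scheme.fromSpecResidueField_apply _ _
  rw [← (H7Flat.GeomInt.nGeom_eq f a ha).2, ENat.card_eq_zero_iff_empty] at h0
  haveI : Surjective (pullback.snd f a) := MorphismProperty.pullback_snd _ _ ‹_›
  obtain ⟨x, -⟩ := (pullback.snd f a).surjective (IsLocalRing.closedPoint k)
  exact h0.false (ConnectedComponents.mk x)

end Groth.Agent.S17449
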