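import Groth.Statements.S17451
import Groth.Agent.H19Chev.MulSurjective
import Groth.Agent.H19Chev.FieldBasic
import Groth.Agent.H19Chev.Structure
import Groth.Agent.H19Grp.AntiAffineGroup
import Groth.Agent.H21Rank1.CellPts

set_option autoImplicit false
set_option maxHeartbeats 1000000
set_option synthInstance.maxHeartbeats 100000
set_option linter.style.haveILetI false
set_option backward.isDefEq.respectTransparency false
universe u
open CategoryTheory MonoidalCategory CartesianMonoidalCategory MonObj GrpObj AlgebraicGeometry CategoryTheory.Limits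
open AlgGrp

namespace Groth.Agent.S17451

open AlgebraicGeometry
open Groth.Agent Groth.Agent.H25AbCube Groth.Agent.H19Quot

attribute [local instance] Functor.grpObjObj

variable {K : Type u} [Field K]

/-- A connected extension of a proper group by a commutative subgroup is commutative. -/
theorem comm_of_extension (G : Over (Spec (CommRingCat.of K))) [GrpObj G] [Smooth G.hom] [QuasiCompact G.hom]
    [ConnectedSpace G.left] {T A : Over (Spec (CommRingCat.of K))} [GrpObj T] [GrpObj A] [IsProper A.hom]
    (i : T ⟶ G) [IsMonHom i] (hT : ∀ {X : Over (Spec (CommRingCat.of K))} (s t : X ⟶ T), s * t = t * s)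
    (q : G ⟶ A) [IsMonHom q] [Flat q.left] [Surjective q.left] (hk : AlgGrp.IsKernel i q)
    {X : Over (Spec (CommRingCat.of K))} (x y : X ⟶ G) : x * y = y * x := by
  haveI : IsSeparated G.hom := H19Grp.AffineQuotient.isSeparated_of_grp G
  let m₀ := H19Grp.AffinizationKernel.incl G
  obtain ⟨gM, hm⟩ := H19Grp.AffinizationKernel.exists_grpObj G
  haveI := hm
  let M := H19Grp.AffinizationKernel.N G
  obtain ⟨hMi, hMs, hMc⟩ := H19Grp.AffinizationKernel.smooth_and_connected (G := G)
  haveI := hMi; haveI := hMs; haveI := hMc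
  haveI : QuasiCompact M.hom := by
    show QuasiCompact (H19Grp.AffinizationKernel.N G).hom
    rw [← Over.w m₀]; infer_instance
  haveI : IsSeparated M.hom := H19Grp.AffineQuotient.isSeparated_of_grp M
  haveI : IsCommMonObj M := H19Grp.AntiAffineGroup.isCommMonObj M
  haveI : Surjective (m₀ ≫ q).left := H19Chev.surjective_incl_comp q
  haveI hsurj : Surjective ((m₀ ⊗ₘ i) ≫ μ[G]).left := H19Chev.surjective_mul_left i q hk m₀
  let p : M ⊗ T ⟶ G := (m₀ ⊗ₘ i) ≫ μ[G]
  haveI : Surjective (p ⊗ₘ p).left := by
    haveI : Surjective p.left := hsurj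
    rw [show (p ⊗ₘ p).left = pullback.map (M ⊗ T).hom (M ⊗ T).hom G.hom G.hom p.left p.left (𝟙 _)
      (by simp) (by simp) from pullback.hom_ext (by simp) (by simp)]
    refine ⟨fun z => ?_⟩
    have := Scheme.Pullback.range_map (M ⊗ T).hom (M ⊗ T).hom G.hom G.hom p.left p.left (𝟙 _)
      (by simp) (by simp)
    rw [p.left.surjective.range_eq] at this
    exact this.ge ⟨trivial, trivial⟩
  haveI : Smooth (G ⊗ G).hom := inferInstanceAs (Smooth (pullback.fst G.hom G.hom ≫ G.hom))
  haveI : IsReduced (G ⊗ G).left := H19Chev.isReduced_smooth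
  have key : fst G G * snd G G = snd G G * fst G G := by
    refine Over.OverMorphism.ext ?_
    haveI : G.left.IsSeparated := ⟨by rw [← terminal.comp_from G.hom]; infer_instance⟩
    refine ext_of_isDominant (p ⊗ₘ p).left ?_
    rw [← Over.comp_left, ← Over.comp_left]
    refine congrArg Over.Hom.left ?_
    have hp : ∀ {W : Over (Spec (CommRingCat.of K))} (a : W ⟶ M ⊗ T), a ≫ p = (a ≫ fst M T ≫ m₀) * (a ≫ snd M T ≫ i) := by
      intro W a
      conv_lhs => rw [← lift_comp_fst_snd a]
      show lift (a ≫ fst M T) (a ≫ snd M T) ≫ (m₀ ⊗ₘ i) ≫ μ[G] = _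
      rw [lift_map_assoc, Hom.mul_def, Category.assoc, Category.assoc]
    simp only [MonObj.comp_mul, tensorHom_fst, tensorHom_snd, hp]
    generalize fst (M ⊗ T) (M ⊗ T) = a
    generalize snd (M ⊗ T) (M ⊗ T) = b
    simp only [← Category.assoc]
    set m := (a ≫ fst M T) ≫ m₀
    set m' := (b ≫ fst M T) ≫ m₀
    set t := (a ≫ snd M T) ≫ i
    set t' := (b ≫ snd M T) ≫ i
    have c : ∀ (u : _ ⟶ M) (g : (M ⊗ T) ⊗ (M ⊗ T) ⟶ G), (u ≫ m₀) * g = g * (u ≫ m₀) := fun u g =>
      H19Grp.AntiAffineGroup.central m₀ u g
    have htt : t * t' = t' * t := by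
      show (a ≫ snd M T) ≫ i * (b ≫ snd M T) ≫ i = (b ≫ snd M T) ≫ i * (a ≫ snd M T) ≫ i
      rw [← MonObj.mul_comp, hT, MonObj.mul_comp]
    calc m * t * (m' * t') = m * (t * m') * t' := by simp only [_root_.mul_assoc]
      _ = m * (m' * t) * t' := by rw [show t * m' = m' * t from (c _ t).symm]
      _ = (m * m') * (t * t') := by simp only [_root_.mul_assoc]
      _ = (m' * m) * (t' * t) := by rw [htt, show m * m' = m' * m from c _ m']
      _ = m' * (m * t') * t := by simp only [_root_.mul_assoc]
      _ = m' * (t' * m) * t := by rw [show m * t' = t' * m from c _ t']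
      _ = m' * t' * (m * t) := by simp only [_root_.mul_assoc]
  have h := congrArg (lift x y ≫ ·) key
  simpa only [MonObj.comp_mul, lift_fst, lift_snd] using h


/-- Let k be a field with algebraic closure K and G a smooth connected k-group scheme of finite type,
not assumed commutative, whose base change G_K has a torus as a subgroup with an abelian variety as
the quotient: there are a closed subgroup scheme T of G_K which is a torus and a flat surjective
homomorphism from G_K onto a proper smooth connected K-group scheme with kernel T. Then G is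
commutative. (The published result also asserts that G then has, over k itself, a unique torus
subgroup with abelian-variety quotient of this kind; only commutativity is stated here.) -/
theorem result (k : Type u) [Field k]
    (G : Over (Spec (CommRingCat.of k))) [GrpObj G] [Smooth G.hom] [QuasiCompact G.hom] [ConnectedSpace ↥G.left]
    (hK : (∃ (T : Over (Spec (CommRingCat.of (AlgebraicClosure k)))) (_ : GrpObj T) (i : T ⟶ Red.bc (Spec.map (CommRingCat.ofHom (algebraMap k (AlgebraicClosure k)))) G) (A : Over (Spec (CommRingCat.of (AlgebraicClosure k)))) (_ : GrpObj A) (q : Red.bc (Spec.map (CommRingCat.ofHom (algebraMap k (AlgebraicClosure k)))) G ⟶ A),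
        IsMonHom i ∧ IsClosedImmersion i.left ∧ Red.IsTorus T ∧ IsMonHom q ∧ Surjective q.left ∧ Flat q.left ∧
        AlgGrp.IsKernel i q ∧ IsProper A.hom ∧ Smooth A.hom ∧ ConnectedSpace ↥A.left)) :
    IsCommMonObj G := by
  obtain ⟨T, gT, i, A, gA, q, hi, hic, hT, hq, hqs, hqf, hk, hAp, hAs, hAc⟩ := hK
  haveI := hi; haveI := hq; haveI := hqs; haveI := hqf; haveI := hAp
  let F := GeomTate.bc k (AlgebraicClosure k)
  let GK := F.obj G
  haveI : Smooth GK.hom := inferInstanceAs (Smooth (pullback.snd G.hom (GeomTate.σ k (AlgebraicClosure k))))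
  haveI : QuasiCompact GK.hom :=
    inferInstanceAs (QuasiCompact (pullback.snd G.hom (GeomTate.σ k (AlgebraicClosure k))))
  haveI : GeometricallyConnected G.hom :=
    H28NT.geometricallyConnected_of_section G.hom η[G].left (Over.w η[G])
  haveI : ConnectedSpace GK.left :=
    inferInstanceAs (ConnectedSpace ↥(pullback G.hom (GeomTate.σ k (AlgebraicClosure k))))
  have hkey : fst G G * snd G G = snd G G * fst G G := by
    apply H19Chev.map_bc_injective
    rw [Functor.map_mul, Functor.map_mul]
    exact comm_of_extension (K := AlgebraicClosure k) GK i (fun s t => H21Rank1.isTorus_comm hT s t) q hk _ _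
  refine ⟨?_⟩
  have h := congrArg ((β_ G G).hom ≫ ·) hkey
  have e1 : fst G G * snd G G = μ[G] := by rw [Hom.mul_def, lift_fst_snd, Category.id_comp]
  simp only [MonObj.comp_mul, braiding_hom_fst, braiding_hom_snd] at h
  rw [← e1, MonObj.comp_mul, braiding_hom_fst, braiding_hom_snd]
  exact hkey.symm

end Groth.Agent.S17451
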