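import Groth.Statements.S17454
import Groth.Agent.H19Chev.SmoothQuotient
import Groth.Agent.H21Quot.Basic

set_option autoImplicit false
set_option maxHeartbeats 1000000
set_option synthInstance.maxHeartbeats 100000
set_option linter.style.haveILetI false
set_option backward.isDefEq.respectTransparency false
universe u
open CategoryTheory MonoidalCategory CartesianMonoidalCategory MonObj GrpObj AlgebraicGeometry CategoryTheory.Limits
open AlgGrp

namespace Groth.Agent.S17454

open CategoryTheory.Limits
open Groth.Agent Groth.Agent.H19Quot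


/-- Let k be a perfect field and f : G' → G a surjective homomorphism of smooth connected k-group
schemes of finite type. Let N' → G' and N → G be Chevalley decompositions: normal closed subgroup
schemes which are smooth, connected and affine, kernels of flat surjective homomorphisms q' : G' →
A' and q : G → A onto proper smooth connected k-group schemes. Then f maps N' onto N: there is a
homomorphism g : N' → N, compatible with f and the two inclusions, whose underlying map is
surjective; and f induces a homomorphism A' → A compatible with q' and q whose underlying map is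
surjective. (The isogeny refinement of the published statement is not stated.) -/
theorem result (k : Type u) [Field k] [PerfectField k]
    (G' G : Over (Spec (CommRingCat.of k))) [GrpObj G'] [GrpObj G]
    [Smooth G'.hom] [QuasiCompact G'.hom] [ConnectedSpace ↥G'.left]
    [Smooth G.hom] [QuasiCompact G.hom] [ConnectedSpace ↥G.left]
    (f : G' ⟶ G) [IsMonHom f] [Surjective f.left]
    (N' : Over (Spec (CommRingCat.of k))) [GrpObj N'] (i' : N' ⟶ G') [IsMonHom i'] [IsClosedImmersion i'.left]
    [Smooth N'.hom] [ConnectedSpace ↥N'.left] [IsAffine N'.left] (hn' : AlgGrp.IsNormalHom i')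
    (A' : Over (Spec (CommRingCat.of k))) [GrpObj A'] (q' : G' ⟶ A') [IsMonHom q'] [Surjective q'.left] [Flat q'.left]
    [IsProper A'.hom] [Smooth A'.hom] [ConnectedSpace ↥A'.left] (hk' : AlgGrp.IsKernel i' q')
    (N : Over (Spec (CommRingCat.of k))) [GrpObj N] (i : N ⟶ G) [IsMonHom i] [IsClosedImmersion i.left]
    [Smooth N.hom] [ConnectedSpace ↥N.left] [IsAffine N.left] (hn : AlgGrp.IsNormalHom i)
    (A : Over (Spec (CommRingCat.of k))) [GrpObj A] (q : G ⟶ A) [IsMonHom q] [Surjective q.left] [Flat q.left]
    [IsProper A.hom] [Smooth A.hom] [ConnectedSpace ↥A.left] (hk : AlgGrp.IsKernel i q) :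
    (∃ g : N' ⟶ N, IsMonHom g ∧ g ≫ i = i' ≫ f ∧ Surjective g.left) ∧
      (∃ h : A' ⟶ A, IsMonHom h ∧ q' ≫ h = f ≫ q ∧ Surjective h.left) := by
  haveI : IsSeparated G.hom := H19Grp.AffineQuotient.isSeparated_of_grp G
  haveI : IsSeparated G'.hom := H19Grp.AffineQuotient.isSeparated_of_grp G'
  haveI : LocallyOfFinitePresentation q'.left :=
    (AbelianCat.props_hom q' ⟨inferInstance, inferInstance⟩ ⟨inferInstance, inferInstance⟩).2.2
  haveI : Mono i := Over.mono_of_mono_left _
  have hiq : i' ≫ f ≫ q = 1 := H19Chev.eq_one_of_affine_to_proper_field (i' ≫ f ≫ q)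
  -- descent to the abelian quotient
  have hdesc : ∀ {R : Over (Spec (CommRingCat.of k))} [GrpObj R] (φ : G' ⟶ R) [IsMonHom φ], i' ≫ φ = 1 →
      ∃ e : A' ⟶ R, q' ≫ e = φ := fun {R} _ φ _ h1 => (H19Grp.QuotientDesc.existsUnique_desc q' φ fun T x y hxy => by
    obtain ⟨z, hz⟩ := H19Grp.kernel_lift hk' (x / y) (by rw [GrpObj.div_comp, hxy, div_self'])
    have h2 : (x / y) ≫ φ = 1 := by rw [← hz, Category.assoc, h1, MonObj.comp_one]
    rwa [GrpObj.div_comp, div_eq_one] at h2).exists
  refine ⟨?_, ?_⟩
  · obtain ⟨g, hg⟩ := H19Grp.kernel_lift hk (i' ≫ f) (by rw [Category.assoc, hiq])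
    haveI : IsMonHom (g ≫ i) := by rw [hg]; infer_instance
    refine ⟨g, H19Chev.isMonHom_of_mono g i, hg, ?_⟩
    haveI : LocallyOfFiniteType N'.hom := inferInstance
    obtain ⟨C, gC, p, iC, hp, hiC, hpi, hpf, hps, hpp, hiCc⟩ :=
      AbelianCat.exists_image (i' ≫ f) ⟨inferInstance, inferInstance⟩ ⟨inferInstance, inferInstance⟩
    haveI := hp; haveI := hiC; haveI := hpf; haveI := hps; haveI := hpp; haveI := hiCc
    haveI : LocallyOfFiniteType C.hom := by rw [← Over.w iC]; infer_instance
    haveI : QuasiCompact C.hom := by rw [← Over.w iC]; infer_instance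
    obtain ⟨hCs, -⟩ := H19Chev.smooth_connected_quotient p
    haveI := hCs
    haveI : Smooth (G ⊗ C).hom := by show Smooth (pullback.fst G.hom C.hom ≫ G.hom); infer_instance
    haveI : IsReduced (G ⊗ C).left := H19Chev.isReduced_smooth
    have hnC : AlgGrp.IsNormalHom iC := by
      let c : G ⊗ C ⟶ G := fst G C * (snd G C ≫ iC) * (fst G C)⁻¹
      have hsub : Set.range c.left ⊆ Set.range iC.left := by
        haveI : Surjective p.left := hps
        haveI : Surjective (f ⊗ₘ p).left := H21Quot.surjective_tensorHom f p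
        obtain ⟨w, hw⟩ := hn' (G' ⊗ N') (fst G' N') (snd G' N')
        have e : (f ⊗ₘ p) ≫ c = (w ≫ p) ≫ iC := by
          rw [Category.assoc w p, hpi, ← Category.assoc w i', ← hw]
          simp only [c, MonObj.comp_mul, GrpObj.comp_inv, MonObj.mul_comp, GrpObj.inv_comp, tensorHom_fst,
            tensorHom_snd_assoc, Category.assoc, hpi]
        rintro _ ⟨x, rfl⟩
        obtain ⟨y, rfl⟩ := (f ⊗ₘ p).left.surjective x
        refine ⟨(w ≫ p).left y, ?_⟩
        rw [← Scheme.Hom.comp_apply, ← Scheme.Hom.comp_apply, ← Over.comp_left, ← Over.comp_left, e]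
      obtain ⟨y, hy⟩ := H17.exists_lift_of_range_subset c.left iC.left hsub
      let y' : G ⊗ C ⟶ C := Over.homMk y (by rw [← Over.w iC, ← Category.assoc, hy, Over.w c])
      have hy' : y' ≫ iC = c := Over.OverMorphism.ext hy
      intro T b x
      refine ⟨lift b x ≫ y', ?_⟩
      rw [Category.assoc, hy']
      simp only [c, MonObj.comp_mul, GrpObj.comp_inv, lift_fst, lift_snd_assoc]
    obtain ⟨R, gR, π, hπ, hRlft, hRqc, hπf, hπs, hπp, hkπ⟩ := H19Quot.exists_quotientGroup iC hnC
    haveI := hπ; haveI := hRlft; haveI := hRqc; haveI := hπf; haveI := hπs; haveI := hπp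
    obtain ⟨e, he⟩ := hdesc (f ≫ π) (by
      rw [← Category.assoc, ← hpi, Category.assoc, H19Grp.kernel_comp_eq_one hkπ, MonObj.comp_one])
    haveI : Surjective e.left := by
      haveI : Surjective (q'.left ≫ e.left) := by rw [← Over.comp_left, he, Over.comp_left]; infer_instance
      exact Surjective.of_comp q'.left e.left
    haveI : IsProper R.hom := by
      haveI : IsSeparated R.hom := H19Grp.AffineQuotient.isSeparated_of_grp R
      haveI : UniversallyClosed (e.left ≫ R.hom) := by rw [Over.w e]; infer_instance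
      haveI : UniversallyClosed R.hom := UniversallyClosed.of_comp_surjective e.left R.hom
      exact {}
    obtain ⟨a, ha⟩ := H19Grp.kernel_lift hkπ i (H19Chev.eq_one_of_affine_to_proper_field (i ≫ π))
    obtain ⟨b, hb⟩ := H19Grp.kernel_lift hk iC (H19Chev.cancel_quotient p (by
      rw [← Category.assoc, hpi, Category.assoc, hiq, MonObj.comp_one]))
    have hab : a ≫ b = 𝟙 N := by rw [← cancel_mono i, Category.assoc, hb, ha, Category.id_comp]
    haveI : Surjective b.left := ⟨fun x => ⟨a.left x, by
      rw [← Scheme.Hom.comp_apply, ← Over.comp_left, hab]; rfl⟩⟩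
    have hgb : g = p ≫ b := by rw [← cancel_mono i, hg, Category.assoc, hb, hpi]
    haveI : Surjective p.left := hps
    rw [hgb, Over.comp_left]
    infer_instance
  · obtain ⟨h, hh⟩ := hdesc (f ≫ q) (by rw [hiq])
    refine ⟨h, ⟨?_, ?_⟩, hh, ?_⟩
    · rw [← IsMonHom.one_hom q', Category.assoc, hh, IsMonHom.one_hom (f ≫ q)]
    · haveI := H21Quot.flat_tensorHom q' q'
      haveI := H21Quot.surjective_tensorHom q' q'
      haveI := H21Quot.lfp_tensorHom q' q'
      refine H19Chev.cancel_quotient (q' ⊗ₘ q') ?_
      rw [← Category.assoc, ← IsMonHom.mul_hom q', Category.assoc, hh, ← Category.assoc (q' ⊗ₘ q'),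
        tensorHom_comp_tensorHom, hh, IsMonHom.mul_hom (f ≫ q)]
    · haveI : Surjective (q'.left ≫ h.left) := by rw [← Over.comp_left, hh, Over.comp_left]; infer_instance
      exact Surjective.of_comp q'.left h.left

end Groth.Agent.S17454
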