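import Groth.Statements.S17455
import Groth.Agent.H19AbSch.TorusHom
import Groth.Agent.H19Grp.AbSchemeRigid

set_option autoImplicit false
set_option maxHeartbeats 1000000
set_option synthInstance.maxHeartbeats 100000
set_option linter.style.haveILetI false
set_option backward.isDefEq.respectTransparency false
universe u
open CategoryTheory MonoidalCategory CartesianMonoidalCategory MonObj GrpObj AlgebraicGeometry CategoryTheory.Limits
open AlgGrp

namespace Groth.Agent.S17455

open Limits in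
/-- A homomorphism from a torus to a proper smooth connected group over a field is trivial. -/
theorem comp_eq_one {k : Type u} [Field k] {T G A : Over (Spec (CommRingCat.of k))} [GrpObj T] [GrpObj G]
    [GrpObj A] (hT : Red.IsTorus T) (f : T ⟶ G) [IsMonHom f] (q : G ⟶ A) [IsMonHom q]
    [IsProper A.hom] [Smooth A.hom] [ConnectedSpace ↥A.left] : f ≫ q = 1 := by
  haveI : GeometricallyConnected A.hom :=
    Groth.Agent.H28NT.geometricallyConnected_of_section A.hom (MonObj.one (X := A)).left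
      (Over.w (MonObj.one (X := A)))
  haveI : GeometricallyIntegral A.hom := Groth.Agent.H25AbCube.geometricallyIntegral_of_smooth A
  haveI : IsCommMonObj A := Groth.Agent.H19Grp.isCommMonObj_of_proper
  obtain ⟨S', v, hv, hvs, -, hloc⟩ := hT
  exact Groth.Agent.H19AbSch.TorusHom.eq_one (f ≫ q) v hloc


/-- Let k be a field and G a k-group scheme of finite type. If i₁ : T₁ → G and i₂ : T₂ → G are
homomorphisms and closed immersions from tori, and each is the kernel of a flat surjective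
homomorphism from G onto a proper smooth connected k-group scheme, then the two subgroups coincide:
there is an isomorphism e : T₁ ≅ T₂ with e ≫ i₂ = i₁. (So the structure of extension of an abelian
variety by a torus on G, when it exists, is unique.) -/
theorem result (k : Type u) [Field k]
    (G : Over (Spec (CommRingCat.of k))) [GrpObj G] [LocallyOfFiniteType G.hom] [QuasiCompact G.hom]
    (T₁ T₂ A₁ A₂ : Over (Spec (CommRingCat.of k))) [GrpObj T₁] [GrpObj T₂] [GrpObj A₁] [GrpObj A₂]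
    (i₁ : T₁ ⟶ G) [IsMonHom i₁] [IsClosedImmersion i₁.left] (h₁ : Red.IsTorus T₁)
    (i₂ : T₂ ⟶ G) [IsMonHom i₂] [IsClosedImmersion i₂.left] (h₂ : Red.IsTorus T₂)
    (q₁ : G ⟶ A₁) [IsMonHom q₁] [Surjective q₁.left] [Flat q₁.left] (hk₁ : AlgGrp.IsKernel i₁ q₁)
    [IsProper A₁.hom] [Smooth A₁.hom] [ConnectedSpace ↥A₁.left]
    (q₂ : G ⟶ A₂) [IsMonHom q₂] [Surjective q₂.left] [Flat q₂.left] (hk₂ : AlgGrp.IsKernel i₂ q₂)
    [IsProper A₂.hom] [Smooth A₂.hom] [ConnectedSpace ↥A₂.left] :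
    ∃ e : T₁ ≅ T₂, e.hom ≫ i₂ = i₁ := by
  have f₁ : i₁ ≫ q₂ = toUnit T₁ ≫ η[A₂] := comp_eq_one h₁ i₁ q₂
  have f₂ : i₂ ≫ q₁ = toUnit T₂ ≫ η[A₁] := comp_eq_one h₂ i₂ q₁
  haveI : Mono i₁ := (Over.forget _).mono_of_mono_map (inferInstanceAs (Mono i₁.left))
  haveI : Mono i₂ := (Over.forget _).mono_of_mono_map (inferInstanceAs (Mono i₂.left))
  obtain ⟨a, ha⟩ : ∃ a : T₁ ⟶ T₂, a ≫ i₂ = i₁ := ⟨hk₂.lift i₁ (toUnit T₁) f₁, hk₂.lift_fst _ _ _⟩
  obtain ⟨b, hb⟩ : ∃ b : T₂ ⟶ T₁, b ≫ i₁ = i₂ := ⟨hk₁.lift i₂ (toUnit T₂) f₂, hk₁.lift_fst _ _ _⟩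
  exact ⟨⟨a, b, by rw [← cancel_mono i₁, Category.assoc, hb, ha, Category.id_comp],
    by rw [← cancel_mono i₂, Category.assoc, ha, hb, Category.id_comp]⟩, ha⟩

end Groth.Agent.S17455
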