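import Groth.Statements.S17459
import Groth.Agent.H28Neron.HomQuasiFinite
import Groth.Agent.H25Grp.Isogeny


set_option autoImplicit false
universe u
open CategoryTheory CategoryTheory.Limits AlgebraicGeometry MonObj
open SGA7

namespace Groth.Agent.S17459

/-- Let R be a discrete valuation ring with fraction field K, let N and N' be group schemes over Spec R
which are Néron models of their generic fibres A = N_K and B = N'_K, abelian varieties (proper and
geometrically integral) of the same dimension, and let u : N → N' be a homomorphism (the extension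
of u_K : A → B). If the homomorphism induced by u on the special fibres is locally quasi-finite — as
it is when it restricts to an isogeny between the identity components, the printed hypothesis, which
also forces dim A = dim B — then u_K is an isogeny: its underlying map is surjective and its kernel
is finite. -/
theorem result (R K : Type u) [CommRing R] [IsDomain R]
    [IsDiscreteValuationRing R] [Field K] [Algebra R K] [IsFractionRing R K]
    (N N' : Over (Spec (CommRingCat.of R))) [GrpObj N] [GrpObj N']
    (hN : SGA7.IsNeron R K N) (hN' : SGA7.IsNeron R K N')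
    [IsProper ((SGA7.genFib R K).obj N).hom] [GeometricallyIntegral ((SGA7.genFib R K).obj N).hom]
    [IsProper ((SGA7.genFib R K).obj N').hom] [GeometricallyIntegral ((SGA7.genFib R K).obj N').hom]
    (hdim : topologicalKrullDim ↥((SGA7.genFib R K).obj N).left = topologicalKrullDim ↥((SGA7.genFib R K).obj N').left)
    (u : N ⟶ N') [IsMonHom u]
    [LocallyQuasiFinite (SGA7.fibreHom (IsLocalRing.closedPoint R) u).left] :
    SGA7.IsIsogenyOver ((SGA7.genFib R K).map u) := by
  obtain ⟨_, _, _, -⟩ := hN
  obtain ⟨_, _, _, -⟩ := hN'
  haveI : LocallyOfFiniteType (u.left ≫ N'.hom) := by rw [Over.w u]; infer_instance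
  haveI : LocallyOfFiniteType u.left := locallyOfFiniteType_of_comp u.left N'.hom
  let c : Spec (CommRingCat.of R) := IsLocalRing.closedPoint R
  let j := (Spec (CommRingCat.of R)).fromSpecResidueField c
  let v := (SGA7.fibreHom c u).left
  let p := pullback.fst N.hom j
  let p' := pullback.fst N'.hom j
  haveI : LocallyQuasiFinite v := ‹_›
  haveI : IsPreimmersion p' := inferInstanceAs (IsPreimmersion (N'.hom.fiberι c))
  haveI : IsPreimmersion p := inferInstanceAs (IsPreimmersion (N.hom.fiberι c))
  have hsq : v ≫ p' = p ≫ u.left := pullback.lift_fst _ _ _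
  haveI : LocallyQuasiFinite (p ≫ u.left) := by rw [← hsq]; infer_instance
  -- the quasi-finite locus contains the special fibre
  have hspec : ∀ x : N.left, N.hom x = c → u.left.QuasiFiniteAt x := by
    intro x hx
    refine H28Neron.HomQuasiFinite.quasiFiniteAt_of_isDiscrete u.left x ?_
    have heq : u.left ⁻¹' {u.left x} = p '' ((p ≫ u.left) ⁻¹' {u.left x}) := by
      rw [Scheme.Hom.comp_base, TopCat.coe_comp, Set.preimage_comp, Set.image_preimage_eq_inter_range,
        Set.inter_eq_left.2]
      intro y hy
      rw [Scheme.Pullback.range_fst, Scheme.range_fromSpecResidueField]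
      show N.hom y = c
      have hN' : ∀ z, N.hom z = N'.hom (u.left z) := fun z => by
        rw [← Scheme.Hom.comp_apply, Over.w u]
      rw [hN', show u.left y = u.left x from hy, ← hN', hx]
    rw [heq]
    exact ((p ≫ u.left).isDiscrete_preimage_singleton _).image p.isEmbedding.isInducing
  -- hence the unit of the generic fibre
  let φ := Spec.map (CommRingCat.ofHom (algebraMap R K))
  let e := η[N].left (φ (IsLocalRing.closedPoint K))
  have hge : e ∈ u.left.quasiFiniteLocus := by
    have hsp : e ⤳ η[N].left c :=
      (IsLocalRing.specializes_closedPoint _).map η[N].left.continuous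
    refine hsp.mem_open u.left.quasiFiniteLocus.isOpen (hspec _ ?_)
    rw [← Scheme.Hom.comp_apply, Over.w η[N]]
    rfl
  let f := (SGA7.genFib R K).map u
  have hp : IsPullback f.left (pullback.fst N.hom φ) (pullback.fst N'.hom φ) u.left := by
    refine (IsPullback.of_bot (v₂₁ := pullback.snd N'.hom φ) (v₂₂ := N'.hom) (h₃₁ := φ) ?_ ?_
      (IsPullback.of_hasPullback N'.hom φ)).flip
    · rw [show f.left ≫ pullback.snd N'.hom φ = pullback.snd N.hom φ from Over.w f, Over.w u]
      exact IsPullback.of_hasPullback N.hom φ
    · exact (pullback.lift_fst _ _ _).symm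
  haveI : IsMonHom f := inferInstanceAs (IsMonHom ((Over.pullback φ).map u))
  haveI : IsFinite f.left := by
    refine H28Neron.HomQuasiFinite.isFinite_of_quasiFiniteAt f ?_
    intro _
    refine H28Neron.HomQuasiFinite.quasiFiniteAt_of_isPullback hp _ ?_
    refine Eq.mpr (congrArg u.left.QuasiFiniteAt ?_) hge
    exact ((Scheme.Hom.comp_apply _ _ _).symm.trans (congrArg (fun ψ => ψ.base (IsLocalRing.closedPoint K))
      (H28Neron.HomQuasiFinite.η_left_fst φ N))).trans (Scheme.Hom.comp_apply φ η[N].left _)
  haveI : IsIntegral ((SGA7.genFib R K).obj N).left :=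
    GeometricallyIntegral.isIntegral_of_subsingleton ((SGA7.genFib R K).obj N).hom
  haveI : IsIntegral ((SGA7.genFib R K).obj N').left :=
    GeometricallyIntegral.isIntegral_of_subsingleton ((SGA7.genFib R K).obj N').hom
  refine ⟨H25Grp.surjective_of_finite ((SGA7.genFib R K).obj N).hom ((SGA7.genFib R K).obj N').hom f.left hdim,
    fun M i hM => ?_⟩
  have h2 : IsFinite (CartesianMonoidalCategory.toUnit M).left := MorphismProperty.of_isPullback (P := @IsFinite)
    (hM.map (Over.forget (Spec (CommRingCat.of K)))) (inferInstanceAs (IsFinite f.left))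
  rw [show M.hom = (CartesianMonoidalCategory.toUnit M).left from
    ((Over.w (CartesianMonoidalCategory.toUnit M)).symm.trans (Category.comp_id _))]
  exact h2

end Groth.Agent.S17459
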