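import Groth.Statements.S17460
import Groth.Agent.H28SemiAb.Reducible
import Groth.Agent.H28SemiAb.NeronModel
import Groth.Agent.H28Neron.ComponentTorsion

set_option autoImplicit false
set_option linter.style.haveILetI false
set_option backward.isDefEq.respectTransparency false
set_option backward.isDefEq.respectTransparency.types false
set_option maxHeartbeats 1600000
set_option synthInstance.maxHeartbeats 200000
attribute [local instance] CategoryTheory.Functor.grpObjObj
universe u
open CategoryTheory CategoryTheory.Limits AlgebraicGeometry MonObj MonoidalCategory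
open SGA7

attribute [local instance 2000] CategoryTheory.Hom.group CategoryTheory.Hom.monoid

namespace Groth.Agent.S17460

/-- Let R be a discrete valuation ring with fraction field K and let N and N' be group schemes over Spec
R which are Néron models of their generic fibres A = N_K and B = N'_K, abelian varieties (proper and
geometrically integral), both with semistable reduction: the geometric fibres of N and of N' contain
no copy of the additive group. Let u : N → N' be a homomorphism (equivalently a homomorphism A → B,
by the Néron property). If u is constant on the connected component of the unit in the special fibre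
of N (any two of its points have the same image; equivalently, since u is a homomorphism, they all
go to the unit point of the special fibre of N'), then u is the trivial homomorphism. (Since the
special fibre is reduced this says that the restriction map Hom_K(A, B) → Hom_k(N_k^0, N'_k^0) is
injective; without semistability it fails, e.g. for multiplication by p on an elliptic curve with
additive reduction in residue characteristic p.) -/
theorem result (R K : Type u) [CommRing R] [IsDomain R]
    [IsDiscreteValuationRing R] [Field K] [Algebra R K] [IsFractionRing R K]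
    (N N' : Over (Spec (CommRingCat.of R))) [GrpObj N] [GrpObj N']
    (hN : SGA7.IsNeron R K N) (hN' : SGA7.IsNeron R K N')
    [IsProper ((SGA7.genFib R K).obj N).hom] [GeometricallyIntegral ((SGA7.genFib R K).obj N).hom]
    [IsProper ((SGA7.genFib R K).obj N').hom] [GeometricallyIntegral ((SGA7.genFib R K).obj N').hom]
    (hss : SGA7.FibresUnipotentRankZero N) (hss' : SGA7.FibresUnipotentRankZero N')
    (u : N ⟶ N') [IsMonHom u]
    (hu : ∀ x ∈ SGA7.secComp R N η[N], ∀ y ∈ SGA7.secComp R N η[N], u.left.base x = u.left.base y) :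
    u = 1 := by
  obtain ⟨hsm, hsep, hqc, hbij⟩ := hN
  obtain ⟨hsm', hsep', hqc', hbij'⟩ := hN'
  haveI := hsm; haveI := hsep; haveI := hqc; haveI := hsm'; haveI := hsep'; haveI := hqc'
  let F := SGA7.genFib R K
  haveI : IsCommMonObj (F.obj N) := isCommMonObj_of_isProper_of_geometricallyIntegral (F.obj N)
  haveI : IsCommMonObj (F.obj N') := isCommMonObj_of_isProper_of_geometricallyIntegral (F.obj N')
  haveI : IsCommMonObj N := Groth.Agent.H28Neron.ComponentTorsion.isCommMonObj_of_genericFibre R K N ‹_›
  haveI : IsCommMonObj N' := Groth.Agent.H28Neron.ComponentTorsion.isCommMonObj_of_genericFibre R K N' ‹_›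
  haveI : IsMonHom (F.map u) := inferInstance
  obtain ⟨vK, M, hM, hvm, hquasi⟩ := Groth.Agent.H28SemiAb.exists_quasi_inverse (F.obj N) (F.obj N') (F.map u)
  haveI := hvm
  obtain ⟨v, hv⟩ := (hbij N' hsm').2 vK
  simp only at hv
  haveI : IsMonHom ((Over.pullback (Spec.map (CommRingCat.ofHom (algebraMap R K)))).map v) := hv ▸ hvm
  haveI : IsMonHom v := Groth.Agent.H28SemiAb.isMonHom_of_map _ (fun Y hY => (hbij Y hY).1) v
  haveI := Groth.Agent.H28SemiAb.isMonHom_pow' (G := N) M
  let f : N ⟶ N := (𝟙 N) ^ M * (u ≫ v)⁻¹
  haveI : IsMonHom f := WittGrp.isMonHom_of_comp_mul _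
    (by simp only [f, MonObj.comp_mul, MonObj.one_comp, GrpObj.comp_inv, inv_one, _root_.mul_one])
    fun T x y => by
      simp only [f, MonObj.comp_mul, GrpObj.comp_inv, MonObj.mul_comp, mul_inv]
      exact mul_mul_mul_comm _ _ _ _
  -- quasi-finiteness at the closed point
  let S := Spec (CommRingCat.of R)
  let c : S := IsLocalRing.closedPoint R
  haveI : LocallyOfFinitePresentation f.left := Groth.Agent.H19Grp.locallyOfFinitePresentation_left f
  let Ω := AlgebraicClosure (S.residueField c)
  let g : Spec (CommRingCat.of Ω) ⟶ S := Red.geomPt c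
  let P := Over.pullback g
  let A := P.obj N
  haveI : Smooth A.hom := inferInstanceAs (Smooth (pullback.snd N.hom g))
  haveI : QuasiCompact A.hom := inferInstanceAs (QuasiCompact (pullback.snd N.hom g))
  haveI : IsSeparated (P.obj N').hom := inferInstanceAs (IsSeparated (pullback.snd N'.hom g))
  haveI : LocallyOfFiniteType (P.obj N').hom := inferInstanceAs (LocallyOfFiniteType (pullback.snd N'.hom g))
  have hA : Groth.Agent.H28SemiAb.NoGa A := fun j hj hjc => hss c j hj hjc
  obtain ⟨L, gL, il, hil, hilc, hilo, hLn, hLs, hLq, h1⟩ := Groth.Agent.H19Chev.exists_smooth_idComp A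
  haveI := hil; haveI := hilc; haveI := hilo; haveI := hLn; haveI := hLs; haveI := hLq
  haveI : Mono il := Over.mono_of_mono_left _
  haveI : IsCommMonObj L := Groth.Agent.H28SemiAb.isCommMonObj_of_mono il
  haveI : IsReduced L.left := Groth.Agent.H19Chev.isReduced_smooth
  haveI : IsMonHom (P.map u) := inferInstance
  let e0 : N.left := η[N].left c
  have hgc : ∀ z, g z = c := fun z => by
    show ((Spec.map _ ≫ _ : Spec (CommRingCat.of Ω) ⟶ S)) z = c
    rw [Scheme.Hom.comp_apply]
    exact Scheme.fromSpecResidueField_apply c _
  have hkill : il ≫ P.map u = 1 := by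
    refine Groth.Agent.H25AbCube.ext_of_points _ _ fun a => Over.OverMorphism.ext (pullback.hom_ext ?_ ?_)
    · let q : Spec (CommRingCat.of Ω) ⟶ N'.left := (a ≫ il ≫ P.map u).left ≫ pullback.fst N'.hom g
      have hproj : (P.map u).left ≫ pullback.fst N'.hom g = pullback.fst N.hom g ≫ u.left := pullback.lift_fst _ _ _
      have hη : (1 : Over.mk (𝟙 (Spec (CommRingCat.of Ω))) ⟶ P.obj N').left ≫ pullback.fst N'.hom g = g ≫ η[N'].left := by
        rw [Hom.one_def, Over.comp_left, Category.assoc, Groth.Agent.H28Neron.HomQuasiFinite.η_left_fst g N',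
          ← Category.assoc]
        congr 1
      rw [MonObj.comp_one, hη]
      show q = g ≫ η[N'].left
      haveI : IsReduced (Spec (CommRingCat.of Ω)) := inferInstance
      haveI : IsClosedImmersion η[N'].left := by
        haveI : IsClosedImmersion (η[N'].left ≫ N'.hom) := by rw [Over.w]; exact inferInstanceAs (IsClosedImmersion (𝟙 _))
        exact IsClosedImmersion.of_comp _ N'.hom
      have hsub : ∀ z : L.left, pullback.fst N.hom g (il.left z) ∈ SGA7.secComp R N η[N] := by
        have hpre : _root_.IsPreconnected (Set.range fun z : L.left => pullback.fst N.hom g (il.left z)) :=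
          isPreconnected_range ((pullback.fst N.hom g).continuous.comp il.left.continuous)
        have hsp : (Set.range fun z : L.left => pullback.fst N.hom g (il.left z)) ⊆ SGA7.specialFibreSet R N := by
          rintro _ ⟨z, rfl⟩
          show N.hom (pullback.fst N.hom g (il.left z)) = c
          rw [← Scheme.Hom.comp_apply, pullback.condition, Scheme.Hom.comp_apply]
          exact hgc _
        obtain ⟨z0, hz0⟩ := h1
        have he0 : pullback.fst N.hom g (il.left z0) = e0 := by
          rw [hz0]
          show pullback.fst N.hom g ((1 : 𝟙_ (Over (Spec (CommRingCat.of Ω))) ⟶ P.obj N).left _) = _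
          rw [← MonObj.one_eq_one]
          refine (congrArg (fun ψ => ψ.base (IsLocalRing.closedPoint Ω))
            (Groth.Agent.H28Neron.HomQuasiFinite.η_left_fst g N)).trans ?_
          show η[N].left (g _) = η[N].left c
          rw [hgc]
        intro z
        exact hpre.subset_connectedComponentIn ⟨z0, he0⟩ hsp ⟨z, rfl⟩
      obtain ⟨w, hw⟩ := Groth.Agent.H17.exists_lift_of_range_subset q η[N'].left (by
        rintro _ ⟨z, rfl⟩
        refine ⟨c, ?_⟩
        have he : η[N'].left c = u.left e0 := by
          show _ = u.left (η[N].left c)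
          rw [← Scheme.Hom.comp_apply, ← Over.comp_left, IsMonHom.one_hom u]
        rw [he]
        have h3 := hu _ (mem_connectedComponentIn (show e0 ∈ SGA7.specialFibreSet R N from
          Groth.Agent.H19Grp.hom_one_apply N c)) _ (hsub (a.left z))
        refine h3.trans ?_
        rw [← Scheme.Hom.comp_apply, ← hproj]
        rfl)
      have hw2 : w = q ≫ N'.hom := by
        rw [← hw, Category.assoc, Over.w η[N']]
        exact (Category.comp_id _).symm
      have hq2 : q ≫ N'.hom = g := by
        show (_ ≫ pullback.fst N'.hom g) ≫ N'.hom = g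
        rw [Category.assoc, pullback.condition, ← Category.assoc]
        have := Over.w (a ≫ il ≫ P.map u)
        exact (congrArg (· ≫ g) this).trans (Category.id_comp g)
      rw [← hw, hw2, hq2]
    · exact (Over.w (a ≫ il ≫ P.map u)).trans (Over.w _).symm
  have hmap : P.map f = ((𝟙 A) ^ M : A ⟶ A) * (P.map u ≫ P.map v)⁻¹ := by
    have h1 := map_mul (Functor.homMonoidHom P) ((𝟙 N) ^ M) ((u ≫ v)⁻¹)
    have h2 := map_inv (Functor.homMonoidHom P) (u ≫ v)
    have h3 := map_pow (Functor.homMonoidHom P) (𝟙 N) M
    simp only [Functor.homMonoidHom_apply] at h1 h2 h3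
    rw [h1, h2, h3, P.map_id, P.map_comp]
  haveI : LocallyOfFiniteType (P.map f).left :=
    MorphismProperty.of_isPullback (P := @LocallyOfFiniteType) (Groth.Agent.H19Grp.isPullback_map g f) inferInstance
  haveI : IsMonHom (P.map f) := inferInstance
  have hilf : il ≫ P.map f = ((𝟙 L) ^ M : L ⟶ L) ≫ il := by
    rw [hmap, MonObj.comp_mul, GrpObj.comp_inv, ← Category.assoc il, hkill, MonObj.one_comp, inv_one,
      _root_.mul_one, MonObj.comp_pow, Category.comp_id, Groth.Agent.H19Chev.id_pow_comp,
      Groth.Agent.H19Chev.comp_id_pow]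
  haveI := Groth.Agent.H28SemiAb.isFinite_pow L (hA.of_closed il) hM
  haveI : LocallyQuasiFinite (P.map f).left := by
    refine Groth.Agent.H28Neron.HomQuasiFinite.quasiFiniteAt_all_of_isAlgClosed (P.map f) ?_
    haveI : LocallyQuasiFinite (il.left ≫ (P.map f).left) := by
      rw [← Over.comp_left, hilf, Over.comp_left]; infer_instance
    have h4 := Scheme.Hom.quasiFiniteAt (il.left ≫ (P.map f).left) (η[L].left (IsLocalRing.closedPoint Ω))
    rw [Scheme.Hom.quasiFiniteAt_comp_iff_of_isOpenImmersion] at h4
    rw [← Groth.Agent.H28Neron.SpecialFibreImage.map_unit il]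
    exact h4
  -- spreading to the generic fibre
  obtain ⟨hQo, hQe⟩ := Groth.Agent.H19Grp.isOpen_quasiFinite_and_eq f (fun y =>
    MorphismProperty.pullback_snd (P := @LocallyOfFiniteType) _ _ inferInstance)
  have hcQ : c ∈ {y : S | LocallyQuasiFinite ((Over.pullback (S.fromSpecResidueField y)).map f).left} := by
    have h1 : e0 ∈ {x : N.left | Groth.Agent.H19Grp.OnNhd @LocallyQuasiFinite f.left x} := by
      obtain ⟨z, hz⟩ : e0 ∈ Set.range (pullback.fst N.hom g) := by
        rw [Scheme.Pullback.range_fst]
        exact ⟨IsLocalRing.closedPoint _, (hgc _).trans (Groth.Agent.H19Grp.hom_one_apply N c).symm⟩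
      have h2 : f.left.QuasiFiniteAt e0 := hz ▸ Groth.Agent.H19Grp.quasiFiniteAt_desc
        (Groth.Agent.H19Grp.isPullback_map g f) ((P.map f).left.quasiFiniteAt z)
      obtain ⟨U, hU, -, hUq⟩ := Groth.Agent.H19Grp.qfPt_of_quasiFiniteAt f.left _ h2
      exact ⟨U, hU, hUq⟩
    rw [hQe] at h1
    have h3 : N.hom e0 ∈ {y : S | LocallyQuasiFinite ((Over.pullback (S.fromSpecResidueField y)).map f).left} := h1
    rwa [show N.hom e0 = c from Groth.Agent.H19Grp.hom_one_apply N c] at h3
  haveI : LocallyQuasiFinite f.left := Groth.Agent.H19Grp.of_forall_onNhd @LocallyQuasiFinite _ fun x =>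
    hQe.ge ((IsLocalRing.specializes_closedPoint (R := R) (N.hom x)).mem_open hQo hcQ)
  haveI : LocallyQuasiFinite (F.map f).left :=
    MorphismProperty.of_isPullback (P := @LocallyQuasiFinite)
      (Groth.Agent.H19Grp.isPullback_map (Spec.map (CommRingCat.ofHom (algebraMap R K))) f) inferInstance
  -- the generic fibre
  haveI := Groth.Agent.H28SemiAb.smooth_av (F.obj N)
  haveI : IsFinite (F.map f).left := Groth.Agent.H28SemiAb.isFinite_of_lqf' (F.map f)
  haveI : IsIntegral (F.obj N).left := GeometricallyIntegral.isIntegral_of_subsingleton (F.obj N).hom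
  haveI : Surjective (F.map f).left :=
    Groth.Agent.H25Grp.surjective_of_finite (F.obj N).hom (F.obj N).hom (F.map f).left rfl
  haveI : Flat (F.map f).left := Groth.Agent.H19Grp.flat_of_surjective (F.map f)
  haveI : LocallyOfFinitePresentation (F.map f).left := Groth.Agent.H19Grp.locallyOfFinitePresentation_left (F.map f)
  let E := F.map u ≫ F.map v
  have hfE : F.map f = ((𝟙 (F.obj N)) ^ M : F.obj N ⟶ F.obj N) * E⁻¹ := by
    have h1 := map_mul (Functor.homMonoidHom F) ((𝟙 N) ^ M) ((u ≫ v)⁻¹)
    have h2 := map_inv (Functor.homMonoidHom F) (u ≫ v)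
    have h3 := map_pow (Functor.homMonoidHom F) (𝟙 N) M
    simp only [Functor.homMonoidHom_apply] at h1 h2 h3
    rw [h1, h2, h3, F.map_id, F.map_comp]
  have hEu : E ≫ F.map u = F.map u ^ M := by
    simp only [E]; rw [show F.map v = vK from hv]; exact hquasi
  have hE : E = 1 := by
    refine Groth.Agent.H19Chev.cancel_quotient (F.map f) ?_
    have hEE : E ≫ E = E ^ M := by
      conv_lhs => rw [show E ≫ E = (E ≫ F.map u) ≫ F.map v from (Category.assoc _ _ _).symm]
      rw [hEu, MonObj.pow_comp]
    rw [MonObj.comp_one, hfE, MonObj.mul_comp, GrpObj.inv_comp, MonObj.pow_comp, Category.id_comp, hEE,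
      mul_inv_cancel]
  have hu0 : F.map u = 1 := by
    refine Groth.Agent.H19Chev.cancel_quotient (F.map f) ?_
    rw [MonObj.comp_one, hfE, hE, inv_one, _root_.mul_one, MonObj.pow_comp, Category.id_comp, ← hEu, hE,
      MonObj.one_comp]
  refine (hbij' N hsm).1 ?_
  simp only [Functor.map_one]
  exact hu0

end Groth.Agent.S17460
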