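import Groth.Statements.S17464
import Groth.Agent.H21Dyn.Scheme
import Groth.Agent.H19Grp.AffineLineLaw
import Groth.Agent.H21Rank1.GaProps
import Groth.Agent.H21Quot.Basic
import Groth.Agent.H19Grp.QuotientDesc
import Groth.Agent.H19Chev.SmoothQuotient

set_option autoImplicit false
set_option maxHeartbeats 1000000
set_option synthInstance.maxHeartbeats 100000
set_option linter.style.haveILetI false
set_option backward.isDefEq.respectTransparency true
universe u
open CategoryTheory MonoidalCategory CartesianMonoidalCategory MonObj GrpObj AlgebraicGeometry CategoryTheory.Limits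
open AlgGrp

namespace Groth.Agent.S17464

open Groth.Agent Groth.Agent.H19Quot Groth.Agent.H19Grp.AffineLineLaw


variable {κ : Type u} [Field κ] [IsAlgClosed κ]

/-- Homomorphisms from the additive group to a torus are trivial. -/
theorem ga_to_torus (S : Over (Spec (CommRingCat.of κ))) [GrpObj S] (hS : Red.IsTorus S)
    (h : Red.Ga (Spec (CommRingCat.of κ)) ⟶ S) [IsMonHom h] : h = 1 := by
  obtain ⟨n, e, he⟩ := H21Dyn.exists_split_algClosed S hS
  haveI := he
  let A := Red.Ga (Spec (CommRingCat.of κ))
  haveI : IsAffine A.left := by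
    haveI : IsAffine (Red.GaZ.{u}).left := inferInstanceAs (IsAffine (Spec _))
    dsimp [A, Red.Ga, Red.bc]; infer_instance
  obtain ⟨R, _, _, ⟨eR⟩⟩ := exists_T_iso A
  let w : A ⟶ T κ (Polynomial κ) := eR.inv ≫ Tmap (Polynomial.aeval (val eR.hom))
  let p : T κ (Polynomial κ) ⟶ A := pt Polynomial.X
  have hwp : w ≫ p = 𝟙 A := by
    rw [← cancel_epi eR.hom]
    simp only [w, Category.assoc, Iso.hom_inv_id_assoc, Category.comp_id]
    apply val_injective
    rw [val_comp, val_pt, Polynomial.aeval_X]
  let L := H21Dyn.Lat κ n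
  let v : T κ (Polynomial κ) ⟶ T κ L := p ≫ h ≫ e.inv
  let ψ₀ : L →+* Polynomial κ := (Spec.preimage v.left).hom
  have hψ : ∀ a : κ, ψ₀ (algebraMap κ L a) = algebraMap κ (Polynomial κ) a := fun a => by
    have h1 : CommRingCat.ofHom (algebraMap κ L) ≫ Spec.preimage v.left =
        CommRingCat.ofHom (algebraMap κ (Polynomial κ)) := Spec.map_injective (by
      rw [Spec.map_comp, Spec.map_preimage]; exact Over.w v)
    exact congrArg (fun f : CommRingCat.of κ ⟶ CommRingCat.of (Polynomial κ) => f.hom a) h1
  let ψ : L →ₐ[κ] Polynomial κ := { ψ₀ with commutes' := hψ }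
  let ev : Polynomial κ →ₐ[κ] κ := Polynomial.aeval 0
  have hconst : ψ = (Algebra.ofId κ (Polynomial κ)).comp (ev.comp ψ) := by
    refine MonoidAlgebra.algHom_ext (fun m => ?_) (Subsingleton.elim _ _)
    have hu : IsUnit (ψ (MonoidAlgebra.single m 1)) :=
      ((Group.isUnit m).map (MonoidAlgebra.of κ (Multiplicative (Fin n → ℤ)))).map ψ
    obtain ⟨r, -, hr⟩ := Polynomial.isUnit_iff.1 hu
    show ψ _ = Polynomial.C (ev (ψ _))
    rw [← hr]
    simp [ev]
  have hv : v = Tmap (Algebra.ofId κ (Polynomial κ)) ≫ Tmap (ev.comp ψ) := by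
    refine Over.OverMorphism.ext ?_
    show v.left = Spec.map (CommRingCat.ofHom (Algebra.ofId κ (Polynomial κ)).toRingHom) ≫
      Spec.map (CommRingCat.ofHom (ev.comp ψ).toRingHom)
    rw [← Spec.map_comp, ← CommRingCat.ofHom_comp,
      show (Algebra.ofId κ (Polynomial κ)).toRingHom.comp (ev.comp ψ).toRingHom = ψ.toRingHom from
        congrArg AlgHom.toRingHom hconst.symm]
    exact (Spec.map_preimage v.left).symm
  let u0 : 𝟙_ (Over (Spec (CommRingCat.of κ))) ⟶ T κ κ :=
    Over.homMk (𝟙 _) (by
      show 𝟙 _ ≫ Spec.map (CommRingCat.ofHom (algebraMap κ κ)) = 𝟙 _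
      rw [Category.id_comp, Algebra.algebraMap_self, show CommRingCat.ofHom (RingHom.id κ) = 𝟙 (CommRingCat.of κ) from rfl,
        Spec.map_id])
  haveI : Mono (T κ κ).hom := by
    show Mono (Spec.map (CommRingCat.ofHom (algebraMap κ κ)))
    rw [Algebra.algebraMap_self, show CommRingCat.ofHom (RingHom.id κ) = 𝟙 (CommRingCat.of κ) from rfl, Spec.map_id]
    infer_instance
  let c : 𝟙_ (Over (Spec (CommRingCat.of κ))) ⟶ S := u0 ≫ Tmap (ev.comp ψ) ≫ e.hom
  have hph : p ≫ h = toUnit _ ≫ c := by
    have h1 : Tmap (Algebra.ofId κ (Polynomial κ)) = toUnit _ ≫ u0 :=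
      Over.OverMorphism.ext ((cancel_mono (T κ κ).hom).1 (by rw [Over.w, Over.w]))
    calc p ≫ h = v ≫ e.hom := by
          show p ≫ h = (p ≫ h ≫ e.inv) ≫ e.hom
          rw [Category.assoc, Category.assoc, Iso.inv_hom_id, Category.comp_id]
      _ = _ := by
          rw [hv, h1]
          show _ = toUnit _ ≫ (u0 ≫ Tmap (ev.comp ψ) ≫ e.hom)
          simp only [Category.assoc]
  have hh : h = toUnit A ≫ c := by
    calc h = w ≫ p ≫ h := by rw [← Category.assoc, hwp, Category.id_comp]
      _ = _ := by rw [hph, ← Category.assoc, toUnit_unique (w ≫ toUnit _) (toUnit A)]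
  have hc : c = η[S] := by
    have h2 : η[Red.Ga (Spec (CommRingCat.of κ))] ≫ h = η[S] := IsMonHom.one_hom h
    rw [hh, ← Category.assoc, toUnit_unique (η[A] ≫ toUnit A) (𝟙 _), Category.id_comp] at h2
    exact h2
  rw [hh, hc]
  rfl


/-- A homomorphism killing the kernel descends along a flat surjective homomorphism. -/
theorem kill_desc {N G Q R : Over (Spec (CommRingCat.of κ))} [GrpObj N] [GrpObj G] [GrpObj Q] [GrpObj R]
    (i : N ⟶ G) (q : G ⟶ Q) [IsMonHom q] [Flat q.left] [Surjective q.left] (hk : AlgGrp.IsKernel i q)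
    (hQ : Smooth Q.hom) (hG : LocallyOfFiniteType G.hom) (g : G ⟶ R) [IsMonHom g] (hig : i ≫ g = 1) :
    ∃ d : Q ⟶ R, IsMonHom d ∧ q ≫ d = g := by
  have hw : ∀ (W : Over (Spec (CommRingCat.of κ))) (a b : W ⟶ G), a ≫ q = b ≫ q → a ≫ g = b ≫ g := by
    intro W a b hab
    obtain ⟨z, hz⟩ := H19Grp.kernel_lift hk (a / b) (by rw [GrpObj.div_comp, hab, div_self'])
    have h2 : (a / b) ≫ g = 1 := by rw [← hz, Category.assoc, hig, MonObj.comp_one]
    rwa [GrpObj.div_comp, div_eq_one] at h2
  haveI : LocallyOfFiniteType q.left := by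
    haveI : LocallyOfFiniteType (q.left ≫ Q.hom) := by rw [Over.w q]; infer_instance
    exact locallyOfFiniteType_of_comp q.left Q.hom
  haveI : IsLocallyNoetherian Q.left := LocallyOfFiniteType.isLocallyNoetherian Q.hom
  haveI : LocallyOfFinitePresentation q.left := inferInstance
  obtain ⟨d, hd, -⟩ := H19Grp.QuotientDesc.existsUnique_desc q g hw
  refine ⟨d, ⟨?_, ?_⟩, hd⟩
  · rw [← IsMonHom.one_hom q, Category.assoc, hd, IsMonHom.one_hom g]
  · haveI := H21Quot.flat_tensorHom q q
    haveI := H21Quot.surjective_tensorHom q q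
    haveI := H21Quot.lfp_tensorHom q q
    refine H19Chev.cancel_quotient (q ⊗ₘ q) ?_
    rw [← Category.assoc, ← IsMonHom.mul_hom q, Category.assoc, hd, ← Category.assoc (q ⊗ₘ q),
      tensorHom_comp_tensorHom, hd, IsMonHom.mul_hom g]

/-- Let k be an algebraically closed field, T a k-torus and U a smooth connected affine k-group scheme
of finite type with a composition series whose successive quotients are additive groups: closed
subgroup schemes U_0 → U_1 → … → U_n = U (homomorphisms which are closed immersions, U_i ↦ U_{i+1}),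
with U_0 the trivial group, U_n identified with U by an isomorphism of group schemes, and each U_i
the kernel of a flat surjective homomorphism from U_{i+1} onto the additive group. Then every
homomorphism from U to T is the trivial one. (The published statement is over an arbitrary field for
a torus and a smooth connected unipotent group, unipotent meaning that such a composition series
exists over an algebraic closure; this row states the case of an algebraically closed base field.
The companion assertion, that homomorphisms from T to U are trivial, is an existing statement about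
groups of multiplicative type.) -/
theorem result (k : Type u) [Field k] [IsAlgClosed k]
    (T U : Over (Spec (CommRingCat.of k))) [GrpObj T] [GrpObj U] (hT : Red.IsTorus T)
    [Smooth U.hom] [QuasiCompact U.hom] [ConnectedSpace ↥U.left] [IsAffine U.left]
    (n : ℕ) (Us : Fin (n + 1) → Over (Spec (CommRingCat.of k))) [∀ i, GrpObj (Us i)]
    (h0 : Red.IsTrivialGrp (Us 0))
    (e : Us (Fin.last n) ≅ U) [IsMonHom e.hom]
    (incl : ∀ i : Fin n, Us i.castSucc ⟶ Us i.succ) [∀ i, IsMonHom (incl i)]
    [∀ i, IsClosedImmersion (incl i).left]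
    (quot : ∀ i : Fin n, Us i.succ ⟶ Red.Ga (Spec (CommRingCat.of k))) [∀ i, IsMonHom (quot i)]
    [∀ i, Surjective (quot i).left] [∀ i, Flat (quot i).left]
    (hker : ∀ i : Fin n, AlgGrp.IsKernel (incl i) (quot i))
    (f : U ⟶ T) [IsMonHom f] :
    f = 1 := by
  have hlft : ∀ j : Fin (n + 1), LocallyOfFiniteType (Us j).hom := by
    intro j
    induction j using Fin.reverseInduction with
    | last =>
      haveI : IsIso e.hom.left := inferInstanceAs (IsIso ((Over.forget _).map e.hom))
      rw [← Over.w e.hom]; infer_instance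
    | cast j hj =>
      rw [← Over.w (incl j)]; infer_instance
  have key : ∀ (j : Fin (n + 1)) (g : Us j ⟶ T), IsMonHom g → g = 1 := by
    intro j
    induction j using Fin.induction with
    | zero =>
      intro g hg
      haveI : IsIso (Us 0).hom := h0
      have h1 : 𝟙 (Us 0) = toUnit (Us 0) ≫ η[Us 0] := by
        refine Over.OverMorphism.ext ((cancel_mono (Us 0).hom).1 ?_)
        rw [Over.w, Over.w]
      haveI := hg
      rw [← Category.id_comp g, h1, Category.assoc, IsMonHom.one_hom g]
      rfl
    | succ i ih =>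
      intro g hg
      haveI := hg
      obtain ⟨d, hdm, hd⟩ := kill_desc (incl i) (quot i) (hker i) H21Rank1.smooth_Ga (hlft i.succ) g
        (ih _ inferInstance)
      haveI := hdm
      rw [← hd, ga_to_torus T hT d, MonObj.comp_one]
  haveI : IsMonHom e.inv := inferInstance
  calc f = e.inv ≫ e.hom ≫ f := by rw [Iso.inv_hom_id_assoc]
    _ = 1 := by rw [key (Fin.last n) (e.hom ≫ f) inferInstance, MonObj.comp_one]

end Groth.Agent.S17464
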