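import Groth.Statements.S17466


set_option autoImplicit false
universe u v
open BigOperators
open NRGIT

namespace Groth.Agent.S17466
theorem homLoc_mk_pow {A : Type*} [CommRing A] (x a b : A) (p q : ℕ) :
    Localization.mk a (⟨x ^ p, p, rfl⟩ : Submonoid.powers x) * Localization.mk b (⟨x ^ q, q, rfl⟩ : Submonoid.powers x) =
      Localization.mk (a * b) (⟨x ^ (p + q), p + q, rfl⟩ : Submonoid.powers x) := by
  rw [Localization.mk_mul]
  congr 1
  exact Subtype.ext (pow_add x p q).symm


/-- Let A be a commutative algebra graded by the natural numbers, let σ_1, …, σ_n be homogeneous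
elements of degree 1 and let s ≥ 1 be an integer such that, for every i, the degree-zero homogeneous
localisation of A away from σ_i is generated over A_0 by the fractions f / σ_i ^ s with f
homogeneous of degree s. Then for every exponent vector K = (k_1, …, k_n) with k_1 + ⋯ + k_n = s,
the degree-zero homogeneous localisation of A away from the monomial σ^K = ∏ σ_i ^ (k_i) is
generated over A_0 by the fractions f / σ^K with f homogeneous of degree s. (Equivalently: the
natural map from the degree-zero localisation of the symmetric algebra on A_s, taken away from σ^K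
viewed as an element of degree one, to the degree-zero localisation of A away from σ^K is
surjective. The published lemma concerns the algebra of invariant sections of the powers of a
linearised line bundle on an irreducible projective scheme over a field, with the σ_i a basis of a
weight space of sections, and concludes a closed immersion of a quotient into an open piece of a
projective space; this row keeps only the graded-algebra step, for any commutative graded algebra,
with the base field replaced by A_0, which generates nothing new since a / 1 = a σ^s / σ^s for a of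
degree zero.) -/
theorem result
    {R : Type u} {A : Type v} [CommRing R] [CommRing A] [Algebra R A]
    (𝒜 : ℕ → Submodule R A) [GradedAlgebra 𝒜]
    {n : ℕ} (σ : Fin n → A) (hσ : ∀ i, σ i ∈ 𝒜 1) {s : ℕ} (hs : 0 < s)
    (hgen : ∀ i, Algebra.adjoin (𝒜 0)
      {z : HomogeneousLocalization.Away 𝒜 (σ i) |
        ∃ f ∈ 𝒜 s, z.val = Localization.mk f ⟨σ i ^ s, Submonoid.pow_mem _ (Submonoid.mem_powers (σ i)) s⟩} = ⊤)
    (K : Fin n → ℕ) (hK : ∑ i, K i = s) :
    Algebra.adjoin (𝒜 0)
      {z : HomogeneousLocalization.Away 𝒜 (∏ i, σ i ^ K i) |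
        ∃ f ∈ 𝒜 s, z.val = Localization.mk f ⟨∏ i, σ i ^ K i, Submonoid.mem_powers _⟩} = ⊤ := by
  classical
  set x := ∏ i, σ i ^ K i with hx
  obtain ⟨i, hi⟩ : ∃ i, 0 < K i := by
    by_contra h
    push_neg at h
    simp [fun i => Nat.le_zero.1 (h i)] at hK
    omega
  have hKle : K i ≤ s := hK ▸ Finset.single_le_sum (fun j _ => Nat.zero_le _) (Finset.mem_univ i)
  let r := ∏ j ∈ Finset.univ.erase i, σ j ^ K j
  have hxr : x = σ i ^ K i * r := (Finset.mul_prod_erase _ _ (Finset.mem_univ i)).symm
  have hprod : ∀ t : Finset (Fin n), ∏ j ∈ t, σ j ^ K j ∈ (𝒜 1) ^ (∑ j ∈ t, K j) := by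
    intro t
    induction t using Finset.induction with
    | empty => rw [Finset.prod_empty, Finset.sum_empty, Submodule.pow_zero, Submodule.one_eq_range]; exact ⟨1, (algebraMap R A).map_one⟩
    | insert j t hj ih =>
      rw [Finset.prod_insert hj, Finset.sum_insert hj, pow_add]
      exact Submodule.mul_mem_mul (Submodule.pow_mem_pow _ (hσ j) _) ih
  have h1t : ∀ t, (𝒜 1) ^ t ≤ 𝒜 t := by
    intro t y hy
    induction hy using Submodule.pow_induction_on_left' with
    | algebraMap r => exact SetLike.algebraMap_mem_graded 𝒜 r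
    | add y z j _ _ hy hz => exact add_mem hy hz
    | mem_mul m hm j y _ hy => rw [Nat.succ_eq_add_one, add_comm j 1]; exact SetLike.mul_mem_graded hm hy
  have h1s := h1t s
  have hsi : σ i ^ s ∈ 𝒜 s := h1s (Submodule.pow_mem_pow _ (hσ i) _)
  -- generators of the localisation at `σ i`
  have hPi : ∀ z : HomogeneousLocalization.Away 𝒜 (σ i), ∃ N, ∃ f ∈ (𝒜 s) ^ N,
      z.val = Localization.mk f (⟨(σ i) ^ (s * N), s * N, rfl⟩ : Submonoid.powers (σ i)) := by
    intro z
    have hz := (hgen i).ge (Algebra.mem_top : z ∈ _)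
    induction hz using Algebra.adjoin_induction with
    | mem z hz =>
      obtain ⟨f, hf, e⟩ := hz
      refine ⟨1, f, by rwa [Submodule.pow_one], e.trans ?_⟩
      congr 1
      exact Subtype.ext (by simp)
    | algebraMap a =>
      refine ⟨1, (a : A) * σ i ^ s, ?_, ?_⟩
      · rw [Submodule.pow_one]; simpa using SetLike.mul_mem_graded a.2 hsi
      · rw [HomogeneousLocalization.algebraMap_eq]
        show Localization.mk (a : A) (1 : Submonoid.powers (σ i)) = _
        rw [Localization.mk_eq_mk_iff, Localization.r_iff_exists]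
        exact ⟨1, by simp; ring⟩
    | add z w _ _ hz hw =>
      obtain ⟨p, f, hf, ez⟩ := hz
      obtain ⟨q, g, hg, ew⟩ := hw
      refine ⟨p + q, f * (σ i ^ s) ^ q + g * (σ i ^ s) ^ p, add_mem ?_ ?_, ?_⟩
      · rw [pow_add]; exact Submodule.mul_mem_mul hf (Submodule.pow_mem_pow _ hsi q)
      · rw [add_comm p, pow_add]; exact Submodule.mul_mem_mul hg (Submodule.pow_mem_pow _ hsi p)
      · rw [HomogeneousLocalization.val_add, ez, ew, Localization.add_mk, Localization.mk_eq_mk_iff,
          Localization.r_iff_exists]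
        exact ⟨1, by simp [pow_mul, pow_add]; ring⟩
    | mul z w _ _ hz hw =>
      obtain ⟨p, f, hf, ez⟩ := hz
      obtain ⟨q, g, hg, ew⟩ := hw
      refine ⟨p + q, f * g, by rw [pow_add]; exact Submodule.mul_mem_mul hf hg, ?_⟩
      rw [HomogeneousLocalization.val_mul, ez, ew, homLoc_mk_pow]
      congr 1
      exact Subtype.ext (by simp [mul_add])
  have hxmem : x ∈ 𝒜 s := h1s (hK ▸ hprod Finset.univ)
  -- fractions with numerators in the powers of `𝒜 s`
  have hQ : ∀ N, ∀ f ∈ (𝒜 s) ^ N, ∃ z ∈ Algebra.adjoin (𝒜 0)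
      {z : HomogeneousLocalization.Away 𝒜 x |
        ∃ f ∈ 𝒜 s, z.val = Localization.mk f ⟨x, Submonoid.mem_powers _⟩},
      z.val = Localization.mk f (⟨x ^ N, N, rfl⟩ : Submonoid.powers x) := by
    intro N f hf
    induction hf using Submodule.pow_induction_on_left' with
    | algebraMap r =>
      exact ⟨algebraMap (𝒜 0) _ ⟨algebraMap R A r, SetLike.algebraMap_mem_graded 𝒜 r⟩,
        Subalgebra.algebraMap_mem _ _, by
          rw [HomogeneousLocalization.algebraMap_eq]
          show Localization.mk (algebraMap R A r) (1 : Submonoid.powers x) = _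
          congr 1
          exact Subtype.ext (pow_zero x).symm⟩
    | add f g j _ _ hf hg =>
      obtain ⟨z, hz, ez⟩ := hf
      obtain ⟨w, hw, ew⟩ := hg
      refine ⟨z + w, add_mem hz hw, ?_⟩
      rw [HomogeneousLocalization.val_add, ez, ew, Localization.add_mk_self]
    | mem_mul m hm j f _ hf =>
      obtain ⟨w, hw, ew⟩ := hf
      refine ⟨HomogeneousLocalization.Away.mk 𝒜 hxmem 1 m (by simpa using hm) * w,
        mul_mem (Algebra.subset_adjoin ⟨m, hm, ?_⟩) hw, ?_⟩
      · rw [HomogeneousLocalization.Away.val_mk]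
        congr 1
        exact Subtype.ext (pow_one x)
      · rw [HomogeneousLocalization.val_mul, HomogeneousLocalization.Away.val_mk, ew, homLoc_mk_pow]
        congr 1
        exact Subtype.ext (by rw [Nat.succ_eq_add_one, add_comm])
  rw [eq_top_iff]
  intro z _
  obtain ⟨m, f, hf, rfl⟩ := HomogeneousLocalization.Away.mk_surjective 𝒜 hxmem z
  obtain ⟨N, g, hg, e⟩ := hPi (HomogeneousLocalization.Away.mk 𝒜 (hσ i) (s * m) f
    (by simpa [smul_eq_mul, mul_comm] using hf))
  rw [HomogeneousLocalization.Away.val_mk, Localization.mk_eq_mk_iff, Localization.r_iff_exists] at e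
  obtain ⟨⟨_, c, rfl⟩, hc⟩ := e
  simp only at hc
  have hM : (σ i ^ s) ^ (c + N) * f ∈ (𝒜 s) ^ (c + m + N) := by
    have e2 : (σ i ^ s) ^ (c + N) * f = (σ i ^ s) ^ (c + m) * g := by
      have hs1 : c * s = c * (s - 1) + c := by
        conv_lhs => rw [show s = s - 1 + 1 by omega]
        ring
      calc (σ i ^ s) ^ (c + N) * f = σ i ^ (c * (s - 1)) * (σ i ^ c * (σ i ^ (s * N) * f)) := by
            rw [← mul_assoc, ← mul_assoc, ← pow_add, ← pow_add, ← pow_mul]
            congr 2
            rw [← hs1]; ring
        _ = σ i ^ (c * (s - 1)) * (σ i ^ c * (σ i ^ (s * m) * g)) := by rw [hc]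
        _ = _ := by
            rw [← mul_assoc, ← mul_assoc, ← pow_add, ← pow_add, ← pow_mul]
            congr 2
            rw [← hs1]; ring
    rw [e2, pow_add _ (c + m) N]
    exact Submodule.mul_mem_mul (Submodule.pow_mem_pow _ hsi _) hg
  let L := s * (c + N)
  have hr : r ∈ (𝒜 1) ^ (s - K i) := by
    have : ∑ j ∈ Finset.univ.erase i, K j = s - K i := by
      rw [← Finset.add_sum_erase _ _ (Finset.mem_univ i)] at hK
      omega
    exact this ▸ hprod _
  have hrest : σ i ^ ((K i - 1) * L) * r ^ L ∈ (𝒜 s) ^ ((s - 1) * (c + N)) := by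
    have h := Submodule.mul_mem_mul (Submodule.pow_mem_pow _ (hσ i) ((K i - 1) * L)) (Submodule.pow_mem_pow _ hr L)
    rw [← pow_mul, ← pow_add] at h
    have he : (K i - 1) * L + (s - K i) * L = s * ((s - 1) * (c + N)) := by
      rw [← add_mul, show K i - 1 + (s - K i) = s - 1 by omega]
      simp only [L]; ring
    rw [he, pow_mul] at h
    exact pow_le_pow_left' h1s _ h
  have hfinal : x ^ L * f ∈ (𝒜 s) ^ (m + L) := by
    have e3 : x ^ L * f = ((σ i ^ s) ^ (c + N) * f) * (σ i ^ ((K i - 1) * L) * r ^ L) := by
      have e4 : σ i ^ (K i * L) = (σ i ^ s) ^ (c + N) * σ i ^ ((K i - 1) * L) := by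
        rw [← pow_mul, ← pow_add]
        congr 1
        simp only [L]
        conv_lhs => rw [show K i = K i - 1 + 1 by omega]
        ring
      rw [hxr, mul_pow, ← pow_mul, e4]; ring
    have e5 : m + L = (c + m + N) + (s - 1) * (c + N) := by
      simp only [L]
      conv_lhs => rw [show s = s - 1 + 1 by omega]
      ring
    rw [e3, e5, pow_add]
    exact Submodule.mul_mem_mul hM hrest
  obtain ⟨z, hz, ez⟩ := hQ _ _ hfinal
  have : HomogeneousLocalization.Away.mk 𝒜 hxmem m f hf = z := by
    apply HomogeneousLocalization.val_injective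
    rw [HomogeneousLocalization.Away.val_mk, ez, Localization.mk_eq_mk_iff, Localization.r_iff_exists]
    exact ⟨1, by simp [pow_add]; ring⟩
  rwa [this]

end Groth.Agent.S17466
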