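import Groth.Statements.S17468
import Mathlib.Algebra.Lie.Sl2
import Mathlib.LinearAlgebra.Trace
import Mathlib.Algebra.DirectSum.LinearMap
import Mathlib.FieldTheory.IsAlgClosed.Basic

set_option autoImplicit false
universe u v w
open LieRep

namespace Groth.Agent.S17468
theorem sum_sq_aux {k : Type*} [CommRing k] (x : k) (m : ℕ) :
    3 * ∑ i ∈ Finset.range m, (x - 2 * (i : k)) ^ 2 =
      3 * m * x ^ 2 - 6 * m * (m - 1) * x + 2 * (m - 1) * m * (2 * m - 1) := by
  induction m with
  | zero => simp
  | succ m ih => rw [Finset.sum_range_succ, mul_add, ih]; push_cast; ring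

theorem choose_three (m : ℕ) : 6 * (m + 1).choose 3 = (m + 1) * m * (m - 1) := by
  rw [show 6 = Nat.factorial 3 from rfl, ← Nat.descFactorial_eq_factorial_mul_choose]
  simp [Nat.descFactorial_succ]
  ring

theorem trace_sq_irreducible {k : Type u} [Field k] [IsAlgClosed k] [CharZero k] {L : Type v} [LieRing L] [LieAlgebra k L]
    {h e f : L} (t : IsSl2Triple h e f) (hspan : t.toLieSubalgebra k = ⊤)
    (M : Type w) [AddCommGroup M] [Module k M] [LieRingModule L M] [LieModule k L M] [FiniteDimensional k M]
    [LieModule.IsIrreducible k L M] :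
    LinearMap.trace k M ((LieModule.toEnd k L M h) ^ 2) = 2 * (((Module.finrank k M + 1).choose 3 : ℕ) : k) := by
  haveI : Nontrivial M := (LieSubmodule.nontrivial_iff k L M).1 inferInstance
  obtain ⟨μ, m, -, P⟩ := IsSl2Triple.exists_hasPrimitiveVectorWith (R := k) (M := M) t
  obtain ⟨n, hn⟩ := P.exists_nat
  let ψ : ℕ → M := fun i => ((LieModule.toEnd k L M f) ^ i) m
  let W : Submodule k M := Submodule.span k (Set.range fun i : Fin (n + 1) => ψ i)
  have hψ : ∀ i, ψ i ∈ W := by
    intro i
    by_cases hi : i < n + 1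
    · exact Submodule.subset_span ⟨⟨i, hi⟩, rfl⟩
    · obtain ⟨j, rfl⟩ : ∃ j, i = j + (n + 1) := ⟨i - (n + 1), by omega⟩
      show ((LieModule.toEnd k L M f) ^ (j + (n + 1))) m ∈ W
      rw [pow_add, Module.End.mul_apply, P.pow_toEnd_f_eq_zero_of_eq_nat hn, map_zero]
      exact zero_mem _
  have hgen : ∀ (x : L) (i : ℕ), ⁅x, ψ i⁆ ∈ W := by
    intro x i
    have hx : x ∈ t.toLieSubalgebra k := hspan ▸ LieSubalgebra.mem_top x
    obtain ⟨a, b, c, rfl⟩ := IsSl2Triple.mem_toLieSubalgebra_iff.1 hx
    rw [t.lie_e_f]
    simp only [add_lie, smul_lie]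
    refine add_mem (add_mem (W.smul_mem _ ?_) (W.smul_mem _ ?_)) (W.smul_mem _ ?_)
    · cases i with
      | zero => rw [show ⁅e, ψ 0⁆ = 0 by simpa [ψ] using P.lie_e]; exact zero_mem _
      | succ i => rw [P.lie_e_pow_succ_toEnd_f]; exact W.smul_mem _ (hψ i)
    · rw [P.lie_f_pow_toEnd_f]; exact hψ _
    · rw [P.lie_h_pow_toEnd_f]; exact W.smul_mem _ (hψ i)
  let N : LieSubmodule k L M :=
    { W with
      lie_mem := fun {x v} hv => by
        induction hv using Submodule.span_induction with
        | mem v hv => obtain ⟨i, rfl⟩ := hv; exact hgen x i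
        | zero => rw [lie_zero]; exact W.zero_mem
        | add a b _ _ ha hb => rw [lie_add]; exact W.add_mem ha hb
        | smul c a _ ha => rw [lie_smul]; exact W.smul_mem c ha }
  have hN : N = ⊤ := by
    rcases eq_bot_or_eq_top N with hb | ht
    · exfalso
      have : m ∈ N := (show m ∈ W by simpa [ψ] using hψ 0)
      rw [hb, LieSubmodule.mem_bot] at this
      exact P.ne_zero this
    · exact ht
  have htop : ⊤ ≤ Submodule.span k (Set.range fun i : Fin (n + 1) => ψ i) := fun v _ => by
    have : v ∈ N := hN ▸ LieSubmodule.mem_top v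
    exact this
  have hli : LinearIndependent k fun i : Fin (n + 1) => ψ i := by
    refine Module.End.eigenvectors_linearIndependent' (LieModule.toEnd k L M h)
      (fun i : Fin (n + 1) => μ - 2 * ((i : ℕ) : k)) (fun a b hab => ?_) _ fun i => ?_
    · exact Fin.ext (by simpa [sub_right_inj] using hab)
    · exact ⟨Module.End.mem_eigenspace_iff.2 (P.lie_h_pow_toEnd_f i),
        P.pow_toEnd_f_ne_zero_of_eq_nat hn (Nat.le_of_lt_succ i.2)⟩
  let B := Module.Basis.mk hli htop
  have hdim : Module.finrank k M = n + 1 := by rw [Module.finrank_eq_card_basis B, Fintype.card_fin]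
  have hB : ∀ i, ((LieModule.toEnd k L M h) ^ 2) (B i) = (μ - 2 * ((i : ℕ) : k)) ^ 2 • B i := by
    intro i
    have h1 : ∀ j, (LieModule.toEnd k L M h) (ψ j) = (μ - 2 * (j : k)) • ψ j := P.lie_h_pow_toEnd_f
    simp only [B, Module.Basis.coe_mk]
    rw [pow_two, Module.End.mul_apply, h1, map_smul, h1, smul_smul, pow_two]
  rw [LinearMap.trace_eq_matrix_trace k B, Matrix.trace]
  have hdiag : ∀ i, Matrix.diag (LinearMap.toMatrix B B ((LieModule.toEnd k L M h) ^ 2)) i =
      (μ - 2 * ((i : ℕ) : k)) ^ 2 := fun i => by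
    rw [Matrix.diag_apply, LinearMap.toMatrix_apply, hB, map_smul, Finsupp.smul_apply, Module.Basis.repr_self,
      Finsupp.single_eq_same, smul_eq_mul, mul_one]
  rw [Finset.sum_congr rfl fun i _ => hdiag i, hdim, Fin.sum_univ_eq_sum_range (fun i => (μ - 2 * (i : k)) ^ 2)]
  have hc := congrArg (fun q : ℕ => (q : k)) (choose_three (n + 1))
  push_cast at hc
  have hs := sum_sq_aux μ (n + 1)
  rw [hn] at hs ⊢
  push_cast at hs
  refine mul_left_cancel₀ (by norm_num : (3 : k) ≠ 0) ?_
  linear_combination hs - hc


/-- Let k be an algebraically closed field of characteristic zero, L a Lie algebra over k spanned by an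
sl_2-triple (h, e, f), and V a finite-dimensional L-module written as an internal direct sum of
finitely many irreducible Lie submodules V_i. Then the trace on V of the square of the action of h
is 2 Σ_i C(dim V_i + 1, 3). (The published statement concerns a finite-dimensional representation V
of a simple Lie algebra restricted to the copy of sl_2 attached to the highest root θ, with h the
coroot θ^∨; there Σ_i C(dim V_i + 1, 3) is the index of V, and the trace is the sum over the weights
λ of V, with multiplicity, of ⟨λ, θ^∨⟩².) -/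
theorem result
    (k : Type u) [Field k] [IsAlgClosed k] [CharZero k]
    (L : Type v) [LieRing L] [LieAlgebra k L]
    (h e f : L) (t : IsSl2Triple h e f) (hspan : t.toLieSubalgebra k = ⊤)
    (V : Type w) [AddCommGroup V] [Module k V] [LieRingModule L V] [LieModule k L V]
    [FiniteDimensional k V]
    (ι : Type) [Fintype ι] [DecidableEq ι] (W : ι → LieSubmodule k L V)
    (hW : DirectSum.IsInternal fun i => (W i).toSubmodule)
    (hirr : ∀ i, LieModule.IsIrreducible k L (W i)) :
    LinearMap.trace k V ((LieModule.toEnd k L V h) ^ 2) =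
      2 * ∑ i, (((Module.finrank k (W i) + 1).choose 3 : ℕ) : k) := by
  have hmaps : ∀ i, Set.MapsTo (((LieModule.toEnd k L V h) ^ 2 : Module.End k V) : V → V) ((W i : Submodule k V) : Set V) ((W i : Submodule k V) : Set V) := by
    intro i v hv
    exact (W i).lie_mem ((W i).lie_mem hv)
  rw [LinearMap.trace_eq_sum_trace_restrict hW hmaps, Finset.mul_sum]
  refine Finset.sum_congr rfl fun i _ => ?_
  haveI := hirr i
  exact trace_sq_irreducible t hspan (W i)

end Groth.Agent.S17468
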