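import Groth.Statements.S17469
import Mathlib
import Groth.Agent.H7Lim.NormalizationNormal

set_option autoImplicit false
universe u
open CategoryTheory AlgebraicGeometry
open Variety

namespace Groth.Agent.S17469

/-- Let X be a locally Noetherian integral scheme all of whose local rings are integrally closed domains
and U an open subset of X. A section of O_X over U that is integral over the ring of global sections
of X, the latter acting through restriction, is itself the restriction of a global section. (The
published lemma is stated for an irreducible normal variety and for the graded ring of sections over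
U of all non-negative powers of a line bundle, integral over the corresponding ring of sections over
X; for the trivial line bundle its homogeneous components are the present statement, which is made
here for any locally Noetherian normal integral scheme.) -/
theorem result
    (X : Scheme.{u}) [AlgebraicGeometry.IsIntegral X] [IsLocallyNoetherian X]
    (hX : Pi1.IsNormalScheme X) (U : X.Opens) (b : Γ(X, U))
    (hb : (X.presheaf.map (homOfLE le_top : U ⟶ ⊤).op).hom.IsIntegralElem b) :
    b ∈ Set.range (X.presheaf.map (homOfLE le_top : U ⟶ ⊤).op).hom := by
  by_cases hU : Nonempty U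
  · have hηU : genericPoint X ∈ U := ((genericPoint_spec X).mem_open_set_iff U.2).mpr (by
      obtain ⟨u⟩ := hU
      exact ⟨u.1, trivial, u.2⟩)
    set φ := (X.presheaf.map (homOfLE le_top : U ⟶ ⊤).op).hom
    have hg : ∀ a, X.presheaf.germ U (genericPoint X) hηU (φ a) = X.presheaf.germ ⊤ (genericPoint X) trivial a := fun a =>
      TopCat.Presheaf.germ_res_apply X.presheaf (homOfLE le_top) _ hηU a
    have hz : (X.presheaf.germ ⊤ (genericPoint X) trivial).hom.IsIntegralElem (X.presheaf.germ U (genericPoint X) hηU b) := by
      obtain ⟨P, hP, hP'⟩ := hb
      refine ⟨P, hP, ?_⟩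
      have h1 := congrArg (X.presheaf.germ U (genericPoint X) hηU).hom hP'
      rw [Polynomial.hom_eval₂, map_zero] at h1
      rw [← RingHom.ext (f := ((X.presheaf.germ U (genericPoint X) hηU).hom).comp φ) (g := (X.presheaf.germ ⊤ (genericPoint X) trivial).hom) hg]
      exact h1
    obtain ⟨w, hw⟩ := Groth.Agent.H7Lim.exists_germ_eq_of_isIntegralElem (fun x => (hX x).2) (O := ⊤) trivial hz
    exact ⟨w, germ_injective_of_isIntegral X _ hηU ((hg w).trans hw)⟩
  · have hbot : U = ⊥ := by
      ext z
      exact ⟨fun h => absurd ⟨⟨z, h⟩⟩ hU, fun h => h.elim⟩
    have : Subsingleton Γ(X, U) := hbot ▸ CommRingCat.subsingleton_of_isTerminal X.sheaf.isTerminalOfEmpty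
    exact ⟨0, Subsingleton.elim _ _⟩

end Groth.Agent.S17469
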