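import Groth.Statements.S17471
import Groth.Agent.H21Root.Basic

set_option autoImplicit false
universe u v w x
open RootCh

namespace Groth.Agent.S17471

open Groth.Agent.H21Root RootPairing

/-- Let Φ be a finite, reduced, crystallographic, irreducible root system with a base, and θ a positive
root such that θ + β is a root for no positive root β (so θ is the highest root). Then Σ_{β>0} ⟨β,
θ^∨⟩² = 2 + Σ_{β>0} ⟨β, θ^∨⟩ = 2(1 + ⟨ρ, θ^∨⟩), ρ being half the sum of the positive roots; in the
source the left side is the index of the adjoint representation obtained from its formal character,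
and 1 + ⟨ρ, θ^∨⟩ is the dual Coxeter number. -/
theorem result
    {ι : Type u} {R : Type v} {M : Type w} {N : Type x}
    [Field R] [LinearOrder R] [IsStrictOrderedRing R]
    [AddCommGroup M] [Module R M] [AddCommGroup N] [Module R N] [Fintype ι]
    (P : RootPairing ι R M N) [P.IsRootSystem] [P.IsCrystallographic] [P.IsReduced]
    [P.IsIrreducible] (b : P.Base) (θ : ι) (hθ : b.IsPos θ)
    (hmax : ∀ i : ι, b.IsPos i → P.root θ + P.root i ∉ Set.range P.root) :
    ∑ i ∈ Finset.univ.filter (fun i => 0 < b.height i), P.pairing i θ ^ 2 =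
      2 + ∑ i ∈ Finset.univ.filter (fun i => 0 < b.height i), P.pairing i θ := by
  have key : ∀ β : ι, b.IsPos β → β ≠ θ → P.pairing β θ ^ 2 = P.pairing β θ := by
    intro β hβ hne
    have h0 : 0 ≤ P.pairingIn ℤ β θ := by
      by_contra h
      obtain ⟨p, hp⟩ := exists_add_root P (not_le.mp h) (fun e => by
        have : β = opp P θ := eq_opp_of_root_eq_neg P e
        subst this; exact (Base.IsPos.neg_iff_not b θ).mp hβ hθ)
      exact hmax β hβ ⟨p, by rw [hp, add_comm]⟩
    have h1 : P.pairingIn ℤ β θ ≤ 1 := by
      by_contra h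
      obtain ⟨p, hp⟩ := exists_sub_root P (i := β) (j := θ) (by lia) hne
      have hmem := P.pairingIn_pairingIn_mem_set_of_isCrystal_of_isRed' (i := β) (j := θ)
        (fun e => hne (P.root.injective e)) (fun e => by
          have : β = opp P θ := eq_opp_of_root_eq_neg P e
          subst this; exact (Base.IsPos.neg_iff_not b θ).mp hβ hθ)
      simp only [Set.mem_insert_iff, Set.mem_singleton_iff, Prod.mk.injEq] at hmem
      rcases Base.IsPos.or_neg b p with hp' | hp'
      · exact hmax p hp' ⟨β, by rw [hp]; abel⟩
      · -- `θ - β` is positive, and `β - 2θ = -(θ + (θ - β))` is a root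
        have hsw : 0 < P.pairingIn ℤ θ β := pairingIn_pos_symm P (by lia)
        have hθp : P.pairingIn ℤ p θ = P.pairingIn ℤ β θ - 2 := by
          have hh := RootPairing.pairing_eq_add_of_root_eq_add (l := θ)
            (show P.root β = P.root p + P.root θ by rw [hp, sub_add_cancel])
          rw [pairing_same, ← cast_pairingIn, ← cast_pairingIn] at hh
          have hh' : P.pairingIn ℤ β θ = P.pairingIn ℤ p θ + 2 := by exact_mod_cast hh
          lia
        obtain ⟨q, hq⟩ : ∃ q, P.root q = P.root p - P.root θ := by
          by_cases h2 : P.pairingIn ℤ β θ = 2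
          · refine ⟨P.reflectionPerm θ β, ?_⟩
            rw [root_reflectionPerm, reflection_apply_root, ← cast_pairingIn, h2, hp, Int.cast_ofNat, two_smul]
            abel
          · exact exists_sub_root P (by lia) fun e => by rw [e, pairingIn_same'] at hθp; lia
        refine hmax (opp P p) hp' ⟨opp P q, ?_⟩
        rw [root_opp, root_opp, hq]; abel
    rw [← cast_pairingIn]
    rcases (show P.pairingIn ℤ β θ = 0 ∨ P.pairingIn ℤ β θ = 1 by lia) with h | h <;> simp [h]
  classical
  have hmem : θ ∈ Finset.univ.filter (fun i => 0 < b.height i) := Finset.mem_filter.mpr ⟨Finset.mem_univ θ, hθ⟩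
  rw [← Finset.add_sum_erase _ _ hmem, ← Finset.add_sum_erase _ _ hmem, pairing_same,
    Finset.sum_congr rfl (fun i hi => key i ?_ (Finset.mem_erase.mp hi).1)]
  · ring
  · simpa [Base.isPos_iff] using (Finset.mem_erase.mp hi).2

end Groth.Agent.S17471
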