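import Groth.Statements.S17474
import Groth.Agent.H25AbCube.AlgEquiv
open Groth.Agent.H25AbCube

set_option autoImplicit false
universe u
open CategoryTheory MonoidalCategory CartesianMonoidalCategory MonObj GrpObj AlgebraicGeometry CategoryTheory.Limits
open AlgGrp

namespace Groth.Agent.S17474

/-- Over an algebraically closed field k, let X be a projective variety (an integral k-scheme admitting
a closed immersion into some projective space over k) and let a connected k-group scheme of finite
type G act on X. For a k-point g of G write t_g : X → X, x ↦ g · x. Then for every invertible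
O_X-module L and every invertible M with L ⊗ M ≅ O_X (an inverse of L), the invertible module
t_g^*(L) ⊗ M is algebraically equivalent to zero. Equivalently, the neutral component of the
automorphism group scheme of X acts trivially on the Néron–Severi group of X. -/
theorem result (k : Type u) [Field k] [IsAlgClosed k]
    (G X : Over (Spec (CommRingCat.of k))) [GrpObj G] [LocallyOfFiniteType G.hom] [QuasiCompact G.hom]
    [ConnectedSpace ↥G.left] [IsIntegral X.left] (hX : RelProj.IsHProjective X.hom)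
    (a : AlgGrp.Action G X) (g : 𝟙_ (Over (Spec (CommRingCat.of k))) ⟶ G)
    (L M : X.left.Modules) (hL : PicF.IsInvertible L) (hM : PicF.IsInvertible M)
    (hLM : Nonempty (CohB1.tensorMod L M ≅ Coh.structureModule X.left)) :
    @Pic13.IsAlgEquivZero k _ X.left ⟨X.hom⟩
      (CohB1.tensorMod ((Scheme.Modules.pullback (lift (toUnit X ≫ g) (𝟙 X) ≫ a.act).left).obj L) M) := by
  let α : X ⊗ G ⟶ X := lift (snd X G) (fst X G) ≫ a.act
  let m : PC (X ⊗ G).left := ev (pc L hL) α + ev (pc M hM) (fst X G)
  obtain ⟨Mm, hMm, hm⟩ := exists_rep m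
  refine ⟨G.left, G.hom, inferInstance, inferInstance, inferInstance, Mm, hMm, g.left, η[G].left,
    Over.w g, Over.w η[G], ?_⟩
  have hsl : ∀ (r : 𝟙_ _ ⟶ G) (hr : r.left ≫ G.hom = 𝟙 _), (lift (𝟙 X) (toUnit X ≫ r)).left =
      @Pic13.sliceAt k _ X.left ⟨X.hom⟩ G.left G.hom r.left hr := by
    intro r hr
    apply CategoryTheory.Limits.pullback.hom_ext
    · refine (congrArg Over.Hom.left (lift_fst (𝟙 X) (toUnit X ≫ r))).trans ?_
      exact (CategoryTheory.Limits.pullback.lift_fst _ _ _).symm
    · refine (congrArg Over.Hom.left (lift_snd (𝟙 X) (toUnit X ≫ r))).trans ?_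
      exact (CategoryTheory.Limits.pullback.lift_snd _ _ _).symm
  have hval : ∀ r : 𝟙_ _ ⟶ G, ev m (lift (𝟙 X) (toUnit X ≫ r)) =
      ev (pc L hL) (lift (toUnit X ≫ r) (𝟙 X) ≫ a.act) + pc M hM := by
    intro r
    have e1 : lift (𝟙 X) (toUnit X ≫ r) ≫ α = lift (toUnit X ≫ r) (𝟙 X) ≫ a.act := by
      simp only [α, ← Category.assoc, comp_lift, lift_snd, lift_fst]
    show pullP _ (ev (pc L hL) α + ev (pc M hM) (fst X G)) = _
    rw [map_add]
    show ev (ev (pc L hL) α) _ + ev (ev (pc M hM) (fst X G)) _ = _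
    rw [ev_comp, ev_comp, e1, lift_fst]
    exact congrArg (_ + ·) (pullP_id _)
  have hone : lift (toUnit X ≫ η[G]) (𝟙 X) ≫ a.act = 𝟙 X := by
    have h := congrArg (fun f => lift (toUnit X) (𝟙 X) ≫ f) a.one_act
    simpa using h
  have hiL := Groth.Agent.H11Ample.isInvertible_pullback (lift (toUnit X ≫ g) (𝟙 X) ≫ a.act).left hL
  have hS : ∀ (r : 𝟙_ _ ⟶ G) (hr : r.left ≫ G.hom = 𝟙 _),
      pc ((Scheme.Modules.pullback (@Pic13.sliceAt k _ X.left ⟨X.hom⟩ G.left G.hom r.left hr)).obj Mm)
        (Groth.Agent.H11Ample.isInvertible_pullback _ hMm) =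
      ev (pc L hL) (lift (toUnit X ≫ r) (𝟙 X) ≫ a.act) + pc M hM := by
    intro r hr
    refine (pullP_pc _ Mm hMm (Groth.Agent.H11Ample.isInvertible_pullback _ hMm)).trans ?_
    exact (congrArg₂ (fun f c => pullP f c) (hsl r hr).symm hm).trans (hval r)
  refine ⟨(pc_eq_iff (Groth.Agent.H11Ample.isInvertible_pullback _ hMm)
      (Groth.Agent.H11Ample.isInvertible_tensor hiL hM)).1 ?_,
    (pc_eq_iff (Groth.Agent.H11Ample.isInvertible_pullback _ hMm)
      Groth.Agent.H11Ample.isInvertible_structureModule).1 ?_⟩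
  · refine (hS g (Over.w g)).trans ?_
    rw [pc_tensor hiL hM, pullP_pc _ L hL]
    rfl
  · refine (hS η[G] (Over.w η[G])).trans ?_
    rw [hone, show ev (pc L hL) (𝟙 X) = pc L hL from pullP_id _,
      ← pc_tensor hL hM (Groth.Agent.H11Ample.isInvertible_tensor hL hM)]
    exact (pc_eq_iff _ Groth.Agent.H11Ample.isInvertible_structureModule).2 hLM

end Groth.Agent.S17474
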