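import Groth.Statements.S17476
import Groth.Agent.H23Para.Restrict
import Groth.Agent.S6039
import Groth.Agent.H29Ref.DualStalk
import Groth.Agent.H1CAlg.Serre
import Groth.Agent.H10Coh.Proper
-- import your own Groth.Agent.* helpers here

set_option autoImplicit false
set_option linter.style.haveILetI false
set_option backward.isDefEq.respectTransparency false
universe u
open CategoryTheory AlgebraicGeometry Opposite
open Coh

namespace Groth.Agent.S17476

section
open AlgebraicGeometry CategoryTheory TopologicalSpace

/-- The structure module has depth at least two at the points of height at least two of a normal domain. -/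
theorem two_le_depth (R : Type u) [CommRing R] [IsNoetherianRing R] [IsDomain R] [IsIntegrallyClosed R]
    (p : Spec (CommRingCat.of R)) (h : (2 : ℕ∞) ≤ p.asIdeal.height) :
    (2 : ℕ∞) ≤ LocCoh.depth ((Spec (CommRingCat.of R)).presheaf.stalk p)
      ((Coh.structureModule (Spec (CommRingCat.of R))).presheaf.stalk p) := by
  let X := Spec (CommRingCat.of R)
  rw [← H4Depth.depth_congr (H29Ref.unitEquiv p)]
  haveI : IsIntegral X := inferInstance
  haveI : IsDomain (X.presheaf.stalk p) := inferInstance
  letI : Algebra R (X.presheaf.stalk p) := StructureSheaf.stalkAlgebra (R := R) p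
  haveI : IsLocalization.AtPrime (X.presheaf.stalk p) p.asIdeal :=
    StructureSheaf.IsLocalization.to_stalk (R := R) p
  haveI : IsIntegrallyClosed (X.presheaf.stalk p) :=
    isIntegrallyClosed_of_isLocalization (R := R) (X.presheaf.stalk p) p.asIdeal.primeCompl
      p.asIdeal.primeCompl_le_nonZeroDivisors
  haveI : IsNoetherianRing (X.presheaf.stalk p) :=
    IsLocalization.isNoetherianRing p.asIdeal.primeCompl _ inferInstance
  refine H1CAlg.depth_ge_two_of_isIntegrallyClosed ?_
  rw [IsLocalization.AtPrime.ringKrullDim_eq_height p.asIdeal (X.presheaf.stalk p)]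
  exact WithBot.coe_le_coe.2 h

end


/-- Let R be a Noetherian ring, Z = Spec R, M a finitely generated R-module with associated
quasi-coherent sheaf M~ (so that Hom_R(M, R) = Hom_Z(M~, O_Z)), and Z₀ ⊆ Z an open subscheme. (1) If
the restriction of functions Γ(Z, O_Z) → Γ(Z₀, O_Z) is injective, then the restriction map Hom_Z(M~,
O_Z) → Hom_{Z₀}(M~|Z₀, O_{Z₀}) is injective. (2) If R is an integrally closed domain and the closed
complement of Z₀ has codimension at least 2 (every prime ideal outside Z₀ has height at least 2),
then that restriction map is bijective. (The published first assertion assumes only that Z₀ is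
dense; for R = k[x,y]/(x², xy), M = R and Z₀ the locus y ≠ 0, which is dense, multiplication by x is
a nonzero element of Hom_R(M, R) restricting to zero, so schematic density is what is needed and
what the printed argument uses. The published second assertion is for a normal irreducible affine
variety; any Noetherian integrally closed domain is allowed here.) -/
theorem result (R : Type u) [CommRing R] [IsNoetherianRing R]
    (M : ModuleCat.{u} (CommRingCat.of R)) [Module.Finite R M] (U : (Spec (CommRingCat.of R)).Opens) :
    (Function.Injective ((Spec (CommRingCat.of R)).presheaf.map (homOfLE (le_top : U ≤ ⊤)).op) →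
      Function.Injective (fun φ : AlgebraicGeometry.tilde M ⟶ Coh.structureModule (Spec (CommRingCat.of R)) =>
        (Scheme.Modules.restrictFunctor U.ι).map φ)) ∧
    (IsDomain R → IsIntegrallyClosed R → (∀ p : PrimeSpectrum R, p ∉ U → (2 : ℕ∞) ≤ p.asIdeal.height) →
      Function.Bijective (fun φ : AlgebraicGeometry.tilde M ⟶ Coh.structureModule (Spec (CommRingCat.of R)) =>
        (Scheme.Modules.restrictFunctor U.ι).map φ)) := by
  refine ⟨fun hinj => fun φ ψ h => ?_, fun hd hi hh => ?_⟩
  · refine ((AlgebraicGeometry.tilde.adjunction (R := CommRingCat.of R)).homEquiv M _).injective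
      (ModuleCat.hom_ext (LinearMap.ext fun m => ?_))
    have key : ∀ t, φ.app ⊤ t = ψ.app ⊤ t := by
      intro t
      apply hinj
      have e : U.ι ''ᵁ ⊤ = U := U.ι_image_top
      have h1 : φ.app (U.ι ''ᵁ ⊤) = ψ.app (U.ι ''ᵁ ⊤) := congrArg (fun z => Scheme.Modules.Hom.app z ⊤) h
      rw [e] at h1
      exact (congr($(φ.mapPresheaf.naturality (homOfLE (le_top : U ≤ ⊤)).op) t)).symm.trans
        ((congr($h1 ((AlgebraicGeometry.tilde M).presheaf.map (homOfLE (le_top : U ≤ ⊤)).op t))).trans
          (congr($(ψ.mapPresheaf.naturality (homOfLE (le_top : U ≤ ⊤)).op) t)))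
    exact key _
  · haveI : AlgebraicGeometry.IsLocallyNoetherian (Spec (CommRingCat.of R)) := inferInstance
    refine Groth.Agent.H23Para.bijective_restrict_map U.ι (AlgebraicGeometry.tilde M) ?_
    intro V
    rw [Scheme.Opens.opensRange_ι]
    exact (Groth.Agent.S6039.result _ U _ (Groth.Agent.H10Coh.isCoh_structureModule' _)).1
      (fun p hp => two_le_depth R p (hh p hp)) V

end Groth.Agent.S17476
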