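import Groth.Statements.S1748
import Groth.Agent.H4PolyInj.Basic
import Groth.Agent.H4DR.Ext.InjAmp

set_option autoImplicit false
universe u
open CategoryTheory
open scoped TensorProduct Polynomial
attribute [local instance] HasDerivedCategory.standard
open InjHull

namespace Groth.Agent.S1748

/-- Let A be a Noetherian ring and E an injective A-module. Then A[x] ⊗_A E, as an object of D(A[x]) in
degree 0, has injective amplitude in [0, 1]: it is quasi-isomorphic to a complex of injective
A[x]-modules concentrated in degrees 0 and 1. In particular it has finite injective dimension. -/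
theorem result (A : Type u) [CommRing A] [IsNoetherianRing A] (E : Type u) [AddCommGroup E] [Module A E] [Module.Injective A E] : DRing.HasInjAmplitudeIn A[X] 0 1 (Dual.inD A[X] (A[X] ⊗[A] E)) := by
  classical
  let V := A[X] ⊗[A] E
  let e : V ≃ₗ[A] (ℕ →₀ E) :=
    (TensorProduct.congr (Polynomial.basisMonomials A).repr (LinearEquiv.refl A E)).trans
      (TensorProduct.finsuppScalarLeft A E ℕ)
  haveI : Module.Injective A V :=
    (Module.Baer.of_equiv e.symm (Groth.Agent.H4PolyInj.baer_finsupp A E)).injective
  haveI : Module.Injective A[X] (Groth.Agent.H4PolyInj.Coind A V) :=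
    (Groth.Agent.H4PolyInj.baer_coind (A := A) V).injective
  let H := ModuleCat.of A[X] (Groth.Agent.H4PolyInj.Coind A V)
  let S : ShortComplex (ModuleCat.{u} A[X]) := ShortComplex.mk (X₁ := ModuleCat.of A[X] V) (X₂ := H) (X₃ := H)
    (ModuleCat.ofHom (Groth.Agent.H4PolyInj.ι (A := A) V)) (ModuleCat.ofHom (Groth.Agent.H4PolyInj.δ V))
    (ModuleCat.hom_ext (Groth.Agent.H4PolyInj.exact_ι_δ V).linearMap_comp_eq_zero)
  have hS : S.ShortExact := ModuleCat.shortComplex_shortExact S (Groth.Agent.H4PolyInj.exact_ι_δ V)
    (Groth.Agent.H4PolyInj.ι_injective V) (Groth.Agent.H4PolyInj.δ_surjective V)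
  have hH : DRing.HasInjAmplitudeIn A[X] 0 0 (Dual.inD A[X] H) := by
    refine ⟨(HomologicalComplex.single (ModuleCat.{u} A[X]) (ComplexShape.up ℤ) 0).obj H, fun i hi =>
      HomologicalComplex.isZero_single_obj_X (ComplexShape.up ℤ) 0 H i (by omega), fun i => ?_,
      ⟨((DerivedCategory.singleFunctorIsoCompQ (ModuleCat.{u} A[X]) 0).app H).symm⟩⟩
    by_cases h : i = 0
    · subst h
      haveI : Injective H := Module.injective_object_of_injective_module A[X] (Groth.Agent.H4PolyInj.Coind A V)
      haveI := Injective.of_iso (HomologicalComplex.singleObjXSelf (ComplexShape.up ℤ) 0 H).symm ‹Injective H›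
      exact Module.injective_module_of_injective_object A[X] _
    · haveI := (HomologicalComplex.isZero_single_obj_X (ComplexShape.up ℤ) 0 H i h).injective
      exact Module.injective_module_of_injective_object A[X] _
  refine Groth.Agent.H4DR.Ext.injAmp_of_vanish _ 0 1 fun I i hi => ?_
  let N := Dual.inD A[X] (A[X] ⧸ I)
  have hv : ∀ j : ℤ, j ≠ 0 → Subsingleton (N ⟶ (Dual.inD A[X] H)⟦j⟧) := fun j hj =>
    Groth.Agent.H4DR.Ext.subsingleton_inD_of_injAmp hH (A[X] ⧸ I) (by omega)
  have hT := Pretriangulated.Triangle.shift_distinguished _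
    (Pretriangulated.inv_rot_of_distTriang _ hS.singleTriangle_distinguished) i
  refine subsingleton_of_forall_eq 0 fun f => ?_
  obtain ⟨g, hg⟩ := Pretriangulated.Triangle.coyoneda_exact₂ _ hT f
    (@Subsingleton.elim _ (hv i (by omega)) _ _)
  let c := ((shiftFunctorAdd' (Dual.D A[X]) (-1 : ℤ) i (i - 1) (by omega)).app (Dual.inD A[X] H)).symm
  have hgc : g ≫ c.hom = 0 := @Subsingleton.elim _ (hv (i - 1) (by omega)) _ _
  have : g = 0 := (cancel_mono c.hom).1 (hgc.trans Limits.zero_comp.symm)
  rw [hg, this]
  exact Limits.zero_comp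

end Groth.Agent.S1748
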