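import Groth.Statements.S17482
import Groth.Agent.H28Surf.DivisorH1
import Groth.Agent.H27Weil.Geometry

set_option autoImplicit false
universe u
open CategoryTheory CategoryTheory.Limits AlgebraicGeometry
open Surf

namespace Groth.Agent.S17482

/-- Let k be an algebraically closed field of characteristic zero and X a smooth projective surface over
k (an integral scheme of dimension two with all local rings regular, admitting a closed immersion
into some P^n_k over k) such that H^1(X, O_X) = 0. Let D be a nonempty closed subscheme of X, given
by a quasi-coherent ideal sheaf whose associated O_X-module I_D is invertible (a nonzero effective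
divisor). If H^1(X, I_D) = 0, then D is connected. (The published statement is for rational
surfaces; this row assumes only H^1(X, O_X) = 0. Since H^1(X, I_D) depends only on the isomorphism
class of I_D, the same holds for every effective divisor linearly equivalent to D.) -/
theorem result
    (k : Type u) [Field k] [IsAlgClosed k] [CharZero k]
    (X : Scheme.{u}) [X.Over (Spec (CommRingCat.of k))] [AlgebraicGeometry.IsIntegral X]
    (hdim : topologicalKrullDim X = 2) (hreg : ∀ x : X, IsRegularLocalRing (X.presheaf.stalk x))
    (hproj : ∃ (n : ℕ) (ι : X ⟶ CohB1.ProjSpace n k), IsClosedImmersion ι ∧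
      ι ≫ CohB1.ProjSpace.toSpec n k = (X ↘ (Spec (CommRingCat.of k))))
    (hH1 : Subsingleton (Coh.HH X (Coh.structureModule X) 1))
    (D : X.IdealSheafData) (hD : PicF.IsInvertible (ClSub.idealMod D)) (hne : Nonempty ↥D.subscheme)
    (hvan : Subsingleton (Coh.HH X (ClSub.idealMod D) 1)) :
    ConnectedSpace ↥D.subscheme := by
  haveI : IsProper (X ↘ Spec (CommRingCat.of k)) := by
    obtain ⟨n, ι, hι, he⟩ := hproj
    haveI := hι
    rw [← he]; infer_instance
  let f := X ↘ Spec (CommRingCat.of k)
  haveI := hne
  refine @ConnectedSpace.mk _ _ (H28Surf.preconnectedSpace_of_surjective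
    (k := k) (Coh.toGlobal (D.subschemeι ≫ f)) fun b => ?_) hne
  obtain ⟨a, ha⟩ := H28Surf.surjective_appTop_of_Hm D (H28Surf.surjective_of_subsingleton D hvan) b
  obtain ⟨c, hc⟩ := H28Surf.surjective_toGlobal f a
  refine ⟨c, ?_⟩
  subst hc
  refine Eq.trans ?_ ha
  show (D.subschemeι ≫ f).appTop _ = D.subschemeι.appTop (f.appTop _)
  rw [Scheme.Hom.comp_appTop]
  rfl

end Groth.Agent.S17482
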