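import Groth.Statements.S17483
import Groth.Agent.H28Surf.DivisorH1
import Groth.Agent.H27Weil.Geometry

set_option autoImplicit false
universe u
open CategoryTheory CategoryTheory.Limits AlgebraicGeometry
open Surf

namespace Groth.Agent.S17483

/-- Let k be an algebraically closed field of characteristic zero and X a smooth projective surface over
k (an integral scheme of dimension two with all local rings regular, admitting a closed immersion
into some P^n_k over k) such that H^1(X, O_X) = 0. Let D be a closed subscheme of X, given by a
quasi-coherent ideal sheaf whose associated O_X-module I_D is invertible (an effective divisor). If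
D is connected and reduced, then H^1(X, I_D) = 0. (The published statement asserts H^1(X, I_D) = 0
as soon as the linear system of D contains a connected curve, without reducedness; that fails: on
the blow-up of the projective plane at a point, with exceptional curve E, the divisor D = 2E is
connected and is the only member of its linear system, yet H^0(O_{2E}) is three-dimensional, so
H^1(X, I_{2E}) is two-dimensional. The published statement is for rational surfaces; this row
assumes H^1(X, O_X) = 0 instead.) -/
theorem result
    (k : Type u) [Field k] [IsAlgClosed k] [CharZero k]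
    (X : Scheme.{u}) [X.Over (Spec (CommRingCat.of k))] [AlgebraicGeometry.IsIntegral X]
    (hdim : topologicalKrullDim X = 2) (hreg : ∀ x : X, IsRegularLocalRing (X.presheaf.stalk x))
    (hproj : ∃ (n : ℕ) (ι : X ⟶ CohB1.ProjSpace n k), IsClosedImmersion ι ∧
      ι ≫ CohB1.ProjSpace.toSpec n k = (X ↘ (Spec (CommRingCat.of k))))
    (hH1 : Subsingleton (Coh.HH X (Coh.structureModule X) 1))
    (D : X.IdealSheafData) (hD : PicF.IsInvertible (ClSub.idealMod D))
    [ConnectedSpace ↥D.subscheme] [IsReduced D.subscheme] :
    Subsingleton (Coh.HH X (ClSub.idealMod D) 1) := by
  haveI : IsProper (X ↘ Spec (CommRingCat.of k)) := by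
    obtain ⟨n, ι, hι, he⟩ := hproj
    haveI := hι
    rw [← he]; infer_instance
  let f := X ↘ Spec (CommRingCat.of k)
  refine H28Surf.subsingleton_of_surjective D hH1 (H28Surf.Hm_surjective_of_appTop D fun b => ?_)
  obtain ⟨c, hc⟩ := H28Surf.surjective_toGlobal (D.subschemeι ≫ f) b
  refine ⟨Coh.toGlobal f c, ?_⟩
  subst hc
  show D.subschemeι.appTop (f.appTop _) = (D.subschemeι ≫ f).appTop _
  rw [Scheme.Hom.comp_appTop]
  rfl

end Groth.Agent.S17483
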