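import Groth.Statements.S17487
-- import your own Groth.Agent.* helpers here

set_option autoImplicit false
set_option linter.unusedVariables false
set_option linter.style.haveILetI false
universe u
open CategoryTheory CategoryTheory.Limits AlgebraicGeometry
open Coherent

namespace Groth.Agent.S17487

section
open CategoryTheory.Abelian

variable {C : Type*} [Category C] [Abelian C] [HasExt.{u} C] {m : ℕ} {G : Fin m → C}

theorem sub_left {A : C} (e : A ≅ ∐ G) (Y : C) (p : ℕ) (h : ∀ t, Subsingleton (Ext (G t) Y p)) :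
    Subsingleton (Ext A Y p) := by
  haveI := HasBiproduct.of_hasCoproduct G
  let e' : A ≅ (biproduct.bicone G).pt := e ≪≫ (biproduct.isoCoproduct G).symm
  haveI := h
  haveI := (Ext.biproductAddEquiv (biproduct.isBilimit G) Y p).toEquiv.subsingleton
  refine ⟨fun a b => ?_⟩
  have h2 : (Ext.mk₀ e'.inv).comp a (zero_add p) = (Ext.mk₀ e'.inv).comp b (zero_add p) := Subsingleton.elim _ _
  have h3 := congrArg (fun z => (Ext.mk₀ e'.hom).comp z (zero_add p)) h2
  simpa [← Ext.comp_assoc_of_second_deg_zero, Ext.mk₀_comp_mk₀] using h3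

theorem sub_right {A : C} (e : A ≅ ∐ G) (X : C) (p : ℕ) (h : ∀ t, Subsingleton (Ext X (G t) p)) :
    Subsingleton (Ext X A p) := by
  haveI := HasBiproduct.of_hasCoproduct G
  let e' : A ≅ (biproduct.bicone G).pt := e ≪≫ (biproduct.isoCoproduct G).symm
  haveI := h
  haveI := (Ext.addEquivBiproduct X (biproduct.isBilimit G) p).toEquiv.subsingleton
  refine ⟨fun a b => ?_⟩
  have h2 : a.comp (Ext.mk₀ e'.hom) (add_zero p) = b.comp (Ext.mk₀ e'.hom) (add_zero p) := Subsingleton.elim _ _
  have h3 := congrArg (fun z => z.comp (Ext.mk₀ e'.inv) (add_zero p)) h2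
  simpa [Ext.mk₀_comp_mk₀] using h3

end


/-- Let k be an algebraically closed field of characteristic zero and Y a smooth projective variety over
k (an integral scheme, smooth over k, with a closed immersion into some P^n_k over k). Let E_1, …,
E_n be coherent O_Y-modules forming a strong exceptional sequence, expressed through Ext groups in
the category of O_Y-modules (the Ext instance is the stated hypothesis; it holds): End(E_i) is
one-dimensional over k, Ext^p(E_i, E_j) = 0 for all p when i > j, and Ext^p(E_i, E_j) = 0 for all i,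
j when p ≥ 1 (indices here run over 0, …, n-1). Let d ≤ n and let 0 → K → M → F → 0 be a short exact
sequence of O_Y-modules in which K is isomorphic to a finite direct sum of copies of members E_i
with i < d and M to a finite direct sum of copies of members E_i with i ≥ d (a two-term resolution
of F by the sequence, split at d). Then Ext^p(E_i, F) = 0 for every i and every p ≥ 1, and Ext^p(F,
E_i) = 0 for every i < d and every p ≠ 1. (The published criterion also asks that the sequence
generate the derived category, states the first vanishing only for i ≥ d, and adds conditions on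
terms of the associated filtration and cofiltration of F, which are not restated here; the
vanishings above follow from the resolution alone.) -/
theorem result
    (k : Type u) [Field k] [IsAlgClosed k] [CharZero k]
    (Y : Scheme.{u}) [Y.Over (Spec (CommRingCat.of k))] [AlgebraicGeometry.IsIntegral Y]
    [Smooth (Y ↘ Spec (CommRingCat.of k))]
    (hproj : ∃ (N : ℕ) (ι : Y ⟶ CohB1.ProjSpace N k), IsClosedImmersion ι ∧
      ι ≫ CohB1.ProjSpace.toSpec N k = (Y ↘ (Spec (CommRingCat.of k))))
    [HasExt.{u} Y.Modules]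
    (n d : ℕ) (hdn : d ≤ n) (E : Fin n → Y.Modules) (hEcoh : ∀ i, Coh.IsCoh (E i))
    (hend : ∀ i, Module.finrank k (E i ⟶ E i) = 1)
    (hexc : ∀ i j : Fin n, j < i → ∀ p : ℕ, Subsingleton (Abelian.Ext (E i) (E j) p))
    (hstr : ∀ (i j : Fin n) (p : ℕ), 1 ≤ p → Subsingleton (Abelian.Ext (E i) (E j) p))
    (S : ShortComplex Y.Modules) (hS : S.ShortExact)
    (m₁ : ℕ) (c₁ : Fin m₁ → Fin n) (hc₁ : ∀ t, (c₁ t : ℕ) < d) (e₁ : S.X₁ ≅ ∐ fun t => E (c₁ t))
    (m₂ : ℕ) (c₂ : Fin m₂ → Fin n) (hc₂ : ∀ t, d ≤ (c₂ t : ℕ)) (e₂ : S.X₂ ≅ ∐ fun t => E (c₂ t)) :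
    (∀ (i : Fin n) (p : ℕ), 1 ≤ p → Subsingleton (Abelian.Ext (E i) S.X₃ p)) ∧
      (∀ i : Fin n, (i : ℕ) < d → ∀ p : ℕ, p ≠ 1 → Subsingleton (Abelian.Ext S.X₃ (E i) p)) := by
  refine ⟨fun i p hp => ?_, fun i hi p hp => ?_⟩
  · haveI := sub_right e₂ (E i) p fun t => hstr i (c₂ t) p hp
    haveI := sub_right e₁ (E i) (p + 1) fun t => hstr i (c₁ t) (p + 1) (by omega)
    refine subsingleton_of_forall_eq 0 fun x => ?_
    obtain ⟨y, rfl⟩ := Abelian.Ext.covariant_sequence_exact₃ (E i) hS x rfl (Subsingleton.elim _ _)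
    rw [Subsingleton.elim y 0, Abelian.Ext.zero_comp]
  · have hM : ∀ q, Subsingleton (Abelian.Ext S.X₂ (E i) q) := fun q =>
      sub_left e₂ (E i) q fun t => hexc (c₂ t) i (Fin.lt_def.2 (lt_of_lt_of_le hi (hc₂ t))) q
    haveI := hM p
    refine subsingleton_of_forall_eq 0 fun x => ?_
    have h0 : (Abelian.Ext.mk₀ S.g).comp x (zero_add p) = 0 := Subsingleton.elim _ _
    match p, hp with
    | 0, _ =>
      haveI := hS.epi_g
      exact Abelian.Ext.precomp_mk₀_injective_of_epi (E i) S.g (h0.trans (map_zero _).symm)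
    | q + 2, _ =>
      haveI := sub_left e₁ (E i) (q + 1) fun t => hstr (c₁ t) i (q + 1) (by omega)
      obtain ⟨y, rfl⟩ := Abelian.Ext.contravariant_sequence_exact₃ hS (E i) x h0
        (show 1 + (q + 1) = q + 2 by omega)
      rw [Subsingleton.elim y 0, Abelian.Ext.comp_zero]

end Groth.Agent.S17487
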