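import Groth.Statements.S17498
import Groth.Agent.H27SymProd.Decomp
import Groth.Agent.H27K0Var.Partition

set_option autoImplicit false
universe u
open RelQuot

namespace Groth.Agent.S17498

open CategoryTheory CategoryTheory.Limits AlgebraicGeometry in
/-- Let k be an algebraically closed field of characteristic zero, Y a scheme of finite type over k, and
f : X → Y, f′ : X′ → Y morphisms of finite type. For every n ≥ 0 let (S_n, q_n, g_n) be an n-th
symmetric power of X over Y (q_n : X ×_Y ⋯ ×_Y X → S_n a quotient of the n-fold fibre power by the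
symmetric group permuting the factors: affine, invariant, with the sections of S_n the invariant
sections; g_n : S_n → Y its structure map, of finite type; for n = 0 this forces S_0 ≅ Y), and
likewise (S′_n, q′_n, g′_n) for X′ over Y and (T_n, Q_n, h_n) for the disjoint union X ⊔ X′ over Y
(structure map f on X and f′ on X′). Then the relative motivic zeta functions multiply: in the ring
of power series with coefficients in the Grothendieck ring of finite-type Y-schemes (multiplication
given by fibre product over Y), the series with n-th coefficient [T_n → Y] equals the product of the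
series with n-th coefficients [S_n → Y] and [S′_n → Y]. The published proposition asserts that the
motivic zeta function defines a pre-lambda structure on the whole Grothendieck ring; this row states
the multiplicativity on disjoint unions, which is the part established there, and it does not assume
f, f′ quasi-projective (that hypothesis only serves the existence of the symmetric powers, which are
taken as data here). -/
theorem result
    (k : Type u) [Field k] [IsAlgClosed k] [CharZero k] {X X' Y : Scheme.{u}}
    (pY : Y ⟶ Spec (CommRingCat.of k)) [LocallyOfFiniteType pY] [QuasiCompact pY]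
    (f : X ⟶ Y) [LocallyOfFiniteType f] [QuasiCompact f]
    (f' : X' ⟶ Y) [LocallyOfFiniteType f'] [QuasiCompact f']
    (Sy : ℕ → Scheme.{u}) (q : ∀ n, SymProd.fibPow f n ⟶ Sy n) (g : ∀ n, Sy n ⟶ Y)
    (hS : ∀ n, SymProd.IsSymProd f n (q n) (g n))
    [∀ n, LocallyOfFiniteType (g n)] [∀ n, QuasiCompact (g n)]
    (Sy' : ℕ → Scheme.{u}) (q' : ∀ n, SymProd.fibPow f' n ⟶ Sy' n) (g' : ∀ n, Sy' n ⟶ Y)
    (hS' : ∀ n, SymProd.IsSymProd f' n (q' n) (g' n))
    [∀ n, LocallyOfFiniteType (g' n)] [∀ n, QuasiCompact (g' n)]
    (T : ℕ → Scheme.{u}) (Q : ∀ n, SymProd.fibPow (coprod.desc f f') n ⟶ T n) (h : ∀ n, T n ⟶ Y)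
    (hT : ∀ n, SymProd.IsSymProd (coprod.desc f f') n (Q n) (h n))
    [∀ n, LocallyOfFiniteType (h n)] [∀ n, QuasiCompact (h n)] :
    PowerSeries.mk (fun n => K0Var.cl (h n)) =
      PowerSeries.mk (fun n => K0Var.cl (g n)) * PowerSeries.mk (fun n => K0Var.cl (g' n)) := by
  classical
  ext n
  rw [PowerSeries.coeff_mk, PowerSeries.coeff_mul,
    Finset.Nat.sum_antidiagonal_eq_sum_range_succ
      (fun i j => PowerSeries.coeff i (PowerSeries.mk fun n => K0Var.cl (g n)) *
        PowerSeries.coeff j (PowerSeries.mk fun n => K0Var.cl (g' n))) n]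
  simp only [PowerSeries.coeff_mk]
  have hsur := Groth.Agent.H27Quot.surjective (hT n).isQuot
  let φ : T n → ℕ := fun t => (Groth.Agent.H27SymProd.coordL (Function.surjInv hsur t)).card
  have hφ : ∀ x, φ (Q n x) = (Groth.Agent.H27SymProd.coordL x).card := by
    intro x
    obtain ⟨σ, hσ⟩ := H18Quot.exists_smul_eq (hT n).isQuot (Function.surjInv_eq hsur (Q n x))
    conv_rhs => rw [← hσ]
    rw [SymProd.permActU_hom, Groth.Agent.H27SymProd.coordL_perm, Finset.card_map]
  let O : ℕ → (T n).Opens := fun c => ⟨φ ⁻¹' {c}, by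
    rw [← (H18Quot.isQuotientMap (hT n).isQuot).isOpen_preimage]
    convert Groth.Agent.H27SymProd.isOpen_card_coordL (F := coprod.desc f f') (n := n) c using 1
    ext x
    simp [hφ]⟩
  have hc : ∀ t, ∃ c ∈ Finset.range (n + 1), t ∈ O c := fun t =>
    ⟨φ t, Finset.mem_range.2 (Nat.lt_succ_of_le ((Finset.card_le_univ _).trans_eq (Fintype.card_fin n))), rfl⟩
  have hd : ∀ t c c', t ∈ O c → t ∈ O c' → c = c' := fun t c c' (e : φ t = c) (e' : φ t = c') => e.symm.trans e'
  haveI : ∀ c, IsClosedImmersion (O c).ι := Groth.Agent.H27K0Var.isClosedImmersion_of_partition _ O hc hd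
  rw [Groth.Agent.H27K0Var.cl_eq_sum_partition _ (h n) O hc hd]
  refine Finset.sum_congr rfl fun c hcn => ?_
  obtain ⟨j, rfl⟩ := Nat.exists_eq_add_of_le (Nat.lt_succ_iff.1 (Finset.mem_range.1 hcn))
  rw [Nat.add_sub_cancel_left, ← K0Var.cl_mul]
  obtain ⟨e, he⟩ := Groth.Agent.H27SymProd.exists_iso_piece pY f f' c j (q c) (g c) (hS c) (q' j) (g' j) (hS' j)
    (coprod.desc f f') (coprod.inl_desc f f') (coprod.inr_desc f f') (Q (c + j)) (h (c + j)) (hT (c + j)) (O c)
    (fun x => (Iff.of_eq (congrArg (fun a => a = c) (hφ x))))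
  exact K0Var.cl_congr _ _ e he

end Groth.Agent.S17498
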