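import Groth.Statements.S1750
import Groth.Agent.H4Matlis.BaseChangeHull

set_option autoImplicit false
universe u
open InjHull

namespace Groth.Agent.S1750

/-- Let R → S be a flat local homomorphism of Noetherian local rings with m_R S = m_S inducing a
bijection on residue fields. If κ_S → E is an injective hull of the residue field of S over S, then
E regarded as an R-module is an injective hull of the residue field of R (for a suitable R-linear
map κ_R → E). -/
theorem result (R S : Type u) [CommRing R] [CommRing S] [IsLocalRing R] [IsLocalRing S] [IsNoetherianRing R] [IsNoetherianRing S] [Algebra R S] [IsLocalHom (algebraMap R S)] [Module.Flat R S] (hm : (IsLocalRing.maximalIdeal R).map (algebraMap R S) = IsLocalRing.maximalIdeal S) (hk : Function.Bijective (IsLocalRing.ResidueField.map (algebraMap R S))) (E : Type u) [AddCommGroup E] [Module S E] [Module R E] [IsScalarTower R S E] (f : IsLocalRing.ResidueField S →ₗ[S] E) (hf : InjHull.IsInjectiveHull f) : ∃ g : IsLocalRing.ResidueField R →ₗ[R] E, InjHull.IsInjectiveHull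 g := by
  have hkill : ∀ (n : ℕ) (e : E), e ∈ LocCoh.torsionBy (IsLocalRing.maximalIdeal R ^ n) E ↔
      e ∈ LocCoh.torsionBy (IsLocalRing.maximalIdeal S ^ n) E := by
    intro n e
    rw [Submodule.mem_torsionBySet_iff, Submodule.mem_torsionBySet_iff]
    constructor
    · intro h s
      have hle : IsLocalRing.maximalIdeal S ^ n ≤ LinearMap.ker (LinearMap.toSpanSingleton S E e) := by
        rw [← hm, ← Ideal.map_pow, Ideal.map_le_iff_le_comap]
        intro a ha
        rw [Ideal.mem_comap, LinearMap.mem_ker, LinearMap.toSpanSingleton_apply, algebraMap_smul]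
        exact h ⟨a, ha⟩
      simpa using hle s.2
    · intro h a
      rw [← algebraMap_smul S (a : R) e]
      exact h ⟨_, by rw [← hm, ← Ideal.map_pow]; exact Ideal.mem_map_of_mem _ a.2⟩
  have hone : Module.length (IsLocalRing.ResidueField R) (IsLocalRing.ResidueField S) = 1 :=
    ((LinearEquiv.ofBijective (Algebra.linearMap (IsLocalRing.ResidueField R) (IsLocalRing.ResidueField S)) hk).length_eq).symm.trans
      (Module.length_eq_one _ _)
  have hlenS : ∀ M : Submodule S E, Module.length R M = Module.length S M := fun M => by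
    rw [IsLocalRing.length_restrictScalars R S M, hone, mul_one]
  refine S11174.result R E ?_ ?_ (fun n => IsLocalRing.maximalIdeal R ^ n) (fun a b hab => Ideal.pow_le_pow_right hab)
    (fun n => ⟨n, le_rfl⟩) (fun k => ⟨k, le_rfl⟩) fun n => ?_
  · intro e
    obtain ⟨n, hn⟩ := Groth.Agent.H4Matlis.isPowerTorsion hf e
    exact ⟨n, fun a ha => (Submodule.mem_torsionBySet_iff _ _).1 ((hkill n e).2 ((Submodule.mem_torsionBySet_iff _ _).2 fun s => hn s s.2)) ⟨a, ha⟩⟩
  · have h1 : f 1 ∈ LocCoh.torsionBy (IsLocalRing.maximalIdeal S) E := (Submodule.mem_torsionBySet_iff _ _).2 fun s => by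
      rw [← map_smul, Algebra.smul_def, IsLocalRing.ResidueField.algebraMap_eq,
        (IsLocalRing.residue_eq_zero_iff _).2 s.2, zero_mul, map_zero]
    have h1' : f 1 ∈ LocCoh.torsionBy (IsLocalRing.maximalIdeal R) E := by
      simpa using (hkill 1 (f 1)).2 (by simpa using h1)
    refine Groth.Agent.H4Matlis.nonempty_hom_residue_equiv E (f 1) h1' (fun h => one_ne_zero (α := IsLocalRing.ResidueField S) (hf.injective (h.trans (map_zero f).symm))) fun y hy => ?_
    by_cases hy0 : y = 0
    · exact ⟨0, by rw [zero_smul, hy0]⟩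
    obtain ⟨s, ⟨c, hc⟩, hs0⟩ := H4Inj.exists_smul_mem_range hf.toIsEssentialInj hy0
    have hyS : y ∈ LocCoh.torsionBy (IsLocalRing.maximalIdeal S) E := by
      simpa using (hkill 1 y).1 (by simpa using hy)
    have hsu : IsUnit s := IsLocalRing.notMem_maximalIdeal.1 fun hs => hs0 ((Submodule.mem_torsionBySet_iff _ _).1 hyS ⟨s, hs⟩)
    obtain ⟨w, rfl⟩ := IsLocalRing.residue_surjective c
    obtain ⟨r, hr⟩ := hk.2 (IsLocalRing.residue S (↑hsu.unit⁻¹ * w))
    obtain ⟨r, rfl⟩ := IsLocalRing.residue_surjective r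
    rw [IsLocalRing.ResidueField.map_residue] at hr
    refine ⟨r, ?_⟩
    rw [← algebraMap_smul S r (f 1), ← map_smul, Algebra.smul_def, IsLocalRing.ResidueField.algebraMap_eq, mul_one, hr,
      ← mul_one (IsLocalRing.residue S (↑hsu.unit⁻¹ * w)), ← IsLocalRing.ResidueField.algebraMap_eq, ← Algebra.smul_def,
      mul_smul, map_smul]
    have h2 : w • (1 : IsLocalRing.ResidueField S) = IsLocalRing.residue S w := (Algebra.smul_def w (1 : IsLocalRing.ResidueField S)).trans (mul_one _)
    rw [h2, hc, smul_smul, IsUnit.val_inv_mul, one_smul]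
  · have hfl : IsFiniteLength S (S ⧸ IsLocalRing.maximalIdeal S ^ n) := by
      refine isFiniteLength_iff_isNoetherian_isArtinian.mpr ⟨inferInstance, ?_⟩
      refine (Groth.Agent.H4Matlis.isArtinian_iff _).mpr ⟨fun w => ⟨n, fun c hc => ?_⟩, Module.Finite.of_restrictScalars_finite S _ _⟩
      obtain ⟨w, rfl⟩ := Ideal.Quotient.mk_surjective w
      show Ideal.Quotient.mk _ (c • w) = 0
      rw [Ideal.Quotient.eq_zero_iff_mem, smul_eq_mul]
      exact Ideal.mul_mem_right _ _ hc
    rw [(Groth.Agent.H4Matlis.homQuotEquivTorsionBy _ E).length_eq,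
      show LocCoh.torsionBy (IsLocalRing.maximalIdeal R ^ n) E = (LocCoh.torsionBy (IsLocalRing.maximalIdeal S ^ n) E).restrictScalars R from
        Submodule.ext (hkill n)]
    refine Eq.trans ?_ (hlenS (LocCoh.torsionBy (IsLocalRing.maximalIdeal S ^ n) E)).symm
    rw [← (Groth.Agent.H4Matlis.homQuotEquivTorsionBy _ E).length_eq, Groth.Agent.H4Matlis.length_hom_eq_length hf hfl, ← hm, ← Ideal.map_pow,
      Groth.Agent.H4Matlis.length_quot_map R S, hm,
      show Module.length S (S ⧸ IsLocalRing.maximalIdeal S) = 1 from by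
        haveI : IsSimpleModule S (S ⧸ IsLocalRing.maximalIdeal S) := isSimpleModule_iff_quot_maximal.2 ⟨_, IsLocalRing.maximalIdeal.isMaximal S, ⟨LinearEquiv.refl S _⟩⟩
        exact Module.length_eq_one _ _, mul_one]

end Groth.Agent.S1750
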