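import Groth.Statements.S17500
import Mathlib.Algebra.Algebra.ZMod
import Mathlib.Algebra.Order.Ring.Star
import Mathlib.Data.Int.ConditionallyCompleteOrder
import Mathlib.Data.Int.Star
import Mathlib.Order.CompletePartialOrder
import Mathlib.RingTheory.Flat.EquationalCriterion
import Mathlib.RingTheory.KrullDimension.Regular
import Mathlib.RingTheory.PowerSeries.Trunc
import Mathlib.RingTheory.Regular.Flat
import Mathlib.RingTheory.WittVector.Basic
import Mathlib.Topology.Algebra.Module.ModuleTopology
import Mathlib.Topology.Instances.Matrix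

set_option autoImplicit false
universe u
open TorsMod

namespace Groth.Agent.S17500

/-- Let p be a prime number, n a natural number and H a module over ℤ/p^nℤ. Then H is flat over ℤ/p^nℤ
if and only if, for every i with 0 ≤ i ≤ n, the kernel of multiplication by p^i on H coincides with
the image of multiplication by p^(n-i) on H. (The published item is phrased for an fppf sheaf of
ℤ/p^nℤ-modules on a scheme; this is the case of a single module, which is the case the argument
treats.) -/
theorem result (p n : ℕ) [Fact p.Prime]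
    (H : Type u) [AddCommGroup H] [Module (ZMod (p ^ n)) H] :
    Module.Flat (ZMod (p ^ n)) H ↔
      ∀ i : ℕ, i ≤ n →
        LinearMap.ker ((p ^ i : ZMod (p ^ n)) • (LinearMap.id : H →ₗ[ZMod (p ^ n)] H)) =
          LinearMap.range ((p ^ (n - i) : ZMod (p ^ n)) • (LinearMap.id : H →ₗ[ZMod (p ^ n)] H)) := by
  have hp : p.Prime := Fact.out
  have hpn : ((p : ZMod (p ^ n)) ^ n) = 0 := by rw [← Nat.cast_pow, ZMod.natCast_self]
  constructor
  · intro hflat i hi
    apply le_antisymm
    · intro h hh
      simp only [LinearMap.mem_ker, LinearMap.smul_apply, LinearMap.id_apply] at hh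
      obtain ⟨κ, a, y, hy, ha⟩ := Module.Flat.isTrivialRelation_of_sum_smul_eq_zero
        (f := fun _ : Fin 1 => (p : ZMod (p ^ n)) ^ i) (x := fun _ : Fin 1 => h) (by simpa using hh)
      have hy0 : h = _ := hy 0
      rw [hy0]
      refine Submodule.sum_mem _ fun j _ => ?_
      have h1 : (p : ZMod (p ^ n)) ^ i * a 0 j = 0 := by simpa using ha j
      obtain ⟨m, hm⟩ := ZMod.natCast_zmod_surjective (a 0 j)
      rw [← hm, ← Nat.cast_pow, ← Nat.cast_mul, ZMod.natCast_eq_zero_iff] at h1
      have h2 : p ^ (n - i) ∣ m := by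
        rw [← Nat.sub_add_cancel hi, pow_add, mul_comm] at h1
        exact Nat.dvd_of_mul_dvd_mul_left (pow_pos hp.pos i) h1
      obtain ⟨c, hc⟩ := h2
      refine ⟨(c : ZMod (p ^ n)) • y j, ?_⟩
      simp only [LinearMap.smul_apply, LinearMap.id_apply]
      rw [← hm, hc, smul_smul]; push_cast; ring_nf
    · rintro h ⟨k, rfl⟩
      simp only [LinearMap.mem_ker, LinearMap.smul_apply, LinearMap.id_apply, smul_smul, ← pow_add,
        Nat.add_sub_cancel' hi, hpn, zero_smul]
  · intro h
    rw [Module.Flat.iff_lift_lsmul_comp_subtype_injective]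
    intro I _
    have hI : ∃ i ≤ n, I = Ideal.span {(p : ZMod (p ^ n)) ^ i} := by
      obtain ⟨g, hg⟩ := (inferInstance : IsPrincipalIdealRing ℤ).principal (I.comap (Int.castRingHom (ZMod (p ^ n))))
      have hdvd : g ∣ ((p : ℤ) ^ n) := by
        rw [← Ideal.mem_span_singleton]
        show _ ∈ Submodule.span ℤ {g}
        rw [← hg]
        simp [hpn]
      obtain ⟨i, hi, hgi⟩ := (dvd_prime_pow (Nat.prime_iff_prime_int.mp hp) _).mp hdvd
      refine ⟨i, hi, ?_⟩
      have e : I.comap (Int.castRingHom (ZMod (p ^ n))) = Ideal.span {(p : ℤ) ^ i} := by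
        rw [hg]; exact Ideal.span_singleton_eq_span_singleton.mpr hgi
      rw [← Ideal.map_comap_of_surjective (Int.castRingHom (ZMod (p ^ n))) ZMod.intCast_surjective I, e, Ideal.map_span]
      simp
    obtain ⟨i, hi, rfl⟩ := hI
    set g : Ideal.span {(p : ZMod (p ^ n)) ^ i} := ⟨_, Ideal.mem_span_singleton_self _⟩
    have hsp : ∀ z : (Ideal.span {(p : ZMod (p ^ n)) ^ i}) , ∃ c : ZMod (p ^ n), z = c • g := by
      rintro ⟨z, hz⟩
      obtain ⟨c, rfl⟩ := Ideal.mem_span_singleton'.mp hz
      exact ⟨c, rfl⟩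
    rw [injective_iff_map_eq_zero]
    intro t
    obtain ⟨y, rfl⟩ : ∃ y : H, t = g ⊗ₜ y := by
      induction t using TensorProduct.induction_on with
      | zero => exact ⟨0, by simp⟩
      | tmul z y =>
        obtain ⟨c, rfl⟩ := hsp z
        exact ⟨c • y, by rw [TensorProduct.smul_tmul]⟩
      | add a b ha hb =>
        obtain ⟨x, rfl⟩ := ha; obtain ⟨y, rfl⟩ := hb
        exact ⟨x + y, by rw [TensorProduct.tmul_add]⟩
    intro ht
    have hy : y ∈ LinearMap.ker ((p ^ i : ZMod (p ^ n)) • (LinearMap.id : H →ₗ[ZMod (p ^ n)] H)) := by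
      simpa [g] using ht
    rw [h i hi] at hy
    obtain ⟨k, rfl⟩ := hy
    simp only [LinearMap.smul_apply, LinearMap.id_apply, ← TensorProduct.smul_tmul]
    rw [show (p : ZMod (p ^ n)) ^ (n - i) • g = 0 from by
      ext; simp [g, ← pow_add, Nat.sub_add_cancel hi, hpn], TensorProduct.zero_tmul]

end Groth.Agent.S17500
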