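import Groth.Statements.S17502
import Groth.Agent.H10Coh.Growth.Field
import Groth.Agent.H27Weil.Geometry
import Groth.Agent.H11Ample.UnitIso

set_option linter.style.haveILetI false
set_option backward.isDefEq.respectTransparency.types false

set_option autoImplicit false
universe u
open CategoryTheory CategoryTheory.Limits MonoidalCategory CartesianMonoidalCategory MonObj GrpObj AlgebraicGeometry
open Coherent

namespace Groth.Agent.S17502

open Groth.Agent

/-- Let k be a field, Y a projective k-scheme of dimension d (a k-scheme with a closed immersion c into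
projective N-space over k, compatible with the structure morphisms, whose underlying topological
space has Krull dimension d), L_1, …, L_r invertible O_Y-modules, and F a family of O_Y-modules
indexed by a ∈ ℤ^r with F(0) ≅ O_Y and F(a + e_j) ≅ F(a) ⊗ L_j for all a and j, so that F(a) ≅
L_1^{⊗ a_1} ⊗ ⋯ ⊗ L_r^{⊗ a_r} for every a. Then there is a real constant C > 0, depending only on Y
and the L_j, such that dim_k H^i(Y, F(a)) ≤ C · (1 + |a|^d) for every i and every a, where |a| =
|a_1| + ⋯ + |a_r|. (The published statement prints the exponent as the number r of line bundles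
instead of the dimension d of Y; that bound fails as soon as r < d — on the projective plane with r
= 1 and L_1 = O(1) the dimension of H^0(O(a)) grows like a²/2 — while the printed induction on d + r
over hyperplane sections yields the exponent d, which is what is stated here.) -/
theorem result
    (k : Type u) [Field k] (Y : Scheme.{u}) [Y.Over (Spec (CommRingCat.of k))]
    (N : ℕ) (c : Y ⟶ CohB1.ProjSpace N k) [IsClosedImmersion c]
    (hc : c ≫ CohB1.ProjSpace.toSpec N k = Y ↘ Spec (CommRingCat.of k))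
    (d : ℕ) (hd : topologicalKrullDim ↥Y = d)
    (r : ℕ) (Lb : Fin r → Y.Modules) (hLb : ∀ j, PicF.IsInvertible (Lb j))
    (F : (Fin r → ℤ) → Y.Modules) (hF0 : Nonempty (F 0 ≅ Coh.structureModule Y))
    (hF : ∀ (a : Fin r → ℤ) (j : Fin r), Nonempty (F (a + Pi.single j 1) ≅ CohB1.tensorMod (F a) (Lb j))) :
    ∃ C : ℝ, 0 < C ∧ ∀ (i : ℕ) (a : Fin r → ℤ),
      (Module.finrank k (Coh.HH Y (F a) i) : ℝ) ≤ C * (1 + (∑ j, |(a j : ℝ)|) ^ d) := by
  haveI : IsProper (CohB1.ProjSpace.toSpec N k) := H27Weil.isProper_toSpec N k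
  haveI : IsProper (Y ↘ Spec (CommRingCat.of k)) :=
    hc ▸ inferInstanceAs (IsProper (c ≫ CohB1.ProjSpace.toSpec N k))
  haveI : IsLocallyNoetherian Y := LocallyOfFiniteType.isLocallyNoetherian (Y ↘ Spec (CommRingCat.of k))
  have hG := H10Coh.Growth.steps_int hLb F hF0 hF
  obtain ⟨C, hC⟩ := H10Coh.Growth.growth_field (k := k)
    (H11Ample.isAmple_pullback_of_isAffineHom c (H11Ample.isAmple_twistProjSpace N k)) hG (d := d) hd.le
    (F := Coh.structureModule Y) (H10Coh.isCoh_structureModule' Y)
  refine ⟨((C : ℝ) + 1) * 2 ^ d, by positivity, fun i a => ?_⟩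
  have h := hC i a
  rw [(H29RR.hhIso (k := k) (H11Ample.tensorLeftUnitIso (F a)) i).finrank_eq] at h
  have hr : (Module.finrank k (Coh.HH Y (F a) i) : ℝ) ≤ (C : ℝ) * ((∑ j, |(a j : ℝ)|) + 1) ^ d := by
    refine le_trans (Nat.cast_le.2 h) (le_of_eq ?_)
    push_cast [Nat.cast_natAbs]
    rfl
  have hx : 0 ≤ ∑ j, |(a j : ℝ)| := Finset.sum_nonneg fun j _ => abs_nonneg _
  generalize ∑ j, |(a j : ℝ)| = x at hr hx ⊢
  have hp : (x + 1) ^ d ≤ 2 ^ d * (1 + x ^ d) := by
    rcases le_total x 1 with h1 | h1
    · calc (x + 1) ^ d ≤ (2 : ℝ) ^ d := pow_le_pow_left₀ (by linarith) (by linarith) d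
        _ ≤ 2 ^ d * (1 + x ^ d) := le_mul_of_one_le_right (by positivity) (by linarith [pow_nonneg hx d])
    · calc (x + 1) ^ d ≤ (2 * x) ^ d := pow_le_pow_left₀ (by linarith) (by linarith) d
        _ = 2 ^ d * x ^ d := mul_pow 2 x d
        _ ≤ 2 ^ d * (1 + x ^ d) := by gcongr; linarith
  calc (Module.finrank k (Coh.HH Y (F a) i) : ℝ) ≤ (C : ℝ) * (x + 1) ^ d := hr
    _ ≤ ((C : ℝ) + 1) * (2 ^ d * (1 + x ^ d)) := mul_le_mul (by linarith) hp (by positivity) (by positivity)
    _ = ((C : ℝ) + 1) * 2 ^ d * (1 + x ^ d) := by ring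

end Groth.Agent.S17502
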