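import Groth.Statements.S17508
import Groth.Agent.H25Index.BaseChange

set_option autoImplicit false
set_option linter.style.haveILetI false
set_option backward.isDefEq.respectTransparency false
set_option synthInstance.maxHeartbeats 200000
universe u
open CategoryTheory CategoryTheory.Limits MonoidalCategory CartesianMonoidalCategory MonObj GrpObj AlgebraicGeometry
open AbVar

namespace Groth.Agent.S17508

/-- Let X be an abelian variety over a field k (a proper, geometrically integral k-group scheme) whose
underlying space has Krull dimension g, let L be an invertible O_X-module with an inverse L' (an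
O_X-module with L ⊗ L' ≅ O_X), and let i be a natural number such that H^j(X, L) = 0 for j ≠ i and
H^i(X, L) ≠ 0. Then i ≤ g, H^j(X, L') = 0 for j ≠ g − i and H^{g−i}(X, L') ≠ 0: the index of the
inverse bundle is g − i(L). (Non-degeneracy with index i is expressed by the equivalent condition
that the cohomology is concentrated in degree i and non-zero there.) -/
theorem result
    (k : Type u) [Field k] (X : Over (Spec (CommRingCat.of k))) [GrpObj X] [IsProper X.hom] [GeometricallyIntegral X.hom]
    (g : ℕ) (hg : topologicalKrullDim ↥X.left = g)
    (L L' : X.left.Modules) (hL : PicF.IsInvertible L)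
    (hL' : Nonempty (CohB1.tensorMod L L' ≅ Coh.structureModule X.left)) (i : ℕ)
    (hvan : ∀ j : ℕ, j ≠ i → Subsingleton (Coh.HH X.left L j)) (hne : Nontrivial (Coh.HH X.left L i)) :
    i ≤ g ∧ (∀ j : ℕ, j ≠ g - i → Subsingleton (Coh.HH X.left L' j)) ∧
      Nontrivial (Coh.HH X.left L' (g - i)) := by
  exact Groth.Agent.H25Index.concentrated_dual L L' hL hL' g hg i hvan hne

end Groth.Agent.S17508
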