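import Groth.Statements.S17510
import Groth.Agent.H25Index.RootsTwo

set_option autoImplicit false
set_option linter.style.haveILetI false
set_option backward.isDefEq.respectTransparency false
set_option synthInstance.maxHeartbeats 200000
universe u
open CategoryTheory CategoryTheory.Limits MonoidalCategory CartesianMonoidalCategory MonObj GrpObj AlgebraicGeometry
open AbVar

namespace Groth.Agent.S17510

/-- Let X be an abelian variety over a field k (a proper, geometrically integral k-group scheme), let L
be an invertible O_X-module with H^j(X, L) = 0 for j ≠ i and H^i(X, L) ≠ 0, H an ample invertible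
O_X-module, and M an O_X-module isomorphic to L ⊗ H with H^j(X, M) = 0 for j ≠ i' and H^{i'}(X, M) ≠
0 (so L and L ⊗ H are non-degenerate with indices i and i'). Let Φ be a polynomial with rational
coefficients such that Φ(n) = χ(X, L ⊗ H^{⊗ n}) for every natural number n, and suppose Φ has
exactly one real root τ in the interval [0, 1], with τ ≠ 1. Then i ≤ i' + μ, where μ is the
multiplicity of τ as a root of Φ. (Non-degeneracy with index i is expressed by the equivalent
condition that the cohomology is concentrated in degree i and non-zero there.) -/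
theorem result
    (k : Type u) [Field k] (X : Over (Spec (CommRingCat.of k))) [GrpObj X] [IsProper X.hom] [GeometricallyIntegral X.hom]
    (L H M : X.left.Modules) (hL : PicF.IsInvertible L) (hH : CohB1.IsAmple H)
    (hM : Nonempty (M ≅ CohB1.tensorMod L H)) (i i' : ℕ)
    (hvan : ∀ j : ℕ, j ≠ i → Subsingleton (Coh.HH X.left L j)) (hne : Nontrivial (Coh.HH X.left L i))
    (hvan' : ∀ j : ℕ, j ≠ i' → Subsingleton (Coh.HH X.left M j)) (hne' : Nontrivial (Coh.HH X.left M i'))
    (Φ : Polynomial ℚ)
    (hΦ : ∀ n : ℕ, Φ.eval (n : ℚ) =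
      (@Curv2.euler k _ X.left ⟨X.hom⟩ (CohB1.tensorMod L (CohB1.tensorPow H n)) : ℚ))
    (τ : ℝ) (hτ0 : 0 ≤ τ) (hτ1 : τ < 1) (hτ : (Φ.map (algebraMap ℚ ℝ)).eval τ = 0)
    (huniq : ∀ t : ℝ, 0 ≤ t → t ≤ 1 → (Φ.map (algebraMap ℚ ℝ)).eval t = 0 → t = τ) :
    i ≤ i' + (Φ.map (algebraMap ℚ ℝ)).rootMultiplicity τ := by
  obtain ⟨h0, h1⟩ := Groth.Agent.H25Index.roots_two L H M hL hH hM i i' hvan hne hvan' hne' Φ hΦ
  have key : ∀ t ∈ (Φ.map (algebraMap ℚ ℝ)).roots, 0 < t → 1 < t ∨ t = τ := fun t ht h => by
    by_contra hn
    simp only [not_or, not_lt] at hn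
    exact hn.2 (huniq t h.le hn.1 (Polynomial.isRoot_of_mem_roots ht))
  rw [h0, h1, ← Polynomial.count_roots, ← Multiset.countP_eq_card_filter, ← Multiset.countP_eq_card_filter]
  revert key
  generalize (Φ.map (algebraMap ℚ ℝ)).roots = s
  intro key
  induction s using Multiset.induction_on with
  | empty => simp
  | cons a s ih =>
    have h := key a (Multiset.mem_cons_self a s)
    have := ih fun t ht => key t (Multiset.mem_cons_of_mem ht)
    rw [Multiset.countP_cons, Multiset.countP_cons, Multiset.count_cons]
    by_cases ha : 0 < a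
    · rcases h ha with h' | h'
      · rw [if_pos ha, if_pos h']; omega
      · rw [if_pos ha, if_pos h'.symm]; omega
    · rw [if_neg ha]; omega

end Groth.Agent.S17510
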