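import Groth.Statements.S17511
import Groth.Agent.LeadBC.GenBC.Conseq
import Groth.Agent.H25Index.Compare
import Groth.Agent.H10Coh.SheafHom.Flat
import Groth.Agent.H10Coh.FinType2
import Groth.Agent.H11Ample.AmpleOn

set_option autoImplicit false
set_option linter.style.haveILetI false
set_option backward.isDefEq.respectTransparency false
set_option synthInstance.maxHeartbeats 200000
universe u
open CategoryTheory CategoryTheory.Limits MonoidalCategory CartesianMonoidalCategory MonObj GrpObj AlgebraicGeometry
open AbVar

namespace Groth.Agent.S17511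

/-- In an algebraic family of line bundles the index cannot jump locally. Let X be an abelian variety
over a field k (a proper, geometrically integral k-group scheme), let T be a locally Noetherian
k-scheme, M an invertible module on X ×_k T, and for each point t of T let M_t be the pull-back of M
to the fibre X ×_k Spec k(t). Suppose every M_t is non-degenerate, with index idx(t): H^j(X ×_k Spec
k(t), M_t) = 0 for j ≠ idx(t) and H^{idx(t)} ≠ 0. Then t ↦ idx(t) is a locally constant function on
T. (Non-degeneracy with index i is expressed by the equivalent condition that the cohomology is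
concentrated in degree i and non-zero there.) -/
theorem result
    (k : Type u) [Field k] (X : Over (Spec (CommRingCat.of k))) [GrpObj X] [IsProper X.hom] [GeometricallyIntegral X.hom]
    (T : Over (Spec (CommRingCat.of k))) [IsLocallyNoetherian T.left]
    (M : (X ⊗ T).left.Modules) (hM : PicF.IsInvertible M)
    (idx : ↥T.left → ℕ)
    (hidx : ∀ t : ↥T.left,
      (∀ j : ℕ, j ≠ idx t →
        Subsingleton (Coh.HH (pullback (snd X T).left (T.left.fromSpecResidueField t))
          ((Scheme.Modules.pullback (pullback.fst (snd X T).left (T.left.fromSpecResidueField t))).obj M) j)) ∧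
      Nontrivial (Coh.HH (pullback (snd X T).left (T.left.fromSpecResidueField t))
          ((Scheme.Modules.pullback (pullback.fst (snd X T).left (T.left.fromSpecResidueField t))).obj M) (idx t))) :
    IsLocallyConstant idx := by
  haveI : IsProper (snd X T).left := by rw [Over.snd_left]; infer_instance
  haveI : Flat (snd X T).left := by rw [Over.snd_left]; infer_instance
  haveI : IsLocallyNoetherian (X ⊗ T).left := LocallyOfFiniteType.isLocallyNoetherian (snd X T).left
  have hcoh := Groth.Agent.H11Ample.isCoh_of_isInvertible hM
  haveI : M.IsQuasicoherent := hcoh.1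
  have hfp := Groth.Agent.H10Coh.isFP_of_isCoh M hcoh
  have hfl := Groth.Agent.H10Coh.SheafHom.isFlatOver_of_isFinLocFree (snd X T).left M
    (Groth.Agent.H25Index.finLocFree_of_invertible hM)
  letI : X.left.Over (Spec (CommRingCat.of k)) := ⟨X.hom⟩
  haveI : QuasiCompact (X.left ↘ Spec (CommRingCat.of k)) := inferInstanceAs (QuasiCompact X.hom)
  haveI : QuasiSeparated (X.left ↘ Spec (CommRingCat.of k)) := inferInstanceAs (QuasiSeparated X.hom)
  obtain ⟨N, hN⟩ := Groth.Agent.LeadBC.exists_bound_HH k X.left
  have hbd : ∀ (t : ↥T.left) (p : ℕ), N ≤ p → Subsingleton (CohIII.fiberH (snd X T).left M t p) := by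
    intro t p hp
    have hP := (IsPullback.of_hasPullback (snd X T).left (T.left.fromSpecResidueField t)).paste_horiz
      (IsPullback.of_hasPullback X.hom T.hom)
    haveI : IsAffineHom (pullback.fst (snd X T).left (T.left.fromSpecResidueField t) ≫ pullback.fst X.hom T.hom) :=
      MorphismProperty.of_isPullback (P := @IsAffineHom) hP.flip inferInstance
    haveI : IsLocallyNoetherian (pullback (snd X T).left (T.left.fromSpecResidueField t)) :=
      LocallyOfFiniteType.isLocallyNoetherian (pullback.snd (snd X T).left (T.left.fromSpecResidueField t))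
    exact Groth.Agent.LeadBC.GenBC.hbound_of_isAffineHom
      (pullback.fst (snd X T).left (T.left.fromSpecResidueField t) ≫ pullback.fst X.hom T.hom) hN _
      (Groth.Agent.H11Ample.isCoh_of_isInvertible (Groth.Agent.H11Ample.isInvertible_pullback _ hM)).1 p hp
  refine (IsLocallyConstant.iff_exists_open idx).2 fun t => ?_
  choose W _ hmem _ _ _ hW using fun j : {j : ℕ // j ≠ idx t} =>
    Groth.Agent.LeadBC.GenBC.exists_vanishing_nhd (snd X T).left M hfp hfl j.1 ((hidx t).1 j.1 j.2)
  let O : Set ↥T.left := ⋂ j ∈ ((Finset.range N).subtype (· ≠ idx t)), (W j : Set ↥T.left)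
  refine ⟨O, isOpen_biInter_finset fun j _ => (W j).isOpen, Set.mem_iInter₂.2 fun j _ => hmem j, ?_⟩
  intro y hy
  by_contra hne
  haveI : Subsingleton (CohIII.fiberH (snd X T).left M y (idx y)) := by
    rcases lt_or_ge (idx y) N with h | h
    · exact hW ⟨idx y, hne⟩ y (Set.mem_iInter₂.1 hy ⟨idx y, hne⟩ (by simpa using h))
    · exact hbd y _ h
  exact not_nontrivial (CohIII.fiberH (snd X T).left M y (idx y)) (hidx y).2

end Groth.Agent.S17511
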