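import Groth.Statements.S17512
import Mathlib

set_option autoImplicit false
universe u
open ThetaRep

namespace Groth.Agent.S17512

open scoped commutatorElement

/-- Orthogonals for a nondegenerate pairing of a finite abelian group into `kˣ`. -/
theorem card_orth {K : Type*} [CommGroup K] [Finite K] (k : Type*) [Field k] [HasEnoughRootsOfUnity k (Monoid.exponent K)]
    (Φ : K →* (K →* kˣ)) (hinj : Function.Injective Φ) (H C : Subgroup K)
    (hC : ∀ x, x ∈ C ↔ ∀ y ∈ H, Φ x y = 1) : Nat.card C * Nat.card H = Nat.card K := by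
  haveI : Finite (K →* kˣ) := Finite.of_equiv K (CommGroup.monoidHom_mulEquiv_of_hasEnoughRootsOfUnity K k).some.toEquiv.symm
  have hbij : Function.Bijective Φ :=
    (Nat.bijective_iff_injective_and_card _).mpr ⟨hinj, (CommGroup.card_monoidHom_of_hasEnoughRootsOfUnity K k).symm⟩
  have hcomap : C = (MonoidHom.domRestrictHom H kˣ).ker.comap Φ := by
    ext x
    rw [hC, Subgroup.mem_comap, MonoidHom.mem_ker]
    constructor
    · intro h; ext ⟨y, hy⟩; simpa using congrArg Units.val (h y hy)
    · intro h y hy; exact DFunLike.congr_fun h ⟨y, hy⟩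
  rw [hcomap, H.card_eq_card_quotient_mul_card_subgroup, ← CommGroup.card_domRestrictHom_ker (G := K) (M := k) H]
  congr 1
  exact Nat.card_congr ((Equiv.ofBijective Φ hbij).subtypeEquiv fun x => Iff.rfl)


/-- For the group of k-points of a non-degenerate theta group with constant K, let k be an algebraically
closed field and Γ a group given with an injective homomorphism ι from kˣ onto the centre of Γ such
that K = Γ/ι(kˣ) is finite and commutative (all commutators lie in ι(kˣ)) of order prime to the
characteristic exponent of k — the group of k-points of a non-degenerate theta group 1 → G_m → G → K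
→ 1 with rank(K) prime to char(k). Subgroups of K correspond to subgroups H of Γ containing ι(kˣ);
such an H is totally isotropic for the commutator pairing exactly when it is commutative, and its
orthogonal corresponds to the centralizer of H. For a subgroup H ⊇ ι(kˣ) the following are
equivalent: (i) H is commutative and maximal among commutative subgroups of Γ; (ii) H is commutative
and [H : ι(kˣ)]² = [Γ : ι(kˣ)]; (iii) H is its own centralizer. (The published lemma is for an
arbitrary non-degenerate theta group scheme, where (iii) ⇔ (ii) ⇒ (i) always and (i) ⇒ (iii) needs k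
algebraically closed; this row is the case of the group of k-points with K constant.) -/
theorem result
    (k : Type u) [Field k] [IsAlgClosed k]
    (Γ : Type u) [Group Γ] (ι : kˣ →* Γ) (hι : Function.Injective ι)
    (hcent : ι.range = Subgroup.center Γ) (hcomm : commutator Γ ≤ ι.range)
    [Finite (Γ ⧸ ι.range)] (hcop : (Nat.card (Γ ⧸ ι.range)).Coprime (ringExpChar k))
    (H : Subgroup Γ) (hH : ι.range ≤ H) :
    List.TFAE [
      IsMulCommutative H ∧ ∀ H' : Subgroup Γ, IsMulCommutative H' → H ≤ H' → H' = H,
      IsMulCommutative H ∧ (ι.range.relIndex H) ^ 2 = ι.range.index,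
      H = Subgroup.centralizer (H : Set Γ)] := by
  haveI hn : ι.range.Normal := hcent ▸ inferInstance
  have hzc : ∀ (c : kˣ) (γ : Γ), γ * ι c = ι c * γ := fun c γ =>
    (Subgroup.mem_center_iff.mp (hcent ▸ ⟨c, rfl⟩ : ι c ∈ Subgroup.center Γ)) γ
  have he : ∀ γ x : Γ, ∃ c, ι c = ⁅γ, x⁆ := fun γ x =>
    hcomm (Subgroup.commutator_mem_commutator (Subgroup.mem_top γ) (Subgroup.mem_top x))
  choose e he using he
  have hone : ∀ γ x, e γ x = 1 ↔ γ * x = x * γ := fun γ x => by
    rw [← hι.eq_iff, map_one, he, commutatorElement_eq_one_iff_mul_comm]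
  have hmulr : ∀ γ x y, e γ (x * y) = e γ x * e γ y := fun γ x y => hι <| by
    rw [map_mul, he, he, he]
    have h : ⁅γ, x * y⁆ = ⁅γ, x⁆ * (x * ⁅γ, y⁆ * x⁻¹) := by simp only [commutatorElement_def]; group
    rw [h, ← he γ y, hzc, mul_inv_cancel_right]
  have hmull : ∀ γ δ x, e (γ * δ) x = e γ x * e δ x := fun γ δ x => hι <| by
    rw [map_mul, he, he, he]
    have h : ⁅γ * δ, x⁆ = (γ * ⁅δ, x⁆ * γ⁻¹) * ⁅γ, x⁆ := by simp only [commutatorElement_def]; group
    rw [h, ← he δ x, hzc, mul_inv_cancel_right, ← he γ x, ← map_mul, ← map_mul, mul_comm]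
  let ψ : Γ → (Γ ⧸ ι.range →* kˣ) := fun γ => QuotientGroup.lift _
    { toFun := e γ, map_one' := (hone γ 1).mpr (by simp), map_mul' := hmulr γ }
    (by rintro _ ⟨c, rfl⟩; exact (hone γ (ι c)).mpr (hzc c γ))
  have hψ : ∀ γ x, ψ γ (QuotientGroup.mk x) = e γ x := fun _ _ => rfl
  let Φ : Γ ⧸ ι.range →* (Γ ⧸ ι.range →* kˣ) := QuotientGroup.lift _
    { toFun := ψ
      map_one' := by
        refine MonoidHom.ext fun q => ?_
        induction q using QuotientGroup.induction_on with | _ x => exact (hone 1 x).mpr (by simp)
      map_mul' := fun γ δ => by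
        refine MonoidHom.ext fun q => ?_
        induction q using QuotientGroup.induction_on with | _ x => exact hmull γ δ x }
    (by
      rintro _ ⟨c, rfl⟩
      refine MonoidHom.ext fun q => ?_
      induction q using QuotientGroup.induction_on with | _ x => exact (hone (ι c) x).mpr (hzc c x).symm)
  have hΦ : ∀ γ x : Γ, Φ (QuotientGroup.mk γ) (QuotientGroup.mk x) = e γ x := fun _ _ => rfl
  have hinj : Function.Injective Φ := by
    rw [injective_iff_map_eq_one]
    intro q
    induction q using QuotientGroup.induction_on with | _ γ => ?_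
    intro h
    rw [QuotientGroup.eq_one_iff, hcent, Subgroup.mem_center_iff]
    intro x
    exact ((hone γ x).mp (by rw [← hΦ, h]; rfl)).symm
  letI : CommGroup (Γ ⧸ ι.range) :=
    { (inferInstance : Group (Γ ⧸ ι.range)) with
      mul_comm := fun a b => hinj (by
        rw [map_mul, map_mul]
        exact MonoidHom.ext fun q => mul_comm (Φ a q) (Φ b q)) }
  haveI : NeZero (Nat.card (Γ ⧸ ι.range) : k) := ⟨fun h => by
    have hd : ringChar k ∣ Nat.card (Γ ⧸ ι.range) := (ringChar.spec k _).mp h
    rcases CharP.char_is_prime_or_zero k (ringChar k) with hp | hp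
    · have h1 : ringExpChar k = ringChar k := by rw [ringExpChar]; exact max_eq_left hp.one_le
      rw [h1] at hcop
      exact hp.one_lt.ne' (Nat.eq_one_of_dvd_coprimes hcop hd dvd_rfl)
    · rw [hp, zero_dvd_iff] at hd
      exact Nat.card_pos.ne' hd⟩
  haveI : HasEnoughRootsOfUnity k (Monoid.exponent (Γ ⧸ ι.range)) :=
    HasEnoughRootsOfUnity.of_dvd k (Group.exponent_dvd_nat_card (G := Γ ⧸ ι.range))
  set C := Subgroup.centralizer (H : Set Γ) with hCdef
  have hker : (QuotientGroup.mk' ι.range).ker = ι.range := QuotientGroup.ker_mk' _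
  have hiC : ι.range ≤ C := hcent ▸ Subgroup.center_le_centralizer _
  let Hb := H.map (QuotientGroup.mk' ι.range)
  let Cb := C.map (QuotientGroup.mk' ι.range)
  have hcard : Nat.card Cb * Nat.card Hb = Nat.card (Γ ⧸ ι.range) := by
    refine card_orth k Φ hinj Hb Cb fun q => ?_
    induction q using QuotientGroup.induction_on with | _ γ => ?_
    constructor
    · rintro ⟨γ', hγ', he'⟩ _ ⟨x, hx, rfl⟩
      rw [show (QuotientGroup.mk γ : Γ ⧸ ι.range) = QuotientGroup.mk γ' from he'.symm]
      exact (hone γ' x).mpr (Subgroup.mem_centralizer_iff.mp hγ' x hx).symm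
    · intro h
      exact ⟨γ, Subgroup.mem_centralizer_iff.mpr fun x hx => ((hone γ x).mp (h _ ⟨x, hx, rfl⟩)).symm, rfl⟩
  have hrel : ι.range.relIndex H = Nat.card Hb := by
    conv_lhs => rw [← hker]
    exact Subgroup.relIndex_ker H _
  tfae_have 3 → 1 := by
    intro h
    refine ⟨Subgroup.le_centralizer_iff_isMulCommutative.mp h.le, fun H' hH' hle => le_antisymm ?_ hle⟩
    rw [h]
    exact (Subgroup.le_centralizer_iff_isMulCommutative.mpr hH').trans (Subgroup.centralizer_le hle)
  tfae_have 1 → 3 := by
    rintro ⟨hc, hmax⟩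
    refine le_antisymm (Subgroup.le_centralizer_iff_isMulCommutative.mpr hc) fun x hx => ?_
    let H' := Subgroup.closure ((H : Set Γ) ∪ {x})
    have hc' : IsMulCommutative H' := by
      refine Subgroup.le_centralizer_iff_isMulCommutative.mp ((Subgroup.closure_le _).mpr ?_)
      intro a ha
      rw [SetLike.mem_coe, Subgroup.centralizer_closure, Subgroup.mem_centralizer_iff]
      intro b hb
      rcases ha with ha | rfl <;> rcases hb with hb | rfl
      · exact Subgroup.mem_centralizer_iff.mp (Subgroup.le_centralizer_iff_isMulCommutative.mpr hc ha) b hb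
      · exact (Subgroup.mem_centralizer_iff.mp hx a ha).symm
      · exact Subgroup.mem_centralizer_iff.mp hx b hb
      · rfl
    have := hmax H' hc' fun a ha => Subgroup.subset_closure (Or.inl ha)
    rw [← this]
    exact Subgroup.subset_closure (Or.inr rfl)
  tfae_have 3 → 2 := by
    intro h
    refine ⟨Subgroup.le_centralizer_iff_isMulCommutative.mp h.le, ?_⟩
    have hb : Cb = Hb := by simp only [Cb, Hb, C, ← h]
    rw [hrel, Subgroup.index_eq_card, ← hcard, hb, sq]
  tfae_have 2 → 3 := by
    rintro ⟨hc, hidx⟩
    have hle : H ≤ C := Subgroup.le_centralizer_iff_isMulCommutative.mpr hc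
    have hpos : 0 < Nat.card Hb := Nat.card_pos
    have hceq : Nat.card Cb = Nat.card Hb := by
      rw [hrel, Subgroup.index_eq_card, ← hcard, sq] at hidx
      exact (Nat.eq_of_mul_eq_mul_right hpos hidx).symm
    have hb : Hb = Cb := Subgroup.eq_of_le_of_card_ge (Subgroup.map_mono hle) hceq.le
    have h := congrArg (Subgroup.comap (QuotientGroup.mk' ι.range)) hb
    rwa [Subgroup.comap_map_eq_self (hker.le.trans hH), Subgroup.comap_map_eq_self (hker.le.trans hiC)] at h
  tfae_finish

end Groth.Agent.S17512
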