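import Groth.Statements.S17513
import Groth.Agent.H25AbCube.DetPower


set_option autoImplicit false
set_option linter.style.haveILetI false
set_option backward.isDefEq.respectTransparency false
set_option synthInstance.maxHeartbeats 200000
universe u
open CategoryTheory CategoryTheory.Limits MonoidalCategory CartesianMonoidalCategory MonObj GrpObj AlgebraicGeometry
open AbVar

namespace Groth.Agent.S17513

/-- Let X be an abelian variety over a field k (a proper, geometrically integral, commutative k-group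
scheme) whose underlying space has Krull dimension g, let r be a natural number and α an r × r
matrix with integer entries. Write X^r for the r-fold product of X over k and [α]_X : X^r → X^r for
the homomorphism (x_1, …, x_r) ↦ (Σ_j α_{1j} x_j, …, Σ_j α_{rj} x_j), i.e. the map whose i-th
component is the product, in the commutative group of maps X^r → X, of the powers pr_j^{α_{ij}}. If
det α ≠ 0 then [α]_X is finite and flat of constant degree |det α|^{2g} = det(α)^{2g}. (The
published statement covers det α = 0 too, with the convention that a non-finite homomorphism has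
degree 0; that case says only that [α]_X is not finite and is not part of this row.) -/
theorem result
    (k : Type u) [Field k] (X : Over (Spec (CommRingCat.of k))) [GrpObj X] [IsCommMonObj X]
    [IsProper X.hom] [GeometricallyIntegral X.hom]
    (g : ℕ) (hg : topologicalKrullDim ↥X.left = g)
    (r : ℕ) (α : Matrix (Fin r) (Fin r) ℤ) (hα : α.det ≠ 0)
    (φ : (∏ᶜ fun _ : Fin r => X) ⟶ (∏ᶜ fun _ : Fin r => X))
    (hφ : φ = Pi.lift (fun i => ∏ j : Fin r, (Pi.π (fun _ : Fin r => X) j) ^ (α i j))) :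
    IsFinite φ.left ∧ Flat φ.left ∧
      ∀ y : ↥(∏ᶜ fun _ : Fin r => X).left, Scheme.Hom.finrank φ.left y = α.det.natAbs ^ (2 * g) := by
  classical
  subst hφ
  obtain ⟨Y, gY, pY, iY, π, hc, hπ, hd, huniv⟩ := H25AbCube.exists_power X hg r
  haveI := hc
  haveI := hπ
  obtain ⟨m, hm, hmπ, hdeg⟩ := H25AbCube.degree_matrix hd π huniv α hα
  haveI := hm
  let Ψ : Y ⟶ ∏ᶜ fun _ : Fin r => X := Pi.lift π
  obtain ⟨Φ, hΦ, -⟩ := huniv fun i => Pi.π (fun _ : Fin r => X) i
  have hΨ : ∀ i, Ψ ≫ Pi.π (fun _ : Fin r => X) i = π i := fun i => Pi.lift_π _ i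
  have hΨΦ : Ψ ≫ Φ = 𝟙 Y := (huniv π).unique (fun i => by rw [Category.assoc, hΦ, hΨ]) fun i => Category.id_comp _
  have hΦΨ : Φ ≫ Ψ = 𝟙 _ := Pi.hom_ext _ _ fun i => by rw [Category.assoc, hΨ, hΦ, Category.id_comp]
  haveI : IsIso Ψ := ⟨Φ, hΨΦ, hΦΨ⟩
  haveI : IsIso Φ := ⟨Ψ, hΦΨ, hΨΦ⟩
  haveI : IsIso Ψ.left := inferInstanceAs (IsIso ((Over.forget _).map Ψ))
  haveI : IsIso Φ.left := inferInstanceAs (IsIso ((Over.forget _).map Φ))
  have hfac : (Pi.lift fun i => ∏ j : Fin r, Pi.π (fun _ : Fin r => X) j ^ α i j) = Φ ≫ m ≫ Ψ := by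
    refine Pi.hom_ext _ _ fun i => ?_
    rw [Pi.lift_π, Category.assoc, Category.assoc, hΨ, hmπ]
    let F : (Y ⟶ X) →* ((∏ᶜ fun _ : Fin r => X) ⟶ X) :=
      { toFun := fun x => Φ ≫ x, map_one' := MonObj.comp_one _, map_mul' := fun a b => MonObj.comp_mul _ a b }
    show _ = F (∏ j, π j ^ α i j)
    rw [map_prod]
    refine Finset.prod_congr rfl fun j _ => ?_
    rw [map_zpow]
    exact congrArg (· ^ α i j) (hΦ j).symm
  rw [hfac]
  haveI : IsFinite m.left := by
    by_contra h
    rw [H25AbCube.degree_of_not_finite _ h] at hdeg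
    exact (pow_pos (Int.natAbs_pos.2 hα) (2 * g)).ne hdeg
  haveI := H25AbCube.flat_of_finite m hd hd
  simp only [Over.comp_left]
  refine ⟨inferInstance, inferInstance, fun y => ?_⟩
  rw [Scheme.Hom.finrank_comp_left_of_isIso]
  obtain ⟨y, rfl⟩ : ∃ y', Ψ.left y' = y := Ψ.left.surjective y
  rw [← Scheme.Hom.finrank_of_isPullback (𝟙 Y.left) m.left (m.left ≫ Ψ.left) Ψ.left
    ⟨⟨by simp⟩, ⟨PullbackCone.IsLimit.mk _ (fun s => s.fst) (fun s => by simp) (fun s => by
      rw [← cancel_mono Ψ.left, Category.assoc]; exact s.condition) (fun s m h1 _ => by simpa using h1)⟩⟩ y,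
    H25AbCube.finrank_eq_degree m hd hd, hdeg]

end Groth.Agent.S17513
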