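import Groth.Statements.S17514
import Groth.Agent.H25Chow.IsogPts

set_option autoImplicit false
set_option linter.style.haveILetI false
set_option backward.isDefEq.respectTransparency false
set_option synthInstance.maxHeartbeats 200000
universe u
open CategoryTheory CategoryTheory.Limits MonoidalCategory CartesianMonoidalCategory MonObj GrpObj AlgebraicGeometry
open AbVar

namespace Groth.Agent.S17514

/-- Let k be a field with algebraic closure k̄, ℓ a prime number invertible in k, X and Y abelian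
varieties over k (proper, geometrically integral, commutative k-group schemes), f : X → Y an isogeny
(a homomorphism which is finite and surjective) and i : N → X its kernel (the square formed by i, f,
the unit of Y and the structure map of N is cartesian). Let T_ℓ denote the Tate module formed with
k̄-valued points and T_ℓ f : T_ℓ X → T_ℓ Y the induced ℤ_ℓ-linear map. Then T_ℓ f is injective and
its cokernel is isomorphic, as a group, to the ℓ-primary part of the finite group N(k̄) of k̄-valued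
points of N (existence of an isomorphism; the published sequence 0 → T_ℓ X → T_ℓ Y → N_ℓ(k_s) → 0 is
moreover Galois-equivariant with a specific connecting map, and uses points over a separable
closure, which for ℓ-power torsion gives the same groups). -/
theorem result
    (k : Type u) [Field k] (ℓ : ℕ) [Fact ℓ.Prime] (hℓ : (ℓ : k) ≠ 0)
    (X Y : Over (Spec (CommRingCat.of k)))
    [GrpObj X] [IsCommMonObj X] [IsProper X.hom] [GeometricallyIntegral X.hom]
    [GrpObj Y] [IsCommMonObj Y] [IsProper Y.hom] [GeometricallyIntegral Y.hom]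
    (f : X ⟶ Y) [IsMonHom f] [IsFinite f.left] [Surjective f.left]
    (N : Over (Spec (CommRingCat.of k))) [GrpObj N] [IsCommMonObj N] (i : N ⟶ X) [IsMonHom i]
    (hN : AlgGrp.IsKernel i f) :
    Function.Injective (AbDual.tateMapₗ (l := ℓ)
        (T := Over.mk (Spec.map (CommRingCat.ofHom (algebraMap k (AlgebraicClosure k))))) f) ∧
      Nonempty ((AbDual.TateMod Y ℓ (Over.mk (Spec.map (CommRingCat.ofHom (algebraMap k (AlgebraicClosure k))))) ⧸
          LinearMap.range (AbDual.tateMapₗ (l := ℓ)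
            (T := Over.mk (Spec.map (CommRingCat.ofHom (algebraMap k (AlgebraicClosure k))))) f)) ≃+
        Additive ↥(CommGroup.primaryComponent
          (Over.mk (Spec.map (CommRingCat.ofHom (algebraMap k (AlgebraicClosure k)))) ⟶ N) ℓ)) := by
  let Ω := AlgebraicClosure k
  let T : Over (Spec (CommRingCat.of k)) := SGA7.pt Ω
  obtain ⟨N₀, hN₀, τ, hτ, hfτ, hτf⟩ := H25AbCube.exists_isogeny_inverse f
  haveI := hτ
  let F : Additive (T ⟶ X) →+ Additive (T ⟶ Y) :=
    AddMonoidHom.mk' (fun x => Additive.ofMul (x.toMul ≫ f)) fun a b => congrArg Additive.ofMul (MonObj.mul_comp _ _ f)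
  have hl : ℓ.Prime := Fact.out
  have hF : Function.Surjective F := fun y => by
    obtain ⟨x, hx⟩ := H25Chow.surjective_pt_comp Ω f y.toMul
    exact ⟨Additive.ofMul x, congrArg Additive.ofMul hx⟩
  have hdiv : Function.Surjective fun x : Additive (T ⟶ X) => ℓ • x := fun x => by
    haveI : IsMonHom ((𝟙 X) ^ ℓ : X ⟶ X) := H25AbCube.isMonHom_pow ℓ
    haveI : IsFinite ((𝟙 X) ^ ℓ : X ⟶ X).left := H25AbCube.isFinite_pow hl.pos
    haveI : Surjective ((𝟙 X) ^ ℓ : X ⟶ X).left := H25AbCube.surjective_pow hl.pos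
    obtain ⟨z, hz⟩ := H25Chow.surjective_pt_comp Ω ((𝟙 X) ^ ℓ : X ⟶ X) x.toMul
    refine ⟨Additive.ofMul z, congrArg Additive.ofMul (?_ : z ^ ℓ = x.toMul)⟩
    rw [← hz]
    show z ^ ℓ = z ≫ _
    rw [MonObj.comp_pow, Category.comp_id]
  haveI := H25Chow.finite_pow_ker Ω (X := X) hN₀
  haveI : Finite F.ker := by
    refine Finite.of_injective (fun x => (⟨x.1.toMul, ?_⟩ : {x : T ⟶ X // x ^ N₀ = 1})) fun a b hab =>
      Subtype.ext (Additive.toMul.injective (congrArg (fun w : {x : T ⟶ X // x ^ N₀ = 1} => w.1) hab))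
    have h1 : x.1.toMul ≫ f = 1 := congrArg Additive.toMul (AddMonoidHom.mem_ker.1 x.2)
    rw [← Category.comp_id x.1.toMul, ← MonObj.comp_pow, ← hfτ, ← Category.assoc, h1, MonObj.one_comp]
  refine ⟨(injective_iff_map_eq_zero _).2 fun x hx => AbDual.TateMod.ext fun n =>
    H25Chow.eq_zero_of_seq ℓ F hl x.1 x.2.1 x.2.2 (fun m => congrArg (fun z : AbDual.TateMod Y ℓ T => z.1 m) hx) n, ?_⟩
  obtain ⟨M, hM1, hM2, hM3⟩ := H25Chow.exists_delta ℓ F hl hF hdiv
  choose δ hδ hδu using fun y : AbDual.TateMod Y ℓ T => hM1 y.1 y.2.1 y.2.2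
  haveI : Mono i := H19Grp.kernel_mono hN
  have hmem : ∀ y : AbDual.TateMod Y ℓ T, ∃ a : Additive ↥(CommGroup.primaryComponent (T ⟶ N) ℓ),
      Additive.ofMul (a.toMul.1 ≫ i) = δ y := fun y => by
    obtain ⟨x, hx, ⟨b, hb⟩, hxa⟩ := hδ y
    have h1 : (δ y).toMul ≫ f = 1 := by
      have h2 : F (δ y) = 0 := by rw [← hxa, map_nsmul, hx]; exact y.2.1 M
      exact congrArg Additive.toMul h2
    obtain ⟨c, hc⟩ := H19Grp.kernel_lift hN (δ y).toMul h1
    have hcb : c ^ ℓ ^ b = 1 := by
      rw [← cancel_mono i, MonObj.pow_comp, hc, MonObj.one_comp]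
      have h3 : ℓ ^ b • δ y = 0 := by rw [← hxa, smul_comm, hb, smul_zero]
      exact congrArg Additive.toMul h3
    exact ⟨Additive.ofMul ⟨c, ⟨b, hcb⟩⟩, congrArg Additive.ofMul hc⟩
  choose a ha using hmem
  have hinj : ∀ a b : Additive ↥(CommGroup.primaryComponent (T ⟶ N) ℓ),
      Additive.ofMul (a.toMul.1 ≫ i) = Additive.ofMul (b.toMul.1 ≫ i) → a = b := fun a b h =>
    Additive.toMul.injective (Subtype.ext ((cancel_mono i).1 (Additive.ofMul.injective h)))
  let D : AbDual.TateMod Y ℓ T →+ Additive ↥(CommGroup.primaryComponent (T ⟶ N) ℓ) :=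
    AddMonoidHom.mk' a fun y z => hinj _ _ <| by
      rw [ha, show Additive.ofMul ((a y + a z).toMul.1 ≫ i) = Additive.ofMul ((a y).toMul.1 ≫ i) +
        Additive.ofMul ((a z).toMul.1 ≫ i) from congrArg Additive.ofMul (MonObj.mul_comp _ _ i), ha, ha]
      obtain ⟨x, hx, ⟨b, hb⟩, hxa⟩ := hδ y
      obtain ⟨x', hx', ⟨b', hb'⟩, hxa'⟩ := hδ z
      refine (hδu (y + z) _ ⟨x + x', ?_, ⟨b + b', ?_⟩, by rw [smul_add, hxa, hxa']⟩).symm
      · rw [map_add, hx, hx']; rfl
      · rw [smul_add, pow_add, mul_smul, mul_smul, hb', smul_zero, smul_comm, hb, smul_zero, add_zero]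
  have hker : D.ker = (LinearMap.range (AbDual.tateMapₗ (l := ℓ) (T := T) f)).toAddSubgroup := by
    ext y
    rw [AddMonoidHom.mem_ker, Submodule.mem_toAddSubgroup, LinearMap.mem_range]
    constructor
    · intro hy
      have h0 : δ y = 0 := by
        rw [← ha y, show a y = 0 from hy]
        exact congrArg Additive.ofMul (MonObj.one_comp i)
      obtain ⟨z, hz0, hz1, hz⟩ := hM3 y.1 y.2.1 y.2.2 (h0 ▸ hδ y)
      exact ⟨⟨z, hz0, hz1⟩, AbDual.TateMod.ext hz⟩
    · rintro ⟨z, rfl⟩
      refine hinj _ 0 ?_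
      rw [show D (AbDual.tateMapₗ (l := ℓ) (T := T) f z) = a _ from rfl, ha]
      refine ((hδu _ 0 ⟨z.1 M, rfl, ⟨M, z.2.1 M⟩, z.2.1 M⟩).symm.trans ?_)
      exact (congrArg Additive.ofMul (MonObj.one_comp i)).symm
  have hsurj : Function.Surjective D := fun b => by
    obtain ⟨m, hm⟩ := b.toMul.2
    obtain ⟨y, hy0, hy1, hy⟩ := hM2 (Additive.ofMul (b.toMul.1 ≫ i))
      (by
        refine congrArg Additive.ofMul (?_ : (b.toMul.1 ≫ i) ≫ f = 1)
        rw [Category.assoc, H19Grp.kernel_comp_eq_one hN, MonObj.comp_one])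
      ⟨m, congrArg Additive.ofMul (show (b.toMul.1 ≫ i) ^ ℓ ^ m = 1 by rw [← MonObj.pow_comp, hm, MonObj.one_comp])⟩
    exact ⟨⟨y, hy0, hy1⟩, hinj _ _ ((ha _).trans (hδu ⟨y, hy0, hy1⟩ _ hy).symm)⟩
  exact ⟨(QuotientAddGroup.quotientAddEquivOfEq hker.symm).trans (QuotientAddGroup.quotientKerEquivOfSurjective D hsurj)⟩

end Groth.Agent.S17514
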