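import Groth.Statements.S17515
import Groth.Agent.H25Symm.Main

set_option autoImplicit false
set_option linter.style.haveILetI false
set_option backward.isDefEq.respectTransparency false
set_option synthInstance.maxHeartbeats 200000
universe u
open CategoryTheory CategoryTheory.Limits MonoidalCategory CartesianMonoidalCategory MonObj GrpObj AlgebraicGeometry
open AbVar

namespace Groth.Agent.S17515

/-- A symmetric homomorphism to the dual comes from a line bundle after passing to an algebraically
closed field. Let X be an abelian variety over a field k (a proper, geometrically integral,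
commutative k-group scheme) and (X^t, φ) a given dual abelian variety for the fppf topology, X^t
itself an abelian variety, with Poincaré class ξ on X ×_k X^t; suppose moreover that (X, φ') is
given as the dual of X^t in such a way that the swap of ξ to X^t ×_k X is its Poincaré class (this
identifies X with its double dual, the biduality map becoming the identity). Let λ : X → X^t be a
homomorphism which is symmetric: λ is its own transpose with respect to φ and φ'. Then for every
algebraically closed field Ω and every k-point t : Spec Ω → Spec k there is an invertible module L
on the base change X_Ω such that the base change λ_Ω : X_Ω → X^t_Ω is the homomorphism φ_L attached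
to L through the base-changed dual data (there is an invertible module N on X_Ω × X_Ω with N ⊗
pr_1^*L ⊗ pr_2^*L ≅ m^*L whose class is sent to λ_Ω). (The published item also gives a finite
separable extension of k over which such an L exists; that refinement is not part of this
statement.) -/
theorem result
    (k : Type u) [Field k] (X Xt : Over (Spec (CommRingCat.of k)))
    [GrpObj X] [IsCommMonObj X] [IsProper X.hom] [GeometricallyIntegral X.hom]
    [GrpObj Xt] [IsCommMonObj Xt] [IsProper Xt.hom] [GeometricallyIntegral Xt.hom]
    (φ : AgPol.DualMap X Xt) (hφ : AbDual.IsDualAV Scheme.fppfPrecoverage X Xt φ)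
    (φ' : AgPol.DualMap Xt X) (hφ' : AbDual.IsDualAV Scheme.fppfPrecoverage Xt X φ')
    (ξ : PicF.Cl (PicF.XT X.hom Xt)) (hξ : AbDual.IsPoincareCl X Xt φ ξ)
    (hξ' : AbDual.IsPoincareCl Xt X φ' (PicF.pullCl (pullbackSymmetry Xt.hom X.hom).hom ξ))
    (lam : X ⟶ Xt) [IsMonHom lam] (hsymm : AbDual.IsTranspose lam φ φ' lam)
    (Ω : Type u) [Field Ω] [IsAlgClosed Ω] (t : Spec (CommRingCat.of Ω) ⟶ Spec (CommRingCat.of k)) :
    ∃ L : (Red.bc t X).left.Modules, PicF.IsInvertible L ∧
      AgPol.IsLambda (Red.bc t X) (Red.bc t Xt) (AgPol.bcDual t X Xt φ) L ((Over.pullback t).map lam) := by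
  exact Groth.Agent.H25Symm.exists_isLambda hφ hξ hξ' lam hsymm Ω t

end Groth.Agent.S17515
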