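import Groth.Statements.S17516
import Groth.Agent.H25Dual.Polar

set_option autoImplicit false
set_option linter.style.haveILetI false
set_option backward.isDefEq.respectTransparency false
set_option synthInstance.maxHeartbeats 200000
universe u
open CategoryTheory CategoryTheory.Limits MonoidalCategory CartesianMonoidalCategory MonObj GrpObj AlgebraicGeometry
open AbVar

namespace Groth.Agent.S17516

/-- Let X and Y be abelian varieties over a field k (proper, geometrically integral, commutative k-group
schemes) with given dual abelian varieties (X^t, φ_X) and (Y^t, φ_Y) for the fppf topology, let f :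
X → Y be an isogeny — a homomorphism which is finite, flat and surjective — of constant degree d,
with transpose f^t : Y^t → X^t, and let λ : Y → Y^t be a polarization of Y (a homomorphism whose
base change to every algebraically closed field is the homomorphism φ_M attached to some ample
invertible module M) which is finite and flat of constant degree e. Then f^*λ := f^t ∘ λ ∘ f : X →
X^t is a polarization of X, and it is finite and flat of constant degree d² · e = deg(f)² · deg(λ). -/
theorem result
    (k : Type u) [Field k] (X Xt Y Yt : Over (Spec (CommRingCat.of k)))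
    [GrpObj X] [IsCommMonObj X] [IsProper X.hom] [GeometricallyIntegral X.hom] [GrpObj Xt] [IsCommMonObj Xt] [IsProper Xt.hom] [GeometricallyIntegral Xt.hom]
    [GrpObj Y] [IsCommMonObj Y] [IsProper Y.hom] [GeometricallyIntegral Y.hom] [GrpObj Yt] [IsCommMonObj Yt] [IsProper Yt.hom] [GeometricallyIntegral Yt.hom]
    (φX : AgPol.DualMap X Xt) (hX : AbDual.IsDualAV Scheme.fppfPrecoverage X Xt φX)
    (φY : AgPol.DualMap Y Yt) (hY : AbDual.IsDualAV Scheme.fppfPrecoverage Y Yt φY)
    (f : X ⟶ Y) [IsMonHom f] [IsFinite f.left] [Flat f.left] [Surjective f.left]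
    (d : ℕ) (hd : ∀ y : ↥Y.left, Scheme.Hom.finrank f.left y = d)
    (ft : Yt ⟶ Xt) (hft : AbDual.IsTranspose f φX φY ft)
    (lam : Y ⟶ Yt) (hlam : AgPol.IsPolarization Y Yt φY lam)
    [IsFinite lam.left] [Flat lam.left] (e : ℕ) (he : ∀ y : ↥Yt.left, Scheme.Hom.finrank lam.left y = e) :
    AgPol.IsPolarization X Xt φX (f ≫ lam ≫ ft) ∧ IsFinite (f ≫ lam ≫ ft).left ∧ Flat (f ≫ lam ≫ ft).left ∧
      ∀ x : ↥Xt.left, Scheme.Hom.finrank (f ≫ lam ≫ ft).left x = d ^ 2 * e := by
  haveI := hlam.1
  haveI := Groth.Agent.H25Dual.isMonHom_transpose hX hY hft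
  obtain ⟨h1, h2, h3, h4⟩ := Groth.Agent.H25Dual.transpose_isogeny hX hY hft hd
  haveI := h1; haveI := h2
  haveI : IsFinite (lam ≫ ft).left := by rw [Over.comp_left]; infer_instance
  haveI : Flat (lam ≫ ft).left := by rw [Over.comp_left]; infer_instance
  have hfin : IsFinite (f ≫ lam ≫ ft).left := by rw [Over.comp_left]; infer_instance
  haveI := hfin
  have hflat : Flat (f ≫ lam ≫ ft).left := by rw [Over.comp_left]; infer_instance
  refine ⟨Groth.Agent.H25Dual.isPolarization_pullback hX hY hft hlam, hfin, hflat, fun x => ?_⟩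
  haveI : IsIntegral X.left := GeometricallyIntegral.isIntegral_of_subsingleton X.hom
  haveI : IsIntegral Y.left := GeometricallyIntegral.isIntegral_of_subsingleton Y.hom
  obtain ⟨g, hg⟩ := Groth.Agent.H25Grp.exists_nat_dim X.hom
  have hgX := Groth.Agent.H25Dual.dim_dual hX hg
  have hgY : topologicalKrullDim Y.left = g := by
    rw [← hg]
    refine le_antisymm (Groth.Agent.H17.topologicalKrullDim_le_of_specializingMap f.left
      f.left.isClosedMap.specializingMap f.left.surjective) ?_
    exact Groth.Agent.H17.topologicalKrullDim_le_of_noSpecializationsInFibres f.left f.left.continuous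
      fun a b h e => Groth.Agent.H05EGA4.eq_of_specializes_of_fibre f.left h e
  have hgY' := Groth.Agent.H25Dual.dim_dual hY hgY
  rw [Groth.Agent.H25AbCube.finrank_eq_degree (f ≫ lam ≫ ft) hg hgX x,
    Groth.Agent.H25AbCube.degree_comp hg hgY hgX f (lam ≫ ft),
    Groth.Agent.H25AbCube.degree_comp hgY hgY' hgX lam ft,
    ← Groth.Agent.H25AbCube.finrank_eq_degree f hg hgY (genericPoint Y.left), hd,
    ← Groth.Agent.H25AbCube.finrank_eq_degree lam hgY hgY' ((1 : 𝟙_ (Over (Spec (CommRingCat.of k))) ⟶ Yt).left (IsLocalRing.closedPoint k)), he,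
    ← Groth.Agent.H25AbCube.finrank_eq_degree ft hgY' hgX x, h4]
  ring

end Groth.Agent.S17516
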