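import Groth.Statements.S17517
import Mathlib

set_option autoImplicit false
universe u
open GIT

namespace Groth.Agent.S17517
theorem exists_rat_solution {σ τ : Type*} [Finite σ] [Fintype τ] (M : τ → σ → ℚ) (c : τ → ℚ)
    [Fintype σ] (lam : σ → ℝ) (h : ∀ t, ∑ s, (M t s : ℝ) * lam s = c t) :
    ∃ μ : σ → ℚ, ∀ t, ∑ s, M t s * μ s = c t := by
  classical
  by_contra hne
  push Not at hne
  let T : (σ → ℚ) →ₗ[ℚ] (τ → ℚ) := Matrix.mulVecLin (Matrix.of M)
  have hc : c ∉ LinearMap.range T := by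
    rintro ⟨μ, hμ⟩
    obtain ⟨t, ht⟩ := hne μ
    exact ht (congrFun hμ t)
  obtain ⟨φ, hφc, hφ⟩ := Submodule.exists_le_ker_of_notMem hc
  set p : τ → ℚ := fun t => φ (Pi.single t 1)
  have hp : ∀ v : τ → ℚ, φ v = ∑ t, v t * p t := fun v => by
    conv_lhs => rw [← Finset.univ_sum_single v, map_sum]
    refine Finset.sum_congr rfl fun t _ => ?_
    rw [show Pi.single t (v t) = v t • (Pi.single t (1 : ℚ) : τ → ℚ) by rw [← Pi.single_smul]; simp,
      map_smul]
    rfl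
  have hcol : ∀ s, ∑ t, M t s * p t = 0 := fun s => by
    have := hφ ⟨Pi.single s 1, rfl⟩
    rw [LinearMap.mem_ker, hp] at this
    simpa [T] using this
  refine hφc ?_
  rw [hp]
  have : ((∑ t, c t * p t : ℚ) : ℝ) = 0 := by
    push_cast
    simp only [← h, Finset.sum_mul]
    rw [Finset.sum_comm]
    refine Finset.sum_eq_zero fun s _ => ?_
    have h2 : ((∑ t, M t s * p t : ℚ) : ℝ) = 0 := by rw [hcol s, Rat.cast_zero]
    push_cast at h2
    rw [← mul_zero (lam s), ← h2, Finset.mul_sum]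
    exact Finset.sum_congr rfl fun t _ => by ring
  exact_mod_cast this

theorem exists_rat_riesz {E : Type*} [NormedAddCommGroup E] [InnerProductSpace ℝ E] [FiniteDimensional ℝ E]
    {ι : Type*} [Fintype ι] (b : Module.Basis ι ℝ E) (hb : ∀ i j, ∃ n : ℤ, inner ℝ (b i) (b j) = (n : ℝ))
    (l : Module.Dual ℝ E) (hl : ∀ i, ∃ q : ℚ, l (b i) = (q : ℝ)) :
    ∃ c : ι → ℚ, ∀ x, l x = inner ℝ (∑ i, (c i : ℝ) • b i) x := by
  choose n hn using hb
  choose q hq using hl
  set u := (InnerProductSpace.toDual ℝ E).symm (LinearMap.toContinuousLinearMap l)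
  obtain ⟨c, hc⟩ := exists_rat_solution (fun j i => (n i j : ℚ)) q (fun i => b.repr u i) fun j => by
    have h1 : inner ℝ u (b j) = l (b j) := by
      simp [u]
    rw [← hq, ← h1]
    conv_rhs => rw [← b.sum_repr u, sum_inner]
    refine Finset.sum_congr rfl fun i _ => ?_
    rw [real_inner_smul_left, hn]
    push_cast
    ring
  refine ⟨c, fun x => ?_⟩
  have : l = (innerₛₗ ℝ) (∑ i, (c i : ℝ) • b i) := b.ext fun j => by
    show l (b j) = inner ℝ (∑ i, (c i : ℝ) • b i) (b j)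
    rw [hq, sum_inner, ← hc j]
    push_cast
    refine Finset.sum_congr rfl fun i _ => ?_
    rw [real_inner_smul_left, hn]
    ring
  exact LinearMap.congr_fun this x

theorem eq_of_norm_eq_min {E : Type*} [NormedAddCommGroup E] [InnerProductSpace ℝ E] {P : Set E}
    (hP : Convex ℝ P) {v w : E} (hv : v ∈ P) (hw : w ∈ P) (hmin : ∀ x ∈ P, ‖v‖ ≤ ‖x‖) (he : ‖w‖ = ‖v‖) :
    w = v := by
  have hm : (1/2 : ℝ) • w + (1/2 : ℝ) • v ∈ P := hP hw hv (by norm_num) (by norm_num) (by norm_num)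
  have h1 := hmin _ hm
  rw [← smul_add, norm_smul, Real.norm_eq_abs, abs_of_nonneg (by norm_num : (0:ℝ) ≤ 1/2)] at h1
  have h2 := parallelogram_law_with_norm ℝ w v
  rw [he] at h2
  have h3 : ‖w - v‖ * ‖w - v‖ ≤ 0 := by nlinarith [norm_nonneg (w + v), norm_nonneg v]
  have h4 : ‖w - v‖ = 0 := mul_self_eq_zero.1 (le_antisymm h3 (mul_self_nonneg _))
  exact sub_eq_zero.1 (norm_eq_zero.1 h4)

theorem exists_rat_multiple {E : Type*} [AddCommGroup E] [Module ℝ E] {ι : Type*} [Fintype ι]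
    (b : ι → E) (L : Submodule ℤ E) (hb : ∀ i, b i ∈ L) (c : ι → ℚ) :
    ∃ N : ℕ, 0 < N ∧ (N : ℝ) • ∑ i, (c i : ℝ) • b i ∈ L := by
  classical
  refine ⟨∏ i, (c i).den, Finset.prod_pos fun i _ => (c i).den_pos, ?_⟩
  rw [Finset.smul_sum]
  refine sum_mem fun i _ => ?_
  obtain ⟨m, hm⟩ := Finset.dvd_prod_of_mem (fun i => (c i).den) (Finset.mem_univ i)
  have hc : (((∏ j, (c j).den : ℕ) : ℝ)) * (c i : ℝ) = (((c i).num * (m : ℤ) : ℤ) : ℝ) := by
    rw [hm, Rat.cast_def]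
    have : ((c i).den : ℝ) ≠ 0 := by exact_mod_cast (c i).den_ne_zero
    push_cast
    field_simp
  rw [smul_smul, hc, Int.cast_smul_eq_zsmul]
  exact L.smul_mem _ (hb i)

theorem exists_minimiser_rat {E : Type*} [NormedAddCommGroup E] [InnerProductSpace ℝ E] [FiniteDimensional ℝ E]
    {ι : Type*} [Fintype ι] (b : Module.Basis ι ℝ E) (hb : ∀ i j, ∃ n : ℤ, inner ℝ (b i) (b j) = (n : ℝ))
    (F G : Finset (Module.Dual ℝ E))
    (hFi : ∀ f ∈ F, ∀ i, ∃ n : ℤ, f (b i) = (n : ℝ)) (hGi : ∀ g ∈ G, ∀ i, ∃ n : ℤ, g (b i) = (n : ℝ))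
    {v : E} (hF : ∀ f ∈ F, 0 ≤ f v) (hG : ∀ g ∈ G, 1 ≤ g v)
    (hmin : ∀ x, (∀ f ∈ F, 0 ≤ f x) → (∀ g ∈ G, 1 ≤ g x) → ‖v‖ ≤ ‖x‖) :
    ∃ c : ι → ℚ, v = ∑ i, (c i : ℝ) • b i := by
  classical
  let S : Finset (Module.Dual ℝ E) := F.filter (fun f => f v = 0) ∪ G.filter (fun g => g v = 1)
  have hS : ∀ l : S, ∀ i, ∃ q : ℚ, (l : Module.Dual ℝ E) (b i) = (q : ℝ) := fun l i => by
    rcases Finset.mem_union.1 l.2 with hl | hl
    · obtain ⟨n, hn⟩ := hFi _ (Finset.mem_filter.1 hl).1 i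
      exact ⟨n, by rw [hn]; norm_cast⟩
    · obtain ⟨n, hn⟩ := hGi _ (Finset.mem_filter.1 hl).1 i
      exact ⟨n, by rw [hn]; norm_cast⟩
  have hSv : ∀ l : S, ∃ q : ℚ, (l : Module.Dual ℝ E) v = (q : ℝ) := fun l => by
    rcases Finset.mem_union.1 l.2 with hl | hl
    · exact ⟨0, by rw [(Finset.mem_filter.1 hl).2]; norm_cast⟩
    · exact ⟨1, by rw [(Finset.mem_filter.1 hl).2]; norm_cast⟩
  choose C hC using fun l : S => exists_rat_riesz b hb (l : Module.Dual ℝ E) (hS l)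
  choose d hd using hSv
  let u : S → E := fun l => ∑ i, (C l i : ℝ) • b i
  let U : Submodule ℝ E := Submodule.span ℝ (Set.range u)
  have horth : ∀ h : E, (∀ l : S, (l : Module.Dual ℝ E) h = 0) → inner ℝ v h = 0 := by
    intro h hh
    by_contra ha
    have hev : ∀ᶠ e in nhds (0 : ℝ), (∀ f ∈ F, 0 ≤ f (v + e • h)) ∧ ∀ g ∈ G, 1 ≤ g (v + e • h) := by
      refine Filter.Eventually.and ((Finset.eventually_all F).2 fun f hf => ?_) ((Finset.eventually_all G).2 fun g hg => ?_)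
      · rcases (hF f hf).eq_or_lt with h0 | h0
        · refine Filter.Eventually.of_forall fun e => ?_
          rw [map_add, map_smul, hh ⟨f, Finset.mem_union_left _ (Finset.mem_filter.2 ⟨hf, h0.symm⟩)⟩, ← h0]
          simp
        · have : Filter.Tendsto (fun e : ℝ => f v + e * f h) (nhds 0) (nhds (f v)) := by
            have hc : Continuous fun e : ℝ => f v + e * f h := by fun_prop
            simpa using hc.tendsto 0
          filter_upwards [this.eventually (lt_mem_nhds h0)] with e he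
          rw [map_add, map_smul, smul_eq_mul]
          exact he.le
      · rcases (hG g hg).eq_or_lt with h0 | h0
        · refine Filter.Eventually.of_forall fun e => ?_
          rw [map_add, map_smul, hh ⟨g, Finset.mem_union_right _ (Finset.mem_filter.2 ⟨hg, h0.symm⟩)⟩, ← h0]
          simp
        · have : Filter.Tendsto (fun e : ℝ => g v + e * g h) (nhds 0) (nhds (g v)) := by
            have hc : Continuous fun e : ℝ => g v + e * g h := by fun_prop
            simpa using hc.tendsto 0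
          filter_upwards [this.eventually (lt_mem_nhds h0)] with e he
          rw [map_add, map_smul, smul_eq_mul]
          exact he.le
    obtain ⟨r, hr, hball⟩ := Metric.eventually_nhds_iff.1 hev
    set a := inner ℝ v h
    have hh0 : h ≠ 0 := fun h0 => ha (by simp [a, h0])
    set t := min (r / (2 * |a|)) (1 / ‖h‖ ^ 2)
    have ht : 0 < t := lt_min (by positivity) (by positivity)
    have hdist : dist (-(t * a)) 0 < r := by
      rw [dist_zero_right, norm_neg, Real.norm_eq_abs, abs_mul, abs_of_pos ht]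
      calc t * |a| ≤ r / (2 * |a|) * |a| := by gcongr; exact min_le_left _ _
        _ = r / 2 := by field_simp
        _ < r := by linarith
    obtain ⟨h1, h2⟩ := hball hdist
    have h3 := hmin _ h1 h2
    have h4 := mul_self_le_mul_self (norm_nonneg v) h3
    rw [← sq, ← sq, norm_add_sq_real, inner_smul_right, norm_smul, mul_pow, Real.norm_eq_abs, sq_abs] at h4
    have h5 : t * ‖h‖ ^ 2 ≤ 1 := by
      calc t * ‖h‖ ^ 2 ≤ 1 / ‖h‖ ^ 2 * ‖h‖ ^ 2 := by gcongr; exact min_le_right _ _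
        _ = 1 := by field_simp
    nlinarith [mul_pos ht (mul_self_pos.2 ha), mul_le_mul_of_nonneg_left h5 (mul_nonneg ht.le (mul_self_nonneg a))]
  have hvU : v ∈ U := by
    rw [← Submodule.orthogonal_orthogonal U, Submodule.mem_orthogonal']
    intro h hh
    refine horth h fun l => ?_
    rw [hC l h]
    exact Submodule.inner_right_of_mem_orthogonal (Submodule.subset_span (R := ℝ) (s := Set.range u) ⟨l, rfl⟩) hh
  obtain ⟨lam, hlam⟩ := (Submodule.mem_span_range_iff_exists_fun ℝ).1 hvU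
  choose q hq using hS
  have hlu : ∀ l l' : S, (l : Module.Dual ℝ E) (u l') = ((∑ i, C l' i * q l i : ℚ) : ℝ) := fun l l' => by
    simp only [u, map_sum, map_smul, smul_eq_mul, hq]
    push_cast
    rfl
  obtain ⟨μ, hμ⟩ := exists_rat_solution (fun l l' : S => ∑ i, C l' i * q l i) d lam fun l => by
    rw [← hd l, ← hlam, map_sum]
    refine Finset.sum_congr rfl fun l' _ => ?_
    rw [map_smul, smul_eq_mul, hlu]
    ring
  refine ⟨fun i => ∑ l, μ l * C l i, ?_⟩
  set w : E := ∑ l, (μ l : ℝ) • u l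
  have hw : w = ∑ i, ((∑ l, μ l * C l i : ℚ) : ℝ) • b i := by
    simp only [w, u, Finset.smul_sum, smul_smul]
    rw [Finset.sum_comm]
    refine Finset.sum_congr rfl fun i _ => ?_
    push_cast
    rw [Finset.sum_smul]
  rw [← hw]
  have hwU : w ∈ U := sum_mem fun l _ => U.smul_mem _ (Submodule.subset_span ⟨l, rfl⟩)
  have hzero : ∀ x ∈ U, inner ℝ x (v - w) = 0 := fun x hx => by
    induction hx using Submodule.span_induction with
    | mem x hx =>
      obtain ⟨l, rfl⟩ := hx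
      rw [← hC l, map_sub, hd, sub_eq_zero]
      simp only [w, map_sum, map_smul, smul_eq_mul, hlu, ← hμ l]
      push_cast
      exact Finset.sum_congr rfl fun l' _ => by ring
    | zero => exact inner_zero_left _
    | add x y _ _ hx hy => rw [inner_add_left, hx, hy, add_zero]
    | smul r x _ hx => rw [inner_smul_left, hx, mul_zero]
  exact sub_eq_zero.1 (inner_self_eq_zero.1 (hzero _ (U.sub_mem hvU hwU)))


/-- Let `E` be a finite-dimensional real inner product space and `L` a full lattice in `E` (a discrete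
subgroup spanning `E`) on which the inner product is integer valued; let `F` and `G` be nonempty
finite sets of real linear functionals on `E` taking integer values on `L`, with `f_min v = min_{f ∈
F} f v` and `g_min v = min_{g ∈ G} g v`. If some vector `v` has `f_min v ≥ 0` and `g_min v > 0`,
then on the set `C_F` of nonzero `v` with `f_min v ≥ 0` the function `v ↦ g_min v / ‖v‖` attains a
greatest value `M`, and there is exactly one lattice vector `v₀ ∈ C_F` with `g_min v₀ / ‖v₀‖ = M` of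
which every lattice vector `v ∈ C_F` with `g_min v / ‖v‖ = M` is an integer multiple. -/
theorem result
    (E : Type u) [NormedAddCommGroup E] [InnerProductSpace ℝ E] [FiniteDimensional ℝ E]
    (L : Submodule ℤ E) [DiscreteTopology L] [IsZLattice ℝ L]
    (hint : ∀ x ∈ L, ∀ y ∈ L, ∃ n : ℤ, inner ℝ x y = (n : ℝ))
    (F G : Finset (Module.Dual ℝ E)) (hF : F.Nonempty) (hG : G.Nonempty)
    (hFi : ∀ f ∈ F, ∀ x ∈ L, ∃ n : ℤ, f x = (n : ℝ)) (hGi : ∀ g ∈ G, ∀ x ∈ L, ∃ n : ℤ, g x = (n : ℝ))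
    (hpos : ∃ v : E, 0 ≤ F.inf' hF (fun f => f v) ∧ 0 < G.inf' hG (fun g => g v)) :
    ∃ M : ℝ, IsGreatest ((fun v => G.inf' hG (fun g => g v) / ‖v‖) ''
        {v : E | v ≠ 0 ∧ 0 ≤ F.inf' hF (fun f => f v)}) M ∧
      ∃! v₀ : E, v₀ ∈ L ∧ v₀ ≠ 0 ∧ 0 ≤ F.inf' hF (fun f => f v₀) ∧
        G.inf' hG (fun g => g v₀) / ‖v₀‖ = M ∧
        ∀ v ∈ L, v ≠ 0 → 0 ≤ F.inf' hF (fun f => f v) → G.inf' hG (fun g => g v) / ‖v‖ = M →
          ∃ n : ℤ, v = n • v₀ := by
  classical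
  haveI : Module.Finite ℤ L := ZLattice.module_finite ℝ L
  haveI : Module.Free ℤ L := ZLattice.module_free ℝ L
  let b₀ := Module.Free.chooseBasis ℤ L
  let b := b₀.ofZLatticeBasis ℝ L
  have hbL : ∀ i, b i ∈ L := fun i => by rw [Module.Basis.ofZLatticeBasis_apply]; exact (b₀ i).2
  let gm : E → ℝ := fun v => G.inf' hG fun g => g v
  let C : Set E := {v | v ≠ 0 ∧ 0 ≤ F.inf' hF fun f => f v}
  let P : Set E := {v | (∀ f ∈ F, 0 ≤ f v) ∧ ∀ g ∈ G, 1 ≤ g v}
  have hFiff : ∀ v : E, (0 ≤ F.inf' hF fun f => f v) ↔ ∀ f ∈ F, 0 ≤ f v := fun v => Finset.le_inf'_iff _ _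
  have hgle : ∀ (v : E), ∀ g ∈ G, gm v ≤ g v := fun v g hg => Finset.inf'_le (fun g => g v) hg
  have hPne : P.Nonempty := by
    obtain ⟨v, hv, hv'⟩ := hpos
    rw [hFiff] at hv
    refine ⟨(gm v)⁻¹ • v, fun f hf => ?_, fun g hg => ?_⟩
    · rw [map_smul]; exact mul_nonneg (inv_nonneg.2 hv'.le) (hv f hf)
    · rw [map_smul, smul_eq_mul, ← inv_mul_cancel₀ hv'.ne']
      exact mul_le_mul_of_nonneg_left (hgle v g hg) (inv_nonneg.2 hv'.le)
  have hPcl : IsClosed P := by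
    simp only [P, Set.setOf_and, Set.setOf_forall]
    exact (isClosed_biInter fun f _ => isClosed_le continuous_const f.continuous_of_finiteDimensional).inter
      (isClosed_biInter fun g _ => isClosed_le continuous_const g.continuous_of_finiteDimensional)
  have hPconv : Convex ℝ P := by
    intro x hx y hy s t hs ht hst
    refine ⟨fun f hf => ?_, fun g hg => ?_⟩
    · rw [map_add, map_smul, map_smul]
      exact add_nonneg (mul_nonneg hs (hx.1 f hf)) (mul_nonneg ht (hy.1 f hf))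
    · rw [map_add, map_smul, map_smul, smul_eq_mul, smul_eq_mul]
      calc (1 : ℝ) = s * 1 + t * 1 := by rw [mul_one, mul_one, hst]
        _ ≤ _ := add_le_add (mul_le_mul_of_nonneg_left (hx.2 g hg) hs) (mul_le_mul_of_nonneg_left (hy.2 g hg) ht)
  obtain ⟨v, hvP, hv⟩ := hPcl.exists_infDist_eq_dist hPne (0 : E)
  have hmin : ∀ x ∈ P, ‖v‖ ≤ ‖x‖ := fun x hx => by
    have := Metric.infDist_le_dist_of_mem (x := (0 : E)) hx
    rwa [hv, dist_zero_left, dist_zero_left] at this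
  have hv0 : v ≠ 0 := fun h0 => by
    obtain ⟨g, hg⟩ := hG
    have := hvP.2 g hg
    rw [h0, map_zero] at this
    linarith
  have hvn : 0 < ‖v‖ := norm_pos_iff.2 hv0
  set M : ℝ := ‖v‖⁻¹
  have hnorm : ∀ x ∈ C, 0 < gm x → (gm x)⁻¹ • x ∈ P ∧ ‖(gm x)⁻¹ • x‖ = ‖x‖ / gm x := by
    intro x hx hgx
    refine ⟨⟨fun f hf => ?_, fun g hg => ?_⟩, ?_⟩
    · rw [map_smul]; exact mul_nonneg (inv_nonneg.2 hgx.le) ((hFiff x).1 hx.2 f hf)
    · rw [map_smul, smul_eq_mul, ← inv_mul_cancel₀ hgx.ne']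
      exact mul_le_mul_of_nonneg_left (hgle x g hg) (inv_nonneg.2 hgx.le)
    · rw [norm_smul, norm_inv, Real.norm_eq_abs, abs_of_pos hgx, inv_mul_eq_div]
  have hub : ∀ x ∈ C, gm x / ‖x‖ ≤ M := by
    intro x hx
    rcases le_or_gt (gm x) 0 with hgx | hgx
    · exact (div_nonpos_of_nonpos_of_nonneg hgx (norm_nonneg _)).trans (inv_nonneg.2 hvn.le)
    · obtain ⟨hxP, hxn⟩ := hnorm x hx hgx
      have h := hmin _ hxP
      rw [hxn] at h
      have := inv_anti₀ hvn h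
      rwa [inv_div] at this
  have hvC : v ∈ C := ⟨hv0, (hFiff v).2 hvP.1⟩
  have hgv1 : 1 ≤ gm v := (Finset.le_inf'_iff _ _).2 hvP.2
  have hgv : gm v = 1 := le_antisymm (by
    have h := hub v hvC
    rwa [div_le_iff₀ hvn, inv_mul_cancel₀ hvn.ne'] at h) hgv1
  have hratio : ∀ t : ℝ, 0 < t → t • v ∈ C ∧ gm (t • v) / ‖t • v‖ = M := by
    intro t ht
    refine ⟨⟨smul_ne_zero ht.ne' hv0, (hFiff _).2 fun f hf => ?_⟩, ?_⟩
    · rw [map_smul]; exact mul_nonneg ht.le (hvP.1 f hf)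
    · have : gm (t • v) = t := le_antisymm (by
        obtain ⟨g, hg, hge⟩ := G.exists_mem_eq_inf' hG fun g => g v
        refine (hgle _ g hg).trans_eq ?_
        rw [map_smul, smul_eq_mul, show g v = gm v from hge.symm, hgv, mul_one])
        ((Finset.le_inf'_iff _ _).2 fun g hg => by
          rw [map_smul, smul_eq_mul]; exact le_mul_of_one_le_right ht.le (hvP.2 g hg))
      rw [this, norm_smul, Real.norm_eq_abs, abs_of_pos ht]
      field_simp [M]
      exact (mul_inv_cancel₀ hvn.ne').symm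
  have hmaxi : ∀ x ∈ C, gm x / ‖x‖ = M → 0 < gm x ∧ x = gm x • v := by
    intro x hx he
    have hxn : 0 < ‖x‖ := norm_pos_iff.2 hx.1
    have hgx : 0 < gm x := by
      rw [eq_comm] at he
      have : 0 < gm x / ‖x‖ := he ▸ inv_pos.2 hvn
      exact (div_pos_iff_of_pos_right hxn).1 this
    obtain ⟨hxP, hxe⟩ := hnorm x hx hgx
    refine ⟨hgx, ?_⟩
    have : (gm x)⁻¹ • x = v := eq_of_norm_eq_min hPconv hvP hxP hmin (by
      rw [hxe, ← inv_div, he, inv_inv])
    rw [← this, smul_inv_smul₀ hgx.ne']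
  refine ⟨M, ⟨⟨v, hvC, by show gm v / ‖v‖ = M; rw [hgv, one_div]⟩, ?_⟩, ?_⟩
  · rintro _ ⟨x, hx, rfl⟩
    exact hub x hx
  obtain ⟨c, hc⟩ := exists_minimiser_rat b (fun i j => hint _ (hbL i) _ (hbL j)) F G
    (fun f hf i => hFi f hf _ (hbL i)) (fun g hg i => hGi g hg _ (hbL i)) hvP.1 hvP.2
    fun x hxF hxG => hmin x ⟨hxF, hxG⟩
  obtain ⟨N, hN, hNL⟩ := exists_rat_multiple (fun i => b i) L hbL c
  rw [← hc] at hNL
  have hNR : (0 : ℝ) < N := Nat.cast_pos.2 hN
  have hspan : (L : Set E) = Submodule.span ℤ (Set.range b) := by rw [Module.Basis.ofZLatticeBasis_span]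
  have hfin : {t : ℝ | 0 < t ∧ t ≤ N ∧ t • v ∈ L}.Finite := by
    refine Set.Finite.of_finite_image ((ZSpan.setFinite_inter b (Metric.isBounded_closedBall (x := (0 : E)) (r := N * ‖v‖))).subset ?_)
      (smul_left_injective ℝ hv0).injOn
    rintro _ ⟨t, ⟨ht, htN, htL⟩, rfl⟩
    refine ⟨?_, hspan ▸ htL⟩
    rw [mem_closedBall_zero_iff, norm_smul, Real.norm_eq_abs, abs_of_pos ht]
    gcongr
  obtain ⟨t₀, ⟨ht₀, ht₀N, ht₀L⟩, hle⟩ := Set.exists_min_image _ id hfin ⟨(N : ℝ), hNR, le_rfl, hNL⟩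
  have hmult : ∀ x ∈ L, x ∈ C → gm x / ‖x‖ = M → ∃ n : ℤ, x = n • (t₀ • v) := by
    intro x hxL hx he
    obtain ⟨hgx, hxv⟩ := hmaxi x hx he
    set s := gm x
    set n := ⌊s / t₀⌋
    refine ⟨n, ?_⟩
    have hr : (s - n * t₀) • v ∈ L := by
      rw [sub_smul, mul_smul, ← hxv, Int.cast_smul_eq_zsmul]
      exact L.sub_mem hxL (L.smul_mem n ht₀L)
    have h1 : (n : ℝ) * t₀ ≤ s := (le_div_iff₀ ht₀).1 (Int.floor_le _)
    have h2 : s < ((n : ℝ) + 1) * t₀ := (div_lt_iff₀ ht₀).1 (Int.lt_floor_add_one _)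
    rcases h1.eq_or_lt with h | h
    · rw [hxv, ← h, mul_smul, Int.cast_smul_eq_zsmul]
    · have hlt : s - n * t₀ < t₀ := by linarith
      exact absurd (hle _ ⟨by linarith, hlt.le.trans ht₀N, hr⟩) (not_le_of_gt hlt)
  obtain ⟨hC0, he0⟩ := hratio t₀ ht₀
  refine ⟨t₀ • v, ⟨ht₀L, hC0.1, hC0.2, he0, fun x hxL hx0 hxF hxe => hmult x hxL ⟨hx0, hxF⟩ hxe⟩, ?_⟩
  rintro w ⟨hwL, hw0, hwF, hwe, hwm⟩
  obtain ⟨hgw, hwv⟩ := hmaxi w ⟨hw0, hwF⟩ hwe
  obtain ⟨n, hn⟩ := hmult w hwL ⟨hw0, hwF⟩ hwe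
  obtain ⟨m, hm⟩ := hwm _ ht₀L hC0.1 hC0.2 he0
  have hn' : gm w = n * t₀ := smul_left_injective ℝ hv0 (by
    show gm w • v = ((n : ℝ) * t₀) • v
    rw [← hwv, hn, mul_smul, Int.cast_smul_eq_zsmul])
  have hnm : (m * n : ℤ) = 1 := by
    have h : ((m * n : ℤ) : ℝ) • (t₀ • v) = (1 : ℝ) • (t₀ • v) := by
      rw [one_smul, Int.cast_smul_eq_zsmul, mul_smul, ← hn, ← hm]
    exact_mod_cast smul_left_injective ℝ hC0.1 h
  have hnpos : 0 < n := by
    have : (0 : ℝ) < n := pos_of_mul_pos_left (hn' ▸ hgw) ht₀.le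
    exact_mod_cast this
  rw [hn, Int.eq_one_of_mul_eq_one_left hnpos.le hnm, one_smul]

end Groth.Agent.S17517
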