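import Groth.Statements.S17518
import Groth.Agent.H18Qfh.DescendFT

set_option autoImplicit false
universe u
open CategoryTheory AlgebraicGeometry
open HTop

namespace Groth.Agent.S17518

/-- Let `f : X' ⟶ X` be a universally submersive morphism of Noetherian schemes (every base change of
`f` is a quotient map of topological spaces) and `g : X ⟶ Y` a morphism to a Noetherian scheme. If
`f ≫ g` is locally of finite type, then `g` is locally of finite type. (Both morphisms are then of
finite type, their sources being Noetherian.) -/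
theorem result
    {X' X Y : Scheme.{u}} [IsNoetherian X'] [IsNoetherian X] [IsNoetherian Y]
    (f : X' ⟶ X) (hf : SGA1.UnivSubmersive f) (g : X ⟶ Y)
    [LocallyOfFiniteType (f ≫ g)] : LocallyOfFiniteType g := by
  refine ⟨fun {U} hU {V} hV e => ?_⟩
  haveI : SGA1.UnivSubmersive.{u}.IsStableUnderBaseChange :=
    MorphismProperty.universally_isStableUnderBaseChange _
  haveI : IsNoetherianRing Γ(Y, U) := IsLocallyNoetherian.component_noetherian ⟨U, hU⟩
  haveI : IsNoetherianRing Γ(X, V) := IsLocallyNoetherian.component_noetherian ⟨V, hV⟩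
  letI : Algebra Γ(Y, U) Γ(X, V) := (g.appLE U V e).hom.toAlgebra
  haveI : CompactSpace (f ⁻¹ᵁ V).toScheme :=
    isCompact_iff_compactSpace.mp (TopologicalSpace.NoetherianSpace.isCompact _)
  haveI : IsLocallyNoetherian (f ⁻¹ᵁ V).toScheme := isLocallyNoetherian_of_isOpenImmersion (f ⁻¹ᵁ V).ι
  haveI : IsNoetherian (f ⁻¹ᵁ V).toScheme := ⟨⟩
  let f' : (f ⁻¹ᵁ V).toScheme ⟶ Spec Γ(X, V) := (f ∣_ V) ≫ hV.isoSpec.hom
  have hf' : SGA1.UnivSubmersive f' :=
    (MorphismProperty.cancel_right_of_respectsIso SGA1.UnivSubmersive _ _).2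
      (MorphismProperty.of_isPullback (isPullback_morphismRestrict f V).flip hf)
  haveI : LocallyOfFiniteType ((f' ≫ Spec.map (g.appLE U V e)) ≫ hU.fromSpec) := by
    rw [Category.assoc, IsAffineOpen.SpecMap_appLE_fromSpec g hU hV e, Category.assoc,
      IsAffineOpen.isoSpec_hom_fromSpec_assoc, morphismRestrict_ι_assoc]
    infer_instance
  haveI : LocallyOfFiniteType (f' ≫ Spec.map (g.appLE U V e)) :=
    locallyOfFiniteType_of_comp _ hU.fromSpec
  haveI : LocallyOfFiniteType (f' ≫ Spec.map (CommRingCat.ofHom (algebraMap Γ(Y, U) Γ(X, V)))) :=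
    ‹LocallyOfFiniteType (f' ≫ Spec.map (g.appLE U V e))›
  exact RingHom.finiteType_algebraMap.2
    (H18Qfh.DescendFT.finiteType_of_univSubmersive (R := Γ(Y, U)) (A := Γ(X, V)) f' hf')

end Groth.Agent.S17518
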