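import Groth.Statements.S17520
import Groth.Agent.H14CohBC.QCTarget
import Groth.Agent.H14CohBC.UnitBC

set_option autoImplicit false
universe u
open CategoryTheory AlgebraicGeometry
open StMod

namespace Groth.Agent.S17520

/-- Let `S` be a quasi-separated scheme, `𝒳` an algebraic stack over `(Sch/S)` for the fppf topology,
`M` and `M'` algebraic spaces over `S` that are quasi-separated over `S`, `g : M' ⟶ M` a morphism of
algebraic spaces over `S`, `π : 𝒳 ⟶ M` a quasi-compact and quasi-separated morphism over `S`, and
`π' : 𝒳 ×_M M' ⟶ M'` its base change (first projection of the 2-fibre product), the 2-fibre product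
being assumed algebraic. If `π` is a good moduli space then so is `π'`, and `π'` is again
quasi-compact and quasi-separated. Here a good moduli space is a morphism to an algebraic space
along which pushforward takes surjections of quasi-coherent modules to maps surjective on sections
over every affine scheme etale over the target, and for which the canonical map from the functions
on any scheme etale over the target to the sections of the pushforward of the structure sheaf is
bijective; cohomologically affine means the first of these two conditions. (The published statement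
asks the algebraic spaces to be quasi-separated; the row takes them quasi-separated over a
quasi-separated base scheme `S`.) -/
theorem result
    (S : Scheme.{u}) [QuasiSeparatedSpace S]
    (𝒳 : AlgSt.Cat S) (h𝒳 : AlgSt.IsAlgStack Scheme.fppfPrecoverage 𝒳)
    (M M' : AlgSp.Space S) (hM : AlgSp.IsQuasiSeparatedSp M.obj) (hM' : AlgSp.IsQuasiSeparatedSp M'.obj)
    (g : M'.obj ⟶ M.obj) (π : 𝒳 ⥤ᵇ AlgSt.ofSp M.obj)
    (hqc : AlgSt.IsQuasiCompactMor Scheme.fppfPrecoverage π) (hqs : AlgSt.IsQuasiSeparatedMor π)
    (h𝒳' : AlgSt.IsAlgStack Scheme.fppfPrecoverage (FibCat.fp (AlgSt.ofSpMap g) π))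
    (h : StMod.IsGoodModuli π) :
    StMod.IsGoodModuli (FibCat.fpFst (AlgSt.ofSpMap g) π) ∧
      AlgSt.IsQuasiCompactMor Scheme.fppfPrecoverage (FibCat.fpFst (AlgSt.ofSpMap g) π) ∧
      AlgSt.IsQuasiSeparatedMor (FibCat.fpFst (AlgSt.ofSpMap g) π) := by
  have hqcM := Groth.Agent.H14CohBC.isQCMor_of_qsSp M.property hM
  exact ⟨⟨Groth.Agent.H14CohBC.isCohAffine_fpFst π g h𝒳 M.property M'.property hqc hqs hqcM h.1,
      Groth.Agent.H14CohBC.unitIsIso_fpFst g π h𝒳 M.property M'.property hqc hqs hqcM h.1 h.2⟩,
    Groth.Agent.H14AlgSt.isQCMor_fpFst h𝒳 (Groth.Agent.H14AlgSt.isAlgStack_ofSp M) (Groth.Agent.H14AlgSt.isAlgStack_ofSp M')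
      (AlgSt.ofSpMap g) hqc,
    Groth.Agent.H14AlgSt.repWith_diag_fpFst _ hqs⟩

end Groth.Agent.S17520
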