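import Groth.Statements.S17528
import Groth.Agent.H14CohBC.GoodFiniteType

set_option autoImplicit false
universe u
open CategoryTheory AlgebraicGeometry
open StMod

namespace Groth.Agent.S17528

/-- Let `S` be a Noetherian scheme, `𝒳` an algebraic stack over `(Sch/S)` for the fppf topology which is
quasi-compact and locally of finite type over `S`, `M` an algebraic space over `S` that is
quasi-separated over `S`, and `π : 𝒳 ⟶ M` a quasi-compact and quasi-separated good moduli space.
Then `M` is of finite type over `S`. Here a good moduli space is a morphism to an algebraic space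
along which pushforward takes surjections of quasi-coherent modules to maps surjective on sections
over every affine scheme etale over the target, and for which the canonical map from the functions
on any scheme etale over the target to the sections of the pushforward of the structure sheaf is
bijective; cohomologically affine means the first of these two conditions. (The published statement
has a Noetherian algebraic space as base; the base is a Noetherian scheme here.) -/
theorem result
    (S : Scheme.{u}) [IsNoetherian S]
    (𝒳 : AlgSt.Cat S) (h𝒳 : AlgSt.IsAlgStack Scheme.fppfPrecoverage 𝒳)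
    (hft : AlgSt.LocQ (AlgSp.LocP @LocallyOfFiniteType) (FibCat.toSelf 𝒳)) (hq : AlgSt.IsQuasiCompact 𝒳)
    (M : AlgSp.Space S) (hM : AlgSp.IsQuasiSeparatedSp M.obj) (π : 𝒳 ⥤ᵇ AlgSt.ofSp M.obj)
    (hqc : AlgSt.IsQuasiCompactMor Scheme.fppfPrecoverage π) (hqs : AlgSt.IsQuasiSeparatedMor π)
    (h : StMod.IsGoodModuli π) :
    ∀ q : M.obj ⟶ (AlgSp.yon S).obj (Over.mk (𝟙 S)), AlgSp.IsFiniteTypeMor q := by
  exact fun q => H14CohBC.GoodSetup.isFiniteTypeMor ⟨h𝒳, M.property, hqc, hqs, H14CohBC.isQCMor_of_qsSp M.property hM, h.1, h.2⟩ hft hq q

end Groth.Agent.S17528
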