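import Groth.Statements.S1753
-- import your own Groth.Agent.* helpers here
import Groth.Agent.H3Lich.Main


set_option autoImplicit false
universe u
open CategoryTheory AlgebraicGeometry
open Dual

namespace Groth.Agent.S1753

/-- Let U be a variety over a field k (integral, separated and of finite type over k) and F a coherent
O_U-module with H^d(U, F) ≠ 0. Then dim U ≥ d, and if dim U = d then U is proper over k. -/
theorem result (k : Type u) [Field k] (U : Scheme.{u}) (f : U ⟶ Spec (CommRingCat.of k)) [IsIntegral U] [IsSeparated f] [LocallyOfFiniteType f] [QuasiCompact f] (F : U.Modules) (hF : Coh.IsCoh F) (d : ℕ) (h : Nontrivial (Coh.HH U F d)) : (d : WithBot ℕ∞) ≤ topologicalKrullDim U ∧ (topologicalKrullDim U = d → IsProper f) := by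
  obtain ⟨n, hn⟩ : ∃ n : ℕ, topologicalKrullDim U = n := by
    obtain ⟨x⟩ := (inferInstance : Nonempty U)
    obtain ⟨n, hn⟩ := Groth.Agent.H8Props.FieldDim.exists_nat_localDim f x
    exact ⟨n, (Groth.Agent.H8Props.FieldDim.localDim_eq_dim_of_irreducible f x).symm.trans hn⟩
  have hle : d ≤ n := by
    by_contra hlt
    exact not_nontrivial_iff_subsingleton.2
      (Groth.Agent.H3Lich.subsingleton_of_lt f n hn F hF.1 d (not_le.1 hlt)) h
  refine ⟨hn ▸ Nat.cast_le.2 hle, fun hd => ?_⟩
  by_contra hnp
  exact not_nontrivial_iff_subsingleton.2 (Groth.Agent.H3Lich.subsingleton_top f d hd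
    (fun Z i _ _ hZ => Groth.Agent.H3Lich.not_isProper_of_integral f hnp d hd Z i hZ) F hF.1) h

end Groth.Agent.S1753
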