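import Groth.Statements.S17533
import Groth.Agent.H20LRExt.QuotAffine

set_option backward.isDefEq.respectTransparency false

set_option autoImplicit false
universe u
open CategoryTheory MonoidalCategory CartesianMonoidalCategory AlgebraicGeometry
open HopfRep

namespace Groth.Agent.S17533

/-- In the case where `H` acts on `U = G` by translations, let `k` be an algebraically closed field,
`AG` a commutative Hopf algebra of finite type over `k` (`G = Spec AG` an affine algebraic group),
`AH` a commutative Hopf algebra of finite type which is linearly reductive (every finite-dimensional
comodule semisimple) and `ψ : AG → AH` a surjective bialgebra map, so that `H = Spec AH → G` is a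
closed subgroup (assumed a homomorphism of group schemes), and let `q : G ⟶ Q` present the
`k`-scheme `Q` as the fppf quotient `G/H` (`q` surjective, flat and locally of finite presentation,
and the square with the projection and the multiplication `G × H → G` cartesian). Then `Q` is
affine. (The published statement is that the algebraic-space quotient of an affine scheme by a free
action of a linearly reductive group is affine; this row is its case of `H` acting on `G` by
translations, with the quotient given as a scheme.) -/
theorem result
    (k : Type u) [Field k] [IsAlgClosed k]
    (AG AH : Type u) [CommRing AG] [HopfAlgebra k AG] [Algebra.FiniteType k AG]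
    [CommRing AH] [HopfAlgebra k AH] [Algebra.FiniteType k AH]
    (hH : HopfRep.IsLinearlyReductive k AH)
    (ψ : AG →ₐc[k] AH) (hψ : Function.Surjective ψ)
    [IsMonHom (CoactBr.pt (ψ : AG →ₐ[k] AH))]
    (Q : Over (Spec (CommRingCat.of k))) (q : CoactBr.sp k AG ⟶ Q)
    (hq : RedSub.IsQuotient (CoactBr.pt (ψ : AG →ₐ[k] AH)) q) :
    IsAffine Q.left := by
  exact H20LRExt.isAffine_quotient hH ψ hψ Q q hq

end Groth.Agent.S17533
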