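import Groth.Statements.S17534
import Groth.Agent.H20LRExt.AffineQuot

set_option backward.isDefEq.respectTransparency false

set_option autoImplicit false
universe u
open CategoryTheory MonoidalCategory CartesianMonoidalCategory AlgebraicGeometry
open HopfRep

namespace Groth.Agent.S17534

/-- Let `k` be an algebraically closed field, `AG` a commutative Hopf algebra of finite type over `k`
which is linearly reductive (every finite-dimensional comodule semisimple; `G = Spec AG`), `AH` a
commutative Hopf algebra of finite type and `ψ : AG → AH` a surjective bialgebra map, so that `H =
Spec AH → G` is a closed subgroup (assumed a homomorphism of group schemes), and let `q : G ⟶ Q`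
present the `k`-scheme `Q` as the fppf quotient `G/H` (`q` surjective, flat and locally of finite
presentation, and the square with the projection and the multiplication `G × H → G` cartesian). If
`Q` is affine, then `H` is linearly reductive. (The direct direction — `Q` affine whenever `H` is
linearly reductive — holds without hypothesis on `G`; together they form the published equivalence.) -/
theorem result
    (k : Type u) [Field k] [IsAlgClosed k]
    (AG AH : Type u) [CommRing AG] [HopfAlgebra k AG] [Algebra.FiniteType k AG]
    [CommRing AH] [HopfAlgebra k AH] [Algebra.FiniteType k AH]
    (hG : HopfRep.IsLinearlyReductive k AG)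
    (ψ : AG →ₐc[k] AH) (hψ : Function.Surjective ψ)
    [IsMonHom (CoactBr.pt (ψ : AG →ₐ[k] AH))]
    (Q : Over (Spec (CommRingCat.of k))) (q : CoactBr.sp k AG ⟶ Q)
    (hq : RedSub.IsQuotient (CoactBr.pt (ψ : AG →ₐ[k] AH)) q) :
    IsAffine Q.left → HopfRep.IsLinearlyReductive k AH := by
  intro hQ
  exact H20LRExt.linRed_of_affine_quotient hG ψ hψ Q q hq

end Groth.Agent.S17534
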