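import Groth.Statements.S17537
import Mathlib.Algebra.AffineMonoid.UniqueSums
import Mathlib.Algebra.Order.Antidiag.FinsuppEquiv
import Mathlib.RingTheory.Etale.Descent
import Mathlib.RingTheory.Finiteness.ModuleFinitePresentation
import Mathlib.RingTheory.Flat.TorsionFree
import Mathlib.RingTheory.GradedAlgebra.Radical
import Mathlib.RingTheory.Henselian
import Mathlib.RingTheory.MvPolynomial.IrreducibleQuadratic
import Mathlib.RingTheory.PicardGroup
import Mathlib.RingTheory.RegularLocalRing.Defs
import Mathlib.RingTheory.SimpleRing.Principal
import Mathlib.RingTheory.TotallySplit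

set_option autoImplicit false
universe u v
open CAlg

namespace Groth.Agent.S17537

/-- For a commutative ring A, an ideal I and an A-module M, the I-adic completion M^ of M is itself
I-adically complete if and only if, for every n, every element of M^ is congruent modulo I^n M^ to
the image of an element of M (the maps M/I^n M → M^/I^n M^ are surjective). -/
theorem result {A : Type u} [CommRing A] (I : Ideal A)
    (M : Type v) [AddCommGroup M] [Module A M] :
    IsAdicComplete I (AdicCompletion I M) ↔
      ∀ (n : ℕ) (x : AdicCompletion I M), ∃ y : M,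
        x - AdicCompletion.of I M y ∈ (I ^ n • ⊤ : Submodule A (AdicCompletion I M)) := by
  constructor
  · intro hc n x
    obtain ⟨s, rfl⟩ := AdicCompletion.mk_surjective I M x
    obtain ⟨L, hL⟩ := IsPrecomplete.prec (inferInstance : IsPrecomplete I (AdicCompletion I M))
      (f := fun m ↦ AdicCompletion.of I M (s.val m)) (fun {a b} hab ↦ by
        have h := Submodule.mem_map_of_mem (f := AdicCompletion.of I M) (SModEq.sub_mem.mp (s.property hab))
        rw [Submodule.map_smul'', map_sub] at h
        exact SModEq.sub_mem.mpr ((smul_mono_right _ le_top : _ ≤ (I ^ a • ⊤ : Submodule A (AdicCompletion I M))) h))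
    have hval : ∀ m (z : AdicCompletion I M), z ∈ (I ^ m • ⊤ : Submodule A (AdicCompletion I M)) → z.val m = 0 := by
      intro m z hz
      refine Submodule.smul_induction_on hz (fun r hr w _ ↦ ?_) (fun a b ha hb ↦ ?_)
      · obtain ⟨q, hq⟩ := Submodule.Quotient.mk_surjective _ (w.val m)
        rw [AdicCompletion.val_smul_apply, ← hq, ← Submodule.Quotient.mk_smul, Submodule.Quotient.mk_eq_zero]
        exact Submodule.smul_mem_smul hr trivial
      · rw [AdicCompletion.val_add_apply, ha, hb, add_zero]
    have hLx : L = AdicCompletion.mk I M s := AdicCompletion.ext fun m ↦ by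
      have h := hval m _ (SModEq.sub_mem.mp (hL m))
      rw [AdicCompletion.val_sub_apply, sub_eq_zero] at h
      exact h.symm
    refine ⟨s.val n, ?_⟩
    rw [← hLx, ← neg_mem_iff, neg_sub]
    exact SModEq.sub_mem.mp (hL n)
  · intro h
    have hval : ∀ m (z : AdicCompletion I M), z ∈ (I ^ m • ⊤ : Submodule A (AdicCompletion I M)) → z.val m = 0 := by
      intro m z hz
      refine Submodule.smul_induction_on hz (fun r hr w _ ↦ ?_) (fun a b ha hb ↦ ?_)
      · obtain ⟨q, hq⟩ := Submodule.Quotient.mk_surjective _ (w.val m)
        rw [AdicCompletion.val_smul_apply, ← hq, ← Submodule.Quotient.mk_smul, Submodule.Quotient.mk_eq_zero]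
        exact Submodule.smul_mem_smul hr trivial
      · rw [AdicCompletion.val_add_apply, ha, hb, add_zero]
    exact
      { haus' := fun z hz ↦ AdicCompletion.ext fun m ↦ by
          have h1 := SModEq.sub_mem.mp (hz m)
          rw [sub_zero] at h1
          exact hval m z h1
        prec' := fun f hf ↦ by
          have hcomp : ∀ {m n : ℕ} (hmn : m ≤ n), AdicCompletion.transitionMap I M hmn ((f n).val n) = (f m).val m := by
            intro m n hmn
            rw [(f n).property hmn]
            have := hval m _ (SModEq.sub_mem.mp (hf hmn))
            rw [AdicCompletion.val_sub_apply, sub_eq_zero] at this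
            exact this.symm
          refine ⟨⟨fun n ↦ (f n).val n, hcomp⟩, fun n ↦ ?_⟩
          let L : AdicCompletion I M := ⟨fun n ↦ (f n).val n, hcomp⟩
          obtain ⟨y, hy⟩ := h n (f n - L)
          have h0 : (AdicCompletion.of I M y).val n = 0 := by
            have h1 := hval n _ hy
            rw [AdicCompletion.val_sub_apply, AdicCompletion.val_sub_apply, sub_eq_zero] at h1
            rw [← h1]
            exact sub_self _
          have hy' : y ∈ (I ^ n • ⊤ : Submodule A M) := (Submodule.Quotient.mk_eq_zero _).mp h0
          have h2 := Submodule.mem_map_of_mem (f := AdicCompletion.of I M) hy'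
          rw [Submodule.map_smul''] at h2
          refine SModEq.sub_mem.mpr ?_
          have h3 := add_mem hy ((smul_mono_right _ le_top : _ ≤ (I ^ n • ⊤ : Submodule A (AdicCompletion I M))) h2)
          rw [sub_add_cancel] at h3
          exact h3 }

end Groth.Agent.S17537
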