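import Groth.Statements.S17538
import Mathlib.RingTheory.Derivation.Basic
import Mathlib.RingTheory.Flat.Equalizer
import Mathlib.RingTheory.Henselian
import Mathlib.RingTheory.Regular.RegularSequence
import Mathlib.RingTheory.RegularLocalRing.Defs
import Mathlib.RingTheory.SimpleRing.Principal

set_option autoImplicit false
universe u v
open CAlg

namespace Groth.Agent.S17538

/-- For a commutative ring A, an ideal I and an A-module M, the canonical map from the I-adic completion
M^ to the I-adic completion of M^ admits an A-linear retraction (it is a split injection). (That M^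
is I-adically separated is standard.) -/
theorem result {A : Type u} [CommRing A] (I : Ideal A)
    (M : Type v) [AddCommGroup M] [Module A M] :
    ∃ ψ : AdicCompletion I (AdicCompletion I M) →ₗ[A] AdicCompletion I M,
      ψ ∘ₗ AdicCompletion.of I (AdicCompletion I M) = LinearMap.id := by
  let f : ∀ n, AdicCompletion I (AdicCompletion I M) →ₗ[A] M ⧸ (I ^ n • ⊤ : Submodule A M) := fun n =>
    (Submodule.liftQ _ (AdicCompletion.eval I M n) (AdicCompletion.pow_smul_top_le_ker_eval (I := I) n)) ∘ₗ
      AdicCompletion.eval I (AdicCompletion I M) n
  have hcompat : ∀ {m n : ℕ} (hmn : m ≤ n), AdicCompletion.transitionMap I M hmn ∘ₗ f n = f m := by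
    intro m n hmn
    apply LinearMap.ext
    intro x
    obtain ⟨y, hy⟩ := Submodule.Quotient.mk_surjective _ (AdicCompletion.eval I (AdicCompletion I M) n x)
    have hm : AdicCompletion.eval I (AdicCompletion I M) m x = Submodule.Quotient.mk y := by
      rw [AdicCompletion.eval_apply, ← AdicCompletion.transitionMap_comp_eval_apply (I := I) _ hmn x]
      rw [← AdicCompletion.eval_apply, ← hy]
      rfl
    simp only [LinearMap.comp_apply, f, hm, ← hy, Submodule.liftQ_apply]
    exact AdicCompletion.transitionMap_comp_eval_apply (I := I) _ hmn y
  refine ⟨AdicCompletion.lift I f hcompat, ?_⟩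
  apply LinearMap.ext
  intro x
  apply AdicCompletion.ext
  intro n
  simp only [LinearMap.comp_apply, LinearMap.id_apply]
  rw [AdicCompletion.eval_lift_apply]
  simp [f]

end Groth.Agent.S17538
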