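import Groth.Statements.S17540
import Groth.Agent.H3CAlg.DecayingTensor

set_option autoImplicit false
universe u v w
open W4c5adicflatcompl
open CAlg

namespace Groth.Agent.S17540

/-- Let A be I-adically complete, M an I-adically complete A-module and m : Z → M a family. The images
of the m z generate M/IM (the span of the family together with IM is all of M) if and only if the
family I-adically generates M: every x in M is the I-adically convergent sum of g z • m z for some
I-adically decaying function g : Z → A. -/
theorem result {A : Type u} [CommRing A] (I : Ideal A) [IsAdicComplete I A]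
    (M : Type v) [AddCommGroup M] [Module A M] [IsAdicComplete I M] (Z : Type w) (m : Z → M) :
    Submodule.span A (Set.range m) ⊔ I • ⊤ = ⊤ ↔
      ∀ x : M, ∃ g : Z → A, g ∈ decaying I Z A ∧
        ∀ n : ℕ, ∃ S : Finset Z,
          (∀ z, z ∉ S → g z • m z ∈ (I ^ n • ⊤ : Submodule A M)) ∧
          x - (∑ z ∈ S, g z • m z) ∈ (I ^ n • ⊤ : Submodule A M) := by
  classical
  refine ⟨fun h x => ?_, fun h => ?_⟩
  · obtain ⟨g, hg, hx⟩ := Groth.Agent.H3CAlg.Decaying.exists_series_eq m h.ge x
    refine ⟨g, hg, fun n => ?_⟩
    have hgm : (fun z => g z • m z) ∈ decaying I Z M := fun k => (hg k).subset fun z hz hbad =>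
      hz (by simpa using Groth.Agent.H3CAlg.Decaying.map_mem (LinearMap.toSpanSingleton A M (m z)) hbad)
    obtain ⟨T, hT⟩ := Groth.Agent.H3CAlg.Decaying.exists_bad hgm n
    exact ⟨T, hT, hx n T hT⟩
  · refine eq_top_iff.mpr fun x _ => ?_
    obtain ⟨g, -, hgx⟩ := h x
    obtain ⟨S, -, hS⟩ := hgx 1
    rw [pow_one] at hS
    rw [← add_sub_cancel (∑ z ∈ S, g z • m z) x]
    exact Submodule.add_mem_sup (sum_mem fun z _ => Submodule.smul_mem _ _ (Submodule.subset_span ⟨z, rfl⟩)) hS

end Groth.Agent.S17540
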