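import Groth.Statements.S17548
import Groth.Agent.H3CAlg.Decaying

set_option autoImplicit false
universe u v w
open W4c5adicflatcompl
open CAlg

namespace Groth.Agent.S17548

/-- For a Noetherian ring A with I-adic completion Â, a set Z, an I-adically complete A-module M and any
function f : Z → M, there is a unique A-linear map from the module of I-adically decaying functions
Z → Â to M taking, for every z, the function supported at z with value 1 to f z. -/
theorem result {A : Type u} [CommRing A] [IsNoetherianRing A]
    (I : Ideal A) (Z : Type v) [DecidableEq Z] (M : Type w) [AddCommGroup M] [Module A M]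
    [IsAdicComplete I M] (f : Z → M) :
    ∃! φ : decaying I Z (AdicCompletion I A) →ₗ[A] M,
      ∀ z, φ (single I z (1 : AdicCompletion I A)) = f z := by
  have hI : I.FG := IsNoetherian.noetherian I
  haveI := AdicCompletion.isAdicComplete (I := I) (M := A) hI
  choose ev hev using fun z => Groth.Agent.H3CAlg.Decaying.exists_completion_hom (I := I) (f z)
  refine ⟨Groth.Agent.H3CAlg.Decaying.series ev, fun z => ?_, fun ψ hψ => ?_⟩
  · simp only [Groth.Agent.H3CAlg.Decaying.series_single, hev]
  · refine Groth.Agent.H3CAlg.Decaying.hom_ext hI fun z x => ?_
    rw [Groth.Agent.H3CAlg.Decaying.series_single]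
    have h1 : ψ.comp (((LinearMap.single A (fun _ : Z => AdicCompletion I A) z).codRestrict (decaying I Z (AdicCompletion I A))
        (fun x => (single I z x).2))) = ev z := Groth.Agent.H3CAlg.Decaying.completion_hom_ext hI (by
      rw [hev]; exact hψ z)
    exact LinearMap.congr_fun h1 x

end Groth.Agent.S17548
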