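import Groth.Statements.S17549
import Groth.Agent.H3CAlg.DecayingTensor

set_option autoImplicit false
universe u
open W4c5adicflatcompl
open CAlg

namespace Groth.Agent.S17549

/-- Over a Noetherian ring A with I-adic completion Â, an A-module P is I-adically projective
(I-adically complete, and every A-linear map from P to the target of a surjection between I-adically
complete modules lifts along that surjection) exactly when P is a retract of some module of
I-adically decaying functions Z → Â: there are a set Z, an A-linear map i from P to the decaying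
functions Z → Â and an A-linear map r back with r ∘ i the identity of P. Test modules, P and Z live
in the universe of A. -/
theorem result {A : Type u} [CommRing A] [IsNoetherianRing A]
    (I : Ideal A) (P : Type u) [AddCommGroup P] [Module A P] :
    IsAdicProjective I P ↔
      ∃ (Z : Type u) (i : P →ₗ[A] decaying I Z (AdicCompletion I A))
        (r : decaying I Z (AdicCompletion I A) →ₗ[A] P), r ∘ₗ i = LinearMap.id := by
  classical
  have hI : I.FG := IsNoetherian.noetherian I
  haveI := AdicCompletion.isAdicComplete (I := I) (M := A) hI
  have hev : ∀ {M : Type u} [AddCommGroup M] [Module A M] [IsAdicComplete I M] (m : M),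
      ∃ φ : AdicCompletion I A →ₗ[A] M, φ 1 = m := fun m =>
    Groth.Agent.H3CAlg.Decaying.exists_completion_hom m
  constructor
  · rintro ⟨hc, hlift⟩
    haveI := hc
    choose ev hev' using fun z : P => hev z
    have hsurj : Function.Surjective (Groth.Agent.H3CAlg.Decaying.series ev) := fun z =>
      ⟨single I z 1, by rw [Groth.Agent.H3CAlg.Decaying.series_single, hev']⟩
    obtain ⟨i, hi⟩ := hlift _ _ (Groth.Agent.H3CAlg.Decaying.isAdicComplete hI) hc _ hsurj LinearMap.id
    exact ⟨P, i, _, hi⟩
  · rintro ⟨Z, i, r, hri⟩
    haveI := Groth.Agent.H3CAlg.Decaying.isAdicComplete (Z := Z) (M := AdicCompletion I A) hI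
    have hri' : ∀ p, r (i p) = p := fun p => LinearMap.congr_fun hri p
    refine ⟨{ haus' := fun p hp => ?_, prec' := fun f hf => ?_ }, fun M N _ _ _ _ hM hN φ hφ ψ => ?_⟩
    · have : i p = 0 := IsHausdorff.haus (I := I) inferInstance _ fun n =>
        SModEq.zero.mpr (Groth.Agent.H3CAlg.Decaying.map_mem i (SModEq.zero.mp (hp n)))
      rw [← hri' p, this, map_zero]
    · obtain ⟨L, hL⟩ := IsPrecomplete.prec (I := I) (M := decaying I Z (AdicCompletion I A)) inferInstance
        (f := fun n => i (f n)) fun {a b} hab => SModEq.sub_mem.mpr (by
          rw [← map_sub]; exact Groth.Agent.H3CAlg.Decaying.map_mem i (SModEq.sub_mem.mp (hf hab)))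
      refine ⟨r L, fun n => SModEq.sub_mem.mpr ?_⟩
      rw [← hri' (f n), ← map_sub]
      exact Groth.Agent.H3CAlg.Decaying.map_mem r (SModEq.sub_mem.mp (hL n))
    · haveI := hM
      haveI := hN
      choose m hm using fun z => hφ (ψ (r (single I z 1)))
      choose ev hev' using fun z => hev (m z)
      refine ⟨(Groth.Agent.H3CAlg.Decaying.series ev).comp i, ?_⟩
      have key : φ.comp (Groth.Agent.H3CAlg.Decaying.series ev) = ψ.comp r := by
        refine Groth.Agent.H3CAlg.Decaying.hom_ext hI fun z x => ?_
        rw [LinearMap.comp_apply, LinearMap.comp_apply, Groth.Agent.H3CAlg.Decaying.series_single]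
        let sgl := ((LinearMap.single A (fun _ : Z => AdicCompletion I A) z).codRestrict
          (decaying I Z (AdicCompletion I A)) (fun x => (single I z x).2))
        have h1 : φ.comp (ev z) = (ψ.comp r).comp sgl := Groth.Agent.H3CAlg.Decaying.completion_hom_ext hI (by
          rw [LinearMap.comp_apply, hev', hm]; rfl)
        exact LinearMap.congr_fun h1 x
      rw [← LinearMap.comp_assoc, key, LinearMap.comp_assoc, hri, LinearMap.comp_id]

end Groth.Agent.S17549
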