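import Groth.Statements.S17550
import Groth.Agent.H3CAlg.AdicBaseChange

set_option autoImplicit false
universe u
open W4c5adicflatcompl
open scoped TensorProduct
open CAlg

namespace Groth.Agent.S17550

/-- For Noetherian rings A and B with B an A-algebra, ideals I of A and J of B with I B contained in J,
and an I-adically free A-module P, the J-adic completion of B ⊗ P is a J-adically free B-module (the
completed base change of an adically free module is adically free). -/
theorem result {A B : Type u} [CommRing A] [CommRing B] [Algebra A B]
    [IsNoetherianRing A] [IsNoetherianRing B] (I : Ideal A) (J : Ideal B)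
    (hIJ : I.map (algebraMap A B) ≤ J) (P : Type u) [AddCommGroup P] [Module A P]
    (hP : IsAdicFree I P) :
    IsAdicFree J (AdicCompletion J (B ⊗[A] P)) := by
  exact Groth.Agent.H3CAlg.AdicFree.isAdicFree_baseChange I J hIJ P hP

end Groth.Agent.S17550
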