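import Groth.Statements.S17551
import Groth.Agent.H3CAlg.AdicSysLim

set_option autoImplicit false
universe u
open W4c5adicflatcompl
open CAlg

namespace Groth.Agent.S17551

/-- For a complete Noetherian local ring A (maximal ideal m, m-adic completion Â) and an m-adic system
(M n, ψ n : M (n+1) → M n) of A-modules, meaning that each M n is a module over A/m^(n+1) and each ψ
n is surjective with kernel m^(n+1) M (n+1), if every M n is flat over A/m^(n+1) then the inverse
limit of the system is m-adically free (isomorphic to the m-adically decaying functions Z → Â for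
some set Z), and for every n its projection to M n is surjective with kernel m^(n+1) times the
limit. A, the M n and Z share one universe. -/
theorem result {A : Type u} [CommRing A] [IsNoetherianRing A] [IsLocalRing A]
    [IsAdicComplete (IsLocalRing.maximalIdeal A) A]
    (M : ℕ → Type u) [∀ n, AddCommGroup (M n)] [∀ n, Module A (M n)]
    [∀ n, Module (A ⧸ IsLocalRing.maximalIdeal A ^ (n + 1)) (M n)]
    [∀ n, IsScalarTower A (A ⧸ IsLocalRing.maximalIdeal A ^ (n + 1)) (M n)]
    [∀ n, Module.Flat (A ⧸ IsLocalRing.maximalIdeal A ^ (n + 1)) (M n)]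
    (ψ : ∀ n, M (n + 1) →ₗ[A] M n) (hψ : ∀ n, Function.Surjective (ψ n))
    (hker : ∀ n, LinearMap.ker (ψ n) =
      (IsLocalRing.maximalIdeal A ^ (n + 1) • ⊤ : Submodule A (M (n + 1)))) :
    IsAdicFree (IsLocalRing.maximalIdeal A) (sysLim M ψ) ∧
      ∀ n, Function.Surjective (sysProj M ψ n) ∧
        LinearMap.ker (sysProj M ψ n) =
          (IsLocalRing.maximalIdeal A ^ (n + 1) • ⊤ : Submodule A (sysLim M ψ)) := by
  exact ⟨Groth.Agent.H3CAlg.AdicFree.isAdicFree_sysLim M ψ hψ hker, fun n ↦
    ⟨Groth.Agent.H3CAlg.AdicFree.sysProj_surjective M ψ hψ n, Groth.Agent.H3CAlg.AdicFree.ker_sysProj M ψ hψ hker n⟩⟩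

end Groth.Agent.S17551
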