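import Groth.Statements.S17567
import Groth.Agent.H3Bivar.Square
import Groth.Agent.H3Bivar.GyOps
import Groth.Agent.H3Cyc.FlatComp
-- import your own Groth.Agent.* helpers here

set_option autoImplicit false
universe u
open CategoryTheory AlgebraicGeometry
open Bivar

namespace Groth.Agent.S17567

/-- Let f : X → Y be flat, locally of finite type and of relative dimension r (every irreducible
component of every fibre has dimension r), with δX the dimension function induced from δY. Then flat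
pullback along the base changes of f is a bivariant class of degree −r: there is c ∈ A^{-r}(X → Y)
such that on every cartesian square (Y' → Y, X' = Y' ×_Y X, f' : X' → Y') and every k-cycle α on Y',
c ∩ [α] is the class of the cycle with the coefficients of (f')^*α (the binder
Bivar.IsFlatPullClass, which also records flatness, finite type, the relative dimension and the
compatibility of δX). Here a pair (X, δ) with Cyc.IsSetup plays the role of a scheme locally of
finite type over the base (S, δ) (X locally Noetherian with universally catenary local rings, δ a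
dimension function), Cyc.DeltaCompat records that a dimension function is the induced one, and
bivariant classes are taken in the operational sense of the prelude: additive operations on the Chow
groups CH_k (k-cycles modulo rational equivalence) of all test schemes, compatible with proper
pushforward, flat pullback and the Gysin maps of zero schemes of sections of invertible modules in
representative form (Bivar.Cl for A^p(X → Y), Bivar.OpCl for A^p(X)). -/
theorem result (X Y : Scheme.{u}) (δX : X → ℤ) (δY : Y → ℤ) (hX : Cyc.IsSetup X δX) (hY : Cyc.IsSetup Y δY) (f : X ⟶ Y) [Flat f] [LocallyOfFiniteType f] (r : ℕ) (hr : Cyc.HasRelDim f r) (hδ : Cyc.DeltaCompat f δX δY) : ∃ c : Bivar.Cl (-(r : ℤ)) f δX δY, Bivar.IsFlatPullClass f r c := by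
  have hS := Groth.Agent.H3Bivar.isSetup_fst hY (f := f) (δX := δX)
  have hS' := Groth.Agent.H3Bivar.isSetup_snd hX (f := f) (δY := δY)
  have hfl : ∀ s : Bivar.Sq f δX δY, Flat s.f' := fun s =>
    MorphismProperty.of_isPullback s.isPullback.flip ‹Flat f›
  have hlf : ∀ s : Bivar.Sq f δX δY, LocallyOfFiniteType s.f' := fun s =>
    MorphismProperty.of_isPullback s.isPullback.flip ‹LocallyOfFiniteType f›
  have hrel : ∀ s : Bivar.Sq f δX δY, Cyc.HasRelDim s.f' r := fun s =>
    haveI := hlf s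
    Groth.Agent.H3Cyc.hasRelDim_of_isPullback s.isPullback.flip hr
  have hdel := Groth.Agent.H3Bivar.deltaCompat_f' hδ
  have hmax : ∀ s : Bivar.Sq f δX δY, Groth.Agent.H3Cyc.FlatRat.MaxDim s.f' s.δX' s.δY' (r : ℤ) := fun s =>
    haveI := (hS s).1
    haveI := (hS' s).1
    haveI := hlf s
    Groth.Agent.H3Cyc.FlatRat.maxDim_of_hasRelDim s.f' (hrel s) (hdel s)
  let op : ∀ (s : Bivar.Sq f δX δY) (k : ℤ), ChowOps.CH s.Y' s.δY' k →+ ChowOps.CH s.X' s.δX' (k - -(r : ℤ)) :=
    fun s k => haveI := hfl s; Groth.Agent.H3Cyc.Chow.pull s.f' (hS' s) (hS s) (hmax s) (sub_neg_eq_add k (r : ℤ))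
  refine ⟨⟨op, ?_, ?_, ?_⟩, ‹Flat f›, ‹LocallyOfFiniteType f›, hr, hδ, ?_⟩
  · intro s t h _ h' _ w₁ w₂ w₃ k
    haveI := hfl s
    haveI := hfl t
    refine (Groth.Agent.H3Bivar.pushOK_iff (hS t) (hS' t) (hS s) (hS' s) h h'
      (Groth.Agent.H3Bivar.deltaCompat_fst w₁) (Groth.Agent.H3Bivar.deltaCompat_snd w₃) _ _).mpr fun x => ?_
    exact Groth.Agent.H3Cyc.Chow.pull_push h s.f' (Groth.Agent.H3Bivar.isPullback_hom w₁ w₂ w₃) (hS t) (hS s) (hS' s)
      (hS' t) _ _ (hmax s) (hmax t) _ x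
  · intro s t h _ h' _ r' hr₁ hr₂ w₁ w₂ w₃ k
    haveI := hfl s
    haveI := hfl t
    haveI := (hS s).1
    haveI := (hS t).1
    haveI := (hS' s).1
    haveI := (hS' t).1
    haveI := Groth.Agent.H3Bivar.lft_hom_fst w₁
    haveI := Groth.Agent.H3Bivar.lft_hom_snd w₃
    have hm := Groth.Agent.H3Cyc.FlatRat.maxDim_of_hasRelDim h hr₁ (Groth.Agent.H3Bivar.deltaCompat_fst w₁)
    have hm' := Groth.Agent.H3Cyc.FlatRat.maxDim_of_hasRelDim h' hr₂ (Groth.Agent.H3Bivar.deltaCompat_snd w₃)
    refine (Groth.Agent.H3Bivar.pullOK_iff (hS t) (hS' t) (hS s) (hS' s) h h' hm hm' rfl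
      (show k + r' - -(r : ℤ) = k - -(r : ℤ) + r' by ring) _ _).mpr fun x => ?_
    have c₁ : Groth.Agent.H3Cyc.FlatRat.MaxDim (t.f' ≫ h) t.δX' s.δY' ((r : ℤ) + r') := by
      rw [add_comm]; exact Groth.Agent.H3Cyc.FlatRat.maxDim_comp t.f' h (hmax t) hm
    have c₂ : Groth.Agent.H3Cyc.FlatRat.MaxDim (h' ≫ s.f') t.δX' s.δY' ((r' : ℤ) + r) := by
      rw [add_comm]; exact Groth.Agent.H3Cyc.FlatRat.maxDim_comp h' s.f' hm' (hmax s)
    show Groth.Agent.H3Cyc.Chow.pull t.f' _ _ _ _ (Groth.Agent.H3Cyc.Chow.pull h _ _ hm _ x) =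
      Groth.Agent.H3Cyc.Chow.pull h' _ _ hm' _ (Groth.Agent.H3Cyc.Chow.pull s.f' _ _ _ _ x)
    rw [Groth.Agent.H3Cyc.Chow.pull_pull t.f' (hS' t) (hS t) (hmax t) h (hS s) hm c₁ _ _
        (show k + r' - -(r : ℤ) = k + ((r : ℤ) + r') by ring),
      Groth.Agent.H3Cyc.Chow.pull_pull h' (hS' t) (hS' s) hm' s.f' (hS s) (hmax s) c₂ _ _
        (show k + r' - -(r : ℤ) = k + ((r' : ℤ) + r) by ring)]
    have key : ∀ (g : t.X' ⟶ s.Y') [Flat g] (c c' : ℤ) (hc : Groth.Agent.H3Cyc.FlatRat.MaxDim g t.δX' s.δY' c)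
        (g' : t.X' ⟶ s.Y') [Flat g'] (hc' : Groth.Agent.H3Cyc.FlatRat.MaxDim g' t.δX' s.δY' c'),
        g = g' → c = c' → ∀ (l : ℤ) (e : l = k + c) (e' : l = k + c'),
        Groth.Agent.H3Cyc.Chow.pull g (hS' t) (hS s) hc e x = Groth.Agent.H3Cyc.Chow.pull g' (hS' t) (hS s) hc' e' x := by
      rintro g _ c c' hc g' _ hc' rfl rfl l e e'
      rfl
    exact key _ _ _ c₁ _ c₂ w₂.symm (add_comm _ _) _ _ _
  · intro s t i _ j _ w₁ w₂ w₃ N hN σ hσ τ hτ k
    haveI := hfl s
    haveI := hfl t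
    haveI := hlf s
    have eD := Groth.Agent.H3Bivar.delta_fst w₁
    have eE := Groth.Agent.H3Bivar.delta_snd w₃
    refine (Groth.Agent.H3Bivar.gysinOK_iff (hS s) (hS' s) hN hσ eD (Groth.Agent.H11Ample.isInvertible_pullback s.f' hN)
      hτ eE (show k = k - 1 + 1 by ring) (show k - -(r : ℤ) = k - 1 - -(r : ℤ) + 1 by ring) _ _).mpr fun x => ?_
    exact (Groth.Agent.H3Bivar.gy_pull (hS s) hN hσ eD (hS' s) s.f' (hrel s) (hdel s) (hmax s)
      (Groth.Agent.H3Bivar.isPullback_hom w₁ w₂ w₃) (CategoryTheory.Iso.refl _) _ hτ eE (hS t) (hS' t) (hmax t)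
      _ _ _ _ x).symm
  · intro s k α hα α₁ ha hα₁
    haveI := hfl s
    exact Groth.Agent.H3Cyc.Chow.pull_cl s.f' (hS' s) (hS s) (hmax s) _ α hα α₁ hα₁ ha
end Groth.Agent.S17567
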