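import Groth.Statements.S17568
import Groth.Agent.H3Bivar.Square
import Groth.Agent.H3Bivar.GyOps
-- import your own Groth.Agent.* helpers here

set_option autoImplicit false
universe u
open CategoryTheory AlgebraicGeometry
open Bivar

namespace Groth.Agent.S17568

/-- Let L be an invertible O_X-module, σ a global section of L and i : D → X the closed immersion of its
zero scheme, with δD the dimension function induced from δX. Then the Gysin maps of the base changes
of this triple form a bivariant class of degree 1: there is c ∈ A^1(D → X) such that on every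
cartesian square (X' → X, D' = X' ×_X D, i' : D' → X'), for every global section τ of the
pulled-back module with zero scheme i', and every k-cycle α on X', c ∩ [α] is the class of any cycle
whose coefficients are those of (i')^*α, computed as c_1 ∩ α with the rational sections taken to be
τ where it is nonzero and a nowhere-zero fallback elsewhere and read at the points of D' (the binder
Bivar.IsGysinClass, which also records invertibility of L, that i is the zero scheme of σ and the
compatibility of δD). Here a pair (X, δ) with Cyc.IsSetup plays the role of a scheme locally of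
finite type over the base (S, δ) (X locally Noetherian with universally catenary local rings, δ a
dimension function), Cyc.DeltaCompat records that a dimension function is the induced one, and
bivariant classes are taken in the operational sense of the prelude: additive operations on the Chow
groups CH_k (k-cycles modulo rational equivalence) of all test schemes, compatible with proper
pushforward, flat pullback and the Gysin maps of zero schemes of sections of invertible modules in
representative form (Bivar.Cl for A^p(X → Y), Bivar.OpCl for A^p(X)). -/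
theorem result (X D : Scheme.{u}) (δX : X → ℤ) (δD : D → ℤ) (hX : Cyc.IsSetup X δX) (hD : Cyc.IsSetup D δD) (i : D ⟶ X) [IsClosedImmersion i] (hδ : Cyc.DeltaCompat i δD δX) (L : X.Modules) (hL : PicF.IsInvertible L) (σ : L.presheaf.obj (Opposite.op ⊤)) (hσ : Cyc.IsZeroSchemeOf i L σ) : ∃ c : Bivar.Cl 1 i δD δX, Bivar.IsGysinClass i L σ c := by
  have hS := Groth.Agent.H3Bivar.isSetup_fst hX (f := i) (δX := δD)
  have hS' := Groth.Agent.H3Bivar.isSetup_snd hD (f := i) (δY := δX)
  have hcl : ∀ s : Bivar.Sq i δD δX, IsClosedImmersion s.f' := fun s =>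
    MorphismProperty.of_isPullback s.isPullback.flip ‹IsClosedImmersion i›
  have hLs : ∀ s : Bivar.Sq i δD δX, PicF.IsInvertible ((Scheme.Modules.pullback s.g).obj L) :=
    fun s => Groth.Agent.H11Ample.isInvertible_pullback s.g hL
  have hz : ∀ s : Bivar.Sq i δD δX,
      Cyc.IsZeroSchemeOf s.f' ((Scheme.Modules.pullback s.g).obj L) (Groth.Agent.H3Cyc.GysinTot.pullSec s.g L σ) := fun s => by
    haveI := hcl s
    have h := Groth.Agent.H3Cyc.GysOps.isZero_iso_comp s.isPullback.isoPullback.hom
      (Groth.Agent.H3Cyc.GysinTot.isZeroScheme_pullSec (i := i) hL hσ s.g)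
    rwa [s.isPullback.isoPullback_hom_fst] at h
  have hdel : ∀ s : Bivar.Sq i δD δX, s.δX' = fun d => s.δY' (s.f' d) := fun s =>
    haveI := hcl s
    funext fun d => congrFun (Groth.Agent.H3Cyc.OpenSupp.deltaCompat_unique s.f'
      (Groth.Agent.H3Bivar.deltaCompat_f' hδ s) (Groth.Agent.H3Cyc.Reduction.deltaCompat_immersion s.f' _)) d
  let op : ∀ (s : Bivar.Sq i δD δX) (k : ℤ), ChowOps.CH s.Y' s.δY' k →+ ChowOps.CH s.X' s.δX' (k - 1) :=
    fun s k => haveI := hcl s; Groth.Agent.H3Bivar.gy (hS s) (hLs s) (hz s) (hdel s) (show k = k - 1 + 1 by ring)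
  refine ⟨⟨op, ?_, ?_, ?_⟩, hL, hσ, hδ, ?_⟩
  · intro s t h _ h' _ w₁ w₂ w₃ k
    haveI := hcl s
    haveI := hcl t
    refine (Groth.Agent.H3Bivar.pushOK_iff (hS t) (hS' t) (hS s) (hS' s) h h'
      (Groth.Agent.H3Bivar.deltaCompat_fst w₁) (Groth.Agent.H3Bivar.deltaCompat_snd w₃) _ _).mpr fun x => ?_
    exact Groth.Agent.H3Bivar.gy_pushforward (hS s) (hLs s) (hz s) (hdel s) (hS t) h
      (Groth.Agent.H3Bivar.deltaCompat_fst w₁) (Groth.Agent.H3Bivar.isPullback_hom w₁ w₂ w₃).flip
      (Groth.Agent.H3Bivar.pullIso L h w₁) (hLs t) (hz t) (hdel t) (hS' s) (hS' t) _ _ x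
  · intro s t h _ h' _ r' hr₁ hr₂ w₁ w₂ w₃ k
    haveI := hcl s
    haveI := hcl t
    haveI := (hS s).1
    haveI := (hS t).1
    haveI := (hS' s).1
    haveI := (hS' t).1
    haveI := Groth.Agent.H3Bivar.lft_hom_fst w₁
    haveI := Groth.Agent.H3Bivar.lft_hom_snd w₃
    have hd := Groth.Agent.H3Bivar.deltaCompat_fst w₁
    have hm := Groth.Agent.H3Cyc.FlatRat.maxDim_of_hasRelDim h hr₁ hd
    have hm' := Groth.Agent.H3Cyc.FlatRat.maxDim_of_hasRelDim h' hr₂ (Groth.Agent.H3Bivar.deltaCompat_snd w₃)
    refine (Groth.Agent.H3Bivar.pullOK_iff (hS t) (hS' t) (hS s) (hS' s) h h' hm hm' rfl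
      (show k + r' - 1 = k - 1 + r' by ring) _ _).mpr fun x => ?_
    exact Groth.Agent.H3Bivar.gy_pull (hS s) (hLs s) (hz s) (hdel s) (hS t) h hr₁ hd hm
      (Groth.Agent.H3Bivar.isPullback_hom w₁ w₂ w₃).flip (Groth.Agent.H3Bivar.pullIso L h w₁) (hLs t) (hz t) (hdel t)
      (hS' s) (hS' t) hm' _ _ _ _ x
  · intro s t h _ j _ w₁ w₂ w₃ N hN σ' hσ' τ hτ k
    haveI := hcl s
    haveI := hcl t
    have eD := Groth.Agent.H3Bivar.delta_fst w₁
    have eE := Groth.Agent.H3Bivar.delta_snd w₃
    refine (Groth.Agent.H3Bivar.gysinOK_iff (hS s) (hS' s) hN hσ' eD (Groth.Agent.H11Ample.isInvertible_pullback s.f' hN)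
      hτ eE (show k = k - 1 + 1 by ring) (show k - 1 = k - 1 - 1 + 1 by ring) _ _).mpr fun x => ?_
    exact Groth.Agent.H3Bivar.gy_gy (hS s) hN hσ' eD (hLs s) (hz s) (hdel s) (hS t) (hS' s)
      (Groth.Agent.H3Bivar.isPullback_hom w₁ w₂ w₃).flip (Groth.Agent.H3Bivar.pullIso L h w₁) (hLs t) (hz t)
      (CategoryTheory.Iso.refl _) (Groth.Agent.H11Ample.isInvertible_pullback s.f' hN) hτ (hdel t) eE (hS' t) _ _ _ _ x
  · intro s τ hτ k α hα w hw γ hγf hγ
    haveI := hcl s
    show Groth.Agent.H3Bivar.gy (hS s) (hLs s) (hz s) (hdel s) _ _ = _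
    rw [Groth.Agent.H3Bivar.gy_sec (hS s) (hLs s) (hz s) (hdel s) hτ]
    exact Groth.Agent.H3Bivar.gy_cl (hS s) (hLs s) hτ (hdel s) _ α hα w hw γ hγ hγf
end Groth.Agent.S17568
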