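import Groth.Statements.S17569
import Groth.Agent.H3Bivar.Square
import Groth.Agent.H3Bivar.GyOps
import Groth.Agent.H3Bivar.PushHom
import Groth.Agent.H3Cyc.RelDimBC
-- import your own Groth.Agent.* helpers here

set_option autoImplicit false
universe u
open CategoryTheory AlgebraicGeometry
open Bivar

namespace Groth.Agent.S17569

open CategoryTheory.Limits

/-- Let f : X → Y be proper and g : Y → Z locally of finite type, with δX induced from δY along f and δY
induced from δZ along g, and let c ∈ A^p(X → Z) be a bivariant class for the composite X → Z. Then α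
↦ f'_*(c ∩ α) is a bivariant class f_* ∘ c ∈ A^p(Y → Z): there is c' ∈ A^p(Y → Z) such that on every
cartesian square (Z' → Z, Y' = Z' ×_Z Y) and every fibre product X' = Y' ×_Y X (a square over X → Z
by pasting), for every k-cycle α on Z' and every cycle β on X' representing c ∩ [α], the class c' ∩
[α] is the class of the pushforward of β along X' → Y' (the binder Bivar.IsProperPushClass, which
also records properness of f and the compatibility of δX). Here a pair (X, δ) with Cyc.IsSetup plays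
the role of a scheme locally of finite type over the base (S, δ) (X locally Noetherian with
universally catenary local rings, δ a dimension function), Cyc.DeltaCompat records that a dimension
function is the induced one, and bivariant classes are taken in the operational sense of the
prelude: additive operations on the Chow groups CH_k (k-cycles modulo rational equivalence) of all
test schemes, compatible with proper pushforward, flat pullback and the Gysin maps of zero schemes
of sections of invertible modules in representative form (Bivar.Cl for A^p(X → Y), Bivar.OpCl for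
A^p(X)). -/
theorem result (X Y Z : Scheme.{u}) (δX : X → ℤ) (δY : Y → ℤ) (δZ : Z → ℤ) (hX : Cyc.IsSetup X δX) (hY : Cyc.IsSetup Y δY) (hZ : Cyc.IsSetup Z δZ) (f : X ⟶ Y) [IsProper f] (g : Y ⟶ Z) [LocallyOfFiniteType g] (hδf : Cyc.DeltaCompat f δX δY) (hδg : Cyc.DeltaCompat g δY δZ) (p : ℤ) (c : Bivar.Cl p (f ≫ g) δX δZ) : ∃ c' : Bivar.Cl p g δY δZ, Bivar.IsProperPushClass f g c c' := by
  classical
  have hS := Groth.Agent.H3Bivar.isSetup_fst hZ (f := g) (δX := δY)
  have hS' := Groth.Agent.H3Bivar.isSetup_snd hY (f := g) (δY := δZ)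
  have hlft : ∀ s : Bivar.Sq g δY δZ, LocallyOfFiniteType (pullback.snd s.g' f) := fun s =>
    haveI := Groth.Agent.H3Bivar.lft_snd s
    inferInstance
  choose δP hδP using fun s : Bivar.Sq g δY δZ =>
    haveI := hlft s
    Groth.Agent.H3Cyc.SpFun.exists_deltaCompat (pullback.snd s.g' f) δX
  let S : Bivar.Sq g δY δZ → Bivar.Sq (f ≫ g) δX δZ := fun s =>
    ⟨s.Y', pullback s.g' f, s.g, pullback.fst s.g' f ≫ s.f', pullback.snd s.g' f,
      (IsPullback.of_hasPullback s.g' f).paste_horiz s.isPullback, s.lft, s.δY', δP s, s.compatY, hδP s⟩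
  have hP := fun s => Groth.Agent.H3Bivar.isSetup_snd hX (S s)
  have hd : ∀ s, Cyc.DeltaCompat (pullback.fst s.g' f) (δP s) s.δX' := fun s => by
    refine Groth.Agent.H3Cyc.BCPush.deltaCompat_cancel _ s.g' s.compatX ?_
    rw [pullback.condition]
    exact Groth.Agent.H3Cyc.BCPush.deltaCompat_comp _ f (hδP s) hδf
  let op : ∀ (s : Bivar.Sq g δY δZ) (k : ℤ), ChowOps.CH s.Y' s.δY' k →+ ChowOps.CH s.X' s.δX' (k - p) :=
    fun s k => (Groth.Agent.H3Cyc.Chow.push (pullback.fst s.g' f) (hP s) (hS' s) (hd s) (k - p)).comp (c.op (S s) k)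
  have hH : ∀ (s t : Bivar.Sq g δY δZ) (h' : t.X' ⟶ s.X') (w₃ : h' ≫ s.g' = t.g'),
      ∃ H : pullback t.g' f ⟶ pullback s.g' f, H ≫ pullback.snd s.g' f = pullback.snd t.g' f ∧
        IsPullback H (pullback.fst t.g' f) (pullback.fst s.g' f) h' := fun s t h' w₃ => by
    refine ⟨pullback.lift (pullback.fst t.g' f ≫ h') (pullback.snd t.g' f)
      (by rw [Category.assoc, w₃, pullback.condition]), pullback.lift_snd _ _ _, ?_⟩
    refine (IsPullback.of_bot ?_ (pullback.lift_fst _ _ _).symm (IsPullback.of_hasPullback s.g' f)).flip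
    rw [pullback.lift_snd, w₃]
    exact IsPullback.of_hasPullback t.g' f
  refine ⟨⟨op, ?_, ?_, ?_⟩, ‹IsProper f›, hδf, ?_⟩
  · intro s t h _ h' _ w₁ w₂ w₃ k
    obtain ⟨H, hH3, sq⟩ := hH s t h' w₃
    haveI : IsProper H := MorphismProperty.of_isPullback sq.flip ‹IsProper h'›
    have hh' := Groth.Agent.H3Bivar.deltaCompat_snd w₃
    have hHd := Groth.Agent.H3Bivar.deltaCompat_snd (s := S s) (t := S t) hH3
    have v₂ : H ≫ (S s).f' = (S t).f' ≫ h := by
      show H ≫ pullback.fst s.g' f ≫ s.f' = (pullback.fst t.g' f ≫ t.f') ≫ h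
      rw [← Category.assoc, sq.w, Category.assoc, Category.assoc, w₂]
    refine (Groth.Agent.H3Bivar.pushOK_iff (hS t) (hS' t) (hS s) (hS' s) h h'
      (Groth.Agent.H3Bivar.deltaCompat_fst w₁) hh' _ _).mpr fun x => ?_
    have A := (Groth.Agent.H3Bivar.pushOK_iff (hS t) (hP t) (hS s) (hP s) h H
      (Groth.Agent.H3Bivar.deltaCompat_fst w₁) hHd _ _).mp (c.push (S s) (S t) h H w₁ v₂ hH3 k) x
    show Groth.Agent.H3Cyc.Chow.push (pullback.fst s.g' f) (hP s) (hS' s) (hd s) (k - p) (c.op (S s) k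
        (Groth.Agent.H3Cyc.Chow.push h (hS t) (hS s) (Groth.Agent.H3Bivar.deltaCompat_fst w₁) k x)) =
      Groth.Agent.H3Cyc.Chow.push h' (hS' t) (hS' s) hh' (k - p)
        (Groth.Agent.H3Cyc.Chow.push (pullback.fst t.g' f) (hP t) (hS' t) (hd t) (k - p) (c.op (S t) k x))
    rw [A]
    refine (Groth.Agent.H3Bivar.push_push (hP t) (hP s) (hS' s) H _ hHd (hd s) _ sq.w
      (Groth.Agent.H3Cyc.BCPush.deltaCompat_comp _ h' (hd t) hh') (k - p) _).trans ?_
    exact (Groth.Agent.H3Bivar.push_push (hP t) (hS' t) (hS' s) _ h' (hd t) hh' _ rfl _ (k - p) _).symm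
  · intro s t h _ h' _ r' hr₁ hr₂ w₁ w₂ w₃ k
    obtain ⟨H, hH3, sq⟩ := hH s t h' w₃
    haveI : Flat H := MorphismProperty.of_isPullback sq.flip ‹Flat h'›
    haveI := Groth.Agent.H3Bivar.lft_hom_fst w₁
    haveI := Groth.Agent.H3Bivar.lft_hom_snd w₃
    haveI : LocallyOfFiniteType H := MorphismProperty.of_isPullback sq.flip ‹LocallyOfFiniteType h'›
    have hrH : Cyc.HasRelDim H r' := Groth.Agent.H3Cyc.hasRelDim_of_isPullback sq.flip hr₂
    haveI := (hS s).1
    haveI := (hS t).1
    haveI := (hS' s).1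
    haveI := (hS' t).1
    haveI := (hP s).1
    haveI := (hP t).1
    have hm := Groth.Agent.H3Cyc.FlatRat.maxDim_of_hasRelDim h hr₁ (Groth.Agent.H3Bivar.deltaCompat_fst w₁)
    have hm' := Groth.Agent.H3Cyc.FlatRat.maxDim_of_hasRelDim h' hr₂ (Groth.Agent.H3Bivar.deltaCompat_snd w₃)
    have hmH := Groth.Agent.H3Cyc.FlatRat.maxDim_of_hasRelDim H hrH
      (Groth.Agent.H3Bivar.deltaCompat_snd (s := S s) (t := S t) hH3)
    have v₂ : H ≫ (S s).f' = (S t).f' ≫ h := by
      show H ≫ pullback.fst s.g' f ≫ s.f' = (pullback.fst t.g' f ≫ t.f') ≫ h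
      rw [← Category.assoc, sq.w, Category.assoc, Category.assoc, w₂]
    refine (Groth.Agent.H3Bivar.pullOK_iff (hS t) (hS' t) (hS s) (hS' s) h h' hm hm' rfl
      (show k + r' - p = k - p + r' by ring) _ _).mpr fun x => ?_
    have A := (Groth.Agent.H3Bivar.pullOK_iff (hS t) (hP t) (hS s) (hP s) h H hm hmH rfl
      (show k + r' - p = k - p + r' by ring) _ _).mp (c.pull (S s) (S t) h H r' hr₁ hrH w₁ v₂ hH3 k) x
    show Groth.Agent.H3Cyc.Chow.push (pullback.fst t.g' f) (hP t) (hS' t) (hd t) (k + r' - p) (c.op (S t) (k + r')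
        (Groth.Agent.H3Cyc.Chow.pull h (hS t) (hS s) hm rfl x)) =
      Groth.Agent.H3Cyc.Chow.pull h' (hS' t) (hS' s) hm' (show k + r' - p = k - p + r' by ring)
        (Groth.Agent.H3Cyc.Chow.push (pullback.fst s.g' f) (hP s) (hS' s) (hd s) (k - p) (c.op (S s) k x))
    rw [A]
    exact (Groth.Agent.H3Cyc.Chow.pull_push (pullback.fst s.g' f) h' sq.flip (hP s) (hS' s) (hS' t) (hP t) (hd s)
      (hd t) hm' hmH _ _).symm
  · intro s t h _ j _ w₁ w₂ w₃ N hN σ hσ τ hτ k
    obtain ⟨H, hH3, sq⟩ := hH s t j w₃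
    haveI : IsClosedImmersion H := MorphismProperty.of_isPullback sq.flip ‹IsClosedImmersion j›
    have v₂ : H ≫ (S s).f' = (S t).f' ≫ h := by
      show H ≫ pullback.fst s.g' f ≫ s.f' = (pullback.fst t.g' f ≫ t.f') ≫ h
      rw [← Category.assoc, sq.w, Category.assoc, Category.assoc, w₂]
    have eD := Groth.Agent.H3Bivar.delta_fst w₁
    have eE := Groth.Agent.H3Bivar.delta_snd w₃
    have eH := Groth.Agent.H3Bivar.delta_snd (s := S s) (t := S t) hH3
    have hM := Groth.Agent.H11Ample.isInvertible_pullback s.f' hN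
    have hN' := Groth.Agent.H11Ample.isInvertible_pullback (S s).f' hN
    have hM' := Groth.Agent.H11Ample.isInvertible_pullback (pullback.fst s.g' f) hM
    let ψ : (Scheme.Modules.pullback (pullback.fst s.g' f)).obj ((Scheme.Modules.pullback s.f').obj N) ≅
        (Scheme.Modules.pullback (S s).f').obj N := (Scheme.Modules.pullbackComp _ _).app N
    have hz0 := Groth.Agent.H3Cyc.GysOps.isZero_iso_comp sq.isoPullback.hom
      (Groth.Agent.H3Cyc.GysinTot.isZeroScheme_pullSec (i := j) hM hτ (pullback.fst s.g' f))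
    rw [sq.isoPullback_hom_fst] at hz0
    have hz := Groth.Agent.H3Cyc.GysOps.isZero_map_iso ψ hM' hz0
    refine (Groth.Agent.H3Bivar.gysinOK_iff (hS s) (hS' s) hN hσ eD hM hτ eE (show k = k - 1 + 1 by ring)
      (show k - p = k - 1 - p + 1 by ring) _ _).mpr fun x => ?_
    have A := (Groth.Agent.H3Bivar.gysinOK_iff (hS s) (hP s) hN hσ eD hN' hz eH (show k = k - 1 + 1 by ring)
      (show k - p = k - 1 - p + 1 by ring) _ _).mp (c.gysin (S s) (S t) h H w₁ v₂ hH3 N hN σ hσ _ hz k) x
    show Groth.Agent.H3Cyc.Chow.push (pullback.fst t.g' f) (hP t) (hS' t) (hd t) (k - 1 - p) (c.op (S t) (k - 1)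
        (Groth.Agent.H3Bivar.gy (hS s) hN hσ eD (show k = k - 1 + 1 by ring) x)) =
      Groth.Agent.H3Bivar.gy (hS' s) hM hτ eE (show k - p = k - 1 - p + 1 by ring)
        (Groth.Agent.H3Cyc.Chow.push (pullback.fst s.g' f) (hP s) (hS' s) (hd s) (k - p) (c.op (S s) k x))
    rw [A]
    exact (Groth.Agent.H3Bivar.gy_pushforward (hS' s) hM hτ eE (hP s) (pullback.fst s.g' f) (hd s) sq ψ hN' hz eH
      (hS' t) (hP t) (hd t) _ _).symm
  · intro s X' f' _ gX hp δX' hX' k α hα β hβ e
    let T : Bivar.Sq (f ≫ g) δX δZ :=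
      ⟨s.Y', X', s.g, f' ≫ s.f', gX, hp.paste_horiz s.isPullback, s.lft, s.δY', δX', s.compatY, hX'⟩
    have v₂ : hp.isoPullback.hom ≫ (S s).f' = T.f' ≫ 𝟙 s.Y' := by
      show hp.isoPullback.hom ≫ pullback.fst s.g' f ≫ s.f' = (f' ≫ s.f') ≫ 𝟙 s.Y'
      rw [← Category.assoc, hp.isoPullback_hom_fst, Category.comp_id]
    have hT := Groth.Agent.H3Bivar.isSetup_snd hX T
    have hed := Groth.Agent.H3Bivar.deltaCompat_snd (s := S s) (t := T) hp.isoPullback_hom_snd
    have hid := Groth.Agent.H3Bivar.deltaCompat_fst (s := S s) (t := T) (h := 𝟙 s.Y') (Category.id_comp _)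
    have A := (Groth.Agent.H3Bivar.pushOK_iff (hS s) hT (hS s) (hP s) (𝟙 s.Y') hp.isoPullback.hom hid hed _ _).mp
      (c.push (S s) T (𝟙 s.Y') hp.isoPullback.hom (Category.id_comp _) v₂ hp.isoPullback_hom_snd k) (ChowOps.cl α hα)
    rw [Groth.Agent.H3Bivar.push_id (hS s), e] at A
    show Groth.Agent.H3Cyc.Chow.push (pullback.fst s.g' f) (hP s) (hS' s) (hd s) (k - p)
      (c.op (S s) k (ChowOps.cl α hα)) = _
    rw [A]
    have hf'd : Cyc.DeltaCompat f' δX' s.δX' := by
      have h0 := Groth.Agent.H3Cyc.BCPush.deltaCompat_comp _ _ hed (hd s)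
      rwa [hp.isoPullback_hom_fst] at h0
    rw [Groth.Agent.H3Bivar.push_push hT (hP s) (hS' s) hp.isoPullback.hom _ hed (hd s) f' hp.isoPullback_hom_fst hf'd,
      Groth.Agent.H3Cyc.Chow.push_cl]
end Groth.Agent.S17569
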