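import Groth.Statements.S1757
import Groth.Agent.H4Depth.Independent

set_option autoImplicit false
universe u
open LocCoh

namespace Groth.Agent.S1757

/-- Let A be a local ring whose maximal ideal is generated by x_1, …, x_r, and let e_1, …, e_r be
positive integers such that x_1^{e_1}, …, x_r^{e_r} are independent. Then the length of
A/(x_1^{e_1}, …, x_r^{e_r}) equals the product e_1 ⋯ e_r. -/
theorem result (A : Type u) [CommRing A] [IsLocalRing A] (r : ℕ) (x : Fin r → A) (hx : Ideal.span (Set.range x) = IsLocalRing.maximalIdeal A) (e : Fin r → ℕ) (he : ∀ i, 0 < e i) (hind : Dual2.Independent (fun i => x i ^ e i)) : Module.length A (A ⧸ Ideal.span (Set.range (fun i => x i ^ e i))) = ∏ i, (e i : ℕ∞) := by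

  classical
  suffices H : ∀ (N : ℕ) (e : Fin r → ℕ), (∑ i, e i) ≤ N → (∀ i, 0 < e i) →
      Dual2.Independent (fun i => x i ^ e i) →
      Module.length A (A ⧸ Ideal.span (Set.range (fun i => x i ^ e i))) = ∏ i, (e i : ℕ∞) from
    H _ e le_rfl he hind
  intro N
  induction N using Nat.strong_induction_on with
  | _ N ih =>
    intro e hN he hind
    by_cases hk : ∃ k, 1 < e k
    swap
    · have h1 : ∀ i, e i = 1 := fun i => by
        have := not_exists.1 hk i
        have := he i
        omega
      rw [show (fun i => x i ^ e i) = x from funext fun i => by rw [h1, pow_one], hx,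
        Finset.prod_eq_one fun i _ => by rw [h1, Nat.cast_one]]
      have : IsSimpleModule A (A ⧸ IsLocalRing.maximalIdeal A) :=
        isSimpleModule_iff_isCoatom.2 (IsLocalRing.maximalIdeal.isMaximal A).out
      exact Module.length_eq_one A _
    obtain ⟨k, hk⟩ := hk
    let e₁ := Function.update e k (e k - 1)
    let e₂ := Function.update e k 1
    have hm : H4Depth.mulAt (fun i => x i ^ e₁ i) k (x k) = fun i => x i ^ e i := funext fun i => by
      rcases eq_or_ne i k with rfl | h
      · simp [H4Depth.mulAt, e₁, ← pow_succ, show e i - 1 + 1 = e i by omega]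
      · simp [H4Depth.mulAt, e₁, h]
    have hu : Function.update (fun i => x i ^ e₁ i) k (x k) = fun i => x i ^ e₂ i := funext fun i => by
      rcases eq_or_ne i k with rfl | h
      · simp [e₂]
      · simp [e₁, e₂, h]
    have hm' : H4Depth.mulAt (fun i => x i ^ e₂ i) k (x k ^ e₁ k) = fun i => x i ^ e i := funext fun i => by
      rcases eq_or_ne i k with rfl | h
      · simp [H4Depth.mulAt, e₁, e₂, ← pow_succ', show e i - 1 + 1 = e i by omega]
      · simp [H4Depth.mulAt, e₂, h]
    have hlt : ∀ e' : ℕ, e' < e k → ∑ i, Function.update e k e' i < ∑ i, e i := fun e' he' =>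
      Finset.sum_lt_sum (fun i _ => by rcases eq_or_ne i k with rfl | h <;> simp [*, le_of_lt])
        ⟨k, Finset.mem_univ k, by simpa⟩
    have hpos : ∀ e', 0 < e' → ∀ i, 0 < Function.update e k e' i := fun e' he' i => by
      rcases eq_or_ne i k with rfl | h <;> simp [*]
    have hP : ∀ v : ℕ, (∏ i, (Function.update e k v i : ℕ∞)) = v * ∏ i ∈ Finset.univ.erase k, (e i : ℕ∞) := by
      intro v
      rw [← Finset.mul_prod_erase _ _ (Finset.mem_univ k), Function.update_self]
      congr 1
      exact Finset.prod_congr rfl fun i hi => by rw [Function.update_of_ne (Finset.ne_of_mem_erase hi)]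
    conv_lhs => rw [← hm]
    rw [H4Depth.length_mulAt (hm.symm ▸ hind), hu,
      ih _ ((hlt (e k - 1) (by omega)).trans_le hN) e₁ le_rfl (hpos _ (by omega))
        (H4Depth.Independent.of_mulAt (hm.symm ▸ hind)),
      ih _ ((hlt 1 hk).trans_le hN) e₂ le_rfl (hpos _ one_pos)
        (H4Depth.Independent.of_mulAt (hm'.symm ▸ hind)),
      hP, hP, ← add_mul, ← Nat.cast_add, show 1 + (e k - 1) = e k by omega,
      ← Finset.mul_prod_erase _ _ (Finset.mem_univ k)]

end Groth.Agent.S1757
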