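import Groth.Statements.S17571
import Groth.Agent.H3Bivar.Chern
-- import your own Groth.Agent.* helpers here

set_option autoImplicit false
universe u
open CategoryTheory AlgebraicGeometry
open Bivar

namespace Groth.Agent.S17571

open CategoryTheory.Limits Opposite
open Groth.Agent.H3Bivar Groth.Agent.H3Cyc Groth.Agent.H3Cyc.Tot

noncomputable section

variable {X : Scheme.{u}} {δX : X → ℤ} (hX : Cyc.IsSetup X δX) {E : X.Modules} {n : ℕ}
  (hE : FlatMod.IsFinLocFreeOfRank (n + 1) E)

/-- The operations of the `j`-th Chern class on a test scheme. -/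
def cop (j : ℕ) (s : Bivar.OSq X δX) (k : ℤ) : ChowOps.CH s.Y s.δ k →+ ChowOps.CH s.Y s.δ (k - (j : ℤ)) :=
  (Pi.evalAddMonoidHom (fun l => ChowOps.CH s.Y s.δ l) (k - (j : ℤ))).comp
    ((H3Bivar.Chern.ops (isSetup_test hX s) (H26Gr.isFinLocFreeOfRank_pullback s.g hE) j).comp
      (AddMonoidHom.single (fun l => ChowOps.CH s.Y s.δ l) k))

theorem cop_eq (j : ℕ) (s : Bivar.OSq X δX) (k : ℤ) (x : ChowOps.CH s.Y s.δ k) (f : T s.Y s.δ) (hf : f k = x) :
    cop hX hE j s k x =
      H3Bivar.Chern.ops (isSetup_test hX s) (H26Gr.isFinLocFreeOfRank_pullback s.g hE) j f (k - (j : ℤ)) := by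
  refine H3Bivar.Chern.ops_congr _ _ j ?_
  show (Pi.single k x : T s.Y s.δ) (k - (j : ℤ) + j) = _
  rw [← apply_cast (Pi.single k x : T s.Y s.δ) (show k = k - (j : ℤ) + j by ring), single_apply, ← hf,
    apply_cast f]

/-- The modules on two test schemes agree. -/
def eMod (E : X.Modules) {s t : Bivar.OSq X δX} {h : t.Y ⟶ s.Y} (w : h ≫ s.g = t.g) :
    (Scheme.Modules.pullback t.g).obj E ≅ (Scheme.Modules.pullback h).obj ((Scheme.Modules.pullback s.g).obj E) :=
  ((Scheme.Modules.pullbackComp h s.g).app E ≪≫ (Scheme.Modules.pullbackCongr w).app E).symm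

/-- The `j`-th Chern class. -/
def cls (j : ℕ) : Bivar.OpCl (j : ℤ) X δX where
  op := cop hX hE j
  push s t h _ w k := by
    refine (pushOK_iff (isSetup_test hX t) (isSetup_test hX t) (isSetup_test hX s) (isSetup_test hX s) h h
      (deltaCompat_hom w) (deltaCompat_hom w) _ _).mpr fun x => ?_
    rw [cop_eq hX hE j s k _ (Tot.Push h (isSetup_test hX t) (isSetup_test hX s) (deltaCompat_hom w) (Pi.single k x))
      (congrArg (Chow.push h _ _ _ k) (single_apply k x)),
      H3Bivar.Chern.ops_push _ _ _ (H26Gr.isFinLocFreeOfRank_pullback t.g hE) h _ (eMod E w),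
      cop_eq hX hE j t k x _ (single_apply k x)]
    rfl
  pull s t h _ r hr w k := by
    haveI := lft_hom w
    haveI := (isSetup_test hX s).1
    haveI := (isSetup_test hX t).1
    have hc := FlatRat.maxDim_of_hasRelDim h hr (deltaCompat_hom w)
    refine (pullOK_iff (isSetup_test hX t) (isSetup_test hX t) (isSetup_test hX s) (isSetup_test hX s) h h hc hc rfl
      (show k + (r : ℤ) - (j : ℤ) = k - (j : ℤ) + r by ring) _ _).mpr fun x => ?_
    rw [cop_eq hX hE j t (k + r) _ (Tot.Pull h (isSetup_test hX t) (isSetup_test hX s) hc (Pi.single k x))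
      (Tot.Pull_single _ _ _ _ k x rfl),
      H3Bivar.Chern.ops_pull (isSetup_test hX s) _ (H26Gr.isFinLocFreeOfRank_pullback s.g hE) _ h (deltaCompat_hom w)
        hr hc (eMod E w),
      Tot.Pull_apply h _ _ hc _ (show k + (r : ℤ) - (j : ℤ) = k - (j : ℤ) + r by ring),
      cop_eq hX hE j s k x _ (single_apply k x)]
  gysin s t i _ w L hL σ hσ k := by
    revert hσ
    refine immersion_induction (s := s) (fun t i => ∀ (_ : IsClosedImmersion i), Cyc.IsZeroSchemeOf i L σ →
      Bivar.GysinOK₁ s.δ t.δ i L σ (cop hX hE j s k) (cop hX hE j t (k - 1))) ?_ t i w inferInstance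
    intro Y i _ hl hc _ hσ
    have hS := isSetup_test hX s
    refine (gysinOK₁_iff hS hL hσ rfl (show k = k - 1 + 1 by ring)
      (show k - (j : ℤ) = k - 1 - (j : ℤ) + 1 by ring) _ _).mpr fun x => ?_
    have hY := GysinTot.isSetupD hS (i := i)
    let t' : Bivar.OSq X δX := ⟨Y, i ≫ s.g, hl, fun d => s.δ (i d), hc⟩
    have h1 : GysinTot.Gys hS hL hσ (Pi.single k x : T s.Y s.δ) (k - 1) =
        gy hS hL hσ rfl (show k = k - 1 + 1 by ring) x := by
      show GysinTot.gys hS hL hσ (k - 1) ((Pi.single k x : T s.Y s.δ) (k - 1 + 1)) = _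
      rw [← apply_cast (Pi.single k x : T s.Y s.δ) (show k = k - 1 + 1 by ring), single_apply]
      rfl
    rw [cop_eq hX hE j t' (k - 1) _ (GysinTot.Gys hS hL hσ (Pi.single k x : T s.Y s.δ)) h1,
      cop_eq hX hE j s k x _ (single_apply k x)]
    show H3Bivar.Chern.ops hY _ j _ _ = _
    rw [H3Bivar.Chern.ops_gys hS hL hσ (H26Gr.isFinLocFreeOfRank_pullback s.g hE)
      (H26Gr.isFinLocFreeOfRank_pullback t'.g hE) (eMod E (s := s) (t := t') rfl) j]
    show GysinTot.gys hS hL hσ (k - 1 - (j : ℤ)) _ = GysinTot.gys hS hL hσ (k - 1 - (j : ℤ)) (Chow.cast _ _)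
    rw [apply_cast]

end

/-- Suppose E is an O_X-module that is finite locally free, of rank r. Then for 0 ≤ p ≤ r the rule
assigning to g : Y → X locally of finite type the operation c_p(g^*E) ∩ − : CH_k(Y) → CH_{k−p}(Y) is
a bivariant class of degree p, the p-th Chern class of E. Stated through the characterisation of the
Chern class operations by the projective bundle: there is a family of operational classes c_j ∈
A^j(X), j ≥ 0, with c_0 = 1 and c_j = 0 for j > r (a convention for j > r), such that on every test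
scheme g : Y → X (with induced dimension function), for every projective bundle (π : P → Y, O_P(1),
π^*g^*E → O_P(1)) of g^*E with its induced dimension function and every k-cycle α on Y, any cycles
ζ_0 = α, ζ_1, …, ζ_r representing the classes c_j ∩ [α] satisfy Σ_{i=0}^r (−1)^i c_1(O_P(1))^i ∩
π^*(ζ_{r−i}) ∼_rat 0 on P for every nowhere-zero choice of rational sections of O_P(1) (the binder
Bivar.IsChernClasses, which also records the rank of E). Here a pair (X, δ) with Cyc.IsSetup plays
the role of a scheme locally of finite type over the base (S, δ) (X locally Noetherian with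
universally catenary local rings, δ a dimension function), Cyc.DeltaCompat records that a dimension
function is the induced one, and bivariant classes are taken in the operational sense of the
prelude: additive operations on the Chow groups CH_k (k-cycles modulo rational equivalence) of all
test schemes, compatible with proper pushforward, flat pullback and the Gysin maps of zero schemes
of sections of invertible modules in representative form (Bivar.Cl for A^p(X → Y), Bivar.OpCl for
A^p(X)). -/
theorem result (X : Scheme.{u}) (δX : X → ℤ) (hX : Cyc.IsSetup X δX) (E : X.Modules) (r : ℕ) (hE : FlatMod.IsFinLocFreeOfRank r E) : ∃ c : (j : ℕ) → Bivar.OpCl (j : ℤ) X δX, Bivar.IsChernClasses E r c := by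
  classical
  cases r with
  | zero =>
    refine ⟨fun j => match j with | 0 => Bivar.OpCl.one X δX | j + 1 => 0, hE, rfl, fun j hj => ?_, ?_⟩
    · obtain ⟨i, rfl⟩ : ∃ i, j = i + 1 := ⟨j - 1, by omega⟩
      rfl
    · intro s P π O1 q hP δP hδ k α hα ζ hζ0 hζ _
      refine ⟨hζ0, hζ, fun t _ β hβ => ?_⟩
      have hEs := H26Gr.isFinLocFreeOfRank_pullback s.g hE
      haveI : IsEmpty P := ⟨fun z => by
        haveI := hP.epi
        have h0 : IsZero O1 :=
          IsZero.of_epi q (H22Alg.PBRel.isZero_of_rank_zero (H26Gr.isFinLocFreeOfRank_pullback π hEs))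
        obtain ⟨U, e, hz, he⟩ := H11Ample.exists_gen (H22Alg.PB.isInvertible_of_rank_one hP.invertible) z
        have he0 : e = 0 := by
          have h1 : 𝟙 O1 = 0 := h0.eq_of_src _ _
          have h2 := congrArg (fun φ : O1 ⟶ O1 => φ.app U e) h1
          exact h2
        refine one_ne_zero ((he z hz).1 (a₁ := (1 : P.presheaf.stalk z)) (a₂ := 0) ?_)
        subst he0
        simp⟩
      rw [show β = 0 from DFunLike.coe_injective (funext fun y => isEmptyElim y)]
      exact RatRel.zero
  | succ n =>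
    let c : (j : ℕ) → Bivar.OpCl (j : ℤ) X δX := fun j =>
      match j with
      | 0 => Bivar.OpCl.one X δX
      | j + 1 => if j + 1 ≤ n + 1 then cls hX hE (j + 1) else 0
    refine ⟨c, hE, rfl, fun j hj => ?_, ?_⟩
    · obtain ⟨i, rfl⟩ : ∃ i, j = i + 1 := ⟨j - 1, by omega⟩
      show (if i + 1 ≤ n + 1 then cls hX hE (i + 1) else 0) = 0
      rw [if_neg (by omega)]
    intro s P π O1 q hP δP hδ k α hα ζ hζ0 hζ hcl
    have hS := isSetup_test hX s
    have hEs := H26Gr.isFinLocFreeOfRank_pullback s.g hE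
    have hB := PBundle.of_isProjBundle hEs hP
    haveI := hP.epi
    haveI := hB.isProper
    have hPs := isSetup_of_locallyOfFiniteType π hS hδ
    refine ⟨hζ0, hζ, fun t ht β hβ => ?_⟩
    let f : T s.Y s.δ := Pi.single k (ChowOps.cl α hα)
    have hz : ∀ j : Fin (n + 1 + 1),
        ChowOps.cl (ζ j) (hζ j) = ChernTot.cT hB hS hPs hδ (j : ℕ) f (k - ((j : ℕ) : ℤ)) := fun j => by
      by_cases hj : j = 0
      · subst hj
        rw [← apply_cast (ChernTot.cT hB hS hPs hδ ((0 : Fin (n + 1 + 1)) : ℕ) f) (show k = k - ((0 : Fin (n + 1 + 1)) : ℕ) by simp)]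
        show _ = Chow.cast _ ((Pi.single k (ChowOps.cl α hα) : T s.Y s.δ) k)
        rw [single_apply, Chow.cast_cl]
        exact Chow.cl_congr _ _ (congrArg _ hζ0)
      · rw [← H3Bivar.Chern.ops_eq hS hEs q hB hPs hδ, ← cop_eq hX hE (j : ℕ) s k _ f (single_apply _ _), ← hcl j]
        have key : ∀ m : ℕ, m ≠ 0 → m ≤ n + 1 → (c m).op s k (ChowOps.cl α hα) = cop hX hE m s k (ChowOps.cl α hα) := by
          rintro (_ | i) h hi
          · exact absurd rfl h
          · show (if i + 1 ≤ n + 1 then cls hX hE (i + 1) else 0).op s k _ = _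
            rw [if_pos hi]
            rfl
        exact key _ (fun e => hj (Fin.ext e)) (Nat.lt_succ_iff.mp j.2)
    set k' : ℤ := k - (n + 1 : ℕ) with hk'
    have hn1 : (((n + 1 : ℕ) : ℤ) - 1) = (n : ℤ) := by push_cast; ring
    have hrev : ∀ i : Fin (n + 1 + 1), k - ((Fin.rev i : ℕ) : ℤ) = k' + (i : ℕ) := fun i => by
      rw [Fin.val_rev]; have := i.2; omega
    choose b hb hbf hbe using fun i : Fin (n + 1 + 1) => PBChow.T_cl hB hS hPs hδ (i : ℕ)
      (j := k - ((Fin.rev i : ℕ) : ℤ)) (l := k' + n) (by rw [hrev]; ring) (ζ (Fin.rev i)) (hζ _) t ht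
    let B : ↥(ChowOps.zk P δP (k' + n)) := ∑ i : Fin (n + 1 + 1), ((-1 : ℤ) ^ (i : ℕ)) • ⟨b i, hb i⟩
    have hBz : ChowOps.clHom P δP (k' + n) B = 0 := by
      have hrel := congrFun (ChernTot.relation hB hS hPs hδ f) (k' + n)
      rw [Finset.sum_apply, Pi.zero_apply, ← Fin.sum_univ_eq_sum_range
        (fun i => (((-1 : ℤ) ^ i) • (ChernTot.zeta hB hPs ^ i)
          (ChernTot.pl hB hS hPs hδ (ChernTot.cT hB hS hPs hδ (n + 1 - i) f))) (k' + n))] at hrel
      refine Eq.trans ?_ hrel
      simp only [B, map_sum, map_zsmul]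
      refine Finset.sum_congr rfl fun i _ => ?_
      rw [Pi.smul_apply, ChernTot.zeta_pow_pl hB hS hPs hδ (i : ℕ)
        (show k - ((Fin.rev i : ℕ) : ℤ) + (n : ℤ) = k' + n + (i : ℕ) by rw [hrev]; ring)]
      show _ • ChowOps.cl (b i) (hb i) = _
      rw [← hbe i, hz]
      congr 2
      rw [Fin.val_rev, show n + 1 + 1 - ((i : ℕ) + 1) = n + 1 - (i : ℕ) by omega]
    have hBe : B.1 = β := by
      refine DFunLike.coe_injective (funext fun y => ?_)
      rw [hβ y]
      simp only [B, AddSubgroup.val_finsetSum, Function.locallyFinsuppWithin.coe_sum, Finset.sum_apply]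
      refine Finset.sum_congr rfl fun i _ => ?_
      show (-1 : ℤ) ^ (i : ℕ) * b i y = _
      rw [hbf, hn1]
    have h0 := (Chow.cl_eq_zero_iff B.2).mp hBz
    rw [hBe, show k' + (n : ℤ) = k - 1 by rw [hk']; push_cast; ring] at h0
    exact h0

end Groth.Agent.S17571
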