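import Groth.Statements.S17572
import Groth.Agent.H3Bivar.Chern
-- import your own Groth.Agent.* helpers here

set_option autoImplicit false
universe u
open CategoryTheory AlgebraicGeometry
open Bivar

namespace Groth.Agent.S17572

open CategoryTheory.Limits
open Groth.Agent.H3Bivar Groth.Agent.H3Cyc Groth.Agent.H3Cyc.Tot

/-- Fix a finite locally free O_X-module E whose rank is r. Let π : P → X denote the projective bundle
attached to E and put ξ := c_1(O_P(1)); then the c_j(E) ∩ α form the only sequence of classes α_j,
starting with α_0 = α, such that the alternating sum, taken over indices i from 0 up to r, of the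
terms (−1)^i ξ^i ∩ π^*α_{r−i} vanishes in CH_*(P). Consequently two families of operational classes
c, c' : ℕ → A^*(X) which both are Chern classes of E in the sense of the binder Bivar.IsChernClasses
E r (c_0 = 1, c_j = 0 for j > r, and on every test scheme g : Y → X, every projective bundle of g^*E
with induced dimension function and every k-cycle α on Y, all representatives of the c_j ∩ [α]
satisfy that relation up to rational equivalence on P) coincide. Here a pair (X, δ) with Cyc.IsSetup
plays the role of a scheme locally of finite type over the base (S, δ) (X locally Noetherian with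
universally catenary local rings, δ a dimension function), Cyc.DeltaCompat records that a dimension
function is the induced one, and bivariant classes are taken in the operational sense of the
prelude: additive operations on the Chow groups CH_k (k-cycles modulo rational equivalence) of all
test schemes, compatible with proper pushforward, flat pullback and the Gysin maps of zero schemes
of sections of invertible modules in representative form (Bivar.Cl for A^p(X → Y), Bivar.OpCl for
A^p(X)). -/
theorem result (X : Scheme.{u}) (δX : X → ℤ) (hX : Cyc.IsSetup X δX) (E : X.Modules) (r : ℕ) (hE : FlatMod.IsFinLocFreeOfRank r E) (c c' : (j : ℕ) → Bivar.OpCl (j : ℤ) X δX) (hc : Bivar.IsChernClasses E r c) (hc' : Bivar.IsChernClasses E r c') : c = c' := by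
  classical
  obtain ⟨-, hc0, hcr, hcc⟩ := hc
  obtain ⟨-, hc0', hcr', hcc'⟩ := hc'
  funext j
  by_cases hj0 : j = 0
  · subst hj0
    rw [hc0, hc0']
  by_cases hjr : r < j
  · rw [hcr j hjr, hcr' j hjr]
  obtain ⟨n, rfl⟩ : ∃ n, r = n + 1 := ⟨r - 1, by omega⟩
  refine Bivar.OpCl.ext (funext fun s => funext fun k => AddMonoidHom.ext fun x => ?_)
  have hS := isSetup_test hX s
  have hEs := H26Gr.isFinLocFreeOfRank_pullback s.g hE
  obtain ⟨P, π, O1, q, hB, δP, hPs, hδ, hP⟩ := H3Bivar.Chern.exists_data hS hEs
  obtain ⟨α, hα, rfl⟩ := Chow.exists_cl x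
  have key : ∀ c : (j : ℕ) → Bivar.OpCl (j : ℤ) X δX, c 0 = Bivar.OpCl.one X δX →
      (∀ (ζ : Fin (n + 1 + 1) → AlgebraicCycle s.Y ℤ), ζ 0 = α →
        ∀ hζ : ∀ i : Fin (n + 1 + 1), ζ i ∈ Cyc.Zk s.Y s.δ (k - ((i : ℕ) : ℤ)),
          (∀ i : Fin (n + 1 + 1), (c i).op s k (ChowOps.cl α hα) = ChowOps.cl (ζ i) (hζ i)) →
            Cyc.IsChernCap π s.δ δP O1 (n + 1) k α ζ) →
      (c j).op s k (ChowOps.cl α hα) =
        ChernTot.cT hB hS hPs hδ j (Pi.single k (ChowOps.cl α hα)) (k - (j : ℤ)) := by
    intro c h0 hcap
    choose a ha hae using fun i : Fin (n + 1 + 1) => Chow.exists_cl ((c i).op s k (ChowOps.cl α hα))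
    let ζ : Fin (n + 1 + 1) → AlgebraicCycle s.Y ℤ := Function.update a 0 α
    have hζ : ∀ i : Fin (n + 1 + 1), ζ i ∈ Cyc.Zk s.Y s.δ (k - ((i : ℕ) : ℤ)) := fun i => by
      by_cases hi : i = 0
      · subst hi
        simpa [ζ] using hα
      · simp only [ζ, Function.update_of_ne hi]
        exact ha i
    have hcl : ∀ i : Fin (n + 1 + 1), (c i).op s k (ChowOps.cl α hα) = ChowOps.cl (ζ i) (hζ i) := fun i => by
      by_cases hi : i = 0
      · subst hi
        show (c 0).op s k (ChowOps.cl α hα) = _
        rw [h0]
        show Bivar.chCast s.Y s.δ _ (ChowOps.cl α hα) = _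
        rw [Bivar.chCast_cl]
        exact Chow.cl_congr _ _ (by simp [ζ])
      · rw [← hae i]
        exact Chow.cl_congr _ _ (by simp [ζ, Function.update_of_ne hi])
    have h := hcap ζ (Function.update_self ..) hζ hcl
    have := ChernTot.cl_eq hB hS hPs hδ hα h ⟨j, by omega⟩ (hζ _)
    rw [← hcl] at this
    exact this
  rw [key c hc0 fun ζ h0 hζ hcl => hcc s P π O1 q hP δP hδ k α hα ζ h0 hζ hcl,
    key c' hc0' fun ζ h0 hζ hcl => hcc' s P π O1 q hP δP hδ k α hα ζ h0 hζ hcl]

end Groth.Agent.S17572
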