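import Groth.Statements.S17574
import Groth.Agent.H3Bivar.Square
-- import your own Groth.Agent.* helpers here

set_option autoImplicit false
universe u
open CategoryTheory AlgebraicGeometry
open Bivar

namespace Groth.Agent.S17574

/-- Let f : X' → X be locally of finite type, L an invertible O_X-module, and c ∈ A^p(X' → X) a
bivariant class. Then c ∘ c_1(L) = c_1(f^*L) ∘ c in A^{p+1}(X' → X): for every cartesian square (g :
Y → X, Y' = Y ×_X X', g' : Y' → X') with g locally of finite type and every x ∈ CH_k(Y), c ∩
(c_1(g^*L) ∩ x) = c_1((g')^*f^*L) ∩ (c ∩ x) in CH_{k−1−p}(Y'). Here the first Chern classes of L on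
X and of f^*L on X' are given as operational classes cX ∈ A^1(X), cX' ∈ A^1(X') through the binder
Bivar.IsC1Class, evaluated on the test schemes Y → X and Y' → X' of the square (Y' → X' is locally
of finite type as a base change of g), and the two sides, of weights k − p − 1 and k − 1 − p, are
compared through the transport Bivar.chCast. Here a pair (X, δ) with Cyc.IsSetup plays the role of a
scheme locally of finite type over the base (S, δ) (X locally Noetherian with universally catenary
local rings, δ a dimension function), Cyc.DeltaCompat records that a dimension function is the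
induced one, and bivariant classes are taken in the operational sense of the prelude: additive
operations on the Chow groups CH_k (k-cycles modulo rational equivalence) of all test schemes,
compatible with proper pushforward, flat pullback and the Gysin maps of zero schemes of sections of
invertible modules in representative form (Bivar.Cl for A^p(X → Y), Bivar.OpCl for A^p(X)). -/
theorem result (X X' : Scheme.{u}) (δX : X → ℤ) (δX' : X' → ℤ) (hX : Cyc.IsSetup X δX) (hX' : Cyc.IsSetup X' δX') (f : X' ⟶ X) [LocallyOfFiniteType f] (hδ : Cyc.DeltaCompat f δX' δX) (L : X.Modules) (cX : Bivar.OpCl 1 X δX) (hcX : Bivar.IsC1Class L cX) (cX' : Bivar.OpCl 1 X' δX') (hcX' : Bivar.IsC1Class ((Scheme.Modules.pullback f).obj L) cX') (p : ℤ) (c : Bivar.Cl p f δX' δX) (s : Bivar.Sq f δX' δX) (k : ℤ) (x : ChowOps.CH s.Y' s.δY' k) : c.op s (k - 1) (cX.op ⟨s.Y', s.g, s.lft, s.δY', s.compatY⟩ k x) = Bivar.chCast s.X' s.δX' (sub_right_comm k p 1) (cX'.op ⟨s.X', s.g', MorphismProperty.of_isPullback s.isPullback s.lft, s.δX', s.compatX⟩ (k - p) (c.op s k x)) := by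
  have hLs := Groth.Agent.H11Ample.isInvertible_pullback s.g hcX.1
  have hLs' := Groth.Agent.H11Ample.isInvertible_pullback s.f' hLs
  rw [Groth.Agent.H3Bivar.isC1Class_op hX hcX ⟨s.Y', s.g, s.lft, s.δY', s.compatY⟩
      (show k = k - 1 + 1 by ring),
    Groth.Agent.H3Bivar.isC1Class_op hX' hcX' ⟨s.X', s.g', MorphismProperty.of_isPullback s.isPullback s.lft, s.δX', s.compatX⟩
      (show k - p = k - p - 1 + 1 by ring)]
  refine (Groth.Agent.H3Bivar.op_c1 hX' hX c s hLs _ (show k - p = k - 1 - p + 1 by ring) x).trans ?_
  generalize c.op s k x = y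
  let ψ : (Scheme.Modules.pullback s.f').obj ((Scheme.Modules.pullback s.g).obj L) ≅
      (Scheme.Modules.pullback s.g').obj ((Scheme.Modules.pullback f).obj L) :=
    (Scheme.Modules.pullbackComp s.f' s.g).app _ ≪≫ (Scheme.Modules.pullbackCongr s.isPullback.w).app _ ≪≫
      ((Scheme.Modules.pullbackComp s.g' f).app _).symm
  rw [Groth.Agent.H3Cyc.Chow.c1_congr (Groth.Agent.H3Bivar.isSetup_snd hX' s) hLs'
    (Groth.Agent.H11Ample.isInvertible_pullback s.g' hcX'.1) ψ]
  have key : ∀ (a b : ℤ) (e : b = a) (ha : k - p = a + 1) (hb : k - p = b + 1),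
      Groth.Agent.H3Cyc.Chow.c1 (Groth.Agent.H3Bivar.isSetup_snd hX' s)
          (Groth.Agent.H11Ample.isInvertible_pullback s.g' hcX'.1) ha y =
        Bivar.chCast s.X' s.δX' e (Groth.Agent.H3Cyc.Chow.c1 (Groth.Agent.H3Bivar.isSetup_snd hX' s)
          (Groth.Agent.H11Ample.isInvertible_pullback s.g' hcX'.1) hb y) := by
    rintro a b rfl ha hb
    rfl
  exact key _ _ _ _ _
end Groth.Agent.S17574
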