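import Groth.Statements.S17575
import Groth.Agent.H3Bivar.Square
import Groth.Agent.H3Cyc.TensorFilt
import Groth.Agent.H22Alg.GenSection
-- import your own Groth.Agent.* helpers here

set_option autoImplicit false
universe u
open CategoryTheory AlgebraicGeometry
open Bivar

namespace Groth.Agent.S17575

open CategoryTheory.Limits TopologicalSpace
open Groth.Agent.H3Bivar Groth.Agent.H3Cyc

/-- The height of a point among the irreducible closed subsets. -/
noncomputable def ht {X : Scheme.{u}} (x : X) : ℕ∞ :=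
  Order.height (⟨closure {x}, isIrreducible_singleton.closure, isClosed_closure⟩ : IrreducibleCloseds X)

theorem ht_le {X : Scheme.{u}} {d : ℕ} (hd : topologicalKrullDim X ≤ (d : WithBot ℕ∞)) (x : X) :
    ht x ≤ (d : ℕ∞) :=
  WithBot.coe_le_coe.mp ((Order.height_le_krullDim _).trans hd)

theorem ht_lt {X : Scheme.{u}} {η z : X} (h : η ⤳ z) (hne : z ≠ η) {n : ℕ∞} (hn : ht η ≤ n) (hfin : n < ⊤) :
    ht z + 1 ≤ n := by
  have hlt : (⟨closure {z}, isIrreducible_singleton.closure, isClosed_closure⟩ : IrreducibleCloseds X) <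
      ⟨closure {η}, isIrreducible_singleton.closure, isClosed_closure⟩ := by
    refine lt_of_le_of_ne (closure_minimal (Set.singleton_subset_iff.mpr (specializes_iff_mem_closure.mp h))
      isClosed_closure) fun e => hne ?_
    refine (Specializes.antisymm ?_ h).eq
    refine specializes_iff_mem_closure.mpr ?_
    show η ∈ closure {z}
    rw [show closure {z} = closure {η} from congrArg (fun t : IrreducibleCloseds X => (t : Set X)) e]
    exact subset_closure rfl
  refine le_trans ?_ hn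
  have h1 := Order.height_strictMono hlt (lt_of_le_of_lt (le_of_lt_or_eq' hlt hn) hfin)
  exact Order.add_one_le_of_lt h1
where
  le_of_lt_or_eq' {X : Scheme.{u}} {a b : IrreducibleCloseds X} {n : ℕ∞} (h : a < b) (hn : Order.height b ≤ n) :
      Order.height a ≤ n := (Order.height_mono h.le).trans hn

/-- Cutting by a section which generates on `W`. -/
theorem exists_cut {X S : Scheme.{u}} (g : S ⟶ X) {δ : S → ℤ} (hS : Cyc.IsSetup S δ) {M : X.Modules}
    (hM : PicF.IsInvertible M) (σ : Γ(M, ⊤)) {j k : ℤ} (hj : j = k + 1) (α : AlgebraicCycle S ℤ)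
    (hα : α ∈ Cyc.Zk S δ j) (Z : Set X) (hZ : IsClosed Z) (hαZ : ∀ ξ, α ξ ≠ 0 → g ξ ∈ Z) :
    ∃ (b : AlgebraicCycle S ℤ) (hb : b ∈ Cyc.Zk S δ k),
      Chow.c1 hS (H11Ample.isInvertible_pullback g hM) hj (ChowOps.cl α hα) = ChowOps.cl b hb ∧
      ∀ x, b x ≠ 0 → g x ∈ Z ∧ g x ∉ H11Ample.gen M σ := by
  classical
  haveI := hS.1
  have hgM := H11Ample.isInvertible_pullback g hM
  let W := H11Ample.gen M σ
  have he : H11Tilde.IsGen M (M.presheaf.map (homOfLE (le_top : W ≤ ⊤)).op σ) := H11Ample.isGen_gen σ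
  have he' := he.pullSect g
  let t : (ξ : S) → Cyc.secFibre ((Scheme.Modules.pullback g).obj M) ξ := fun ξ =>
    if h : ξ ∈ g ⁻¹ᵁ W then (1 : S.presheaf.stalk ξ) • C1Api.fib _ ξ h (OmegaSh.pullSect g M W (M.presheaf.map (homOfLE (le_top : W ≤ ⊤)).op σ))
    else Chow.sec hgM ξ
  have h1 : ∀ ξ : S, S.residue ξ 1 ≠ 0 := fun ξ => by rw [map_one]; exact one_ne_zero
  have ht : ∀ ξ, t ξ ≠ 0 := fun ξ => by
    simp only [t]
    split_ifs with h
    · exact (C1Api.residue_ne_zero_iff he' h _).mpr (h1 ξ)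
    · exact Chow.sec_ne_zero _ _
  obtain ⟨b, hbf, hb⟩ := C1Api.exists_c1Cap_cycle hS.2.2 hgM k α (hj ▸ hα) t ht
  refine ⟨b, hb, Chow.c1_cl hS hgM hj α hα t ht b hb hbf, fun x hx => ?_⟩
  have hb0 : b x = ∑ᶠ ξ, α ξ * Cyc.secDivFun δ ((Scheme.Modules.pullback g).obj M) ξ (t ξ) x := by
    rw [hbf]; rfl
  obtain ⟨ξ, hξ⟩ : ∃ ξ, α ξ * Cyc.secDivFun δ ((Scheme.Modules.pullback g).obj M) ξ (t ξ) x ≠ 0 := by
    by_contra hall
    push_neg at hall
    exact hx (hb0.trans (finsum_eq_zero_of_forall_eq_zero hall))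
  have hsp := C1Api.secDivFun_ne_zero (right_ne_zero_of_mul hξ)
  refine ⟨(hsp.map g.continuous).mem_closed hZ (hαZ ξ (left_ne_zero_of_mul hξ)), fun hxW => ?_⟩
  have hxW' : x ∈ g ⁻¹ᵁ W := hxW
  have hξW : ξ ∈ g ⁻¹ᵁ W := hsp.mem_open (g ⁻¹ᵁ W).2 hxW'
  refine right_ne_zero_of_mul hξ ?_
  simp only [t, dif_pos hξW]
  rw [C1Api.secDivFun_gen he' δ hξW 1 (h1 ξ) hxW', map_one]
  simp only [Cyc.divFun]
  split_ifs
  · exact C1Api.ordAt_one _ _ _
  · rfl

/-- Let X be a scheme which has an ample invertible module (in particular X is quasi-compact) and whose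
dimension (the topological Krull dimension, not the δ-dimension) is at most d. Then for any
invertible modules L_0, …, L_d on X the composite c_1(L_d) ∘ ⋯ ∘ c_1(L_0) vanishes in A^{d+1}(X):
for every test scheme g : Y → X locally of finite type (with induced dimension function), every x_0
∈ CH_k(Y) and every chain x_{j+1} = c_1(L_j) ∩ x_j ∈ CH_{k−j−1}(Y), j = 0, …, d, one has x_{d+1} =
0. Here each c_1(L_j) ∈ A^1(X) is an operational class given through the binder Bivar.IsC1Class, and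
consecutive weights k − (j + 1) and k − j − 1 are matched by the transport Bivar.chCast. (The
published statement takes the dimension equal to d; dimension at most d follows at once, the
operations being additive.) Here a pair (X, δ) with Cyc.IsSetup plays the role of a scheme locally
of finite type over the base (S, δ) (X locally Noetherian with universally catenary local rings, δ a
dimension function), Cyc.DeltaCompat records that a dimension function is the induced one, and
bivariant classes are taken in the operational sense of the prelude: additive operations on the Chow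
groups CH_k (k-cycles modulo rational equivalence) of all test schemes, compatible with proper
pushforward, flat pullback and the Gysin maps of zero schemes of sections of invertible modules in
representative form (Bivar.Cl for A^p(X → Y), Bivar.OpCl for A^p(X)). -/
theorem result (X : Scheme.{u}) (δX : X → ℤ) (hX : Cyc.IsSetup X δX) (A : X.Modules) (hA : CohB1.IsAmple A) (d : ℕ) (hd : topologicalKrullDim X ≤ (d : WithBot ℕ∞)) (L : ℕ → X.Modules) (c : ℕ → Bivar.OpCl 1 X δX) (hc : ∀ j, j ≤ d → Bivar.IsC1Class (L j) (c j)) (s : Bivar.OSq X δX) (k : ℤ) (x : (j : ℕ) → ChowOps.CH s.Y s.δ (k - (j : ℤ))) (hx : ∀ j, j ≤ d → (c j).op s (k - (j : ℤ)) (x j) = Bivar.chCast s.Y s.δ (((congrArg (fun t : ℤ => k - t) (Nat.cast_succ j)).trans (sub_sub k (j : ℤ) 1).symm)) (x (j + 1))) : x (d + 1) = 0 := by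
  classical
  haveI := hX.1
  haveI : CompactSpace X := hA.2.1
  haveI : IsNoetherian X := ⟨⟩
  have hS := isSetup_test hX s
  haveI := hS.1
  have main : ∀ j : ℕ, j ≤ d + 1 → ∃ (Z : Set X) (α : AlgebraicCycle s.Y ℤ) (hα : α ∈ Cyc.Zk s.Y s.δ (k - (j : ℤ))),
      IsClosed Z ∧ (∀ z ∈ Z, ht z + (j : ℕ∞) ≤ (d : ℕ∞)) ∧ x j = ChowOps.cl α hα ∧ ∀ ξ, α ξ ≠ 0 → s.g ξ ∈ Z := by
    intro j
    induction j with
    | zero =>
      intro _
      obtain ⟨α, hα, hαe⟩ := Chow.exists_cl (x 0)
      exact ⟨Set.univ, α, hα, isClosed_univ, fun z _ => by simpa using ht_le hd z, hαe.symm, fun _ _ => trivial⟩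
    | succ j ih =>
      intro hj
      obtain ⟨Z, α, hα, hZ, hht, hxj, hsupp⟩ := ih (Nat.le_of_succ_le hj)
      have hjd : j ≤ d := Nat.lt_succ_iff.mp hj
      obtain ⟨S, hSf, hSc, hSi, hZS⟩ := NoetherianSpace.exists_finite_set_isClosed_irreducible hZ
      let T : Set X := {η | ∃ C ∈ S, IsGenericPoint η C}
      have hT : T.Finite := by
        refine (hSf.dependent_image fun C hC => (hSi C hC).genericPoint).subset ?_
        rintro η ⟨C, hC, hη⟩
        exact ⟨C, hC, ((hSi C hC).isGenericPoint_genericPoint (hSc C hC)).eq hη⟩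
      have hgen : ∀ z ∈ Z, ∃ η ∈ T, η ∈ Z ∧ η ⤳ z := fun z hz => by
        obtain ⟨C, hC, hzC⟩ := hZS.le hz
        have hη := (hSi C hC).isGenericPoint_genericPoint (hSc C hC)
        exact ⟨_, ⟨C, hC, hη⟩, hZS.ge ⟨C, hC, hη.mem⟩, hη.specializes hzC⟩
      have hL : PicF.IsInvertible (L j) := (hc j hjd).1
      have hLL := H11Ample.isInvertible_tensor hL hL
      obtain ⟨J₁, h₁⟩ := H22Alg.GenSection.exists_section_finite hA hL hT
      obtain ⟨J₂, h₂⟩ := H22Alg.GenSection.exists_section_finite hA hLL hT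
      obtain ⟨σ₁, hσ₁⟩ := h₁ (max J₁ J₂) (le_max_left _ _)
      obtain ⟨σ₂, hσ₂⟩ := h₂ (max J₁ J₂) (le_max_right _ _)
      let P := CohB1.tensorPow A (max J₁ J₂)
      have hP : PicF.IsInvertible P := H11Ample.isInvertible_tensorPow hA.1 _
      have hM₁ := H11Ample.isInvertible_tensor hL hP
      have hM₂ := H11Ample.isInvertible_tensor hLL hP
      have hk : k - (j : ℤ) = k - ((j + 1 : ℕ) : ℤ) + 1 := by push_cast; ring
      obtain ⟨b₁, hb₁, e₁, hs₁⟩ := exists_cut s.g hS hM₁ σ₁ hk α hα Z hZ hsupp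
      obtain ⟨b₂, hb₂, e₂, hs₂⟩ := exists_cut s.g hS hM₂ σ₂ hk α hα Z hZ hsupp
      let W := H11Ample.gen _ σ₁ ⊓ H11Ample.gen _ σ₂
      refine ⟨Z \ W, b₂ - b₁, Chow.zk_sub hb₂ hb₁, hZ.sdiff W.2, fun z hz => ?_, ?_, fun ξ hξ => ?_⟩
      · obtain ⟨η, hηT, hηZ, hηz⟩ := hgen z hz.1
        have hne : z ≠ η := fun e => hz.2 ⟨e ▸ hσ₁ hηT, e ▸ hσ₂ hηT⟩
        have h1 := hht η hηZ
        obtain ⟨n, hn⟩ := ENat.ne_top_iff_exists.mp (ne_top_of_le_ne_top (ENat.coe_ne_top d) (le_self_add.trans h1))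
        have h2 := ht_lt hηz hne hn.ge (ENat.coe_lt_top n)
        rw [← hn] at h1
        push_cast
        calc ht z + ((j : ℕ∞) + 1) = (ht z + 1) + j := by ring
          _ ≤ (n : ℕ∞) + j := add_le_add h2 le_rfl
          _ ≤ d := h1
      · have hop := hx j hjd
        have hj1 : k - (j : ℤ) = k - (j : ℤ) - 1 + 1 := by ring
        rw [isC1Class_op hX (hc j hjd) s hj1, hxj] at hop
        have cast0 : ∀ (a b : ℤ) (hab : a = b) (ha : k - (j : ℤ) = a + 1) (hb : k - (j : ℤ) = b + 1)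
            (y : ChowOps.CH s.Y s.δ b) (z : ChowOps.CH s.Y s.δ (k - (j : ℤ))),
            Chow.c1 hS (H11Ample.isInvertible_pullback s.g hL) ha z = Bivar.chCast s.Y s.δ hab.symm y →
            y = Chow.c1 hS (H11Ample.isInvertible_pullback s.g hL) hb z := by
          rintro a b rfl ha hb y z h
          exact h.symm
        rw [cast0 _ _ (by push_cast; ring) hj1 hk (x (j + 1)) _ hop]
        have hgL := H11Ample.isInvertible_pullback s.g hL
        have hgP := H11Ample.isInvertible_pullback s.g hP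
        have hgLL := H11Ample.isInvertible_pullback s.g hLL
        obtain ⟨i₁⟩ := H11Ample.exists_iso_pullback_tensor s.g hL hP
        obtain ⟨i₂⟩ := H11Ample.exists_iso_pullback_tensor s.g hLL hP
        obtain ⟨i₃⟩ := H11Ample.exists_iso_pullback_tensor s.g hL hL
        have add : ∀ {A B : s.Y.Modules} (hA : PicF.IsInvertible A) (hB : PicF.IsInvertible B)
            (z : ChowOps.CH s.Y s.δ (k - (j : ℤ))),
            Chow.c1 hS (H11Ample.isInvertible_tensor hA hB) hk z = Chow.c1 hS hA hk z + Chow.c1 hS hB hk z := by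
          intro A B hA hB z
          let f : Tot.T s.Y s.δ := Pi.single (k - (j : ℤ)) z
          have h := congrFun (congrArg (fun φ : AddMonoid.End (Tot.T s.Y s.δ) => φ f) (Filt.cc_tensor hS hA hB)) (k - ((j + 1 : ℕ) : ℤ))
          rw [Filt.cc_eq hS (H11Ample.isInvertible_tensor hA hB), Filt.cc_eq hS hA, Filt.cc_eq hS hB] at h
          rw [show ((Tot.C1 hS hA + Tot.C1 hS hB : AddMonoid.End (Tot.T s.Y s.δ)) f) (k - ((j + 1 : ℕ) : ℤ)) =
            Tot.C1 hS hA f (k - ((j + 1 : ℕ) : ℤ)) + Tot.C1 hS hB f (k - ((j + 1 : ℕ) : ℤ)) from rfl,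
            Tot.C1_apply hS _ f hk, Tot.C1_apply hS hA f hk, Tot.C1_apply hS hB f hk] at h
          simpa [f] using h
        rw [Chow.c1_congr hS (H11Ample.isInvertible_pullback s.g hM₁) (H11Ample.isInvertible_tensor hgL hgP) i₁,
          add hgL hgP] at e₁
        rw [Chow.c1_congr hS (H11Ample.isInvertible_pullback s.g hM₂) (H11Ample.isInvertible_tensor hgLL hgP) i₂,
          add hgLL hgP, Chow.c1_congr hS hgLL (H11Ample.isInvertible_tensor hgL hgL) i₃, add hgL hgL] at e₂
        show _ = ChowOps.clHom _ _ _ (⟨b₂, hb₂⟩ - ⟨b₁, hb₁⟩)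
        rw [map_sub]
        show _ = ChowOps.cl b₂ hb₂ - ChowOps.cl b₁ hb₁
        rw [← e₁, ← e₂]
        abel
      · have : b₂ ξ ≠ 0 ∨ b₁ ξ ≠ 0 := by
          by_contra h
          push_neg at h
          exact hξ (by show b₂ ξ - b₁ ξ = 0; rw [h.1, h.2, sub_zero])
        rcases this with h | h
        · exact ⟨(hs₂ ξ h).1, fun hw => (hs₂ ξ h).2 hw.2⟩
        · exact ⟨(hs₁ ξ h).1, fun hw => (hs₁ ξ h).2 hw.1⟩
  obtain ⟨Z, α, hα, -, hht, hxd, hsupp⟩ := main (d + 1) le_rfl
  rw [hxd]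
  have h0 : ⇑α = ⇑(0 : AlgebraicCycle s.Y ℤ) := funext fun ξ => by
    by_contra hξ
    have h := hht _ (hsupp ξ hξ)
    have h' : ((d + 1 : ℕ) : ℕ∞) ≤ (d : ℕ∞) := le_add_self.trans h
    exact absurd (ENat.coe_le_coe.mp h') (Nat.not_succ_le_self d)
  rw [Chow.cl_congr hα (ChowOps.zk s.Y s.δ _).zero_mem h0]
  exact map_zero (ChowOps.clHom _ _ _)

end Groth.Agent.S17575
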