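import Groth.Statements.S6482
import Groth.Agent.H3Cyc.Reduction
-- import your own Groth.Agent.* helpers here

set_option autoImplicit false
universe u
open CategoryTheory AlgebraicGeometry
open CategoryTheory.Limits
open Cyc

namespace Groth.Agent.S6482

/-- Let f : Y → X be an envelope. Then f_* : Z_k(Y) → Z_k(X) is surjective, hence so is f_* : CH_k(Y) →
CH_k(X). An envelope is a proper, completely decomposed morphism (every point of the target has a
point over it with trivial residue field extension; this prelude's Cyc.IsCompletelyDecomposed). Here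
a pair (X, δ) with Cyc.IsSetup plays the role of a scheme locally of finite type over the base (S,
δ) (X locally Noetherian with universally catenary local rings, δ a dimension function), and
Cyc.DeltaCompat records that the dimension function upstairs is the induced one. -/
theorem result (X Y : Scheme.{u}) (δ : X → ℤ) (δY : Y → ℤ) (hX : Cyc.IsSetup X δ) (hY : Cyc.IsSetup Y δY) (f : Y ⟶ X) [IsProper f] (hcd : Cyc.IsCompletelyDecomposed f) (hδ : Cyc.DeltaCompat f δY δ) (k : ℤ) (α : AlgebraicCycle X ℤ) (hα : α ∈ Cyc.Zk X δ k) : ∃ β : AlgebraicCycle Y ℤ, β ∈ Cyc.Zk Y δY k ∧ AlgebraicCycle.map f δY δ β = α := by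
  classical
  choose s hs hsurj using hcd
  haveI := hX.1
  have hb : ∀ y, Function.Bijective (f.residueFieldMap (s y)).hom := fun y =>
    ⟨(f.residueFieldMap (s y)).hom.injective, hsurj y⟩
  let b : Y → ℤ := fun y => if y = s (f y) then α (f y) else 0
  have hlf : ∀ y : Y, ∃ t ∈ nhds y, (t ∩ Function.support b).Finite := fun y => by
    obtain ⟨V, hV, hyV, -⟩ := exists_isAffineOpen_mem_and_subset (show f y ∈ (⊤ : X.Opens) from trivial)
    refine ⟨f ⁻¹' V, (V.2.preimage f.continuous).mem_nhds hyV,
      ((α.locallyFiniteSupport.finite_inter_support_of_isCompact hV.isCompact).image s).subset fun z hz => ?_⟩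
    have h2 : z = s (f z) ∧ α (f z) ≠ 0 := by
      have := hz.2
      simp only [b, Function.mem_support, ne_eq, ite_eq_right_iff, Classical.not_imp] at this
      exact this
    exact ⟨f z, ⟨hz.1, h2.2⟩, h2.1.symm⟩
  have hd : ∀ x, δY (s x) = δ x := fun x => by
    obtain ⟨n, hn, hx⟩ := hδ (s x)
    have h0 : Groth.Agent.H3Cyc.Reduction.td f (s x) = 0 := by
      letI := (f.residueFieldMap (s x)).hom.toAlgebra
      haveI : Module.Finite (X.residueField (f (s x))) (Y.residueField (s x)) :=
        RingHom.Finite.of_surjective _ (hb x).2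
      exact trdeg_eq_zero
    rw [show Groth.Agent.H3Cyc.Reduction.td f (s x) = n from hn] at h0
    obtain rfl : n = 0 := by exact_mod_cast h0
    rw [hx, hs x, Nat.cast_zero, add_zero]
  have hdeg : ∀ x, f.residueDegree (s x) = 1 := fun x => by
    rw [Scheme.Hom.residueDegree]
    letI := (f.residueFieldMap (s x)).hom.toAlgebra
    exact (LinearEquiv.ofBijective (Algebra.linearMap (X.residueField (f (s x))) (Y.residueField (s x))) (hb x)).finrank_eq.symm.trans (Module.finrank_self _)
  refine ⟨⟨b, by simp, fun y _ => hlf y⟩, fun y hy => ?_, DFunLike.coe_injective (funext fun x => ?_)⟩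
  · show b y = 0
    simp only [b]
    split_ifs with h
    · exact hα _ fun e => hy (by rw [h, hd, e])
    · rfl
  · show ∑ᶠ y ∈ f ⁻¹' {x}, b y * ((AlgebraicCycle.mapCoeff f δY δ y : ℕ) : ℤ) = α x
    rw [finsum_mem_eq_sum_of_subset _ (t := {s x}) (fun y hy => ?_) (fun y hy => ?_), Finset.sum_singleton,
      AlgebraicCycle.mapCoeff, if_pos (show δY (s x) = δ (f (s x)) by rw [hd, hs]), hdeg, Nat.cast_one, mul_one]
    · simp only [b, hs, if_pos]
    · have h := left_ne_zero_of_mul hy.2
      simp only [b, ne_eq, ite_eq_right_iff, Classical.not_imp] at h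
      rw [Finset.mem_coe, Finset.mem_singleton, h.1, show f y = x from hy.1]
    · rw [Finset.mem_coe, Finset.mem_singleton] at hy
      rw [hy]; exact hs x

end Groth.Agent.S6482
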