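import Groth.Statements.S6484
import Mathlib

set_option autoImplicit false
universe u
open CategoryTheory AlgebraicGeometry
open CategoryTheory.Limits
open Cyc

namespace Groth.Agent.S6484

/-- If f : Y → X is completely decomposed (this prelude's Cyc.IsCompletelyDecomposed: over every point
of X lies a point of Y with trivial residue field extension) and g : X' → X is any morphism of
schemes, then the base change Y ×_X X' → X' is completely decomposed. Consequently the base change
of an envelope (a proper completely decomposed morphism) is an envelope, properness being preserved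
by base change. (The published envelope statement takes X′ → X between schemes locally of finite
type over a base; this row allows any g.) -/
theorem result (X X' Y : Scheme.{u}) (f : Y ⟶ X) (g : X' ⟶ X) (hcd : Cyc.IsCompletelyDecomposed f) : Cyc.IsCompletelyDecomposed (pullback.snd f g) := by
  intro x'
  obtain ⟨y, hy, hsurj⟩ := hcd (g x')
  haveI : IsIso (f.residueFieldMap y) := by
    rw [ConcreteCategory.isIso_iff_bijective]
    exact ⟨(f.residueFieldMap y).hom.injective, hsurj⟩
  let a : Spec (X'.residueField x') ⟶ Y :=
    Spec.map (inv (f.residueFieldMap y) ≫ (X.residueFieldCongr hy).hom ≫ g.residueFieldMap x') ≫ Y.fromSpecResidueField y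
  have ha : a ≫ f = X'.fromSpecResidueField x' ≫ g := by
    simp only [a, Category.assoc]
    rw [← Scheme.Hom.SpecMap_residueFieldMap_fromSpecResidueField, ← Spec.map_comp_assoc,
      IsIso.hom_inv_id_assoc, Spec.map_comp_assoc,
      Scheme.residueFieldCongr_fromSpecResidueField, Scheme.Hom.SpecMap_residueFieldMap_fromSpecResidueField]
  let s : Spec (X'.residueField x') ⟶ pullback f g := pullback.lift a (X'.fromSpecResidueField x') ha
  have hs : s ≫ pullback.snd f g = X'.fromSpecResidueField x' := pullback.lift_snd _ _ _
  obtain ⟨⟨z, ψ⟩, hψ⟩ : ∃ q : Σ z : ↥(pullback f g), (pullback f g).residueField z ⟶ X'.residueField x',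
      Spec.map q.2 ≫ (pullback f g).fromSpecResidueField q.1 = s :=
    ⟨Scheme.SpecToEquivOfField (X'.residueField x') _ s, (Scheme.SpecToEquivOfField (X'.residueField x') _).symm_apply_apply s⟩
  dsimp only at hψ
  have hz : pullback.snd f g z = x' := by
    have h0 : s (IsLocalRing.closedPoint (X'.residueField x')) = z := by
      rw [← hψ, Scheme.Hom.comp_apply, Scheme.fromSpecResidueField_apply]
    rw [← h0, ← Scheme.Hom.comp_apply, hs, Scheme.fromSpecResidueField_apply]
  refine ⟨z, hz, ?_⟩
  have h1 : (pullback.snd f g).residueFieldMap z ≫ ψ = (X'.residueFieldCongr hz).hom := by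
    apply Spec.map_injective
    rw [← cancel_mono (X'.fromSpecResidueField (pullback.snd f g z)), Spec.map_comp, Category.assoc,
      Scheme.Hom.SpecMap_residueFieldMap_fromSpecResidueField, ← Category.assoc, hψ, hs,
      Scheme.residueFieldCongr_fromSpecResidueField]
  intro w
  obtain ⟨v, hv⟩ := (X'.residueFieldCongr hz).commRingCatIsoToRingEquiv.surjective (ψ w)
  exact ⟨v, ψ.hom.injective ((ConcreteCategory.congr_hom h1 v).trans hv)⟩

end Groth.Agent.S6484
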