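import Groth.Statements.S17576
import Groth.Agent.H3Bivar.Square
import Groth.Agent.S6482
import Groth.Agent.S6484
-- import your own Groth.Agent.* helpers here

set_option autoImplicit false
universe u
open CategoryTheory AlgebraicGeometry
open Bivar

namespace Groth.Agent.S17576

/-- Let f : X → Y be locally of finite type, g : Y' → Y an envelope (a proper, completely decomposed
morphism: over every point of Y lies a point of Y' with trivial residue field extension) and X' = Y'
×_Y X. Then a bivariant class c ∈ A^p(X → Y) is determined by its restriction res(c) ∈ A^p(X' → Y'):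
two classes with the same restriction along the square (g, X') are equal. (The existence part — a
class c' on X' → Y' whose two restrictions to X' ×_X X' → Y' ×_Y Y' agree descends — is not stated
here.) Here a pair (X, δ) with Cyc.IsSetup plays the role of a scheme locally of finite type over
the base (S, δ) (X locally Noetherian with universally catenary local rings, δ a dimension
function), Cyc.DeltaCompat records that a dimension function is the induced one, and bivariant
classes are taken in the operational sense of the prelude: additive operations on the Chow groups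
CH_k (k-cycles modulo rational equivalence) of all test schemes, compatible with proper pushforward,
flat pullback and the Gysin maps of zero schemes of sections of invertible modules in representative
form (Bivar.Cl for A^p(X → Y), Bivar.OpCl for A^p(X)). -/
theorem result (X Y : Scheme.{u}) (δX : X → ℤ) (δY : Y → ℤ) (hX : Cyc.IsSetup X δX) (hY : Cyc.IsSetup Y δY) (f : X ⟶ Y) [LocallyOfFiniteType f] (hδ : Cyc.DeltaCompat f δX δY) (p : ℤ) (s₀ : Bivar.Sq f δX δY) [IsProper s₀.g] (hcd : Cyc.IsCompletelyDecomposed s₀.g) (c₁ c₂ : Bivar.Cl p f δX δY) (heq : c₁.res s₀ = c₂.res s₀) : c₁ = c₂ := by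
  refine Bivar.Cl.ext (funext fun s => funext fun k => AddMonoidHom.ext fun x => ?_)
  haveI := s.lft
  haveI : LocallyOfFiniteType s₀.g := s₀.lft
  haveI := Groth.Agent.H3Bivar.lft_snd s₀
  let h := CategoryTheory.Limits.pullback.snd s₀.g s.g
  let g₁ := CategoryTheory.Limits.pullback.fst s₀.g s.g
  let P := CategoryTheory.Limits.pullback g₁ s₀.f'
  let a : P ⟶ CategoryTheory.Limits.pullback s₀.g s.g := CategoryTheory.Limits.pullback.fst g₁ s₀.f'
  let b : P ⟶ s₀.X' := CategoryTheory.Limits.pullback.snd g₁ s₀.f'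
  obtain ⟨δ₁, hδ₁⟩ := Groth.Agent.H3Cyc.SpFun.exists_deltaCompat g₁ s₀.δY'
  obtain ⟨δ₂, hδ₂⟩ := Groth.Agent.H3Cyc.SpFun.exists_deltaCompat b s₀.δX'
  let t' : Bivar.Sq s₀.f' s₀.δX' s₀.δY' :=
    ⟨_, P, g₁, a, b, IsPullback.of_hasPullback g₁ s₀.f', inferInstance, δ₁, δ₂, hδ₁, hδ₂⟩
  let t := s₀.paste t'
  have w₁ : h ≫ s.g = t.g := CategoryTheory.Limits.pullback.condition.symm
  have hw : (a ≫ h) ≫ s.g = (b ≫ s₀.g') ≫ f := by
    rw [Category.assoc, w₁, Category.assoc, ← s₀.isPullback.w]
    show a ≫ g₁ ≫ s₀.g = b ≫ s₀.f' ≫ s₀.g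
    rw [← Category.assoc, (IsPullback.of_hasPullback g₁ s₀.f').w, Category.assoc]
  let h' : t.X' ⟶ s.X' := s.isPullback.lift (a ≫ h) (b ≫ s₀.g') hw
  have w₂ : h' ≫ s.f' = t.f' ≫ h := s.isPullback.lift_fst _ _ hw
  have w₃ : h' ≫ s.g' = t.g' := s.isPullback.lift_snd _ _ hw
  haveI : IsProper h := inferInstance
  haveI : IsProper h' :=
    MorphismProperty.of_isPullback (Groth.Agent.H3Bivar.isPullback_hom (s := s) (t := t) (h := h) (h' := h') w₁ w₂ w₃).flip ‹IsProper h›
  have hS := Groth.Agent.H3Bivar.isSetup_fst hY (f := f) (δX := δX)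
  have hS' := Groth.Agent.H3Bivar.isSetup_snd hX (f := f) (δY := δY)
  have hd := Groth.Agent.H3Bivar.deltaCompat_fst (s := s) (t := t) (h := h) w₁
  have hd' := Groth.Agent.H3Bivar.deltaCompat_snd (s := s) (t := t) (h' := h') w₃
  obtain ⟨α, hα, rfl⟩ := Groth.Agent.H3Cyc.Chow.exists_cl x
  have hcd' : Cyc.IsCompletelyDecomposed h := Groth.Agent.S6484.result _ _ _ s₀.g s.g hcd
  obtain ⟨β, hβ, hmap⟩ := Groth.Agent.S6482.result _ _ s.δY' t.δY' (hS s) (hS t) h hcd' hd k α hα
  have A₁ := (Groth.Agent.H3Bivar.pushOK_iff (hS t) (hS' t) (hS s) (hS' s) h h' hd hd' _ _).mp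
    (c₁.push s t h h' w₁ w₂ w₃ k) (ChowOps.cl β hβ)
  have A₂ := (Groth.Agent.H3Bivar.pushOK_iff (hS t) (hS' t) (hS s) (hS' s) h h' hd hd' _ _).mp
    (c₂.push s t h h' w₁ w₂ w₃ k) (ChowOps.cl β hβ)
  have he : c₁.op t k = c₂.op t k := congrFun (congrFun (congrArg Bivar.Cl.op heq) t') k
  rw [Groth.Agent.H3Cyc.Chow.push_cl, Groth.Agent.H3Cyc.Chow.cl_congr _ hα (congrArg DFunLike.coe hmap)] at A₁ A₂
  rw [A₁, A₂, he]
end Groth.Agent.S17576
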