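import Groth.Statements.S17577
import Groth.Agent.H3Bivar.Piece
import Groth.Agent.H3Cyc.Coprod
import Groth.Agent.H3Cyc.Transfer
-- import your own Groth.Agent.* helpers here

set_option autoImplicit false
universe u
open CategoryTheory AlgebraicGeometry
open Bivar

namespace Groth.Agent.S17577

open CategoryTheory.Limits
open Groth.Agent.H3Bivar Groth.Agent.H3Cyc

theorem surjective_residueFieldMap {A B : Scheme.{u}} (g : A ⟶ B) (y : A) [IsIso (g.stalkMap y)] :
    Function.Surjective (g.residueFieldMap y).hom := fun a => by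
  obtain ⟨a, rfl⟩ := Scheme.residue_surjective _ _ a
  obtain ⟨a', rfl⟩ := (ConcreteCategory.bijective_of_isIso (g.stalkMap y)).2 a
  exact ⟨B.residue (g y) a', (ConcreteCategory.congr_hom (Scheme.residue_residueFieldMap g y) a')⟩

/-- (3) ⇒ (1): let f : X → Y be locally of finite type and c ∈ A^p(X → Y) a bivariant class. Suppose
that for every cartesian square whose test scheme Y' is integral (Y' → Y locally of finite type, X'
= Y' ×_Y X) there is a proper birational morphism Y'' → Y' (Y'' irreducible, not necessarily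
reduced, its generic point mapping to the generic point of Y' with an isomorphism of local rings
there) such that c ∩ [Y''] = 0 in CH_*(X''), where X'' = Y'' ×_Y X and [Y''] is the cycle with
coefficient 1 at the generic point of Y'' and 0 elsewhere. Then c = 0. Taking Y'' = Y' shows in
particular that c vanishes as soon as c ∩ [Y'] = 0 for every such square with Y' integral. The
squares are the prelude's Bivar.Sq (any fibre products), the second one pasted onto the first. Here
a pair (X, δ) with Cyc.IsSetup plays the role of a scheme locally of finite type over the base (S,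
δ) (X locally Noetherian with universally catenary local rings, δ a dimension function),
Cyc.DeltaCompat records that a dimension function is the induced one, and bivariant classes are
taken in the operational sense of the prelude: additive operations on the Chow groups CH_k (k-cycles
modulo rational equivalence) of all test schemes, compatible with proper pushforward, flat pullback
and the Gysin maps of zero schemes of sections of invertible modules in representative form
(Bivar.Cl for A^p(X → Y), Bivar.OpCl for A^p(X)). -/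
theorem result (X Y : Scheme.{u}) (δX : X → ℤ) (δY : Y → ℤ) (hX : Cyc.IsSetup X δX) (hY : Cyc.IsSetup Y δY) (f : X ⟶ Y) [LocallyOfFiniteType f] (hδ : Cyc.DeltaCompat f δX δY) (p : ℤ) (c : Bivar.Cl p f δX δY) (h3 : ∀ (s : Bivar.Sq f δX δY) [AlgebraicGeometry.IsIntegral s.Y'], ∃ (t : Bivar.Sq s.f' s.δX' s.δY') (_ : IrreducibleSpace t.Y') (_ : IsProper t.g), t.g (genericPoint t.Y') = genericPoint s.Y' ∧ IsIso (t.g.stalkMap (genericPoint t.Y')) ∧ ∀ (k : ℤ) (α : AlgebraicCycle t.Y' ℤ) (hα : α ∈ Cyc.Zk t.Y' t.δY' k), α (genericPoint t.Y') = 1 → (∀ y : t.Y', y ≠ genericPoint t.Y' → α y = 0) → c.op (s.paste t) k (ChowOps.cl α hα) = 0) : c = 0 := by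
  classical
  refine Bivar.Cl.ext (funext fun u => funext fun k => AddMonoidHom.ext fun x => ?_)
  show c.op u k x = 0
  have hU := isSetup_fst hY u
  have hU' := isSetup_snd hX u
  haveI := hU.1
  obtain ⟨α, hα, rfl⟩ := Chow.exists_cl x
  let I : Type u := {y : u.Y' // α y ≠ 0}
  choose V hVint ι hι hιη using fun i : I => Transfer.exists_integral_closed i.1
  haveI := hVint
  haveI := hι
  choose δV hδV using fun i : I => SpFun.exists_deltaCompat (ι i) u.δY'
  choose δV' hδV' using fun i : I => SpFun.exists_deltaCompat (pullback.snd (ι i) u.f') u.δX'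
  let ss : I → Bivar.Sq u.f' u.δX' u.δY' := fun i => ⟨V i, pullback (ι i) u.f', ι i, pullback.fst _ _, pullback.snd _ _,
    IsPullback.of_hasPullback _ _, inferInstance, δV i, δV' i, hδV i, hδV' i⟩
  haveI : ∀ i, AlgebraicGeometry.IsIntegral (u.paste (ss i)).Y' := hVint
  choose t hirr hprop htη hiso hkill using fun i : I => h3 (u.paste (ss i))
  haveI := hirr
  haveI := hprop
  let q : ∀ i : I, (t i).Y' ⟶ u.Y' := fun i => (t i).g ≫ ι i
  haveI hqp : ∀ i, IsProper (q i) := fun i => inferInstanceAs (IsProper ((t i).g ≫ ι i))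
  have hqη : ∀ i, q i (genericPoint (t i).Y') = i.1 := fun i => by
    show ι i ((t i).g (genericPoint (t i).Y')) = _
    rw [htη]
    exact hιη i
  have hlf : LocallyFinite fun i => Set.range (q i) := fun y => by
    obtain ⟨W, hW, hyW, -⟩ := exists_isAffineOpen_mem_and_subset (show y ∈ (⊤ : u.Y'.Opens) from trivial)
    refine ⟨W, W.2.mem_nhds hyW, ?_⟩
    refine ((α.locallyFiniteSupport.finite_inter_support_of_isCompact hW.isCompact).preimage
      (f := fun i : I => i.1) Subtype.val_injective.injOn).subset ?_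
    rintro i ⟨_, ⟨w, rfl⟩, hw⟩
    refine ⟨?_, i.2⟩
    show i.1 ∈ (W : Set u.Y')
    rw [← hqη i]
    exact ((genericPoint_specializes w).map (q i).continuous).mem_open W.2 hw
  haveI : IsProper (Sigma.desc q) := Coprod.isProper_desc q hlf
  obtain ⟨δZ, hδZ⟩ := SpFun.exists_deltaCompat (Sigma.desc q) u.δY'
  obtain ⟨δZ', hδZ'⟩ := SpFun.exists_deltaCompat (pullback.snd (Sigma.desc q) u.f') u.δX'
  let tt : Bivar.Sq u.f' u.δX' u.δY' := ⟨∐ fun i => (t i).Y', pullback (Sigma.desc q) u.f', Sigma.desc q,
    pullback.fst _ _, pullback.snd _ _, IsPullback.of_hasPullback _ _, inferInstance, δZ, δZ', hδZ, hδZ'⟩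
  let w := u.paste tt
  have hW := isSetup_fst hY w
  have hW' := isSetup_snd hX w
  haveI := hW.1
  let H : ∀ i : I, (t i).Y' ⟶ w.Y' := fun i => Sigma.ι (fun i => (t i).Y') i
  haveI hHo : ∀ i, IsOpenImmersion (H i) := fun i => inferInstanceAs (IsOpenImmersion (Sigma.ι _ i))
  have hHd : ∀ i j, i ≠ j → Disjoint (Set.range (H i)) (Set.range (H j)) := fun i j hne => by
    refine Set.disjoint_left.mpr fun z hz hz' => ?_
    exact ((disjoint_opensRange_sigmaι (fun i => (t i).Y') i j hne).le_bot
      (show z ∈ (Sigma.ι (fun i => (t i).Y') i).opensRange ⊓ (Sigma.ι (fun i => (t i).Y') j).opensRange from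
        ⟨hz, hz'⟩)).elim
  have hHc : ∀ z : w.Y', ∃ i, z ∈ Set.range (H i) := fun z => by
    obtain ⟨i, v, hv⟩ := Scheme.Cover.exists_eq (sigmaOpenCover fun i => (t i).Y') z
    exact ⟨i, v, hv⟩
  have hHq : ∀ i, H i ≫ Sigma.desc q = (t i).g ≫ ι i := fun i => Sigma.ι_desc _ _
  let H' : ∀ i : I, (t i).X' ⟶ w.X' := fun i => pullback.lift ((t i).f' ≫ H i) ((t i).g' ≫ pullback.snd (ι i) u.f')
    (by
      rw [Category.assoc, hHq, Category.assoc, ← pullback.condition, ← Category.assoc, ← Category.assoc]
      congr 1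
      exact (t i).isPullback.w)
  let T : I → Bivar.Sq f δX δY := fun i => (u.paste (ss i)).paste (t i)
  have v₁ : ∀ i, H i ≫ w.g = (T i).g := fun i => by
    show H i ≫ Sigma.desc q ≫ u.g = (t i).g ≫ ι i ≫ u.g
    rw [← Category.assoc, hHq, Category.assoc]
  have v₂ : ∀ i, H' i ≫ w.f' = (T i).f' ≫ H i := fun i => pullback.lift_fst _ _ _
  have v₃ : ∀ i, H' i ≫ w.g' = (T i).g' := fun i => by
    show H' i ≫ pullback.snd _ _ ≫ u.g' = (t i).g' ≫ pullback.snd (ι i) u.f' ≫ u.g'
    rw [← Category.assoc, pullback.lift_snd, Category.assoc]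
  have sqH' : ∀ i, IsPullback (H' i) (T i).f' w.f' (H i) := fun i => isPullback_hom (s := w) (t := T i) (v₁ i) (v₂ i) (v₃ i)
  haveI hH'o : ∀ i, IsOpenImmersion (H' i) := fun i => MorphismProperty.of_isPullback (sqH' i).flip (hHo i)
  have hH'd : ∀ i j, i ≠ j → Disjoint (Set.range (H' i)) (Set.range (H' j)) := fun i j hne => by
    refine Set.disjoint_left.mpr fun z hz hz' => ?_
    exact Set.disjoint_left.mp (hHd i j hne) ((mem_range_of_isPullback (sqH' i) z).mp hz)
      ((mem_range_of_isPullback (sqH' j) z).mp hz')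
  have hH'c : ∀ z : w.X', ∃ i, z ∈ Set.range (H' i) := fun z => by
    obtain ⟨i, hi⟩ := hHc (w.f' z)
    exact ⟨i, (mem_range_of_isPullback (sqH' i) z).mpr hi⟩
  have eT : ∀ i, (T i).δY' = fun d => w.δY' (H i d) := fun i => delta_fst (s := w) (t := T i) (v₁ i)
  have eT' : ∀ i, (T i).δX' = fun d => w.δX' (H' i d) := fun i => delta_snd (s := w) (t := T i) (v₃ i)
  have hT := fun i => isSetup_fst hY (T i)
  have hT' := fun i => isSetup_snd hX (T i)
  -- the cycle on the coproduct
  let b : w.Y' → ℤ := fun z => if ∃ i, H i (genericPoint (t i).Y') = z then α (Sigma.desc q z) else 0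
  have hHinj : ∀ i j (a : (t i).Y') (a' : (t j).Y'), H i a = H j a' → i = j := fun i j a a' e => by
    by_contra hne
    exact Set.disjoint_left.mp (hHd i j hne) ⟨a, e⟩ ⟨a', rfl⟩
  have hblf : ∀ z : w.Y', ∃ N ∈ nhds z, (N ∩ Function.support b).Finite := fun z => by
    obtain ⟨i, hi⟩ := hHc z
    refine ⟨_, (H i).isOpenEmbedding.isOpen_range.mem_nhds hi, (Set.finite_singleton (H i (genericPoint (t i).Y'))).subset ?_⟩
    rintro _ ⟨⟨a, rfl⟩, hb⟩
    by_cases hex : ∃ j, H j (genericPoint (t j).Y') = H i a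
    · obtain ⟨j, hj⟩ := hex
      obtain rfl := hHinj _ _ _ _ hj
      exact hj.symm
    · exact absurd (if_neg hex) hb
  let β : AlgebraicCycle w.Y' ℤ := ⟨b, by simp, fun z _ => hblf z⟩
  have hdeg : ∀ i, (Sigma.desc q).residueDegree (H i (genericPoint (t i).Y')) = 1 := fun i => by
    have h1 : (H i ≫ Sigma.desc q).residueDegree (genericPoint (t i).Y') = 1 := by
      rw [hHq, H22Alg.CycBasic.residueDegree_comp, Gysin.residueDegree_immersion (ι i), one_mul]
      haveI := hiso i
      exact Envelope.residueDegree_eq_one _ _ (surjective_residueFieldMap (t i).g _)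
    rwa [H22Alg.CycBasic.residueDegree_comp, Gysin.residueDegree_immersion (H i), mul_one] at h1
  have hdel : ∀ i, w.δY' (H i (genericPoint (t i).Y')) = u.δY' i.1 := fun i => by
    have hd : Cyc.DeltaCompat (H i ≫ Sigma.desc q) (fun d => w.δY' (H i d)) u.δY' :=
      BCPush.deltaCompat_comp (H i) _ (Reduction.deltaCompat_immersion _ _) hδZ
    rw [hHq] at hd
    haveI := hiso i
    have hs : Function.Surjective (((t i).g ≫ ι i).residueFieldMap (genericPoint (t i).Y')).hom := by
      rw [Scheme.residueFieldMap_comp]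
      exact (surjective_residueFieldMap (t i).g _).comp (Reduction.bijective_residueFieldMap (ι i) _).2
    exact (Envelope.delta_eq_of_surjective ((t i).g ≫ ι i) hd (genericPoint (t i).Y') hs).trans (congrArg u.δY' (hqη i))
  have hβ : β ∈ Cyc.Zk w.Y' w.δY' k := fun z hz => by
    show b z = 0
    by_cases hex : ∃ i, H i (genericPoint (t i).Y') = z
    · obtain ⟨i, rfl⟩ := hex
      have hne : u.δY' i.1 ≠ k := by rwa [← hdel]
      exact absurd (hα _ hne) i.2
    · exact if_neg hex
  have hmap : ⇑(AlgebraicCycle.map (Sigma.desc q) w.δY' u.δY' β) = ⇑α := funext fun y => by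
    show ∑ᶠ z ∈ (Sigma.desc q) ⁻¹' {y}, b z * ((AlgebraicCycle.mapCoeff (Sigma.desc q) w.δY' u.δY' z : ℕ) : ℤ) = α y
    have hz : ∀ z ∈ (Sigma.desc q) ⁻¹' {y}, b z ≠ 0 → α y ≠ 0 ∧ ∀ hy, z = H ⟨y, hy⟩ (genericPoint (t ⟨y, hy⟩).Y') := by
      intro z hz hb
      by_cases hex : ∃ i, H i (genericPoint (t i).Y') = z
      · obtain ⟨⟨y', hy'⟩, rfl⟩ := hex
        have h3 : (Sigma.desc q) (H ⟨y', hy'⟩ (genericPoint (t ⟨y', hy'⟩).Y')) = y' := by
          rw [← Scheme.Hom.comp_apply, hHq]; exact hqη _
        obtain rfl : y' = y := h3.symm.trans hz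
        exact ⟨hy', fun _ => rfl⟩
      · exact absurd (if_neg hex) hb
    by_cases hy : α y = 0
    · rw [hy]
      refine finsum_mem_eq_zero_of_forall_eq_zero fun z h => ?_
      by_cases hb : b z = 0
      · rw [hb, zero_mul]
      · exact absurd hy (hz z h hb).1
    · let i : I := ⟨y, hy⟩
      have h3 : (Sigma.desc q) (H i (genericPoint (t i).Y')) = y := by
        rw [← Scheme.Hom.comp_apply, hHq]; exact hqη i
      rw [finsum_eq_single (fun z => ∑ᶠ (_ : z ∈ (Sigma.desc q) ⁻¹' {y}),
        b z * ((AlgebraicCycle.mapCoeff (Sigma.desc q) w.δY' u.δY' z : ℕ) : ℤ)) (H i (genericPoint (t i).Y'))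
        fun z hne => by
          by_cases hb : b z = 0
          · simp [hb]
          · simp only [finsum_eq_if]
            split_ifs with h
            · exact absurd ((hz z h hb).2 hy) hne
            · rfl]
      rw [finsum_eq_if, if_pos (show _ ∈ (Sigma.desc q) ⁻¹' {y} from h3)]
      have hc : AlgebraicCycle.mapCoeff (Sigma.desc q) w.δY' u.δY' (H i (genericPoint (t i).Y')) = 1 := by
        unfold AlgebraicCycle.mapCoeff
        rw [if_pos (by rw [h3, hdel]), hdeg]
      rw [hc, show b (H i (genericPoint (t i).Y')) = α (Sigma.desc q (H i (genericPoint (t i).Y'))) from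
        if_pos ⟨i, rfl⟩, h3]
      simp
  have hwz : c.op w k (ChowOps.cl β hβ) = 0 := by
    refine piece_ext H' hH'd hH'c hW' hT' (fun i d => congrFun (eT' i) d) _ _ fun i => ?_
    haveI := isClosedImmersion_piece H hHd hHc i
    haveI := isClosedImmersion_piece H' hH'd hH'c i
    have hr := H22Alg.FiniteDegree.hasRelDim_zero (H i)
    have hr' := H22Alg.FiniteDegree.hasRelDim_zero (H' i)
    have hc := (pullOK_iff (r := ((0 : ℕ) : ℤ)) (hT i) (hT' i) hW hW' (H i) (H' i)
      (fun d _ => by rw [eT i]; simp) (fun d _ => by rw [eT' i]; simp) rfl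
      (show k + ((0 : ℕ) : ℤ) - p = k - p + ((0 : ℕ) : ℤ) by ring) _ _).mp
      (c.pull w (T i) (H i) (H' i) 0 hr hr' (v₁ i) (v₂ i) (v₃ i) k) (ChowOps.cl β hβ)
    haveI := (hT i).1
    haveI : IsLocallyNoetherian (t i).Y' := (hT i).1
    obtain ⟨a, ha, ham⟩ := C1Api.exists_pullFun_cycle (H i) (hT i) hW
      (show FlatRat.MaxDim (H i) (T i).δY' w.δY' ((0 : ℕ) : ℤ) from fun d _ => by rw [eT i]; simp) k β hβ
    rw [Chow.pull_cl (H i) _ _ _ _ β hβ a ham ha] at hc
    have haw : ∀ d, a d = b (H i d) := fun d => by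
      rw [ha, eT i]
      simp only [Nat.cast_zero, OpenSupp.pullFun_openImmersion]
      rfl
    have h1 : c.op (T i) (k + ((0 : ℕ) : ℤ)) (ChowOps.cl a ham) = 0 := by
      let e : AlgebraicCycle (t i).Y' ℤ := ⟨fun d => if d = genericPoint (t i).Y' then 1 else 0, by simp,
        fun d _ => ⟨Set.univ, Filter.univ_mem, (Set.finite_singleton (genericPoint (t i).Y')).subset fun d' hd => by
          by_contra hne; exact hd.2 (if_neg hne)⟩⟩
      have hk : (T i).δY' (genericPoint (t i).Y') = k := by
        rw [eT i]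
        show w.δY' (H i (genericPoint (t i).Y')) = k
        rw [hdel]
        by_contra hne
        exact i.2 (hα _ hne)
      have he : e ∈ Cyc.Zk (t i).Y' (t i).δY' (k + ((0 : ℕ) : ℤ)) := fun d hd => by
        refine if_neg fun hde => hd ?_
        subst hde
        exact hk.trans (add_zero k).symm
      have h0 := hkill i (k + ((0 : ℕ) : ℤ)) e he (if_pos rfl) fun d hd => if_neg hd
      have hae : ∀ d, a d = α i.1 * e d := fun d => by
        rw [haw]
        show b (H i d) = α i.1 * (if d = genericPoint (t i).Y' then 1 else 0)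
        split_ifs with hd
        · subst hd
          rw [mul_one, show b (H i (genericPoint (t i).Y')) = α (Sigma.desc q (H i (genericPoint (t i).Y'))) from
            if_pos ⟨i, rfl⟩, ← Scheme.Hom.comp_apply, hHq]
          exact congrArg α (hqη i)
        · rw [mul_zero]
          refine if_neg fun ⟨j, hj⟩ => hd ?_
          obtain rfl := hHinj _ _ _ _ hj
          exact ((H _).isOpenEmbedding.injective hj).symm
      have hsm : (α i.1) • (⟨e, he⟩ : ↥(ChowOps.zk (T i).Y' (T i).δY' (k + ((0 : ℕ) : ℤ)))) = ⟨a, ham⟩ := by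
        refine Subtype.ext (DFunLike.coe_injective (funext fun d => ?_))
        rw [hae]
        simp
      show c.op (T i) _ (ChowOps.clHom _ _ _ ⟨a, ham⟩) = 0
      rw [← hsm, map_zsmul, map_zsmul]
      exact (congrArg (α i.1 • ·) h0).trans (smul_zero _)
    rw [h1] at hc
    rw [map_zero]
    have cast0 : ∀ (a : ℤ) (h0 : a = k - p + ((0 : ℕ) : ℤ)) (z : ChowOps.CH w.X' w.δX' (k - p)),
        (0 : ChowOps.CH (T i).X' (T i).δX' a) = Chow.pull (H' i) (hT' i) hW'
          (fun d _ => by rw [eT' i]; simp) h0 z →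
        resPiece H' hW' hT' (fun i d => congrFun (eT' i) d) i (k - p) z = 0 := by
      intro a h0 z hz
      obtain rfl : a = k - p := by simpa using h0
      exact hz.symm
    exact cast0 _ _ _ hc
  have hp := (pushOK_iff hW hW' hU hU' (Sigma.desc q) (pullback.snd (Sigma.desc q) u.f') hδZ hδZ' _ _).mp
    (c.push u w (Sigma.desc q) (pullback.snd (Sigma.desc q) u.f') rfl pullback.condition.symm rfl k) (ChowOps.cl β hβ)
  rw [hwz, map_zero, Chow.push_cl, Chow.cl_congr _ hα hmap] at hp
  exact hp

end Groth.Agent.S17577
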