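import Groth.Statements.S17578
import Groth.Agent.H3Bivar.Piece
-- import your own Groth.Agent.* helpers here

set_option autoImplicit false
universe u
open CategoryTheory AlgebraicGeometry
open Bivar

namespace Groth.Agent.S17578

open CategoryTheory.Limits
open Groth.Agent.H3Bivar Groth.Agent.H3Cyc

/-- Let f : X → Y be locally of finite type and Y = ∐_{j ∈ J} Y_j a decomposition into open and closed
subschemes, given as open immersions Y_j → Y with pairwise disjoint images covering Y, each with a
fibre product X_j = Y_j ×_Y X (so X = ∐ X_j and f(X_j) ⊂ Y_j). Then A^p(X → Y) = ∏_j A^p(X_j → Y_j):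
the map sending a bivariant class to the family of its restrictions along the squares (Y_j → Y, X_j)
is bijective. (The published statement also allows a finer decomposition of X indexed by a set
mapping to J; that refinement is not stated here.) Here a pair (X, δ) with Cyc.IsSetup plays the
role of a scheme locally of finite type over the base (S, δ) (X locally Noetherian with universally
catenary local rings, δ a dimension function), Cyc.DeltaCompat records that a dimension function is
the induced one, and bivariant classes are taken in the operational sense of the prelude: additive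
operations on the Chow groups CH_k (k-cycles modulo rational equivalence) of all test schemes,
compatible with proper pushforward, flat pullback and the Gysin maps of zero schemes of sections of
invertible modules in representative form (Bivar.Cl for A^p(X → Y), Bivar.OpCl for A^p(X)). -/
theorem result (X Y : Scheme.{u}) (δX : X → ℤ) (δY : Y → ℤ) (hX : Cyc.IsSetup X δX) (hY : Cyc.IsSetup Y δY) (f : X ⟶ Y) [LocallyOfFiniteType f] (hδ : Cyc.DeltaCompat f δX δY) (p : ℤ) (J : Type u) (s : J → Bivar.Sq f δX δY) (hopen : ∀ j, IsOpenImmersion (s j).g) (hdisj : ∀ j j' : J, j ≠ j' → Disjoint (Set.range (s j).g.base) (Set.range (s j').g.base)) (hcov : ∀ y : Y, ∃ j, y ∈ Set.range (s j).g.base) : Function.Bijective (fun c : Bivar.Cl p f δX δY => fun j : J => c.res (s j)) := by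
  classical
  haveI := hopen
  have hS := isSetup_fst hY (f := f) (δX := δX)
  have hS' := isSetup_snd hX (f := f) (δY := δY)
  have hP := fun (j : J) (u : Bivar.Sq f δX δY) =>
    isSetup_fst (isSetup_fst hY (s j)) (f := (s j).f') (δX := (s j).δX') (piece (s j) u)
  have hP' := fun (j : J) (u : Bivar.Sq f δX δY) =>
    isSetup_snd (isSetup_snd hX (s j)) (f := (s j).f') (δY := (s j).δY') (piece (s j) u)
  have hdY : ∀ (u : Bivar.Sq f δX δY) j j', j ≠ j' →
      Disjoint (Set.range (pcFst (s j) u)) (Set.range (pcFst (s j') u)) := fun u j j' hne => by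
    refine Set.disjoint_left.mpr fun x hx hx' => ?_
    exact Set.disjoint_left.mp (hdisj j j' hne) ((Gysin.fst_mem_range_iff _ _ x).mp hx)
      ((Gysin.fst_mem_range_iff _ _ x).mp hx')
  have hcY : ∀ (u : Bivar.Sq f δX δY) (x : u.Y'), ∃ j, x ∈ Set.range (pcFst (s j) u) := fun u x => by
    obtain ⟨j, hj⟩ := hcov (u.g x)
    exact ⟨j, (Gysin.fst_mem_range_iff _ _ x).mpr hj⟩
  have hdX : ∀ (u : Bivar.Sq f δX δY) j j', j ≠ j' →
      Disjoint (Set.range (pcLift (s j) u)) (Set.range (pcLift (s j') u)) := fun u j j' hne => by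
    refine Set.disjoint_left.mpr fun x hx hx' => ?_
    exact Set.disjoint_left.mp (hdY u j j' hne) ((mem_range_of_isPullback (pcLift_isPullback _ u) x).mp hx)
      ((mem_range_of_isPullback (pcLift_isPullback _ u) x).mp hx')
  have hcX : ∀ (u : Bivar.Sq f δX δY) (x : u.X'), ∃ j, x ∈ Set.range (pcLift (s j) u) := fun u x => by
    obtain ⟨j, hj⟩ := hcY u (u.f' x)
    exact ⟨j, (mem_range_of_isPullback (pcLift_isPullback _ u) x).mpr hj⟩
  let rY := fun (j : J) (u : Bivar.Sq f δX δY) (k : ℤ) =>
    resPiece (fun j => pcFst (s j) u) (hS u) (fun j => hP j u) (fun _ _ => rfl) j k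
  let rX := fun (j : J) (u : Bivar.Sq f δX δY) (k : ℤ) =>
    resPiece (fun j => pcLift (s j) u) (hS' u) (fun j => hP' j u) (fun _ _ => rfl) j k
  have hext : ∀ (u : Bivar.Sq f δX δY) (k : ℤ) (x y : ChowOps.CH u.X' u.δX' k),
      (∀ j, rX j u k x = rX j u k y) → x = y := fun u k x y h =>
    piece_ext (fun j => pcLift (s j) u) (hdX u) (hcX u) (hS' u) (fun j => hP' j u) (fun _ _ => rfl) x y h
  have hclY : ∀ (j : J) (u : Bivar.Sq f δX δY), Cyc.HasRelDim (pcFst (s j) u) 0 ∧
      Cyc.HasRelDim (pcLift (s j) u) 0 := fun j u => by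
    haveI := isClosedImmersion_piece (fun j => pcFst (s j) u) (hdY u) (hcY u) j
    haveI := isClosedImmersion_piece (fun j => pcLift (s j) u) (hdX u) (hcX u) j
    exact ⟨Groth.Agent.H22Alg.FiniteDegree.hasRelDim_zero _, Groth.Agent.H22Alg.FiniteDegree.hasRelDim_zero _⟩
  refine ⟨fun c₁ c₂ h => ?_, fun cc => ?_⟩
  · refine Bivar.Cl.ext (funext fun u => funext fun k => AddMonoidHom.ext fun x => hext u _ _ _ fun j => ?_)
    have he := congrArg Bivar.Cl.op (congrFun h j)
    have w₁ : pcFst (s j) u ≫ u.g = ((s j).paste (piece (s j) u)).g := pullback.condition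
    have key : ∀ c : Bivar.Cl p f δX δY,
        c.op ((s j).paste (piece (s j) u)) (k + 0) (Chow.pull (pcFst (s j) u) (hP j u) (hS u)
          (fun w _ => (add_zero _).symm) rfl x) =
        Chow.pull (pcLift (s j) u) (hP' j u) (hS' u) (fun w _ => (add_zero _).symm)
          (show k + 0 - p = k - p + 0 by ring) (c.op u k x) := fun c => by
      have hc := c.pull u ((s j).paste (piece (s j) u)) (pcFst (s j) u) (pcLift (s j) u) 0 (hclY j u).1 (hclY j u).2
        w₁ (pcLift_fst _ u) (pcLift_snd _ u) k
      exact (pullOK_iff (hP j u) (hP' j u) (hS u) (hS' u) (pcFst (s j) u) (pcLift (s j) u) _ _ rfl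
        (show k + 0 - p = k - p + 0 by ring) _ _).mp hc x
    have e := (key c₁).symm.trans ((congrFun (congrArg DFunLike.coe (congrFun (congrFun he (piece (s j) u)) (k + 0))) _).trans (key c₂))
    have cast0 : ∀ (a : ℤ) (h0 : a = k - p + 0) (z z' : ChowOps.CH u.X' u.δX' (k - p)),
        Chow.pull (pcLift (s j) u) (hP' j u) (hS' u) (fun w _ => (add_zero _).symm) h0 z =
          Chow.pull (pcLift (s j) u) (hP' j u) (hS' u) (fun w _ => (add_zero _).symm) h0 z' →
        rX j u (k - p) z = rX j u (k - p) z' := by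
      intro a h0 z z' hz
      obtain rfl : a = k - p := by omega
      exact hz
    exact cast0 _ _ _ _ e
  · have hex : ∀ (u : Bivar.Sq f δX δY) (k : ℤ) (x : ChowOps.CH u.Y' u.δY' k), ∃ y : ChowOps.CH u.X' u.δX' (k - p),
        ∀ j, rX j u (k - p) y = (cc j).op (piece (s j) u) k (rY j u k x) := fun u k x =>
      piece_glue (fun j => pcLift (s j) u) (hdX u) (hcX u) (hS' u) (fun j => hP' j u) (fun _ _ => rfl)
        fun j => (cc j).op (piece (s j) u) k (rY j u k x)
    choose F hF using hex
    let op : ∀ (u : Bivar.Sq f δX δY) (k : ℤ), ChowOps.CH u.Y' u.δY' k →+ ChowOps.CH u.X' u.δX' (k - p) :=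
      fun u k => AddMonoidHom.mk' (F u k) fun a b => hext u _ _ _ fun j => by
        rw [map_add (rX j u (k - p)), hF, hF, hF, map_add, map_add]
    have hop : ∀ j u k x, rX j u (k - p) (op u k x) = (cc j).op (piece (s j) u) k (rY j u k x) :=
      fun j u k x => hF u k x j
    refine ⟨⟨op, ?_, ?_, ?_⟩, funext fun j => ?_⟩
    · intro u t h _ h' _ w₁ w₂ w₃ k
      refine (pushOK_iff (hS t) (hS' t) (hS u) (hS' u) h h' (deltaCompat_fst w₁) (deltaCompat_snd w₃) _ _).mpr
        fun x => hext u _ _ _ fun j => ?_
      obtain ⟨H, H', v₁, v₂, v₃, sqH, sqH'⟩ := exists_pieceMap (s j) w₁ w₂ w₃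
      haveI : IsProper H := MorphismProperty.of_isPullback sqH.flip ‹IsProper h›
      haveI : IsProper H' := MorphismProperty.of_isPullback sqH'.flip ‹IsProper h'›
      have A := (pushOK_iff (hP j t) (hP' j t) (hP j u) (hP' j u) H H' (deltaCompat_fst v₁) (deltaCompat_snd v₃) _ _).mp
        ((cc j).push (piece (s j) u) (piece (s j) t) H H' v₁ v₂ v₃ k) (rY j t k x)
      have B1 : rY j u k (Chow.push h (hS t) (hS u) (deltaCompat_fst w₁) k x) =
          Chow.push H (hP j t) (hP j u) (deltaCompat_fst v₁) k (rY j t k x) :=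
        Chow.pull_push h (pcFst (s j) u) sqH (hS t) (hS u) (hP j u) (hP j t) _ _ _ _ _ x
      rw [hop, B1, A, ← hop]
      exact (Chow.pull_push h' (pcLift (s j) u) sqH' (hS' t) (hS' u) (hP' j u) (hP' j t) _ _ _ _ _ _).symm
    · intro u t h _ h' _ r hr₁ hr₂ w₁ w₂ w₃ k
      haveI := lft_hom_fst w₁
      haveI := lft_hom_snd w₃
      haveI := (hS u).1
      haveI := (hS t).1
      haveI := (hS' u).1
      haveI := (hS' t).1
      have hm := FlatRat.maxDim_of_hasRelDim h hr₁ (deltaCompat_fst w₁)
      have hm' := FlatRat.maxDim_of_hasRelDim h' hr₂ (deltaCompat_snd w₃)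
      refine (pullOK_iff (hS t) (hS' t) (hS u) (hS' u) h h' hm hm' rfl (show k + r - p = k - p + r by ring) _ _).mpr
        fun x => hext t _ _ _ fun j => ?_
      obtain ⟨H, H', v₁, v₂, v₃, sqH, sqH'⟩ := exists_pieceMap (s j) w₁ w₂ w₃
      haveI : Flat H := MorphismProperty.of_isPullback sqH.flip ‹Flat h›
      haveI : Flat H' := MorphismProperty.of_isPullback sqH'.flip ‹Flat h'›
      haveI : LocallyOfFiniteType H := MorphismProperty.of_isPullback sqH.flip ‹LocallyOfFiniteType h›
      haveI : LocallyOfFiniteType H' := MorphismProperty.of_isPullback sqH'.flip ‹LocallyOfFiniteType h'›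
      haveI := (hP j u).1
      haveI := (hP j t).1
      haveI := (hP' j u).1
      haveI := (hP' j t).1
      have hrH := hasRelDim_of_isPullback sqH.flip hr₁
      have hrH' := hasRelDim_of_isPullback sqH'.flip hr₂
      have hmH := FlatRat.maxDim_of_hasRelDim H hrH (deltaCompat_fst v₁)
      have hmH' := FlatRat.maxDim_of_hasRelDim H' hrH' (deltaCompat_snd v₃)
      have A := (pullOK_iff (hP j t) (hP' j t) (hP j u) (hP' j u) H H' hmH hmH' rfl (show k + r - p = k - p + r by ring) _ _).mp
        ((cc j).pull (piece (s j) u) (piece (s j) t) H H' r hrH hrH' v₁ v₂ v₃ k) (rY j u k x)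
      have B1 : rY j t (k + r) (Chow.pull h (hS t) (hS u) hm rfl x) =
          Chow.pull H (hP j t) (hP j u) hmH rfl (rY j u k x) :=
        pull_comm (hP j t) (hS t) (hP j u) (hS u) (pcFst (s j) t) h H (pcFst (s j) u) sqH.w.symm _ _ _ _ (by ring) _ _ _ _ x
      rw [hop, B1, A, ← hop]
      exact (pull_comm (hP' j t) (hS' t) (hP' j u) (hS' u) (pcLift (s j) t) h' H' (pcLift (s j) u) sqH'.w.symm _ _ _ _
        (by ring) _ _ _ _ _).symm
    · intro u t h _ h' _ w₁ w₂ w₃ N hN σ hσ τ hτ k
      have hM := Groth.Agent.H11Ample.isInvertible_pullback u.f' hN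
      have eD := delta_fst w₁
      have eE := delta_snd w₃
      refine (gysinOK_iff (hS u) (hS' u) hN hσ eD hM hτ eE (show k = k - 1 + 1 by ring)
        (show k - p = k - 1 - p + 1 by ring) _ _).mpr fun x => hext t _ _ _ fun j => ?_
      obtain ⟨H, H', v₁, v₂, v₃, sqH, sqH'⟩ := exists_pieceMap (s j) w₁ w₂ w₃
      haveI : IsClosedImmersion H := MorphismProperty.of_isPullback sqH.flip ‹IsClosedImmersion h›
      haveI : IsClosedImmersion H' := MorphismProperty.of_isPullback sqH'.flip ‹IsClosedImmersion h'›
      have eH := delta_fst v₁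
      have eH' := delta_snd v₃
      have hN1 := Groth.Agent.H11Ample.isInvertible_pullback (pcFst (s j) u) hN
      have hM1 := Groth.Agent.H11Ample.isInvertible_pullback (pcLift (s j) u) hM
      have hN2 := Groth.Agent.H11Ample.isInvertible_pullback (piece (s j) u).f' hN1
      let ψ : (Scheme.Modules.pullback (pcLift (s j) u)).obj ((Scheme.Modules.pullback u.f').obj N) ≅
          (Scheme.Modules.pullback (piece (s j) u).f').obj ((Scheme.Modules.pullback (pcFst (s j) u)).obj N) :=
        (Scheme.Modules.pullbackComp _ _).app N ≪≫ (Scheme.Modules.pullbackCongr (pcLift_fst (s j) u)).app N ≪≫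
          ((Scheme.Modules.pullbackComp _ _).app N).symm
      have hz := GysOps.isZero_iso_comp sqH.isoPullback.hom
        (GysinTot.isZeroScheme_pullSec (i := h) hN hσ (pcFst (s j) u))
      rw [sqH.isoPullback_hom_fst] at hz
      have hz0 := GysOps.isZero_iso_comp sqH'.isoPullback.hom
        (GysinTot.isZeroScheme_pullSec (i := h') hM hτ (pcLift (s j) u))
      rw [sqH'.isoPullback_hom_fst] at hz0
      have hz' := GysOps.isZero_map_iso ψ hM1 hz0
      have hd := Groth.Agent.H3Cyc.Reduction.deltaCompat_immersion (pcFst (s j) u) u.δY'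
      have hd' := Groth.Agent.H3Cyc.Reduction.deltaCompat_immersion (pcLift (s j) u) u.δX'
      have A := (gysinOK_iff (hP j u) (hP' j u) hN1 hz eH hN2 hz' eH' (show k = k - 1 + 1 by ring)
        (show k - p = k - 1 - p + 1 by ring) _ _).mp
        ((cc j).gysin (piece (s j) u) (piece (s j) t) H H' v₁ v₂ v₃ _ hN1 _ hz _ hz' k) (rY j u k x)
      have B1 : rY j t (k - 1) (gy (hS u) hN hσ eD (show k = k - 1 + 1 by ring) x) =
          gy (hP j u) hN1 hz eH (show k = k - 1 + 1 by ring) (rY j u k x) :=
        (gy_pull (hS u) hN hσ eD (hP j u) (pcFst (s j) u) (hclY j u).1 hd _ sqH (CategoryTheory.Iso.refl _) hN1 hz eH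
          (hS t) (hP j t) _ _ _ _ _ x).symm
      rw [hop, B1, A, ← hop]
      exact gy_pull (hS' u) hM hτ eE (hP' j u) (pcLift (s j) u) (hclY j u).2 hd' _ sqH' ψ hN2 hz' eH' (hS' t)
        (hP' j t) _ _ _ _ _ _
    · refine Bivar.Cl.ext (funext fun t => funext fun k => AddMonoidHom.ext fun x =>
        hext ((s j).paste t) _ _ _ fun i => ?_)
      show rX i ((s j).paste t) (k - p) (op ((s j).paste t) k x) = _
      by_cases hij : i = j
      · subst hij
        rw [hop]
        haveI : Mono (s i).g := inferInstance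
        haveI : IsOpenImmersion (s i).g' :=
          MorphismProperty.of_isPullback (s i).isPullback (inferInstance : IsOpenImmersion (s i).g)
        have v₁ : pcFst (s i) ((s i).paste t) ≫ t.g = (piece (s i) ((s i).paste t)).g := by
          rw [← cancel_mono (s i).g, Category.assoc]
          exact pullback.condition
        have v₃ : pcLift (s i) ((s i).paste t) ≫ t.g' = (piece (s i) ((s i).paste t)).g' := by
          rw [← cancel_mono (s i).g', Category.assoc]
          exact pcLift_snd (s i) ((s i).paste t)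
        have hc := (cc i).pull t (piece (s i) ((s i).paste t)) (pcFst (s i) ((s i).paste t))
          (pcLift (s i) ((s i).paste t)) 0 (hclY i _).1 (hclY i _).2 v₁ (pcLift_fst _ _) v₃ k
        have e := (pullOK_iff (r := ((0 : ℕ) : ℤ)) (hP i ((s i).paste t)) (hP' i ((s i).paste t))
          (isSetup_fst (isSetup_fst hY (s i)) t) (isSetup_snd (isSetup_snd hX (s i)) t)
          (pcFst (s i) ((s i).paste t)) (pcLift (s i) ((s i).paste t))
          (fun w _ => (add_zero _).symm) (fun w _ => (add_zero _).symm) rfl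
          (show k + ((0 : ℕ) : ℤ) - p = k - p + ((0 : ℕ) : ℤ) by ring) _ _).mp hc x
        have cast0 : ∀ (a : ℤ) (h0 : a = k + 0) (h1 : a - p = k - p + 0),
            (cc i).op (piece (s i) ((s i).paste t)) a
              (Chow.pull (pcFst (s i) ((s i).paste t)) (hP i _) (hS _) (fun w _ => (add_zero _).symm) h0 x) =
            Chow.pull (pcLift (s i) ((s i).paste t)) (hP' i _) (hS' _) (fun w _ => (add_zero _).symm) h1
              ((cc i).op t k x) →
            (cc i).op (piece (s i) ((s i).paste t)) k (rY i ((s i).paste t) k x) =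
              rX i ((s i).paste t) (k - p) ((cc i).op t k x) := by
          intro a h0 h1 hz
          obtain rfl : a = k := by omega
          exact hz
        exact cast0 _ rfl _ e
      · haveI : IsEmpty (piece (s i) ((s j).paste t)).X' := ⟨fun z => by
          have h1 := (Gysin.fst_mem_range_iff ((s j).paste t).g (s i).g _).mp
            ⟨(piece (s i) ((s j).paste t)).f' z, rfl⟩
          exact Set.disjoint_left.mp (hdisj i j hij) h1 ⟨_, rfl⟩⟩
        haveI := ch_subsingleton (δA := (piece (s i) ((s j).paste t)).δX') (k - p)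
        exact Subsingleton.elim _ _
end Groth.Agent.S17578
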