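import Groth.Statements.S17579
import Groth.Agent.H3Bivar.Deform
import Groth.Agent.H3Cyc.SmoothLine
import Groth.Agent.S6488
-- import your own Groth.Agent.* helpers here

set_option autoImplicit false
universe u
open CategoryTheory AlgebraicGeometry
open Bivar

namespace Groth.Agent.S17579

open CategoryTheory.Limits Opposite
open Groth.Agent.H3Bivar Groth.Agent.H3Cyc
open Groth.Agent.H16Derived.GTheory (A1 prL zeroL tL)

set_option backward.isDefEq.respectTransparency.types false
set_option maxHeartbeats 1000000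

/-- The deformation data of a Gysin triple. -/
theorem exists_data {S D : Scheme.{u}} [IsLocallyNoetherian S] {L : S.Modules} (hL : PicF.IsInvertible L)
    {s : L.presheaf.obj (op ⊤)} {i : D ⟶ S} [IsClosedImmersion i] (hD : Cyc.IsZeroSchemeOf i L s) :
    ∃ (V W X' D' : Scheme.{u}) (π : V ⟶ S) (h : W ⟶ S) (ι : X' ⟶ W) (e0 : V ⟶ W) (a : D' ⟶ X') (b : D' ⟶ V)
      (q : D' ⟶ D) (_ : Smooth π) (_ : Smooth h) (_ : IsClosedImmersion ι) (_ : IsClosedImmersion e0)
      (_ : Flat (ι ≫ h)) (z : S ⟶ V) (_ : IsClosedImmersion z)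
      (t : ((Scheme.Modules.pullback π).obj L).presheaf.obj (op ⊤))
      (σ : ((Scheme.Modules.pullback h).obj L).presheaf.obj (op ⊤)) (τ : (Coh.structureModule W).presheaf.obj (op ⊤)),
      Cyc.HasRelDim π 1 ∧ Cyc.HasRelDim h 2 ∧ Cyc.HasRelDim (ι ≫ h) 1 ∧ z ≫ π = 𝟙 S ∧
      Cyc.IsZeroSchemeOf z ((Scheme.Modules.pullback π).obj L) t ∧
      Cyc.IsZeroSchemeOf ι ((Scheme.Modules.pullback h).obj L) σ ∧
      Cyc.IsZeroSchemeOf e0 (Coh.structureModule W) τ ∧ e0 ≫ h = π ∧ IsPullback a b ι e0 ∧ IsPullback b q π i := by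
  classical
  obtain ⟨V, π, hsm, haff, t, z, hz, hzπ, hz0, hrπ, hdata⟩ := SmoothLine.exists_smoothLine hL
  haveI := hsm
  haveI := haff
  haveI := hz
  obtain ⟨-, -, hr₁⟩ := S6488.line_props V
  haveI := SmoothLine.smooth_prL V
  let h : A1 V ⟶ S := prL V ≫ π
  haveI : IsLocallyNoetherian V := LocallyOfFiniteType.isLocallyNoetherian π
  haveI : IsLocallyNoetherian (A1 V) := LocallyOfFiniteType.isLocallyNoetherian (prL V)
  haveI : Smooth h := inferInstanceAs (Smooth (prL V ≫ π))
  have hhr : Cyc.HasRelDim h (1 + 1) := H22Alg.CycBasic.hasRelDim_comp (prL V) π hr₁ hrπ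
  have hM := H11Ample.isInvertible_pullback h hL
  let σ : ((Scheme.Modules.pullback h).obj L).presheaf.obj (op ⊤) := S6488.defSec π L s t
  obtain ⟨X', ι, hιcl, hι⟩ := ZeroSch.exists_zeroScheme hM σ
  haveI := hιcl
  obtain ⟨-, hgfl, hgr⟩ := RelCartier.main h 1 hhr hM ι hι fun w => by
    obtain ⟨U, hU, hxU, e, a, he, hta, hareg⟩ := hdata (h w)
    exact S6488.defSec_reg π s t hU he hta hareg w hxU
  have hzh : zeroL V ≫ h = π := by
    show zeroL V ≫ prL V ≫ π = π
    rw [← Category.assoc, H16Derived.GTheory.zeroL_prL, Category.id_comp]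
  have hu : Cyc.IsZeroSchemeOf (zeroL V) (Coh.structureModule (A1 V)) (tL V : Γ(A1 V, ⊤)) := S6488.isZero_zeroL V
  have hπL := H11Ample.isInvertible_pullback π hL
  have hπs := GysinTot.isZeroScheme_pullSec (i := i) hL hD π
  have hσV₀ := GysinTot.isZeroScheme_pullSec hM hι (zeroL V)
  have hMV := H11Ample.isInvertible_pullback (zeroL V) hM
  haveI : IsClosedImmersion (pullback.snd ι (zeroL V)) := MorphismProperty.pullback_snd _ _ inferInstance
  haveI : IsClosedImmersion (pullback.fst π i) := MorphismProperty.pullback_fst _ _ inferInstance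
  let ψV : (Scheme.Modules.pullback (zeroL V)).obj ((Scheme.Modules.pullback h).obj L) ≅ (Scheme.Modules.pullback π).obj L :=
    (Scheme.Modules.pullbackComp (zeroL V) h).app L ≪≫ (Scheme.Modules.pullbackCongr hzh).app L
  have hσV : Cyc.IsZeroSchemeOf (pullback.snd ι (zeroL V)) _ (GysinTot.pullSec (zeroL V) _ σ) := by
    rw [← pullbackSymmetry_hom_comp_fst ι (zeroL V)]
    exact GysOps.isZero_iso_comp _ hσV₀
  have hσV' := GysOps.isZero_map_iso ψV hMV hσV
  rw [show ψV.hom.app ⊤ (GysinTot.pullSec (zeroL V) _ σ) = OmegaSh.pullSect π L ⊤ s from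
    S6488.defSec_zero π L s t hzh] at hσV'
  obtain ⟨ε, hε⟩ := GysOps.exists_iso_zero hπL hπs hσV'
  refine ⟨V, A1 V, X', pullback ι (zeroL V), π, h, ι, zeroL V, pullback.fst ι (zeroL V), pullback.snd ι (zeroL V),
    ε.hom ≫ pullback.snd π i, hsm, inferInstance, hιcl, inferInstance, hgfl, z, hz, t, σ, (tL V : Γ(A1 V, ⊤)), hrπ, hhr,
    hgr, hzπ, hz0, hι, hu, hzh, IsPullback.of_hasPullback _ _, ?_⟩
  exact IsPullback.of_iso (IsPullback.of_hasPullback π i) ε.symm (Iso.refl _) (Iso.refl _) (Iso.refl _)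
    (by simp [← hε]) (by simp) (by simp) (by simp)

/-- Let f : X → Y be locally of finite type and suppose given a rule c assigning to every Y' → Y locally
of finite type and every k an additive map c ∩ − : CH_k(Y') → CH_{k−p}(X'), X' = Y' ×_Y X,
satisfying conditions (1) (proper pushforward) and (2) (flat pullback of fixed relative dimension)
of the definition of bivariant classes, and condition (3) (compatibility with the Gysin maps of a
triple (L, σ, i : D' → Y') and its inverse image on X') whenever the restriction of L to D' is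
trivial. Then c is a bivariant class of degree p: there is c' ∈ A^p(X → Y), compatible with the
Gysin maps of all triples, whose operations are those of c. The hypothesis is the prelude's
structure Bivar.WeakCl (fields op, push, pull as for Bivar.Cl and the Gysin clause only under a
trivialisation of i^*L). Here a pair (X, δ) with Cyc.IsSetup plays the role of a scheme locally of
finite type over the base (S, δ) (X locally Noetherian with universally catenary local rings, δ a
dimension function), Cyc.DeltaCompat records that a dimension function is the induced one, and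
bivariant classes are taken in the operational sense of the prelude: additive operations on the Chow
groups CH_k (k-cycles modulo rational equivalence) of all test schemes, compatible with proper
pushforward, flat pullback and the Gysin maps of zero schemes of sections of invertible modules in
representative form (Bivar.Cl for A^p(X → Y), Bivar.OpCl for A^p(X)). -/
theorem result (X Y : Scheme.{u}) (δX : X → ℤ) (δY : Y → ℤ) (hX : Cyc.IsSetup X δX) (hY : Cyc.IsSetup Y δY) (f : X ⟶ Y) [LocallyOfFiniteType f] (hδ : Cyc.DeltaCompat f δX δY) (p : ℤ) (c : Bivar.WeakCl p f δX δY) : ∃ c' : Bivar.Cl p f δX δY, c'.op = c.op := by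
  classical
  refine ⟨⟨c.op, c.push, c.pull, ?_⟩, rfl⟩
  intro s t i _ j _ w₁ w₂ w₃ L hL σL hD τL hE k
  have hS := isSetup_fst hY s
  have hS' := isSetup_snd hX s
  have hT := isSetup_fst hY t
  have hT' := isSetup_snd hX t
  haveI := hS.1
  haveI := hS'.1
  haveI := hT.1
  haveI := hT'.1
  have eD := delta_fst (s := s) (t := t) (i := i) w₁
  have eE := delta_snd (s := s) (t := t) (j := j) w₃
  have sqE : IsPullback j t.f' s.f' i := isPullback_hom (s := s) (t := t) w₁ w₂ w₃
  have hfL := H11Ample.isInvertible_pullback s.f' hL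
  refine (gysinOK_iff hS hS' hL hD eD hfL hE eE (show k = k - 1 + 1 by ring)
    (show k - p = k - 1 - p + 1 by ring) _ _).mpr fun x => ?_
  obtain ⟨V, W, X', D', π, h, ι, e0, a, b, q, hπsm, hhsm, hιcl, he0cl, hgfl, z, hzcl, tt, σ, τ, hrπ, hrh, hrg, hzπ, hz,
    hι, he0, he0h, sqA, sqB⟩ := exists_data hL hD
  haveI := hπsm
  haveI := hhsm
  haveI := hιcl
  haveI := he0cl
  haveI := hgfl
  haveI := hzcl
  haveI : IsClosedImmersion a := MorphismProperty.of_isPullback sqA.flip he0cl
  haveI : IsClosedImmersion b := MorphismProperty.of_isPullback sqA hιcl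
  haveI : Smooth q := MorphismProperty.of_isPullback sqB hπsm
  -- the base
  let g : X' ⟶ s.Y' := ι ≫ h
  haveI : Flat g := hgfl
  obtain ⟨δW, hδW⟩ := SpFun.exists_deltaCompat h s.δY'
  let δV : V → ℤ := fun v => δW (e0 v)
  let δX' : X' → ℤ := fun v => δW (ι v)
  let δD' : D' → ℤ := fun v => δX' (a v)
  have hW := isSetup_of_locallyOfFiniteType h hS hδW
  have hV : Cyc.IsSetup V δV := GysinTot.isSetupD hW (i := e0)
  have hX' : Cyc.IsSetup X' δX' := GysinTot.isSetupD hW (i := ι)
  have hD' : Cyc.IsSetup D' δD' := GysinTot.isSetupD hX' (i := a)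
  have hδπ : Cyc.DeltaCompat π δV s.δY' := by
    have := BCPush.deltaCompat_comp e0 h (Reduction.deltaCompat_immersion e0 δW) hδW
    rwa [he0h] at this
  have hδg : Cyc.DeltaCompat g δX' s.δY' := BCPush.deltaCompat_comp ι h (Reduction.deltaCompat_immersion ι δW) hδW
  have hqi : q ≫ i = a ≫ g := by
    show q ≫ i = a ≫ ι ≫ h
    rw [← Category.assoc, sqA.w, Category.assoc, he0h, sqB.w]
  have hδq : Cyc.DeltaCompat q δD' t.δY' := by
    refine BCPush.deltaCompat_cancel q i (deltaCompat_fst (s := s) (t := t) (h := i) w₁) ?_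
    rw [hqi]
    exact BCPush.deltaCompat_comp a g (Reduction.deltaCompat_immersion a δX') hδg
  have hrq : Cyc.HasRelDim q 1 := hasRelDim_of_isPullback sqB hrπ
  haveI := hW.1
  haveI := hV.1
  haveI := hX'.1
  haveI := hD'.1
  have hdπ := FlatRat.maxDim_of_hasRelDim π hrπ hδπ
  have hdh := FlatRat.maxDim_of_hasRelDim h hrh hδW
  have hdg := FlatRat.maxDim_of_hasRelDim g hrg hδg
  have hdq := FlatRat.maxDim_of_hasRelDim q hrq hδq
  -- the base change
  let Wx := pullback h s.f'
  let h' : Wx ⟶ s.X' := pullback.snd h s.f'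
  let Vx := pullback π s.f'
  let π' : Vx ⟶ s.X' := pullback.snd π s.f'
  let Xx := pullback g s.f'
  let g' : Xx ⟶ s.X' := pullback.snd g s.f'
  let Dx := pullback q t.f'
  let q' : Dx ⟶ t.X' := pullback.snd q t.f'
  haveI : Smooth h' := MorphismProperty.pullback_snd _ _ inferInstance
  haveI : Smooth π' := MorphismProperty.pullback_snd _ _ inferInstance
  haveI : Smooth q' := MorphismProperty.pullback_snd _ _ inferInstance
  haveI : Flat g' := MorphismProperty.pullback_snd _ _ inferInstance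
  haveI : LocallyOfFiniteType g' := MorphismProperty.pullback_snd _ _ inferInstance
  let ι' : Xx ⟶ Wx := pullback.lift (pullback.fst g s.f' ≫ ι) g' (by rw [Category.assoc]; exact pullback.condition)
  have hι'1 : ι' ≫ pullback.fst h s.f' = pullback.fst g s.f' ≫ ι := pullback.lift_fst _ _ _
  have hι'2 : ι' ≫ h' = g' := pullback.lift_snd _ _ _
  let e0' : Vx ⟶ Wx := pullback.lift (pullback.fst π s.f' ≫ e0) π' (by rw [Category.assoc, he0h]; exact pullback.condition)
  have he1 : e0' ≫ pullback.fst h s.f' = pullback.fst π s.f' ≫ e0 := pullback.lift_fst _ _ _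
  have he2 : e0' ≫ h' = π' := pullback.lift_snd _ _ _
  let a' : Dx ⟶ Xx := pullback.lift (pullback.fst q t.f' ≫ a) (q' ≫ j)
    (by rw [Category.assoc, ← hqi, Category.assoc, w₂, ← Category.assoc, ← Category.assoc, pullback.condition])
  have ha1 : a' ≫ pullback.fst g s.f' = pullback.fst q t.f' ≫ a := pullback.lift_fst _ _ _
  have ha2 : a' ≫ g' = q' ≫ j := pullback.lift_snd _ _ _
  let b' : Dx ⟶ Vx := pullback.lift (pullback.fst q t.f' ≫ b) (q' ≫ j)
    (by rw [Category.assoc, sqB.w, Category.assoc, w₂, ← Category.assoc, ← Category.assoc, pullback.condition])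
  have hb1 : b' ≫ pullback.fst π s.f' = pullback.fst q t.f' ≫ b := pullback.lift_fst _ _ _
  have hb2 : b' ≫ π' = q' ≫ j := pullback.lift_snd _ _ _
  have sqB' : IsPullback b' q' π' j := by
    have h0 := (IsPullback.of_hasPullback q t.f').flip
    exact Deform.isPullback_bc sqB h0.flip (IsPullback.of_hasPullback π s.f') hb1 w₂ hb2
  have sqι : IsPullback (pullback.fst g s.f') ι' ι (pullback.fst h s.f') := by
    refine IsPullback.of_bot ?_ hι'1.symm (IsPullback.of_hasPullback h s.f')
    rw [hι'2]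
    exact IsPullback.of_hasPullback g s.f'
  have sqe : IsPullback (pullback.fst π s.f') e0' e0 (pullback.fst h s.f') := by
    refine IsPullback.of_bot ?_ he1.symm (IsPullback.of_hasPullback h s.f')
    rw [he2, he0h]
    exact IsPullback.of_hasPullback π s.f'
  haveI : IsClosedImmersion ι' := MorphismProperty.of_isPullback sqι hιcl
  haveI : IsClosedImmersion e0' := MorphismProperty.of_isPullback sqe he0cl
  haveI : IsClosedImmersion b' := MorphismProperty.of_isPullback sqB'.flip ‹IsClosedImmersion j›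
  have sqb : IsPullback (pullback.fst q t.f') b' b (pullback.fst π s.f') := by
    refine IsPullback.of_bot ?_ hb1.symm (IsPullback.of_hasPullback π s.f')
    rw [hb2, sqB.w]
    exact (IsPullback.of_hasPullback q t.f').paste_vert sqE.flip
  have sqA' : IsPullback a' b' ι' e0' := by
    refine Deform.isPullback_bc sqA sqb sqι ha1 he1 ?_
    refine pullback.hom_ext ?_ ?_
    · rw [Category.assoc, hι'1, ← Category.assoc, ha1, Category.assoc, sqA.w, Category.assoc, he1, ← Category.assoc,
        ← Category.assoc, hb1]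
    · rw [Category.assoc]; erw [hι'2, ha2]; rw [Category.assoc]; erw [he2, hb2]
  haveI : IsClosedImmersion a' := MorphismProperty.of_isPullback sqA'.flip ‹IsClosedImmersion e0'›
  obtain ⟨δWx, hδWx⟩ := SpFun.exists_deltaCompat h' s.δX'
  let δVx : Vx → ℤ := fun v => δWx (e0' v)
  let δXx : Xx → ℤ := fun v => δWx (ι' v)
  let δDx : Dx → ℤ := fun v => δXx (a' v)
  have hWx := isSetup_of_locallyOfFiniteType h' hS' hδWx
  have hVx : Cyc.IsSetup Vx δVx := GysinTot.isSetupD hWx (i := e0')
  have hXx : Cyc.IsSetup Xx δXx := GysinTot.isSetupD hWx (i := ι')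
  have hDx : Cyc.IsSetup Dx δDx := GysinTot.isSetupD hXx (i := a')
  haveI := hWx.1
  haveI := hVx.1
  haveI := hXx.1
  haveI := hDx.1
  have hδπ' : Cyc.DeltaCompat π' δVx s.δX' := by
    have := BCPush.deltaCompat_comp e0' h' (Reduction.deltaCompat_immersion e0' δWx) hδWx
    rwa [he2] at this
  have hδg' : Cyc.DeltaCompat g' δXx s.δX' := by
    have := BCPush.deltaCompat_comp ι' h' (Reduction.deltaCompat_immersion ι' δWx) hδWx
    rwa [hι'2] at this
  have hδq' : Cyc.DeltaCompat q' δDx t.δX' := by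
    refine BCPush.deltaCompat_cancel q' j (deltaCompat_snd (s := s) (t := t) (h' := j) w₃) ?_
    rw [← ha2]
    exact BCPush.deltaCompat_comp a' g' (Reduction.deltaCompat_immersion a' δXx) hδg'
  have hrh' : Cyc.HasRelDim h' 2 := hasRelDim_of_isPullback (IsPullback.of_hasPullback h s.f') hrh
  have hrπ' : Cyc.HasRelDim π' 1 := hasRelDim_of_isPullback (IsPullback.of_hasPullback π s.f') hrπ
  have hrg' : Cyc.HasRelDim g' 1 := hasRelDim_of_isPullback (IsPullback.of_hasPullback g s.f') hrg
  have hrq' : Cyc.HasRelDim q' 1 := hasRelDim_of_isPullback (IsPullback.of_hasPullback q t.f') hrq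
  have hdh' := FlatRat.maxDim_of_hasRelDim h' hrh' hδWx
  have hdπ' := FlatRat.maxDim_of_hasRelDim π' hrπ' hδπ'
  have hdg' := FlatRat.maxDim_of_hasRelDim g' hrg' hδg'
  have hdq' := FlatRat.maxDim_of_hasRelDim q' hrq' hδq'
  -- the modules
  have hM := H11Ample.isInvertible_pullback h hL
  have hO : PicF.IsInvertible (Coh.structureModule W) := H11Ample.isInvertible_structureModule
  let N := (Scheme.Modules.pullback ι).obj (Coh.structureModule W)
  have hN : PicF.IsInvertible N := H11Ample.isInvertible_pullback ι hO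
  have ha0 := GysOps.isZero_iso_comp sqA.isoPullback.hom (GysinTot.isZeroScheme_pullSec (i := e0) hO he0 ι)
  rw [sqA.isoPullback_hom_fst] at ha0
  have hM' := H11Ample.isInvertible_pullback (pullback.fst h s.f') hM
  have hO' := H11Ample.isInvertible_pullback (pullback.fst h s.f') hO
  have hι' := GysOps.isZero_iso_comp sqι.flip.isoPullback.hom
    (GysinTot.isZeroScheme_pullSec (i := ι) hM hι (pullback.fst h s.f'))
  rw [sqι.flip.isoPullback_hom_fst] at hι'
  have he0' := GysOps.isZero_iso_comp sqe.flip.isoPullback.hom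
    (GysinTot.isZeroScheme_pullSec (i := e0) hO he0 (pullback.fst h s.f'))
  rw [sqe.flip.isoPullback_hom_fst] at he0'
  let ψ₀ : (Scheme.Modules.pullback e0).obj ((Scheme.Modules.pullback h).obj L) ≅ (Scheme.Modules.pullback π).obj L :=
    (Scheme.Modules.pullbackComp e0 h).app L ≪≫ (Scheme.Modules.pullbackCongr he0h).app L
  have hhw : pullback.fst h s.f' ≫ h = h' ≫ s.f' := pullback.condition
  have hπw : π' ≫ s.f' = (e0' ≫ pullback.fst h s.f') ≫ h := by
    rw [Category.assoc, hhw, ← Category.assoc, he2]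
  let ψ₁ : (Scheme.Modules.pullback e0').obj ((Scheme.Modules.pullback (pullback.fst h s.f')).obj
      ((Scheme.Modules.pullback h).obj L)) ≅ (Scheme.Modules.pullback π').obj ((Scheme.Modules.pullback s.f').obj L) :=
    (Scheme.Modules.pullbackComp e0' (pullback.fst h s.f')).app _ ≪≫
      (Scheme.Modules.pullbackComp (e0' ≫ pullback.fst h s.f') h).app L ≪≫
      (Scheme.Modules.pullbackCongr hπw.symm).app L ≪≫ ((Scheme.Modules.pullbackComp π' s.f').app L).symm
  let N' := (Scheme.Modules.pullback (pullback.fst g s.f')).obj N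
  have hN' : PicF.IsInvertible N' := H11Ample.isInvertible_pullback _ hN
  let ψN' : (Scheme.Modules.pullback ι').obj ((Scheme.Modules.pullback (pullback.fst h s.f')).obj (Coh.structureModule W)) ≅ N' :=
    (Scheme.Modules.pullbackComp ι' (pullback.fst h s.f')).app _ ≪≫ (Scheme.Modules.pullbackCongr hι'1).app _ ≪≫
      ((Scheme.Modules.pullbackComp (pullback.fst g s.f') ι).app _).symm
  have sqa : IsPullback (pullback.fst q t.f') a' a (pullback.fst g s.f') := by
    refine IsPullback.of_bot ?_ ha1.symm (IsPullback.of_hasPullback g s.f')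
    rw [ha2, ← hqi]
    exact (IsPullback.of_hasPullback q t.f').paste_vert sqE.flip
  have ha0' := GysOps.isZero_iso_comp sqa.flip.isoPullback.hom
    (GysinTot.isZeroScheme_pullSec (i := a) hN ha0 (pullback.fst g s.f'))
  rw [sqa.flip.isoPullback_hom_fst] at ha0'
  -- the squares
  let sX : Bivar.Sq s.f' s.δX' s.δY' := ⟨X', Xx, g, pullback.fst g s.f', g', IsPullback.of_hasPullback g s.f',
    inferInstance, δX', δXx, hδg, hδg'⟩
  let tX := s.paste sX
  let sD : Bivar.Sq t.f' t.δX' t.δY' := ⟨D', Dx, q, pullback.fst q t.f', q', IsPullback.of_hasPullback q t.f',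
    inferInstance, δD', δDx, hδq, hδq'⟩
  let tD := t.paste sD
  have hX0 : ∀ y : ChowOps.CH s.Y' s.δY' k, c.op tX (k + ((1 : ℕ) : ℤ)) (Chow.pull g hX' hS hdg rfl y) =
      Chow.pull g' hXx hS' hdg' (show k + ((1 : ℕ) : ℤ) - p = k - p + ((1 : ℕ) : ℤ) by ring) (c.op s k y) :=
    (pullOK_iff hX' hXx hS hS' g g' hdg hdg' rfl _ _ _).mp
      (c.pull s tX g g' 1 hrg hrg' rfl pullback.condition.symm rfl k)
  have hD0 : ∀ y : ChowOps.CH t.Y' t.δY' (k - 1), c.op tD (k - 1 + ((1 : ℕ) : ℤ)) (Chow.pull q hD' hT hdq rfl y) =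
      Chow.pull q' hDx hT' hdq' (show k - 1 + ((1 : ℕ) : ℤ) - p = k - 1 - p + ((1 : ℕ) : ℤ) by ring) (c.op t (k - 1) y) :=
    (pullOK_iff hD' hDx hT hT' q q' hdq hdq' rfl _ _ _).mp
      (c.pull t tD q q' 1 hrq hrq' rfl pullback.condition.symm rfl (k - 1))
  have u₁ : a ≫ tX.g = tD.g := by
    show a ≫ g ≫ s.g = q ≫ t.g
    rw [← Category.assoc, ← hqi, Category.assoc, w₁]
  have u₃ : a' ≫ tX.g' = tD.g' := by
    show a' ≫ g' ≫ s.g' = q' ≫ t.g'
    rw [← Category.assoc, ha2, Category.assoc, w₃]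
  have hG := (gysinOK_iff hX' hXx hN ha0 (δD := δD') rfl hN' ha0' (δE := δDx) rfl
    (show k + ((1 : ℕ) : ℤ) = k + ((1 : ℕ) : ℤ) - 1 + 1 by ring)
    (show k + ((1 : ℕ) : ℤ) - p = k + ((1 : ℕ) : ℤ) - 1 - p + 1 by ring) _ _).mp
    (c.gysinTriv tX tD a a' u₁ ha1 u₃ N hN
      ⟨(Scheme.Modules.pullback a).mapIso (H16Derived.KFlat.Stalk.structurePullbackIso ι) ≪≫
        H16Derived.KFlat.Stalk.structurePullbackIso a⟩ _ ha0 _ ha0' (k + ((1 : ℕ) : ℤ)))
    (Chow.pull g hX' hS hdg rfl x)
  have idY := Deform.identity (δV := δV) hS hT hV hW hX' hD' hrπ hδπ hdπ hrh hδW hdh hL hD eD hM hι (δX' := δX') rfl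
    (g := g) rfl hrg hdg hO he0 rfl he0h ψ₀ hN (Iso.refl _) ha0 (δD' := δD') rfl sqA sqB hdq
    (show k = k - 1 + 1 by ring) (show k + ((1 : ℕ) : ℤ) = k + 1 by simp)
    (show k + ((1 : ℕ) : ℤ) = k + ((1 : ℕ) : ℤ) - 1 + 1 by ring)
    (show k + ((1 : ℕ) : ℤ) - 1 = k - 1 + 1 by simp) x
  have idX := Deform.identity (δV := δVx) hS' hT' hVx hWx hXx hDx hrπ' hδπ' hdπ' hrh' hδWx hdh' hfL hE eE hM' hι'
    (δX' := δXx) rfl (g := g') hι'2 hrg' hdg' hO' he0' rfl he2 ψ₁ hN' ψN' ha0' (δD' := δDx) rfl sqA' sqB' hdq'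
    (show k - p = k - 1 - p + 1 by ring) (show k + ((1 : ℕ) : ℤ) - p = k - p + 1 by push_cast; ring)
    (show k + ((1 : ℕ) : ℤ) - p = k + ((1 : ℕ) : ℤ) - 1 - p + 1 by ring)
    (show k + ((1 : ℕ) : ℤ) - 1 - p = k - 1 - p + 1 by push_cast; ring) (c.op s k x)
  rw [idY, hX0 x, idX] at hG
  -- the section
  let zX : s.X' ⟶ Vx := pullback.lift (s.f' ≫ z) (𝟙 _) (by rw [Category.assoc, hzπ, Category.comp_id, Category.id_comp])
  have hzX1 : zX ≫ pullback.fst π s.f' = s.f' ≫ z := pullback.lift_fst _ _ _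
  have hzX2 : zX ≫ π' = 𝟙 _ := pullback.lift_snd _ _ _
  let zE : t.X' ⟶ Dx := sqB'.lift (j ≫ zX) (𝟙 _) (by rw [Category.assoc, hzX2, Category.comp_id, Category.id_comp])
  have hzE1 : zE ≫ b' = j ≫ zX := sqB'.lift_fst _ _ _
  have hzE2 : zE ≫ q' = 𝟙 _ := sqB'.lift_snd _ _ _
  have sqz : IsPullback s.f' zX z (pullback.fst π s.f') := by
    refine IsPullback.of_bot ?_ hzX1.symm (IsPullback.of_hasPullback π s.f')
    rw [hzX2, hzπ]
    exact IsPullback.of_vert_isIso ⟨by simp⟩
  haveI : IsClosedImmersion zX := MorphismProperty.of_isPullback sqz hzcl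
  have sqzE : IsPullback j zE zX b' := by
    refine IsPullback.of_bot ?_ hzE1.symm sqB'
    rw [hzX2, hzE2]
    exact IsPullback.of_vert_isIso ⟨by simp⟩
  haveI : IsClosedImmersion zE := MorphismProperty.of_isPullback sqzE ‹IsClosedImmersion zX›
  have hπL := H11Ample.isInvertible_pullback π hL
  have hπL' := H11Ample.isInvertible_pullback (pullback.fst π s.f') hπL
  have hzX := GysOps.isZero_iso_comp sqz.flip.isoPullback.hom
    (GysinTot.isZeroScheme_pullSec (i := z) hπL hz (pullback.fst π s.f'))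
  rw [sqz.flip.isoPullback_hom_fst] at hzX
  have hzE := GysOps.isZero_iso_comp sqzE.flip.isoPullback.hom
    (GysinTot.isZeroScheme_pullSec (i := zX) hπL' hzX b')
  rw [sqzE.flip.isoPullback_hom_fst] at hzE
  have inj := Deform.pull_injective_of_section hDx hT' q' hrq' hδq' (H11Ample.isInvertible_pullback b' hπL') hzE hzE2
    hdq' (show k + ((1 : ℕ) : ℤ) - 1 - p = k - 1 - p + 1 by push_cast; ring)
  have cast0 : ∀ (m : ℤ) (e₁ : m = k - 1 + ((1 : ℕ) : ℤ)) (e₂ : m - p = k - 1 - p + ((1 : ℕ) : ℤ))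
      (y : ChowOps.CH t.Y' t.δY' (k - 1)),
      c.op tD m (Chow.pull q hD' hT hdq e₁ y) = Chow.pull q' hDx hT' hdq' e₂ (c.op t (k - 1) y) := by
    intro m e₁ e₂ y
    subst e₁
    exact hD0 y
  refine inj ?_
  exact (cast0 _ (by push_cast; ring) (by push_cast; ring) _).symm.trans hG

end Groth.Agent.S17579
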