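import Groth.Statements.S17581
import Groth.Agent.H26Base.Loci
import Mathlib.AlgebraicGeometry.Noetherian

set_option autoImplicit false
open CategoryTheory CategoryTheory.Limits AlgebraicGeometry
open PosLin

namespace Groth.Agent.S17581

open CategoryTheory AlgebraicGeometry TopologicalSpace Groth.Agent.H26Base

/-- Let X be a projective variety over the complex numbers (an integral scheme, proper over ℂ, with an
ample invertible module) and L an invertible O_X-module; for m ≥ 1 let Bs(L^⊗m) be the base locus of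
L^⊗m (the points lying in no open X_s over which a global section s : O_X → L^⊗m is an isomorphism)
and B(L) = ⋂_{m ≥ 1} Bs(L^⊗m) the stable base locus. Then, among the closed sets Bs(L^⊗m) with m ≥
1, B(L) occurs and is the only minimal one: B(L) = Bs(L^⊗m) for some m ≥ 1, and for each m ≥ 1,
Bs(L^⊗m) is minimal in this family if and only if it coincides with B(L). -/
theorem result (X : Scheme.{0}) [X.Over (Spec (CommRingCat.of ℂ))] [IsIntegral X]
    [IsProper (X ↘ Spec (CommRingCat.of ℂ))] (H : X.Modules) (hH : CohB1.IsAmple H)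
    (L : X.Modules) (hL : PicF.IsInvertible L) :
    (∃ m : ℕ, 0 < m ∧ {x : X | ∀ s : Coh.structureModule X ⟶ CohB1.tensorPow L m, x ∉ CohB1.genLocus (CohB1.tensorPow L m) s} = {x : X | ∀ m : ℕ, 0 < m → ∀ s : Coh.structureModule X ⟶ CohB1.tensorPow L m, x ∉ CohB1.genLocus (CohB1.tensorPow L m) s}) ∧
    ∀ m : ℕ, 0 < m →
      ((∀ m' : ℕ, 0 < m' →
          {x : X | ∀ s : Coh.structureModule X ⟶ CohB1.tensorPow L m', x ∉ CohB1.genLocus (CohB1.tensorPow L m') s} ⊆ {x : X | ∀ s : Coh.structureModule X ⟶ CohB1.tensorPow L m, x ∉ CohB1.genLocus (CohB1.tensorPow L m) s} →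
          {x : X | ∀ s : Coh.structureModule X ⟶ CohB1.tensorPow L m', x ∉ CohB1.genLocus (CohB1.tensorPow L m') s} = {x : X | ∀ s : Coh.structureModule X ⟶ CohB1.tensorPow L m, x ∉ CohB1.genLocus (CohB1.tensorPow L m) s}) ↔
        {x : X | ∀ s : Coh.structureModule X ⟶ CohB1.tensorPow L m, x ∉ CohB1.genLocus (CohB1.tensorPow L m) s} = {x : X | ∀ m : ℕ, 0 < m → ∀ s : Coh.structureModule X ⟶ CohB1.tensorPow L m, x ∉ CohB1.genLocus (CohB1.tensorPow L m) s}) := by
  haveI : IsNoetherian X := by
    haveI : IsLocallyNoetherian X := LocallyOfFiniteType.isLocallyNoetherian (X ↘ Spec (CommRingCat.of ℂ))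
    haveI : CompactSpace X := QuasiCompact.compactSpace_of_compactSpace (X ↘ Spec (CommRingCat.of ℂ))
    exact {}
  obtain ⟨n₀, hn₀, h⟩ := exists_stable hL
  have hB := (stableBaseLocus_eq L).trans ((congrArg compl (h 1 one_pos)).trans (baseLocus_eq L (1 * n₀)).symm)
  refine ⟨⟨1 * n₀, Nat.mul_pos one_pos hn₀, hB.symm⟩, fun m hm => ?_⟩
  constructor
  · intro hmin
    rw [hB]
    refine (hmin (1 * n₀) (Nat.mul_pos one_pos hn₀) ?_).symm
    rw [← hB]
    exact fun x hx => hx m hm
  · intro heq m' hm' hsub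
    refine subset_antisymm hsub ?_
    rw [heq]
    exact fun x hx => hx m' hm'

end Groth.Agent.S17581
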