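import Groth.Statements.S17582
import Groth.Agent.H26Base.Loci

set_option autoImplicit false
open CategoryTheory CategoryTheory.Limits AlgebraicGeometry
open PosLin

namespace Groth.Agent.S17582

open CategoryTheory AlgebraicGeometry TopologicalSpace Groth.Agent.H26Base

/-- Let X be a projective variety over the complex numbers (an integral scheme, proper over ℂ, with an
ample invertible module), L an invertible O_X-module and p ≥ 1. With Bs(M) the base locus of an
O_X-module M (the points lying in no open X_s over which a global section s : O_X → M is an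
isomorphism) and B(L) = ⋂_{m ≥ 1} Bs(L^⊗m) the stable base locus, one has B(L^⊗p) = B(L). -/
theorem result (X : Scheme.{0}) [X.Over (Spec (CommRingCat.of ℂ))] [IsIntegral X]
    [IsProper (X ↘ Spec (CommRingCat.of ℂ))] (H : X.Modules) (hH : CohB1.IsAmple H)
    (L : X.Modules) (hL : PicF.IsInvertible L) (p : ℕ) (hp : 0 < p) :
    {x : X | ∀ m : ℕ, 0 < m → ∀ s : Coh.structureModule X ⟶ CohB1.tensorPow (CohB1.tensorPow L p) m, x ∉ CohB1.genLocus (CohB1.tensorPow (CohB1.tensorPow L p) m) s} = {x : X | ∀ m : ℕ, 0 < m → ∀ s : Coh.structureModule X ⟶ CohB1.tensorPow L m, x ∉ CohB1.genLocus (CohB1.tensorPow L m) s} := by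
  rw [stableBaseLocus_eq, stableBaseLocus_eq]
  congr 1
  apply subset_antisymm
  · refine Set.iUnion_subset fun m => ?_
    rw [genUnion_tensorPow hL]
    exact Set.subset_iUnion (fun m : {m : ℕ // 0 < m} => (genUnion L m.1 : Set X)) ⟨p * m.1, Nat.mul_pos hp m.2⟩
  · refine Set.iUnion_subset fun m => ?_
    refine subset_trans ?_ (Set.subset_iUnion (fun m : {m : ℕ // 0 < m} => (genUnion (CohB1.tensorPow L p) m.1 : Set X)) m)
    rw [genUnion_tensorPow hL, mul_comm]
    exact genUnion_le_mul hL m.1 hp

end Groth.Agent.S17582
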