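import Groth.Statements.S17584
import Mathlib
import Groth.Agent.H17.OmegaAffine

set_option autoImplicit false
open CategoryTheory CategoryTheory.Limits AlgebraicGeometry
open PosLin

namespace Groth.Agent.S17584

open CategoryTheory AlgebraicGeometry TopologicalSpace Opposite

theorem exists_mul_eq {X : Scheme.{0}} [IsIntegral X] {W : X.Opens} (a b : Γ(X, W)) (hb : b ≠ 0)
    (h : ∀ (x : X) (hx : x ∈ W), X.presheaf.germ W x hx b ∣ X.presheaf.germ W x hx a) :
    ∃ s : Γ(X, W), b * s = a := by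
  classical
  have loc : ∀ x : W, ∃ (N : X.Opens) (hN : N ≤ W) (s : Γ(X, N)), x.1 ∈ N ∧
      X.presheaf.map (homOfLE hN).op b * s = X.presheaf.map (homOfLE hN).op a := by
    rintro ⟨x, hx⟩
    obtain ⟨c, hc⟩ := h x hx
    obtain ⟨N₀, hxN₀, s, rfl⟩ := X.presheaf.exists_germ_eq c
    obtain ⟨N, hxN, i₁, i₂, e⟩ := X.presheaf.germ_eq x (U := W ⊓ N₀) (V := W ⊓ N₀) ⟨hx, hxN₀⟩ ⟨hx, hxN₀⟩
      (X.presheaf.map (homOfLE (inf_le_left : W ⊓ N₀ ≤ W)).op b * X.presheaf.map (homOfLE (inf_le_right : W ⊓ N₀ ≤ N₀)).op s)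
      (X.presheaf.map (homOfLE (inf_le_left : W ⊓ N₀ ≤ W)).op a)
      (by rw [map_mul, TopCat.Presheaf.germ_res_apply, TopCat.Presheaf.germ_res_apply, TopCat.Presheaf.germ_res_apply, ← hc])
    refine ⟨N, (i₁.le).trans inf_le_left, X.presheaf.map (homOfLE ((i₁.le).trans inf_le_right)).op s, hxN, ?_⟩
    simp only [map_mul, ← ConcreteCategory.comp_apply, ← Functor.map_comp] at e
    exact e
  choose N hN s hxN hs using loc
  have hcov : W ≤ iSup N := fun x hx => Opens.mem_iSup.2 ⟨⟨x, hx⟩, hxN ⟨x, hx⟩⟩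
  have hcompat : TopCat.Presheaf.IsCompatible X.sheaf.obj N s := by
    intro x y
    by_cases hne : Nonempty (N x ⊓ N y : X.Opens)
    · refine mul_left_cancel₀ (b := _) (c := _) (a := X.presheaf.map (homOfLE (inf_le_left.trans (hN x) : N x ⊓ N y ≤ W)).op b) ?_ ?_
      · haveI : Nonempty W := ⟨⟨hne.some.1, hN x hne.some.2.1⟩⟩
        exact fun h0 => hb (map_injective_of_isIntegral X (homOfLE (inf_le_left.trans (hN x) : N x ⊓ N y ≤ W)) (h0.trans (map_zero _).symm))
      · have e1 := congrArg (X.presheaf.map (homOfLE (inf_le_left : N x ⊓ N y ≤ N x)).op) (hs x)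
        have e2 := congrArg (X.presheaf.map (homOfLE (inf_le_right : N x ⊓ N y ≤ N y)).op) (hs y)
        simp only [map_mul, ← ConcreteCategory.comp_apply, ← Functor.map_comp] at e1 e2
        exact e1.trans e2.symm
    · haveI : IsEmpty (N x ⊓ N y : X.Opens) := not_nonempty_iff.1 hne
      have he : N x ⊓ N y = ⊥ := by
        ext z; exact ⟨fun hz => (not_nonempty_iff.1 hne).false ⟨z, hz⟩, fun hz => hz.elim⟩
      haveI hss : Subsingleton Γ(X, N x ⊓ N y) := by rw [he]; infer_instance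
      exact @Subsingleton.elim _ hss _ _
  obtain ⟨g₀, hg, -⟩ := X.sheaf.existsUnique_gluing' N W (fun x => homOfLE (hN x)) hcov s hcompat
  let g : Γ(X, W) := g₀
  refine ⟨(g : Γ(X, W)), X.sheaf.eq_of_locally_eq' N W (fun x => homOfLE (hN x)) hcov _ _ fun x => ?_⟩
  show X.presheaf.map (homOfLE (hN x)).op (b * g) = X.presheaf.map (homOfLE (hN x)).op a
  rw [map_mul, show X.presheaf.map (homOfLE (hN x)).op g = s x from hg x, hs x]

theorem dvd_of_integral {R : Type} [CommRing R] [IsDomain R] [IsIntegrallyClosed R] {a b : R} (hb : b ≠ 0)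
    {A : Type} [CommRing A] (ψ : A →+* R) {K : Type} [Field K] [Algebra A K] (p : Polynomial A) (hp : p.Monic)
    (a₀ b₀ : A) (ha₀ : ψ a₀ = a) (hb₀ : ψ b₀ = b) (hinj : Function.Injective ψ) [IsFractionRing A K]
    (hroot : Polynomial.aeval (algebraMap A K a₀ / algebraMap A K b₀) p = 0) : b ∣ a := by
  let F := FractionRing R
  let Ψ : K →+* F := IsFractionRing.lift (g := (algebraMap R F).comp ψ)
    ((IsFractionRing.injective R F).comp hinj)
  have hΨ : ∀ x, Ψ (algebraMap A K x) = algebraMap R F (ψ x) := fun x => IsFractionRing.lift_algebraMap _ _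
  have hint : IsIntegral R (algebraMap R F a / algebraMap R F b) := by
    refine ⟨p.map ψ, hp.map ψ, ?_⟩
    have h1 := congrArg Ψ hroot
    rw [Polynomial.aeval_def, Polynomial.hom_eval₂, map_zero, map_div₀, hΨ, hΨ, ha₀, hb₀] at h1
    rw [Polynomial.eval₂_map]
    rw [show Ψ.comp (algebraMap A K) = (algebraMap R F).comp ψ from RingHom.ext hΨ] at h1
    exact h1
  obtain ⟨c, hc⟩ := IsIntegrallyClosed.isIntegral_iff.1 hint
  refine ⟨c, IsFractionRing.injective R F ?_⟩
  rw [map_mul, hc, mul_div_cancel₀ _ (by simpa using hb)]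

/-- Let X and Y each be a projective variety over the complex numbers (an integral scheme, proper over
ℂ, with an ample invertible module), and f : X → Y an algebraic fibre space (a surjective morphism
over ℂ with O_Y → f_*O_X an isomorphism). If X is normal, then Y is normal. -/
theorem result (X : Scheme.{0}) [X.Over (Spec (CommRingCat.of ℂ))] [IsIntegral X] [IsProper (X ↘ Spec (CommRingCat.of ℂ))]
    (HX : X.Modules) (hHX : CohB1.IsAmple HX)
    (Y : Scheme.{0}) [Y.Over (Spec (CommRingCat.of ℂ))] [IsIntegral Y] [IsProper (Y ↘ Spec (CommRingCat.of ℂ))]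
    (HY : Y.Modules) (hHY : CohB1.IsAmple HY)
    (f : X ⟶ Y) (hf : f ≫ (Y ↘ Spec (CommRingCat.of ℂ)) = X ↘ Spec (CommRingCat.of ℂ)) [Surjective f]
    (hfs : IsIso (ClSub.unitToPush f))
    (hX : Pi1.IsNormalScheme X) : Pi1.IsNormalScheme Y := by
  intro y
  obtain ⟨V, hV, hyV, -⟩ := exists_isAffineOpen_mem_and_subset (U := ⊤) (Set.mem_univ y)
  haveI : Nonempty V := ⟨⟨y, hyV⟩⟩
  have hbij : Function.Bijective (f.app V) := by
    haveI := hfs
    exact ConcreteCategory.bijective_of_isIso ((ClSub.unitToPush f).app V)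
  obtain ⟨x₀, hx₀⟩ := f.surjective y
  haveI hW : Nonempty (f ⁻¹ᵁ V) := ⟨⟨x₀, show f x₀ ∈ V by rw [hx₀]; exact hyV⟩⟩
  haveI : IsIntegrallyClosed Γ(Y, V) := by
    rw [isIntegrallyClosed_iff (FractionRing Γ(Y, V))]
    intro z hz
    obtain ⟨a, b, hb, rfl⟩ := IsFractionRing.div_surjective (A := Γ(Y, V)) z
    obtain ⟨p, hp, hroot⟩ := hz
    have hb0 : f.app V b ≠ 0 := fun h0 => nonZeroDivisors.ne_zero hb (hbij.1 (h0.trans (map_zero _).symm))
    obtain ⟨s, hs⟩ := exists_mul_eq (f.app V a) (f.app V b) hb0 fun x hx => by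
      obtain ⟨h1, h2⟩ := hX x
      haveI := h1
      haveI := h2
      have hinj : Function.Injective ((X.presheaf.germ (f ⁻¹ᵁ V) x hx).hom.comp (f.app V).hom) :=
        (AlgebraicGeometry.germ_injective_of_isIntegral (X := X) x hx).comp hbij.1
      exact dvd_of_integral (fun h0 => hb0 (AlgebraicGeometry.germ_injective_of_isIntegral (X := X) x hx (h0.trans (map_zero _).symm)))
        _ p hp a b rfl rfl hinj hroot
    obtain ⟨t, rfl⟩ := hbij.2 s
    have hbt : b * t = a := hbij.1 (by rw [map_mul]; exact hs)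
    exact ⟨t, by rw [eq_div_iff (by simpa using nonZeroDivisors.ne_zero hb), ← map_mul, mul_comm t, hbt]⟩
  letI : Algebra Γ(Y, V) (Y.presheaf.stalk y) := Y.presheaf.algebra_section_stalk ⟨y, hyV⟩
  let q := (hV.primeIdealOf ⟨y, hyV⟩).asIdeal
  haveI : IsLocalization q.primeCompl (Y.presheaf.stalk y) := hV.isLocalization_stalk ⟨y, hyV⟩
  refine ⟨inferInstance, ?_⟩
  exact isIntegrallyClosed_of_isLocalization _ q.primeCompl q.primeCompl_le_nonZeroDivisors

end Groth.Agent.S17584
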