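import Groth.Statements.S17585
import Groth.Agent.H27Pos.Semiample

set_option autoImplicit false
open CategoryTheory CategoryTheory.Limits AlgebraicGeometry
open PosLin

namespace Groth.Agent.S17585

/-- Let X be a projective variety over the complex numbers (an integral scheme, proper over ℂ, with an
ample invertible module) which is normal, and L a semiample invertible O_X-module: L^⊗m is globally
generated for some m > 0. Then there exist Y, a projective variety over the complex numbers (an
integral scheme, proper over ℂ, with an ample invertible module), and an algebraic fibre space φ : X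
→ Y over ℂ (surjective, with O_Y → φ_*O_X an isomorphism), such that for every m > 0 with L^⊗m
globally generated there is an ample invertible O_Y-module A with φ^*A ≅ L^⊗m. (The published
statement says more: φ is the morphism defined by the complete linear series of L^⊗m for every
sufficiently large such m, its image being Y, and the ample module with φ^*A ≅ L^⊗f, f the exponent
of the semigroup of such m, is fixed; this row keeps the existence of the fibre space and of the
ample modules pulling back to the globally generated powers.) -/
theorem result (X : Scheme.{0}) [X.Over (Spec (CommRingCat.of ℂ))] [IsIntegral X]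
    [IsProper (X ↘ Spec (CommRingCat.of ℂ))] (H : X.Modules) (hH : CohB1.IsAmple H)
    (hXn : Pi1.IsNormalScheme X)
    (L : X.Modules) (hL : PicF.IsInvertible L)
    (hsa : ∃ m : ℕ, 0 < m ∧ Curv2.IsGloballyGenerated (CohB1.tensorPow L m)) :
    ∃ (Y : Scheme.{0}) (g : Y ⟶ Spec (CommRingCat.of ℂ)) (HY : Y.Modules) (φ : X ⟶ Y),
      IsIntegral Y ∧ IsProper g ∧ CohB1.IsAmple HY ∧
      φ ≫ g = X ↘ Spec (CommRingCat.of ℂ) ∧ Surjective φ ∧ IsIso (ClSub.unitToPush φ) ∧
      ∀ m : ℕ, 0 < m → Curv2.IsGloballyGenerated (CohB1.tensorPow L m) →
        ∃ A : Y.Modules, CohB1.IsAmple A ∧ Nonempty ((Scheme.Modules.pullback φ).obj A ≅ CohB1.tensorPow L m) := by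
  obtain ⟨m₁, hm₁, hg⟩ := hsa
  exact Groth.Agent.H27Pos.exists_fibreSpace ℂ hL hm₁ hg

end Groth.Agent.S17585
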