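import Groth.Statements.S17586
import Groth.Agent.H11Big.Kodaira

set_option autoImplicit false
set_option linter.style.haveILetI false
set_option linter.unusedVariables false
open CategoryTheory CategoryTheory.Limits AlgebraicGeometry
open PosLin

namespace Groth.Agent.S17586

/-- Let X be a projective variety over the complex numbers (an integral scheme, proper over ℂ, with an
ample invertible module) of dimension n, and L an invertible O_X-module (the module of a Cartier
divisor D). The following two characterisations of bigness of D are equivalent: (a) for every ample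
invertible O_X-module A there are m > 0 and a monomorphism A → L^⊗m (that is, mD is linearly
equivalent to A plus an effective divisor); (b) there are a constant C > 0 and m₁ such that dim_ℂ
H^0(X, L^⊗m) ≥ C·m^n for all m ≥ m₁. (In the text both are shown equivalent to D having Iitaka
dimension n; this row states their equivalence with each other.) -/
theorem result (X : Scheme.{0}) [X.Over (Spec (CommRingCat.of ℂ))] [IsIntegral X]
    [IsProper (X ↘ Spec (CommRingCat.of ℂ))] (H : X.Modules) (hH : CohB1.IsAmple H)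
    (n : ℕ) (hn : topologicalKrullDim X = n)
    (L : X.Modules) (hL : PicF.IsInvertible L) :
    (∀ A : X.Modules, CohB1.IsAmple A → ∃ (m : ℕ) (φ : A ⟶ CohB1.tensorPow L m), 0 < m ∧ Mono φ) ↔
      ∃ C : ℝ, 0 < C ∧ ∃ m₁ : ℕ, ∀ m : ℕ, m₁ ≤ m →
        C * (m : ℝ) ^ n ≤ (Module.finrank ℂ (Coh.HH X (CohB1.tensorPow L m) 0) : ℝ) := by
  haveI := Groth.Agent.H28Int.isNoetherian ℂ (X := X)
  constructor
  · intro h
    obtain ⟨m, φ, hm, hφ⟩ := h H hH
    haveI := hφ
    obtain ⟨E, hE, hEpos, ⟨e⟩⟩ := Groth.Agent.H11Big.exists_eff_of_mono ℂ hH.1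
      (Groth.Agent.H11Ample.isInvertible_tensorPow hL m) φ
    obtain ⟨K, hK⟩ := Groth.Agent.H22Alg.VolBig.eventually_lower ℂ hH hn hL
      (Groth.Agent.H11Big.vol_pos_of_eff ℂ hH hn hH hE hEpos hm e)
    obtain ⟨c, hc, hev⟩ := Groth.Agent.H11Big.exists_real_of_nat hK
    obtain ⟨m₁, hm₁⟩ := Filter.eventually_atTop.1 hev
    exact ⟨c, hc, m₁, fun m hm => (hm₁ m hm).le⟩
  · rintro ⟨C, hC, m₁, h⟩ A hA
    obtain ⟨m, E, hm, hE, hEpos, ⟨e⟩⟩ := Groth.Agent.H11Big.exists_eff_of_vol ℂ hH hn hL hA
      (Groth.Agent.H11Big.vol_pos_of_real hC (Filter.eventually_atTop.2 ⟨m₁, h⟩))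
    obtain ⟨φ, hφ⟩ := Groth.Agent.H11Big.exists_mono_of_eff ℂ hA.1 hE hEpos e
    exact ⟨m, φ, hm, hφ⟩

end Groth.Agent.S17586
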