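import Groth.Statements.S17587
import Groth.Agent.H26Base.Loci
import Groth.Agent.LeadBC.Gamma
import Mathlib.AlgebraicGeometry.Noetherian

set_option autoImplicit false
open CategoryTheory CategoryTheory.Limits AlgebraicGeometry
open PosLin

namespace Groth.Agent.S17587

open CategoryTheory AlgebraicGeometry TopologicalSpace Groth.Agent.H26Base Groth.Agent.H11Ample

/-- Let X be a projective variety over the complex numbers (an integral scheme, proper over ℂ, with an
ample invertible module), and L an invertible O_X-module which is big, bigness being expressed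
through the equivalent condition that every ample invertible O_X-module A admits a monomorphism A →
L^⊗m for some m > 0. Then the exponent of L is 1, that is, H^0(X, L^⊗m) ≠ 0 for every sufficiently
large m. -/
theorem result (X : Scheme.{0}) [X.Over (Spec (CommRingCat.of ℂ))] [IsIntegral X]
    [IsProper (X ↘ Spec (CommRingCat.of ℂ))] (H : X.Modules) (hH : CohB1.IsAmple H)
    (L : X.Modules) (hL : PicF.IsInvertible L)
    (hbig : ∀ A : X.Modules, CohB1.IsAmple A → ∃ (m : ℕ) (φ : A ⟶ CohB1.tensorPow L m), 0 < m ∧ Mono φ) :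
    ∃ m₁ : ℕ, ∀ m : ℕ, m₁ ≤ m → Nontrivial (Coh.HH X (CohB1.tensorPow L m) 0) := by
  haveI : CompactSpace X := QuasiCompact.compactSpace_of_compactSpace (X ↘ Spec (CommRingCat.of ℂ))
  haveI : IsLocallyNoetherian X := LocallyOfFiniteType.isLocallyNoetherian (X ↘ Spec (CommRingCat.of ℂ))
  obtain ⟨hH', -, hHs⟩ := isAmple_iff.1 hH
  obtain ⟨n₀, hn₀, hn⟩ := eventually_ample_tensor hH hL
  obtain ⟨x₀⟩ : Nonempty X := inferInstance
  obtain ⟨k, s, hk, hx₀, -⟩ := hHs x₀
  obtain ⟨hamp, hgg⟩ := hn (k * n₀) (Nat.le_mul_of_pos_left _ hk)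
  have hA1 : HasGenSection (CohB1.tensorPow H (k * n₀)) := HasGenSection.pow hH' hn₀ ⟨s, x₀, hx₀⟩
  obtain ⟨g', hg'⟩ := exists_mem_gen_of_isGloballyGenerated
    (isInvertible_tensor (isInvertible_tensorPow hH' _) hL) hgg x₀
  obtain ⟨p, φ, hp, hφ⟩ := hbig _ ((isAmple_tensorPow_iff hH' _ (Nat.mul_pos hk hn₀)).1 hH)
  have hinj : ∀ U, Function.Injective (φ.app U) := fun U => H10Coh.injective_app_of_mono' φ U
  have h1 : HasGenSection (CohB1.tensorPow L p) := by
    obtain ⟨g, x, hx⟩ := hA1
    refine hasGenSection_of_ne_zero (isInvertible_tensorPow hL p) (g := φ.app ⊤ g) fun h0 => ?_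
    have hg0 : g = 0 := hinj ⊤ (h0.trans (map_zero (φ.app ⊤).hom).symm)
    subst hg0
    have hb := isGen_gen (0 : Γ(CohB1.tensorPow H (k * n₀), ⊤)) x hx
    rw [map_zero, map_zero] at hb
    exact zero_ne_one (hb.1 (a₁ := (0 : X.presheaf.stalk x)) (a₂ := 1) (by simp))
  have h2 : HasGenSection (CohB1.tensorPow L (p + 1)) :=
    HasGenSection.map_tensor (isInvertible_tensorPow hH' _) (isInvertible_tensorPow hL p) hL φ hinj ⟨g', x₀, hg'⟩
  refine ⟨p * p + p + 1, fun m hm => ?_⟩
  have key : HasGenSection (CohB1.tensorPow L m) := by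
    obtain ⟨a, b, ha, hb, rfl⟩ : ∃ a b, 0 < a ∧ 0 < b ∧ m = p * a + (p + 1) * b := by
      refine ⟨(m - 1) / p - (m - 1) % p - 1, (m - 1) % p + 1, ?_, Nat.succ_pos _, ?_⟩
      · have := Nat.mod_lt (m - 1) hp
        have h3 : p + 1 ≤ (m - 1) / p := by
          rw [Nat.le_div_iff_mul_le hp, add_mul, one_mul]
          omega
        omega
      · have h5 := Nat.div_add_mod (m - 1) p
        have := Nat.mod_lt (m - 1) hp
        have h3 : p ≤ (m - 1) / p := by rw [Nat.le_div_iff_mul_le hp]; omega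
        obtain ⟨q, hq⟩ : ∃ q, (m - 1) / p = (m - 1) % p + 1 + q := ⟨(m - 1) / p - (m - 1) % p - 1, by omega⟩
        rw [hq] at h5 ⊢
        generalize (m - 1) % p = r at *
        have hm1 : m = m - 1 + 1 := by omega
        rw [show r + 1 + q - r - 1 = q by omega, hm1, ← h5]
        ring
    exact (h1.pow hL ha).add hL (h2.pow hL hb)
  obtain ⟨g, hg⟩ := key.ne_zero
  refine ⟨⟨(Groth.Agent.LeadBC.secTopEquiv _).symm g, 0, fun h => hg ?_⟩⟩
  simpa using congrArg (Groth.Agent.LeadBC.secTopEquiv (CohB1.tensorPow L m)) h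

end Groth.Agent.S17587
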