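import Groth.Statements.S17588
import Groth.Agent.H11Big.NefBig

set_option autoImplicit false
set_option linter.style.haveILetI false
open CategoryTheory CategoryTheory.Limits AlgebraicGeometry
open PosLin

namespace Groth.Agent.S17588

/-- Let X be a projective variety over the complex numbers (an integral scheme, proper over ℂ, with an
ample invertible module) of dimension n, L an invertible O_X-module which is numerically effective
(its restriction to every integral one-dimensional closed subscheme has non-negative degree), and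
L⁻¹ a tensor inverse of L. Then L is big, bigness being expressed through the equivalent growth
condition dim_ℂ H^0(X, L^⊗m) ≥ C·m^n for some constant C > 0 and all sufficiently large m, if and
only if the self-intersection number (L^n) = ∫ c_1(L)^n · [O_X] (the alternating sum of Euler
characteristics attached to n copies of L⁻¹) is positive. -/
theorem result (X : Scheme.{0}) [X.Over (Spec (CommRingCat.of ℂ))] [IsIntegral X]
    [IsProper (X ↘ Spec (CommRingCat.of ℂ))] (H : X.Modules) (hH : CohB1.IsAmple H)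
    (n : ℕ) (hn : topologicalKrullDim X = n)
    (L Linv : X.Modules) (hL : PicF.IsInvertible L) (hLinv : ClSub.IsInverseOf Linv L)
    (hnef : ∀ (Z : Scheme.{0}) (i : Z ⟶ X) [IsClosedImmersion i], IsIntegral Z → topologicalKrullDim Z = 1 →
      0 ≤ Pic13.curveDeg ℂ (i ≫ (X ↘ Spec (CommRingCat.of ℂ))) ((Scheme.Modules.pullback i).obj L)) :
    (∃ C : ℝ, 0 < C ∧ ∃ m₁ : ℕ, ∀ m : ℕ, m₁ ≤ m →
        C * (m : ℝ) ^ n ≤ (Module.finrank ℂ (Coh.HH X (CohB1.tensorPow L m) 0) : ℝ)) ↔
      0 < FGA.intNum ℂ X n (fun _ : Fin n => Linv) (Coh.structureModule X) := by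
  haveI := Groth.Agent.H28Int.isNoetherian ℂ (X := X)
  have hnef' := (Groth.Agent.H12Pic.NefBC.nef_iff_curveDeg ℂ hL).2 hnef
  rw [Groth.Agent.H11Big.intNum_inverse_eq ℂ (H := H) hn hL hLinv]
  constructor
  · rintro ⟨C, hC, m₁, h⟩
    obtain ⟨m, E, -, hE, hEpos, ⟨e⟩⟩ := Groth.Agent.H11Big.exists_eff_of_vol ℂ hH hn hL hH
      (Groth.Agent.H11Big.vol_pos_of_real hC (Filter.eventually_atTop.2 ⟨m₁, h⟩))
    exact Groth.Agent.H11Big.top_pos_of_eff ℂ hH hn hL hnef' hE hEpos e
  · intro h
    obtain ⟨K, hK⟩ := Groth.Agent.H22Alg.VolBig.eventually_lower ℂ hH hn hL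
      (Groth.Agent.H11Big.vol_pos_of_top ℂ hH hn hL hnef' h)
    obtain ⟨c, hc, hev⟩ := Groth.Agent.H11Big.exists_real_of_nat hK
    obtain ⟨m₁, hm₁⟩ := Filter.eventually_atTop.1 hev
    exact ⟨c, hc, m₁, fun m hm => (hm₁ m hm).le⟩

end Groth.Agent.S17588
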