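import Groth.Statements.S17589
import Groth.Agent.H27Mul.GGEventually

set_option backward.isDefEq.respectTransparency.types false

set_option autoImplicit false
open CategoryTheory CategoryTheory.Limits AlgebraicGeometry
open PosLin

namespace Groth.Agent.S17589

/-- Let X be a projective variety over the complex numbers (an integral scheme, proper over ℂ, with an
ample invertible module) which is normal, L a globally generated invertible O_X-module and F a
coherent O_X-module. Then there is an integer m₀ > 0 such that for all a, b ≥ m₀ the map H^0(X, F ⊗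
L^⊗a) ⊗ H^0(X, L^⊗b) → H^0(X, F ⊗ L^⊗a ⊗ L^⊗b) given by multiplication of sections is surjective
(such a multiplication map is written as the map from the global sections of the sectionwise tensor
product presheaf to the global sections of its sheafification). The case F = O_X is the first
assertion of the lemma, surjectivity of H^0(X, L^⊗a) ⊗ H^0(X, L^⊗b) → H^0(X, L^⊗(a+b)) for a, b
large. -/
theorem result (X : Scheme.{0}) [X.Over (Spec (CommRingCat.of ℂ))] [IsIntegral X]
    [IsProper (X ↘ Spec (CommRingCat.of ℂ))] (H : X.Modules) (hH : CohB1.IsAmple H)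
    (hXn : Pi1.IsNormalScheme X)
    (L : X.Modules) (hL : PicF.IsInvertible L) (hLg : Curv2.IsGloballyGenerated L)
    (F : X.Modules) (hF : Coh.IsCoh F) :
    ∃ m₀ : ℕ, 0 < m₀ ∧ ∀ a b : ℕ, m₀ ≤ a → m₀ ≤ b →
      Function.Surjective
        ((toSheafify (Opens.grothendieckTopology X)
          (CohB1.tensorPre (CohB1.tensorMod F (CohB1.tensorPow L a)) (CohB1.tensorPow L b)).presheaf).app
          (Opposite.op ⊤)) := by
  obtain ⟨m₀, hm₀, h⟩ := Groth.Agent.H27Mul.eventually_spanned ℂ hL hLg hF
  exact ⟨m₀, hm₀, fun a b ha _ => Groth.Agent.H22Alg.CMField.surjective_toSheafify (h a b ha)⟩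

end Groth.Agent.S17589
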