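import Groth.Statements.S17592
import Groth.Agent.H9Hens.PairOps
-- import your own Groth.Agent.* helpers here

set_option autoImplicit false
universe u
open Hensel

namespace Groth.Agent.S17592

/-- Let R → S be an étale ring map and I an ideal of R such that the induced map R/I → S/IS is
bijective. Then a Henselization of the pair (S, IS), regarded as an R-algebra, is a Henselization of
the pair (R, I). -/
theorem result (R : Type u) [CommRing R] (I : Ideal R)
    (S : Type u) [CommRing S] [Algebra R S] [Algebra.Etale R S]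
    (hq : Function.Bijective
      (Ideal.quotientMap (I.map (algebraMap R S)) (algebraMap R S) Ideal.le_comap_map))
    (H : Type u) [CommRing H] [Algebra S H] [Algebra R H] [IsScalarTower R S H]
    (hH : Hens2.IsPairHenselization S (I.map (algebraMap R S)) H) :
    Hens2.IsPairHenselization R I H := by
  have hmap : (I.map (algebraMap R S)).map (algebraMap S H) = I.map (algebraMap R H) := by
    rw [Ideal.map_map, ← IsScalarTower.algebraMap_eq]
  refine ⟨hmap ▸ hH.1, fun C _ J f hC hf => ?_⟩
  let : Algebra R C := f.toAlgebra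
  let e := RingEquiv.ofBijective _ hq
  let ρ : R ⧸ I →+* C ⧸ J := Ideal.quotientMap J f (Ideal.map_le_iff_le_comap.mp hf)
  let σ : S →ₐ[R] C ⧸ J :=
    { (ρ.comp e.symm.toRingHom).comp (Ideal.Quotient.mk (I.map (algebraMap R S))) with
      commutes' := fun r => by
        have : e.symm (Ideal.Quotient.mk _ (algebraMap R S r)) = Ideal.Quotient.mk I r := by
          rw [RingEquiv.symm_apply_eq]; rfl
        show ρ (e.symm (Ideal.Quotient.mk _ (algebraMap R S r))) = _
        rw [this]; rfl }
  obtain ⟨τ, hτ, hτu⟩ := H9Hens.existsUnique_algHom_lift_rel (I := J) σ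
  have hIS : ∀ g : S →ₐ[R] C, (I.map (algebraMap R S)).map g.toRingHom ≤ J := fun g => by
    rw [Ideal.map_map, AlgHom.toRingHom_eq_coe, AlgHom.comp_algebraMap]; exact hf
  obtain ⟨g, hg, hgu⟩ := hH.2 C J τ.toRingHom hC (hIS τ)
  refine ⟨g, ?_, fun g' hg' => ?_⟩
  · show g.comp (algebraMap R H) = f
    rw [IsScalarTower.algebraMap_eq R S H, ← RingHom.comp_assoc, hg]
    exact τ.comp_algebraMap
  · let t : S →ₐ[R] C :=
      { g'.comp (algebraMap S H) with
        commutes' := fun r => by
          show g' (algebraMap S H (algebraMap R S r)) = f r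
          rw [← IsScalarTower.algebraMap_apply]; exact RingHom.congr_fun hg' r }
    have h2 : t = τ := hτu t (AlgHom.ext fun s => by
      obtain ⟨y, hy⟩ := hq.2 (Ideal.Quotient.mk _ s)
      obtain ⟨r, rfl⟩ := Ideal.Quotient.mk_surjective y
      have hs : e.symm (Ideal.Quotient.mk _ s) = Ideal.Quotient.mk I r := by
        rw [RingEquiv.symm_apply_eq]; exact hy.symm
      rw [Ideal.quotientMap_mk, Ideal.Quotient.eq] at hy
      show Ideal.Quotient.mk J (t s) = ρ (e.symm (Ideal.Quotient.mk _ s))
      rw [hs]
      show Ideal.Quotient.mk J (t s) = Ideal.Quotient.mk J (f r)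
      have h3 := hIS t (Ideal.mem_map_of_mem t.toRingHom hy)
      rw [AlgHom.toRingHom_eq_coe, RingHom.coe_coe, map_sub, t.commutes] at h3
      exact (Ideal.Quotient.eq.mpr h3).symm)
    exact hgu g' (congrArg AlgHom.toRingHom h2)

end Groth.Agent.S17592
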