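import Groth.Statements.S17615
import Groth.Agent.H9Hens.Hfp
import Groth.Agent.H9Hens.FlatEpi
import Groth.Agent.S0387
import Mathlib.RingTheory.Etale.Basic
import Mathlib.RingTheory.Flat.Localization
import Mathlib.RingTheory.RingHom.FaithfullyFlat
import Mathlib.RingTheory.Localization.AtPrime.Extension
-- import your own Groth.Agent.* helpers here

set_option autoImplicit false
universe u
open Hensel

namespace Groth.Agent.S17615

set_option linter.style.haveILetI false

theorem flat_localizedModule_of_flat {A R : Type u} [CommRing A] [CommRing R] [Algebra A R] (q : Ideal R)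
    [q.IsPrime] (h : Module.Flat A (Localization.AtPrime q)) :
    Module.Flat A (LocalizedModule q.primeCompl R) :=
  Module.Flat.of_linearEquiv ((IsLocalizedModule.linearEquiv q.primeCompl
    (LocalizedModule.mkLinearMap q.primeCompl R) (Algebra.linearMap R (Localization.AtPrime q))).restrictScalars A)

theorem flat_atPrime_of_flat_localizedModule {A R : Type u} [CommRing A] [CommRing R] [Algebra A R] (q : Ideal R)
    [q.IsPrime] (h : Module.Flat A (LocalizedModule q.primeCompl R)) :
    Module.Flat A (Localization.AtPrime q) :=
  Module.Flat.of_linearEquiv ((IsLocalizedModule.linearEquiv q.primeCompl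
    (Algebra.linearMap R (Localization.AtPrime q)) (LocalizedModule.mkLinearMap q.primeCompl R)).restrictScalars A)

theorem flat_away {A R : Type u} [CommRing A] [CommRing R] [Algebra A R] {g : R}
    (h : ∀ q : PrimeSpectrum R, g ∉ q.asIdeal → Module.Flat A (Localization.AtPrime q.asIdeal)) :
    Module.Flat A (Localization.Away g) := by
  refine Module.flat_of_isLocalized_maximal (R := A) (S := Localization.Away g) (M := Localization.Away g)
    (fun P _ => Localization.AtPrime P) (fun P _ => Algebra.linearMap _ _) fun P _ => ?_
  let q : Ideal R := P.comap (algebraMap R (Localization.Away g))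
  have hgq : g ∉ q := fun hg =>
    (inferInstance : P.IsPrime).ne_top (Ideal.eq_top_of_isUnit_mem _ hg (IsLocalization.Away.algebraMap_isUnit g))
  haveI : IsLocalization.AtPrime (Localization.AtPrime P) q :=
    IsLocalization.isLocalization_isLocalization_atPrime_isLocalization (.powers g) (Localization.AtPrime P) P
  haveI := h ⟨q, inferInstance⟩ hgq
  exact Module.Flat.of_linearEquiv (((IsLocalization.algEquiv q.primeCompl (Localization.AtPrime q)
    (Localization.AtPrime P)).restrictScalars A).symm.toLinearEquiv)

theorem surjective_away {A R : Type u} [CommRing A] [CommRing R] [Algebra A R] {I : Ideal A} {g c : R}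
    (hgc : g + c = 1) (hc : c ∈ I.map (algebraMap A R)) :
    Function.Surjective (Ideal.quotientMap ((I.map (algebraMap A R)).map (algebraMap R (Localization.Away g)))
      (algebraMap R (Localization.Away g)) Ideal.le_comap_map) := by
  intro y
  obtain ⟨y, rfl⟩ := Ideal.Quotient.mk_surjective y
  obtain ⟨a, ⟨_, n, rfl⟩, rfl⟩ := IsLocalization.exists_mk'_eq (Submonoid.powers g) y
  refine ⟨Ideal.Quotient.mk _ a, ?_⟩
  rw [Ideal.quotientMap_mk]
  have h1 : Ideal.Quotient.mk ((I.map (algebraMap A R)).map (algebraMap R (Localization.Away g)))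
      (algebraMap R (Localization.Away g) g) = 1 := by
    rw [← map_one (Ideal.Quotient.mk _), Ideal.Quotient.eq, ← map_one (algebraMap R (Localization.Away g)),
      ← map_sub]
    refine Ideal.mem_map_of_mem _ ?_
    rw [← hgc, sub_add_cancel_left]
    exact neg_mem hc
  have h2 := congrArg (Ideal.Quotient.mk ((I.map (algebraMap A R)).map (algebraMap R (Localization.Away g))))
    (IsLocalization.mk'_spec (Localization.Away g) a (⟨g ^ n, n, rfl⟩ : Submonoid.powers g))
  rw [map_mul, map_pow, map_pow, h1, one_pow, mul_one] at h2
  exact h2.symm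

theorem flat_at_of_le {A R B : Type u} [CommRing A] [CommRing R] [Algebra A R] [CommRing B] [Algebra R B]
    [Algebra A B] [IsScalarTower A R B] [Module.Flat A B] {I : Ideal A}
    (hB : Hens2.IsPairHenselization R (I.map (algebraMap A R)) B) (q : Ideal R) [q.IsPrime]
    (hq : I.map (algebraMap A R) ≤ q) : Module.Flat A (Localization.AtPrime q) := by
  have e := H9Hens.map_map_tower (I := I) R B
  have hbij := H9Hens.pairHenselization_quotient_pow_bijective hB 1
  rw [pow_one] at hbij
  let E := RingEquiv.ofBijective _ hbij
  let qbar := q.map (Ideal.Quotient.mk (I.map (algebraMap A R)))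
  haveI : qbar.IsPrime := Ideal.map_isPrime_of_surjective Ideal.Quotient.mk_surjective (by simpa [Ideal.mk_ker] using hq)
  let f : B →+* R ⧸ I.map (algebraMap A R) := E.symm.toRingHom.comp (Ideal.Quotient.mk _)
  let P : Ideal B := qbar.comap f
  haveI : P.LiesOver q := ⟨by
    show q = (qbar.comap f).comap (algebraMap R B)
    rw [Ideal.comap_comap, show f.comp (algebraMap R B) = Ideal.Quotient.mk _ from
      RingHom.ext fun r => E.symm_apply_eq.mpr rfl]
    exact (Ideal.comap_map_mk hq).symm⟩
  obtain ⟨π, hπ⟩ := H9Hens.exists_isPtColim_of_isPairHenselization hB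
  haveI : Module.Flat R B := hπ.flat
  letI := Localization.AtPrime.algebraOfLiesOver q P
  haveI : IsLocalHom (algebraMap (Localization.AtPrime q) (Localization.AtPrime P)) := by
    rw [Localization.AtPrime.IsLiesOverAlgebra.algebraMap_eq]
    infer_instance
  haveI : Module.FaithfullyFlat (Localization.AtPrime q) (Localization.AtPrime P) :=
    Module.FaithfullyFlat.of_flat_of_isLocalHom
  haveI : Module.Flat A (Localization.AtPrime P) := Module.Flat.trans A B _
  exact H9Hens.flat_of_faithfullyFlat_tower A (Localization.AtPrime q) (Localization.AtPrime P)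


/-- Let (A, I) be a Henselian pair and let B be a Henselization of the pair (R₀, IR₀) for a finitely
presented A-algebra R₀ (so A → B is a Henselian finitely presented map of Henselian pairs). If B is
flat over A, then there are a finitely presented A-algebra S that is flat over A and an S-algebra
structure on B compatible with that of A for which B is a Henselization of the pair (S, IS). -/
theorem result (A : Type u) [CommRing A]
    (I : Ideal A) [HenselianRing A I]
    (R₀ : Type u) [CommRing R₀] [Algebra A R₀] [Algebra.FinitePresentation A R₀]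
    (B : Type u) [CommRing B] [Algebra R₀ B] [Algebra A B] [IsScalarTower A R₀ B]
    (hB : Hens2.IsPairHenselization R₀ (I.map (algebraMap A R₀)) B) [Module.Flat A B] :
    ∃ (S : Type u) (_ : CommRing S) (_ : Algebra A S) (_ : Algebra S B) (_ : IsScalarTower A S B),
      Algebra.FinitePresentation A S ∧ Module.Flat A S ∧
      Hens2.IsPairHenselization S (I.map (algebraMap A S)) B := by
  classical
  have hmem : ∀ q : Ideal R₀, ∀ [q.IsPrime], I.map (algebraMap A R₀) ≤ q → Module.Flat A (Localization.AtPrime q) :=
    fun q _ hq => flat_at_of_le hB q hq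
  have hopen := S0387.result (R := A) (S := R₀) (M := R₀)
  let U : Set (PrimeSpectrum R₀) := {q | Module.Flat A (LocalizedModule q.asIdeal.primeCompl R₀)}
  have hUc : IsClosed Uᶜ := hopen.isClosed_compl
  obtain ⟨s, hs⟩ := (PrimeSpectrum.isClosed_iff_zeroLocus _).mp hUc
  have htop : Ideal.span s ⊔ I.map (algebraMap A R₀) = ⊤ := by
    by_contra hne
    obtain ⟨M, hM, hle⟩ := Ideal.exists_le_maximal _ hne
    have h1 : (⟨M, hM.isPrime⟩ : PrimeSpectrum R₀) ∈ PrimeSpectrum.zeroLocus s :=
      (Ideal.subset_span).trans (le_sup_left.trans hle : Ideal.span s ≤ M)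
    rw [← hs] at h1
    refine h1 ?_
    haveI := hM.isPrime
    exact flat_localizedModule_of_flat M (hmem M (le_sup_right.trans hle))
  obtain ⟨g, hg, c, hc, hgc⟩ := Submodule.mem_sup.mp (htop ▸ Submodule.mem_top : (1 : R₀) ∈ _)
  let S := Localization.Away g
  have hgflat : ∀ q : PrimeSpectrum R₀, g ∉ q.asIdeal → Module.Flat A (Localization.AtPrime q.asIdeal) := by
    intro q hq
    refine flat_atPrime_of_flat_localizedModule q.asIdeal ?_
    by_contra hcon
    have h1 : q ∈ Uᶜ := hcon
    rw [hs] at h1
    exact hq (Ideal.span_le.mpr h1 hg)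
  haveI hSflat : Module.Flat A S := flat_away hgflat
  have hgu : IsUnit (algebraMap R₀ B g) := by
    have h1 := Ideal.mem_jacobson_bot.mp (hB.1.jac (Ideal.mem_map_of_mem (algebraMap R₀ B) hc)) (-1)
    rw [mul_neg_one, ← map_neg, ← map_one (algebraMap R₀ B), ← map_add,
      show -c + 1 = g by rw [← hgc]; ring] at h1
    exact h1
  let χ : S →ₐ[R₀] B := IsLocalization.Away.liftAlgHom g (f := Algebra.ofId R₀ B) hgu
  letI : Algebra S B := χ.toRingHom.toAlgebra
  haveI : IsScalarTower R₀ S B := IsScalarTower.of_algebraMap_eq fun a => (χ.commutes a).symm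
  haveI : IsScalarTower A S B := IsScalarTower.of_algebraMap_eq fun a => by
    rw [IsScalarTower.algebraMap_apply A R₀ S, ← IsScalarTower.algebraMap_apply R₀ S B,
      ← IsScalarTower.algebraMap_apply]
  haveI : Algebra.Etale R₀ S := Algebra.Etale.of_isLocalizationAway g
  haveI : Algebra.FinitePresentation A S := Algebra.FinitePresentation.trans A R₀ S
  refine ⟨S, inferInstance, inferInstance, inferInstance, inferInstance, inferInstance, hSflat, ?_⟩
  have := H9Hens.isPairHenselization_of_nbhd hB S (surjective_away hgc hc)
  rwa [Ideal.map_map, ← IsScalarTower.algebraMap_eq] at this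

end Groth.Agent.S17615
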