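import Groth.Statements.S17595
import Groth.Agent.H9Hens.ZariskiNbhd
import Mathlib.RingTheory.ZariskisMainTheorem
-- import your own Groth.Agent.* helpers here

set_option autoImplicit false
universe u
open Hensel

namespace Groth.Agent.S17595

theorem exists_away_quasiFinite {A R : Type u} [CommRing A] [CommRing R] [Algebra A R]
    [Algebra.FiniteType A R] (p : Ideal R) [p.IsPrime] [Algebra.QuasiFiniteAt A p] :
    ∃ r ∉ p, Algebra.QuasiFinite A (Localization.Away r) := by
  obtain ⟨S', hS', r, hrp, H⟩ := (Algebra.ZariskisMainProperty.of_finiteType_of_weaklyQuasiFiniteAt (R := A) p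
    ).exists_fg_and_exists_notMem_and_awayMap_bijective _
  have : Module.Finite A S' := ⟨(Submodule.fg_top _).mpr hS'⟩
  have : Algebra.QuasiFinite A (Localization.Away r) := .trans _ S' _
  exact ⟨r.1, hrp, .of_surjective_algHom (Localization.awayMapₐ S'.val r) H.2⟩


/-- Suppose (A, I) is a Henselian pair, and R is an A-algebra of finite presentation for which A → R is
quasi-finite at each prime of R that contains IR. Then there is an étale R-algebra R' such that R/IR
→ R'/IR' is bijective and A → R' is quasi-finite. -/
theorem result (A : Type u) [CommRing A] (I : Ideal A) [HenselianRing A I]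
    (R : Type u) [CommRing R] [Algebra A R] [Algebra.FinitePresentation A R]
    (h : ∀ (p : Ideal R) [p.IsPrime], I.map (algebraMap A R) ≤ p → Algebra.QuasiFiniteAt A p)
    : ∃ (R' : Type u) (_ : CommRing R') (_ : Algebra R R') (_ : Algebra A R') (_ : IsScalarTower A R R'),
      Algebra.Etale R R' ∧
      Function.Bijective (Ideal.quotientMap ((I.map (algebraMap A R)).map (algebraMap R R'))
        (algebraMap R R') Ideal.le_comap_map) ∧ Algebra.QuasiFinite A R' := by
  classical
  let G : Set R := {r | Algebra.QuasiFinite A (Localization.Away r)}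
  let U : Set (PrimeSpectrum R) := ⋃ r ∈ G, (PrimeSpectrum.basicOpen r : Set (PrimeSpectrum R))
  obtain ⟨g, hg, hU⟩ := H9Hens.exists_sub_one_mem_of_isOpen (U := U) (I.map (algebraMap A R))
    (isOpen_biUnion fun r _ => (PrimeSpectrum.basicOpen r).isOpen) (fun q hq => by
      haveI := h q.asIdeal hq
      obtain ⟨r, hr, hqf⟩ := exists_away_quasiFinite (A := A) q.asIdeal
      exact Set.mem_biUnion (show r ∈ G from hqf) hr)
  haveI : Algebra.Etale R (Localization.Away g) := Algebra.Etale.of_isLocalizationAway g
  refine ⟨Localization.Away g, inferInstance, inferInstance, inferInstance, inferInstance, inferInstance,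
    H9Hens.bijective_quotientMap_away _ hg, ?_⟩
  haveI : Algebra.FiniteType A (Localization.Away g) := Algebra.FiniteType.trans (S := R) inferInstance inferInstance
  rw [Algebra.QuasiFinite.iff_finite_comap_preimage_singleton]
  intro x
  obtain ⟨t, htG, htf, hcov⟩ := (PrimeSpectrum.isCompact_basicOpen g).elim_finite_subcover_image
    (b := G) (c := fun r => (PrimeSpectrum.basicOpen r : Set (PrimeSpectrum R)))
    (fun r _ => (PrimeSpectrum.basicOpen r).isOpen) hU
  let c := PrimeSpectrum.comap (algebraMap R (Localization.Away g))
  have hinj : Function.Injective c := PrimeSpectrum.localization_comap_injective _ (Submonoid.powers g)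
  refine Set.Finite.of_finite_image ?_ hinj.injOn
  refine Set.Finite.subset (s := ⋃ r ∈ t, PrimeSpectrum.comap (algebraMap R (Localization.Away r)) ''
    (PrimeSpectrum.comap (algebraMap A (Localization.Away r)) ⁻¹' {x})) (Set.Finite.biUnion htf fun r hr => ?_) ?_
  · haveI : Algebra.QuasiFinite A (Localization.Away r) := htG hr
    exact (Algebra.QuasiFinite.finite_comap_preimage_singleton x).image _
  · rintro _ ⟨y, hy, rfl⟩
    have hcy : c y ∈ (PrimeSpectrum.basicOpen g : Set (PrimeSpectrum R)) :=
      (PrimeSpectrum.localization_away_comap_range (Localization.Away g) g).le ⟨y, rfl⟩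
    obtain ⟨r, hr, hyr⟩ := Set.mem_iUnion₂.mp (hcov hcy)
    obtain ⟨z, hz⟩ := (PrimeSpectrum.localization_away_comap_range (Localization.Away r) r).ge hyr
    refine Set.mem_biUnion hr ⟨z, ?_, hz⟩
    show PrimeSpectrum.comap (algebraMap A (Localization.Away r)) z = x
    rw [IsScalarTower.algebraMap_eq A R (Localization.Away r), PrimeSpectrum.comap_comp_apply, hz,
      ← PrimeSpectrum.comap_comp_apply, ← IsScalarTower.algebraMap_eq]
    exact hy

end Groth.Agent.S17595
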