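import Groth.Statements.S1760
import Groth.Agent.H02CA.GorRing
import Mathlib

set_option autoImplicit false
universe u
open scoped TensorProduct
open Goren

namespace Groth.Agent.S1760

/-- First assertion, written for the local ring B = O_{X,x}. Let k'/k be a finitely generated field
extension, B a Noetherian local k-algebra, and q a prime of B ⊗_k k' lying over the maximal ideal of
B. Then B is Gorenstein if and only if the localization of B ⊗_k k' at q is Gorenstein. -/
theorem result (k k' : Type u) [Field k] [Field k'] [Algebra k k'] (hfg : ∃ s : Finset k', IntermediateField.adjoin k (s : Set k') = ⊤) (B : Type u) [CommRing B] [IsLocalRing B] [IsNoetherianRing B] [Algebra k B] (q : PrimeSpectrum (B ⊗[k] k')) (hq : q.asIdeal.comap (algebraMap B (B ⊗[k] k')) = IsLocalRing.maximalIdeal B) : LocCoh.IsGorensteinLocalRing B ↔ LocCoh.IsGorensteinLocalRing (Localization.AtPrime q.asIdeal) := by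
  haveI := Groth.Agent.H02CA.GorFlat.essFiniteType_of_fg hfg
  haveI : IsNoetherianRing (B ⊗[k] k') := Algebra.EssFiniteType.isNoetherianRing B (B ⊗[k] k')
  let Q := PrimeSpectrum.preimageEquivFiber B (B ⊗[k] k') ⟨IsLocalRing.maximalIdeal B, inferInstance⟩
    ⟨q, PrimeSpectrum.ext hq⟩
  have hQ : Q.asIdeal.comap Algebra.TensorProduct.includeRight = q.asIdeal :=
    congr($((PrimeSpectrum.preimageEquivFiber B (B ⊗[k] k')
      ⟨IsLocalRing.maximalIdeal B, inferInstance⟩).left_inv ⟨q, PrimeSpectrum.ext hq⟩).1.asIdeal)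
  have hF := (Groth.Agent.H02CA.GorFlat.fibre_fieldExt k k' B hfg
    (IsLocalRing.maximalIdeal B)).isGorensteinLocalRing_localization Q.asIdeal
  rw [← Groth.Agent.H02CA.GorFlat.gor_congr hQ,
    Groth.Agent.H02CA.GorFlat.gor_iff_fibre (IsLocalRing.maximalIdeal B) Q.asIdeal,
    and_iff_left hF]
  exact Groth.Agent.H02CA.GorFlat.gor_iff_of_ringEquiv
    (IsLocalization.atUnits B (IsLocalRing.maximalIdeal B).primeCompl
      (fun x hx => IsLocalRing.notMem_maximalIdeal.mp hx)
      (S := Localization.AtPrime (IsLocalRing.maximalIdeal B))).toRingEquiv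

end Groth.Agent.S1760
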