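import Groth.Statements.S17601
import Groth.Agent.H9Hens.HfpSmooth
-- import your own Groth.Agent.* helpers here

set_option autoImplicit false
universe u
open Hensel

namespace Groth.Agent.S17601

/-- Let (A, I) be a Henselian pair and let B be a Henselization of the pair (R₀, IR₀) for a finitely
presented A-algebra R₀ (so A → B is Henselian finitely presented). If B is flat over A and A/I^r →
B/I^rB is smooth for every r ≥ 1 (the h-formally smooth property, in its equivalent form for
Henselian finitely presented maps), then A → B is h-smooth: there is a smooth A-algebra R, with an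
R-algebra structure on B compatible with that of A, such that B is a Henselization of the pair (R,
IR). -/
theorem result (A : Type u) [CommRing A] (I : Ideal A)
    [HenselianRing A I] (R₀ : Type u) [CommRing R₀] [Algebra A R₀] [Algebra.FinitePresentation A R₀]
    (B : Type u) [CommRing B] [Algebra R₀ B] [Algebra A B] [IsScalarTower A R₀ B]
    (hB : Hens2.IsPairHenselization R₀ (I.map (algebraMap A R₀)) B) [Module.Flat A B]
    (het : ∀ r : ℕ, 1 ≤ r → Algebra.Smooth (A ⧸ I ^ r) (B ⧸ (I ^ r).map (algebraMap A B))) :
    ∃ (R : Type u) (_ : CommRing R) (_ : Algebra A R) (_ : Algebra R B) (_ : IsScalarTower A R B),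
      Algebra.Smooth A R ∧ Hens2.IsPairHenselization R (I.map (algebraMap A R)) B := by
  haveI := het 1 le_rfl
  obtain ⟨R, _, _, hR, ρ, hρ, hρk⟩ := H9Smooth.exists_smooth_lift (I ^ 1) (A₀ := B ⧸ (I ^ 1).map (algebraMap A B))
  obtain ⟨H, _, _, _, _, hH, φ, h1, h2, h3⟩ := H9Hens.exists_cover_of_lift R₀ B hB (fun r hr => by
    haveI := het r hr
    infer_instance) R ρ hρ hρk
  obtain ⟨iB, hT, hRB⟩ := H9Hens.exists_algebra_of_flat hH φ h1 h2 (h3 1)
  exact ⟨R, inferInstance, inferInstance, iB, hT, hR, hRB⟩

end Groth.Agent.S17601
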