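import Groth.Statements.S17602
import Groth.Agent.H9Hens.PairHens
import Mathlib.RingTheory.TensorProduct.Quotient
-- import your own Groth.Agent.* helpers here

set_option autoImplicit false
universe u
open Hensel

namespace Groth.Agent.S17602

/-- With converse part: let (A, I) be a Henselian pair, R an étale A-algebra and B a Henselization of
the pair (R, IR), with the induced A-algebra structure (so A → B is h-étale). Then B is flat over A
and A/I^r → B/I^rB is étale for every r ≥ 1. -/
theorem result (A : Type u) [CommRing A] (I : Ideal A) [HenselianRing A I]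
    (R : Type u) [CommRing R] [Algebra A R] [Algebra.Etale A R]
    (B : Type u) [CommRing B] [Algebra R B] [Algebra A B] [IsScalarTower A R B]
    (hB : Hens2.IsPairHenselization R (I.map (algebraMap A R)) B) :
    Module.Flat A B ∧ ∀ r : ℕ, 1 ≤ r → Algebra.Etale (A ⧸ I ^ r) (B ⧸ (I ^ r).map (algebraMap A B)) := by
  obtain ⟨π, hπ⟩ := H9Hens.exists_isPtColim_of_isPairHenselization hB
  have : Module.Flat R B := hπ.flat
  refine ⟨Module.Flat.trans A R B, fun r hr => ?_⟩
  have h1 : Algebra.Etale (A ⧸ I ^ r) (R ⧸ (I ^ r).map (algebraMap A R)) :=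
    Algebra.Etale.of_equiv (Algebra.TensorProduct.quotIdealMapEquivQuotTensor R (I ^ r)).symm
  have hmap : ((I.map (algebraMap A R)) ^ r).map (algebraMap R B) =
      (I ^ r).map (algebraMap A B) := by
    rw [← Ideal.map_pow, Ideal.map_map, ← IsScalarTower.algebraMap_eq]
  have h2 : (I.map (algebraMap A R)) ^ r = (I ^ r).map (algebraMap A R) := (Ideal.map_pow _ _ _).symm
  let J := (I ^ r).map (algebraMap A R)
  let J' := (I ^ r).map (algebraMap A B)
  have hJm : J.map (algebraMap R B) = J' := by
    simp only [J, J', Ideal.map_map, ← IsScalarTower.algebraMap_eq]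
  have hle : J ≤ J'.comap (algebraMap R B) := Ideal.map_le_iff_le_comap.mp hJm.le
  have hb : Function.Bijective (Ideal.quotientMap J' (algebraMap R B) hle) := by
    have h3 := H9Hens.pairHenselization_quotient_pow_bijective hB r
    refine ⟨(injective_iff_map_eq_zero _).mpr fun x hx => ?_, fun y => ?_⟩
    · obtain ⟨x, rfl⟩ := Ideal.Quotient.mk_surjective x
      rw [Ideal.quotientMap_mk, Ideal.Quotient.eq_zero_iff_mem] at hx
      have h4 := (injective_iff_map_eq_zero _).mp h3.1 (Ideal.Quotient.mk _ x) (by
        rw [Ideal.quotientMap_mk, Ideal.Quotient.eq_zero_iff_mem, hmap]; exact hx)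
      rw [Ideal.Quotient.eq_zero_iff_mem, h2] at h4
      exact Ideal.Quotient.eq_zero_iff_mem.mpr h4
    · obtain ⟨y, rfl⟩ := Ideal.Quotient.mk_surjective y
      obtain ⟨x, hx⟩ := h3.2 (Ideal.Quotient.mk _ y)
      obtain ⟨x, rfl⟩ := Ideal.Quotient.mk_surjective x
      rw [Ideal.quotientMap_mk, Ideal.Quotient.eq, hmap] at hx
      exact ⟨Ideal.Quotient.mk _ x, by rw [Ideal.quotientMap_mk]; exact Ideal.Quotient.eq.mpr hx⟩
  let e : (R ⧸ J) →ₐ[A ⧸ I ^ r] (B ⧸ J') :=
    { Ideal.quotientMap J' (algebraMap R B) hle with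
      commutes' := fun a => by
        obtain ⟨a, rfl⟩ := Ideal.Quotient.mk_surjective a
        show Ideal.Quotient.mk J' (algebraMap R B (algebraMap A R a)) = _
        rw [← IsScalarTower.algebraMap_apply]
        rfl }
  exact Algebra.Etale.of_equiv (AlgEquiv.ofBijective e hb)

end Groth.Agent.S17602
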