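import Groth.Statements.S17611
import Groth.Agent.H9Hens.Hfp
import Mathlib.RingTheory.Etale.Basic
import Mathlib.RingTheory.Smooth.Basic
-- import your own Groth.Agent.* helpers here

set_option autoImplicit false
universe u
open Hensel

namespace Groth.Agent.S17611

set_option linter.style.haveILetI false

theorem apply_eq_zero {A B E : Type u} [CommRing A] [CommRing B] [CommRing E] [Algebra A B] [Algebra A E]
    (v : B →ₐ[A] E) {J : Ideal A} (hJ : J.map (algebraMap A E) = ⊥) {x : B} (hx : x ∈ J.map (algebraMap A B)) :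
    v x = 0 := by
  have h1 := Ideal.mem_map_of_mem v.toRingHom hx
  rwa [Ideal.map_map, AlgHom.toRingHom_eq_coe, AlgHom.comp_algebraMap, hJ, Ideal.mem_bot] at h1

theorem ext_mk {S B E : Type u} [CommRing S] [CommRing B] [CommRing E] {J : Ideal B} [Algebra S (B ⧸ J)]
    [Algebra S E] {f g : (B ⧸ J) →ₐ[S] E} (h : ∀ b, f (Ideal.Quotient.mk J b) = g (Ideal.Quotient.mk J b)) :
    f = g := AlgHom.ext fun x => by obtain ⟨b, rfl⟩ := Ideal.Quotient.mk_surjective x; exact h b

open TensorProduct in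
/-- The reductions of a henselian finitely presented algebra are finitely presented. -/
theorem finitePresentation_mod {A : Type u} [CommRing A] (I : Ideal A) (R₀ : Type u) [CommRing R₀]
    [Algebra A R₀] [Algebra.FinitePresentation A R₀] (B : Type u) [CommRing B] [Algebra R₀ B] [Algebra A B]
    [IsScalarTower A R₀ B] (hB : Hens2.IsPairHenselization R₀ (I.map (algebraMap A R₀)) B) (r : ℕ) :
    Algebra.FinitePresentation (A ⧸ I ^ r) (B ⧸ (I ^ r).map (algebraMap A B)) := by
  have hbij := H9Hens.pairHenselization_quotient_pow_bijective hB r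
  have hmap : ((I.map (algebraMap A R₀)) ^ r).map (algebraMap R₀ B) = (I ^ r).map (algebraMap A B) := by
    rw [← Ideal.map_pow, H9Hens.map_map_tower]
  let ν := Ideal.Quotient.mkₐ A ((I ^ r).map (algebraMap A B))
  let F : (A ⧸ I ^ r) ⊗[A] R₀ →ₐ[A ⧸ I ^ r] B ⧸ (I ^ r).map (algebraMap A B) :=
    Algebra.TensorProduct.lift (Algebra.ofId _ _) (ν.comp (IsScalarTower.toAlgHom A R₀ B)) fun _ _ => .all _ _
  have hF : ∀ x, F (1 ⊗ₜ x) = ν (algebraMap R₀ B x) := fun x => by
    simp [F, ν]
  have hsurj : ∀ z, ∃ x, z = ((1 : A ⧸ I ^ r) ⊗ₜ[A] x : (A ⧸ I ^ r) ⊗[A] R₀) := fun z => by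
    induction z with
    | zero => exact ⟨0, by simp⟩
    | tmul a x =>
      obtain ⟨a, rfl⟩ := Ideal.Quotient.mk_surjective a
      exact ⟨a • x, by rw [tmul_smul, smul_tmul', Algebra.smul_def, mul_one]; rfl⟩
    | add y z hy hz =>
      obtain ⟨y, rfl⟩ := hy
      obtain ⟨z, rfl⟩ := hz
      exact ⟨y + z, (tmul_add _ _ _).symm⟩
  have hFbij : Function.Bijective F := by
    refine ⟨(injective_iff_map_eq_zero _).mpr fun z hz => ?_, fun y => ?_⟩
    · obtain ⟨x, rfl⟩ := hsurj z
      rw [hF] at hz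
      have h1 : x ∈ (I ^ r).map (algebraMap A R₀) := by
        rw [Ideal.map_pow, ← Ideal.Quotient.eq_zero_iff_mem]
        apply hbij.1
        rw [map_zero, Ideal.quotientMap_mk, Ideal.Quotient.eq_zero_iff_mem, hmap]
        exact Ideal.Quotient.eq_zero_iff_mem.mp hz
      clear hz
      induction h1 using Submodule.span_induction with
      | mem y hy =>
        obtain ⟨a, ha, rfl⟩ := hy
        rw [Algebra.algebraMap_eq_smul_one, tmul_smul, smul_tmul', Algebra.smul_def, mul_one,
          Ideal.Quotient.algebraMap_eq, Ideal.Quotient.eq_zero_iff_mem.mpr ha, zero_tmul]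
      | zero => simp
      | add y z _ _ hy hz => rw [tmul_add, hy, hz, add_zero]
      | smul c y _ hy =>
        rw [smul_eq_mul, show (1 : A ⧸ I ^ r) ⊗ₜ[A] (c * y) = (1 ⊗ₜ c) * (1 ⊗ₜ y) by
          rw [Algebra.TensorProduct.tmul_mul_tmul, mul_one], hy, mul_zero]
    · obtain ⟨b, rfl⟩ := Ideal.Quotient.mk_surjective y
      obtain ⟨x, hx⟩ := hbij.2 (Ideal.Quotient.mk _ b)
      obtain ⟨x, rfl⟩ := Ideal.Quotient.mk_surjective x
      rw [Ideal.quotientMap_mk, Ideal.Quotient.eq, hmap] at hx
      exact ⟨1 ⊗ₜ x, (hF x).trans (Ideal.Quotient.eq.mpr hx)⟩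
  exact Algebra.FinitePresentation.equiv (AlgEquiv.ofBijective F hFbij)

/-- Let (A, I) be a Henselian pair and let B be a Henselization of the pair (R₀, IR₀) for a finitely
presented A-algebra R₀ (so A → B is a Henselian finitely presented map of Henselian pairs). Then A →
B is h-formally smooth, meaning that for all A-algebras E and C annihilated by some power I^N (N ≥
1), every surjective A-algebra map p : E → C with nilpotent kernel and every A-algebra map u : B →
C, there is an A-algebra map v : B → E with p ∘ v = u, if and only if A/I^r → B/I^rB is smooth for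
every r ≥ 1. (Test algebras E, C are taken in the universe of A.) -/
theorem result (A : Type u) [CommRing A] (I : Ideal A)
    [HenselianRing A I] (R₀ : Type u) [CommRing R₀] [Algebra A R₀] [Algebra.FinitePresentation A R₀]
    (B : Type u) [CommRing B] [Algebra R₀ B] [Algebra A B] [IsScalarTower A R₀ B]
    (hB : Hens2.IsPairHenselization R₀ (I.map (algebraMap A R₀)) B) :
    (∀ (E C : Type u) [CommRing E] [CommRing C] [Algebra A E] [Algebra A C] (N : ℕ), 1 ≤ N →
        (I ^ N).map (algebraMap A E) = ⊥ → (I ^ N).map (algebraMap A C) = ⊥ →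
        ∀ (p : E →ₐ[A] C), Function.Surjective p → (∃ M : ℕ, 1 ≤ M ∧ RingHom.ker p ^ M = ⊥) →
        ∀ u : B →ₐ[A] C, ∃ v : B →ₐ[A] E, p.comp v = u) ↔
    ∀ r : ℕ, 1 ≤ r → Algebra.Smooth (A ⧸ I ^ r) (B ⧸ (I ^ r).map (algebraMap A B)) := by
  classical
  refine ⟨fun h r hr => ?_, fun het E C _ _ _ _ N hN hE hC p hp hnil u => ?_⟩
  · refine ⟨?_, finitePresentation_mod I R₀ B hB r⟩
    rw [Algebra.FormallySmooth.iff_comp_surjective]
    intro E _ _ K hK
    letI : Algebra A E := ((algebraMap (A ⧸ I ^ r) E).comp (Ideal.Quotient.mk (I ^ r))).toAlgebra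
    haveI : IsScalarTower A (A ⧸ I ^ r) E := IsScalarTower.of_algebraMap_eq fun _ => rfl
    have hEr : (I ^ r).map (algebraMap A E) = ⊥ := (Ideal.map_eq_bot_iff_le_ker _).mpr fun x hx => by
      show algebraMap (A ⧸ I ^ r) E (Ideal.Quotient.mk _ x) = 0
      rw [Ideal.Quotient.eq_zero_iff_mem.mpr hx, map_zero]
    have hCr : (I ^ r).map (algebraMap A (E ⧸ K)) = ⊥ := by
      rw [show algebraMap A (E ⧸ K) = (Ideal.Quotient.mk K).comp (algebraMap A E) from rfl, ← Ideal.map_map,
        hEr, Ideal.map_bot]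
    have key := fun u' => h E (E ⧸ K) r hr hEr hCr (Ideal.Quotient.mkₐ A K) Ideal.Quotient.mk_surjective
      ⟨2, one_le_two, by rw [show RingHom.ker (Ideal.Quotient.mkₐ A K) = K from Ideal.mk_ker]; exact hK⟩ u'
    let ν := Ideal.Quotient.mkₐ A ((I ^ r).map (algebraMap A B))
    refine fun f => ?_
    obtain ⟨v, hv⟩ := key ((f.restrictScalars A).comp ν)
    refine ⟨(Ideal.Quotient.liftₐ _ v fun x hx => ?_).extendScalarsOfSurjective Ideal.Quotient.mk_surjective, ?_⟩
    · exact apply_eq_zero v hEr hx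
    · refine ext_mk fun b => ?_
      exact DFunLike.congr_fun hv b
  · haveI := het N hN
    obtain ⟨M, -, hM⟩ := hnil
    letI : Algebra (A ⧸ I ^ N) E :=
      (Ideal.Quotient.lift (I ^ N) (algebraMap A E) fun x hx => (Ideal.map_eq_bot_iff_le_ker _).mp hE hx).toAlgebra
    letI : Algebra (A ⧸ I ^ N) C :=
      (Ideal.Quotient.lift (I ^ N) (algebraMap A C) fun x hx => (Ideal.map_eq_bot_iff_le_ker _).mp hC hx).toAlgebra
    haveI : IsScalarTower A (A ⧸ I ^ N) E := IsScalarTower.of_algebraMap_eq fun _ => rfl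
    haveI : IsScalarTower A (A ⧸ I ^ N) C := IsScalarTower.of_algebraMap_eq fun _ => rfl
    let ν := Ideal.Quotient.mkₐ A ((I ^ N).map (algebraMap A B))
    let p' := p.extendScalarsOfSurjective (S := A ⧸ I ^ N) Ideal.Quotient.mk_surjective
    let u' := (Ideal.Quotient.liftₐ _ u fun x hx => apply_eq_zero u hC hx).extendScalarsOfSurjective
      (S := A ⧸ I ^ N) Ideal.Quotient.mk_surjective
    have hker : IsNilpotent (RingHom.ker p') := ⟨M, hM⟩
    let v' := Algebra.FormallySmooth.liftOfSurjective u' p' hp hker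
    refine ⟨(v'.restrictScalars A).comp ν, AlgHom.ext fun b =>
      Algebra.FormallySmooth.liftOfSurjective_apply u' p' hp hker (ν b)⟩

end Groth.Agent.S17611
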