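import Groth.Statements.S17603
import Groth.Agent.H9Hens.Hfp
import Groth.Agent.S17611
import Mathlib.RingTheory.Smooth.Flat
-- import your own Groth.Agent.* helpers here

set_option autoImplicit false
universe u
open Hensel

namespace Groth.Agent.S17603

theorem henselian_of_pow {A E : Type u} [CommRing A] [CommRing E] [Algebra A E] {I : Ideal A} {N : ℕ}
    (hE : (I ^ N).map (algebraMap A E) = ⊥) : HenselianRing E (I.map (algebraMap A E)) :=
  H9Hens.henselianRing_of_isNilpotent fun x hx => ⟨N, by
    have h := Ideal.pow_mem_pow hx N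
    rwa [← Ideal.map_pow, hE, Ideal.mem_bot] at h⟩


/-- With converse part: let (A, I) be a Henselian pair, R a smooth A-algebra and B a Henselization of
the pair (R, IR), with the induced A-algebra structure (so A → B is h-smooth). Then B is flat over A
and A/I^r → B/I^rB is smooth for every r ≥ 1. -/
theorem result (A : Type u) [CommRing A] (I : Ideal A) [HenselianRing A I]
    (R : Type u) [CommRing R] [Algebra A R] [Algebra.Smooth A R]
    (B : Type u) [CommRing B] [Algebra R B] [Algebra A B] [IsScalarTower A R B]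
    (hB : Hens2.IsPairHenselization R (I.map (algebraMap A R)) B) :
    Module.Flat A B ∧ ∀ r : ℕ, 1 ≤ r → Algebra.Smooth (A ⧸ I ^ r) (B ⧸ (I ^ r).map (algebraMap A B)) := by
  classical
  refine ⟨?_, (S17611.result A I R B hB).mp fun E C _ _ _ _ N hN hE hC p hp hnil u => ?_⟩
  · obtain ⟨π, hπ⟩ := H9Hens.exists_isPtColim_of_isPairHenselization hB
    haveI : Module.Flat R B := hπ.flat
    haveI : Module.Flat A R := Algebra.Smooth.flat A R
    exact Module.Flat.trans A R B
  haveI hEh : HenselianRing E (I.map (algebraMap A E)) := henselian_of_pow hE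
  haveI hCh : HenselianRing C (I.map (algebraMap A C)) := henselian_of_pow hC
  obtain ⟨M, -, hM⟩ := hnil
  let v₀ := Algebra.FormallySmooth.liftOfSurjective (u.comp (IsScalarTower.toAlgHom A R B)) p hp ⟨M, hM⟩
  obtain ⟨v, hv⟩ := H9Hens.relHens_exists hB v₀
  refine ⟨v, H9Hens.relHens_ext hB fun r => ?_⟩
  rw [AlgHom.comp_apply, hv]
  exact Algebra.FormallySmooth.liftOfSurjective_apply (u.comp (IsScalarTower.toAlgHom A R B)) p hp ⟨M, hM⟩ r

end Groth.Agent.S17603
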