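import Groth.Statements.S17604
import Groth.Agent.H9Hens.PairOps
import Groth.Agent.H9Hens.PairHens
-- import your own Groth.Agent.* helpers here

set_option autoImplicit false
universe u
open Hensel

namespace Groth.Agent.S17604

/-- Let (A, I) be a Henselian pair, R and R' étale A-algebras, and B, B' Henselizations of the pairs (R,
IR), (R', IR') with their induced A-algebra structures (so B and B' are h-étale over A). Then
reduction modulo I is a bijection from A-algebra maps B → B' to A-algebra maps B/IB → B'/IB': two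
A-algebra maps B → B' that agree modulo IB' are equal, and every A-algebra map B/IB → B'/IB' is
induced by an A-algebra map B → B'. -/
theorem result (A : Type u) [CommRing A]
    (I : Ideal A) [HenselianRing A I]
    (R : Type u) [CommRing R] [Algebra A R] [Algebra.Etale A R]
    (B : Type u) [CommRing B] [Algebra R B] [Algebra A B] [IsScalarTower A R B]
    (hB : Hens2.IsPairHenselization R (I.map (algebraMap A R)) B)
    (R' : Type u) [CommRing R'] [Algebra A R'] [Algebra.Etale A R']
    (B' : Type u) [CommRing B'] [Algebra R' B'] [Algebra A B'] [IsScalarTower A R' B']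
    (hB' : Hens2.IsPairHenselization R' (I.map (algebraMap A R')) B') :
    (∀ φ ψ : B →ₐ[A] B', (∀ b : B, φ b - ψ b ∈ I.map (algebraMap A B')) → φ = ψ) ∧
    ∀ χ : (B ⧸ I.map (algebraMap A B)) →ₐ[A] (B' ⧸ I.map (algebraMap A B')),
      ∃ φ : B →ₐ[A] B', ∀ b : B,
        Ideal.Quotient.mk (I.map (algebraMap A B')) (φ b) = χ (Ideal.Quotient.mk (I.map (algebraMap A B)) b) := by
  have hmap : (I.map (algebraMap A R)).map (algebraMap R B) = I.map (algebraMap A B) := by
    rw [Ideal.map_map, ← IsScalarTower.algebraMap_eq]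
  have hmap' : (I.map (algebraMap A R')).map (algebraMap R' B') = I.map (algebraMap A B') := by
    rw [Ideal.map_map, ← IsScalarTower.algebraMap_eq]
  have hH' : HenselianRing B' (I.map (algebraMap A B')) := hmap' ▸ hB'.1
  have hle : ∀ φ : R →ₐ[A] B', (I.map (algebraMap A R)).map φ.toRingHom ≤
      I.map (algebraMap A B') := fun φ => by
    rw [Ideal.map_map, AlgHom.toRingHom_eq_coe, AlgHom.comp_algebraMap]
  let j : R →ₐ[A] B := IsScalarTower.toAlgHom A R B
  constructor
  · intro φ ψ h
    have h1 : φ.comp j = ψ.comp j :=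
      H9Hens.algHom_eq_of_sub_mem (hH'.jac) fun r => h (j r)
    exact AlgHom.coe_ringHom_injective ((hB.2 B' _ (φ.comp j).toRingHom hH' (hle _)).unique rfl
      (congrArg AlgHom.toRingHom h1).symm)
  · intro χ
    obtain ⟨τ, hτ, -⟩ := H9Hens.existsUnique_algHom_lift_rel (I := I.map (algebraMap A B'))
      (χ.comp ((Ideal.Quotient.mkₐ A _).comp j))
    obtain ⟨g, hg, -⟩ := hB.2 B' _ τ.toRingHom hH' (hle _)
    have hc : ∀ a, g (algebraMap A B a) = algebraMap A B' a := fun a => by
      rw [IsScalarTower.algebraMap_apply A R B, ← RingHom.comp_apply, hg]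
      exact τ.commutes a
    let φ : B →ₐ[A] B' := { g with commutes' := hc }
    refine ⟨φ, fun b => ?_⟩
    obtain ⟨y, hy⟩ := (H9Hens.pairHenselization_quotient_pow_bijective hB 1).2
      (Ideal.Quotient.mk _ b)
    obtain ⟨r, rfl⟩ := Ideal.Quotient.mk_surjective y
    rw [Ideal.quotientMap_mk, Ideal.Quotient.eq, pow_one, hmap] at hy
    have h1 : φ (algebraMap R B r) - φ b ∈ I.map (algebraMap A B') := by
      rw [← map_sub]
      have := Ideal.mem_map_of_mem φ.toRingHom hy
      rwa [Ideal.map_map, AlgHom.toRingHom_eq_coe, AlgHom.comp_algebraMap] at this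
    have h2 : φ (algebraMap R B r) = τ r := RingHom.congr_fun hg r
    have h3 := AlgHom.congr_fun hτ r
    rw [← Ideal.Quotient.eq.mpr h1, ← Ideal.Quotient.eq.mpr hy, h2]
    exact h3

end Groth.Agent.S17604
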