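import Groth.Statements.S17605
import Groth.Agent.H9Hens.Pair
import Groth.Prelude.Def_Hens2
-- import your own Groth.Agent.* helpers here

set_option autoImplicit false
universe u
open Hensel

namespace Groth.Agent.S17605

/-- Let A be a ring with an ideal I and let f₁, f₂ be elements of A such that D(f₂) ∩ V(I) ⊆ D(f₁) ∩
V(I) in Spec A. If H₁ is a Henselization of the pair (A_{f₁}, IA_{f₁}) and H₂ a Henselization of the
pair (A_{f₂}, IA_{f₂}), with their induced A-algebra structures, then there is exactly one A-algebra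
map H₁ → H₂. -/
theorem result (A : Type u) [CommRing A]
    (I : Ideal A) (f₁ f₂ : A)
    (h : (PrimeSpectrum.basicOpen f₂ : Set (PrimeSpectrum A)) ∩ PrimeSpectrum.zeroLocus (I : Set A) ⊆
      (PrimeSpectrum.basicOpen f₁ : Set (PrimeSpectrum A)) ∩ PrimeSpectrum.zeroLocus (I : Set A))
    (H₁ : Type u) [CommRing H₁] [Algebra (Localization.Away f₁) H₁] [Algebra A H₁]
    [IsScalarTower A (Localization.Away f₁) H₁]
    (hH₁ : Hens2.IsPairHenselization (Localization.Away f₁)
      (I.map (algebraMap A (Localization.Away f₁))) H₁)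
    (H₂ : Type u) [CommRing H₂] [Algebra (Localization.Away f₂) H₂] [Algebra A H₂]
    [IsScalarTower A (Localization.Away f₂) H₂]
    (hH₂ : Hens2.IsPairHenselization (Localization.Away f₂)
      (I.map (algebraMap A (Localization.Away f₂))) H₂) :
    Nonempty (H₁ →ₐ[A] H₂) ∧ Subsingleton (H₁ →ₐ[A] H₂) := by
  have hu : IsUnit (algebraMap A H₂ f₁) := by
    by_contra hcon
    obtain ⟨M, hM, hf⟩ := exists_max_ideal_of_mem_nonunits hcon
    have hIM : I.map (algebraMap A H₂) ≤ M := by
      rw [IsScalarTower.algebraMap_eq A (Localization.Away f₂) H₂, ← Ideal.map_map]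
      exact hH₂.1.jac.trans (sInf_le ⟨bot_le, hM⟩)
    let p : PrimeSpectrum A := ⟨M.comap (algebraMap A H₂), inferInstance⟩
    have h2 : f₂ ∉ p.asIdeal := fun h' => hM.ne_top (M.eq_top_of_isUnit_mem h' (by
      rw [IsScalarTower.algebraMap_apply A (Localization.Away f₂) H₂]
      exact (IsLocalization.Away.algebraMap_isUnit f₂).map _))
    exact (h ⟨h2, fun x hx => Ideal.map_le_iff_le_comap.mp hIM hx⟩).1 hf
  let i : Localization.Away f₁ →ₐ[A] H₂ :=
    IsLocalization.Away.liftAlgHom f₁ (f := Algebra.ofId A H₂) hu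
  have hle : (I.map (algebraMap A (Localization.Away f₁))).map i.toRingHom ≤
      (I.map (algebraMap A (Localization.Away f₂))).map
        (algebraMap (Localization.Away f₂) H₂) := by
    rw [Ideal.map_map, Ideal.map_map, AlgHom.toRingHom_eq_coe, AlgHom.comp_algebraMap,
      ← IsScalarTower.algebraMap_eq]
  obtain ⟨g, hg, hgu⟩ := hH₁.2 H₂ _ i.toRingHom hH₂.1 hle
  refine ⟨⟨{ g with commutes' := fun a => ?_ }⟩, ⟨fun u v => AlgHom.coe_ringHom_injective ?_⟩⟩
  · show g (algebraMap A H₁ a) = _
    rw [IsScalarTower.algebraMap_apply A (Localization.Away f₁) H₁, ← RingHom.comp_apply, hg]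
    exact i.commutes a
  · have key : ∀ u : H₁ →ₐ[A] H₂, u.toRingHom = g := fun u => hgu _ (by
      refine IsLocalization.ringHom_ext (Submonoid.powers f₁) ?_
      rw [RingHom.comp_assoc, ← IsScalarTower.algebraMap_eq, AlgHom.toRingHom_eq_coe,
        AlgHom.comp_algebraMap, AlgHom.toRingHom_eq_coe, AlgHom.comp_algebraMap])
    exact (key u).trans (key v).symm

end Groth.Agent.S17605
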