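import Groth.Statements.S17607
import Groth.Agent.H9Hens.Hfp
-- import your own Groth.Agent.* helpers here

set_option autoImplicit false
universe u
open Hensel

namespace Groth.Agent.S17607

set_option linter.style.haveILetI false


/-- Let (A, I) and (B, IB) be Henselian pairs with B an A-algebra. Then the following are equivalent:
(i) A → B is Henselian finitely presented, i.e. there are n, a Henselization P of the pair
(A[X₁,…,Xₙ], I·A[X₁,…,Xₙ]) (a Henselized polynomial ring) and a surjective A-algebra map P → B with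
finitely generated kernel; (ii) there are a finitely presented A-algebra R and an R-algebra
structure on B compatible with that of A for which B is a Henselization of the pair (R, IR). -/
theorem result (A : Type u) [CommRing A] (I : Ideal A)
    [HenselianRing A I] (B : Type u) [CommRing B] [Algebra A B]
    [HenselianRing B (I.map (algebraMap A B))] :
    (∃ (n : ℕ) (P : Type u) (_ : CommRing P) (_ : Algebra (MvPolynomial (Fin n) A) P) (_ : Algebra A P)
        (_ : IsScalarTower A (MvPolynomial (Fin n) A) P),
        Hens2.IsPairHenselization (MvPolynomial (Fin n) A)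
          (I.map (algebraMap A (MvPolynomial (Fin n) A))) P ∧
        ∃ φ : P →ₐ[A] B, Function.Surjective φ ∧ (RingHom.ker φ).FG) ↔
    ∃ (R : Type u) (_ : CommRing R) (_ : Algebra A R) (_ : Algebra R B) (_ : IsScalarTower A R B),
      Algebra.FinitePresentation A R ∧ Hens2.IsPairHenselization R (I.map (algebraMap A R)) B := by
  classical
  constructor
  · rintro ⟨n, P, _, _, _, _, hP, φ, hφ, hker⟩
    obtain ⟨s, hs⟩ := hker
    obtain ⟨R', _, _, _, _, _, _, _, hR', hP', hy⟩ := H9Hens.relHens_exists_nbhd hP (fun x : s => (x : P))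
    haveI : Algebra.FinitePresentation A R' := Algebra.FinitePresentation.trans A (MvPolynomial (Fin n) A) R'
    choose r hr using hy
    let J : Ideal R' := Ideal.span (Set.range r)
    let χ : R' →ₐ[A] B := φ.comp (IsScalarTower.toAlgHom A R' P)
    have hχ : ∀ x ∈ J, χ x = 0 := by
      suffices J ≤ RingHom.ker χ.toRingHom from fun x hx => this hx
      rw [Ideal.span_le]
      rintro _ ⟨k, rfl⟩
      show φ (algebraMap R' P (r k)) = 0
      rw [hr]
      exact RingHom.mem_ker.mp (hs.le (Ideal.subset_span k.2))
    let χ' : (R' ⧸ J) →ₐ[A] B := Ideal.Quotient.liftₐ J χ hχ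
    letI : Algebra (R' ⧸ J) B := χ'.toRingHom.toAlgebra
    haveI : IsScalarTower A (R' ⧸ J) B := IsScalarTower.of_algebraMap_eq fun a => (χ'.commutes a).symm
    refine ⟨R' ⧸ J, inferInstance, inferInstance, inferInstance, inferInstance,
      Algebra.FinitePresentation.quotient (Submodule.fg_span (Set.finite_range r)), ?_⟩
    refine H9Hens.relHens_quotient hP' (Ideal.Quotient.mkₐ A J) Ideal.Quotient.mk_surjective φ hφ
      (fun x => rfl) ?_
    refine hs.ge.trans (Ideal.span_le.mpr fun x hx => ?_)
    show x ∈ (RingHom.ker (Ideal.Quotient.mkₐ A J)).map (algebraMap R' P)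
    rw [← show algebraMap R' P (r ⟨x, hx⟩) = x from hr _]
    exact Ideal.mem_map_of_mem _ (Ideal.Quotient.eq_zero_iff_mem.mpr (Ideal.subset_span ⟨_, rfl⟩))
  · rintro ⟨R, _, _, _, _, hR, hB⟩
    obtain ⟨n, q, hq, hqk⟩ := hR.out
    obtain ⟨P, _, iP, π, -, hP⟩ :=
      H9Hens.exists_isPairHenselization (MvPolynomial (Fin n) A) (I.map (algebraMap A (MvPolynomial (Fin n) A)))
    letI : Algebra A P := ((algebraMap (MvPolynomial (Fin n) A) P).comp (algebraMap A _)).toAlgebra
    haveI : IsScalarTower A (MvPolynomial (Fin n) A) P := IsScalarTower.of_algebraMap_eq fun _ => rfl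
    let J : Ideal P := (RingHom.ker q).map (algebraMap (MvPolynomial (Fin n) A) P)
    let χ : R →ₐ[A] P ⧸ J := AlgHom.liftOfSurjective q hq
      ((Ideal.Quotient.mkₐ A J).comp (IsScalarTower.toAlgHom A (MvPolynomial (Fin n) A) P))
      fun x hx => Ideal.Quotient.eq_zero_iff_mem.mpr (Ideal.mem_map_of_mem _ hx)
    letI : Algebra R (P ⧸ J) := χ.toRingHom.toAlgebra
    haveI : IsScalarTower A R (P ⧸ J) := IsScalarTower.of_algebraMap_eq fun a => (χ.commutes a).symm
    have hPJ : Hens2.IsPairHenselization R (I.map (algebraMap A R)) (P ⧸ J) :=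
      H9Hens.relHens_quotient hP q hq (Ideal.Quotient.mkₐ A J) Ideal.Quotient.mk_surjective
        (fun x => by show _ = χ (q x); exact (AlgHom.liftOfSurjective_apply q hq ((Ideal.Quotient.mkₐ A J).comp (IsScalarTower.toAlgHom A (MvPolynomial (Fin n) A) P)) _ x).symm) (Ideal.Quotient.mkₐ_ker A J).le
    obtain ⟨e, -⟩ := H9Hens.relHens_equiv hPJ hB
    refine ⟨n, P, inferInstance, iP, inferInstance, inferInstance, hP, e.toAlgHom.comp (Ideal.Quotient.mkₐ A J),
      e.surjective.comp Ideal.Quotient.mk_surjective, ?_⟩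
    have : RingHom.ker (e.toAlgHom.comp (Ideal.Quotient.mkₐ A J)) = J := by
      ext x
      simp [RingHom.mem_ker, Ideal.Quotient.eq_zero_iff_mem]
    rw [this]
    exact hqk.map _

end Groth.Agent.S17607
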