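import Groth.Statements.S17608
import Groth.Agent.H9Hens.Hfp
-- import your own Groth.Agent.* helpers here

set_option autoImplicit false
universe u
open Hensel

namespace Groth.Agent.S17608

set_option linter.style.haveILetI false


/-- Let (A, I) be a Henselian pair, let B be a Henselization of the pair (R, IR) for a finitely
presented A-algebra R, and let C be a Henselization of the pair (S, IS) for a finitely presented
B-algebra S, all algebra structures being compatible (so A → B and B → C are Henselian finitely
presented maps of Henselian pairs). Then the composite A → C is Henselian finitely presented: there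
are a finitely presented A-algebra T and a T-algebra structure on C compatible with that of A for
which C is a Henselization of the pair (T, IT). -/
theorem result (A : Type u) [CommRing A] (I : Ideal A) [HenselianRing A I]
    (R : Type u) [CommRing R] [Algebra A R] [Algebra.FinitePresentation A R]
    (B : Type u) [CommRing B] [Algebra R B] [Algebra A B] [IsScalarTower A R B]
    (hB : Hens2.IsPairHenselization R (I.map (algebraMap A R)) B)
    (S : Type u) [CommRing S] [Algebra B S] [Algebra A S] [IsScalarTower A B S] [Algebra.FinitePresentation B S]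
    (C : Type u) [CommRing C] [Algebra S C] [Algebra B C] [Algebra A C] [IsScalarTower B S C]
    [IsScalarTower A B C]
    (hC : Hens2.IsPairHenselization S (I.map (algebraMap A S)) C) :
    ∃ (T : Type u) (_ : CommRing T) (_ : Algebra A T) (_ : Algebra T C) (_ : IsScalarTower A T C),
      Algebra.FinitePresentation A T ∧ Hens2.IsPairHenselization T (I.map (algebraMap A T)) C := by
  classical
  obtain ⟨n, π, hπ, hπk⟩ := Algebra.FinitePresentation.out (R := B) (A := S)
  obtain ⟨m, g, hg⟩ := Submodule.fg_iff_exists_fin_generating_family.mp hπk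
  let cs : Finset B := Finset.univ.biUnion fun k => (g k).coeffs
  obtain ⟨R', _, _, _, _, _, _, _, hR', hBR', hy⟩ := H9Hens.relHens_exists_nbhd hB (fun x : cs => (x : B))
  haveI : Algebra.FinitePresentation A R' := Algebra.FinitePresentation.trans A R R'
  have hf : ∀ k, g k ∈ Set.range (MvPolynomial.map (algebraMap R' B)) := fun k => by
    rw [MvPolynomial.mem_range_map_iff_coeffs_subset]
    intro c hc
    exact hy ⟨c, Finset.mem_biUnion.mpr ⟨k, Finset.mem_univ k, hc⟩⟩
  choose f hf using hf
  let J : Ideal (MvPolynomial (Fin n) R') := Ideal.span (Set.range f)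
  letI : Algebra R' C := ((algebraMap B C).comp (algebraMap R' B)).toAlgebra
  haveI : IsScalarTower R' B C := IsScalarTower.of_algebraMap_eq fun _ => rfl
  haveI : IsScalarTower A R' C := IsScalarTower.of_algebraMap_eq fun a => by
    rw [IsScalarTower.algebraMap_apply R' B C, ← IsScalarTower.algebraMap_apply A R' B,
      ← IsScalarTower.algebraMap_apply]
  let x : Fin n → C := fun i => algebraMap S C (π (MvPolynomial.X i))
  haveI : IsScalarTower A S C := IsScalarTower.of_algebraMap_eq fun a => by
    rw [IsScalarTower.algebraMap_apply A B S, ← IsScalarTower.algebraMap_apply B S C,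
      ← IsScalarTower.algebraMap_apply]
  have hx : ∀ p : MvPolynomial (Fin n) R', MvPolynomial.aeval x p =
      algebraMap S C (π (MvPolynomial.map (algebraMap R' B) p)) := fun p => by
    refine (MvPolynomial.aeval_map_algebraMap B x p).symm.trans ?_
    exact DFunLike.congr_fun (MvPolynomial.algHom_ext (f := MvPolynomial.aeval x)
      (g := (IsScalarTower.toAlgHom B S C).comp π) fun i => by simp [x]) _
  let χ : (MvPolynomial (Fin n) R' ⧸ J) →ₐ[A] C :=
    Ideal.Quotient.liftₐ J ((MvPolynomial.aeval x).restrictScalars A) (by
      suffices J ≤ RingHom.ker (MvPolynomial.aeval x : MvPolynomial (Fin n) R' →ₐ[R'] C).toRingHom from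
        fun y hy => this hy
      rw [Ideal.span_le]
      rintro _ ⟨k, rfl⟩
      show MvPolynomial.aeval x (f k) = 0
      rw [hx, hf, show π (g k) = 0 from hg.le (Submodule.subset_span ⟨k, rfl⟩), map_zero])
  letI : Algebra (MvPolynomial (Fin n) R' ⧸ J) C := χ.toRingHom.toAlgebra
  haveI : IsScalarTower A (MvPolynomial (Fin n) R' ⧸ J) C :=
    IsScalarTower.of_algebraMap_eq fun a => (χ.commutes a).symm
  haveI : Algebra.FinitePresentation A (MvPolynomial (Fin n) R') :=
    Algebra.FinitePresentation.trans A R' (MvPolynomial (Fin n) R')
  refine ⟨MvPolynomial (Fin n) R' ⧸ J, inferInstance, inferInstance, inferInstance, inferInstance,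
    Algebra.FinitePresentation.quotient (Submodule.fg_span (Set.finite_range f)), ?_⟩
  refine H9Hens.relHens_mk (H9Hens.relHens_henselian hC) (fun D _ _ _ φ => ?_) fun D _ _ _ u v huv => ?_
  · obtain ⟨β, hβ⟩ := H9Hens.relHens_exists hBR' (φ.comp ((Ideal.Quotient.mkₐ A J).comp
      (IsScalarTower.toAlgHom A R' (MvPolynomial (Fin n) R'))))
    letI : Algebra B D := β.toRingHom.toAlgebra
    haveI : IsScalarTower A B D := IsScalarTower.of_algebraMap_eq fun a => (β.commutes a).symm
    let ev : MvPolynomial (Fin n) B →ₐ[B] D :=
      MvPolynomial.aeval fun i => φ (Ideal.Quotient.mk J (MvPolynomial.X i))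
    have hev : ∀ p : MvPolynomial (Fin n) R', ev (MvPolynomial.map (algebraMap R' B) p) =
        φ (Ideal.Quotient.mk J p) := fun p => by
      induction p using MvPolynomial.induction_on with
      | C a =>
        simp only [ev, MvPolynomial.map_C, MvPolynomial.aeval_C]
        exact hβ a
      | add p q hp hq => simp only [map_add, hp, hq]
      | mul_X p i hp => simp only [map_mul, MvPolynomial.map_X, hp]; simp [ev]
    have hker : RingHom.ker π ≤ RingHom.ker ev := hg.ge.trans (Submodule.span_le.mpr (by
      rintro _ ⟨k, rfl⟩
      show ev (g k) = 0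
      rw [← hf, hev, show Ideal.Quotient.mk J (f k) = 0 from
        Ideal.Quotient.eq_zero_iff_mem.mpr (Ideal.subset_span ⟨k, rfl⟩), map_zero]))
    let σ : S →ₐ[A] D := (AlgHom.liftOfSurjective π hπ ev hker).restrictScalars A
    obtain ⟨w, hw⟩ := H9Hens.relHens_exists hC σ
    refine ⟨w, fun t => ?_⟩
    obtain ⟨p, rfl⟩ := Ideal.Quotient.mk_surjective t
    show w (MvPolynomial.aeval x p) = _
    rw [hx, hw]
    exact (AlgHom.liftOfSurjective_apply π hπ ev hker _).trans (hev p)
  · have hB' : u.comp (IsScalarTower.toAlgHom A B C) = v.comp (IsScalarTower.toAlgHom A B C) :=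
      H9Hens.relHens_ext hBR' fun r => by
        have := huv (Ideal.Quotient.mk J (MvPolynomial.C r))
        change u (MvPolynomial.aeval x (MvPolynomial.C r)) = v (MvPolynomial.aeval x (MvPolynomial.C r)) at this
        rw [MvPolynomial.aeval_C] at this
        exact this
    refine H9Hens.relHens_ext hC fun s => ?_
    obtain ⟨p, rfl⟩ := hπ s
    induction p using MvPolynomial.induction_on with
    | C a =>
      rw [← MvPolynomial.algebraMap_eq, AlgHom.commutes, ← IsScalarTower.algebraMap_apply]
      exact DFunLike.congr_fun hB' a
    | add p q hp hq => simp only [map_add, hp, hq]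
    | mul_X p i hp =>
      simp only [map_mul, hp]
      congr 1
      have := huv (Ideal.Quotient.mk J (MvPolynomial.X i))
      change u (MvPolynomial.aeval x (MvPolynomial.X i)) = v (MvPolynomial.aeval x (MvPolynomial.X i)) at this
      rw [MvPolynomial.aeval_X] at this
      exact this

end Groth.Agent.S17608
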