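import Groth.Statements.S17612
import Groth.Agent.H9Hens.HfpCoverMain
-- import your own Groth.Agent.* helpers here

set_option autoImplicit false
universe u
open Hensel

namespace Groth.Agent.S17612

/-- Let (A, I) and (B, IB) be Henselian pairs with B an A-algebra, and let f₁, …, fₙ ∈ B generate the
unit ideal of B. For each i let H_i be a Henselization of the pair (B_{f_i}, IB_{f_i}) with its
induced A-algebra structure, and assume that each H_i is, for a compatible algebra structure, a
Henselization of the pair (R_i, IR_i) for some finitely presented A-algebra R_i (that is, each A →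
H_i is Henselian finitely presented). Then A → B is Henselian finitely presented: B is, for a
compatible algebra structure, a Henselization of (T, IT) for some finitely presented A-algebra T.
(The published statement allows a finite cover by arbitrary affine opens of the affine Henselian
scheme of (B, IB); this is its case of basic opens, to which the published proof reduces.) -/
theorem result (A : Type u) [CommRing A] (I : Ideal A)
    [HenselianRing A I] (B : Type u) [CommRing B] [Algebra A B] [HenselianRing B (I.map (algebraMap A B))]
    (n : ℕ) (f : Fin n → B) (hf : Ideal.span (Set.range f) = ⊤)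
    (H : Fin n → Type u) [∀ i, CommRing (H i)] [∀ i, Algebra (Localization.Away (f i)) (H i)]
    [∀ i, Algebra B (H i)] [∀ i, Algebra A (H i)] [∀ i, IsScalarTower B (Localization.Away (f i)) (H i)]
    [∀ i, IsScalarTower A B (H i)]
    (hH : ∀ i, Hens2.IsPairHenselization (Localization.Away (f i))
      (I.map (algebraMap A (Localization.Away (f i)))) (H i))
    (R : Fin n → Type u) [∀ i, CommRing (R i)] [∀ i, Algebra A (R i)]
    [∀ i, Algebra.FinitePresentation A (R i)] [∀ i, Algebra (R i) (H i)]
    [∀ i, IsScalarTower A (R i) (H i)]
    (hR : ∀ i, Hens2.IsPairHenselization (R i) (I.map (algebraMap A (R i))) (H i)) :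
    ∃ (T : Type u) (_ : CommRing T) (_ : Algebra A T) (_ : Algebra T B) (_ : IsScalarTower A T B),
      Algebra.FinitePresentation A T ∧ Hens2.IsPairHenselization T (I.map (algebraMap A T)) B := by
  haveI : ∀ i, IsScalarTower A (Localization.Away (f i)) (H i) := fun i =>
    IsScalarTower.of_algebraMap_eq fun a => by
      rw [IsScalarTower.algebraMap_apply A B (Localization.Away (f i)),
        ← IsScalarTower.algebraMap_apply B (Localization.Away (f i)) (H i), ← IsScalarTower.algebraMap_apply]
  refine H9Hens.HfpCover.exists_finitePresentation (ι := ULift.{u} (Fin n)) (fun i => f i.down) ?_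
    (fun i => H i.down) (fun i => hH i.down) (fun i => R i.down) (fun i => hR i.down)
  rw [← hf]
  congr 1
  exact Set.ext fun x => ⟨fun ⟨i, hi⟩ => ⟨i.down, hi⟩, fun ⟨i, hi⟩ => ⟨⟨i⟩, hi⟩⟩

end Groth.Agent.S17612
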