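import Groth.Statements.S17613
import Groth.Agent.H9Hens.Hfp
import Groth.Agent.H9Hens.Limits
import Mathlib.Algebra.Colimit.DirectLimit
-- import your own Groth.Agent.* helpers here

set_option autoImplicit false
universe u
open Hensel

namespace Groth.Agent.S17613

set_option linter.style.haveILetI false


/-- Let (A, I) be a Henselian pair and let B be a Henselization of the pair (R₀, IR₀) for a finitely
presented A-algebra R₀ (so A → B is Henselian finitely presented). Let (R_a) be a directed system of
A-algebras with A-compatible transition maps such that each (R_a, IR_a) is a Henselian pair, and let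
L be its direct limit with the induced A-algebra structure. Then the canonical map from the colimit
of the Hom_A(B, R_a) to Hom_A(B, L) is bijective: every A-algebra map B → L factors through some
R_a, and two A-algebra maps B → R_a whose composites with R_a → L agree become equal after passing
to some R_b. (Index set in the universe of the rings.) -/
theorem result (A : Type u) [CommRing A] (I : Ideal A)
    [HenselianRing A I] (R₀ : Type u) [CommRing R₀] [Algebra A R₀] [Algebra.FinitePresentation A R₀]
    (B : Type u) [CommRing B] [Algebra R₀ B] [Algebra A B] [IsScalarTower A R₀ B]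
    (hB : Hens2.IsPairHenselization R₀ (I.map (algebraMap A R₀)) B)
    {κ : Type u} [Preorder κ] [IsDirectedOrder κ] [Nonempty κ]
    (Ra : κ → Type u) [∀ a, CommRing (Ra a)] [∀ a, Algebra A (Ra a)]
    [∀ a, HenselianRing (Ra a) (I.map (algebraMap A (Ra a)))]
    (t : ∀ a b : κ, a ≤ b → (Ra a →+* Ra b)) [DirectedSystem Ra (fun a b h => t a b h)]
    (ht : ∀ (a b : κ) (h : a ≤ b), (t a b h).comp (algebraMap A (Ra a)) = algebraMap A (Ra b))
    [Algebra A (DirectLimit Ra t)]
    (halg : ∀ (a : κ) (x : A), algebraMap A (DirectLimit Ra t) x =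
      DirectLimit.Ring.of Ra t a (algebraMap A (Ra a) x)) :
    (∀ χ : B →ₐ[A] DirectLimit Ra t, ∃ (a : κ) (φ : B →ₐ[A] Ra a),
        ∀ x : B, DirectLimit.Ring.of Ra t a (φ x) = χ x) ∧
    ∀ (a : κ) (φ ψ : B →ₐ[A] Ra a),
      (∀ x : B, DirectLimit.Ring.of Ra t a (φ x) = DirectLimit.Ring.of Ra t a (ψ x)) →
      ∃ (b : κ) (h : a ≤ b), ∀ x : B, t a b h (φ x) = t a b h (ψ x) := by
  classical
  let L := DirectLimit Ra t
  let of := fun a => DirectLimit.Ring.of Ra (fun a b h => t a b h) a
  let ofA : ∀ a, Ra a →ₐ[A] L := fun a => { of a with commutes' := fun x => (halg a x).symm }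
  let tA : ∀ a b, a ≤ b → (Ra a →ₐ[A] Ra b) := fun a b h =>
    { t a b h with commutes' := fun x => RingHom.congr_fun (ht a b h) x }
  have hof : ∀ {a b} (h : a ≤ b) (x : Ra a), of b (t a b h x) = of a x := fun h x =>
    DirectLimit.Ring.of_f (f := fun a b h => t a b h) h x
  haveI hL : HenselianRing L (I.map (algebraMap A L)) := by
    have h1 := H9Hens.henselianRing_of_jointly_surjective (A := L) of
      (fun a => I.map (algebraMap A (Ra a))) (fun a => inferInstance)
      (fun z => by obtain ⟨a, x, rfl⟩ := DirectLimit.exists_eq_mk (f := fun a b h => t a b h) z; exact ⟨a, x, rfl⟩)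
      (fun a b => by
        obtain ⟨c, hac, hbc⟩ := exists_ge_ge a b
        refine ⟨c, t a c hac, t b c hbc, RingHom.ext (hof hac), RingHom.ext (hof hbc), ?_, ?_⟩ <;>
          rw [Ideal.map_map, ht])
    have h2 : (⨆ a, (I.map (algebraMap A (Ra a))).map (of a)) = I.map (algebraMap A L) := by
      have : ∀ a, (I.map (algebraMap A (Ra a))).map (of a) = I.map (algebraMap A L) := fun a => by
        rw [Ideal.map_map, show (of a).comp (algebraMap A (Ra a)) = algebraMap A L from
          RingHom.ext fun x => (halg a x).symm]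
      simp only [this, iSup_const]
    rwa [h2] at h1
  obtain ⟨n, q, hq, hqk⟩ := Algebra.FinitePresentation.out (R := A) (A := R₀)
  obtain ⟨m, g, hg⟩ := Submodule.fg_iff_exists_fin_generating_family.mp hqk
  have hzero : ∀ a (x : Ra a), of a x = 0 → ∃ b, ∃ h : a ≤ b, t a b h x = 0 := fun a x hx => by
    obtain ⟨c, hac, hac', h⟩ := Quotient.exact (hx.trans (DirectLimit.zero_def a))
    exact ⟨c, hac, h.trans (map_zero _)⟩
  refine ⟨fun χ => ?_, fun a φ ψ hφψ => ?_⟩
  · let χ₀ : MvPolynomial (Fin n) A →ₐ[A] L := (χ.comp (IsScalarTower.toAlgHom A R₀ B)).comp q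
    choose ix x hx using fun i => DirectLimit.exists_eq_mk (f := fun a b h => t a b h) (χ₀ (MvPolynomial.X i))
    obtain ⟨a, ha⟩ := Finite.exists_le ix
    let ev : MvPolynomial (Fin n) A →ₐ[A] Ra a := MvPolynomial.aeval fun i => t _ _ (ha i) (x i)
    have hev : (ofA a).comp ev = χ₀ := MvPolynomial.algHom_ext fun i => by
      show of a (ev (MvPolynomial.X i)) = _
      rw [MvPolynomial.aeval_X, hof, hx]
      rfl
    have h0 : ∀ k, of a (ev (g k)) = 0 := fun k => by
      have h1 : of a (ev (g k)) = χ₀ (g k) := DFunLike.congr_fun hev (g k)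
      rw [h1]
      show χ (algebraMap R₀ B (q (g k))) = 0
      rw [show q (g k) = 0 from hg.le (Submodule.subset_span ⟨k, rfl⟩), map_zero, map_zero]
    choose bs hbs hbz using fun k => hzero a _ (h0 k)
    obtain ⟨b, hb⟩ := Finite.exists_le (fun o : Option (Fin m) => o.elim a bs)
    have hab : a ≤ b := hb none
    have hker : RingHom.ker q ≤ RingHom.ker ((tA a b hab).comp ev) := hg.ge.trans (Submodule.span_le.mpr (by
      rintro _ ⟨k, rfl⟩
      show t a b _ (ev (g k)) = 0
      rw [← DirectedSystem.map_map' (f := fun a b h => t a b h) (hbs k) (hb (some k)), hbz, map_zero]))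
    obtain ⟨φ, hφ⟩ := H9Hens.relHens_exists hB (AlgHom.liftOfSurjective q hq _ hker)
    refine ⟨b, φ, fun y => ?_⟩
    refine DFunLike.congr_fun (H9Hens.relHens_ext hB (g := (ofA b).comp φ) (g' := χ) fun r => ?_) y
    obtain ⟨p, rfl⟩ := hq r
    show of b (φ _) = _
    rw [hφ]
    refine (congrArg (of b) (AlgHom.liftOfSurjective_apply q hq _ hker p)).trans ?_
    show of b (t a b hab (ev p)) = _
    rw [hof]
    exact DFunLike.congr_fun hev p
  · have h0 : ∀ i, of a (φ (algebraMap R₀ B (q (MvPolynomial.X i))) - ψ (algebraMap R₀ B (q (MvPolynomial.X i)))) = 0 :=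
      fun i => by rw [map_sub, sub_eq_zero]; exact hφψ _
    choose bs hbs hbz using fun i => hzero a _ (h0 i)
    obtain ⟨b, hb⟩ := Finite.exists_le (fun o : Option (Fin n) => o.elim a bs)
    refine ⟨b, hb none, fun y => ?_⟩
    refine DFunLike.congr_fun (H9Hens.relHens_ext hB (g := (tA a b (hb none)).comp φ)
      (g' := (tA a b (hb none)).comp ψ) fun r => ?_) y
    obtain ⟨p, rfl⟩ := hq r
    suffices ((tA a b (hb none)).comp φ).comp ((IsScalarTower.toAlgHom A R₀ B).comp q) =
        ((tA a b (hb none)).comp ψ).comp ((IsScalarTower.toAlgHom A R₀ B).comp q) from DFunLike.congr_fun this p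
    refine MvPolynomial.algHom_ext fun i => sub_eq_zero.mp ?_
    show t a b _ _ - t a b _ _ = 0
    rw [← map_sub, ← DirectedSystem.map_map' (f := fun a b h => t a b h) (hbs i) (hb (some i))]
    show t _ _ _ (t a (bs i) _ (φ (algebraMap R₀ B (q (MvPolynomial.X i))) - ψ (algebraMap R₀ B (q (MvPolynomial.X i))))) = 0
    rw [hbz, map_zero]

end Groth.Agent.S17613
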