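import Groth.Statements.S17616
import Groth.Agent.H9Hens.ZariskiNbhd
-- import your own Groth.Agent.* helpers here

set_option autoImplicit false
universe u
open Hensel

namespace Groth.Agent.S17616

/-- Let P be a property of ring maps (between rings in a fixed universe), and say that f : B → B' has P
at a prime q of B' if the composite B → B' → B'_g has P for some g ∉ q. Assume (i) for every
finitely presented f : B → B' the set of primes of B' at which f has P is ind-constructible in Spec
B', and f has P as soon as it has P at every prime; (ii) every étale ring map has P; (iii) for g : C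
→ C' and h : C' → C'', if h has P at a prime q of C'' and g has P at the inverse image of q in C',
then h ∘ g has P at q. Now suppose (A, I) is a Henselian pair, and take an A-algebra R of finite
presentation for which A → R has P at each prime of R that contains IR. Then there is an étale
R-algebra R' with R/IR → R'/IR' bijective such that A → R' has P. -/
theorem result
    (P : ∀ ⦃B B' : Type u⦄ [CommRing B] [CommRing B'], (B →+* B') → Prop)
    (PAt : ∀ ⦃B B' : Type u⦄ [CommRing B] [CommRing B'], (B →+* B') → Ideal B' → Prop)
    (hPAt : ∀ ⦃B B' : Type u⦄ [CommRing B] [CommRing B'] (f : B →+* B') (q : Ideal B'),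
      PAt f q ↔ ∃ g : B', g ∉ q ∧ P ((algebraMap B' (Localization.Away g)).comp f))
    (h₁ : ∀ ⦃B B' : Type u⦄ [CommRing B] [CommRing B'] (f : B →+* B'), f.FinitePresentation →
      ProCons.IsIndConstructible {q : PrimeSpectrum B' | PAt f q.asIdeal} ∧
        ((∀ q : PrimeSpectrum B', PAt f q.asIdeal) → P f))
    (h₂ : ∀ ⦃B B' : Type u⦄ [CommRing B] [CommRing B'] (f : B →+* B'), f.Etale → P f)
    (h₃ : ∀ ⦃C C' C'' : Type u⦄ [CommRing C] [CommRing C'] [CommRing C''] (g : C →+* C')
      (h : C' →+* C'') (q : Ideal C'') [q.IsPrime],
      PAt h q → PAt g (q.comap h) → PAt (h.comp g) q)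
    (A : Type u) [CommRing A] (I : Ideal A) [HenselianRing A I]
    (R : Type u) [CommRing R] [Algebra A R] [Algebra.FinitePresentation A R]
    (hR : ∀ (p : Ideal R) [p.IsPrime], I.map (algebraMap A R) ≤ p → PAt (algebraMap A R) p) :
    ∃ (R' : Type u) (_ : CommRing R') (_ : Algebra R R') (_ : Algebra A R') (_ : IsScalarTower A R R'),
      Algebra.Etale R R' ∧
      Function.Bijective (Ideal.quotientMap ((I.map (algebraMap A R)).map (algebraMap R R'))
        (algebraMap R R') Ideal.le_comap_map) ∧ P (algebraMap A R') := by
  let U : Set (PrimeSpectrum R) := {q | PAt (algebraMap A R) q.asIdeal}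
  have hopen : IsOpen U := by
    rw [isOpen_iff_forall_mem_open]
    intro q hq
    obtain ⟨g, hg, hP⟩ := (hPAt _ _).mp hq
    exact ⟨PrimeSpectrum.basicOpen g, fun q' hq' => (hPAt _ _).mpr ⟨g, hq', hP⟩,
      (PrimeSpectrum.basicOpen g).isOpen, hg⟩
  obtain ⟨g, hg, hU⟩ := H9Hens.exists_sub_one_mem_of_isOpen (I.map (algebraMap A R)) hopen
    (fun q hq => hR q.asIdeal hq)
  haveI : Algebra.Etale R (Localization.Away g) := Algebra.Etale.of_isLocalizationAway g
  haveI : Algebra.FinitePresentation A (Localization.Away g) := Algebra.FinitePresentation.trans A R _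
  refine ⟨Localization.Away g, inferInstance, inferInstance, inferInstance, inferInstance, inferInstance,
    H9Hens.bijective_quotientMap_away _ hg, ?_⟩
  refine (h₁ (algebraMap A (Localization.Away g)) (RingHom.finitePresentation_algebraMap.mpr inferInstance)).2 fun q => ?_
  rw [IsScalarTower.algebraMap_eq A R (Localization.Away g)]
  refine h₃ _ _ q.asIdeal ((hPAt _ _).mpr ⟨1, fun h => q.isPrime.ne_top ((Ideal.eq_top_iff_one _).mpr h), h₂ _ ?_⟩) ?_
  · rw [← IsScalarTower.algebraMap_eq, RingHom.etale_algebraMap]
    haveI : Algebra.Etale (Localization.Away g) (Localization.Away (1 : Localization.Away g)) :=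
      Algebra.Etale.of_isLocalizationAway 1
    exact Algebra.Etale.comp R (Localization.Away g) _
  · exact hU (show PrimeSpectrum.comap (algebraMap R (Localization.Away g)) q ∈
      (PrimeSpectrum.basicOpen g : Set (PrimeSpectrum R)) from
      (PrimeSpectrum.localization_away_comap_range (Localization.Away g) g).le ⟨q, rfl⟩)

end Groth.Agent.S17616
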