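import Groth.Statements.S17617
import Groth.Agent.H9Hens.PairHens
import Mathlib.RingTheory.Flat.Basic
import Mathlib.RingTheory.Flat.Localization
import Mathlib.LinearAlgebra.TensorProduct.RightExactness
import Mathlib.LinearAlgebra.TensorProduct.Quotient
-- import your own Groth.Agent.* helpers here

set_option autoImplicit false
universe u
open Hensel

namespace Groth.Agent.S17617

open scoped TensorProduct

/-- Let (A, I) be a Henselian pair and let M' → M → M'' be A-linear maps with zero composite. Then M' →
M → M'' is exact if and only if for every prime ideal p of A containing I and every Henselization H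
of the pair (A_p, IA_p), the sequence H ⊗_A M' → H ⊗_A M → H ⊗_A M'' is exact. (The modules H ⊗_A M
are the stalks at p of the sheaf associated to M on the affine Henselian scheme of (A, I), and
exactness of a sequence of such sheaves is exactness at every stalk, so this is the statement that
the sequence of modules is exact exactly when the associated sequence of sheaves is.) -/
theorem result (A : Type u) [CommRing A]
    (I : Ideal A) [HenselianRing A I]
    (M' M M'' : Type u) [AddCommGroup M'] [Module A M'] [AddCommGroup M] [Module A M]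
    [AddCommGroup M''] [Module A M''] (f : M' →ₗ[A] M) (g : M →ₗ[A] M'') (hfg : g.comp f = 0) :
    Function.Exact f g ↔
    ∀ (p : Ideal A) [p.IsPrime], I ≤ p →
      ∀ (H : Type u) [CommRing H] [Algebra (Localization.AtPrime p) H] [Algebra A H]
        [IsScalarTower A (Localization.AtPrime p) H],
        Hens2.IsPairHenselization (Localization.AtPrime p)
          (I.map (algebraMap A (Localization.AtPrime p))) H →
        Function.Exact (f.baseChange H) (g.baseChange H) := by
  have hflat : ∀ (p : Ideal A) [p.IsPrime] (H : Type u) [CommRing H] [Algebra (Localization.AtPrime p) H]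
      [Algebra A H] [IsScalarTower A (Localization.AtPrime p) H],
      Hens2.IsPairHenselization (Localization.AtPrime p) (I.map (algebraMap A (Localization.AtPrime p))) H →
      Module.Flat A H := fun p _ H _ _ _ _ hH => by
    obtain ⟨π, hπ⟩ := H9Hens.exists_isPtColim_of_isPairHenselization hH
    haveI : Module.Flat (Localization.AtPrime p) H := hπ.flat
    exact Module.Flat.trans A (Localization.AtPrime p) H
  refine ⟨fun hex p _ _ H _ _ _ _ hH => ?_, fun h => ?_⟩
  · haveI := hflat p H hH
    exact Module.Flat.lTensor_exact H hex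
  intro x
  refine ⟨fun hx => ?_, ?_⟩
  swap
  · rintro ⟨y, rfl⟩
    exact LinearMap.congr_fun hfg y
  let Q := M ⧸ LinearMap.range f
  let q : Q := Submodule.Quotient.mk x
  let ι : A →ₗ[A] Q := LinearMap.toSpanSingleton A Q q
  by_contra hcon
  have hne : LinearMap.ker ι ≠ ⊤ := fun htop => hcon (by
    have h1 : ι 1 = 0 := LinearMap.mem_ker.mp (htop ▸ Submodule.mem_top)
    rw [LinearMap.toSpanSingleton_apply, one_smul] at h1
    exact (Submodule.Quotient.mk_eq_zero _).mp h1)
  obtain ⟨m, hm, hle⟩ := Ideal.exists_le_maximal (LinearMap.ker ι) hne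
  have hIm : I ≤ m := (HenselianRing.jac (I := I)).trans (sInf_le ⟨bot_le, hm⟩)
  haveI := hm.isPrime
  obtain ⟨H, _, iH, π, hπ, hH⟩ := H9Hens.exists_isPairHenselization (Localization.AtPrime m)
    (I.map (algebraMap A (Localization.AtPrime m)))
  letI : Algebra A H := ((algebraMap (Localization.AtPrime m) H).comp (algebraMap A _)).toAlgebra
  haveI : IsScalarTower A (Localization.AtPrime m) H := IsScalarTower.of_algebraMap_eq fun _ => rfl
  haveI := hflat m H hH
  have h0 : (LinearMap.lTensor H g) (1 ⊗ₜ x) = 0 := by
    rw [LinearMap.lTensor_tmul, hx, TensorProduct.tmul_zero]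
  obtain ⟨z, hz⟩ := (h m hIm H hH ((1 : H) ⊗ₜ x)).mp h0
  have hq0 : (1 : H) ⊗ₜ[A] q = 0 := by
    have h1 := congrArg (LinearMap.lTensor H (LinearMap.range f).mkQ) hz
    change LinearMap.lTensor H _ (LinearMap.lTensor H f z) = _ at h1
    rw [← LinearMap.comp_apply, ← LinearMap.lTensor_comp, show (LinearMap.range f).mkQ ∘ₗ f = 0 from
      LinearMap.ext fun y => (Submodule.Quotient.mk_eq_zero _).mpr ⟨y, rfl⟩, LinearMap.lTensor_zero,
      LinearMap.zero_apply] at h1
    exact h1.symm
  let ι' : (A ⧸ LinearMap.ker ι) →ₗ[A] Q := (LinearMap.ker ι).liftQ ι le_rfl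
  have hι' : Function.Injective ι' := LinearMap.ker_eq_bot.mp (Submodule.ker_liftQ_eq_bot _ _ _ le_rfl)
  have h2 : (1 : H) ⊗ₜ[A] (Ideal.Quotient.mk (LinearMap.ker ι) 1) = 0 := by
    apply Module.Flat.lTensor_preserves_injective_linearMap (M := H) ι' hι'
    rw [LinearMap.lTensor_tmul, map_zero]
    show (1 : H) ⊗ₜ[A] ι 1 = 0
    rw [LinearMap.toSpanSingleton_apply, one_smul, hq0]
  have h3 := congrArg (TensorProduct.tensorQuotEquivQuotSMul H (LinearMap.ker ι)) h2
  rw [map_zero, TensorProduct.tensorQuotEquivQuotSMul_tmul_mk, one_smul, Submodule.Quotient.mk_eq_zero,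
    Ideal.smul_top_eq_map, Submodule.restrictScalars_mem] at h3
  -- the extension of `m` to `H` is proper
  let K := Ideal.map (Ideal.Quotient.mk (I.map (algebraMap A (Localization.AtPrime m))))
    (IsLocalRing.maximalIdeal (Localization.AtPrime m))
  have h4 : π 1 ∈ K := by
    have hmap : Ideal.map (algebraMap A H) (LinearMap.ker ι) ≤ K.comap π.toRingHom := by
      refine Ideal.map_le_iff_le_comap.mpr fun a ha => ?_
      show π (algebraMap (Localization.AtPrime m) H (algebraMap A (Localization.AtPrime m) a)) ∈ K
      rw [AlgHom.commutes]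
      refine Ideal.mem_map_of_mem _ ?_
      rw [← Localization.AtPrime.map_eq_maximalIdeal]
      exact Ideal.mem_map_of_mem _ (hle ha)
    exact hmap h3
  rw [map_one, ← map_one (Ideal.Quotient.mk _), Ideal.mem_quotient_iff_mem_sup] at h4
  refine (IsLocalRing.maximalIdeal.isMaximal (Localization.AtPrime m)).ne_top ((Ideal.eq_top_iff_one _).mpr ?_)
  refine (sup_le le_rfl ?_ : IsLocalRing.maximalIdeal (Localization.AtPrime m) ⊔ _ ≤ _) h4
  rw [← Localization.AtPrime.map_eq_maximalIdeal]
  exact Ideal.map_mono hIm

end Groth.Agent.S17617
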