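import Groth.Statements.S17618
import Groth.Agent.H9Hens.Hfp
import Mathlib.Algebra.Colimit.DirectLimit
import Mathlib.RingTheory.Finiteness.Ideal
-- import your own Groth.Agent.* helpers here

set_option autoImplicit false
universe u
open Hensel

namespace Groth.Agent.S17618

set_option linter.style.haveILetI false

/-- Stages of the directed system: finitely many elements and finitely many relations. -/
structure Idx {A B : Type u} [CommRing A] [CommRing B] [Algebra A B] {P : Finset B → Type u}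
    [∀ T, CommRing (P T)] [∀ T, Algebra A (P T)] (ρ : ∀ T, P T →ₐ[A] B) : Type u where
  T : Finset B
  J : Ideal (P T)
  fg : J.FG
  le : J ≤ RingHom.ker (ρ T)

/-- Let (A, I) and (B, IB) be Henselian pairs with B an A-algebra. Assume that for every directed system
(R_a) of A-algebras with A-compatible transition maps such that each (R_a, IR_a) is a Henselian
pair, with direct limit L carrying the induced A-algebra structure, the canonical map from the
colimit of the Hom_A(B, R_a) to Hom_A(B, L) is bijective (every A-algebra map B → L factors through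
some R_a, and two A-algebra maps B → R_a with equal composites to L agree after passing to some
R_b). Then A → B is Henselian finitely presented: there are a finitely presented A-algebra R and an
R-algebra structure on B compatible with that of A for which B is a Henselization of the pair (R,
IR). (Index sets in the universe of the rings.) -/
theorem result (A : Type u) [CommRing A] (I : Ideal A)
    [HenselianRing A I] (B : Type u) [CommRing B] [Algebra A B]
    [HenselianRing B (I.map (algebraMap A B))]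
    (h : ∀ (κ : Type u) [Preorder κ] [IsDirectedOrder κ] [Nonempty κ]
      (Ra : κ → Type u) [∀ a, CommRing (Ra a)] [∀ a, Algebra A (Ra a)]
      [∀ a, HenselianRing (Ra a) (I.map (algebraMap A (Ra a)))]
      (t : ∀ a b : κ, a ≤ b → (Ra a →+* Ra b)) [DirectedSystem Ra (fun a b hab => t a b hab)],
      (∀ (a b : κ) (hab : a ≤ b), (t a b hab).comp (algebraMap A (Ra a)) = algebraMap A (Ra b)) →
      ∀ [Algebra A (DirectLimit Ra t)],
      (∀ (a : κ) (x : A), algebraMap A (DirectLimit Ra t) x =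
        DirectLimit.Ring.of Ra t a (algebraMap A (Ra a) x)) →
      (∀ χ : B →ₐ[A] DirectLimit Ra t, ∃ (a : κ) (φ : B →ₐ[A] Ra a),
          ∀ x : B, DirectLimit.Ring.of Ra t a (φ x) = χ x) ∧
      ∀ (a : κ) (φ ψ : B →ₐ[A] Ra a),
        (∀ x : B, DirectLimit.Ring.of Ra t a (φ x) = DirectLimit.Ring.of Ra t a (ψ x)) →
        ∃ (b : κ) (hab : a ≤ b), ∀ x : B, t a b hab (φ x) = t a b hab (ψ x)) :
    ∃ (R : Type u) (_ : CommRing R) (_ : Algebra A R) (_ : Algebra R B) (_ : IsScalarTower A R B),
      Algebra.FinitePresentation A R ∧ Hens2.IsPairHenselization R (I.map (algebraMap A R)) B := by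
  classical
  let P₀ : Finset B → Type u := fun T => MvPolynomial T A
  choose P iP aP π hπ hP using fun T : Finset B =>
    H9Hens.exists_isPairHenselization (MvPolynomial T A) (I.map (algebraMap A (MvPolynomial T A)))
  letI iA : ∀ T, Algebra A (P T) := fun T => ((algebraMap (MvPolynomial T A) (P T)).comp (algebraMap A _)).toAlgebra
  haveI : ∀ T : Finset B, IsScalarTower A (MvPolynomial T A) (P T) := fun T => IsScalarTower.of_algebraMap_eq fun _ => rfl
  haveI : ∀ T : Finset B, HenselianRing (P T) (I.map (algebraMap A (P T))) := fun T => H9Hens.relHens_henselian (hP T)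
  choose ρ hρ using fun T : Finset B => H9Hens.relHens_exists (hP T) (MvPolynomial.aeval (R := A) fun x : T => (x : B))
  choose ι hι using fun (S T : Finset B) (hST : S ⊆ T) => H9Hens.relHens_exists (hP S) (C := P T)
    ((IsScalarTower.toAlgHom A (MvPolynomial T A) (P T)).comp
      (MvPolynomial.rename (R := A) fun x : S => (⟨x, hST x.2⟩ : T)))
  have hιρ : ∀ (S T : Finset B) (hST : S ⊆ T), (ρ T).comp (ι S T hST) = ρ S := fun S T hST =>
    H9Hens.relHens_ext (hP S) fun p => by
      show ρ T (ι S T hST _) = _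
      rw [hι, AlgHom.comp_apply]
      show ρ T (algebraMap _ _ _) = _
      rw [hρ, hρ, MvPolynomial.aeval_rename]
      rfl
  have hιι : ∀ (S T U : Finset B) (hST : S ⊆ T) (hTU : T ⊆ U),
      (ι T U hTU).comp (ι S T hST) = ι S U (hST.trans hTU) := fun S T U hST hTU =>
    H9Hens.relHens_ext (hP S) fun p => by
      show ι T U hTU (ι S T hST _) = _
      rw [hι, AlgHom.comp_apply]
      show ι T U hTU (algebraMap _ _ _) = _
      rw [hι, hι]
      show algebraMap _ _ (MvPolynomial.rename _ (MvPolynomial.rename _ p)) = _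
      rw [MvPolynomial.rename_rename]
      rfl
  have hι₁ : ∀ S : Finset B, ι S S subset_rfl = AlgHom.id A (P S) := fun S =>
    H9Hens.relHens_ext (hP S) fun p => by
      rw [hι]
      show algebraMap _ _ (MvPolynomial.rename id p) = _
      rw [MvPolynomial.rename_id]
      rfl
  let Ra : Idx ρ → Type u := fun a => P a.T ⧸ a.J
  haveI : ∀ a : Idx ρ, HenselianRing (Ra a) (I.map (algebraMap A (Ra a))) := fun a => by
    have := H9Hens.henselianRing_of_isIntegral (I := I.map (algebraMap A (P a.T))) (P a.T ⧸ a.J)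
    rwa [Ideal.map_map, ← IsScalarTower.algebraMap_eq] at this
  letI pre : Preorder (Idx ρ) :=
    { le := fun a b => ∃ h : a.T ⊆ b.T, a.J.map (ι a.T b.T h) ≤ b.J
      le_refl := fun a => ⟨subset_rfl, Ideal.map_le_iff_le_comap.mpr fun x hx => by
        show ι a.T a.T _ x ∈ a.J
        rw [hι₁]; exact hx⟩
      le_trans := fun a b c ⟨h₁, h₁'⟩ ⟨h₂, h₂'⟩ => ⟨h₁.trans h₂, Ideal.map_le_iff_le_comap.mpr fun x hx => by
        show ι a.T c.T _ x ∈ c.J
        rw [← hιι a.T b.T c.T h₁ h₂]
        exact h₂' (Ideal.mem_map_of_mem _ (h₁' (Ideal.mem_map_of_mem _ hx)))⟩ }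
  haveI : IsDirectedOrder (Idx ρ) := ⟨fun a b => by
    have hle : ∀ (c : Idx ρ) (hs : c.T ⊆ a.T ∪ b.T), c.J.map (ι c.T (a.T ∪ b.T) hs) ≤ RingHom.ker (ρ (a.T ∪ b.T)) :=
      fun c hs => Ideal.map_le_iff_le_comap.mpr fun x hx => by
        show ρ _ (ι _ _ _ x) = 0
        rw [← AlgHom.comp_apply, hιρ]
        exact c.le hx
    exact ⟨⟨a.T ∪ b.T, a.J.map (ι a.T _ Finset.subset_union_left) ⊔ b.J.map (ι b.T _ Finset.subset_union_right),
      Submodule.FG.sup (a.fg.map _) (b.fg.map _), sup_le (hle a _) (hle b _)⟩,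
      ⟨Finset.subset_union_left, le_sup_left⟩, ⟨Finset.subset_union_right, le_sup_right⟩⟩⟩
  haveI : Nonempty (Idx ρ) := ⟨⟨∅, ⊥, Submodule.fg_bot, bot_le⟩⟩
  let t : ∀ a b : Idx ρ, a ≤ b → (Ra a →+* Ra b) := fun a b hab =>
    Ideal.quotientMap b.J (ι a.T b.T hab.1).toRingHom (Ideal.map_le_iff_le_comap.mp hab.2)
  haveI : DirectedSystem Ra (fun a b h => t a b h) :=
    { map_self := fun a x => by
        obtain ⟨x, rfl⟩ := Ideal.Quotient.mk_surjective x
        show Ideal.Quotient.mk a.J (ι a.T a.T _ x) = _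
        rw [hι₁]; rfl
      map_map := fun c b a h₁ h₂ x => by
        obtain ⟨x, rfl⟩ := Ideal.Quotient.mk_surjective x
        show Ideal.Quotient.mk c.J (ι b.T c.T _ (ι a.T b.T _ x)) = Ideal.Quotient.mk c.J (ι a.T c.T _ x)
        rw [← hιι a.T b.T c.T h₁.1 h₂.1]; rfl }
  let L := DirectLimit Ra t
  let of := fun a => DirectLimit.Ring.of Ra (fun a b h => t a b h) a
  have ht : ∀ (a b : Idx ρ) (hab : a ≤ b), (t a b hab).comp (algebraMap A (Ra a)) = algebraMap A (Ra b) :=
    fun a b hab => RingHom.ext fun x => by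
      show Ideal.Quotient.mk b.J (ι a.T b.T _ (algebraMap A (P a.T) x)) = _
      rw [AlgHom.commutes]; rfl
  let a₀ : Idx ρ := Classical.arbitrary _
  letI : Algebra A L := ((of a₀).comp (algebraMap A (Ra a₀))).toAlgebra
  have halg : ∀ (a : Idx ρ) (x : A), algebraMap A L x = of a (algebraMap A (Ra a) x) := fun a x => by
    obtain ⟨c, h₁, h₂⟩ := exists_ge_ge a₀ a
    show of a₀ (algebraMap A (Ra a₀) x) = _
    rw [← DirectLimit.Ring.of_f (f := fun a b h => t a b h) h₁,
      ← DirectLimit.Ring.of_f (f := fun a b h => t a b h) h₂]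
    exact congrArg (of c) ((RingHom.congr_fun (ht a₀ c h₁) x).trans (RingHom.congr_fun (ht a c h₂) x).symm)
  let ev : ∀ a : Idx ρ, Ra a →ₐ[A] B := fun a => Ideal.Quotient.liftₐ a.J (ρ a.T) fun x hx => a.le hx
  let θ₀ : L →+* B := DirectLimit.Ring.lift Ra (fun a b h => t a b h) B (fun a => (ev a).toRingHom) fun a b hab x => by
    obtain ⟨x, rfl⟩ := Ideal.Quotient.mk_surjective x
    show ρ b.T (ι a.T b.T _ x) = ρ a.T x
    rw [← AlgHom.comp_apply, hιρ]
  let θ : L →ₐ[A] B := { θ₀ with commutes' := fun x => (ev a₀).commutes x }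
  have hof : ∀ a x, θ (of a x) = ev a x := fun a x => rfl
  have hbij : Function.Bijective θ := by
    refine ⟨(injective_iff_map_eq_zero _).mpr fun z hz => ?_, fun b => ?_⟩
    · obtain ⟨a, x, rfl⟩ := DirectLimit.exists_eq_mk (f := fun a b h => t a b h) z
      obtain ⟨x, rfl⟩ := Ideal.Quotient.mk_surjective x
      have hx : ρ a.T x = 0 := hz
      let a' : Idx ρ := ⟨a.T, a.J ⊔ Ideal.span {x}, Submodule.FG.sup a.fg (Submodule.fg_span_singleton _),
        sup_le a.le ((Ideal.span_singleton_le_iff_mem _).mpr hx)⟩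
      have hle : a ≤ a' := ⟨subset_rfl, Ideal.map_le_iff_le_comap.mpr fun y hy => by
        show ι a.T a.T _ y ∈ a.J ⊔ Ideal.span {x}
        rw [hι₁]; exact Ideal.mem_sup_left hy⟩
      show of a (Ideal.Quotient.mk a.J x) = 0
      rw [← DirectLimit.Ring.of_f (f := fun a b h => t a b h) hle]
      show of a' (Ideal.Quotient.mk a'.J (ι a.T a.T _ x)) = 0
      rw [hι₁, show Ideal.Quotient.mk a'.J ((AlgHom.id A (P a.T)) x) = 0 from
        Ideal.Quotient.eq_zero_iff_mem.mpr (Ideal.mem_sup_right (Ideal.mem_span_singleton_self x)), map_zero]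
    · let a : Idx ρ := ⟨{b}, ⊥, Submodule.fg_bot, bot_le⟩
      refine ⟨of a (Ideal.Quotient.mk _ (algebraMap (MvPolynomial ({b} : Finset B) A) (P {b}) (MvPolynomial.X (⟨b, Finset.mem_singleton_self b⟩ : ({b} : Finset B))))), ?_⟩
      show ρ {b} (algebraMap _ _ _) = b
      rw [hρ, MvPolynomial.aeval_X]
  let e := AlgEquiv.ofBijective θ hbij
  obtain ⟨a, φ, hφ⟩ := (h (Idx ρ) Ra t ht halg).1 e.symm.toAlgHom
  have hid : ∀ x, ev a (φ x) = x := fun x => by
    rw [← hof, hφ]
    exact e.apply_symm_apply x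
  have hsurjev : Function.Surjective (ev a) := fun x => ⟨φ x, hid x⟩
  -- a finite presentation of the stage
  obtain ⟨s, hs⟩ := a.fg
  obtain ⟨R', _, _, _, _, _, _, _, hR', hPR', hy⟩ := H9Hens.relHens_exists_nbhd (hP a.T) (fun x : s => (x : P a.T))
  haveI : Algebra.FinitePresentation A R' := Algebra.FinitePresentation.trans A (MvPolynomial a.T A) R'
  choose r hr using hy
  obtain ⟨gens, hgens⟩ := Algebra.FiniteType.out (R := A) (A := R')
  let mkP := Ideal.Quotient.mkₐ A a.J
  let d : gens → Ra a := fun x => φ (ρ a.T (algebraMap R' (P a.T) x))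
  choose d' hd' using fun x : gens => Ideal.Quotient.mk_surjective (d x)
  obtain ⟨R'', _, _, _, _, _, _, _, hR'', hPR'', hy''⟩ :=
    H9Hens.relHens_exists_nbhd hPR' (Sum.elim (fun x : s => (x : P a.T))
      (fun x : gens => d' x - algebraMap R' (P a.T) x))
  haveI : Algebra.FinitePresentation A R'' := Algebra.FinitePresentation.trans A R' R''
  choose r'' hr'' using hy''
  let J : Ideal R'' := Ideal.span (Set.range r'')
  let q : R'' →ₐ[A] B := (ρ a.T).comp (IsScalarTower.toAlgHom A R'' (P a.T))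
  have hq : ∀ x ∈ J, q x = 0 := by
    suffices J ≤ RingHom.ker q.toRingHom from fun x hx => this hx
    rw [Ideal.span_le]
    rintro _ ⟨k, rfl⟩
    show ρ a.T (algebraMap R'' (P a.T) (r'' k)) = 0
    rw [hr'']
    rcases k with k | k
    · exact a.le (hs.le (Ideal.subset_span k.2))
    · show ρ a.T (d' k - algebraMap R' (P a.T) k) = 0
      rw [map_sub, sub_eq_zero]
      refine (show ρ a.T (d' k) = ev a (d k) by rw [← hd']; rfl).trans ?_
      exact hid _
  let χ : (R'' ⧸ J) →ₐ[A] B := Ideal.Quotient.liftₐ J q hq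
  letI : Algebra (R'' ⧸ J) B := χ.toRingHom.toAlgebra
  haveI : IsScalarTower A (R'' ⧸ J) B := IsScalarTower.of_algebraMap_eq fun x => (χ.commutes x).symm
  refine ⟨R'' ⧸ J, inferInstance, inferInstance, inferInstance, inferInstance,
    Algebra.FinitePresentation.quotient (Submodule.fg_span (Set.finite_range r'')), ?_⟩
  let K : Ideal (P a.T) := J.map (algebraMap R'' (P a.T))
  refine H9Hens.relHens_quotient hPR'' (Ideal.Quotient.mkₐ A J) Ideal.Quotient.mk_surjective (ρ a.T)
    (fun x => by obtain ⟨y, hy⟩ := hsurjev x; obtain ⟨y, rfl⟩ := Ideal.Quotient.mk_surjective y; exact ⟨y, hy⟩)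
    (fun x => rfl) ?_
  rw [show RingHom.ker (Ideal.Quotient.mkₐ A J) = J from Ideal.mk_ker]
  intro x hx
  show x ∈ K
  have hJK : a.J ≤ K := by
    rw [← hs, Ideal.span_le]
    intro y hy
    rw [← show algebraMap R'' (P a.T) (r'' (Sum.inl ⟨y, hy⟩)) = y from hr'' _]
    exact Ideal.mem_map_of_mem _ (Ideal.subset_span ⟨_, rfl⟩)
  haveI : HenselianRing (P a.T ⧸ K) (I.map (algebraMap A (P a.T ⧸ K))) := by
    have := H9Hens.henselianRing_of_isIntegral (I := I.map (algebraMap A (P a.T))) (P a.T ⧸ K)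
    rwa [Ideal.map_map, ← IsScalarTower.algebraMap_eq] at this
  let g : Ra a →ₐ[A] P a.T ⧸ K :=
    Ideal.Quotient.liftₐ a.J (Ideal.Quotient.mkₐ A K) fun y hy => Ideal.Quotient.eq_zero_iff_mem.mpr (hJK hy)
  have key : (g.comp φ).comp (ρ a.T) = Ideal.Quotient.mkₐ A K := by
    refine H9Hens.relHens_ext hPR' fun y => ?_
    suffices ((g.comp φ).comp (ρ a.T)).comp (IsScalarTower.toAlgHom A R' (P a.T)) =
        (Ideal.Quotient.mkₐ A K).comp (IsScalarTower.toAlgHom A R' (P a.T)) from DFunLike.congr_fun this y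
    refine AlgHom.ext_of_adjoin_eq_top hgens fun z hz => ?_
    show g (d ⟨z, hz⟩) = Ideal.Quotient.mk K (algebraMap R' (P a.T) z)
    rw [← hd']
    refine (Ideal.Quotient.eq.mpr ?_ : Ideal.Quotient.mk K (d' ⟨z, hz⟩) = _)
    rw [← show algebraMap R'' (P a.T) (r'' (Sum.inr ⟨z, hz⟩)) = d' ⟨z, hz⟩ - algebraMap R' (P a.T) z from hr'' _]
    exact Ideal.mem_map_of_mem _ (Ideal.subset_span ⟨_, rfl⟩)
  rw [← Ideal.Quotient.eq_zero_iff_mem]
  refine (DFunLike.congr_fun key x).symm.trans ?_
  show g (φ (ρ a.T x)) = 0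
  rw [show ρ a.T x = 0 from hx, map_zero, map_zero]

end Groth.Agent.S17618
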