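import Groth.Statements.S17619
import Groth.Agent.H8Norm.RetractionUnivInj

set_option autoImplicit false
universe u
open FlatMor

namespace Groth.Agent.S17619

/-- Let A be a Noetherian ring and B a smooth A-algebra whose fibres are geometrically integral, and let
u : B → A be an A-algebra retraction with kernel I (the situation reached, after a faithfully flat
base change, in the proof that flat and pure modules are projective). Let B̂ be the I-adic
completion of B, presented as a B-algebra, compatibly an A-algebra, that is I B̂-adically complete
and for which every truncation B/I^n → B̂/I^n B̂ is bijective. Then the canonical map B → B̂ is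
universally injective over A: it remains injective after tensoring over A with any A-module (modules
in the universe of A). -/
theorem result (A : Type u) [CommRing A]
    [IsNoetherianRing A] (B : Type u) [CommRing B] [Algebra A B] [Algebra.Smooth A B]
    (hfib : FlatCA.GeomIntegralFibres A B) (u : B →ₐ[A] A)
    (Bh : Type u) [CommRing Bh] [Algebra B Bh] [Algebra A Bh] [IsScalarTower A B Bh]
    [IsAdicComplete ((RingHom.ker u).map (algebraMap B Bh)) Bh]
    (hq : ∀ n : ℕ, Function.Bijective (Ideal.quotientMap ((RingHom.ker u ^ n).map (algebraMap B Bh))
      (algebraMap B Bh) Ideal.le_comap_map)) :
    FlatCA.UnivInj A (IsScalarTower.toAlgHom A B Bh).toLinearMap := by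
  exact H8Norm.RetractionUnivInj.univInj hfib u Bh hq

end Groth.Agent.S17619
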