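import Groth.Statements.S17620
import Groth.Agent.H9Hens.Local
import Groth.Agent.H9Hens.PairHens
-- import your own Groth.Agent.* helpers here

set_option autoImplicit false
universe u
open Hensel

namespace Groth.Agent.S17620

/-- Let R be a local ring and J an ideal of R contained in the maximal ideal, let H be a Henselization
of the pair (R, J) which is a local ring with local structure map R → H, and let S be a strict
Henselization of the local ring H. Then S, with its composite R-algebra structure, is a strict
Henselization of the local ring R. (This is the identification of the strict Henselization of the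
local ring of a scheme at a point with that of the local ring of its Henselization along a closed
subscheme through the point.) -/
theorem result
    (R : Type u) [CommRing R] [IsLocalRing R] (J : Ideal R) (hJ : J ≤ IsLocalRing.maximalIdeal R)
    (H : Type u) [CommRing H] [IsLocalRing H] [Algebra R H] [IsLocalHom (algebraMap R H)]
    (hH : Hens2.IsPairHenselization R J H)
    (S : Type u) [CommRing S] [IsLocalRing S] [Algebra H S] [IsLocalHom (algebraMap H S)]
    [Hensel.IsStrictHenselization H S]
    [Algebra R S] [IsScalarTower R H S] [IsLocalHom (algebraMap R S)] :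
    Hensel.IsStrictHenselization R S := by
  have hJH : J.map (algebraMap R H) ≤ IsLocalRing.maximalIdeal H :=
    Ideal.map_le_iff_le_comap.mpr fun x hx => (IsLocalRing.mem_maximalIdeal _).mpr fun h =>
      (IsLocalRing.mem_maximalIdeal x).mp (hJ hx) (isUnit_of_map_unit _ x h)
  have hres : Function.Surjective (IsLocalRing.ResidueField.map (algebraMap R H)) := by
    intro y
    obtain ⟨x, rfl⟩ := IsLocalRing.residue_surjective y
    obtain ⟨z, hz⟩ := (H9Hens.pairHenselization_quotient_pow_bijective hH 1).2
      (Ideal.Quotient.mk _ x)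
    obtain ⟨a, rfl⟩ := Ideal.Quotient.mk_surjective z
    rw [Ideal.quotientMap_mk, Ideal.Quotient.eq, pow_one] at hz
    exact ⟨IsLocalRing.residue R a, Ideal.Quotient.eq.mpr (hJH hz)⟩
  let e : IsLocalRing.ResidueField R ≃+* IsLocalRing.ResidueField H :=
    RingEquiv.ofBijective _ ⟨RingHom.injective _, hres⟩
  have hcomp : (IsLocalRing.ResidueField.map (algebraMap H S)).comp
      (IsLocalRing.ResidueField.map (algebraMap R H)) =
      IsLocalRing.ResidueField.map (algebraMap R S) := by
    rw [← IsLocalRing.ResidueField.map_comp]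
    congr 1
    exact (IsScalarTower.algebraMap_eq R H S).symm
  have hsc := Hensel.IsStrictHenselization.isSepClosure (R := H) (S := S)
  refine ⟨Hensel.IsStrictHenselization.henselian (R := H), ⟨hsc.1, ?_⟩,
    fun T _ _ f _ τ hτ => ?_⟩
  · have := hsc.2
    refine Algebra.IsSeparable.of_equiv_equiv e.symm (RingEquiv.refl _) (RingHom.ext fun y => ?_)
    obtain ⟨z, rfl⟩ := e.surjective y
    show algebraMap _ (IsLocalRing.ResidueField S) (e.symm (e z)) = algebraMap _ _ (e z)
    rw [e.symm_apply_apply]
    exact (RingHom.congr_fun hcomp z).symm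
  have : HenselianRing T (IsLocalRing.maximalIdeal T) := inferInstance
  obtain ⟨g₀, hg₀, hg₀u⟩ := hH.2 T _ f this (Ideal.map_le_iff_le_comap.mpr fun x hx =>
    (IsLocalRing.mem_maximalIdeal _).mpr fun h =>
      (IsLocalRing.mem_maximalIdeal x).mp (hJ hx) (isUnit_of_map_unit f x h))
  have : IsLocalHom g₀ := ⟨fun x hx => by
    by_contra hcon
    obtain ⟨z, hz⟩ := (H9Hens.pairHenselization_quotient_pow_bijective hH 1).2
      (Ideal.Quotient.mk _ x)
    obtain ⟨a, rfl⟩ := Ideal.Quotient.mk_surjective z
    rw [Ideal.quotientMap_mk, Ideal.Quotient.eq, pow_one] at hz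
    have ha : ¬ IsUnit a := fun ha => (IsLocalRing.mem_maximalIdeal _).mp
      (sub_add_cancel (algebraMap R H a) x ▸ Ideal.add_mem _ (hJH hz)
        ((IsLocalRing.mem_maximalIdeal _).mpr hcon)) (ha.map _)
    have h1 : f a - g₀ x ∈ IsLocalRing.maximalIdeal T := by
      rw [← hg₀, RingHom.comp_apply, ← map_sub]
      have := Ideal.mem_map_of_mem g₀ hz
      rw [Ideal.map_map, hg₀] at this
      exact (Ideal.map_le_iff_le_comap (f := f) (K := IsLocalRing.maximalIdeal T)).mpr (fun y hy => (IsLocalRing.mem_maximalIdeal _).mpr fun h =>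
        (IsLocalRing.mem_maximalIdeal y).mp (hJ hy) (isUnit_of_map_unit f y h)) this
    refine (IsLocalRing.mem_maximalIdeal _).mp ?_ hx
    rw [← sub_sub_cancel (f a) (g₀ x)]
    exact Ideal.sub_mem _ ((IsLocalRing.mem_maximalIdeal _).mpr fun h =>
      ha (isUnit_of_map_unit f a h)) h1⟩
  have hτ' : τ.comp (IsLocalRing.ResidueField.map (algebraMap H S)) =
      IsLocalRing.ResidueField.map g₀ := by
    refine RingHom.ext fun y => ?_
    obtain ⟨z, rfl⟩ := hres y
    have h1 := RingHom.congr_fun hτ z
    rw [← hcomp] at h1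
    refine h1.trans ?_
    obtain ⟨r, rfl⟩ := IsLocalRing.residue_surjective z
    show IsLocalRing.residue T (f r) = IsLocalRing.residue T (g₀ (algebraMap R H r))
    rw [← RingHom.comp_apply g₀, hg₀]
  obtain ⟨g, ⟨hg1, hg2⟩, hgu⟩ :=
    Hensel.IsStrictHenselization.universal (R := H) (S := S) T g₀ τ hτ'
  refine ⟨g, ⟨?_, hg2⟩, fun g' hg' => hgu g' ⟨hg₀u _ ?_, hg'.2⟩⟩
  · rw [IsScalarTower.algebraMap_eq R H S, ← RingHom.comp_assoc, hg1, hg₀]
  · show (g'.comp (algebraMap H S)).comp (algebraMap R H) = f
    rw [RingHom.comp_assoc, ← IsScalarTower.algebraMap_eq]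
    exact hg'.1

end Groth.Agent.S17620
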