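import Groth.Statements.S17623
import Groth.Agent.H22Alg.VolHighPull

set_option autoImplicit false
universe u
open CategoryTheory CategoryTheory.Limits AlgebraicGeometry
open Variety

namespace Groth.Agent.S17623

/-- Let X and Y be integral schemes, proper over an algebraically closed field k of characteristic zero
and each admitting an ample invertible module (stated in the source over the complex numbers), with
X of dimension n, and let f : Y → X be a k-morphism which is dominant and generically finite of
degree d ≥ 1: f maps the generic point of Y to the generic point of X and the residue-field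
extension there has finite degree d (so f is proper and surjective and Y has dimension n). Then for
every invertible O_X-module L and every i ≥ 0, ĥ^i(Y, f^*L) = d · ĥ^i(X, L), where ĥ^i(−, L) =
limsup_m dim_k H^i(−, L^{⊗m}) · n!/m^n. -/
theorem result (k : Type u) [Field k] [IsAlgClosed k] [CharZero k]
    (X Y : Scheme.{u}) [X.Over (Spec (CommRingCat.of k))] [Y.Over (Spec (CommRingCat.of k))]
    [AlgebraicGeometry.IsIntegral X] [AlgebraicGeometry.IsIntegral Y]
    [IsProper (X ↘ Spec (CommRingCat.of k))] [IsProper (Y ↘ Spec (CommRingCat.of k))]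
    (hXproj : ∃ A : X.Modules, CohB1.IsAmple A) (hYproj : ∃ B : Y.Modules, CohB1.IsAmple B)
    (n : ℕ) (hn : topologicalKrullDim X = n)
    (f : Y ⟶ X) (hf : f ≫ (X ↘ Spec (CommRingCat.of k)) = Y ↘ Spec (CommRingCat.of k))
    (hdom : f.base (genericPoint Y) = genericPoint X) (d : ℕ) (hd : f.residueDegree (genericPoint Y) = d)
    (hd0 : 1 ≤ d) (L : X.Modules) (hL : PicF.IsInvertible L) (i : ℕ) :
    W4c5asymptcohfn.hhat k Y n i ((Scheme.Modules.pullback f).obj L) =
      (d : ℝ) * W4c5asymptcohfn.hhat k X n i L := by
  obtain ⟨A, hA⟩ := hXproj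
  obtain ⟨AY, hAY⟩ := hYproj
  subst hd
  haveI := Groth.Agent.H28Int.isNoetherian k (X := X)
  haveI : IsProper f := by
    haveI : IsProper (f ≫ (X ↘ Spec (CommRingCat.of k))) := hf ▸ inferInstance
    exact IsProper.of_comp f (X ↘ Spec (CommRingCat.of k))
  have hY := (Groth.Agent.H22Alg.VolHighPull.dim_eq k f hf hdom hd0).trans hn
  obtain ⟨G, hG, hP, hnear⟩ := Groth.Agent.H22Alg.VolHighPull.exists_near_push k hAY hY.le f hf hL i
  have h2 := Groth.Agent.H22Alg.VolHighPush.near_genRank k hA hn.le hP hL i
  rw [Groth.Agent.H22Alg.VolHighPull.genRank_push_invertible f hdom hd0 hG hP] at h2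
  obtain ⟨C, hC⟩ := Groth.Agent.H22Alg.VolHhat.bdd_pow k hA hn.le hL i
  exact (Groth.Agent.H22Alg.VolHhat.rvol_near (hnear.trans h2) (C := _)
    (fun m => (Nat.mul_le_mul_left _ (hC m)).trans_eq (mul_assoc _ _ _).symm)).trans
    (Groth.Agent.H22Alg.VolHhat.rvol_const_mul _ hC)

end Groth.Agent.S17623
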