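import Groth.Statements.S17624
import Groth.Agent.H22Alg.VolHighPull

set_option autoImplicit false
universe u
open CategoryTheory CategoryTheory.Limits AlgebraicGeometry
open Variety

namespace Groth.Agent.S17624

/-- Let X and Y be integral schemes, proper over an algebraically closed field k of characteristic zero
and each admitting an ample invertible module (stated in the source over the complex numbers), of
dimensions n and e with e > n, and let f : Y → X be a dominant k-morphism (so proper and
surjective). Then for every invertible O_X-module L and every i ≥ 0, ĥ^i(Y, f^*L) = 0, where ĥ^i(Y,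
M) = limsup_m dim_k H^i(Y, M^{⊗m}) · e!/m^e is normalised by the dimension e of Y. -/
theorem result (k : Type u) [Field k] [IsAlgClosed k] [CharZero k]
    (X Y : Scheme.{u}) [X.Over (Spec (CommRingCat.of k))] [Y.Over (Spec (CommRingCat.of k))]
    [AlgebraicGeometry.IsIntegral X] [AlgebraicGeometry.IsIntegral Y]
    [IsProper (X ↘ Spec (CommRingCat.of k))] [IsProper (Y ↘ Spec (CommRingCat.of k))]
    (hXproj : ∃ A : X.Modules, CohB1.IsAmple A) (hYproj : ∃ B : Y.Modules, CohB1.IsAmple B)
    (n e : ℕ) (hn : topologicalKrullDim X = n) (he : topologicalKrullDim Y = e) (hne : n < e)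
    (f : Y ⟶ X) (hf : f ≫ (X ↘ Spec (CommRingCat.of k)) = Y ↘ Spec (CommRingCat.of k))
    (hdom : f.base (genericPoint Y) = genericPoint X) (L : X.Modules) (hL : PicF.IsInvertible L) (i : ℕ) :
    W4c5asymptcohfn.hhat k Y e i ((Scheme.Modules.pullback f).obj L) = 0 := by
  obtain ⟨A, hA⟩ := hXproj
  obtain ⟨AY, hAY⟩ := hYproj
  obtain ⟨G, -, hP, hnear⟩ := Groth.Agent.H22Alg.VolHighPull.exists_near_push k hAY he.le f hf hL i
  obtain ⟨C, hC⟩ := Groth.Agent.H22Alg.VolHigh.bdd k hA hP (r := n) (Groth.Agent.H22Alg.VolHhat.dim_support_le hn.le _) L hL i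
  exact (Groth.Agent.H22Alg.VolHhat.rvol_near hnear (fun m => (hC m).trans (Nat.mul_le_mul_left C
    (Nat.pow_le_pow_right (Nat.succ_pos m) hne.le)))).trans (Groth.Agent.H22Alg.VolHhat.rvol_eq_zero hne hC)

end Groth.Agent.S17624
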