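import Groth.Statements.S17628
import Groth.Agent.H22Alg.VolHighPull

set_option autoImplicit false
universe u
open CategoryTheory CategoryTheory.Limits AlgebraicGeometry
open Variety

namespace Groth.Agent.S17628

/-- Let X be an integral scheme, proper over an algebraically closed field k of characteristic zero and
admitting an ample invertible module, of dimension n (stated in the source over the complex
numbers), let 0 → A → B → C → 0 be a short exact sequence of coherent O_X-modules and L an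
invertible O_X-module. If the support of A has dimension < n, then limsup_m dim_k H^i(X, B ⊗ L^{⊗m})
· n!/m^n = limsup_m dim_k H^i(X, C ⊗ L^{⊗m}) · n!/m^n for every i ≥ 0. -/
theorem result (k : Type u) [Field k] [IsAlgClosed k] [CharZero k] (X : Scheme.{u})
    [X.Over (Spec (CommRingCat.of k))] [AlgebraicGeometry.IsIntegral X]
    [IsProper (X ↘ Spec (CommRingCat.of k))] (hproj : ∃ A : X.Modules, CohB1.IsAmple A)
    (n : ℕ) (hn : topologicalKrullDim X = n)
    (S : ShortComplex X.Modules) (hS : S.ShortExact)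
    (hA : Coh.IsCoh S.X₁) (hB : Coh.IsCoh S.X₂) (hC : Coh.IsCoh S.X₃)
    (hdim : topologicalKrullDim (CohB1.support S.X₁) < (n : WithBot ℕ∞))
    (L : X.Modules) (hL : PicF.IsInvertible L) (i : ℕ) :
    W4c5asymptcohfn.hhatF k X n i S.X₂ L = W4c5asymptcohfn.hhatF k X n i S.X₃ L := by
  obtain ⟨A, hA'⟩ := hproj
  obtain ⟨C, hC'⟩ := Groth.Agent.H22Alg.VolHigh.bdd k hA' hC (r := n) (Groth.Agent.H22Alg.VolHhat.dim_support_le hn.le _) L hL i
  obtain ⟨C₁, h₁⟩ := Groth.Agent.H22Alg.VolHigh.small k hA' n S.X₁ hA hdim L hL i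
  obtain ⟨C₂, h₂⟩ := Groth.Agent.H22Alg.VolHigh.small k hA' n S.X₁ hA hdim L hL (i + 1)
  refine Groth.Agent.H22Alg.VolHhat.rvol_near ⟨C₁ + C₂, fun m => ?_⟩ hC'
  obtain ⟨a, -, b⟩ := Groth.Agent.H22Alg.VolHigh.seq_ineq k hS hA hB hC (Groth.Agent.H11Ample.isInvertible_tensorPow hL m) i
  have c₁ := h₁ m
  have c₂ := h₂ m
  rw [Nat.add_mul]
  simp only [Groth.Agent.H25Index.hd] at a b c₁ c₂ ⊢
  constructor <;> omega

end Groth.Agent.S17628
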