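import Groth.Statements.S1763
import Groth.Agent.H4LC.LC
import Groth.Agent.H4LC.Torsion
import Mathlib.RingTheory.Localization.Integer
import Groth.Agent.H8Props.FieldDimRing
import Mathlib.RingTheory.Ideal.AssociatedPrime.Finiteness

set_option autoImplicit false
universe u
open LocCoh


namespace Groth.Agent.S1763

/-- Fix a Noetherian ring A, an ideal I of A and a finitely generated A-module M. The local cohomology
module H¹_I(M) is finitely generated over A if and only if, for each associated prime p of M with I
⊄ p, the module H¹_I(A/p) is finitely generated over A. (Affine form, through finiteness of H¹_I, of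
a statement about coherence of direct images along the inclusion of the open complement of V(I).) -/
theorem result (A : Type u) [CommRing A] [IsNoetherianRing A] (I : Ideal A) (M : Type u) [AddCommGroup M] [Module A M] [Module.Finite A M] : Module.Finite A (LocCoh.H I 1 M) ↔ ∀ p : Ideal A, p ∈ associatedPrimes A M → ¬ I ≤ p → Module.Finite A (LocCoh.H I 1 (A ⧸ p)) := by
  classical
  have hzero : ∀ (N : Type u) [AddCommGroup N] [Module A N] [Module.Finite A N], Module.Finite A (LocCoh.H I 0 N) := by
    intro N _ _ _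
    exact Module.Finite.equiv (H4LC.zeroEquiv I N).symm
  -- finiteness passes to the left end
  have hleft : ∀ {L N P : Type u} [AddCommGroup L] [Module A L] [AddCommGroup N] [Module A N] [AddCommGroup P]
      [Module A P] [Module.Finite A P] {f : L →ₗ[A] N} {g : N →ₗ[A] P}, Function.Injective f → Function.Surjective g →
      Function.Exact f g → Module.Finite A (LocCoh.H I 1 N) → Module.Finite A (LocCoh.H I 1 L) := by
    intro L N P _ _ _ _ _ _ _ f g hf hg hfg hN
    haveI := isNoetherian_of_isNoetherianRing_of_finite A (LocCoh.H I 1 N)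
    haveI := hzero P
    haveI := isNoetherian_of_isNoetherianRing_of_finite A (LocCoh.H I 0 P)
    haveI : IsNoetherian A (LocCoh.H I 1 L) := isNoetherian_of_range_eq_ker (H4LC.δH I hf hg hfg 0) (H4LC.Hmap I f 1)
      (LinearMap.exact_iff.1 (H4LC.exactH₁ I hf hg hfg 0)).symm
    exact Module.IsNoetherian.finite A _
  refine ⟨fun hM p hp _ => ?_, fun h => ?_⟩
  · obtain ⟨ψ, hψ⟩ : ∃ ψ : (A ⧸ p) →ₗ[A] M, Function.Injective ψ := by
      obtain ⟨-, x, hx⟩ := isAssociatedPrime_iff.1 hp
      refine ⟨Submodule.liftQ p (LinearMap.toSpanSingleton A M x) fun a ha => ?_, ?_⟩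
      · rw [hx, Submodule.mem_colon_singleton, Submodule.mem_bot] at ha
        exact ha
      · rw [← LinearMap.ker_eq_bot, Submodule.ker_liftQ_eq_bot]
        intro a ha
        rw [hx, Submodule.mem_colon_singleton, Submodule.mem_bot]
        exact ha
    exact hleft hψ (Submodule.mkQ_surjective _) (LinearMap.exact_map_mkQ_range ψ) hM
  have hmid : ∀ {L N P : Type u} [AddCommGroup L] [Module A L] [AddCommGroup N] [Module A N] [AddCommGroup P]
      [Module A P] {f : L →ₗ[A] N} {g : N →ₗ[A] P}, Function.Injective f → Function.Surjective g →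
      Function.Exact f g → Module.Finite A (LocCoh.H I 1 L) → Module.Finite A (LocCoh.H I 1 P) →
      Module.Finite A (LocCoh.H I 1 N) := by
    intro L N P _ _ _ _ _ _ f g hf hg hfg hL hP
    haveI := isNoetherian_of_isNoetherianRing_of_finite A (LocCoh.H I 1 L)
    haveI := isNoetherian_of_isNoetherianRing_of_finite A (LocCoh.H I 1 P)
    haveI : IsNoetherian A (LocCoh.H I 1 N) := isNoetherian_of_range_eq_ker (H4LC.Hmap I f 1) (H4LC.Hmap I g 1)
      (LinearMap.exact_iff.1 (H4LC.exactH₂ I hf hg hfg 1)).symm
    exact Module.IsNoetherian.finite A _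
  have hsub : ∀ (N : Type u) [AddCommGroup N] [Module A N], Subsingleton N → Module.Finite A (LocCoh.H I 1 N) := by
    intro N _ _ hN
    have h0 := H4LC.subsingleton_H_of_isPowerTorsion I 1 N (fun m => ⟨0, fun a _ => Subsingleton.elim _ _⟩) one_pos
    exact @Module.Finite.of_finite A (LocCoh.H I 1 N) _ _ _ (@Finite.of_subsingleton _ h0)
  suffices hkey : ∀ N : Submodule A M, associatedPrimes A (M ⧸ N) ⊆ associatedPrimes A M →
      Module.Finite A (LocCoh.H I 1 (M ⧸ N)) by
    let e : (M ⧸ (⊥ : Submodule A M)) ≃ₗ[A] M := Submodule.quotEquivOfEqBot ⊥ rfl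
    exact hleft (f := e.symm.toLinearMap) e.symm.injective (Submodule.mkQ_surjective _)
      (LinearMap.exact_map_mkQ_range _) (hkey ⊥ (associatedPrimes.subset_of_injective (f := e.toLinearMap) e.injective))
  intro N
  induction N using WellFoundedGT.induction with
  | _ N ih =>
    intro hass
    by_cases hN : Subsingleton (M ⧸ N)
    · exact hsub _ hN
    haveI := not_subsingleton_iff_nontrivial.1 hN
    obtain ⟨p, hp, hmax⟩ := (associatedPrimes.finite A (M ⧸ N)).exists_maximal (associatedPrimes.nonempty A (M ⧸ N))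
    haveI : p.IsPrime := IsAssociatedPrime.isPrime hp
    obtain ⟨G, hG⟩ := (IsNoetherian.noetherian p : p.FG)
    let ψ : (M ⧸ N) →ₗ[A] (G → M ⧸ N) := LinearMap.pi fun c => (c : A) • LinearMap.id
    let T := LinearMap.ker ψ
    have hTmem : ∀ t : M ⧸ N, t ∈ T ↔ ∀ a ∈ p, a • t = 0 := fun t => by
      refine ⟨fun ht a ha => ?_, fun ht => LinearMap.mem_ker.2 (funext fun c => ht c (hG ▸ Submodule.subset_span c.2))⟩
      rw [← hG] at ha
      induction ha using Submodule.span_induction with
      | mem y hy => exact congrFun (LinearMap.mem_ker.1 ht) ⟨y, hy⟩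
      | zero => exact zero_smul A t
      | add y z _ _ hy hz => rw [add_smul, hy, hz, add_zero]
      | smul r y _ hy => rw [smul_assoc, hy, smul_zero]
    have hTne : T ≠ ⊥ := fun hbot => by
      obtain ⟨hp', x, hx⟩ := isAssociatedPrime_iff.1 hp
      have : x ∈ T := (hTmem x).2 fun a ha => by
        rw [hx, Submodule.mem_colon_singleton, Submodule.mem_bot] at ha
        exact ha
      rw [hbot, Submodule.mem_bot] at this
      exact hp'.ne_top ((Ideal.eq_top_iff_one _).2 (by
        rw [hx, Submodule.mem_colon_singleton, Submodule.mem_bot, this, smul_zero]))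
    let N' : Submodule A M := T.comap N.mkQ
    have hNN' : N < N' := by
      refine lt_of_le_of_ne (fun x hx => ?_) fun he => hTne ?_
      · show N.mkQ x ∈ T
        rw [show N.mkQ x = 0 from (Submodule.Quotient.mk_eq_zero N).2 hx]
        exact zero_mem _
      · refine (Submodule.eq_bot_iff _).2 fun t ht => ?_
        obtain ⟨x, rfl⟩ := N.mkQ_surjective t
        exact (Submodule.Quotient.mk_eq_zero N).2 (he ▸ (show x ∈ N' from ht))
    -- the quotient by `T` embeds in a power
    let g : (M ⧸ N) →ₗ[A] (M ⧸ N') := Submodule.mapQ N N' LinearMap.id hNN'.le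
    have hg : Function.Surjective g := fun y => by
      obtain ⟨x, rfl⟩ := N'.mkQ_surjective y
      exact ⟨N.mkQ x, rfl⟩
    have hexact : Function.Exact T.subtype g := fun y => by
      obtain ⟨x, rfl⟩ := N.mkQ_surjective y
      refine ⟨fun hx => ⟨⟨_, (Submodule.Quotient.mk_eq_zero N').1 hx⟩, rfl⟩, ?_⟩
      rintro ⟨⟨z, hz⟩, hzy⟩
      obtain ⟨w, rfl⟩ := N.mkQ_surjective z
      rw [← hzy]
      exact (Submodule.Quotient.mk_eq_zero N').2 hz
    have hass' : associatedPrimes A (M ⧸ N') ⊆ associatedPrimes A M := by
      let φ : (M ⧸ N') →ₗ[A] (G → M ⧸ N) := N'.liftQ (ψ ∘ₗ N.mkQ) fun x hx => hx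
      have hφ : Function.Injective φ := by
        rw [← LinearMap.ker_eq_bot]
        exact Submodule.ker_liftQ_eq_bot _ _ _ fun x hx => hx
      intro q hq
      obtain ⟨hqp, v, hv⟩ := isAssociatedPrime_iff.1 (associatedPrimes.subset_of_injective hφ hq)
      obtain ⟨c, hc⟩ : ∃ c : G, q = Submodule.colon ⊥ {v c} := by
        have hle : Finset.univ.inf (fun c : G => (⊥ : Submodule A (M ⧸ N)).colon {v c}) ≤ q := fun a ha => by
          rw [hv, Submodule.mem_colon_singleton, Submodule.mem_bot]
          funext c
          have := Submodule.mem_finsetInf.1 ha c (Finset.mem_univ c)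
          rw [Submodule.mem_colon_singleton, Submodule.mem_bot] at this
          exact this
        obtain ⟨c, -, hc⟩ := hqp.inf_le'.1 hle
        refine ⟨c, le_antisymm (fun a ha => ?_) hc⟩
        rw [hv, Submodule.mem_colon_singleton, Submodule.mem_bot] at ha
        rw [Submodule.mem_colon_singleton, Submodule.mem_bot]
        exact congrFun ha c
      exact hass (isAssociatedPrime_iff.2 ⟨hqp, v c, hc⟩)
    -- `T` is torsion free over `A/p`
    have htor : Module.IsTorsionBySet A T (p : Set A) := fun t a => Subtype.ext ((hTmem t).1 t.2 a a.2)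
    letI := htor.module
    haveI : IsScalarTower A (A ⧸ p) T := htor.isScalarTower
    haveI : Module.Finite (A ⧸ p) T := Module.Finite.of_restrictScalars_finite A (A ⧸ p) T
    haveI : Module.IsTorsionFree (A ⧸ p) T := Module.IsTorsionFree.of_smul_eq_zero fun r t hrt => by
      obtain ⟨a, rfl⟩ := Ideal.Quotient.mk_surjective r
      rw [or_iff_not_imp_right]
      intro ht
      have ht' : (t : M ⧸ N) ≠ 0 := fun h => ht (Subtype.ext h)
      obtain ⟨q, hq, hle⟩ := exists_le_isAssociatedPrime_of_isNoetherianRing A (t : M ⧸ N) ht'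
      have hpq : p ≤ q := fun b hb => hle (by
        rw [Submodule.mem_colon_singleton, Submodule.mem_bot]; exact (hTmem t).1 t.2 b hb)
      refine Ideal.Quotient.eq_zero_iff_mem.2 (hmax hq hpq (hle ?_))
      rw [Submodule.mem_colon_singleton, Submodule.mem_bot]
      exact congrArg Subtype.val hrt
    obtain ⟨r, φ, hφ⟩ := H8Props.FieldDim.exists_injective_pi (A ⧸ p) T
    have hquot : Module.Finite A (LocCoh.H I 1 (A ⧸ p)) := by
      by_cases hIp : I ≤ p
      · have h0 := H4LC.subsingleton_H_of_isPowerTorsion I 1 (A ⧸ p) (fun m => ⟨1, fun a ha => by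
          obtain ⟨c, rfl⟩ := Submodule.Quotient.mk_surjective p m
          rw [← Submodule.Quotient.mk_smul, Submodule.Quotient.mk_eq_zero]
          exact p.mul_mem_right c (hIp ((pow_one I).le ha))⟩) one_pos
        exact @Module.Finite.of_finite A (LocCoh.H I 1 (A ⧸ p)) _ _ _ (@Finite.of_subsingleton _ h0)
      · exact h p (hass hp) hIp
    have hpow : ∀ r : ℕ, Module.Finite A (LocCoh.H I 1 (Fin r → A ⧸ p)) := fun r => by
      induction r with
      | zero => exact hsub _ inferInstance
      | succ r ihr =>
        let e := Fin.consLinearEquiv A (fun _ : Fin (r + 1) => A ⧸ p)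
        refine hmid (f := e.toLinearMap ∘ₗ LinearMap.inl A (A ⧸ p) (Fin r → A ⧸ p))
          (g := LinearMap.snd A (A ⧸ p) (Fin r → A ⧸ p) ∘ₗ e.symm.toLinearMap)
          (e.injective.comp (LinearMap.inl_injective (R := A))) ((LinearMap.snd_surjective (R := A)).comp e.symm.surjective) (fun y => ?_) hquot ihr
        obtain ⟨⟨y₁, y₂⟩, rfl⟩ := e.surjective y
        simp [LinearMap.inl_apply, e.injective.eq_iff, Prod.ext_iff, eq_comm]
    have hT : Module.Finite A (LocCoh.H I 1 T) :=
      hleft (f := φ.restrictScalars A) hφ (Submodule.mkQ_surjective _) (LinearMap.exact_map_mkQ_range _) (hpow r)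
    exact hmid (Submodule.subtype_injective T) hg hexact hT (ih N' hNN' hass')

end Groth.Agent.S1763
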