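import Groth.Statements.S17630
import Groth.Agent.H10Inj.HHSeq
import Groth.Agent.H10Coh.FinType2
-- import your own Groth.Agent.* helpers here

set_option autoImplicit false
set_option linter.style.haveILetI false
universe u
open CategoryTheory CategoryTheory.Limits AlgebraicGeometry
open Coherent

namespace Groth.Agent.S17630


open Groth.Agent.H10Inj.HHSeq

open CategoryTheory.Limits in
/-- The inequalities read off from the long exact sequence. -/
theorem bounds {k : Type u} [Field k] {X : Scheme.{u}} [X.Over (Spec (CommRingCat.of k))]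
    [IsProper (X ↘ Spec (CommRingCat.of k))] (S : ShortComplex X.Modules) (hS : S.ShortExact)
    (h₁ : Coh.IsCoh S.X₁) (h₂ : Coh.IsCoh S.X₂) (h₃ : Coh.IsCoh S.X₃) (i : ℕ) :
    Module.finrank k (Coh.HH X S.X₁ 0) ≤ Module.finrank k (Coh.HH X S.X₂ 0) ∧
    Module.finrank k (Coh.HH X S.X₂ i) ≤
      Module.finrank k (Coh.HH X S.X₁ i) + Module.finrank k (Coh.HH X S.X₃ i) ∧
    Module.finrank k (Coh.HH X S.X₁ (i + 1)) ≤
      Module.finrank k (Coh.HH X S.X₃ i) + Module.finrank k (Coh.HH X S.X₂ (i + 1)) := by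
  obtain ⟨f, g, δ, h0, hB, -, hA⟩ := exists_les k S hS
  haveI := fun n => H10Coh.finite_HH_proper k X S.X₁ h₁ n
  haveI := fun n => H10Coh.finite_HH_proper k X S.X₂ h₂ n
  haveI := fun n => H10Coh.finite_HH_proper k X S.X₃ h₃ n
  simp only [← len_eq_finrank]
  exact ⟨len_le_of_injective h0, len_mid_le (hB i), len_mid_le (hA i)⟩


/-- Let X be a scheme proper over a field k and 0 → C_0 → C_1 → C_2 → ⋯ an exact sequence of coherent
O_X-modules: the composite of consecutive maps is zero, the sequence is exact at every C_j with j ≥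
1, and C_0 → C_1 is a monomorphism (the source numbers the sequence from C_{−1}; its argument and
its application use that the first map is injective). Then for every i ≥ 0, |dim_k H^i(X, C_0) −
dim_k H^i(X, C_1)| ≤ Σ_{j=1}^{i+1} dim_k H^{i+1−j}(X, C_{j+1}) + Σ_{j=1}^{i} dim_k H^{i−j}(X,
C_{j+1}). (The published bound is 2 · Σ_{j=1}^{i+1} dim_k H^{i+1−j}(X, C_{j+1}); the argument given
yields the two sums here, and the published form fails for the sequence 0 → O(−3) → O(−1) → O_Z → 0
on the projective line, Z a subscheme of length 2, with i = 1: the left side is 2 and the published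
right side is 0.) -/
theorem result (k : Type u) [Field k] (X : Scheme.{u})
    [X.Over (Spec (CommRingCat.of k))] [IsProper (X ↘ Spec (CommRingCat.of k))]
    (C : ℕ → X.Modules) (hC : ∀ j, Coh.IsCoh (C j)) (d : ∀ j, C j ⟶ C (j + 1))
    (hd : ∀ j, d j ≫ d (j + 1) = 0) [Mono (d 0)]
    (hex : ∀ j, (ShortComplex.mk (d j) (d (j + 1)) (hd j)).Exact) (i : ℕ) :
    |(Module.finrank k (Coh.HH X (C 0) i) : ℤ) - (Module.finrank k (Coh.HH X (C 1) i) : ℤ)| ≤
      (Finset.Icc 1 (i + 1)).sum (fun j => ((Module.finrank k (Coh.HH X (C (j + 1)) (i + 1 - j))) : ℤ)) +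
        (Finset.Icc 1 i).sum (fun j => ((Module.finrank k (Coh.HH X (C (j + 1)) (i - j))) : ℤ)) := by

  haveI : IsLocallyNoetherian X := LocallyOfFiniteType.isLocallyNoetherian (X ↘ Spec (CommRingCat.of k))
  let h : X.Modules → ℕ → ℕ := fun M q => Module.finrank k (Coh.HH X M q)
  let K : ℕ → X.Modules := fun j => kernel (d j)
  have hK : ∀ j, Coh.IsCoh (K j) := fun j => H10Coh.isCoh_kernel (d j) (hC j) (hC (j + 1)).1
  let T : ℕ → ShortComplex X.Modules := fun j => ShortComplex.mk (kernel.ι (d j))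
    (kernel.lift (d (j + 1)) (d j) (hd j))
    (by rw [← cancel_mono (kernel.ι (d (j + 1))), Category.assoc, kernel.lift_ι, kernel.condition, zero_comp])
  have hT : ∀ j, (T j).ShortExact := fun j => by
    have : Epi (kernel.lift (d (j + 1)) (d j) (hd j)) := (hex j).epi_kernelLift
    refine { exact := ?_, mono_f := inferInstance, epi_g := this }
    let φ : T j ⟶ ShortComplex.mk (kernel.ι (d j)) (d j) (kernel.condition _) :=
      { τ₁ := 𝟙 _, τ₂ := 𝟙 _, τ₃ := kernel.ι (d (j + 1))
        comm₁₂ := by simp [T], comm₂₃ := by simp [T] }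
    haveI : Mono φ.τ₃ := inferInstanceAs (Mono (kernel.ι _))
    exact (ShortComplex.exact_iff_of_epi_of_isIso_of_mono φ).2
      (ShortComplex.exact_of_f_is_kernel _ (kernelIsKernel _))
  have hb : ∀ j q, h (K j) 0 ≤ h (C j) 0 ∧ h (C j) q ≤ h (K j) q + h (K (j + 1)) q ∧
      h (K j) (q + 1) ≤ h (K (j + 1)) q + h (C j) (q + 1) := fun j q =>
    bounds (T j) (hT j) (hK j) (hC j) (hK (j + 1)) q
  have hind : ∀ q m, h (K m) q ≤ ∑ j ∈ Finset.range (q + 1), h (C (m + j)) (q - j) := by
    intro q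
    induction q with
    | zero => exact fun m => by simpa using (hb m 0).1
    | succ q ih =>
      intro m
      refine (hb m q).2.2.trans ?_
      rw [Finset.sum_range_succ' _ (q + 1)]
      refine Nat.add_le_add ((ih (m + 1)).trans (le_of_eq (Finset.sum_congr rfl fun j _ => ?_))) (le_of_eq (by simp))
      rw [show m + 1 + j = m + (j + 1) by omega, show q + 1 - (j + 1) = q - j by omega]
  -- the first short exact sequence
  let S : ShortComplex X.Modules := ShortComplex.mk (d 0) (kernel.lift (d 2) (d 1) (hd 1))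
    (by rw [← cancel_mono (kernel.ι (d 2)), Category.assoc, kernel.lift_ι, hd 0, zero_comp])
  have hS : S.ShortExact := by
    have : Epi (kernel.lift (d 2) (d 1) (hd 1)) := (hex 1).epi_kernelLift
    refine { exact := ?_, mono_f := inferInstanceAs (Mono (d 0)), epi_g := this }
    let φ : S ⟶ ShortComplex.mk (d 0) (d 1) (hd 0) :=
      { τ₁ := 𝟙 _, τ₂ := 𝟙 _, τ₃ := kernel.ι (d 2)
        comm₁₂ := by simp [S], comm₂₃ := by simp [S] }
    haveI : Mono φ.τ₃ := inferInstanceAs (Mono (kernel.ι _))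
    exact (ShortComplex.exact_iff_of_epi_of_isIso_of_mono φ).2 (hex 0)
  have hsum : ∀ (F : ℕ → ℤ) n, ∑ j ∈ Finset.Icc 1 n, F j = ∑ j ∈ Finset.range n, F (j + 1) := fun F n => by
    induction n with
    | zero => simp
    | succ n ih => rw [Finset.sum_Icc_succ_top (Nat.le_add_left 1 n), Finset.sum_range_succ, ih]
  have bS := fun q => bounds (k := k) S hS (hC 0) (hC 1) (hK 2) q
  show |(h (C 0) i : ℤ) - (h (C 1) i : ℤ)| ≤
    (∑ j ∈ Finset.Icc 1 (i + 1), (h (C (j + 1)) (i + 1 - j) : ℤ)) + ∑ j ∈ Finset.Icc 1 i, (h (C (j + 1)) (i - j) : ℤ)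
  have hA : (h (K 2) i : ℤ) ≤ ∑ j ∈ Finset.Icc 1 (i + 1), (h (C (j + 1)) (i + 1 - j) : ℤ) := by
    rw [hsum]
    refine (Nat.cast_le.2 (hind i 2)).trans (le_of_eq ?_)
    push_cast
    refine Finset.sum_congr rfl fun j _ => ?_
    rw [show j + 1 + 1 = 2 + j by omega]
  have hu : h (C 1) i ≤ h (C 0) i + h (K 2) i := (bS i).2.1
  rcases i with _ | q
  · have hl : h (C 0) 0 ≤ h (C 1) 0 := (bS 0).1
    rw [abs_le]
    simp only [show Finset.Icc 1 0 = ∅ from rfl, Finset.sum_empty, add_zero] at *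
    constructor <;> omega
  · have hl : h (C 0) (q + 1) ≤ h (K 2) q + h (C 1) (q + 1) := (bS q).2.2
    have hB : (h (K 2) q : ℤ) ≤ ∑ j ∈ Finset.Icc 1 (q + 1), (h (C (j + 1)) (q + 1 - j) : ℤ) := by
      rw [hsum]
      refine (Nat.cast_le.2 (hind q 2)).trans (le_of_eq ?_)
      push_cast
      refine Finset.sum_congr rfl fun j _ => ?_
      rw [show j + 1 + 1 = 2 + j by omega]
    rw [abs_le]
    constructor <;> omega


end Groth.Agent.S17630
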