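import Groth.Statements.S17631
import Groth.Agent.H10Coh.Growth.Noetherian

set_option autoImplicit false
universe u
open CategoryTheory CategoryTheory.Limits AlgebraicGeometry
open Coherent

namespace Groth.Agent.S17631

open Groth.Agent

/-- Let T be a Noetherian scheme and f : 𝒳 → T a projective morphism, given here as a closed immersion 𝒳
→ P^r_T followed by the projection, let F be a coherent O_𝒳-module and L an invertible O_𝒳-module.
Then there is a constant C, depending only on f, F and L, such that for every point t of T, with 𝒳_t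
the fibre and e its dimension, every m ≥ 1 and every i ≥ 0, dim_{k(t)} H^i(𝒳_t, (F ⊗ L^{⊗m})|_{𝒳_t})
≤ C · m^e. -/
theorem result (T XX : Scheme.{u}) [IsNoetherian T]
    (f : XX ⟶ T) (r : ℕ) (ι : XX ⟶ CohB1.ProjSpaceOver r T) [IsClosedImmersion ι]
    (hι : ι ≫ CohB1.ProjSpaceOver.toBase r T = f)
    (F : XX.Modules) (hF : Coh.IsCoh F) (L : XX.Modules) (hL : PicF.IsInvertible L) :
    ∃ C : ℝ, ∀ (t : T) (e : ℕ), topologicalKrullDim ↥(f.fiber t) = e →
      ∀ (m : ℕ), 1 ≤ m → ∀ i : ℕ,
        (CohIII.fiberRank f (CohB1.tensorMod F (CohB1.tensorPow L m)) i t : ℝ) ≤ C * (m : ℝ) ^ e := by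
  obtain ⟨C, hC⟩ := H10Coh.Growth.growth_uniform f r ι hι hF hL
  exact ⟨(C : ℝ), fun t e he m hm i => by exact_mod_cast hC t e he m hm i⟩

end Groth.Agent.S17631
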