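import Groth.Statements.S17632
import Groth.Agent.H22Alg.VolMultiHhat

set_option autoImplicit false
universe u
open CategoryTheory CategoryTheory.Limits AlgebraicGeometry
open Variety

namespace Groth.Agent.S17632

/-- Let X be an integral scheme, proper over an uncountable algebraically closed field k of
characteristic zero and admitting an ample invertible module, of dimension n (stated in the source
over the complex numbers), L an invertible O_X-module and A an ample invertible O_X-module with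
inverse A', i.e. A ⊗ A' ≅ O_X. Then for every i ≥ 0, (ĥ^i(X, L^{⊗p} ⊗ A') − ĥ^i(X, L^{⊗p})) / p^n
tends to 0 as p → ∞, where ĥ^i(X, M) = limsup_m dim_k H^i(X, M^{⊗m}) · n!/m^n. -/
theorem result (k : Type u) [Field k] [IsAlgClosed k] [CharZero k] [Uncountable k] (X : Scheme.{u})
    [X.Over (Spec (CommRingCat.of k))] [AlgebraicGeometry.IsIntegral X]
    [IsProper (X ↘ Spec (CommRingCat.of k))] (hproj : ∃ A : X.Modules, CohB1.IsAmple A)
    (n : ℕ) (hn : topologicalKrullDim X = n)
    (L : X.Modules) (hL : PicF.IsInvertible L) (A A' : X.Modules) (hA : CohB1.IsAmple A)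
    (hA' : ClSub.IsInverseOf A A') (i : ℕ) :
    Filter.Tendsto (fun p : ℕ =>
        (W4c5asymptcohfn.hhat k X n i (CohB1.tensorMod (CohB1.tensorPow L p) A') -
          W4c5asymptcohfn.hhat k X n i (CohB1.tensorPow L p)) / (p : ℝ) ^ n)
      Filter.atTop (nhds 0) := by
  letI := Groth.Agent.H28Vert.picLaw X
  obtain ⟨B, hB⟩ := hproj
  let g : Fin 2 → PicLoc.PicSet X := ![PicGrp.cls L hL, PicGrp.cls A hA.1]
  obtain ⟨C, hC⟩ := Groth.Agent.H22Alg.VolMultiHhat.hh_lipschitz k g hB hn.le i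
  have hA'i : PicF.IsInvertible A' := by
    obtain ⟨e⟩ := hA'
    exact Groth.Agent.H17.InvertibleTensor.isInvertible_of_tensor_iso A' A
      (Groth.Agent.H10Coh.Tw.commIso _ _ ≪≫ e)
  have key : ∀ p : ℕ, 1 ≤ p →
      |(W4c5asymptcohfn.hhat k X n i (CohB1.tensorMod (CohB1.tensorPow L p) A') -
          W4c5asymptcohfn.hhat k X n i (CohB1.tensorPow L p))| ≤ (C : ℝ) * n * (p : ℝ) ^ (n - 1) := by
    intro p hp
    have hLp := Groth.Agent.H28Vert.isInvertible_tensorPow hL p
    obtain ⟨e₀⟩ := Groth.Agent.H22Alg.VolMulti.nonempty_rep_iso (c := Groth.Agent.H22Alg.VolMulti.z g ![(p : ℤ), 0]) hLp (by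
      rw [Groth.Agent.H28Vert.cls_tensorPow hL, Groth.Agent.H22Alg.VolMulti.z, Fin.prod_univ_two]
      simp [g])
    obtain ⟨e₁⟩ := Groth.Agent.H22Alg.VolMulti.nonempty_rep_iso (c := Groth.Agent.H22Alg.VolMulti.z g ![(p : ℤ), -1])
      (Groth.Agent.H11Ample.isInvertible_tensor hLp hA'i) (by
      have hmul : PicGrp.cls (CohB1.tensorMod (CohB1.tensorPow L p) A')
          (Groth.Agent.H11Ample.isInvertible_tensor hLp hA'i) = PicGrp.cls _ hLp * PicGrp.cls A' hA'i :=
        Subtype.ext (PicGrp.cls_mul_cls_val hLp hA'i).symm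
      rw [hmul, Groth.Agent.H28Vert.cls_tensorPow hL, Groth.Agent.H22Alg.VolMulti.z, Fin.prod_univ_two,
        ← PicGrp.cls_inv_eq_cls hA.1 hA'i hA']
      simp [g])
    rw [Groth.Agent.H22Alg.VolMultiHhat.hhat_congr k e₀, Groth.Agent.H22Alg.VolMultiHhat.hhat_congr k e₁]
    refine (hC p ![(p : ℤ), -1] ![(p : ℤ), 0] ?_ ?_).trans (le_of_eq ?_)
    · intro j; fin_cases j <;> simp <;> omega
    · intro j; fin_cases j <;> simp
    · simp [Fin.sum_univ_two]
  refine squeeze_zero_norm' (a := fun p : ℕ => ((C : ℝ) * n) / p) ?_ (tendsto_const_div_atTop_nhds_zero_nat _)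
  filter_upwards [Filter.eventually_ge_atTop 1] with p hp
  have hp0 : (0 : ℝ) < p := by exact_mod_cast hp
  rw [Real.norm_eq_abs, abs_div, abs_of_pos (pow_pos hp0 n), div_le_div_iff₀ (pow_pos hp0 n) hp0]
  refine (mul_le_mul_of_nonneg_right (key p hp) hp0.le).trans ?_
  rcases Nat.eq_zero_or_pos n with rfl | hn0
  · simp
  rw [mul_assoc, ← pow_succ, Nat.sub_add_cancel hn0]

end Groth.Agent.S17632
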