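import Groth.Statements.S17633
import Groth.Agent.H22Alg.VolMultiHhat

set_option autoImplicit false
universe u
open CategoryTheory CategoryTheory.Limits AlgebraicGeometry
open Variety

namespace Groth.Agent.S17633

/-- Let X be an integral scheme, proper over an uncountable algebraically closed field k of
characteristic zero and admitting an ample invertible module, of dimension n (the published
statement is over the complex numbers), and let L_1, …, L_r be invertible O_X-modules with inverses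
M_1, …, M_r. For a ∈ ℤ^r write L^a = ⊗_j L_j^{a_j} (negative powers taken through the M_j) and ‖a‖ =
max_j |a_j|. Then for every i (the published statement takes 0 ≤ i ≤ n; for i > n both sides vanish)
there is a constant C such that for all a, b ∈ ℤ^r, |ĥ^i(X, L^a) − ĥ^i(X, L^b)| ≤ C · Σ_{q=1}^{n}
max(‖a‖, ‖b‖)^{n−q} · ‖a − b‖^q, where ĥ^i(X, L) = limsup_m dim_k H^i(X, L^{⊗m}) · n!/m^n. (The
published statement gives this Lipschitz-type estimate for ĥ^i as a function on the rational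
Néron–Severi space with any fixed norm, together with its homogeneity of degree n; restricted to the
classes spanned by L_1, …, L_r with the maximum norm on coordinates it reads as here.) -/
theorem result (k : Type u) [Field k] [IsAlgClosed k] [CharZero k] [Uncountable k] (X : Scheme.{u})
    [X.Over (Spec (CommRingCat.of k))] [AlgebraicGeometry.IsIntegral X]
    [IsProper (X ↘ Spec (CommRingCat.of k))] (hproj : ∃ A : X.Modules, CohB1.IsAmple A)
    (n : ℕ) (hn : topologicalKrullDim X = n)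
    (r : ℕ) (L M : Fin r → X.Modules) (hL : ∀ j, PicF.IsInvertible (L j))
    (hM : ∀ j, ClSub.IsInverseOf (L j) (M j)) (i : ℕ) :
    ∃ C : ℝ, ∀ a b : Fin r → ℤ,
      |W4c5asymptcohfn.hhat k X n i (W4c5asymptcohfn.ztwist X L M a) -
          W4c5asymptcohfn.hhat k X n i (W4c5asymptcohfn.ztwist X L M b)| ≤
        C * (Finset.Icc 1 n).sum (fun q =>
          (max ‖(fun j => ((a j : ℤ) : ℝ))‖ ‖(fun j => ((b j : ℤ) : ℝ))‖) ^ (n - q) *
            ‖(fun j => ((a j - b j : ℤ) : ℝ))‖ ^ q) := by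
  letI := Groth.Agent.H28Vert.picLaw X
  obtain ⟨A, hA⟩ := hproj
  let g : Fin r → PicLoc.PicSet X := fun j => PicGrp.cls (L j) (hL j)
  obtain ⟨C, hC⟩ := Groth.Agent.H22Alg.VolMultiHhat.hh_lipschitz k g hA hn.le i
  refine ⟨(C : ℝ) * n * r, fun a b => ?_⟩
  obtain ⟨ea⟩ := Groth.Agent.H22Alg.VolMultiHhat.ztwist_iso hL hM a
  obtain ⟨eb⟩ := Groth.Agent.H22Alg.VolMultiHhat.ztwist_iso hL hM b
  rw [Groth.Agent.H22Alg.VolMultiHhat.hhat_congr k ea, Groth.Agent.H22Alg.VolMultiHhat.hhat_congr k eb]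
  set T := max ‖(fun j => ((a j : ℤ) : ℝ))‖ ‖(fun j => ((b j : ℤ) : ℝ))‖ with hT
  set N := Finset.univ.sup fun j => max (a j).natAbs (b j).natAbs with hN
  have hT0 : (0 : ℝ) ≤ T := le_max_of_le_left (norm_nonneg _)
  have hNle : (N : ℝ) ≤ T := by
    have h1 : N ≤ ⌊T⌋₊ := Finset.sup_le fun j _ => max_le
      (Nat.le_floor ((le_trans (le_of_eq (by rw [Real.norm_eq_abs, Nat.cast_natAbs, Int.cast_abs]))
        (norm_le_pi_norm (fun j => ((a j : ℤ) : ℝ)) j)).trans (le_max_left _ _)))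
      (Nat.le_floor ((le_trans (le_of_eq (by rw [Real.norm_eq_abs, Nat.cast_natAbs, Int.cast_abs]))
        (norm_le_pi_norm (fun j => ((b j : ℤ) : ℝ)) j)).trans (le_max_right _ _)))
    exact (Nat.cast_le.2 h1).trans (Nat.floor_le hT0)
  have h := hC N a b
    (fun j => le_trans (le_max_left _ _) (Finset.le_sup (f := fun j => max (a j).natAbs (b j).natAbs) (Finset.mem_univ j)))
    (fun j => le_trans (le_max_right _ _) (Finset.le_sup (f := fun j => max (a j).natAbs (b j).natAbs) (Finset.mem_univ j)))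
  refine h.trans ?_
  rcases Nat.eq_zero_or_pos n with rfl | hn0
  · simp
  have hD : ((∑ j, (a j - b j).natAbs : ℕ) : ℝ) ≤ (r : ℝ) * ‖(fun j => ((a j - b j : ℤ) : ℝ))‖ := by
    rw [Nat.cast_sum]
    refine (Finset.sum_le_card_nsmul _ _ _ (fun j _ => le_trans (le_of_eq ?_)
      (norm_le_pi_norm (fun j => ((a j - b j : ℤ) : ℝ)) j))).trans (le_of_eq (by simp))
    rw [Real.norm_eq_abs, Nat.cast_natAbs, Int.cast_abs]
  calc (C : ℝ) * n * ((∑ j, (a j - b j).natAbs : ℕ) : ℝ) * (N : ℝ) ^ (n - 1)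
      ≤ (C : ℝ) * n * ((r : ℝ) * ‖(fun j => ((a j - b j : ℤ) : ℝ))‖) * T ^ (n - 1) := by gcongr
    _ = (C : ℝ) * n * r * (T ^ (n - 1) * ‖(fun j => ((a j - b j : ℤ) : ℝ))‖ ^ 1) := by ring
    _ ≤ _ := by
      refine mul_le_mul_of_nonneg_left ?_ (by positivity)
      exact Finset.single_le_sum (f := fun q => T ^ (n - q) * ‖(fun j => ((a j - b j : ℤ) : ℝ))‖ ^ q)
        (fun q _ => mul_nonneg (pow_nonneg hT0 _) (pow_nonneg (norm_nonneg _) _))
        (Finset.mem_Icc.2 ⟨le_rfl, hn0⟩)

end Groth.Agent.S17633
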