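import Groth.Statements.S17634
import Groth.Agent.H22Alg.VolMultiHhat

set_option autoImplicit false
universe u
open CategoryTheory CategoryTheory.Limits AlgebraicGeometry
open Variety

namespace Groth.Agent.S17634

/-- Let X be an integral scheme, proper over an uncountable algebraically closed field k of
characteristic zero and admitting an ample invertible module, of dimension n (stated in the source
over the complex numbers), and L_1, …, L_r invertible O_X-modules with inverses M_1, …, M_r; for a ∈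
ℤ^r write L^a = ⊗_j L_j^{a_j} (negative powers through the M_j) and ‖a‖ = max_j |a_j|. Then for
every i there is a constant C with ĥ^i(X, L^a) ≤ C · ‖a‖^n for all a ∈ ℤ^r, where ĥ^i(X, L) =
limsup_m dim_k H^i(X, L^{⊗m}) · n!/m^n. (The source states the bound for all real classes in the
Néron–Severi space with any fixed norm.) -/
theorem result (k : Type u) [Field k] [IsAlgClosed k] [CharZero k] [Uncountable k] (X : Scheme.{u})
    [X.Over (Spec (CommRingCat.of k))] [AlgebraicGeometry.IsIntegral X]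
    [IsProper (X ↘ Spec (CommRingCat.of k))] (hproj : ∃ A : X.Modules, CohB1.IsAmple A)
    (n : ℕ) (hn : topologicalKrullDim X = n)
    (r : ℕ) (L M : Fin r → X.Modules) (hL : ∀ j, PicF.IsInvertible (L j))
    (hM : ∀ j, ClSub.IsInverseOf (L j) (M j)) (i : ℕ) :
    ∃ C : ℝ, ∀ a : Fin r → ℤ,
      W4c5asymptcohfn.hhat k X n i (W4c5asymptcohfn.ztwist X L M a) ≤
        C * ‖(fun j => ((a j : ℤ) : ℝ))‖ ^ n := by
  letI := Groth.Agent.H28Vert.picLaw X
  obtain ⟨A, hA⟩ := hproj
  let g : Fin r → PicLoc.PicSet X := fun j => PicGrp.cls (L j) (hL j)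
  obtain ⟨C, hC⟩ := Groth.Agent.H22Alg.VolMultiHhat.hh_nonneg_bound k g hA hn.le i
  refine ⟨(C : ℝ) * 2 ^ n, fun a => ?_⟩
  obtain ⟨e⟩ := Groth.Agent.H22Alg.VolMultiHhat.ztwist_iso hL hM a
  rw [Groth.Agent.H22Alg.VolMultiHhat.hhat_congr k e]
  set N := Finset.univ.sup fun j => (a j).natAbs with hN
  have hbox : Groth.Agent.H22Alg.VolMulti.Box N a := fun j => Finset.le_sup (f := fun j => (a j).natAbs) (Finset.mem_univ j)
  have hNle : (N : ℝ) ≤ ‖(fun j => ((a j : ℤ) : ℝ))‖ := by
    have h1 : N ≤ ⌊‖(fun j => ((a j : ℤ) : ℝ))‖⌋₊ := Finset.sup_le fun j _ => Nat.le_floor <| by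
      refine le_trans (le_of_eq ?_) (norm_le_pi_norm (fun j => ((a j : ℤ) : ℝ)) j)
      rw [Real.norm_eq_abs, Nat.cast_natAbs, Int.cast_abs]
    exact (Nat.cast_le.2 h1).trans (Nat.floor_le (norm_nonneg _))
  show Groth.Agent.H22Alg.VolMultiHhat.hh k g n i a ≤ _
  rcases Nat.eq_zero_or_pos N with h0 | h0
  · rcases Nat.eq_zero_or_pos n with rfl | hn0
    · refine (hC N a hbox).trans (le_of_eq ?_)
      simp
    · obtain ⟨C₀, hC₀⟩ := Groth.Agent.H22Alg.VolMultiHhat.exists_pow_bound k g hA hn.le i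
      refine le_of_eq_of_le (Groth.Agent.H22Alg.VolHhat.rvol_eq_zero hn0 (C := C₀) (fun m => ?_)) (by positivity)
      have := hC₀ N a hbox m
      rw [h0, Nat.mul_zero, Nat.zero_add, one_pow] at this
      exact this.trans (le_of_eq (by rw [pow_zero]))
  · refine (hC N a hbox).trans ?_
    rw [mul_assoc]
    refine mul_le_mul_of_nonneg_left ?_ (Nat.cast_nonneg _)
    rw [← mul_pow]
    refine pow_le_pow_left₀ (Nat.cast_nonneg _) ?_ n
    have : (1 : ℝ) ≤ N := by exact_mod_cast h0
    push_cast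
    linarith

end Groth.Agent.S17634
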