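import Groth.Statements.S17635
import Mathlib.Tactic
-- import your own Groth.Agent.* helpers here

set_option autoImplicit false
open Finset
open Variety

namespace Groth.Agent.S17635

/-- Let r and n be natural numbers and f : ℚ^r → ℝ a nonnegative function which is homogeneous of degree
n for positive rational scalars, f(q · v) = q^n · f(v) for q > 0; give ℚ^r the maximum norm ‖v‖ =
max_j |v_j| of its standard basis. Suppose that for every standard basis vector e_i there is a
constant C_i with |f(v − b · e_i) − f(v)| ≤ C_i · Σ_{q=1}^{n} ‖v‖^{n−q} · b^q for all v ∈ ℚ^r and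
all integers b ≥ 1. Then there is a constant C > 0 such that |f(v) − f(w)| ≤ C · Σ_{q=1}^{n}
max(‖v‖, ‖w‖)^{n−q} · ‖v − w‖^q for all v, w ∈ ℚ^r. (The source allows any norm on an r-dimensional
rational vector space with a chosen basis and argues with the maximum norm of that basis, which is
the case stated here.) -/
theorem result (r n : ℕ) (f : (Fin r → ℚ) → ℝ)
    (hf0 : ∀ v, 0 ≤ f v)
    (hhom : ∀ (q : ℚ) (v : Fin r → ℚ), 0 < q → f (q • v) = (q : ℝ) ^ n * f v)
    (hdir : ∀ i : Fin r, ∃ Ci : ℝ, ∀ (v : Fin r → ℚ) (b : ℕ), 1 ≤ b →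
      |f (v - (b : ℚ) • Pi.single i 1) - f v| ≤
        Ci * (Finset.Icc 1 n).sum (fun q => ‖(fun j => ((v j : ℚ) : ℝ))‖ ^ (n - q) * (b : ℝ) ^ q)) :
    ∃ C : ℝ, 0 < C ∧ ∀ v w : Fin r → ℚ,
      |f v - f w| ≤ C * (Finset.Icc 1 n).sum (fun q =>
        (max ‖(fun j => ((v j : ℚ) : ℝ))‖ ‖(fun j => ((w j : ℚ) : ℝ))‖) ^ (n - q) *
          ‖(fun j => ((v j - w j : ℚ) : ℝ))‖ ^ q) := by
  classical
  choose Ci hCi using hdir
  let nr : (Fin r → ℚ) → ℝ := fun v => ‖(fun j => ((v j : ℚ) : ℝ))‖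
  let S : ℝ → ℝ → ℝ := fun M D => (Finset.Icc 1 n).sum fun q => M ^ (n - q) * D ^ q
  have hS0 : ∀ {M D : ℝ}, 0 ≤ M → 0 ≤ D → 0 ≤ S M D := fun hM hD =>
    Finset.sum_nonneg fun q _ => mul_nonneg (pow_nonneg hM _) (pow_nonneg hD _)
  have hSmono : ∀ {M M' D D' : ℝ}, 0 ≤ M → M ≤ M' → 0 ≤ D → D ≤ D' → S M D ≤ S M' D' :=
    fun {M M' D D'} hM hMM hD hDD =>
    Finset.sum_le_sum fun q _ => mul_le_mul (pow_le_pow_left₀ hM hMM _) (pow_le_pow_left₀ hD hDD _)
      (pow_nonneg hD _) (pow_nonneg (hM.trans hMM) _)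
  have hstep : ∀ (i : Fin r) (x : Fin r → ℚ) (d : ℤ) (M : ℝ), nr x ≤ M → nr (x + (d : ℚ) • Pi.single i 1) ≤ M →
      |f (x + (d : ℚ) • Pi.single i 1) - f x| ≤ |Ci i| * S M |(d : ℝ)| := by
    intro i x d M hx hy
    have hM : 0 ≤ M := (norm_nonneg _).trans hx
    have key : ∀ (y : Fin r → ℚ) (b : ℕ), 1 ≤ b → nr y ≤ M →
        |f (y - (b : ℚ) • Pi.single i 1) - f y| ≤ |Ci i| * S M (b : ℝ) := fun y b hb hyM => by
      refine (hCi i y b hb).trans (mul_le_mul (le_abs_self _) ?_
        (hS0 (norm_nonneg _) (Nat.cast_nonneg b)) (abs_nonneg _))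
      exact hSmono (norm_nonneg _) hyM (Nat.cast_nonneg b) le_rfl
    obtain ⟨b, rfl | rfl⟩ := Int.eq_nat_or_neg d
    · rcases Nat.eq_zero_or_pos b with h0 | h0
      · subst h0
        simpa using mul_nonneg (abs_nonneg (Ci i)) (hS0 hM le_rfl)
      · have := key (x + ((b : ℤ) : ℚ) • Pi.single i 1) b h0 hy
        rw [Int.cast_natCast, add_sub_cancel_right, abs_sub_comm] at this
        simpa using this
    · rcases Nat.eq_zero_or_pos b with h0 | h0
      · subst h0
        simpa using mul_nonneg (abs_nonneg (Ci i)) (hS0 hM le_rfl)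
      · simpa [sub_eq_add_neg] using key x b h0 hx
  have hint : ∀ v w : Fin r → ℚ, (∀ j, ∃ d : ℤ, w j - v j = (d : ℚ)) →
      |f w - f v| ≤ (∑ i, |Ci i|) * S (max (nr v) (nr w)) (nr (fun j => w j - v j)) := by
    intro v w hd
    choose d hd using hd
    set M := max (nr v) (nr w)
    set D := nr (fun j => w j - v j)
    let z : Finset (Fin r) → (Fin r → ℚ) := fun s j => if j ∈ s then w j else v j
    have hz : ∀ s, nr (z s) ≤ M := fun s => by
      refine (pi_norm_le_iff_of_nonneg ((norm_nonneg _).trans (le_max_left _ _))).mpr fun j => ?_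
      by_cases h : j ∈ s
      · simp only [z, h, if_true]
        exact (norm_le_pi_norm (fun j => ((w j : ℚ) : ℝ)) j).trans (le_max_right _ _)
      · simp only [z, h, if_false]
        exact (norm_le_pi_norm (fun j => ((v j : ℚ) : ℝ)) j).trans (le_max_left _ _)
    have hmain : ∀ s : Finset (Fin r), |f (z s) - f v| ≤ (∑ i ∈ s, |Ci i|) * S M D := by
      intro s
      induction s using Finset.induction with
      | empty => simp [z]
      | @insert i s hi ih =>
        have e : z (insert i s) = z s + (d i : ℚ) • Pi.single i 1 := by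
          funext j
          by_cases hj : j = i
          · subst hj
            simp [z, hi, ← hd]
          · simp [z, hj]
        rw [Finset.sum_insert hi, add_mul, e]
        refine (abs_sub_le _ (f (z s)) _).trans (add_le_add ?_ ih)
        refine (hstep i (z s) (d i) M (hz s) (e ▸ hz _)).trans
          (mul_le_mul_of_nonneg_left ?_ (abs_nonneg _))
        refine hSmono ((norm_nonneg _).trans (le_max_left _ _)) le_rfl (abs_nonneg _) ?_
        have := norm_le_pi_norm (fun j => (((w j - v j : ℚ)) : ℝ)) i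
        simpa [D, nr, hd] using this
    have := hmain Finset.univ
    simpa [z] using this
  refine ⟨(∑ i, |Ci i|) + 1, add_pos_of_nonneg_of_pos (Finset.sum_nonneg fun i _ => abs_nonneg _) one_pos,
    fun v w => ?_⟩
  let N : ℕ := ∏ j, (v j - w j).den
  have hNpos : 0 < N := Finset.prod_pos fun j _ => (v j - w j).den_pos
  have hN : ∀ j, ∃ d : ℤ, ((N : ℚ) • v) j - ((N : ℚ) • w) j = (d : ℚ) := fun j => by
    obtain ⟨c, hc⟩ := Finset.dvd_prod_of_mem (fun j => (v j - w j).den) (Finset.mem_univ j)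
    refine ⟨(c : ℤ) * (v j - w j).num, ?_⟩
    simp only [Pi.smul_apply, smul_eq_mul, N, hc]
    push_cast
    linear_combination (c : ℚ) * (Rat.mul_den_eq_num (v j - w j))
  have hnr : ∀ x : Fin r → ℚ, nr ((N : ℚ) • x) = (N : ℝ) * nr x := fun x => by
    have : (fun j => ((((N : ℚ) • x) j : ℚ) : ℝ)) = (N : ℝ) • fun j => ((x j : ℚ) : ℝ) := by
      funext j; simp
    simp only [nr]
    rw [this, norm_smul, Real.norm_natCast]
  have hmainN := hint ((N : ℚ) • w) ((N : ℚ) • v) hN
  have e : (fun j => ((N : ℚ) • v) j - ((N : ℚ) • w) j) = (N : ℚ) • (fun j => v j - w j) := by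
    funext j; simp [mul_sub]
  rw [hhom _ _ (by exact_mod_cast hNpos), hhom _ _ (by exact_mod_cast hNpos), ← mul_sub, e, hnr, hnr, hnr,
    ← mul_max_of_nonneg _ _ (Nat.cast_nonneg N), abs_mul, Rat.cast_natCast,
    abs_of_nonneg (by positivity : (0 : ℝ) ≤ (N : ℝ) ^ n)] at hmainN
  have hScale : S ((N : ℝ) * max (nr w) (nr v)) ((N : ℝ) * nr (fun j => v j - w j)) =
      (N : ℝ) ^ n * S (max (nr w) (nr v)) (nr (fun j => v j - w j)) := by
    simp only [S, Finset.mul_sum]
    refine Finset.sum_congr rfl fun q hq => ?_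
    have hq' := (Finset.mem_Icc.mp hq).2
    rw [mul_pow, mul_pow, show (N : ℝ) ^ n = (N : ℝ) ^ (n - q) * (N : ℝ) ^ q from by
      rw [← pow_add, Nat.sub_add_cancel hq']]
    ring
  rw [hScale, mul_left_comm] at hmainN
  have := le_of_mul_le_mul_left hmainN (by positivity)
  refine this.trans (le_of_le_of_eq (mul_le_mul_of_nonneg_right (le_add_of_nonneg_right zero_le_one)
    (hS0 ((norm_nonneg _).trans (le_max_left _ _)) (norm_nonneg _))) ?_)
  simp only [S, nr, max_comm]

end Groth.Agent.S17635
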