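import Groth.Statements.S17637
import Groth.Agent.H22Alg.ZeroFam
import Groth.Agent.H22Alg.CurveProj
import Groth.Agent.H22Alg.NakaiSemi
import Groth.Agent.H22Alg.ProjVeronese
import Groth.Agent.H12Pic.NumTriv.Projective
import Groth.Agent.H17.Ample.LocalProj
import Groth.Agent.H11Ample.VeryAmple
import Groth.Agent.H11QMap.PnTensor
import Groth.Agent.S12111

set_option autoImplicit false
universe u
open CategoryTheory CategoryTheory.Limits AlgebraicGeometry
open Variety

namespace Groth.Agent.S17637

/-- Let X be an integral scheme, proper over an algebraically closed field k of characteristic zero and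
admitting an ample invertible module (the published statement is over the complex numbers). Then
there is a very ample invertible O_X-module A — A ≅ i^*O(1) for an immersion i : X → P^N_k over k —
such that A ⊗ N is again very ample for every invertible O_X-module N which is numerically
equivalent to zero. (The published statement also provides one flat family over a quasi-projective
base whose fibres include every divisor of every |A ⊗ N|; that clause is not stated here.) -/
theorem result (k : Type u) [Field k] [IsAlgClosed k] [CharZero k] (X : Scheme.{u})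
    [X.Over (Spec (CommRingCat.of k))] [AlgebraicGeometry.IsIntegral X]
    [IsProper (X ↘ Spec (CommRingCat.of k))] (hproj : ∃ A : X.Modules, CohB1.IsAmple A) :
    ∃ A : X.Modules, PicF.IsInvertible A ∧
      RelAmple.IsRelVeryAmplePn (X ↘ Spec (CommRingCat.of k)) A ∧
      ∀ N : X.Modules, PicF.IsInvertible N → Pic13.IsNumEquivZero k X N →
        RelAmple.IsRelVeryAmplePn (X ↘ Spec (CommRingCat.of k)) (CohB1.tensorMod A N) := by
  obtain ⟨A₀, hA₀⟩ := hproj
  haveI := H28Int.isNoetherian k (X := X)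
  haveI : Infinite k := IsAlgClosed.instInfinite
  obtain ⟨N₁, a₁, i, ha₁, hi, hq, ⟨eO⟩⟩ := H22Alg.CurveProj.exists_closedImmersion_iso k X hA₀
  haveI := hi
  obtain ⟨d, hd⟩ := H12Pic.NumTriv.exists_dim k (X := X)
  obtain ⟨m₀, hm₀⟩ := (H12Pic.NumTriv.good_of_dim k i hq hd (H10Coh.isCoh_structureModule' X)).reg
  obtain ⟨m₁, hm₁⟩ := H11Ample.eventually_isRelVeryAmplePn (X ↘ Spec (CommRingCat.of k)) hA₀
  let A₁ := CohB1.tensorPow A₀ a₁
  have hA₁ : PicF.IsInvertible A₁ := H11Ample.isInvertible_tensorPow hA₀.1 a₁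
  have hB : PicF.IsInvertible (CohB1.tensorPow A₁ m₀) := H11Ample.isInvertible_tensorPow hA₁ m₀
  have key : ∀ N : X.Modules, H12Pic.NumTriv.NT k N → RelAmple.IsRelVeryAmplePn (X ↘ Spec (CommRingCat.of k))
      (CohB1.tensorMod (CohB1.tensorPow A₀ m₁) (CohB1.tensorMod N (CohB1.tensorPow A₁ m₀))) := by
    intro N hN
    have hL' := H11Ample.isInvertible_tensor hN.inv hB
    obtain ⟨-, hgg⟩ := S12111.result k N₁ i _
      (H11Ample.isCoh_tensor (H10Coh.isCoh_structureModule' X) hN.inv) m₀ (hm₀ N hN) m₀ le_rfl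
    obtain ⟨e₁⟩ := (H12Pic.TwistOn.fam i).nonempty_tensorPow m₀
    obtain ⟨e₂⟩ := H22Alg.NakaiSemi.nonempty_tensorPow_congr eO m₀
    have hgg' : Curv2.IsGloballyGenerated (CohB1.tensorMod N (CohB1.tensorPow A₁ m₀)) :=
      H11Ample.isGloballyGenerated_of_iso
        (PicGrp.tensorModIso (H10Coh.Tw.leftUnitIso N) (e₁.symm ≪≫ e₂)) hgg
    obtain ⟨g, hg⟩ := H22Alg.ZeroFam.exists_cover k hL'
      (H11Ample.exists_mem_gen_of_isGloballyGenerated hL' hgg') (d + 1) isClosed_univ (by
        rw [(Homeomorph.Set.univ ↥X).isHomeomorph.topologicalKrullDim_eq]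
        exact hd.trans_lt (by exact_mod_cast Nat.lt_succ_self d))
    exact H11QMap.isRelVeryAmplePn_tensor_generatedBy _ (hm₁ m₁ le_rfl) hL' g
      (H22Alg.ProjVeronese.generatedBy_of_gen hL' g fun x => hg x trivial)
  refine ⟨CohB1.tensorMod (CohB1.tensorPow A₀ m₁) (CohB1.tensorPow A₁ m₀),
    H11Ample.isInvertible_tensor (H11Ample.isInvertible_tensorPow hA₀.1 m₁) hB, ?_, fun N hN hNum => ?_⟩
  · exact H17.LocalProj.isRelVeryAmplePn_of_iso (PicGrp.tensorModIso (Iso.refl _) (H10Coh.Tw.leftUnitIso _))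
      (key _ (H12Pic.NumTriv.NT.structure_module k))
  · exact H17.LocalProj.isRelVeryAmplePn_of_iso (PicGrp.tensorModIso (Iso.refl _) (H10Coh.Tw.commIso _ _) ≪≫
      (H10Coh.Tw.assoc _ _ _).symm) (key N ⟨hN, hNum⟩)

end Groth.Agent.S17637
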