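import Groth.Statements.S17638
import Groth.Agent.H28RR.ZariskiVol
import Groth.Agent.H28Int.Curves
import Groth.Agent.H17.InvertibleTensor

set_option autoImplicit false
universe u
open CategoryTheory CategoryTheory.Limits AlgebraicGeometry
open Groth.Agent
open Surf

namespace Groth.Agent.S17638

/-- Let X be an integral scheme, smooth and proper over an uncountable algebraically closed field k of
characteristic zero and admitting an ample invertible module, of dimension 2 (a smooth projective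
surface; stated in the source over the complex numbers), and L an invertible O_X-module. Suppose a ≥
1 and L^{⊗a} ≅ L_P ⊗ L_N is a Zariski decomposition: L_P is invertible and nef (degree ≥ 0 on every
integral closed curve of X); L_N ≅ ⊗_j O(N_j)^{⊗ b_j} for finitely many integral closed curves N_1,
…, N_s ⊆ X and integers b_j ≥ 1, where O(N_j) is an inverse of the ideal sheaf of N_j; the
intersection matrix (N_j · N_l) is negative definite; and (L_P · N_j) = deg(L_P|_{N_j}) = 0 for
every j. Then, with M_P and M_N inverses of L_P and L_N and intersection numbers on X computed as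
alternating sums of Euler characteristics, ĥ^0(X, L) = (L_P · L_P)/a², ĥ^1(X, L) = −(L_N · L_N)/a²
and ĥ^2(X, L) = 0, where ĥ^i(X, L) = limsup_m dim_k H^i(X, L^{⊗m}) · 2!/m². (The source states this
for any pseudo-effective real divisor class D = P_D + N_D; for an integral D a positive multiple aD
has an integral decomposition as here.) -/
theorem result (k : Type u) [Field k] [IsAlgClosed k] [CharZero k]
    [Uncountable k] (X : Scheme.{u}) [X.Over (Spec (CommRingCat.of k))] [AlgebraicGeometry.IsIntegral X]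
    [IsProper (X ↘ Spec (CommRingCat.of k))] [Smooth (X ↘ Spec (CommRingCat.of k))]
    (hproj : ∃ A : X.Modules, CohB1.IsAmple A) (hX2 : topologicalKrullDim X = 2)
    (L LP LN MP MN : X.Modules) (hL : PicF.IsInvertible L) (hLP : PicF.IsInvertible LP)
    (hLN : PicF.IsInvertible LN) (hMP : ClSub.IsInverseOf LP MP) (hMN : ClSub.IsInverseOf LN MN)
    (a : ℕ) (ha : 1 ≤ a) (hdec : Nonempty (CohB1.tensorPow L a ≅ CohB1.tensorMod LP LN))
    (hnef : ∀ (Y : Scheme.{u}) (i : Y ⟶ X) [IsClosedImmersion i], AlgebraicGeometry.IsIntegral Y →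
      topologicalKrullDim Y = 1 →
        0 ≤ Pic13.curveDeg k (i ≫ (X ↘ Spec (CommRingCat.of k))) ((Scheme.Modules.pullback i).obj LP))
    (s : ℕ) (N : Fin s → X.IdealSheafData)
    (hN : ∀ j, AlgebraicGeometry.IsIntegral (N j).subscheme ∧ topologicalKrullDim (N j).subscheme = 1)
    (O : Fin s → X.Modules) (hO : ∀ j, ClSub.IsInverseOf (ClSub.idealMod (N j)) (O j))
    (b : Fin s → ℕ) (hb : ∀ j, 1 ≤ b j) (hLNeq : Nonempty (LN ≅ FGA.multiTwist O b))
    (hneg : (-(Matrix.of fun j l : Fin s =>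
      FGA.intNum k X 2 ![ClSub.idealMod (N j), ClSub.idealMod (N l)] (Coh.structureModule X))).PosDef)
    (horth : ∀ j, Pic13.curveDeg k ((N j).subschemeι ≫ (X ↘ Spec (CommRingCat.of k)))
      ((Scheme.Modules.pullback (N j).subschemeι).obj LP) = 0) :
    W4c5asymptcohfn.hhat k X 2 0 L =
        (FGA.intNum k X 2 ![MP, MP] (Coh.structureModule X) : ℝ) / (a : ℝ) ^ 2 ∧
      W4c5asymptcohfn.hhat k X 2 1 L =
        -(FGA.intNum k X 2 ![MN, MN] (Coh.structureModule X) : ℝ) / (a : ℝ) ^ 2 ∧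
      W4c5asymptcohfn.hhat k X 2 2 L = 0 := by
  classical
  letI := H28Vert.picLaw X
  haveI := H28Int.isNoetherian k (X := X)
  obtain ⟨eP⟩ := hMP
  obtain ⟨eN⟩ := hMN
  have hMPi : PicF.IsInvertible MP :=
    H17.InvertibleTensor.isInvertible_of_tensor_iso MP LP (H10Coh.Tw.commIso MP LP ≪≫ eP)
  have hMNi : PicF.IsInvertible MN :=
    H17.InvertibleTensor.isInvertible_of_tensor_iso MN LN (H10Coh.Tw.commIso MN LN ≪≫ eN)
  have hdimY : ∀ I : X.IdealSheafData, topologicalKrullDim I.subscheme = 1 → topologicalKrullDim (I.support : Set X) = 1 :=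
    fun I h => by rw [← H28Surf.dim_subscheme]; exact h
  have hC : ∀ j, H28Surf.IsCurve (N j) := fun j => ⟨(hN j).1, hdimY _ (hN j).2⟩
  set P := PicGrp.cls LP hLP with hPdef
  have hdeg : ∀ (D : X.IdealSheafData) (hD : H28Surf.IsCurve D),
      Pic13.curveDeg k (D.subschemeι ≫ (X ↘ Spec (CommRingCat.of k))) ((Scheme.Modules.pullback D.subschemeι).obj LP) =
        H28RR.PicNum.dot k P (H28RR.PicNum.curveCls k hX2 hD) := by
    intro D hD
    letI : D.subscheme.Over (Spec (CommRingCat.of k)) := ⟨D.subschemeι ≫ (X ↘ Spec (CommRingCat.of k))⟩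
    haveI : IsProper (D.subscheme ↘ Spec (CommRingCat.of k)) :=
      inferInstanceAs (IsProper (D.subschemeι ≫ (X ↘ Spec (CommRingCat.of k))))
    haveI : D.subschemeι.IsOver (Spec (CommRingCat.of k)) := ⟨rfl⟩
    haveI := H28Int.isNoetherian k (X := D.subscheme)
    have hP' := H11Ample.isInvertible_pullback D.subschemeι hLP
    show Pic13.curveDeg k (D.subscheme ↘ Spec (CommRingCat.of k)) _ = _
    rw [H28Int.Curves.curveDeg_eq k ((H28Surf.dim_subscheme D).trans hD.dim) hP',
      ← H28RR.ZariskiVol.degOn_eq_dot k hX2 hD P,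
      H28Surf.degOn_congr k D (H28RR.PicNum.nonempty_rep_iso hLP).some, H28Surf.degOn_eq_deg k hD hLP]
    show -(Curv2.euler k _ _ - Curv2.euler k _ _) = Curv2.euler k _ _ - (1 : ℕ) * Curv2.euler k _ _
    rw [H25Euler.euler_congr (H10Coh.Tw.rightUnitIso _)]
    push_cast; ring
  have hOi : ∀ j, PicF.IsInvertible (O j) := fun j => by
    obtain ⟨e⟩ := hO j
    exact H17.InvertibleTensor.isInvertible_of_tensor_iso (O j) (ClSub.idealMod (N j)) (H10Coh.Tw.commIso _ _ ≪≫ e)
  have hOcls : ∀ j, PicGrp.cls (O j) (hOi j) = H28RR.PicNum.curveCls k hX2 (hC j) := fun j => by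
    obtain ⟨e⟩ := hO j
    unfold H28RR.PicNum.curveCls
    refine (inv_eq_of_mul_eq_one_right ?_).symm
    refine Subtype.ext ?_
    rw [PicGrp.cls_mul_cls_val, PicGrp.one_val]
    exact Quot.sound ⟨e⟩
  obtain ⟨hMT, heMT⟩ := H28Vert.cls_multiTwist hOi b
  obtain ⟨eN'⟩ := hLNeq
  set D := H28RR.ZariskiVol.divCls k hX2 hC b with hDdef
  have hN' : PicGrp.cls LN hLN = D := by
    rw [show PicGrp.cls LN hLN = PicGrp.cls _ hMT from (PicGrp.cls_eq_cls_iff _ _).2 ⟨eN'⟩, heMT]
    exact Finset.prod_congr rfl fun j _ => by rw [hOcls]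
  have hLa : PicGrp.cls L hL ^ a = P * D := by
    obtain ⟨e⟩ := hdec
    rw [← H28Vert.cls_tensorPow hL a, hPdef, ← hN']
    refine Subtype.ext ?_
    rw [PicGrp.cls_mul_cls_val]
    exact Quot.sound ⟨e⟩
  have hneg' : ∀ x : Fin s → ℤ, x ≠ 0 →
      ∑ i, ∑ j, x i * x j * H28RR.PicNum.dot k (H28RR.PicNum.curveCls k hX2 (hC i)) (H28RR.PicNum.curveCls k hX2 (hC j)) < 0 := by
    intro x hx
    have h := hneg.dotProduct_mulVec_pos hx
    have hI := fun i => H28Surf.isInvertible_ideal k (H28Surf.isEffCartier_curve k hX2 (hC i))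
    simp only [star_trivial, dotProduct, Matrix.mulVec, Matrix.neg_apply, Matrix.of_apply, Finset.mul_sum] at h
    have e : ∀ i j, H28RR.PicNum.dot k (H28RR.PicNum.curveCls k hX2 (hC i)) (H28RR.PicNum.curveCls k hX2 (hC j)) =
        FGA.intNum k X 2 ![ClSub.idealMod (N i), ClSub.idealMod (N j)] (Coh.structureModule X) := fun i j => by
      rw [H28RR.PicNum.curveCls, H28RR.PicNum.curveCls, H28RR.PicNum.dot_inv_left k hX2,
        H28RR.PicNum.dot_inv_right k hX2, neg_neg, H28RR.PicNum.dot_cls k hX2 (hI i) (hI j),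
        H28Surf.intNum_eq_pr k hX2 (hI i) (hI j)]
    simp only [e]
    have h2 : ∑ i, ∑ j, x i * (-(FGA.intNum k X 2 ![ClSub.idealMod (N i), ClSub.idealMod (N j)] (Coh.structureModule X)) * x j) =
        -∑ i, ∑ j, x i * x j * FGA.intNum k X 2 ![ClSub.idealMod (N i), ClSub.idealMod (N j)] (Coh.structureModule X) := by
      simp only [← Finset.sum_neg_distrib]
      exact Finset.sum_congr rfl fun i _ => Finset.sum_congr rfl fun j _ => by ring
    rw [h2] at h
    linarith
  obtain ⟨h0, h1, h2⟩ := H28RR.ZariskiVol.tendsto_all k hX2 hC hneg'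
    (P := P) (fun E hE => by rw [← hdeg E hE]; exact hnef _ E.subschemeι hE.int ((H28Surf.dim_subscheme E).trans hE.dim))
    (fun j => by rw [← hdeg _ (hC j)]; exact horth j) (L := PicGrp.cls L hL) ha b hLa
  have hh : ∀ i : ℕ, W4c5asymptcohfn.hhat k X 2 i L =
      Filter.limsup (fun m : ℕ => (H28RR.PicNum.hc k i (PicGrp.cls L hL ^ m) : ℝ) * 2 / (m : ℝ) ^ 2) Filter.atTop := by
    intro i
    show Filter.limsup _ _ = _
    congr 1
    funext m
    rw [← H28Vert.cls_tensorPow hL m, H28RR.PicNum.hc_cls]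
    norm_num [Nat.factorial]
  have hinv : ∀ {A B : X.Modules} (hA : PicF.IsInvertible A) (hB : PicF.IsInvertible B),
      (CohB1.tensorMod A B ≅ Coh.structureModule X) → (PicGrp.cls A hA)⁻¹ = PicGrp.cls B hB := fun hA hB e =>
    inv_eq_of_mul_eq_one_right (G := PicLoc.PicSet X)
      (Subtype.ext (by rw [PicGrp.cls_mul_cls_val, PicGrp.one_val]; exact Quot.sound ⟨e⟩))
  have eMP : FGA.intNum k X 2 ![MP, MP] (Coh.structureModule X) = H28RR.PicNum.dot k P P := by
    rw [H28Surf.intNum_eq_pr k hX2 hMPi hMPi, ← H28RR.PicNum.dot_cls k hX2 hMPi hMPi, ← hinv hLP hMPi eP,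
      H28RR.PicNum.dot_inv_left k hX2, H28RR.PicNum.dot_inv_right k hX2, neg_neg]
  have eMN : FGA.intNum k X 2 ![MN, MN] (Coh.structureModule X) = H28RR.PicNum.dot k D D := by
    rw [H28Surf.intNum_eq_pr k hX2 hMNi hMNi, ← H28RR.PicNum.dot_cls k hX2 hMNi hMNi, ← hinv hLN hMNi eN,
      H28RR.PicNum.dot_inv_left k hX2, H28RR.PicNum.dot_inv_right k hX2, neg_neg, hN']
  rw [hh, hh, hh, h0.limsup_eq, h1.limsup_eq, h2.limsup_eq, eMP, eMN]
  exact ⟨rfl, rfl, rfl⟩

end Groth.Agent.S17638
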