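import Groth.Statements.S17639
import Groth.Agent.H16Derived.RGammaZ.Supp

set_option autoImplicit false
universe u
open CategoryTheory CategoryTheory.Limits AlgebraicGeometry
attribute [local instance] HasDerivedCategory.standard
open Dual3

namespace Groth.Agent.S17639

open Groth.Agent.H16Derived Groth.Agent.H16Derived.KFlat Groth.Agent.H16Derived.KFlat.Stalk CategoryTheory.Pretriangulated
set_option backward.isDefEq.respectTransparency false

/-- Restriction preserves locality. -/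
theorem loc_restrict {X Xb : Scheme.{u}} (j : X ⟶ Xb) [IsOpenImmersion j] [DCoh.HasRpush j]
    (adjj : rd j ⊣ DCoh.Rpush j) (W : Xb.Opens) (hW : (W : Set Xb)ᶜ ⊆ Set.range j.base)
    {C : DCoh.D Xb} (hC : RGammaZ.Loc W.ι C) : RGammaZ.Loc (j ⁻¹ᵁ W).ι ((rd j).obj C) := by
  haveI := QCohD.hasRpush W.ι
  intro B hB f
  obtain ⟨D, p, w, hT⟩ := distinguished_cocone_triangle (adjj.unit.app C)
  have hcov : ∀ x, x ∈ Set.range W.ι.base ∨ x ∈ Set.range j.base := fun x => by
    rw [Scheme.Opens.range_ι]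
    by_cases hx : x ∈ W
    · exact Or.inl hx
    · exact Or.inr (hW hx)
  have hDj : IsZero ((rd j).obj D) :=
    (Triangle.isZero₃_iff_isIso₁ _ ((rd j).map_distinguished _ hT)).2 (RGammaZ.isIso_rd_unit j adjj C)
  have hD : RGammaZ.Loc W.ι D := by
    obtain ⟨E, q, r, hE⟩ := distinguished_cocone_triangle ((Thomason.restrictRpushAdj W.ι).unit.app D)
    obtain ⟨h₁, h₂⟩ := RGammaZ.isZero_rd_cone_unit W.ι (Thomason.restrictRpushAdj W.ι) j.opensRange hE
      (RGammaZ.isZero_rd_of_subset j j.opensRange.ι (by rw [Scheme.Opens.range_ι]; exact subset_rfl) hDj)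
    haveI : IsIso ((Thomason.restrictRpushAdj W.ι).unit.app D) :=
      (Triangle.isZero₃_iff_isIso₁ _ hE).1 (RGammaZ.isZero_of_rd₂ j W.ι hcov h₁
        (RGammaZ.isZero_rd_of_subset j.opensRange.ι j (by rw [Scheme.Opens.range_ι]; exact subset_rfl) h₂))
    exact (RGammaZ.loc_rpush W.ι _).of_iso (asIso ((Thomason.restrictRpushAdj W.ι).unit.app D)).symm
  have hB' : IsZero ((rd W.ι).obj ((DCoh.Rpush j).obj B)) := RGammaZ.isZero_rd_rpush j W hB
  haveI := RGammaZ.isIso_counit j adjj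
  haveI := adjj.fullyFaithfulROfIsIsoCounit.faithful
  refine (DCoh.Rpush j).map_injective ?_
  let g : (DCoh.Rpush j).obj B ⟶ (DCoh.Rpush j).obj ((rd j).obj C) := (DCoh.Rpush j).map f
  obtain ⟨t, ht⟩ : ∃ t : (DCoh.Rpush j).obj B ⟶ C, g = t ≫ adjj.unit.app C :=
    Triangle.coyoneda_exact₂ _ hT g (hD _ hB' _)
  haveI : (DCoh.Rpush j).Additive := adjj.right_adjoint_additive
  rw [Functor.map_zero]
  show g = 0
  rw [ht, hC _ hB' t, zero_comp]

/-- Let f : X ⟶ Y be a separated morphism of finite type of Noetherian schemes, factored as f = f̄ ∘ j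
with j : X ⟶ X̄ an open immersion and f̄ : X̄ ⟶ Y proper. Let Z ⊆ Y be a closed subset with open
complement U, and Z' ⊆ X a closed subset which is proper over Y and contained in f⁻¹(Z); such a Z'
has closed image in X̄, and it is given here as Z' = j⁻¹(X̄ ∖ W) for an open W ⊆ X̄ with X̄ ∖ W ⊆
j(X) and f⁻¹(U) ⊆ j⁻¹(W). Let Rf̄_* and Rj_* exist and preserve complexes with quasi-coherent
cohomology, let a be a right adjoint of Rf̄_* on D_qc with its adjunction (whose counit is the trace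
map of f̄), let an adjunction j^* ⊣ Rj_* be given, put f^!G = (a G)|_X, and let θ : RΓ_{Z'}(j^* aG)
⟶ j^*RΓ_{j(Z')}(aG) be the comparison morphism compatible with the two maps to j^*(aG), the unit
RΓ_{j(Z')}(aG) ⟶ Rj_* j^* RΓ_{j(Z')}(aG) being an isomorphism. Then for every F in D(O_X) with
quasi-coherent cohomology sheaves, bounded above and supported on Z', and every G in D_qc(O_Y),
bounded below with cohomology supported on Z, the map sending φ : F ⟶ RΓ_{Z'}(f^!G) to the composite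
Rf̄_* Rj_* F ⟶ Rf̄_* Rj_* RΓ_{Z'}(f^!G) ⟶ Rf̄_* Rj_* j^* RΓ_{j(Z')}(aG) ⟶ Rf̄_* RΓ_{j(Z')}(aG) ⟶
Rf̄_*(aG) ⟶ G (Rf̄_*Rj_* of φ and θ, inverse of the unit, the canonical map out of RΓ, the trace) is
a bijection from Hom(F, RΓ_{Z'} f^!G) onto Hom(Rf_* F, G), with Rf_* computed as Rf̄_* ∘ Rj_*: the
functor Rf_* is left adjoint to RΓ_{Z'} f^! on these objects. (Throughout, RΓ with support is the
total right derived functor of the sheaf of sections supported in the closed subset. The published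
statement derives instead the functor of sections killed by some power of a defining ideal; on
complexes with quasi-coherent cohomology sheaves over a Noetherian scheme the two derived functors
agree.) -/
theorem result {X Y : Scheme.{u}} [IsNoetherian X] [IsNoetherian Y]
    (f : X ⟶ Y) [IsSeparated f] [LocallyOfFiniteType f] (c : DEt.Compactification f)
    (U : Y.Opens) (W : c.Xbar.Opens) (hW : (W : Set c.Xbar)ᶜ ⊆ Set.range c.j.base) (hZ : f ⁻¹ᵁ U ≤ c.j ⁻¹ᵁ W)
    [DCoh.HasRpush c.fbar] [DCoh.HasRpush c.j] (hfbar : DCoh.RpushPreservesQCoh c.fbar) (hj : DCoh.RpushPreservesQCoh c.j)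
    (a : DCoh.DQCoh Y ⥤ DCoh.DQCoh c.Xbar) (adj : DCoh.RpushQ c.fbar hfbar ⊣ a)
    (adjj : DCoh.restrictD c.j ⊣ DCoh.Rpush c.j)
    [CxOX.HasRgammaZ W.ι] [CxOX.HasRgammaZ (c.j ⁻¹ᵁ W).ι]
    (G : DCoh.DQCoh Y) (n : ℤ) (hGn : DerivedCategory.IsGE G.obj n) (hGZ : CxOX.IsSuppD U.ι G.obj)
    (θ : (CxOX.RgammaZ (c.j ⁻¹ᵁ W).ι).obj ((Dual3.shriekC c a).obj G) ⟶
      (DCoh.restrictD c.j).obj ((CxOX.RgammaZ W.ι).obj (a.obj G).obj))
    (hθ : θ ≫ (DCoh.restrictD c.j).map ((CxOX.RgammaZToId W.ι).app (a.obj G).obj) =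
      (CxOX.RgammaZToId (c.j ⁻¹ᵁ W).ι).app ((Dual3.shriekC c a).obj G))
    [IsIso (adjj.unit.app ((CxOX.RgammaZ W.ι).obj (a.obj G).obj))]
    (F : DCoh.D X) (hF : DCoh.IsQCohD F) (m : ℤ) (hFm : DerivedCategory.IsLE F m)
    (hFZ : CxOX.IsSuppD (c.j ⁻¹ᵁ W).ι F) :
    Function.Bijective (fun φ : F ⟶ (CxOX.RgammaZ (c.j ⁻¹ᵁ W).ι).obj ((Dual3.shriekC c a).obj G) =>
      (DCoh.Rpush c.fbar).map ((DCoh.Rpush c.j).map (φ ≫ θ) ≫
          inv (adjj.unit.app ((CxOX.RgammaZ W.ι).obj (a.obj G).obj)) ≫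
          (CxOX.RgammaZToId W.ι).app (a.obj G).obj) ≫
        (adj.counit.app G).hom) := by
  let jW := (c.j ⁻¹ᵁ W).ι
  let A := (a.obj G).obj
  let εW := (CxOX.RgammaZToId W.ι).app A
  let η := adjj.unit.app ((CxOX.RgammaZ W.ι).obj A)
  have hFz : IsZero ((rd jW).obj F) := (RGammaZ.isSuppD_iff jW F).1 hFZ
  have hjF : IsZero ((rd W.ι).obj ((DCoh.Rpush c.j).obj F)) := RGammaZ.isZero_rd_rpush c.j W hFz
  obtain ⟨C, p, w, hT, hC⟩ := RGammaZ.exists_triangle_loc W.ι A
  have b₀ : Function.Bijective fun h : F ⟶ (DCoh.restrictD c.j).obj ((CxOX.RgammaZ W.ι).obj A) =>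
      h ≫ (DCoh.restrictD c.j).map εW :=
    RGammaZ.bijective_comp_of_loc ((rd c.j).map_distinguished _ hT) (loc_restrict c.j adjj W hW hC) hFz
  have b₁ : Function.Bijective fun φ : F ⟶ (CxOX.RgammaZ jW).obj ((Dual3.shriekC c a).obj G) => φ ≫ θ := by
    refine (Function.Bijective.of_comp_iff' b₀ _).1 ?_
    convert RGammaZ.bijective_comp jW ((Dual3.shriekC c a).obj G) hFz using 1
    funext φ
    show (φ ≫ θ) ≫ _ = φ ≫ _
    rw [Category.assoc]
    exact congrArg (φ ≫ ·) hθ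
  haveI := RGammaZ.isIso_counit c.j adjj
  let ff := adjj.fullyFaithfulROfIsIsoCounit
  haveI := ff.full
  haveI := ff.faithful
  have b₂ : Function.Bijective fun h : F ⟶ (DCoh.restrictD c.j).obj ((CxOX.RgammaZ W.ι).obj A) =>
      (DCoh.Rpush c.j).map h ≫ inv η :=
    ⟨fun h h' e => (DCoh.Rpush c.j).map_injective ((cancel_mono (inv η)).1 e),
     fun g => ⟨(DCoh.Rpush c.j).preimage (g ≫ η), by simp⟩⟩
  have b₃ := RGammaZ.bijective_comp W.ι A hjF
  let F' : DCoh.DQCoh c.Xbar := ⟨(DCoh.Rpush c.j).obj F, hj F hF⟩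
  have b₄ : Function.Bijective fun ψ : (DCoh.Rpush c.j).obj F ⟶ A =>
      (DCoh.Rpush c.fbar).map ψ ≫ (adj.counit.app G).hom := by
    constructor
    · intro ψ ψ' e
      have h : (adj.homEquiv F' G).symm (ObjectProperty.homMk ψ) = (adj.homEquiv F' G).symm (ObjectProperty.homMk ψ') := by
        rw [Adjunction.homEquiv_counit, Adjunction.homEquiv_counit]
        exact ObjectProperty.hom_ext _ e
      exact congrArg InducedCategory.Hom.hom ((adj.homEquiv F' G).symm.injective h)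
    · intro g
      refine ⟨((adj.homEquiv F' G) (ObjectProperty.homMk g)).hom, ?_⟩
      have h := (adj.homEquiv F' G).symm_apply_apply (ObjectProperty.homMk g)
      rw [Adjunction.homEquiv_counit] at h
      exact congrArg InducedCategory.Hom.hom h
  have h := b₄.comp (b₃.comp (b₂.comp b₁))
  convert h using 1
  funext φ
  show _ = (DCoh.Rpush c.fbar).map (((DCoh.Rpush c.j).map (φ ≫ θ) ≫ inv η) ≫ εW) ≫ (adj.counit.app G).hom
  rw [Category.assoc]

end Groth.Agent.S17639
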