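import Groth.Statements.S17641
import Groth.Agent.H14DCoh.GammaInj

set_option autoImplicit false
universe u
open CategoryTheory CategoryTheory.Limits AlgebraicGeometry
attribute [local instance] HasDerivedCategory.standard
open DCoh

namespace Groth.Agent.S17641

/-- Let X be a Noetherian scheme, j : U ⟶ X an open immersion with closed complement Z = X ∖ j(U), and I
a quasi-coherent O_X-module which is injective as an O_X-module. Then Γ_Z(I), the kernel of I ⟶
j_*(I|_U) (the subsheaf of sections supported in Z), is an injective O_X-module. (Injectivity is
taken in the category of all O_X-modules; on a Noetherian scheme a quasi-coherent module is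
injective there exactly when it is injective among quasi-coherent modules. The published statement
works with the functor of sections killed by some power of a defining ideal, which agrees with Γ_Z
on quasi-coherent modules over a Noetherian scheme.) -/
theorem result {U X : Scheme.{u}} [IsNoetherian X]
    (j : U ⟶ X) [IsOpenImmersion j] (I : X.Modules) (hI : Coh.IsQCoh I) [Injective I] :
    Injective ((DCoh.gammaZ j).obj I) := by
  exact Groth.Agent.H14DCoh.injective_gammaZ j I hI

end Groth.Agent.S17641
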