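import Groth.Statements.S17642
import Groth.Agent.H26Smooth.ProjSmooth

set_option autoImplicit false
universe u
open CategoryTheory AlgebraicGeometry
open DerSch

namespace Groth.Agent.S17642

/-- Consider Noetherian schemes X and Y together with a morphism f : X ⟶ Y that is locally of finite
type. Given affine open subsets U ⊆ X and V ⊆ Y such that f(U) ⊆ V, the restriction of f to U can be
written as a composite U ⟶ W ⟶ P ⟶ Y in which the first map U ⟶ W is an open immersion, the middle
map W ⟶ P is a closed immersion, and the last map P ⟶ Y is both smooth and proper. In the published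
section every morphism is taken to be separated as a standing convention; since the printed proof
never uses this, no separatedness hypothesis appears here. -/
theorem result {X Y : Scheme.{u}}
    [IsNoetherian X] [IsNoetherian Y] (f : X ⟶ Y) [LocallyOfFiniteType f]
    (U : X.Opens) (hU : IsAffineOpen U) (V : Y.Opens) (hV : IsAffineOpen V) (hUV : U ≤ f ⁻¹ᵁ V) :
    ∃ (W P : Scheme.{u}) (g : (U : Scheme.{u}) ⟶ W) (h : W ⟶ P) (k : P ⟶ Y),
      IsOpenImmersion g ∧ IsClosedImmersion h ∧ Smooth k ∧ IsProper k ∧ g ≫ h ≫ k = U.ι ≫ f := by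
  classical
  haveI : IsAffine (U : Scheme.{u}) := hU
  haveI : IsAffine (V : Scheme.{u}) := hV
  let φ : (U : Scheme.{u}) ⟶ V := f.resLE V U hUV
  haveI : LocallyOfFiniteType φ := by
    have : LocallyOfFiniteType (φ ≫ V.ι) := by
      rw [Scheme.Hom.resLE_comp_ι]
      infer_instance
    exact locallyOfFiniteType_of_comp φ V.ι
  have hft : φ.appTop.hom.FiniteType :=
    (HasRingHomProperty.iff_of_isAffine (P := @LocallyOfFiniteType)).1 inferInstance
  letI := φ.appTop.hom.toAlgebra
  obtain ⟨s, hs⟩ := (hft : Algebra.FiniteType Γ(V, ⊤) Γ(U, ⊤)).out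
  obtain ⟨n, a, ha⟩ : ∃ (n : ℕ) (a : Fin n → Γ(U, ⊤)), Set.range a = ↑s :=
    ⟨s.card, fun i => (s.equivFin.symm i : Γ(U, ⊤)), by
      ext z
      exact ⟨by rintro ⟨i, rfl⟩; exact (s.equivFin.symm i).2, fun hz => ⟨s.equivFin ⟨z, hz⟩, by simp⟩⟩⟩
  let c : Fin (n + 1) → Γ(U, ⊤) := Fin.cons 1 a
  haveI : IsClosedImmersion (Groth.Agent.LeadChow.toChart φ c) := by
    refine Groth.Agent.LeadChow.isClosedImmersion_toChart hV φ c (eq_top_iff.2 ?_)
    rw [← Algebra.top_toSubring (R := Γ(V, ⊤)), ← hs]
    intro z hz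
    induction (show z ∈ Algebra.adjoin Γ(V, ⊤) (s : Set Γ(U, ⊤)) from hz) using Algebra.adjoin_induction with
    | mem x hx =>
      rw [← ha] at hx
      obtain ⟨i, rfl⟩ := hx
      exact Subring.subset_closure (Or.inr ⟨i.succ, by simp, by simp [c]⟩)
    | algebraMap r => exact Subring.subset_closure (Or.inl ⟨r, rfl⟩)
    | add x y hx hy ihx ihy => exact Subring.add_mem _ (ihx hx) (ihy hy)
    | mul x y hx hy ihx ihy => exact Subring.mul_mem _ (ihx hx) (ihy hy)
  let j := Groth.Agent.LeadChow.toChart φ c ≫ Groth.Agent.LeadChow.chartι n V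
  haveI : IsNoetherian (U : Scheme.{u}) := { }
  haveI : QuasiCompact j := inferInstance
  refine ⟨j.image, CohB1.ProjSpaceOver n Y, j.toImage, j.imageι, CohB1.ProjSpaceOver.toBase n Y,
    inferInstance, inferInstance, inferInstance, inferInstance, ?_⟩
  rw [Scheme.Hom.toImage_imageι_assoc]
  simp only [j, Category.assoc]
  rw [Groth.Agent.LeadChow.toChart_chartι_assoc, Groth.Agent.LeadChow.pt_toBase, Scheme.Hom.resLE_comp_ι]

end Groth.Agent.S17642
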