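import Groth.Statements.S17643
import Groth.Agent.H8Props.PerfectStalks
import Groth.Agent.H4DR.TorAmp.Modules
import Groth.Agent.H06EGA9.StructureStalk

set_option autoImplicit false
universe u
open CategoryTheory AlgebraicGeometry
attribute [local instance] HasDerivedCategory.standard
open DerSch

namespace Groth.Agent.S17643

open Groth.Agent.H8Props.PseudoCoh Groth.Agent.H8Props.PerfectStalks
open Groth.Agent.H4DR.TorAmp (ta_inD_iff ta_top ta_mono ta_of_iso)

attribute [local instance] HasDerivedCategory.standard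

/-- The stalk of the structure module over the base, as a module. -/
noncomputable def stalkStrEquiv {X Y : Scheme.{u}} (f : X ⟶ Y) (x : X) :
    letI := (f.stalkMap x).hom.toAlgebra
    (DerSch.stalkOver f x).obj (Coh.structureModule X) ≃ₗ[Y.presheaf.stalk (f.base x)] X.presheaf.stalk x :=
  letI := (f.stalkMap x).hom.toAlgebra
  (LinearEquiv.ofBijective
    ({ toFun := fun r => (show (Coh.structureModule X).presheaf.stalk x from r • H06EGA9.oneStalk x)
       map_add' := (LinearMap.toSpanSingleton (X.presheaf.stalk x) ((Coh.structureModule X).presheaf.stalk x)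
         (H06EGA9.oneStalk x)).map_add
       map_smul' := fun r a => mul_smul ((f.stalkMap x).hom r) a (H06EGA9.oneStalk x) } :
      X.presheaf.stalk x →ₗ[Y.presheaf.stalk (f.base x)] (DerSch.stalkOver f x).obj (Coh.structureModule X))
    (H06EGA9.bijective_smul_oneStalk x)).symm

/-- The complex of stalks of `O_X[0]` is the stalk in degree zero. -/
noncomputable def stalkCxUnitIso {X Y : Scheme.{u}} (f : X ⟶ Y) (x : X) :
    Dual.inD (Y.presheaf.stalk (f.base x)) ((DerSch.stalkOver f x).obj (Coh.structureModule X)) ≅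
      DRing.toD ((DerSch.stalkCxOver f x).obj (DerSch.unitCx X)) :=
  H4DR.PCoh.inDIso _ ≪≫ DerivedCategory.Q.mapIso
    ((HomologicalComplex.singleMapHomologicalComplex (DerSch.stalkOver f x) (ComplexShape.up ℤ) 0).app
      (Coh.structureModule X)).symm

/-- Finite tor amplitude of `O_X` bounds the tor dimensions of the local rings. -/
theorem exists_tdr_stalk {X Y : Scheme.{u}} (f : X ⟶ Y) (hf : DerSch.HasFiniteTorDim f) :
    ∃ d : ℕ, ∀ x : X, TDR (f.stalkMap x).hom d := by
  obtain ⟨a, b, h⟩ := hf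
  refine ⟨(-a).toNat, fun x => ?_⟩
  have h1 := ta_of_iso (stalkCxUnitIso f x).symm (h x)
  have h2 := ta_top (ta_mono (a' := -((-a).toNat : ℤ)) (b' := max b 0) (by omega) (by omega) h1)
    (b' := 0) (fun i hi => H4DR.PCoh.subsingleton_HD_inD _ i (by omega))
  letI := (f.stalkMap x).hom.toAlgebra
  exact hasTorDimLE_of_equiv (stalkStrEquiv f x) ((ta_inD_iff _ _).1 h2)

/-- Bounded tor dimensions of the local rings give finite tor dimension. -/
theorem hasFiniteTorDim_of_tdr {X Y : Scheme.{u}} (f : X ⟶ Y) (d : ℕ)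
    (h : ∀ x : X, TDR (f.stalkMap x).hom d) : DerSch.HasFiniteTorDim f :=
  ⟨-(d : ℤ), 0, fun x => ta_of_iso (stalkCxUnitIso f x)
    (letI := (f.stalkMap x).hom.toAlgebra
     (ta_inD_iff _ _).2 (hasTorDimLE_of_equiv (stalkStrEquiv f x).symm (h x)))⟩

/-- Factoring a morphism from an affine scheme to an affine open through affine space. -/
theorem exists_factor {X Y : Scheme.{u}} [IsAffine X] (f : X ⟶ Y) [LocallyOfFiniteType f]
    (V : Y.Opens) (hV : IsAffineOpen V) (e : ⊤ ≤ f ⁻¹ᵁ V) (d : ℕ) (hd : ∀ x : X, TDR (f.stalkMap x).hom d) :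
    ∃ (W : Scheme.{u}) (g : X ⟶ W) (h : W ⟶ Y),
      IsClosedImmersion g ∧ DerSch.HasFiniteTorDim g ∧ Smooth h ∧ g ≫ h = f := by
  letI := (f.appLE V ⊤ e).hom.toAlgebra
  haveI : Algebra.FiniteType Γ(Y, V) Γ(X, ⊤) :=
    HasRingHomProperty.appLE @LocallyOfFiniteType f inferInstance ⟨V, hV⟩ ⟨⊤, isAffineOpen_top X⟩ e
  obtain ⟨n, φ, hφ⟩ := Algebra.FiniteType.iff_quotient_mvPolynomial''.1 this
  let P := MvPolynomial (Fin n) Γ(Y, V)
  let c : Γ(Y, V) ⟶ CommRingCat.of P := CommRingCat.ofHom MvPolynomial.C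
  let p : CommRingCat.of P ⟶ Γ(X, ⊤) := CommRingCat.ofHom φ.toRingHom
  have hcp : c ≫ p = f.appLE V ⊤ e := CommRingCat.hom_ext (RingHom.ext fun a => φ.commutes a)
  let g : X ⟶ Spec (CommRingCat.of P) := X.toSpecΓ ≫ Spec.map p
  haveI : IsClosedImmersion (Spec.map p) := IsClosedImmersion.spec_of_surjective p hφ
  haveI : Smooth (Spec.map c) := by
    rw [HasRingHomProperty.Spec_iff (P := @Smooth)]
    show (algebraMap Γ(Y, V) P).Smooth
    exact RingHom.smooth_algebraMap.2 ⟨inferInstance, inferInstance⟩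
  refine ⟨_, g, Spec.map c ≫ hV.fromSpec, inferInstance, hasFiniteTorDim_of_tdr g (d + n) fun x => ?_,
    inferInstance, ?_⟩
  · let T := X.presheaf.stalk x
    let q : Γ(Spec (CommRingCat.of P), ⊤) ⟶ T := g.appTop ≫ X.presheaf.germ ⊤ x trivial
    have hq : (Scheme.ΓSpecIso (CommRingCat.of P)).inv ≫ q = p ≫ X.presheaf.germ ⊤ x trivial := by
      simp only [q, g, Scheme.Hom.comp_appTop, Category.assoc, Scheme.toSpecΓ_appTop]
      rw [← Scheme.ΓSpecIso_inv_naturality_assoc, Iso.inv_hom_id_assoc]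
    have hA : (algebraMap Γ(Y, V) Γ(X, ⊤)) = (f.appLE V ⊤ e).hom := rfl
    letI : Algebra Γ(Y, V) T := (f.appLE V ⊤ e ≫ X.presheaf.germ ⊤ x trivial).hom.toAlgebra
    have h1 : DRing.HasTorDimLE Γ(Y, V) d T := by
      have h := (torDim_stalk_iff f hV (e (x := x) trivial) d).1 (hd x)
      rw [germ_stalkMap_eq f e] at h
      exact h
    let ψ : P →ₐ[Γ(Y, V)] T :=
      { (p ≫ X.presheaf.germ ⊤ x trivial).hom with
        commutes' := fun a => congrArg (X.presheaf.germ ⊤ x trivial).hom (φ.commutes a) }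
    have h2 : TDR q.hom (0 + (d + n)) := by
      have h3 : q.hom = ψ.toRingHom.comp (Scheme.ΓSpecIso (CommRingCat.of P)).hom.hom :=
        congrArg CommRingCat.Hom.hom (show q = (Scheme.ΓSpecIso (CommRingCat.of P)).hom ≫ p ≫
          X.presheaf.germ ⊤ x trivial by rw [← hq, Iso.hom_inv_id_assoc])
      rw [h3]
      exact (tdr_of_bijective _ (ConcreteCategory.bijective_of_isIso (Scheme.ΓSpecIso (CommRingCat.of P)).hom)).comp
        (tdr_presentation h1 n ψ)
    rw [Nat.zero_add] at h2
    refine (torDim_stalk_iff g (isAffineOpen_top _) (x := x) trivial (d + n)).2 ?_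
    rw [Scheme.Hom.germ_stalkMap]
    exact h2
  · show (X.toSpecΓ ≫ Spec.map p) ≫ Spec.map c ≫ hV.fromSpec = f
    rw [Category.assoc, ← Spec.map_comp_assoc, hcp, hV.SpecMap_appLE_fromSpec f (isAffineOpen_top X) e,
      IsAffineOpen.fromSpec_top]
    simp

/-- Let f : X ⟶ Y be a morphism of finite type between Noetherian schemes which is of finite
Tor-dimension (the structure sheaf of X, placed in degree 0, has finite tor amplitude stalkwise over
the local rings of Y), U ⊆ X an affine open subset and V ⊆ Y an affine open subset with f(U) ⊆ V.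
Then the restriction of f to U factors as U ⟶ W ⟶ Y with U ⟶ W a closed immersion of finite
Tor-dimension and W ⟶ Y smooth. The published section's standing conventions also take all morphisms
separated; the printed argument does not use this, so separatedness is not assumed here. -/
theorem result {X Y : Scheme.{u}}
    [IsNoetherian X] [IsNoetherian Y] (f : X ⟶ Y) [LocallyOfFiniteType f] (hf : DerSch.HasFiniteTorDim f)
    (U : X.Opens) (hU : IsAffineOpen U) (V : Y.Opens) (hV : IsAffineOpen V) (hUV : U ≤ f ⁻¹ᵁ V) :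
    ∃ (W : Scheme.{u}) (g : (U : Scheme.{u}) ⟶ W) (h : W ⟶ Y),
      IsClosedImmersion g ∧ DerSch.HasFiniteTorDim g ∧ Smooth h ∧ g ≫ h = U.ι ≫ f := by
  haveI : IsAffine (U : Scheme.{u}) := hU
  obtain ⟨d, hd⟩ := exists_tdr_stalk f hf
  refine exists_factor (U.ι ≫ f) V hV (fun x _ => hUV x.2) d fun x => ?_
  rw [Scheme.Hom.stalkMap_comp]
  show TDR ((U.ι.stalkMap x).hom.comp (f.stalkMap _).hom) d
  exact (hd _).comp (tdr_of_bijective _ (ConcreteCategory.bijective_of_isIso (U.ι.stalkMap x)))

end Groth.Agent.S17643
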