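import Groth.Statements.S17646
import Groth.Agent.H16Derived.Uniform
import Groth.Prelude.Def_W4c5qcohlocdualityLoc
import Mathlib.CategoryTheory.Abelian.SerreClass.Basic
import Mathlib.CategoryTheory.Subobject.Limits

set_option autoImplicit false
universe w v u
open CategoryTheory CategoryTheory.Limits
open GabLoc

namespace Groth.Agent.S17646

/-- Let C be a Grothendieck abelian category, E an indecomposable injective object of C (E is nonzero
and whenever E ≅ A ⊞ B one of A, B is zero) and S₁, S₂ localizing classes of objects (Serre classes
closed under coproducts). If there are an object of S₁ with a nonzero morphism to E and an object of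
S₂ with a nonzero morphism to E, then there is an object belonging to both S₁ and S₂ with a nonzero
morphism to E. Thus, on the set of isomorphism classes of indecomposable injectives, the subsets of
those having S-torsion, S localizing, are closed under finite intersections (they are also closed
under unions, and form a topology). The published definition of the injective spectrum says
injective objects without the word indecomposable; the published proof of this step uses that each
point of the spectrum is uniform, which is the indecomposable reading taken here. -/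
theorem result {C : Type u} [Category.{v} C] [Abelian C]
    [IsGrothendieckAbelian.{w} C] (E : C) [Injective E] (hE : ¬ IsZero E)
    (hind : ∀ (A B : C), Nonempty (E ≅ A ⊞ B) → IsZero A ∨ IsZero B)
    (S₁ S₂ : ObjectProperty C) (h₁ : GabLoc.IsLocalizing.{w} S₁) (h₂ : GabLoc.IsLocalizing.{w} S₂)
    (ht₁ : GabLoc.HasTorsion S₁ E) (ht₂ : GabLoc.HasTorsion S₂ E) :
    GabLoc.HasTorsion (S₁ ⊓ S₂) E := by
  haveI := h₁.isSerreClass
  haveI := h₂.isSerreClass
  obtain ⟨Y₁, hY₁, f₁, hf₁⟩ := ht₁
  obtain ⟨Y₂, hY₂, f₂, hf₂⟩ := ht₂
  have hm₁ : S₁ (imageSubobject f₁ : C) := S₁.prop_of_epi (factorThruImageSubobject f₁) hY₁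
  have hm₂ : S₂ (imageSubobject f₂ : C) := S₂.prop_of_epi (factorThruImageSubobject f₂) hY₂
  have hn : ∀ {Y : C} (f : Y ⟶ E), f ≠ 0 → ¬ IsZero (imageSubobject f : C) := fun f hf h =>
    hf (by rw [← imageSubobject_arrow_comp f, h.eq_of_tgt (factorThruImageSubobject f) 0, zero_comp])
  have h := Groth.Agent.H16Derived.Uniform.not_disj hind _ _ (hn f₁ hf₁) (hn f₂ hf₂)
  simp only [Groth.Agent.H16Derived.Uniform.Disj, not_forall] at h
  obtain ⟨T, x, y, e, hx⟩ := h
  let a := (imageSubobject f₁).arrow
  let b := (imageSubobject f₂).arrow
  refine ⟨pullback a b, ⟨S₁.prop_of_mono (pullback.fst a b) hm₁, S₂.prop_of_mono (pullback.snd a b) hm₂⟩,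
    pullback.fst a b ≫ a, fun h0 => hx ?_⟩
  have h1 := congrArg (pullback.lift x y e ≫ ·) h0
  simp only [comp_zero] at h1
  rw [pullback.lift_fst_assoc] at h1
  exact zero_of_comp_mono a h1

end Groth.Agent.S17646
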