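import Groth.Statements.S17647
import Groth.Agent.H17.QCohLoc
-- import your own Groth.Agent.* helpers here

set_option autoImplicit false
universe u
open CategoryTheory CategoryTheory.Limits AlgebraicGeometry
open QCohCat

namespace Groth.Agent.S17647

/-- Let X be a scheme and U ⊆ X an open subset whose inclusion U ⟶ X is quasi-compact, Z = X ∖ U. Then
the restriction functor QCoh(X) ⥤ QCoh(U) between the categories of quasi-coherent modules is a
localization functor for the class of morphisms of quasi-coherent O_X-modules whose kernel and
cokernel (computed in O_X-modules) have support contained in Z: the category QCoh(U) is the quotient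
of QCoh(X) by the localizing subcategory of quasi-coherent modules supported in Z, the direct image
along U ⟶ X being the fully faithful right adjoint. No hypothesis is made on X beyond the
quasi-compactness of U ⟶ X. -/
theorem result (X : Scheme.{u})
    (U : X.Opens) [QuasiCompact U.ι] :
    (ObjectProperty.lift (QCohCat.isQCoh (↑U : Scheme.{u}))
        (ObjectProperty.ι (QCohCat.isQCoh X) ⋙ Scheme.Modules.restrictFunctor U.ι)
        (fun M => @Scheme.Modules.isQuasicoherent_restrictFunctor (↑U : Scheme.{u}) X U.ι
          inferInstance M.obj M.property)).IsLocalization
      (fun (A B : QCohCat.QCoh X) (f : A ⟶ B) =>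
        CohB1.support (kernel f.hom) ⊆ (↑U : Set X)ᶜ ∧
          CohB1.support (cokernel f.hom) ⊆ (↑U : Set X)ᶜ) := by
  exact Groth.Agent.H17.QCohLoc.isLocalization U

end Groth.Agent.S17647
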