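import Groth.Statements.S17649
import Groth.Agent.H10Coh.QcqsPush
import Groth.Agent.H10Coh.QCohOps
-- import your own Groth.Agent.* helpers here

set_option autoImplicit false
universe u
open CategoryTheory CategoryTheory.Limits AlgebraicGeometry
open QCohCat

namespace Groth.Agent.S17649

/-- Suppose the scheme X is quasi-compact and quasi-separated, and take two quasi-compact opens U, V ⊆
X. Given a quasi-compact open W, denote by S_W the class of quasi-coherent O_X-modules that restrict
to zero on W. Then S_{U ∩ V} is the smallest localizing subcategory of Qcoh(X) that contains both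
S_U and S_V; concretely (this is the inclusion that is not formal): any quasi-coherent O_X-module F
satisfying F|_{U ∩ V} = 0 arises as an extension of a quasi-coherent module that is zero on V by a
quasi-coherent submodule that is zero on U — one can find a monomorphism A ⟶ F where A is
quasi-coherent, A|_U = 0 and (F/A)|_V = 0. -/
theorem result {X : Scheme.{u}}
    [CompactSpace X] [QuasiSeparatedSpace X] (U V : X.Opens) [QuasiCompact U.ι] [QuasiCompact V.ι]
    (F : X.Modules) (hF : Coh.IsQCoh F) (h : IsZero ((Scheme.Modules.restrictFunctor (U ⊓ V).ι).obj F)) :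
    ∃ (A : X.Modules) (i : A ⟶ F), Mono i ∧ Coh.IsQCoh A ∧
      IsZero ((Scheme.Modules.restrictFunctor U.ι).obj A) ∧
      IsZero ((Scheme.Modules.restrictFunctor V.ι).obj (cokernel i)) := by
  haveI : F.IsQuasicoherent := hF
  let η := (Scheme.Modules.restrictAdjunction U.ι).unit.app F
  haveI : QuasiSeparated U.ι := inferInstance
  haveI : ((Scheme.Modules.restrictFunctor U.ι).obj F).IsQuasicoherent := by
    infer_instance
  haveI : ((Scheme.Modules.pushforward U.ι).obj ((Scheme.Modules.restrictFunctor U.ι).obj F)).IsQuasicoherent :=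
    Groth.Agent.H10Coh.isQuasicoherent_pushforward U.ι _
  haveI : IsIso ((Scheme.Modules.restrictFunctor U.ι).map η) := by
    have : IsIso ((Scheme.Modules.restrictFunctor U.ι).map η ≫
        (Scheme.Modules.restrictAdjunction U.ι).counit.app ((Scheme.Modules.restrictFunctor U.ι).obj F)) := by
      rw [(Scheme.Modules.restrictAdjunction U.ι).left_triangle_components F]
      infer_instance
    exact IsIso.of_isIso_comp_right _
      ((Scheme.Modules.restrictAdjunction U.ι).counit.app ((Scheme.Modules.restrictFunctor U.ι).obj F))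
  haveI : ((𝟭 X.Modules).obj F).IsQuasicoherent := hF
  haveI : ((Scheme.Modules.restrictFunctor U.ι ⋙ Scheme.Modules.pushforward U.ι).obj F).IsQuasicoherent :=
    Groth.Agent.H10Coh.isQuasicoherent_pushforward U.ι _
  haveI : ∀ {Y' : Scheme.{u}} (f : Y' ⟶ X) [IsOpenImmersion f], (Scheme.Modules.restrictFunctor f).PreservesMonomorphisms := by
    intros; infer_instance
  refine ⟨Limits.kernel η, Limits.kernel.ι η, inferInstance, Groth.Agent.H10Coh.isQuasicoherent_kernel η, ?_, ?_⟩
  · refine (Limits.IsZero.iff_id_eq_zero _).2 ?_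
    rw [← cancel_mono ((Scheme.Modules.restrictFunctor U.ι).map (Limits.kernel.ι η)),
      ← cancel_mono ((Scheme.Modules.restrictFunctor U.ι).map η)]
    simp only [Category.id_comp, Limits.zero_comp, ← Functor.map_comp, Limits.kernel.condition]
    exact Functor.map_zero _ _ _
  · refine Limits.IsZero.of_mono ((Scheme.Modules.restrictFunctor V.ι).map (Abelian.factorThruCoimage η)) ?_
    refine (Limits.IsZero.iff_id_eq_zero _).2 (Scheme.Modules.hom_ext _ _ fun W => ?_)
    haveI hsub : ∀ W' : X.Opens, W' ≤ U ⊓ V → Subsingleton Γ(F, W') := by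
      intro W' hW'
      have e : (U ⊓ V).ι ''ᵁ ((U ⊓ V).ι ⁻¹ᵁ W') = W' := by
        rw [Scheme.Hom.image_preimage_eq_opensRange_inf, Scheme.Opens.opensRange_ι]
        exact inf_eq_right.2 hW'
      rw [← e]
      have hz := (Limits.IsZero.iff_id_eq_zero _).1 h
      refine subsingleton_of_forall_eq 0 fun s => ?_
      exact congrArg (fun φ : _ ⟶ _ => Scheme.Modules.Hom.app φ ((U ⊓ V).ι ⁻¹ᵁ W') s) hz
    ext s
    refine @Subsingleton.elim _ (hsub (U.ι ''ᵁ (U.ι ⁻¹ᵁ (V.ι ''ᵁ W))) ?_) _ _
    exact le_inf (Scheme.Opens.ι_image_le _ _) ((Scheme.Hom.image_preimage_le _ _).trans (Scheme.Opens.ι_image_le _ _))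

end Groth.Agent.S17649
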