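import Groth.Statements.S17652
import Groth.Agent.H8Norm.IrredSemicont
import Groth.Agent.S1338
import Groth.Agent.H7Flat.GeomReducedOpen
import Groth.Agent.H28Top.Noeth
import Groth.Agent.H18HTop.SpecLiftDVR

set_option autoImplicit false
universe u
open CategoryTheory CategoryTheory.Limits AlgebraicGeometry TopologicalSpace
open FlatMor

namespace Groth.Agent.S17652

/-- Let k be a field, X and Y schemes of finite type over k and f : X → Y a k-morphism which is flat and
proper and whose fibres over the closed points of Y are geometrically reduced. For y in Y let N(y)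
be the number of irreducible components of the geometric fibre of f at y (the base change of the
fibre to an algebraic closure of the residue field κ(y)). Then N is upper semicontinuous on Y: every
point y has a neighbourhood on which N ≤ N(y). -/
theorem result (k : Type u) [Field k]
    (X Y : Scheme.{u}) [X.Over (Spec (CommRingCat.of k))] [Y.Over (Spec (CommRingCat.of k))]
    [LocallyOfFiniteType (X ↘ Spec (CommRingCat.of k))] [CompactSpace ↥X]
    [LocallyOfFiniteType (Y ↘ Spec (CommRingCat.of k))] [CompactSpace ↥Y]
    (f : X ⟶ Y) (hf : f ≫ (Y ↘ Spec (CommRingCat.of k)) = X ↘ Spec (CommRingCat.of k))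
    [Flat f] [IsProper f]
    (hred : ∀ y : ↥Y, IsClosed ({y} : Set ↥Y) → GeometricallyReduced (f.fiberToSpecResidueField y)) :
    UpperSemicontinuous (fun y : ↥Y =>
      Nat.card ↥(irreducibleComponents (↥(pullback f
        (Spec.map (CommRingCat.ofHom (algebraMap (Y.residueField y) (AlgebraicClosure (Y.residueField y)))) ≫
          Y.fromSpecResidueField y)) : Type u))) := by
  haveI : IsNoetherianRing (CommRingCat.of k) := inferInstanceAs (IsNoetherianRing k)
  haveI : IsLocallyNoetherian Y := LocallyOfFiniteType.isLocallyNoetherian (Y ↘ Spec (CommRingCat.of k))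
  haveI : AlgebraicGeometry.IsNoetherian Y := {}
  haveI : JacobsonSpace ↥(Spec (CommRingCat.of k)) := inferInstanceAs (JacobsonSpace (PrimeSpectrum k))
  haveI : JacobsonSpace ↥Y := LocallyOfFiniteType.jacobsonSpace (Y ↘ Spec (CommRingCat.of k))
  haveI : LocallyOfFinitePresentation f := H18HTop.locallyOfFinitePresentation_of_noetherian f
  have hall : ∀ y : Y, GeometricallyReduced (f.fiberToSpecResidueField y) := by
    intro y
    by_contra hy
    obtain ⟨z, hz, hz'⟩ := nonempty_inter_closedPoints
      (⟨y, hy⟩ : {w : Y | GeometricallyReduced (f.fiberToSpecResidueField w)}ᶜ.Nonempty)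
      (H7Flat.GeomReduced.isOpen_geometricallyReduced f).isClosed_compl.isLocallyClosed
    exact hz (hred z hz')
  have hopen : ∀ m : ℕ, IsOpen {y : Y | MoreMor.nGeomIrredComp f y ≤ m} := by
    intro m
    refine H28Top.isOpen_of_stableUnderGeneralization
      (Topology.IsLocallyConstructible.isConstructible ?_) fun y η hη hy => ?_
    · induction m with
      | zero =>
        rw [show {y : Y | MoreMor.nGeomIrredComp f y ≤ ((0 : ℕ) : ℕ∞)} = {y | MoreMor.nGeomIrredComp f y = 0} by
          ext y; simp]
        exact S1338.result f 0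
      | succ m ih =>
        rw [show {y : Y | MoreMor.nGeomIrredComp f y ≤ ((m + 1 : ℕ) : ℕ∞)} =
            {y | MoreMor.nGeomIrredComp f y ≤ (m : ℕ∞)} ∪ {y | MoreMor.nGeomIrredComp f y = ((m + 1 : ℕ) : ℕ∞)} by
          ext y
          simp only [Set.mem_ofPred_eq, Set.mem_union, Nat.cast_succ]
          rw [le_iff_lt_or_eq, ENat.lt_add_one_iff (ENat.natCast_ne_top m)]]
        exact ih.union (S1338.result f _)
    · exact (H8Norm.IrredSemicont.nGeomIrredComp_le_of_specializes f hη (hall y)).trans hy
  have hN : ∀ y : Y, (Nat.card ↥(irreducibleComponents (↥(pullback f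
      (Spec.map (CommRingCat.ofHom (algebraMap (Y.residueField y) (AlgebraicClosure (Y.residueField y)))) ≫
        Y.fromSpecResidueField y)) : Type u)) : ℕ∞) = MoreMor.nGeomIrredComp f y := by
    intro y
    haveI := H8Norm.GeomCompCount.noetherianSpace_pullback f
      (Spec.map (CommRingCat.ofHom (algebraMap (Y.residueField y) (AlgebraicClosure (Y.residueField y)))) ≫
        Y.fromSpecResidueField y)
    haveI := (NoetherianSpace.finite_irreducibleComponents (α := ↥(pullback f
      (Spec.map (CommRingCat.ofHom (algebraMap (Y.residueField y) (AlgebraicClosure (Y.residueField y)))) ≫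
        Y.fromSpecResidueField y)))).to_subtype
    rw [← ENat.card_eq_coe_natCard]
    refine (H7Flat.GeomInt.nGeom_eq f _ ?_).1
    rw [Scheme.Hom.comp_apply]
    exact Scheme.fromSpecResidueField_apply _ _
  intro y c hc
  filter_upwards [(hopen _).mem_nhds (show y ∈ {z : Y | MoreMor.nGeomIrredComp f z ≤ _} from (hN y).symm.le)] with z hz
  refine lt_of_le_of_lt ?_ hc
  exact_mod_cast (hN z).trans_le hz

end Groth.Agent.S17652
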