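import Groth.Statements.S17653
import Mathlib
import Groth.Agent.H17.DimIneqScheme

set_option autoImplicit false
universe u
open CategoryTheory CategoryTheory.Limits AlgebraicGeometry TopologicalSpace
open Variety

namespace Groth.Agent.S17653

/-- Suppose X and Y are locally Noetherian schemes of the same pure dimension d (every irreducible
component of X and every irreducible component of Y has topological Krull dimension d), and π : X →
Y is a proper morphism between them. If there is a point x of X which is isolated in its fibre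
π⁻¹(π(x)), i.e. some open neighbourhood of x meets that fibre only in x, then the image of π, with
the subspace topology, has the same dimension as Y. -/
theorem result
    (X Y : Scheme.{u}) [IsLocallyNoetherian X] [IsLocallyNoetherian Y] (π : X ⟶ Y) [IsProper π]
    (d : WithBot ℕ∞) (hX : ∀ Z ∈ irreducibleComponents ↥X, topologicalKrullDim ↥Z = d)
    (hY : ∀ Z ∈ irreducibleComponents ↥Y, topologicalKrullDim ↥Z = d)
    (x : ↥X) (hx : ∃ U : X.Opens, x ∈ U ∧ ∀ x' ∈ U, π x' = π x → x' = x) :
    topologicalKrullDim ↥(Set.range (fun z : ↥X => π z)) = topologicalKrullDim ↥Y := by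
  refine le_antisymm (topologicalKrullDim_subspace_le _ _) ?_
  have hYd : topologicalKrullDim ↥Y ≤ d := by
    refine iSup_le fun p => ?_
    obtain ⟨C, hC, hpC⟩ : ∃ C ∈ irreducibleComponents ↥Y, p.last.1 ⊆ C := exists_mem_irreducibleComponents_subset_of_isIrreducible _ p.last.2
    haveI : QuasiSober C := (isClosed_of_mem_irreducibleComponents C hC).isClosedEmbedding_subtypeVal.quasiSober
    rw [← hY C hC]
    let q : Fin (p.length + 1) → TopologicalSpace.IrreducibleCloseds C := fun i =>
      { carrier := Subtype.val ⁻¹' (p i).1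
        isIrreducible' := by
          refine ⟨?_, ?_⟩
          swap
          · rintro _ _ ⟨U, hU, rfl⟩ ⟨V, hV, rfl⟩ ⟨a, ha, haU⟩ ⟨b, hb, hbV⟩
            obtain ⟨c, hc, hcUV⟩ := (p i).2.isPreirreducible U V hU hV ⟨a.1, ha, haU⟩ ⟨b.1, hb, hbV⟩
            exact ⟨⟨c, hpC ((p.monotone (Fin.le_last i)) hc)⟩, hc, hcUV⟩
          obtain ⟨z, hz⟩ := (p i).2.nonempty
          exact ⟨⟨z, hpC ((p.monotone (Fin.le_last i)) hz)⟩, hz⟩
        isClosed' := (p i).3.preimage continuous_subtype_val }
    refine Order.LTSeries.length_le_krullDim (LTSeries.mk p.length q (fun i j hij => ?_))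
    have h := p.strictMono hij
    refine lt_of_le_not_ge (fun z hz => h.le hz) fun hh => h.not_ge fun z hz => ?_
    exact hh (show (⟨z, hpC ((p.monotone (Fin.le_last j)) hz)⟩ : C) ∈ Subtype.val ⁻¹' (p j).1 from hz)
  refine hYd.trans ?_
  -- the component of X through x
  let C := irreducibleComponent x
  have hC : C ∈ irreducibleComponents ↥X := irreducibleComponent_mem_irreducibleComponents x
  let I := Scheme.IdealSheafData.vanishingIdeal (X := X) ⟨C, isClosed_irreducibleComponent⟩
  let ι := I.subschemeι
  have hrι : Set.range ι = C := by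
    show Set.range I.subschemeι = _
    rw [Scheme.IdealSheafData.range_subschemeι, Scheme.IdealSheafData.coe_support_vanishingIdeal]
    rfl
  let g := ι ≫ π
  let h := g.toImage
  have hdimZ : topologicalKrullDim ↥I.subscheme = d := by
    rw [← hX C hC]
    exact (IsHomeomorph.topologicalKrullDim_eq _
      ((ι.isEmbedding.toHomeomorph.trans (Homeomorph.setCongr hrι)).isHomeomorph))
  haveI : IrreducibleSpace ↥I.subscheme := by
    haveI : IrreducibleSpace C := Subtype.irreducibleSpace isIrreducible_irreducibleComponent
    let e := (ι.isEmbedding.toHomeomorph.trans (Homeomorph.setCongr hrι)).symm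
    rw [irreducibleSpace_def]
    show IsIrreducible (Set.univ)
    rw [← Set.range_eq_univ.mpr e.surjective, ← Set.image_univ]
    exact (IrreducibleSpace.isIrreducible_univ C).image _ e.continuous.continuousOn
  have hrange : topologicalKrullDim ↥g.image ≤ topologicalKrullDim ↥(Set.range (fun z : ↥X => π z)) := by
    have hsub : Set.range g.imageι ⊆ Set.range π := by
      rw [show Set.range g.imageι = closure (Set.range g) by
        rw [← g.support_ker]; exact g.ker.range_subschemeι]
      refine closure_minimal ?_ π.isClosedMap.isClosed_range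
      rintro _ ⟨z, rfl⟩
      exact ⟨ι z, rfl⟩
    let e : ↥g.image → ↥(Set.range (fun z : ↥X => π z)) := fun w => ⟨g.imageι w, hsub ⟨w, rfl⟩⟩
    have he : Topology.IsInducing e := by
      refine Topology.IsInducing.of_comp (by fun_prop) continuous_subtype_val ?_
      exact g.imageι.isEmbedding.isInducing
    exact he.topologicalKrullDim_le
  refine le_trans ?_ hrange
  rw [← hdimZ, Groth.Agent.H17.topologicalKrullDim_eq_krullDim_specialization ↥I.subscheme, Order.krullDim_eq_iSup_coheight]
  refine iSup_le fun z => ?_
  -- the generic fibre is finite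
  haveI : IsLocallyNoetherian g.image := LocallyOfFiniteType.isLocallyNoetherian g.imageι
  haveI : LocallyOfFiniteType h := by
    haveI : LocallyOfFiniteType (h ≫ g.imageι) := by rw [g.toImage_imageι]; infer_instance
    exact locallyOfFiniteType_of_comp h g.imageι
  obtain ⟨x₀, hx₀⟩ : x ∈ Set.range ι := hrι ▸ mem_irreducibleComponent
  have hqx : h.QuasiFiniteAt x₀ := by
    rw [← Scheme.Hom.quasiFiniteAt_comp_iff (g := g.imageι), g.toImage_imageι, Scheme.Hom.quasiFiniteAt_iff_isOpen_singleton_asFiber]
    obtain ⟨U, hxU, hU⟩ := hx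
    rw [← (g.fiberHomeo (g x₀)).isOpen_image, Set.image_singleton, isOpen_induced_iff]
    refine ⟨ι ⁻¹' U, U.2.preimage ι.continuous, ?_⟩
    ext ⟨w, hw⟩
    simp only [Scheme.Hom.asFiber, Homeomorph.apply_symm_apply, Set.mem_preimage, Set.mem_singleton_iff, Subtype.mk.injEq]
    refine ⟨fun hwU => ι.isEmbedding.injective ?_, fun e => by subst e; rw [hx₀]; exact hxU⟩
    rw [hx₀]
    refine hU _ hwU ?_
    rw [← hx₀]
    exact hw
  let ξ := genericPoint ↥I.subscheme
  have hqξ : h.QuasiFiniteAt ξ := (genericPoint_specializes x₀).mem_open h.isOpen_quasiFiniteAt hqx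
  obtain ⟨b, hb, hb'⟩ := Groth.Agent.H17.DimIneq.scheme_ineq h z 0 (fun η hη _ => by
    obtain rfl : η = ξ := by
      refine ((genericPoint_spec _).eq ?_).symm
      rw [irreducibleComponents_eq_singleton] at hη
      exact hη
    letI := (h.residueFieldMap ξ).hom.toAlgebra
    haveI : Module.Finite (g.image.residueField (h ξ)) (I.subscheme.residueField ξ) := by
      have h1 : ((g.image.residue (h ξ)) ≫ h.residueFieldMap ξ).hom.QuasiFinite := by
        rw [Scheme.residue_residueFieldMap]
        exact (RingHom.QuasiFinite.of_finite (RingHom.Finite.of_surjective _ (I.subscheme.residue_surjective ξ))).comp hqξ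
      have h2 := RingHom.QuasiFinite.of_comp h1
      rw [RingHom.QuasiFinite] at h2
      exact Module.Finite.of_quasiFinite
    rw [trdeg_eq_zero, Nat.cast_zero])
  have hz : ringKrullDim (I.subscheme.presheaf.stalk z) ≤ ringKrullDim (g.image.presheaf.stalk (h z)) := by
    rw [hb]
    suffices H : ∀ l : ℕ, (l : WithBot ℕ∞) ≤ ringKrullDim (I.subscheme.presheaf.stalk z) → (l : WithBot ℕ∞) ≤ b by
      generalize ringKrullDim (I.subscheme.presheaf.stalk z) = c at H ⊢
      cases c with
      | bot => exact bot_le
      | coe c => exact WithBot.coe_le_coe.mpr (ENat.forall_natCast_le_iff_le.mp fun l hl =>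
          WithBot.coe_le_coe.mp (H l (WithBot.coe_le_coe.mpr hl)))
    intro l hl
    have := (le_add_of_nonneg_right zero_le).trans (hb' l hl)
    rw [Nat.cast_zero, add_zero, ← Cardinal.ofENat_nat, Cardinal.ofENat_le_ofENat] at this
    exact_mod_cast this
  rw [ringKrullDim_stalk_eq_coheight, ringKrullDim_stalk_eq_coheight] at hz
  refine hz.trans ?_
  rw [Groth.Agent.H17.topologicalKrullDim_eq_krullDim_specialization ↥g.image]
  exact Order.coheight_le_krullDim _

end Groth.Agent.S17653
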