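import Groth.Statements.S17655
import Groth.Agent.H06DefAmple.Basic
import Groth.Agent.S17650
-- import your own Groth.Agent.* helpers here

set_option autoImplicit false
universe u
open CategoryTheory CategoryTheory.Limits AlgebraicGeometry TopologicalSpace
attribute [local instance] HasDerivedCategory.standard
open Curves

namespace Groth.Agent.S17655

/-- Let k be an algebraically closed field and B a connected scheme, proper over k, of dimension one,
with at-worst-nodal singularities and H^1(B, O_B) = 0, and let ω_B be its dualizing module over k
(the cohomology sheaf in degree −1 of the upper-shriek pull-back of O_{Spec k}; the existence of the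
upper-shriek functor is assumed). Call a finite locally free O_B-module deformation ample when it is
generated by global sections and H^1(B, E ⊗ ω_B) = 0. If φ : E₁ → E₂ is a morphism of finite locally
free O_B-modules whose cokernel is a torsion module (every point of its support is closed) and E₁ is
deformation ample, then E₂ is deformation ample. (The source states this for a family of prestable
genus-zero curves over an arbitrary base T, with relative global generation and R^1 of the direct
image in place of global generation and H^1; this is the case T = Spec k of a field base, the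
general case needing relative duality not available here. The source also assumes the sheaves
nonzero (positive rank), which the conclusion does not need.) -/
theorem result (k : Type u) [Field k] [IsAlgClosed k]
    (B : Scheme.{u}) [B.Over (Spec (CommRingCat.of k))] [IsProper (B ↘ Spec (CommRingCat.of k))]
    [ConnectedSpace ↥B] (hdim : topologicalKrullDim ↥B = 1) (hnod : Curv2.AtWorstNodal k B)
    (hg : Subsingleton (Coh.HH B (Coh.structureModule B) 1))
    [DCoh.HasRpush (B ↘ Spec (CommRingCat.of k))] (h : DCoh.RpushPreservesQCoh (B ↘ Spec (CommRingCat.of k))) [DCoh.HasShriek (B ↘ Spec (CommRingCat.of k)) h]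
    (OY : DCoh.DQCoh (Spec (CommRingCat.of k))) (hOY : Nonempty (OY.obj ≅ DCoh.inD (Spec (CommRingCat.of k)) (Coh.structureModule (Spec (CommRingCat.of k)))))
    (E₁ E₂ : B.Modules) (hE₁ : FlatMod.IsFinLocFree E₁) (hE₂ : FlatMod.IsFinLocFree E₂) (φ : E₁ ⟶ E₂)
    (htors : ∀ x ∈ CohB1.support (cokernel φ), IsClosed ({x} : Set ↥B))
    (h₁ : (Curv2.IsGloballyGenerated E₁ ∧ Subsingleton (Coh.HH B (CohB1.tensorMod E₁ (DCoh.dualizingMod (B ↘ Spec (CommRingCat.of k)) h OY 1)) 1))) :
    (Curv2.IsGloballyGenerated E₂ ∧ Subsingleton (Coh.HH B (CohB1.tensorMod E₂ (DCoh.dualizingMod (B ↘ Spec (CommRingCat.of k)) h OY 1)) 1)) := by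
  haveI := H29RR.isNoetherian_of_proper (k := k) (X := B)
  exact H06DefAmple.of_torsion_cokernel k hdim.le hg (H16Derived.KFlat.Stalk.isCoh_of_isFinLocFree hE₁)
    (H16Derived.KFlat.Stalk.isCoh_of_isFinLocFree hE₂) φ htors _ h₁.1 h₁.2

end Groth.Agent.S17655
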