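import Groth.Statements.S17656
import Groth.Agent.H06DefAmple.Basic
import Groth.Agent.S17650
-- import your own Groth.Agent.* helpers here

set_option autoImplicit false
universe u
open CategoryTheory CategoryTheory.Limits AlgebraicGeometry TopologicalSpace
attribute [local instance] HasDerivedCategory.standard
open Curves

namespace Groth.Agent.S17656

/-- Let k be an algebraically closed field and B a connected scheme, proper over k, of dimension one,
with at-worst-nodal singularities and H^1(B, O_B) = 0, and let ω_B be its dualizing module over k
(the cohomology sheaf in degree −1 of the upper-shriek pull-back of O_{Spec k}; the existence of the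
upper-shriek functor is assumed). Call a finite locally free O_B-module deformation ample when it is
generated by global sections and H^1(B, E ⊗ ω_B) = 0. If 0 → E₁ → E₂ → E₃ → 0 is a short exact
sequence of finite locally free O_B-modules with E₁ and E₃ deformation ample, then E₂ is deformation
ample. (The source states this for a family of prestable genus-zero curves over an arbitrary base T,
with relative global generation and R^1 of the direct image in place of global generation and H^1;
this is the case T = Spec k of a field base, the general case needing relative duality not available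
here. The source also assumes the sheaves nonzero (positive rank), which the conclusion does not
need.) -/
theorem result (k : Type u) [Field k] [IsAlgClosed k]
    (B : Scheme.{u}) [B.Over (Spec (CommRingCat.of k))] [IsProper (B ↘ Spec (CommRingCat.of k))]
    [ConnectedSpace ↥B] (hdim : topologicalKrullDim ↥B = 1) (hnod : Curv2.AtWorstNodal k B)
    (hg : Subsingleton (Coh.HH B (Coh.structureModule B) 1))
    [DCoh.HasRpush (B ↘ Spec (CommRingCat.of k))] (h : DCoh.RpushPreservesQCoh (B ↘ Spec (CommRingCat.of k))) [DCoh.HasShriek (B ↘ Spec (CommRingCat.of k)) h]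
    (OY : DCoh.DQCoh (Spec (CommRingCat.of k))) (hOY : Nonempty (OY.obj ≅ DCoh.inD (Spec (CommRingCat.of k)) (Coh.structureModule (Spec (CommRingCat.of k)))))
    (S : ShortComplex B.Modules) (hS : S.ShortExact)
    (hE₁ : FlatMod.IsFinLocFree S.X₁) (hE₂ : FlatMod.IsFinLocFree S.X₂) (hE₃ : FlatMod.IsFinLocFree S.X₃)
    (h₁ : (Curv2.IsGloballyGenerated S.X₁ ∧ Subsingleton (Coh.HH B (CohB1.tensorMod S.X₁ (DCoh.dualizingMod (B ↘ Spec (CommRingCat.of k)) h OY 1)) 1))) (h₃ : (Curv2.IsGloballyGenerated S.X₃ ∧ Subsingleton (Coh.HH B (CohB1.tensorMod S.X₃ (DCoh.dualizingMod (B ↘ Spec (CommRingCat.of k)) h OY 1)) 1))) :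
    (Curv2.IsGloballyGenerated S.X₂ ∧ Subsingleton (Coh.HH B (CohB1.tensorMod S.X₂ (DCoh.dualizingMod (B ↘ Spec (CommRingCat.of k)) h OY 1)) 1)) := by
  haveI := H29RR.isNoetherian_of_proper (k := k) (X := B)
  exact ⟨H06DefAmple.gg_of_extension k hdim.le hg hS (H16Derived.KFlat.Stalk.isCoh_of_isFinLocFree hE₁) h₁.1 h₃.1,
    H06DefAmple.h1_twist_of_extension k hdim.le hS _ h₁.2 h₃.2⟩

end Groth.Agent.S17656
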