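import Groth.Statements.S17658
import Groth.Agent.H28Alg.Monomials

set_option autoImplicit false
universe u
open Surf

namespace Groth.Agent.S17658

/-- In the polynomial ring k[T₀,T₁,U,V] over a field k, bigraded by deg T₀ = deg T₁ = (0,1), deg U =
(1,−1), deg V = (1,0) (the Cox ring of the Hirzebruch surface F₁; its piece of bidegree (a,b) is the
space of sections of O(a(E+F)+bF)), let S_(a,b) denote the k-span of the monomials of bidegree
(a,b), so that S_(0,c) is the space of forms of degree c in T₀, T₁. A subspace W ⊆ S_(a,b) is called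
c-generating when W·S_(0,c) = S_(a,b+c). Fix a monomial order and natural numbers a, b, c, and let
W₀(a,b,c) be the set of monomials U^i V^(a−i) T₀^(b+i−j(c+1)) T₁^(j(c+1)) with 0 ≤ i ≤ a, j ≥ 0 and
j(c+1) < b+i, together with the monomials U^i V^(a−i) T₁^(b+i) with 0 ≤ i ≤ a. If every monomial of
W₀(a,b,c) is the leading monomial of some nonzero element of W, then W is c-generating. (The source
fixes the graded lexicographic order with U > V > T₀ > T₁ and works over the complex numbers; its
argument uses only that leading monomials are multiplicative and that W₀(a,b,c)·S_(0,c) contains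
every monomial of S_(a,b+c), so any monomial order and any field are allowed here. The printed index
j runs from 1; with that range the statement fails already for a = 0, b = c = 1 and W spanned by T₁,
and the range from 0 used here is the one matching the accompanying dimension count.) Variables are
indexed T₀ = 0, T₁ = 1, U = 2, V = 3. -/
theorem result (k : Type u) [Field k]
    (mo : MonomialOrder (Fin 4)) (a b c : ℕ) (W : Submodule k (MvPolynomial (Fin 4) k))
    (hW : W ≤ Submodule.span k {f : MvPolynomial (Fin 4) k | ∃ e : Fin 4 →₀ ℕ, e 2 + e 3 = a ∧ e 0 + e 1 = b + e 2 ∧ f = MvPolynomial.monomial e 1})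
    (h₁ : ∀ i j : ℕ, i ≤ a → j * (c + 1) < b + i → ∃ w ∈ W, w ≠ 0 ∧
      mo.degree w = Finsupp.single 0 (b + i - j * (c + 1)) + Finsupp.single 1 (j * (c + 1)) +
        Finsupp.single 2 i + Finsupp.single 3 (a - i))
    (h₂ : ∀ i : ℕ, i ≤ a → ∃ w ∈ W, w ≠ 0 ∧
      mo.degree w = Finsupp.single 1 (b + i) + Finsupp.single 2 i + Finsupp.single 3 (a - i)) :
    W * Submodule.span k {f : MvPolynomial (Fin 4) k | ∃ e : Fin 4 →₀ ℕ, e 2 + e 3 = 0 ∧ e 0 + e 1 = c + e 2 ∧ f = MvPolynomial.monomial e 1} =
      Submodule.span k {f : MvPolynomial (Fin 4) k | ∃ e : Fin 4 →₀ ℕ, e 2 + e 3 = a ∧ e 0 + e 1 = (b + c) + e 2 ∧ f = MvPolynomial.monomial e 1} := by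
  exact H28Alg.piece_generated mo a b c W hW h₁ h₂

end Groth.Agent.S17658
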