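import Groth.Statements.S17659
import Mathlib
import Groth.Agent.H22Alg.DegBundle
import Groth.Agent.H28Int.Push
import Groth.Agent.H10Coh.ProjFormulaFLF
import Groth.Agent.H8Props.FieldDimFormula
import Groth.Agent.H10Coh.TensorBasics

set_option autoImplicit false
universe u
open CategoryTheory CategoryTheory.Limits AlgebraicGeometry
open CIDisc

namespace Groth.Agent.S17659

/-- Let X be a proper scheme over a field k all of whose irreducible components have dimension one, E a
finite locally free O_X-module of constant rank n and F a coherent O_X-module. Then χ(X, E ⊗ F) =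
Σ_Z r_Z(F) · deg(E|_{Z_red}) + n · χ(X, F), the sum running over the irreducible components Z of X,
where r_Z(F) is the length of the stalk of F at the generic point ξ_Z of Z as a module over
O_{X,ξ_Z}, and Z_red is Z with its reduced induced structure (the closed subscheme cut out by the
radical of the ideal of the component). The Noetherian hypothesis on X is a consequence of
properness over k and is stated for convenience. -/
theorem result (k : Type u) [Field k] (X : Scheme.{u}) [X.Over (Spec (CommRingCat.of k))]
    [IsProper (X ↘ (Spec (CommRingCat.of k)))] [IsNoetherian X]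
    (hdim : ∀ Z ∈ irreducibleComponents (X : Type u), topologicalKrullDim Z = 1)
    (n : ℕ) (E : X.Modules) (hE : FlatMod.IsFinLocFreeOfRank n E) (F : X.Modules) (hF : Coh.IsCoh F) :
    Curv2.euler k X (CohB1.tensorMod E F) =
      (∑ᶠ Z : irreducibleComponents (X : Type u),
        ((Module.length (X.presheaf.stalk Z.2.1.genericPoint) (F.presheaf.stalk Z.2.1.genericPoint)).toNat : ℤ) *
          @Curv2.deg k _ (X.irreducibleComponentIdeal Z.1 Z.2).radical.subscheme
            ⟨(X.irreducibleComponentIdeal Z.1 Z.2).radical.subschemeι ≫ (X ↘ (Spec (CommRingCat.of k)))⟩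
            ((Scheme.Modules.pullback (X.irreducibleComponentIdeal Z.1 Z.2).radical.subschemeι).obj E) n) +
        (n : ℤ) * Curv2.euler k X F := by
  classical
  have hdim1 : topologicalKrullDim X ≤ ((1 : ℕ) : WithBot ℕ∞) := by
    rw [Groth.Agent.H8Props.FieldDim.dim_eq_iSup_cdim]
    refine iSup_le fun z => ?_
    obtain ⟨T, hT, hzT⟩ := exists_mem_irreducibleComponents_subset_of_isIrreducible (closure ({z} : Set X))
      (isIrreducible_singleton.closure)
    exact ((Topology.IsEmbedding.inclusion hzT).isInducing.topologicalKrullDim_le).trans (hdim T hT).le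
  have hEf : FlatMod.IsFinLocFree E := fun y => let ⟨U, hU⟩ := hE y; ⟨U, n, hU⟩
  have hdY : topologicalKrullDim (CohB1.support F) ≤ ((1 : ℕ) : WithBot ℕ∞) :=
    (Topology.IsInducing.subtypeVal.topologicalKrullDim_le).trans hdim1
  rw [← sub_eq_iff_eq_add,
    show Curv2.euler k X (CohB1.tensorMod E F) - (n : ℤ) * Curv2.euler k X F =
      Groth.Agent.H22Alg.DegBundle.ψ k E n F from by
        rw [Groth.Agent.H25Euler.euler_congr (Groth.Agent.H10Coh.Tw.commIso E F)]; rfl,
    Groth.Agent.H22Alg.DevLength.eq_finsum (Groth.Agent.H22Alg.DegBundle.isAddFn_ψ k hE)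
      (Groth.Agent.H22Alg.DegBundle.ψ_eq_zero k hE) hF hdY]
  let g : irreducibleComponents (X : Type u) → X := fun Z => Z.2.1.genericPoint
  have hg : ∀ Z, closure ({g Z} : Set X) = Z.1 := fun Z => by
    exact IsIrreducible.closure_genericPoint Z.2.1 (isClosed_of_mem_irreducibleComponents Z.1 Z.2)
  have hinj : Function.Injective g := fun Z W h => Subtype.ext (by rw [← hg Z, ← hg W, h])
  rw [← finsum_mem_univ, finsum_mem_inter_support_eq' _ Set.univ (Set.range g) fun ξ hξ => ?_,
    finsum_mem_range hinj]
  swap
  · refine iff_of_true trivial ?_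
    simp only [Function.mem_support] at hξ
    split_ifs at hξ with h1
    · have hsup : IsIrreducible (closure ({ξ} : Set X)) := isIrreducible_singleton.closure
      obtain ⟨t, htc, hsub⟩ := exists_mem_irreducibleComponents_subset_of_isIrreducible _ hsup
      refine ⟨⟨t, htc⟩, ?_⟩
      by_contra hne
      have hs : g ⟨t, htc⟩ ⤳ ξ := specializes_iff_mem_closure.2 ((hg ⟨t, htc⟩).symm ▸ hsub (subset_closure rfl))
      have := Groth.Agent.H22Alg.DevLength.dim_closure_lt hs (Ne.symm hne) (d := 1)
        ((Topology.IsInducing.subtypeVal.topologicalKrullDim_le).trans hdim1)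
      exact this.ne h1
    · exact absurd rfl hξ
  refine finsum_congr fun Z => ?_
  rw [hg Z, if_pos (show topologicalKrullDim (Z.1 : Set X) = ((1 : ℕ) : WithBot ℕ∞) from hdim Z.1 Z.2)]
  · congr 1
    let J := (X.irreducibleComponentIdeal Z.1 Z.2).radical
    have hJ : Scheme.IdealSheafData.vanishingIdeal (Groth.Agent.H22Alg.DevLength.cl (g Z)) = J := by
      refine Eq.trans ?_ Scheme.IdealSheafData.vanishingIdeal_support
      congr 1
      exact SetLike.ext' (hg Z)
    letI : J.subscheme.Over (Spec (CommRingCat.of k)) := ⟨J.subschemeι ≫ (X ↘ (Spec (CommRingCat.of k)))⟩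
    haveI : IsLocallyNoetherian J.subscheme := LocallyOfFiniteType.isLocallyNoetherian J.subschemeι
    let O := Coh.structureModule J.subscheme
    have hiso := Groth.Agent.H10Coh.PF.isIso_ψ_of_isFinLocFree J.subschemeι hEf O
    let eP : CohB1.tensorMod ((Coh.push J.subschemeι).obj O) E ≅
        (Coh.push J.subschemeι).obj (CohB1.tensorMod O ((Scheme.Modules.pullback J.subschemeι).obj E)) :=
      @asIso _ _ _ _ _ hiso
    haveI : O.IsQuasicoherent := Groth.Agent.H10Coh.isQuasicoherent_unit
    haveI : (CohB1.tensorMod O ((Scheme.Modules.pullback J.subschemeι).obj E)).IsQuasicoherent :=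
      (Groth.Agent.H10Coh.TT.isCoh_tensorMod (Groth.Agent.H10Coh.isCoh_structureModule' _)
        (Groth.Agent.H16Derived.KFlat.Stalk.isCoh_of_isFinLocFree
          (Groth.Agent.H16Derived.KFlat.Stalk.isFinLocFree_pullback J.subschemeι hEf))).1
    have e0 : Groth.Agent.H25K.redMod (Groth.Agent.H22Alg.DevLength.cl (g Z)) = (Coh.push J.subschemeι).obj O := by
      rw [Groth.Agent.H25K.redMod, hJ]
    rw [e0]
    show _ - _ = _ - _
    rw [Groth.Agent.H25Euler.euler_congr eP, Groth.Agent.H28Int.Push.euler_push k J.subschemeι rfl,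
      Groth.Agent.H28Int.Push.euler_push k J.subschemeι rfl,
      Groth.Agent.H25Euler.euler_congr (Groth.Agent.H10Coh.Tw.leftUnitIso ((Scheme.Modules.pullback J.subschemeι).obj E))]

end Groth.Agent.S17659
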