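import Groth.Statements.S17660
import Groth.Agent.S11774
import Groth.Agent.H28Int.Push
import Groth.Agent.H29RR.P1Split
import Groth.Agent.H3CAlg.FormsDim
import Groth.Agent.H24FSch.ModSysPush
import Groth.Agent.H11Ample.Twist

set_option autoImplicit false
universe u
open CategoryTheory CategoryTheory.Limits AlgebraicGeometry
open Ribbon

namespace Groth.Agent.S17660

open CategoryTheory CategoryTheory.Limits AlgebraicGeometry
open Groth.Agent.H16Derived.KFlat Groth.Agent.H16Derived.ProjFormula in
/-- `A ⊗ L` is the push forward of the tensor product of the restrictions, for `A` killed by the ideal. -/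
theorem exists_push_iso {X Z : Scheme.{u}} (i : Z ⟶ X) [IsClosedImmersion i] {A : X.Modules} (L : X.Modules)
    (hA : Killed i A) :
    Nonempty (((DCoh.tensorBi (X := X)).flip.obj L).obj A ≅
      (Coh.push i).obj (CohB1.tensorMod ((Scheme.Modules.pullback i).obj A) ((Scheme.Modules.pullback i).obj L))) := by
  have h : IsIso ((Scheme.Modules.pullbackPushforwardAdjunction i).unit.app (((DCoh.tensorBi (X := X)).flip.obj L).obj A)) :=
    isIso_unit_of_killed i (Groth.Agent.S11774.killed_tensor i hA L)
  exact ⟨@asIso _ _ _ _ ((Scheme.Modules.pullbackPushforwardAdjunction i).unit.app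
      (((DCoh.tensorBi (X := X)).flip.obj L).obj A)) h ≪≫
    (Scheme.Modules.pushforward i).mapIso ((Stalk.pullTensorLIso i L).app A)⟩

attribute [local instance] Groth.Agent.H29RR.PnPic.overSpec

open CategoryTheory CategoryTheory.Limits AlgebraicGeometry in
/-- Degree of twists on the line. -/
theorem deg_line (k : Type u) [Field k] (a : ℤ) :
    Curv2.deg k (CohB1.ProjSpace 1 k) (Twist.twistProjSpace 1 k a) 1 = a := by
  obtain ⟨c, -, hc⟩ := Groth.Agent.H29RR.PnPic.deg_twist_line (k := k)
  haveI : IsProper (CohB1.ProjSpace 1 k ↘ Spec (CommRingCat.of k)) := Groth.Agent.H27Weil.isProper_toSpec 1 k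
  obtain ⟨hint, -, hdim⟩ := Groth.Agent.H28Curve.projLine_facts k
  haveI := hint
  haveI := Groth.Agent.H29RR.isNoetherian_of_proper (k := k) (X := CohB1.ProjSpace 1 k)
  have hdim' : topologicalKrullDim ↥(CohB1.ProjSpace 1 k) ≤ 1 := hdim.le
  obtain ⟨e₀⟩ := (Groth.Agent.H10Coh.Stab.isTwistFamily_projSpace 1 k).zero
  haveI : Subsingleton (Coh.HH (CohB1.ProjSpace 1 k) (Twist.twistProjSpace 1 k 1) 1) :=
    Groth.Agent.H10Coh.Pn.subsingleton_HH_Od 1 (by omega) (by omega)
  haveI : Subsingleton (Coh.HH (CohB1.ProjSpace 1 k) (Coh.structureModule _) 1) :=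
    Groth.Agent.H10Coh.Pn.subsingleton_HH_structureModule 1 k 1 one_pos
  have h2 : Module.finrank k (Coh.HH (CohB1.ProjSpace 1 k) (Twist.twistProjSpace 1 k 1) 0) = 2 := by
    rw [show (1 : ℤ) = ((1 : ℕ) : ℤ) from rfl, Groth.Agent.H29RR.PnPic.finrank_h0_nat,
      (Groth.Agent.H3CAlg.finrank_homogeneous 1 1).2]
    rfl
  have h00 := Groth.Agent.H29RR.PnPic.finrank_h0_zero (k := k) (n := 1)
  rw [(Groth.Agent.H29RR.hhIso (k := k) e₀ 0).finrank_eq] at h00
  have h1 := hc 1
  rw [Groth.Agent.H29RR.deg_def, Groth.Agent.H29RR.euler_eq_sub (k := k) hdim',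
    Groth.Agent.H29RR.euler_eq_sub (k := k) hdim', h00, h2,
    Module.finrank_zero_of_subsingleton (M := Coh.HH (CohB1.ProjSpace 1 k) (Twist.twistProjSpace 1 k 1) 1),
    Module.finrank_zero_of_subsingleton (M := Coh.HH (CohB1.ProjSpace 1 k) (Coh.structureModule _) 1)] at h1
  rw [hc a, show c = 1 by omega, mul_one]

/-- Let C be a proper scheme over a field k and I ⊂ O_C a quasi-coherent ideal with I² = 0 whose closed
subscheme D ⊂ C is isomorphic over k to the projective line, and suppose that I, regarded as an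
O_D-module, is isomorphic to O_{P^1}(-g-1) (so C is a ribbon of arithmetic genus g on P^1 with
conormal bundle I). If L is an invertible O_C-module whose restriction to D is isomorphic to
O_{P^1}(n), then the degree χ(C, L) - χ(C, O_C) of L equals 2n. (Stated over an arbitrary ground
field; the source works with rational ribbons over an algebraically closed field, and also
identifies I·L with O_{P^1}(n-g-1), which is not asserted here.) -/
theorem result (k : Type u) [Field k] (C : Scheme.{u}) [C.Over (Spec (CommRingCat.of k))]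
    [IsProper (C ↘ (Spec (CommRingCat.of k)))]
    (I : C.IdealSheafData) (hI : I ^ 2 = ⊥)
    (e : I.subscheme ≅ CohB1.ProjSpace 1 k)
    (he : e.hom ≫ CohB1.ProjSpace.toSpec 1 k = I.subschemeι ≫ (C ↘ (Spec (CommRingCat.of k))))
    (g : ℕ)
    (hconormal : Nonempty ((Scheme.Modules.pullback I.subschemeι).obj (ClSub.idealMod I) ≅
      (Scheme.Modules.pullback e.hom).obj (Twist.twistProjSpace 1 k (-((g : ℤ) + 1)))))
    (L : C.Modules) (hL : PicF.IsInvertible L) (n : ℤ)
    (hLD : Nonempty ((Scheme.Modules.pullback I.subschemeι).obj L ≅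
      (Scheme.Modules.pullback e.hom).obj (Twist.twistProjSpace 1 k n))) :
    Curv2.deg k C L 1 = 2 * n := by
    haveI : IsLocallyNoetherian C := LocallyOfFiniteType.isLocallyNoetherian (C ↘ Spec (CommRingCat.of k))
    let ι := I.subschemeι
    letI : I.subscheme.Over (Spec (CommRingCat.of k)) := ⟨ι ≫ (C ↘ Spec (CommRingCat.of k))⟩
    haveI : IsProper (I.subscheme ↘ Spec (CommRingCat.of k)) := inferInstanceAs (IsProper (ι ≫ _))
    haveI : IsLocallyNoetherian I.subscheme := LocallyOfFiniteType.isLocallyNoetherian (I.subscheme ↘ Spec (CommRingCat.of k))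
    have hT := Groth.Agent.H10Coh.Stab.isTwistFamily_projSpace 1 k
    let O := Twist.twistProjSpace 1 k
    let P := Scheme.Modules.pullback e.hom
    have hpush : ∀ N : (CohB1.ProjSpace 1 k).Modules, Coh.IsCoh N →
        Curv2.euler k I.subscheme (P.obj N) = Curv2.euler k (CohB1.ProjSpace 1 k) N := by
      intro N hN
      haveI := hN.1
      haveI := Groth.Agent.H16Derived.ProjFormula.isIso_counit_of_isClosedImmersion e.inv N
      let α : P.obj N ≅ (Coh.push e.inv).obj N :=
        P.mapIso (asIso ((Scheme.Modules.pullbackPushforwardAdjunction e.inv).counit.app N)).symm ≪≫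
          (Scheme.Modules.pullbackComp e.hom e.inv).app _ ≪≫
          (Scheme.Modules.pullbackCongr e.hom_inv_id).app _ ≪≫ (Scheme.Modules.pullbackId _).app _
      rw [Groth.Agent.H25Euler.euler_congr α]
      exact Groth.Agent.H28Int.Push.euler_push k e.inv (by
        show e.inv ≫ ι ≫ (C ↘ Spec (CommRingCat.of k)) = CohB1.ProjSpace.toSpec 1 k
        rw [← he, Iso.inv_hom_id_assoc]) N
    have hcoh : ∀ a, Coh.IsCoh (O a) := fun a => Groth.Agent.H16Derived.KFlat.Stalk.isCoh_of_isFinLocFree
      (Groth.Agent.H28Pinch.isFinLocFree_of_isInvertible (hT.inv a))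
    have hchi : ∀ a, Curv2.euler k (CohB1.ProjSpace 1 k) (O a) =
        a + Curv2.euler k (CohB1.ProjSpace 1 k) (Coh.structureModule _) := fun a => by
      have := deg_line k a
      rw [Groth.Agent.H29RR.deg_def] at this
      exact eq_add_of_sub_eq this
    have htens : ∀ a b, Nonempty (CohB1.tensorMod (P.obj (O a)) (P.obj (O b)) ≅ P.obj (O (a + b))) := fun a b => by
      obtain ⟨f⟩ := hT.add a b
      exact ⟨((Groth.Agent.H16Derived.KFlat.Stalk.pullTensorLIso e.hom (O b)).app (O a)).symm ≪≫ P.mapIso f⟩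
    have hker : ι.ker = I := I.ker_subschemeι
    have hkI : Groth.Agent.H16Derived.ProjFormula.Killed ι (ClSub.idealMod I) := by
      haveI : IsIso ((Scheme.Modules.pullbackPushforwardAdjunction ι).unit.app (ClSub.idealMod I)) :=
        Groth.Agent.LeadProper.isIso_unit_of_killedByIdeal (i := ι) (ClSub.idealMod I)
          (Groth.Agent.H17.OmegaLocal.isQuasicoherent_idealMod I)
          (by rw [hker]; exact Groth.Agent.H26Def.killedByIdeal_of_sq_eq_bot I hI)
      exact Groth.Agent.S11774.killed_of_iso ι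
        (asIso ((Scheme.Modules.pullbackPushforwardAdjunction ι).unit.app (ClSub.idealMod I))).symm
        (Groth.Agent.H16Derived.ProjFormula.killed_push ι _)
    haveI := Groth.Agent.H10Coh.epi_toSubscheme I
    have hses := Groth.Agent.H10Coh.shortExact_kernel (ClSub.toSubscheme I)
    obtain ⟨eC⟩ := hconormal
    haveI : IsIso ((Scheme.Modules.pullbackPushforwardAdjunction ι).counit.app (Coh.structureModule I.subscheme)) :=
      Groth.Agent.H16Derived.ProjFormula.isIso_counit_of_isClosedImmersion ι _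
    obtain ⟨z⟩ := hT.zero
    haveI : IsLocallyNoetherian (CohB1.ProjSpace 1 k) :=
      isLocallyNoetherian_of_isOpenImmersion e.inv
    let eO : Coh.structureModule I.subscheme ≅ P.obj (O 0) :=
      (Groth.Agent.H16Derived.KFlat.Stalk.structurePullbackIso e.hom).symm ≪≫ P.mapIso z.symm
    have key : ∀ (N : C.Modules), PicF.IsInvertible N → ∀ m : ℤ,
        Nonempty ((Scheme.Modules.pullback ι).obj N ≅ P.obj (O m)) →
        Curv2.euler k C N = -((g : ℤ) + 1) + 2 * m + 2 * Curv2.euler k (CohB1.ProjSpace 1 k) (Coh.structureModule _) := by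
      intro N hN m hm
      obtain ⟨eN⟩ := hm
      have hNf := Groth.Agent.H28Pinch.isFinLocFree_of_isInvertible hN
      have hse := Groth.Agent.H16Derived.KFlat.Stalk.isFlatObj_of_isFlat
        (Groth.Agent.H16Derived.KFlat.Stalk.isFlat_of_isFinLocFree hNf) _ hses
      obtain ⟨a₁⟩ := exists_push_iso ι N hkI
      obtain ⟨a₃⟩ := exists_push_iso ι N (Groth.Agent.H16Derived.ProjFormula.killed_push ι (Coh.structureModule I.subscheme))
      obtain ⟨t₁⟩ := htens (-((g : ℤ) + 1)) m
      obtain ⟨t₃⟩ := htens 0 m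
      let b₁ := a₁ ≪≫ (Coh.push ι).mapIso (PicGrp.tensorModIso eC eN ≪≫ t₁)
      let b₃ := a₃ ≪≫ (Coh.push ι).mapIso (PicGrp.tensorModIso
        (asIso ((Scheme.Modules.pullbackPushforwardAdjunction ι).counit.app _) ≪≫ eO) eN ≪≫ t₃)
      have hP : ∀ a, Coh.IsCoh (P.obj (O a)) := fun a => Groth.Agent.H16Derived.KFlat.Stalk.isCoh_of_isFinLocFree
        (Groth.Agent.H28Pinch.isFinLocFree_of_isInvertible (Groth.Agent.H11Ample.isInvertible_pullback e.hom (hT.inv a)))
      have hNc : Coh.IsCoh N := Groth.Agent.H16Derived.KFlat.Stalk.isCoh_of_isFinLocFree hNf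
      have hadd := Groth.Agent.H25Euler.euler_add (k := k) hse
        (Groth.Agent.H10Coh.isCoh_of_iso b₁.symm (Groth.Agent.H24FSch.isCoh_pushforward_of_isClosedImmersion ι (hP _)))
        (Groth.Agent.H10Coh.isCoh_of_iso ((Groth.Agent.H28Int.tensorLeftUnitIso (X := C)).app N).symm hNc)
        (Groth.Agent.H10Coh.isCoh_of_iso b₃.symm (Groth.Agent.H24FSch.isCoh_pushforward_of_isClosedImmersion ι (hP _)))
      have c₁ := Groth.Agent.H25Euler.euler_congr (k := k) b₁
      have c₃ := Groth.Agent.H25Euler.euler_congr (k := k) b₃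
      have c₂ := Groth.Agent.H25Euler.euler_congr (k := k) ((Groth.Agent.H28Int.tensorLeftUnitIso (X := C)).app N)
      replace hadd : Curv2.euler k C N = Curv2.euler k C ((Coh.push ι).obj (P.obj (O (-((g : ℤ) + 1) + m)))) +
          Curv2.euler k C ((Coh.push ι).obj (P.obj (O (0 + m)))) :=
        c₂.symm.trans (hadd.trans (congrArg₂ (· + ·) c₁ c₃))
      haveI := (hP (-((g : ℤ) + 1) + m)).1
      haveI := (hP (0 + m)).1
      rw [Groth.Agent.H28Int.Push.euler_push k ι rfl, Groth.Agent.H28Int.Push.euler_push k ι rfl,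
        hpush _ (hcoh _), hpush _ (hcoh _), hchi, hchi] at hadd
      omega
    rw [Groth.Agent.H29RR.deg_def, key L hL n hLD, key (Coh.structureModule C) (PicLoc.isInvertible_structureModule C) 0
      ⟨Groth.Agent.H16Derived.KFlat.Stalk.structurePullbackIso ι ≪≫ eO⟩]
    omega

end Groth.Agent.S17660
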