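import Groth.Statements.S17661
import Groth.Agent.H7Lim.Thickening
import Mathlib

set_option autoImplicit false
universe u
open CategoryTheory CategoryTheory.Limits AlgebraicGeometry
open Ribbon

namespace Groth.Agent.S17661

open CategoryTheory AlgebraicGeometry

theorem exists_section_of_smooth {R A B : Type u} [CommRing R] [CommRing A] [CommRing B] (a : R →+* A) (q : A →+* B)
    (hq : Function.Surjective q) (hnil : RingHom.ker q ^ 2 = ⊥) (hs : (q.comp a).Smooth) :
    ∃ s : B →+* A, q.comp s = RingHom.id B ∧ s.comp (q.comp a) = a := by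
  algebraize [a, q, q.comp a]
  haveI : Algebra.FormallySmooth R B := hs.formallySmooth
  let g : A →ₐ[R] B := ⟨q, fun _ => rfl⟩
  let s := Algebra.FormallySmooth.liftOfSurjective (AlgHom.id R B) g hq ⟨2, hnil⟩
  refine ⟨s.toRingHom, RingHom.ext fun x => ?_, RingHom.ext fun r => ?_⟩
  · exact Algebra.FormallySmooth.liftOfSurjective_apply _ g hq ⟨2, hnil⟩ x
  · exact s.commutes r

theorem exists_hom_appTop {X Y : Scheme.{u}} [IsAffine X] [IsAffine Y] (φ : Γ(Y, ⊤) ⟶ Γ(X, ⊤)) :
    ∃ r : X ⟶ Y, r.appTop = φ := by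
  refine ⟨X.isoSpec.hom ≫ Spec.map φ ≫ Y.isoSpec.inv, ?_⟩
  simp [Scheme.isoSpec]

/-- Let k be a field, C a scheme locally of finite type over k and I ⊂ O_C a quasi-coherent ideal with
I² = 0, with closed subscheme D ⊂ C; suppose D is affine, connected and smooth over k and that I,
regarded as an O_D-module, is invertible (so C is a ribbon on the smooth affine scheme D, and D is
the reduced scheme underlying C). Then the ribbon is split: the inclusion D → C admits a retraction
C → D over k. -/
theorem result (k : Type u) [Field k] (C : Scheme.{u}) [C.Over (Spec (CommRingCat.of k))]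
    [LocallyOfFiniteType (C ↘ (Spec (CommRingCat.of k)))]
    (I : C.IdealSheafData) (hI : I ^ 2 = ⊥) [IsAffine I.subscheme] [ConnectedSpace I.subscheme]
    [Smooth (I.subschemeι ≫ (C ↘ (Spec (CommRingCat.of k))))]
    (hconormal : PicF.IsInvertible ((Scheme.Modules.pullback I.subschemeι).obj (ClSub.idealMod I))) :
    ∃ r : C ⟶ I.subscheme, I.subschemeι ≫ r = 𝟙 I.subscheme ∧
      r ≫ I.subschemeι ≫ (C ↘ (Spec (CommRingCat.of k))) = C ↘ (Spec (CommRingCat.of k)) := by
  have hsupp : I.support = ⊤ := by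
    rw [← Scheme.IdealSheafData.support_pow I 2 two_ne_zero, hI, Scheme.IdealSheafData.support_bot]
  have hsurj : Function.Surjective I.subschemeι := by
    rw [← Set.range_eq_univ, Scheme.IdealSheafData.range_subschemeι, hsupp]
    rfl
  haveI : IsAffine C := Groth.Agent.H7Lim.isAffine_of_surjective_closedImmersion I.subschemeι hsurj
  have hC : IsAffineOpen (⊤ : C.Opens) := isAffineOpen_top C
  have hnil : RingHom.ker (I.subschemeι.appTop).hom ^ 2 = ⊥ := by
    have h1 : RingHom.ker (I.subschemeι.appTop).hom = I.ideal ⟨⊤, hC⟩ := I.ker_subschemeι_app ⟨⊤, hC⟩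
    have h2 := congrArg (fun J : C.IdealSheafData => J.ideal ⟨⊤, hC⟩) hI
    simp only [Scheme.IdealSheafData.ideal_pow, Pi.pow_apply, Scheme.IdealSheafData.ideal_bot, Pi.bot_apply] at h2
    rw [h1, h2]
  have hsm : (I.subschemeι ≫ (C ↘ (Spec (CommRingCat.of k)))).appTop.hom.Smooth :=
    (AlgebraicGeometry.HasRingHomProperty.iff_of_isAffine (P := @Smooth)).1 inferInstance
  rw [Scheme.Hom.comp_appTop, CommRingCat.hom_comp] at hsm
  obtain ⟨s, hs1, hs2⟩ := exists_section_of_smooth _ _ (I.subschemeι.app_surjective ⊤ hC) hnil hsm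
  obtain ⟨r, hr⟩ := exists_hom_appTop (X := C) (Y := I.subscheme) (CommRingCat.ofHom s)
  refine ⟨r, ext_of_isAffine ?_, ext_of_isAffine ?_⟩
  · rw [Scheme.Hom.comp_appTop, hr, Scheme.Hom.id_appTop]
    exact CommRingCat.hom_ext hs1
  · rw [Scheme.Hom.comp_appTop, Scheme.Hom.comp_appTop, hr]
    exact CommRingCat.hom_ext hs2

end Groth.Agent.S17661
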