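import Groth.Statements.S17662
import Mathlib

set_option autoImplicit false
universe u
open CIDisc

namespace Groth.Agent.S17662

lemma cauchy_binet {R : Type*} [CommRing R] {e r : ℕ} (A : Matrix (Fin e) (Fin r) R) (N : Matrix (Fin r) (Fin e) R) :
    (A * N).det = ∑ s : {s : Finset (Fin r) // s.card = e},
      (A.submatrix id (s.1.orderEmbOfFin s.2)).det * (N.submatrix (s.1.orderEmbOfFin s.2) id).det := by
  classical
  have h1 : (A * N).det = ∑ f : Fin e → Fin r, (∏ j, N (f j) j) * (A.submatrix id f).det := by
    rw [← Matrix.det_transpose]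
    have hr : (A * N).transpose = fun j => ∑ k, N k j • A.transpose k := by
      funext j i; simp [Matrix.mul_apply, mul_comm]
    rw [hr]
    change Matrix.detRowAlternating.toMultilinearMap (fun j => ∑ k, N k j • A.transpose k) = _
    rw [MultilinearMap.map_sum]
    refine Finset.sum_congr rfl fun f _ => ?_
    rw [MultilinearMap.map_smul_univ, smul_eq_mul, ← Matrix.det_transpose (M := A.submatrix id f)]
    rfl
  rw [h1, ← Finset.sum_filter_of_ne (p := fun f : Fin e → Fin r => Function.Injective f) fun f _ hne => by
    by_contra hf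
    rw [Function.not_injective_iff] at hf
    obtain ⟨a, b, hab, hne'⟩ := hf
    refine hne ?_
    rw [Matrix.det_zero_of_column_eq hne' (fun i => by simp [hab]), mul_zero]]
  have h2 : ∀ s : {s : Finset (Fin r) // s.card = e},
      (A.submatrix id (s.1.orderEmbOfFin s.2)).det * (N.submatrix (s.1.orderEmbOfFin s.2) id).det =
        ∑ σ : Equiv.Perm (Fin e), (∏ j, N (s.1.orderEmbOfFin s.2 (σ j)) j) *
          (A.submatrix id (s.1.orderEmbOfFin s.2 ∘ σ)).det := by
    intro s
    rw [Matrix.det_apply' (N.submatrix _ id), Finset.mul_sum]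
    refine Finset.sum_congr rfl fun σ _ => ?_
    rw [show A.submatrix id (s.1.orderEmbOfFin s.2 ∘ σ) = (A.submatrix id (s.1.orderEmbOfFin s.2)).submatrix id σ from rfl,
      Matrix.det_permute']
    simp only [Matrix.submatrix_apply, id_eq]
    ring
  simp only [h2]
  rw [← Fintype.sum_sigma' (fun (s : {s : Finset (Fin r) // s.card = e}) (σ : Equiv.Perm (Fin e)) =>
    (∏ j, N (s.1.orderEmbOfFin s.2 (σ j)) j) * (A.submatrix id (s.1.orderEmbOfFin s.2 ∘ σ)).det)]
  symm
  refine Finset.sum_bij (fun p _ => (p.1.1.orderEmbOfFin p.1.2) ∘ p.2) ?_ ?_ ?_ (fun p _ => rfl)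
  · intro p _
    simp only [Finset.mem_filter, Finset.mem_univ, true_and]
    exact (p.1.1.orderEmbOfFin p.1.2).injective.comp p.2.injective
  · rintro ⟨⟨s, hs⟩, σ⟩ _ ⟨⟨t, ht⟩, τ⟩ _ h
    obtain rfl : s = t := by
      have := congrArg Set.range h
      rwa [EquivLike.range_comp, EquivLike.range_comp, Finset.range_orderEmbOfFin, Finset.range_orderEmbOfFin,
        Finset.coe_inj] at this
    obtain rfl : σ = τ := Equiv.ext fun x => (s.orderEmbOfFin hs).injective (congrFun h x)
    rfl
  · intro f hf
    simp only [Finset.mem_filter, Finset.mem_univ, true_and] at hf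
    have hs : (Finset.univ.image f).card = e := by rw [Finset.card_image_of_injective _ hf]; simp
    have hmem : ∀ j, ∃ x, (Finset.univ.image f).orderEmbOfFin hs x = f j := fun j => by
      have : f j ∈ Set.range ((Finset.univ.image f).orderEmbOfFin hs) := by
        rw [Finset.range_orderEmbOfFin]; simp
      exact this
    choose σ hσ using hmem
    have hσi : Function.Injective σ := fun a b h => hf (by rw [← hσ a, ← hσ b, h])
    exact ⟨⟨⟨_, hs⟩, Equiv.ofBijective σ (Finite.injective_iff_bijective.1 hσi)⟩, Finset.mem_univ _, funext hσ⟩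


/-- Let R be a commutative ring, M an r × n matrix over R and e ≥ 0; for each e-element set L of row
indices let A_L be an e × r matrix over R, and form the square matrix, indexed by the e-element sets
of row indices, whose (L, L') entry is the e × e minor of A_L on the columns L'. If the determinant
of that square matrix is a unit, then the sum over L of the ideals generated by the e × e minors of
the products A_L · M is the ideal generated by all e × e minors of M. (In the source R is the
coordinate ring of an affine scheme X of codimension e cut out by f_1, …, f_r in affine n-space, M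
is the image of the Jacobian matrix of the f_j, the A_L have entries in the ground field and cut out
complete intersections Z_L = V(A_L · f), so that the two sides are Σ_L Jac(Z_L) and Jac(X); the
source states the equality for general A_L and establishes it under the present invertibility
condition, which it shows to be generic.) -/
theorem result {R : Type u} [CommRing R] (e r n : ℕ)
    (M : Matrix (Fin r) (Fin n) R)
    (A : {s : Finset (Fin r) // s.card = e} → Matrix (Fin e) (Fin r) R)
    (hA : IsUnit (Matrix.det (Matrix.of fun i j : {s : Finset (Fin r) // s.card = e} =>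
      ((A i).submatrix id (j.1.orderEmbOfFin j.2)).det))) :
    (⨆ i, Ideal.span (Set.range fun t : {s : Finset (Fin n) // s.card = e} =>
        ((A i * M).submatrix id (t.1.orderEmbOfFin t.2)).det)) =
      Ideal.span (Set.range fun p : {s : Finset (Fin r) // s.card = e} × {s : Finset (Fin n) // s.card = e} =>
        (M.submatrix (p.1.1.orderEmbOfFin p.1.2) (p.2.1.orderEmbOfFin p.2.2)).det) := by
  classical
  set P : Matrix {s : Finset (Fin r) // s.card = e} {s : Finset (Fin r) // s.card = e} R :=
    Matrix.of fun i j => ((A i).submatrix id (j.1.orderEmbOfFin j.2)).det with hP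
  set Q : Matrix {s : Finset (Fin r) // s.card = e} {s : Finset (Fin n) // s.card = e} R :=
    Matrix.of fun s t => (M.submatrix (s.1.orderEmbOfFin s.2) (t.1.orderEmbOfFin t.2)).det with hQ
  have hG : ∀ i t, ((A i * M).submatrix id (t.1.orderEmbOfFin t.2)).det = (P * Q) i t := fun i t => by
    have : (A i * M).submatrix id (t.1.orderEmbOfFin t.2) = A i * M.submatrix id (t.1.orderEmbOfFin t.2) := by
      ext a b; simp [Matrix.mul_apply]
    rw [this, cauchy_binet, Matrix.mul_apply]
    exact Finset.sum_congr rfl fun s _ => rfl
  simp only [hG]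
  refine le_antisymm (iSup_le fun i => Ideal.span_le.2 ?_) (Ideal.span_le.2 ?_)
  · rintro _ ⟨t, rfl⟩
    rw [SetLike.mem_coe]
    beta_reduce
    rw [Matrix.mul_apply]
    exact Ideal.sum_mem _ fun s _ => Ideal.mul_mem_left _ _ (Ideal.subset_span ⟨(s, t), rfl⟩)
  · rintro _ ⟨⟨s, t⟩, rfl⟩
    rw [SetLike.mem_coe]
    have e' : P⁻¹ * (P * Q) = Q := Matrix.nonsing_inv_mul_cancel_left _ _ hA
    change Q s t ∈ _
    rw [← congrFun (congrFun e' s) t, Matrix.mul_apply]
    exact Ideal.sum_mem _ fun i _ => Ideal.mul_mem_left _ _
      (Ideal.mem_iSup_of_mem i (Ideal.subset_span ⟨t, rfl⟩))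

end Groth.Agent.S17662
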