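import Groth.Statements.S1767
import Groth.Agent.LeadBrown.Adjoint

set_option autoImplicit false
set_option linter.style.haveILetI false
universe u
open CategoryTheory CategoryTheory.Limits AlgebraicGeometry
attribute [local instance] HasDerivedCategory.standard
open Dual

namespace Groth.Agent.S1767

/-- Let f : X → Y be a morphism between quasi-compact quasi-separated schemes. Assume the derived direct
image Rf_* exists and preserves quasi-coherence of cohomology sheaves (both known results), so that
it restricts to a functor D_QCoh(O_X) → D_QCoh(O_Y), and let a : D_QCoh(O_Y) → D_QCoh(O_X) be a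
right adjoint of this restricted functor. Then there is an integer N ≥ 0 such that for every K in
D_QCoh(O_Y) and every integer c, if H^i(K) = 0 for all i ≤ c then H^i(a(K)) = 0 for all i ≤ c − N;
in particular a sends bounded-below objects to bounded-below objects. -/
theorem result (X Y : Scheme.{u}) [CompactSpace X] [QuasiSeparatedSpace X] [CompactSpace Y] [QuasiSeparatedSpace Y] (f : X ⟶ Y) [DCoh.HasRpush f] (h : ∀ K : DCoh.D X, DCoh.IsQCohD K → DCoh.IsQCohD ((DCoh.Rpush f).obj K)) (a : DCoh.DQCoh Y ⥤ DCoh.DQCoh X) (adj : (ObjectProperty.lift DCoh.IsQCohD (ObjectProperty.ι DCoh.IsQCohD ⋙ DCoh.Rpush f) (fun K => h K.obj K.property)) ⊣ a) : ∃ N : ℕ, ∀ (K : DCoh.DQCoh Y) (c : ℤ), (∀ i : ℤ, i ≤ c → IsZero (DCoh.HD K.obj i)) → ∀ i : ℤ, i ≤ c - N → IsZero (DCoh.HD (a.obj K).obj i) := by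
  haveI : QuasiCompact f := AlgebraicGeometry.QuasiCompact.of_comp f (Scheme.toSpecΓ Y)
  haveI : QuasiSeparated f := AlgebraicGeometry.QuasiSeparated.of_comp f (Scheme.toSpecΓ Y)
  obtain ⟨N, hN⟩ := Groth.Agent.LeadBrown.exists_uniform (f := f) (hf := h) adj
  exact ⟨N, hN⟩

end Groth.Agent.S1767
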