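import Groth.Statements.S17677


set_option autoImplicit false
universe u
open Hoch
open TensorProduct

namespace Groth.Agent.S17677

/-- Let k be a commutative ring, M a commutative monoid and V a right comodule over the monoid bialgebra
k[M] (a quasi-coherent module with an action of the diagonalizable monoid scheme Spec k[M]). Then
every 1-cocycle of the Hochschild complex of V is a 1-coboundary, i.e. the first Hochschild
cohomology module of the diagonalizable monoid with coefficients in V is zero. (The source works
over an algebraic space with M finitely generated and cancellative, hypotheses it uses only to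
identify modules under the monoid with comodules; the cocycle computation, which is the affine
statement given here, uses neither.) -/
theorem result (k : Type u) [CommRing k] (M : Type u)
    [AddCommMonoid M] (V : Type u) [AddCommGroup V] [Module k V]
    [HopfRep.Comod k (AddMonoidAlgebra k M) V] :
    Hoch.cocycles k (AddMonoidAlgebra k M) V 1 ≤ Hoch.coboundaries k (AddMonoidAlgebra k M) V 1 := by
  intro c hc
  let A := AddMonoidAlgebra k M
  let φ : A →ₗ[k] k := Finsupp.lapply (0 : M) ∘ₗ (AddMonoidAlgebra.coeffLinearEquiv k).toLinearMap
  let Ψ : (V ⊗[k] A) ⊗[k] A →ₗ[k] V ⊗[k] A := (TensorProduct.rid k _).toLinearMap ∘ₗ φ.lTensor _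
  let θ : V ⊗[k] A →ₗ[k] V := (TensorProduct.rid k _).toLinearMap ∘ₗ φ.lTensor _
  have key : Ψ ∘ₗ Hoch.d k A V 1 = Hoch.d k A V 0 ∘ₗ θ + LinearMap.id := by
    refine TensorProduct.ext ?_
    refine LinearMap.ext fun v => AddMonoidAlgebra.lhom_ext' fun m => LinearMap.ext_ring ?_
    by_cases hm : m = 0 <;>
      simp [Ψ, θ, φ, A, Hoch.d, Hoch.tail, Hoch.redComul, TensorProduct.tmul_sub, TensorProduct.sub_tmul,
        AddMonoidAlgebra.comul_single, Finsupp.single_apply, hm, AddMonoidAlgebra.one_def, map_sub, eq_comm] <;> abel
  refine ⟨-θ c, ?_⟩
  have h := LinearMap.congr_fun key c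
  rw [LinearMap.comp_apply, LinearMap.mem_ker.1 hc, map_zero, LinearMap.add_apply, LinearMap.comp_apply,
    LinearMap.id_apply] at h
  rw [map_neg]
  exact neg_eq_of_add_eq_zero_right h.symm

end Groth.Agent.S17677
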