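import Groth.Statements.S17679
import Mathlib.RingTheory.FiniteType

set_option autoImplicit false
open DiagMon

namespace Groth.Agent.S17679

/-- For n ≥ 1 the minimal number of generators of ℤ^n as an additive monoid is n + 1: some n + 1
elements generate ℤ^n as a monoid, and every finite set generating ℤ^n as a monoid has at least n +
1 elements. (For n = 0 the empty set generates the zero monoid, so the count n + 1 is stated for n ≥
1 only.) -/
theorem result (n : ℕ) (hn : 1 ≤ n) :
    (∃ s : Finset (Fin n → ℤ), s.card = n + 1 ∧ AddSubmonoid.closure (s : Set (Fin n → ℤ)) = ⊤) ∧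
    ∀ s : Finset (Fin n → ℤ), AddSubmonoid.closure (s : Set (Fin n → ℤ)) = ⊤ → n + 1 ≤ s.card := by
  classical
  constructor
  · let e : Fin n → (Fin n → ℤ) := fun i => Pi.single i 1
    let m : Fin n → ℤ := fun _ => -1
    refine ⟨insert m (Finset.univ.image e), ?_, ?_⟩
    · rw [Finset.card_insert_of_notMem, Finset.card_image_of_injective, Finset.card_univ, Fintype.card_fin]
      · intro i j h
        by_contra hij
        have := congrFun h i
        simp [e, hij] at this
      · simp only [Finset.mem_image, Finset.mem_univ, true_and, not_exists]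
        intro i h
        have := congrFun h i
        simp [e, m] at this
    · refine eq_top_iff.2 fun x _ => ?_
      have he : ∀ (i : Fin n) (k : ℕ), k • e i ∈ AddSubmonoid.closure (↑(insert m (Finset.univ.image e)) : Set (Fin n → ℤ)) :=
        fun i k => nsmul_mem (AddSubmonoid.subset_closure (by simp)) k
      obtain ⟨k, hk⟩ : ∃ k : ℕ, ∀ i, 0 ≤ x i + k := by
        refine ⟨∑ i, (x i).natAbs, fun i => ?_⟩
        have := Finset.single_le_sum (f := fun i => (x i).natAbs) (fun i _ => Nat.zero_le _) (Finset.mem_univ i)
        omega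
      have hx : x = k • m + ∑ i, (x i + k).toNat • e i := by
        funext j
        simp [e, m, Finset.sum_apply, Pi.single_apply, max_eq_left (hk j)]
      rw [hx]
      exact add_mem (nsmul_mem (AddSubmonoid.subset_closure (by simp)) k) (sum_mem fun i _ => he i _)
  · intro s hs
    by_contra hlt
    have hle : s.card ≤ n := by omega
    let L : (s → ℤ) →ₗ[ℤ] (Fin n → ℤ) := Fintype.linearCombination ℤ (fun v : s => (v : Fin n → ℤ))
    have hcomb : ∀ x : Fin n → ℤ, ∃ c : s → ℤ, (∀ v, 0 ≤ c v) ∧ L c = x := by
      intro x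
      have hx : x ∈ AddSubmonoid.closure (s : Set (Fin n → ℤ)) := by rw [hs]; trivial
      induction hx using AddSubmonoid.closure_induction with
      | mem v hv =>
        exact ⟨Pi.single ⟨v, hv⟩ 1, fun w => by by_cases h : w = ⟨v, hv⟩ <;> simp [Pi.single_apply, h],
          by rw [Fintype.linearCombination_apply_single, one_smul]⟩
      | zero => exact ⟨0, fun _ => le_rfl, map_zero L⟩
      | add x y _ _ hx hy =>
        obtain ⟨c, hc, rfl⟩ := hx
        obtain ⟨c', hc', rfl⟩ := hy
        exact ⟨c + c', fun v => add_nonneg (hc v) (hc' v), map_add L c c'⟩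
    have hL : Function.Surjective L := fun x => ⟨(hcomb x).choose, (hcomb x).choose_spec.2⟩
    obtain ⟨ι'⟩ : Nonempty (s ↪ Fin n) := Function.Embedding.nonempty_of_card_le (by simpa using hle)
    let π : (Fin n → ℤ) →ₗ[ℤ] (s → ℤ) := LinearMap.funLeft ℤ ℤ ι'
    have hπ : Function.Surjective π := LinearMap.funLeft_surjective_of_injective ℤ ℤ ι' ι'.injective
    have hinj : Function.Injective (L.comp π) :=
      OrzechProperty.injective_of_surjective_endomorphism _ (hL.comp hπ)
    have hLinj : Function.Injective L := fun a b h => by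
      obtain ⟨a, rfl⟩ := hπ a
      obtain ⟨b, rfl⟩ := hπ b
      rw [hinj h]
    obtain ⟨c, hc, hc'⟩ := hcomb (-(L fun _ => 1))
    have h0 : L (c + fun _ => 1) = L 0 := by rw [map_add, hc', map_zero, neg_add_cancel]
    have hne : s.Nonempty := by
      rw [Finset.nonempty_iff_ne_empty]
      rintro rfl
      have h1 : (fun _ : Fin n => (1 : ℤ)) ∈ AddSubmonoid.closure (∅ : Set (Fin n → ℤ)) := by
        simp only [Finset.coe_empty] at hs; rw [hs]; trivial
      rw [AddSubmonoid.closure_empty, AddSubmonoid.mem_bot] at h1
      simpa using congrFun h1 ⟨0, hn⟩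
    obtain ⟨v, hv⟩ := hne
    have := congrFun (hLinj h0) ⟨v, hv⟩
    simp only [Pi.add_apply, Pi.zero_apply] at this
    linarith [hc ⟨v, hv⟩]

end Groth.Agent.S17679
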