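import Groth.Statements.S17681
import Groth.Agent.H19Grp.ConnFibre
import Groth.Agent.H18Torsor.Glue
import Mathlib

set_option autoImplicit false
set_option linter.style.haveILetI false
set_option backward.isDefEq.respectTransparency false
universe u
open CategoryTheory MonoidalCategory CartesianMonoidalCategory MonObj GrpObj AlgebraicGeometry
open AlgGrp

namespace Groth.Agent.S17681

/-- Let S be a scheme, G a flat S-group scheme of finite presentation with connected fibres, X and Y
S-schemes locally of finite presentation with actions of G, and f : X → Y an étale G-equivariant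
S-morphism; assume that S is locally Noetherian or that X and Y are quasi-separated over S. Then f
reflects fixed points: a T-point x of X whose image in Y is fixed by G after every base change T' →
T is itself fixed by G after every base change, so that the fixed-point subfunctor of X is the
preimage of that of Y. (The source allows X and Y to be algebraic spaces over S; this row is the
case of schemes.) -/
theorem result (S : Scheme.{u})
    (G : Over S) [GrpObj G] [Flat G.hom] [LocallyOfFinitePresentation G.hom] [QuasiCompact G.hom]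
    [QuasiSeparated G.hom] (hconn : ∀ s : S, ConnectedSpace (G.hom.fiber s))
    (X Y : Over S) [LocallyOfFinitePresentation X.hom] [LocallyOfFinitePresentation Y.hom]
    (hS : IsLocallyNoetherian S ∨ (QuasiSeparated X.hom ∧ QuasiSeparated Y.hom))
    (a : AlgGrp.Action G X) (b : AlgGrp.Action G Y) (f : X ⟶ Y) [Etale f.left]
    (hf : a.act ≫ f = (G ◁ f) ≫ b.act) (T : Over S) (x : T ⟶ X)
    (hx : ∀ (T' : Over S) (t : T' ⟶ T) (g : T' ⟶ G), lift g (t ≫ x ≫ f) ≫ b.act = t ≫ x ≫ f)
    (T' : Over S) (t : T' ⟶ T) (g : T' ⟶ G) : lift g (t ≫ x) ≫ a.act = t ≫ x := by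
  haveI : LocallyOfFiniteType G.hom := inferInstance
  suffices h : lift g (t ≫ x) ≫ a.act = t ≫ x from h
  apply Over.OverMorphism.ext
  have hxT : (lift g (t ≫ x) ≫ a.act) ≫ f = (t ≫ x) ≫ f := by
    rw [Category.assoc, hf, lift_whiskerLeft_assoc, Category.assoc]
    exact hx T' t g
  refine H19Grp.eq_of_geometric_points f.left _ _ ?_ fun Ω _ _ p => ?_
  · rw [← Over.comp_left, ← Over.comp_left, hxT]
  let P : Over S := Over.mk (p ≫ T'.hom)
  let p' : P ⟶ T' := Over.homMk p rfl
  let x₀ : P ⟶ X := p' ≫ t ≫ x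
  let g₀ : P ⟶ G := p' ≫ g
  suffices h : lift g₀ x₀ ≫ a.act = x₀ by
    have h2 : p' ≫ lift g (t ≫ x) ≫ a.act = p' ≫ t ≫ x := by
      rw [comp_lift_assoc]; exact h
    exact congrArg CommaMorphism.left h2
  -- the open set of points fixing `x₀`
  let uu : G ⊗ P ⟶ X := lift (fst G P) (snd G P ≫ x₀) ≫ a.act
  let vv : G ⊗ P ⟶ X := snd G P ≫ x₀
  have huv : uu.left ≫ f.left = vv.left ≫ f.left := by
    rw [← Over.comp_left, ← Over.comp_left]
    congr 1
    simp only [uu, vv, x₀, Category.assoc]
    rw [hf, lift_whiskerLeft_assoc]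
    have := hx (G ⊗ P) (snd G P ≫ p' ≫ t) (fst G P)
    simpa only [Category.assoc] using this
  let j := Limits.pullback.fst (Limits.pullback.lift uu.left vv.left huv) (Limits.pullback.diagonal f.left)
  have hj : j ≫ uu.left = j ≫ vv.left := by
    have e := Limits.pullback.condition (f := Limits.pullback.lift uu.left vv.left huv)
      (g := Limits.pullback.diagonal f.left)
    have e1 := congrArg (· ≫ Limits.pullback.fst f.left f.left) e
    have e2 := congrArg (· ≫ Limits.pullback.snd f.left f.left) e
    simp only [Category.assoc, Limits.pullback.lift_fst, Limits.pullback.lift_snd,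
      Limits.pullback.diagonal_fst, Limits.pullback.diagonal_snd, Category.comp_id] at e1 e2
    exact e1.trans e2.symm
  haveI : IsOpenImmersion (Limits.pullback.diagonal f.left) := inferInstance
  haveI : IsOpenImmersion j := inferInstance
  have hmem : ∀ q : P ⟶ G ⊗ P, q.left (IsLocalRing.closedPoint Ω) ∈ Set.range j → q ≫ uu = q ≫ vv := by
    intro q hq
    apply Over.OverMorphism.ext
    have hr : Set.range q.left ⊆ Set.range j := by
      rintro _ ⟨w, rfl⟩
      have : w = IsLocalRing.closedPoint Ω :=
        Subsingleton.elim (α := PrimeSpectrum (CommRingCat.of Ω)) _ _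
      rwa [this]
    show q.left ≫ uu.left = q.left ≫ vv.left
    rw [← IsOpenImmersion.lift_fac j q.left hr, Category.assoc, Category.assoc, hj]
  -- translation by `g₀`
  let L : G ⊗ P ⟶ G ⊗ P := lift ((snd G P ≫ g₀) * fst G P) (snd G P)
  haveI : IrreducibleSpace ↥(G ⊗ P).left :=
    H19Grp.irreducibleSpace_pullback_of_connected_fibres G hconn (p ≫ T'.hom)
  haveI : LocallyOfFiniteType (snd G P).left :=
    inferInstanceAs (LocallyOfFiniteType (Limits.pullback.snd G.hom P.hom))
  let V : (G ⊗ P).left.Opens := j.opensRange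
  have he : ∀ q : P ⟶ G ⊗ P, q ≫ uu = q ≫ vv → q.left (IsLocalRing.closedPoint Ω) ∈ Set.range j := by
    intro q hq
    have hc : q.left ≫ Limits.pullback.lift uu.left vv.left huv = (q ≫ uu).left ≫ Limits.pullback.diagonal f.left := by
      apply Limits.pullback.hom_ext
      · simp only [Category.assoc, Limits.pullback.lift_fst, Limits.pullback.diagonal_fst, Category.comp_id]
        rfl
      · simp only [Category.assoc, Limits.pullback.lift_snd, Limits.pullback.diagonal_snd, Category.comp_id]
        rw [hq]; rfl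
    refine ⟨Limits.pullback.lift q.left _ hc (IsLocalRing.closedPoint Ω), ?_⟩
    rw [← Scheme.Hom.comp_apply, Limits.pullback.lift_fst]
  let e : P ⟶ G ⊗ P := lift 1 (𝟙 P)
  let e' : P ⟶ G ⊗ P := lift g₀⁻¹ (𝟙 P)
  have heV : e ≫ uu = e ≫ vv := by
    simp only [e, uu, vv, comp_lift_assoc, lift_fst, lift_snd_assoc, Category.id_comp]
    exact H18Torsor.one_smul_pt a x₀
  have heL : e' ≫ L = e := by
    simp only [e', e, L, comp_lift, MonObj.comp_mul, lift_snd_assoc, lift_fst, lift_snd, Category.id_comp,
      mul_inv_cancel]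
  have hne : ((L.left ⁻¹ᵁ V : Set ↥(G ⊗ P).left) ∩ (V : Set ↥(G ⊗ P).left)).Nonempty := by
    refine nonempty_preirreducible_inter (L.left ⁻¹ᵁ V).2 V.2 ?_ ⟨_, he e heV⟩
    refine ⟨e'.left (IsLocalRing.closedPoint Ω), ?_⟩
    show L.left (e'.left (IsLocalRing.closedPoint Ω)) ∈ Set.range j
    rw [← Scheme.Hom.comp_apply, ← Over.comp_left, heL]
    exact he e heV
  haveI : JacobsonSpace ↥P.left := inferInstanceAs (JacobsonSpace (PrimeSpectrum Ω))
  haveI : JacobsonSpace ↥(G ⊗ P).left := LocallyOfFiniteType.jacobsonSpace (snd G P).left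
  obtain ⟨c, ⟨hcL, hcV⟩, hcc⟩ := nonempty_inter_closedPoints hne
    (IsOpen.isLocallyClosed ((L.left ⁻¹ᵁ V).2.inter V.2))
  let q : P ⟶ G ⊗ P := Over.homMk (pointOfClosedPoint (snd G P).left c hcc) (by
    rw [← Over.w (snd G P), pointOfClosedPoint_comp_assoc]
    )
  have hq1 : q ≫ uu = q ≫ vv := hmem q (by
    show pointOfClosedPoint (snd G P).left c hcc _ ∈ Set.range j
    rw [pointOfClosedPoint_apply]; exact hcV)
  have hq2 : (q ≫ L) ≫ uu = (q ≫ L) ≫ vv := hmem (q ≫ L) (by
    show L.left (pointOfClosedPoint (snd G P).left c hcc _) ∈ Set.range j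
    rw [pointOfClosedPoint_apply]; exact hcL)
  have hqs : q ≫ snd G P = 𝟙 P := Over.OverMorphism.ext (pointOfClosedPoint_comp _ _ _)
  simp only [uu, vv, L, Category.assoc, comp_lift_assoc, lift_fst, lift_snd_assoc, MonObj.comp_mul,
    reassoc_of% hqs] at hq1 hq2
  change H18Torsor.smul a (q ≫ fst G P) x₀ = x₀ at hq1
  change H18Torsor.smul a (g₀ * q ≫ fst G P) x₀ = x₀ at hq2
  show H18Torsor.smul a g₀ x₀ = x₀
  rwa [H18Torsor.mul_smul_pt, hq1] at hq2

end Groth.Agent.S17681
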