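import Groth.Statements.S17682
import Mathlib.RingTheory.GradedAlgebra.Basic
import Mathlib.Algebra.DirectSum.Algebra
import Mathlib.RingTheory.Bialgebra.MonoidAlgebra

set_option autoImplicit false
universe u v w u'
open DiagMon

namespace Groth.Agent.S17682

/-- Let R be a commutative ring, A a commutative R-algebra graded by a commutative monoid M, N a
submonoid of M and R' a commutative R-algebra. For every R-algebra homomorphism F : A → R' vanishing
on the homogeneous elements of degree outside N there is a unique R-algebra homomorphism f : A →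
R'[M] which is graded (a homogeneous element of degree m goes to a multiple of X^m), vanishes on
homogeneous elements of degree outside N, and composes with the augmentation X^m ↦ 1 to F. In the
dictionary where an M-grading of A is an action of the diagonalizable monoid scheme Spec R[M] on
Spec A and graded maps A → R'[M] supported on N are equivariant maps from the monoid scheme of N
over R', this says that the attractor of Spec A for the magnet N is represented by the closed
subscheme of Spec A defined by the homogeneous elements of degree outside N. -/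
theorem result (R : Type u) [CommRing R]
    (A : Type v) [CommRing A] [Algebra R A] (M : Type w) [AddCommMonoid M] [DecidableEq M]
    (𝒜 : M → Submodule R A) [GradedAlgebra 𝒜] (N : AddSubmonoid M) (R' : Type u') [CommRing R']
    [Algebra R R'] (F : A →ₐ[R] R') (hF : ∀ m, m ∉ N → ∀ a ∈ 𝒜 m, F a = 0) :
    ∃! f : A →ₐ[R] AddMonoidAlgebra R' M,
      (∀ m, ∀ a ∈ 𝒜 m, f a =
          AddMonoidAlgebra.single m (Bialgebra.counitAlgHom R' (AddMonoidAlgebra R' M) (f a))) ∧
      (∀ m, m ∉ N → ∀ a ∈ 𝒜 m, f a = 0) ∧
      ∀ a, Bialgebra.counitAlgHom R' (AddMonoidAlgebra R' M) (f a) = F a := by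
  classical
  let g : ∀ m, 𝒜 m →ₗ[R] AddMonoidAlgebra R' M := fun m =>
    ((AddMonoidAlgebra.lsingle (R := R') m).restrictScalars R) ∘ₗ F.toLinearMap ∘ₗ (𝒜 m).subtype
  let f : A →ₐ[R] AddMonoidAlgebra R' M :=
    (DirectSum.toAlgebra R (fun m => 𝒜 m) g
      (by show AddMonoidAlgebra.single (0 : M) (F (1 : A)) = 1; rw [map_one]; rfl)
      (fun {i j} a b => by
        show AddMonoidAlgebra.single (i + j) (F ((a : A) * b)) =
          AddMonoidAlgebra.single i (F a) * AddMonoidAlgebra.single j (F b)
        rw [map_mul, AddMonoidAlgebra.single_mul_single])).comp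
      (DirectSum.decomposeAlgEquiv 𝒜).toAlgHom
  have hf : ∀ m, ∀ a ∈ 𝒜 m, f a = AddMonoidAlgebra.single m (F a) := by
    intro m a ha
    show DirectSum.toModule R M _ g (DirectSum.decompose 𝒜 a) = _
    rw [DirectSum.decompose_of_mem 𝒜 ha, ← DirectSum.lof_eq_of R, DirectSum.toModule_lof]
    rfl
  have hc : ∀ a, Bialgebra.counitAlgHom R' (AddMonoidAlgebra R' M) (f a) = F a := by
    intro a
    induction a using DirectSum.Decomposition.inductionOn 𝒜 with
    | zero => simp
    | @homogeneous m a =>
      rw [hf m a a.2]
      simp
    | add a b ha hb => rw [map_add, map_add, map_add, ha, hb]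
  refine ⟨f, ⟨fun m a ha => by rw [hc, hf m a ha], fun m hm a ha => ?_, hc⟩, ?_⟩
  · rw [hf m a ha, hF m hm a ha, AddMonoidAlgebra.single_zero]
  · rintro f' ⟨h1, -, h3⟩
    refine AlgHom.ext fun a => ?_
    induction a using DirectSum.Decomposition.inductionOn 𝒜 with
    | zero => simp
    | @homogeneous m a => rw [hf m a a.2, h1 m a a.2, h3]
    | add a b ha hb => rw [map_add, map_add, ha, hb]

end Groth.Agent.S17682
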