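import Groth.Statements.S17683

set_option autoImplicit false
universe u
open DiagMon

namespace Groth.Agent.S17683

/-- Let N be a commutative monoid and F a submonoid of N. The additive projection ℤ[N] → ℤ[F] of monoid
algebras keeping the monomials with exponent in F and killing the others is multiplicative, i.e. F
is a face of N, if and only if for all x, y in N the sum x + y lies in F exactly when both x and y
do. -/
theorem result {N : Type u} [AddCommMonoid N] (F : AddSubmonoid N) :
    (∀ a b : AddMonoidAlgebra ℤ N,
        AddMonoidAlgebra.comapDomain ((↑) : F → N) Subtype.val_injective (a * b) =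
          AddMonoidAlgebra.comapDomain ((↑) : F → N) Subtype.val_injective a *
            AddMonoidAlgebra.comapDomain ((↑) : F → N) Subtype.val_injective b) ↔
      ∀ x y : N, x + y ∈ F ↔ (x ∈ F ∧ y ∈ F) := by
  classical
  let P : AddMonoidAlgebra ℤ N → AddMonoidAlgebra ℤ F :=
    AddMonoidAlgebra.comapDomain ((↑) : F → N) Subtype.val_injective
  have hs : ∀ (x : N) (c : ℤ), P (AddMonoidAlgebra.single x c) =
      if h : x ∈ F then AddMonoidAlgebra.single ⟨x, h⟩ c else 0 := by
    intro x c
    ext z
    by_cases h : x ∈ F
    · simp [P, h, Subtype.ext_iff, Finsupp.single_apply]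
    · have : (z : N) ≠ x := fun e => h (e ▸ z.2)
      simp [P, h, Finsupp.single_apply, Ne.symm this]
  have hadd : ∀ a b, P (a + b) = P a + P b := fun a b => by ext z; simp [P]
  constructor
  · intro h x y
    refine ⟨fun hxy => ?_, fun hh => F.add_mem hh.1 hh.2⟩
    have e := h (AddMonoidAlgebra.single x 1) (AddMonoidAlgebra.single y 1)
    change P _ = P _ * P _ at e
    rw [AddMonoidAlgebra.single_mul_single, one_mul, hs, hs, hs, dif_pos hxy] at e
    by_contra hc
    rw [not_and_or] at hc
    rcases hc with hc | hc
    · rw [dif_neg hc, zero_mul] at e
      simp at e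
    · rw [dif_neg hc, mul_zero] at e
      simp at e
  · intro hF a b
    change P _ = P _ * P _
    induction a using AddMonoidAlgebra.induction_linear with
    | zero => simp [P]
    | add a a' ha ha' => rw [add_mul, hadd, ha, ha', hadd, add_mul]
    | single x c =>
      induction b using AddMonoidAlgebra.induction_linear with
      | zero => simp [P]
      | add b b' hb hb' => rw [mul_add, hadd, hb, hb', hadd, mul_add]
      | single y d =>
        rw [AddMonoidAlgebra.single_mul_single, hs, hs, hs]
        by_cases h : x + y ∈ F
        · obtain ⟨hx, hy⟩ := (hF x y).1 h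
          rw [dif_pos h, dif_pos hx, dif_pos hy, AddMonoidAlgebra.single_mul_single]
          rfl
        · rw [dif_neg h]
          by_cases hx : x ∈ F
          · have hy : y ∉ F := fun hy => h (F.add_mem hx hy)
            rw [dif_neg hy, mul_zero]
          · rw [dif_neg hx, zero_mul]

end Groth.Agent.S17683
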