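import Groth.Statements.S17686

set_option autoImplicit false
universe u v w
open DiagMon

namespace Groth.Agent.S17686

/-- Let R be a commutative ring, A a commutative R-algebra graded by a commutative monoid M, and J the
map sending a submonoid N of M to the ideal of A generated by the homogeneous elements of degree not
in N (the ideal of the attractor of Spec A for the magnet N). Say N is a pure magnet when J N = J L
implies N ⊆ L. Then for every submonoid N₀ the intersection E of all submonoids N with J N = J N₀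
satisfies J E = J N₀ and is a pure magnet, and E = N₀ when N₀ is itself pure: pure magnets
correspond bijectively to attractors. -/
theorem result (R : Type u) [CommRing R] (A : Type v) [CommRing A]
    [Algebra R A] (M : Type w) [AddCommMonoid M] [DecidableEq M] (𝒜 : M → Submodule R A) [GradedAlgebra 𝒜]
    (J : AddSubmonoid M → Ideal A) (hJ : ∀ N, J N = Ideal.span {a : A | ∃ m : M, m ∉ N ∧ a ∈ 𝒜 m}) (N₀ : AddSubmonoid M) :
    J (sInf {N | J N = J N₀}) = J N₀ ∧
      (∀ L, J (sInf {N | J N = J N₀}) = J L → sInf {N | J N = J N₀} ≤ L) ∧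
      ((∀ L, J N₀ = J L → N₀ ≤ L) → sInf {N | J N = J N₀} = N₀) := by
  have hanti : ∀ {N L : AddSubmonoid M}, N ≤ L → J L ≤ J N := fun {N L} h => by
    rw [hJ, hJ]
    exact Ideal.span_mono fun a ⟨m, hm, ha⟩ => ⟨m, fun hN => hm (h hN), ha⟩
  have h0 : sInf {N | J N = J N₀} ≤ N₀ := sInf_le rfl
  have hE : J (sInf {N | J N = J N₀}) = J N₀ := by
    refine le_antisymm ?_ (hanti h0)
    rw [hJ, Ideal.span_le]
    rintro a ⟨m, hm, ha⟩
    obtain ⟨N, hN, hmN⟩ : ∃ N, J N = J N₀ ∧ m ∉ N := by
      by_contra h
      push Not at h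
      exact hm (AddSubmonoid.mem_sInf.2 h)
    rw [SetLike.mem_coe, ← hN, hJ]
    exact Ideal.subset_span ⟨m, hmN, ha⟩
  exact ⟨hE, fun L hL => sInf_le (hL.symm.trans hE), fun hpure =>
    le_antisymm h0 (le_sInf fun L hL => hpure L hL.symm)⟩

end Groth.Agent.S17686
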