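import Groth.Statements.S17687

set_option autoImplicit false
universe u v w
open DiagMon

namespace Groth.Agent.S17687

/-- Let R be a commutative ring and A a commutative R-algebra of finite type graded by a commutative
monoid M. Then the set of ideals J_N, N running over all submonoids of M, where J_N is generated by
the homogeneous elements of degree not in N (the ideal of the attractor of Spec A for the magnet N),
is finite: Spec A has finitely many attractors and hence finitely many pure magnets. (The source
assumes Spec A of finite presentation over the base; its proof uses only a finite set of homogeneous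
algebra generators, so finite type is assumed here.) -/
theorem result (R : Type u) [CommRing R] (A : Type v) [CommRing A]
    [Algebra R A] [Algebra.FiniteType R A] (M : Type w) [AddCommMonoid M] [DecidableEq M]
    (𝒜 : M → Submodule R A) [GradedAlgebra 𝒜] :
    (Set.range fun N : AddSubmonoid M => Ideal.span {a : A | ∃ m : M, m ∉ N ∧ a ∈ 𝒜 m}).Finite := by
  classical
  obtain ⟨s, hs⟩ := Algebra.FiniteType.out (R := R) (A := A)
  let T : Set (M × A) := ⋃ x ∈ s, (fun m => (m, (DirectSum.decompose 𝒜 x m : A))) '' ((DirectSum.decompose 𝒜 x).support : Set M)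
  have hT : T.Finite := s.finite_toSet.biUnion fun x _ => (Finset.finite_toSet _).image _
  have hTmem : ∀ t ∈ T, t.2 ∈ 𝒜 t.1 := by
    intro t ht
    simp only [T, Set.mem_iUnion, Set.mem_image] at ht
    obtain ⟨x, -, m, -, rfl⟩ := ht
    exact (DirectSum.decompose 𝒜 x m).2
  have htop : Algebra.adjoin R (Prod.snd '' T) = ⊤ := by
    rw [eq_top_iff, ← hs, Algebra.adjoin_le_iff]
    intro x hx
    rw [SetLike.mem_coe, ← DirectSum.sum_support_decompose 𝒜 x]
    refine sum_mem fun m hm => Algebra.subset_adjoin ⟨(m, _), ?_, rfl⟩
    simp only [T, Set.mem_iUnion, Set.mem_image]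
    exact ⟨x, hx, m, hm, rfl⟩
  refine Set.Finite.subset (hT.finite_subsets.image fun U => Ideal.span (Prod.snd '' U)) ?_
  rintro _ ⟨N, rfl⟩
  refine ⟨{t ∈ T | t.1 ∉ N}, fun t ht => ht.1, ?_⟩
  set I := Ideal.span (Prod.snd '' {t ∈ T | t.1 ∉ N}) with hI
  refine le_antisymm ?_ (Ideal.span_le.2 ?_)
  · refine Ideal.span_le.2 ?_
    rintro _ ⟨t, ⟨ht, htN⟩, rfl⟩
    exact Ideal.subset_span ⟨t.1, htN, hTmem t ht⟩
  · rintro a ⟨m, hm, ha⟩
    have key : ∀ x ∈ Submodule.span R (Submonoid.closure (Prod.snd '' T) : Set A),
        ∀ k : M, k ∉ N → (DirectSum.decompose 𝒜 x k : A) ∈ I := by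
      intro x hx
      induction hx using Submodule.span_induction with
      | mem x hx =>
        intro k hk
        have h : ∃ j : M, x ∈ 𝒜 j ∧ (j ∈ N ∨ x ∈ I) := by
          induction hx using Submonoid.closure_induction with
          | mem x hx =>
            obtain ⟨t, ht, rfl⟩ := hx
            refine ⟨t.1, hTmem t ht, ?_⟩
            by_cases htN : t.1 ∈ N
            · exact Or.inl htN
            · exact Or.inr (Ideal.subset_span ⟨t, ⟨ht, htN⟩, rfl⟩)
          | one => exact ⟨0, SetLike.GradedOne.one_mem, Or.inl N.zero_mem⟩
          | mul x y _ _ hx hy =>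
            obtain ⟨i, hi, hi'⟩ := hx
            obtain ⟨j, hj, hj'⟩ := hy
            refine ⟨i + j, SetLike.GradedMul.mul_mem hi hj, ?_⟩
            rcases hi' with hi' | hi'
            · rcases hj' with hj' | hj'
              · exact Or.inl (N.add_mem hi' hj')
              · exact Or.inr (Ideal.mul_mem_left _ _ hj')
            · exact Or.inr (Ideal.mul_mem_right _ _ hi')
        obtain ⟨j, hj, hjI⟩ := h
        by_cases hjk : j = k
        · subst hjk
          rw [DirectSum.decompose_of_mem_same 𝒜 hj]
          exact hjI.resolve_left hk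
        · rw [DirectSum.decompose_of_mem_ne 𝒜 hj hjk]
          exact zero_mem _
      | zero => simp
      | add x y _ _ hx hy =>
        intro k hk
        rw [DirectSum.decompose_add, DirectSum.add_apply, Submodule.coe_add]
        exact add_mem (hx k hk) (hy k hk)
      | smul r x _ hx =>
        intro k hk
        rw [DirectSum.decompose_smul, DirectSum.smul_apply, Submodule.coe_smul, Algebra.smul_def]
        exact Ideal.mul_mem_left _ _ (hx k hk)
    have hmem : a ∈ Submodule.span R (Submonoid.closure (Prod.snd '' T) : Set A) := by
      rw [← Algebra.adjoin_eq_span, htop]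
      trivial
    have := key a hmem m hm
    rwa [DirectSum.decompose_of_mem_same 𝒜 ha] at this

end Groth.Agent.S17687
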