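import Groth.Statements.S17688
import Groth.Agent.H28Neron.Ext

set_option autoImplicit false
universe u
open CategoryTheory CategoryTheory.Limits AlgebraicGeometry MonObj
open Neron

namespace Groth.Agent.S17688

/-- Let R be a discrete valuation ring whose fraction field K has characteristic p > 0, and let U be a
flat, separated, commutative group scheme over Spec R whose generic fibre U_K is annihilated by a
power p^N of p (in the group of endomorphisms of U_K as a K-scheme, the p^N-th power of the identity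
is the unit). Then for every prime ℓ invertible in R the ℓ-th power map of U (the ℓ-th power of the
identity in the group of R-morphisms U → U) is an isomorphism. -/
theorem result
    (R : Type u) [CommRing R] [IsDomain R] [IsDiscreteValuationRing R]
    (p : ℕ) (hp : p.Prime) [CharP (FractionRing R) p]
    (U : Over (Spec (CommRingCat.of R))) [GrpObj U] [IsCommMonObj U] [Flat U.hom] [IsSeparated U.hom]
    (N : ℕ) (hN : (𝟙 (Red.bc (Neron.genPt R) U) : Red.bc (Neron.genPt R) U ⟶ Red.bc (Neron.genPt R) U) ^ (p ^ N) = 1)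
    (ℓ : ℕ) (hℓ : ℓ.Prime) (hℓu : IsUnit (ℓ : R)) :
    IsIso ((𝟙 U : U ⟶ U) ^ ℓ) := by
  have hmap : ∀ n : ℕ, (Over.pullback (Neron.genPt R)).map ((𝟙 U : U ⟶ U) ^ n) =
      (𝟙 (Red.bc (Neron.genPt R) U) : Red.bc (Neron.genPt R) U ⟶ Red.bc (Neron.genPt R) U) ^ n := by
    intro n
    induction n with
    | zero => rw [pow_zero, pow_zero]; exact Functor.map_one _
    | succ n ih => rw [pow_succ, pow_succ, ← ih, ← CategoryTheory.Functor.map_id]; exact Functor.map_mul _ _ _
  have hone : (𝟙 U : U ⟶ U) ^ (p ^ N) = 1 := by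
    refine H28Neron.hom_ext_genericFibre R U U _ _ ?_
    show (Over.pullback (Neron.genPt R)).map _ = (Over.pullback (Neron.genPt R)).map _
    rw [hmap, hN]
    exact (Functor.map_one _).symm
  have hne : ℓ ≠ p := by
    rintro rfl
    have h := hℓu.map (algebraMap R (FractionRing R))
    rw [map_natCast, CharP.cast_eq_zero] at h
    exact not_isUnit_zero h
  have hco : Nat.Coprime ℓ (p ^ N) := Nat.Coprime.pow_right N ((Nat.coprime_primes hℓ hp).mpr hne)
  have key : ∀ a b : ℕ, ((𝟙 U : U ⟶ U) ^ a) ≫ ((𝟙 U : U ⟶ U) ^ b) = (𝟙 U : U ⟶ U) ^ (a * b) := by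
    intro a b
    rw [comp_pow, Category.comp_id, pow_mul]
  obtain ⟨m, hm⟩ : ∃ m : ℕ, (𝟙 U : U ⟶ U) ^ (ℓ * m) = 𝟙 U := by
    rcases Nat.eq_zero_or_pos N with hN0 | hN0
    · subst hN0
      rw [pow_zero, pow_one] at hone
      exact ⟨0, by rw [Nat.mul_zero, pow_zero, hone]⟩
    · obtain ⟨m, hm⟩ := Nat.exists_mul_mod_eq_one_of_coprime hco (Nat.one_lt_pow hN0.ne' hp.one_lt)
      refine ⟨m, ?_⟩
      rw [← Nat.mod_add_div (ℓ * m) (p ^ N), hm.2, pow_add, pow_mul, hone, one_pow, pow_one, _root_.mul_one]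
  exact ⟨(𝟙 U : U ⟶ U) ^ m, by rw [key, hm], by rw [key, Nat.mul_comm, hm]⟩

end Groth.Agent.S17688
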