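import Mathlib
import Groth.Statements.S17689

set_option autoImplicit false
universe u
open CategoryTheory AlgebraicGeometry
open Neron

namespace Groth.Agent.S17689

open AlgebraicGeometry CategoryTheory

/-- Let R ⊆ S be a finite extension of discrete valuation rings (the structure map R → S is injective
and S is a finite R-module) such that the induced extension K ⊆ L of fraction fields is purely
inseparable. Then the morphism Spec S → Spec R is a universal homeomorphism: every base change of it
is a homeomorphism on underlying spaces. (No excellence hypothesis is needed here.) -/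
theorem result
    (R S K L : Type u) [CommRing R] [IsDomain R] [IsDiscreteValuationRing R]
    [CommRing S] [IsDomain S] [IsDiscreteValuationRing S] [Algebra R S] [Module.Finite R S] [FaithfulSMul R S]
    [Field K] [Field L] [Algebra R K] [IsFractionRing R K] [Algebra S L] [IsFractionRing S L]
    [Algebra K L] [Algebra R L] [IsScalarTower R S L] [IsScalarTower R K L] [IsPurelyInseparable K L] :
    FlatMor.IsUnivHomeo (Spec.map (CommRingCat.ofHom (algebraMap R S))) := by
  let q := ringExpChar K
  haveI : ExpChar K q := inferInstance
  have hRS : Function.Injective (algebraMap R S) := FaithfulSMul.algebraMap_injective R S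
  haveI : ExpChar R q := RingHom.expChar (algebraMap R K) (IsFractionRing.injective R K) q
  haveI : ExpChar S q := expChar_of_injective_ringHom hRS q
  have hpow : ∀ s : S, ∃ (n : ℕ) (r : R), algebraMap R S r = s ^ q ^ n := by
    intro s
    obtain ⟨n, a, ha⟩ := IsPurelyInseparable.pow_mem K q (algebraMap S L s)
    have hint : IsIntegral R (algebraMap S L (s ^ q ^ n)) :=
      (Algebra.IsIntegral.isIntegral (s ^ q ^ n)).map (IsScalarTower.toAlgHom R S L)
    rw [map_pow, ← ha] at hint
    have hint' : IsIntegral R a :=
      (isIntegral_algHom_iff (IsScalarTower.toAlgHom R K L) (algebraMap K L).injective).mp hint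
    obtain ⟨r, rfl⟩ := IsIntegrallyClosed.algebraMap_eq_of_integral hint'
    refine ⟨n, r, IsFractionRing.injective S L ?_⟩
    rw [map_pow, ← ha, ← IsScalarTower.algebraMap_apply, ← IsScalarTower.algebraMap_apply]
  haveI : Algebra.IsIntegral R S := inferInstance
  let φ : CommRingCat.of R ⟶ CommRingCat.of S := CommRingCat.ofHom (algebraMap R S)
  haveI hfin : IsFinite (Spec.map φ) := (IsFinite.SpecMap_iff _).mpr (RingHom.finite_algebraMap.mpr inferInstance)
  haveI hsurj : Surjective (Spec.map φ) :=
    ⟨(RingHom.IsIntegral.comap_surjective (algebraMap_isIntegral_iff.mpr inferInstance) hRS)⟩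
  have hker : RingHom.ker (Algebra.TensorProduct.lmul' R (S := S)).toRingHom ≤ nilradical (TensorProduct R S S) := by
    show KaehlerDifferential.ideal R S ≤ _
    rw [← KaehlerDifferential.span_range_eq_ideal, Ideal.span_le]
    rintro _ ⟨s, rfl⟩
    obtain ⟨n, r, hr⟩ := hpow s
    haveI : Nontrivial (TensorProduct R S S) :=
      (Algebra.TensorProduct.lmul' R (S := S)).toRingHom.domain_nontrivial
    haveI : ExpChar (TensorProduct R S S) q := expChar_of_injective_ringHom (f := algebraMap S (TensorProduct R S S))
      (fun a b h => by simpa using congrArg (Algebra.TensorProduct.lmul' R (S := S)) h) q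
    refine ⟨q ^ n, ?_⟩
    rw [sub_pow_expChar_pow, Algebra.TensorProduct.tmul_pow, Algebra.TensorProduct.tmul_pow, one_pow, ← hr,
      Algebra.algebraMap_eq_smul_one, TensorProduct.smul_tmul, sub_self]
    exact Ideal.zero_mem _
  haveI : UniversallyInjective (Spec.map φ) := by
    rw [UniversallyInjective.iff_diagonal]
    rw [← MorphismProperty.cancel_right_of_respectsIso @Surjective (CategoryTheory.Limits.pullback.diagonal (Spec.map φ))
      (pullbackSpecIso R S S).hom, diagonal_SpecMap R S]
    refine ⟨?_⟩
    intro x
    have hsurjm : Function.Surjective (Algebra.TensorProduct.lmul' R (S := S)).toRingHom :=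
      fun s => ⟨TensorProduct.tmul R s 1, by simp⟩
    obtain ⟨y, hy⟩ := (range_comap_of_surjective _ _ hsurjm).ge
      (show x ∈ PrimeSpectrum.zeroLocus (RingHom.ker (Algebra.TensorProduct.lmul' R (S := S)).toRingHom : Set _) from
        hker.trans (nilradical_le_prime x.asIdeal))
    refine ⟨y, ?_⟩
    rw [Category.assoc, Iso.inv_hom_id, Category.comp_id]
    exact hy
  intro X' Y' f g h' hsq
  haveI : IsFinite h' := MorphismProperty.of_isPullback hsq.flip inferInstance
  haveI : Surjective h' := MorphismProperty.of_isPullback hsq.flip hsurj
  haveI : UniversallyInjective h' := MorphismProperty.of_isPullback hsq.flip inferInstance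
  exact isHomeomorph_iff_continuous_isClosedMap_bijective.mpr
    ⟨h'.continuous, h'.isClosedMap, h'.injective, h'.surjective⟩

end Groth.Agent.S17689
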