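import Groth.Statements.S17690
import Groth.Agent.S2654
import Mathlib.FieldTheory.PurelyInseparable.Basic
import Mathlib.RingTheory.DiscreteValuationRing.TFAE

set_option autoImplicit false
universe u
open Neron

namespace Groth.Agent.S17690

/-- Let R be an excellent discrete valuation ring (Noetherian, universally catenary, G-ring, J-2) with
fraction field K, and let L be a finite purely inseparable field extension of K. Then the integral
closure S of R in L is a discrete valuation ring, and S is a finite R-module. -/
theorem result
    (R K L : Type u) [CommRing R] [IsDomain R] [IsDiscreteValuationRing R] (hR : EGA4.IsExcellent R)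
    [Field K] [Algebra R K] [IsFractionRing R K] [Field L] [Algebra K L] [FiniteDimensional K L]
    [IsPurelyInseparable K L] [Algebra R L] [IsScalarTower R K L] :
    IsDiscreteValuationRing ↥(integralClosure R L) ∧ Module.Finite R ↥(integralClosure R L) := by
  have hN : CAlg.IsNagata R := S2654.result R ⟨hR.1, hR.2.2.1, hR.2.2.2⟩
  let S := integralClosure R L
  haveI : FaithfulSMul R L := (faithfulSMul_iff_algebraMap_injective R L).2 (by
    rw [IsScalarTower.algebraMap_eq R K L]
    exact (algebraMap K L).injective.comp (IsFractionRing.injective R K))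
  haveI hfin : Module.Finite R S := by
    let R0 := R ⧸ (⊥ : Ideal R)
    let e : R0 ≃+* R := RingEquiv.quotientBot R
    letI : Algebra R0 L := ((algebraMap R L).comp e.toRingHom).toAlgebra
    haveI : IsScalarTower R R0 L := IsScalarTower.of_algebraMap_eq fun r => rfl
    letI : Algebra R0 K := ((algebraMap R K).comp e.toRingHom).toAlgebra
    haveI : IsScalarTower R0 K L := IsScalarTower.of_algebraMap_eq fun r =>
      IsScalarTower.algebraMap_apply R K L (e r)
    haveI : IsFractionRing R0 K := IsFractionRing.of_ringEquiv_left e fun _ => rfl
    haveI : FaithfulSMul R0 L := (faithfulSMul_iff_algebraMap_injective R0 L).2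
      ((FaithfulSMul.algebraMap_injective R L).comp e.injective)
    letI := FractionRing.liftAlgebra R0 L
    let f := FractionRing.algEquiv R0 K
    letI : Algebra (FractionRing R0) K := f.toRingHom.toAlgebra
    haveI : IsScalarTower (FractionRing R0) K L := IsScalarTower.of_algebraMap_eq' <| by
      refine IsLocalization.ringHom_ext (nonZeroDivisors R0) (RingHom.ext fun r => ?_)
      show algebraMap (FractionRing R0) L (algebraMap R0 (FractionRing R0) r) =
        algebraMap K L (f (algebraMap R0 (FractionRing R0) r))
      rw [f.commutes, ← IsScalarTower.algebraMap_apply, ← IsScalarTower.algebraMap_apply]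
    haveI : Module.Finite (FractionRing R0) K :=
      Module.Finite.of_surjective (Algebra.linearMap (FractionRing R0) K) f.surjective
    haveI h0 : Module.Finite R0 (integralClosure R0 L) :=
      hN.2 (⊥ : Ideal R) L (Module.Finite.trans K L)
    haveI : Module.Finite R R0 := inferInstance
    haveI : Module.Finite R (integralClosure R0 L) := Module.Finite.trans R0 _
    let j : integralClosure R0 L →ₗ[R] S :=
      { toFun := fun x => ⟨x.1, isIntegral_trans (R := R) (A := R0) x.1 x.2⟩
        map_add' := fun _ _ => rfl
        map_smul' := fun _ _ => rfl }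
    exact Module.Finite.of_surjective j fun x => ⟨⟨x.1, x.2.tower_top⟩, rfl⟩
  haveI : IsFractionRing S L := integralClosure.isFractionRing_of_finite_extension K L
  haveI : IsIntegrallyClosed S := integralClosure.isIntegrallyClosedOfFiniteExtension K
  haveI : IsNoetherianRing S := isNoetherianRing_iff.2 (isNoetherian_of_tower R inferInstance)
  haveI : Ring.DimensionLEOne S := Ring.DimensionLEOne.integralClosure R L
  haveI : IsDedekindDomain S := {}
  refine ⟨?_, hfin⟩
  have hinj : Function.Injective (algebraMap R S) := fun a b h =>
    FaithfulSMul.algebraMap_injective R L (congrArg Subtype.val h)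
  have hnf : ¬ IsField S := fun h => IsDiscreteValuationRing.not_isField R
    (isField_of_isIntegral_of_isField hinj h)
  obtain ⟨q, _⟩ := ExpChar.exists K
  haveI : IsLocalRing S := by
    refine IsLocalRing.of_unique_max_ideal ?_
    obtain ⟨Q, hQ⟩ := Ideal.exists_maximal S
    refine ⟨Q, hQ, fun P hP => hP.eq_of_le hQ.ne_top fun x hx => ?_⟩
    obtain ⟨n, c, hc⟩ := IsPurelyInseparable.pow_mem K q (x : L)
    obtain ⟨r, hr⟩ := IsIntegrallyClosed.isIntegral_iff.1
      ((isIntegral_algebraMap_iff (algebraMap K L).injective).1
        (hc ▸ x.2.pow (q ^ n) : IsIntegral R (algebraMap K L c)))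
    have hx' : x ^ (q ^ n) = algebraMap R S r := Subtype.ext (by
      show (x : L) ^ (q ^ n) = algebraMap R L r
      rw [← hc, ← hr, ← IsScalarTower.algebraMap_apply])
    haveI : P.IsMaximal := hP
    haveI : Q.IsMaximal := hQ
    have hm : P.comap (algebraMap R S) = Q.comap (algebraMap R S) :=
      (IsLocalRing.eq_maximalIdeal (Ideal.isMaximal_comap_of_isIntegral_of_isMaximal P)).trans
        (IsLocalRing.eq_maximalIdeal (Ideal.isMaximal_comap_of_isIntegral_of_isMaximal Q)).symm
    refine hQ.isPrime.mem_of_pow_mem (q ^ n) ?_
    rw [hx', ← Ideal.mem_comap, ← hm, Ideal.mem_comap, ← hx']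
    exact P.pow_mem_of_mem hx _ (Nat.pos_of_ne_zero (pow_ne_zero n (expChar_ne_zero K q)))
  exact ((IsDiscreteValuationRing.TFAE S hnf).out 2 0 :).1 inferInstance

end Groth.Agent.S17690
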