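import Groth.Statements.S17693
import Groth.Agent.H8Props.WeilRes.AF
import Groth.Agent.H26WeilRes.OfMorS
import Groth.Agent.H13Desc.Eff.FinLocFreeApps
import Groth.Agent.H7Lim.Thickening
import Groth.Agent.S1841

set_option autoImplicit false
universe u
open CategoryTheory CategoryTheory.Limits AlgebraicGeometry
open WeilRes

namespace Groth.Agent.S17693

set_option linter.style.haveILetI false
set_option backward.isDefEq.respectTransparency false

/-- Finite sets in a fibre of a group scheme of finite type over an artinian ring lie in affine opens. -/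
theorem exists_affineOpen_fibre {A : Type u} [CommRing A] [IsArtinianRing A]
    (G : Over (Spec (CommRingCat.of A))) [GrpObj G] [LocallyOfFiniteType G.hom] [QuasiCompact G.hom]
    (s : ↥(Spec (CommRingCat.of A))) {d : ℕ} (x : Fin d → G.left) (hx : ∀ i, G.hom (x i) = s) :
    ∃ U : G.left.Opens, IsAffineOpen U ∧ (∀ z ∈ U, G.hom z = s) ∧ ∀ i, x i ∈ U := by
  classical
  haveI : s.asIdeal.IsMaximal := inferInstance
  letI : Field (A ⧸ s.asIdeal) := Ideal.Quotient.field _
  let π : Spec (CommRingCat.of (A ⧸ s.asIdeal)) ⟶ Spec (CommRingCat.of A) :=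
    Spec.map (CommRingCat.ofHom (Ideal.Quotient.mk s.asIdeal))
  haveI : IsClosedImmersion π := IsClosedImmersion.spec_of_surjective _ Ideal.Quotient.mk_surjective
  let G' := (Over.pullback π).obj G
  letI : GrpObj G' := Functor.grpObjObj
  haveI : LocallyOfFiniteType G'.hom := MorphismProperty.pullback_snd (P := @LocallyOfFiniteType) _ _ ‹_›
  haveI : QuasiCompact G'.hom := MorphismProperty.pullback_snd (P := @QuasiCompact) _ _ ‹_›
  let i : G'.left ⟶ G.left := pullback.fst G.hom π
  haveI : IsClosedImmersion i := MorphismProperty.pullback_fst (P := @IsClosedImmersion) _ _ inferInstance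
  have hπ : Set.range π = {s} := by
    show Set.range (PrimeSpectrum.comap (Ideal.Quotient.mk s.asIdeal)) = {s}
    rw [range_comap_of_surjective _ _ Ideal.Quotient.mk_surjective, Ideal.mk_ker]
    ext p
    simp only [PrimeSpectrum.mem_zeroLocus, SetLike.coe_subset_coe, Set.mem_singleton_iff]
    refine ⟨fun h => ?_, fun h => h ▸ le_rfl⟩
    exact (PrimeSpectrum.ext (Ideal.IsMaximal.eq_of_le inferInstance p.isPrime.ne_top h)).symm
  have hi : Set.range i = G.hom ⁻¹' {s} := by
    show Set.range ⇑(pullback.fst G.hom π) = _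
    rw [Scheme.Pullback.range_fst, hπ]
  let O : G.left.Opens := ⟨G.hom ⁻¹' {s}, (isOpen_discrete _).preimage G.hom.continuous⟩
  obtain ⟨L, hL⟩ := Groth.Agent.S1841.result (A ⧸ s.asIdeal) G'
  have hy : ∀ j, ∃ y, i y = x j := fun j => hi.ge (hx j)
  choose y hy using hy
  obtain ⟨U', hU', hyU⟩ := Groth.Agent.H13Desc.Eff.exists_affine_of_isAmple hL (Finset.univ.image y)
  obtain ⟨V, hV, hVU⟩ := i.isClosedEmbedding.isInducing.isOpen_iff.1 U'.2
  let U : G.left.Opens := ⟨V, hV⟩ ⊓ O
  have hiU : i ⁻¹ᵁ U = U' := by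
    ext z
    show i z ∈ V ∧ G.hom (i z) = s ↔ z ∈ U'.carrier
    refine Iff.trans ?_ (Set.ext_iff.1 hVU z)
    exact ⟨fun h => h.1, fun h => ⟨h, hi.le ⟨z, rfl⟩⟩⟩
  haveI : IsAffine (i ⁻¹ᵁ U).toScheme := by rw [hiU]; exact hU'
  haveI : IsClosedImmersion (i ∣_ U) :=
    IsZariskiLocalAtTarget.restrict (P := @IsClosedImmersion) inferInstance U
  refine ⟨U, Groth.Agent.H7Lim.isAffine_of_surjective_closedImmersion (t := i ∣_ U) fun z => ?_,
    fun z hz => hz.2, fun j => ?_⟩
  · obtain ⟨w, hw⟩ := hi.ge z.2.2
    refine ⟨⟨w, show i w ∈ U from hw ▸ z.2⟩, Subtype.ext ?_⟩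
    exact (morphismRestrict_base i U).symm ▸ hw
  · refine ⟨?_, hx j⟩
    have h : i (y j) ∈ V :=
      (Set.ext_iff.1 hVU (y j)).2 (hyU _ (Finset.mem_image_of_mem _ (Finset.mem_univ j)))
    exact hy j ▸ h

/-- Let k be a field, A a finite k-algebra and G a group scheme of finite type over Spec A, not
necessarily smooth. Then the Weil restriction of G along Spec A → Spec k is representable: there
exist a k-scheme R and an A-morphism q : R ×_k Spec A → G such that for every k-scheme T the map g ↦
(g ×_k Spec A) ≫ q is a bijection from k-morphisms T → R onto A-morphisms T ×_k Spec A → G. (The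
published statement adds that the representing k-group scheme is quasi-projective; only
representability is stated here.) -/
theorem result
    (k A : Type u) [Field k] [CommRing A] [Algebra k A] [Module.Finite k A]
    (G : Over (Spec (CommRingCat.of A))) [GrpObj G] [LocallyOfFiniteType G.hom] [QuasiCompact G.hom] :
    ∃ (R : Over (Spec (CommRingCat.of k)))
      (q : Red.bc (Spec.map (CommRingCat.ofHom (algebraMap k A))) R ⟶ G),
      WeilRes.IsWeilRes (Spec.map (CommRingCat.ofHom (algebraMap k A))) G R q := by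
  haveI : IsArtinianRing A := IsArtinianRing.of_finite k A
  haveI : IsFinite (Spec.map (CommRingCat.ofHom (algebraMap k A))) :=
    (IsFinite.SpecMap_iff _).2 (RingHom.finite_algebraMap.2 ‹_›)
  haveI : Flat (Spec.map (CommRingCat.ofHom (algebraMap k A))) :=
    (HasRingHomProperty.Spec_iff (P := @Flat)).2 (RingHom.flat_algebraMap_iff.2 inferInstance)
  haveI : LocallyOfFinitePresentation (Spec.map (CommRingCat.ofHom (algebraMap k A))) :=
    (HasRingHomProperty.Spec_iff (P := @LocallyOfFinitePresentation)).2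
      (RingHom.finitePresentation_algebraMap.2 (Algebra.FinitePresentation.of_finiteType.1 inferInstance))
  refine Groth.Agent.H26WeilRes.exists_isWeilRes_of_isRepresentable _ G
    (Groth.Agent.H8Props.WeilRes.isRepresentable_morS_of_AF _ _ fun s d x hx => ?_)
  classical
  let t : Fin d → PrimeSpectrum A := fun i => G.hom (x i)
  have hU : ∀ p : PrimeSpectrum A, ∃ U : G.left.Opens, IsAffineOpen U ∧
      (∀ z ∈ U, G.hom z = p) ∧ ∀ i, t i = p → x i ∈ U := by
    intro p
    let e := Fintype.equivFin {i // t i = p}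
    obtain ⟨U, hU, hUp, hxU⟩ := exists_affineOpen_fibre G p (fun j => x (e.symm j).1)
      (fun j => (e.symm j).2)
    exact ⟨U, hU, hUp, fun i hi => by simpa using hxU (e ⟨i, hi⟩)⟩
  choose U hU hUp hxU using hU
  refine ⟨⨆ p, U p, IsAffineOpen.iSup_of_disjoint hU fun p q hpq => ?_, fun i =>
    TopologicalSpace.Opens.mem_iSup.2 ⟨t i, hxU _ i rfl⟩⟩
  refine disjoint_iff.2 (le_bot_iff.1 fun z hz => ?_)
  exact (hpq ((hUp p z hz.1).symm.trans (hUp q z hz.2))).elim

end Groth.Agent.S17693
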