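import Groth.Statements.S17694
import Groth.Agent.H26WeilGm.Main
-- import your own Groth.Agent.* helpers here

set_option autoImplicit false
universe u
open CategoryTheory CategoryTheory.Limits AlgebraicGeometry MonObj
open WeilRes

namespace Groth.Agent.S17694

/-- Let κ be a field, B a finite κ-algebra and E an abelian scheme over B, that is a proper smooth
B-group scheme whose geometric fibres are connected. Let R be a κ-group scheme which, with the
homomorphism q : R ×_κ Spec B → E, is the Weil restriction of E along Spec B → Spec κ. Then the
maximal torus of R is trivial; precisely, as the proof establishes, for every algebraically closed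
field Ω over κ every homomorphism of Ω-group schemes from the multiplicative group over Ω to the
base change of R to Ω is trivial. -/
theorem result
    (κ B : Type u) [Field κ] [CommRing B] [Algebra κ B] [Module.Finite κ B]
    (E : Over (Spec (CommRingCat.of B))) [GrpObj E] [IsProper E.hom] [Smooth E.hom]
    (hEc : ∀ (Ω' : Type u) [Field Ω'] (t : Spec (CommRingCat.of Ω') ⟶ Spec (CommRingCat.of B)),
      ConnectedSpace ↥(pullback E.hom t))
    (R : Over (Spec (CommRingCat.of κ))) [GrpObj R]
    (q : Red.bc (Spec.map (CommRingCat.ofHom (algebraMap κ B))) R ⟶ E) [IsMonHom q]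
    (hR : WeilRes.IsWeilRes (Spec.map (CommRingCat.ofHom (algebraMap κ B))) E R q)
    (Ω : Type u) [Field Ω] [IsAlgClosed Ω] [Algebra κ Ω]
    (φ : Red.Gm (Spec (CommRingCat.of Ω)) ⟶ Red.bc (Spec.map (CommRingCat.ofHom (algebraMap κ Ω))) R)
    [IsMonHom φ] :
    φ = 1 := by
  exact H26WeilGm.eq_one_of_hom _ _ hEc (H21Red0.isTorus_split (M := ℤ) (Iso.refl _)) hR φ

end Groth.Agent.S17694
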