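import Groth.Statements.S17703
import Groth.Agent.H28NT.DvrExcellent

set_option autoImplicit false
universe u
open Neron

namespace Groth.Agent.S17703

/-- Let R be a discrete valuation ring with fraction field K, R̂ its completion and K̂ = Frac R̂. Then R
is excellent (Noetherian, universally catenary, G-ring and J-2) if and only if K̂ is geometrically
reduced over K, i.e. K ⊆ K̂ is separable; here K̂ is written as the generic formal fibre κ(0) ⊗_R R̂
of R, which is R̂ with the uniformizer inverted. -/
theorem result
    (R : Type u) [CommRing R] [IsDomain R] [IsDiscreteValuationRing R] :
    EGA4.IsExcellent R ↔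
      Algebra.IsGeometricallyReduced (⊥ : Ideal R).ResidueField (EGA4.formalFibre R (⊥ : Ideal R)) := by
  exact Groth.Agent.H28NT.isExcellent_iff_geometricallyReduced R

end Groth.Agent.S17703
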