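import Groth.Statements.S1771
import Groth.Agent.H4LC.FiniteH1Catenary

set_option autoImplicit false
universe u
open LocCoh

namespace Groth.Agent.S1771

/-- Let A be a Noetherian ring which is Nagata and universally catenary, I an ideal of A and M a finite
A-module. Suppose that for every associated prime p of M not containing I and every prime q
containing both p and I, the longest chain of primes from p to q has length at least 2. Then the
local cohomology module H^1_I(M) is a finite A-module. The published statement asserts that the
pushforward of a coherent sheaf from the open complement of V(I) is coherent; this is its affine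
form, stated as finiteness of H^1_I(M). -/
theorem result (A : Type u) [CommRing A] [IsNoetherianRing A] (hN : CAlg.IsNagata A) (hU : CAlg.IsUniversallyCatenary A) (I : Ideal A) (M : Type u) [AddCommGroup M] [Module A M] [Module.Finite A M] (h : ∀ (p q : PrimeSpectrum A) (hpq : p ≤ q), p.asIdeal ∈ associatedPrimes A M → ¬ I ≤ p.asIdeal → I ≤ q.asIdeal → (2 : ℕ∞) ≤ Order.height (⟨q, hpq⟩ : Set.Ici p)) : Module.Finite A (LocCoh.H I 1 M) := by
  refine H4LC.finite_H_one_of_universallyCatenary hU I (fun q hq p hp hpq => ?_) M h
  let L := Localization.AtPrime q.asIdeal
  haveI : IsNoetherianRing L := IsLocalization.isNoetherianRing q.asIdeal.primeCompl L ‹_›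
  haveI := IsLocalization.isPrime_of_isPrime_disjoint q.asIdeal.primeCompl L p hp
    (Set.disjoint_left.2 fun a ha hap => ha (hpq hap))
  let R := L ⧸ p.map (algebraMap A L)
  haveI : IsLocalRing R := .of_surjective' _ Ideal.Quotient.mk_surjective
  rw [IsLocalRing.map_maximalIdeal_of_surjective _ Ideal.Quotient.mk_surjective]
  haveI := H05EGA4.isNoetherianRing_adicCompletion R (IsLocalRing.maximalIdeal R)
  have hR : CAlg.IsNagata R :=
    H1CAlg.isNagata_of_finiteType (R := L) (H8Props.NagataAffine.isNagata_of_isLocalization q.asIdeal.primeCompl L hN)
  haveI := Groth.Agent.S0576.result R hR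
  exact H1CAlg.hasSk_one_self_iff.1 (H1CAlg.isReduced_iff_R0_S1.1 inferInstance).2

end Groth.Agent.S1771
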