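import Groth.Statements.S17716
import Mathlib.RingTheory.PowerSeries.Exp
import Mathlib.Tactic

set_option autoImplicit false
open MoretBailly

namespace Groth.Agent.S17716

theorem coeffs_mul (F G : PowerSeries ℚ) :
    PowerSeries.coeff 0 (F * G) = PowerSeries.coeff 0 F * PowerSeries.coeff 0 G ∧
    PowerSeries.coeff 1 (F * G) = PowerSeries.coeff 0 F * PowerSeries.coeff 1 G + PowerSeries.coeff 1 F * PowerSeries.coeff 0 G ∧
    PowerSeries.coeff 2 (F * G) = PowerSeries.coeff 0 F * PowerSeries.coeff 2 G + PowerSeries.coeff 1 F * PowerSeries.coeff 1 G + PowerSeries.coeff 2 F * PowerSeries.coeff 0 G ∧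
    PowerSeries.coeff 3 (F * G) = PowerSeries.coeff 0 F * PowerSeries.coeff 3 G + PowerSeries.coeff 1 F * PowerSeries.coeff 2 G + PowerSeries.coeff 2 F * PowerSeries.coeff 1 G + PowerSeries.coeff 3 F * PowerSeries.coeff 0 G := by
  simp only [PowerSeries.coeff_mul, Finset.Nat.sum_antidiagonal_eq_sum_range_succ_mk, Finset.sum_range_succ, Finset.sum_range_zero, zero_add, Nat.sub_self, Nat.sub_zero]
  exact ⟨trivial, trivial, trivial, trivial⟩

/-- Write B(x) = x/(1 - e^(-x)) for the exponential generating series of the Bernoulli numbers (B'_1 =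
1/2). For natural numbers d ≥ 1 and p ≥ 4 the coefficient of x^3 in B(-dx)^(-1) B(-dpx) B(x)^4
e^((dp-d-3)x) (the case n = 3, s = 1 of the Todd-class integrand) is strictly negative. The
published argument needs only primes p ≥ 7; this row covers every natural p ≥ 4. -/
theorem result (d p : ℕ) (hd : 1 ≤ d) (hp : 4 ≤ p) :
    PowerSeries.coeff 3 ((PowerSeries.rescale (-(d : ℚ)) (bernoulli'PowerSeries ℚ))⁻¹ * PowerSeries.rescale (-((d : ℚ) * p)) (bernoulli'PowerSeries ℚ) * bernoulli'PowerSeries ℚ ^ (4) * PowerSeries.rescale ((d : ℚ) * p - d - 3) (PowerSeries.exp ℚ)) < 0 := by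
  have hb : PowerSeries.coeff 0 (bernoulli'PowerSeries ℚ) = 1 ∧ PowerSeries.coeff 1 (bernoulli'PowerSeries ℚ) = 1/2 ∧
      PowerSeries.coeff 2 (bernoulli'PowerSeries ℚ) = 1/12 ∧ PowerSeries.coeff 3 (bernoulli'PowerSeries ℚ) = 0 := by
    simp [bernoulli'PowerSeries, bernoulli'_zero, bernoulli'_one, bernoulli'_two, bernoulli'_three, Nat.factorial]
    norm_num
  obtain ⟨b0, b1, b2, b3⟩ := hb
  set F := PowerSeries.rescale (-(d : ℚ)) (bernoulli'PowerSeries ℚ) with hF
  have f0 : PowerSeries.coeff 0 F = 1 := by rw [hF, PowerSeries.coeff_rescale, b0]; ring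
  have f1 : PowerSeries.coeff 1 F = -(d : ℚ) / 2 := by rw [hF, PowerSeries.coeff_rescale, b1]; ring
  have f2 : PowerSeries.coeff 2 F = (d : ℚ) ^ 2 / 12 := by rw [hF, PowerSeries.coeff_rescale, b2]; ring
  have f3 : PowerSeries.coeff 3 F = 0 := by rw [hF, PowerSeries.coeff_rescale, b3]; ring
  have hm : F * F⁻¹ = 1 := PowerSeries.mul_inv_cancel F (by rw [← PowerSeries.coeff_zero_eq_constantCoeff_apply, f0]; exact one_ne_zero)
  obtain ⟨m0, m1, m2, m3⟩ := coeffs_mul F F⁻¹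
  simp only [hm, f0, f1, f2, f3, PowerSeries.coeff_one, if_true, OfNat.ofNat_ne_zero, one_ne_zero, if_false, one_mul] at m0 m1 m2 m3
  have i0 : PowerSeries.coeff 0 F⁻¹ = 1 := by linarith
  rw [i0] at m1
  have i1 : PowerSeries.coeff 1 F⁻¹ = (d : ℚ) / 2 := by linarith
  rw [i0, i1] at m2
  have i2 : PowerSeries.coeff 2 F⁻¹ = (d : ℚ) ^ 2 / 6 := by linarith
  rw [i0, i1, i2] at m3
  have i3 : PowerSeries.coeff 3 F⁻¹ = (d : ℚ) ^ 3 / 24 := by linarith
  have key : PowerSeries.coeff 3 (F⁻¹ * PowerSeries.rescale (-((d : ℚ) * p)) (bernoulli'PowerSeries ℚ) * bernoulli'PowerSeries ℚ ^ (4) * PowerSeries.rescale ((d : ℚ) * p - d - 3) (PowerSeries.exp ℚ))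
      = ((d : ℚ) * ((p : ℚ) - 1) / 2 - 1) / 24 * ((d : ℚ) * ((p : ℚ) - 1)) * (-2 * (d : ℚ) - 4) := by
    simp only [show (4 : ℕ) = 2 + 2 by rfl, pow_add, pow_two, (coeffs_mul _ _).1, (coeffs_mul _ _).2.1, (coeffs_mul _ _).2.2.1, (coeffs_mul _ _).2.2.2,
      PowerSeries.coeff_rescale, PowerSeries.coeff_exp, b0, b1, b2, b3, i0, i1, i2, i3, map_one, map_div₀, map_natCast, Nat.factorial]
    norm_num
    ring
  rw [key]
  have hd' : (1 : ℚ) ≤ d := by exact_mod_cast hd
  have hp' : (4 : ℚ) ≤ p := by exact_mod_cast hp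
  have hdp : (3 : ℚ) ≤ (d : ℚ) * ((p : ℚ) - 1) := by nlinarith
  apply mul_neg_of_pos_of_neg
  · apply mul_pos <;> linarith
  · linarith

end Groth.Agent.S17716
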