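import Groth.Statements.S17717
import Mathlib.RingTheory.PowerSeries.Exp
import Mathlib.Tactic

set_option autoImplicit false
open MoretBailly

namespace Groth.Agent.S17717

/-- Write B(x) = x/(1 - e^(-x)) for the exponential generating series of the Bernoulli numbers (B'_1 =
1/2). For all natural numbers d, p and every integer s the coefficient of x in B(-dx)^(-1) B(-dpx)
B(x)^2 e^((dp-d-2+s)x), i.e. the case n = 1 of the Todd-class integrand, equals d(p-1)/2 + s - 1. -/
theorem result (d p : ℕ) (s : ℤ) :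
    PowerSeries.coeff 1 ((PowerSeries.rescale (-(d : ℚ)) (bernoulli'PowerSeries ℚ))⁻¹ * PowerSeries.rescale (-((d : ℚ) * p)) (bernoulli'PowerSeries ℚ) * bernoulli'PowerSeries ℚ ^ (2) * PowerSeries.rescale ((d : ℚ) * p - d - 2 + s) (PowerSeries.exp ℚ)) =
      (d : ℚ) * (p - 1) / 2 + s - 1 := by
  have h0 : PowerSeries.constantCoeff (bernoulli'PowerSeries ℚ) = 1 := by
    rw [← PowerSeries.coeff_zero_eq_constantCoeff_apply]; simp [bernoulli'PowerSeries]
  have h1 : PowerSeries.coeff 1 (bernoulli'PowerSeries ℚ) = 1 / 2 := by simp [bernoulli'PowerSeries, bernoulli'_one]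
  set F := PowerSeries.rescale (-(d : ℚ)) (bernoulli'PowerSeries ℚ) with hF
  have hF0 : PowerSeries.constantCoeff F = 1 := by
    rw [← PowerSeries.coeff_zero_eq_constantCoeff_apply, hF, PowerSeries.coeff_rescale]; simp [h0]
  have hm := PowerSeries.mul_inv_cancel F (by rw [hF0]; exact one_ne_zero)
  have e1 := congrArg (PowerSeries.coeff 1) hm
  have i0 : PowerSeries.constantCoeff F⁻¹ = 1 := by simp [hF0]
  rw [PowerSeries.coeff_one_mul, hF0, i0, PowerSeries.coeff_one, if_neg (one_ne_zero), mul_one, mul_one] at e1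
  have i1 : PowerSeries.coeff 1 F⁻¹ = (d : ℚ) / 2 := by
    have : PowerSeries.coeff 1 F = -(d : ℚ) * (1/2) := by rw [hF, PowerSeries.coeff_rescale, h1]; ring
    linarith
  have r0 : ∀ (a : ℚ) (G : PowerSeries ℚ), PowerSeries.constantCoeff (PowerSeries.rescale a G) = PowerSeries.constantCoeff G := fun a G => by
    rw [← PowerSeries.coeff_zero_eq_constantCoeff_apply, PowerSeries.coeff_rescale]; simp
  simp [PowerSeries.coeff_one_mul, pow_two, i0, i1, h0, h1, r0, PowerSeries.coeff_rescale, PowerSeries.constantCoeff_exp, PowerSeries.coeff_exp]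
  ring

end Groth.Agent.S17717
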