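import Groth.Statements.S17719
import Groth.Agent.H3CAlg.NodeUnits
import Groth.Agent.H4Depth.Regular
import Groth.Agent.H28Alg.RegularUFD
import Mathlib.RingTheory.Localization.BaseChange

set_option autoImplicit false
universe u
open scoped TensorProduct
open CAlg

namespace Groth.Agent.S17719

open MvPowerSeries in
/-- Let R be a regular local ring, complete for its maximal ideal, with fraction field K; let r be a
non-zero element of R and A the quotient of the power series ring in two variables x, y over R by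
the ideal generated by xy − r. If an element a of A maps to a unit of A ⊗_R K, then there are an
element s of R, natural numbers m and n with mn = 0 and a unit u of A with a = s xⁿ yᵐ u. -/
theorem result
    (R : Type u) [CommRing R] [IsRegularLocalRing R]
    [IsAdicComplete (IsLocalRing.maximalIdeal R) R]
    (r : R) (hr : r ≠ 0)
    (a : (MvPowerSeries (Fin 2) R ⧸ Ideal.span {(X 0 * X 1 - C r : MvPowerSeries (Fin 2) R)}))
    (ha : IsUnit (a ⊗ₜ[R] (1 : FractionRing R) :
      (MvPowerSeries (Fin 2) R ⧸ Ideal.span {(X 0 * X 1 - C r : MvPowerSeries (Fin 2) R)}) ⊗[R] FractionRing R)) :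
    ∃ (s : R) (m n : ℕ) (u : (MvPowerSeries (Fin 2) R ⧸ Ideal.span {(X 0 * X 1 - C r : MvPowerSeries (Fin 2) R)})ˣ),
      m * n = 0 ∧ a = Ideal.Quotient.mk _ (C s * X 0 ^ n * X 1 ^ m) * (u : (MvPowerSeries (Fin 2) R ⧸ Ideal.span {(X 0 * X 1 - C r : MvPowerSeries (Fin 2) R)})) := by
  haveI := H4Depth.isDomain_of_isRegularLocalRing R
  haveI := H28Alg.ufd_of_regular R
  by_cases hr' : r ∈ IsLocalRing.maximalIdeal R
  swap
  · have hu : IsUnit r := by
      by_contra h
      exact hr' ((IsLocalRing.mem_maximalIdeal r).mpr h)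
    haveI : Subsingleton (MvPowerSeries (Fin 2) R ⧸ Ideal.span {(X 0 * X 1 - C r : MvPowerSeries (Fin 2) R)}) :=
      Ideal.Quotient.subsingleton_iff.mpr (Ideal.span_singleton_eq_top.mpr (isUnit_iff_constantCoeff.mpr (by simpa using hu)))
    exact ⟨1, 0, 0, 1, rfl, Subsingleton.elim _ _⟩
  obtain ⟨b, c, hc, hab⟩ : ∃ b c, c ≠ 0 ∧ a * b = algebraMap R _ c := by
    obtain ⟨w, hw⟩ := ha.exists_right_inv
    obtain ⟨b, c, hbc⟩ : ∃ (b : MvPowerSeries (Fin 2) R ⧸ Ideal.span {(X 0 * X 1 - C r : MvPowerSeries (Fin 2) R)}) (c : nonZeroDivisors R),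
        (c : R) • w = b ⊗ₜ[R] (1 : FractionRing R) := by
      clear hw
      induction w using TensorProduct.induction_on with
      | zero => exact ⟨0, 1, by simp⟩
      | tmul x y =>
        obtain ⟨⟨n, d⟩, hnd⟩ := IsLocalization.surj (nonZeroDivisors R) y
        refine ⟨n • x, d, ?_⟩
        rw [TensorProduct.smul_tmul', TensorProduct.smul_tmul, TensorProduct.smul_tmul, Algebra.smul_def, Algebra.smul_def,
          mul_one]
        congr 1
        rw [mul_comm]; exact hnd
      | add u v hu hv =>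
        obtain ⟨b, c, hb⟩ := hu
        obtain ⟨b', c', hb'⟩ := hv
        refine ⟨(c' : R) • b + (c : R) • b', c * c', ?_⟩
        rw [Submonoid.coe_mul, smul_add, TensorProduct.add_tmul, ← TensorProduct.smul_tmul', ← TensorProduct.smul_tmul',
          mul_comm (c : R), mul_smul, hb, mul_comm (c' : R), mul_smul, hb']
    have h1 : (a * b) ⊗ₜ[R] (1 : FractionRing R) = (algebraMap R _ (c : R)) ⊗ₜ[R] (1 : FractionRing R) := by
      have h := congrArg ((c : R) • ·) hw
      rw [← mul_smul_comm, hbc, Algebra.TensorProduct.tmul_mul_tmul, one_mul, Algebra.TensorProduct.one_def,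
        TensorProduct.smul_tmul', ← Algebra.algebraMap_eq_smul_one] at h
      exact h
    have h2 := congrArg (TensorProduct.comm R _ _) h1
    rw [TensorProduct.comm_tmul, TensorProduct.comm_tmul] at h2
    obtain ⟨s, hs⟩ := (IsLocalizedModule.eq_iff_exists (nonZeroDivisors R)
      (TensorProduct.mk R (FractionRing R) (MvPowerSeries (Fin 2) R ⧸ Ideal.span {(X 0 * X 1 - C r : MvPowerSeries (Fin 2) R)}) 1)).mp h2
    refine ⟨b, c, nonZeroDivisors.ne_zero c.2, ?_⟩
    refine Groth.Agent.H3CAlg.NodeUnits.algebraMap_mul_cancel hr' (nonZeroDivisors.ne_zero s.2) ?_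
    have hsm : ∀ z : MvPowerSeries (Fin 2) R ⧸ Ideal.span {(X 0 * X 1 - C r : MvPowerSeries (Fin 2) R)},
        s • z = algebraMap R _ (s : R) * z := by
      intro z
      obtain ⟨z, rfl⟩ := Ideal.Quotient.mk_surjective z
      show Ideal.Quotient.mk _ ((s : R) • z) = Ideal.Quotient.mk _ (algebraMap R _ (s : R)) * Ideal.Quotient.mk _ z
      rw [← map_mul, Algebra.smul_def]
    exact (hsm _).symm.trans (hs.trans (hsm _))
  obtain ⟨e, s, u, he⟩ := Groth.Agent.H3CAlg.NodeUnits.eq_monomial_mul_unit hr' hc hab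
  refine ⟨s, (-e).toNat, e.toNat, u, ?_, ?_⟩
  · rcases le_total 0 e with h | h
    · rw [show (-e).toNat = 0 by omega, zero_mul]
    · rw [show e.toNat = 0 by omega, mul_zero]
  · rw [he]
    simp only [map_mul, map_pow]
    rfl

end Groth.Agent.S17719
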