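import Groth.Statements.S17720
import Groth.Agent.H02CA.PowerSeries
import Mathlib.Tactic.LinearCombination
import Mathlib.Tactic.Ring

set_option autoImplicit false
universe u
open CAlg

namespace Groth.Agent.S17720

open MvPowerSeries IsLocalRing in
/-- Let A be a Noetherian local ring and α, β two elements of its maximal ideal. If the quotient of the
power series ring in two variables over A by xy − α is isomorphic, as an A-algebra, to the quotient
by xy − β, then αA = βA. (The published statement allows any local ring A; it is taken Noetherian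
here, the case in which an algebra isomorphism between these complete local rings is continuous for
their adic topologies.) -/
theorem result
    (A : Type u) [CommRing A] [IsLocalRing A] [IsNoetherianRing A]
    (α β : A) (hα : α ∈ maximalIdeal A) (hβ : β ∈ maximalIdeal A)
    (φ : (MvPowerSeries (Fin 2) A ⧸ Ideal.span {(X 0 * X 1 - C α : MvPowerSeries (Fin 2) A)}) ≃ₐ[A] (MvPowerSeries (Fin 2) A ⧸ Ideal.span {(X 0 * X 1 - C β : MvPowerSeries (Fin 2) A)})) :
    Ideal.span {α} = Ideal.span {β} := by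
  classical
  suffices key : ∀ (α β : A), β ∈ IsLocalRing.maximalIdeal A →
      ((MvPowerSeries (Fin 2) A ⧸ Ideal.span {(MvPowerSeries.X 0 * MvPowerSeries.X 1 - MvPowerSeries.C α : MvPowerSeries (Fin 2) A)}) ≃ₐ[A] (MvPowerSeries (Fin 2) A ⧸ Ideal.span {(MvPowerSeries.X 0 * MvPowerSeries.X 1 - MvPowerSeries.C β : MvPowerSeries (Fin 2) A)})) → α ∈ Ideal.span {β} by
    refine le_antisymm ((Ideal.span_singleton_le_iff_mem _).mpr (key α β hβ φ)) ((Ideal.span_singleton_le_iff_mem _).mpr (key β α hα φ.symm))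
  clear φ hα hβ α β
  intro α β hβ φ
  let Iα : Ideal (MvPowerSeries (Fin 2) A) := Ideal.span {(MvPowerSeries.X 0 * MvPowerSeries.X 1 - MvPowerSeries.C α : (MvPowerSeries (Fin 2) A))}
  let Iβ : Ideal (MvPowerSeries (Fin 2) A) := Ideal.span {(MvPowerSeries.X 0 * MvPowerSeries.X 1 - MvPowerSeries.C β : (MvPowerSeries (Fin 2) A))}
  let m := IsLocalRing.maximalIdeal A
  let c0 : (MvPowerSeries (Fin 2) A) →+* A := MvPowerSeries.constantCoeff
  let c1 : Fin 2 → (MvPowerSeries (Fin 2) A) → A := fun i f ↦ MvPowerSeries.coeff (Finsupp.single i 1) f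
  have hc1mul : ∀ i f g, c1 i (f * g) = c0 f * c1 i g + c1 i f * c0 g := by
    intro i f g
    simp only [c1, c0, MvPowerSeries.coeff_mul, Finsupp.antidiagonal_single, Finset.sum_map]
    rw [show Finset.HasAntidiagonal.antidiagonal (1 : ℕ) = {((0 : ℕ), (1 : ℕ)), (1, 0)} by rfl]
    simp [Finset.sum_insert, MvPowerSeries.coeff_zero_eq_constantCoeff_apply]
  have hc1add : ∀ i f g, c1 i (f + g) = c1 i f + c1 i g := fun i f g ↦ map_add _ _ _
  have hc1C : ∀ i a, c1 i (MvPowerSeries.C a) = 0 := fun i a ↦ by simp [c1, MvPowerSeries.coeff_C]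
  have hc1X : ∀ i j, c1 i (MvPowerSeries.X j) = if i = j then 1 else 0 := fun i j ↦ by
    simp only [c1, MvPowerSeries.coeff_X, Finsupp.single_left_inj one_ne_zero]
  have hc0g : ∀ γ : A, c0 (MvPowerSeries.X 0 * MvPowerSeries.X 1 - MvPowerSeries.C γ) = -γ := fun γ ↦ by simp [c0]
  have hrel : ∀ f ∈ Iβ, c0 f ∈ Ideal.span {β} ∧ ∀ i, c1 i f ∈ Ideal.span {β} := by
    intro f hf
    obtain ⟨w, rfl⟩ := Ideal.mem_span_singleton'.mp hf
    refine ⟨?_, fun i ↦ ?_⟩
    · rw [map_mul, hc0g]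
      exact Ideal.mul_mem_left _ _ (neg_mem (Ideal.mem_span_singleton_self β))
    · rw [hc1mul, show c1 i (MvPowerSeries.X 0 * MvPowerSeries.X 1 - MvPowerSeries.C β) = 0 by
        rw [sub_eq_add_neg, hc1add, ← map_neg, hc1C, hc1mul]; simp [c0], mul_zero, zero_add]
      rw [hc0g]
      exact Ideal.mul_mem_left _ _ (neg_mem (Ideal.mem_span_singleton_self β))
  have hC : ∀ a : A, φ (Ideal.Quotient.mk Iα (MvPowerSeries.C a)) = Ideal.Quotient.mk Iβ (MvPowerSeries.C a) := fun a ↦ by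
    exact φ.commutes a
  obtain ⟨fu, hfu⟩ := Ideal.Quotient.mk_surjective (φ (Ideal.Quotient.mk Iα (MvPowerSeries.X 0)))
  obtain ⟨fv, hfv⟩ := Ideal.Quotient.mk_surjective (φ (Ideal.Quotient.mk Iα (MvPowerSeries.X 1)))
  have huv : fu * fv - MvPowerSeries.C α ∈ Iβ := by
    rw [← Ideal.Quotient.eq, map_mul, hfu, hfv, ← map_mul, ← map_mul, ← hC α]
    congr 1
    rw [Ideal.Quotient.eq]
    exact Ideal.mem_span_singleton_self _
  have hle : Ideal.span {β} ≤ m := (Ideal.span_singleton_le_iff_mem _).mpr hβ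
  have hm0 : ∀ (f : (MvPowerSeries (Fin 2) A)) (i : Fin 2), Ideal.Quotient.mk Iβ f = φ (Ideal.Quotient.mk Iα (MvPowerSeries.X i)) → c0 f ∈ m := by
    intro f i hf
    by_contra hu
    have hu' : IsUnit f := MvPowerSeries.isUnit_iff_constantCoeff.mpr (by simpa [m] using hu)
    have h1 : IsUnit (Ideal.Quotient.mk Iα (MvPowerSeries.X i)) := by
      have h2 := (hu'.map (Ideal.Quotient.mk Iβ)).map φ.symm
      rwa [hf, AlgEquiv.symm_apply_apply] at h2
    obtain ⟨w, hw⟩ := Ideal.Quotient.mk_surjective ((h1.unit⁻¹ : ((MvPowerSeries (Fin 2) A) ⧸ Iα)ˣ) : (MvPowerSeries (Fin 2) A) ⧸ Iα)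
    have h3 : MvPowerSeries.X i * w - 1 ∈ Iα := by
      rw [← Ideal.Quotient.eq, map_mul, hw, IsUnit.mul_val_inv, map_one]
    obtain ⟨z, hz⟩ := Ideal.mem_span_singleton'.mp h3
    have h4 := congrArg c0 hz
    rw [map_mul, hc0g] at h4
    replace h4 : c0 z * α = 1 := by simp [c0] at h4; exact h4
    have h5 : Ideal.span {α} = ⊤ := by
      rw [Ideal.eq_top_iff_one, ← h4]; exact Ideal.mul_mem_left _ _ (Ideal.mem_span_singleton_self α)
    have hαu : IsUnit α := Ideal.span_singleton_eq_top.mp h5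
    have htop : Iα = ⊤ → False := fun h ↦ by
      have : Subsingleton ((MvPowerSeries (Fin 2) A) ⧸ Iα) := Ideal.Quotient.subsingleton_iff.mpr h
      have h10 : Ideal.Quotient.mk Iβ (1 : (MvPowerSeries (Fin 2) A)) = 0 := by
        rw [map_one, ← map_one φ, Subsingleton.elim (1 : (MvPowerSeries (Fin 2) A) ⧸ Iα) 0, map_zero]
      have := hle (hrel 1 (Ideal.Quotient.eq_zero_iff_mem.mp h10)).1
      exact m.ne_top_iff_one.mp (IsLocalRing.maximalIdeal.isMaximal A).ne_top (by simpa [c0] using this)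
    apply htop
    rw [Ideal.eq_top_iff_one]
    refine Ideal.mem_span_singleton.mpr (IsUnit.dvd ?_)
    refine MvPowerSeries.isUnit_iff_constantCoeff.mpr ?_
    simpa using hαu.neg
  have hu0 := hm0 fu 0 hfu
  have hv0 := hm0 fv 1 hfv
  -- the linear parts of `fu`, `fv` span modulo `m`
  have hspan : ∀ j : Fin 2, ∃ p q : A, ∀ i, (if i = j then 1 else 0) - (c1 i fu * p + c1 i fv * q) ∈ m := by
    intro j
    obtain ⟨f, hf⟩ := Ideal.Quotient.mk_surjective (φ.symm (Ideal.Quotient.mk Iβ (MvPowerSeries.X j)))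
    have hdec : f - MvPowerSeries.C (c0 f) ∈ Groth.Agent.H02CA.PS.vars (Fin 2) A :=
      Groth.Agent.H02CA.PS.mem_vars_iff.mpr (by simp [c0])
    obtain ⟨w, hw⟩ := Ideal.mem_span_range_iff_exists_fun.mp hdec
    rw [Fin.sum_univ_two] at hw
    obtain ⟨G, hG⟩ := Ideal.Quotient.mk_surjective (φ (Ideal.Quotient.mk Iα (w 0)))
    obtain ⟨H, hH⟩ := Ideal.Quotient.mk_surjective (φ (Ideal.Quotient.mk Iα (w 1)))
    have heq : MvPowerSeries.X j - (MvPowerSeries.C (c0 f) + (fu * G + fv * H)) ∈ Iβ := by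
      rw [← Ideal.Quotient.eq]
      have : Ideal.Quotient.mk Iβ (MvPowerSeries.X j) = φ (Ideal.Quotient.mk Iα f) := by rw [hf, AlgEquiv.apply_symm_apply]
      rw [this, show f = MvPowerSeries.C (c0 f) + (MvPowerSeries.X 0 * w 0 + MvPowerSeries.X 1 * w 1) by
        linear_combination -hw]
      rw [show c0 (MvPowerSeries.C (c0 f) + (MvPowerSeries.X 0 * w 0 + MvPowerSeries.X 1 * w 1)) = c0 f by simp [c0]]
      simp only [map_add, map_mul, hC]
      simp only [Iα, Iβ, hfu, hfv, hG, hH]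
    refine ⟨c0 G, c0 H, fun i ↦ ?_⟩
    have h := hle ((hrel _ heq).2 i)
    have hsub : c1 i (MvPowerSeries.X j - (MvPowerSeries.C (c0 f) + (fu * G + fv * H))) =
        c1 i (MvPowerSeries.X j) - (c1 i (MvPowerSeries.C (c0 f)) + (c1 i (fu * G) + c1 i (fv * H))) := by
      simp only [c1, map_sub, map_add]
    rw [hsub, hc1C, hc1mul, hc1mul, hc1X] at h
    have := add_mem h (add_mem (m.mul_mem_right (c1 i G) hu0) (m.mul_mem_right (c1 i H) hv0))
    convert this using 1
    ring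
  obtain ⟨p0, q0, h0⟩ := hspan 0
  obtain ⟨p1, q1, h1⟩ := hspan 1
  have hdet : IsUnit (c1 0 fu * c1 1 fv - c1 1 fu * c1 0 fv) := by
    let r := IsLocalRing.residue A
    have hr : ∀ z ∈ m, r z = 0 := fun z hz ↦ (IsLocalRing.residue_eq_zero_iff z).mpr hz
    have a := hr _ (h0 0)
    have b := hr _ (h0 1)
    have c := hr _ (h1 0)
    have d := hr _ (h1 1)
    simp only [if_true, if_neg (show (1 : Fin 2) ≠ 0 by decide), if_neg (show (0 : Fin 2) ≠ 1 by decide), map_sub, map_add, map_mul, map_one, map_zero] at a b c d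
    refine (isUnit_map_iff r _).mp (IsUnit.of_mul_eq_one (r p0 * r q1 - r q0 * r p1) ?_)
    simp only [map_sub, map_mul]
    linear_combination (-(r (c1 1 fu) * r p1 + r (c1 1 fv) * r q1)) * a + (r (c1 0 fu) * r p1 + r (c1 0 fv) * r q1) * b - d
  have hx : ∀ i, c1 i fu * c0 fv + c1 i fv * c0 fu ∈ Ideal.span {β} := fun i ↦ by
    have h := (hrel _ huv).2 i
    rw [sub_eq_add_neg, hc1add, ← map_neg, hc1C, hc1mul, add_zero] at h
    convert h using 1; ring
  have hu : c0 fu ∈ Ideal.span {β} := by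
    have : c0 fu * (c1 0 fu * c1 1 fv - c1 1 fu * c1 0 fv) ∈ Ideal.span {β} := by
      convert sub_mem (Ideal.mul_mem_left _ (c1 0 fu) (hx 1)) (Ideal.mul_mem_left _ (c1 1 fu) (hx 0)) using 1; ring
    exact (Ideal.mul_unit_mem_iff_mem _ hdet).mp this
  have h := (hrel _ huv).1
  rw [map_sub, map_mul, show c0 (MvPowerSeries.C α) = α from MvPowerSeries.constantCoeff_C α] at h
  have := sub_mem (Ideal.mul_mem_right (c0 fv) _ hu) h
  rwa [sub_sub_cancel] at this

end Groth.Agent.S17720
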