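import Groth.Statements.S17721
import Mathlib.LinearAlgebra.Charpoly.Basic
import Mathlib.LinearAlgebra.FreeModule.PID
import Mathlib.RingTheory.Adjoin.PowerBasis
import Mathlib.RingTheory.Finiteness.ModuleFinitePresentation
import Mathlib.RingTheory.Flat.TorsionFree
import Mathlib.RingTheory.Invariant.Basic
import Mathlib.RingTheory.Polynomial.GaussLemma
import Mathlib.RingTheory.PowerSeries.NoZeroDivisors
import Mathlib.RingTheory.SimpleRing.Principal
import Mathlib.RingTheory.TotallySplit

set_option autoImplicit false
universe u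
open CAlg

namespace Groth.Agent.S17721

open Polynomial IsLocalRing in
/-- Let R be a complete discrete valuation ring with fraction field K, and f a polynomial over R with
non-zero constant term a₀ such that a₀ does not divide some coefficient of f of positive degree
(equivalently, the Newton polygon of f has a side of negative slope). Let b be the power series over
K with b · f = a₀, the expansion of the geometric series in 1 − f/a₀. Then the valuations of the
coefficients b_j are not bounded below: for every non-zero c in R there is an index j with c · b_j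
outside R. -/
theorem result
    (R : Type u) [CommRing R] [IsDomain R] [IsDiscreteValuationRing R]
    [IsAdicComplete (maximalIdeal R) R]
    (K : Type u) [Field K] [Algebra R K] [IsFractionRing R K]
    (f : R[X]) (h0 : f.coeff 0 ≠ 0) (hslope : ∃ i : ℕ, 0 < i ∧ ¬ (f.coeff 0 ∣ f.coeff i))
    (b : PowerSeries K)
    (hb : b * ((f.map (algebraMap R K) : K[X]) : PowerSeries K) = PowerSeries.C (algebraMap R K (f.coeff 0))) :
    ∀ c : R, c ≠ 0 → ∃ j : ℕ, algebraMap R K c * PowerSeries.coeff j b ∉ (algebraMap R K).range := by
  intro c hc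
  by_contra hcon
  push Not at hcon
  choose g hg using hcon
  let G : PowerSeries R := PowerSeries.mk g
  have hG : G.map (algebraMap R K) = PowerSeries.C (algebraMap R K c) * b := by
    ext j
    rw [PowerSeries.coeff_map, PowerSeries.coeff_mk, PowerSeries.coeff_C_mul]
    exact hg j
  have hmul : G * (f : PowerSeries R) = PowerSeries.C (c * f.coeff 0) := by
    apply PowerSeries.map_injective (algebraMap R K) (IsFractionRing.injective R K)
    rw [map_mul, hG, ← Polynomial.polynomial_map_coe, mul_assoc, hb, PowerSeries.map_C, ← map_mul, ← map_mul]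
  have hprim : ∀ h : PowerSeries R, h ≠ 0 → ∃ (d : R) (h' : PowerSeries R),
      d ≠ 0 ∧ h = PowerSeries.C d * h' ∧ ∃ i, ¬ h'.coeff i ∈ maximalIdeal R := by
    intro h hh
    obtain ⟨j, hj, hmin⟩ := IsWellFounded.wf.has_min (r := (· < · : ℕ∞ → ℕ∞ → Prop))
      (Set.range fun i => IsDiscreteValuationRing.addVal R (h.coeff i)) (Set.range_nonempty _)
    obtain ⟨i₀, rfl⟩ := hj
    have hd : ∀ i, h.coeff i₀ ∣ h.coeff i := fun i =>
      IsDiscreteValuationRing.addVal_le_iff_dvd.mp (not_lt.mp (hmin _ ⟨i, rfl⟩))
    have hne : h.coeff i₀ ≠ 0 := by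
      intro h0
      exact hh (PowerSeries.ext fun i => by rw [map_zero]; exact zero_dvd_iff.mp (h0 ▸ hd i))
    choose q hq using hd
    refine ⟨h.coeff i₀, PowerSeries.mk q, hne, PowerSeries.ext fun i => by
      rw [PowerSeries.coeff_C_mul, PowerSeries.coeff_mk]; exact hq i, i₀, ?_⟩
    rw [PowerSeries.coeff_mk]
    have h1 : q i₀ = 1 := by
      have := hq i₀
      exact (mul_left_cancel₀ hne ((mul_one _).trans this)).symm
    rw [h1]
    exact (Ideal.ne_top_iff_one _).mp (maximalIdeal.isMaximal R).ne_top
  have hG0 : G ≠ 0 := by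
    intro h0
    rw [h0, zero_mul] at hmul
    have := congrArg (fun z => PowerSeries.coeff 0 z) hmul
    simp only [map_zero, PowerSeries.coeff_zero_C] at this
    exact mul_ne_zero hc ‹f.coeff 0 ≠ 0› this.symm
  have hf0 : (f : PowerSeries R) ≠ 0 := by
    intro h
    exact h0 (by rw [← Polynomial.coeff_coe, h, map_zero])
  obtain ⟨d, G', hd, hGe, i₁, hi₁⟩ := hprim G hG0
  obtain ⟨e, F', he, hFe, i₂, hi₂⟩ := hprim _ hf0
  have hF0 : F'.coeff 0 ∈ maximalIdeal R := by
    obtain ⟨i, -, hi⟩ := hslope
    by_contra hu
    apply hi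
    have h1 : ∀ i, f.coeff i = e * F'.coeff i := fun i => by
      rw [← Polynomial.coeff_coe, hFe, PowerSeries.coeff_C_mul]
    rw [h1, h1]
    exact mul_dvd_mul_left e ((IsLocalRing.notMem_maximalIdeal.mp hu).dvd)
  have hprod : ∀ i, 0 < i → (G' * F').coeff i = 0 := by
    intro i hi
    have := congrArg (fun z => PowerSeries.coeff i z) hmul
    simp only [PowerSeries.coeff_C, if_neg hi.ne'] at this
    rw [hGe, hFe, mul_mul_mul_comm, ← map_mul, PowerSeries.coeff_C_mul] at this
    exact (mul_eq_zero.mp this).resolve_left (mul_ne_zero hd he)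
  let π := IsLocalRing.residue R
  have hz : (G' * F').map π = 0 := by
    ext i
    rw [PowerSeries.coeff_map, map_zero]
    rcases Nat.eq_zero_or_pos i with rfl | hi
    · rw [PowerSeries.coeff_zero_eq_constantCoeff_apply, map_mul, map_mul, ← PowerSeries.coeff_zero_eq_constantCoeff_apply F']
      rw [(IsLocalRing.residue_eq_zero_iff _).mpr hF0, mul_zero]
    · rw [hprod i hi, map_zero]
  rw [map_mul, mul_eq_zero] at hz
  rcases hz with h | h
  · have h' := congrArg (fun z => PowerSeries.coeff i₁ z) h
    simp only [PowerSeries.coeff_map, map_zero] at h'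
    exact hi₁ ((IsLocalRing.residue_eq_zero_iff _).mp h')
  · have h' := congrArg (fun z => PowerSeries.coeff i₂ z) h
    simp only [PowerSeries.coeff_map, map_zero] at h'
    exact hi₂ ((IsLocalRing.residue_eq_zero_iff _).mp h')

end Groth.Agent.S17721
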