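import Groth.Statements.S17722
import Mathlib.Algebra.MvPolynomial.Funext
import Mathlib.FieldTheory.IsAlgClosed.Basic
import Mathlib.LinearAlgebra.Matrix.Permutation
import Mathlib.RingTheory.Flat.EquationalCriterion
import Mathlib.RingTheory.Flat.FaithfullyFlat.Algebra
import Mathlib.RingTheory.IntegralClosure.IntegrallyClosed
import Mathlib.RingTheory.SimpleRing.Principal

set_option autoImplicit false
universe u
open CAlg

namespace Groth.Agent.S17722

/-- Let R → R' be a faithfully flat ring map between Noetherian integrally closed local domains, and p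
an ideal of R. If the ideal pR' generated by the image of p is principal, then p is principal. (The
second assertion of the published lemma, descent of unique factorization, is not part of this row.) -/
theorem result
    (R R' : Type u) [CommRing R] [CommRing R'] [IsDomain R] [IsDomain R']
    [IsNoetherianRing R] [IsNoetherianRing R'] [IsLocalRing R] [IsLocalRing R']
    [IsIntegrallyClosed R] [IsIntegrallyClosed R']
    [Algebra R R'] [Module.FaithfullyFlat R R']
    (p : Ideal R) (hp : (p.map (algebraMap R R')).IsPrincipal) :
    p.IsPrincipal := by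
  classical
  have hinj : Function.Injective (algebraMap R R') := FaithfulSMul.algebraMap_injective R R'
  obtain ⟨x, hx⟩ := hp
  by_cases hx0 : x = 0
  · subst hx0
    have : p = ⊥ := by
      rw [← Ideal.comap_map_eq_self_of_faithfullyFlat (B := R') p, hx]
      simp [Submodule.span_singleton_eq_bot.mpr, RingHom.ker_eq_comap_bot, ← RingHom.injective_iff_ker_eq_bot, hinj]
    rw [this]; exact bot_isPrincipal
  obtain ⟨s, hs⟩ := (IsNoetherian.noetherian p : p.FG)
  have hmap : p.map (algebraMap R R') = Ideal.span ((algebraMap R R') '' (s : Set R)) := by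
    rw [← hs]; exact Ideal.map_span _ _
  have hxe : p.map (algebraMap R R') = Ideal.span {x} := hx
  have hxmem : x ∈ Ideal.span (Set.range fun i : s => algebraMap R R' i) := by
    have e : (Set.range fun i : s => algebraMap R R' i) = (algebraMap R R') '' (s : Set R) := by
      ext z; simp
    rw [e, ← hmap, hxe]; exact Ideal.mem_span_singleton_self x
  obtain ⟨r, hr⟩ := Ideal.mem_span_range_iff_exists_fun.mp hxmem
  have hmem : ∀ i : s, ∃ t, t * x = algebraMap R R' i := fun i => by
    have : algebraMap R R' i ∈ Ideal.span {x} := by
      rw [← hxe, hmap]; exact Ideal.subset_span ⟨i, i.2, rfl⟩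
    exact Ideal.mem_span_singleton'.mp this
  choose t ht using hmem
  have hsum : ∑ i, r i * t i = 1 := by
    refine mul_right_cancel₀ hx0 ?_
    rw [one_mul, Finset.sum_mul]
    conv_rhs => rw [← hr]
    exact Finset.sum_congr rfl fun i _ => by rw [mul_assoc, ht]
  obtain ⟨i, -, hi⟩ := IsLocalRing.exists_of_isUnit_sum (hsum ▸ isUnit_one : IsUnit (∑ i, r i * t i))
  have hti : IsUnit (t i) := isUnit_of_mul_isUnit_right hi
  refine ⟨(i : R), ?_⟩
  show p = Ideal.span {(i : R)}
  rw [← Ideal.comap_map_eq_self_of_faithfullyFlat (B := R') p, ← Ideal.comap_map_eq_self_of_faithfullyFlat (B := R') (Ideal.span {(i : R)})]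
  congr 1
  rw [hxe, Ideal.map_span, Set.image_singleton, ← ht i, Ideal.span_singleton_mul_left_unit hti]

end Groth.Agent.S17722
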