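import Groth.Statements.S17725
import Groth.Agent.H28Top.Spectral

set_option autoImplicit false
universe u
open SpecSp

namespace Groth.Agent.S17725

open AlgebraicGeometry in
/-- In a connected Noetherian scheme any two points p, q are linked by a finite chain of points p = x₁,
…, xₙ = q such that for each i one of x_i, x_{i+1} is a specialization of the other; equivalently, p
and q are related by the equivalence relation generated by the specialization relation. -/
theorem result
    (X : Scheme.{u}) [IsNoetherian X] [ConnectedSpace X] (p q : X) :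
    Relation.EqvGen (fun x y : X => x ⤳ y) p q := by
  haveI : TopologicalSpace.NoetherianSpace X := inferInstance
  let R := Relation.EqvGen (fun x y : X => x ⤳ y)
  have hfin := TopologicalSpace.NoetherianSpace.finite_irreducibleComponents (α := X)
  have key : ∀ r : X, {x | R r x} = ⋃ Z ∈ {Z ∈ irreducibleComponents X | ∃ z ∈ Z, R r z}, Z := by
    intro r
    ext x
    simp only [Set.mem_setOf_eq, Set.mem_iUnion]
    constructor
    · exact fun h => ⟨irreducibleComponent x, ⟨irreducibleComponent_mem_irreducibleComponents x,
        x, mem_irreducibleComponent, h⟩, mem_irreducibleComponent⟩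
    · rintro ⟨Z, ⟨hZ, z, hz, hrz⟩, hxZ⟩
      have hg := hZ.1.isGenericPoint_genericPoint (isClosed_of_mem_irreducibleComponents Z hZ)
      exact .trans _ _ _ hrz (.trans _ _ _ (.symm _ _ (.rel _ _ (hg.specializes hz)))
        (.rel _ _ (hg.specializes hxZ)))
  have hcl : ∀ r : X, IsClosed {x | R r x} := fun r => by
    rw [key r]
    exact (hfin.subset fun Z hZ => hZ.1).isClosed_biUnion fun Z hZ => isClosed_of_mem_irreducibleComponents Z hZ.1
  have hopen : IsOpen {x | R p x} := by
    rw [key p, ← isClosed_compl_iff]
    have : (⋃ Z ∈ {Z ∈ irreducibleComponents X | ∃ z ∈ Z, R p z}, Z)ᶜ =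
        ⋃ Z ∈ {Z ∈ irreducibleComponents X | ∀ z ∈ Z, ¬ R p z}, Z := by
      rw [← key p]
      ext x
      simp only [Set.mem_compl_iff, Set.mem_setOf_eq, Set.mem_iUnion]
      constructor
      · intro h
        refine ⟨irreducibleComponent x, ⟨irreducibleComponent_mem_irreducibleComponents x, fun z hz hpz => h ?_⟩,
          mem_irreducibleComponent⟩
        have : x ∈ {x | R p x} := by
          rw [key p]
          exact Set.mem_biUnion ⟨irreducibleComponent_mem_irreducibleComponents x, z, hz, hpz⟩ mem_irreducibleComponent
        exact this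
      · rintro ⟨Z, ⟨-, hZ⟩, hxZ⟩
        exact hZ x hxZ
    rw [this]
    exact (hfin.subset fun Z hZ => hZ.1).isClosed_biUnion fun Z hZ => isClosed_of_mem_irreducibleComponents Z hZ.1
  have := IsClopen.eq_univ ⟨hcl p, hopen⟩ ⟨p, .refl _⟩
  exact (Set.eq_univ_iff_forall.mp this) q

end Groth.Agent.S17725
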