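import Groth.Statements.S17726
import Groth.Agent.H3CAlg.GenericDet
import Groth.Agent.S15706
import Mathlib.Data.Int.ConditionallyCompleteOrder
import Mathlib.Data.Int.Star
import Mathlib.RingTheory.LocalProperties.FinitePresentation
import Mathlib.RingTheory.LocalProperties.Projective
import Mathlib.RingTheory.MvPolynomial.IrreducibleQuadratic
import Mathlib.RingTheory.PicardGroup

set_option autoImplicit false
universe u
open CAlg

namespace Groth.Agent.S17726

/-- Let f and g be non-zero-divisors of a commutative ring A, not both units; think of them as local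
equations, at a point of the union of the supports, of two effective Cartier divisors E and D. If
the ideals generated by g^{m₁} and f^{n₁} coincide, and likewise for g^{m₂} and f^{n₂}, then m₁ n₂ =
m₂ n₁. So all pairs (m, n) with m D = n E locally at the point are proportional, and the saturation
of the monoid they form is generated by a single element. -/
theorem result
    (A : Type u) [CommRing A] (f g : A)
    (hf : f ∈ nonZeroDivisors A) (hg : g ∈ nonZeroDivisors A) (hfg : ¬ (IsUnit f ∧ IsUnit g))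
    (m₁ n₁ m₂ n₂ : ℕ)
    (h₁ : Ideal.span {g ^ m₁} = Ideal.span {f ^ n₁})
    (h₂ : Ideal.span {g ^ m₂} = Ideal.span {f ^ n₂}) :
    m₁ * n₂ = m₂ * n₁ := by
  have key : ∀ (x : A), x ∈ nonZeroDivisors A → ∀ a b : ℕ, a ≠ b → Ideal.span {x ^ a} = Ideal.span {x ^ b} → IsUnit x := by
    intro x hx a b hne h
    wlog hab : a < b generalizing a b
    · exact this b a hne.symm h.symm (by omega)
    obtain ⟨c, hc⟩ := Ideal.mem_span_singleton'.mp (h ▸ Ideal.mem_span_singleton_self (x ^ a))
    obtain ⟨j, rfl⟩ : ∃ j, b = a + (j + 1) := ⟨b - a - 1, by omega⟩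
    have h1 : x ^ a * (c * x ^ (j+1) - 1) = 0 := by
      rw [mul_sub, mul_one, mul_left_comm, ← pow_add, hc, sub_self]
    have := (mem_nonZeroDivisors_iff_left.mp (pow_mem hx a)) _ h1
    exact IsUnit.of_mul_eq_one (c * x ^ j) (by rw [sub_eq_zero] at this; rw [← this, pow_succ]; ring)
  by_contra hne
  have e : ∀ (a b c d e : ℕ) (x y : A), Ideal.span {x ^ a} = Ideal.span {y ^ b} → a * e = c → b * e = d → Ideal.span {x ^ c} = Ideal.span {y ^ d} := by
    intro a b c d e x y h hc hd
    rw [← hc, ← hd, pow_mul, pow_mul, ← Ideal.span_singleton_pow (x ^ a), ← Ideal.span_singleton_pow (y ^ b), h]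
  apply hfg
  constructor
  · refine key f hf (n₁ * m₂) (n₂ * m₁) (fun h => hne (by linarith)) ?_
    rw [← e m₁ n₁ (m₁ * m₂) (n₁ * m₂) m₂ g f h₁ rfl rfl, ← e m₂ n₂ (m₁ * m₂) (n₂ * m₁) m₁ g f h₂ (mul_comm _ _) rfl]
  · refine key g hg (m₁ * n₂) (m₂ * n₁) hne ?_
    rw [e m₁ n₁ (m₁ * n₂) (n₁ * n₂) n₂ g f h₁ rfl rfl, e m₂ n₂ (m₂ * n₁) (n₁ * n₂) n₁ g f h₂ rfl (mul_comm _ _)]

end Groth.Agent.S17726
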