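import Groth.Statements.S17727

set_option autoImplicit false
universe u
open CategoryTheory CategoryTheory.Limits AlgebraicGeometry TopologicalSpace

namespace Groth.Agent.S17727

/-- Morphisms to an affine scheme agreeing on a schematically dense open are equal. -/
lemma eq_of_dense {X Y : Scheme.{u}} [IsAffine Y] (V : X.Opens)
    (hV : Function.Injective (X.presheaf.map (homOfLE (le_top : V ≤ ⊤)).op)) (g g' : X ⟶ Y)
    (h : V.ι ≫ g = V.ι ≫ g') : g = g' := by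
  apply ext_of_isAffine
  refine CommRingCat.hom_ext (RingHom.ext fun r => hV ?_)
  have h1 := congrArg (fun φ : (V : Scheme.{u}) ⟶ Y => φ.appTop r) h
  simp only [Scheme.Hom.comp_appTop, CommRingCat.comp_apply, Scheme.Opens.ι_appTop] at h1
  have e : ∀ a : Γ(X, ⊤), X.presheaf.map (homOfLE (le_top : V ≤ ⊤)).op a =
      X.presheaf.map (homOfLE (le_of_eq V.ι_image_top.symm : V ≤ V.ι ''ᵁ ⊤)).op
        (X.presheaf.map (homOfLE (le_top : V.ι ''ᵁ ⊤ ≤ ⊤)).op a) := fun a =>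
    congr($(X.presheaf.map_comp (homOfLE (le_top : V.ι ''ᵁ ⊤ ≤ ⊤)).op
      (homOfLE (le_of_eq V.ι_image_top.symm : V ≤ V.ι ''ᵁ ⊤)).op) a)
  rw [e, e]
  exact congrArg _ h1

/-- Let f : E → S be a morphism of schemes and U ⊆ S a schematically dense open subscheme such that f
restricts to an isomorphism over U and the preimage of U is schematically dense in E. Then for every
section σ of f and every point s of S there is an open neighbourhood W of σ(s) in E on which f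
restricts to an open immersion. (The published statements conclude that the section lands in the
étale locus of f, in one published form for an algebraic space E, in another for f locally of finite
type over a Noetherian base; the affine-local argument gives the sharper conclusion recorded here,
for schemes.) -/
theorem result
    {E S : Scheme.{u}} (f : E ⟶ S) (U : S.Opens) (hU : CInt.IsSchematicallyDense U)
    (hiso : IsIso (morphismRestrict f U)) (hdense : CInt.IsSchematicallyDense (f ⁻¹ᵁ U))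
    (σ : S ⟶ E) (hσ : σ ≫ f = 𝟙 S) (s : S) :
    ∃ W : E.Opens, σ.base s ∈ W ∧ IsOpenImmersion (W.ι ≫ f) := by
  have hfσ : ∀ t : S, f (σ t) = t := fun t => by rw [← Scheme.Hom.comp_apply, hσ]; rfl
  obtain ⟨W₀, hW₀, hsW₀, -⟩ := exists_isAffineOpen_mem_and_subset (X := E) (x := σ s) (U := ⊤) trivial
  obtain ⟨V₀, hV₀, hsV₀, hVW⟩ :=
    exists_isAffineOpen_mem_and_subset (X := S) (x := s) (U := σ ⁻¹ᵁ W₀) hsW₀
  obtain ⟨W₁, hW₁, hsW₁, hW₁sub⟩ :=
    exists_isAffineOpen_mem_and_subset (X := E) (x := σ s) (U := W₀ ⊓ f ⁻¹ᵁ V₀)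
      ⟨hsW₀, show f (σ s) ∈ V₀ by rw [hfσ]; exact hsV₀⟩
  obtain ⟨V, hV, hsV, hVsub⟩ :=
    exists_isAffineOpen_mem_and_subset (X := S) (x := s) (U := σ ⁻¹ᵁ W₁ ⊓ V₀) ⟨hsW₁, hsV₀⟩
  let W : E.Opens := W₁ ⊓ f ⁻¹ᵁ V
  have hsW : σ s ∈ W := ⟨hsW₁, show f (σ s) ∈ V by rw [hfσ]; exact hsV⟩
  have hσW : ∀ t ∈ V, σ t ∈ W := fun t ht =>
    ⟨(hVsub ht).1, show f (σ t) ∈ V by rw [hfσ]; exact ht⟩
  let a : (W : Scheme.{u}) ⟶ V := IsOpenImmersion.lift V.ι (W.ι ≫ f) (by
    rw [Scheme.Opens.range_ι]; rintro _ ⟨y, rfl⟩; exact y.2.2)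
  have ha : a ≫ V.ι = W.ι ≫ f := IsOpenImmersion.lift_fac _ _ _
  let b : (V : Scheme.{u}) ⟶ W := IsOpenImmersion.lift W.ι (V.ι ≫ σ) (by
    rw [Scheme.Opens.range_ι]; rintro _ ⟨y, rfl⟩; exact hσW _ y.2)
  have hb : b ≫ W.ι = V.ι ≫ σ := IsOpenImmersion.lift_fac _ _ _
  have hba : b ≫ a = 𝟙 _ := by
    rw [← cancel_mono V.ι, Category.assoc, ha, ← Category.assoc, hb, Category.assoc, hσ, Category.comp_id,
      Category.id_comp]
  let D : (W : Scheme.{u}).Opens := W.ι ⁻¹ᵁ (f ⁻¹ᵁ U)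
  have hmono : ∀ {T : Scheme.{u}} (p q : T ⟶ E), (∀ t, p t ∈ f ⁻¹ᵁ U) → (∀ t, q t ∈ f ⁻¹ᵁ U) →
      p ≫ f = q ≫ f → p = q := by
    intro T p q hp hq h
    have hp' : Set.range p ⊆ Set.range (f ⁻¹ᵁ U).ι := by
      rw [Scheme.Opens.range_ι]; rintro _ ⟨t, rfl⟩; exact hp t
    have hq' : Set.range q ⊆ Set.range (f ⁻¹ᵁ U).ι := by
      rw [Scheme.Opens.range_ι]; rintro _ ⟨t, rfl⟩; exact hq t
    have e : IsOpenImmersion.lift (f ⁻¹ᵁ U).ι p hp' = IsOpenImmersion.lift (f ⁻¹ᵁ U).ι q hq' := by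
      rw [← cancel_mono (morphismRestrict f U), ← cancel_mono U.ι, Category.assoc, Category.assoc,
        morphismRestrict_ι, ← Category.assoc, ← Category.assoc, IsOpenImmersion.lift_fac,
        IsOpenImmersion.lift_fac, h]
    rw [← IsOpenImmersion.lift_fac (f ⁻¹ᵁ U).ι p hp', e, IsOpenImmersion.lift_fac]
  have hD : D.ι ≫ a ≫ b = D.ι ≫ 𝟙 _ := by
    rw [← cancel_mono W.ι]
    simp only [Category.assoc, Category.id_comp, hb]
    rw [← Category.assoc a, ha]
    refine hmono _ _ (fun t => ?_) (fun t => t.2) ?_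
    · show f (σ (f (W.ι (D.ι t)))) ∈ U
      rw [hfσ]; exact t.2
    · simp only [Category.assoc, hσ, Category.comp_id]
  haveI : IsAffine (W : Scheme.{u}) := by
    have hWaff : IsAffineOpen W := by
      have hVV₀ : V ≤ V₀ := fun t ht => (hVsub ht).2
      haveI : IsAffine (V₀ : Scheme.{u}) := hV₀
      have e : W = W₁.ι ''ᵁ ((f.resLE V₀ W₁ (fun y hy => (hW₁sub hy).2)) ⁻¹ᵁ (V₀.ι ⁻¹ᵁ V)) := by
        ext y
        constructor
        · rintro ⟨h1, h2⟩
          refine ⟨⟨y, h1⟩, ?_, rfl⟩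
          show V₀.ι ((f.resLE V₀ W₁ _) ⟨y, h1⟩) ∈ V
          rw [← Scheme.Hom.comp_apply, Scheme.Hom.resLE_comp_ι]
          exact h2
        · rintro ⟨z, hz, rfl⟩
          refine ⟨z.2, ?_⟩
          have hz' : V₀.ι ((f.resLE V₀ W₁ _) z) ∈ V := hz
          rw [← Scheme.Hom.comp_apply, Scheme.Hom.resLE_comp_ι] at hz'
          exact hz'
      rw [e]
      haveI : IsAffine (W₁ : Scheme.{u}) := hW₁
      refine IsAffineOpen.image_of_isOpenImmersion ?_ W₁.ι
      refine IsAffineOpen.preimage ?_ _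
      exact (Scheme.Hom.isAffineOpen_iff_of_isOpenImmersion V₀.ι).mp (by
        rw [Scheme.Hom.image_preimage_eq_opensRange_inf, Scheme.Opens.opensRange_ι, inf_eq_right.2 hVV₀]
        exact hV)
    exact hWaff
  have hDinj : Function.Injective ((W : Scheme.{u}).presheaf.map (homOfLE (le_top : D ≤ ⊤)).op) := by
    intro r r' hrr
    refine hdense (W.ι ''ᵁ ⊤) ?_
    have hle : W.ι ''ᵁ ⊤ ⊓ f ⁻¹ᵁ U ≤ W.ι ''ᵁ D := fun y hy => by
      obtain ⟨⟨z, -, rfl⟩, h2⟩ := hy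
      exact ⟨z, h2, rfl⟩
    have key : ∀ c : Γ(E, W.ι ''ᵁ ⊤), E.presheaf.map (homOfLE (inf_le_left : W.ι ''ᵁ ⊤ ⊓ f ⁻¹ᵁ U ≤ _)).op c =
        E.presheaf.map (homOfLE hle).op (E.presheaf.map (homOfLE (Scheme.Hom.image_mono W.ι (le_top : D ≤ ⊤))).op c) :=
      fun c => congr($(E.presheaf.map_comp (homOfLE (Scheme.Hom.image_mono W.ι (le_top : D ≤ ⊤))).op
        (homOfLE hle).op) c)
    exact (key r).trans ((congrArg _ hrr).trans (key r').symm)
  have hab : a ≫ b = 𝟙 _ := eq_of_dense D hDinj _ _ hD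
  haveI : IsIso a := ⟨b, hab, hba⟩
  refine ⟨W, hsW, ?_⟩
  rw [← ha]
  infer_instance

end Groth.Agent.S17727
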