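import Groth.Statements.S17729
import Groth.Agent.H06EGA17.LocalModel
import Groth.Agent.H7CDiv.Stalks
import Groth.Agent.H02CA.CompletionFlat
import Groth.Agent.H24Adic.CompletionRig
import Groth.Agent.H4Depth.Regular
import Groth.Agent.S2321
import Mathlib
-- import your own Groth.Agent.* helpers here

set_option autoImplicit false
set_option linter.style.haveILetI false
set_option backward.isDefEq.respectTransparency false
set_option maxHeartbeats 1000000
set_option synthInstance.maxHeartbeats 200000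
universe u
open DualGr

open CategoryTheory AlgebraicGeometry IsLocalRing MvPowerSeries

namespace Groth.Agent.S17729

section Algebra

variable {R : Type u} [CommRing R] [IsLocalRing R]

/-- The constant term modulo `q`. -/
noncomputable def rho {C : Type u} [CommRing C] (π : C →+* R) (q : Ideal R) :
    MvPowerSeries (Fin 2) C →+* R ⧸ q :=
  ((Ideal.Quotient.mk q).comp π).comp constantCoeff

/-- The linear term modulo `q`. -/
noncomputable def lin {C : Type u} [CommRing C] (π : C →+* R) (q : Ideal R) (i : Fin 2) :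
    MvPowerSeries (Fin 2) C →+ R ⧸ q :=
  ((Ideal.Quotient.mk q).comp π).toAddMonoidHom.comp (MvPowerSeries.coeff (Finsupp.single i 1)).toAddMonoidHom

theorem lin_mul {C : Type u} [CommRing C] (π : C →+* R) (q : Ideal R) (i : Fin 2)
    (F G : MvPowerSeries (Fin 2) C) :
    lin π q i (F * G) = rho π q F * lin π q i G + lin π q i F * rho π q G := by
  classical
  have h : MvPowerSeries.coeff (Finsupp.single i 1) (F * G) =
      constantCoeff F * MvPowerSeries.coeff (Finsupp.single i 1) G +
        MvPowerSeries.coeff (Finsupp.single i 1) F * constantCoeff G := by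
    rw [MvPowerSeries.coeff_mul, Finsupp.antidiagonal_single]
    simp [Finset.Nat.antidiagonal_succ, ← MvPowerSeries.coeff_zero_eq_constantCoeff]
  show (Ideal.Quotient.mk q) (π (MvPowerSeries.coeff (Finsupp.single i 1) (F * G))) = _
  rw [h]
  simp [rho, lin]

theorem lin_C {C : Type u} [CommRing C] (π : C →+* R) (q : Ideal R) (i : Fin 2) (c : C) :
    lin π q i (MvPowerSeries.C c) = 0 := by
  classical
  simp [lin, MvPowerSeries.coeff_C]

theorem lin_X {C : Type u} [CommRing C] (π : C →+* R) (q : Ideal R) (i j : Fin 2) :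
    lin π q i (MvPowerSeries.X j) = if i = j then 1 else 0 := by
  classical
  by_cases h : i = j <;> simp [lin, MvPowerSeries.coeff_index_single_X, h]

/-- A series in two variables without constant term is a combination of the variables. -/
theorem mem_span_X {C : Type u} [CommRing C] (G : MvPowerSeries (Fin 2) C) (hG : constantCoeff G = 0) :
    G ∈ Ideal.span (Set.range (MvPowerSeries.X : Fin 2 → MvPowerSeries (Fin 2) C)) := by
  classical
  let c₀ : MvPowerSeries (Fin 2) C := fun n => MvPowerSeries.coeff (n + Finsupp.single 0 1) G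
  let c₁ : MvPowerSeries (Fin 2) C := fun n => if n 0 = 0 then MvPowerSeries.coeff (n + Finsupp.single 1 1) G else 0
  refine Ideal.mem_span_range_iff_exists_fun.2 ⟨![c₀, c₁], ?_⟩
  rw [Fin.sum_univ_two]
  simp only [Matrix.cons_val_zero, Matrix.cons_val_one, mul_comm _ (MvPowerSeries.X (_ : Fin 2))]
  ext n
  rw [map_add, MvPowerSeries.X_def, MvPowerSeries.X_def, MvPowerSeries.coeff_monomial_mul,
    MvPowerSeries.coeff_monomial_mul, one_mul, one_mul]
  simp only [Finsupp.single_le_iff]
  by_cases h0 : 1 ≤ n 0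
  · rw [if_pos h0]
    have e0 : MvPowerSeries.coeff (n - Finsupp.single 0 1) c₀ = MvPowerSeries.coeff n G :=
      congrArg (fun t => MvPowerSeries.coeff t G) (tsub_add_cancel_of_le (Finsupp.single_le_iff.2 h0))
    rw [e0]
    split_ifs with h1
    · have e1 : MvPowerSeries.coeff (n - Finsupp.single 1 1) c₁ = 0 := if_neg (by
        simp [Finsupp.single_apply]; omega)
      rw [e1, add_zero]
    · rw [add_zero]
  · rw [if_neg h0, zero_add]
    split_ifs with h1
    · refine (if_pos ?_).trans (congrArg (fun t => MvPowerSeries.coeff t G)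
        (tsub_add_cancel_of_le (Finsupp.single_le_iff.2 h1)))
      simp [Finsupp.single_apply]; omega
    · rw [show n = 0 from Finsupp.ext fun i => by fin_cases i <;> simp <;> omega,
        MvPowerSeries.coeff_zero_eq_constantCoeff_apply, hG]

/-- The ring theoretic core: at a prime containing the thickness, the fibre of a node is not regular. -/
theorem not_regular_fibre [IsNoetherianRing R] [IsAdicComplete (maximalIdeal R) R] (A : Type u) [CommRing A]
    [IsLocalRing A] [IsNoetherianRing A] (φ : R →+* A) (a : R) (hnode : DualGr.IsThickNode φ a)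
    (q : Ideal R) [q.IsPrime] (ha : a ∈ q) :
    ∃ (p : Ideal A) (_ : p.IsPrime), p.comap φ = q ∧
      ¬ IsRegularLocalRing (Localization.AtPrime p ⧸ q.map ((algebraMap A (Localization.AtPrime p)).comp φ)) := by
  classical
  obtain ⟨e, he⟩ := hnode
  let Rc := Curv2.cpl R
  have hbij : Function.Bijective (algebraMap R Rc) := by
    convert AdicCompletion.of_bijective (maximalIdeal R) R using 1
    funext x
    rfl
  let ι : R ≃+* Rc := RingEquiv.ofBijective _ hbij
  let π : Rc →+* R := ι.symm.toRingHom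
  have hπ : ∀ r, π (algebraMap R Rc r) = r := fun r => ι.symm_apply_apply r
  let g : MvPowerSeries (Fin 2) Rc := MvPowerSeries.X 0 * MvPowerSeries.X 1 - MvPowerSeries.C (algebraMap R Rc a)
  let Q := DualGr.nodeRing R a
  let mkQ : MvPowerSeries (Fin 2) Rc →+* Q := Ideal.Quotient.mk _
  have hgρ : rho π q g = 0 := by
    simp [g, rho, hπ, Ideal.Quotient.eq_zero_iff_mem.2 ha]
  have hρX : ∀ i, rho π q (MvPowerSeries.X i) = 0 := fun i => by simp [rho]
  have hgL : ∀ i, lin π q i g = 0 := fun i => by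
    rw [map_sub, lin_mul, lin_C, hρX, hρX]; simp
  let χQ : Q →+* R ⧸ q := Ideal.Quotient.lift _ (rho π q) fun F hF => by
    obtain ⟨G, rfl⟩ := Ideal.mem_span_singleton.1 hF
    rw [map_mul, hgρ, zero_mul]
  let LQ : Fin 2 → Q → R ⧸ q := fun i z => lin π q i (Function.surjInv Ideal.Quotient.mk_surjective z)
  have hLQ : ∀ i F, LQ i (mkQ F) = lin π q i F := fun i F => by
    have h : mkQ (Function.surjInv Ideal.Quotient.mk_surjective (mkQ F)) = mkQ F := Function.surjInv_eq _ _
    obtain ⟨G, hG⟩ := Ideal.mem_span_singleton.1 (Ideal.Quotient.eq.1 h)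
    have h2 : lin π q i (g * G) = 0 := by rw [lin_mul, hgρ, hgL]; simp
    rw [← hG, map_sub, sub_eq_zero] at h2
    exact h2
  let toQ : A →+* Q := e.toRingHom.comp (algebraMap A (Curv2.cpl A))
  have htoQ : ∀ r, toQ (φ r) = mkQ (MvPowerSeries.C (algebraMap R Rc r)) := he
  let χ : A →+* R ⧸ q := χQ.comp toQ
  let δ : Fin 2 → A → R ⧸ q := fun i u => LQ i (toQ u)
  have hmul : ∀ i (u v : Q), LQ i (u * v) = χQ u * LQ i v + LQ i u * χQ v := fun i u v => by
    obtain ⟨F, rfl⟩ := Ideal.Quotient.mk_surjective u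
    obtain ⟨G, rfl⟩ := Ideal.Quotient.mk_surjective v
    show LQ i (mkQ F * mkQ G) = _
    rw [← map_mul, hLQ]
    erw [lin_mul, hLQ, hLQ]
    rfl
  have hadd : ∀ i (u v : Q), LQ i (u + v) = LQ i u + LQ i v := fun i u v => by
    obtain ⟨F, rfl⟩ := Ideal.Quotient.mk_surjective u
    obtain ⟨G, rfl⟩ := Ideal.Quotient.mk_surjective v
    show LQ i (mkQ F + mkQ G) = _
    rw [← map_add, hLQ, map_add]
    erw [hLQ, hLQ]
  have hδmul : ∀ i u v, δ i (u * v) = χ u * δ i v + δ i u * χ v := fun i u v => by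
    simp only [δ, map_mul, hmul]; rfl
  have hδadd : ∀ i u v, δ i (u + v) = δ i u + δ i v := fun i u v => by simp only [δ, map_add, hadd]
  have hχφ : ∀ r, χ (φ r) = Ideal.Quotient.mk q r := fun r => by
    show χQ (toQ (φ r)) = _
    rw [htoQ]
    show rho π q (MvPowerSeries.C (algebraMap R Rc r)) = _
    simp [rho, hπ]
  have hδφ : ∀ i r, δ i (φ r) = 0 := fun i r => by
    show LQ i (toQ (φ r)) = 0
    rw [htoQ, hLQ, lin_C]
  let p := RingHom.ker χ
  haveI : p.IsPrime := RingHom.ker_isPrime χ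
  have hp : ∀ u, u ∈ p ↔ χ u = 0 := fun u => RingHom.mem_ker
  have hcomap : p.comap φ = q := by
    ext r; rw [Ideal.mem_comap, hp, hχφ, Ideal.Quotient.eq_zero_iff_mem]
  refine ⟨p, inferInstance, hcomap, fun hreg => ?_⟩
  -- elements of `p` with prescribed linear terms
  let V : Submodule R (Fin 2 → R ⧸ q) :=
    { carrier := {v | ∃ u ∈ p, ∀ i, δ i u = v i}
      add_mem' := by
        rintro v w ⟨u, hu, hu'⟩ ⟨u₂, hu₂, hu₂'⟩
        exact ⟨u + u₂, p.add_mem hu hu₂, fun i => by rw [hδadd, hu', hu₂']; rfl⟩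
      zero_mem' := ⟨0, p.zero_mem, fun i => by
        have := hδφ i 0
        rwa [map_zero] at this⟩
      smul_mem' := by
        rintro r v ⟨u, hu, hu'⟩
        refine ⟨φ r * u, p.mul_mem_left _ hu, fun i => ?_⟩
        rw [hδmul, hχφ, hδφ, zero_mul, add_zero, hu']
        rfl }
  have hmaxQ : ∀ z ∈ (maximalIdeal (Curv2.cpl A)).map e.toRingHom, χQ z ∈ (maximalIdeal R).map (Ideal.Quotient.mk q) := by
    intro z hz
    rw [Ideal.mem_map_iff_of_surjective e.toRingHom e.surjective] at hz
    obtain ⟨w, hw, rfl⟩ := hz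
    show χQ (e w) ∈ _
    obtain ⟨r, hr⟩ := Ideal.Quotient.mk_surjective (χQ (e w))
    rw [← hr]
    refine Ideal.mem_map_of_mem _ ((IsLocalRing.mem_maximalIdeal _).2 fun hu => ?_)
    have h1 : IsUnit (χQ (e w)) := hr ▸ hu.map _
    haveI : Nontrivial (R ⧸ q) := inferInstance
    haveI : IsLocalHom ((χQ.comp e.toRingHom)) := by
      refine Function.Surjective.isLocalHom _ fun c => ?_
      obtain ⟨c, rfl⟩ := Ideal.Quotient.mk_surjective c
      refine ⟨e.symm (mkQ (MvPowerSeries.C (algebraMap R Rc c))), ?_⟩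
      show χQ (e (e.symm _)) = _
      rw [RingEquiv.apply_symm_apply]
      show rho π q (MvPowerSeries.C _) = _
      simp [rho, hπ]
    exact (IsLocalRing.mem_maximalIdeal _).1 hw (isUnit_of_map_unit (χQ.comp e.toRingHom) w h1)
  have happrox : ∀ x : Q, ∃ u : A, ∀ i, LQ i x - δ i u ∈ (maximalIdeal R).map (Ideal.Quotient.mk q) := by
    intro x
    obtain ⟨u, hu⟩ := H24Adic.exists_sub_of_mem (J := maximalIdeal A) (IsNoetherian.noetherian _) 2 (e.symm x)
    refine ⟨u, fun i => ?_⟩
    rw [Ideal.map_pow, ← AdicCompletion.maximalIdeal_eq_map] at hu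
    have h : ∀ z ∈ maximalIdeal (Curv2.cpl A) ^ 2, LQ i (e z) ∈ (maximalIdeal R).map (Ideal.Quotient.mk q) := by
      intro z hz
      rw [pow_two] at hz
      refine Submodule.mul_induction_on hz (fun v hv w hw => ?_) (fun v w hv hw => ?_)
      · rw [map_mul, hmul]
        exact Ideal.add_mem _ (Ideal.mul_mem_right _ _ (hmaxQ _ (Ideal.mem_map_of_mem _ hv)))
          (Ideal.mul_mem_left _ _ (hmaxQ _ (Ideal.mem_map_of_mem _ hw)))
      · rw [map_add, hadd]; exact Ideal.add_mem _ hv hw
    have h2 := h _ hu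
    rw [map_sub, RingEquiv.apply_symm_apply] at h2
    have h3 := hadd i (x - toQ u) (toQ u)
    rw [sub_add_cancel] at h3
    rw [show LQ i x - δ i u = LQ i (x - toQ u) by rw [h3]; simp [δ]]
    exact h2
  have hV : ∀ v : Fin 2 → R ⧸ q, v ∈ V := by
    suffices h : (⊤ : Submodule R (Fin 2 → R ⧸ q)) ≤ V from fun v => h Submodule.mem_top
    refine Submodule.le_of_le_smul_of_le_jacobson_bot Module.Finite.fg_top (IsLocalRing.maximalIdeal_le_jacobson _)
      fun v _ => ?_
    obtain ⟨c, hc⟩ := Classical.axiom_of_choice fun i => Ideal.Quotient.mk_surjective (v i)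
    obtain ⟨u, hu⟩ := happrox (mkQ (MvPowerSeries.C (algebraMap R Rc (c 0)) * MvPowerSeries.X 0 +
      MvPowerSeries.C (algebraMap R Rc (c 1)) * MvPowerSeries.X 1))
    obtain ⟨c₀, hc₀⟩ := Ideal.Quotient.mk_surjective (χ u)
    rw [Submodule.mem_sup]
    have hu0 : u - φ c₀ ∈ p := by rw [hp, map_sub, hχφ, hc₀, sub_self]
    have hδu : ∀ i, δ i (u - φ c₀) = δ i u := fun i => by
      have h3 := hδadd i (u - φ c₀) (φ c₀)
      rw [sub_add_cancel, hδφ, add_zero] at h3
      exact h3.symm
    refine ⟨fun i => δ i u, ⟨u - φ c₀, hu0, hδu⟩, v - (fun i => δ i u), ?_, by abel⟩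
    have hvi : ∀ i, v i = LQ i (mkQ (MvPowerSeries.C (algebraMap R Rc (c 0)) * MvPowerSeries.X 0 +
      MvPowerSeries.C (algebraMap R Rc (c 1)) * MvPowerSeries.X 1)) := fun i => by
      rw [hLQ, map_add, lin_mul, lin_mul, lin_C, lin_C, lin_X, lin_X, ← hc i]
      fin_cases i <;> simp [rho, hπ]
    have hmem : ∀ i, v i - δ i u ∈ (maximalIdeal R).map (Ideal.Quotient.mk q) := fun i => hvi i ▸ hu i
    choose d hd hd' using fun i => (Ideal.mem_map_iff_of_surjective _ Ideal.Quotient.mk_surjective).1 (hmem i)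
    have : v - (fun i => δ i u) = ∑ i, d i • (Pi.single i (1 : R ⧸ q)) := by
      funext j
      rw [Finset.sum_apply, Fin.sum_univ_two]
      fin_cases j <;> simp [← hd', Algebra.smul_def]
    rw [this]
    exact Submodule.sum_mem _ fun i _ => Submodule.smul_mem_smul (hd i) Submodule.mem_top
  choose u hu hδ using fun j : Fin 2 => hV (Pi.single j 1)
  let L := Localization.AtPrime p
  let O := L ⧸ q.map ((algebraMap A L).comp φ)
  let j : A →+* O := (Ideal.Quotient.mk _).comp (algebraMap A L)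
  haveI := H4Depth.isDomain_of_isRegularLocalRing O
  haveI : IsLocalHom (Ideal.Quotient.mk (q.map ((algebraMap A L).comp φ))) :=
    Function.Surjective.isLocalHom _ Ideal.Quotient.mk_surjective
  have hjmem : ∀ z, j z ∈ maximalIdeal O ↔ z ∈ p := fun z => by
    rw [← IsLocalization.AtPrime.to_map_mem_maximal_iff L p z]
    show Ideal.Quotient.mk _ (algebraMap A L z) ∈ maximalIdeal O ↔ _
    rw [IsLocalRing.mem_maximalIdeal, IsLocalRing.mem_maximalIdeal, mem_nonunits_iff, mem_nonunits_iff,
      isUnit_map_iff]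
  have hq : ∀ z ∈ q.map φ, χ z = 0 ∧ ∀ i, δ i z = 0 := by
    intro z hz
    refine Submodule.span_induction (fun z hz => ?_) ?_ (fun v w _ _ hv hw => ?_) (fun v w _ hw => ?_) hz
    · obtain ⟨r, hr, rfl⟩ := hz
      exact ⟨by rw [hχφ]; exact Ideal.Quotient.eq_zero_iff_mem.2 hr, fun i => hδφ i r⟩
    · exact ⟨map_zero χ, fun i => by simpa using hδφ i 0⟩
    · exact ⟨by rw [map_add, hv.1, hw.1, add_zero], fun i => by rw [hδadd, hv.2, hw.2, add_zero]⟩
    · exact ⟨by rw [smul_eq_mul, map_mul, hw.1, mul_zero], fun i => by rw [smul_eq_mul, hδmul, hw.1, hw.2]; simp⟩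
  have hnp : ¬ (maximalIdeal O).IsPrincipal := by
    rintro ⟨W, hW⟩
    obtain ⟨W, rfl⟩ := Ideal.Quotient.mk_surjective W
    obtain ⟨w, s, rfl⟩ := IsLocalization.exists_mk'_eq p.primeCompl W
    have hspan : maximalIdeal O = Ideal.span {j w} := by
      rw [hW]
      refine Ideal.span_singleton_eq_span_singleton.2 ?_
      have hu' : IsUnit (j s.1) := (IsLocalization.map_units L s).map (Ideal.Quotient.mk _)
      refine ⟨hu'.unit, ?_⟩
      rw [IsUnit.unit_spec]
      show Ideal.Quotient.mk _ _ * Ideal.Quotient.mk _ _ = _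
      rw [← map_mul, IsLocalization.mk'_spec]
      rfl
    have hw : w ∈ p := (hjmem w).1 (hspan ▸ Ideal.mem_span_singleton_self _)
    have key : ∀ k : Fin 2, ∃ (s b : R ⧸ q), s ≠ 0 ∧ ∀ i, s * (Pi.single k 1 : Fin 2 → R ⧸ q) i = b * δ i w := by
      intro k
      have h1 := hspan ▸ (hjmem _).2 (hu k)
      obtain ⟨b, hb⟩ := Ideal.mem_span_singleton.1 h1
      obtain ⟨b, rfl⟩ := Ideal.Quotient.mk_surjective b
      obtain ⟨b, s, rfl⟩ := IsLocalization.exists_mk'_eq p.primeCompl b
      have h2 : algebraMap A L (u k * s.1 - w * b) ∈ q.map ((algebraMap A L).comp φ) := by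
        have h3 := Ideal.Quotient.eq.1 hb
        have := Ideal.mul_mem_right (algebraMap A L s.1) _ h3
        rw [sub_mul, mul_assoc (algebraMap A L w), IsLocalization.mk'_spec, ← map_mul, ← map_mul, ← map_sub] at this
        exact this
      rw [← Ideal.map_map, IsLocalization.algebraMap_mem_map_algebraMap_iff p.primeCompl] at h2
      obtain ⟨m, hm, hmem⟩ := h2
      obtain ⟨-, h4⟩ := hq _ hmem
      refine ⟨χ m * χ s.1, χ m * χ b, mul_ne_zero (fun h => hm ((hp m).2 h)) (fun h => s.2 ((hp s.1).2 h)), fun i => ?_⟩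
      have h5 := h4 i
      have h7 : δ i (u k * s.1) = δ i (u k * s.1 - w * b) + δ i (w * b) := by rw [← hδadd, sub_add_cancel]
      have h8 : δ i (m * (u k * s.1)) = δ i (m * (u k * s.1 - w * b)) + δ i (m * (w * b)) := by
        rw [← hδadd, ← mul_add, sub_add_cancel]
      rw [h5, zero_add, hδmul, hδmul, hδmul, hδmul, map_mul, map_mul, (hp _).1 (hu k), (hp _).1 hw, hδ k i] at h8
      linear_combination h8
    obtain ⟨s₀, b₀, hs₀, h₀⟩ := key 0
    obtain ⟨s₁, b₁, hs₁, h₁⟩ := key 1
    have e00 := h₀ 0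
    have e01 := h₀ 1
    have e11 := h₁ 1
    simp only [Pi.single_eq_same, mul_one] at e00 e11
    simp only [ne_eq, Fin.reduceEq, not_false_eq_true, Pi.single_eq_of_ne, mul_zero] at e01
    rcases mul_eq_zero.1 e01.symm with h | h
    · exact hs₀ (by rw [e00, h, zero_mul])
    · exact hs₁ (by rw [e11, h, mul_zero])
  -- a chain of three primes below `p` over `q`
  obtain ⟨P₁, hP₁, hP₁0, hP₁m⟩ : ∃ P₁ : Ideal O, P₁.IsPrime ∧ P₁ ≠ ⊥ ∧ P₁ ≠ maximalIdeal O := by
    by_contra h
    push Not at h
    haveI : Ring.DimensionLEOne O := ⟨fun {P} hP0 hP => h P hP hP0 ▸ maximalIdeal.isMaximal O⟩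
    have hd : ringKrullDim O ≤ 1 := by
      rw [← Nat.cast_one, ← Ring.krullDimLE_iff]; infer_instance
    have h1 : (maximalIdeal O).spanFinrank ≤ 1 := by
      have h2 := IsRegularLocalRing.spanFinrank_maximalIdeal (R := O)
      rw [← h2] at hd
      exact_mod_cast hd
    obtain ⟨gs, hgs, hspan⟩ := Submodule.FG.exists_span_finset_card_eq_spanFinrank (IsNoetherian.noetherian (maximalIdeal O))
    rw [← hgs, Finset.card_le_one_iff_subset_singleton] at h1
    obtain ⟨W, hW⟩ := h1
    rcases Finset.subset_singleton_iff.1 hW with rfl | rfl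
    · exact hnp (hspan ▸ by rw [Finset.coe_empty, Submodule.span_empty]; infer_instance)
    · exact hnp ⟨⟨W, by rw [← hspan, Finset.coe_singleton]⟩⟩
  let p₁ := P₁.comap j
  let p₂ := (⊥ : Ideal O).comap j
  have hjsurj : ∀ z : O, ∃ (b s : A), s ∉ p ∧ z * j s = j b := fun z => by
    obtain ⟨z, rfl⟩ := Ideal.Quotient.mk_surjective z
    obtain ⟨b, s, rfl⟩ := IsLocalization.exists_mk'_eq p.primeCompl z
    refine ⟨b, s.1, s.2, ?_⟩
    show Ideal.Quotient.mk _ _ * Ideal.Quotient.mk _ _ = _
    rw [← map_mul, IsLocalization.mk'_spec]; rfl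
  have hpull : ∀ I J : Ideal O, J.IsPrime → ¬ I ≤ J → ¬ I.comap j ≤ J.comap j := fun I J hJ hIJ h => by
    refine hIJ fun z hz => ?_
    obtain ⟨b, s, hs, hb⟩ := hjsurj z
    have h1 : j b ∈ J := h (show j b ∈ I from hb ▸ I.mul_mem_right _ hz)
    rw [← hb] at h1
    exact (hJ.mem_or_mem h1).resolve_right fun h2 => hs ((hjmem s).1 (IsLocalRing.le_maximalIdeal hJ.ne_top h2))
  have h21 : p₂ ≤ p₁ := Ideal.comap_mono bot_le
  have h10 : p₁ ≤ p := fun z hz => (hjmem z).1 (IsLocalRing.le_maximalIdeal hP₁.ne_top hz)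
  have hn21 : ¬ p₁ ≤ p₂ := hpull _ _ Ideal.isPrime_bot fun h => hP₁0 (le_bot_iff.1 h)
  have hn10 : ¬ p ≤ p₁ := fun h => hpull (maximalIdeal O) P₁ hP₁
    (fun h' => hP₁m (le_antisymm (IsLocalRing.le_maximalIdeal hP₁.ne_top) h'))
    (fun z hz => h ((hjmem z).1 hz))
  -- lift to the completion
  letI : Algebra A Q := toQ.toAlgebra
  haveI : Module.Flat A Q := by
    haveI : Module.FaithfullyFlat A (Curv2.cpl A) :=
      ((S2321.result A (IsLocalRing.maximalIdeal A)).out 0 1).1 (IsLocalRing.maximalIdeal_le_jacobson _)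
    exact Module.Flat.of_linearEquiv (AlgEquiv.ofRingEquiv (f := e) (fun _ => rfl) :
      Curv2.cpl A ≃ₐ[A] Q).toLinearEquiv.symm
  let P := RingHom.ker χQ
  haveI : P.IsPrime := RingHom.ker_isPrime χQ
  haveI : P.LiesOver p := ⟨rfl⟩
  haveI : p₁.IsPrime := Ideal.IsPrime.comap j
  haveI : p₂.IsPrime := Ideal.IsPrime.comap j
  obtain ⟨Q₁, hQ₁le, hQ₁p, hQ₁o⟩ := Ideal.exists_ideal_le_liesOver_of_le (p := p₁) (q := p) P h10
  obtain ⟨Q₂, hQ₂le, hQ₂p, hQ₂o⟩ := Ideal.exists_ideal_le_liesOver_of_le (p := p₂) (q := p₁) Q₁ h21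
  have hqQ₂ : ∀ r ∈ q, mkQ (MvPowerSeries.C (algebraMap R Rc r)) ∈ Q₂ := fun r hr => by
    rw [← htoQ]
    have : φ r ∈ p₂ := by
      show j (φ r) ∈ (⊥ : Ideal O)
      rw [Ideal.mem_bot]
      exact Ideal.Quotient.eq_zero_iff_mem.2 (Ideal.mem_map_of_mem _ hr)
    rw [hQ₂o.over] at this
    exact this
  obtain ⟨i₀, hi₀⟩ : ∃ i : Fin 2, mkQ (MvPowerSeries.X i) ∈ Q₂ := by
    have : mkQ (MvPowerSeries.X 0) * mkQ (MvPowerSeries.X 1) ∈ Q₂ := by
      rw [← map_mul, show mkQ (MvPowerSeries.X 0 * MvPowerSeries.X 1) = mkQ (MvPowerSeries.C (algebraMap R Rc a))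
        from Ideal.Quotient.eq.2 (Ideal.mem_span_singleton_self _)]
      exact hqQ₂ a ha
    rcases hQ₂p.mem_or_mem this with h | h
    · exact ⟨0, h⟩
    · exact ⟨1, h⟩
  let y : Q := mkQ (MvPowerSeries.X (1 - i₀))
  have hgen : ∀ z ∈ P, ∃ v ∈ Q₂, ∃ w, z = v + y * w := fun z hz => by
    obtain ⟨F, rfl⟩ := Ideal.Quotient.mk_surjective z
    have hF : rho π q F = 0 := hz
    have h0 : π (constantCoeff F) ∈ q := Ideal.Quotient.eq_zero_iff_mem.1 hF
    have h1 : mkQ (MvPowerSeries.C (constantCoeff F)) ∈ Q₂ := by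
      have := hqQ₂ _ h0
      rwa [show algebraMap R Rc (π (constantCoeff F)) = constantCoeff F from ι.apply_symm_apply _] at this
    have h2 : F - MvPowerSeries.C (constantCoeff F) ∈ Ideal.span (Set.range (MvPowerSeries.X : Fin 2 → MvPowerSeries (Fin 2) Rc)) := by
      exact mem_span_X _ (by rw [map_sub, MvPowerSeries.constantCoeff_C, sub_self])
    rw [Ideal.mem_span_range_iff_exists_fun] at h2
    obtain ⟨c, hc⟩ := h2
    rw [Fin.sum_univ_two] at hc
    have hF' : mkQ F = mkQ (MvPowerSeries.C (constantCoeff F)) + (mkQ (c 0) * mkQ (MvPowerSeries.X 0) + mkQ (c 1) * mkQ (MvPowerSeries.X 1)) := by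
      rw [← map_mul, ← map_mul, ← map_add, ← map_add, hc, add_sub_cancel]
    fin_cases i₀ <;> simp only [Fin.zero_eta, Fin.mk_one] at hi₀
    · exact ⟨_, Ideal.add_mem _ h1 (Ideal.mul_mem_left _ (mkQ (c 0)) hi₀), mkQ (c 1), by
        show mkQ F = _ + mkQ (MvPowerSeries.X 1) * _
        rw [hF']
        linear_combination (0 : Q) * (mkQ F)⟩
    · exact ⟨_, Ideal.add_mem _ h1 (Ideal.mul_mem_left _ (mkQ (c 1)) hi₀), mkQ (c 0), by
        show mkQ F = _ + mkQ (MvPowerSeries.X 0) * _
        rw [hF']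
        linear_combination (0 : Q) * (mkQ F)⟩
  have hy : y ∉ Q₁ := fun hy => hn10 (by
    intro z hz
    rw [hQ₁o.over]
    show toQ z ∈ Q₁
    obtain ⟨v, hv, w, hvw⟩ := hgen (toQ z) hz
    rw [hvw]
    exact Ideal.add_mem _ (hQ₂le hv) (Ideal.mul_mem_right _ _ hy))
  haveI : IsLocalRing Q := e.isLocalRing
  haveI : IsNoetherianRing (Curv2.cpl A) := H05EGA4.isNoetherianRing_adicCompletion A _
  haveI : IsNoetherianRing Q := isNoetherianRing_of_ringEquiv _ e
  have hle : Q₁ ≤ Q₂ := Submodule.le_of_le_smul_of_le_jacobson_bot (IsNoetherian.noetherian Q₁)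
    (IsLocalRing.maximalIdeal_le_jacobson _) fun z hz => by
      obtain ⟨v, hv, w, hvw⟩ := hgen z (hQ₁le hz)
      have hw : w ∈ Q₁ := by
        have : y * w ∈ Q₁ := by
          rw [show y * w = z - v by rw [hvw]; ring]
          exact Q₁.sub_mem hz (hQ₂le hv)
        exact (hQ₁p.mem_or_mem this).resolve_left hy
      rw [hvw]
      refine Submodule.add_mem_sup hv ?_
      rw [smul_eq_mul]
      refine Ideal.mul_mem_mul (IsLocalRing.le_maximalIdeal (inferInstance : P.IsPrime).ne_top ?_) hw
      show rho π q (MvPowerSeries.X (1 - i₀)) = 0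
      exact hρX _
  exact hn21 (by
    intro z hz
    rw [hQ₁o.over] at hz
    rw [hQ₂o.over]
    exact hle hz)

end Algebra

/-- The morphism from the spectrum of a stalk to an affine base. -/
theorem fromSpecStalk_comp {R : Type u} [CommRing R] {X : Scheme.{u}} (f : X ⟶ Spec (CommRingCat.of R)) (x : X) :
    X.fromSpecStalk x ≫ f = Spec.map (CommRingCat.ofHom (DualGr.stalkHom f x)) := by
  rw [← cancel_mono (Spec (CommRingCat.of R)).toSpecΓ, Category.assoc, Scheme.toSpecΓ_naturality,
    Scheme.fromSpecStalk_toSpecΓ_assoc, ← SpecMap_ΓSpecIso_hom, ← Spec.map_comp, ← Spec.map_comp]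
  congr 1
  refine CommRingCat.hom_ext (RingHom.ext fun r => ?_)
  simp [DualGr.stalkHom, Coh.toGlobal]

theorem maximalIdeal_stalk {R : Type u} [CommRing R] (x : ↥(Spec (CommRingCat.of R))) :
    maximalIdeal ((Spec (CommRingCat.of R)).presheaf.stalk x) =
      (x : PrimeSpectrum R).asIdeal.map (StructureSheaf.toStalk R x).hom :=
  haveI : IsLocalRing ((AlgebraicGeometry.Spec.structureSheaf R).presheaf.stalk (x : PrimeSpectrum R)) :=
    IsLocalization.AtPrime.isLocalRing _ (x : PrimeSpectrum R).asIdeal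
  (IsLocalization.AtPrime.map_eq_maximalIdeal (R := R) (x : PrimeSpectrum R).asIdeal
    ((AlgebraicGeometry.Spec.structureSheaf R).presheaf.stalk (x : PrimeSpectrum R))).symm

/-- Points of the open subscheme do not contain the thickness. -/
theorem notMem_of_smooth {R : Type u} [CommRing R] [IsNoetherianRing R] [IsLocalRing R]
    [IsAdicComplete (maximalIdeal R) R] {C : Scheme.{u}} (f : C ⟶ Spec (CommRingCat.of R)) [LocallyOfFiniteType f]
    (U : (Spec (CommRingCat.of R)).Opens) (hsm : Smooth (morphismRestrict f U)) (c : C) (a : R)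
    (hnode : DualGr.IsThickNode (DualGr.stalkHom f c) a) (q : PrimeSpectrum R) (hq : q ∈ U) : a ∉ q.asIdeal := by
  intro ha
  haveI : IsLocallyNoetherian C := LocallyOfFiniteType.isLocallyNoetherian f
  obtain ⟨p, hp, hcomap, hnot⟩ := not_regular_fibre (C.presheaf.stalk c) _ a hnode q.asIdeal ha
  let y := C.fromSpecStalk c ⟨p, hp⟩
  have hyc : y ⤳ c := H7CDiv.fromSpecStalk_specializes _
  have hfy : f.base y = q := by
    show (C.fromSpecStalk c ≫ f).base ⟨p, hp⟩ = q
    rw [fromSpecStalk_comp]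
    exact PrimeSpectrum.ext hcomap
  have hyU : y ∈ f ⁻¹ᵁ U := by show f.base y ∈ U; rw [hfy]; exact hq
  obtain ⟨_, hys⟩ := H06EGA17.mem_smoothLocus_of_nhd f y ⟨f ⁻¹ᵁ U, hyU, by
    rw [← morphismRestrict_ι]; infer_instance⟩
  have hreg := H06EGA17.isRegularLocalRing_fibre f y hys
  refine hnot ?_
  letI := (C.presheaf.stalkSpecializes hyc).hom.toAlgebra
  haveI hloc : IsLocalization.AtPrime (C.presheaf.stalk y) p := by
    have := H7CDiv.isLocalization_stalkSpecializes hyc
    rw [IsLocalization.AtPrime] at this ⊢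
    convert this using 2
    exact (congrArg PrimeSpectrum.asIdeal (H7CDiv.primeOf_fromSpecStalk ⟨p, hp⟩ hyc)).symm
  let ey : Localization.AtPrime p ≃ₐ[C.presheaf.stalk c] C.presheaf.stalk y :=
    IsLocalization.algEquiv p.primeCompl _ _
  let I₁ : Ideal (C.presheaf.stalk y) :=
    (maximalIdeal ((Spec (CommRingCat.of R)).presheaf.stalk (f.base y))).map (f.stalkMap y).hom
  let I₂ : Ideal (Localization.AtPrime p) :=
    q.asIdeal.map ((algebraMap (C.presheaf.stalk c) (Localization.AtPrime p)).comp (DualGr.stalkHom f c))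
  suffices h : I₂ = I₁.map ey.symm.toRingEquiv.toRingHom from
    IsRegularLocalRing.of_ringEquiv (R := C.presheaf.stalk y ⧸ I₁) (R' := Localization.AtPrime p ⧸ I₂)
      (Ideal.quotientEquiv I₁ I₂ ey.symm.toRingEquiv h)
  show q.asIdeal.map _ = Ideal.map _ (Ideal.map _ _)
  have hmax : maximalIdeal ((Spec (CommRingCat.of R)).presheaf.stalk (f.base y)) =
      q.asIdeal.map (StructureSheaf.toStalk R (f.base y)).hom := by
    rw [maximalIdeal_stalk]
    exact congrArg (fun z : PrimeSpectrum R => z.asIdeal.map (StructureSheaf.toStalk R (f.base y)).hom) hfy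
  rw [hmax, Ideal.map_map, Ideal.map_map]
  congr 1
  refine RingHom.ext fun r => ?_
  show (algebraMap (C.presheaf.stalk c) (Localization.AtPrime p)) (DualGr.stalkHom f c r) =
    ey.symm ((f.stalkMap y).hom (StructureSheaf.toStalk R (f.base y) r))
  rw [← ey.symm.commutes]
  congr 1
  show C.presheaf.stalkSpecializes hyc (DualGr.stalkHom f c r) = _
  erw [Scheme.Hom.germ_stalkMap_apply]
  exact (C.presheaf.germ_stalkSpecializes_apply (show c ∈ (⊤ : C.Opens) from trivial) hyc _)

end Groth.Agent.S17729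

namespace Groth.Agent.S17729

open CategoryTheory AlgebraicGeometry IsLocalRing in
/-- Let R be a complete Noetherian local ring and C → Spec R a morphism locally of finite type, smooth
over a schematically dense open subscheme U of Spec R. Let c be a point of C over the closed point
whose local ring is formally a node of thickness (a) over R for an element a of R: the completion of
the local ring at c is isomorphic, compatibly with R, to R̂[[x,y]]/(xy − a). Then a is a
non-zero-divisor in R. (The published statement is for a semistable curve over a locally Noetherian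
base and a non-smooth point over a separably closed field, with the node presentation supplied by
the local structure of such curves; it is stated here over the spectrum of a complete Noetherian
local ring with the node presentation as a hypothesis, the case to which the argument reduces, and
semistability plays no further role.) -/
theorem result
    (R : Type u) [CommRing R] [IsNoetherianRing R] [IsLocalRing R]
    [IsAdicComplete (maximalIdeal R) R]
    {C : Scheme.{u}} (f : C ⟶ Spec (CommRingCat.of R)) [LocallyOfFiniteType f]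
    (U : (Spec (CommRingCat.of R)).Opens) (hU : CInt.IsSchematicallyDense U)
    (hsm : Smooth (morphismRestrict f U))
    (c : C) (hc : f.base c = closedPoint R) (a : R)
    (hnode : DualGr.IsThickNode (DualGr.stalkHom f c) a) :
    a ∈ nonZeroDivisors R := by
  classical
  rw [mem_nonZeroDivisors_iff_right]
  intro r hr
  have hgerm : ∀ x, ∀ hx : x ∈ (⊤ ⊓ U : (Spec (CommRingCat.of R)).Opens),
      (Spec (CommRingCat.of R)).presheaf.germ (⊤ ⊓ U) x hx
        ((Spec (CommRingCat.of R)).presheaf.map (homOfLE (inf_le_left : ⊤ ⊓ U ≤ ⊤)).op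
          ((Scheme.ΓSpecIso (CommRingCat.of R)).inv r)) = 0 := fun x hx => by
    rw [TopCat.Presheaf.germ_res_apply]
    letI : Algebra R ((Spec (CommRingCat.of R)).presheaf.stalk x) := StructureSheaf.stalkAlgebra R x
    haveI : IsLocalization.AtPrime ((Spec (CommRingCat.of R)).presheaf.stalk x) x.asIdeal :=
      StructureSheaf.IsLocalization.to_stalk R _
    show algebraMap R ((Spec (CommRingCat.of R)).presheaf.stalk x) r = 0
    have ha := Groth.Agent.S17729.notMem_of_smooth f U hsm c a hnode x hx.2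
    have hu : IsUnit (algebraMap R ((Spec (CommRingCat.of R)).presheaf.stalk x) a) :=
      IsLocalization.map_units _ (⟨a, ha⟩ : x.asIdeal.primeCompl)
    exact (IsUnit.mul_left_eq_zero hu).1 (by rw [← map_mul, hr, map_zero])
  have h0 : (Spec (CommRingCat.of R)).presheaf.map (homOfLE (inf_le_left : ⊤ ⊓ U ≤ ⊤)).op
      ((Scheme.ΓSpecIso (CommRingCat.of R)).inv r) = 0 := by
    apply TopCat.Presheaf.section_ext (Spec (CommRingCat.of R)).sheaf
    intro x hx
    rw [map_zero]
    exact hgerm x hx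
  have h1 : (Scheme.ΓSpecIso (CommRingCat.of R)).inv r = 0 := hU ⊤ (h0.trans (map_zero _).symm)
  have := congrArg (Scheme.ΓSpecIso (CommRingCat.of R)).hom h1
  simpa using this

end Groth.Agent.S17729
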