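import Groth.Statements.S17730
import Groth.Agent.S13199
import Groth.Agent.S0505
import Groth.Agent.H9Hens.BranchSum
import Groth.Agent.H9Hens.PtReduced
import Groth.Agent.H9Hens.BranchNormal
import Groth.Agent.H06EGA14.UnibranchEquiv
import Mathlib
-- import your own Groth.Agent.* helpers here

set_option autoImplicit false
universe u
open Hensel

namespace Groth.Agent.S17730


open IsLocalRing TensorProduct

theorem smooth_quotient {R R' : Type u} [CommRing R] [CommRing R'] [Algebra R R'] [Algebra.Smooth R R'] (I : Ideal R) :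
    Algebra.Smooth (R ⧸ I) (R' ⧸ I.map (algebraMap R R')) := by
  let e₀ : (R ⧸ I) ⊗[R] R' ≃ₐ[R] R' ⧸ I.map (algebraMap R R') :=
    (Algebra.TensorProduct.comm R (R ⧸ I) R').trans ((Algebra.TensorProduct.quotIdealMapEquivTensorQuot R' I).symm.restrictScalars R)
  let e : (R ⧸ I) ⊗[R] R' ≃ₐ[R ⧸ I] R' ⧸ I.map (algebraMap R R') :=
    AlgEquiv.ofRingEquiv (f := e₀.toRingEquiv) fun x => by
      obtain ⟨r, rfl⟩ := Ideal.Quotient.mk_surjective x
      exact e₀.commutes r
  exact Algebra.Smooth.of_equiv e

theorem isDomain_strictHenselization (A S : Type u) [CommRing A] [IsLocalRing A] [IsDomain A] [CommRing S]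
    [IsLocalRing S] [Algebra A S] [IsLocalHom (algebraMap A S)] [Hensel.IsStrictHenselization A S]
    (hA : CAlg2.IsGeomUnibranch A) : IsDomain S := by
  obtain ⟨k, _, _, _, _, _, π, hπ⟩ := Groth.Agent.H9Hens.exists_isPtColim_of_isStrictHenselization (R := A) S
  have hk : RingHom.ker (algebraMap A k) = maximalIdeal A := by
    rw [IsScalarTower.algebraMap_eq A (ResidueField A) k, RingHom.ker_comp_of_injective _ (algebraMap (ResidueField A) k).injective]
    exact Ideal.mk_ker
  haveI := hπ.faithfullyFlat hk
  exact (Groth.Agent.H9Hens.isDomain_iff_isReduced_minimalPrimes S).mpr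
    ⟨(Groth.Agent.H9Hens.IsPtColim.isReduced_iff hπ).mp inferInstance,
      (Groth.Agent.H9Hens.isGeomUnibranch_iff_card_minimalPrimes A S).mp hA⟩

open IsLocalRing in
/-- Let R be a Noetherian local ring which is strictly henselian (henselian with separably closed
residue field), Δ a prime element of R, R' a smooth R-algebra, q a prime ideal of R' containing the
image of the maximal ideal of R, and T a strict henselization of the localization R'_q. Then the
image of Δ in T is a prime element of T. (This is the published statement, that a prime element of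
the étale local ring of the base at a geometric point remains prime in the étale local ring of a
smooth scheme over it at a geometric point above, written for the base the spectrum of R; the
published hypothesis that the base be smooth-factorial, meaning that all its smooth schemes are
locally factorial, is not used by the argument and is omitted; R is taken Noetherian, which the
published statement does not state and the argument requires.) -/
theorem result
    (R R' T : Type u) [CommRing R] [IsNoetherianRing R] [HenselianLocalRing R]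
    [IsSepClosed (ResidueField R)]
    [CommRing R'] [Algebra R R'] [Algebra.Smooth R R']
    (q : Ideal R') [q.IsPrime] (hq : (maximalIdeal R).map (algebraMap R R') ≤ q)
    [CommRing T] [IsLocalRing T] [Algebra (Localization.AtPrime q) T]
    [IsLocalHom (algebraMap (Localization.AtPrime q) T)]
    [Hensel.IsStrictHenselization (Localization.AtPrime q) T]
    (Δ : R) (hΔ : Prime Δ) :
    Prime (algebraMap (Localization.AtPrime q) T
      (algebraMap R' (Localization.AtPrime q) (algebraMap R R' Δ))) := by
  classical
  let I : Ideal R := Ideal.span {Δ}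
  haveI hIp : I.IsPrime := (Ideal.span_singleton_prime hΔ.ne_zero).mpr hΔ
  haveI : IsLocalRing (R ⧸ I) := .of_surjective' _ Ideal.Quotient.mk_surjective
  haveI : HenselianLocalRing (R ⧸ I) := Groth.Agent.S0505.result R (R ⧸ I)
  haveI : IsSepClosed (ResidueField (R ⧸ I)) := by
    haveI : IsLocalHom (Ideal.Quotient.mk I) := IsLocalHom.of_surjective _ Ideal.Quotient.mk_surjective
    exact Groth.Agent.H9Hens.isSepClosed_of_ringEquiv (RingEquiv.ofBijective (ResidueField.map (Ideal.Quotient.mk I))
      ⟨RingHom.injective _, fun y => by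
        obtain ⟨z, rfl⟩ := residue_surjective y
        obtain ⟨x, rfl⟩ := Ideal.Quotient.mk_surjective z
        exact ⟨residue R x, rfl⟩⟩)
  haveI := smooth_quotient (R' := R') I
  let J : Ideal R' := I.map (algebraMap R R')
  have hΔm : Δ ∈ maximalIdeal R := (mem_maximalIdeal Δ).mpr hΔ.not_unit
  have hJq : J ≤ q := (Ideal.map_mono ((Ideal.span_singleton_le_iff_mem _).mpr hΔm)).trans hq
  let q' : Ideal (R' ⧸ J) := q.map (Ideal.Quotient.mk J)
  have hq'c : q'.comap (Ideal.Quotient.mk J) = q := by
    rw [Ideal.comap_map_of_surjective _ Ideal.Quotient.mk_surjective, ← RingHom.ker_eq_comap_bot, Ideal.mk_ker, sup_eq_left.mpr hJq]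
  haveI : q'.IsPrime := Ideal.map_isPrime_of_surjective Ideal.Quotient.mk_surjective (by rwa [Ideal.mk_ker])
  have hp' : (maximalIdeal (R ⧸ I)).map (algebraMap (R ⧸ I) (R' ⧸ J)) ≤ q' := by
    refine Ideal.map_le_iff_le_comap.mpr fun x hx => ?_
    obtain ⟨r, rfl⟩ := Ideal.Quotient.mk_surjective x
    refine Ideal.mem_map_of_mem _ (hq (Ideal.mem_map_of_mem _ ?_))
    rw [mem_maximalIdeal, mem_nonunits_iff] at hx ⊢
    exact fun hu => hx (hu.map _)
  obtain ⟨hdom, hgeo⟩ := Groth.Agent.S13199.result (R ⧸ I) (R' ⧸ J) q' hp'
  let L := Localization.AtPrime q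
  let IL : Ideal L := J.map (algebraMap R' L)
  have hsub : Algebra.algebraMapSubmonoid (R' ⧸ J) q.primeCompl = q'.primeCompl := by
    ext x
    constructor
    · rintro ⟨y, hy, rfl⟩
      exact fun h => hy (hq'c.le h)
    · intro hx
      obtain ⟨y, rfl⟩ := Ideal.Quotient.mk_surjective x
      exact ⟨y, fun h => hx (hq'c.ge h), rfl⟩
  haveI : IsLocalization.AtPrime (L ⧸ IL) q' := by
    show IsLocalization q'.primeCompl (L ⧸ IL)
    rw [← hsub]
    infer_instance
  let ε : Localization.AtPrime q' ≃+* L ⧸ IL :=
    (IsLocalization.algEquiv q'.primeCompl (Localization.AtPrime q') (L ⧸ IL)).toRingEquiv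
  haveI : IsDomain (L ⧸ IL) := ε.symm.toMulEquiv.isDomain _
  haveI : IsLocalRing (L ⧸ IL) := .of_surjective' _ Ideal.Quotient.mk_surjective
  have hgeo' : CAlg2.IsGeomUnibranch (L ⧸ IL) := Groth.Agent.H06EGA14.isGeomUnibranch_of_ringEquiv ε hgeo
  have hne : IL.map (algebraMap L T) ≠ ⊤ := fun h => by
    have h1 : IL ≤ maximalIdeal L := le_maximalIdeal (Ideal.Quotient.nontrivial_iff.mp inferInstance)
    exact (maximalIdeal.isMaximal T).ne_top (top_le_iff.mp (h.ge.trans ((Ideal.map_mono h1).trans
      (((local_hom_TFAE (algebraMap L T)).out 0 2).mp ‹_›))))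
  haveI : IsLocalRing (T ⧸ IL.map (algebraMap L T)) :=
    haveI := Ideal.Quotient.nontrivial_iff.mpr hne
    .of_surjective' _ Ideal.Quotient.mk_surjective
  haveI := Groth.Agent.H9Hens.isLocalHom_quotient (S := T) IL
  haveI := Groth.Agent.H9Hens.isStrictHenselization_quotient (S := T) IL
  haveI : IsDomain (T ⧸ IL.map (algebraMap L T)) := isDomain_strictHenselization (L ⧸ IL) _ hgeo'
  have hspan : IL.map (algebraMap L T) = Ideal.span {algebraMap L T (algebraMap R' L (algebraMap R R' Δ))} := by
    simp only [IL, J, I, Ideal.map_span, Set.image_singleton]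
  refine (Ideal.span_singleton_prime ?_).mp (hspan ▸ (Ideal.Quotient.isDomain_iff_prime _).mp inferInstance)
  intro h0
  obtain ⟨k, _, _, _, _, _, π, hπ⟩ := Groth.Agent.H9Hens.exists_isPtColim_of_isStrictHenselization (R := L) T
  have hk : RingHom.ker (algebraMap L k) = maximalIdeal L := by
    rw [IsScalarTower.algebraMap_eq L (ResidueField L) k, RingHom.ker_comp_of_injective _ (algebraMap (ResidueField L) k).injective]
    exact Ideal.mk_ker
  haveI := hπ.faithfullyFlat hk
  have h1 : algebraMap R L Δ = 0 := by
    rw [IsScalarTower.algebraMap_apply R R' L]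
    exact FaithfulSMul.algebraMap_injective L T (h0.trans (map_zero _).symm)
  haveI : Module.Flat R' L := IsLocalization.flat L q.primeCompl
  haveI : Module.Flat R L := Module.Flat.trans R R' L
  haveI : IsLocalHom (algebraMap R L) := ⟨fun r hr => by
    by_contra hnu
    have h2 : algebraMap R R' r ∈ q := hq (Ideal.mem_map_of_mem _ hnu)
    rw [IsScalarTower.algebraMap_apply R R' L, IsLocalization.AtPrime.isUnit_to_map_iff _ q] at hr
    exact hr h2⟩
  haveI : Module.FaithfullyFlat R L := Module.FaithfullyFlat.of_flat_of_isLocalHom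
  exact hΔ.ne_zero (FaithfulSMul.algebraMap_injective R L (h1.trans (map_zero _).symm))

end Groth.Agent.S17730
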