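import Groth.Statements.S17731
import Groth.Agent.H28Neron.Mapping

set_option autoImplicit false
universe u
open Neron

open CategoryTheory CategoryTheory.Limits AlgebraicGeometry

namespace Groth.Agent.S17731

open CategoryTheory AlgebraicGeometry in
/-- Let S be a scheme, U ⊆ S a schematically dense open subscheme and N → S a smooth S-scheme having
uniqueness in the Néron mapping property with respect to U: for every smooth S-scheme Y, restriction
to U is injective on S-morphisms Y → N. Then for every smooth morphism g : S' → S the base change N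
×_S S' → S' has uniqueness in the Néron mapping property with respect to g⁻¹(U): for every smooth
S'-scheme Y', restriction to g⁻¹(U) is injective on S'-morphisms Y' → N ×_S S'. (The published
statement is for models which are algebraic spaces, tested against smooth algebraic spaces; this row
states the case of a scheme model tested against smooth schemes. The companion assertion that Néron
models are preserved by smooth base change is not restated here.) -/
theorem result
    {S S' : Scheme.{u}} (g : S' ⟶ S) [Smooth g]
    (U : S.Opens) (hU : CInt.IsSchematicallyDense U) (N : Over S) [Smooth N.hom]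
    (hN : ∀ Y : Over S, Smooth Y.hom →
      Function.Injective (fun f : Y ⟶ N => (Over.pullback U.ι).map f))
    (Y' : Over S') [Smooth Y'.hom] :
    Function.Injective (fun f : Y' ⟶ (Over.pullback g).obj N => (Over.pullback (g ⁻¹ᵁ U).ι).map f) := by
  refine Groth.Agent.H28Neron.injective_iff.2 fun a b hab => ?_
  let Z : Over S := Over.mk (Y'.hom ≫ g)
  have hZ : Smooth Z.hom := by dsimp [Z]; infer_instance
  have hw : ∀ m : Y' ⟶ (Over.pullback g).obj N, (m.left ≫ pullback.fst N.hom g) ≫ N.hom = Z.hom := fun m => by
    rw [Category.assoc, pullback.condition, ← Category.assoc]; exact congrArg (· ≫ g) (Over.w m)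
  have hsub : pullback.fst Z.hom U.ι ≫ a.left = pullback.fst Z.hom U.ι ≫ b.left := by
    obtain ⟨c, hc⟩ : ∃ c, c ≫ (g ⁻¹ᵁ U).ι = pullback.fst Z.hom U.ι ≫ Y'.hom :=
      ⟨IsOpenImmersion.lift (g ⁻¹ᵁ U).ι (pullback.fst Z.hom U.ι ≫ Y'.hom) (by
        rw [Scheme.Opens.range_ι]; rintro _ ⟨x, rfl⟩
        change g ((pullback.fst Z.hom U.ι ≫ Y'.hom) x) ∈ U
        rw [← Scheme.Hom.comp_apply, Category.assoc]
        erw [pullback.condition (f := Z.hom)]
        exact (pullback.snd Z.hom U.ι x).2), IsOpenImmersion.lift_fac _ _ _⟩
    rw [show pullback.fst Z.hom U.ι = pullback.lift (pullback.fst Z.hom U.ι) c hc.symm ≫ pullback.fst Y'.hom (g ⁻¹ᵁ U).ι from (pullback.lift_fst _ _ _).symm]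
    simp only [Category.assoc]
    exact congrArg _ hab
  have := Groth.Agent.H28Neron.injective_iff.1 (hN Z hZ) (Over.homMk _ (hw a)) (Over.homMk _ (hw b)) (by
    change pullback.fst Z.hom U.ι ≫ a.left ≫ pullback.fst N.hom g = pullback.fst Z.hom U.ι ≫ b.left ≫ pullback.fst N.hom g
    rw [reassoc_of% hsub])
  ext
  exact pullback.hom_ext (congrArg (fun m => m.left) this) ((Over.w a).trans (Over.w b).symm)

end Groth.Agent.S17731
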