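import Groth.Statements.S17732
import Mathlib.AlgebraicGeometry.IdealSheaf.Basic
import Mathlib.AlgebraicGeometry.Noetherian

set_option autoImplicit false
universe u
open CDiv

namespace Groth.Agent.S17732

open AlgebraicGeometry CategoryTheory in
/-- The image of an ideal sheaf in a stalk does not depend on the chart. -/
theorem map_germ_eq (X : Scheme.{u}) (I : X.IdealSheafData) (U V : X.affineOpens) (z : X)
    (hU : z ∈ U.1) (hV : z ∈ V.1) :
    (I.ideal U).map (X.presheaf.germ U.1 z hU).hom = (I.ideal V).map (X.presheaf.germ V.1 z hV).hom := by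
  obtain ⟨_, ⟨W, hW, rfl⟩, hzW, hWsub⟩ := X.isBasis_affineOpens.exists_subset_of_mem_open
    (show z ∈ (U.1 ⊓ V.1 : X.Opens) from ⟨hU, hV⟩) (U.1 ⊓ V.1).2
  let W' : X.affineOpens := ⟨W, hW⟩
  have key : ∀ (T : X.affineOpens) (hT : z ∈ T.1) (h : W' ≤ T),
      (I.ideal T).map (X.presheaf.germ T.1 z hT).hom = (I.ideal W').map (X.presheaf.germ W z hzW).hom := by
    intro T hT h
    rw [← I.map_ideal h, Ideal.map_map, ← CommRingCat.hom_comp]
    erw [TopCat.Presheaf.germ_res]
  rw [key U hU fun x hx => (hWsub hx).1, key V hV fun x hx => (hWsub hx).2]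

open AlgebraicGeometry CategoryTheory in
theorem key_eq (X : Scheme.{u}) (D : X.IdealSheafData)
    (hD : (∀ x : X, ∃ U : X.affineOpens, x ∈ (U : X.Opens) ∧ ∃ g : Γ(X, U), g ∈ nonZeroDivisors Γ(X, U) ∧ D.ideal U = Ideal.span {g}))
    (z : X) (hz : z ∈ D.support) (U : X.affineOpens) (hU : z ∈ U.1) (a b : ℕ)
    (h : (D.ideal U).map (X.presheaf.germ U.1 z hU).hom ^ a = (D.ideal U).map (X.presheaf.germ U.1 z hU).hom ^ b) :
    a = b := by
  obtain ⟨V, hzV, g, hg, hspan⟩ := hD z
  rw [map_germ_eq X D U V z hU hzV, hspan, Ideal.map_span, Set.image_singleton,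
    Ideal.span_singleton_pow, Ideal.span_singleton_pow] at h
  set gz := (X.presheaf.germ V.1 z hzV).hom g with hgz
  letI : Algebra Γ(X, V) (X.presheaf.stalk z) := (X.presheaf.germ V.1 z hzV).hom.toAlgebra
  haveI : IsLocalization.AtPrime (X.presheaf.stalk z) (V.2.primeIdealOf ⟨z, hzV⟩).asIdeal :=
    V.2.isLocalization_stalk ⟨z, hzV⟩
  have hnzd : gz ∈ nonZeroDivisors (X.presheaf.stalk z) :=
    IsLocalization.map_nonZeroDivisors_le (V.2.primeIdealOf ⟨z, hzV⟩).asIdeal.primeCompl (X.presheaf.stalk z)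
      ⟨g, hg, rfl⟩
  have hnu : ¬ IsUnit gz := by
    rw [← X.mem_basicOpen _ z hzV]
    have h1 := (Scheme.IdealSheafData.mem_support_iff_of_mem hzV).1 hz
    rw [Scheme.mem_zeroLocus_iff] at h1
    exact h1 g (hspan ▸ Ideal.mem_span_singleton_self g)
  have aux : ∀ a b : ℕ, a < b → Ideal.span {gz ^ a} ≠ Ideal.span {gz ^ b} := by
    intro a b hab hspan'
    obtain ⟨r, hr⟩ := Ideal.mem_span_singleton'.1 (hspan' ▸ Ideal.mem_span_singleton_self (gz ^ a))
    obtain ⟨d, rfl⟩ := Nat.exists_eq_add_of_lt hab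
    refine hnu (isUnit_iff_exists_inv.2 ⟨r * gz ^ d, ?_⟩)
    refine (IsRegular.pow a (isRegular_iff_mem_nonZeroDivisors.2 hnzd)).left ?_
    show gz ^ a * (gz * (r * gz ^ d)) = gz ^ a * 1
    rw [mul_one]
    calc gz ^ a * (gz * (r * gz ^ d)) = r * gz ^ (a + d + 1) := by ring
      _ = gz ^ a := hr
  rcases lt_trichotomy a b with hab | hab | hab
  · exact absurd h (aux a b hab)
  · exact hab
  · exact absurd h.symm (aux b a hab)

open AlgebraicGeometry in
theorem ideal_eq_top (X : Scheme.{u}) (I : X.IdealSheafData) (U : X.affineOpens)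
    (h : ∀ z ∈ U.1, z ∉ I.support) : I.ideal U = ⊤ := by
  rw [← PrimeSpectrum.zeroLocus_empty_iff_eq_top]
  have h1 := U.2.fromSpec_image_zeroLocus (I.ideal U : Set Γ(X, U))
  rw [← I.coe_support_inter U] at h1
  refine Set.eq_empty_iff_forall_notMem.2 fun q hq => ?_
  have h2 : U.2.fromSpec q ∈ (I.support : Set X) ∩ (U.1 : Set X) := h1 ▸ Set.mem_image_of_mem _ hq
  exact h _ h2.2 h2.1

open AlgebraicGeometry in
/-- Let X be a Noetherian scheme and D, E effective Cartier divisors on X, encoded by their ideal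
sheaves, each locally generated on an affine open by a single non-zero-divisor. Assume that the
union of the supports of D and E is connected (or empty) and that every point of X has an affine
open neighbourhood on which the m-th power of the ideal of D equals the n-th power of the ideal of E
for some (m, n) ≠ (0, 0). Then there is a pair (m, n) ≠ (0, 0) for which this equality holds on
every affine open of X, that is, m D = n E globally. -/
theorem result
    (X : Scheme.{u}) [IsNoetherian X] (D E : X.IdealSheafData)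
    (hD : (∀ x : X, ∃ U : X.affineOpens, x ∈ (U : X.Opens) ∧ ∃ g : Γ(X, U), g ∈ nonZeroDivisors Γ(X, U) ∧ D.ideal U = Ideal.span {g}))
    (hE : (∀ x : X, ∃ U : X.affineOpens, x ∈ (U : X.Opens) ∧ ∃ g : Γ(X, U), g ∈ nonZeroDivisors Γ(X, U) ∧ E.ideal U = Ideal.span {g}))
    (hconn : IsPreconnected ((D.support : Set X) ∪ (E.support : Set X)))
    (hloc : ∀ x : X, ∃ U : X.affineOpens, x ∈ (U : X.Opens) ∧
      ∃ m n : ℕ, (m, n) ≠ (0, 0) ∧ D.ideal U ^ m = E.ideal U ^ n) :
    ∃ m n : ℕ, (m, n) ≠ (0, 0) ∧ ∀ U : X.affineOpens, D.ideal U ^ m = E.ideal U ^ n := by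
  classical
  choose U hxU p q hpq hPE using hloc
  have hpos : ∀ x, 0 < p x + q x := fun x => by
    have := hpq x
    simp only [ne_eq, Prod.mk.injEq, not_and_or] at this
    omega
  set S : Set X := (D.support : Set X) ∪ (E.support : Set X) with hS
  have prop : ∀ x y z, z ∈ S → z ∈ (U x).1 → z ∈ (U y).1 → p x * q y = p y * q x := by
    intro x y z hz hx hy
    have hx' := congrArg (Ideal.map (X.presheaf.germ (U x).1 z hx).hom) (hPE x)
    have hy' := congrArg (Ideal.map (X.presheaf.germ (U y).1 z hy).hom) (hPE y)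
    rw [Ideal.map_pow, Ideal.map_pow] at hx' hy'
    rw [map_germ_eq X D (U y) (U x) z hy hx, map_germ_eq X E (U y) (U x) z hy hx] at hy'
    rcases hz with hz | hz
    · refine key_eq X D hD z hz (U x) hx _ _ ?_
      rw [pow_mul, hx', ← pow_mul, mul_comm (q x), pow_mul, ← hy', ← pow_mul]
    · refine (key_eq X E hE z hz (U x) hx (p y * q x) (p x * q y) ?_).symm
      rw [mul_comm (p y), pow_mul, ← hx', ← pow_mul, mul_comm (p x) (p y), pow_mul, hy', ← pow_mul,
        mul_comm (q y)]
  rcases S.eq_empty_or_nonempty with hempty | ⟨z₀, hz₀⟩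
  · refine ⟨1, 1, by simp, fun V => ?_⟩
    rw [ideal_eq_top X D V (fun z _ h => Set.eq_empty_iff_forall_notMem.1 hempty z (Or.inl h)),
      ideal_eq_top X E V (fun z _ h => Set.eq_empty_iff_forall_notMem.1 hempty z (Or.inr h))]
  set a := p z₀
  set b := q z₀
  have hab : 0 < a + b := hpos z₀
  have trans' : ∀ x y, p x * b = a * q x → p x * q y = p y * q x → p y * b = a * q y := by
    intro x y h1 h2
    rcases Nat.eq_zero_or_pos (q x) with h0 | h0
    · have hp : 0 < p x := by have := hpos x; omega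
      have hb : b = 0 := by simpa [h0, hp.ne'] using h1
      have hq : q y = 0 := by simpa [h0, hp.ne'] using h2
      simp [hb, hq]
    · refine Nat.eq_of_mul_eq_mul_left h0 ?_
      calc q x * (p y * b) = (p y * q x) * b := by ring
        _ = (p x * q y) * b := by rw [h2]
        _ = (p x * b) * q y := by ring
        _ = (a * q x) * q y := by rw [h1]
        _ = q x * (a * q y) := by ring
  let A : Set X := {z | ∃ x, z ∈ (U x).1 ∧ p x * b = a * q x}
  let B : Set X := {z | ∃ x, z ∈ (U x).1 ∧ p x * b ≠ a * q x}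
  have hA : IsOpen A := by
    rw [show A = ⋃ x : {x // p x * b = a * q x}, ((U x.1).1 : Set X) by ext z; simp [A, and_comm]]
    exact isOpen_iUnion fun x => (U x.1).1.2
  have hB : IsOpen B := by
    rw [show B = ⋃ x : {x // p x * b ≠ a * q x}, ((U x.1).1 : Set X) by ext z; simp [B, and_comm]]
    exact isOpen_iUnion fun x => (U x.1).1.2
  have hprop : ∀ x z, z ∈ S → z ∈ (U x).1 → p x * b = a * q x := by
    intro x z hz hzx
    by_contra hne
    have hcov : S ⊆ A ∪ B := fun w _ => by
      by_cases h : p w * b = a * q w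
      · exact Or.inl ⟨w, hxU w, h⟩
      · exact Or.inr ⟨w, hxU w, h⟩
    obtain ⟨w, hw, ⟨x₁, hw₁, h₁⟩, ⟨x₂, hw₂, h₂⟩⟩ :=
      hconn A B hA hB hcov ⟨z₀, hz₀, z₀, hxU z₀, Nat.mul_comm _ _ ▸ rfl⟩ ⟨z, hz, x, hzx, hne⟩
    exact h₂ (trans' x₁ x₂ h₁ (prop x₁ x₂ w hw hw₁ hw₂))
  obtain ⟨t, ht⟩ := (isCompact_univ (X := X)).elim_finite_subcover (fun x => ((U x).1 : Set X))
    (fun x => (U x).1.2) (fun z _ => Set.mem_iUnion.2 ⟨z, hxU z⟩)
  set N := ∏ x ∈ t, (p x + q x) with hN
  have hNpos : 0 < N := Finset.prod_pos fun x _ => hpos x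
  refine ⟨N * a, N * b, ?_, fun V => ?_⟩
  · simp only [ne_eq, Prod.mk.injEq, mul_eq_zero, hNpos.ne', false_or]
    omega
  have hglobal : D ^ (N * a) = E ^ (N * b) := by
    refine Scheme.IdealSheafData.ext_of_iSup_eq_top (fun x : t => U x.1) ?_ fun ⟨x, hx⟩ => ?_
    · refine TopologicalSpace.Opens.ext (Set.eq_univ_of_forall fun z => ?_)
      obtain ⟨x, hx, hzx⟩ := Set.mem_iUnion₂.1 (ht (Set.mem_univ z))
      exact TopologicalSpace.Opens.mem_iSup.2 ⟨⟨x, hx⟩, hzx⟩
    rw [Scheme.IdealSheafData.ideal_pow, Scheme.IdealSheafData.ideal_pow, Pi.pow_apply, Pi.pow_apply]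
    show D.ideal (U x) ^ (N * a) = E.ideal (U x) ^ (N * b)
    by_cases hmeet : ∃ z ∈ S, z ∈ (U x).1
    · obtain ⟨z, hz, hzx⟩ := hmeet
      have h := hprop x z hz hzx
      obtain ⟨r, hr⟩ : p x + q x ∣ N := Finset.dvd_prod_of_mem _ hx
      have e1 : N * a = p x * (r * (a + b)) := by
        rw [hr]
        calc (p x + q x) * r * a = r * (p x * a + a * q x) := by ring
          _ = r * (p x * a + p x * b) := by rw [h]
          _ = p x * (r * (a + b)) := by ring
      have e2 : N * b = q x * (r * (a + b)) := by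
        rw [hr]
        calc (p x + q x) * r * b = r * (p x * b + q x * b) := by ring
          _ = r * (a * q x + q x * b) := by rw [h]
          _ = q x * (r * (a + b)) := by ring
      rw [e1, e2, pow_mul, hPE, ← pow_mul]
    · push Not at hmeet
      rw [ideal_eq_top X D (U x) (fun z hz h => hmeet z (Or.inl h) hz),
        ideal_eq_top X E (U x) (fun z hz h => hmeet z (Or.inr h) hz), Ideal.top_pow, Ideal.top_pow]
  have := congrFun (congrArg Scheme.IdealSheafData.ideal hglobal) V
  simpa using this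

end Groth.Agent.S17732
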