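import Groth.Statements.S17733
import Groth.Agent.H29Blow.Basic

set_option autoImplicit false
universe u
open CDiv

namespace Groth.Agent.S17733

open CategoryTheory AlgebraicGeometry TopologicalSpace Polynomial

theorem app_eq_restrict {X Y : Scheme.{u}} (f : X ⟶ Y) (V : Y.Opens) :
    (f ∣_ V).appTop ≫ (f ⁻¹ᵁ V).topIso.hom = V.topIso.hom ≫ f.app V := by
  rw [morphismRestrict_appTop]
  simp [Scheme.Hom.app_eq_appLE, Scheme.Hom.appLE_map, Scheme.Hom.map_appLE, -eqToHom_op]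
  exact (Scheme.Hom.appLE_map _ _ _).trans (Scheme.Hom.map_appLE _ _ _).symm

theorem exists_integral_eq {X Y : Scheme.{u}} (f : X ⟶ Y) [UniversallyClosed f] {V : Y.Opens}
    (hV : IsAffineOpen V) (t : Γ(X, f ⁻¹ᵁ V)) :
    ∃ p : Polynomial Γ(Y, V), p.Monic ∧ p.eval₂ (f.app V).hom t = 0 := by
  haveI : IsAffine (V : Scheme.{u}) := hV
  haveI : UniversallyClosed (f ∣_ V) :=
    IsZariskiLocalAtTarget.restrict (P := @UniversallyClosed) inferInstance V
  obtain ⟨p, hp, hp0⟩ := isIntegral_appTop_of_universallyClosed (f ∣_ V) ((f ⁻¹ᵁ V).topIso.inv t)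
  refine ⟨p.map V.topIso.hom.hom, hp.map _, ?_⟩
  have h := congrArg (f ⁻¹ᵁ V).topIso.hom.hom hp0
  rw [Polynomial.hom_eval₂, map_zero] at h
  rw [Polynomial.eval₂_map]
  have e : ((f ⁻¹ᵁ V).topIso.hom.hom).comp (f ∣_ V).appTop.hom = (f.app V).hom.comp V.topIso.hom.hom := by
    rw [← CommRingCat.hom_comp, app_eq_restrict, CommRingCat.hom_comp]
  have e2 : (f ⁻¹ᵁ V).topIso.hom.hom ((f ⁻¹ᵁ V).topIso.inv t) = t := by
    rw [← CommRingCat.comp_apply, Iso.inv_hom_id]
    rfl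
  rw [e, e2] at h
  exact h

theorem exists_point {X : Scheme.{u}} {V : X.Opens} (hV : IsAffineOpen V) (p : PrimeSpectrum Γ(X, V)) :
    ∃ x : V, hV.primeIdealOf x = p :=
  ⟨⟨hV.fromSpec p, by rw [← SetLike.mem_coe, ← hV.range_fromSpec]; exact ⟨_, rfl⟩⟩,
    hV.fromSpec.isOpenEmbedding.injective (by rw [hV.fromSpec_primeIdealOf])⟩

/-- A generator on an affine open restricts to a generator. -/
theorem exists_gen_restrict {S : Scheme.{u}} (D : S.IdealSheafData) {U₀ V : S.affineOpens}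
    (h : V.1 ≤ U₀.1) {g : Γ(S, U₀)} (hg : g ∈ nonZeroDivisors Γ(S, U₀)) (hD : D.ideal U₀ = Ideal.span {g}) :
    ∃ d : Γ(S, V.1), D.ideal V = Ideal.span {d} ∧
      ∀ (x : S) (hx : x ∈ V.1), S.presheaf.germ V.1 x hx d = 0 → (0 : S.presheaf.stalk x) = 1 := by
  refine ⟨S.presheaf.map (homOfLE h).op g, ?_, fun x hx h0 => ?_⟩
  · rw [← D.map_ideal (V := U₀) h, hD, Ideal.map_span, Set.image_singleton]
    rfl
  · rw [TopCat.Presheaf.germ_res_apply] at h0
    letI := TopCat.Presheaf.algebra_section_stalk S.presheaf (⟨x, h hx⟩ : U₀.1)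
    haveI := U₀.2.isLocalization_stalk ⟨x, h hx⟩
    obtain ⟨⟨s, hs⟩, hs0⟩ := (IsLocalization.map_eq_zero_iff
      (U₀.2.primeIdealOf ⟨x, h hx⟩).asIdeal.primeCompl (S.presheaf.stalk x) g).mp h0
    have : s = 0 := hg.2 s hs0
    exact absurd (this ▸ hs) (fun h' => h' (Ideal.zero_mem _))

theorem res_res {X : Scheme.{u}} {A B C : X.Opens} (i : B ≤ A) (j : C ≤ B) (r : Γ(X, A)) :
    X.presheaf.map (homOfLE j).op (X.presheaf.map (homOfLE i).op r) =
      X.presheaf.map (homOfLE (j.trans i)).op r :=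
  (congr($(X.presheaf.map_comp (homOfLE i).op (homOfLE j).op) r)).symm

variable {S S' : Scheme.{u}} (f : S' ⟶ S)

/-- Off the support a generator is a unit. -/
theorem isUnit_germ_of_notMem_support (D : S.IdealSheafData) {V : S.affineOpens} {d : Γ(S, V.1)}
    (hD : D.ideal V = Ideal.span {d}) {x : S} (hx : x ∈ V.1) (hxD : x ∉ D.support) :
    IsUnit (S.presheaf.germ V.1 x hx d) := by
  rw [← Scheme.mem_basicOpen S d x hx]
  by_contra hn
  refine hxD (((Set.ext_iff.mp (D.coe_support_inter V)) x).mpr ⟨?_, hx⟩).1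
  rw [hD, Scheme.zeroLocus_span, Scheme.zeroLocus_singleton]
  exact hn

theorem nzd_pullback {U : S.Opens} (hU' : CInt.IsSchematicallyDense (f ⁻¹ᵁ U)) {V : S.affineOpens}
    {e : Γ(S, V.1)} (he : ∀ (x : S) (hx : x ∈ V.1), x ∈ U → IsUnit (S.presheaf.germ V.1 x hx e))
    {O : S'.Opens} (hO : O ≤ f ⁻¹ᵁ V.1) (r : Γ(S', O))
    (h : r * S'.presheaf.map (homOfLE hO).op (f.app V.1 e) = 0) : r = 0 := by
  refine hU' O ?_
  rw [map_zero]
  refine TopCat.Presheaf.section_ext S'.sheaf (O ⊓ f ⁻¹ᵁ U) _ 0 fun y hy => ?_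
  show S'.presheaf.germ _ y hy (S'.presheaf.map _ r) = S'.presheaf.germ _ y hy 0
  rw [TopCat.Presheaf.germ_res_apply, map_zero]
  have h1 := congrArg (S'.presheaf.germ O y hy.1) h
  rw [map_mul, map_zero, TopCat.Presheaf.germ_res_apply, ← Scheme.Hom.germ_stalkMap_apply f V.1 y (hO hy.1)] at h1
  exact (((he (f y) (hO hy.1) hy.2).map (f.stalkMap y).hom).mul_left_eq_zero).mp h1

theorem span_le {U : S.Opens} [IsLocallyNoetherian S]
    (hnorm : ∀ x : S, IsDomain (S.presheaf.stalk x) ∧ IsIntegrallyClosed (S.presheaf.stalk x))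
    [IsProper f] (hdom : f.ker = ⊥) (hU' : CInt.IsSchematicallyDense (f ⁻¹ᵁ U))
    (D E : S.IdealSheafData) (hEU : (E.support : Set S) ⊆ (U : Set S)ᶜ) (h : D.comap f = E.comap f)
    {V : S.affineOpens} {d e : Γ(S, V.1)} (hD : D.ideal V = Ideal.span {d})
    (hE : E.ideal V = Ideal.span {e})
    (he0 : ∀ (x : S) (hx : x ∈ V.1), S.presheaf.germ V.1 x hx e = 0 → (0 : S.presheaf.stalk x) = 1) :
    d ∈ Ideal.span {e} := by
  classical
  have hunit : ∀ (x : S) (hx : x ∈ V.1), x ∈ U → IsUnit (S.presheaf.germ V.1 x hx e) := fun x hx hxU =>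
    isUnit_germ_of_notMem_support E hE hx fun hxE => hEU hxE hxU
  -- the quotient of the pulled back generators
  have hloc : ∀ y : (f ⁻¹ᵁ V.1 : S'.Opens), ∃ (W : S'.Opens) (hW : W ≤ f ⁻¹ᵁ V.1), (y : S') ∈ W ∧
      ∃ t : Γ(S', W), t * S'.presheaf.map (homOfLE hW).op (f.app V.1 e) =
        S'.presheaf.map (homOfLE hW).op (f.app V.1 d) := by
    intro y
    obtain ⟨W, hW, hyW, hWV⟩ := exists_isAffineOpen_mem_and_subset y.2
    have hspan : (D.comap f).ideal ⟨W, hW⟩ = (E.comap f).ideal ⟨W, hW⟩ := by rw [h]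
    rw [H29Blow.ideal_comap D f V ⟨W, hW⟩ hWV, H29Blow.ideal_comap E f V ⟨W, hW⟩ hWV, hD, hE,
      Ideal.map_span, Ideal.map_span, Set.image_singleton, Set.image_singleton] at hspan
    have hmem := hspan.le (Ideal.mem_span_singleton_self _)
    obtain ⟨t, ht⟩ := Ideal.mem_span_singleton'.mp hmem
    exact ⟨W, hWV, hyW, t, ht⟩
  choose W hW hyW t ht using hloc
  have hcompat : TopCat.Presheaf.IsCompatible S'.sheaf.obj W t := fun a b => by
    show S'.presheaf.map (homOfLE (inf_le_left : W a ⊓ W b ≤ W a)).op (t a) =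
      S'.presheaf.map (homOfLE (inf_le_right : W a ⊓ W b ≤ W b)).op (t b)
    refine sub_eq_zero.mp (nzd_pullback f hU' hunit (inf_le_left.trans (hW a)) _ ?_)
    rw [sub_mul, sub_eq_zero]
    have e1 := congrArg (S'.presheaf.map (homOfLE (inf_le_left : W a ⊓ W b ≤ W a)).op) (ht a)
    have e2 := congrArg (S'.presheaf.map (homOfLE (inf_le_right : W a ⊓ W b ≤ W b)).op) (ht b)
    simp only [map_mul, res_res] at e1 e2
    exact e1.trans e2.symm
  obtain ⟨T₀, hT, -⟩ := S'.sheaf.existsUnique_gluing' W (f ⁻¹ᵁ V.1) (fun y => homOfLE (hW y))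
    (fun y hy => Opens.mem_iSup.2 ⟨⟨y, hy⟩, hyW ⟨y, hy⟩⟩) t hcompat
  let T : Γ(S', f ⁻¹ᵁ V.1) := T₀
  have hTe : T * f.app V.1 e = f.app V.1 d := by
    refine S'.sheaf.eq_of_locally_eq' W (f ⁻¹ᵁ V.1) (fun y => homOfLE (hW y))
      (fun y hy => Opens.mem_iSup.2 ⟨⟨y, hy⟩, hyW ⟨y, hy⟩⟩) _ _ fun y => ?_
    show S'.presheaf.map (homOfLE (hW y)).op (T * f.app V.1 e) = S'.presheaf.map (homOfLE (hW y)).op (f.app V.1 d)
    rw [map_mul, show S'.presheaf.map (homOfLE (hW y)).op T = t y from hT y, ht y]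
  obtain ⟨p, hp, hp0⟩ := exists_integral_eq f V.2 T
  have hinj : ∀ r : Γ(S, V.1), f.app V.1 r = 0 → r = 0 := fun r hr => by
    have : r ∈ f.ker.ideal V := by rw [Scheme.Hom.ker_apply]; exact hr
    rw [hdom] at this
    simpa using this
  have hrel : (p.scaleRoots e).eval d = 0 := by
    refine hinj _ ?_
    rw [← Polynomial.eval₂_at_apply, ← hTe, mul_comm T, Polynomial.scaleRoots_eval₂_mul, hp0, mul_zero]
  -- divisibility in every local ring
  let C : Ideal Γ(S, V.1) := (Ideal.span {e}).colon {d}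
  by_contra hne
  have hC : C ≠ ⊤ := fun hC => hne (by
    have h1 : (1 : Γ(S, V.1)) ∈ C := hC ▸ Submodule.mem_top
    rwa [Submodule.mem_colon_singleton, one_smul] at h1)
  obtain ⟨M, hM, hCM⟩ := Ideal.exists_le_maximal C hC
  obtain ⟨⟨x, hx⟩, hxM⟩ := exists_point V.2 ⟨M, hM.isPrime⟩
  haveI := (hnorm x).1
  haveI := (hnorm x).2
  let R := S.presheaf.stalk x
  let γ : Γ(S, V.1) →+* R := (S.presheaf.germ V.1 x hx).hom
  have hγe : γ e ≠ 0 := fun h0 => zero_ne_one (he0 x hx h0)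
  let F := FractionRing R
  have hint : IsIntegral R (algebraMap R F (γ d) / algebraMap R F (γ e)) := by
    refine ⟨p.map γ, hp.map γ, ?_⟩
    have he' : algebraMap R F (γ e) ≠ 0 :=
      fun h0 => hγe (IsFractionRing.injective R F (h0.trans (map_zero _).symm))
    have h1 := congrArg ((algebraMap R F).comp γ) hrel
    rw [← Polynomial.eval₂_at_apply, map_zero] at h1
    have h2 := Polynomial.scaleRoots_eval₂_mul ((algebraMap R F).comp γ)
      (algebraMap R F (γ d) / algebraMap R F (γ e)) e (p := p)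
    rw [RingHom.comp_apply, mul_div_cancel₀ _ he'] at h2
    have h3 : (algebraMap R F) (γ e) ^ p.natDegree *
        p.eval₂ ((algebraMap R F).comp γ) (algebraMap R F (γ d) / algebraMap R F (γ e)) = 0 :=
      h2.symm.trans h1
    rw [Polynomial.eval₂_map]
    exact (mul_eq_zero.mp h3).resolve_left (pow_ne_zero _ he')
  obtain ⟨c, hc⟩ := IsIntegrallyClosed.isIntegral_iff.1 hint
  have hcd : γ d = γ e * c := by
    refine IsFractionRing.injective R F ?_
    rw [map_mul, hc, mul_div_cancel₀]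
    exact fun h0 => hγe (IsFractionRing.injective R F (h0.trans (map_zero _).symm))
  letI := TopCat.Presheaf.algebra_section_stalk S.presheaf (⟨x, hx⟩ : V.1)
  haveI := V.2.isLocalization_stalk ⟨x, hx⟩
  obtain ⟨⟨c', s⟩, hcs⟩ := IsLocalization.surj (V.2.primeIdealOf ⟨x, hx⟩).asIdeal.primeCompl c
  have h4 : algebraMap Γ(S, V.1) R ((s : Γ(S, V.1)) * d - e * c') = 0 := by
    rw [map_sub, map_mul, map_mul, ← hcs]
    show γ (s : Γ(S, V.1)) * γ d - γ e * (c * γ (s : Γ(S, V.1))) = 0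
    rw [hcd]
    ring
  obtain ⟨⟨u, hu⟩, hu0⟩ := (IsLocalization.map_eq_zero_iff
    (V.2.primeIdealOf ⟨x, hx⟩).asIdeal.primeCompl R _).mp h4
  have hus : u * (s : Γ(S, V.1)) ∈ C := by
    rw [Submodule.mem_colon_singleton, smul_eq_mul, Ideal.mem_span_singleton']
    exact ⟨u * c', by linear_combination -hu0⟩
  have hmem := hCM hus
  have hMx : (V.2.primeIdealOf ⟨x, hx⟩).asIdeal = M := congrArg PrimeSpectrum.asIdeal hxM
  rcases hM.isPrime.mem_or_mem hmem with h' | h'
  · exact hu (hMx ▸ h')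
  · exact s.2 (hMx ▸ h')

open CategoryTheory AlgebraicGeometry in
/-- Let S be a locally Noetherian normal scheme (every local ring an integrally closed domain), f : S' →
S a proper morphism whose scheme-theoretic image is S (its kernel ideal sheaf is zero), and U ⊆ S a
schematically dense open subscheme such that f⁻¹(U) is also schematically dense in S'. Suppose D and
E are effective Cartier divisors of S, encoded by ideal sheaves each locally generated on an affine
open by one non-zero-divisor, with supports disjoint from U. If the pulled-back ideal sheaves of D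
and E along f coincide, then D = E. -/
theorem result
    {S S' : Scheme.{u}} [IsLocallyNoetherian S]
    (hnorm : ∀ x : S, IsDomain (S.presheaf.stalk x) ∧ IsIntegrallyClosed (S.presheaf.stalk x))
    (f : S' ⟶ S) [IsProper f] (hdom : f.ker = ⊥)
    (U : S.Opens) (hU : CInt.IsSchematicallyDense U) (hU' : CInt.IsSchematicallyDense (f ⁻¹ᵁ U))
    (D E : S.IdealSheafData)
    (hD : (∀ x : S, ∃ U : S.affineOpens, x ∈ (U : S.Opens) ∧ ∃ g : Γ(S, U), g ∈ nonZeroDivisors Γ(S, U) ∧ D.ideal U = Ideal.span {g}))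
    (hE : (∀ x : S, ∃ U : S.affineOpens, x ∈ (U : S.Opens) ∧ ∃ g : Γ(S, U), g ∈ nonZeroDivisors Γ(S, U) ∧ E.ideal U = Ideal.span {g}))
    (hDU : (D.support : Set S) ⊆ (U : Set S)ᶜ) (hEU : (E.support : Set S) ⊆ (U : Set S)ᶜ)
    (h : D.comap f = E.comap f) : D = E := by
  refine H29Blow.ext_of_forall_exists fun x => ?_
  obtain ⟨Ud, hxd, gd, hgd, hDd⟩ := hD x
  obtain ⟨Ue, hxe, ge, hge, hEe⟩ := hE x
  obtain ⟨V₀, hV₀, hxV, hVle⟩ := exists_isAffineOpen_mem_and_subset (U := Ud.1 ⊓ Ue.1) (x := x) ⟨hxd, hxe⟩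
  let V : S.affineOpens := ⟨V₀, hV₀⟩
  obtain ⟨d, hd, hd0⟩ := exists_gen_restrict D (V := V) (fun y hy => (hVle hy).1) hgd hDd
  obtain ⟨e, he, he0⟩ := exists_gen_restrict E (V := V) (fun y hy => (hVle hy).2) hge hEe
  refine ⟨V, hxV, ?_⟩
  rw [hd, he]
  refine le_antisymm ?_ ?_ <;> rw [Ideal.span_singleton_le_iff_mem]
  · exact span_le f hnorm hdom hU' D E hEU h hd he he0
  · exact span_le f hnorm hdom hU' E D hDU h.symm he hd hd0

end Groth.Agent.S17733
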