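import Groth.Statements.S17735
import Groth.Agent.H3CAlg.NodeFibral
import Groth.Agent.H28Alg.RegularUFD
import Groth.Agent.H4Depth.Regular

set_option autoImplicit false
universe u
open CAlg

namespace Groth.Agent.S17735

open IsLocalRing in
/-- Let R be a regular local ring complete for its maximal ideal, r a non-zero element of R, A the
quotient of the power series ring in x, y over R by xy − r, B the quotient of the polynomial ring in
x, y over R by xy − r, ι : B → A the natural map, P the ideal of B generated by x, y and the maximal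
ideal of R, à the localization of B at P and φ : à → A the map extending ι. Call a prime of height
one of A (or of Ã) fibral when it contains a non-zero element of R. Then contraction along φ is a
bijection from the set of fibral height-one primes of A onto the set of fibral height-one primes of
Ã; equivalently it induces an isomorphism between the free abelian groups of fibral Weil divisors. -/
theorem result
    (R : Type u) [CommRing R] [IsRegularLocalRing R]
    [IsAdicComplete (maximalIdeal R) R]
    (r : R) (hr : r ≠ 0)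
    (ι : (MvPolynomial (Fin 2) R ⧸ Ideal.span {(MvPolynomial.X 0 * MvPolynomial.X 1 - MvPolynomial.C r : MvPolynomial (Fin 2) R)}) →+*
      (MvPowerSeries (Fin 2) R ⧸ Ideal.span {(MvPowerSeries.X 0 * MvPowerSeries.X 1 - MvPowerSeries.C r : MvPowerSeries (Fin 2) R)}))
    (hι : ι.comp (Ideal.Quotient.mk _) =
      (Ideal.Quotient.mk _).comp (MvPolynomial.coeToMvPowerSeries.ringHom : MvPolynomial (Fin 2) R →+* MvPowerSeries (Fin 2) R))
    (P : Ideal (MvPolynomial (Fin 2) R ⧸ Ideal.span {(MvPolynomial.X 0 * MvPolynomial.X 1 - MvPolynomial.C r : MvPolynomial (Fin 2) R)})) [P.IsPrime]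
    (hP : P = Ideal.span {Ideal.Quotient.mk _ (MvPolynomial.X 0), Ideal.Quotient.mk _ (MvPolynomial.X 1)} ⊔
      (maximalIdeal R).map (algebraMap R _))
    (φ : Localization.AtPrime P →+* (MvPowerSeries (Fin 2) R ⧸ Ideal.span {(MvPowerSeries.X 0 * MvPowerSeries.X 1 - MvPowerSeries.C r : MvPowerSeries (Fin 2) R)}))
    (hφ : φ.comp (algebraMap _ (Localization.AtPrime P)) = ι) :
    Set.BijOn (fun 𝔓 => Ideal.comap φ 𝔓)
      {𝔓 | 𝔓.IsPrime ∧ 𝔓.height = 1 ∧ Ideal.comap (algebraMap R _) 𝔓 ≠ ⊥}
      {𝔮 : Ideal (Localization.AtPrime P) | 𝔮.IsPrime ∧ @Ideal.height (Localization.AtPrime P) _ 𝔮 = 1 ∧ Ideal.comap (algebraMap R (Localization.AtPrime P)) 𝔮 ≠ ⊥} := by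
  classical
  haveI := H4Depth.isDomain_of_isRegularLocalRing R
  haveI := H28Alg.ufd_of_regular R
  haveI : IsNoetherianRing R := inferInstance
  have hC : ∀ a : R, ι (algebraMap R _ a) = algebraMap R _ a := fun a => by
    have := RingHom.congr_fun hι (MvPolynomial.C a)
    simp only [RingHom.comp_apply, MvPolynomial.coeToMvPowerSeries.ringHom_apply, MvPolynomial.coe_C] at this
    exact this
  let ι' : SpinCurv.PolyNodeRing R r →ₐ[R] SpinCurv.NodeRing R r := { ι with commutes' := hC }
  have hxy : ∀ i, ι (Ideal.Quotient.mk _ (MvPolynomial.X i)) = Ideal.Quotient.mk _ (MvPowerSeries.X i) := fun i => by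
    have := RingHom.congr_fun hι (MvPolynomial.X i)
    simp only [RingHom.comp_apply, MvPolynomial.coeToMvPowerSeries.ringHom_apply, MvPolynomial.coe_X] at this
    exact this
  have hPX : ∀ i : Fin 2, Ideal.Quotient.mk _ (MvPolynomial.X i) ∈ P := fun i => by
    rw [hP]; refine Ideal.mem_sup_left (Ideal.subset_span ?_); fin_cases i <;> simp
  have hPm : ∀ a ∈ maximalIdeal R, algebraMap R _ a ∈ P := fun a ha => by
    rw [hP]; exact Ideal.mem_sup_right (Ideal.mem_map_of_mem _ ha)
  have hr' : r ∈ maximalIdeal R := by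
    by_contra h
    have hu : IsUnit r := by rwa [mem_maximalIdeal, mem_nonunits_iff, not_not] at h
    refine Ideal.IsPrime.ne_top (I := P) inferInstance (Ideal.eq_top_of_isUnit_mem _ ?_ (hu.map (algebraMap R _)))
    rw [← H02CA.PolyNode.xy]
    exact Ideal.mul_mem_right _ _ (hPX 0)
  have hnt : Nontrivial (SpinCurv.NodeRing R r) := by
    refine Ideal.Quotient.nontrivial_iff.mpr ?_
    rw [Ne, Ideal.span_singleton_eq_top, MvPowerSeries.isUnit_iff_constantCoeff]
    simpa using (mem_maximalIdeal r).mp hr'
  haveI : NoZeroDivisors (SpinCurv.NodeRing R r) :=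
    ⟨fun {z w} h => H3CAlg.NodeUnits.noZeroDivisors hr' hr z w h⟩
  haveI : IsDomain (SpinCurv.NodeRing R r) := NoZeroDivisors.to_isDomain _
  have hRA : Function.Injective (algebraMap R (SpinCurv.NodeRing R r)) := by
    refine (injective_iff_map_eq_zero _).mpr fun a ha => ?_
    have h1 : algebraMap R (SpinCurv.NodeRing R r) a * SpinCurv.NodeRing.ofX R r 1 = 0 := by rw [ha, zero_mul]
    have := congrArg (H02CA.NodeCoord.κ hr' 0) h1
    rw [H02CA.NodeCoord.κ_algebraMap_mul, H02CA.NodeCoord.κ_ofX, map_zero] at this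
    simpa using this
  have hPmax : ∀ J : Ideal (SpinCurv.NodeRing R r), J.IsPrime → J.comap ι ≤ P := by
    intro J hJ z hz
    obtain ⟨p, rfl⟩ := Ideal.Quotient.mk_surjective z
    have hp : p - MvPolynomial.C (MvPolynomial.coeff 0 p) ∈ Ideal.comap (Ideal.Quotient.mk _) P := by
      have h1 : p - MvPolynomial.C (MvPolynomial.coeff 0 p) ∈
          Ideal.span (MvPolynomial.X '' (Set.univ : Set (Fin 2)) : Set (MvPolynomial (Fin 2) R)) := by
        rw [MvPolynomial.mem_ideal_span_X_image]
        intro m hm
        rw [MvPolynomial.mem_support_iff, MvPolynomial.coeff_sub, MvPolynomial.coeff_C] at hm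
        by_contra hall
        push Not at hall
        have hm0 : m = 0 := Finsupp.ext fun k => hall k (Set.mem_univ k)
        rw [hm0, if_pos rfl, sub_self] at hm
        exact hm rfl
      exact Ideal.span_le.mpr (by rintro _ ⟨i, -, rfl⟩; exact hPX i) h1
    have hc : MvPolynomial.coeff 0 p ∈ maximalIdeal R := by
      by_contra h
      have hu : IsUnit (MvPolynomial.coeff 0 p) := by rwa [mem_maximalIdeal, mem_nonunits_iff, not_not] at h
      refine hJ.ne_top (Ideal.eq_top_of_isUnit_mem _ hz ?_)
      have := RingHom.congr_fun hι p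
      simp only [RingHom.comp_apply] at this
      rw [this]
      refine (MvPowerSeries.isUnit_iff_constantCoeff.mpr ?_).map _
      rw [MvPolynomial.coeToMvPowerSeries.ringHom_apply, ← MvPowerSeries.coeff_zero_eq_constantCoeff_apply,
        MvPolynomial.coeff_coe]
      exact hu
    have := Ideal.add_mem _ hp (show MvPolynomial.C (MvPolynomial.coeff 0 p) ∈ Ideal.comap (Ideal.Quotient.mk _) P from hPm _ hc)
    rwa [sub_add_cancel] at this
  exact H3CAlg.NodeFibral.bijOn_comap (L := Localization.AtPrime P) P hRA ι (RingHom.ext hC) φ hφ (H3CAlg.NodeFibral.shapes r)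
    (fun ℓ hℓ I hI => H3CAlg.NodeFibral.shapes_spec hr' ι' (hxy 0) (hxy 1) P hPm hPX hℓ I hI)
    (fun ℓ _ J hJ h _ => H3CAlg.NodeFibral.shapes_cover J h)
    (fun p hp hne => Ideal.IsPrime.exists_mem_prime_of_ne_bot hp hne) hPmax

end Groth.Agent.S17735
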