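import Groth.Statements.S17736
import Groth.Agent.H25UFD.Completion
import Groth.Agent.S13201
import Groth.Agent.H02CA.CompletionFlat

set_option autoImplicit false
set_option linter.style.haveILetI false
set_option backward.isDefEq.respectTransparency false
set_option synthInstance.maxHeartbeats 200000
universe u
open DualGr

namespace Groth.Agent.S17736

open CategoryTheory AlgebraicGeometry IsLocalRing in
/-- Let R be a regular local ring, X a locally Noetherian scheme over Spec R, and x a point of X whose
local ring is formally a node of thickness (Δ) over R, that is, its completion is isomorphic,
compatibly with R, to R̂[[u,v]]/(uv − Δ), where R̂ is the completion of R and Δ is an element of R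
whose image in R̂ is a prime element. Then the local ring of X at x is a unique factorization
domain. (The published statement is for a quasisplit nodal curve, smooth over a dense open, over an
excellent base all of whose smooth schemes are locally factorial, and a singular point with prime
thickness. Its argument passes through unique factorization in R̂[[u,v]]/(uv − Δ) for R̂ an
arbitrary complete local unique factorization domain, which fails in that generality: that ring is
free of rank two over the power series ring R̂[[u + v]], and a power series ring over a complete
local unique factorization domain need not be factorial. The base is therefore taken regular here,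
the case in which the completed ring is factorial; factoriality then descends to the local ring of X
at x along the faithfully flat completion map.) -/
theorem result
    (R : Type u) [CommRing R] [IsRegularLocalRing R]
    {X : Scheme.{u}} [IsLocallyNoetherian X] (f : X ⟶ Spec (CommRingCat.of R)) (x : X) (Δ : R)
    (hnode : DualGr.IsThickNode (DualGr.stalkHom f x) Δ)
    (hprime : Prime (algebraMap R (Curv2.cpl R) Δ)) :
    IsDomain (X.presheaf.stalk x) ∧ UniqueFactorizationMonoid (X.presheaf.stalk x) := by
  classical
  obtain ⟨e, -⟩ := hnode
  haveI : IsNoetherianRing (X.presheaf.stalk x) := inferInstance
  haveI := H02CA.isRegularLocalRing_adicCompletion R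
  have hΔ : algebraMap R (Curv2.cpl R) Δ ∈ IsLocalRing.maximalIdeal (Curv2.cpl R) := hprime.not_unit
  obtain ⟨hd, hu⟩ := (S13201.result (Curv2.cpl R) _ hΔ).2 hprime
  haveI := hd
  haveI := hu
  haveI : IsDomain (Curv2.cpl (X.presheaf.stalk x)) := e.toMulEquiv.isDomain _
  haveI : UniqueFactorizationMonoid (Curv2.cpl (X.presheaf.stalk x)) := e.symm.toMulEquiv.uniqueFactorizationMonoid hu
  haveI : Module.FaithfullyFlat (X.presheaf.stalk x) (Curv2.cpl (X.presheaf.stalk x)) :=
    ((S2321.result (X.presheaf.stalk x) (IsLocalRing.maximalIdeal _)).out 0 1).1
      (IsLocalRing.maximalIdeal_le_jacobson _)
  exact H25UFD.ufd_of_faithfullyFlat (B := Curv2.cpl (X.presheaf.stalk x))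

end Groth.Agent.S17736
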