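import Groth.Statements.S17737
import Mathlib

set_option autoImplicit false
universe u
open DualGr

namespace Groth.Agent.S17737

open MvPowerSeries in
theorem helper_node_zero {R : Type u} [CommRing R] [IsLocalRing R] [IsNoetherianRing R] (a b : R)
    (ha : a ∈ IsLocalRing.maximalIdeal R) (hb : b ∈ IsLocalRing.maximalIdeal R)
    (e : DualGr.nodeRing R a ≃+* DualGr.nodeRing R b)
    (he : ∀ r : R, e (Ideal.Quotient.mk _ (C (algebraMap R (Curv2.cpl R) r))) =
      Ideal.Quotient.mk _ (C (algebraMap R (Curv2.cpl R) r))) :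
    a ∈ Ideal.span {b} := by
  classical
  -- reduce modulo `(b) + m ^ N`
  suffices h : ∀ N : ℕ, 0 < N → a ∈ Ideal.span {b} ⊔ IsLocalRing.maximalIdeal R ^ N by
    by_contra hab
    haveI : Nontrivial (R ⧸ Ideal.span {b}) :=
      Ideal.Quotient.nontrivial_iff.mpr (fun htop => hab (htop ▸ Submodule.mem_top))
    haveI : IsLocalRing (R ⧸ Ideal.span {b}) :=
      IsLocalRing.of_surjective' (Ideal.Quotient.mk _) Ideal.Quotient.mk_surjective
    haveI : IsNoetherianRing (R ⧸ Ideal.span {b}) := inferInstance
    refine hab (Ideal.Quotient.eq_zero_iff_mem.mp ?_)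
    have hI : (IsLocalRing.maximalIdeal R).map (Ideal.Quotient.mk (Ideal.span {b})) ≠ ⊤ := by
      intro htop
      have h1 := congrArg (Ideal.comap (Ideal.Quotient.mk (Ideal.span {b}))) htop
      rw [Ideal.comap_map_of_surjective _ Ideal.Quotient.mk_surjective, Ideal.comap_top,
        ← RingHom.ker_eq_comap_bot, Ideal.mk_ker,
        sup_eq_left.mpr ((Ideal.span_singleton_le_iff_mem _).mpr hb)] at h1
      exact (IsLocalRing.maximalIdeal.isMaximal R).ne_top h1
    rw [← Ideal.mem_bot, ← Ideal.iInf_pow_eq_bot_of_isLocalRing _ hI, Ideal.mem_iInf]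
    intro N
    rcases Nat.eq_zero_or_pos N with hN | hN
    · subst hN; simp
    rw [← Ideal.map_pow]
    obtain ⟨u, hu, v, hv, huv⟩ := Submodule.mem_sup.mp (h N hN)
    rw [← huv, map_add, Ideal.Quotient.eq_zero_iff_mem.mpr hu, zero_add]
    exact Ideal.mem_map_of_mem _ hv
  intro N hN
  set J := Ideal.span {b} ⊔ IsLocalRing.maximalIdeal R ^ N with hJdef
  have hJle : J ≤ IsLocalRing.maximalIdeal R :=
    sup_le ((Ideal.span_singleton_le_iff_mem _).mpr hb) (Ideal.pow_le_self hN.ne')
  let ρ : Curv2.cpl R →+* R ⧸ J := (Ideal.Quotient.factor (show IsLocalRing.maximalIdeal R ^ N ≤ J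
    from le_sup_right)).comp (AdicCompletion.evalₐ (IsLocalRing.maximalIdeal R) N).toRingHom
  have hρ : ∀ r : R, ρ (algebraMap R (Curv2.cpl R) r) = Ideal.Quotient.mk J r := fun r => by
    show Ideal.Quotient.factor (show IsLocalRing.maximalIdeal R ^ N ≤ J from le_sup_right)
      (AdicCompletion.evalₐ (IsLocalRing.maximalIdeal R) N
      (algebraMap R _ r)) = _
    rw [AlgHom.commutes]
    rfl
  let res : R ⧸ J →+* IsLocalRing.ResidueField R := Ideal.Quotient.factor hJle
  have hres : ∀ t : R ⧸ J, res t ≠ 0 → IsUnit t := fun t ht => by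
    obtain ⟨r, rfl⟩ := Ideal.Quotient.mk_surjective t
    refine IsUnit.map _ (IsLocalRing.notMem_maximalIdeal.mp fun hr => ht ?_)
    show IsLocalRing.residue R r = 0
    exact Ideal.Quotient.eq_zero_iff_mem.mpr hr
  -- coefficient functions
  let c0 : MvPowerSeries (Fin 2) (Curv2.cpl R) → R ⧸ J := fun s => ρ (constantCoeff s)
  let cl : Fin 2 → MvPowerSeries (Fin 2) (Curv2.cpl R) → R ⧸ J :=
    fun i s => ρ (coeff (Finsupp.single i 1) s)
  have cl_mul : ∀ i s t, cl i (s * t) = c0 s * cl i t + cl i s * c0 t := fun i s t => by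
    show ρ (coeff (Finsupp.single i 1) (s * t)) = _
    rw [coeff_mul, Finsupp.antidiagonal_single, Finset.sum_map,
      show Finset.HasAntidiagonal.antidiagonal 1 = ({(0, 1), (1, 0)} : Finset (ℕ × ℕ)) from rfl,
      Finset.sum_pair (by simp), map_add]
    simp [c0, cl, map_mul]
  have cl_X : ∀ i j : Fin 2, cl i (X j) = if i = j then 1 else 0 := fun i j => by
    show ρ (coeff (Finsupp.single i 1) (X j)) = _
    rw [coeff_index_single_X]
    split <;> simp
  have cl_C : ∀ i c, cl i (C c) = 0 := fun i c => by
    show ρ (coeff (Finsupp.single i 1) (C c)) = _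
    rw [coeff_C, if_neg (by simp)]
    simp
  set f : MvPowerSeries (Fin 2) (Curv2.cpl R) :=
    X 0 * X 1 - C (algebraMap R (Curv2.cpl R) b) with hf
  have hb' : Ideal.Quotient.mk J b = 0 :=
    Ideal.Quotient.eq_zero_iff_mem.mpr (Ideal.mem_sup_left (Ideal.mem_span_singleton_self b))
  have c0f : c0 f = 0 := by simp [c0, hf, hρ, hb']
  have clf : ∀ i, cl i f = 0 := fun i => by
    have h1 : cl i f = cl i (X 0 * X 1) - cl i (C (algebraMap R (Curv2.cpl R) b)) := by
      simp [cl, hf]
    rw [h1, cl_mul, cl_C]
    simp [c0]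
  -- the lifts of the images of `x` and `y`
  set mka := Ideal.Quotient.mk (Ideal.span {(X 0 * X 1 - C (algebraMap R (Curv2.cpl R) a) :
    MvPowerSeries (Fin 2) (Curv2.cpl R))})
  set mkb := Ideal.Quotient.mk (Ideal.span {f})
  have hsurj : ∀ q, ∃ s, mkb s = q := Ideal.Quotient.mk_surjective
  obtain ⟨P, hP⟩ := hsurj (e (mka (X 0)))
  obtain ⟨Q, hQ⟩ := hsurj (e (mka (X 1)))
  have hPQ : mkb (P * Q) = mkb (C (algebraMap R (Curv2.cpl R) a)) := by
    rw [map_mul, hP, hQ, ← map_mul, ← map_mul, ← he a]
    exact congrArg e (Ideal.Quotient.eq.mpr (Ideal.mem_span_singleton_self _))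
  obtain ⟨g, hg⟩ := Ideal.mem_span_singleton'.mp (Ideal.Quotient.eq.mp hPQ)
  have h00 : c0 P * c0 Q = Ideal.Quotient.mk J a := by
    have := congrArg c0 hg.symm
    have hz : c0 (g * f) = 0 := by simp only [c0, map_mul] at c0f ⊢; rw [c0f, mul_zero]
    rw [hz] at this
    simpa [c0, hρ, sub_eq_zero] using this
  have hlin : ∀ i, c0 P * cl i Q + cl i P * c0 Q = 0 := fun i => by
    have := congrArg (cl i) hg.symm
    rw [cl_mul i g f, c0f, clf, mul_zero, mul_zero, add_zero] at this
    have h1 : cl i (P * Q - C (algebraMap R (Curv2.cpl R) a)) =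
        cl i (P * Q) - cl i (C (algebraMap R (Curv2.cpl R) a)) := by simp [cl]
    rwa [h1, cl_C, sub_zero, cl_mul] at this
  -- the linear part is invertible
  have hres0 : ∀ s : MvPowerSeries (Fin 2) (Curv2.cpl R), ∀ q, e (mka s) = mkb q →
      ¬ IsUnit s → res (c0 q) = 0 := by
    intro s q hsq hs
    by_contra hne
    apply hs
    have hq : IsUnit q := by
      rw [isUnit_iff_constantCoeff]
      by_contra hnu
      apply hne
      have hmem : constantCoeff q ∈ IsLocalRing.maximalIdeal (Curv2.cpl R) := hnu
      have : constantCoeff q ∈ RingHom.ker (res.comp ρ) := by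
        haveI := RingHom.ker_isPrime (res.comp ρ)
        have hmax : (RingHom.ker (res.comp ρ)).IsMaximal := by
          refine RingHom.ker_isMaximal_of_surjective _ ?_
          rw [RingHom.coe_comp]
          exact (Ideal.Quotient.factor_surjective hJle).comp
            (show Function.Surjective ρ from (Ideal.Quotient.factor_surjective
              (show IsLocalRing.maximalIdeal R ^ N ≤ J from le_sup_right)).comp
              (AdicCompletion.surjective_evalₐ _ N))
        rwa [IsLocalRing.eq_maximalIdeal hmax]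
      exact this
    have h1 : IsUnit (mka s) := (isUnit_map_iff e (mka s)).mp (hsq ▸ hq.map mkb)
    obtain ⟨w, hw⟩ := h1.exists_right_inv
    obtain ⟨w, rfl⟩ := Ideal.Quotient.mk_surjective w
    rw [← map_mul, ← map_one mka, Ideal.Quotient.eq] at hw
    obtain ⟨z, hz⟩ := Ideal.mem_span_singleton'.mp hw
    rw [isUnit_iff_constantCoeff]
    have h2 := congrArg constantCoeff hz
    simp only [map_mul, map_sub, map_one, constantCoeff_X, constantCoeff_C, zero_mul,
      zero_sub] at h2
    have ham : algebraMap R (Curv2.cpl R) a ∈ IsLocalRing.maximalIdeal (Curv2.cpl R) := by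
      intro hu
      have h4 := hu.map (AdicCompletion.evalOneₐ (IsLocalRing.maximalIdeal R))
      rw [AlgHom.commutes, Ideal.Quotient.algebraMap_eq,
        Ideal.Quotient.eq_zero_iff_mem.mpr ha] at h4
      haveI : Nontrivial (R ⧸ IsLocalRing.maximalIdeal R) :=
        Ideal.Quotient.nontrivial_iff.mpr (IsLocalRing.maximalIdeal.isMaximal R).ne_top
      exact not_isUnit_zero h4
    refine isUnit_of_mul_isUnit_left (y := constantCoeff w) ?_
    rw [show constantCoeff s * constantCoeff w = 1 - constantCoeff z * algebraMap R (Curv2.cpl R) a by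
      linear_combination -h2]
    exact IsLocalRing.isUnit_one_sub_self_of_mem_nonunits _ (Ideal.mul_mem_left _ _ ham)
  have hP0 : res (c0 P) = 0 := hres0 (X 0) P hP.symm (by
    rw [isUnit_iff_constantCoeff, constantCoeff_X]; exact not_isUnit_zero)
  have hQ0 : res (c0 Q) = 0 := hres0 (X 1) Q hQ.symm (by
    rw [isUnit_iff_constantCoeff, constantCoeff_X]; exact not_isUnit_zero)
  have hspan : ∀ (u v : IsLocalRing.ResidueField R),
      (u * res (cl 0 P) + v * res (cl 1 P) = 0) → (u * res (cl 0 Q) + v * res (cl 1 Q) = 0) →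
      u = 0 ∧ v = 0 := by
    intro u v hu hv
    let D : MvPowerSeries (Fin 2) (Curv2.cpl R) →+* DualNumber (IsLocalRing.ResidueField R) :=
      { toFun := fun s => TrivSqZeroExt.inl (res (c0 s)) +
          TrivSqZeroExt.inr (u * res (cl 0 s) + v * res (cl 1 s))
        map_one' := by
          have h1 : ∀ i, cl i (1 : MvPowerSeries (Fin 2) (Curv2.cpl R)) = 0 := fun i => by
            rw [← map_one (C : Curv2.cpl R →+* MvPowerSeries (Fin 2) (Curv2.cpl R))]
            exact cl_C i 1
          simp [h1, c0]
        map_zero' := by simp [c0, cl]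
        map_add' := fun s t => by
          ext <;> simp [c0, cl, mul_add] <;> ring
        map_mul' := fun s t => by
          ext
          · simp [c0]
          · simp [cl_mul, TrivSqZeroExt.snd_mul]
            simp [c0]
            ring }
    have hD : ∀ s ∈ Ideal.span {f}, D s = 0 := by
      intro s hs
      obtain ⟨z, rfl⟩ := Ideal.mem_span_singleton'.mp hs
      rw [map_mul]
      have : D f = 0 := by
        show TrivSqZeroExt.inl (res (c0 f)) +
          TrivSqZeroExt.inr (u * res (cl 0 f) + v * res (cl 1 f)) = 0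
        simp [c0f, clf]
      rw [this, mul_zero]
    let Db : DualGr.nodeRing R b →+* DualNumber (IsLocalRing.ResidueField R) :=
      Ideal.Quotient.lift _ D hD
    let E : MvPowerSeries (Fin 2) (Curv2.cpl R) →+* DualNumber (IsLocalRing.ResidueField R) :=
      Db.comp (e.toRingHom.comp mka)
    have hER : ∀ r : R, E (C (algebraMap R (Curv2.cpl R) r)) =
        TrivSqZeroExt.inl (IsLocalRing.residue R r) := fun r => by
      show Db (e (mka (C _))) = _
      rw [he r]
      show D (C _) = _
      show (TrivSqZeroExt.inl (res (c0 _)) : DualNumber (IsLocalRing.ResidueField R)) + (TrivSqZeroExt.inr _ : DualNumber (IsLocalRing.ResidueField R)) = _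
      rw [cl_C, cl_C]
      simp [c0, hρ]
      rfl
    have hfg : (IsLocalRing.maximalIdeal R).FG := IsNoetherian.noetherian _
    have hEC : ∀ c : Curv2.cpl R, TrivSqZeroExt.snd (E (C c)) = (0 : IsLocalRing.ResidueField R) := fun c => by
      obtain ⟨r, hr⟩ := Ideal.Quotient.mk_surjective
        (AdicCompletion.evalOneₐ (IsLocalRing.maximalIdeal R) c)
      have hm : c - algebraMap R (Curv2.cpl R) r ∈
          (IsLocalRing.maximalIdeal R).map (algebraMap R (Curv2.cpl R)) := by
        rw [← AdicCompletion.ker_evalOneₐ_eq_map _ hfg, RingHom.mem_ker]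
        show AdicCompletion.evalOneₐ _ (c - algebraMap R _ r) = 0
        rw [map_sub, AlgHom.commutes, Ideal.Quotient.algebraMap_eq, hr, sub_self]
      have hzero : (E.comp C) (c - algebraMap R (Curv2.cpl R) r) = 0 := by
        refine (Ideal.map_le_iff_le_comap.mpr ?_ : (IsLocalRing.maximalIdeal R).map
          (algebraMap R (Curv2.cpl R)) ≤ RingHom.ker (E.comp C)) hm
        intro r hr
        show E (C (algebraMap R (Curv2.cpl R) r)) = 0
        rw [hER, show IsLocalRing.residue R r = 0 from
          Ideal.Quotient.eq_zero_iff_mem.mpr hr, TrivSqZeroExt.inl_zero]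
      rw [map_sub, sub_eq_zero] at hzero
      change E (C c) = E (C (algebraMap R (Curv2.cpl R) r)) at hzero
      rw [hER] at hzero
      rw [hzero, TrivSqZeroExt.snd_inl]
    have hEX : E (X 0) = 0 ∧ E (X 1) = 0 := by
      constructor
      · show Db (e (mka (X 0))) = 0
        rw [← hP]
        show (TrivSqZeroExt.inl (res (c0 P)) : DualNumber (IsLocalRing.ResidueField R)) + TrivSqZeroExt.inr _ = 0
        rw [hP0, hu]; simp
      · show Db (e (mka (X 1))) = 0
        rw [← hQ]
        show (TrivSqZeroExt.inl (res (c0 Q)) : DualNumber (IsLocalRing.ResidueField R)) + TrivSqZeroExt.inr _ = 0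
        rw [hQ0, hv]; simp
    have hall : ∀ s, TrivSqZeroExt.snd (E s) = (0 : IsLocalRing.ResidueField R) := fun s => by
      let s' : MvPowerSeries (Fin 2) (Curv2.cpl R) :=
        fun n => if n 0 = 0 ∧ n ≠ 0 then coeff n s else 0
      have hs' : ∀ n, coeff n s' = if n 0 = 0 ∧ n ≠ 0 then coeff n s else 0 := fun n => rfl
      obtain ⟨p, hp⟩ : X (0 : Fin 2) ∣ s - C (constantCoeff s) - s' := by
        rw [X_dvd_iff]
        intro n hn
        rw [map_sub, map_sub, coeff_C, hs']
        by_cases h0 : n = 0
        · simp [h0]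
        · simp [h0, hn]
      obtain ⟨q, hq⟩ : X (1 : Fin 2) ∣ s' := by
        rw [X_dvd_iff]
        intro n hn
        rw [hs', if_neg]
        rintro ⟨h0, h1⟩
        apply h1
        ext i
        fin_cases i <;> simpa
      rw [show s = C (constantCoeff s) + X 0 * p + X 1 * q by
        rw [← hp, ← hq]; ring]
      rw [map_add, map_add, map_mul, map_mul, hEX.1, hEX.2]
      simp [hEC]
    have hlast : ∀ i : Fin 2, TrivSqZeroExt.snd (D (X i)) = (0 : IsLocalRing.ResidueField R) := fun i => by
      obtain ⟨s, hs⟩ := Ideal.Quotient.mk_surjective (e.symm (mkb (X i)))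
      have h1 : E s = D (X i) := by
        show Db (e (mka s)) = _
        rw [hs, RingEquiv.apply_symm_apply]
        rfl
      rw [← h1]
      exact hall s
    constructor
    · have := hlast 0
      simpa [D, cl_X] using this
    · have := hlast 1
      simpa [D, cl_X] using this
  have hdet : res (cl 0 P) * res (cl 1 Q) - res (cl 1 P) * res (cl 0 Q) ≠ 0 := by
    intro hd
    obtain ⟨h1, h2⟩ := hspan (res (cl 1 P)) (-res (cl 0 P)) (by ring) (by linear_combination -hd)
    obtain ⟨h3, h4⟩ := hspan (res (cl 1 Q)) (-res (cl 0 Q)) (by linear_combination hd) (by ring)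
    rw [neg_eq_zero] at h2 h4
    exact one_ne_zero (hspan 1 0 (by rw [h2, h1]; ring) (by rw [h4, h3]; ring)).1
  have hdetu : IsUnit (cl 0 P * cl 1 Q - cl 1 P * cl 0 Q) := hres _ (by simpa using hdet)
  have : c0 P * (cl 0 P * cl 1 Q - cl 1 P * cl 0 Q) = 0 := by
    linear_combination cl 0 P * hlin 1 - cl 1 P * hlin 0
  have hzero : c0 P = 0 := (hdetu.mul_left_eq_zero).mp this
  rw [← Ideal.Quotient.eq_zero_iff_mem, ← h00, hzero, zero_mul]


open IsLocalRing in
/-- Let R be a Noetherian local ring, A a local ring with a ring map φ : R → A, and a, b two elements of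
the maximal ideal of R such that A is formally a node over R both of thickness (a) and of thickness
(b): the completion of A is isomorphic, compatibly with R, to R̂[[x,y]]/(xy − a) and also to
R̂[[x,y]]/(xy − b). Then aR = bR. (This is the uniqueness assertion: the element in a node
presentation is not unique but the principal ideal it generates is; it is stated for presentations
with the element taken in R, whose ideal in R is then determined.) -/
theorem result
    (R A : Type u) [CommRing R] [IsLocalRing R] [IsNoetherianRing R] [CommRing A] [IsLocalRing A]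
    (φ : R →+* A) (a b : R) (ha : a ∈ maximalIdeal R) (hb : b ∈ maximalIdeal R)
    (h₁ : DualGr.IsThickNode φ a) (h₂ : DualGr.IsThickNode φ b) :
    Ideal.span {a} = Ideal.span {b} := by
  obtain ⟨e₁, he₁⟩ := h₁
  obtain ⟨e₂, he₂⟩ := h₂
  refine le_antisymm ((Ideal.span_singleton_le_iff_mem _).mpr ?_)
    ((Ideal.span_singleton_le_iff_mem _).mpr ?_)
  · exact helper_node_zero a b ha hb (e₁.symm.trans e₂) fun r => by
      rw [RingEquiv.trans_apply, ← he₁ r, RingEquiv.symm_apply_apply, he₂ r]
  · exact helper_node_zero b a hb ha (e₂.symm.trans e₁) fun r => by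
      rw [RingEquiv.trans_apply, ← he₂ r, RingEquiv.symm_apply_apply, he₁ r]

end Groth.Agent.S17737
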