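import Groth.Statements.S17746
import Groth.Agent.H7Lim.NormalizationNormal
import Groth.Agent.H8Props.DvrCurve.GeomInt
import Groth.Agent.H28Neron.NormalSmooth
import Groth.Agent.H8Props.FibreStalk
import Groth.Agent.H3Cyc.SpFun
import Groth.Agent.H3Cyc.Chow
import Groth.Agent.H22Alg.CycBasic
import Groth.Agent.S9332
import Mathlib

set_option autoImplicit false
universe u
open CategoryTheory AlgebraicGeometry
open QsChow

set_option backward.isDefEq.respectTransparency.types false
set_option linter.style.haveILetI false

namespace Groth.Agent.S17746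

open Limits TopologicalSpace IsLocalRing
open scoped TensorProduct IntermediateField

/-- A field whose tensor product with a finite Galois extension is not a field meets it nontrivially. -/
theorem exists_common {k L Q : Type u} [Field k] [Field L] [Field Q] [Algebra k L] [Algebra k Q]
    [FiniteDimensional k L] [IsGalois k L] (h : ¬ IsField (Q ⊗[k] L)) :
    ∃ (x : L) (c : Q), x ∉ (⊥ : IntermediateField k L) ∧ IsIntegral k c ∧ minpoly k c = minpoly k x := by
  classical
  obtain ⟨θ, hθ⟩ := Field.exists_primitive_element k L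
  let f := minpoly k θ
  have hint : IsIntegral k θ := Algebra.IsIntegral.isIntegral θ
  have hf : f.Monic := minpoly.monic hint
  let fQ := f.map (algebraMap k Q)
  have hfQ : fQ.Monic := hf.map _
  have hnirr : ¬ Irreducible fQ := by
    intro hirr
    apply h
    haveI : Fact (Irreducible fQ) := ⟨hirr⟩
    let pb := IntermediateField.adjoin.powerBasis hint
    let e : L ≃ₐ[k] k⟮θ⟯ := (IntermediateField.topEquiv.symm).trans (IntermediateField.equivOfEq hθ.symm)
    have hgen : pb.gen = IntermediateField.AdjoinSimple.gen k θ := rfl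
    let pL : PowerBasis k L := pb.map e.symm
    have hroot : Polynomial.aeval (AdjoinRoot.root fQ) (minpoly k pL.gen) = 0 := by
      have h1 : pL.gen = θ := rfl
      rw [h1]
      have := AdjoinRoot.eval₂_root fQ
      rw [show fQ = f.map (algebraMap k Q) from rfl, Polynomial.eval₂_map] at this
      exact this
    let ψ : L →ₐ[k] AdjoinRoot fQ := pL.lift (AdjoinRoot.root fQ) hroot
    let Φ : Q ⊗[k] L →ₐ[Q] AdjoinRoot fQ := Algebra.TensorProduct.lift (Algebra.ofId Q _) ψ fun _ _ => Commute.all _ _
    have hsurj : Function.Surjective Φ := by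
      rw [← AlgHom.range_eq_top, eq_top_iff, ← AdjoinRoot.adjoinRoot_eq_top, Algebra.adjoin_le_iff,
        Set.singleton_subset_iff]
      exact ⟨1 ⊗ₜ pL.gen, by simp [Φ, ψ]⟩
    have hdim : Module.finrank Q (Q ⊗[k] L) = Module.finrank Q (AdjoinRoot fQ) := by
      rw [Module.finrank_baseChange, pL.finrank, (AdjoinRoot.powerBasis' hfQ).finrank,
        AdjoinRoot.powerBasis'_dim, hf.natDegree_map]
      show pb.dim = _
      exact IntermediateField.adjoin.powerBasis_dim hint ▸ rfl
    haveI := (AdjoinRoot.powerBasis' hfQ).finite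
    have hbij : Function.Bijective Φ :=
      ⟨(LinearMap.injective_iff_surjective_of_finrank_eq_finrank hdim (f := Φ.toLinearMap)).2 hsurj, hsurj⟩
    exact (AlgEquiv.ofBijective Φ hbij).toMulEquiv.isField (Field.toIsField _)
  have hne1 : fQ ≠ 1 := fun e => by
    have := congrArg Polynomial.natDegree e
    rw [hf.natDegree_map, Polynomial.natDegree_one] at this
    exact (minpoly.natDegree_pos hint).ne' this
  obtain ⟨g, hgm, hgirr, hgdvd⟩ := Polynomial.exists_monic_irreducible_factor fQ
    (fun hu => hne1 (hfQ.eq_one_of_isUnit hu))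
  have hlt : g.natDegree < f.natDegree := by
    have hle := Polynomial.natDegree_le_of_dvd hgdvd hfQ.ne_zero
    rw [hf.natDegree_map] at hle
    refine lt_of_le_of_ne hle fun e => hnirr ?_
    rwa [← Polynomial.eq_of_monic_of_dvd_of_natDegree_le hgm hfQ hgdvd (by rw [hf.natDegree_map, e])] at hgirr
  let Ω := AlgebraicClosure Q
  let ι : L →ₐ[k] Ω := IsAlgClosed.lift
  obtain ⟨n, hn⟩ : ∃ n, g.coeff n ∉ Set.range (algebraMap k Q) := by
    by_contra hcon
    push Not at hcon
    obtain ⟨g₀, hg₀, hg₀d, hg₀m⟩ := Polynomial.lifts_and_natDegree_eq_and_monic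
      ((Polynomial.lifts_iff_coeff_lifts g).2 hcon) hgm
    have hdvd : g₀ ∣ f := by
      rw [← Polynomial.map_dvd_map (algebraMap k Q) (algebraMap k Q).injective hg₀m, hg₀]
      exact hgdvd
    rcases (minpoly.irreducible hint).dvd_iff.1 hdvd with hu | ha
    · exact (hgirr.natDegree_pos).ne' (hg₀d ▸ Polynomial.natDegree_eq_zero_of_isUnit hu)
    · have := Polynomial.natDegree_eq_of_degree_eq (Polynomial.degree_eq_degree_of_associated ha)
      rw [hg₀d] at this
      exact hlt.ne this.symm
  have hmem : algebraMap Q Ω (g.coeff n) ∈ ι.range := by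
    have hsp : (f.map (algebraMap k L)).Splits := IsGalois.splits k θ
    have hΩ : fQ.map (algebraMap Q Ω) = (f.map (algebraMap k L)).map ι.toRingHom := by
      rw [Polynomial.map_map, Polynomial.map_map, ← IsScalarTower.algebraMap_eq]
      erw [ι.comp_algebraMap]
    have hroots : ∀ r ∈ (g.map (algebraMap Q Ω)).roots, r ∈ ι.range := by
      intro r hr
      have h1 : r ∈ (fQ.map (algebraMap Q Ω)).roots :=
        Multiset.mem_of_le (Polynomial.roots.le_of_dvd ((hfQ.map _).ne_zero) (Polynomial.map_dvd _ hgdvd)) hr
      rw [hΩ, hsp.roots_map] at h1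
      obtain ⟨a, -, ha⟩ := Multiset.mem_map.1 h1
      exact ⟨a, ha⟩
    have hprod := (IsAlgClosed.splits (g.map (algebraMap Q Ω))).eq_prod_roots_of_monic (hgm.map _)
    have hl : g.map (algebraMap Q Ω) ∈ Polynomial.lifts (ι.toRingHom) := by
      rw [hprod]
      refine multiset_prod_mem _ fun q hq => ?_
      obtain ⟨r, hr, rfl⟩ := Multiset.mem_map.1 hq
      obtain ⟨a, rfl⟩ := hroots r hr
      exact ⟨Polynomial.X - Polynomial.C a, by simp⟩
    have := (Polynomial.lifts_iff_coeff_lifts _).1 hl n
    rwa [Polynomial.coeff_map] at this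
  obtain ⟨x, hx⟩ := hmem
  refine ⟨x, g.coeff n, ?_, ?_, ?_⟩
  · intro hxb
    obtain ⟨a, rfl⟩ := IntermediateField.mem_bot.1 hxb
    refine hn ⟨a, (algebraMap Q Ω).injective ?_⟩
    rw [← IsScalarTower.algebraMap_apply, ← hx]
    exact (ι.commutes a).symm
  · rw [← isIntegral_algebraMap_iff (algebraMap Q Ω).injective, ← hx]
    exact (Algebra.IsIntegral.isIntegral (R := k) x).map ι
  · rw [← minpoly.algebraMap_eq (algebraMap Q Ω).injective, ← hx]
    exact minpoly.algHom_eq ι ι.toRingHom.injective x

/-- The residue field at the generic point of a scheme with disconnected base change is not disjoint from it. -/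
theorem not_isField {k L : Type u} [Field k] [Field L] [Algebra k L] [FiniteDimensional k L] (X : Scheme.{u})
    [X.Over (Spec (CommRingCat.of k))] [IrreducibleSpace X] (hdisc : ¬ ConnectedSpace ↥(Curv2.bc k X L))
    [Nonempty ↥(Curv2.bc k X L)]
    (φ : k →+* X.residueField (genericPoint X))
    (hφ : X.fromSpecResidueField (genericPoint X) ≫ (X ↘ Spec (CommRingCat.of k)) = Spec.map (CommRingCat.ofHom φ)) :
    letI := φ.toAlgebra
    ¬ IsField (X.residueField (genericPoint X) ⊗[k] L) := by
  letI := φ.toAlgebra
  intro hF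
  letI := hF.toField
  let s := Spec.map (CommRingCat.ofHom (algebraMap k L))
  haveI : IsFinite s := (IsFinite.SpecMap_iff _).2 (RingHom.finite_algebraMap.2 inferInstance)
  haveI : Flat s := by
    rw [Flat.SpecMap_iff]
    exact RingHom.flat_algebraMap_iff.2 inferInstance
  let q := Curv2.bcFst k X L
  haveI : IsFinite q := MorphismProperty.pullback_fst (P := @IsFinite) _ _ inferInstance
  haveI : Flat q := MorphismProperty.pullback_fst (P := @Flat) _ _ inferInstance
  let j := pullback.map (X.fromSpecResidueField (genericPoint X) ≫ (X ↘ Spec (CommRingCat.of k))) s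
    (X ↘ Spec (CommRingCat.of k)) s (X.fromSpecResidueField (genericPoint X)) (𝟙 _) (𝟙 _) (by simp) (by simp)
  have hone : ∀ a b, q a = genericPoint X → q b = genericPoint X → a = b := by
    intro a b ha hb
    have hr : ∀ c, q c = genericPoint X → c ∈ Set.range j := by
      intro c hc
      rw [Scheme.Pullback.range_map]
      exact ⟨by rw [Set.mem_preimage, Scheme.range_fromSpecResidueField]; exact hc, by simp⟩
    obtain ⟨a', rfl⟩ := hr a ha
    obtain ⟨b', rfl⟩ := hr b hb
    have e : Spec (CommRingCat.of (X.residueField (genericPoint X) ⊗[k] L)) ≅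
        pullback (X.fromSpecResidueField (genericPoint X) ≫ (X ↘ Spec (CommRingCat.of k))) s :=
      (pullbackSpecIso k (X.residueField (genericPoint X)) L).symm ≪≫ pullback.congrHom hφ.symm rfl
    haveI : Subsingleton ↥(pullback (X.fromSpecResidueField (genericPoint X) ≫ (X ↘ Spec (CommRingCat.of k))) s) :=
      e.inv.homeomorph.injective.subsingleton (β := PrimeSpectrum (X.residueField (genericPoint X) ⊗[k] L))
    rw [Subsingleton.elim a' b']
  apply hdisc
  refine @ConnectedSpace.mk _ _ ?_ inferInstance
  rw [preconnectedSpace_iff_clopen]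
  intro C hC
  by_contra hcon
  simp only [not_or] at hcon
  have hmeet : ∀ D : Set ↥(Curv2.bc k X L), IsOpen D → D.Nonempty → ∃ a ∈ D, q a = genericPoint X := by
    intro D hD hne
    obtain ⟨d, hd⟩ := hne
    have hgen := Flat.generalizingMap q
    obtain ⟨a, ha, hqa⟩ := hgen (genericPoint_specializes (q d))
    exact ⟨a, ha.mem_open hD hd, hqa⟩
  obtain ⟨a, ha, hqa⟩ := hmeet C hC.isOpen (Set.nonempty_iff_ne_empty.2 hcon.1)
  obtain ⟨b, hb, hqb⟩ := hmeet Cᶜ hC.isClosed.isOpen_compl (Set.nonempty_compl.2 hcon.2)
  exact hb (hone a b hqa hqb ▸ ha)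

end Groth.Agent.S17746

namespace Groth.Agent.S17746

/-- For a field extension K of k (separable algebraic) and a k-scheme X with weight function δ, call
norm subgroup of CH_j(X) the subgroup generated by the classes of the push-forwards to X of j-cycles
on the base changes X_F, over the intermediate fields F of K over k that are finite over k and
different from k (the quotient by it is the degree-j part of the conormed Chow group of X relative
to K over k). Let L be an intermediate field of K over k that is finite Galois over k, and let X be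
a smooth variety over k (smooth, separated and quasi-compact structure morphism) that is connected
and whose base change X_L is not connected. Then for every weight function δ on X (a dimension
function induced from weight 0 on Spec k) and every integer j the norm subgroup of CH_j(X) relative
to K over k is the whole Chow group: all conormed Chow groups of X vanish. -/
theorem result
    (k : Type u) [Field k] (K : Type u) [Field K] [Algebra k K] [Algebra.IsSeparable k K]
    (L : IntermediateField k K) [FiniteDimensional k L] [IsGalois k L]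
    (X : Scheme.{u}) [X.Over (Spec (CommRingCat.of k))]
    (hsm : Smooth (X ↘ Spec (CommRingCat.of k))) [IsSeparated (X ↘ Spec (CommRingCat.of k))]
    [QuasiCompact (X ↘ Spec (CommRingCat.of k))]
    [ConnectedSpace X] (hdisc : ¬ ConnectedSpace ↥(Curv2.bc k X L))
    (δ : X → ℤ) (hδ : Cyc.IsSetup X δ)
    (hcompat : Cyc.DeltaCompat (X ↘ Spec (CommRingCat.of k)) δ (fun _ => 0)) (j : ℤ) :
    QsChow.normSubgroup k K X δ j = ⊤ := by
  classical
  let π := X ↘ Spec (CommRingCat.of k)
  haveI := hsm
  haveI : IsIntegral X := H8Props.DvrCurve.isIntegral_of_smooth_connected π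
  haveI : IsLocallyNoetherian X := LocallyOfFiniteType.isLocallyNoetherian π
  have hN : ∀ y : X, IsIntegrallyClosed (X.presheaf.stalk y) := fun y =>
    (H28Neron.isNormalScheme_of_smooth π (fun t => by
      have h := H8Props.FibreStalk.isField_stalk_Spec (CommRingCat.of k) (Field.toIsField k) t
      exact ⟨h.isDomain, letI := h.toField; inferInstance⟩) y).2
  haveI : Surjective (Spec.map (CommRingCat.ofHom (algebraMap k L))) :=
    ⟨fun t => ⟨IsLocalRing.closedPoint L, Subsingleton.elim (α := PrimeSpectrum k) _ _⟩⟩
  haveI : Surjective (Curv2.bcFst k X L) := MorphismProperty.pullback_fst (P := @Surjective) _ _ inferInstance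
  haveI : Nonempty ↥(Curv2.bc k X L) := ⟨((Curv2.bcFst k X L).surjective (genericPoint X)).choose⟩
  let st : CommRingCat.of k ⟶ Γ(X, ⊤) := (Scheme.ΓSpecIso (CommRingCat.of k)).inv ≫ π.appTop
  have hπ : X.toSpecΓ ≫ Spec.map st = π := by
    show X.toSpecΓ ≫ Spec.map (_ ≫ π.appTop) = π
    rw [Spec.map_comp, ← reassoc_of% (Scheme.toSpecΓ_naturality π), toSpecΓ_SpecMap_ΓSpecIso_inv, Category.comp_id]
  let ev : Γ(X, ⊤) ⟶ X.residueField (genericPoint X) := X.presheaf.germ ⊤ (genericPoint X) trivial ≫ X.residue (genericPoint X)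
  let φ : k →+* X.residueField (genericPoint X) := (st ≫ ev).hom
  have hφ : X.fromSpecResidueField (genericPoint X) ≫ π = Spec.map (CommRingCat.ofHom φ) := by
    show X.fromSpecResidueField (genericPoint X) ≫ π = Spec.map (st ≫ ev)
    rw [← hπ, Scheme.fromSpecResidueField, Category.assoc, Scheme.fromSpecStalk_toSpecΓ_assoc,
      ← Spec.map_comp, ← Spec.map_comp]
    rfl
  letI algQ : Algebra k (X.residueField (genericPoint X)) := φ.toAlgebra
  obtain ⟨x, c, hxbot, hcint, hmin⟩ := exists_common (k := k) (L := L) (Q := X.residueField (genericPoint X))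
    (not_isField X hdisc φ hφ)
  obtain ⟨z, hz⟩ := X.residue_surjective (genericPoint X) c
  have hres : Function.Injective (X.residue (genericPoint X)).hom :=
    RingHom.injective (R := X.functionField) _
  obtain ⟨w, hw⟩ := H7Lim.exists_germ_eq_of_isIntegralElem hN (O := (⊤ : X.Opens)) trivial (z := z) (by
    refine ⟨(minpoly k c).map st.hom, (minpoly.monic hcint).map _, hres ?_⟩
    rw [map_zero, Polynomial.hom_eval₂, Polynomial.eval₂_map,
      show (X.residue (genericPoint X)).hom z = c from hz]
    exact minpoly.aeval k c)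
  have hev : Function.Injective ev.hom := fun a b h => germ_injective_of_isIntegral X (genericPoint X) (show genericPoint X ∈ (⊤ : X.Opens) from trivial) (hres h)
  letI algΓ : Algebra k Γ(X, ⊤) := st.hom.toAlgebra
  have hroot : Polynomial.aeval w (minpoly k c) = 0 := by
    apply hev
    rw [map_zero, Polynomial.aeval_def, Polynomial.hom_eval₂,
      show ev.hom w = c from (congrArg (X.residue (genericPoint X)).hom hw).trans hz]
    exact minpoly.aeval k c
  let xK : K := (x : K)
  have hmK : minpoly k xK = minpoly k x := minpoly.algHom_eq L.val L.val.injective x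
  have hxint : IsIntegral k xK := Algebra.IsIntegral.isIntegral xK
  let F : IntermediateField k K := IntermediateField.adjoin k {xK}
  haveI : FiniteDimensional k F := IntermediateField.adjoin.finiteDimensional hxint
  have hF : F ≠ ⊥ := fun e => hxbot (by
    rw [IntermediateField.adjoin_simple_eq_bot_iff, IntermediateField.mem_bot] at e
    obtain ⟨a, ha⟩ := e
    exact IntermediateField.mem_bot.2 ⟨a, Subtype.ext ha⟩)
  let pb := IntermediateField.adjoin.powerBasis hxint
  let lam : F →ₐ[k] Γ(X, ⊤) := pb.lift w (by
    rw [show minpoly k pb.gen = minpoly k xK from IntermediateField.minpoly_gen k xK, hmK, ← hmin]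
    exact hroot)
  let υ : X ⟶ Spec (CommRingCat.of F) := X.toSpecΓ ≫ Spec.map (CommRingCat.ofHom lam.toRingHom)
  have hυ : υ ≫ Spec.map (CommRingCat.ofHom (algebraMap k F)) = π := by
    rw [Category.assoc, ← Spec.map_comp, ← CommRingCat.ofHom_comp]
    erw [lam.comp_algebraMap]
    exact hπ
  let sF : X ⟶ Curv2.bc k X F := Limits.pullback.lift (𝟙 X) υ (by rw [Category.id_comp]; exact hυ.symm)
  have hsF : sF ≫ Curv2.bcFst k X F = 𝟙 X := Limits.pullback.lift_fst _ _ _
  haveI : IsFinite (Spec.map (CommRingCat.ofHom (algebraMap k F))) :=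
    (IsFinite.SpecMap_iff _).2 (RingHom.finite_algebraMap.2 inferInstance)
  haveI : IsFinite (Curv2.bcFst k X F) := MorphismProperty.pullback_fst (P := @IsFinite) _ _ inferInstance
  haveI : IsClosedImmersion (sF ≫ Curv2.bcFst k X F) := by rw [hsF]; infer_instance
  haveI : IsClosedImmersion sF := IsClosedImmersion.of_comp sF (Curv2.bcFst k X F)
  let δF : ↥(Curv2.bc k X F) → ℤ := δ ∘ ⇑(Curv2.bcFst k X F).base
  have hfst : Cyc.DeltaCompat (Curv2.bcFst k X F) δF δ := fun y => by
    refine ⟨0, ?_, by simp [δF]⟩
    let f := Curv2.bcFst k X F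
    haveI : IsFinite (f.fiberToSpecResidueField (f y)) :=
      MorphismProperty.pullback_snd (P := @IsFinite) _ _ inferInstance
    haveI : Finite (f.fiber (f y)) := by
      have := (f.fiberToSpecResidueField (f y)).finite_preimage_singleton (IsLocalRing.closedPoint _)
      exact Set.finite_univ_iff.1 (this.subset fun w _ => Subsingleton.elim (α := PrimeSpectrum _) _ _)
    haveI : JacobsonSpace (f.fiber (f y)) := LocallyOfFiniteType.jacobsonSpace (f.fiberToSpecResidueField (f y))
    letI := (f.residueFieldMap y).hom.toAlgebra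
    haveI : Module.Finite (X.residueField (f y)) ((Curv2.bc k X F).residueField y) :=
      (S9332.result f y).1 (isClosed_discrete _)
    exact_mod_cast trdeg_eq_zero (R := X.residueField (f y)) (A := (Curv2.bc k X F).residueField y)
  have hs : Cyc.DeltaCompat sF δ δF := by
    have h := H3Cyc.SpFun.deltaCompat_preimmersion sF δF
    rwa [show (fun y => δF (sF y)) = δ from funext fun y => by
      show δ (Curv2.bcFst k X F (sF y)) = δ y
      rw [← Scheme.Hom.comp_apply, hsF]; rfl] at h
  rw [eq_top_iff]
  intro c' _
  obtain ⟨⟨α, hα⟩, rfl⟩ := QuotientAddGroup.mk'_surjective (ChowOps.ratTriv X δ j) c'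
  have hmap : AlgebraicCycle.map (Curv2.bcFst k X F) δF δ (AlgebraicCycle.map sF δ δF α) = α := by
    rw [H22Alg.CycBasic.map_map sF (Curv2.bcFst k X F) hs hfst]
    have key : ∀ (g : X ⟶ X) [QuasiCompact g], g = 𝟙 X → AlgebraicCycle.map g δ δ α = α := by
      rintro g _ rfl; exact AlgebraicCycle.map_id δ α
    exact key _ hsF
  refine AddSubgroup.subset_closure ⟨F, inferInstance, hF, AlgebraicCycle.map sF δ δF α, ?_, ?_, ?_⟩
  · intro y hy
    simp only [AlgebraicCycle.map, Function.locallyFinsupp.map_apply]
    refine finsum_mem_eq_zero_of_forall_eq_zero fun v hv => ?_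
    by_cases h : α v = 0
    · rw [h, zero_mul]
    · rw [AlgebraicCycle.mapCoeff, if_neg, Nat.cast_zero, mul_zero]
      rw [show δ v = j from by_contra fun e => h (hα v e), show sF.base v = y from hv]
      exact Ne.symm hy
  · show AlgebraicCycle.map (Curv2.bcFst k X F) δF δ _ ∈ _
    rw [hmap]; exact hα
  · show _ = ChowOps.clHom X δ j _
    exact congrArg (ChowOps.clHom X δ j) (Subtype.ext hmap.symm)

end Groth.Agent.S17746
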