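import Groth.Statements.S17738
-- import your own Groth.Agent.* helpers here
import Groth.Agent.S17746
import Groth.Agent.H7Lim.NormalizationNormal
import Mathlib

set_option autoImplicit false
universe u
open CategoryTheory AlgebraicGeometry
open QsChow

set_option backward.isDefEq.respectTransparency.types false
set_option linter.style.haveILetI false

namespace Groth.Agent.S17738

open Limits TopologicalSpace IsLocalRing
open scoped TensorProduct

/-- A base change with one point over the generic point is irreducible. -/
theorem not_isField {k L : Type u} [Field k] [Field L] [Algebra k L] [FiniteDimensional k L] (X : Scheme.{u})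
    [X.Over (Spec (CommRingCat.of k))] [IrreducibleSpace X] (hred : ¬ IrreducibleSpace ↥(Curv2.bc k X L))
    (φ : k →+* X.residueField (genericPoint X))
    (hφ : X.fromSpecResidueField (genericPoint X) ≫ (X ↘ Spec (CommRingCat.of k)) = Spec.map (CommRingCat.ofHom φ)) :
    letI := φ.toAlgebra
    ¬ IsField (X.residueField (genericPoint X) ⊗[k] L) := by
  letI := φ.toAlgebra
  intro hF
  letI := hF.toField
  let s := Spec.map (CommRingCat.ofHom (algebraMap k L))
  haveI : Flat s := by
    rw [Flat.SpecMap_iff]
    exact RingHom.flat_algebraMap_iff.2 inferInstance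
  haveI : Surjective s := ⟨fun t => ⟨IsLocalRing.closedPoint L, Subsingleton.elim (α := PrimeSpectrum k) _ _⟩⟩
  let q := Curv2.bcFst k X L
  haveI : Flat q := MorphismProperty.pullback_fst (P := @Flat) _ _ inferInstance
  haveI : Surjective q := MorphismProperty.pullback_fst (P := @Surjective) _ _ inferInstance
  let j := pullback.map (X.fromSpecResidueField (genericPoint X) ≫ (X ↘ Spec (CommRingCat.of k))) s
    (X ↘ Spec (CommRingCat.of k)) s (X.fromSpecResidueField (genericPoint X)) (𝟙 _) (𝟙 _) (by simp) (by simp)
  have hone : ∀ a b, q a = genericPoint X → q b = genericPoint X → a = b := by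
    intro a b ha hb
    have hr : ∀ c, q c = genericPoint X → c ∈ Set.range j := by
      intro c hc
      rw [Scheme.Pullback.range_map]
      exact ⟨by rw [Set.mem_preimage, Scheme.range_fromSpecResidueField]; exact hc, by simp⟩
    obtain ⟨a', rfl⟩ := hr a ha
    obtain ⟨b', rfl⟩ := hr b hb
    have e : Spec (CommRingCat.of (X.residueField (genericPoint X) ⊗[k] L)) ≅
        pullback (X.fromSpecResidueField (genericPoint X) ≫ (X ↘ Spec (CommRingCat.of k))) s :=
      (pullbackSpecIso k (X.residueField (genericPoint X)) L).symm ≪≫ pullback.congrHom hφ.symm rfl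
    haveI : Subsingleton ↥(pullback (X.fromSpecResidueField (genericPoint X) ≫ (X ↘ Spec (CommRingCat.of k))) s) :=
      e.inv.homeomorph.injective.subsingleton (β := PrimeSpectrum (X.residueField (genericPoint X) ⊗[k] L))
    rw [Subsingleton.elim a' b']
  apply hred
  obtain ⟨a, hqa⟩ := q.surjective (genericPoint X)
  have hmem : ∀ D : Set ↥(Curv2.bc k X L), IsOpen D → D.Nonempty → a ∈ D := by
    rintro D hD ⟨d, hd⟩
    obtain ⟨b, hb, hqb⟩ := Flat.generalizingMap q (genericPoint_specializes (q d))
    exact hone b a hqb hqa ▸ hb.mem_open hD hd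
  refine @IrreducibleSpace.mk _ _ ⟨fun U V hU hV hnU hnV => ?_⟩ ⟨a⟩
  exact ⟨a, trivial, hmem U hU (hnU.mono Set.inter_subset_right), hmem V hV (hnV.mono Set.inter_subset_right)⟩

end Groth.Agent.S17738

namespace Groth.Agent.S17738

/-- Take a field k and an irreducible normal k-variety X (a separated scheme of finite type over k all
of whose local rings are integrally closed domains) and let L be a finite Galois extension of k. If
the base change of X to L is not irreducible, then there is an intermediate field F of L over k,
different from k, such that the structure morphism of X factors through a k-morphism from X to Spec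
F. -/
theorem result
    (k : Type u) [Field k] (X : Scheme.{u}) [X.Over (Spec (CommRingCat.of k))]
    [IrreducibleSpace X] (hX : Pi1.IsNormalScheme X)
    [IsSeparated (X ↘ Spec (CommRingCat.of k))] [LocallyOfFiniteType (X ↘ Spec (CommRingCat.of k))]
    [QuasiCompact (X ↘ Spec (CommRingCat.of k))]
    (L : Type u) [Field L] [Algebra k L] [FiniteDimensional k L] [IsGalois k L]
    (hred : ¬ IrreducibleSpace ↥(Curv2.bc k X L)) :
    ∃ F : IntermediateField k L, F ≠ ⊥ ∧
      ∃ g : X ⟶ Spec (CommRingCat.of F),
        g ≫ Spec.map (CommRingCat.ofHom (algebraMap k F)) = X ↘ Spec (CommRingCat.of k) := by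
  classical
  let π := X ↘ Spec (CommRingCat.of k)
  haveI : ∀ x : X, IsDomain (X.presheaf.stalk x) := fun x => (hX x).1
  haveI : IsReduced X := isReduced_of_isReduced_stalk X
  haveI : IsIntegral X := isIntegral_of_irreducibleSpace_of_isReduced X
  have hN : ∀ y : X, IsIntegrallyClosed (X.presheaf.stalk y) := fun y => (hX y).2
  let st : CommRingCat.of k ⟶ Γ(X, ⊤) := (Scheme.ΓSpecIso (CommRingCat.of k)).inv ≫ π.appTop
  have hπ : X.toSpecΓ ≫ Spec.map st = π := by
    show X.toSpecΓ ≫ Spec.map (_ ≫ π.appTop) = π
    rw [Spec.map_comp, ← reassoc_of% (Scheme.toSpecΓ_naturality π), toSpecΓ_SpecMap_ΓSpecIso_inv, Category.comp_id]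
  let ev : Γ(X, ⊤) ⟶ X.residueField (genericPoint X) := X.presheaf.germ ⊤ (genericPoint X) trivial ≫ X.residue (genericPoint X)
  let φ : k →+* X.residueField (genericPoint X) := (st ≫ ev).hom
  have hφ : X.fromSpecResidueField (genericPoint X) ≫ π = Spec.map (CommRingCat.ofHom φ) := by
    show X.fromSpecResidueField (genericPoint X) ≫ π = Spec.map (st ≫ ev)
    rw [← hπ, Scheme.fromSpecResidueField, Category.assoc, Scheme.fromSpecStalk_toSpecΓ_assoc,
      ← Spec.map_comp, ← Spec.map_comp]
    rfl
  letI algQ : Algebra k (X.residueField (genericPoint X)) := φ.toAlgebra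
  obtain ⟨x, c, hxbot, hcint, hmin⟩ := Groth.Agent.S17746.exists_common (k := k) (L := L)
    (Q := X.residueField (genericPoint X)) (not_isField X hred φ hφ)
  obtain ⟨z, hz⟩ := X.residue_surjective (genericPoint X) c
  have hres : Function.Injective (X.residue (genericPoint X)).hom :=
    RingHom.injective (R := X.functionField) _
  obtain ⟨w, hw⟩ := H7Lim.exists_germ_eq_of_isIntegralElem hN (O := (⊤ : X.Opens)) trivial (z := z) (by
    refine ⟨(minpoly k c).map st.hom, (minpoly.monic hcint).map _, hres ?_⟩
    rw [map_zero, Polynomial.hom_eval₂, Polynomial.eval₂_map,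
      show (X.residue (genericPoint X)).hom z = c from hz]
    exact minpoly.aeval k c)
  have hev : Function.Injective ev.hom := fun a b h => germ_injective_of_isIntegral X (genericPoint X) (show genericPoint X ∈ (⊤ : X.Opens) from trivial) (hres h)
  letI algΓ : Algebra k Γ(X, ⊤) := st.hom.toAlgebra
  have hroot : Polynomial.aeval w (minpoly k c) = 0 := by
    apply hev
    rw [map_zero, Polynomial.aeval_def, Polynomial.hom_eval₂,
      show ev.hom w = c from (congrArg (X.residue (genericPoint X)).hom hw).trans hz]
    exact minpoly.aeval k c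
  have hxint : IsIntegral k x := Algebra.IsIntegral.isIntegral x
  let F : IntermediateField k L := IntermediateField.adjoin k {x}
  have hF : F ≠ ⊥ := fun e => hxbot (IntermediateField.adjoin_simple_eq_bot_iff.1 e)
  let pb := IntermediateField.adjoin.powerBasis hxint
  let lam : F →ₐ[k] Γ(X, ⊤) := pb.lift w (by
    rw [show minpoly k pb.gen = minpoly k x from IntermediateField.minpoly_gen k x, ← hmin]
    exact hroot)
  refine ⟨F, hF, X.toSpecΓ ≫ Spec.map (CommRingCat.ofHom lam.toRingHom), ?_⟩
  rw [Category.assoc, ← Spec.map_comp, ← CommRingCat.ofHom_comp]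
  erw [lam.comp_algebraMap]
  exact hπ

end Groth.Agent.S17738
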