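import Groth.Statements.S17741
import Groth.Agent.H23QsChow.Ker

set_option autoImplicit false
open QsChow

namespace Groth.Agent.S17741

/-- For an integer n ≥ 2 put s := n / 2 + 1 (integer part) and, for 2 ≤ j ≤ s, let k_j be the integer
part of the base-2 logarithm of (2n - 1)/(2j - 3); let P := F_2[ε_1, …, ε_s]/(ε_1^n, ε_2^(2^k_2), …,
ε_s^(2^k_s)) over the field F_2 with two elements, and let τ be the F_2-algebra involution of P with
τ(ε_1) = ε_1 and τ(ε_j) = ε_j + ε_1^(2j-3) for 2 ≤ j ≤ s (it exists since (2j-3)·2^k_j ≥ n, and is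
unique); let ē_1 := ε_1, ē_2 := ε_2^2 + ε_1 ε_2, ē_j := ε_j + ε_1^(2j-4) ε_2 for 3 ≤ j ≤ s and x̄ :=
ε_1^(n-1) ε_2, and let φ : F_2[e_1, …, e_s, x] → P be the F_2-algebra homomorphism with e_j ↦ ē_j
and x ↦ x̄. Then the range of φ is exactly the subalgebra of τ-fixed elements of P. (Together with
the description of the kernel of φ this is the printed isomorphism of the τ-fixed subalgebra modulo
ε_1^m with the stated presentation, for every 1 ≤ m ≤ n.) -/
theorem result (n : ℕ) (hn : 2 ≤ n)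
    (τ : QsChow.P n →ₐ[ZMod 2] QsChow.P n) (hτ1 : τ (QsChow.eps n 1) = QsChow.eps n 1)
    (hτ : ∀ j : ℕ, 2 ≤ j → j ≤ QsChow.numVars n →
      τ (QsChow.eps n j) = QsChow.eps n j + QsChow.eps n 1 ^ (2 * j - 3)) :
    (QsChow.phi n).range = AlgHom.equalizer τ (AlgHom.id (ZMod 2) (QsChow.P n)) := by
  exact H23QsChow.range_phi hn ⟨hτ1, hτ⟩

end Groth.Agent.S17741
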