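import Groth.Statements.S17743
import Mathlib
import Groth.Agent.H27FrobPts.Cycles

set_option autoImplicit false
universe u
open CategoryTheory AlgebraicGeometry
open QsChow

namespace Groth.Agent.S17743

/-- Let K be a separable algebraic field extension of k and suppose that some intermediate field L of K
over k is finite Galois over k with degree [L:k] not of the form p^n for a prime p and n ≥ 0 (so
[L:k] has at least two prime factors). Then the subgroup of the Chow group of zero-cycles of Spec k
generated by the classes of push-forwards from Spec F, over the intermediate fields F of K over k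
that are finite over k and different from k, is the whole group; that is, the conormed Chow group of
the point relative to K over k is zero. (Degree 1 = p^0 must be excluded: for L = K = k the quotient
is ℤ.) -/
theorem result
    (k : Type u) [Field k] (K : Type u) [Field K] [Algebra k K] [Algebra.IsSeparable k K]
    (L : IntermediateField k K) [FiniteDimensional k L] [IsGalois k L]
    (hL : ∀ p n : ℕ, p.Prime → Module.finrank k L ≠ p ^ n) :
    QsChow.ptNormSubgroup k K = ⊤ := by
  classical
  haveI hsub : Subsingleton ↥(Spec (CommRingCat.of k)) := inferInstanceAs (Subsingleton (PrimeSpectrum k))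
  -- every multiple [F:k] of the point class lies in the subgroup
  have key : ∀ F : IntermediateField k K, FiniteDimensional k F → F ≠ ⊥ → ∀ (γ : AlgebraicCycle (Spec (CommRingCat.of k)) ℤ)
      (h : γ ∈ Cyc.Zk (Spec (CommRingCat.of k)) (fun _ => 0) 0) (m : ℤ),
      (∀ z, γ z = (Module.finrank k F : ℤ) * m) → ChowOps.cl γ h ∈ QsChow.ptNormSubgroup k K := by
    intro F hF hne γ h m hm
    haveI : Subsingleton ↥(Spec (CommRingCat.of (F : Type u))) := inferInstanceAs (Subsingleton (PrimeSpectrum F))
    let pt : ↥(Spec (CommRingCat.of (F : Type u))) := IsLocalRing.closedPoint F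
    let φ := Spec.map (CommRingCat.ofHom (algebraMap k F))
    let α : AlgebraicCycle (Spec (CommRingCat.of (F : Type u))) ℤ := Function.locallyFinsuppWithin.single pt m
    have hdeg : φ.residueDegree pt = Module.finrank k F := by
      let e : CommRingCat.of (F : Type u) ⟶ (Spec (CommRingCat.of (F : Type u))).residueField pt :=
        CommRingCat.ofHom (algebraMap F pt.asIdeal.ResidueField) ≫
          (Scheme.Spec.residueFieldIso (CommRingCat.of (F : Type u)) pt).inv
      have he : Spec.map (CommRingCat.ofHom (algebraMap k F) ≫ e) =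
          (Spec (CommRingCat.of (F : Type u))).fromSpecResidueField pt ≫ φ := by
        rw [Spec.map_comp]
        exact congrArg (· ≫ φ) ((Spec.map_comp _ _).trans
          (Scheme.Spec.map_residueFieldIso_inv_eq_fromSpecResidueField (CommRingCat.of (F : Type u)) pt))
      refine (Groth.Agent.H27FrobPts.residueDegree_eq φ pt _ he).trans ?_
      letI := (CommRingCat.ofHom (algebraMap k F) ≫ e).hom.toAlgebra
      haveI : pt.asIdeal.IsMaximal := by
        rcases Ideal.eq_bot_or_top pt.asIdeal with h | h
        · rw [h]; exact Ideal.bot_isMaximal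
        · exact absurd h pt.isPrime.ne_top
      have hsurj : Function.Surjective e.hom :=
        ((Scheme.Spec.residueFieldIso (CommRingCat.of (F : Type u)) pt).symm.commRingCatIsoToRingEquiv.surjective).comp
          (Ideal.algebraMap_residueField_surjective _)
      let a : F →ₐ[k] (Spec (CommRingCat.of (F : Type u))).residueField pt := { e.hom with commutes' := fun r => rfl }
      exact (AlgEquiv.ofBijective a ⟨a.toRingHom.injective, hsurj⟩).toLinearEquiv.finrank_eq.symm
    have hmap : AlgebraicCycle.map φ (fun _ => (0 : ℤ)) (fun _ => (0 : ℤ)) α = γ := by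
      ext z
      rw [show AlgebraicCycle.map φ (fun _ => (0 : ℤ)) (fun _ => (0 : ℤ)) α z =
        ∑ᶠ x ∈ φ ⁻¹' {z}, α x * (AlgebraicCycle.mapCoeff φ (fun _ => (0 : ℤ)) (fun _ => (0 : ℤ)) x : ℤ) from rfl]
      rw [show φ ⁻¹' {z} = {pt} from Set.eq_singleton_iff_unique_mem.mpr
        ⟨Subsingleton.elim _ _, fun x _ => Subsingleton.elim _ _⟩, finsum_mem_singleton, hm z, ← hdeg]
      simp [α, AlgebraicCycle.mapCoeff, mul_comm]
    subst hmap
    exact AddSubgroup.subset_closure ⟨F, hF, hne, α, h, rfl⟩
  -- the gcd of the degrees is one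
  haveI : Finite (L ≃ₐ[k] L) := Finite.of_fintype _
  let n := Module.finrank k L
  have hn : 0 < n := Module.finrank_pos
  have hcard : Nat.card (L ≃ₐ[k] L) = n := IsGalois.card_aut_eq_finrank k L
  have hn1 : n ≠ 1 := fun h => hL 2 0 Nat.prime_two (h.trans (pow_zero 2).symm)
  let S : Set ℕ := {d | ∃ F : IntermediateField k K, FiniteDimensional k F ∧ F ≠ ⊥ ∧ Module.finrank k F = d}
  have hS : ∀ E : IntermediateField k L, Module.finrank k E ≠ 1 → Module.finrank k E ∈ S := by
    intro E hE
    have hlin : Module.finrank k (IntermediateField.lift E) = Module.finrank k E :=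
      (IntermediateField.liftAlgEquiv E).symm.toLinearEquiv.finrank_eq
    refine ⟨IntermediateField.lift E, LinearEquiv.finiteDimensional (IntermediateField.liftAlgEquiv E).toLinearEquiv,
      fun h => hE ?_, hlin⟩
    rw [← hlin, h, IntermediateField.finrank_bot]
  have hgcd : ∀ p : ℕ, p.Prime → ∃ d ∈ S, ¬ p ∣ d := by
    intro p hp
    haveI := Fact.mk hp
    obtain ⟨P⟩ : Nonempty (Sylow p (L ≃ₐ[k] L)) := Sylow.nonempty
    have hidx : Module.finrank k (IntermediateField.fixedField (P : Subgroup (L ≃ₐ[k] L))) =
        (P : Subgroup (L ≃ₐ[k] L)).index := by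
      have h1 := Module.finrank_mul_finrank k (IntermediateField.fixedField (P : Subgroup (L ≃ₐ[k] L))) L
      rw [IntermediateField.finrank_fixedField_eq_card] at h1
      have h2 := (P : Subgroup (L ≃ₐ[k] L)).index_mul_card
      rw [hcard] at h2
      exact Nat.eq_of_mul_eq_mul_right Nat.card_pos (h1.trans h2.symm)
    refine ⟨_, hS _ ?_, hidx ▸ P.not_dvd_index⟩
    rw [hidx]
    intro h1
    have h2 := (P : Subgroup (L ≃ₐ[k] L)).index_mul_card
    rw [hcard, h1, one_mul, Sylow.card_eq_multiplicity, hcard] at h2
    exact hL p _ hp h2.symm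
  let T : AddSubgroup ℤ :=
    { carrier := {m | ∀ (γ : AlgebraicCycle (Spec (CommRingCat.of k)) ℤ)
          (h : γ ∈ Cyc.Zk (Spec (CommRingCat.of k)) (fun _ => 0) 0),
          (∀ z, γ z = m) → ChowOps.cl γ h ∈ QsChow.ptNormSubgroup k K}
      zero_mem' := fun γ h hz => by
        obtain rfl : γ = 0 := by ext z; simpa using hz z
        have : ChowOps.cl (0 : AlgebraicCycle (Spec (CommRingCat.of k)) ℤ) h = 0 :=
          map_zero (ChowOps.clHom (Spec (CommRingCat.of k)) (fun _ => 0) 0)
        rw [this]
        exact zero_mem _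
      add_mem' := fun {a b} ha hb γ h hz => by
        let γa : AlgebraicCycle (Spec (CommRingCat.of k)) ℤ := Function.locallyFinsuppWithin.single (IsLocalRing.closedPoint k) a
        have hγa : ∀ z, γa z = a := fun z => by simp [γa, Subsingleton.elim z (IsLocalRing.closedPoint k)]
        have m1 : γa ∈ Cyc.Zk (Spec (CommRingCat.of k)) (fun _ => 0) 0 := fun x hx => absurd rfl hx
        have m2 : γ - γa ∈ Cyc.Zk (Spec (CommRingCat.of k)) (fun _ => 0) 0 := fun x hx => absurd rfl hx
        have := add_mem (ha γa m1 hγa) (hb (γ - γa) m2 fun z => by simp [hz z, hγa z])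
        rw [ChowOps.cl, ChowOps.cl, ← map_add] at this
        have e : (⟨γ, h⟩ : ↥(ChowOps.zk (Spec (CommRingCat.of k)) (fun _ => 0) 0)) = ⟨γa, m1⟩ + ⟨γ - γa, m2⟩ :=
          Subtype.ext (add_sub_cancel γa γ).symm
        rw [ChowOps.cl, e]
        exact this
      neg_mem' := fun {a} ha γ h hz => by
        have m1 : -γ ∈ Cyc.Zk (Spec (CommRingCat.of k)) (fun _ => 0) 0 := fun x hx => absurd rfl hx
        have := neg_mem (ha (-γ) m1 fun z => by simp [hz z])
        rw [ChowOps.cl, ← map_neg] at this
        have e : (⟨γ, h⟩ : ↥(ChowOps.zk (Spec (CommRingCat.of k)) (fun _ => 0) 0)) = -⟨-γ, m1⟩ :=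
          Subtype.ext (neg_neg γ).symm
        rw [ChowOps.cl, e]
        exact this }
  have h1 : (1 : ℤ) ∈ T := by
    obtain ⟨g, hg⟩ := Int.subgroup_cyclic T
    have hgS : ∀ d ∈ S, g ∣ (d : ℤ) := by
      rintro d ⟨F, hF, hne, rfl⟩
      have : (Module.finrank k F : ℤ) ∈ T := fun γ h hz => key F hF hne γ h 1 fun z => by rw [hz z, mul_one]
      rw [hg, AddSubgroup.mem_closure_singleton] at this
      obtain ⟨c, hc⟩ := this
      exact ⟨c, by rw [← hc, smul_eq_mul, mul_comm]⟩
    have : g.natAbs = 1 := by
      by_contra hne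
      obtain ⟨p, hp, hpg⟩ := Nat.exists_prime_and_dvd hne
      obtain ⟨d, hd, hpd⟩ := hgcd p hp
      exact hpd (hpg.trans (Int.natAbs_dvd_natAbs.mpr (hgS d hd) |>.trans (dvd_of_eq (Int.natAbs_natCast d))))
    rcases Int.natAbs_eq_iff.mp this with h | h
    · rw [hg, h]; exact AddSubgroup.mem_closure_singleton_self _
    · rw [hg, h, AddSubgroup.mem_closure_singleton]; exact ⟨-1, by simp⟩
  refine eq_top_iff.mpr fun c _ => ?_
  induction c using QuotientAddGroup.induction_on with
  | H a =>
    obtain ⟨γ, hγ⟩ := a
    have : γ (IsLocalRing.closedPoint k) ∈ T := by simpa using T.zsmul_mem h1 (γ (IsLocalRing.closedPoint k))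
    exact this γ hγ fun z => by rw [Subsingleton.elim z (IsLocalRing.closedPoint k)]

end Groth.Agent.S17743
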