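import Groth.Statements.S17744
import Mathlib
import Groth.Agent.H27FrobPts.Cycles

set_option autoImplicit false
universe u
open CategoryTheory AlgebraicGeometry
open QsChow

namespace Groth.Agent.S17744

/-- Let K be a separable algebraic field extension of k, let L be an intermediate field of K over k that
is finite Galois over k of degree p^n with p prime and n ≥ 1, and suppose that every intermediate
field of K over k that is finite over k has degree a power of p. Then the subgroup of the Chow group
of zero-cycles of Spec k generated by the classes of push-forwards from Spec F, over the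
intermediate fields F of K over k that are finite over k and different from k, has index p; that is,
the conormed Chow group of the point relative to K over k is cyclic of order p (the field with p
elements, in the source's ring language). (For n = 0, i.e. L = k, the assertion fails with K = k, so
n ≥ 1 is required.) -/
theorem result
    (k : Type u) [Field k] (K : Type u) [Field K] [Algebra k K] [Algebra.IsSeparable k K]
    (L : IntermediateField k K) [FiniteDimensional k L] [IsGalois k L]
    (p n : ℕ) (hp : p.Prime) (hn : 1 ≤ n) (hL : Module.finrank k L = p ^ n)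
    (hF : ∀ F : IntermediateField k K, FiniteDimensional k F → ∃ e : ℕ, Module.finrank k F = p ^ e) :
    (QsChow.ptNormSubgroup k K).index = p := by
  classical
  haveI : Fact p.Prime := ⟨hp⟩
  haveI hsub : Subsingleton ↥(Spec (CommRingCat.of k)) := inferInstanceAs (Subsingleton (PrimeSpectrum k))
  have hres : ∀ F : IntermediateField k K, FiniteDimensional k F →
      (Spec.map (CommRingCat.ofHom (algebraMap k F))).residueDegree (IsLocalRing.closedPoint F) = Module.finrank k F := by
    intro F hF
    let pt : ↥(Spec (CommRingCat.of (F : Type u))) := IsLocalRing.closedPoint F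
    let φ := Spec.map (CommRingCat.ofHom (algebraMap k F))
    let e : CommRingCat.of (F : Type u) ⟶ (Spec (CommRingCat.of (F : Type u))).residueField pt :=
      CommRingCat.ofHom (algebraMap F pt.asIdeal.ResidueField) ≫
        (Scheme.Spec.residueFieldIso (CommRingCat.of (F : Type u)) pt).inv
    have he : Spec.map (CommRingCat.ofHom (algebraMap k F) ≫ e) =
        (Spec (CommRingCat.of (F : Type u))).fromSpecResidueField pt ≫ φ := by
      rw [Spec.map_comp]
      exact congrArg (· ≫ φ) ((Spec.map_comp _ _).trans
        (Scheme.Spec.map_residueFieldIso_inv_eq_fromSpecResidueField (CommRingCat.of (F : Type u)) pt))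
    refine (Groth.Agent.H27FrobPts.residueDegree_eq φ pt _ he).trans ?_
    letI := (CommRingCat.ofHom (algebraMap k F) ≫ e).hom.toAlgebra
    haveI : pt.asIdeal.IsMaximal := by
      rcases Ideal.eq_bot_or_top pt.asIdeal with h | h
      · rw [h]; exact Ideal.bot_isMaximal
      · exact absurd h pt.isPrime.ne_top
    have hsurj : Function.Surjective e.hom :=
      ((Scheme.Spec.residueFieldIso (CommRingCat.of (F : Type u)) pt).symm.commRingCatIsoToRingEquiv.surjective).comp
        (Ideal.algebraMap_residueField_surjective _)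
    let a : F →ₐ[k] (Spec (CommRingCat.of (F : Type u))).residueField pt := { e.hom with commutes' := fun r => rfl }
    exact (AlgEquiv.ofBijective a ⟨a.toRingHom.injective, hsurj⟩).toLinearEquiv.finrank_eq.symm
  -- every multiple [F:k] of the point class lies in the subgroup
  have key : ∀ F : IntermediateField k K, FiniteDimensional k F → F ≠ ⊥ → ∀ (γ : AlgebraicCycle (Spec (CommRingCat.of k)) ℤ)
      (h : γ ∈ Cyc.Zk (Spec (CommRingCat.of k)) (fun _ => 0) 0) (m : ℤ),
      (∀ z, γ z = (Module.finrank k F : ℤ) * m) → ChowOps.cl γ h ∈ QsChow.ptNormSubgroup k K := by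
    intro F hF hne γ h m hm
    haveI : Subsingleton ↥(Spec (CommRingCat.of (F : Type u))) := inferInstanceAs (Subsingleton (PrimeSpectrum F))
    let pt : ↥(Spec (CommRingCat.of (F : Type u))) := IsLocalRing.closedPoint F
    let φ := Spec.map (CommRingCat.ofHom (algebraMap k F))
    let α : AlgebraicCycle (Spec (CommRingCat.of (F : Type u))) ℤ := Function.locallyFinsuppWithin.single pt m
    have hdeg : φ.residueDegree pt = Module.finrank k F := hres F hF
    have hmap : AlgebraicCycle.map φ (fun _ => (0 : ℤ)) (fun _ => (0 : ℤ)) α = γ := by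
      ext z
      rw [show AlgebraicCycle.map φ (fun _ => (0 : ℤ)) (fun _ => (0 : ℤ)) α z =
        ∑ᶠ x ∈ φ ⁻¹' {z}, α x * (AlgebraicCycle.mapCoeff φ (fun _ => (0 : ℤ)) (fun _ => (0 : ℤ)) x : ℤ) from rfl]
      rw [show φ ⁻¹' {z} = {pt} from Set.eq_singleton_iff_unique_mem.mpr
        ⟨Subsingleton.elim _ _, fun x _ => Subsingleton.elim _ _⟩, finsum_mem_singleton, hm z, ← hdeg]
      simp [α, AlgebraicCycle.mapCoeff, mul_comm]
    subst hmap
    exact AddSubgroup.subset_closure ⟨F, hF, hne, α, h, rfl⟩
  let P0 : ↥(Spec (CommRingCat.of k)) := IsLocalRing.closedPoint k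
  let ev : ↥(ChowOps.zk (Spec (CommRingCat.of k)) (fun _ => 0) 0) →+ ℤ :=
    AddMonoidHom.mk' (fun a => (a : AlgebraicCycle (Spec (CommRingCat.of k)) ℤ) P0) fun a b => rfl
  have hrat : ChowOps.ratTriv (Spec (CommRingCat.of k)) (fun _ => 0) 0 ≤ ev.ker := by
    refine (AddSubgroup.closure_le _).mpr ?_
    rintro a ⟨ι, ξ, f, hξ, -, -, ha⟩
    haveI : IsEmpty ι := ⟨fun i => absurd (hξ i) (by simp)⟩
    show (a : AlgebraicCycle (Spec (CommRingCat.of k)) ℤ) P0 = 0
    rw [ha P0, finsum_of_isEmpty]
  let φ : ChowOps.CH (Spec (CommRingCat.of k)) (fun _ => 0) 0 →+ ℤ := QuotientAddGroup.lift _ ev hrat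
  have hφcl : ∀ γ h, φ (ChowOps.cl γ h) = γ P0 := fun γ h => rfl
  have hsurj : Function.Surjective φ := fun m =>
    ⟨ChowOps.cl (Function.locallyFinsuppWithin.single P0 m) (fun x hx => absurd rfl hx), by
      rw [hφcl]; simp⟩
  obtain ⟨F0, hF0, hF0ne, hF0deg⟩ : ∃ F : IntermediateField k K, FiniteDimensional k F ∧ F ≠ ⊥ ∧
      Module.finrank k F = p := by
    haveI : Finite (L ≃ₐ[k] L) := Finite.of_fintype _
    have hcard : Nat.card (L ≃ₐ[k] L) = p ^ n := (IsGalois.card_aut_eq_finrank k L).trans hL
    obtain ⟨H, hH⟩ := Sylow.exists_subgroup_card_pow_prime p (n := n - 1)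
      (by rw [hcard]; exact pow_dvd_pow p (Nat.sub_le n 1))
    let E := IntermediateField.fixedField H
    have h1 := Module.finrank_mul_finrank k E L
    rw [IntermediateField.finrank_fixedField_eq_card, hH, hL] at h1
    have hE : Module.finrank k E = p := by
      refine Nat.eq_of_mul_eq_mul_right (pow_pos hp.pos (n - 1)) (h1.trans ?_)
      rw [mul_comm, ← pow_succ, Nat.sub_add_cancel hn]
    have hlin : Module.finrank k (IntermediateField.lift E) = Module.finrank k E :=
      (IntermediateField.liftAlgEquiv E).symm.toLinearEquiv.finrank_eq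
    refine ⟨IntermediateField.lift E, LinearEquiv.finiteDimensional (IntermediateField.liftAlgEquiv E).toLinearEquiv,
      fun h => hp.one_lt.ne' ?_, hlin.trans hE⟩
    rw [← hE, ← hlin, h, IntermediateField.finrank_bot]
  have hN : QsChow.ptNormSubgroup k K = (AddSubgroup.zmultiples (p : ℤ)).comap φ := by
    refine le_antisymm ((AddSubgroup.closure_le _).mpr ?_) ?_
    · rintro c ⟨F, hFd, hne, α, h, rfl⟩
      haveI := hFd
      obtain ⟨e, he⟩ := hF F hFd
      have hpe : p ∣ Module.finrank k F := by
        rcases Nat.eq_zero_or_pos e with h0 | h0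
        · rw [h0, pow_zero] at he
          exact absurd (IntermediateField.finrank_eq_one_iff.mp he) hne
        · exact he ▸ dvd_pow_self p h0.ne'
      haveI : Subsingleton ↥(Spec (CommRingCat.of (F : Type u))) := inferInstanceAs (Subsingleton (PrimeSpectrum F))
      let pt : ↥(Spec (CommRingCat.of (F : Type u))) := IsLocalRing.closedPoint F
      let ψ := Spec.map (CommRingCat.ofHom (algebraMap k F))
      show φ (ChowOps.cl _ h) ∈ AddSubgroup.zmultiples (p : ℤ)
      rw [hφcl, Int.mem_zmultiples_iff]
      show (p : ℤ) ∣ ∑ᶠ x ∈ ψ ⁻¹' {P0}, α x * (AlgebraicCycle.mapCoeff ψ (fun _ => (0 : ℤ)) (fun _ => (0 : ℤ)) x : ℤ)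
      rw [show ψ ⁻¹' {P0} = {pt} from Set.eq_singleton_iff_unique_mem.mpr
        ⟨Subsingleton.elim _ _, fun x _ => Subsingleton.elim _ _⟩, finsum_mem_singleton]
      refine dvd_mul_of_dvd_right (Int.natCast_dvd_natCast.mpr ?_) _
      rw [show AlgebraicCycle.mapCoeff ψ (fun _ => (0 : ℤ)) (fun _ => (0 : ℤ)) pt = ψ.residueDegree pt from if_pos rfl,
        hres F hFd]
      exact hpe
    · intro c hc
      induction c using QuotientAddGroup.induction_on with
      | H a =>
        obtain ⟨γ, hγ⟩ := a
        obtain ⟨m, hm⟩ := Int.mem_zmultiples_iff.mp (show γ P0 ∈ AddSubgroup.zmultiples (p : ℤ) from hc)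
        exact key F0 hF0 hF0ne γ hγ m fun z => by rw [Subsingleton.elim z P0, hm, hF0deg]
  rw [hN, AddSubgroup.index_comap_of_surjective _ hsurj, Int.index_zmultiples, Int.natAbs_natCast]

end Groth.Agent.S17744
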