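import Groth.Statements.S17745
import Mathlib
import Groth.Agent.H22Alg.CycBasic

set_option autoImplicit false
universe u
open CategoryTheory AlgebraicGeometry
open QsChow

namespace Groth.Agent.S17745

/-- For a field extension K of k (separable algebraic) and a k-scheme X with weight function δ, call
norm subgroup of CH_j(X) the subgroup generated by the classes of the push-forwards to X of j-cycles
on the base changes X_F, over the intermediate fields F of K over k that are finite over k and
different from k (the quotient by it is the degree-j part of the conormed Chow group of X relative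
to K over k). Let F be an intermediate field of K over k, finite over k and different from k, and
let X be a smooth variety over F (a scheme with a smooth, separated and quasi-compact morphism g to
Spec F), regarded as a k-scheme by composing g with Spec F → Spec k. Then for every weight function
δ on X (a dimension function induced from weight 0 on Spec k) and every integer j the norm subgroup
of CH_j(X) relative to K over k is the whole Chow group: all conormed Chow groups of X vanish. (The
source's F is tacitly different from k; for F = k the assertion fails, e.g. with K = k.) -/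
theorem result
    (k : Type u) [Field k] (K : Type u) [Field K] [Algebra k K] [Algebra.IsSeparable k K]
    (F : IntermediateField k K) [FiniteDimensional k F] (hF : F ≠ ⊥)
    (X : Scheme.{u}) [X.Over (Spec (CommRingCat.of k))] (g : X ⟶ Spec (CommRingCat.of F))
    (hg : g ≫ Spec.map (CommRingCat.ofHom (algebraMap k F)) = X ↘ Spec (CommRingCat.of k))
    (hsm : Smooth g) [IsSeparated g] [QuasiCompact g]
    (δ : X → ℤ) (hδ : Cyc.IsSetup X δ)
    (hcompat : Cyc.DeltaCompat (X ↘ Spec (CommRingCat.of k)) δ (fun _ => 0)) (j : ℤ) :
    QsChow.normSubgroup k K X δ j = ⊤ := by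
  classical
  refine eq_top_iff.mpr fun c _ => ?_
  induction c using QuotientAddGroup.induction_on with
  | H a =>
    obtain ⟨γ, hγ⟩ := a
    let b : Spec (CommRingCat.of (F : Type u)) ⟶ Spec (CommRingCat.of k) := Spec.map (CommRingCat.ofHom (algebraMap k F))
    haveI : IsFinite b := by
      simp only [b, IsFinite.SpecMap_iff, CommRingCat.hom_ofHom]
      exact RingHom.finite_algebraMap.mpr inferInstance
    let π := Curv2.bcFst k X F
    haveI : IsFinite π := MorphismProperty.pullback_fst _ _ ‹IsFinite b›
    let s : X ⟶ Curv2.bc k X F := Limits.pullback.lift (𝟙 X) g (by rw [Category.id_comp, hg])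
    have hs : s ≫ π = 𝟙 X := Limits.pullback.lift_fst _ _ _
    haveI : IsClosedImmersion (s ≫ π) := by rw [hs]; infer_instance
    haveI : IsClosedImmersion s := IsClosedImmersion.of_comp s π
    have hπs : ∀ x, π (s x) = x := fun x => by rw [← Scheme.Hom.comp_apply, hs]; rfl
    have hπ : Cyc.DeltaCompat π (δ ∘ ⇑π.base) δ := fun z => ⟨0, by
      letI := (π.residueFieldMap z).hom.toAlgebra
      haveI : Module.Finite (X.residueField (π z)) ((Curv2.bc k X F).residueField z) :=
        Groth.Agent.H17.finite_residueFieldMap π z (isClosed_discrete _)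
      simp [trdeg_eq_zero], by simp⟩
    have hsδ : Cyc.DeltaCompat s δ (δ ∘ ⇑π.base) := fun x => ⟨0, by
      letI := (s.residueFieldMap x).hom.toAlgebra
      haveI : Module.Finite ((Curv2.bc k X F).residueField (s x)) (X.residueField x) :=
        Groth.Agent.H17.finite_residueFieldMap s x (isClosed_discrete _)
      simp [trdeg_eq_zero], by
      show δ x = δ (π (s x)) + ((0 : ℕ) : ℤ)
      rw [hπs]; simp⟩
    let α := AlgebraicCycle.map s δ (δ ∘ ⇑π.base) γ
    have hα : α ∈ Cyc.Zk (Curv2.bc k X F) (δ ∘ ⇑π.base) j := by
      intro z hz
      show ∑ᶠ x ∈ s ⁻¹' {z}, γ x * (AlgebraicCycle.mapCoeff s δ (δ ∘ ⇑π.base) x : ℤ) = 0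
      refine finsum_mem_eq_zero_of_forall_eq_zero fun x hx => ?_
      rw [Set.mem_preimage, Set.mem_singleton_iff] at hx
      rw [hγ x fun h => hz ?_, zero_mul]
      show δ (π z) = j
      rw [← hx, hπs, h]
    have hmap : AlgebraicCycle.map π (δ ∘ ⇑π.base) δ α = γ := by
      show AlgebraicCycle.map π (δ ∘ ⇑π.base) δ (AlgebraicCycle.map s δ (δ ∘ ⇑π.base) γ) = γ
      rw [Groth.Agent.H22Alg.CycBasic.map_map s π hsδ hπ γ]
      have : ∀ (e : X ⟶ X) [QuasiCompact e], e = 𝟙 X → AlgebraicCycle.map e δ δ γ = γ := by
        rintro e _ rfl; exact AlgebraicCycle.map_id δ γ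
      exact this (s ≫ π) hs
    show ChowOps.cl γ hγ ∈ _
    refine AddSubgroup.subset_closure ⟨F, inferInstance, hF, α, hα, hmap.symm ▸ hγ, ?_⟩
    congr 1
    exact hmap.symm

end Groth.Agent.S17745
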