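import Groth.Statements.S17747
import Groth.Agent.H23QsChow.Pres2

set_option autoImplicit false
open QsChow

namespace Groth.Agent.S17747

/-- Let n ≥ 2, s := n / 2 + 1, k_j the integer part of log_2((2n-1)/(2j-3)) for 2 ≤ j ≤ s, P := F_2[ε_1,
…, ε_s]/(ε_1^n, ε_2^(2^k_2), …, ε_s^(2^k_s)), τ the F_2-algebra involution of P fixing ε_1 and
sending ε_j to ε_j + ε_1^(2j-3) (2 ≤ j ≤ s), and ē_1 := ε_1, ē_2 := ε_2^2 + ε_1ε_2, ē_j := ε_j +
ε_1^(2j-4)ε_2 (j ≥ 3), x̄ := ε_1^(n-1)ε_2; write 2^a for the exact power of 2 dividing n, l for the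
integer with n = 2^a(2l-3), and k'_1 := a, k'_2 := the integer part of log_2 n, k'_j := the integer
part of log_2(2n/(2j-3)) for j ≥ 3. Suppose n is odd (so a = 0). Then for a polynomial q in F_2[e_1,
…, e_s, x] the image φ(q) (φ : e_j ↦ ē_j, x ↦ x̄) lies in ε_1 · P^τ, P^τ the τ-fixed subalgebra, if
and only if q lies in the ideal generated by e_1, x^2 and the powers e_j^(2^k'_j) for 2 ≤ j ≤ s.
Since φ maps onto P^τ, this says that P^τ modulo ε_1 is F_2[e_2, …, e_s, x]/(e_2^(2^k'_2), …,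
e_s^(2^k'_s), x^2). -/
theorem result (n : ℕ) (hn : 2 ≤ n)
    (τ : QsChow.P n →ₐ[ZMod 2] QsChow.P n) (hτ1 : τ (QsChow.eps n 1) = QsChow.eps n 1)
    (hτ : ∀ j : ℕ, 2 ≤ j → j ≤ QsChow.numVars n →
      τ (QsChow.eps n j) = QsChow.eps n j + QsChow.eps n 1 ^ (2 * j - 3))
    (hodd : Odd n) (q : QsChow.FreeE n) :
    (∃ w : QsChow.P n, τ w = w ∧ QsChow.phi n q = QsChow.eps n 1 * w) ↔ q ∈ QsChow.oddIdeal n := by
  have h := H23QsChow.exists_fixed_mul_iff hn ⟨hτ1, hτ⟩ 1 q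
  rw [H23QsChow.ker_phi hn, H23QsChow.sup_eq_oddIdeal hn hodd] at h
  simpa using h

end Groth.Agent.S17747
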