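import Groth.Statements.S17749
import Groth.Agent.H23QsChow.Pres2

set_option autoImplicit false
open QsChow

namespace Groth.Agent.S17749

/-- Let n ≥ 2, s := n / 2 + 1, k_j the integer part of log_2((2n-1)/(2j-3)) for 2 ≤ j ≤ s, P := F_2[ε_1,
…, ε_s]/(ε_1^n, ε_2^(2^k_2), …, ε_s^(2^k_s)), τ the F_2-algebra involution of P fixing ε_1 and
sending ε_j to ε_j + ε_1^(2j-3) (2 ≤ j ≤ s), and ē_1 := ε_1, ē_2 := ε_2^2 + ε_1ε_2, ē_j := ε_j +
ε_1^(2j-4)ε_2 (j ≥ 3), x̄ := ε_1^(n-1)ε_2; write 2^a for the exact power of 2 dividing n, l for the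
integer with n = 2^a(2l-3), and k'_1 := a, k'_2 := the integer part of log_2 n, k'_j := the integer
part of log_2(2n/(2j-3)) for j ≥ 3. Suppose n = 2^a with a ≥ 1 (so ε_1^(2^a) = 0 in P) and let ψ :
F_2[e_1, …, e_s] → P be the algebra map with e_j ↦ ē_j. Then the range of ψ is the τ-fixed
subalgebra P^τ and the kernel of ψ is the ideal generated by the powers e_j^(2^k'_j) for 1 ≤ j ≤ s
together with e_1 · Σ_{t < k'_2} e_1^(2^k'_2 - 2^(t+1)) e_2^(2^t). That is, P^τ ≅ F_2[e_1, …,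
e_s]/(e_1^(2^k'_1), …, e_s^(2^k'_s), e_1 Σ_{t<k'_2} e_1^(2^k'_2 - 2^(t+1)) e_2^(2^t)) via ψ. -/
theorem result (n : ℕ) (hn : 2 ≤ n)
    (τ : QsChow.P n →ₐ[ZMod 2] QsChow.P n) (hτ1 : τ (QsChow.eps n 1) = QsChow.eps n 1)
    (hτ : ∀ j : ℕ, 2 ≤ j → j ≤ QsChow.numVars n →
      τ (QsChow.eps n j) = QsChow.eps n j + QsChow.eps n 1 ^ (2 * j - 3))
    (b : ℕ) (hb : 1 ≤ b) (hnb : n = 2 ^ b) :
    (QsChow.psi n).range = AlgHom.equalizer τ (AlgHom.id (ZMod 2) (QsChow.P n)) ∧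
      RingHom.ker (QsChow.psi n) = QsChow.powIdeal n := by
  exact H23QsChow.psi_two_pow hn ⟨hτ1, hτ⟩ hb hnb

end Groth.Agent.S17749
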