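import Groth.Statements.S17750
import Groth.Agent.S7701
import Groth.Agent.S7702
import Groth.Agent.S7703
import Groth.Agent.S7708
import Groth.Agent.H4Goren.Basic
import Groth.Agent.H4Inj.Essential
import Groth.Agent.H1CAlg.Torsion
import Mathlib

set_option autoImplicit false
universe u
open Goren

namespace Groth.Agent.S17750

open IsLocalRing

universe v

/-- Over a Noetherian factorial local domain, a finite torsion-free module with only scalar
endomorphisms on which regular pairs stay regular is free of rank one. -/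
theorem equiv_self_of_pairs {R : Type v} [CommRing R] [IsDomain R] [IsLocalRing R] [IsNoetherianRing R]
    [UniqueFactorizationMonoid R] (K : Type v) [AddCommGroup K] [Module R K] [Module.Finite R K]
    [Nontrivial K] [Module.IsTorsionFree R K]
    (hend : ∀ f : K →ₗ[R] K, ∃ c : R, ∀ u, f u = c • u)
    (hpair : ∀ a b : R, a ∈ maximalIdeal R → b ∈ maximalIdeal R → a ≠ 0 →
      (∀ x : R, a ∣ b * x → a ∣ x) → ∀ u : K, (∃ v : K, b • u = a • v) → ∃ v : K, u = a • v) :
    Nonempty (K ≃ₗ[R] R) := by
  classical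
  obtain ⟨m, ι, hι⟩ := Groth.Agent.H1CAlg.exists_injective_fin_of_torsionFree (R := R) (M := K)
  obtain ⟨x, hx⟩ := exists_ne (0 : K)
  obtain ⟨j, hj⟩ : ∃ j, ι x j ≠ 0 := by
    by_contra hall
    push Not at hall
    exact hx (hι (by rw [map_zero]; exact funext hall))
  let φ : K →ₗ[R] R := LinearMap.proj j ∘ₗ ι
  have hφx : φ x ≠ 0 := hj
  obtain ⟨c, hc⟩ := hend (LinearMap.smulRight φ x)
  have hcx : c = φ x := by
    have h1 : φ x • x = c • x := by simpa using hc x
    exact (smul_left_injective R hx h1).symm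
  have hφ : Function.Injective φ := by
    rw [injective_iff_map_eq_zero]
    intro u hu
    have h1 := hc u
    rw [LinearMap.smulRight_apply, hu, zero_smul, hcx] at h1
    exact (smul_eq_zero.1 h1.symm).resolve_left hφx
  let 𝒮 : Set (Ideal R) := {J | Nonempty (K ≃ₗ[R] J)}
  obtain ⟨J, ⟨e⟩, hmax⟩ := set_has_maximal_iff_noetherian.2 inferInstance 𝒮
    ⟨LinearMap.range φ, ⟨LinearEquiv.ofInjective φ hφ⟩⟩
  by_cases hJ : J = ⊤
  · exact ⟨e.trans ((LinearEquiv.ofEq _ _ hJ).trans Submodule.topEquiv)⟩
  exfalso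
  have hJm : J ≤ maximalIdeal R := le_maximalIdeal hJ
  obtain ⟨a, haJ, ha0⟩ : ∃ a ∈ J, a ≠ 0 := by
    refine ⟨e x, (e x).2, fun h => hx (e.injective ?_)⟩
    rw [map_zero]; exact Subtype.ext h
  -- no prime element divides all of `J`
  have hno : ∀ p : R, Prime p → ¬ J ≤ Ideal.span {p} := by
    intro p hp hle
    let J' : Ideal R := Submodule.comap (LinearMap.mulLeft R p) J
    have hJJ' : J ≤ J' := fun y hy => Ideal.mul_mem_left J p hy
    have hbij : Function.Bijective (fun y : J' => (⟨p * y.1, y.2⟩ : J)) := by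
      constructor
      · intro y z h
        exact Subtype.ext (mul_left_cancel₀ hp.ne_zero (congrArg Subtype.val h))
      · rintro ⟨y, hy⟩
        obtain ⟨z, rfl⟩ := Ideal.mem_span_singleton'.1 (hle hy)
        exact ⟨⟨z, by simpa [J', mul_comm] using hy⟩, Subtype.ext (mul_comm p z)⟩
    let e' : J' ≃ₗ[R] J := LinearEquiv.ofBijective
      { toFun := fun y => (⟨p * y.1, y.2⟩ : J)
        map_add' := fun y z => Subtype.ext (mul_add p y.1 z.1)
        map_smul' := fun r y => Subtype.ext (by simp [mul_left_comm]) } hbij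
    have hne : J ≠ J' := by
      intro heq
      have hle' : J ≤ Ideal.span {p} * J := fun y hy => by
        obtain ⟨z, rfl⟩ := Ideal.mem_span_singleton'.1 (hle hy)
        rw [mul_comm z p]
        refine Ideal.mul_mem_mul (Ideal.mem_span_singleton_self p) ?_
        rw [heq]; simpa [J', mul_comm] using hy
      have := Submodule.eq_bot_of_le_smul_of_le_jacobson_bot (Ideal.span {p}) J
        (IsNoetherian.noetherian _) hle'
        (((Ideal.span_singleton_le_iff_mem _).2 ((mem_maximalIdeal _).2 hp.not_unit)).trans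
          (maximalIdeal_le_jacobson ⊥))
      rw [this, Ideal.mem_bot] at haJ
      exact ha0 haJ
    exact hmax J' ⟨e.trans e'.symm⟩ (lt_of_le_of_ne hJJ' hne)
  -- a second element coprime to the first
  let F := (UniqueFactorizationMonoid.factors a).toFinset
  obtain ⟨b, hbJ, hb⟩ : ∃ b ∈ J, ∀ p ∈ F, ¬ p ∣ b := by
    by_contra hall
    push Not at hall
    have hsub : (J : Set R) ⊆ ⋃ p ∈ (F : Set R), (Ideal.span {p} : Set R) := fun b hb => by
      obtain ⟨p, hp, hpb⟩ := hall b hb
      exact Set.mem_biUnion hp (Ideal.mem_span_singleton.2 hpb)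
    obtain ⟨p, hp, hle⟩ := (Ideal.subset_union_prime (f := fun p : R => Ideal.span {p}) a a
      (fun p hp _ _ => by
        have := UniqueFactorizationMonoid.prime_of_factor p (Multiset.mem_toFinset.1 hp)
        exact (Ideal.span_singleton_prime this.ne_zero).2 this)).1 hsub
    exact hno p (UniqueFactorizationMonoid.prime_of_factor p (Multiset.mem_toFinset.1 hp)) hle
  have hcop : ∀ y : R, a ∣ b * y → a ∣ y := fun y hy =>
    UniqueFactorizationMonoid.dvd_of_dvd_mul_right_of_no_prime_factors ha0 (by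
      intro d hda hdb hd
      obtain ⟨q, hq, hdq⟩ := UniqueFactorizationMonoid.exists_mem_factors_of_dvd ha0 hd.irreducible hda
      exact hb q (Multiset.mem_toFinset.2 hq) ((hdq.dvd_iff_dvd_left).1 hdb)) hy
  obtain ⟨v, hv⟩ := hpair a b (hJm haJ) (hJm hbJ) ha0 hcop (e.symm ⟨a, haJ⟩) ⟨e.symm ⟨b, hbJ⟩, by
    apply e.injective
    simp only [map_smul, LinearEquiv.apply_symm_apply]
    exact Subtype.ext (mul_comm b a)⟩
  have h1 : a = a * (e v : R) := by
    have := congrArg (fun z => ((e z : J) : R)) hv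
    simpa using this
  have h2 : (e v : R) = 1 := mul_left_cancel₀ ha0 (by rw [← h1, mul_one])
  exact hJ ((Ideal.eq_top_iff_one _).2 (h2 ▸ (e v).2))


/-- Let B be a regular local ring and p a prime ideal of B such that the integral domain B ⧸ p is a
unique factorization domain. If the local ring B ⧸ p is Cohen–Macaulay then it is Gorenstein, i.e.
has finite injective dimension as a module over itself. (For a unique factorization domain that is a
quotient of a regular local ring, Cohen–Macaulay and Gorenstein are equivalent; the converse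
implication holds for every Noetherian local ring.) -/
theorem result (B : Type u) [CommRing B] [IsRegularLocalRing B] (p : Ideal B) [p.IsPrime] [UniqueFactorizationMonoid (B ⧸ p)] [LocCoh.IsCohenMacaulayLocalRing (B ⧸ p)] : LocCoh.IsGorensteinLocalRing (B ⧸ p) := by
  haveI : IsNoetherianRing (B ⧸ p) := inferInstance
  haveI := Groth.Agent.H4Goren.isGorensteinLocalRing_of_isRegularLocalRing B
  obtain ⟨n, hn⟩ : ∃ n : ℕ, ringKrullDim (B ⧸ p) = n := by
    obtain ⟨d, hd⟩ := ENat.ne_top_iff_exists.mp (Groth.Agent.H8Props.FlatDepth.depth_ne_top (B ⧸ p) (B ⧸ p))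
    refine ⟨d, ?_⟩
    rw [(Groth.Agent.H8Props.FlatDepth.isCM_iff_dim (B ⧸ p)).1 inferInstance, ← hd]
    rfl
  obtain ⟨E, _, _, f, hf⟩ :=
    Groth.Agent.H4Inj.exists_isInjectiveHull (R := B ⧸ p) (IsLocalRing.ResidueField (B ⧸ p))
  obtain ⟨K, hKfin, ⟨eK⟩⟩ := Groth.Agent.S7708.result (B ⧸ p) n hn E f hf B (Ideal.Quotient.mk p)
    Ideal.Quotient.mk_surjective
  haveI := hKfin
  refine (Groth.Agent.S7701.result (B ⧸ p) n hn E f hf K eK).2 ?_
  have hend := Groth.Agent.S7703.result (B ⧸ p) n hn E f hf K eK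
  haveI : Nontrivial K := by
    by_contra hK
    rw [not_nontrivial_iff_subsingleton] at hK
    exact one_ne_zero (hend.1 (a₁ := (1 : B ⧸ p)) (a₂ := 0) (LinearMap.ext fun u => Subsingleton.elim _ _))
  have hreg : ∀ as : List (B ⧸ p), (∀ a ∈ as, a ∈ IsLocalRing.maximalIdeal (B ⧸ p)) →
      RingTheory.Sequence.IsWeaklyRegular (B ⧸ p) as → RingTheory.Sequence.IsWeaklyRegular K as := by
    intro as has h
    refine (((Groth.Agent.S7702.result (B ⧸ p) n hn E f hf K eK as has).1).1 ⟨h, ?_⟩).toIsWeaklyRegular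
    intro heq
    have hle : Ideal.ofList as ≤ IsLocalRing.maximalIdeal (B ⧸ p) := Ideal.span_le.2 has
    exact Submodule.top_ne_ideal_smul_of_le_jacobson_annihilator
      (M := B ⧸ p) (hle.trans (IsLocalRing.maximalIdeal_le_jacobson _)) heq
  haveI : Module.IsTorsionFree (B ⧸ p) K := by
    refine Module.isTorsionFree_iff_smul_eq_zero.2 fun a u h => ?_
    by_contra hcon
    push Not at hcon
    by_cases hu : IsUnit a
    · exact hcon.2 (hu.smul_eq_zero.1 h)
    · have := (RingTheory.Sequence.isWeaklyRegular_cons_iff _ a []).1 (hreg [a]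
        (by simpa using (IsLocalRing.mem_maximalIdeal a).2 hu)
        ((RingTheory.Sequence.isWeaklyRegular_cons_iff _ a []).2
          ⟨(isRegular_of_ne_zero hcon.1).left.isSMulRegular, RingTheory.Sequence.IsWeaklyRegular.nil _ _⟩))
      exact hcon.2 (this.1 (h.trans (smul_zero a).symm))
  refine equiv_self_of_pairs K (fun g => ?_) fun a b ha hb ha0 hcop u hu => ?_
  · obtain ⟨c, hc⟩ := hend.2 g
    exact ⟨c, fun u => by rw [← hc]; rfl⟩
  · have hw : RingTheory.Sequence.IsWeaklyRegular K [a, b] := by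
      refine hreg [a, b] (fun r hr => ?_) ?_
      · rcases List.mem_cons.1 hr with rfl | hr
        · exact ha
        · exact (List.mem_singleton.1 hr).symm ▸ hb
      rw [RingTheory.Sequence.isWeaklyRegular_cons_iff, RingTheory.Sequence.isWeaklyRegular_cons_iff]
      refine ⟨(isRegular_of_ne_zero ha0).left.isSMulRegular, ?_, RingTheory.Sequence.IsWeaklyRegular.nil _ _⟩
      rw [isSMulRegular_quotient_iff_mem_of_smul_mem]
      intro x hx
      obtain ⟨y, -, hy⟩ := (Submodule.mem_smul_pointwise_iff_exists _ _ _).1 hx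
      obtain ⟨z, hz⟩ := hcop x ⟨y, hy.symm⟩
      exact (Submodule.mem_smul_pointwise_iff_exists _ _ _).2 ⟨z, trivial, hz.symm⟩
    rw [RingTheory.Sequence.isWeaklyRegular_cons_iff, RingTheory.Sequence.isWeaklyRegular_cons_iff,
      isSMulRegular_quotient_iff_mem_of_smul_mem] at hw
    obtain ⟨v, hv⟩ := hu
    obtain ⟨w, -, hw'⟩ := (Submodule.mem_smul_pointwise_iff_exists _ _ _).1
      (hw.2.1 u ((Submodule.mem_smul_pointwise_iff_exists _ _ _).2 ⟨v, trivial, hv.symm⟩))
    exact ⟨w, hw'.symm⟩

end Groth.Agent.S17750
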