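import Groth.Statements.S17752
import Groth.Agent.H4Depth.Avoid

set_option autoImplicit false
universe u
open LocCoh

namespace Groth.Agent.S17752

/-- Let R be a Noetherian ring of Krull dimension d and I an ideal of R. Then there are d + 1 elements
f_0, …, f_d of I such that I and the ideal they generate have the same radical; in other words the
arithmetic rank of I is at most d + 1. -/
theorem result (R : Type u) [CommRing R] [IsNoetherianRing R] (d : ℕ) (hd : ringKrullDim R = d) (I : Ideal R) : ∃ f : Fin (d + 1) → R, (∀ i, f i ∈ I) ∧ I.radical = (Ideal.span (Set.range f)).radical := by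

  obtain ⟨f, hfI, hf⟩ := H4Depth.exists_fin_of_height_lt I (d + 1)
  refine ⟨f, hfI, H4Depth.radical_eq_of_forall_prime fun p hp => @hf p hp ?_⟩
  have h := Ideal.height_le_ringKrullDim_of_ne_top hp.ne_top
  rw [hd] at h
  exact lt_of_le_of_lt (WithBot.coe_le_coe.1 h) (by exact_mod_cast d.lt_succ_self)

end Groth.Agent.S17752
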