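import Groth.Statements.S17755
import Groth.Agent.H4DR.LD.Localized
import Groth.Agent.H4DR.Dualizing.SkEquidim

set_option autoImplicit false
universe u
open LocCoh

namespace Groth.Agent.S17755

/-- Let R be a Noetherian local ring with maximal ideal m which is a homomorphic image of a Gorenstein
local ring, and let M be a finitely generated R-module whose support has dimension n. Then the
following are equivalent: (1) M is generalized Cohen–Macaulay, i.e. the local cohomology module
H^i_m(M) has finite length for every i < n; (2) M is equidimensional, i.e. R ⧸ p has dimension n for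
every minimal prime p of the annihilator of M, and for every prime p ≠ m containing the annihilator
of M the localization M_p is a Cohen–Macaulay module over R_p (its depth equals the dimension of its
support). -/
theorem result (R : Type u) [CommRing R] [IsNoetherianRing R] [IsLocalRing R] (R' : Type u) [CommRing R'] [LocCoh.IsGorensteinLocalRing R'] (g : R' →+* R) (hg : Function.Surjective g) (M : Type u) [AddCommGroup M] [Module R M] [Module.Finite R M] (n : ℕ) (hn : Module.supportDim R M = n) : (∀ i : ℕ, i < n → IsFiniteLength R (LocCoh.H (IsLocalRing.maximalIdeal R) i M)) ↔ ((∀ p ∈ (Module.annihilator R M).minimalPrimes, ringKrullDim (R ⧸ p) = n) ∧ ∀ (p : Ideal R) [p.IsPrime], p ≠ IsLocalRing.maximalIdeal R → Module.annihilator R M ≤ p → LocCoh.IsCohenMacaulayModule (Localization.AtPrime p) (LocalizedModule p.primeCompl M)) := by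
  obtain ⟨ω, hω, hnω⟩ := Groth.Agent.H4DR.LD.exists_normalized_of_gorenstein_quotient g hg
  have hmax : ∀ {p : Ideal R}, p.IsPrime → p ≠ IsLocalRing.maximalIdeal R → ¬ IsLocalRing.maximalIdeal R ≤ p :=
    fun hp hne h => hne ((IsLocalRing.maximalIdeal.isMaximal R).eq_of_le hp.ne_top h).symm
  have hdim : ∀ p : PrimeSpectrum R, ∃ e : ℕ, ringKrullDim (R ⧸ p.asIdeal) = e := fun p => by
    haveI : Nontrivial (R ⧸ p.asIdeal) := Ideal.Quotient.nontrivial_iff.2 p.2.ne_top
    obtain ⟨e, he⟩ := Groth.Agent.H4Depth.exists_nat_supportDim_eq (R := R) (M := R ⧸ p.asIdeal)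
    exact ⟨e, by rwa [Module.supportDim_quotient_eq_ringKrullDim] at he⟩
  have hle : ∀ p ∈ Module.support R M, ∀ e : ℕ, ringKrullDim (R ⧸ p.asIdeal) = e → e ≤ n := fun p hp e he => by
    have := Groth.Agent.H4Depth.ringKrullDim_quotient_le_supportDim hp
    rw [he, hn] at this
    exact Nat.cast_le.1 this
  simp only [Groth.Agent.H4DR.LD.isFiniteLength_H_iff hω hnω M]
  refine ⟨fun h => ?_, fun ⟨heq, hcm⟩ i hi p hp hmem => ?_⟩
  · have key : ∀ p : PrimeSpectrum R, p.asIdeal ≠ IsLocalRing.maximalIdeal R → p ∈ Module.support R M →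
        ∃ δ D e : ℕ, LocCoh.depth (Localization.AtPrime p.asIdeal) (LocalizedModule p.asIdeal.primeCompl M) = δ ∧
          Module.supportDim (Localization.AtPrime p.asIdeal) (LocalizedModule p.asIdeal.primeCompl M) = D ∧
          ringKrullDim (R ⧸ p.asIdeal) = e ∧ δ = D ∧ n ≤ e + D := fun p hp hpM => by
      obtain ⟨δ, D, hδ, hD, hδD, m1, m2, -⟩ := Groth.Agent.H4DR.Dualizing.exists_interval hω M p hpM
      obtain ⟨e, he⟩ := hdim p
      rw [Groth.Agent.H4DR.Dualizing.deg_normalized hω hnω p he,
        show -(e : ℤ) - (δ : ℤ) = -((e + δ : ℕ) : ℤ) by push_cast; ring] at m1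
      rw [Groth.Agent.H4DR.Dualizing.deg_normalized hω hnω p he,
        show -(e : ℤ) - (D : ℤ) = -((e + D : ℕ) : ℤ) by push_cast; ring] at m2
      have h1 : n ≤ e + δ := by by_contra hc; exact h _ (by omega) p hp m1
      have h2 : e + D ≤ n := by
        obtain ⟨r, hr, hrp, hrd⟩ := (Groth.Agent.H4DR.Dualizing.dim_localized_spec hω M p hD).2
        obtain ⟨d, hd⟩ := hdim r
        rw [Groth.Agent.H4DR.Dualizing.deg_normalized hω hnω p he,
          Groth.Agent.H4DR.Dualizing.deg_normalized hω hnω r hd] at hrd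
        have := hle r hr d hd
        omega
      exact ⟨δ, D, e, hδ, hD, he, by omega, by omega⟩
    refine ⟨fun p hp => ?_, fun p hpp hne hann => ?_⟩
    · haveI := hp.1.1
      have hpM : (⟨p, hp.1.1⟩ : PrimeSpectrum R) ∈ Module.support R M := Module.mem_support_iff_of_finite.2 hp.1.2
      obtain ⟨d, hd⟩ := hdim ⟨p, hp.1.1⟩
      refine hd.trans (congrArg Nat.cast (le_antisymm (hle _ hpM d hd) ?_))
      rcases eq_or_ne p (IsLocalRing.maximalIdeal R) with rfl | hne
      · obtain ⟨r, hr, hrd⟩ := Groth.Agent.H4DR.Dualizing.exists_prime_of_le_supportDim n hn.ge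
        have hrm : IsLocalRing.maximalIdeal R ≤ r.asIdeal :=
          hp.2 ⟨r.2, Module.mem_support_iff_of_finite.1 hr⟩ (IsLocalRing.le_maximalIdeal r.2.ne_top)
        have := hrd.trans (ringKrullDim_le_of_surjective (Ideal.Quotient.factor hrm)
          (Ideal.Quotient.factor_surjective hrm))
        rw [hd] at this
        exact Nat.cast_le.1 this
      · obtain ⟨δ, D, e, hδ, hD, he, hδD, hnD⟩ := key ⟨p, hp.1.1⟩ hne hpM
        obtain ⟨r, hr, hrp, hrd⟩ := (Groth.Agent.H4DR.Dualizing.dim_localized_spec hω M ⟨p, hp.1.1⟩ hD).2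
        have hpr : r = (⟨p, hp.1.1⟩ : PrimeSpectrum R) := PrimeSpectrum.ext
          (le_antisymm hrp (hp.2 ⟨r.2, Module.mem_support_iff_of_finite.1 hr⟩ hrp))
        rw [hpr, sub_self] at hrd
        rw [hd] at he
        have := Nat.cast_inj.1 he
        omega
    · obtain ⟨δ, D, e, hδ, hD, -, rfl, -⟩ := key ⟨p, hpp⟩ hne (Module.mem_support_iff_of_finite.2 hann)
      show Module.supportDim _ _ = _
      rw [hδ]
      exact hD
  · have hpM := Groth.Agent.H4DR.Dualizing.support_ex_subset hω M _ hmem
    obtain ⟨δ, D, hδ, hD, hδD, -, -, hint⟩ := Groth.Agent.H4DR.Dualizing.exists_interval hω M p hpM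
    obtain ⟨e, he⟩ := hdim p
    obtain ⟨h1, h2⟩ := hint _ hmem
    rw [Groth.Agent.H4DR.Dualizing.deg_normalized hω hnω p he] at h1 h2
    have hcm' := hcm p.asIdeal hp (Module.mem_support_iff_of_finite.1 hpM)
    have hδD' : D = δ := by
      have := hcm'
      change Module.supportDim _ _ = _ at this
      rw [hD, hδ] at this
      exact_mod_cast this
    obtain ⟨q, hq, hqp⟩ := Ideal.exists_minimalPrimes_le (Module.mem_support_iff_of_finite.1 hpM)
    have hqM : (⟨q, hq.1.1⟩ : PrimeSpectrum R) ∈ Module.support R M := Module.mem_support_iff_of_finite.2 hq.1.2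
    have := (Groth.Agent.H4DR.Dualizing.dim_localized_spec hω M p hD).1 ⟨q, hq.1.1⟩ hqM hqp
    rw [Groth.Agent.H4DR.Dualizing.deg_normalized hω hnω p he,
      Groth.Agent.H4DR.Dualizing.deg_normalized hω hnω ⟨q, hq.1.1⟩ (heq q hq)] at this
    omega

end Groth.Agent.S17755
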