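import Groth.Statements.S17756
import Groth.Agent.H4Matlis.Duality

set_option autoImplicit false
universe u
open Matlis

namespace Groth.Agent.S17756

/-- Let R be a Noetherian local ring with maximal ideal m and residue field k, E an injective hull of k,
and M a finitely generated R-module with Matlis dual M^v = Hom_R(M, E). Then the minimal number of
generators of M equals the k-dimension of the socle of M^v, the submodule of elements of M^v killed
by m (stated as its length as an R-module). -/
theorem result (R : Type u) [CommRing R] [IsNoetherianRing R] [IsLocalRing R] (E : Type u) [AddCommGroup E] [Module R E] (f : IsLocalRing.ResidueField R →ₗ[R] E) (hf : InjHull.IsInjectiveHull f) (M : Type u) [AddCommGroup M] [Module R M] [Module.Finite R M] : ((⊤ : Submodule R M).spanFinrank : ℕ∞) = Module.length R (LocCoh.torsionBy (IsLocalRing.maximalIdeal R) (M →ₗ[R] E)) := by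
  let mI := IsLocalRing.maximalIdeal R
  let T : Submodule R M := ⊤
  have hfg : T.FG := Module.Finite.fg_top
  rw [IsLocalRing.spanFinrank_eq_finrank_quotient T hfg]
  let Q := ↥T ⧸ mI • (⊤ : Submodule R ↥T)
  let π : M →ₗ[R] Q := (mI • (⊤ : Submodule R ↥T)).mkQ ∘ₗ Submodule.topEquiv.symm.toLinearMap
  have hπ : Function.Surjective π :=
    (Submodule.mkQ_surjective _).comp Submodule.topEquiv.symm.surjective
  have hlen : Module.length R Q = (Module.finrank (R ⧸ mI) Q : ℕ∞) := by
    let : Field (R ⧸ mI) := Ideal.Quotient.field _
    rw [Module.length_eq_of_surjective (M := Q) (S := R) (R := R ⧸ mI) Ideal.Quotient.mk_surjective,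
      Module.length_eq_finrank]
  have hfin : IsFiniteLength R Q := by
    rw [← Module.length_ne_top_iff, hlen]
    exact ENat.coe_ne_top _
  rw [← hlen, ← Groth.Agent.H4Matlis.length_hom_eq_length hf hfin]
  let g := LinearMap.lcomp R E π
  have hg : Function.Injective g := fun a b h => LinearMap.ext fun q => by
    obtain ⟨x, rfl⟩ := hπ q
    exact LinearMap.congr_fun h x
  rw [(LinearEquiv.ofInjective g hg).length_eq]
  have key : LinearMap.range g = LocCoh.torsionBy mI (M →ₗ[R] E) := by
    ext φ
    refine Iff.trans ?_ (Submodule.mem_torsionBySet_iff _ _).symm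
    constructor
    · rintro ⟨ψ, rfl⟩ a
      refine LinearMap.ext fun x => ?_
      have h0 : (a : R) • π x = 0 := by
        rw [← map_smul]
        refine (Submodule.Quotient.mk_eq_zero _).mpr ?_
        rw [map_smul]
        exact Submodule.smul_mem_smul a.2 trivial
      change (a : R) • ψ (π x) = 0
      rw [← map_smul, h0, map_zero]
    · intro h
      have hker : mI • (⊤ : Submodule R ↥T) ≤
          LinearMap.ker (φ ∘ₗ Submodule.topEquiv.toLinearMap) := by
        rw [Submodule.smul_le]
        intro r hr n _
        have := LinearMap.congr_fun (h ⟨r, hr⟩) (n : M)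
        rw [LinearMap.mem_ker, map_smul]
        exact this
      exact ⟨Submodule.liftQ (mI • (⊤ : Submodule R ↥T))
        (φ ∘ₗ Submodule.topEquiv.toLinearMap) hker, LinearMap.ext fun x => rfl⟩
  exact (congrArg (fun N : Submodule R (M →ₗ[R] E) => Module.length R N) key)

end Groth.Agent.S17756
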