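import Groth.Statements.S17758
import Groth.Agent.H4Conn.Apps

set_option autoImplicit false
universe u
open LocCoh

namespace Groth.Agent.S17758

/-- Let R be a complete Noetherian local domain of Krull dimension d with maximal ideal m, and I a
proper ideal of R of arithmetic rank at most d − 2: there are elements f_1, …, f_t with t + 2 ≤ d
such that I and (f_1, …, f_t) have the same radical. Then the punctured spectrum of R ⧸ I, viewed as
the set of prime ideals of R that contain I and differ from m, is a nonempty connected subset of
Spec R. (Connectedness is taken here to include nonemptiness, so the unit ideal, whose punctured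
spectrum is empty, is excluded; for a proper I nonemptiness is automatic, since otherwise I would be
m-primary and m would be minimal over an ideal generated by t ≤ d − 2 elements, against Krull's
height bound.) -/
theorem result (R : Type u) [CommRing R] [IsDomain R] [IsNoetherianRing R] [IsLocalRing R] [IsAdicComplete (IsLocalRing.maximalIdeal R) R] (d : ℕ) (hd : ringKrullDim R = d) (t : ℕ) (ht : t + 2 ≤ d) (f : Fin t → R) (I : Ideal R) (hItop : I ≠ ⊤) (hI : I.radical = (Ideal.span (Set.range f)).radical) : IsConnected {x : PrimeSpectrum R | I ≤ x.asIdeal ∧ x.asIdeal ≠ IsLocalRing.maximalIdeal R} := by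
  classical
  refine Groth.Agent.H4Conn.isConnected_punctured d hd t ht I hItop
    (fun M _ _ i hi => Groth.Agent.H4Conn.cdLE_of_radical_span (s := Finset.univ.image f) ?_ M i
      (lt_of_le_of_lt (Finset.card_image_le.trans (Finset.card_fin t).le) hi))
  rw [Finset.coe_image, Finset.coe_univ, Set.image_univ, hI]

end Groth.Agent.S17758
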