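import Groth.Statements.S17759
import Groth.Agent.H4LC.Coassociated

set_option autoImplicit false
universe u
open LocCoh

namespace Groth.Agent.S17759

/-- Let R be a complete Noetherian local ring with maximal ideal m, E an injective hull of its residue
field, I an ideal of R and M a finitely generated R-module whose support has dimension n. Then the
set of associated primes of the Matlis dual Hom_R(H^n_I(M), E) of the top local cohomology module
(the coassociated primes of H^n_I(M)) is the set of prime ideals p of R containing the annihilator
of M such that R ⧸ p has dimension n and the radical of I + p is m. -/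
theorem result (R : Type u) [CommRing R] [IsNoetherianRing R] [IsLocalRing R] [IsAdicComplete (IsLocalRing.maximalIdeal R) R] (E : Type u) [AddCommGroup E] [Module R E] (f : IsLocalRing.ResidueField R →ₗ[R] E) (hf : InjHull.IsInjectiveHull f) (I : Ideal R) (M : Type u) [AddCommGroup M] [Module R M] [Module.Finite R M] (n : ℕ) (hn : Module.supportDim R M = n) : associatedPrimes R (LocCoh.H I n M →ₗ[R] E) = {p : Ideal R | p.IsPrime ∧ Module.annihilator R M ≤ p ∧ ringKrullDim (R ⧸ p) = n ∧ (I ⊔ p).radical = IsLocalRing.maximalIdeal R} := by
  exact Groth.Agent.H4LC.associatedPrimes_dual_H_top f hf I M n hn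

end Groth.Agent.S17759
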