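import Groth.Statements.S17761
import Groth.Agent.H4LC.Nonvanishing
import Groth.Agent.H4LC.LC

set_option autoImplicit false
universe u
open LocCoh

namespace Groth.Agent.S17761

/-- Let R be a Noetherian local ring with maximal ideal m and M a finitely generated R-module whose
support has positive dimension n. Then the local cohomology module H^n_m(M) is not a finitely
generated R-module. -/
theorem result (R : Type u) [CommRing R] [IsNoetherianRing R] [IsLocalRing R] (M : Type u) [AddCommGroup M] [Module R M] [Module.Finite R M] (n : ℕ) (hn0 : 0 < n) (hn : Module.supportDim R M = n) : ¬ Module.Finite R (LocCoh.H (IsLocalRing.maximalIdeal R) n M) := by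

  intro hfin
  obtain ⟨s, hs⟩ := hfin.fg_top
  classical
  choose k hk using fun z => H4LC.isPowerTorsion_H (IsLocalRing.maximalIdeal R) n M z
  refine (H4LC.nontrivial_H_supportDim n M hn).2 hn0 ⟨s.sup k, fun a ha z => ?_⟩
  have hz : z ∈ Submodule.span R (s : Set (LocCoh.H (IsLocalRing.maximalIdeal R) n M)) :=
    hs ▸ Submodule.mem_top
  induction hz using Submodule.span_induction with
  | mem y hy => exact hk y a (Ideal.pow_le_pow_right (Finset.le_sup (Finset.mem_coe.1 hy)) ha)
  | zero => exact smul_zero _
  | add y w _ _ hy hw => rw [smul_add, hy, hw, add_zero]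
  | smul r y _ hy => rw [smul_comm, hy, smul_zero]

end Groth.Agent.S17761
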