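import Groth.Statements.S17765
import Groth.Agent.H4LC.FiniteH1
import Groth.Agent.H05EGA4.Regular
import Groth.Agent.H4Depth.Regular
import Groth.Agent.H02CA.AuslanderBuchsbaum
import Mathlib.RingTheory.LocalProperties.ProjectiveDimension

set_option autoImplicit false
universe u
open CategoryTheory
open LocCoh

namespace Groth.Agent.S17765

/-- Let B be a regular local ring, M a finitely generated B-module and p an associated prime ideal of M.
Then the height of p is at most the projective dimension of M: for every n such that M has
projective dimension at most n, ht p ≤ n. -/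
theorem result (B : Type u) [CommRing B] [IsRegularLocalRing B] (M : Type u) [AddCommGroup M] [Module B M] [Module.Finite B M] (p : Ideal B) (hp : p ∈ associatedPrimes B M) (n : ℕ) (hn : HasProjectiveDimensionLE (ModuleCat.of B M) n) : p.height ≤ n := by
  have := hp.isPrime
  let P : PrimeSpectrum B := ⟨p, hp.isPrime⟩
  let L := Localization.AtPrime p
  have : IsRegularLocalRing L := Groth.Agent.H05EGA4.isRegularLocalRing_localization B p
  let N := LocalizedModule p.primeCompl M
  have h0 : LocCoh.depth L N = 0 := Groth.Agent.H4LC.depth_eq_zero_of_associated M (p := P) hp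
  have : Nontrivial N := by
    have h := Groth.Agent.H4Depth.mem_support_of_mem_associatedPrimes (M := M) hp
    exact Module.mem_support_iff.mp h
  have hpdN : HasProjectiveDimensionLE (ModuleCat.of L N) n := by
    have h1 := ModuleCat.localizedModule_hasProjectiveDimensionLE n p.primeCompl (ModuleCat.of B M)
    let g := (ModuleCat.of B M).localizedModuleMkLinearMap p.primeCompl
    have : IsLocalizedModule p.primeCompl g := ModuleCat.localizedModule_isLocalizedModule _ _
    exact hasProjectiveDimensionLT_of_iso (((IsLocalizedModule.iso p.primeCompl g).symm.extendScalarsOfIsLocalization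
        p.primeCompl L).toModuleIso) (n + 1)
  have hfin : projectiveDimension (ModuleCat.of L N) ≠ ⊤ :=
    ne_top_of_le_ne_top (WithBot.coe_inj.not.mpr (ENat.natCast_ne_top n) : ((n : ℕ∞) : WithBot ℕ∞) ≠ ⊤) ((projectiveDimension_le_iff _ n).mpr hpdN)
  obtain ⟨e, he⟩ := Groth.Agent.H02CA.AuslanderBuchsbaum.exists_pd_eq N hfin
  obtain ⟨he1, he2⟩ := Groth.Agent.H02CA.AuslanderBuchsbaum.pd_bounds_of_eq he
  have hab := Groth.Agent.H02CA.AuslanderBuchsbaum.depth_eq_add e N he1 he2
  rw [h0, add_zero] at hab
  have hen : e ≤ n := by
    by_contra hlt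
    exact he2 (hasProjectiveDimensionLT_of_ge _ (n + 1) e (by omega))
  have hd := Groth.Agent.H4Depth.depth_self_eq_ringKrullDim_of_regular L
  rw [hab, IsLocalization.AtPrime.ringKrullDim_eq_height p L] at hd
  have : (e : ℕ∞) = p.height := WithBot.coe_injective hd
  exact this ▸ (by exact_mod_cast hen)

end Groth.Agent.S17765
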