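import Groth.Statements.S17774
import Groth.Agent.S14424
import Groth.Agent.H4LC.GorQuotient
import Groth.Agent.H4LC.ExtCompare

set_option autoImplicit false
universe u
open CategoryTheory Opposite
open LocCoh

namespace Groth.Agent.S17774

/-- Let (S, n) be a Gorenstein local ring, I an ideal of S of height g such that R = S ⧸ I is a
Cohen–Macaulay local ring, of Krull dimension d, and E an injective hull of the residue field of S.
Then the canonical module of R is Ext^g_S(R, S), in the following sense: the Matlis dual
Hom_S(Ext^g_S(R, S), E) is isomorphic as an S-module to the top local cohomology H^d_n(R) of R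
regarded as an S-module (existence of an S-linear isomorphism; Hom into E over S and local
cohomology with support in n agree with the corresponding notions over R for R-modules). -/
theorem result (S : Type u) [CommRing S] [LocCoh.IsGorensteinLocalRing S] (I : Ideal S) (g : ℕ) (hg : I.height = g) [LocCoh.IsCohenMacaulayLocalRing (S ⧸ I)] (d : ℕ) (hd : ringKrullDim (S ⧸ I) = d) (E : Type u) [AddCommGroup E] [Module S E] (f : IsLocalRing.ResidueField S →ₗ[S] E) (hf : InjHull.IsInjectiveHull f) : Nonempty ((((Ext S (ModuleCat.{u} S) g).obj (op (ModuleCat.of S (S ⧸ I)))).obj (ModuleCat.of S S) →ₗ[S] E) ≃ₗ[S] LocCoh.H (IsLocalRing.maximalIdeal S) d (S ⧸ I)) := by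

  obtain ⟨r, -, hr, -⟩ := H4Goren.depth_eq_ringKrullDim S
  haveI : LocCoh.IsCohenMacaulayRing S :=
    { isCohenMacaulayLocalRing_localization := fun p _ =>
        (H4LC.isGorensteinLocalRing_localization S p |> fun h =>
          @H4Goren.isCohenMacaulayLocalRing _ _ h) }
  have hI : I ≠ ⊤ := fun h => by
    subst h
    haveI : Subsingleton (S ⧸ (⊤ : Ideal S)) := Ideal.Quotient.subsingleton_iff.mpr rfl
    rw [ringKrullDim_eq_bot_of_subsingleton] at hd
    exact WithBot.bot_ne_coe hd
  have h1 := H4Depth.IsCM.supportDim_eq_add_idealDepth (M := S) hI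
    (H4Goren.isCohenMacaulayLocalRing S).supportDim_eq_depth
  rw [Module.supportDim_self_eq_ringKrullDim, hr, Module.supportDim_eq_of_equiv (Submodule.quotEquivOfEq _ _
    (by rw [smul_eq_mul, Ideal.mul_top] : I • (⊤ : Submodule S S) = I)),
    Module.supportDim_quotient_eq_ringKrullDim, hd, (S14424.result S).1 inferInstance I hI, hg] at h1
  have h2 : r = d + g := by exact_mod_cast h1
  obtain ⟨e⟩ := H4LC.nonempty_localDuality (M := S ⧸ I) hr f hf (j := d) (c := g) h2.symm
  exact ⟨(LinearEquiv.congrLeft E S
    (H4LC.extEquiv (ModuleCat.of S (S ⧸ I)) (ModuleCat.of S S) g)).trans e.symm⟩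

end Groth.Agent.S17774
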