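import Groth.Statements.S17766
import Groth.Agent.S17774
import Groth.Agent.H4CanonIdeal.Basic
import Groth.Agent.H4LC.CanonCM
import Groth.Agent.H05EGA4.Equidim
import Groth.Agent.H8Props.FlatDepth

set_option autoImplicit false
universe u
open CategoryTheory Opposite
open LocCoh

namespace Groth.Agent.S17766

/-- Let B be a regular local ring, p a prime ideal of B of height r, and suppose that A = B ⧸ p is
Cohen–Macaulay. Then the B-module Ext^r_B(A, B) is isomorphic either to A itself or to a proper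
ideal I of A which is unmixed of height one, i.e. every associated prime of A ⧸ I has height one in
A (existence of a B-linear isomorphism in each case). -/
theorem result (B : Type u) [CommRing B] [IsRegularLocalRing B] (p : Ideal B) [p.IsPrime] [LocCoh.IsCohenMacaulayLocalRing (B ⧸ p)] (r : ℕ) (hr : p.height = r) : Nonempty (((Ext B (ModuleCat.{u} B) r).obj (op (ModuleCat.of B (B ⧸ p)))).obj (ModuleCat.of B B) ≃ₗ[B] (B ⧸ p)) ∨ ∃ I : Ideal (B ⧸ p), I ≠ ⊤ ∧ (∀ q ∈ associatedPrimes (B ⧸ p) ((B ⧸ p) ⧸ I), q.height = 1) ∧ Nonempty (((Ext B (ModuleCat.{u} B) r).obj (op (ModuleCat.of B (B ⧸ p)))).obj (ModuleCat.of B B) ≃ₗ[B] I) := by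
  haveI := H4Goren.isGorensteinLocalRing_of_isRegularLocalRing B
  haveI : Nontrivial (B ⧸ p) := Ideal.Quotient.nontrivial_iff.2 (Ideal.IsPrime.ne_top ‹_›)
  obtain ⟨d, hdA⟩ := ENat.ne_top_iff_exists.mp (H8Props.FlatDepth.depth_ne_top (B ⧸ p) (B ⧸ p))
  have hd : ringKrullDim (B ⧸ p) = (d : ℕ) := by
    rw [(H8Props.FlatDepth.isCM_iff_dim (B ⧸ p)).1 inferInstance, ← hdA]; rfl
  obtain ⟨n, -, hn, -⟩ := H4Goren.depth_eq_ringKrullDim B
  haveI := H4Goren.isCohenMacaulayLocalRing B
  have hrd : r + d = n := by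
    have h := H05EGA4.height_add_dim_eq_of_isCohenMacaulay B p
    rw [hr, hd, hn] at h
    exact_mod_cast h
  -- depth of `B ⧸ p` over `B`
  have hdep : LocCoh.depth B (B ⧸ p) = (d : ℕ∞) := by
    rw [← H8Props.FlatDepth.depth_eq_of_surjective (R := B) (S := B ⧸ p) (M := B ⧸ p) Ideal.Quotient.mk_surjective, hdA]
  have hdimM : Module.supportDim B (B ⧸ p) = (d : ℕ) := by
    rw [Module.supportDim_quotient_eq_ringKrullDim, hd]
  have hCM : LocCoh.IsCohenMacaulayModule B (B ⧸ p) := by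
    show Module.supportDim B (B ⧸ p) = ((LocCoh.depth B (B ⧸ p) : ℕ∞) : WithBot ℕ∞)
    rw [hdimM, hdep]; rfl
  let ω : Type u := ((Ext B (ModuleCat.{u} B) r).obj (op (ModuleCat.of B (B ⧸ p)))).obj (ModuleCat.of B B)
  obtain ⟨E, _, _, f, hf⟩ := H4Inj.exists_isInjectiveHull (R := B) (IsLocalRing.ResidueField B)
  obtain ⟨eq⟩ := S17774.result B p r hr d hd E f hf
  have hreg : ∀ as : List B, (∀ a ∈ as, a ∈ IsLocalRing.maximalIdeal B) →
      RingTheory.Sequence.IsWeaklyRegular (B ⧸ p) as → RingTheory.Sequence.IsWeaklyRegular ω as :=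
    fun as has h => (H4LC.canon_pair_list hf as has d (B ⧸ p) ω hCM hdimM eq).1.1 h
  -- the module as a submodule of a complete intersection
  obtain ⟨rs, hlen, hmem, hrs, hdrs⟩ := H4LC.exists_regular_sequence (B := B) (J := p) (n := d) (c := r) hn hd (by omega)
  obtain ⟨-, ⟨e1⟩⟩ := H4LC.ext_rees (B ⧸ p) rs B hrs fun x hx => by
    rw [Ideal.annihilator_quotient]; exact hmem x hx
  rw [hlen] at e1
  let e : ω ≃ₗ[B] ((B ⧸ p) →ₗ[B] B ⧸ Ideal.ofList rs • (⊤ : Submodule B B)) :=
    (H4LC.extEquiv (ModuleCat.of B (B ⧸ p)) (ModuleCat.of B B) r).trans e1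
  haveI : Module.Finite B ω := Module.Finite.equiv e.symm
  have hkill : ∀ b ∈ p, ∀ x : ω, b • x = 0 := fun b hb x => by
    refine e.injective ?_
    rw [map_smul, map_zero]
    refine LinearMap.ext fun y => ?_
    rw [LinearMap.smul_apply, ← map_smul, LinearMap.zero_apply]
    obtain ⟨c, rfl⟩ := Ideal.Quotient.mk_surjective y
    rw [show b • Ideal.Quotient.mk p c = 0 from
      (Ideal.Quotient.eq_zero_iff_mem (I := p)).2 (p.mul_mem_right c hb), map_zero]
  have htf : ∀ a ∉ p, ∀ x : ω, a • x = 0 → x = 0 := fun a ha x hx => by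
    by_cases hu : IsUnit a
    · exact hu.smul_eq_zero.1 hx
    · refine ((RingTheory.Sequence.isWeaklyRegular_singleton_iff ω a).1 (hreg [a]
        (by simpa using (IsLocalRing.mem_maximalIdeal a).2 hu)
        ((RingTheory.Sequence.isWeaklyRegular_singleton_iff (B ⧸ p) a).2
          (isSMulRegular_iff_right_eq_zero_of_smul.2 fun y hy => ?_)))).right_eq_zero_of_smul hx
      rw [Algebra.smul_def, Ideal.Quotient.algebraMap_eq] at hy
      exact (mul_eq_zero.1 hy).resolve_left fun h => ha (Ideal.Quotient.eq_zero_iff_mem.1 h)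
  obtain ⟨v, hv⟩ : ∃ v : ω, v ≠ 0 := by
    by_contra hc
    push Not at hc
    obtain ⟨t, ht, h⟩ := H4LC.exists_mul_mem_of_kills_ext (B := B) (J := p) (n := d) (c := r) hn hd (by omega)
      (b := 1) (fun x => by
        rw [one_smul, ← (H4LC.extEquiv (ModuleCat.of B (B ⧸ p)) (ModuleCat.of B B) r).apply_symm_apply x,
          hc ((H4LC.extEquiv (ModuleCat.of B (B ⧸ p)) (ModuleCat.of B B) r).symm x), map_zero]) (Q := p) hd
    exact ht (by simpa using h)
  -- rank one
  have hmin : p ∈ (Ideal.ofList rs).minimalPrimes := by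
    refine ⟨⟨‹_›, Ideal.span_le.2 hmem⟩, fun q hq hqp => ?_⟩
    haveI := hq.1
    by_contra hne
    have h1 := H4LC.ringKrullDim_quotient_succ_le_of_lt (lt_of_le_not_ge hqp hne)
    have h2 : ringKrullDim (B ⧸ q) ≤ ringKrullDim (B ⧸ Ideal.ofList rs) :=
      ringKrullDim_le_of_surjective (Ideal.Quotient.factor hq.2) (Ideal.Quotient.factor_surjective hq.2)
    have hR : RingTheory.Sequence.IsRegular B rs := by
      refine ⟨hrs, fun htop => (Ideal.IsPrime.ne_top ‹p.IsPrime›) (top_le_iff.1 ?_)⟩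
      rw [htop, smul_eq_mul, Ideal.mul_top]
      exact Ideal.span_le.2 hmem
    have h3 := ringKrullDim_add_length_eq_ringKrullDim_of_isRegular rs hR
    rw [hd] at h1
    rw [hn, hlen] at h3
    have h4 : ((d + 1 + r : ℕ) : WithBot ℕ∞) ≤ ((n : ℕ) : WithBot ℕ∞) := by
      rw [← h3]
      push_cast
      exact add_le_add_left (h1.trans h2) _
    have : d + 1 + r ≤ n := by exact_mod_cast h4
    omega
  have hrepr : ∀ u : ω, ∃ u0 : B, e u (Ideal.Quotient.mk p 1) = Submodule.Quotient.mk u0 := fun u => by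
    obtain ⟨u0, h⟩ := Submodule.Quotient.mk_surjective _ (e u (Ideal.Quotient.mk p 1))
    exact ⟨u0, h.symm⟩
  choose ρ hρ using hrepr
  have hzero : ∀ u : ω, ∀ a : B, a * ρ u ∈ Ideal.ofList rs ↔ a • u = 0 := fun u a => by
    rw [show (Ideal.ofList rs : Ideal B) = Ideal.ofList rs • (⊤ : Submodule B B) by
      rw [smul_eq_mul, Ideal.mul_top], ← smul_eq_mul a, ← Submodule.Quotient.mk_eq_zero (p := Ideal.ofList rs • (⊤ : Submodule B B)),
      Submodule.Quotient.mk_smul, ← hρ u]
    refine ⟨fun h => e.injective ?_, fun h => ?_⟩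
    · rw [map_smul, map_zero]
      exact Submodule.linearMap_qext p (LinearMap.ext_ring h)
    · rw [← LinearMap.smul_apply, ← map_smul, h, map_zero, LinearMap.zero_apply]
  have hdepd : ∀ u : ω, ∃ a ∉ p, ∃ b : B, a • u = b • v := fun u => by
    obtain ⟨a, ha, b, hab⟩ := H4CanonIdeal.exists_dependence rs hmin hrs (v := ρ v) (u := ρ u)
      (fun t ht h => hv (htf t ht v ((hzero v t).1 h))) (fun b hb => (hzero u b).2 (hkill b hb u))
    refine ⟨a, ha, b, e.injective (Submodule.linearMap_qext p (LinearMap.ext_ring ?_))⟩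
    show e (a • u) (Ideal.Quotient.mk p 1) = e (b • v) (Ideal.Quotient.mk p 1)
    rw [map_smul, map_smul, LinearMap.smul_apply, LinearMap.smul_apply, hρ u, hρ v,
      ← Submodule.Quotient.mk_smul, ← Submodule.Quotient.mk_smul, Submodule.Quotient.eq,
      smul_eq_mul (Ideal.ofList rs : Ideal B), Ideal.mul_top]
    exact hab
  obtain ⟨φ, hφ⟩ := H4CanonIdeal.exists_injective_to_quotient p hkill htf hv hdepd
  let I : Ideal (B ⧸ p) :=
    { LinearMap.range φ with
      smul_mem' := fun c x hx => by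
        obtain ⟨c, rfl⟩ := Ideal.Quotient.mk_surjective c
        have := (LinearMap.range φ).smul_mem c hx
        rw [Algebra.smul_def, Ideal.Quotient.algebraMap_eq] at this
        exact this }
  have hI : ∀ x, x ∈ I ↔ x ∈ LinearMap.range φ := fun x => Iff.rfl
  let eI : ω ≃ₗ[B] I := LinearEquiv.ofBijective
    { toFun := fun x => (⟨φ x, LinearMap.mem_range_self φ x⟩ : I)
      map_add' := fun x y => Subtype.ext (map_add φ x y)
      map_smul' := fun c x => Subtype.ext (map_smul φ c x) }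
    ⟨fun x y h => hφ (congrArg Subtype.val h), fun ⟨_, x, hx⟩ => ⟨x, Subtype.ext hx⟩⟩
  by_cases hprin : ∃ g, I = Ideal.span {g}
  · left
    obtain ⟨g, hg⟩ := hprin
    have hg0 : g ≠ 0 := fun h => hv (hφ (by
      rw [map_zero]
      have : φ v ∈ Ideal.span {g} := hg ▸ LinearMap.mem_range_self φ v
      rw [h, Ideal.span_singleton_eq_bot.2 rfl] at this
      exact this))
    let eA : (B ⧸ p) ≃ₗ[B] I := LinearEquiv.ofBijective
      ((LinearMap.mulRight B g).codRestrict (I.restrictScalars B) fun x =>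
        show x * g ∈ I from hg ▸ Ideal.mul_mem_left _ x (Ideal.mem_span_singleton_self g))
      ⟨fun x y h => mul_right_cancel₀ hg0 (congrArg Subtype.val h), fun ⟨z, hz⟩ => by
        obtain ⟨x, hx⟩ := Ideal.mem_span_singleton'.1 (hg ▸ hz)
        exact ⟨x, Subtype.ext hx⟩⟩
    exact ⟨eI.trans eA.symm⟩
  right
  refine ⟨I, fun h => hprin ⟨1, by rw [h, Ideal.span_singleton_one]⟩, fun q hq => ?_, ⟨eI⟩⟩
  -- depth of the quotient
  obtain ⟨as, hasl, hasm, hasr⟩ := H4Depth.exists_isWeaklyRegular_of_le_idealDepth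
    (I := IsLocalRing.maximalIdeal B) H4Depth.maximalIdeal_smul_top_ne_top (n := d) (M := B ⧸ p) hdep.ge
  have hdω : (d : ℕ∞) ≤ LocCoh.depth B ω :=
    hasl ▸ H4Depth.length_le_idealDepth (hreg as hasm hasr) hasm
  let g : (B ⧸ p) →ₗ[B] (B ⧸ p) ⧸ I := (Ideal.Quotient.mkₐ B I).toLinearMap
  have hgs : Function.Surjective g := Ideal.Quotient.mk_surjective
  have hex : Function.Exact φ g := fun x => (Ideal.Quotient.eq_zero_iff_mem (I := I)).trans (hI x)
  haveI : Module.Finite B ((B ⧸ p) ⧸ I) := Module.Finite.of_surjective g hgs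
  have hdQ : ((d - 1 : ℕ) : ℕ∞) ≤ LocCoh.depth B ((B ⧸ p) ⧸ I) := by
    refine le_trans (le_min ?_ ?_) (H4Depth.min_le_idealDepth_right (I := IsLocalRing.maximalIdeal B) hφ hgs hex)
    · change ((d - 1 : ℕ) : ℕ∞) ≤ LocCoh.depth B (B ⧸ p)
      rw [hdep]
      exact_mod_cast Nat.sub_le d 1
    · refine le_trans (le_of_eq (ENat.natCast_sub d 1)) (tsub_le_tsub_right hdω _)
  -- the associated prime
  let Q : Ideal B := q.comap (Ideal.Quotient.mk p)
  have hQ : Q ∈ associatedPrimes B ((B ⧸ p) ⧸ I) := by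
    obtain ⟨x, hx⟩ := hq.2
    refine ⟨Ideal.IsPrime.comap (hK := hq.1) _, x, ?_⟩
    show q.comap (Ideal.Quotient.mk p) = _
    rw [hx, Ideal.comap_radical]
    congr 1
  haveI := hq.1
  have hQd := H4Depth.depth_le_ringKrullDim_quotient_of_mem_associatedPrimes hQ
  have hQq : ringKrullDim (B ⧸ Q) = ringKrullDim ((B ⧸ p) ⧸ q) :=
    ringKrullDim_eq_of_ringEquiv ((Ideal.quotEquivOfEq (show Q = RingHom.ker
      ((Ideal.Quotient.mk q).comp (Ideal.Quotient.mk p)) by
        rw [← RingHom.comap_ker, Ideal.mk_ker])).trans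
      (RingHom.quotientKerEquivOfSurjective (f := (Ideal.Quotient.mk q).comp (Ideal.Quotient.mk p))
        (Ideal.Quotient.mk_surjective.comp Ideal.Quotient.mk_surjective)))
  have hle : I ≤ q := by
    refine le_trans (fun a ha => Submodule.mem_annihilator.2 fun y _ => ?_) (IsAssociatedPrime.annihilator_le hq)
    obtain ⟨c, rfl⟩ := Submodule.Quotient.mk_surjective I y
    rw [← Submodule.Quotient.mk_smul, Submodule.Quotient.mk_eq_zero]
    exact I.mul_mem_right c ha
  have hbot : (⊥ : Ideal (B ⧸ p)) < q := by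
    refine lt_of_lt_of_le (bot_lt_iff_ne_bot.2 fun h => hv (hφ ?_)) hle
    rw [map_zero]
    have : φ v ∈ I := LinearMap.mem_range_self φ v
    rwa [h] at this
  have hpos : q.height ≠ 0 := (zero_le.trans_lt (Ideal.height_strict_mono_of_isPrime hbot)).ne'
  obtain ⟨h, hh⟩ := ENat.ne_top_iff_exists.1 (Ideal.height_ne_top (I := q) Ideal.IsPrime.ne_top')
  have hsum := H05EGA4.height_add_dim_eq_of_isCohenMacaulay (B ⧸ p) q
  rw [← hQq, hd, ← hh] at hsum
  rw [← hh] at hpos ⊢
  have h1 : ((d - 1 : ℕ) : WithBot ℕ∞) ≤ ringKrullDim (B ⧸ Q) :=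
    le_trans (WithBot.coe_le_coe.2 hdQ) hQd
  generalize ringKrullDim (B ⧸ Q) = D at hsum h1
  induction D with
  | bot => simp at hsum
  | coe D =>
    induction D with
    | top =>
      have h2 : (h : ℕ∞) + ⊤ = (d : ℕ∞) := by exact_mod_cast hsum
      rw [add_top] at h2
      exact absurd h2.symm (ENat.natCast_ne_top d)
    | coe D =>
      have h2 : h + D = d := by exact_mod_cast hsum
      have h3 : d - 1 ≤ D := Nat.cast_le.1 (WithBot.coe_le_coe.1 h1)
      have h4 : h ≠ 0 := by exact_mod_cast hpos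
      exact_mod_cast (show h = 1 by omega)

end Groth.Agent.S17766
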