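import Groth.Statements.S17772
import Groth.Agent.H4Gr.Euler

set_option autoImplicit false
universe u
open GrLC

namespace Groth.Agent.S17772

/-- Let R = ⊕_{n ≥ 0} R_n be a positively ℤ-graded ring which is standard graded (irrelevant ideal
generated by R_1), with R_0 Artinian, *local with unique homogeneous maximal ideal m, and
Cohen–Macaulay of Krull dimension d; let H_R(n) = ℓ_{R_0}(R_n) be its Hilbert function and P_R ∈
ℚ[X] its Hilbert polynomial (a polynomial agreeing with H_R for all large n, taken as given). Then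
the a-invariant of R, the largest degree in which H^d_m(R) is nonzero (computed from any *injective
resolution of R), equals the supremum of the integers n with P_R(n) ≠ H_R(n). (The published text
writes 'min' for this supremum; the set of such n is unbounded below whenever it is nonempty, e.g.
all n < 0 for a polynomial ring over a field, and the published one-line proof H_R(n) − P_R(n) =
(−1)^d ℓ(H^d_m(R)_n) identifies the set with the nonzero degrees of H^d_m(R), whose largest element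
is a(R).) -/
theorem result (R : Type u) [CommRing R] [LocCoh.IsCohenMacaulayRing R] (𝒜 : ℤ → AddSubgroup R) [GradedRing 𝒜] (hpos : ∀ n : ℤ, n < 0 → 𝒜 n = ⊥) (hstd : Ideal.span (⋃ n ∈ Set.Ioi (0 : ℤ), (𝒜 n : Set R)) = Ideal.span ((𝒜 1 : AddSubgroup R) : Set R)) [IsArtinianRing (GrLC.deg0 𝒜)] (m : HomogeneousIdeal 𝒜) (hm : GrLC.IsStarLocal 𝒜 m) (d : ℕ) (hd : ringKrullDim R = d) (I : GrLC.StarInjRes 𝒜 𝒜) (P : Polynomial ℚ) (hP : ∃ N : ℤ, ∀ n : ℤ, N ≤ n → P.eval (n : ℚ) = ((Module.length (GrLC.deg0 𝒜) (GrLC.comp 𝒜 𝒜 n)).toNat : ℚ)) : GrLC.endDeg (I.Hgr m d) = ⨆ (n : ℤ) (_ : P.eval (n : ℚ) ≠ ((Module.length (GrLC.deg0 𝒜) (GrLC.comp 𝒜 𝒜 n)).toNat : ℚ)), ((n : WithTop ℤ) : WithBot (WithTop ℤ)) := by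
  open Groth.Agent.H4Gr in
  haveI : Module.Finite R R := inferInstance
  have key : ∀ n : ℤ, P.eval (n : ℚ) ≠ ((Module.length (GrLC.deg0 𝒜) (GrLC.comp 𝒜 𝒜 n)).toNat : ℚ) ↔
      I.Hgr m d n ≠ ⊥ := fun n => by
    have h := chi_eq_hilbert m hpos hm hstd (M := R) (ℳ := 𝒜) hd.le I P hP n
    have hz : ∀ i ∈ Finset.range (d + 1), i ≠ d →
        (-1 : ℚ) ^ i * len (GrLC.deg0 𝒜) (I.Hcomp m i n) = 0 := fun i _ hi => by
      haveI : Subsingleton (I.Hcomp m i n) := ⟨fun x y => Subtype.ext
        ((H_eq_zero_of_ne_dim hpos hm hd hi I _).trans (H_eq_zero_of_ne_dim hpos hm hd hi I _).symm)⟩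
      exact mul_eq_zero_of_right _ (len_eq_zero_of_subsingleton (A := I.Hcomp m i n) _)
    simp only [chi, Finset.sum_eq_single_of_mem d (Finset.self_mem_range_succ d) hz] at h
    rw [not_iff_not, show ((Module.length (GrLC.deg0 𝒜) (GrLC.comp 𝒜 𝒜 n)).toNat : ℚ) =
      len (GrLC.deg0 𝒜) (GrLC.comp 𝒜 𝒜 n) from rfl, ← h, sub_eq_self, mul_eq_zero,
      or_iff_right (pow_ne_zero _ (by norm_num : (-1 : ℚ) ≠ 0)), Hgr_eq_bot_iff]
    obtain ⟨hA, hN⟩ := finLen_Hcomp m hpos hm I d n
    constructor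
    · intro h0
      haveI : Subsingleton (I.Hcomp m d n) := by
        simp only [len, Nat.cast_eq_zero, ENat.toNat_eq_zero] at h0
        rcases h0 with h0 | h0
        · exact Module.length_eq_zero_iff.1 h0
        · exact absurd h0 Module.length_ne_top
      exact (Submodule.eq_bot_iff _).2 fun x hx => congrArg Subtype.val (Subsingleton.elim (⟨x, hx⟩ : I.Hcomp m d n) 0)
    · intro h0
      haveI : Subsingleton (I.Hcomp m d n) := ⟨fun x y => Subtype.ext
        (((Hcomp_eq_bot_iff m).1 h0 x x.2).trans ((Hcomp_eq_bot_iff m).1 h0 y y.2).symm)⟩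
      exact len_eq_zero_of_subsingleton (A := I.Hcomp m d n) _
  exact iSup_congr fun n => iSup_congr_Prop (key n).symm fun _ => rfl

end Groth.Agent.S17772
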