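import Groth.Statements.S17773
import Groth.Agent.H3CAlg.FlatBalance
import Mathlib.CategoryTheory.Abelian.Projective.Resolution
import Mathlib.Algebra.Category.ModuleCat.Projective

set_option autoImplicit false
universe u
open CategoryTheory CategoryTheory.Limits
open CAlg

namespace Groth.Agent.S17773

/-- Let R be a commutative ring, M and N two R-modules, and F a flat resolution of M: a chain complex F
of flat R-modules concentrated in non-negative degrees together with a quasi-isomorphism from F to M
placed in degree 0. Then for every i ≥ 0 the i-th homology module of the complex F ⊗_R N is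
isomorphic to Tor_i^R(M, N), the i-th left derived functor of − ⊗_R N evaluated at M (existence of
an isomorphism of R-modules). -/
theorem result (R : Type u) [CommRing R] (M N : Type u) [AddCommGroup M] [Module R M] [AddCommGroup N] [Module R N] (F : ChainComplex (ModuleCat.{u} R) ℕ) (hF : ∀ i : ℕ, Module.Flat R (F.X i)) (φ : F ⟶ (ChainComplex.single₀ (ModuleCat.{u} R)).obj (ModuleCat.of R M)) [QuasiIso φ] (i : ℕ) : Nonempty ((((MonoidalCategory.tensorRight (ModuleCat.of R N)).mapHomologicalComplex (ComplexShape.down ℕ)).obj F).homology i ≅ ((Tor' (ModuleCat.{u} R) i).obj (ModuleCat.of R M)).obj (ModuleCat.of R N)) := by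
  obtain ⟨P⟩ : Nonempty (ProjectiveResolution (ModuleCat.of R M)) := HasProjectiveResolution.out
  obtain ⟨e₁⟩ := Groth.Agent.H26Tor.balance P i (ModuleCat.of R N)
  obtain ⟨e₂⟩ := Groth.Agent.H3CAlg.FlatBalance.balance
    (⟨F, hF, φ⟩ : Groth.Agent.H3CAlg.FlatBalance.FlatResolution (ModuleCat.of R M)) i (ModuleCat.of R N)
  exact ⟨(e₂.symm ≪≫ e₁ ≪≫
    (P.isoLeftDerivedObj ((MonoidalCategory.tensoringRight (ModuleCat.{u} R)).obj (ModuleCat.of R N)) i).symm :)⟩

end Groth.Agent.S17773
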