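import Groth.Statements.S17777
import Groth.Agent.H4Cech.Homology

set_option autoImplicit false
universe u
open CategoryTheory CategoryTheory.Limits
attribute [local instance] HasDerivedCategory.standard
open LocCoh

namespace Groth.Agent.S17777

/-- Let R be an arbitrary commutative ring, x_1, …, x_n a finite list of elements of R and M an R-module
such that some x_i acts bijectively on M (so M is an R_{x_i}-module). Then every cohomology module
of the extended Čech complex of M on x_1, …, x_n is zero, in all degrees. -/
theorem result (R : Type u) [CommRing R] (fs : List R) (M : Type u) [AddCommGroup M] [Module R M] (f : R) (hf : f ∈ fs) (hu : Function.Bijective (fun m : M => f • m)) (q : ℤ) : IsZero (DerCA.extCechH fs (ModuleCat.of R M) q) := by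
  exact (Groth.Agent.H4Cech.isZero_homology_iff _ q).2 (Groth.Agent.H4Cech.exactAt_of_bijective (ModuleCat.of R M) hf hu q)

end Groth.Agent.S17777
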