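import Groth.Statements.S17780
import Groth.Agent.H25Misc.AltSum

set_option autoImplicit false
universe u
open DRR

namespace Groth.Agent.S17780

/-- For x, y in a commutative ring and a natural number n, (n+1)! · x · y^n equals the sum over j = 0,
…, n of (−1)^(n−j) C(n, j) (x + j y)^(n+1), minus (n · (n+1)!/2) · y^(n+1). (The published identity
is stated in ℚ[x, y] with an overall factor 1/(n+1) and the coefficients C(n, j)(−1)^(n−j)/n!; it is
given here multiplied through by (n+1)!, which makes it an identity with integer coefficients valid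
in every commutative ring; n · (n+1)!/2 is an integer.) -/
theorem result (A : Type u) [CommRing A] (x y : A) (n : ℕ) :
    ((n + 1).factorial : A) * x * y ^ n =
      (∑ j ∈ Finset.range (n + 1), (-1 : A) ^ (n - j) * (n.choose j : A) * (x + (j : A) * y) ^ (n + 1))
        - ((n * (n + 1).factorial / 2 : ℕ) : A) * y ^ (n + 1) := by
  have hexp : (∑ j ∈ Finset.range (n + 1), (-1 : A) ^ (n - j) * (n.choose j : A) * (x + (j : A) * y) ^ (n + 1)) =
      ∑ i ∈ Finset.range (n + 1 + 1), x ^ i * y ^ (n + 1 - i) * ((n + 1).choose i : A) * ((n.factorial * Nat.stirlingSecond (n + 1 - i) n : ℕ) : A) := by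
    simp_rw [add_pow, Finset.mul_sum]
    rw [Finset.sum_comm]
    refine Finset.sum_congr rfl fun i _ => ?_
    have h := congrArg (Int.cast (R := A)) (Groth.Agent.H25Misc.altSum_pow_eq_stirling n (n + 1 - i))
    push_cast at h
    push_cast
    rw [← h, Finset.mul_sum]
    refine Finset.sum_congr rfl fun j _ => ?_
    rw [mul_pow]; ring
  rw [hexp, Finset.sum_range_succ', Finset.sum_range_succ']
  rw [Finset.sum_eq_zero (fun i hi => ?_)]
  · have h2 : n * (n + 1).factorial / 2 = n.factorial * (n + 1).choose 2 := by
      have : (n + 1).choose 2 * 2 = (n + 1) * n := by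
        have h := Nat.add_one_mul_choose_eq n 1
        rw [Nat.choose_one_right] at h
        linarith
      apply Nat.div_eq_of_eq_mul_left (by norm_num)
      rw [Nat.factorial_succ]; nlinarith
    rw [h2]
    simp only [zero_add, pow_one, pow_zero, Nat.sub_zero, Nat.add_sub_cancel, Nat.choose_one_right, Nat.choose_zero_right,
      Nat.stirlingSecond_self, Nat.stirlingSecond_succ_self_left, mul_one, Nat.factorial_succ]
    push_cast
    ring
  · rw [Nat.stirlingSecond_eq_zero_of_lt (by have := Finset.mem_range.mp hi; omega)]; simp

end Groth.Agent.S17780
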