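import Groth.Statements.S17781
import Mathlib.Data.Nat.Choose.Factorization
import Mathlib.Algebra.GCDMonoid.Finset
import Mathlib.Tactic.Ring

set_option autoImplicit false
open Variety

namespace Groth.Agent.S17781

/-- Let d ≥ 1 and N ≥ 1 be integers and let I(d, N) be the greatest common divisor of the quotients d/δ
over the divisors δ of d with 1 ≤ δ ≤ N. Then I(d, N) equals the greatest common divisor of the
integers χ(d, n) = 1 − (−1)^n C(d − 1, n) for 1 ≤ n ≤ N (χ(d, n) is the Euler characteristic of O_H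
for a degree-d hypersurface H in projective n-space). Both greatest common divisors are taken in ℤ,
normalised to be non-negative. -/
theorem result (d N : ℕ) (hd : 1 ≤ d) (hN : 1 ≤ N) :
    (Finset.Icc 1 N).gcd (fun n => 1 - (-1 : ℤ) ^ n * ((d - 1).choose n : ℤ)) =
      ((Finset.Icc 1 N).filter (fun δ => δ ∣ d)).gcd (fun δ => ((d / δ : ℕ) : ℤ)) := by
  set C : ℕ → ℤ := fun n => ((d - 1).choose n : ℤ) with hC
  set χ : ℕ → ℤ := fun n => 1 - (-1 : ℤ) ^ n * ((d - 1).choose n : ℤ) with hχ
  have hrec : ∀ n : ℕ, χ n - χ (n + 1) = (-1 : ℤ) ^ (n + 1) * (d.choose (n + 1) : ℤ) := by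
    intro n
    have : d.choose (n + 1) = (d - 1).choose n + (d - 1).choose (n + 1) := by
      conv_lhs => rw [show d = (d - 1) + 1 by omega]
      exact Nat.choose_succ_succ' _ _
    simp only [hχ, this, pow_succ]
    push_cast
    ring
  have hχ0 : χ 0 = 0 := by simp [hχ]
  apply dvd_antisymm_of_normalize_eq (Finset.normalize_gcd) (Finset.normalize_gcd)
  · apply Finset.dvd_gcd
    intro δ hδ
    obtain ⟨hδ1, hδd⟩ := Finset.mem_filter.mp hδ
    obtain ⟨hδ1, hδN⟩ := Finset.mem_Icc.mp hδ1
    set G := (Finset.Icc 1 N).gcd χ with hG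
    have hGχ : ∀ n ≤ N, G ∣ χ n := by
      intro n hn
      rcases Nat.eq_zero_or_pos n with rfl | hn0
      · rw [hχ0]; exact dvd_zero _
      · exact Finset.gcd_dvd (Finset.mem_Icc.mpr ⟨hn0, hn⟩)
    have hGc : ∀ i, 1 ≤ i → i ≤ N → G.natAbs ∣ d.choose i := by
      intro i hi hiN
      obtain ⟨j, rfl⟩ := Nat.exists_eq_add_of_le' hi
      have h := dvd_sub (hGχ j (by omega)) (hGχ (j + 1) hiN)
      rw [hrec] at h
      have h' := Int.natAbs_dvd_natAbs.mpr h
      simpa [Int.natAbs_mul, Int.natAbs_pow] using h'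
    rw [Int.dvd_natCast]
    have hd0 : d ≠ 0 := by omega
    have hG1 := hGc 1 le_rfl hN
    rw [Nat.choose_one_right] at hG1
    have hG0 : G.natAbs ≠ 0 := fun h0 => hd0 (by rw [h0, Nat.zero_dvd] at hG1; exact hG1)
    have hq0 : d / δ ≠ 0 := (Nat.div_pos (Nat.le_of_dvd (by omega) hδd) (by omega)).ne'
    rw [← Nat.factorization_le_iff_dvd hG0 hq0, Nat.factorization_div hδd]
    intro p
    rw [Finsupp.tsub_apply]
    by_cases hp : p.Prime
    swap
    · simp [Nat.factorization_eq_zero_of_not_prime _ hp]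
    set b := δ.factorization p with hb
    set v := d.factorization p with hv
    have hbδ : p ^ b ≤ δ := Nat.le_of_dvd (by omega) (Nat.ordProj_dvd δ p)
    have hpb : p ^ b ∣ d := (Nat.ordProj_dvd δ p).trans hδd
    have hble : p ^ b ≤ d := Nat.le_of_dvd (by omega) hpb
    have h1 := (Nat.factorization_le_iff_dvd hG0 (Nat.choose_pos hble).ne').mpr
      (hGc (p ^ b) (Nat.one_le_pow _ _ hp.pos) (hbδ.trans hδN)) p
    refine h1.trans ?_
    rw [Nat.factorization_choose hp hble (Nat.lt_succ_self _)]
    calc _ ≤ (Finset.Ioc b v).card := by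
          apply Finset.card_le_card
          intro j hj
          rw [Finset.mem_filter] at hj
          obtain ⟨-, hj⟩ := hj
          rw [Finset.mem_Ioc]
          have hpj : 0 < p ^ j := pow_pos hp.pos _
          constructor
          · by_contra hjb
            have hdj : p ^ j ∣ p ^ b := pow_dvd_pow p (not_lt.mp hjb)
            rw [Nat.mod_eq_zero_of_dvd hdj |> id,
              Nat.mod_eq_zero_of_dvd ((Nat.dvd_sub (hdj.trans hpb) hdj))] at hj
            omega
          · by_contra hjv
            rw [not_le] at hjv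
            have hnd : ¬ p ^ j ∣ d := fun h => by
              have := (hp.pow_dvd_iff_le_factorization hd0).mp h
              omega
            have hbj : b ≤ j := le_of_lt (lt_of_le_of_lt
              ((hp.pow_dvd_iff_le_factorization hd0).mp hpb) hjv)
            have hdd : p ^ b ∣ d % p ^ j := (Nat.dvd_mod_iff (pow_dvd_pow p hbj)).mpr hpb
            have hbd : p ^ b ≤ d % p ^ j :=
              Nat.le_of_dvd (Nat.pos_of_ne_zero fun h => hnd (Nat.dvd_of_mod_eq_zero h)) hdd
            have hlt : d % p ^ j < p ^ j := Nat.mod_lt _ hpj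
            have hsub : (d - p ^ b) % p ^ j = d % p ^ j - p ^ b := by
              have e : d - p ^ b = (d % p ^ j - p ^ b) + p ^ j * (d / p ^ j) := by
                have := Nat.mod_add_div d (p ^ j); omega
              rw [e, Nat.add_mul_mod_self_left, Nat.mod_eq_of_lt (by omega)]
            rw [Nat.mod_eq_of_lt (lt_of_le_of_lt hbd hlt), hsub] at hj
            omega
      _ = v - b := Nat.card_Ioc _ _
  · set J := ((Finset.Icc 1 N).filter (fun δ => δ ∣ d)).gcd (fun δ => ((d / δ : ℕ) : ℤ)) with hJ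
    have hJc : ∀ i, 1 ≤ i → i ≤ N → J ∣ (d.choose i : ℤ) := by
      intro i hi hiN
      have hg : Nat.gcd d i ∈ (Finset.Icc 1 N).filter (fun δ => δ ∣ d) := by
        rw [Finset.mem_filter, Finset.mem_Icc]
        exact ⟨⟨Nat.gcd_pos_of_pos_right _ hi, (Nat.gcd_le_right _ hi).trans hiN⟩, Nat.gcd_dvd_left _ _⟩
      refine (Finset.gcd_dvd hg).trans ?_
      rw [Int.natCast_dvd_natCast]
      obtain ⟨j, rfl⟩ := Nat.exists_eq_add_of_le' hi
      have h := Nat.add_one_mul_choose_eq (d - 1) j
      rw [show d - 1 + 1 = d by omega] at h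
      set g := Nat.gcd d (j + 1) with hgdef
      have hgpos : 0 < g := Nat.gcd_pos_of_pos_right _ hi
      have hco : Nat.Coprime (d / g) ((j + 1) / g) := Nat.coprime_div_gcd_div_gcd hgpos
      refine hco.dvd_of_dvd_mul_right ⟨(d - 1).choose j, ?_⟩
      apply Nat.eq_of_mul_eq_mul_left hgpos
      have e1 : g * (d / g) = d := Nat.mul_div_cancel' (Nat.gcd_dvd_left _ _)
      have e2 : g * ((j + 1) / g) = j + 1 := Nat.mul_div_cancel' (Nat.gcd_dvd_right _ _)
      calc g * (d.choose (j + 1) * ((j + 1) / g)) = d.choose (j + 1) * (g * ((j + 1) / g)) := by ring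
        _ = d * (d - 1).choose j := by rw [e2, h]
        _ = g * (d / g * (d - 1).choose j) := by rw [← mul_assoc, e1]
    have : ∀ n ≤ N, J ∣ χ n := by
      intro n hn
      induction n with
      | zero => rw [hχ0]; exact dvd_zero _
      | succ n ih =>
        have e : χ (n + 1) = χ n - (-1 : ℤ) ^ (n + 1) * (d.choose (n + 1) : ℤ) := by rw [← hrec]; ring
        rw [e]
        exact dvd_sub (ih (by omega)) (dvd_mul_of_dvd_right (hJc _ (by omega) hn) _)
    exact Finset.dvd_gcd fun n hn => this n (Finset.mem_Icc.mp hn).2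

end Groth.Agent.S17781
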