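import Groth.Statements.S17784
import Groth.Agent.H22Alg.FibreMult

set_option autoImplicit false
universe u
open CategoryTheory CategoryTheory.Limits AlgebraicGeometry
open Variety

namespace Groth.Agent.S17784

/-- Suppose R is a discrete valuation ring that is Henselian, whose residue field is algebraically
closed, and write K for its fraction field; let X be a regular proper K-scheme which admits a
regular proper model over R (a flat finite-type R-scheme, proper over R and with all local rings
regular, whose generic fibre is X). Then the index of X over K divides χ(X, O_X): the Euler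
characteristic of the structure sheaf lies in the subgroup of ℤ generated by the degrees of the
closed points of X. -/
theorem result (R : Type u) [CommRing R]
    [IsDomain R] [IsDiscreteValuationRing R] [HenselianLocalRing R] (hk : IsAlgClosed (IsLocalRing.ResidueField R))
    (X : Scheme.{u}) [X.Over (Spec (CommRingCat.of (FractionRing R)))] [IsProper (X ↘ Spec (CommRingCat.of (FractionRing R)))] (hXreg : Models.IsRegularScheme X)
    (𝒳 : Scheme.{u}) (p : 𝒳 ⟶ Spec (CommRingCat.of R)) (h𝒳 : Models.IsRegularProperModel R 𝒳 p X (X ↘ Spec (CommRingCat.of (FractionRing R)))) :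
    Curv2.euler (FractionRing R) X (Coh.structureModule X) ∈ Curv2.indexSubgroup (X ↘ Spec (CommRingCat.of (FractionRing R))) := by
  obtain ⟨hmod, hprop, hreg⟩ := h𝒳
  have hmod' := hmod
  obtain ⟨hflat, hlft, -, g, hg⟩ := hmod
  haveI := hk
  let X₀ : Over (Spec (CommRingCat.of R)) := Over.mk p
  haveI : IsProper X₀.hom := hprop
  haveI : Flat X₀.hom := hflat
  haveI : LocallyOfFiniteType X₀.hom := hlft
  haveI : IsLocallyNoetherian X₀.left := LocallyOfFiniteType.isLocallyNoetherian X₀.hom
  exact Groth.Agent.H22Alg.FibreMult.euler_mem_of_length_mem (X := X₀) hreg (FractionRing R) g _ hg _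
    fun η hη => Groth.Agent.H28Index.length_stalk_mem R X _ 𝒳 p hmod' η hη

end Groth.Agent.S17784
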