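import Groth.Statements.S1779
import Groth.Agent.H4DR.FlatBC.Unramified
import Groth.Agent.H24Adic.CompletionNoetherian

set_option autoImplicit false
universe u
open CategoryTheory
attribute [local instance] HasDerivedCategory.standard
open Dual

namespace Groth.Agent.S1779

/-- Let A be a Noetherian ring, I an ideal and ω a dualizing complex for A. Assuming the derived base
change functor to the I-adic completion exists, the base change of ω is a dualizing complex for the
I-adic completion of A. -/
theorem result (A : Type u) [CommRing A] [IsNoetherianRing A] (I : Ideal A) [DRing.HasLBaseChange (algebraMap A (AdicCompletion I A))] (ω : Dual.D A) (hω : Dual.IsDualizing A ω) : Dual.IsDualizing (AdicCompletion I A) ((DRing.LBaseChange (algebraMap A (AdicCompletion I A))).obj ω) := by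
  have hI : I.FG := IsNoetherian.noetherian I
  haveI := H24Adic.isNoetherianRing_adicCompletion I
  haveI := AdicCompletion.isAdicComplete_self I hI
  have hs : Function.Surjective ((Ideal.Quotient.mk (I.map (algebraMap A (AdicCompletion I A)))).comp
      (algebraMap A (AdicCompletion I A))) := fun z => by
    obtain ⟨x, rfl⟩ := Ideal.Quotient.mk_surjective z
    obtain ⟨p, hp⟩ := H24Adic.exists_sub_of_mem hI 1 x
    rw [pow_one] at hp
    exact ⟨p, (Ideal.Quotient.eq.mpr hp).symm⟩
  exact H4DR.Dualizing.isDualizing_of_iso (H4DR.FlatBC.lbaseIso ω).symm
    (H4DR.Dualizing.isDualizing_maxUnramified hω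
      (H4DR.Dualizing.maxUnramified_of_surjective I hs (IsAdicComplete.le_jacobson_bot _)))

end Groth.Agent.S1779
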