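import Groth.Statements.S17790
-- import your own Groth.Agent.* helpers here
import Groth.Agent.H18Et.FEtRestrict
import Groth.Agent.H05EGA4.LefConn


set_option autoImplicit false
universe u
open CategoryTheory CategoryTheory.Limits AlgebraicGeometry
open Pi1

namespace Groth.Agent.S17790

set_option backward.isDefEq.respectTransparency false
open Groth.Agent.H18Et Groth.Agent.H18Et.FEtRestrict

/-- If restriction of finite etale covers to `X` is an equivalence and the base is connected, so is `X`. -/
theorem connectedSpace_of_restrict_equiv {X Y : Scheme.{u}} (j : X ⟶ Y) [ConnectedSpace Y]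
    [(FEt.restrict j).IsEquivalence] : ConnectedSpace X := by
  let R := FEt.restrict j
  have key : ∀ C : Set X, IsClopen C → C = ∅ ∨ C = Set.univ := by
    intro C hC
    let P1 : FEt.Cat X := MorphismProperty.Over.mk ⊤ (𝟙 X) ⟨inferInstance, inferInstance⟩
    let A := clopenObj P1 C hC
    have hA : Set.range A.hom = C := by
      show Set.range (Scheme.Opens.ι (X := X) ⟨C, hC.2⟩ ≫ 𝟙 X) = C
      rw [Category.comp_id, Scheme.Opens.range_ι]
      rfl
    let P := R.objPreimage A
    let e : R.obj P ≅ A := R.objObjPreimageIso A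
    let g : P.left ⟶ Y := P.hom
    haveI : IsFinite g := P.prop.1
    haveI : Etale g := P.prop.2
    rcases isClopen_iff.1 (⟨g.isClosedMap.isClosed_range, g.isOpenMap.isOpen_range⟩ :
      IsClopen (Set.range g)) with h0 | h1
    · left
      rw [← hA]
      refine Set.eq_empty_iff_forall_notMem.2 fun x ⟨a, _⟩ => ?_
      exact Set.eq_empty_iff_forall_notMem.1 h0 _ ⟨pullback.fst g j (e.inv.left a), rfl⟩
    · right
      haveI : Surjective g := ⟨Set.range_eq_univ.1 h1⟩
      rw [← hA]
      refine Set.eq_univ_iff_forall.2 fun x => ?_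
      obtain ⟨q, hq⟩ := (pullback.snd g j).surjective x
      refine ⟨e.hom.left q, ?_⟩
      rw [← hq]
      exact congrArg (fun k : (R.obj P).left ⟶ X => k.base q) (Over.w e.hom.hom)
  haveI : PreconnectedSpace X := preconnectedSpace_iff_clopen.2 key
  suffices Nonempty X from ⟨this⟩
  by_contra hne
  rw [not_nonempty_iff] at hne
  let P1 : FEt.Cat Y := MorphismProperty.Over.mk ⊤ (𝟙 Y) ⟨inferInstance, inferInstance⟩
  let P0 := clopenObj P1 ∅ isClopen_empty
  let q1 : (R.obj P1).left ⟶ X := (R.obj P1).hom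
  let q0 : (R.obj P0).left ⟶ X := (R.obj P0).hom
  haveI h1e : IsEmpty (R.obj P1).left := ⟨fun z => isEmptyElim (α := X) (q1 z)⟩
  haveI h0e : IsEmpty (R.obj P0).left := ⟨fun z => isEmptyElim (α := X) (q0 z)⟩
  let u : R.obj P0 ⟶ R.obj P1 := R.map (clopenι P1 ∅ isClopen_empty)
  haveI : IsIso u.left := by
    rw [isIso_iff_isOpenImmersion_and_surjective]
    exact ⟨inferInstance, ⟨fun x => isEmptyElim x⟩⟩
  haveI : IsIso ((MorphismProperty.Over.forget FEt.prop ⊤ X ⋙ Over.forget X).map u) := ‹IsIso u.left›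
  haveI : IsIso u := isIso_of_reflects_iso u (MorphismProperty.Over.forget FEt.prop ⊤ X ⋙ Over.forget X)
  haveI : IsIso (clopenι P1 ∅ isClopen_empty) := isIso_of_reflects_iso _ R
  obtain ⟨y⟩ := (inferInstance : Nonempty Y)
  have h4 : IsIso ((MorphismProperty.Over.forget FEt.prop ⊤ Y ⋙ Over.forget Y).map (clopenι P1 ∅ isClopen_empty)) :=
    Functor.map_isIso _ _
  haveI : IsIso (Scheme.Opens.ι (X := Y) ⟨∅, isClopen_empty.2⟩) := h4
  obtain ⟨z, -⟩ := (Scheme.Opens.ι (X := Y) ⟨∅, isClopen_empty.2⟩).surjective y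
  exact z.2


/-- Let A be a Noetherian local ring and I an ideal for which A is I-adically complete and A/I is local;
write X = Spec A, Y = V(I) and U for the punctured spectrum. Suppose that A is pure (the pair formed
by X and its closed point is pure) and that the effective Lefschetz condition Leff(U, U ∩ Y) holds.
Then Y minus the closed point, i.e. U ∩ Y, is a connected (nonempty) subset of X. -/
theorem result (A : Type u) [CommRing A] [IsLocalRing A] [IsNoetherianRing A] (I : Ideal A) [IsAdicComplete I A] [IsLocalRing (A ⧸ I)] (hpure : SGA2.IsPurePair (Spec (CommRingCat.of A)) (FEt.puncturedSpec A)) (hleff : LefX.LeffCond (↑(FEt.puncturedSpec A) : Scheme.{u}) ((Spec.map (CommRingCat.ofHom (Ideal.Quotient.mk I))).ker.comap (FEt.puncturedSpec A).ι)) : IsConnected (((Spec.map (CommRingCat.ofHom (Ideal.Quotient.mk I))).ker.support : Set ↥(Spec (CommRingCat.of A))) ∩ (FEt.puncturedSpec A : Set ↥(Spec (CommRingCat.of A)))) := by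
  let X := Spec (CommRingCat.of A)
  let U := FEt.puncturedSpec A
  let K := (Spec.map (CommRingCat.ofHom (Ideal.Quotient.mk I))).ker
  haveI hXc : ConnectedSpace X := by
    haveI : PreconnectedSpace (PrimeSpectrum A) := preconnectedSpace_iff_clopen.2 fun C hC => by
      by_cases h : IsLocalRing.closedPoint A ∈ C
      · exact Or.inr (Set.eq_univ_iff_forall.2 fun x =>
          (IsLocalRing.specializes_closedPoint x).mem_open hC.2 h)
      · exact Or.inl (Set.eq_empty_iff_forall_notMem.2 fun x hx =>
          h ((IsLocalRing.specializes_closedPoint x).mem_closed hC.1 hx))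
    exact (⟨inferInstance⟩ : ConnectedSpace (PrimeSpectrum A))
  haveI htop : ConnectedSpace ↥((⊤ : X.Opens) : Set X) :=
    Subtype.connectedSpace isConnected_univ
  haveI := hpure ⊤
  have hc : ConnectedSpace ↥(((⊤ : X.Opens) ⊓ U : X.Opens) : Set X) :=
    @connectedSpace_of_restrict_equiv _ _ (X.homOfLE (inf_le_left : (⊤ : X.Opens) ⊓ U ≤ ⊤)) htop _
  haveI : ConnectedSpace (U : Scheme.{u}) := by
    rw [top_inf_eq] at hc
    exact hc
  haveI : ConnectedSpace ((⊤ : (U : Scheme.{u}).Opens) : Scheme.{u}) := Subtype.connectedSpace isConnected_univ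
  let T : (U : Scheme.{u}).Opens := ⊤
  let J := (K.comap U.ι).comap T.ι
  have hb : Lef.HomToFormalBijective J (Coh.structureModule (T : Scheme.{u})) :=
    hleff.1 T (fun _ _ => trivial) _ (Groth.Agent.H05EGA4.LefConn.isFinLocFree_unit _)
  haveI := Groth.Agent.H05EGA4.LefConn.connectedSpace_support hb inferInstance
  have h := isConnected_range (f := fun z : (J.support : Set (T : Scheme.{u})) => U.ι (T.ι z.1))
    ((U.ι.continuous.comp T.ι.continuous).comp continuous_subtype_val)
  have hJ : ∀ z : (T : Scheme.{u}), z ∈ (J.support : Set (T : Scheme.{u})) ↔ U.ι (T.ι z) ∈ (K.support : Set X) := by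
    intro z
    show z ∈ (((K.comap U.ι).comap T.ι).support : Set (T : Scheme.{u})) ↔ _
    rw [Scheme.IdealSheafData.support_comap, Scheme.IdealSheafData.support_comap]
    rfl
  refine Eq.subst ?_ h
  ext x
  constructor
  · rintro ⟨z, rfl⟩
    exact ⟨(hJ z.1).1 z.2, (T.ι z.1).2⟩
  · rintro ⟨hx, hxU⟩
    exact ⟨⟨⟨⟨x, hxU⟩, trivial⟩, (hJ _).2 hx⟩, rfl⟩

end Groth.Agent.S17790
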