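import Groth.Statements.S17794
import Groth.Agent.H19Grp.FlatMonoFactor
import Groth.Agent.H7Lim.DescendUnramified

set_option autoImplicit false
set_option maxHeartbeats 1000000
set_option synthInstance.maxHeartbeats 100000
set_option linter.style.haveILetI false
set_option backward.isDefEq.respectTransparency false
universe u
open CategoryTheory CategoryTheory.Limits MonoidalCategory CartesianMonoidalCategory MonObj GrpObj AlgebraicGeometry
open GrpSch

namespace Groth.Agent.S17794

open Groth.Agent.H12AlgSp Groth.Agent.H13AlgSp AlgSp in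
theorem epi_repMap_iff {S : Scheme.{u}} {V W : Over S} (g : V ⟶ W) :
    Epi (QuotSh.repMap Scheme.fppfPrecoverage g) ↔ Epi ((yon S).map g) := by
  have h := Groth.Agent.H12AlgSp.repIso_natural g
  constructor
  · intro _
    have : Epi ((QuotSh.repIsoUliftYoneda Scheme.fppfPrecoverage V).hom ≫ (AlgSp.yon S).map g) := by
      rw [← h]; infer_instance
    exact epi_of_epi (QuotSh.repIsoUliftYoneda Scheme.fppfPrecoverage V).hom _
  · intro _
    have : Epi (QuotSh.repMap Scheme.fppfPrecoverage g ≫ (QuotSh.repIsoUliftYoneda Scheme.fppfPrecoverage W).hom) := by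
      rw [h]; infer_instance
    rw [show QuotSh.repMap Scheme.fppfPrecoverage g = (QuotSh.repMap Scheme.fppfPrecoverage g ≫
      (QuotSh.repIsoUliftYoneda Scheme.fppfPrecoverage W).hom) ≫ (QuotSh.repIsoUliftYoneda Scheme.fppfPrecoverage W).inv by simp]
    infer_instance

theorem flat_kernelPair {S : Scheme.{u}} {G H N : Over S} [GrpObj G] [GrpObj H] (u : G ⟶ H) [IsMonHom u]
    (k : N ⟶ G) (hk : AlgGrp.IsKernel k u) (hN : Flat N.hom) : Flat (pullback.fst u.left u.left) := by
  have hku : k ≫ u = 1 := by rw [hk.w, Hom.one_def]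
  let P := pullback u u
  let d : P ⟶ G := (pullback.fst u u)⁻¹ * pullback.snd u u
  have hd : d ≫ u = 1 := by
    simp only [d, MonObj.mul_comp, GrpObj.inv_comp, pullback.condition, inv_mul_cancel]
  let c : P ⟶ N := hk.lift d (toUnit P) (by rw [hd, Hom.one_def])
  have hc : c ≫ k = d := hk.lift_fst _ _ _
  let e : P ≅ G ⊗ N :=
    { hom := lift (pullback.fst u u) c
      inv := pullback.lift (fst G N) (fst G N * (snd G N ≫ k)) (by
        rw [MonObj.mul_comp, Category.assoc, hku, MonObj.comp_one, _root_.mul_one])
      hom_inv_id := by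
        apply pullback.hom_ext
        · simp
        · simp [hc, d, MonObj.comp_mul]
      inv_hom_id := by
        ext : 1
        · simp
        · simp only [Category.assoc, lift_snd, Category.id_comp]
          apply hk.hom_ext
          · simp [hc, d, MonObj.comp_mul, GrpObj.comp_inv]
          · exact toUnit_unique _ _ }
  haveI : Flat (fst G N).left := MorphismProperty.pullback_fst _ _ hN
  have hsq : IsPullback (pullback.fst u u).left (pullback.snd u u).left u.left u.left :=
    (IsPullback.of_hasPullback u u).map (Over.forget S)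
  have e1 : e.hom ≫ fst G N = pullback.fst u u := lift_fst _ _
  have e2 : pullback.fst u.left u.left = hsq.isoPullback.inv ≫ e.hom.left ≫ (fst G N).left := by
    rw [← Over.comp_left, e1, IsPullback.isoPullback_inv_fst]
  rw [e2]
  haveI : IsIso e.hom.left := ((Over.forget S).mapIso e).isIso_hom
  infer_instance


/-- Let S be a scheme and f : G → H a homomorphism of S-group schemes, both of finite presentation over
S (locally of finite presentation, quasi-compact and quasi-separated), and let i : N → G be the
kernel of f (the square formed by i, f, the unit section of H and N → S is cartesian). Then f is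
faithfully flat (flat and surjective) if and only if the map of representable sheaves h_G → h_H
induced by f on the big fppf site of S is an epimorphism of sheaves of sets and N is flat over S. -/
theorem result {S : Scheme.{u}} {G H N : Over S} [GrpObj G] [GrpObj H] (f : G ⟶ H) [IsMonHom f] [LocallyOfFinitePresentation G.hom] [QuasiCompact G.hom] [QuasiSeparated G.hom] [LocallyOfFinitePresentation H.hom] [QuasiCompact H.hom] [QuasiSeparated H.hom] (i : N ⟶ G) (hi : AlgGrp.IsKernel i f) : (Flat f.left ∧ Surjective f.left) ↔ (Epi (QuotSh.repMap Scheme.fppfPrecoverage f) ∧ Flat N.hom) := by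
  haveI : LocallyOfFinitePresentation f.left := by
    haveI : LocallyOfFinitePresentation (f.left ≫ H.hom) := by rw [Over.w]; infer_instance
    exact Groth.Agent.H7Lim.locallyOfFinitePresentation_of_comp f.left H.hom
  rw [epi_repMap_iff]
  constructor
  · rintro ⟨hfl, hs⟩
    refine ⟨Groth.Agent.H12AlgSp.epi_of_repWith_fppf ((AlgSp.repWith_yon_map_iff _ f).2 ⟨⟨hs, hfl⟩, ‹_›⟩), ?_⟩
    have hsq : IsPullback i.left N.hom f.left η[H].left := hi.map (Over.forget S)
    exact MorphismProperty.of_isPullback hsq hfl
  · rintro ⟨hepi, hN⟩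
    obtain ⟨Q₀, p₀, i₀, hp1, hp2, hp3, hi₀, hpi⟩ :=
      Groth.Agent.H19Grp.FlatMonoFactor.exists_factor f.left (flat_kernelPair f i hi hN)
    let Q : Over S := Over.mk (i₀ ≫ H.hom)
    let p : G ⟶ Q := Over.homMk p₀ (by
      show p₀ ≫ i₀ ≫ H.hom = G.hom
      rw [reassoc_of% hpi, Over.w f])
    let j : Q ⟶ H := Over.homMk i₀ rfl
    haveI : Mono j := (Over.forget S).mono_of_mono_map hi₀
    have hpj : p ≫ j = f := Over.OverMorphism.ext hpi
    haveI : Epi ((AlgSp.yon S).map j) := by
      have : Epi ((AlgSp.yon S).map p ≫ (AlgSp.yon S).map j) := by rw [← Functor.map_comp, hpj]; exact hepi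
      exact epi_of_epi ((AlgSp.yon S).map p) _
    haveI : Mono ((AlgSp.yon S).map j) := Groth.Agent.H12AlgSp.mono_of_yon fun T a b e => by
      obtain ⟨a, rfl⟩ := (AlgSp.yon S).map_surjective a
      obtain ⟨b, rfl⟩ := (AlgSp.yon S).map_surjective b
      rw [← Functor.map_comp, ← Functor.map_comp] at e
      rw [(cancel_mono j).1 ((AlgSp.yon S).map_injective e)]
    haveI : IsIso ((AlgSp.yon S).map j) := isIso_of_mono_of_epi _
    haveI : IsIso j := isIso_of_reflects_iso j (AlgSp.yon S)
    haveI : IsIso i₀ := ((Over.forget S).mapIso (asIso j)).isIso_hom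
    rw [← hpi]
    haveI := hp1; haveI := hp2
    exact ⟨inferInstance, inferInstance⟩

end Groth.Agent.S17794
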