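import Groth.Statements.S17795
import Groth.Agent.H19Grp.GroupCI

set_option autoImplicit false
universe u
open CategoryTheory CategoryTheory.Limits MonoidalCategory CartesianMonoidalCategory MonObj GrpObj AlgebraicGeometry
open GrpSch

namespace Groth.Agent.S17795

/-- Let k be a commutative ring and G a group scheme over Spec k which is flat and of finite
presentation over k (locally of finite presentation, quasi-compact and quasi-separated). Then G is
syntomic over k: its structure morphism is locally given by flat ring maps of finite presentation
whose fibre rings are local complete intersections over the residue fields. -/
theorem result (k : Type u) [CommRing k] (G : Over (Spec (CommRingCat.of k))) [GrpObj G] [Flat G.hom] [LocallyOfFinitePresentation G.hom] [QuasiCompact G.hom] [QuasiSeparated G.hom] : Synt.IsSyntomicMor G.hom := by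
  exact Groth.Agent.H19Grp.GroupCI.isSyntomicMor G

end Groth.Agent.S17795
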