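import Groth.Statements.S17797
import Mathlib.RingTheory.AlgebraicIndependent.TranscendenceBasis
import Mathlib.RingTheory.Henselian
import Mathlib.RingTheory.RegularLocalRing.Defs
import Mathlib.RingTheory.SimpleRing.Principal

set_option autoImplicit false
universe u
open CAlg

namespace Groth.Agent.S17797

/-- Suppose k is a field of characteristic zero and S is a local domain that is an essentially
finite-type k-algebra. Then there are an extension field K of k, a K-algebra A of finite type and a
maximal ideal m of A such that S is isomorphic over k to the localization A_m. -/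
theorem result (k : Type u) [Field k] [CharZero k] (S : Type u) [CommRing S] [IsDomain S] [IsLocalRing S] [Algebra k S] [Algebra.EssFiniteType k S] : ∃ (K : Type u) (_ : Field K) (_ : Algebra k K) (A : Type u) (_ : CommRing A) (_ : Algebra K A) (_ : Algebra k A) (_ : IsScalarTower k K A) (_ : Algebra.FiniteType K A) (m : Ideal A) (_ : m.IsMaximal), Nonempty (S ≃ₐ[k] Localization.AtPrime m) := by
  classical
  let κ := IsLocalRing.ResidueField S
  obtain ⟨s, hs⟩ := exists_isTranscendenceBasis k κ
  let ι := {x : κ // x ∈ s}
  have hy : ∀ i : ι, ∃ y : S, IsLocalRing.residue S y = i.1 := fun i => IsLocalRing.residue_surjective _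
  choose y hy using hy
  have hx : AlgebraicIndependent k (Subtype.val : ι → κ) := hs.1
  have hres : ∀ P : MvPolynomial ι k,
      IsLocalRing.residue S (MvPolynomial.aeval y P) = MvPolynomial.aeval (Subtype.val : ι → κ) P := by
    intro P
    have : (IsScalarTower.toAlgHom k S κ).comp (MvPolynomial.aeval y) =
        MvPolynomial.aeval (Subtype.val : ι → κ) := MvPolynomial.algHom_ext fun i => by simp; exact hy i
    exact AlgHom.congr_fun this P
  obtain ⟨K, _, _, _, _, _⟩ : ∃ (K : Type u) (_ : Field K) (_ : Algebra (MvPolynomial ι k) K)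
      (_ : Algebra k K) (_ : IsScalarTower k (MvPolynomial ι k) K), IsFractionRing (MvPolynomial ι k) K :=
    ⟨FractionRing (MvPolynomial ι k), inferInstance, inferInstance, inferInstance, inferInstance, inferInstance⟩
  have hunit : ∀ P : nonZeroDivisors (MvPolynomial ι k), IsUnit (MvPolynomial.aeval (R := k) y P.1) := by
    intro P
    rw [← IsLocalRing.residue_ne_zero_iff_isUnit, hres]
    exact fun h => nonZeroDivisors.coe_ne_zero P (hx (h.trans (map_zero _).symm))
  let L : K →ₐ[k] S := IsLocalization.liftAlgHom (M := nonZeroDivisors (MvPolynomial ι k))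
    (f := MvPolynomial.aeval y) hunit
  letI : Algebra K S := L.toRingHom.toAlgebra
  haveI : IsScalarTower k K S := IsScalarTower.of_algebraMap_eq fun c => (L.commutes c).symm
  obtain ⟨σ, hσ⟩ := (Algebra.essFiniteType_iff (R := k) (S := S)).mp inferInstance
  let A : Subalgebra K S := Algebra.adjoin K (σ : Set S)
  have hkA : ∀ z ∈ Algebra.adjoin k (σ : Set S), z ∈ A := by
    intro z hz
    induction hz using Algebra.adjoin_induction with
    | mem x hx => exact Algebra.subset_adjoin hx
    | algebraMap c =>
      rw [IsScalarTower.algebraMap_apply k K S c]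
      exact A.algebraMap_mem _
    | add x y _ _ hx hy => exact A.add_mem hx hy
    | mul x y _ _ hx hy => exact A.mul_mem hx hy
  haveI : Algebra.FiniteType K A := ⟨(Subalgebra.fg_top A).mpr ⟨σ, rfl⟩⟩
  let m : Ideal A := (IsLocalRing.maximalIdeal S).comap A.val
  -- `κ` is algebraic over `K`
  letI : Algebra (Algebra.adjoin k (Set.range (Subtype.val : ι → κ))) K :=
    ((algebraMap (MvPolynomial ι k) K).comp hx.aevalEquiv.symm.toAlgHom.toRingHom).toAlgebra
  haveI : IsScalarTower (Algebra.adjoin k (Set.range (Subtype.val : ι → κ))) K κ := by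
    refine IsScalarTower.of_algebraMap_eq fun a => ?_
    obtain ⟨P, rfl⟩ := hx.aevalEquiv.surjective a
    rw [RingHom.algebraMap_toAlgebra, RingHom.comp_apply]
    show _ = IsLocalRing.residue S (L (algebraMap _ K (hx.aevalEquiv.symm (hx.aevalEquiv P))))
    rw [AlgEquiv.symm_apply_apply, IsLocalization.liftAlgHom_apply, IsLocalization.lift_eq]
    exact (hx.algebraMap_aevalEquiv P).trans (hres P).symm
  haveI : Algebra.IsAlgebraic (Algebra.adjoin k (Set.range (Subtype.val : ι → κ))) κ := hs.isAlgebraic
  haveI : Algebra.IsAlgebraic K κ := by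
    refine Algebra.IsAlgebraic.extendScalars (R := Algebra.adjoin k (Set.range (Subtype.val : ι → κ))) ?_
    rw [RingHom.algebraMap_toAlgebra, RingHom.coe_comp]
    exact (IsFractionRing.injective _ K).comp hx.aevalEquiv.symm.injective
  let g : A →ₐ[K] κ := (IsScalarTower.toAlgHom K S κ).comp A.val
  have hker : RingHom.ker g = m := by
    ext a
    rw [RingHom.mem_ker, Ideal.mem_comap, ← IsLocalRing.residue_eq_zero_iff]
    rfl
  haveI hm : m.IsMaximal := by
    rw [← hker]
    refine Ideal.Quotient.maximal_of_isField _ ?_
    exact MulEquiv.isField (Subalgebra.isField_of_algebraic g.range)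
      (Ideal.quotientKerEquivRange g).toMulEquiv
  haveI : IsLocalization.AtPrime S m := by
    constructor
    constructor
    · rintro ⟨a, ha⟩
      exact IsLocalRing.notMem_maximalIdeal.mp ha
    · intro z
      obtain ⟨t, ht, hu, hzt⟩ := hσ z
      exact ⟨⟨⟨_, hkA _ hzt⟩, ⟨⟨t, hkA _ ht⟩, fun h => (IsLocalRing.mem_maximalIdeal _).mp h hu⟩⟩, rfl⟩
    · intro a b e
      exact ⟨1, by simpa using Subtype.ext e⟩
  exact ⟨K, inferInstance, inferInstance, A, inferInstance, inferInstance, inferInstance, inferInstance,
    inferInstance, m, hm, ⟨((IsLocalization.algEquiv m.primeCompl S (Localization.AtPrime m)).restrictScalars k)⟩⟩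

end Groth.Agent.S17797
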