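import Groth.Statements.S1780
import Groth.Agent.H4DR.FlatBC.Descent

set_option autoImplicit false
universe u
open CategoryTheory
attribute [local instance] HasDerivedCategory.standard
open Dual

namespace Groth.Agent.S1780

/-- Let A → B be a faithfully flat homomorphism of Noetherian rings and K an object of D(A). Assuming
the derived base change functor D(A) → D(B) exists, if the derived base change of K to B is
dualizing over B, then K is already dualizing over A. -/
theorem result (A B : Type u) [CommRing A] [CommRing B] [Algebra A B] [IsNoetherianRing A] [IsNoetherianRing B] [Module.FaithfullyFlat A B] [DRing.HasLBaseChange (algebraMap A B)] (K : Dual.D A) (hK : Dual.IsDualizing B ((DRing.LBaseChange (algebraMap A B)).obj K)) : Dual.IsDualizing A K := by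
  classical
  have hK' := H4DR.Dualizing.isDualizing_of_iso (H4DR.FlatBC.lbaseIso K) hK
  have hB := H4DR.FlatBC.jFaithful_faithfullyFlat (A := A) B
  obtain ⟨a, b, hab⟩ := H4DR.Dualizing.exists_bounds hK'
  obtain ⟨c, d, hcd⟩ := hK'.finite_injective_dimension
  have hbd : ∀ i : ℤ, (i < a ∨ b < i) → Subsingleton (Dual.HD A K i) := fun i hi =>
    H4DR.FlatBC.subsingleton_HD_of_family _ hB fun _ => hab i hi
  have hfin : ∀ i : ℤ, Module.Finite A (Dual.HD A K i) := fun i =>
    H4DR.FlatBC.finite_of_family _ hB _ fun _ =>
      haveI := hK'.finite_cohomology i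
      Module.Finite.equiv (H4DR.FlatBC.hBC B i K)
  have hamp := H4DR.FlatBC.injAmp_descent (a := c) (b := d) _ hB (fun j hj => hbd j (Or.inl hj))
    fun _ M _ _ i hi => hcd M i hi
  exact H4DR.FlatBC.isDualizing_descent _ hB hfin ⟨a, b, hbd⟩ (fun _ => hK')
    ⟨c, d, fun M _ _ i hi => H4DR.Ext.subsingleton_inD_of_injAmp hamp M hi⟩

end Groth.Agent.S1780
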