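import Groth.Statements.S17803
import Groth.Agent.S0600
import Groth.Agent.H05EGA4.GRingPoly
import Groth.Agent.H05EGA4.FormalFibres
import Groth.Agent.H05EGA4.EakinNagata
import Groth.Agent.H05EGA4.Regular2
import Groth.Agent.H05EGA4.Equidim
import Groth.Agent.H02CA.SmoothRegular

set_option autoImplicit false
universe u
open EGA4

namespace Groth.Agent.S17803

/-- Let A be an excellent normal domain which is a quotient of a regular ring, I an ideal of A and f ∈
A. Then the I-adic completion of the localization A_f is a normal ring (its localization at every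
prime ideal is an integrally closed domain), and it is a quotient of a regular ring. -/
theorem result (A : Type u) [CommRing A] [IsDomain A] [IsIntegrallyClosed A] (hexc : EGA4.IsExcellent A) (hreg : ∃ (R : Type u) (_ : CommRing R) (_ : IsRegularRing R) (φ : R →+* A), Function.Surjective φ) (I : Ideal A) (f : A) : EGA4.IsNormalRing (AdicCompletion (I.map (algebraMap A (Localization.Away f))) (Localization.Away f)) ∧ ∃ (R' : Type u) (_ : CommRing R') (_ : IsRegularRing R') (ψ : R' →+* AdicCompletion (I.map (algebraMap A (Localization.Away f))) (Localization.Away f)), Function.Surjective ψ := by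
  haveI := hexc.1
  have hG : CAlg.IsGRing (Localization.Away f) :=
    Groth.Agent.H05EGA4.isGRing_of_isLocalization (Submonoid.powers f) hexc.2.2.1
  haveI : IsNoetherianRing (Localization.Away f) := IsLocalization.isNoetherianRing (Submonoid.powers f) _ inferInstance
  haveI := Groth.Agent.H05EGA4.isNoetherianRing_adicCompletion (Localization.Away f) (I.map (algebraMap A (Localization.Away f)))
  refine ⟨?_, ?_⟩
  · have hN : EGA4.IsNormalRing (Localization.Away f) := fun P _ => by
      have hAn := Groth.Agent.H05EGA4.normal_of_domain A
      let q := P.comap (algebraMap A (Localization.Away f))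
      haveI : IsLocalization.AtPrime (Localization.AtPrime P) q :=
        IsLocalization.isLocalization_isLocalization_atPrime_isLocalization (Submonoid.powers f) (Localization.AtPrime P) P
      let e := (IsLocalization.algEquiv q.primeCompl (Localization.AtPrime q) (Localization.AtPrime P)).toRingEquiv
      haveI := (hAn q).1
      haveI := (hAn q).2
      exact ⟨e.symm.toMulEquiv.isDomain _, IsIntegrallyClosed.of_equiv e⟩
    have hg : Groth.Agent.H05EGA4.GRSHom 1 2 (Localization.Away f)
        (AdicCompletion (I.map (algebraMap A (Localization.Away f))) (Localization.Away f)) :=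
      (Groth.Agent.H05EGA4.isRegularHom_iff_grsHom.mp (Groth.Agent.S0600.result _ hG _)).mono le_top le_top
    exact Groth.Agent.H05EGA4.isNormalRing_iff_rs.mpr (hg.rs (Groth.Agent.H05EGA4.isNormalRing_iff_rs.mp hN))
  · obtain ⟨R, _, _, φ, hφ⟩ := hreg
    obtain ⟨g, hg⟩ := hφ f
    haveI : IsRegularRing (Localization.Away g) :=
      Groth.Agent.H02CA.isRegularRing_of_isLocalization (S := R) (T := Localization.Away g) (Submonoid.powers g)
    let ψ : Localization.Away g →+* Localization.Away f :=
      IsLocalization.Away.lift g (g := (algebraMap A (Localization.Away f)).comp φ)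
        (by rw [RingHom.comp_apply, hg]; exact IsLocalization.Away.algebraMap_isUnit f)
    have hψ : Function.Surjective ψ := by
      intro y
      obtain ⟨a, ⟨_, n, rfl⟩, rfl⟩ := IsLocalization.exists_mk'_eq (Submonoid.powers f) y
      obtain ⟨r, rfl⟩ := hφ a
      refine ⟨IsLocalization.mk' (Localization.Away g) r (⟨g ^ n, n, rfl⟩ : Submonoid.powers g), ?_⟩
      rw [IsLocalization.eq_mk'_iff_mul_eq]
      show ψ _ * algebraMap A (Localization.Away f) (f ^ n) = algebraMap A (Localization.Away f) (φ r)
      have h1 : ∀ x, ψ (algebraMap R (Localization.Away g) x) = algebraMap A (Localization.Away f) (φ x) :=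
        fun x => IsLocalization.Away.lift_eq g _ x
      rw [show f ^ n = φ (g ^ n) by rw [map_pow, hg], ← h1, ← h1, ← map_mul, IsLocalization.mk'_spec]
    let J := (I.map (algebraMap A (Localization.Away f))).comap ψ
    haveI := Groth.Agent.H05EGA4.isRegularRing_adicCompletion (Localization.Away g) J
    obtain ⟨e⟩ := Groth.Agent.H05EGA4.exists_completion_quotient_equiv J (Localization.Away f) ψ hψ
      (I.map (algebraMap A (Localization.Away f))) (Ideal.map_comap_of_surjective ψ hψ _)
    exact ⟨AdicCompletion J (Localization.Away g), inferInstance, inferInstance,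
      e.toRingHom.comp (Ideal.Quotient.mk _), e.surjective.comp Ideal.Quotient.mk_surjective⟩

end Groth.Agent.S17803
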