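import Groth.Statements.S17808
import Groth.Agent.H25Jac.EffPoints
import Groth.Agent.H25Jac.CoarseAlbanese
import Mathlib.AlgebraicGeometry.AlgClosed.Basic

set_option autoImplicit false
set_option linter.style.haveILetI false
set_option backward.isDefEq.respectTransparency false
set_option synthInstance.maxHeartbeats 200000
universe u
open CategoryTheory CategoryTheory.Limits AlgebraicGeometry
open JacVar
open MonoidalCategory CartesianMonoidalCategory MonObj

namespace Groth.Agent.S17808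

/-- Let C be a smooth proper connected curve of genus g > 0 over an algebraically closed field k (with a
chosen point), and let r ≤ g. Then there is a nonempty open subset U of the r-fold fibre power C ×_k
⋯ ×_k C such that for every k-point (P_1, …, P_r) of U (closed points, k being algebraically closed)
and every invertible module M on C with M ⊗ I_{P_1} ⊗ ⋯ ⊗ I_{P_r} ≅ O_C (so M is O(P_1 + ⋯ + P_r)),
h⁰(C, M) = 1. (The published statement, over the ground field of the section, says only that U is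
open; this row also asserts that U is non-empty; k is taken algebraically closed so that the
k-points of U are its closed points.) -/
theorem result (k : Type u) [Field k] [IsAlgClosed k]
    (C : Scheme.{u}) [C.Over (Spec (CommRingCat.of k))]
    [IsProper (C ↘ Spec (CommRingCat.of k))] [Smooth (C ↘ Spec (CommRingCat.of k))] [GeometricallyConnected (C ↘ Spec (CommRingCat.of k))]
    (hdim : topologicalKrullDim ↥C = 1)
    (hg : 0 < Curv2.genus k C)
    (σ₀ : Spec (CommRingCat.of k) ⟶ C) (hσ₀ : σ₀ ≫ (C ↘ Spec (CommRingCat.of k)) = 𝟙 _)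
    (r : ℕ) (hr : r ≤ Curv2.genus k C) :
    ∃ U : (SymProd.fibPow (C ↘ Spec (CommRingCat.of k)) r).Opens, (U : Set ↥(SymProd.fibPow (C ↘ Spec (CommRingCat.of k)) r)).Nonempty ∧
      ∀ (x : Spec (CommRingCat.of k) ⟶ SymProd.fibPow (C ↘ Spec (CommRingCat.of k)) r)
        (hx : x ≫ WidePullback.base (fun (_ : Fin r) => (C ↘ Spec (CommRingCat.of k))) = 𝟙 _)
        (hxU : ∀ p, x.base p ∈ U) (M : C.Modules) (hM : PicF.IsInvertible M)
        (hMD : Nonempty (CohB1.tensorMod M (FGA.tensorList (List.ofFn fun i : Fin r =>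
          ClSub.idealMod (x ≫ WidePullback.π (fun (_ : Fin r) => (C ↘ Spec (CommRingCat.of k))) i).ker)) ≅ Coh.structureModule C)),
        Module.finrank k (Coh.HH C M 0) = 1 := by
  classical
  let f := C ↘ Spec (CommRingCat.of k)
  obtain ⟨hX, hrel⟩ := H25Jac.isSmoothProperCurve_of_connected f hdim
  haveI := hrel
  haveI := hX.2.2.1
  obtain ⟨J, hgrp, hc, hp, hs, hi, ⟨D⟩⟩ := H25Jac.exists_jData (σ := σ₀) (hσ := hσ₀) hX
  haveI := hc; haveI := hp; haveI := hs; haveI := hi
  obtain ⟨aj, haj⟩ := D.exists_abel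
  obtain ⟨gn, H, φ, ΦH, G, V, hv, hgn, hHs, hHp, hsurj, -, -, -, hΦ, hGne, hVH, hVr, hVo, hVΦ, hgood⟩ :=
    H25Jac.exists_birational hX D haj
  haveI := hsurj
  haveI := (H25Jac.irreducibleSpace_powOver (f := f) gn).2
  have hrg : r ≤ gn := hr.trans hgn.ge
  let W := H27SymProd.powOver f gn
  let Wr := H27SymProd.powOver f r
  let T1 := 𝟙_ (Over (Spec (CommRingCat.of k)))
  let A : W ⟶ J := ∏ i, H25Jac.coord f gn i ≫ aj
  obtain ⟨w, hw⟩ : ∃ w, A.left w ∈ V := by
    obtain ⟨z, hz⟩ := hGne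
    rw [← hVr] at hz
    obtain ⟨v, -⟩ := hz
    obtain ⟨w, hw⟩ := φ.left.surjective (hv v)
    refine ⟨w, ?_⟩
    rw [show A = φ ≫ ΦH from hΦ.symm, Over.comp_left, Scheme.Hom.comp_apply, hw, ← Scheme.Hom.comp_apply, hVΦ]
    exact v.2
  haveI : JacobsonSpace ↥W.left := LocallyOfFiniteType.jacobsonSpace W.hom
  obtain ⟨y₀, hy₀V, hy₀⟩ := nonempty_inter_closedPoints (Z := ((A.left ⁻¹ᵁ V : W.left.Opens) : Set ↥W.left))
    ⟨w, hw⟩ (A.left ⁻¹ᵁ V).2.isLocallyClosed
  let y : T1 ⟶ W := Over.homMk (pointOfClosedPoint W.hom y₀ hy₀) (pointOfClosedPoint_comp W.hom y₀ hy₀)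
  let Q : Fin gn → (T1 ⟶ Over.mk f) := fun i => y ≫ H25Jac.coord f gn i
  let ext : ∀ (T : Over (Spec (CommRingCat.of k))), (T ⟶ Wr) → Fin gn → (T ⟶ Over.mk f) := fun T t i =>
    if h : (i : ℕ) < r then t ≫ H25Jac.coord f r ⟨i, h⟩ else toUnit T ≫ Q i
  let s : Wr ⟶ W := Over.homMk (WidePullback.lift Wr.hom (fun i => (ext Wr (𝟙 _) i).left)
    fun i => Over.w (ext Wr (𝟙 _) i)) (WidePullback.lift_base _ _ _ _)
  have hs : ∀ {T : Over (Spec (CommRingCat.of k))} (t : T ⟶ Wr) i, t ≫ s ≫ H25Jac.coord f gn i = ext T t i := by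
    intro T t i
    rw [show s ≫ H25Jac.coord f gn i = ext Wr (𝟙 _) i from Over.OverMorphism.ext (WidePullback.lift_π _ _ _ _ i)]
    by_cases h : (i : ℕ) < r
    · simp only [ext, dif_pos h, Category.id_comp]
    · simp only [ext, dif_neg h]
      rw [← Category.assoc, toUnit_unique (t ≫ toUnit Wr) (toUnit T)]
  refine ⟨(s ≫ A).left ⁻¹ᵁ V, ?_, fun x hx hxU M hM hMD => ?_⟩
  · let π : W ⟶ Wr := Over.homMk (WidePullback.lift W.hom (fun i => WidePullback.π _ (Fin.castLE hrg i))
      fun i => WidePullback.π_arrow _ _) (WidePullback.lift_base _ _ _ _)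
    have he : (y ≫ π) ≫ s ≫ A = y ≫ A := by
      simp only [A, H25Jac.comp_prod, ← Category.assoc]
      refine Finset.prod_congr rfl fun i _ => congrArg (· ≫ aj) ?_
      rw [Category.assoc (y ≫ π), hs]
      by_cases h : (i : ℕ) < r
      · simp only [ext, dif_pos h, Category.assoc]
        exact congrArg (y ≫ ·) (Over.OverMorphism.ext (WidePullback.lift_π _ _ _ _ (⟨i, h⟩ : Fin r)))
      · simp only [ext, dif_neg h, Q]
        rw [toUnit_unique (toUnit T1) (𝟙 _), Category.id_comp]
    refine ⟨(y ≫ π).left (IsLocalRing.closedPoint k), ?_⟩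
    show (s ≫ A).left ((y ≫ π).left (IsLocalRing.closedPoint k)) ∈ V
    rw [← Scheme.Hom.comp_apply, ← Over.comp_left, he, Over.comp_left, Scheme.Hom.comp_apply]
    exact (pointOfClosedPoint_apply W.hom y₀ hy₀ _).symm ▸ hy₀V
  · let pt : T1 ⟶ Wr := Over.homMk x hx
    have hsec : ∀ (b : T1 ⟶ Over.mk f), BlowUp.IsEffCartierIdeal b.left.ker := fun b =>
      H12Pic.CurveFam.isEffCartierIdeal_section f b.left (Over.w b)
    let iU : (T1 ⟶ Over.mk f) → (H25Theta.Cls C)ˣ := fun b => H25Jac.idU b.left.ker (hsec b)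
    let p : Fin r → (T1 ⟶ Over.mk f) := fun i => pt ≫ H25Jac.coord f r i
    have hI := fun b => H29Blow.isInvertible_of_isEffCartierIdeal _ (hsec b)
    have hlp : PicF.IsInvertible (Y := C) (FGA.tensorList (Y := C) (List.ofFn fun i => ClSub.idealMod (p i).left.ker)) :=
      H28Vert.isInvertible_list _ fun A hA => by
        rw [List.mem_ofFn] at hA
        obtain ⟨i, rfl⟩ := hA
        exact hI _
    let e' : Fin gn → (T1 ⟶ Over.mk f) := ext T1 pt
    have hla : PicF.IsInvertible (Y := C) (FGA.tensorList (Y := C) (List.ofFn fun i => ClSub.idealMod (e' i).left.ker)) :=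
      H28Vert.isInvertible_list _ fun A hA => by
        rw [List.mem_ofFn] at hA
        obtain ⟨i, rfl⟩ := hA
        exact hI _
    obtain ⟨M', hM', ⟨eM'⟩⟩ := H11Sym.exists_inverse hla
    have hu' : H25Theta.unitCls hM' = (∏ i, iU (e' i))⁻¹ := by
      rw [show ∏ i, iU (e' i) = H25Theta.unitCls hla from (H25Jac.unitCls_tensorList_ofFn _ (fun i => hI _) hla).symm]
      exact eq_inv_of_mul_eq_one_left (Units.ext (Quot.sound ⟨eM'⟩))
    have hM'1 : Module.finrank k (Coh.HH C M' 0) = 1 := by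
      refine H25Jac.h0_eq_one_of_good hgood (pt ≫ s ≫ A) (fun q => hxU q) hM' ?_
      rw [hu', map_inv, map_prod, H25Jac.rho_point]
      simp only [A, H25Jac.comp_prod]
      simp only [← Category.assoc]
      rw [H25Jac.xU_prod_point D haj, mul_inv_cancel_right]
      refine congrArg _ (Finset.prod_congr rfl fun i _ => ?_)
      rw [Category.assoc, hs]
      exact H25Jac.pullU_idU_point (e' i) (hsec _)
    have hp : H25Theta.unitCls hM * ∏ i, iU (p i) = 1 := by
      rw [show ∏ i, iU (p i) = H25Theta.unitCls hlp from (H25Jac.unitCls_tensorList_ofFn _ (fun i => hI _) hlp).symm]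
      exact Units.ext (Quot.sound ⟨hMD.some⟩)
    obtain ⟨d, rfl⟩ : ∃ d, gn = r + d := ⟨gn - r, by omega⟩
    have hsplit : ∏ i, iU (e' i) = (∏ i, iU (p i)) * ∏ i : Fin d, iU (Q (Fin.natAdd r i)) := by
      rw [Fin.prod_univ_add]
      refine congrArg₂ (· * ·) (Finset.prod_congr rfl fun i _ => congrArg iU ?_)
        (Finset.prod_congr rfl fun i _ => congrArg iU ?_)
      · simp only [e', ext, Fin.val_castAdd, i.isLt, ↓reduceDIte]
        rfl
      · simp only [e', ext, Fin.val_natAdd, Nat.not_lt.2 (Nat.le_add_right r (i : ℕ)), ↓reduceDIte]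
        rw [toUnit_unique (toUnit T1) (𝟙 _), Category.id_comp]
    refine le_antisymm (le_trans (H25Jac.h0_le_of_points (X := C) (fun i : Fin d => (Q (Fin.natAdd r i)).left)
      (fun i => Over.w (Q (Fin.natAdd r i))) hM' hM ?_) hM'1.le) ?_
    · rw [hu', hsplit, mul_inv, _root_.mul_assoc, inv_mul_cancel, _root_.mul_one]
      exact eq_inv_of_mul_eq_one_left hp
    · refine (H29RR.finrank_h0_structure k C).ge.trans (H25Jac.h0_le_of_points (X := C) (fun i => (p i).left)
        (fun i => Over.w (p i)) hM (H11Ample.isInvertible_structureModule (X := C)) ?_)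
      exact Eq.trans (b := (1 : (H25Theta.Cls C)ˣ)) (Units.ext rfl) hp.symm

end Groth.Agent.S17808
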