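import Groth.Statements.S17809
import Groth.Agent.H25Jac.CoarseAlbanese

set_option autoImplicit false
set_option linter.style.haveILetI false
set_option backward.isDefEq.respectTransparency false
set_option synthInstance.maxHeartbeats 200000
universe u
open CategoryTheory CategoryTheory.Limits AlgebraicGeometry MonoidalCategory CartesianMonoidalCategory MonObj
open JacVar

namespace Groth.Agent.S17809

/-- Let C be a smooth proper geometrically connected curve of genus g > 0 over a field k with a
k-rational point P, let (J, ψ) be its Jacobian — a commutative group scheme over k which is a coarse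
moduli scheme, on all k-schemes, for line bundles of degree 0 on C modulo twisting from the base,
with group law induced by the tensor product — and let j : C ⟶ J be the Abel map with base point P
(the morphism ψ attaches to a family on C × C whose fibre at x is O(x − P)). Then (J, j) is the
Albanese variety of (C, P): for every abelian variety A over k (commutative group scheme, proper,
smooth and geometrically irreducible over k) and every morphism φ : C ⟶ A over k with φ(P) = 0,
there is a unique homomorphism of group schemes J ⟶ A whose composite with j is φ. -/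
theorem result (k : Type u) [Field k]
    (C : Scheme.{u}) [C.Over (Spec (CommRingCat.of k))]
    [IsProper (C ↘ Spec (CommRingCat.of k))] [Smooth (C ↘ Spec (CommRingCat.of k))] [GeometricallyConnected (C ↘ Spec (CommRingCat.of k))]
    (hdim : topologicalKrullDim ↥C = 1)
    (hg : 0 < Curv2.genus k C)
    (σ : Spec (CommRingCat.of k) ⟶ C) (hσ : σ ≫ (C ↘ Spec (CommRingCat.of k)) = 𝟙 _)
    (J : Over (Spec (CommRingCat.of k))) [GrpObj J] [IsCommMonObj J]
    (ψ : (ModFun.PicDeg (C ↘ Spec (CommRingCat.of k)) 0).Hom ⊤ J) (hJ : Jac.IsJacobian (C ↘ Spec (CommRingCat.of k)) ⊤ J ψ)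
    (j : Over.mk (C ↘ Spec (CommRingCat.of k)) ⟶ J) (hj : Jac.IsAbelJacobiAt (C ↘ Spec (CommRingCat.of k)) σ ψ j)
    (A : Over (Spec (CommRingCat.of k))) [GrpObj A] [IsCommMonObj A]
    [IsProper A.hom] [Smooth A.hom] [GeometricallyIrreducible A.hom]
    (φ : Over.mk (C ↘ Spec (CommRingCat.of k)) ⟶ A) (hφ : σ ≫ φ.left = η[A].left) :
    ∃! χ : J ⟶ A, IsMonHom χ ∧ j ≫ χ = φ := by
  haveI : GeometricallyConnected A.hom := H25AbCube.geometricallyConnected_of_irreducible A.hom
  haveI : GeometricallyIntegral A.hom := H25AbCube.geometricallyIntegral_of_smooth A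
  exact H25Jac.existsUnique_albanese_coarse hσ hdim hg hJ hj A φ hφ

end Groth.Agent.S17809
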