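import Groth.Statements.S17810
import Groth.Agent.H25Jac.CoarseAlbanese
import Groth.Agent.S11993

set_option autoImplicit false
set_option linter.style.haveILetI false
set_option backward.isDefEq.respectTransparency false
set_option synthInstance.maxHeartbeats 200000
universe u
open CategoryTheory CategoryTheory.Limits AlgebraicGeometry MonoidalCategory CartesianMonoidalCategory MonObj
open JacVar

namespace Groth.Agent.S17810

/-- The case of a curve with a rational point. Let C be a smooth proper geometrically connected curve of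
genus g > 0 over a field k with a k-rational point P, (J, ψ) its Jacobian (a commutative group
scheme over k, coarse moduli scheme on all k-schemes for degree-0 line bundles on C modulo twisting
from the base, group law induced by tensor product), j : C ⟶ J the Abel map with base point P, and F
: C ×_k C ⟶ J the morphism (x, y) ↦ j(x) · j(y)⁻¹, which sends (x, y) to the class of O(x − y) and
does not depend on P. Then for every abelian variety A over k (commutative group scheme, proper,
smooth and geometrically irreducible over k) and every morphism φ : C ×_k C ⟶ A over k which maps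
the diagonal to the zero of A, there is a unique homomorphism of group schemes J ⟶ A whose composite
with F is φ. (Stated when C has a rational point, through which F is written; the published
statement covers every C by descent.) -/
theorem result (k : Type u) [Field k]
    (C : Scheme.{u}) [C.Over (Spec (CommRingCat.of k))]
    [IsProper (C ↘ Spec (CommRingCat.of k))] [Smooth (C ↘ Spec (CommRingCat.of k))] [GeometricallyConnected (C ↘ Spec (CommRingCat.of k))]
    (hdim : topologicalKrullDim ↥C = 1)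
    (hg : 0 < Curv2.genus k C)
    (σ : Spec (CommRingCat.of k) ⟶ C) (hσ : σ ≫ (C ↘ Spec (CommRingCat.of k)) = 𝟙 _)
    (J : Over (Spec (CommRingCat.of k))) [GrpObj J] [IsCommMonObj J]
    (ψ : (ModFun.PicDeg (C ↘ Spec (CommRingCat.of k)) 0).Hom ⊤ J) (hJ : Jac.IsJacobian (C ↘ Spec (CommRingCat.of k)) ⊤ J ψ)
    (j : Over.mk (C ↘ Spec (CommRingCat.of k)) ⟶ J) (hj : Jac.IsAbelJacobiAt (C ↘ Spec (CommRingCat.of k)) σ ψ j)
    (A : Over (Spec (CommRingCat.of k))) [GrpObj A] [IsCommMonObj A]
    [IsProper A.hom] [Smooth A.hom] [GeometricallyIrreducible A.hom]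
    (φ : Over.mk (C ↘ Spec (CommRingCat.of k)) ⊗ Over.mk (C ↘ Spec (CommRingCat.of k)) ⟶ A)
    (hφ : lift (𝟙 (Over.mk (C ↘ Spec (CommRingCat.of k)))) (𝟙 (Over.mk (C ↘ Spec (CommRingCat.of k)))) ≫ φ = toUnit _ ≫ η[A]) :
    ∃! χ : J ⟶ A, IsMonHom χ ∧
      ((fst (Over.mk (C ↘ Spec (CommRingCat.of k))) (Over.mk (C ↘ Spec (CommRingCat.of k))) ≫ j) * (snd (Over.mk (C ↘ Spec (CommRingCat.of k))) (Over.mk (C ↘ Spec (CommRingCat.of k))) ≫ j)⁻¹) ≫ χ = φ := by
  haveI : GeometricallyConnected A.hom := H25AbCube.geometricallyConnected_of_irreducible A.hom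
  haveI : GeometricallyIntegral A.hom := H25AbCube.geometricallyIntegral_of_smooth A
  let f := C ↘ Spec (CommRingCat.of k)
  obtain ⟨hX, hrel⟩ := H25Jac.isSmoothProperCurve_of_connected f hdim
  haveI := hrel
  haveI := H29DoubleCover.geometricallyIntegral_of_smooth_connected f
  haveI : GeometricallyIntegral (Over.mk f).hom := ‹GeometricallyIntegral f›
  haveI : Smooth (Over.mk f).hom := ‹Smooth (C ↘ Spec (CommRingCat.of k))›
  haveI : IsSeparated (Over.mk f).hom := inferInstanceAs (IsSeparated (C ↘ Spec (CommRingCat.of k)))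
  haveI : QuasiCompact (Over.mk f).hom := inferInstanceAs (QuasiCompact (C ↘ Spec (CommRingCat.of k)))
  let c : 𝟙_ (Over (Spec (CommRingCat.of k))) ⟶ Over.mk f := H25Jac.constPt f hσ (𝟙_ _)
  obtain ⟨J₀, hg₀, D, aj, e, hc, hp, hs, hi, haj, he, he', hje⟩ := H25Jac.exists_fine hσ hX hJ hj
  have hcj : c ≫ j = 1 := by
    have h := H25Jac.constPt_comp_abel haj (𝟙_ (Over (Spec (CommRingCat.of k))))
    rw [← hje, ← Category.assoc] at h
    rw [← cancel_mono e.hom, h, MonObj.one_comp]
  obtain ⟨⟨f₁, f₂, hf⟩, -⟩ := S11993.result k (Over.mk f) (Over.mk f) A c φ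
  have h12 : f₁ * f₂ = 1 := by
    rw [hf, MonObj.comp_mul, lift_fst_assoc, lift_snd_assoc, Category.id_comp, Category.id_comp] at hφ
    rw [hφ, Hom.one_def]
  rw [eq_inv_of_mul_eq_one_right h12] at hf
  let h : Over.mk f ⟶ A := f₁ * (toUnit _ ≫ c ≫ f₁)⁻¹
  have hch : c ≫ h = 1 := by
    rw [MonObj.comp_mul, GrpObj.comp_inv, ← Category.assoc c (toUnit _), toUnit_unique (c ≫ toUnit _) (𝟙 _),
      Category.id_comp, mul_inv_cancel]
  have hσh : σ ≫ h.left = η[A].left := by
    rw [show σ = c.left from (Category.id_comp σ).symm, ← Over.comp_left, hch, Hom.one_def,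
      toUnit_unique (toUnit _) (𝟙 _), Category.id_comp]
  obtain ⟨χ, ⟨hχ, hjχ⟩, huniq⟩ := H25Jac.existsUnique_albanese_coarse hσ hdim hg hJ hj A h hσh
  haveI := hχ
  have hF : ∀ (χ : J ⟶ A) [IsMonHom χ],
      ((fst (Over.mk f) (Over.mk f) ≫ j) * (snd (Over.mk f) (Over.mk f) ≫ j)⁻¹) ≫ χ =
        (fst (Over.mk f) (Over.mk f) ≫ j ≫ χ) * (snd (Over.mk f) (Over.mk f) ≫ j ≫ χ)⁻¹ := fun χ _ => by
    rw [MonObj.mul_comp, GrpObj.inv_comp, Category.assoc, Category.assoc]
  refine ⟨χ, ⟨hχ, ?_⟩, fun χ' ⟨hχ', he2⟩ => huniq χ' ⟨hχ', ?_⟩⟩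
  · rw [hF χ, hjχ, hf]
    simp only [h, MonObj.comp_mul, GrpObj.comp_inv, ← Category.assoc,
      toUnit_unique (fst (Over.mk f) (Over.mk f) ≫ toUnit _) (toUnit _),
      toUnit_unique (snd (Over.mk f) (Over.mk f) ≫ toUnit _) (toUnit _)]
    rw [mul_inv, inv_inv, _root_.mul_mul_mul_comm, inv_mul_cancel, _root_.mul_one]
  · haveI := hχ'
    rw [hF χ', hf] at he2
    have h3 := congrArg (lift (𝟙 (Over.mk f)) (toUnit (Over.mk f) ≫ c) ≫ ·) he2
    simp only [MonObj.comp_mul, GrpObj.comp_inv, lift_fst_assoc, lift_snd_assoc, Category.id_comp] at h3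
    rw [Category.assoc, ← Category.assoc c j, hcj, MonObj.one_comp, MonObj.comp_one, inv_one, _root_.mul_one,
      Category.assoc] at h3
    exact h3

end Groth.Agent.S17810
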