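import Groth.Statements.S17811
import Groth.Agent.H25Torelli.Torelli

set_option maxHeartbeats 1600000
set_option backward.isDefEq.respectTransparency.types false

set_option autoImplicit false
universe u
open CategoryTheory CategoryTheory.Limits AlgebraicGeometry MonoidalCategory CartesianMonoidalCategory MonObj
open JacVar

namespace Groth.Agent.S17811

/-- Torelli's statement. Let k be an algebraically closed field, C and C' smooth proper connected curves
of the same genus g ≥ 2 over k with k-points P and P', (J, ψ) and (J', ψ') their Jacobians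
(commutative group schemes over k which are coarse moduli schemes, on all k-schemes, for degree-0
line bundles modulo twisting from the base, group law induced by tensor product), j : C ⟶ J and j' :
C' ⟶ J' the Abel maps with base points P and P', and N, N' invertible modules of degree g − 1 on C
and C'. Let Θ ⊂ J and Θ' ⊂ J' be the theta loci of N and N' (closures of the loci of classes ξ with
a nonzero global section of ξ ⊗ N, resp. of ξ ⊗ N'); they are translates of the images of the (g −
1)-st symmetric powers. Suppose β : J ≅ J' is an isomorphism of group schemes over k mapping Θ onto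
the translate of Θ' by some k-point; this says that β respects the canonical principal
polarizations. Then there are an isomorphism α : C ≅ C' over k, a k-point c of J' and a sign s ∈ {1,
−1} such that j' ∘ α = (β ∘ j)^s · c in the group of morphisms C ⟶ J'. (The published statement does
not restrict the genus; this row assumes g ≥ 2.) -/
theorem result (k : Type u) [Field k] [IsAlgClosed k]
    (C : Scheme.{u}) [C.Over (Spec (CommRingCat.of k))]
    [IsProper (C ↘ Spec (CommRingCat.of k))] [Smooth (C ↘ Spec (CommRingCat.of k))] [GeometricallyConnected (C ↘ Spec (CommRingCat.of k))]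
    (hdim : topologicalKrullDim ↥C = 1)
    (C' : Scheme.{u}) [C'.Over (Spec (CommRingCat.of k))]
    [IsProper (C' ↘ Spec (CommRingCat.of k))] [Smooth (C' ↘ Spec (CommRingCat.of k))] [GeometricallyConnected (C' ↘ Spec (CommRingCat.of k))]
    (hdim' : topologicalKrullDim ↥C' = 1)
    (g : ℕ) (hg : Curv2.genus k C = g) (hg' : Curv2.genus k C' = g) (hg2 : 2 ≤ g)
    (σ : Spec (CommRingCat.of k) ⟶ C) (hσ : σ ≫ (C ↘ Spec (CommRingCat.of k)) = 𝟙 _) (σ' : Spec (CommRingCat.of k) ⟶ C') (hσ' : σ' ≫ (C' ↘ Spec (CommRingCat.of k)) = 𝟙 _)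
    (J : Over (Spec (CommRingCat.of k))) [GrpObj J] [IsCommMonObj J]
    (ψ : (ModFun.PicDeg (C ↘ Spec (CommRingCat.of k)) 0).Hom ⊤ J) (hJ : Jac.IsJacobian (C ↘ Spec (CommRingCat.of k)) ⊤ J ψ)
    (J' : Over (Spec (CommRingCat.of k))) [GrpObj J'] [IsCommMonObj J']
    (ψ' : (ModFun.PicDeg (C' ↘ Spec (CommRingCat.of k)) 0).Hom ⊤ J') (hJ' : Jac.IsJacobian (C' ↘ Spec (CommRingCat.of k)) ⊤ J' ψ')
    (j : Over.mk (C ↘ Spec (CommRingCat.of k)) ⟶ J) (hj : Jac.IsAbelJacobiAt (C ↘ Spec (CommRingCat.of k)) σ ψ j)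
    (j' : Over.mk (C' ↘ Spec (CommRingCat.of k)) ⟶ J') (hj' : Jac.IsAbelJacobiAt (C' ↘ Spec (CommRingCat.of k)) σ' ψ' j')
    (N : C.Modules) (hN : PicF.IsInvertible N) (hNdeg : Curv2.deg k C N 1 = (g : ℤ) - 1)
    (N' : C'.Modules) (hN' : PicF.IsInvertible N') (hNdeg' : Curv2.deg k C' N' 1 = (g : ℤ) - 1)
    (β : J ≅ J') [IsMonHom β.hom] (c₀ : 𝟙_ (Over (Spec (CommRingCat.of k))) ⟶ J')
    (hβ : β.hom.left.base '' Jac.thetaLocus (C ↘ Spec (CommRingCat.of k)) 0 ψ N =
      (Jac.transl J' c₀).left.base ⁻¹' Jac.thetaLocus (C' ↘ Spec (CommRingCat.of k)) 0 ψ' N') :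
    ∃ (α : C ≅ C') (hα : α.hom ≫ (C' ↘ Spec (CommRingCat.of k)) = (C ↘ Spec (CommRingCat.of k))) (c : 𝟙_ (Over (Spec (CommRingCat.of k))) ⟶ J') (s : ℤ),
      (s = 1 ∨ s = -1) ∧
      Over.homMk α.hom hα ≫ j' = (j ≫ β.hom) ^ s * (toUnit (Over.mk (C ↘ Spec (CommRingCat.of k))) ≫ c) := by
  exact Groth.Agent.H25Torelli.exists_torelli (σ := ⟨σ, hσ⟩) (σ' := ⟨σ', hσ'⟩) hJ hj hJ' hj' hdim hdim' g hg hg' hg2
    N hN hNdeg N' hN' hNdeg' β c₀ hβ

end Groth.Agent.S17811
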