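import Groth.Statements.S17812
import Groth.Agent.H25Torelli.Translates

set_option autoImplicit false
set_option maxHeartbeats 1600000
set_option backward.isDefEq.respectTransparency.types false
universe u
open CategoryTheory CategoryTheory.Limits AlgebraicGeometry MonoidalCategory CartesianMonoidalCategory MonObj
open JacVar

namespace Groth.Agent.S17812

/-- Let k be an algebraically closed field, C a smooth proper connected curve of genus g ≥ 2 over k with
a k-point P, (J, ψ) its Jacobian (a commutative group scheme over k, coarse moduli scheme on all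
k-schemes for degree-0 line bundles modulo twisting from the base, group law induced by tensor
product) and j : C ⟶ J the Abel map with base point P. Write W^r ⊂ J for the image of the r-fold
product C ×_k ⋯ ×_k C under (x_1, …, x_r) ↦ j(x_1) ⋯ j(x_r) (the image of the r-th symmetric power;
W^0 is the origin), and W^r_a for its translate by a k-point a of J. Then for 0 ≤ r ≤ g − 1 and
k-points a, b of J one has W^r_a ⊆ W^{g−1}_b if and only if a lies in W^{g−1−r}_b (inclusions of
sets of points of J). -/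
theorem result (k : Type u) [Field k] [IsAlgClosed k]
    (C : Scheme.{u}) [C.Over (Spec (CommRingCat.of k))]
    [IsProper (C ↘ Spec (CommRingCat.of k))] [Smooth (C ↘ Spec (CommRingCat.of k))] [GeometricallyConnected (C ↘ Spec (CommRingCat.of k))]
    (hdim : topologicalKrullDim ↥C = 1)
    (g : ℕ) (hg : Curv2.genus k C = g) (hg2 : 2 ≤ g)
    (σ : Spec (CommRingCat.of k) ⟶ C) (hσ : σ ≫ (C ↘ Spec (CommRingCat.of k)) = 𝟙 _)
    (J : Over (Spec (CommRingCat.of k))) [GrpObj J] [IsCommMonObj J]
    (ψ : (ModFun.PicDeg (C ↘ Spec (CommRingCat.of k)) 0).Hom ⊤ J) (hJ : Jac.IsJacobian (C ↘ Spec (CommRingCat.of k)) ⊤ J ψ)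
    (j : Over.mk (C ↘ Spec (CommRingCat.of k)) ⟶ J) (hj : Jac.IsAbelJacobiAt (C ↘ Spec (CommRingCat.of k)) σ ψ j)
    (r : ℕ) (hr : r ≤ g - 1) (a b : 𝟙_ (Over (Spec (CommRingCat.of k))) ⟶ J) :
    ((Jac.transl J a).left.base '' Set.range ((List.ofFn fun i : Fin r =>
        (Over.homMk (WidePullback.π (fun (_ : Fin r) => (C ↘ Spec (CommRingCat.of k))) i)
          (WidePullback.π_arrow (fun (_ : Fin r) => (C ↘ Spec (CommRingCat.of k))) i) : Over.mk (WidePullback.base fun (_ : Fin r) => (C ↘ Spec (CommRingCat.of k))) ⟶ Over.mk (C ↘ Spec (CommRingCat.of k))) ≫ j).prod).left.base) ⊆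
      ((Jac.transl J b).left.base '' Set.range ((List.ofFn fun i : Fin (g - 1) =>
        (Over.homMk (WidePullback.π (fun (_ : Fin (g - 1)) => (C ↘ Spec (CommRingCat.of k))) i)
          (WidePullback.π_arrow (fun (_ : Fin (g - 1)) => (C ↘ Spec (CommRingCat.of k))) i) : Over.mk (WidePullback.base fun (_ : Fin (g - 1)) => (C ↘ Spec (CommRingCat.of k))) ⟶ Over.mk (C ↘ Spec (CommRingCat.of k))) ≫ j).prod).left.base) ↔
    ∀ p, a.left.base p ∈ ((Jac.transl J b).left.base '' Set.range ((List.ofFn fun i : Fin (g - 1 - r) =>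
        (Over.homMk (WidePullback.π (fun (_ : Fin (g - 1 - r)) => (C ↘ Spec (CommRingCat.of k))) i)
          (WidePullback.π_arrow (fun (_ : Fin (g - 1 - r)) => (C ↘ Spec (CommRingCat.of k))) i) : Over.mk (WidePullback.base fun (_ : Fin (g - 1 - r)) => (C ↘ Spec (CommRingCat.of k))) ⟶ Over.mk (C ↘ Spec (CommRingCat.of k))) ≫ j).prod).left.base) := by
  obtain ⟨D⟩ := Groth.Agent.H25Torelli.exists_dict (σ := ⟨σ, hσ⟩) hdim ψ hJ j hj
  refine (D.subset_theta_iff g hg (by omega) r hr a b).trans ((D.mem_W_transl (g - 1 - r) b a).symm.trans ?_)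
  exact Groth.Agent.H25Torelli.forall_mem_iff.symm

end Groth.Agent.S17812
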