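import Groth.Statements.S17815
import Groth.Agent.H25Torelli.Unique

set_option autoImplicit false
set_option maxHeartbeats 1600000
set_option backward.isDefEq.respectTransparency.types false
universe u
open CategoryTheory CategoryTheory.Limits AlgebraicGeometry MonoidalCategory CartesianMonoidalCategory MonObj
open JacVar

namespace Groth.Agent.S17815

/-- The non-hyperelliptic case. Let k be an algebraically closed field, C and C' smooth proper connected
curves of genus g ≥ 2 over k with k-points P and P', (J, ψ) and (J', ψ') their Jacobians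
(commutative group schemes over k, coarse moduli schemes on all k-schemes for degree-0 line bundles
modulo twisting from the base, group law induced by tensor product), j and j' the Abel maps with
base points P and P', and β : J ≅ J' an isomorphism of group schemes over k. Suppose C is not
hyperelliptic: no invertible module of degree 2 on C has a two-dimensional space of global sections.
Then the isomorphism, the sign and the translation in Torelli's conclusion are uniquely determined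
by β, P and P': if isomorphisms α₁, α₂ : C ≅ C' over k, k-points c₁, c₂ of J' and signs s₁, s₂ ∈ {1,
−1} satisfy j' ∘ α_i = (β ∘ j)^{s_i} · c_i for i = 1, 2, then α₁ = α₂, s₁ = s₂ and c₁ = c₂. (The
published statement takes β an isomorphism of the canonically polarized Jacobians; this row allows
any isomorphism of group schemes β.) -/
theorem result (k : Type u) [Field k] [IsAlgClosed k]
    (C : Scheme.{u}) [C.Over (Spec (CommRingCat.of k))]
    [IsProper (C ↘ Spec (CommRingCat.of k))] [Smooth (C ↘ Spec (CommRingCat.of k))] [GeometricallyConnected (C ↘ Spec (CommRingCat.of k))]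
    (hdim : topologicalKrullDim ↥C = 1)
    (C' : Scheme.{u}) [C'.Over (Spec (CommRingCat.of k))]
    [IsProper (C' ↘ Spec (CommRingCat.of k))] [Smooth (C' ↘ Spec (CommRingCat.of k))] [GeometricallyConnected (C' ↘ Spec (CommRingCat.of k))]
    (hdim' : topologicalKrullDim ↥C' = 1)
    (g : ℕ) (hg : Curv2.genus k C = g) (hg' : Curv2.genus k C' = g) (hg2 : 2 ≤ g)
    (σ : Spec (CommRingCat.of k) ⟶ C) (hσ : σ ≫ (C ↘ Spec (CommRingCat.of k)) = 𝟙 _) (σ' : Spec (CommRingCat.of k) ⟶ C') (hσ' : σ' ≫ (C' ↘ Spec (CommRingCat.of k)) = 𝟙 _)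
    (J : Over (Spec (CommRingCat.of k))) [GrpObj J] [IsCommMonObj J]
    (ψ : (ModFun.PicDeg (C ↘ Spec (CommRingCat.of k)) 0).Hom ⊤ J) (hJ : Jac.IsJacobian (C ↘ Spec (CommRingCat.of k)) ⊤ J ψ)
    (J' : Over (Spec (CommRingCat.of k))) [GrpObj J'] [IsCommMonObj J']
    (ψ' : (ModFun.PicDeg (C' ↘ Spec (CommRingCat.of k)) 0).Hom ⊤ J') (hJ' : Jac.IsJacobian (C' ↘ Spec (CommRingCat.of k)) ⊤ J' ψ')
    (j : Over.mk (C ↘ Spec (CommRingCat.of k)) ⟶ J) (hj : Jac.IsAbelJacobiAt (C ↘ Spec (CommRingCat.of k)) σ ψ j)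
    (j' : Over.mk (C' ↘ Spec (CommRingCat.of k)) ⟶ J') (hj' : Jac.IsAbelJacobiAt (C' ↘ Spec (CommRingCat.of k)) σ' ψ' j')
    (β : J ≅ J') [IsMonHom β.hom]
    (hnh : ¬ ∃ L : C.Modules, PicF.IsInvertible L ∧ Curv2.deg k C L 1 = 2 ∧ Module.finrank k (Coh.HH C L 0) = 2)
    (α₁ α₂ : C ≅ C') (hα₁ : α₁.hom ≫ (C' ↘ Spec (CommRingCat.of k)) = (C ↘ Spec (CommRingCat.of k))) (hα₂ : α₂.hom ≫ (C' ↘ Spec (CommRingCat.of k)) = (C ↘ Spec (CommRingCat.of k)))
    (c₁ c₂ : 𝟙_ (Over (Spec (CommRingCat.of k))) ⟶ J') (s₁ s₂ : ℤ) (hs₁ : s₁ = 1 ∨ s₁ = -1) (hs₂ : s₂ = 1 ∨ s₂ = -1)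
    (h₁ : Over.homMk α₁.hom hα₁ ≫ j' = (j ≫ β.hom) ^ s₁ * (toUnit (Over.mk (C ↘ Spec (CommRingCat.of k))) ≫ c₁))
    (h₂ : Over.homMk α₂.hom hα₂ ≫ j' = (j ≫ β.hom) ^ s₂ * (toUnit (Over.mk (C ↘ Spec (CommRingCat.of k))) ≫ c₂)) :
    α₁ = α₂ ∧ s₁ = s₂ ∧ c₁ = c₂ := by
  classical
  obtain ⟨D⟩ := Groth.Agent.H25Torelli.exists_dict (σ := ⟨σ, hσ⟩) hdim ψ hJ j hj
  haveI := D.comm
  let f := C ↘ Spec (CommRingCat.of k)
  let f' := C' ↘ Spec (CommRingCat.of k)
  let H : ∀ (α : C ≅ C'), α.hom ≫ f' = f → (Over.mk f ≅ Over.mk f') := fun α hα => Over.isoMk α hα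
  -- the relation seen on rational points of the second curve, pulled back to the first Jacobian
  have key : ∀ (α : C ≅ C') (hα : α.hom ≫ f' = f) (c : 𝟙_ (Over (Spec (CommRingCat.of k))) ⟶ J') (s : ℤ),
      Over.homMk α.hom hα ≫ j' = (j ≫ β.hom) ^ s * (toUnit (Over.mk f) ≫ c) →
      ∀ q : 𝟙_ (Over (Spec (CommRingCat.of k))) ⟶ Over.mk f',
        q ≫ j' ≫ β.inv = ((q ≫ (H α hα).inv) ≫ j) ^ s * (c ≫ β.inv) := by
    intro α hα c s h q
    have h' := congrArg (fun φ => (q ≫ (H α hα).inv) ≫ φ ≫ β.inv) h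
    simp only [← Category.assoc] at h'
    rw [show ((q ≫ (H α hα).inv) ≫ (Over.homMk α.hom hα : Over.mk f ⟶ Over.mk f')) = q from by
      rw [Category.assoc]
      exact (congrArg (q ≫ ·) (H α hα).inv_hom_id).trans (Category.comp_id q)] at h'
    rw [← Category.assoc q, h', MonObj.comp_mul, MonObj.mul_comp, GrpObj.comp_zpow, ← Category.assoc _ (toUnit _),
      toUnit_unique ((q ≫ (H α hα).inv) ≫ toUnit (Over.mk f)) (𝟙 _), Category.id_comp]
    refine congrArg (· * _) ?_
    rw [GrpObj.zpow_comp, ← Category.assoc _ j, Category.assoc, Iso.hom_inv_id, Category.comp_id]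
  have k₁ := key α₁ hα₁ c₁ s₁ h₁
  have k₂ := key α₂ hα₂ c₂ s₂ h₂
  let u : Groth.Agent.H25Torelli.Pts k C → Groth.Agent.H25Torelli.Pts k C := id
  let v : Groth.Agent.H25Torelli.Pts k C → Groth.Agent.H25Torelli.Pts k C := fun q =>
    Groth.Agent.H25Torelli.Pts.of ((q.hom ≫ (H α₁ hα₁).hom) ≫ (H α₂ hα₂).inv)
  have hrel : ∀ q : Groth.Agent.H25Torelli.Pts k C,
      s₁ • D.Φ (q.hom ≫ j) + D.Φ (c₁ ≫ β.inv) = s₂ • D.Φ ((v q).hom ≫ j) + D.Φ (c₂ ≫ β.inv) := by
    intro q
    have e := (k₁ (q.hom ≫ (H α₁ hα₁).hom)).symm.trans (k₂ (q.hom ≫ (H α₁ hα₁).hom))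
    rw [Category.assoc q.hom, Iso.hom_inv_id, Category.comp_id] at e
    have e' := congrArg D.Φ e
    rw [D.map_mul, D.map_mul] at e'
    rcases hs₁ with rfl | rfl <;> rcases hs₂ with rfl | rfl <;>
      simpa only [zpow_one, zpow_neg, D.map_inv, one_smul, neg_smul, v, Groth.Agent.H25Torelli.Pts.hom_of] using e'
  have hpen : ¬ ∃ a b : Groth.Agent.H25Torelli.Pts k C,
      Groth.Agent.H25Torelli.hCls k
        (Groth.Agent.H25Torelli.ptCls hdim a + Groth.Agent.H25Torelli.ptCls hdim b) = 2 :=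
    fun ⟨a, b, h⟩ => hnh (Groth.Agent.H25Torelli.exists_pencil h)
  have hs : s₁ = s₂ := by
    by_contra hne
    refine hpen (Groth.Agent.H25Torelli.pencil_of_add (by omega) u v Function.injective_id
      (s₁ • (D.Φ (c₂ ≫ β.inv) - D.Φ (c₁ ≫ β.inv)) + 2 • Groth.Agent.H25Torelli.ptCls hdim ⟨σ, hσ⟩) fun q => ?_)
    have e := hrel q
    rw [D.abel, D.abel] at e
    rcases hs₁ with rfl | rfl <;> rcases hs₂ with rfl | rfl <;>
      first
      | exact absurd rfl hne
      | (simp only [one_smul, neg_smul, two_nsmul, u, id] at e ⊢; linear_combination (norm := abel1) e)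
      | (simp only [one_smul, neg_smul, two_nsmul, u, id] at e ⊢; linear_combination (norm := abel1) -e)
  subst hs
  have hv : ∀ q, u q = v q := by
    refine (Groth.Agent.H25Torelli.eq_or_pencil_of_sub (by omega) u v Function.injective_id
      (s₁ • (D.Φ (c₂ ≫ β.inv) - D.Φ (c₁ ≫ β.inv))) fun q => ?_).resolve_right hpen
    have e := hrel q
    rw [D.abel, D.abel] at e
    rcases hs₁ with rfl | rfl <;>
      first
      | (simp only [one_smul, neg_smul, u, id] at e ⊢; linear_combination (norm := abel1) e)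
      | (simp only [one_smul, neg_smul, u, id] at e ⊢; linear_combination (norm := abel1) -e)
  haveI : IsReduced C := by
    haveI := Groth.Agent.H29DoubleCover.isIntegral_of_smooth_connected (C ↘ Spec (CommRingCat.of k))
    infer_instance
  haveI : IsReduced (Over.mk f).left := ‹IsReduced C›
  haveI : LocallyOfFiniteType (Over.mk f).hom := inferInstanceAs (LocallyOfFiniteType (C ↘ Spec (CommRingCat.of k)))
  haveI : IsSeparated (Over.mk f').hom := inferInstanceAs (IsSeparated (C' ↘ Spec (CommRingCat.of k)))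
  have hH : (H α₁ hα₁).hom = (H α₂ hα₂).hom := by
    refine Groth.Agent.H25Torelli.hom_ext_of_pts fun z => ?_
    have hz := congrArg (fun b => Groth.Agent.H25Torelli.Pts.hom b ≫ (H α₂ hα₂).hom)
      (hv (Groth.Agent.H25Torelli.Pts.of z))
    simp only [u, v, id, Groth.Agent.H25Torelli.Pts.hom_of, Category.assoc, Iso.inv_hom_id, Category.comp_id] at hz
    exact hz.symm
  have hα : α₁ = α₂ := Iso.ext (congrArg CommaMorphism.left hH)
  refine ⟨hα, rfl, ?_⟩
  subst hα
  obtain ⟨q⟩ := Groth.Agent.H25Torelli.nonempty_pts (k := k) (C := C)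
  have e := congrArg (fun φ => q.hom ≫ φ) (mul_left_cancel (h₁.symm.trans h₂))
  simp only [← Category.assoc] at e
  rw [toUnit_unique (q.hom ≫ toUnit (Over.mk f)) (𝟙 _), Category.id_comp, Category.id_comp] at e
  exact e

end Groth.Agent.S17815
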