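import Groth.Statements.S17816
import Groth.Agent.H25Jac.Corresp

set_option autoImplicit false
set_option linter.style.haveILetI false
set_option backward.isDefEq.respectTransparency false
set_option synthInstance.maxHeartbeats 200000
universe u
open CategoryTheory CategoryTheory.Limits AlgebraicGeometry MonoidalCategory CartesianMonoidalCategory MonObj
open JacVar

namespace Groth.Agent.S17816

/-- Let k be a field and C₁, C₂ smooth proper geometrically connected curves of positive genus over k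
with k-points P₁ and P₂; let (J₁, ψ₁) and (J₂, ψ₂) be their Jacobians (commutative group schemes
over k, coarse moduli schemes on all k-schemes for degree-0 line bundles modulo twisting from the
base, group law induced by tensor product), j₁ : C₁ ⟶ J₁ the Abel map with base point P₁, and M a
universal degree-0 family on C₂ × J₂ which is trivial along P₂ × J₂ and whose classifying morphism
under ψ₂ is the identity of J₂ (the sheaf M^{P₂}). For a homomorphism χ : J₁ ⟶ J₂ let Φ(χ) be the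
class of the pullback of M along 1 × (χ ∘ j₁) : C₂ × C₁ ⟶ C₂ × J₂. Then χ ↦ Φ(χ) is a bijection from
the homomorphisms of group schemes J₁ ⟶ J₂ onto the isomorphism classes of divisorial
correspondences between (C₂, P₂) and (C₁, P₁), i.e. classes of invertible modules on C₂ ×_k C₁
trivial on P₂ × C₁ and on C₂ × P₁: each Φ(χ) is such a class, Φ is injective on homomorphisms, and
every such class is Φ(χ) for a homomorphism χ. -/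
theorem result (k : Type u) [Field k]
    (C₁ : Scheme.{u}) [C₁.Over (Spec (CommRingCat.of k))]
    [IsProper (C₁ ↘ Spec (CommRingCat.of k))] [Smooth (C₁ ↘ Spec (CommRingCat.of k))] [GeometricallyConnected (C₁ ↘ Spec (CommRingCat.of k))]
    (hdim₁ : topologicalKrullDim ↥C₁ = 1)
    (C₂ : Scheme.{u}) [C₂.Over (Spec (CommRingCat.of k))]
    [IsProper (C₂ ↘ Spec (CommRingCat.of k))] [Smooth (C₂ ↘ Spec (CommRingCat.of k))] [GeometricallyConnected (C₂ ↘ Spec (CommRingCat.of k))]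
    (hdim₂ : topologicalKrullDim ↥C₂ = 1)
    (hg₁ : 0 < Curv2.genus k C₁) (hg₂ : 0 < Curv2.genus k C₂)
    (σ₁ : Spec (CommRingCat.of k) ⟶ C₁) (hσ₁ : σ₁ ≫ (C₁ ↘ Spec (CommRingCat.of k)) = 𝟙 _) (σ₂ : Spec (CommRingCat.of k) ⟶ C₂) (hσ₂ : σ₂ ≫ (C₂ ↘ Spec (CommRingCat.of k)) = 𝟙 _)
    (J₁ : Over (Spec (CommRingCat.of k))) [GrpObj J₁] [IsCommMonObj J₁]
    (ψ₁ : (ModFun.PicDeg (C₁ ↘ Spec (CommRingCat.of k)) 0).Hom ⊤ J₁) (hJ₁ : Jac.IsJacobian (C₁ ↘ Spec (CommRingCat.of k)) ⊤ J₁ ψ₁)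
    (J₂ : Over (Spec (CommRingCat.of k))) [GrpObj J₂] [IsCommMonObj J₂]
    (ψ₂ : (ModFun.PicDeg (C₂ ↘ Spec (CommRingCat.of k)) 0).Hom ⊤ J₂) (hJ₂ : Jac.IsJacobian (C₂ ↘ Spec (CommRingCat.of k)) ⊤ J₂ ψ₂)
    (j₁ : Over.mk (C₁ ↘ Spec (CommRingCat.of k)) ⟶ J₁) (hj₁ : Jac.IsAbelJacobiAt (C₁ ↘ Spec (CommRingCat.of k)) σ₁ ψ₁ j₁)
    (Pu : (PicF.XT (C₂ ↘ Spec (CommRingCat.of k)) J₂).Modules) (hPu : ModFun.IsUnivFamily ⊤ (ModFun.PicDeg (C₂ ↘ Spec (CommRingCat.of k)) 0) J₂ Pu)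
    (hPn : Jac.IsNormAlong (C₂ ↘ Spec (CommRingCat.of k)) σ₂ hσ₂ J₂ Pu)
    (hT₂ : (⊤ : ObjectProperty (Over (Spec (CommRingCat.of k)))) J₂) (hPuψ : ψ₂.app J₂ Pu hT₂ hPu.1 = 𝟙 J₂) :
    (∀ χ : J₁ ⟶ J₂, IsMonHom χ →
      (PicF.IsInvertibleCl (PicF.pullCl (PicF.XTmap (C₂ ↘ Spec (CommRingCat.of k)) (j₁ ≫ χ)) (PicF.cl Pu)) ∧
        PicF.IsTrivialCl (PicF.pullCl (PicF.secT (C₂ ↘ Spec (CommRingCat.of k)) σ₂ hσ₂ (Over.mk (C₁ ↘ Spec (CommRingCat.of k)))) (PicF.pullCl (PicF.XTmap (C₂ ↘ Spec (CommRingCat.of k)) (j₁ ≫ χ)) (PicF.cl Pu))) ∧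
        PicF.IsTrivialCl (PicF.pullCl (PicF.XTmap (C₂ ↘ Spec (CommRingCat.of k)) (Over.homMk σ₁ hσ₁ : 𝟙_ (Over (Spec (CommRingCat.of k))) ⟶ Over.mk (C₁ ↘ Spec (CommRingCat.of k)))) (PicF.pullCl (PicF.XTmap (C₂ ↘ Spec (CommRingCat.of k)) (j₁ ≫ χ)) (PicF.cl Pu))))) ∧
    (∀ χ₁ χ₂ : J₁ ⟶ J₂, IsMonHom χ₁ → IsMonHom χ₂ →
      PicF.pullCl (PicF.XTmap (C₂ ↘ Spec (CommRingCat.of k)) (j₁ ≫ χ₁)) (PicF.cl Pu) = PicF.pullCl (PicF.XTmap (C₂ ↘ Spec (CommRingCat.of k)) (j₁ ≫ χ₂)) (PicF.cl Pu) → χ₁ = χ₂) ∧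
    (∀ c : PicF.Cl (PicF.XT (C₂ ↘ Spec (CommRingCat.of k)) (Over.mk (C₁ ↘ Spec (CommRingCat.of k)))),
      (PicF.IsInvertibleCl (c) ∧
        PicF.IsTrivialCl (PicF.pullCl (PicF.secT (C₂ ↘ Spec (CommRingCat.of k)) σ₂ hσ₂ (Over.mk (C₁ ↘ Spec (CommRingCat.of k)))) (c)) ∧
        PicF.IsTrivialCl (PicF.pullCl (PicF.XTmap (C₂ ↘ Spec (CommRingCat.of k)) (Over.homMk σ₁ hσ₁ : 𝟙_ (Over (Spec (CommRingCat.of k))) ⟶ Over.mk (C₁ ↘ Spec (CommRingCat.of k)))) (c))) →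
      ∃ χ : J₁ ⟶ J₂, IsMonHom χ ∧ PicF.pullCl (PicF.XTmap (C₂ ↘ Spec (CommRingCat.of k)) (j₁ ≫ χ)) (PicF.cl Pu) = c) := by
  let f₁ := C₁ ↘ Spec (CommRingCat.of k)
  let f₂ := C₂ ↘ Spec (CommRingCat.of k)
  obtain ⟨hX₁, hrel₁⟩ := H25Jac.isSmoothProperCurve_of_connected f₁ hdim₁
  obtain ⟨hX₂, hrel₂⟩ := H25Jac.isSmoothProperCurve_of_connected f₂ hdim₂
  haveI := hrel₁; haveI := hrel₂
  obtain ⟨J₀, hg₀, hc, hp, hs, hi, ⟨D⟩⟩ := H25Jac.exists_jData (σ := σ₂) (hσ := hσ₂) hX₂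
  haveI := hc; haveI := hp; haveI := hs; haveI := hi
  obtain ⟨e, he, he', hχ⟩ := D.iso_of_isJacobian hJ₂
  haveI := he; haveI := he'
  haveI : IsProper J₂.hom := H25Jac.isProper_of_iso e
  haveI : GeometricallyIntegral J₂.hom := H25Jac.geometricallyIntegral_of_iso e
  have hbr : ∀ {T : Over (Spec (CommRingCat.of k))} (a : T ⟶ J₂),
      (D.xU (a ≫ e.hom)).1 = PicF.pullCl (PicF.XTmap f₂ a) (PicF.cl Pu) :=
    fun a => congrArg Units.val (H25Jac.xU_comp_iso hχ hPu.1 hPn hPuψ a)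
  have hdz : ∀ {T : Over (Spec (CommRingCat.of k))} (a : T ⟶ J₂),
      H25Jac.IsDZ f₂ σ₂ hσ₂ T (PicF.pullCl (PicF.XTmap f₂ a) (PicF.cl Pu)) :=
    fun a => hbr a ▸ D.mem.pull (a ≫ e.hom)
  let c₁ : 𝟙_ (Over (Spec (CommRingCat.of k))) ⟶ Over.mk f₁ := Over.homMk σ₁ hσ₁
  have hc₁ : c₁ = H25Jac.constPt f₁ hσ₁ (𝟙_ _) := Over.OverMorphism.ext (Category.id_comp σ₁).symm
  obtain ⟨J₁', hg₁', D₁, aj₁, e₁, hc1, hp1, hs1, hi1, haj₁, he₁, -, hje⟩ := H25Jac.exists_fine hσ₁ hX₁ hJ₁ hj₁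
  have hcj : c₁ ≫ j₁ = 1 := by
    have h := H25Jac.constPt_comp_abel haj₁ (𝟙_ (Over (Spec (CommRingCat.of k))))
    rw [← hje, ← Category.assoc, ← hc₁] at h
    rw [← cancel_mono e₁.hom, h, MonObj.one_comp]
  have h1 : ∀ (χ : J₁ ⟶ J₂), IsMonHom χ → c₁ ≫ j₁ ≫ χ = 1 := fun χ hχ' => by
    haveI := hχ'
    rw [← Category.assoc, hcj, MonObj.one_comp]
  refine ⟨fun χ hχ' => ⟨(hdz (j₁ ≫ χ)).1, (hdz (j₁ ≫ χ)).2.1, ?_⟩, fun χ₁ χ₂ hχ₁ hχ₂ h => ?_, fun c hc => ?_⟩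
  · show PicF.pullCl (PicF.XTmap f₂ c₁) _ = _
    rw [← H17.PullCl.pullCl_comp, ← H12Pic.Sep.XTmap_comp, h1 χ hχ', ← hbr, MonObj.one_comp, D.xU_one]
    rfl
  · haveI := hχ₁; haveI := hχ₂
    have h' : j₁ ≫ χ₁ = j₁ ≫ χ₂ := by
      rw [← cancel_mono e.hom]
      exact D.xU_injective (Units.ext ((hbr _).trans (h.trans (hbr _).symm)))
    have hσ0 : σ₁ ≫ (j₁ ≫ χ₂).left = η[J₂].left := by
      have := congrArg CommaMorphism.left (h1 χ₂ hχ₂)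
      rw [Hom.one_def, toUnit_unique (toUnit _) (𝟙 _), Category.id_comp] at this
      exact this
    exact (H25Jac.existsUnique_albanese_coarse hσ₁ hdim₁ hg₁ hJ₁ hj₁ J₂ (j₁ ≫ χ₂) hσ0).unique ⟨hχ₁, h'⟩ ⟨hχ₂, rfl⟩
  · obtain ⟨⟨L, rfl, hL⟩, ht, ht₁⟩ := hc
    haveI : IsIntegral (Over.mk f₁).left := hX₁.2.2.1
    haveI : Nonempty ↥(𝟙_ (Over (Spec (CommRingCat.of k)))).left := inferInstanceAs (Nonempty (PrimeSpectrum k))
    have hd : H25Jac.IsDZ f₂ σ₂ hσ₂ (Over.mk f₁) (PicF.cl L) :=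
      ⟨⟨L, rfl, hL⟩, ht, (H25Jac.hasFibreDegreeZeroCl_cl_iff f₂ _).2
        fun t => H25Jac.degAt_eq_zero_of_trivial_at c₁ hL ht₁ t⟩
    obtain ⟨b, hb, -⟩ := D.univ _ _ hd
    let a : Over.mk f₁ ⟶ J₂ := b ≫ e.inv
    have ha : PicF.pullCl (PicF.XTmap f₂ a) (PicF.cl Pu) = PicF.cl L := by
      rw [← hbr, show a ≫ e.hom = b by rw [Category.assoc, e.inv_hom_id, Category.comp_id]]
      exact hb
    have hσ0 : σ₁ ≫ a.left = η[J₂].left := by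
      have h3 : c₁ ≫ a ≫ e.hom = 1 := D.xU_injective (Units.ext (by
        rw [← Category.assoc, hbr, H12Pic.Sep.XTmap_comp, H17.PullCl.pullCl_comp, ha, D.xU_one]
        exact ht₁))
      have h4 : c₁ ≫ a = 1 := by rw [← cancel_mono e.hom, Category.assoc, h3, MonObj.one_comp]
      have := congrArg CommaMorphism.left h4
      rw [Hom.one_def, toUnit_unique (toUnit _) (𝟙 _), Category.id_comp] at this
      exact this
    obtain ⟨χ, ⟨hχ', hjχ⟩, -⟩ := H25Jac.existsUnique_albanese_coarse hσ₁ hdim₁ hg₁ hJ₁ hj₁ J₂ a hσ0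
    exact ⟨χ, hχ', hjχ ▸ ha⟩

end Groth.Agent.S17816
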