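import Groth.Statements.S17817
import Groth.Agent.H25GenCurve.Section
import Groth.Agent.H25Jac.CoarseAlbanese
import Groth.Agent.H25AbCube.AbImage
import Groth.Agent.H25AbCube.PoincareRegular
import Groth.Agent.H11Proj.ProperQProj
import Groth.Agent.H11Proj.HProj
import Groth.Agent.S11999


set_option autoImplicit false
set_option linter.style.haveILetI false
set_option backward.isDefEq.respectTransparency false
set_option synthInstance.maxHeartbeats 200000
universe u
open CategoryTheory CategoryTheory.Limits AlgebraicGeometry MonoidalCategory CartesianMonoidalCategory MonObj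
open JacVar

namespace Groth.Agent.S17817

/-- Let k be an infinite field and A an abelian variety over k (a commutative group scheme, proper,
smooth and geometrically irreducible over k) of positive dimension. Then there is a closed subscheme
C of A which is a smooth proper geometrically connected curve over k such that, for every k-rational
point P of C, every Jacobian (J, ψ) of C (commutative group scheme over k, coarse moduli scheme on
all k-schemes for degree-0 line bundles modulo twisting from the base, group law induced by tensor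
product), every Abel map j : C ⟶ J with base point P and every homomorphism χ : J ⟶ A with χ ∘ j
equal to the inclusion of C followed by translation by the inverse of P, the morphism χ is
surjective: A is a quotient of the Jacobian of C. (The universal property is expressed through a
rational point of C; for C without rational points only the existence of the curve is asserted
here.) -/
theorem result (k : Type u) [Field k] [Infinite k]
    (A : Over (Spec (CommRingCat.of k))) [GrpObj A] [IsCommMonObj A]
    [IsProper A.hom] [Smooth A.hom] [GeometricallyIrreducible A.hom]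
    (hA : 1 ≤ topologicalKrullDim ↥A.left) :
    ∃ (C : Scheme.{u}) (i : C ⟶ A.left), IsClosedImmersion i ∧ IsProper (i ≫ A.hom) ∧ Smooth (i ≫ A.hom) ∧
      GeometricallyConnected (i ≫ A.hom) ∧ topologicalKrullDim ↥C = 1 ∧
      ∀ (σ : Spec (CommRingCat.of k) ⟶ C) (hσ : σ ≫ (i ≫ A.hom) = 𝟙 _)
        (J : Over (Spec (CommRingCat.of k))) [GrpObj J] [IsCommMonObj J] (ψ : (ModFun.PicDeg (i ≫ A.hom) 0).Hom ⊤ J),
        Jac.IsJacobian (i ≫ A.hom) ⊤ J ψ →
        ∀ (j : Over.mk (i ≫ A.hom) ⟶ J), Jac.IsAbelJacobiAt (i ≫ A.hom) σ ψ j →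
        ∀ (χ : J ⟶ A), IsMonHom χ →
          j ≫ χ = (Over.homMk i rfl : Over.mk (i ≫ A.hom) ⟶ A) *
            (toUnit (Over.mk (i ≫ A.hom)) ≫ (Over.homMk (σ ≫ i) ((Category.assoc σ i A.hom).trans hσ) : 𝟙_ (Over (Spec (CommRingCat.of k))) ⟶ A))⁻¹ →
          Function.Surjective χ.left.base := by
  classical
  haveI : GeometricallyConnected A.hom := H25AbCube.geometricallyConnected_of_irreducible A.hom
  haveI : GeometricallyIntegral A.hom := H25AbCube.geometricallyIntegral_of_smooth A
  haveI : IsIntegral A.left := GeometricallyIntegral.isIntegral_of_subsingleton A.hom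
  obtain ⟨L, hL⟩ := H25AbCube.exists_isAmple A
  haveI : CompactSpace A.left := QuasiCompact.compactSpace_of_compactSpace A.hom
  haveI : QuasiSeparatedSpace A.left := quasiSeparatedSpace_of_quasiSeparated A.hom
  obtain ⟨n, ι₀, hι₀, hι₀k⟩ := H11Proj.exists_isClosedImmersion_projSpace_spec A.hom
    (H11Proj.isProjective_of_isHProjective (H11Proj.isHProjective_of_isAmple A.hom hL))
  haveI := hι₀
  haveI : Smooth (ι₀ ≫ CohB1.ProjSpace.toSpec n k) := by rw [hι₀k]; infer_instance
  haveI : GeometricallyConnected (ι₀ ≫ CohB1.ProjSpace.toSpec n k) := by rw [hι₀k]; infer_instance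
  obtain ⟨d, hd⟩ := H25Grp.exists_nat_dim A.hom
  have hd1 : 1 ≤ d := by rw [hd] at hA; exact_mod_cast hA
  obtain ⟨C, i, hC⟩ := H25GenCurve.exists_curve ι₀ hd hd1
  haveI := hC.closed
  haveI hsm : Smooth (i ≫ A.hom) := by rw [← hι₀k]; exact hC.smooth
  haveI hcn : GeometricallyConnected (i ≫ A.hom) := by rw [← hι₀k]; exact hC.conn
  refine ⟨C, i, hC.closed, inferInstance, hsm, hcn, hC.dim.trans Nat.cast_one, ?_⟩
  intro σ hσ J _ _ ψ hJ j hj χ hχ hjχ
  haveI := hχ
  obtain ⟨hX, hrel⟩ := H25Jac.isSmoothProperCurve_of_connected (i ≫ A.hom) (hC.dim.trans Nat.cast_one)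
  haveI := hrel
  obtain ⟨J₀, gJ, -, aj, e, -, hp, -, hi, -, h1, h2, hje⟩ := H25Jac.exists_fine hσ hX hJ hj
  haveI := hp; haveI := hi; haveI := h1; haveI := h2
  let χ' : J₀ ⟶ A := e.inv ≫ χ
  obtain ⟨M, gM, iM, g, hiM, hiMc, hMp, hMi, hfac, hg, hgs⟩ := H25AbCube.exists_abelian_image χ'
  haveI := hiM; haveI := hiMc; haveI := hMp; haveI := hMi; haveI := hg; haveI := hgs
  suffices hs : Function.Surjective iM.left.base by
    intro x
    obtain ⟨y, rfl⟩ := hs x
    obtain ⟨z, rfl⟩ := g.left.surjective y
    refine ⟨e.inv.left z, ?_⟩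
    have := congrArg (fun w : J₀ ⟶ A => w.left z) hfac
    simp only [Over.comp_left, Scheme.Hom.comp_apply, χ'] at this
    exact this.symm
  by_contra hns
  obtain ⟨D, gD, jD, hDp, hDi, hjD, hjDc, hms, hmf⟩ := S11999.result k A M iM
  haveI := hDp; haveI := hDi; haveI := hjD; haveI := hjDc; haveI := hms; haveI := hmf
  haveI : IsCommMonObj M := H25AbCube.isCommMonObj_of_av
  haveI : IsCommMonObj D := H25AbCube.isCommMonObj_of_av
  let m : M ⊗ D ⟶ A := (fst M D ≫ iM) * (snd M D ≫ jD)
  haveI : IsMonHom m := by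
    haveI : IsMonHom (fst M D ≫ iM) := inferInstance
    haveI : IsMonHom (snd M D ≫ jD) := inferInstance
    rw [show m = lift (fst M D ≫ iM) (snd M D ≫ jD) ≫ μ[A] from rfl]
    infer_instance
  haveI : IsProper (M ⊗ D).hom := inferInstanceAs (IsProper (pullback.fst M.hom D.hom ≫ M.hom))
  haveI : GeometricallyIntegral (M ⊗ D).hom := H25Rig.geometricallyIntegral_tensor M D
  haveI : IsCommMonObj (M ⊗ D) := H25AbCube.isCommMonObj_of_av
  haveI : IsFinite m.left := hmf
  haveI : Surjective m.left := hms
  obtain ⟨N, hN, τ, hτ, hmτ, -⟩ := H25AbCube.exists_isogeny_inverse m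
  haveI := hτ
  let q : A ⟶ D := τ ≫ snd M D
  have hiq : iM ≫ q = 1 := by
    have e1 : iM = lift (𝟙 M) (1 : M ⟶ D) ≫ m := by
      simp only [m, MonObj.comp_mul, ← Category.assoc, lift_fst, lift_snd, Category.id_comp, MonObj.one_comp, _root_.mul_one]
    rw [e1, Category.assoc, show m ≫ τ ≫ snd M D = ((𝟙 (M ⊗ D)) ^ N : M ⊗ D ⟶ M ⊗ D) ≫ snd M D by rw [← hmτ, Category.assoc],
      MonObj.pow_comp, Category.id_comp, MonObj.comp_pow, lift_snd, one_pow]
  have hjq : jD ≫ q = (𝟙 D) ^ N := by
    have e1 : jD = lift (1 : D ⟶ M) (𝟙 D) ≫ m := by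
      simp only [m, MonObj.comp_mul, ← Category.assoc, lift_fst, lift_snd, Category.id_comp, MonObj.one_comp, _root_.one_mul]
    rw [e1, Category.assoc, show m ≫ τ ≫ snd M D = ((𝟙 (M ⊗ D)) ^ N : M ⊗ D ⟶ M ⊗ D) ≫ snd M D by rw [← hmτ, Category.assoc],
      MonObj.pow_comp, Category.id_comp, MonObj.comp_pow, lift_snd]
  haveI : IsIntegral D.left := GeometricallyIntegral.isIntegral_of_subsingleton D.hom
  -- the complement is not a point
  have hD : ¬ Subsingleton ↥D.left := by
    intro hsub
    haveI : IsClosedImmersion (η[D]).left := by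
      haveI : IsClosedImmersion ((η[D]).left ≫ D.hom) := by
        rw [Over.w η[D]]; exact inferInstanceAs (IsClosedImmersion (𝟙 _))
      exact IsClosedImmersion.of_comp _ D.hom
    haveI : Surjective (η[D]).left := ⟨fun y => ⟨IsLocalRing.closedPoint k, Subsingleton.elim _ _⟩⟩
    haveI : IsIso (η[D]).left := isIso_of_isClosedImmersion_of_surjective _
    haveI : IsIso ((Over.forget _).map η[D]) := by assumption
    haveI : IsIso η[D] := isIso_of_reflects_iso _ (Over.forget _)
    have h1 : (𝟙 D : D ⟶ D) = 1 := by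
      rw [← IsIso.inv_hom_id η[D], toUnit_unique (inv η[D]) (toUnit D)]; rfl
    have hm : m = fst M D ≫ iM := by
      show _ * _ = _
      rw [← Category.id_comp jD, h1, MonObj.one_comp, MonObj.comp_one, _root_.mul_one]
    refine hns fun x => ?_
    obtain ⟨y, hy⟩ := m.left.surjective x
    rw [hm] at hy
    exact ⟨_, hy⟩
  haveI : Surjective (jD ≫ q).left := by rw [hjq]; exact H25AbCube.surjective_pow hN
  have hqs : Function.Surjective q.left := fun y => by
    obtain ⟨x, hx⟩ := (jD ≫ q).left.surjective y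
    exact ⟨jD.left x, hx⟩
  -- the curve is contracted by `q`
  let Cv : Over (Spec (CommRingCat.of k)) := Over.mk (i ≫ A.hom)
  let iC : Cv ⟶ A := Over.homMk i rfl
  let a : 𝟙_ (Over (Spec (CommRingCat.of k))) ⟶ A := Over.homMk (σ ≫ i) ((Category.assoc σ i A.hom).trans hσ)
  haveI : IsMonHom q := inferInstance
  have hcon : iC ≫ q = toUnit Cv ≫ a ≫ q := by
    have h0 : (j ≫ χ) ≫ q = 1 := by
      rw [show χ = e.hom ≫ g ≫ iM by rw [hfac]; simp [χ'], Category.assoc, Category.assoc, Category.assoc, hiq,
        MonObj.comp_one, MonObj.comp_one, MonObj.comp_one]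
    have h0' : (iC * (toUnit Cv ≫ a)⁻¹) ≫ q = 1 := hjχ ▸ h0
    rw [MonObj.mul_comp, GrpObj.inv_comp] at h0'
    rw [eq_of_mul_inv_eq_one h0', Category.assoc]
  let c₀ : D.left := (a ≫ q).left (IsLocalRing.closedPoint k)
  have hit : ∀ t : C, q.left (i t) = c₀ := fun t => by
    have := congrArg (fun w : Cv ⟶ D => w.left t) hcon
    simp only [Over.comp_left, Scheme.Hom.comp_apply] at this
    refine this.trans ?_
    show q.left (a.left _) = q.left (a.left _)
    exact congrArg _ (congrArg _ (Subsingleton.elim (α := PrimeSpectrum k) _ _))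
  -- a divisor avoiding the curve
  obtain ⟨L', hL'⟩ := H25AbCube.exists_isAmple D
  haveI : CompactSpace D.left := QuasiCompact.compactSpace_of_compactSpace D.hom
  haveI : QuasiSeparatedSpace D.left := quasiSeparatedSpace_of_quasiSeparated D.hom
  obtain ⟨n', r, hr, -⟩ := H11Proj.exists_isClosedImmersion_projSpace_spec D.hom
    (H11Proj.isProjective_of_isHProjective (H11Proj.isHProjective_of_isAmple D.hom hL'))
  haveI := hr
  obtain ⟨l, hl⟩ := H11Proj.SepPts.exists_chart (r c₀)
  let c : Fin (n' + 1) → k := Pi.single l 1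
  have hform : H25GenCurve.form c = MvPolynomial.X l := by
    simp [H25GenCurve.form, c, Pi.single_apply, apply_ite (MvPolynomial.C : k → MvPolynomial (Fin (n' + 1)) k),
      ite_mul]
  have hc₀ : c₀ ∈ r ⁻¹ᵁ H25GenCurve.formOpen c := by
    show r c₀ ∈ Proj.basicOpen (CohB1.polyGrading n' k) (H25GenCurve.form c)
    rw [hform]
    exact hl
  obtain ⟨y, hy⟩ : ∃ y : D.left, y ∉ r ⁻¹ᵁ H25GenCurve.formOpen c := by
    by_contra hall
    push Not at hall
    refine hD ⟨fun x₁ x₂ => ?_⟩
    have h0 := H25GenCurve.cdim_le_zero_of_closure_subset D.hom ((H25GenCurve.isAffineOpen_formOpen c).preimage r)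
      (z := genericPoint D.left) fun x _ => hall x
    have : ∀ x : D.left, x = genericPoint D.left := fun x => by
      by_contra hne
      exact absurd ((H8Props.FieldDim.cdim_lt D.hom (genericPoint_specializes x) (Ne.symm hne)).trans_le h0)
        (not_lt.2 (H22Alg.FibreCount.cdim_nonneg x))
    rw [this x₁, this x₂]
  obtain ⟨x, hx⟩ := hqs y
  let G : A.left.Opens := (q.left ≫ r) ⁻¹ᵁ H25GenCurve.formOpen c
  have hxG : x ∉ G := fun h => hy (hx ▸ h)
  obtain ⟨z, -, hzG, hz⟩ := H25GenCurve.exists_cut A.hom (H25GenCurve.locPrincipal_preimage (q.left ≫ r) c)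
    (z := genericPoint A.left) fun h => hxG (h (by rw [(genericPoint_spec A.left).def]; trivial))
  have hdη : H8Props.FieldDim.cdim (genericPoint A.left) = (d : WithBot ℕ∞) := by
    show topologicalKrullDim (closure ({genericPoint A.left} : Set A.left)) = _
    rw [(genericPoint_spec A.left).def]
    exact ((Homeomorph.Set.univ A.left).isHomeomorph.topologicalKrullDim_eq).trans hd
  rw [hdη] at hz
  obtain ⟨t, hzt, -⟩ := hC.meets z hz
  refine hzG (hzt.mem_open G.2 ?_)
  show r (q.left (i t)) ∈ H25GenCurve.formOpen c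
  rw [hit]
  exact hc₀

end Groth.Agent.S17817
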