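import Groth.Statements.S17818
import Groth.Agent.H25Jac.Corresp

set_option autoImplicit false
set_option linter.style.haveILetI false
set_option backward.isDefEq.respectTransparency false
set_option synthInstance.maxHeartbeats 200000
universe u
open CategoryTheory CategoryTheory.Limits AlgebraicGeometry MonoidalCategory CartesianMonoidalCategory MonObj
open JacVar

namespace Groth.Agent.S17818

/-- Let C be a smooth proper geometrically connected curve of genus g > 0 over a field k with a
k-rational point P, (J, ψ) its Jacobian (a commutative group scheme over k, coarse moduli scheme on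
all k-schemes for degree-0 line bundles modulo twisting from the base, group law induced by tensor
product), M the universal family on C × J normalised along P × J whose classifying morphism under ψ
is the identity (the sheaf M^P), j : C ⟶ J the Abel map with base point P, and L^P the module on C ×
C with L^P ⊗ I_Δ ≅ pr₁^* I_P ⊗ pr₂^* I_P, i.e. O(Δ − C × P − P × C). If N is an invertible module on
C × J, trivial along P × J and along C × 0 (a divisorial correspondence between (C, P) and J), whose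
pullback along 1 × j is isomorphic to L^P, then N is isomorphic to M. -/
theorem result (k : Type u) [Field k]
    (C : Scheme.{u}) [C.Over (Spec (CommRingCat.of k))]
    [IsProper (C ↘ Spec (CommRingCat.of k))] [Smooth (C ↘ Spec (CommRingCat.of k))] [GeometricallyConnected (C ↘ Spec (CommRingCat.of k))]
    (hdim : topologicalKrullDim ↥C = 1)
    (hg : 0 < Curv2.genus k C)
    (σ : Spec (CommRingCat.of k) ⟶ C) (hσ : σ ≫ (C ↘ Spec (CommRingCat.of k)) = 𝟙 _)
    (J : Over (Spec (CommRingCat.of k))) [GrpObj J] [IsCommMonObj J]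
    (ψ : (ModFun.PicDeg (C ↘ Spec (CommRingCat.of k)) 0).Hom ⊤ J) (hJ : Jac.IsJacobian (C ↘ Spec (CommRingCat.of k)) ⊤ J ψ)
    (Pu : (PicF.XT (C ↘ Spec (CommRingCat.of k)) J).Modules) (hPu : ModFun.IsUnivFamily ⊤ (ModFun.PicDeg (C ↘ Spec (CommRingCat.of k)) 0) J Pu)
    (hPn : Jac.IsNormAlong (C ↘ Spec (CommRingCat.of k)) σ hσ J Pu)
    (hT : (⊤ : ObjectProperty (Over (Spec (CommRingCat.of k)))) J) (hPuψ : ψ.app J Pu hT hPu.1 = 𝟙 J)
    (j : Over.mk (C ↘ Spec (CommRingCat.of k)) ⟶ J) (hj : Jac.IsAbelJacobiAt (C ↘ Spec (CommRingCat.of k)) σ ψ j)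
    (LP : (PicF.XT (C ↘ Spec (CommRingCat.of k)) (Over.mk (C ↘ Spec (CommRingCat.of k)))).Modules) (hLPi : PicF.IsInvertible LP)
    (hLP : Nonempty (CohB1.tensorMod LP (ClSub.idealMod (pullback.diagonal (C ↘ Spec (CommRingCat.of k))).ker) ≅
      CohB1.tensorMod ((Scheme.Modules.pullback (pullback.fst (C ↘ Spec (CommRingCat.of k)) (C ↘ Spec (CommRingCat.of k)))).obj (ClSub.idealMod σ.ker))
        ((Scheme.Modules.pullback (pullback.snd (C ↘ Spec (CommRingCat.of k)) (C ↘ Spec (CommRingCat.of k)))).obj (ClSub.idealMod σ.ker))))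
    (N : (PicF.XT (C ↘ Spec (CommRingCat.of k)) J).Modules) (hN : PicF.IsInvertible N)
    (hNP : Jac.IsNormAlong (C ↘ Spec (CommRingCat.of k)) σ hσ J N)
    (hN0 : PicF.IsTrivialCl (PicF.pullCl (PicF.XTmap (C ↘ Spec (CommRingCat.of k)) (η[J])) (PicF.cl N)))
    (hNj : Nonempty ((Scheme.Modules.pullback (PicF.XTmap (C ↘ Spec (CommRingCat.of k)) j)).obj N ≅ LP)) :
    Nonempty (N ≅ Pu) := by
  let f := C ↘ Spec (CommRingCat.of k)
  obtain ⟨hX, hrel⟩ := H25Jac.isSmoothProperCurve_of_connected f hdim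
  haveI := hrel
  obtain ⟨J₀, hg₀, hc, hp, hs, hi, ⟨D⟩⟩ := H25Jac.exists_jData (σ := σ) (hσ := hσ) hX
  haveI := hc; haveI := hp; haveI := hs; haveI := hi
  obtain ⟨e, he, he', hχ⟩ := D.iso_of_isJacobian hJ
  haveI := he; haveI := he'
  obtain ⟨aj, haj⟩ := D.exists_abel
  haveI : IsIntegral J₀.left := GeometricallyIntegral.isIntegral_of_subsingleton J₀.hom
  haveI : PreconnectedSpace ↥J.left :=
    let h := ((Over.forget _).mapIso e).symm.hom.homeomorph
    ⟨by rw [← h.surjective.range_eq, ← Set.image_univ]; exact (PreconnectedSpace.isPreconnected_univ (α := ↥J₀.left)).image h h.continuous.continuousOn⟩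
  haveI : Nonempty ↥(𝟙_ (Over (Spec (CommRingCat.of k)))).left := inferInstanceAs (Nonempty (PrimeSpectrum k))
  have hokN : (ModFun.PicDeg f 0).ok J N :=
    (H25Jac.ok_iff J N).2 ⟨hN, fun t => H25Jac.degAt_eq_zero_of_trivial_at η[J] hN hN0 t⟩
  let a : J ⟶ J₀ := D.psi.app J N trivial hokN
  have ha : D.xU a = H25Theta.unitCls hN := (D.xU_psi J N trivial hokN).trans
    (H29Ell.norm_eq_self f σ hσ J (H25Theta.unitCls hN) (Units.ext hNP))
  have hja : j ≫ a = aj := by
    refine D.xU_injective ?_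
    have h2 := haj (Over.mk f) (𝟙 _)
    rw [Category.id_comp] at h2
    rw [h2, ← H25Jac.norm_symmetric_diagonal hσ hLPi hLP, ← D.xU_comp, ha,
      ← H29Ell.norm_eq_self f σ hσ J (H25Theta.unitCls hN) (Units.ext hNP), H29Ell.norm_natural]
    exact congrArg _ (Units.ext (Quot.sound hNj))
  obtain ⟨hTj, L, hL, hAJ, hψL⟩ := hj
  have hje : j ≫ e.hom = aj := by rw [← hψL, hχ]; exact D.psi_ajFamily haj hAJ hL
  have hη : η[J₀] ≫ e.inv ≫ a = η[J₀] := by
    have h1 : D.xU (η[J] ≫ a) = 1 := by
      rw [← D.xU_comp, ha]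
      exact Units.ext hN0
    rw [← Category.assoc, IsMonHom.one_hom e.inv, D.xU_injective (h1.trans D.xU_one.symm), Hom.one_def,
      toUnit_unique (toUnit _) (𝟙 _), Category.id_comp]
  haveI : IsMonHom (e.inv ≫ a) := S11994.result k J₀ J₀ (e.inv ≫ a) hη
  have hP : H25Jac.constPt f hσ (𝟙_ _) ≫ aj = η[J₀] := by
    rw [H25Jac.constPt_comp_abel haj, Hom.one_def, toUnit_unique (toUnit _) (𝟙 _), Category.id_comp]
  have heq : e.inv ≫ a = 𝟙 J₀ := (H25Jac.existsUnique_albanese hX hg haj J₀ aj hP).unique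
    ⟨inferInstance, by rw [← hje, Category.assoc, Iso.hom_inv_id_assoc, hja, hje]⟩
    ⟨inferInstance, Category.comp_id _⟩
  have hae : a = e.hom := by rw [← Category.id_comp a, ← e.hom_inv_id, Category.assoc, heq, Category.comp_id]
  have hPuu := H25Jac.xU_comp_iso hχ hPu.1 hPn hPuψ (𝟙 J)
  rw [Category.id_comp, ← hae, ha, H27HilbOps.XTmap_id, H25Theta.pullU_id] at hPuu
  exact H12Pic.Sep.iso_of_cl_eq (congrArg Units.val hPuu)

end Groth.Agent.S17818
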