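import Groth.Statements.S1782
import Groth.Agent.H4DR.Dualizing.GorensteinFibre
import Groth.Agent.H4DR.Dualizing.FiniteMap
import Groth.Agent.H4DR.Dualizing.Shift
import Groth.Agent.H02CA.GorRing

set_option autoImplicit false
universe u
open CategoryTheory
attribute [local instance] HasDerivedCategory.standard
open Dual2

namespace Groth.Agent.S1782

open Groth.Agent.H4DR

/-- Let R → A be a ring map of finite type between Noetherian rings, where φ^!(K) is formed from a
presentation ψ : R[x_1, …, x_n] → A as RHom_P(A, K ⊗^L_R P)[n], assuming the derived base change to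
P exists and taking for RHom_P(A, −) a right adjoint of restriction of scalars along ψ. If ω is a
dualizing complex for R then φ^!(ω) is a dualizing complex for A. -/
theorem result (R A : Type u) [CommRing R] [CommRing A] [IsNoetherianRing R] [IsNoetherianRing A] [Algebra R A] (n : ℕ) (ψ : MvPolynomial (Fin n) R →ₐ[R] A) (hψ : Function.Surjective ψ) [DRing.HasLBaseChange (algebraMap R (MvPolynomial (Fin n) R))] (Rψ : Dual.D (MvPolynomial (Fin n) R) ⥤ Dual.D A) (adj : DRing.restrictD ψ.toRingHom ⊣ Rψ) (ω : Dual.D R) (hω : Dual.IsDualizing R ω) : Dual.IsDualizing A (Dual2.shriekVia n Rψ ω) := by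
  classical
  haveI : IsNoetherianRing (MvPolynomial (Fin n) R) := inferInstance
  haveI : Module.Flat R (MvPolynomial (Fin n) R) := inferInstance
  have hG : ∀ p : PrimeSpectrum R, LocCoh.IsGorensteinRing (p.asIdeal.Fiber (MvPolynomial (Fin n) R)) :=
    fun p => by
      haveI : LocCoh.IsGorensteinRing p.asIdeal.ResidueField := H02CA.GorFlat.isGorensteinRing_of_isRegularRing p.asIdeal.ResidueField
      exact H02CA.GorFlat.isGorensteinRing_of_ringEquiv
        (MvPolynomial.algebraTensorAlgEquiv R p.asIdeal.ResidueField).symm.toRingEquiv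
        (H02CA.GorFlat.isGorensteinRing_mvPolynomial p.asIdeal.ResidueField n)
  have hP : Dual.IsDualizing (MvPolynomial (Fin n) R) ((DRing.LBaseChange (algebraMap R (MvPolynomial (Fin n) R))).obj ω) :=
    Dualizing.isDualizing_of_iso (FlatBC.lbaseIso ω).symm
      (Dualizing.isDualizing_FD_of_fibres hω
        (Dualizing.ringKrullDim_lt_top_of_finiteType (Dualizing.ringKrullDim_lt_top hω)) hG)
  exact Dualizing.isDualizing_shift (Dualizing.isDualizing_rightAdjoint adj (RingHom.Finite.of_surjective _ hψ) hP) _

end Groth.Agent.S1782
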