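import Groth.Statements.S17820
import Groth.Agent.H25Torelli.StatementTools

set_option linter.style.haveILetI false
set_option maxHeartbeats 3200000
set_option backward.isDefEq.respectTransparency.types false

set_option autoImplicit false
universe u
open CategoryTheory CategoryTheory.Limits AlgebraicGeometry MonoidalCategory CartesianMonoidalCategory MonObj
open JacVar

namespace Groth.Agent.S17820

/-- Let k be an algebraically closed field, C a smooth proper connected curve of genus g ≥ 1 over k with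
a k-point P, (J, ψ) its Jacobian (a commutative group scheme over k, coarse moduli scheme on all
k-schemes for degree-0 line bundles modulo twisting from the base, group law induced by tensor
product) and j : C ⟶ J the Abel map with base point P. Let Θ = W^{g−1} ⊂ J be the image of the (g −
1)-fold product C ×_k ⋯ ×_k C under (x_1, …, x_{g−1}) ↦ j(x_1) ⋯ j(x_{g−1}), Θ⁻ its image under
inversion, and for an effective divisor D = P_1 + ⋯ + P_g of degree g on C (k-points P_i) let a =
j(P_1) ⋯ j(P_g) be its image in J and Θ⁻_a the translate of Θ⁻ by a. If L(Θ⁻_a) is an invertible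
module on J inverse to the ideal of the reduced closed subscheme Θ⁻_a, then its pullback along j is
isomorphic to O_C(D), the invertible module with O_C(D) ⊗ I_{P_1} ⊗ ⋯ ⊗ I_{P_g} ≅ O_C. -/
theorem result (k : Type u) [Field k] [IsAlgClosed k]
    (C : Scheme.{u}) [C.Over (Spec (CommRingCat.of k))]
    [IsProper (C ↘ Spec (CommRingCat.of k))] [Smooth (C ↘ Spec (CommRingCat.of k))] [GeometricallyConnected (C ↘ Spec (CommRingCat.of k))]
    (hdim : topologicalKrullDim ↥C = 1)
    (g : ℕ) (hg : Curv2.genus k C = g) (hg1 : 1 ≤ g)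
    (σ : Spec (CommRingCat.of k) ⟶ C) (hσ : σ ≫ (C ↘ Spec (CommRingCat.of k)) = 𝟙 _)
    (J : Over (Spec (CommRingCat.of k))) [GrpObj J] [IsCommMonObj J]
    (ψ : (ModFun.PicDeg (C ↘ Spec (CommRingCat.of k)) 0).Hom ⊤ J) (hJ : Jac.IsJacobian (C ↘ Spec (CommRingCat.of k)) ⊤ J ψ)
    (j : Over.mk (C ↘ Spec (CommRingCat.of k)) ⟶ J) (hj : Jac.IsAbelJacobiAt (C ↘ Spec (CommRingCat.of k)) σ ψ j)
    (D : Fin g → (Spec (CommRingCat.of k) ⟶ C)) (hD : ∀ i, D i ≫ (C ↘ Spec (CommRingCat.of k)) = 𝟙 _)
    (MD : C.Modules) (hMD : PicF.IsInvertible MD)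
    (hMDD : Nonempty (CohB1.tensorMod MD (FGA.tensorList (List.ofFn fun i : Fin g => ClSub.idealMod (D i).ker)) ≅
      Coh.structureModule C))
    (La : J.left.Modules) (hLa : PicF.IsInvertible La)
    (hLaΘ : ClSub.IsInverseOf La (ClSub.idealMod (Scheme.IdealSheafData.vanishingIdeal
      ⟨closure ((Jac.transl J ((List.ofFn fun i : Fin g => (Over.homMk (D i) (hD i) : (𝟙_ (Over (Spec (CommRingCat.of k)))) ⟶ Over.mk (C ↘ Spec (CommRingCat.of k))) ≫ j).prod)).left.base '' (((𝟙 J)⁻¹).left.base '' Set.range ((List.ofFn fun i : Fin (g - 1) =>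
        (Over.homMk (WidePullback.π (fun (_ : Fin (g - 1)) => (C ↘ Spec (CommRingCat.of k))) i)
          (WidePullback.π_arrow (fun (_ : Fin (g - 1)) => (C ↘ Spec (CommRingCat.of k))) i) : Over.mk (WidePullback.base fun (_ : Fin (g - 1)) => (C ↘ Spec (CommRingCat.of k))) ⟶ Over.mk (C ↘ Spec (CommRingCat.of k))) ≫ j).prod).left.base)), isClosed_closure⟩))) :
    Nonempty ((Scheme.Modules.pullback j.left).obj La ≅ MD) := by
  classical
  obtain ⟨Dd⟩ := H25Torelli.exists_dict (σ := ⟨σ, hσ⟩) hdim ψ hJ j hj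
  haveI := Dd.proper
  let Dp : Fin g → H25Torelli.Pts k C := fun i => ⟨D i, hD i⟩
  have hcl := H25Torelli.pc_of_tensorList hdim Dp MD hMD hMDD
  have hΦ := Dd.Φ_prod g Dp
  set a := (List.ofFn fun i => (Dp i).hom ≫ j).prod with ha
  obtain ⟨hΘ, he⟩ := Dd.pc_thetaMinus g a (H29CurveDual.isInvertible_of_isInverseOf hLa hLaΘ)
  have h := Dd.ev_reflect hJ hj g hg hg1 hΘ a
  refine (H25AbCube.pc_eq_iff (H11Ample.isInvertible_pullback j.left hLa) hMD).1 ?_
  rw [H25AbCube.pullP_pc j.left La hLa (H11Ample.isInvertible_pullback j.left hLa),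
    H25Torelli.pc_inverse hLa (H29CurveDual.isInvertible_of_isInverseOf hLa hLaΘ) hLaΘ, hcl]
  refine Eq.trans ?_ (h.trans (by rw [hΦ, sub_add_cancel]))
  show H25AbCube.pullP j.left (-_) = H25AbCube.pullP _ (-_)
  rw [map_neg, map_neg]
  refine congrArg Neg.neg ((congrArg (H25AbCube.pullP j.left) he).trans ?_)
  exact H25AbCube.ev_comp _ _ _

end Groth.Agent.S17820
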