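import Groth.Statements.S17821
import Groth.Agent.H25Torelli.StatementTools

set_option linter.style.haveILetI false
set_option maxHeartbeats 3200000
set_option backward.isDefEq.respectTransparency.types false

set_option autoImplicit false
universe u
open CategoryTheory CategoryTheory.Limits AlgebraicGeometry MonoidalCategory CartesianMonoidalCategory MonObj
open JacVar

namespace Groth.Agent.S17821

/-- Let k be an algebraically closed field, C a smooth proper connected curve of genus g ≥ 1 over k with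
a k-point P, (J, ψ) its Jacobian (a commutative group scheme over k, coarse moduli scheme on all
k-schemes for degree-0 line bundles modulo twisting from the base, group law induced by tensor
product) and j : C ⟶ J the Abel map with base point P; let Θ = W^{g−1} ⊂ J be the image of the (g −
1)-fold product of C under (x_i) ↦ Π j(x_i) and Θ⁻ its image under inversion. Let P_1, …, P_g be
distinct k-points of C such that the divisor D = P_1 + ⋯ + P_g satisfies h⁰(O_C(D)) = 1 (O_C(D)
being the invertible module with O_C(D) ⊗ I_{P_1} ⊗ ⋯ ⊗ I_{P_g} ≅ O_C), and let a = j(P_1) ⋯ j(P_g).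
Then j⁻¹(Θ⁻_a) = D as Cartier divisors on C: the pullback along j of the ideal of the reduced closed
subscheme Θ⁻_a of J is the intersection of the ideals of the points P_i. (The published statement is
phrased for a in the largest open subset of J over which the fibres of C^(g) → J are finite and the
divisor mapping to a is a sum of g distinct points; this row states it pointwise, for a divisor D of
g distinct points with h⁰(O_C(D)) = 1.) -/
theorem result (k : Type u) [Field k] [IsAlgClosed k]
    (C : Scheme.{u}) [C.Over (Spec (CommRingCat.of k))]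
    [IsProper (C ↘ Spec (CommRingCat.of k))] [Smooth (C ↘ Spec (CommRingCat.of k))] [GeometricallyConnected (C ↘ Spec (CommRingCat.of k))]
    (hdim : topologicalKrullDim ↥C = 1)
    (g : ℕ) (hg : Curv2.genus k C = g) (hg1 : 1 ≤ g)
    (σ : Spec (CommRingCat.of k) ⟶ C) (hσ : σ ≫ (C ↘ Spec (CommRingCat.of k)) = 𝟙 _)
    (J : Over (Spec (CommRingCat.of k))) [GrpObj J] [IsCommMonObj J]
    (ψ : (ModFun.PicDeg (C ↘ Spec (CommRingCat.of k)) 0).Hom ⊤ J) (hJ : Jac.IsJacobian (C ↘ Spec (CommRingCat.of k)) ⊤ J ψ)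
    (j : Over.mk (C ↘ Spec (CommRingCat.of k)) ⟶ J) (hj : Jac.IsAbelJacobiAt (C ↘ Spec (CommRingCat.of k)) σ ψ j)
    (D : Fin g → (Spec (CommRingCat.of k) ⟶ C)) (hD : ∀ i, D i ≫ (C ↘ Spec (CommRingCat.of k)) = 𝟙 _) (hDinj : ∀ i i', D i = D i' → i = i')
    (MD : C.Modules) (hMD : PicF.IsInvertible MD)
    (hMDD : Nonempty (CohB1.tensorMod MD (FGA.tensorList (List.ofFn fun i : Fin g => ClSub.idealMod (D i).ker)) ≅
      Coh.structureModule C))
    (hMD1 : Module.finrank k (Coh.HH C MD 0) = 1) :
    (Scheme.IdealSheafData.vanishingIdeal ⟨closure ((Jac.transl J ((List.ofFn fun i : Fin g => (Over.homMk (D i) (hD i) : (𝟙_ (Over (Spec (CommRingCat.of k)))) ⟶ Over.mk (C ↘ Spec (CommRingCat.of k))) ≫ j).prod)).left.base '' (((𝟙 J)⁻¹).left.base '' Set.range ((List.ofFn fun i : Fin (g - 1) =>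
        (Over.homMk (WidePullback.π (fun (_ : Fin (g - 1)) => (C ↘ Spec (CommRingCat.of k))) i)
          (WidePullback.π_arrow (fun (_ : Fin (g - 1)) => (C ↘ Spec (CommRingCat.of k))) i) : Over.mk (WidePullback.base fun (_ : Fin (g - 1)) => (C ↘ Spec (CommRingCat.of k))) ⟶ Over.mk (C ↘ Spec (CommRingCat.of k))) ≫ j).prod).left.base)), isClosed_closure⟩).comap j.left =
      ⨅ i : Fin g, (D i).ker := by
  classical
  obtain ⟨Dd⟩ := H25Torelli.exists_dict (σ := ⟨σ, hσ⟩) hdim ψ hJ j hj
  haveI := Dd.proper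
  let Dp : Fin g → H25Torelli.Pts k C := fun i => ⟨D i, hD i⟩
  have hcl := H25Torelli.pc_of_tensorList hdim Dp MD hMD hMDD
  have hΦ := Dd.Φ_prod g Dp
  set a := (List.ofFn fun i => (Dp i).hom ≫ j).prod with ha
  have hE : Dd.Φ a + g • H25Torelli.ptCls hdim ⟨σ, hσ⟩ = (H25Torelli.sys (k := k) hdim).cl (List.ofFn Dp : Multiset _) := by
    rw [hΦ, sub_add_cancel]
  have h1 : H25Torelli.hCls k (Dd.Φ a + g • H25Torelli.ptCls hdim ⟨σ, hσ⟩) = 1 := by
    rw [hE, ← hcl, H25Torelli.hCls_pc, hMD1]
  obtain ⟨w, hw, -, hI⟩ := Dd.comap_thetaMinus hJ hj g hg hg1 a h1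
  refine hI.trans ?_
  have hm := (H25Torelli.sys (k := k) hdim).uniq _ _ (hw.trans hE) (by
    show H25Torelli.hCls k ((H25Torelli.sys (k := k) hdim).cl _) = 1
    rw [hw, h1])
  rw [H25Torelli.prod_ofFn_congr (fun b : H25Torelli.Pts k C => b.1.ker) hm,
    H25Torelli.prod_points_eq_iInf hdim Dp fun i i' h => hDinj i i' (congrArg Subtype.val h)]

end Groth.Agent.S17821
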