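import Groth.Statements.S17822
import Groth.Agent.H25Torelli.Translates

set_option autoImplicit false
set_option maxHeartbeats 1600000
set_option backward.isDefEq.respectTransparency.types false
universe u
open CategoryTheory CategoryTheory.Limits AlgebraicGeometry MonoidalCategory CartesianMonoidalCategory MonObj
open JacVar

namespace Groth.Agent.S17822

/-- Let k be an algebraically closed field, C a smooth proper connected curve of genus g ≥ 2 over k with
a k-point P, (J, ψ) its Jacobian (a commutative group scheme over k, coarse moduli scheme on all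
k-schemes for degree-0 line bundles modulo twisting from the base, group law induced by tensor
product) and j : C ⟶ J the Abel map with base point P. Write W^r ⊂ J for the image of the r-fold
product C ×_k ⋯ ×_k C under (x_1, …, x_r) ↦ j(x_1) ⋯ j(x_r) (the image of the r-th symmetric power;
W^0 is the origin), and W^r_a for its translate by a k-point a of J. Let κ be the k-point of J given
by ψ on Ω_{C/k} ⊗ I_P^{⊗(2g−2)} and Z^* the image of Z ⊂ J under x ↦ κ·x⁻¹. Let 0 ≤ r ≤ g − 2 and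
let a, b, x, y be k-points of J with x in W^1, y in W^{g−1−r} and a·x = b·y. If W^{r+1}_a is not
contained in W^{g−1}_b, then W^{r+1}_a ∩ W^{g−1}_b = W^r_{a·x} ∪ (W^{r+1}_a ∩ (W^{g−2}_{y·a⁻¹})^*)
as subsets of J. -/
theorem result (k : Type u) [Field k] [IsAlgClosed k]
    (C : Scheme.{u}) [C.Over (Spec (CommRingCat.of k))]
    [IsProper (C ↘ Spec (CommRingCat.of k))] [Smooth (C ↘ Spec (CommRingCat.of k))] [GeometricallyConnected (C ↘ Spec (CommRingCat.of k))]
    (hdim : topologicalKrullDim ↥C = 1)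
    (g : ℕ) (hg : Curv2.genus k C = g) (hg2 : 2 ≤ g)
    (σ : Spec (CommRingCat.of k) ⟶ C) (hσ : σ ≫ (C ↘ Spec (CommRingCat.of k)) = 𝟙 _)
    (J : Over (Spec (CommRingCat.of k))) [GrpObj J] [IsCommMonObj J]
    (ψ : (ModFun.PicDeg (C ↘ Spec (CommRingCat.of k)) 0).Hom ⊤ J) (hJ : Jac.IsJacobian (C ↘ Spec (CommRingCat.of k)) ⊤ J ψ)
    (j : Over.mk (C ↘ Spec (CommRingCat.of k)) ⟶ J) (hj : Jac.IsAbelJacobiAt (C ↘ Spec (CommRingCat.of k)) σ ψ j)
    (Kf : (PicF.XT (C ↘ Spec (CommRingCat.of k)) (𝟙_ (Over (Spec (CommRingCat.of k))))).Modules)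
    (hKf : Nonempty (Kf ≅ (Scheme.Modules.pullback (pullback.fst (C ↘ Spec (CommRingCat.of k)) (𝟙_ (Over (Spec (CommRingCat.of k)))).hom)).obj
      (CohB1.tensorMod (Omega.sheaf (C ↘ Spec (CommRingCat.of k))) (CohB1.tensorPow (ClSub.idealMod σ.ker) (2 * g - 2)))))
    (hT₁ : (⊤ : ObjectProperty (Over (Spec (CommRingCat.of k)))) (𝟙_ (Over (Spec (CommRingCat.of k))))) (hKok : (ModFun.PicDeg (C ↘ Spec (CommRingCat.of k)) 0).ok (𝟙_ (Over (Spec (CommRingCat.of k)))) Kf)
    (κ : (𝟙_ (Over (Spec (CommRingCat.of k)))) ⟶ J) (hκ : ψ.app (𝟙_ (Over (Spec (CommRingCat.of k)))) Kf hT₁ hKok = κ)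
    (r : ℕ) (hr : r ≤ g - 2) (a b x y : (𝟙_ (Over (Spec (CommRingCat.of k)))) ⟶ J)
    (hx : ∀ p, x.left.base p ∈ Set.range ((List.ofFn fun i : Fin 1 =>
        (Over.homMk (WidePullback.π (fun (_ : Fin 1) => (C ↘ Spec (CommRingCat.of k))) i)
          (WidePullback.π_arrow (fun (_ : Fin 1) => (C ↘ Spec (CommRingCat.of k))) i) : Over.mk (WidePullback.base fun (_ : Fin 1) => (C ↘ Spec (CommRingCat.of k))) ⟶ Over.mk (C ↘ Spec (CommRingCat.of k))) ≫ j).prod).left.base)
    (hy : ∀ p, y.left.base p ∈ Set.range ((List.ofFn fun i : Fin (g - 1 - r) =>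
        (Over.homMk (WidePullback.π (fun (_ : Fin (g - 1 - r)) => (C ↘ Spec (CommRingCat.of k))) i)
          (WidePullback.π_arrow (fun (_ : Fin (g - 1 - r)) => (C ↘ Spec (CommRingCat.of k))) i) : Over.mk (WidePullback.base fun (_ : Fin (g - 1 - r)) => (C ↘ Spec (CommRingCat.of k))) ⟶ Over.mk (C ↘ Spec (CommRingCat.of k))) ≫ j).prod).left.base)
    (hab : a * x = b * y)
    (hnot : ¬ (((Jac.transl J a).left.base '' Set.range ((List.ofFn fun i : Fin (r + 1) =>
        (Over.homMk (WidePullback.π (fun (_ : Fin (r + 1)) => (C ↘ Spec (CommRingCat.of k))) i)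
          (WidePullback.π_arrow (fun (_ : Fin (r + 1)) => (C ↘ Spec (CommRingCat.of k))) i) : Over.mk (WidePullback.base fun (_ : Fin (r + 1)) => (C ↘ Spec (CommRingCat.of k))) ⟶ Over.mk (C ↘ Spec (CommRingCat.of k))) ≫ j).prod).left.base) ⊆ ((Jac.transl J b).left.base '' Set.range ((List.ofFn fun i : Fin (g - 1) =>
        (Over.homMk (WidePullback.π (fun (_ : Fin (g - 1)) => (C ↘ Spec (CommRingCat.of k))) i)
          (WidePullback.π_arrow (fun (_ : Fin (g - 1)) => (C ↘ Spec (CommRingCat.of k))) i) : Over.mk (WidePullback.base fun (_ : Fin (g - 1)) => (C ↘ Spec (CommRingCat.of k))) ⟶ Over.mk (C ↘ Spec (CommRingCat.of k))) ≫ j).prod).left.base))) :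
    ((Jac.transl J a).left.base '' Set.range ((List.ofFn fun i : Fin (r + 1) =>
        (Over.homMk (WidePullback.π (fun (_ : Fin (r + 1)) => (C ↘ Spec (CommRingCat.of k))) i)
          (WidePullback.π_arrow (fun (_ : Fin (r + 1)) => (C ↘ Spec (CommRingCat.of k))) i) : Over.mk (WidePullback.base fun (_ : Fin (r + 1)) => (C ↘ Spec (CommRingCat.of k))) ⟶ Over.mk (C ↘ Spec (CommRingCat.of k))) ≫ j).prod).left.base) ∩ ((Jac.transl J b).left.base '' Set.range ((List.ofFn fun i : Fin (g - 1) =>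
        (Over.homMk (WidePullback.π (fun (_ : Fin (g - 1)) => (C ↘ Spec (CommRingCat.of k))) i)
          (WidePullback.π_arrow (fun (_ : Fin (g - 1)) => (C ↘ Spec (CommRingCat.of k))) i) : Over.mk (WidePullback.base fun (_ : Fin (g - 1)) => (C ↘ Spec (CommRingCat.of k))) ⟶ Over.mk (C ↘ Spec (CommRingCat.of k))) ≫ j).prod).left.base) =
      ((Jac.transl J (a * x)).left.base '' Set.range ((List.ofFn fun i : Fin r =>
        (Over.homMk (WidePullback.π (fun (_ : Fin r) => (C ↘ Spec (CommRingCat.of k))) i)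
          (WidePullback.π_arrow (fun (_ : Fin r) => (C ↘ Spec (CommRingCat.of k))) i) : Over.mk (WidePullback.base fun (_ : Fin r) => (C ↘ Spec (CommRingCat.of k))) ⟶ Over.mk (C ↘ Spec (CommRingCat.of k))) ≫ j).prod).left.base) ∪
      (((Jac.transl J a).left.base '' Set.range ((List.ofFn fun i : Fin (r + 1) =>
        (Over.homMk (WidePullback.π (fun (_ : Fin (r + 1)) => (C ↘ Spec (CommRingCat.of k))) i)
          (WidePullback.π_arrow (fun (_ : Fin (r + 1)) => (C ↘ Spec (CommRingCat.of k))) i) : Over.mk (WidePullback.base fun (_ : Fin (r + 1)) => (C ↘ Spec (CommRingCat.of k))) ⟶ Over.mk (C ↘ Spec (CommRingCat.of k))) ≫ j).prod).left.base) ∩ ((Jac.transl J κ).left.base '' (((𝟙 J)⁻¹).left.base '' ((Jac.transl J (y * a⁻¹)).left.base '' Set.range ((List.ofFn fun i : Fin (g - 2) =>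
        (Over.homMk (WidePullback.π (fun (_ : Fin (g - 2)) => (C ↘ Spec (CommRingCat.of k))) i)
          (WidePullback.π_arrow (fun (_ : Fin (g - 2)) => (C ↘ Spec (CommRingCat.of k))) i) : Over.mk (WidePullback.base fun (_ : Fin (g - 2)) => (C ↘ Spec (CommRingCat.of k))) ⟶ Over.mk (C ↘ Spec (CommRingCat.of k))) ≫ j).prod).left.base)))) := by
  obtain ⟨D⟩ := Groth.Agent.H25Torelli.exists_dict (σ := ⟨σ, hσ⟩) hdim ψ hJ j hj
  subst hκ
  exact D.inter_theta g hg hg2 _ (D.Φ_kappa g Kf hKf _ _) r hr a b x y hx hy hab hnot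

end Groth.Agent.S17822
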