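import Groth.Statements.S17823
import Groth.Agent.H25Torelli.StatementTools

set_option linter.style.haveILetI false
set_option maxHeartbeats 3200000
set_option backward.isDefEq.respectTransparency.types false

set_option autoImplicit false
universe u
open CategoryTheory CategoryTheory.Limits AlgebraicGeometry MonoidalCategory CartesianMonoidalCategory MonObj
open JacVar

namespace Groth.Agent.S17823

/-- Let k be an algebraically closed field, C a smooth proper connected curve of genus g ≥ 2 over k with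
a k-point P, (J, ψ) its Jacobian (a commutative group scheme over k, coarse moduli scheme on all
k-schemes for degree-0 line bundles modulo twisting from the base, group law induced by tensor
product) and j : C ⟶ J the Abel map with base point P. Write W^r ⊂ J for the image of the r-fold
product C ×_k ⋯ ×_k C under (x_1, …, x_r) ↦ j(x_1) ⋯ j(x_r) (the image of the r-th symmetric power;
W^0 is the origin), and W^r_a for its translate by a k-point a of J. Let κ be the k-point of J given
by ψ on Ω_{C/k} ⊗ I_P^{⊗(2g−2)}. If a is a k-point of J such that W^1 = j(C) is not contained in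
W^{g−1}_a, then there are k-points P_1, …, P_g of C, unique up to reordering, with j(P_1) ⋯ j(P_g) =
a·κ (the unique effective divisor D(a) of degree g whose class maps to a·κ), and W^1 · W^{g−1}_a
regarded as a divisor on C equals D(a): the pullback along j of the ideal of the reduced closed
subscheme W^{g−1}_a is the product of the ideals of the points P_i. -/
theorem result (k : Type u) [Field k] [IsAlgClosed k]
    (C : Scheme.{u}) [C.Over (Spec (CommRingCat.of k))]
    [IsProper (C ↘ Spec (CommRingCat.of k))] [Smooth (C ↘ Spec (CommRingCat.of k))] [GeometricallyConnected (C ↘ Spec (CommRingCat.of k))]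
    (hdim : topologicalKrullDim ↥C = 1)
    (g : ℕ) (hg : Curv2.genus k C = g) (hg2 : 2 ≤ g)
    (σ : Spec (CommRingCat.of k) ⟶ C) (hσ : σ ≫ (C ↘ Spec (CommRingCat.of k)) = 𝟙 _)
    (J : Over (Spec (CommRingCat.of k))) [GrpObj J] [IsCommMonObj J]
    (ψ : (ModFun.PicDeg (C ↘ Spec (CommRingCat.of k)) 0).Hom ⊤ J) (hJ : Jac.IsJacobian (C ↘ Spec (CommRingCat.of k)) ⊤ J ψ)
    (j : Over.mk (C ↘ Spec (CommRingCat.of k)) ⟶ J) (hj : Jac.IsAbelJacobiAt (C ↘ Spec (CommRingCat.of k)) σ ψ j)
    (Kf : (PicF.XT (C ↘ Spec (CommRingCat.of k)) (𝟙_ (Over (Spec (CommRingCat.of k))))).Modules)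
    (hKf : Nonempty (Kf ≅ (Scheme.Modules.pullback (pullback.fst (C ↘ Spec (CommRingCat.of k)) (𝟙_ (Over (Spec (CommRingCat.of k)))).hom)).obj
      (CohB1.tensorMod (Omega.sheaf (C ↘ Spec (CommRingCat.of k))) (CohB1.tensorPow (ClSub.idealMod σ.ker) (2 * g - 2)))))
    (hT₁ : (⊤ : ObjectProperty (Over (Spec (CommRingCat.of k)))) (𝟙_ (Over (Spec (CommRingCat.of k))))) (hKok : (ModFun.PicDeg (C ↘ Spec (CommRingCat.of k)) 0).ok (𝟙_ (Over (Spec (CommRingCat.of k)))) Kf)
    (κ : (𝟙_ (Over (Spec (CommRingCat.of k)))) ⟶ J) (hκ : ψ.app (𝟙_ (Over (Spec (CommRingCat.of k)))) Kf hT₁ hKok = κ)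
    (a : (𝟙_ (Over (Spec (CommRingCat.of k)))) ⟶ J) (ha : ¬ (Set.range ((List.ofFn fun i : Fin 1 =>
        (Over.homMk (WidePullback.π (fun (_ : Fin 1) => (C ↘ Spec (CommRingCat.of k))) i)
          (WidePullback.π_arrow (fun (_ : Fin 1) => (C ↘ Spec (CommRingCat.of k))) i) : Over.mk (WidePullback.base fun (_ : Fin 1) => (C ↘ Spec (CommRingCat.of k))) ⟶ Over.mk (C ↘ Spec (CommRingCat.of k))) ≫ j).prod).left.base ⊆ ((Jac.transl J a).left.base '' Set.range ((List.ofFn fun i : Fin (g - 1) =>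
        (Over.homMk (WidePullback.π (fun (_ : Fin (g - 1)) => (C ↘ Spec (CommRingCat.of k))) i)
          (WidePullback.π_arrow (fun (_ : Fin (g - 1)) => (C ↘ Spec (CommRingCat.of k))) i) : Over.mk (WidePullback.base fun (_ : Fin (g - 1)) => (C ↘ Spec (CommRingCat.of k))) ⟶ Over.mk (C ↘ Spec (CommRingCat.of k))) ≫ j).prod).left.base))) :
    ∃ (D : Fin g → (Spec (CommRingCat.of k) ⟶ C)) (hD : ∀ i, D i ≫ (C ↘ Spec (CommRingCat.of k)) = 𝟙 _),
      (List.ofFn fun i : Fin g => (Over.homMk (D i) (hD i) : (𝟙_ (Over (Spec (CommRingCat.of k)))) ⟶ Over.mk (C ↘ Spec (CommRingCat.of k))) ≫ j).prod = a * κ ∧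
      (∀ (D' : Fin g → (Spec (CommRingCat.of k) ⟶ C)) (hD' : ∀ i, D' i ≫ (C ↘ Spec (CommRingCat.of k)) = 𝟙 _),
        (List.ofFn fun i : Fin g => (Over.homMk (D' i) (hD' i) : (𝟙_ (Over (Spec (CommRingCat.of k)))) ⟶ Over.mk (C ↘ Spec (CommRingCat.of k))) ≫ j).prod = a * κ → ∃ e : Equiv.Perm (Fin g), ∀ i, D' i = D (e i)) ∧
      (Scheme.IdealSheafData.vanishingIdeal ⟨closure ((Jac.transl J a).left.base '' Set.range ((List.ofFn fun i : Fin (g - 1) =>
        (Over.homMk (WidePullback.π (fun (_ : Fin (g - 1)) => (C ↘ Spec (CommRingCat.of k))) i)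
          (WidePullback.π_arrow (fun (_ : Fin (g - 1)) => (C ↘ Spec (CommRingCat.of k))) i) : Over.mk (WidePullback.base fun (_ : Fin (g - 1)) => (C ↘ Spec (CommRingCat.of k))) ⟶ Over.mk (C ↘ Spec (CommRingCat.of k))) ≫ j).prod).left.base), isClosed_closure⟩).comap j.left =
        ∏ i : Fin g, (D i).ker := by
  classical
  obtain ⟨D⟩ := H25Torelli.exists_dict (σ := ⟨σ, hσ⟩) hdim ψ hJ j hj
  haveI := D.proper; haveI := D.comm
  let S := H25Torelli.sys (k := k) hdim
  let P := H25Torelli.ptCls hdim ⟨σ, hσ⟩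
  have hκΦ : D.Φ κ = S.K - (2 * g - 2) • P := by rw [← hκ]; exact D.Φ_kappa g Kf hKf hT₁ hKok
  set E := D.Φ (a * κ) + g • P with hE
  have hdeg : S.deg E = (g : ℤ) := by
    rw [hE, map_add, map_nsmul, show S.deg P = 1 from S.deg_pt ⟨σ, hσ⟩, show S.deg (D.Φ (a * κ)) = 0 from D.deg_eq _]
    simp
  have hgS : (S.g : ℤ) = g := congrArg Nat.cast hg
  have hle : 1 ≤ S.h E := by
    have := S.rr E
    rw [hdeg, hgS] at this
    omega
  have h1 : S.h E = 1 := by
    by_contra hne
    apply ha
    haveI := H25Jac.isSmoothProperCurve_of_connected (C ↘ Spec (CommRingCat.of k)) hdim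
    refine (H25Torelli.subset_iff (D.isClosed_W 1) (D.isClosed_transl a (D.isClosed_W _))).2 fun z hz => ?_
    obtain ⟨s, hs, hs'⟩ := (S.one_le_h_iff (n := 1) (by
      have := D.deg_combination z 1 1
      rwa [D.map_one, sub_zero] at this)).1 ((D.mem_W 1 z).1 hz)
    obtain ⟨x, rfl⟩ := Multiset.card_eq_one.1 hs
    simp only [H25Torelli.Sys.cl, Multiset.map_singleton, Multiset.sum_singleton, one_smul] at hs'
    rw [D.mem_W_transl, ← S.h_symm (by rw [D.deg_combination]; omega)]
    have hn : (2 * g - 2) • P + P = g • P + (g - 1) • P := by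
      rw [← succ_nsmul, ← add_nsmul]; exact congrArg (· • P) (by omega)
    have e : S.K - (D.Φ z - D.Φ a + (g - 1) • P) = E - S.pt x := by
      rw [hE, D.map_mul, hκΦ, hs',
        show (g - 1) • P = (2 * g - 2) • P + P - g • P by rw [hn]; abel]
      abel
    change 1 ≤ S.h (S.K - (D.Φ z - D.Φ a + (g - 1) • P))
    rw [e]
    have := (S.h_sub E x).2
    omega
  obtain ⟨w, hw, hw', hI⟩ := D.comap_thetaMinus hJ hj g hg (by omega) (a * κ) h1
  refine ⟨fun i => (w i).1, fun i => (w i).2, hw', fun D' hD' h' => ?_, ?_⟩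
  · let Dp : Fin g → H25Torelli.Pts k C := fun i => ⟨D' i, hD' i⟩
    have hΦ := D.Φ_prod g Dp
    change (List.ofFn fun i => (Dp i).hom ≫ j).prod = a * κ at h'
    rw [h'] at hΦ
    have hcl : S.cl (List.ofFn Dp : Multiset _) = E := by rw [hE, hΦ, sub_add_cancel]
    have hm := S.uniq _ _ (hcl.trans hw.symm) (by
      show S.h (S.cl _) = 1
      rw [hcl, h1])
    obtain ⟨e, he⟩ := H25Torelli.exists_perm_of_ofFn hm
    exact ⟨e, fun i => congrArg Subtype.val (he i)⟩
  · have hset : (Jac.transl J a).left.base '' H25Torelli.W j (g - 1) =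
        (Jac.transl J (a * κ)).left.base '' (((𝟙 J)⁻¹).left.base '' H25Torelli.W j (g - 1)) := by
      have hk := D.kappa_reflect g hg (by omega) κ hκΦ a⁻¹
      rw [_root_.inv_inv] at hk
      rw [← hk, ← Set.image_comp, ← Set.image_comp, ← Set.image_comp]
      have hmor : Jac.transl J a⁻¹ ≫ (𝟙 J)⁻¹ ≫ Jac.transl J κ = (𝟙 J)⁻¹ ≫ Jac.transl J (a * κ) := by
        rw [← Category.assoc, GrpObj.comp_inv, Category.comp_id]
        simp only [Jac.transl, MonObj.comp_mul, GrpObj.comp_inv, mul_inv_rev, _root_.inv_inv,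
          ← Category.assoc, toUnit_unique _ (toUnit J), Category.comp_id]
        ac_rfl
      refine congrArg (fun F : J.left → J.left => F '' H25Torelli.W j (g - 1)) (funext fun x => ?_)
      exact congrArg (fun F : J ⟶ J => F.left x) hmor
    refine Eq.trans ?_ hI
    congr 2
    exact TopologicalSpace.Closeds.ext (congrArg closure hset)

end Groth.Agent.S17823
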