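import Groth.Statements.S17824
import Groth.Agent.H25Jac.EffPoints
import Groth.Agent.H25Jac.CoarseAlbanese
import Groth.Agent.H25Jac.DegShift

set_option autoImplicit false
set_option linter.style.haveILetI false
set_option backward.isDefEq.respectTransparency false
set_option synthInstance.maxHeartbeats 200000
universe u
open CategoryTheory CategoryTheory.Limits AlgebraicGeometry
open JacVar
open MonoidalCategory CartesianMonoidalCategory MonObj

namespace Groth.Agent.S17824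

/-- Parts (a) and (b) over an algebraically closed field. Let C be a smooth proper connected curve of
genus g > 0 over an algebraically closed field k with a k-point P, and consider the 2g-fold fibre
power C ×_k ⋯ ×_k C, a k-rational point of which is a pair (D, D') of g-tuples of k-points (the
first g and the last g coordinates). (a) There is a nonempty open subset U of it such that for every
k-rational point (P_1, …, P_{2g}) of U and every invertible module M with M ⊗ I_{P_1} ⊗ ⋯ ⊗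
I_{P_{2g}} ≅ I_P^{⊗g}, i.e. M ≅ O(D + D' − gP), one has h⁰(C, M) = 1. (b) There is a nonempty open
subset V such that for every k-rational point of V and every invertible M with M ⊗ I_{P_{g+1}} ⊗ ⋯ ⊗
I_{P_{2g}} ⊗ I_P^{⊗g} ≅ I_{P_1} ⊗ ⋯ ⊗ I_{P_g}, i.e. M ≅ O(D' − D + gP), one has h⁰(C, M) = 1. (The
published lemma is phrased on C^(g) × C^(g), over the ground field, and for points with values in
every field containing it; this row takes k algebraically closed and k-points of the 2g-fold fibre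
power.) -/
theorem result (k : Type u) [Field k] [IsAlgClosed k]
    (C : Scheme.{u}) [C.Over (Spec (CommRingCat.of k))]
    [IsProper (C ↘ Spec (CommRingCat.of k))] [Smooth (C ↘ Spec (CommRingCat.of k))] [GeometricallyConnected (C ↘ Spec (CommRingCat.of k))]
    (hdim : topologicalKrullDim ↥C = 1)
    (g : ℕ) (hg : Curv2.genus k C = g) (hg1 : 1 ≤ g)
    (σ : Spec (CommRingCat.of k) ⟶ C) (hσ : σ ≫ (C ↘ Spec (CommRingCat.of k)) = 𝟙 _) :
    (∃ U : (SymProd.fibPow (C ↘ Spec (CommRingCat.of k)) (2 * g)).Opens, (U : Set ↥(SymProd.fibPow (C ↘ Spec (CommRingCat.of k)) (2 * g))).Nonempty ∧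
      ∀ (x : Spec (CommRingCat.of k) ⟶ SymProd.fibPow (C ↘ Spec (CommRingCat.of k)) (2 * g))
        (hx : x ≫ WidePullback.base (fun (_ : Fin (2 * g)) => (C ↘ Spec (CommRingCat.of k))) = 𝟙 _)
        (hxU : ∀ p, x.base p ∈ U) (M : C.Modules) (hM : PicF.IsInvertible M)
        (hMD : Nonempty (CohB1.tensorMod M (FGA.tensorList (List.ofFn fun i : Fin (2 * g) => ClSub.idealMod (x ≫ WidePullback.π (fun (_ : Fin (2 * g)) => (C ↘ Spec (CommRingCat.of k))) i).ker)) ≅
          CohB1.tensorPow (ClSub.idealMod σ.ker) g)),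
        Module.finrank k (Coh.HH C M 0) = 1) ∧
    (∃ V : (SymProd.fibPow (C ↘ Spec (CommRingCat.of k)) (2 * g)).Opens, (V : Set ↥(SymProd.fibPow (C ↘ Spec (CommRingCat.of k)) (2 * g))).Nonempty ∧
      ∀ (x : Spec (CommRingCat.of k) ⟶ SymProd.fibPow (C ↘ Spec (CommRingCat.of k)) (2 * g))
        (hx : x ≫ WidePullback.base (fun (_ : Fin (2 * g)) => (C ↘ Spec (CommRingCat.of k))) = 𝟙 _)
        (hxV : ∀ p, x.base p ∈ V) (M : C.Modules) (hM : PicF.IsInvertible M)
        (hMD : Nonempty (CohB1.tensorMod M (CohB1.tensorMod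
            (FGA.tensorList (List.ofFn fun i : Fin g => ClSub.idealMod (x ≫ WidePullback.π (fun (_ : Fin (2 * g)) => (C ↘ Spec (CommRingCat.of k))) (Fin.cast (two_mul g).symm (Fin.natAdd g i))).ker))
            (CohB1.tensorPow (ClSub.idealMod σ.ker) g)) ≅
          FGA.tensorList (List.ofFn fun i : Fin g => ClSub.idealMod (x ≫ WidePullback.π (fun (_ : Fin (2 * g)) => (C ↘ Spec (CommRingCat.of k))) (Fin.cast (two_mul g).symm (Fin.castAdd g i))).ker))),
        Module.finrank k (Coh.HH C M 0) = 1) := by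
  classical
  have key1 : ∀ {G : Type (u + 1)} [CommGroup G] (a b c : G), c * (a * b)⁻¹ = a⁻¹ * c * (b⁻¹ * c) * c⁻¹ :=
    fun a b c => by rw [_root_.mul_assoc (a⁻¹ * c), mul_inv_cancel_right, mul_inv, _root_.mul_comm c (a⁻¹ * b⁻¹), _root_.mul_right_comm]
  have key2 : ∀ {G : Type (u + 1)} [CommGroup G] (a b c : G), a * (b * c)⁻¹ = b⁻¹ * c * (a⁻¹ * c)⁻¹ * c⁻¹ :=
    fun a b c => by simp [mul_comm, mul_left_comm, _root_.mul_assoc]
  let f := C ↘ Spec (CommRingCat.of k)
  obtain ⟨hX, hrel⟩ := H25Jac.isSmoothProperCurve_of_connected f hdim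
  haveI := hrel
  obtain ⟨J, hgrp, hc, hp, hs, hi, ⟨D⟩⟩ := H25Jac.exists_jData (σ := σ) (hσ := hσ) hX
  haveI := hc; haveI := hp; haveI := hs; haveI := hi
  obtain ⟨aj, haj⟩ := D.exists_abel
  obtain ⟨gn, H, φ, ΦH, G, V, hv, hgn, hHs, hHp, hsurj, -, -, -, hΦ, hGne, hVH, hVr, hVo, hVΦ, hgood⟩ :=
    H25Jac.exists_birational hX D haj
  haveI := hsurj
  obtain rfl : gn = g := hgn.trans hg
  let W := H27SymProd.powOver f gn
  let W2 := H27SymProd.powOver f (2 * gn)
  let i1 : Fin gn → Fin (2 * gn) := fun i => Fin.cast (two_mul gn).symm (Fin.castAdd gn i)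
  let i2 : Fin gn → Fin (2 * gn) := fun i => Fin.cast (two_mul gn).symm (Fin.natAdd gn i)
  let A1 : W2 ⟶ J := ∏ i, H25Jac.coord f (2 * gn) (i1 i) ≫ aj
  let A2 : W2 ⟶ J := ∏ i, H25Jac.coord f (2 * gn) (i2 i) ≫ aj
  let cT := H25Jac.constPt f hσ
  let t : ∀ (p q : Fin gn → (W ⟶ Over.mk f)), W ⟶ W2 := fun p q =>
    Over.homMk (WidePullback.lift W.hom (fun i => (Fin.append p q (Fin.cast (two_mul gn) i)).left)
      fun i => Over.w (Fin.append p q (Fin.cast (two_mul gn) i))) (WidePullback.lift_base _ _ _ _)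
  have htc : ∀ p q i, t p q ≫ H25Jac.coord f (2 * gn) i = Fin.append p q (Fin.cast (two_mul gn) i) := fun p q i =>
    Over.OverMorphism.ext (WidePullback.lift_π _ _ _ _ i)
  have ht1 : ∀ p q i, t p q ≫ H25Jac.coord f (2 * gn) (i1 i) = p i := fun p q i => by
    rw [htc]; exact Fin.append_left p q i
  have ht2 : ∀ p q i, t p q ≫ H25Jac.coord f (2 * gn) (i2 i) = q i := fun p q i => by
    rw [htc]; exact Fin.append_right p q i
  have hV1 : ∃ w, (φ ≫ ΦH).left w ∈ V := by
    obtain ⟨z, hz⟩ := hGne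
    rw [← hVr] at hz
    obtain ⟨v, -⟩ := hz
    obtain ⟨w, hw⟩ := φ.left.surjective (hv v)
    refine ⟨w, ?_⟩
    rw [Over.comp_left, Scheme.Hom.comp_apply, hw, ← Scheme.Hom.comp_apply, hVΦ]
    exact v.2
  have hne : ∀ (A : W2 ⟶ J) (s : W ⟶ W2), s ≫ A = φ ≫ ΦH → ∃ z, A.left z ∈ V := fun A s hs => by
    obtain ⟨w, hw⟩ := hV1
    rw [← hs] at hw
    exact ⟨s.left w, hw⟩
  have hcj : ∀ T : Over (Spec (CommRingCat.of k)), cT T ≫ aj = 1 := fun T => H25Jac.constPt_comp_abel haj T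
  have hsplit : ∀ {K : Type (u + 1)} [CommMonoid K] (F : Fin (2 * gn) → K),
      ∏ i, F i = (∏ i, F (i1 i)) * ∏ i, F (i2 i) := fun F => by
    rw [← Fin.prod_congr' F (two_mul gn).symm, Fin.prod_univ_add]
  let T1 := 𝟙_ (Over (Spec (CommRingCat.of k)))
  let c := H25Jac.secU f (cT T1)
  have hcI : ∀ hI, H25Theta.pullU (H25Jac.fst₁ f) (H25Jac.idU σ.ker hI) = c := fun hI => by
    have e : σ.ker = (cT T1).left.ker := congrArg Scheme.Hom.ker (Category.id_comp σ).symm
    rw [H25Jac.idU_congr e hI (e ▸ hI)]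
    exact H25Jac.pullU_idU_point (cT T1) _
  have hsecI : ∀ (b : T1 ⟶ Over.mk f), BlowUp.IsEffCartierIdeal b.left.ker := fun b =>
    H12Pic.CurveFam.isEffCartierIdeal_section f b.left (Over.w b)
  have hIσ := H29Blow.isInvertible_of_isEffCartierIdeal _ (H12Pic.CurveFam.isEffCartierIdeal_section f σ hσ)
  have hpow := H11Ample.isInvertible_tensorPow hIσ gn
  have hpowu : H25Theta.pullU (H25Jac.fst₁ f) (H25Theta.unitCls hpow) = c ^ gn := by
    rw [H25Jac.unitCls_tensorPow hIσ, map_pow]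
    exact congrArg (· ^ gn) (hcI (H12Pic.CurveFam.isEffCartierIdeal_section f σ hσ))
  have hlist : ∀ {n : ℕ} (b : Fin n → (T1 ⟶ Over.mk f)),
      ∃ hl : PicF.IsInvertible (Y := C) (FGA.tensorList (Y := C) (List.ofFn fun i => ClSub.idealMod (b i).left.ker)),
        H25Theta.pullU (H25Jac.fst₁ f) (H25Theta.unitCls hl) = ∏ i, H25Jac.secU f (b i) := fun b => by
    have hM := fun i => H29Blow.isInvertible_of_isEffCartierIdeal _ (hsecI (b i))
    refine ⟨H28Vert.isInvertible_list _ fun A hA => ?_, ?_⟩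
    · rw [List.mem_ofFn] at hA
      obtain ⟨i, rfl⟩ := hA
      exact hM i
    · rw [H25Jac.unitCls_tensorList_ofFn _ hM, map_prod]
      exact Finset.prod_congr rfl fun i _ => H25Jac.pullU_idU_point (b i) (hsecI (b i))
  refine ⟨⟨(A1 * A2).left ⁻¹ᵁ V, ?_, fun x hx hxU M hM hMD => ?_⟩,
    ⟨(A2 * A1⁻¹).left ⁻¹ᵁ V, ?_, fun x hx hxV M hM hMD => ?_⟩⟩
  · refine hne _ (t (fun i => H25Jac.coord f gn i) fun _ => cT W) ?_
    simp only [A1, A2, MonObj.comp_mul, H25Jac.comp_prod, ← Category.assoc, ht1, ht2, hcj, Finset.prod_const_one,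
      _root_.mul_one, hΦ]
  · let pt : T1 ⟶ W2 := Over.homMk x hx
    let b : Fin (2 * gn) → (T1 ⟶ Over.mk f) := fun i => pt ≫ H25Jac.coord f (2 * gn) i
    obtain ⟨hl, hlu⟩ := hlist b
    have hu : H25Theta.unitCls hM * H25Theta.unitCls hl = H25Theta.unitCls hpow :=
      Units.ext (Quot.sound ⟨hMD.some⟩)
    have hu' := congrArg (H25Theta.pullU (H25Jac.fst₁ f)) hu
    rw [map_mul, hlu, hpowu, hsplit, ← eq_mul_inv_iff_mul_eq] at hu'
    refine H25Jac.h0_eq_one_of_good hgood (pt ≫ (A1 * A2)) (fun p => hxU p) hM ?_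
    rw [hu', H25Jac.rho_point, MonObj.comp_mul, D.xU_mul]
    simp only [A1, A2, H25Jac.comp_prod, ← Category.assoc]
    rw [H25Jac.xU_prod_point D haj, H25Jac.xU_prod_point D haj]
    exact key1 _ _ _
  · refine hne _ (t (fun _ => cT W) fun i => H25Jac.coord f gn i) ?_
    simp only [A1, A2, MonObj.comp_mul, GrpObj.comp_inv, H25Jac.comp_prod, ← Category.assoc, ht1, ht2, hcj,
      Finset.prod_const_one, inv_one, _root_.mul_one, hΦ]
  · let pt : T1 ⟶ W2 := Over.homMk x hx
    obtain ⟨hl1, hlu1⟩ := hlist fun i => pt ≫ H25Jac.coord f (2 * gn) (i1 i)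
    obtain ⟨hl2, hlu2⟩ := hlist fun i => pt ≫ H25Jac.coord f (2 * gn) (i2 i)
    have hu : H25Theta.unitCls hM * (H25Theta.unitCls hl2 * H25Theta.unitCls hpow) = H25Theta.unitCls hl1 :=
      Units.ext (Quot.sound ⟨hMD.some⟩)
    have hu' := congrArg (H25Theta.pullU (H25Jac.fst₁ f)) hu
    rw [map_mul, map_mul, hlu1, hlu2, hpowu, ← eq_mul_inv_iff_mul_eq] at hu'
    refine H25Jac.h0_eq_one_of_good hgood (pt ≫ (A2 * A1⁻¹)) (fun p => hxV p) hM ?_
    rw [hu', H25Jac.rho_point, MonObj.comp_mul, D.xU_mul, GrpObj.comp_inv,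
      show D.xU (pt ≫ A1)⁻¹ = (D.xU (pt ≫ A1))⁻¹ from map_inv (D.xHom _) _]
    simp only [A1, A2, H25Jac.comp_prod, ← Category.assoc]
    rw [H25Jac.xU_prod_point D haj, H25Jac.xU_prod_point D haj]
    exact key2 _ _ _

end Groth.Agent.S17824
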